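import Mathlib

/-!
# Acyclic resolutions: exactness of `Hom(P_•, F)` in positive degrees

`P_• → M` a resolution in an abelian category with `Ext^p(P_n, F) = 0` and `Ext^p(M, F) = 0` for all
`p > 0`.  Then every cocycle `P_{q+1} → F` is a coboundary (dimension shifting along the cokernels
`W_n = coker(P_{n+1} → P_n)`).
-/

namespace Groth.Agent.Helper9.AcycRes

open CategoryTheory Limits Abelian

universe w v u

variable {𝒜 : Type u} [Category.{v} 𝒜] [Abelian 𝒜] [HasExt.{w} 𝒜] (F : 𝒜) (P : ChainComplex 𝒜 ℕ)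

/-- `W_n = coker (P_{n+1} → P_n)` -/
noncomputable abbrev W (n : ℕ) : 𝒜 := cokernel (P.d (n + 1) n)

/-- `W_{n+1} → P_n` -/
noncomputable abbrev ι (n : ℕ) : W P (n + 1) ⟶ P.X n :=
  cokernel.desc (P.d (n + 2) (n + 1)) (P.d (n + 1) n) (P.d_comp_d _ _ _)

/-- the short complex `W_{n+1} → P_n → W_n` -/
noncomputable def sc (n : ℕ) : ShortComplex 𝒜 :=
  ShortComplex.mk (ι P n) (cokernel.π (P.d (n + 1) n)) (by
    rw [← cancel_epi (cokernel.π (P.d (n + 2) (n + 1))), cokernel.π_desc_assoc,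
      cokernel.condition, comp_zero])

lemma sc_shortExact (n : ℕ) (h : (P.sc' (n + 2) (n + 1) n).Exact) : (sc P n).ShortExact := by
  have hm : Mono (ι P n) := (ShortComplex.exact_iff_mono_cokernel_desc _).1 h
  have he : (sc P n).Exact := by
    let S₁ : ShortComplex 𝒜 := ShortComplex.mk (P.d (n + 1) n) (cokernel.π (P.d (n + 1) n))
      (cokernel.condition _)
    have h₁ : S₁.Exact := ShortComplex.exact_of_g_is_cokernel _ (cokernelIsCokernel _)
    let φ : S₁ ⟶ sc P n :=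
      { τ₁ := cokernel.π (P.d (n + 2) (n + 1))
        τ₂ := 𝟙 (P.X n)
        τ₃ := 𝟙 (W P n)
        comm₁₂ := (cokernel.π_desc _ _ _).trans (Category.comp_id _).symm
        comm₂₃ := (Category.id_comp _).trans (Category.comp_id _).symm }
    haveI : Epi φ.τ₁ := inferInstanceAs (Epi (cokernel.π (P.d (n + 2) (n + 1))))
    haveI : IsIso φ.τ₂ := inferInstanceAs (IsIso (𝟙 (P.X n)))
    haveI : Mono φ.τ₃ := inferInstanceAs (Mono (𝟙 (W P n)))
    exact (ShortComplex.exact_iff_of_epi_of_isIso_of_mono φ).1 h₁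
  exact { exact := he, mono_f := hm, epi_g := by dsimp [sc]; infer_instance }

variable (hP : ∀ n, (P.sc' (n + 2) (n + 1) n).Exact)
  (hacyc : ∀ n p, Subsingleton (Ext.{w} (P.X n) F (p + 1)))
  (h0 : ∀ p, Subsingleton (Ext.{w} (W P 0) F (p + 1)))

include hP hacyc h0 in
lemma subsingleton_ext_W (n : ℕ) : ∀ p, Subsingleton (Ext.{w} (W P n) F (p + 1)) := by
  induction n with
  | zero => exact h0
  | succ n ih =>
    intro p
    refine subsingleton_of_forall_eq 0 (fun x => ?_)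
    have hS := sc_shortExact P n (hP n)
    have h2 := ih (p + 1)
    have h1 := hacyc n p
    obtain ⟨x₂, hx₂⟩ := Ext.contravariant_sequence_exact₁ hS F
      (x : Ext.{w} (sc P n).X₁ F (p + 1)) (add_comm 1 (p + 1))
      (Subsingleton.elim (α := Ext.{w} (W P n) F (p + 1 + 1)) _ _)
    have hx₂0 : x₂ = 0 := Subsingleton.elim (α := Ext.{w} (P.X n) F (p + 1)) _ _
    rw [← hx₂, hx₂0, Ext.comp_zero]
    rfl

include hP hacyc h0 in
/-- every cocycle of `Hom(P_•, F)` in positive degree is a coboundary -/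
theorem exists_of_cocycle (q : ℕ) (φ : P.X (q + 1) ⟶ F) (hφ : P.d (q + 2) (q + 1) ≫ φ = 0) :
    ∃ χ : P.X q ⟶ F, P.d (q + 1) q ≫ χ = φ := by
  let ψ : W P (q + 1) ⟶ F := cokernel.desc _ φ hφ
  have hS := sc_shortExact P q (hP q)
  have h1 := subsingleton_ext_W F P hP hacyc h0 q 0
  obtain ⟨x₂, hx₂⟩ := Ext.contravariant_sequence_exact₁ hS F
    (Ext.mk₀ ψ : Ext.{w} (sc P q).X₁ F 0) (add_comm 1 0)
    (Subsingleton.elim (α := Ext.{w} (W P q) F (0 + 1)) _ _)
  obtain ⟨χ', rfl⟩ := (Ext.mk₀_bijective _ _).2 x₂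
  let χ : P.X q ⟶ F := χ'
  refine ⟨χ, ?_⟩
  have h3 : (ι P q) ≫ χ = ψ := by
    apply (Ext.mk₀_bijective _ _).1
    exact (Ext.mk₀_comp_mk₀ _ _).symm.trans hx₂
  have h4 : P.d (q + 1) q = cokernel.π (P.d (q + 2) (q + 1)) ≫ ι P q :=
    (cokernel.π_desc _ _ _).symm
  rw [h4]
  exact (Category.assoc _ _ _).trans
    ((congrArg (fun t => cokernel.π (P.d (q + 2) (q + 1)) ≫ t) h3).trans (cokernel.π_desc _ _ _))

end Groth.Agent.Helper9.AcycRes
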