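import Mathlib

/-!
# Elements of the Čech nerve of a morphism of sheaves of sets, and the extra degeneracy

For `f : K' ⟶ K` in `Sheaf J (Type u)` and `U : C`, sections over `U` of the wide pullback
`K' ×_K ⋯ ×_K K'` are tuples of sections of `K'` with a common image in `K`.  We construct the
(non-natural) sectionwise contracting homotopy `h (x₀,…,xₙ) = (σ(b), x₀, …, xₙ)`.
-/

namespace Groth.Agent.Helper9.CechNerveSet

open CategoryTheory Limits Opposite

universe u

variable {C : Type u} [SmallCategory C] {J : GrothendieckTopology C} {K' K : Sheaf J (Type u)}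
  (f : K' ⟶ K)

/-- evaluation of sheaves of sets at `U` -/
abbrev ev (J : GrothendieckTopology C) (U : C) : Sheaf J (Type u) ⥤ Type u :=
  sheafToPresheaf J (Type u) ⋙ (evaluation Cᵒᵖ (Type u)).obj (op U)

/-- the wide pullback `K' ×_K ⋯ ×_K K'` (`n+1` factors) -/
noncomputable abbrev WP (n : ℕ) : Sheaf J (Type u) :=
  widePullback.{0} K (fun _ : Fin (n + 1) => K') (fun _ => f)

variable {f} {n : ℕ} {U : C}

/-- the image in `K(U)` -/
noncomputable def bs (x : (WP f n).obj.obj (op U)) : K.obj.obj (op U) :=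
  (WidePullback.base (fun _ : Fin (n + 1) => f)).hom.app (op U) x

/-- the components in `K'(U)` -/
noncomputable def pr (i : Fin (n + 1)) (x : (WP f n).obj.obj (op U)) : K'.obj.obj (op U) :=
  (WidePullback.π (fun _ : Fin (n + 1) => f) i).hom.app (op U) x

lemma f_pr (i : Fin (n + 1)) (x : (WP f n).obj.obj (op U)) :
    f.hom.app (op U) (pr i x) = bs x := by
  have h := WidePullback.π_arrow (fun _ : Fin (n + 1) => f) i
  have h' := congrArg (fun g => g.hom.app (op U) x) h
  exact h'

/-- the limit cone in types -/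
noncomputable def isLim (f : K' ⟶ K) (n : ℕ) (U : C) :
    IsLimit ((ev J U).mapCone (limit.cone
      (WidePullbackShape.wideCospan K (fun _ : Fin (n + 1) => K') (fun _ => f)))) :=
  isLimitOfPreserves (ev J U) (limit.isLimit _)

lemma wp_ext {x y : (WP f n).obj.obj (op U)} (hb : bs x = bs y) (hp : ∀ i, pr i x = pr i y) :
    x = y := by
  have h := (Types.isLimit_iff _).1 ⟨isLim f n U⟩
    (fun j => ((ev J U).mapCone (limit.cone
      (WidePullbackShape.wideCospan K (fun _ : Fin (n + 1) => K') (fun _ => f)))).π.app j y)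
    (by
      intro j j' g
      have h := ConcreteCategory.congr_hom (((ev J U).mapCone (limit.cone
        (WidePullbackShape.wideCospan K (fun _ : Fin (n + 1) => K') (fun _ => f)))).w g) y
      rw [ConcreteCategory.comp_apply] at h
      exact h)
  obtain ⟨z, _, hz⟩ := h
  rw [hz y (fun _ => rfl)]
  apply hz
  rintro (_ | i)
  · exact hb
  · exact hp i

lemma wp_exists (b : K.obj.obj (op U)) (a : Fin (n + 1) → K'.obj.obj (op U))
    (ha : ∀ i, f.hom.app (op U) (a i) = b) :
    ∃ x : (WP f n).obj.obj (op U), bs x = b ∧ ∀ i, pr i x = a i := by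
  have h := (Types.isLimit_iff _).1 ⟨isLim f n U⟩
    (fun j => match j with
      | none => b
      | some i => a i)
    (by
      rintro j j' (_ | i)
      · change ((WidePullbackShape.wideCospan K (fun _ : Fin (n + 1) => K') (fun _ => f)) ⋙
          ev J U).map (𝟙 j) _ = _
        rw [CategoryTheory.Functor.map_id]
        rfl
      · exact ha i)
  obtain ⟨z, hz, _⟩ := h
  exact ⟨z, hz none, fun i => hz (some i)⟩

variable (f) in
/-- the face maps of the Čech nerve -/
noncomputable def face (n : ℕ) (i : Fin (n + 2)) : WP f (n + 1) ⟶ WP f n :=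
  WidePullback.lift (WidePullback.base _) (fun k => WidePullback.π _ (i.succAbove k)) (by simp)

/-- the face maps on sections -/
noncomputable def dl (i : Fin (n + 2)) (x : (WP f (n + 1)).obj.obj (op U)) :
    (WP f n).obj.obj (op U) :=
  (face f n i).hom.app (op U) x

lemma bs_dl (i : Fin (n + 2)) (x : (WP f (n + 1)).obj.obj (op U)) : bs (dl i x) = bs x := by
  have h : face f n i ≫ WidePullback.base (fun _ : Fin (n + 1) => f) = WidePullback.base _ :=
    WidePullback.lift_base _ _ _ _
  exact congrArg (fun g => g.hom.app (op U) x) h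

lemma pr_dl (i : Fin (n + 2)) (k : Fin (n + 1)) (x : (WP f (n + 1)).obj.obj (op U)) :
    pr k (dl i x) = pr (i.succAbove k) x := by
  have h : face f n i ≫ WidePullback.π (fun _ : Fin (n + 1) => f) k =
      WidePullback.π _ (i.succAbove k) :=
    WidePullback.lift_π _ _ _ _ _
  exact congrArg (fun g => g.hom.app (op U) x) h

/-- a chosen preimage -/
noncomputable def τ (b : K.obj.obj (op U)) (hb : ∃ a : K'.obj.obj (op U), f.hom.app (op U) a = b) :
    K'.obj.obj (op U) := hb.choose

lemma f_τ (b : K.obj.obj (op U)) (hb : ∃ a : K'.obj.obj (op U), f.hom.app (op U) a = b) :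
    f.hom.app (op U) (τ b hb) = b := hb.choose_spec

lemma τ_congr {b b' : K.obj.obj (op U)} (h : b = b')
    (hb : ∃ a : K'.obj.obj (op U), f.hom.app (op U) a = b)
    (hb' : ∃ a : K'.obj.obj (op U), f.hom.app (op U) a = b') : τ b hb = τ b' hb' := by
  subst h
  rfl

lemma exists_of_wp (x : (WP f n).obj.obj (op U)) :
    ∃ a : K'.obj.obj (op U), f.hom.app (op U) a = bs x := ⟨pr 0 x, f_pr 0 x⟩

lemma hmk_aux (x : (WP f n).obj.obj (op U)) :
    ∃ y : (WP f (n + 1)).obj.obj (op U), bs y = bs x ∧
      ∀ i, pr i y = (Fin.cons (τ (bs x) (exists_of_wp x)) (fun k => pr k x) :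
        Fin (n + 2) → K'.obj.obj (op U)) i :=
  wp_exists (bs x) _ (by
    intro i
    refine Fin.cases ?_ (fun k => ?_) i
    · rw [Fin.cons_zero]; exact f_τ _ _
    · rw [Fin.cons_succ]; exact f_pr k x)

/-- the extra degeneracy on sections -/
noncomputable def hmk (x : (WP f n).obj.obj (op U)) : (WP f (n + 1)).obj.obj (op U) :=
  (hmk_aux x).choose

lemma bs_hmk (x : (WP f n).obj.obj (op U)) : bs (hmk x) = bs x := (hmk_aux x).choose_spec.1

lemma pr_zero_hmk (x : (WP f n).obj.obj (op U)) : pr 0 (hmk x) = τ (bs x) (exists_of_wp x) := by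
  have h := (hmk_aux x).choose_spec.2 0
  rwa [Fin.cons_zero] at h

lemma pr_succ_hmk (k : Fin (n + 1)) (x : (WP f n).obj.obj (op U)) :
    pr k.succ (hmk x) = pr k x := by
  have h := (hmk_aux x).choose_spec.2 k.succ
  rwa [Fin.cons_succ] at h

lemma dl_zero_hmk (x : (WP f n).obj.obj (op U)) : dl 0 (hmk x) = x := by
  apply wp_ext
  · rw [bs_dl, bs_hmk]
  · intro k
    rw [pr_dl, Fin.succAbove_zero, pr_succ_hmk]

lemma dl_succ_hmk (i : Fin (n + 2)) (x : (WP f (n + 1)).obj.obj (op U)) :
    dl i.succ (hmk x) = hmk (dl i x) := by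
  apply wp_ext
  · rw [bs_dl, bs_hmk, bs_hmk, bs_dl]
  · intro k
    refine Fin.cases ?_ (fun k' => ?_) k
    · rw [pr_dl, Fin.succ_succAbove_zero, pr_zero_hmk, pr_zero_hmk]
      exact τ_congr (bs_dl i x).symm _ _
    · rw [pr_dl, Fin.succ_succAbove_succ, pr_succ_hmk, pr_succ_hmk, pr_dl]

/-- the section of `K'₀(U) → K(U)` on the image -/
lemma s0_aux (b : K.obj.obj (op U)) (hb : ∃ a : K'.obj.obj (op U), f.hom.app (op U) a = b) :
    ∃ y : (WP f 0).obj.obj (op U), bs y = b ∧ ∀ i, pr i y = τ b hb :=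
  wp_exists b (fun _ => τ b hb) (fun _ => f_τ b hb)

noncomputable def s0 (b : K.obj.obj (op U))
    (hb : ∃ a : K'.obj.obj (op U), f.hom.app (op U) a = b) : (WP f 0).obj.obj (op U) :=
  (s0_aux b hb).choose

lemma bs_s0 (b : K.obj.obj (op U)) (hb : ∃ a : K'.obj.obj (op U), f.hom.app (op U) a = b) :
    bs (s0 b hb) = b := (s0_aux b hb).choose_spec.1

lemma pr_s0 (b : K.obj.obj (op U)) (hb : ∃ a : K'.obj.obj (op U), f.hom.app (op U) a = b)
    (i : Fin 1) : pr i (s0 b hb) = τ b hb := (s0_aux b hb).choose_spec.2 i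

lemma dl_one_hmk (x : (WP f 0).obj.obj (op U)) :
    dl 1 (hmk x) = s0 (bs x) (exists_of_wp x) := by
  apply wp_ext
  · rw [bs_dl, bs_hmk, bs_s0]
  · intro k
    obtain rfl : k = 0 := Fin.fin_one_eq_zero k
    rw [pr_dl, pr_s0]
    exact pr_zero_hmk x

end Groth.Agent.Helper9.CechNerveSet
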