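import Mathlib
import Groth.Agent.Helper9.CechNerveSet
import Groth.Agent.Helper1.CechBasic

/-!
# The free Čech nerve of an epimorphism of sheaves of sets is a resolution
-/

namespace Groth.Agent.Helper9.CechNerveRes

open CategoryTheory Limits Opposite Groth.Agent.Helper9.CechNerveSet

universe u

variable {C : Type u} [SmallCategory C] (J : GrothendieckTopology C) {K' K : Sheaf J (Type u)}
  (f : K' ⟶ K)

/-- free abelian presheaf on a sheaf of sets -/
noncomputable abbrev Ψ : Sheaf J (Type u) ⥤ (Cᵒᵖ ⥤ AddCommGrpCat.{u}) :=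
  sheafToPresheaf J (Type u) ⋙ (Functor.whiskeringRight _ _ _).obj AddCommGrpCat.free.{u}

variable {J}

/-- the Čech nerve -/
noncomputable abbrev N : SimplicialObject (Sheaf J (Type u)) := (Arrow.mk f).cechNerve

lemma N_δ (n : ℕ) (i : Fin (n + 2)) : (N f).δ i = face f n i := rfl

/-- the presheaf-level complex -/
noncomputable abbrev Pc : ChainComplex (Cᵒᵖ ⥤ AddCommGrpCat.{u}) ℕ :=
  (AlgebraicTopology.alternatingFaceMapComplex _).obj
    (((SimplicialObject.whiskering _ _).obj (Ψ J)).obj (N f))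

lemma Pc_d_app (n : ℕ) (U : C) :
    ((Pc f).d (n + 1) n).app (op U) =
      ∑ i : Fin (n + 2), (-1 : ℤ) ^ (i : ℕ) •
        AddCommGrpCat.free.map ((face f n i).hom.app (op U)) := by
  rw [AlgebraicTopology.alternatingFaceMapComplex_obj_d]
  unfold AlgebraicTopology.AlternatingFaceMapComplex.objD
  rw [NatTrans.app_sum]
  refine Finset.sum_congr rfl (fun i _ => ?_)
  rw [NatTrans.app_zsmul]
  rfl

/-- the extra degeneracy on free abelian groups of sections -/
noncomputable def H (n : ℕ) (U : C) :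
    AddCommGrpCat.free.obj ((WP f n).obj.obj (op U)) ⟶
      AddCommGrpCat.free.obj ((WP f (n + 1)).obj.obj (op U)) :=
  AddCommGrpCat.free.map (TypeCat.ofHom hmk)

lemma hmk_face_zero (n : ℕ) (U : C) :
    (TypeCat.ofHom hmk : (WP f n).obj.obj (op U) ⟶ (WP f (n + 1)).obj.obj (op U)) ≫
      (face f n 0).hom.app (op U) = 𝟙 _ := by
  ext x
  exact dl_zero_hmk x

lemma hmk_face_succ (n : ℕ) (U : C) (i : Fin (n + 2)) :
    (TypeCat.ofHom hmk : (WP f (n + 1)).obj.obj (op U) ⟶ (WP f (n + 2)).obj.obj (op U)) ≫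
      (face f (n + 1) i.succ).hom.app (op U) =
    (face f n i).hom.app (op U) ≫ TypeCat.ofHom hmk := by
  ext x
  exact dl_succ_hmk i x

/-- the differential on sections, with explicit source and target -/
noncomputable def D (n : ℕ) (U : C) :
    AddCommGrpCat.free.obj ((WP f (n + 1)).obj.obj (op U)) ⟶
      AddCommGrpCat.free.obj ((WP f n).obj.obj (op U)) :=
  ((Pc f).d (n + 1) n).app (op U)

lemma D_eq (n : ℕ) (U : C) :
    D f n U = ∑ i : Fin (n + 2), (-1 : ℤ) ^ (i : ℕ) •
        AddCommGrpCat.free.map ((face f n i).hom.app (op U)) := Pc_d_app f n U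

lemma homotopy_succ (n : ℕ) (U : C) :
    H f (n + 1) U ≫ D f (n + 1) U + D f n U ≫ H f n U = 𝟙 _ := by
  rw [D_eq, D_eq, Fin.sum_univ_succ, Preadditive.comp_add, Preadditive.comp_sum,
    Preadditive.sum_comp]
  have h0 : H f (n + 1) U ≫ ((-1 : ℤ) ^ ((0 : Fin (n + 3)) : ℕ) •
      AddCommGrpCat.free.map ((face f (n + 1) 0).hom.app (op U))) = 𝟙 _ := by
    rw [Fin.val_zero, pow_zero, one_smul]
    unfold H
    rw [← Functor.map_comp, hmk_face_zero, CategoryTheory.Functor.map_id]
  have hs : ∀ i : Fin (n + 2), H f (n + 1) U ≫ ((-1 : ℤ) ^ ((i.succ : Fin (n + 3)) : ℕ) •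
      AddCommGrpCat.free.map ((face f (n + 1) i.succ).hom.app (op U))) =
      - (((-1 : ℤ) ^ (i : ℕ) • AddCommGrpCat.free.map ((face f n i).hom.app (op U))) ≫
        H f n U) := by
    intro i
    unfold H
    rw [Preadditive.comp_zsmul, Preadditive.zsmul_comp, ← Functor.map_comp, hmk_face_succ,
      Functor.map_comp, Fin.val_succ, pow_succ, mul_neg_one, neg_smul]
  rw [h0, Finset.sum_congr rfl (fun i _ => hs i), Finset.sum_neg_distrib, add_assoc,
    neg_add_cancel, add_zero]

lemma homotopy_succ_apply (n : ℕ) (U : C) (x : AddCommGrpCat.free.obj ((WP f (n + 1)).obj.obj (op U))) :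
    D f (n + 1) U (H f (n + 1) U x) + H f n U (D f n U x) = x := by
  have h := ConcreteCategory.congr_hom (homotopy_succ f n U) x
  exact h

/-- a presheaf short complex is exact if it is sectionwise exact -/
lemma exact_of_app (S : ShortComplex (Cᵒᵖ ⥤ AddCommGrpCat.{u}))
    (h : ∀ (U : Cᵒᵖ) (x₂ : S.X₂.obj U), S.g.app U x₂ = 0 → ∃ x₁ : S.X₁.obj U, S.f.app U x₁ = x₂) :
    S.Exact := by
  rw [S.exact_iff_isZero_homology]
  apply Functor.isZero
  intro U
  have hU : (S.map ((evaluation Cᵒᵖ AddCommGrpCat.{u}).obj U)).Exact := by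
    rw [ShortComplex.ab_exact_iff]
    exact h U
  rw [ShortComplex.exact_iff_isZero_homology] at hU
  exact IsZero.of_iso hU (S.mapHomologyIso ((evaluation Cᵒᵖ AddCommGrpCat.{u}).obj U)).symm

lemma Pc_exact (n : ℕ) : ((Pc f).sc' (n + 2) (n + 1) n).Exact := by
  apply exact_of_app
  intro U x hx
  induction U using Opposite.rec with | _ U
  refine ⟨H f (n + 1) U x, ?_⟩
  have h := homotopy_succ_apply f n U x
  have hx' : D f n U x = 0 := hx
  rw [hx', map_zero, add_zero] at h
  exact h

/-- the augmentation on sections -/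
noncomputable def E (U : C) :
    AddCommGrpCat.free.obj ((WP f 0).obj.obj (op U)) ⟶ AddCommGrpCat.free.obj (K.obj.obj (op U)) :=
  AddCommGrpCat.free.map ((WidePullback.base (fun _ : Fin 1 => f)).hom.app (op U))

open scoped Classical in
/-- the (partial) section of the augmentation on sections -/
noncomputable def R (U : C) :
    AddCommGrpCat.free.obj (K.obj.obj (op U)) ⟶ AddCommGrpCat.free.obj ((WP f 0).obj.obj (op U)) :=
  AddCommGrpCat.ofHom (FreeAbelianGroup.lift (fun b =>
    if hb : ∃ a : K'.obj.obj (op U), f.hom.app (op U) a = b then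
      FreeAbelianGroup.of (s0 b hb) else 0))

lemma H_of (n : ℕ) (U : C) (a : (WP f n).obj.obj (op U)) :
    H f n U (FreeAbelianGroup.of a) = FreeAbelianGroup.of (hmk a) := rfl

lemma E_of (U : C) (a : (WP f 0).obj.obj (op U)) :
    E f U (FreeAbelianGroup.of a) = FreeAbelianGroup.of (bs a) := rfl

lemma R_of (U : C) (a : (WP f 0).obj.obj (op U)) :
    R f U (FreeAbelianGroup.of (bs a)) = FreeAbelianGroup.of (s0 (bs a) (exists_of_wp a)) := by
  unfold R
  exact (FreeAbelianGroup.lift_apply_of _ _).trans (dif_pos (exists_of_wp a))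

lemma D_of (n : ℕ) (U : C) (y : (WP f (n + 1)).obj.obj (op U)) :
    D f n U (FreeAbelianGroup.of y) =
      ∑ i : Fin (n + 2), (-1 : ℤ) ^ (i : ℕ) • FreeAbelianGroup.of (dl i y) := by
  rw [D_eq]
  refine (Groth.Agent.Helper1.Cech.hom_sum _ _ _).trans ?_
  rfl

lemma homotopy_zero (U : C) : H f 0 U ≫ D f 0 U + E f U ≫ R f U = 𝟙 _ := by
  apply AddCommGrpCat.hom_ext
  apply FreeAbelianGroup.lift_ext
  intro a
  show D f 0 U (H f 0 U (FreeAbelianGroup.of a)) + R f U (E f U (FreeAbelianGroup.of a)) =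
    FreeAbelianGroup.of a
  rw [H_of, D_of, E_of, R_of, Fin.sum_univ_two, dl_zero_hmk, dl_one_hmk]
  simp only [Fin.val_zero, pow_zero, one_smul, Fin.val_one, pow_one, neg_smul]
  exact neg_add_cancel_right _ _

lemma homotopy_zero_apply (U : C) (x : AddCommGrpCat.free.obj ((WP f 0).obj.obj (op U))) :
    D f 0 U (H f 0 U x) + R f U (E f U x) = x :=
  ConcreteCategory.congr_hom (homotopy_zero f U) x

variable (J) in
/-- the free abelian sheaf functor -/
noncomputable abbrev Φ : Sheaf J (Type u) ⥤ Sheaf J AddCommGrpCat.{u} :=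
  Sheaf.composeAndSheafify J AddCommGrpCat.free.{u}

/-- the augmented simplicial abelian sheaf -/
noncomputable abbrev X : SimplicialObject.Augmented (Sheaf J AddCommGrpCat.{u}) :=
  ((SimplicialObject.Augmented.whiskering _ _).obj (Φ J)).obj (Arrow.mk f).augmentedCechNerve

/-- the sheaf-level complex -/
noncomputable abbrev Cc : ChainComplex (Sheaf J AddCommGrpCat.{u}) ℕ :=
  (AlgebraicTopology.alternatingFaceMapComplex _).obj (SimplicialObject.Augmented.drop.obj (X f))

lemma Cc_d (n : ℕ) :
    (Cc f).d (n + 1) n = (presheafToSheaf J AddCommGrpCat.{u}).map ((Pc f).d (n + 1) n) := by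
  rw [AlgebraicTopology.alternatingFaceMapComplex_obj_d,
    AlgebraicTopology.alternatingFaceMapComplex_obj_d]
  unfold AlgebraicTopology.AlternatingFaceMapComplex.objD
  rw [Functor.map_sum]
  refine Finset.sum_congr rfl (fun i _ => ?_)
  rw [Functor.map_zsmul]
  rfl

lemma Cc_exact (n : ℕ) : ((Cc f).sc' (n + 2) (n + 1) n).Exact := by
  have h := (Pc_exact f n).map (presheafToSheaf J AddCommGrpCat.{u})
  refine ShortComplex.exact_of_iso ?_ h
  exact ShortComplex.isoMk (Iso.refl _) (Iso.refl _) (Iso.refl _)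
    ((Category.id_comp _).trans ((Cc_d f (n + 1)).trans (Category.comp_id _).symm))
    ((Category.id_comp _).trans ((Cc_d f n).trans (Category.comp_id _).symm))

lemma face_base (n : ℕ) (i : Fin (n + 2)) :
    face f n i ≫ WidePullback.base (fun _ : Fin (n + 1) => f) = WidePullback.base _ :=
  WidePullback.lift_base _ _ _ _

lemma D_E (U : C) : D f 0 U ≫ E f U = 0 := by
  rw [D_eq, Preadditive.sum_comp, Fin.sum_univ_two]
  unfold E
  rw [Preadditive.zsmul_comp, Preadditive.zsmul_comp, ← Functor.map_comp, ← Functor.map_comp]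
  have h : ∀ i : Fin 2, (face f 0 i).hom.app (op U) ≫
      (WidePullback.base (fun _ : Fin 1 => f)).hom.app (op U) =
      (WidePullback.base (fun _ : Fin 2 => f)).hom.app (op U) := by
    intro i
    exact congrArg (fun g => g.hom.app (op U)) (face_base f 0 i)
  rw [h, h]
  simp only [Fin.val_zero, pow_zero, one_smul, Fin.val_one, pow_one, neg_smul, add_neg_cancel]

/-- the augmentation at the presheaf level -/
noncomputable abbrev augP : (Pc f).X 0 ⟶ (Ψ J).obj K :=
  (Ψ J).map (WidePullback.base (fun _ : Fin 1 => f))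

lemma d_augP : (Pc f).d 1 0 ≫ augP f = 0 := by
  ext U : 2
  induction U using Opposite.rec with | _ U
  exact D_E f U

lemma Sp₀_exact : (ShortComplex.mk _ _ (d_augP f)).Exact := by
  apply exact_of_app
  intro U x hx
  induction U using Opposite.rec with | _ U
  refine ⟨H f 0 U x, ?_⟩
  have h := homotopy_zero_apply f U x
  have hx' : E f U x = 0 := hx
  rw [hx', map_zero, add_zero] at h
  exact h

lemma X_hom_app : (X f).hom.app (op (SimplexCategory.mk 0)) =
    (presheafToSheaf J AddCommGrpCat.{u}).map (augP f) :=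
  Category.comp_id ((Φ J).map
    ((Arrow.mk f).augmentedCechNerve.hom.app (op (SimplexCategory.mk 0))))

lemma d_aug : (Cc f).d 1 0 ≫ (X f).hom.app (op (SimplexCategory.mk 0)) = 0 := by
  rw [X_hom_app, Cc_d]
  exact ((presheafToSheaf J AddCommGrpCat.{u}).map_comp _ _).symm.trans
    (by rw [d_augP, Functor.map_zero]; rfl)

lemma S₀_exact : (ShortComplex.mk _ _ (d_aug f)).Exact := by
  have h := (Sp₀_exact f).map (presheafToSheaf J AddCommGrpCat.{u})
  refine ShortComplex.exact_of_iso ?_ h
  exact ShortComplex.isoMk (Iso.refl _) (Iso.refl _) (Iso.refl _)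
    ((Category.id_comp _).trans ((Cc_d f 0).trans (Category.comp_id _).symm))
    ((Category.id_comp _).trans ((X_hom_app f).trans (Category.comp_id _).symm))

lemma epi_aug [Epi f] : Epi ((X f).hom.app (op (SimplexCategory.mk 0))) := by
  have hb : Epi (WidePullback.base (fun _ : Fin 1 => f)) := by
    let l : K' ⟶ WP f 0 := WidePullback.lift f (fun _ : Fin 1 => 𝟙 K')
      (fun _ => Category.id_comp _)
    have h : l ≫ WidePullback.base (fun _ : Fin 1 => f) = f := WidePullback.lift_base _ _ _ _
    have : Epi (l ≫ WidePullback.base (fun _ : Fin 1 => f)) := h.symm ▸ (inferInstance : Epi f)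
    exact epi_of_epi l _
  have : (Φ J).PreservesEpimorphisms :=
    Functor.preservesEpimorphisms_of_adjunction (Sheaf.adjunction J AddCommGrpCat.adj)
  have h : (X f).hom.app (op (SimplexCategory.mk 0)) =
      (Φ J).map (WidePullback.base (fun _ : Fin 1 => f)) :=
    Category.comp_id ((Φ J).map
      ((Arrow.mk f).augmentedCechNerve.hom.app (op (SimplexCategory.mk 0))))
  rw [h]
  exact Functor.map_epi (Φ J) _

lemma ε_f_zero : ((AlgebraicTopology.AlternatingFaceMapComplex.ε
    (C := Sheaf J AddCommGrpCat.{u})).app (X f)).f 0 =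
    (X f).hom.app (op (SimplexCategory.mk 0)) :=
  ChainComplex.toSingle₀Equiv_symm_apply_f_zero _ _

theorem quasiIso [Epi f] :
    QuasiIso ((AlgebraicTopology.AlternatingFaceMapComplex.ε
      (C := Sheaf J AddCommGrpCat.{u})).app (X f)) := by
  rw [quasiIso_iff]
  rintro (_ | n)
  · rw [ChainComplex.quasiIsoAt₀_iff, ShortComplex.quasiIso_iff_of_zeros']
    · haveI := epi_aug f
      refine (ShortComplex.exact_and_epi_g_iff_of_iso ?_).2 ⟨S₀_exact f, this⟩
      exact ShortComplex.isoMk (Iso.refl _) (Iso.refl _) (Iso.refl _)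
        ((Category.id_comp _).trans (Category.comp_id _).symm)
        ((Category.id_comp _).trans ((ε_f_zero f).symm.trans (Category.comp_id _).symm))
    all_goals rfl
  · rw [quasiIsoAt_iff_exactAt']
    · rw [HomologicalComplex.exactAt_iff' _ (n + 2) (n + 1) n (by simp) (by simp)]
      exact Cc_exact f n
    · apply ChainComplex.exactAt_succ_single_obj

end Groth.Agent.Helper9.CechNerveRes
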