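import Mathlib
import Groth.Prelude.Def_CechEdge
import Groth.Prelude.Def_FreeSh

/-! Acyclicity on all objects of a site in terms of Ext groups of presheaves out of the free
presheaves on covering sieves (no fibre products needed). -/

set_option autoImplicit false
set_option backward.isDefEq.respectTransparency false
universe u

open CategoryTheory CategoryTheory.Limits Opposite Abelian

namespace Groth.Agent.Helper9.SieveAcyc

variable {C : Type u} [SmallCategory C] {J : GrothendieckTopology C}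

/-- the forgetful functor, abbreviated -/
abbrev Rf : Sheaf J AddCommGrpCat.{u} ⥤ (Cᵒᵖ ⥤ AddCommGrpCat.{u}) :=
  sheafToPresheaf J AddCommGrpCat.{u}

section setup

variable (F : Sheaf J AddCommGrpCat.{u})

/-- the inclusion into an injective sheaf, on presheaves -/
noncomputable abbrev a : F.obj ⟶ (Injective.under F).obj := (Injective.ι F).hom

instance : PreservesFiniteLimits (Rf (J := J)) :=
  ⟨fun _ _ _ => (sheafificationAdjunction J AddCommGrpCat.{u}).rightAdjoint_preservesLimits.1⟩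

instance : Mono (a F) := inferInstanceAs (Mono ((Rf (J := J)).map (Injective.ι F)))

/-- the presheaf short exact sequence `0 → F → I → I/F → 0` -/
noncomputable def Spre : ShortComplex (Cᵒᵖ ⥤ AddCommGrpCat.{u}) :=
  ShortComplex.mk (a F) (cokernel.π (a F)) (cokernel.condition _)

lemma hSpre : (Spre F).ShortExact :=
  { exact := ShortComplex.exact_cokernel _
    mono_f := by dsimp [Spre]; infer_instance
    epi_g := by dsimp [Spre]; infer_instance }

/-- the sheaf quotient -/
noncomputable abbrev Qsh : Sheaf J AddCommGrpCat.{u} := cokernel (Injective.ι F)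

/-- the sheaf short exact sequence -/
noncomputable def Ssh : ShortComplex (Sheaf J AddCommGrpCat.{u}) :=
  ShortComplex.mk (Injective.ι F) (cokernel.π (Injective.ι F)) (cokernel.condition _)

lemma hSsh : (Ssh F).ShortExact :=
  { exact := ShortComplex.exact_cokernel _
    mono_f := by dsimp [Ssh]; infer_instance
    epi_g := by dsimp [Ssh]; infer_instance }

/-- the comparison from the presheaf quotient to the sheaf quotient -/
noncomputable def c : (Spre F).X₃ ⟶ (Qsh F).obj :=
  cokernel.desc (a F) ((Rf (J := J)).map (cokernel.π (Injective.ι F))) (by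
    show (Rf (J := J)).map (Injective.ι F) ≫ (Rf (J := J)).map (cokernel.π (Injective.ι F)) = 0
    rw [← (Rf (J := J)).map_comp, cokernel.condition, Functor.map_zero])

lemma π_c : (Spre F).g ≫ c F = (Rf (J := J)).map (cokernel.π (Injective.ι F)) :=
  cokernel.π_desc _ _ _

instance mono_c : Mono (c F) := by
  obtain ⟨hex, -⟩ := (Functor.preservesFiniteLimits_iff_forall_exact_map_and_mono
    (Rf (J := J))).1 inferInstance (Ssh F) (hSsh F)
  exact (ShortComplex.exact_iff_mono_cokernel_desc _).1 hex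

end setup

/-- sections are degree zero cohomology -/
noncomputable def sectH0 (U : C) (F : Sheaf J AddCommGrpCat.{u}) :
    F.obj.obj (op U) ≃+ CohSite.HU F 0 U :=
  ((Abelian.Ext.addEquiv₀).trans (CohFree.homEquivSect J U F)).symm

lemma sectH0_eq (U : C) (F : Sheaf J AddCommGrpCat.{u}) (t : F.obj.obj (op U)) :
    sectH0 U F t = Ext.mk₀ (CohFree.ofSect J U F t) := by
  apply (sectH0 U F).symm.injective
  rw [AddEquiv.symm_apply_apply]
  show t = CohFree.homEquivSect J U F (Ext.addEquiv₀ (Ext.mk₀ (CohFree.ofSect J U F t)))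
  have : Ext.addEquiv₀ (Ext.mk₀ (CohFree.ofSect J U F t)) = CohFree.ofSect J U F t := by
    apply (Ext.mk₀_bijective _ _).1
    rw [Ext.mk₀_addEquiv₀_apply]
  rw [this]
  exact (CohFree.evalGen_ofSect J U F t).symm

/-- `sectH0` is natural -/
lemma sectH0_naturality {U : C} {F G : Sheaf J AddCommGrpCat.{u}} (ψ : F ⟶ G)
    (s : F.obj.obj (op U)) :
    (sectH0 U F s).comp (Ext.mk₀ ψ) (add_zero 0) = sectH0 U G (ψ.hom.app (op U) s) := by
  rw [sectH0_eq, sectH0_eq, Ext.mk₀_comp_mk₀]
  congr 1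
  apply (CohFree.homEquivSect J U G).injective
  rw [CohFree.homEquivSect_apply, CohFree.homEquivSect_apply, CohFree.evalGen_ofSect]
  show (ψ.hom.app (op U)) (((CohFree.ofSect J U F s).hom.app (op U)) (CohFree.gen J U)) = _
  congr 1
  exact CohFree.evalGen_ofSect J U F s

/-- sections of `I → Q` are surjective over `V` when `H¹(V, F) = 0` -/
lemma surjective_π_app (F : Sheaf J AddCommGrpCat.{u}) (V : C)
    (hV : Subsingleton (CohSite.HU F 1 V)) :
    Function.Surjective ((cokernel.π (Injective.ι F)).hom.app (op V)) := by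
  intro t
  have hx : (sectH0 V (Qsh F) t).comp (hSsh F).extClass (zero_add 1) = 0 :=
    Subsingleton.elim (α := CohSite.HU F 1 V) _ _
  obtain ⟨x₂, hx₂⟩ := Ext.covariant_sequence_exact₃ _ (hSsh F)
    (sectH0 V (Qsh F) t) (zero_add 1) hx
  obtain ⟨s, rfl⟩ := (sectH0 V (Injective.under F)).surjective x₂
  refine ⟨s, ?_⟩
  apply (sectH0 V (Qsh F)).injective
  rw [← sectH0_naturality]
  exact hx₂

/-- the comparison `I/F → Q` is bijective on sections over `V` when `H¹(V, F) = 0` -/
lemma bijective_c_app (F : Sheaf J AddCommGrpCat.{u}) (V : C)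
    (hV : Function.Surjective ((cokernel.π (Injective.ι F)).hom.app (op V))) :
    Function.Bijective ((c F).app (op V)) := by
  constructor
  · haveI : Mono ((c F).app (op V)) := inferInstance
    exact (AddCommGrpCat.mono_iff_injective _).1 inferInstance
  · intro t
    obtain ⟨s, hs⟩ := hV t
    refine ⟨(Spre F).g.app (op V) s, ?_⟩
    have := ConcreteCategory.congr_hom (NatTrans.congr_app (π_c F) (op V)) s
    exact this.trans hs

lemma isIso_c (F : Sheaf J AddCommGrpCat.{u})
    (h : ∀ V : C, Function.Surjective ((cokernel.π (Injective.ι F)).hom.app (op V))) :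
    IsIso (c F) := by
  haveI : ∀ V : Cᵒᵖ, IsIso ((c F).app V) := fun V =>
    (ConcreteCategory.isIso_iff_bijective _).2 (bijective_c_app F V.unop (h V.unop))
  exact NatIso.isIso_of_isIso_app _

section sieve

variable {X : C} (S : Sieve X)

/-- the free abelian presheaf on a sieve -/
noncomputable abbrev ZS : Cᵒᵖ ⥤ AddCommGrpCat.{u} := S.functor ⋙ AddCommGrpCat.free.{u}

/-- a generator of `ZS` -/
noncomputable def gOf {V : C} (h : V ⟶ X) (hh : S h) : (ZS S).obj (op V) :=
  FreeAbelianGroup.of (⟨h, hh⟩ : {f : V ⟶ X // S f})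

lemma map_gOf {V V' : C} (a : V' ⟶ V) (h : V ⟶ X) (hh : S h) :
    (ZS S).map a.op (gOf S h hh) = gOf S (a ≫ h) (S.downward_closed hh a) := by
  show (AddCommGrpCat.free.map (S.functor.map a.op)) (FreeAbelianGroup.of _) = _
  rw [AddCommGrpCat.free_map_coe]
  exact FreeAbelianGroup.map_of_apply _

variable {S} {P : Cᵒᵖ ⥤ AddCommGrpCat.{u}}

/-- the family of elements of a morphism out of `ZS` -/
noncomputable def famOf (φ : ZS S ⟶ P) :
    Presieve.FamilyOfElements (P ⋙ forget AddCommGrpCat.{u}) S.arrows :=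
  fun V f hf => φ.app (op V) (gOf S f hf)

lemma famOf_sieveCompatible (φ : ZS S ⟶ P) : (famOf φ).SieveCompatible := by
  intro V V' f g hf
  show φ.app (op V') (gOf S (g ≫ f) _) = P.map g.op (φ.app (op V) (gOf S f hf))
  rw [← map_gOf]
  exact NatTrans.naturality_apply φ g.op (gOf S f hf)

/-- the morphism out of `ZS` of a compatible family -/
noncomputable def ofFam (x : Presieve.FamilyOfElements (P ⋙ forget AddCommGrpCat.{u}) S.arrows)
    (hx : x.SieveCompatible) : ZS S ⟶ P where
  app V := AddCommGrpCat.ofHom (FreeAbelianGroup.lift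
    (fun r : {f : V.unop ⟶ X // S f} => (x r.1 r.2 : P.obj V)))
  naturality := by
    intro V V' a
    apply AddCommGrpCat.hom_ext
    apply FreeAbelianGroup.lift_ext
    rintro ⟨h, hh⟩
    have h2 := map_gOf S a.unop h hh
    show (FreeAbelianGroup.lift _) ((ZS S).map a (gOf S h hh)) =
      P.map a ((FreeAbelianGroup.lift _) (FreeAbelianGroup.of _))
    rw [FreeAbelianGroup.lift_apply_of]
    refine (congrArg (FreeAbelianGroup.lift _) h2).trans ?_
    unfold gOf
    rw [FreeAbelianGroup.lift_apply_of]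
    exact hx h a.unop hh

lemma ofFam_app_gOf (x : Presieve.FamilyOfElements (P ⋙ forget AddCommGrpCat.{u}) S.arrows)
    (hx : x.SieveCompatible) {V : C} (f : V ⟶ X) (hf : S f) :
    (ofFam x hx).app (op V) (gOf S f hf) = x f hf := by
  show (FreeAbelianGroup.lift _) (FreeAbelianGroup.of _) = _
  rw [FreeAbelianGroup.lift_apply_of]

lemma hom_ext_ZS {φ ψ : ZS S ⟶ P}
    (h : ∀ (V : C) (f : V ⟶ X) (hf : S f), φ.app (op V) (gOf S f hf) = ψ.app (op V) (gOf S f hf)) :
    φ = ψ := by
  ext V : 2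
  apply AddCommGrpCat.hom_ext
  apply FreeAbelianGroup.lift_ext
  rintro ⟨f, hf⟩
  exact h V.unop f hf

end sieve

section ext

/-- presheaves as sheaves for the trivial topology -/
abbrev E : (Cᵒᵖ ⥤ AddCommGrpCat.{u}) ⥤ Sheaf (⊥ : GrothendieckTopology C) AddCommGrpCat.{u} :=
  (sheafBotEquivalence AddCommGrpCat.{u}).inverse

instance : (E (C := C)).Additive where
  map_add := rfl

variable {X : C} (S : Sieve X) (F : Sheaf J AddCommGrpCat.{u})

/-- the free presheaf on a sieve as an object of `Sheaf ⊥` -/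
noncomputable abbrev A : Sheaf (⊥ : GrothendieckTopology C) AddCommGrpCat.{u} := E.obj (ZS S)

/-- the presheaf short exact sequence in `Sheaf ⊥` -/
noncomputable abbrev SP : ShortComplex (Sheaf (⊥ : GrothendieckTopology C) AddCommGrpCat.{u}) :=
  (Spre F).map E

lemma hSP : (SP F).ShortExact := (hSpre F).map_of_exact E

instance : Injective (SP F).X₂ := by
  haveI : Injective (Injective.under F).obj :=
    Injective.injective_of_adjoint (sheafificationAdjunction J AddCommGrpCat.{u}) _
  exact Injective.injective_of_adjoint (sheafBotEquivalence AddCommGrpCat.{u}).toAdjunction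
    (Injective.under F).obj

lemma exists_mk₀ {P : Cᵒᵖ ⥤ AddCommGrpCat.{u}} (x : Ext.{u} (A S) (E.obj P) 0) :
    ∃ τ : ZS S ⟶ P, x = Ext.mk₀ (E.map τ) := by
  obtain ⟨f, rfl⟩ := (Ext.mk₀_bijective _ _).2 x
  obtain ⟨τ, rfl⟩ := (E (C := C)).map_surjective f
  exact ⟨τ, rfl⟩

/-- every morphism `ZS → I/F` lifts to `I` -/
def Lift : Prop :=
  ∀ τ : ZS S ⟶ (Spre F).X₃, ∃ σ : ZS S ⟶ (Spre F).X₂, σ ≫ (Spre F).g = τ

lemma lift_of_subsingleton (h : Subsingleton (Ext.{u} (A S) (E.obj F.obj) 1)) : Lift S F := by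
  intro τ
  have hx : (Ext.mk₀ (E.map τ) : Ext.{u} (A S) (SP F).X₃ 0).comp (hSP F).extClass (zero_add 1) = 0 :=
    Subsingleton.elim (α := Ext.{u} (A S) (E.obj F.obj) 1) _ _
  obtain ⟨y, hy⟩ := Ext.covariant_sequence_exact₃ _ (hSP F) _ (zero_add 1) hx
  obtain ⟨σ, rfl⟩ := exists_mk₀ S (P := (Spre F).X₂) y
  refine ⟨σ, ?_⟩
  apply (E (C := C)).map_injective
  apply (Ext.mk₀_bijective _ _).1
  rw [Functor.map_comp, ← Ext.mk₀_comp_mk₀]
  exact hy

lemma subsingleton_of_lift (h : Lift S F) : Subsingleton (Ext.{u} (A S) (E.obj F.obj) 1) := by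
  refine subsingleton_of_forall_eq 0 ?_
  intro (x : Ext.{u} (A S) (SP F).X₁ 1)
  have hx : x.comp (Ext.mk₀ (SP F).f) (add_zero 1) = 0 := Ext.eq_zero_of_injective _
  obtain ⟨y, hy⟩ := Ext.covariant_sequence_exact₁ _ (hSP F) x hx (zero_add 1)
  obtain ⟨τ, rfl⟩ := exists_mk₀ S (P := (Spre F).X₃) y
  obtain ⟨σ, rfl⟩ := h τ
  rw [← hy, Functor.map_comp, ← Ext.mk₀_comp_mk₀]
  have this : (Ext.mk₀ (E.map (Spre F).g)).comp (hSP F).extClass (zero_add 1) = 0 :=
    (hSP F).comp_extClass
  rw [Ext.comp_assoc _ _ _ (add_zero 0) (zero_add 1) (by omega), this, Ext.comp_zero]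

lemma subsingleton_succ_iff (q : ℕ) :
    Subsingleton (Ext.{u} (A S) (E.obj F.obj) (q + 1 + 1)) ↔
      Subsingleton (Ext.{u} (A S) (E.obj (Spre F).X₃) (q + 1)) := by
  constructor
  · intro h
    refine subsingleton_of_forall_eq 0 ?_
    intro (y : Ext.{u} (A S) (SP F).X₃ (q + 1))
    have hy : y.comp (hSP F).extClass rfl = 0 :=
      Subsingleton.elim (α := Ext.{u} (A S) (E.obj F.obj) (q + 1 + 1)) _ _
    obtain ⟨z, hz⟩ := Ext.covariant_sequence_exact₃ _ (hSP F) y rfl hy
    rw [← hz, Ext.eq_zero_of_injective z, Ext.zero_comp]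
  · intro h
    refine subsingleton_of_forall_eq 0 ?_
    intro (x : Ext.{u} (A S) (SP F).X₁ (q + 1 + 1))
    have hx : x.comp (Ext.mk₀ (SP F).f) (add_zero _) = 0 := Ext.eq_zero_of_injective _
    obtain ⟨y, hy⟩ := Ext.covariant_sequence_exact₁ _ (hSP F) x hx rfl
    have hy0 : y = 0 := Subsingleton.elim (α := Ext.{u} (A S) (E.obj (Spre F).X₃) (q + 1)) _ _
    rw [← hy, hy0, Ext.zero_comp]

end ext

section main

/-- the sheaf condition for the underlying presheaf of sets of an abelian sheaf -/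
lemma isSheafFor (G : Sheaf J AddCommGrpCat.{u}) {X : C} (S : Sieve X) (hS : S ∈ J X) :
    Presieve.IsSheafFor (G.obj ⋙ forget AddCommGrpCat.{u}) S.arrows :=
  (isSheaf_iff_isSheaf_of_type _ _).1
    ((Presheaf.isSheaf_iff_isSheaf_forget J G.obj (forget AddCommGrpCat.{u})).1 G.property) S hS

/-- vanishing of the Ext groups out of the free presheaves on covering sieves -/
def Hyp (F : Sheaf J AddCommGrpCat.{u}) : Prop :=
  ∀ (X : C) (S : Sieve X), S ∈ J X → ∀ q : ℕ, Subsingleton (Ext.{u} (A S) (E.obj F.obj) (q + 1))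

/-- acyclicity on all objects -/
def Acyc (F : Sheaf J AddCommGrpCat.{u}) : Prop :=
  ∀ (X : C) (q : ℕ), Subsingleton (CohSite.HU F (q + 1) X)

lemma π_app_eq (F : Sheaf J AddCommGrpCat.{u}) (V : C) (s : (Injective.under F).obj.obj (op V)) :
    (cokernel.π (Injective.ι F)).hom.app (op V) s =
      (c F).app (op V) ((Spre F).g.app (op V) s) :=
  (ConcreteCategory.congr_hom (NatTrans.congr_app (π_c F) (op V)) s).symm

lemma c_app_injective (F : Sheaf J AddCommGrpCat.{u}) (V : C) :
    Function.Injective ((c F).app (op V)) := by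
  haveI : Mono ((c F).app (op V)) := inferInstance
  exact (AddCommGrpCat.mono_iff_injective _).1 inferInstance

/-- under `Hyp`, sections of `I → Q` are surjective -/
lemma surjective_of_hyp (F : Sheaf J AddCommGrpCat.{u}) (hF : Hyp F) (V : C) :
    Function.Surjective ((cokernel.π (Injective.ι F)).hom.app (op V)) := by
  intro t
  haveI : Epi (Ssh F).g := (hSsh F).epi_g
  haveI : Sheaf.IsLocallySurjective (Ssh F).g :=
    (Sheaf.isLocallySurjective_iff_epi' (φ := (Ssh F).g)).2 inferInstance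
  let S : Sieve V := Presheaf.imageSieve (Ssh F).g.hom t
  have hS : S ∈ J V := Presheaf.imageSieve_mem J (Ssh F).g.hom t
  -- local lifts
  have hex : ∀ (W : C) (f : W ⟶ V), S f → ∃ s : (Injective.under F).obj.obj (op W),
      (cokernel.π (Injective.ι F)).hom.app (op W) s = (Qsh F).obj.map f.op t := fun W f hf => hf
  choose s₀ hs₀ using hex
  let x : Presieve.FamilyOfElements ((Spre F).X₃ ⋙ forget AddCommGrpCat.{u}) S.arrows :=
    fun W f hf => (Spre F).g.app (op W) (s₀ W f hf)
  have hcx : ∀ (W : C) (f : W ⟶ V) (hf : S f),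
      (c F).app (op W) (x f hf) = (Qsh F).obj.map f.op t := by
    intro W f hf
    exact (π_app_eq F W _).symm.trans (hs₀ W f hf)
  have hx : x.SieveCompatible := by
    intro W W' f g hf
    apply c_app_injective F W'
    rw [hcx]
    have h1 := NatTrans.naturality_apply (c F) g.op (x f hf)
    refine Eq.trans ?_ h1.symm
    rw [hcx, op_comp, Functor.map_comp]
    rfl
  obtain ⟨σ, hσ⟩ := lift_of_subsingleton S F (hF V S hS 0) (ofFam x hx)
  -- glue
  have hy : (famOf σ).Compatible :=
    (Presieve.compatible_iff_sieveCompatible _).2 (famOf_sieveCompatible σ)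
  obtain ⟨s, hs, -⟩ := isSheafFor (Injective.under F) S hS (famOf σ) hy
  refine ⟨s, ?_⟩
  apply (isSheafFor (Qsh F) S hS).isSeparatedFor.ext
  intro W f hf
  show (Qsh F).obj.map f.op ((cokernel.π (Injective.ι F)).hom.app (op V) s) =
    (Qsh F).obj.map f.op t
  have h1 := NatTrans.naturality_apply (cokernel.π (Injective.ι F)).hom f.op s
  rw [← h1]
  have h2 : (Injective.under F).obj.map f.op s = σ.app (op W) (gOf S f hf) := hs f hf
  rw [h2, π_app_eq, ← hcx W f hf]
  congr 1
  have h3 := ConcreteCategory.congr_hom (NatTrans.congr_app hσ (op W)) (gOf S f hf)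
  exact h3.trans (ofFam_app_gOf x hx f hf)

/-- transport of Ext groups along an isomorphism in the second variable -/
lemma subsingleton_ext_of_iso {𝒜 : Type (u + 1)} [Category.{u} 𝒜] [Abelian 𝒜] [HasExt.{u} 𝒜]
    (A₀ : 𝒜) {G G' : 𝒜} (e : G ≅ G') (n : ℕ) (h : Subsingleton (Ext.{u} A₀ G n)) :
    Subsingleton (Ext.{u} A₀ G' n) := by
  refine subsingleton_of_forall_eq 0 ?_
  intro x
  have h1 : (x.comp (Ext.mk₀ e.inv) (add_zero n)).comp (Ext.mk₀ e.hom) (add_zero n) = x := by
    rw [Ext.comp_assoc_of_third_deg_zero, Ext.mk₀_comp_mk₀, e.inv_hom_id, Ext.comp_mk₀_id]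
  rw [← h1, Subsingleton.elim (x.comp (Ext.mk₀ e.inv) (add_zero n)) 0, Ext.zero_comp]

lemma subsingleton_H1_of_surjective (F : Sheaf J AddCommGrpCat.{u}) (V : C)
    (h : Function.Surjective ((cokernel.π (Injective.ι F)).hom.app (op V))) :
    Subsingleton (CohSite.HU F 1 V) := by
  refine subsingleton_of_forall_eq 0 ?_
  intro (x : Ext.{u} (CohCx.freeSheaf J V) F 1)
  haveI : Injective (Ssh F).X₂ := by dsimp [Ssh]; infer_instance
  have hx : x.comp (Ext.mk₀ (Ssh F).f) (add_zero 1) = 0 := Ext.eq_zero_of_injective _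
  obtain ⟨y, hy⟩ := Ext.covariant_sequence_exact₁ _ (hSsh F) x hx (zero_add 1)
  obtain ⟨q, rfl⟩ := (sectH0 V (Qsh F)).surjective y
  obtain ⟨i, rfl⟩ := h q
  have hn := sectH0_naturality (cokernel.π (Injective.ι F)) i
  rw [← hy]
  have h3 : (sectH0 V (Qsh F)) ((cokernel.π (Injective.ι F)).hom.app (op V) i) =
      (sectH0 V (Injective.under F) i).comp (Ext.mk₀ (Ssh F).g) (add_zero 0) := hn.symm
  rw [h3, Ext.comp_assoc _ _ _ (add_zero 0) (zero_add 1) (by omega), (hSsh F).comp_extClass,
    Ext.comp_zero]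

lemma hyp_Qsh (F : Sheaf J AddCommGrpCat.{u}) (hF : Hyp F) : Hyp (Qsh F) := by
  intro X S hS q
  haveI := isIso_c F (surjective_of_hyp F hF)
  exact subsingleton_ext_of_iso (A S) (E.mapIso (asIso (c F))) (q + 1)
    ((subsingleton_succ_iff S F q).1 (hF X S hS (q + 1)))

/-- shifting: `H^{p+2}(X, F)` vanishes if `H^{p+1}(X, Q)` does -/
lemma subsingleton_HU_succ (F : Sheaf J AddCommGrpCat.{u}) (X : C) (p : ℕ)
    (h : Subsingleton (CohSite.HU (Qsh F) (p + 1) X)) :
    Subsingleton (CohSite.HU F (p + 1 + 1) X) := by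
  refine subsingleton_of_forall_eq 0 ?_
  intro (x : Ext.{u} (CohCx.freeSheaf J X) F (p + 1 + 1))
  haveI : Injective (Ssh F).X₂ := by dsimp [Ssh]; infer_instance
  have hx : x.comp (Ext.mk₀ (Ssh F).f) (add_zero (p + 1 + 1)) = 0 := Ext.eq_zero_of_injective _
  obtain ⟨y, hy⟩ := Ext.covariant_sequence_exact₁ _ (hSsh F) x hx rfl
  have hy0 : y = 0 := Subsingleton.elim (α := CohSite.HU (Qsh F) (p + 1) X) _ _
  rw [← hy, hy0, Ext.zero_comp]

theorem acyc_of_hyp : ∀ (p : ℕ) (F : Sheaf J AddCommGrpCat.{u}), Hyp F →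
    ∀ X : C, Subsingleton (CohSite.HU F (p + 1) X)
  | 0, F, hF, X => subsingleton_H1_of_surjective F X (surjective_of_hyp F hF X)
  | p + 1, F, hF, X => subsingleton_HU_succ F X p (acyc_of_hyp p (Qsh F) (hyp_Qsh F hF) X)

lemma acyc_Qsh (F : Sheaf J AddCommGrpCat.{u}) (hF : Acyc F) : Acyc (Qsh F) := by
  intro X q
  refine subsingleton_of_forall_eq 0 ?_
  intro (x₃ : Ext.{u} (CohCx.freeSheaf J X) (Qsh F) (q + 1))
  haveI := hF X (q + 1)
  have hx : x₃.comp (hSsh F).extClass (rfl : q + 1 + 1 = q + 2) = 0 :=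
    Subsingleton.elim (α := CohSite.HU F (q + 1 + 1) X) _ _
  obtain ⟨x₂, hx₂⟩ := Ext.covariant_sequence_exact₃ _ (hSsh F) x₃ rfl hx
  haveI : Injective (Ssh F).X₂ := by dsimp [Ssh]; infer_instance
  rw [← hx₂, Ext.eq_zero_of_injective x₂, Ext.zero_comp]

lemma lift_of_acyc (F : Sheaf J AddCommGrpCat.{u}) (hF : Acyc F) {X : C} (S : Sieve X)
    (hS : S ∈ J X) : Lift S F := by
  intro τ
  have hxc := famOf_sieveCompatible τ
  let xq : Presieve.FamilyOfElements ((Qsh F).obj ⋙ forget AddCommGrpCat.{u}) S.arrows :=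
    fun W f hf => (c F).app (op W) (famOf τ f hf)
  have hxq : xq.Compatible := (Presieve.compatible_iff_sieveCompatible _).2 (by
    intro W W' f g hf
    show (c F).app (op W') (famOf τ (g ≫ f) _) =
      (Qsh F).obj.map g.op ((c F).app (op W) (famOf τ f hf))
    rw [hxc f g hf]
    exact NatTrans.naturality_apply (c F) g.op (famOf τ f hf))
  obtain ⟨t, ht, -⟩ := isSheafFor (Qsh F) S hS xq hxq
  obtain ⟨s, hs⟩ := surjective_π_app F X (hF X 0) t
  let y : Presieve.FamilyOfElements ((Injective.under F).obj ⋙ forget AddCommGrpCat.{u})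
      S.arrows := fun W f _ => (Injective.under F).obj.map f.op s
  have hy : y.SieveCompatible := by
    intro W W' f g hf
    show (Injective.under F).obj.map (g ≫ f).op s =
      (Injective.under F).obj.map g.op ((Injective.under F).obj.map f.op s)
    rw [op_comp, Functor.map_comp]
    rfl
  refine ⟨ofFam y hy, ?_⟩
  apply hom_ext_ZS
  intro W f hf
  apply c_app_injective F W
  show (c F).app (op W) ((Spre F).g.app (op W) ((ofFam y hy).app (op W) (gOf S f hf))) =
    (c F).app (op W) (famOf τ f hf)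
  rw [ofFam_app_gOf, ← π_app_eq]
  have h1 := NatTrans.naturality_apply (cokernel.π (Injective.ι F)).hom f.op s
  refine h1.trans ?_
  rw [hs]
  exact ht f hf

theorem hyp_of_acyc : ∀ (q : ℕ) (F : Sheaf J AddCommGrpCat.{u}), Acyc F →
    ∀ (X : C) (S : Sieve X), S ∈ J X → Subsingleton (Ext.{u} (A S) (E.obj F.obj) (q + 1))
  | 0, F, hF, X, S, hS => subsingleton_of_lift S F (lift_of_acyc F hF S hS)
  | q + 1, F, hF, X, S, hS => by
    haveI := isIso_c F (fun V => surjective_π_app F V (hF V 0))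
    have h1 := hyp_of_acyc q (Qsh F) (acyc_Qsh F hF) X S hS
    exact (subsingleton_succ_iff S F q).2
      (subsingleton_ext_of_iso (A S) (E.mapIso (asIso (c F))).symm (q + 1) h1)

/-- transport of Ext groups along an isomorphism in the first variable -/
lemma subsingleton_ext_of_iso_left {𝒜 : Type (u + 1)} [Category.{u} 𝒜] [Abelian 𝒜] [HasExt.{u} 𝒜]
    {A₀ A₁ : 𝒜} (e : A₀ ≅ A₁) (G : 𝒜) (n : ℕ) (h : Subsingleton (Ext.{u} A₀ G n)) :
    Subsingleton (Ext.{u} A₁ G n) := by
  refine subsingleton_of_forall_eq 0 ?_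
  intro x
  have h1 : (Ext.mk₀ e.inv).comp ((Ext.mk₀ e.hom).comp x (zero_add n)) (zero_add n) = x := by
    rw [← Ext.comp_assoc _ _ _ (add_zero 0) (zero_add n) (by omega), Ext.mk₀_comp_mk₀,
      e.inv_hom_id, Ext.mk₀_id_comp]
  rw [← h1, Subsingleton.elim ((Ext.mk₀ e.hom).comp x (zero_add n)) 0, Ext.comp_zero]

/-- the sheafification of `ZS` for the trivial topology is `ZS` -/
noncomputable def isoX {X : C} (S : Sieve X) :
    (presheafToSheaf (⊥ : GrothendieckTopology C) AddCommGrpCat.{u}).obj (ZS S) ≅ A S :=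
  asIso ((sheafificationAdjunction (⊥ : GrothendieckTopology C) AddCommGrpCat.{u}).counit.app
    (A S))

theorem main (F : Sheaf J AddCommGrpCat.{u}) :
    (∀ (X : C) (q : ℕ), Subsingleton (CohSite.HU F (q + 1) X)) ↔
      ∀ (X : C) (S : Sieve X), S ∈ J X → ∀ q : ℕ,
        Subsingleton (Ext.{u}
          ((presheafToSheaf (⊥ : GrothendieckTopology C) AddCommGrpCat.{u}).obj (ZS S))
          (E.obj F.obj) (q + 1)) := by
  constructor
  · intro h X S hS q
    exact subsingleton_ext_of_iso_left (isoX S).symm _ _ (hyp_of_acyc q F h X S hS)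
  · intro h X q
    refine acyc_of_hyp q F ?_ X
    intro X S hS q
    exact subsingleton_ext_of_iso_left (isoX S) _ _ (h X S hS q)

end main

end Groth.Agent.Helper9.SieveAcyc
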