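import Mathlib
import Groth.Prelude.Def_CohCx
import Groth.Agent.Helper9.CechNerveRes
import Groth.Agent.Helper9.AcycRes
import Groth.Agent.Helper9.SieveAcyc

/-!
# Čech cohomology of a totally acyclic sheaf w.r.t. an epimorphism of sheaves of sets vanishes
-/

namespace Groth.Agent.Helper9.CechNerveAcyc

open CategoryTheory Limits Opposite Abelian Groth.Agent.Helper9.CechNerveSet
  Groth.Agent.Helper9.CechNerveRes

universe u

variable {C : Type u} [SmallCategory C] {J : GrothendieckTopology C} (F : Sheaf J AddCommGrpCat.{u})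
  {K' K : Sheaf J (Type u)} (f : K' ⟶ K)

/-- the cosimplicial abelian group `n ↦ Hom(ℤ[K'ₙ]^#, F)` -/
noncomputable abbrev Y : CosimplicialObject AddCommGrpCat.{u} :=
  (Arrow.mk f).cechNerve.rightOp ⋙ CohCx.HK0Functor J F

lemma cx_d (n : ℕ) : (CohCx.cechNerveCx F f).d n (n + 1) =
    AlgebraicTopology.AlternatingCofaceMapComplex.objD (Y F f) n := by
  show (AlgebraicTopology.AlternatingCofaceMapComplex.obj (Y F f)).d n (n + 1) = _
  exact CochainComplex.of_d (V := AddCommGrpCat.{u}) (fun n => (Y F f).obj (SimplexCategory.mk n))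
    (AlgebraicTopology.AlternatingCofaceMapComplex.objD (Y F f)) n

/-- the differential of `cechNerveCx F f` is precomposition with the differential of `Cc f` -/
lemma cx_d_apply (n : ℕ) (x : (CohCx.cechNerveCx F f).X n) :
    (CohCx.cechNerveCx F f).d n (n + 1) x =
      ((Cc f).d (n + 1) n ≫ (x : (Cc f).X n ⟶ F) : (Cc f).X (n + 1) ⟶ F) := by
  rw [cx_d, AlgebraicTopology.alternatingFaceMapComplex_obj_d]
  unfold AlgebraicTopology.AlternatingCofaceMapComplex.objD
    AlgebraicTopology.AlternatingFaceMapComplex.objD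
  refine (Groth.Agent.Helper1.Cech.hom_sum _ _ _).trans ?_
  let x' : (Cc f).X n ⟶ F := x
  refine Eq.trans ?_ (Preadditive.sum_comp (Finset.univ : Finset (Fin (n + 2)))
    (fun i => (-1 : ℤ) ^ (i : ℕ) • (SimplicialObject.Augmented.drop.obj (X f)).δ i) x').symm
  refine Finset.sum_congr rfl (fun i _ => ?_)
  rw [Preadditive.zsmul_comp]
  rfl

/-- `coker (Cc₁ → Cc₀) ≅ ℤ[K]^#` -/
noncomputable def isoW0 [Epi f] : AcycRes.W (Cc f) 0 ≅ (Φ J).obj K := by
  haveI := epi_aug f
  exact IsColimit.coconePointUniqueUpToIso (cokernelIsCokernel ((Cc f).d 1 0))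
    (S₀_exact f).gIsCokernel

theorem main (hF : CohCx.IsTotallyAcyclic F) [Epi f] (q : ℕ) :
    IsZero ((CohCx.cechNerveCx F f).homology (q + 1)) := by
  apply Groth.Agent.Helper1.Cech.isZero_homology_of_exists
  intro c hc
  have hacyc : ∀ n p, Subsingleton (Ext.{u} ((Cc f).X n) F (p + 1)) := fun n p => hF _ p
  have h0 : ∀ p, Subsingleton (Ext.{u} (AcycRes.W (Cc f) 0) F (p + 1)) := fun p =>
    SieveAcyc.subsingleton_ext_of_iso_left (isoW0 f).symm F (p + 1) (hF K p)
  obtain ⟨χ, hχ⟩ := AcycRes.exists_of_cocycle F (Cc f) (Cc_exact f) hacyc h0 q c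
    (by rw [← cx_d_apply]; exact hc)
  exact ⟨χ, (cx_d_apply F f q χ).trans hχ⟩

end Groth.Agent.Helper9.CechNerveAcyc
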