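import Mathlib
import Groth.Prelude.Def_CohCx
import Groth.Agent.Helper9.CechNerveAcyc
import Groth.Agent.Helper9.SieveAcyc

/-!
# Cartan's criterion in the topos of sheaves of sets

If the Čech cohomology of `F` w.r.t. every epimorphism `K' ⟶ K` of sheaves of sets vanishes in
positive degrees, then `F` is totally acyclic.
-/

namespace Groth.Agent.Helper9.CechNerveCartan

open CategoryTheory Limits Opposite Abelian Groth.Agent.Helper9.CechNerveSet
  Groth.Agent.Helper9.CechNerveRes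

universe u

variable {C : Type u} [SmallCategory C] {J : GrothendieckTopology C}

/-- sections of a pullback of sheaves of sets -/
lemma exists_pullback_section {X Y Z : Sheaf J (Type u)} (f : X ⟶ Z) (g : Y ⟶ Z) (W : C)
    (x : X.obj.obj (op W)) (y : Y.obj.obj (op W))
    (h : f.hom.app (op W) x = g.hom.app (op W) y) :
    ∃ z : (pullback f g).obj.obj (op W), (pullback.fst f g).hom.app (op W) z = x ∧
      (pullback.snd f g).hom.app (op W) z = y := by
  have hl := isLimitPullbackConeMapOfIsLimit (ev J W) pullback.condition (pullbackIsPullback f g)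
  have hb := ((PullbackCone.isLimitEquivBijective _) hl).2
  obtain ⟨z, hz⟩ := hb ⟨(x, y), h⟩
  exact ⟨z, congrArg (fun p => p.1.1) hz, congrArg (fun p => p.1.2) hz⟩

/-- epimorphisms of sheaves of sets are stable under base change -/
lemma epi_pullback_fst {X Y Z : Sheaf J (Type u)} (f : X ⟶ Z) (g : Y ⟶ Z) [Epi g] :
    Epi (pullback.fst f g) := by
  haveI : Sheaf.IsLocallySurjective g := (Sheaf.isLocallySurjective_iff_epi g).2 inferInstance
  haveI : Sheaf.IsLocallySurjective (pullback.fst f g) := by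
    constructor
    intro V x
    refine J.superset_covering ?_ (Presheaf.imageSieve_mem J g.hom (f.hom.app (op V) x))
    rintro W i ⟨y, hy⟩
    have hx : f.hom.app (op W) (X.obj.map i.op x) = g.hom.app (op W) y := by
      rw [hy]
      exact NatTrans.naturality_apply f.hom i.op x
    obtain ⟨z, hz, _⟩ := exists_pullback_section f g W _ y hx
    exact ⟨z, hz⟩
  infer_instance

section typed

variable {K' K : Sheaf J (Type u)} (f : K' ⟶ K)

/-- the differential `ℤ[K'_{n+1}]^# ⟶ ℤ[K'_n]^#`, with explicit source and target -/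
noncomputable def dΦ (n : ℕ) : (Φ J).obj (WP f (n + 1)) ⟶ (Φ J).obj (WP f n) := (Cc f).d (n + 1) n

/-- the augmentation `ℤ[K'_0]^# ⟶ ℤ[K]^#` -/
noncomputable def augΦ : (Φ J).obj (WP f 0) ⟶ (Φ J).obj K :=
  (X f).hom.app (op (SimplexCategory.mk 0))

lemma dΦ_comp (n : ℕ) : dΦ f (n + 1) ≫ dΦ f n = 0 := (Cc f).d_comp_d _ _ _

lemma dΦ_aug : dΦ f 0 ≫ augΦ f = 0 := d_aug f

lemma augΦ_eq : augΦ f = (Φ J).map (WidePullback.base (fun _ : Fin 1 => f)) :=
  Category.comp_id ((Φ J).map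
    ((Arrow.mk f).augmentedCechNerve.hom.app (op (SimplexCategory.mk 0))))

instance [Epi f] : Epi (augΦ f) := epi_aug f

lemma S₀'_exact : (ShortComplex.mk (dΦ f 0) (augΦ f) (dΦ_aug f)).Exact := S₀_exact f

end typed

/-- cocycles of `Hom(ℤ[K'_•]^#, F)` are coboundaries, in all positive degrees and for all
epimorphisms `K' ⟶ K` -/
def HomAcyc (F : Sheaf J AddCommGrpCat.{u}) : Prop :=
  ∀ (K' K : Sheaf J (Type u)) (f : K' ⟶ K), Epi f → ∀ (q : ℕ)
    (c : (Φ J).obj (WP f (q + 1)) ⟶ F),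
    dΦ f (q + 1) ≫ c = 0 → ∃ b : (Φ J).obj (WP f q) ⟶ F, dΦ f q ≫ b = c

lemma homAcyc_iff (F : Sheaf J AddCommGrpCat.{u}) :
    HomAcyc F ↔ ∀ (K' K : Sheaf J (Type u)) (f : K' ⟶ K), Epi f →
      ∀ q : ℕ, IsZero ((CohCx.cechNerveCx F f).homology (q + 1)) := by
  constructor
  · intro h K' K f hf q
    apply Groth.Agent.Helper1.Cech.isZero_homology_of_exists
    intro c hc
    obtain ⟨b, hb⟩ := h K' K f hf q c ((CechNerveAcyc.cx_d_apply F f (q + 1) c).symm.trans hc)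
    exact ⟨b, (CechNerveAcyc.cx_d_apply F f q b).trans hb⟩
  · intro h K' K f hf q c hc
    obtain ⟨b, hb⟩ := Groth.Agent.Helper1.Cech.exists_of_isZero_homology _ q (h K' K f hf q) c
      ((CechNerveAcyc.cx_d_apply F f (q + 1) c).trans hc)
    exact ⟨b, (CechNerveAcyc.cx_d_apply F f q b).symm.trans hb⟩

lemma homAcyc_of_totallyAcyclic (F : Sheaf J AddCommGrpCat.{u}) (hF : CohCx.IsTotallyAcyclic F) :
    HomAcyc F := by
  rw [homAcyc_iff]
  intro K' K f hf q
  exact CechNerveAcyc.main F f hF q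

lemma homAcyc_of_injective (I : Sheaf J AddCommGrpCat.{u}) [Injective I] : HomAcyc I :=
  homAcyc_of_totallyAcyclic I (fun K p =>
    subsingleton_of_forall_eq 0 (fun x => Ext.eq_zero_of_injective x))

/-- (T1) lifting of morphisms `ℤ[K]^# ⟶ X₃` along an epimorphism whose kernel is Čech-acyclic -/
theorem exists_lift (S : ShortComplex (Sheaf J AddCommGrpCat.{u})) (hS : S.ShortExact)
    (hF : HomAcyc S.X₁) (K : Sheaf J (Type u)) (s : (Φ J).obj K ⟶ S.X₃) :
    ∃ t : (Φ J).obj K ⟶ S.X₂, t ≫ S.g = s := by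
  let adj := Sheaf.adjunction J AddCommGrpCat.adj.{u}
  haveI : Epi S.g := hS.epi_g
  haveI : Mono S.f := hS.mono_f
  haveI : Sheaf.IsLocallySurjective S.g :=
    (Sheaf.isLocallySurjective_iff_epi' (φ := S.g)).2 inferInstance
  haveI : Epi ((sheafCompose J (forget AddCommGrpCat.{u})).map S.g) := inferInstance
  let s' : K ⟶ (sheafCompose J (forget AddCommGrpCat.{u})).obj S.X₃ := adj.homEquiv K S.X₃ s
  let p : pullback s' ((sheafCompose J (forget AddCommGrpCat.{u})).map S.g) ⟶ K :=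
    pullback.fst _ _
  haveI : Epi p := epi_pullback_fst _ _
  let t' : (Φ J).obj (pullback s' ((sheafCompose J (forget AddCommGrpCat.{u})).map S.g)) ⟶ S.X₂ :=
    (adj.homEquiv _ S.X₂).symm (pullback.snd _ _)
  have ht' : t' ≫ S.g = (Φ J).map p ≫ s := by
    apply (adj.homEquiv _ S.X₃).injective
    rw [adj.homEquiv_naturality_right, adj.homEquiv_naturality_left, Equiv.apply_symm_apply]
    exact pullback.condition.symm
  let π₀ : WP p 0 ⟶ _ := WidePullback.π (fun _ : Fin 1 => p) 0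
  have haug : augΦ p = (Φ J).map π₀ ≫ (Φ J).map p := by
    rw [← Functor.map_comp, WidePullback.π_arrow]
    exact augΦ_eq p
  let t₀ : (Φ J).obj (WP p 0) ⟶ S.X₂ := (Φ J).map π₀ ≫ t'
  have ht₀ : t₀ ≫ S.g = augΦ p ≫ s := by
    rw [haug, Category.assoc, Category.assoc, ht']
  let z : (Φ J).obj (WP p 1) ⟶ S.X₂ := dΦ p 0 ≫ t₀
  have hz : z ≫ S.g = 0 := by
    rw [Category.assoc, ht₀, ← Category.assoc, dΦ_aug, zero_comp]
  let zF : (Φ J).obj (WP p 1) ⟶ S.X₁ := hS.exact.lift z hz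
  have hzF : zF ≫ S.f = z := hS.exact.lift_f z hz
  have hcoc : dΦ p 1 ≫ zF = 0 := by
    rw [← cancel_mono S.f, Category.assoc, hzF, zero_comp]
    show dΦ p 1 ≫ dΦ p 0 ≫ t₀ = 0
    rw [← Category.assoc, dΦ_comp, zero_comp]
  obtain ⟨u, hu⟩ := hF _ K p inferInstance 0 zF hcoc
  let t₁ : (Φ J).obj (WP p 0) ⟶ S.X₂ := t₀ - u ≫ S.f
  have ht₁ : dΦ p 0 ≫ t₁ = 0 := by
    have h' : dΦ p 0 ≫ u ≫ S.f = z := by rw [← Category.assoc, hu, hzF]
    show dΦ p 0 ≫ (t₀ - u ≫ S.f) = 0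
    rw [Preadditive.comp_sub, h']
    exact sub_self _
  let tb : (Φ J).obj K ⟶ S.X₂ := (S₀'_exact p).desc t₁ ht₁
  have htb : augΦ p ≫ tb = t₁ := (S₀'_exact p).g_desc t₁ ht₁
  refine ⟨tb, ?_⟩
  rw [← cancel_epi (augΦ p), ← Category.assoc, htb, Preadditive.sub_comp, ht₀, Category.assoc,
    S.zero, comp_zero, sub_zero]

open Groth.Agent.Helper9.SieveAcyc in
/-- (T2) `H¹(K, F) = 0` -/
lemma subsingleton_H1 (F : Sheaf J AddCommGrpCat.{u}) (hF : HomAcyc F) (K : Sheaf J (Type u)) :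
    Subsingleton (CohCx.HK K F 1) := by
  refine subsingleton_of_forall_eq 0 ?_
  intro (x : Ext.{u} ((Φ J).obj K) F 1)
  haveI : Injective (Ssh F).X₂ := by dsimp [Ssh]; infer_instance
  have hx : x.comp (Ext.mk₀ (Ssh F).f) (add_zero 1) = 0 := Ext.eq_zero_of_injective _
  obtain ⟨y, hy⟩ := Ext.covariant_sequence_exact₁ _ (hSsh F) x hx (zero_add 1)
  obtain ⟨s, rfl⟩ := (Ext.mk₀_bijective _ _).2 y
  obtain ⟨t, rfl⟩ := exists_lift (Ssh F) (hSsh F) hF K s
  rw [← hy, ← Ext.mk₀_comp_mk₀, Ext.comp_assoc _ _ _ (add_zero 0) (zero_add 1) (by omega),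
    (hSsh F).comp_extClass, Ext.comp_zero]
  rfl

/-- (T3) the quotient `I/F` is again Čech-acyclic -/
lemma homAcyc_X₃ (S : ShortComplex (Sheaf J AddCommGrpCat.{u})) (hS : S.ShortExact)
    [Injective S.X₂] (hF : HomAcyc S.X₁) : HomAcyc S.X₃ := by
  intro K' K f hf q c hc
  haveI : Mono S.f := hS.mono_f
  have hI : HomAcyc S.X₂ := homAcyc_of_injective _
  -- lift `c` to `b : ℤ[K'_{q+1}]^# ⟶ I`
  obtain ⟨b, hb⟩ := exists_lift S hS hF (WP f (q + 1)) c
  -- `d b` comes from `a : ℤ[K'_{q+2}]^# ⟶ F`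
  have hdb : (dΦ f (q + 1) ≫ b) ≫ S.g = 0 := by
    rw [Category.assoc, hb]
    exact hc
  let a : (Φ J).obj (WP f (q + 2)) ⟶ S.X₁ := hS.exact.lift _ hdb
  have ha : a ≫ S.f = dΦ f (q + 1) ≫ b := hS.exact.lift_f _ hdb
  have hda : dΦ f (q + 2) ≫ a = 0 := by
    rw [← cancel_mono S.f, Category.assoc, ha, ← Category.assoc, dΦ_comp, zero_comp,
      zero_comp]
  obtain ⟨a', ha'⟩ := hF K' K f hf (q + 1) a hda
  -- correct `b`
  let b' : (Φ J).obj (WP f (q + 1)) ⟶ S.X₂ := b - a' ≫ S.f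
  have hb'd : dΦ f (q + 1) ≫ b' = 0 := by
    have h' : dΦ f (q + 1) ≫ a' ≫ S.f = dΦ f (q + 1) ≫ b := by
      rw [← Category.assoc, ha', ha]
    show dΦ f (q + 1) ≫ (b - a' ≫ S.f) = 0
    rw [Preadditive.comp_sub, h']
    exact sub_self _
  have hb'g : b' ≫ S.g = c := by
    show (b - a' ≫ S.f) ≫ S.g = c
    rw [Preadditive.sub_comp, Category.assoc, S.zero, comp_zero, sub_zero, hb]
  obtain ⟨b'', hb''⟩ := hI K' K f hf q b' hb'd
  refine ⟨b'' ≫ S.g, ?_⟩
  rw [← Category.assoc, hb'', hb'g]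

open Groth.Agent.Helper9.SieveAcyc in
lemma homAcyc_Qsh (F : Sheaf J AddCommGrpCat.{u}) (hF : HomAcyc F) : HomAcyc (Qsh F) := by
  haveI : Injective (Ssh F).X₂ := by dsimp [Ssh]; infer_instance
  exact homAcyc_X₃ (Ssh F) (hSsh F) hF

open Groth.Agent.Helper9.SieveAcyc in
/-- Cartan's criterion in the topos -/
theorem main : ∀ (p : ℕ) (F : Sheaf J AddCommGrpCat.{u}), HomAcyc F →
    ∀ K : Sheaf J (Type u), Subsingleton (CohCx.HK K F (p + 1))
  | 0, F, hF, K => subsingleton_H1 F hF K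
  | p + 1, F, hF, K => by
    haveI := main p (Qsh F) (homAcyc_Qsh F hF) K
    refine subsingleton_of_forall_eq 0 ?_
    intro (x : Ext.{u} ((Φ J).obj K) F (p + 1 + 1))
    haveI : Injective (Ssh F).X₂ := by dsimp [Ssh]; infer_instance
    have hx : x.comp (Ext.mk₀ (Ssh F).f) (add_zero (p + 1 + 1)) = 0 := Ext.eq_zero_of_injective _
    obtain ⟨y, hy⟩ := Ext.covariant_sequence_exact₁ _ (hSsh F) x hx rfl
    have hy0 : y = 0 := Subsingleton.elim (α := CohCx.HK K (Qsh F) (p + 1)) _ _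
    rw [← hy, hy0, Ext.zero_comp]
    rfl

theorem totallyAcyclic_of_homAcyc (F : Sheaf J AddCommGrpCat.{u}) (hF : HomAcyc F) :
    CohCx.IsTotallyAcyclic F := fun K p => main p F hF K

/-- products of Čech-acyclic sheaves are Čech-acyclic -/
lemma homAcyc_pi {T : Type u} (F : T → Sheaf J AddCommGrpCat.{u}) (hF : ∀ t, HomAcyc (F t)) :
    HomAcyc (∏ᶜ F) := by
  intro K' K f hf q c hc
  have h : ∀ t, ∃ b : (Φ J).obj (WP f q) ⟶ F t, dΦ f q ≫ b = c ≫ Pi.π F t := fun t =>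
    hF t K' K f hf q (c ≫ Pi.π F t) (by rw [← Category.assoc, hc, zero_comp])
  choose b hb using h
  refine ⟨Pi.lift b, ?_⟩
  apply Pi.hom_ext
  intro t
  rw [Category.assoc, Pi.lift_π, hb]

end Groth.Agent.Helper9.CechNerveCartan
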