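import Mathlib

/-!
# Free sheaves of modules on presheaves of sets; restriction maps of injective modules
-/

namespace Groth.Agent.Helper9.ModFree

open CategoryTheory Limits Opposite

universe u

variable {C : Type u} [SmallCategory C] {J : GrothendieckTopology C} (O : Sheaf J RingCat.{u})

/-- the free sheaf of modules on a presheaf of sets -/
noncomputable abbrev L : (Cᵒᵖ ⥤ Type u) ⥤ SheafOfModules.{u} O :=
  PresheafOfModules.free O.obj ⋙ PresheafOfModules.sheafification (𝟙 O.obj)

/-- the underlying presheaf of sets of a sheaf of modules -/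
noncomputable abbrev G : SheafOfModules.{u} O ⥤ (Cᵒᵖ ⥤ Type u) :=
  (SheafOfModules.forget O ⋙ PresheafOfModules.restrictScalars (𝟙 O.obj)) ⋙
    (PresheafOfModules.toPresheaf O.obj ⋙ (Functor.whiskeringRight _ _ _).obj (forget Ab))

/-- the adjunction -/
noncomputable def adjL : L O ⊣ G O :=
  (PresheafOfModules.freeAdjunction O.obj).comp
    (PresheafOfModules.sheafificationAdjunction (𝟙 O.obj))

lemma mono_free_map {P Q : Cᵒᵖ ⥤ Type u} (φ : P ⟶ Q)
    (h : ∀ X, Function.Injective (φ.app X)) : Mono ((PresheafOfModules.free O.obj).map φ) := by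
  apply PresheafOfModules.mono_of_injective
  intro X
  exact Finsupp.mapDomain_injective (h X)

theorem restriction_surjective (I : SheafOfModules.{u} O) [Injective I] {U U' : C} (a : U' ⟶ U)
    [Mono a] : Function.Surjective (I.val.map a.op) := by
  intro x
  let φ' : yoneda.obj U' ⟶ (G O).obj I := yonedaEquiv.symm x
  let ψ' : (L O).obj (yoneda.obj U') ⟶ I := ((adjL O).homEquiv _ _).symm φ'
  haveI : Mono ((PresheafOfModules.free O.obj).map (yoneda.map a)) := by
    apply mono_free_map
    intro X g g' hgg'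
    exact (cancel_mono a).1 hgg'
  haveI : Mono ((L O).map (yoneda.map a)) :=
    (PresheafOfModules.sheafification (𝟙 O.obj)).map_mono _
  let ψ : (L O).obj (yoneda.obj U) ⟶ I := Injective.factorThru ψ' ((L O).map (yoneda.map a))
  have hψ : (L O).map (yoneda.map a) ≫ ψ = ψ' := Injective.comp_factorThru _ _
  refine ⟨yonedaEquiv ((adjL O).homEquiv _ _ ψ), ?_⟩
  have h1 : (adjL O).homEquiv _ _ ψ' = yoneda.map a ≫ (adjL O).homEquiv _ _ ψ := by
    rw [← hψ, (adjL O).homEquiv_naturality_left]
  have h2 : yonedaEquiv ((adjL O).homEquiv _ _ ψ') = x := by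
    show yonedaEquiv (((adjL O).homEquiv _ _) (((adjL O).homEquiv _ _).symm φ')) = x
    rw [Equiv.apply_symm_apply]
    exact Equiv.apply_symm_apply _ _
  rw [h1] at h2
  have h3 := yonedaEquiv_naturality ((adjL O).homEquiv _ _ ψ) a
  exact h3.trans h2

end Groth.Agent.Helper9.ModFree
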