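import Mathlib
import Groth.Agent.Helper9.CechNerveRes
import Groth.Agent.Helper9.ModFree

/-!
# The free `O`-module Čech nerve of an epimorphism of sheaves of sets is a resolution
(module version of `CechNerveRes`)
-/

namespace Groth.Agent.Helper9.ModCechRes

open CategoryTheory Limits Opposite Groth.Agent.Helper9.CechNerveSet Groth.Agent.Helper9.CechNerveRes

universe u

variable {C : Type u} [SmallCategory C] {J : GrothendieckTopology C} (O : Sheaf J RingCat.{u})
  {K' K : Sheaf J (Type u)} (f : K' ⟶ K)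

/-- free presheaf of `O`-modules on a sheaf of sets -/
noncomputable abbrev Ψm : Sheaf J (Type u) ⥤ PresheafOfModules.{u} O.obj :=
  sheafToPresheaf J (Type u) ⋙ PresheafOfModules.free O.obj

/-- the presheaf-level complex -/
noncomputable abbrev Pm : ChainComplex (PresheafOfModules.{u} O.obj) ℕ :=
  (AlgebraicTopology.alternatingFaceMapComplex _).obj
    (((SimplicialObject.whiskering _ _).obj (Ψm O)).obj (N f))

lemma Pm_d_app (n : ℕ) (U : C) :
    ((Pm O f).d (n + 1) n).app (op U) =
      ∑ i : Fin (n + 2), (-1 : ℤ) ^ (i : ℕ) •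
        (ModuleCat.free (O.obj.obj (op U))).map ((face f n i).hom.app (op U)) := by
  rw [AlgebraicTopology.alternatingFaceMapComplex_obj_d]
  unfold AlgebraicTopology.AlternatingFaceMapComplex.objD
  refine ((PresheafOfModules.evaluation O.obj (op U)).map_sum _ _).trans ?_
  refine Finset.sum_congr rfl (fun i _ => ?_)
  exact (PresheafOfModules.evaluation O.obj (op U)).map_zsmul

/-- the extra degeneracy on free modules of sections -/
noncomputable def Hm (n : ℕ) (U : C) :
    (ModuleCat.free (O.obj.obj (op U))).obj ((WP f n).obj.obj (op U)) ⟶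
      (ModuleCat.free (O.obj.obj (op U))).obj ((WP f (n + 1)).obj.obj (op U)) :=
  (ModuleCat.free (O.obj.obj (op U))).map (TypeCat.ofHom hmk)

/-- the differential on sections, with explicit source and target -/
noncomputable def Dm (n : ℕ) (U : C) :
    (ModuleCat.free (O.obj.obj (op U))).obj ((WP f (n + 1)).obj.obj (op U)) ⟶
      (ModuleCat.free (O.obj.obj (op U))).obj ((WP f n).obj.obj (op U)) :=
  ((Pm O f).d (n + 1) n).app (op U)

lemma Dm_eq (n : ℕ) (U : C) :
    Dm O f n U = ∑ i : Fin (n + 2), (-1 : ℤ) ^ (i : ℕ) •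
        (ModuleCat.free (O.obj.obj (op U))).map ((face f n i).hom.app (op U)) := Pm_d_app O f n U

lemma homotopy_succ (n : ℕ) (U : C) :
    Hm O f (n + 1) U ≫ Dm O f (n + 1) U + Dm O f n U ≫ Hm O f n U = 𝟙 _ := by
  rw [Dm_eq, Dm_eq, Fin.sum_univ_succ, Preadditive.comp_add, Preadditive.comp_sum,
    Preadditive.sum_comp]
  have h0 : Hm O f (n + 1) U ≫ ((-1 : ℤ) ^ ((0 : Fin (n + 3)) : ℕ) •
      (ModuleCat.free (O.obj.obj (op U))).map ((face f (n + 1) 0).hom.app (op U))) = 𝟙 _ := by
    rw [Fin.val_zero, pow_zero, one_smul]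
    unfold Hm
    rw [← Functor.map_comp, hmk_face_zero, CategoryTheory.Functor.map_id]
  have hs : ∀ i : Fin (n + 2), Hm O f (n + 1) U ≫ ((-1 : ℤ) ^ ((i.succ : Fin (n + 3)) : ℕ) •
      (ModuleCat.free (O.obj.obj (op U))).map ((face f (n + 1) i.succ).hom.app (op U))) =
      - (((-1 : ℤ) ^ (i : ℕ) •
        (ModuleCat.free (O.obj.obj (op U))).map ((face f n i).hom.app (op U))) ≫
        Hm O f n U) := by
    intro i
    unfold Hm
    rw [Preadditive.comp_zsmul, Preadditive.zsmul_comp, ← Functor.map_comp, hmk_face_succ,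
      Functor.map_comp, Fin.val_succ, pow_succ, mul_neg_one, neg_smul]
  rw [h0, Finset.sum_congr rfl (fun i _ => hs i), Finset.sum_neg_distrib, add_assoc,
    neg_add_cancel, add_zero]

lemma homotopy_succ_apply (n : ℕ) (U : C)
    (x : (ModuleCat.free (O.obj.obj (op U))).obj ((WP f (n + 1)).obj.obj (op U))) :
    Dm O f (n + 1) U (Hm O f (n + 1) U x) + Hm O f n U (Dm O f n U x) = x := by
  have h := ConcreteCategory.congr_hom (homotopy_succ O f n U) x
  exact h

/-- a short complex of presheaves of modules is exact if it is sectionwise exact -/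
lemma exact_of_app_mod (S : ShortComplex (PresheafOfModules.{u} O.obj))
    (h : ∀ (V : Cᵒᵖ) (x₂ : S.X₂.obj V), S.g.app V x₂ = 0 →
      ∃ x₁ : S.X₁.obj V, S.f.app V x₁ = x₂) : S.Exact := by
  rw [← ShortComplex.exact_map_iff_of_faithful S (PresheafOfModules.toPresheaf O.obj)]
  apply CechNerveRes.exact_of_app
  intro V x₂ hx₂
  exact h V x₂ hx₂

lemma Pm_exact (n : ℕ) : ((Pm O f).sc' (n + 2) (n + 1) n).Exact := by
  apply exact_of_app_mod
  intro U x hx
  induction U using Opposite.rec with | _ U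
  refine ⟨Hm O f (n + 1) U x, ?_⟩
  have h := homotopy_succ_apply O f n U x
  have hx' : Dm O f n U x = 0 := hx
  rw [hx', map_zero, add_zero] at h
  exact h

/-- the augmentation on sections -/
noncomputable def Em (U : C) :
    (ModuleCat.free (O.obj.obj (op U))).obj ((WP f 0).obj.obj (op U)) ⟶
      (ModuleCat.free (O.obj.obj (op U))).obj (K.obj.obj (op U)) :=
  (ModuleCat.free (O.obj.obj (op U))).map ((WidePullback.base (fun _ : Fin 1 => f)).hom.app (op U))

open scoped Classical in
/-- the (partial) section of the augmentation on sections -/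
noncomputable def Rm (U : C) :
    (ModuleCat.free (O.obj.obj (op U))).obj (K.obj.obj (op U)) ⟶
      (ModuleCat.free (O.obj.obj (op U))).obj ((WP f 0).obj.obj (op U)) :=
  ModuleCat.freeDesc (TypeCat.ofHom (fun b =>
    if hb : ∃ a : K'.obj.obj (op U), f.hom.app (op U) a = b then
      ModuleCat.freeMk (s0 b hb) else 0))

lemma mod_sum_apply {R : Type u} [Ring R] {A B : ModuleCat.{u} R} {κ : Type*} (s : Finset κ)
    (φ : κ → (A ⟶ B)) (a : A) : (∑ i ∈ s, φ i) a = ∑ i ∈ s, (φ i) a := by
  show (∑ i ∈ s, φ i).hom a = _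
  rw [ModuleCat.hom_sum, LinearMap.sum_apply]

lemma mod_zsmul_apply {R : Type u} [Ring R] {A B : ModuleCat.{u} R} (n : ℤ) (φ : A ⟶ B) (a : A) :
    (n • φ) a = n • φ a := rfl

lemma Dm_mk (n : ℕ) (U : C) (y : (WP f (n + 1)).obj.obj (op U)) :
    Dm O f n U (ModuleCat.freeMk y) =
      ∑ i : Fin (n + 2), (-1 : ℤ) ^ (i : ℕ) • ModuleCat.freeMk (dl i y) := by
  rw [Dm_eq]
  refine (mod_sum_apply _ _ _).trans ?_
  refine Finset.sum_congr rfl (fun i _ => ?_)
  refine (mod_zsmul_apply _ _ _).trans ?_
  congr 1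
  exact ModuleCat.free_map_apply _ _

lemma homotopy_zero (U : C) : Hm O f 0 U ≫ Dm O f 0 U + Em O f U ≫ Rm O f U = 𝟙 _ := by
  apply ModuleCat.free_hom_ext
  intro a
  show Dm O f 0 U (Hm O f 0 U (ModuleCat.freeMk a)) + Rm O f U (Em O f U (ModuleCat.freeMk a)) =
    ModuleCat.freeMk a
  have hH : Hm O f 0 U (ModuleCat.freeMk a) = ModuleCat.freeMk (hmk a) :=
    ModuleCat.free_map_apply _ _
  have hE : Em O f U (ModuleCat.freeMk a) = ModuleCat.freeMk (bs a) :=
    ModuleCat.free_map_apply _ _
  have hR : Rm O f U (ModuleCat.freeMk (bs a)) = ModuleCat.freeMk (s0 (bs a) (exists_of_wp a)) := by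
    unfold Rm
    rw [ModuleCat.freeDesc_apply]
    exact dif_pos (exists_of_wp a)
  rw [hH, Dm_mk, hE, hR, Fin.sum_univ_two, dl_zero_hmk, dl_one_hmk]
  simp only [Fin.val_zero, pow_zero, one_smul, Fin.val_one, pow_one, neg_smul]
  exact neg_add_cancel_right _ _

lemma homotopy_zero_apply (U : C)
    (x : (ModuleCat.free (O.obj.obj (op U))).obj ((WP f 0).obj.obj (op U))) :
    Dm O f 0 U (Hm O f 0 U x) + Rm O f U (Em O f U x) = x :=
  ConcreteCategory.congr_hom (homotopy_zero O f U) x

/-- sheafification of presheaves of `O`-modules -/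
noncomputable abbrev Sm : PresheafOfModules.{u} O.obj ⥤ SheafOfModules.{u} O :=
  PresheafOfModules.sheafification (𝟙 O.obj)

noncomputable instance : PreservesFiniteColimits (Sm O) := by
  have : (Sm O).IsLeftAdjoint := (PresheafOfModules.sheafificationAdjunction (𝟙 O.obj)).isLeftAdjoint
  infer_instance

instance : (Sm O).Additive := Functor.additive_of_preserves_binary_products _

/-- the free sheaf of `O`-modules on a sheaf of sets -/
noncomputable abbrev Φm : Sheaf J (Type u) ⥤ SheafOfModules.{u} O := Ψm O ⋙ Sm O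

/-- the augmented simplicial sheaf of modules -/
noncomputable abbrev Xm : SimplicialObject.Augmented (SheafOfModules.{u} O) :=
  ((SimplicialObject.Augmented.whiskering _ _).obj (Φm O)).obj (Arrow.mk f).augmentedCechNerve

/-- the sheaf-level complex -/
noncomputable abbrev Cm : ChainComplex (SheafOfModules.{u} O) ℕ :=
  (AlgebraicTopology.alternatingFaceMapComplex _).obj
    (SimplicialObject.Augmented.drop.obj (Xm O f))

lemma Cm_d (n : ℕ) : (Cm O f).d (n + 1) n = (Sm O).map ((Pm O f).d (n + 1) n) := by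
  rw [AlgebraicTopology.alternatingFaceMapComplex_obj_d,
    AlgebraicTopology.alternatingFaceMapComplex_obj_d]
  unfold AlgebraicTopology.AlternatingFaceMapComplex.objD
  rw [Functor.map_sum]
  refine Finset.sum_congr rfl (fun i _ => ?_)
  rw [Functor.map_zsmul]
  rfl

lemma Cm_exact (n : ℕ) : ((Cm O f).sc' (n + 2) (n + 1) n).Exact := by
  have h := (Pm_exact O f n).map (Sm O)
  refine ShortComplex.exact_of_iso ?_ h
  exact ShortComplex.isoMk (Iso.refl _) (Iso.refl _) (Iso.refl _)
    ((Category.id_comp _).trans ((Cm_d O f (n + 1)).trans (Category.comp_id _).symm))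
    ((Category.id_comp _).trans ((Cm_d O f n).trans (Category.comp_id _).symm))

lemma Dm_Em (U : C) : Dm O f 0 U ≫ Em O f U = 0 := by
  rw [Dm_eq, Preadditive.sum_comp, Fin.sum_univ_two]
  unfold Em
  rw [Preadditive.zsmul_comp, Preadditive.zsmul_comp, ← Functor.map_comp, ← Functor.map_comp]
  have h : ∀ i : Fin 2, (face f 0 i).hom.app (op U) ≫
      (WidePullback.base (fun _ : Fin 1 => f)).hom.app (op U) =
      (WidePullback.base (fun _ : Fin 2 => f)).hom.app (op U) := by
    intro i
    exact congrArg (fun g => g.hom.app (op U)) (face_base f 0 i)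
  rw [h, h]
  simp only [Fin.val_zero, pow_zero, one_smul, Fin.val_one, pow_one, neg_smul, add_neg_cancel]

/-- the augmentation at the presheaf level -/
noncomputable abbrev augPm : (Pm O f).X 0 ⟶ (Ψm O).obj K :=
  (Ψm O).map (WidePullback.base (fun _ : Fin 1 => f))

lemma d_augPm : (Pm O f).d 1 0 ≫ augPm O f = 0 := by
  apply PresheafOfModules.hom_ext
  intro U
  induction U using Opposite.rec with | _ U
  exact Dm_Em O f U

lemma Sp₀m_exact : (ShortComplex.mk _ _ (d_augPm O f)).Exact := by
  apply exact_of_app_mod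
  intro U x hx
  induction U using Opposite.rec with | _ U
  refine ⟨Hm O f 0 U x, ?_⟩
  have h := homotopy_zero_apply O f U x
  have hx' : Em O f U x = 0 := hx
  rw [hx', map_zero, add_zero] at h
  exact h

lemma Xm_hom_app : (Xm O f).hom.app (op (SimplexCategory.mk 0)) = (Sm O).map (augPm O f) :=
  Category.comp_id ((Φm O).map
    ((Arrow.mk f).augmentedCechNerve.hom.app (op (SimplexCategory.mk 0))))

lemma d_augm : (Cm O f).d 1 0 ≫ (Xm O f).hom.app (op (SimplexCategory.mk 0)) = 0 := by
  rw [Xm_hom_app, Cm_d]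
  exact ((Sm O).map_comp _ _).symm.trans (by rw [d_augPm, Functor.map_zero]; rfl)

lemma S₀m_exact : (ShortComplex.mk _ _ (d_augm O f)).Exact := by
  have h := (Sp₀m_exact O f).map (Sm O)
  refine ShortComplex.exact_of_iso ?_ h
  exact ShortComplex.isoMk (Iso.refl _) (Iso.refl _) (Iso.refl _)
    ((Category.id_comp _).trans ((Cm_d O f 0).trans (Category.comp_id _).symm))
    ((Category.id_comp _).trans ((Xm_hom_app O f).trans (Category.comp_id _).symm))

/-- the underlying sheaf of sets of a sheaf of modules -/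
noncomputable def Gs (F : SheafOfModules.{u} O) : Sheaf J (Type u) :=
  ⟨(ModFree.G O).obj F, by
    have h := F.isSheaf
    exact (isSheaf_iff_isSheaf_of_type J _).2
      ((Presheaf.isSheaf_iff_isSheaf_forget J F.val.presheaf (forget AddCommGrpCat.{u})).1 h |>
        (isSheaf_iff_isSheaf_of_type J _).1)⟩

/-- `Φm` preserves epimorphisms -/
lemma epi_Φm_map {L' L : Sheaf J (Type u)} (g : L' ⟶ L) [Epi g] : Epi ((Φm O).map g) := by
  constructor
  intro F g₁ g₂ h
  apply ((ModFree.adjL O).homEquiv _ _).injective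
  have h1 : g.hom ≫ (ModFree.adjL O).homEquiv _ _ g₁ = g.hom ≫ (ModFree.adjL O).homEquiv _ _ g₂ := by
    rw [← (ModFree.adjL O).homEquiv_naturality_left, ← (ModFree.adjL O).homEquiv_naturality_left]
    exact congrArg _ h
  have h2 : g ≫ (⟨(ModFree.adjL O).homEquiv _ _ g₁⟩ : L ⟶ Gs O F) =
      g ≫ (⟨(ModFree.adjL O).homEquiv _ _ g₂⟩ : L ⟶ Gs O F) := by
    ext1
    exact h1
  exact congrArg (fun t => t.hom) ((cancel_epi g).1 h2)

lemma epi_augm [Epi f] : Epi ((Xm O f).hom.app (op (SimplexCategory.mk 0))) := by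
  have hb : Epi (WidePullback.base (fun _ : Fin 1 => f)) := by
    let l : K' ⟶ WP f 0 := WidePullback.lift f (fun _ : Fin 1 => 𝟙 K')
      (fun _ => Category.id_comp _)
    have h : l ≫ WidePullback.base (fun _ : Fin 1 => f) = f := WidePullback.lift_base _ _ _ _
    have : Epi (l ≫ WidePullback.base (fun _ : Fin 1 => f)) := h.symm ▸ (inferInstance : Epi f)
    exact epi_of_epi l _
  have h : (Xm O f).hom.app (op (SimplexCategory.mk 0)) =
      (Φm O).map (WidePullback.base (fun _ : Fin 1 => f)) :=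
    Category.comp_id ((Φm O).map
      ((Arrow.mk f).augmentedCechNerve.hom.app (op (SimplexCategory.mk 0))))
  rw [h]
  exact epi_Φm_map O _

end Groth.Agent.Helper9.ModCechRes
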