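import Mathlib
import Groth.Prelude.Def_CohCx
import Groth.Agent.Helper9.ModCechRes
import Groth.Agent.Helper9.CechNerveCartan
import Groth.Agent.Helper3.SheafModLib
import Groth.Agent.Helper1.ExtLES

/-!
# Injective sheaves of modules are totally acyclic as abelian sheaves; `Ext_O(O[K], F) ≅ H(K, F_ab)`
-/

namespace Groth.Agent.Helper9.ModCechExt

open CategoryTheory Limits Opposite Abelian Groth.Agent.Helper9.CechNerveSet
  Groth.Agent.Helper9.CechNerveRes Groth.Agent.Helper9.ModCechRes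
  Groth.Agent.Helper9.CechNerveCartan

universe u

variable {C : Type u} [SmallCategory C] {J : GrothendieckTopology C} (O : Sheaf J RingCat.{u})

/-- the adjunction for abelian sheaves -/
noncomputable abbrev adjZ : Φ J ⊣ sheafCompose J (forget AddCommGrpCat.{u}) :=
  Sheaf.adjunction J AddCommGrpCat.adj.{u}

/-- morphisms of sheaves of sets from morphisms of presheaves -/
def toGs (M : Sheaf J (Type u)) (F : SheafOfModules.{u} O) :
    (M.obj ⟶ (ModFree.G O).obj F) ≃
      (M ⟶ (sheafCompose J (forget AddCommGrpCat.{u})).obj ((SheafOfModules.toSheaf O).obj F)) where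
  toFun a := ⟨a⟩
  invFun b := b.hom
  left_inv _ := rfl
  right_inv _ := rfl

/-- `Hom_O(O[M]^#, F) ≃ Hom(ℤ[M]^#, F_ab)` -/
noncomputable def β (M : Sheaf J (Type u)) (F : SheafOfModules.{u} O) :
    ((Φm O).obj M ⟶ F) ≃ ((Φ J).obj M ⟶ (SheafOfModules.toSheaf O).obj F) :=
  (((ModFree.adjL O).homEquiv M.obj F).trans (toGs O M F)).trans ((adjZ (J := J)).homEquiv M _).symm

lemma β_comp_right (M : Sheaf J (Type u)) {F F' : SheafOfModules.{u} O} (s : (Φm O).obj M ⟶ F)
    (t : F ⟶ F') : β O M F' (s ≫ t) = β O M F s ≫ (SheafOfModules.toSheaf O).map t := by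
  unfold β
  simp only [Equiv.trans_apply]
  rw [← Adjunction.homEquiv_naturality_right_symm]
  congr 1

lemma β_comp_left {M' M : Sheaf J (Type u)} (g : M' ⟶ M) {F : SheafOfModules.{u} O}
    (t : (Φm O).obj M ⟶ F) : β O M' F ((Φm O).map g ≫ t) = (Φ J).map g ≫ β O M F t := by
  unfold β
  simp only [Equiv.trans_apply]
  rw [← Adjunction.homEquiv_naturality_left_symm]
  congr 1
  have h := (ModFree.adjL O).homEquiv_naturality_left g.hom t
  ext1
  exact h

/-- the comparison morphism `ℤ[M]^# ⟶ (O[M]^#)_ab` -/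
noncomputable def θ (M : Sheaf J (Type u)) :
    (Φ J).obj M ⟶ (SheafOfModules.toSheaf O).obj ((Φm O).obj M) := β O M _ (𝟙 _)

lemma β_eq (M : Sheaf J (Type u)) {F : SheafOfModules.{u} O} (s : (Φm O).obj M ⟶ F) :
    β O M F s = θ O M ≫ (SheafOfModules.toSheaf O).map s := by
  unfold θ
  rw [← β_comp_right, Category.id_comp]

/-- `β` as an additive equivalence -/
noncomputable def βA (M : Sheaf J (Type u)) (F : SheafOfModules.{u} O) :
    ((Φm O).obj M ⟶ F) ≃+ ((Φ J).obj M ⟶ (SheafOfModules.toSheaf O).obj F) :=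
  { β O M F with
    map_add' := by
      intro s t
      show β O M F (s + t) = β O M F s + β O M F t
      rw [β_eq, β_eq, β_eq, Functor.map_add, Preadditive.comp_add] }

lemma βA_apply (M : Sheaf J (Type u)) {F : SheafOfModules.{u} O} (s : (Φm O).obj M ⟶ F) :
    βA O M F s = β O M F s := rfl

variable {K' K : Sheaf J (Type u)} (f : K' ⟶ K)

/-- typed differentials -/
noncomputable def Dsm (n : ℕ) : (Φm O).obj (WP f (n + 1)) ⟶ (Φm O).obj (WP f n) :=
  (Cm O f).d (n + 1) n

lemma Dsm_comp (n : ℕ) : Dsm O f (n + 1) ≫ Dsm O f n = 0 := (Cm O f).d_comp_d _ _ _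

lemma Dsm_eq (n : ℕ) : Dsm O f n =
    ∑ i : Fin (n + 2), (-1 : ℤ) ^ (i : ℕ) • (Φm O).map (face f n i) := by
  unfold Dsm
  rw [AlgebraicTopology.alternatingFaceMapComplex_obj_d]
  rfl

lemma dΦ_eq (n : ℕ) : dΦ f n =
    ∑ i : Fin (n + 2), (-1 : ℤ) ^ (i : ℕ) • (Φ J).map (face f n i) := by
  unfold dΦ
  rw [AlgebraicTopology.alternatingFaceMapComplex_obj_d]
  rfl

lemma β_D (n : ℕ) {F : SheafOfModules.{u} O} (t : (Φm O).obj (WP f n) ⟶ F) :
    β O _ F (Dsm O f n ≫ t) = dΦ f n ≫ β O _ F t := by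
  rw [Dsm_eq, dΦ_eq, Preadditive.sum_comp, Preadditive.sum_comp, ← βA_apply, map_sum]
  refine Finset.sum_congr rfl (fun i _ => ?_)
  rw [Preadditive.zsmul_comp, Preadditive.zsmul_comp, map_zsmul, βA_apply, β_comp_left]

lemma exists_desc {A : Type*} [Category A] [Abelian A] (S : ShortComplex A) (hS : S.Exact)
    (I : A) [Injective I] (c : S.X₂ ⟶ I) (hc : S.f ≫ c = 0) : ∃ b : S.X₃ ⟶ I, S.g ≫ b = c := by
  have hm : Mono (cokernel.desc S.f S.g S.zero) := (S.exact_iff_mono_cokernel_desc).1 hS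
  let c₁ : cokernel S.f ⟶ I := cokernel.desc S.f c hc
  refine ⟨Injective.factorThru c₁ (cokernel.desc S.f S.g S.zero), ?_⟩
  calc S.g ≫ Injective.factorThru c₁ (cokernel.desc S.f S.g S.zero)
      = (cokernel.π S.f ≫ cokernel.desc S.f S.g S.zero) ≫
          Injective.factorThru c₁ (cokernel.desc S.f S.g S.zero) := by rw [cokernel.π_desc]
    _ = c := by rw [Category.assoc, Injective.comp_factorThru, cokernel.π_desc]

/-- injective sheaves of modules have vanishing Čech cohomology -/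
theorem homAcyc_of_injective_mod (I : SheafOfModules.{u} O) [Injective I] :
    HomAcyc ((SheafOfModules.toSheaf O).obj I) := by
  intro K' K f hf q c hc
  let c' : (Φm O).obj (WP f (q + 1)) ⟶ I := (β O (WP f (q + 1)) I).symm c
  have hc' : β O _ I c' = c := Equiv.apply_symm_apply _ _
  have h0 : Dsm O f (q + 1) ≫ c' = 0 := by
    apply (β O _ I).injective
    rw [β_D, hc', hc]
    exact (map_zero (βA O _ I)).symm
  obtain ⟨b', hb'⟩ := exists_desc ((Cm O f).sc' (q + 2) (q + 1) q) (Cm_exact O f q) I c' h0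
  let b'' : (Φm O).obj (WP f q) ⟶ I := b'
  have hb'' : Dsm O f q ≫ b'' = c' := hb'
  refine ⟨β O _ I b'', ?_⟩
  rw [← β_D, hb'']
  exact hc'

theorem totallyAcyclic_of_injective_mod (I : SheafOfModules.{u} O) [Injective I] :
    CohCx.IsTotallyAcyclic ((SheafOfModules.toSheaf O).obj I) :=
  totallyAcyclic_of_homAcyc _ (homAcyc_of_injective_mod O I)

instance preservesFiniteColimits_toSheaf : PreservesFiniteColimits (SheafOfModules.toSheaf.{u} O) := by
  haveI := Groth.Agent.Helper3.SheafModLib.toSheaf_preservesColimits O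
  exact PreservesColimitsOfSize.preservesFiniteColimits _

instance enoughInjectives_mod : EnoughInjectives (SheafOfModules.{u} O) := by
  haveI := Groth.Agent.Helper3.SheafModLib.toSheaf_preservesColimits O
  haveI : (SheafOfModules.toSheaf.{u} O).IsLeftAdjoint :=
    Groth.Agent.Helper3.SheafModLib.isLeftAdjoint_of_preservesColimits O _
  exact EnoughInjectives.of_adjunction (Adjunction.ofIsLeftAdjoint (SheafOfModules.toSheaf.{u} O))

section ExtCmp

open Groth.Agent.Helper1.DeltaCmp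

variable [HasExt.{u} (SheafOfModules.{u} O)] (K : Sheaf J (Type u))

/-- `F ↦ Ext^n_O(O[K]^#, F)` -/
noncomputable abbrev T (n : ℕ) : SheafOfModules.{u} O ⥤ AddCommGrpCat.{u} :=
  extSeq (𝟭 (SheafOfModules.{u} O)) ((Φm O).obj K) n

/-- `F ↦ H^n(K, F_ab)` -/
noncomputable abbrev T' (n : ℕ) : SheafOfModules.{u} O ⥤ AddCommGrpCat.{u} :=
  extSeq (SheafOfModules.toSheaf.{u} O) ((Φ J).obj K) n

/-- the comparison in degree `0` -/
noncomputable def e₀ : T O K 0 ≅ T' O K 0 :=
  NatIso.ofComponents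
    (fun F => ((Ext.addEquiv₀.trans (βA O K F)).trans Ext.addEquiv₀.symm).toAddCommGrpIso)
    (by
      intro F G φ
      apply AddCommGrpCat.hom_ext
      apply AddMonoidHom.ext
      intro x
      obtain ⟨s, rfl⟩ := (Ext.mk₀_bijective _ _).2 x
      show Ext.mk₀ (β O K G (Ext.addEquiv₀ ((Ext.mk₀ s).comp (Ext.mk₀ φ) (add_zero 0)))) =
        (Ext.mk₀ (β O K F (Ext.addEquiv₀ (Ext.mk₀ s)))).comp
          (Ext.mk₀ ((SheafOfModules.toSheaf O).map φ)) (add_zero 0)
      have h1 : ∀ {A B : SheafOfModules.{u} O} (t : A ⟶ B), Ext.addEquiv₀ (Ext.mk₀ t) = t :=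
        fun t => Ext.addEquiv₀.apply_symm_apply t
      rw [Ext.mk₀_comp_mk₀, h1, h1, Ext.mk₀_comp_mk₀, β_comp_right]
      rfl)

theorem nonempty_iso (n : ℕ) (F : SheafOfModules.{u} O) :
    Nonempty ((T O K n).obj F ≅ (T' O K n).obj F) := by
  refine Groth.Agent.Helper1.DeltaCmp.nonempty_iso (T := T O K) (T' := T' O K) (fun _ => True)
    (e₀ O K) ?_ n F trivial
  intro F _
  let S : ShortComplex (SheafOfModules.{u} O) :=
    ShortComplex.mk (Injective.ι F) (cokernel.π (Injective.ι F)) (cokernel.condition _)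
  have hS : S.ShortExact :=
    { exact := ShortComplex.exact_cokernel _
      mono_f := by dsimp [S]; infer_instance
      epi_g := by dsimp [S]; infer_instance }
  haveI : Injective S.X₂ := by dsimp [S]; infer_instance
  refine ⟨{ S := S, iso := rfl, mem := trivial, zero := ?_, zero' := ?_,
            les := hasLES_extSeq _ _ S hS, les' := hasLES_extSeq _ _ S hS }⟩
  · intro n
    have : Subsingleton ((T O K (n + 1)).obj S.X₂) :=
      subsingleton_of_forall_eq 0 fun (x : Ext.{u} ((Φm O).obj K) S.X₂ (n + 1)) =>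
        Ext.eq_zero_of_injective x
    exact AddCommGrpCat.isZero_of_subsingleton _
  · intro n
    have : Subsingleton ((T' O K (n + 1)).obj S.X₂) :=
      totallyAcyclic_of_injective_mod O S.X₂ K n
    exact AddCommGrpCat.isZero_of_subsingleton _

theorem nonempty_addEquiv (F : SheafOfModules.{u} O) (p : ℕ) :
    Nonempty (Ext.{u} ((Φm O).obj K) F p ≃+ CohCx.HK K ((SheafOfModules.toSheaf O).obj F) p) := by
  obtain ⟨i⟩ := nonempty_iso O K p F
  exact ⟨i.addCommGroupIsoToAddEquiv⟩

end ExtCmp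

end Groth.Agent.Helper9.ModCechExt
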