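import Mathlib
import Groth.Prelude.Def_Coh
import Groth.Agent.Helper9.ModCechExt
import Groth.Agent.Helper1.SiteAcyc
import Groth.Agent.Helper1.Horseshoe
import Groth.Agent.Helper3.SheafModLib

/-!
# Higher direct images of modules and of their underlying abelian sheaves agree
-/

namespace Groth.Agent.Helper9.RpushCmp

open CategoryTheory Limits Opposite Abelian AlgebraicGeometry TopologicalSpace
  Groth.Agent.Helper1.DeltaCmp

universe u

variable {X Y : Scheme.{u}} (f : X ⟶ Y)

/-- the underlying abelian sheaf functor -/
noncomputable abbrev tA (X : Scheme.{u}) :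
    X.Modules ⥤ Sheaf (Opens.grothendieckTopology X) AddCommGrpCat.{u} :=
  SheafOfModules.toSheaf X.ringCatSheaf

instance (X : Scheme.{u}) : PreservesFiniteLimits (tA X) := by
  haveI : PreservesLimitsOfSize.{u, u} (tA X) :=
    Groth.Agent.Helper3.SheafModLib.toSheaf_preservesLimits X.ringCatSheaf
  exact PreservesLimitsOfSize.preservesFiniteLimits.{u, u} _

instance (X : Scheme.{u}) : PreservesFiniteColimits (tA X) :=
  Groth.Agent.Helper9.ModCechExt.preservesFiniteColimits_toSheaf X.ringCatSheaf

/-- direct image commutes with the underlying abelian sheaf -/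
noncomputable def pushIso : Coh.push f ⋙ tA Y ≅ tA X ⋙ Coh.pushAb f :=
  NatIso.ofComponents (fun F => Iso.refl _) (by intro F G φ; rfl)

instance : PreservesFiniteLimits (Coh.pushAb f) :=
  inferInstanceAs (PreservesFiniteLimits
    (CohSite.push (Opens.grothendieckTopology X) (Opens.grothendieckTopology Y)
      (Opens.map f.base)))

instance : PreservesFiniteLimits (Coh.push f) := by
  haveI : (Coh.push f).IsRightAdjoint := inferInstance
  infer_instance

variable [HasInjectiveResolutions X.Modules]

/-- `F ↦ (Rⁿ f_* F)_ab` -/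
noncomputable abbrev T (n : ℕ) :
    X.Modules ⥤ Sheaf (Opens.grothendieckTopology Y) AddCommGrpCat.{u} :=
  Coh.Rpush f n ⋙ tA Y

/-- `F ↦ Rⁿ f_* (F_ab)` -/
noncomputable abbrev T' (n : ℕ) :
    X.Modules ⥤ Sheaf (Opens.grothendieckTopology Y) AddCommGrpCat.{u} :=
  tA X ⋙ Coh.RpushAb f n

/-- degree zero -/
noncomputable def e₀ : T f 0 ≅ T' f 0 :=
  Functor.isoWhiskerRight (Coh.push f).rightDerivedZeroIsoSelf (tA Y) ≪≫ pushIso f ≪≫
    Functor.isoWhiskerLeft (tA X) (Coh.pushAb f).rightDerivedZeroIsoSelf.symm

theorem nonempty_iso (n : ℕ) (M : X.Modules) :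
    Nonempty ((T f n).obj M ≅ (T' f n).obj M) := by
  have key : ∀ F : X.Modules, True →
      Nonempty (Effacement (T f) (T' f) (fun _ => True) F) := by
    intro F _
    haveI : EnoughInjectives X.Modules :=
      Groth.Agent.Helper9.ModCechExt.enoughInjectives_mod X.ringCatSheaf
    let S : ShortComplex X.Modules :=
      ShortComplex.mk (Injective.ι F) (cokernel.π (Injective.ι F)) (cokernel.condition _)
    have hS : S.ShortExact :=
      { exact := ShortComplex.exact_cokernel _
        mono_f := by dsimp [S]; infer_instance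
        epi_g := by dsimp [S]; infer_instance }
    have hI : Injective S.X₂ := by dsimp [S]; infer_instance
    haveI := hI
    exact ⟨{
      S := S
      iso := rfl
      mem := trivial
      zero := fun n => Functor.map_isZero (tA Y)
        (Functor.isZero_rightDerived_obj_injective_succ _ _ _)
      zero' := fun n => Groth.Agent.Helper1.SiteCoh.isZero_Rpush_of_isTotallyAcyclic
        (Opens.grothendieckTopology X) (Opens.grothendieckTopology Y) (Opens.map f.base)
        (@Groth.Agent.Helper9.ModCechExt.totallyAcyclic_of_injective_mod _ _ _ X.ringCatSheaf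
          S.X₂ hI) n
      les := Groth.Agent.Helper1.SiteCoh.HasLES.comp
        (Groth.Agent.Helper1.Horseshoe.hasLES_rightDerived (Coh.push f) S hS) (tA Y)
      les' := Groth.Agent.Helper1.Horseshoe.hasLES_rightDerived (Coh.pushAb f) (S.map (tA X))
        (hS.map_of_exact (tA X)) }⟩
  exact Groth.Agent.Helper1.DeltaCmp.nonempty_iso (fun _ => True) (e₀ f) key n M trivial

end Groth.Agent.Helper9.RpushCmp
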