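import Mathlib
import Groth.Prelude.Def_CechEdge
import Groth.Agent.Helper1.CechBasic

/-! `Ȟ⁰` of a family and the sheaf condition. -/

set_option autoImplicit false
universe u

open CategoryTheory CategoryTheory.Limits Opposite

namespace Groth.Agent.Helper9.CechEdgeA

open Groth.Agent.Helper1.Cech

variable {C : Type u} [SmallCategory C] [HasPullbacks C] {U : C} {ι : Type u} (Y : ι → Over U)
  (P : Cᵒᵖ ⥤ AddCommGrpCat.{u})

/-- the restricted presheaf on `Over U` -/
abbrev Q : (Over U)ᵒᵖ ⥤ AddCommGrpCat.{u} := (Over.forget U).op ⋙ P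

/-- the constant index function -/
def one (i : ι) : Fin 1 → ι := fun _ => i

lemma eq_one (x : Fin 1 → ι) : x = one (x 0) := by
  funext k
  rw [Subsingleton.elim k 0]
  rfl

/-- components of `toCech₀` -/
lemma comp_toCech₀ (x : Fin 1 → ι) (s : P.obj (op U)) :
    comp Y (Q P) 0 x (CechEdge.toCech₀ P Y s) = P.map (prodU Y x).hom.op s := by
  have h : CechEdge.toCech₀ P Y ≫ comp Y (Q P) 0 x = P.map (prodU Y x).hom.op := by
    unfold CechEdge.toCech₀ comp
    erw [Pi.lift_π]
    rfl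
  have h' := ConcreteCategory.congr_hom h s
  rw [ConcreteCategory.comp_apply] at h'
  exact h'

/-- bijectivity of `toCech` in elementary terms -/
theorem bijective_toCech_iff :
    Function.Bijective (CechEdge.toCech Y P) ↔
      (∀ c : (CechEdge.cx P Y).X 0, (CechEdge.cx P Y).d 0 1 c = 0 →
        ∃ s, CechEdge.toCech₀ P Y s = c) ∧ Function.Injective (CechEdge.toCech₀ P Y) := by
  have h1 : Function.Bijective (CechEdge.toCech Y P) ↔
      IsIso (CechEdge.toCycles P Y ≫ (CechEdge.cx P Y).homologyπ 0) :=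
    (ConcreteCategory.isIso_iff_bijective _).symm
  haveI : IsIso ((CechEdge.cx P Y).homologyπ 0) :=
    HomologicalComplex.isIso_homologyπ _ 0 0 (by simp) (by simp)
  have h2 : IsIso (CechEdge.toCycles P Y ≫ (CechEdge.cx P Y).homologyπ 0) ↔
      IsIso (CechEdge.toCycles P Y) :=
    ⟨fun _ => IsIso.of_isIso_comp_right _ ((CechEdge.cx P Y).homologyπ 0), fun _ => inferInstance⟩
  have h3 := CochainComplex.isIso_liftCycles_iff (CechEdge.cx P Y) (CechEdge.toCech₀ P Y)
    (CechEdge.toCech₀_d P Y)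
  rw [h1, h2]
  refine (show IsIso (CechEdge.toCycles P Y) ↔ _ from h3).trans ?_
  rw [ShortComplex.ab_exact_iff, AddCommGrpCat.mono_iff_injective]

lemma map_map {A B D : Over U} (f : A ⟶ B) (g : B ⟶ D) (t : (Q P).obj (op D)) :
    (Q P).map f.op ((Q P).map g.op t) = (Q P).map (f ≫ g).op t := by
  rw [op_comp, Functor.map_comp]
  rfl

lemma map_id' {A : Over U} (f : A ⟶ A) (hf : f = 𝟙 A) (t : (Q P).obj (op A)) :
    (Q P).map f.op t = t := by
  subst hf
  simp
  rfl

/-- the projection from a one-fold product -/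
noncomputable def pr (x : Fin 1 → ι) : prodU Y x ⟶ Y (x 0) := Pi.π (Y ∘ x) 0

/-- a 0-cochain from a family of sections -/
noncomputable def cochainOf (s : ∀ i, (Q P).obj (op (Y i))) : (cx Y (Q P)).X 0 :=
  mk (fun x => (Q P).map (pr Y x).op (s (x 0)))

/-- the inverse of the projection from the one-fold product -/
noncomputable def toOne (i : ι) : Y i ⟶ prodU Y (one i) := Pi.lift (fun _ => 𝟙 (Y i))

/-- the projection from the one-fold product of `Y i` -/
noncomputable def prOne (i : ι) : prodU Y (one i) ⟶ Y i := Pi.π (Y ∘ one i) 0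

lemma toOne_prOne (i : ι) : toOne Y i ≫ prOne Y i = 𝟙 _ := by
  unfold toOne prOne
  erw [Pi.lift_π]

lemma prOne_toOne (i : ι) : prOne Y i ≫ toOne Y i = 𝟙 _ := by
  apply Pi.hom_ext
  intro k
  obtain rfl : k = 0 := Fin.fin_one_eq_zero k
  have h := toOne_prOne Y i
  unfold prOne at h ⊢
  erw [Category.assoc, h, Category.comp_id, Category.id_comp]

/-- the family of sections of a 0-cochain -/
noncomputable def familyOf (c : (cx Y (Q P)).X 0) (i : ι) : (Q P).obj (op (Y i)) :=
  (Q P).map (toOne Y i).op (comp Y (Q P) 0 (one i) c)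

lemma familyOf_cochainOf (s : ∀ i, (Q P).obj (op (Y i))) (i : ι) :
    familyOf Y P (cochainOf Y P s) i = s i := by
  unfold familyOf cochainOf
  rw [comp_mk]
  show (Q P).map (toOne Y i).op ((Q P).map (prOne Y i).op (s i)) = s i
  rw [map_map]
  exact map_id' P _ (toOne_prOne Y i) _

lemma cochainOf_familyOf (c : (cx Y (Q P)).X 0) : cochainOf Y P (familyOf Y P c) = c := by
  apply Groth.Agent.Helper1.Cech.ext
  intro x
  obtain ⟨i, rfl⟩ : ∃ i, x = one i := ⟨x 0, eq_one x⟩
  unfold familyOf cochainOf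
  rw [comp_mk]
  show (Q P).map (prOne Y i).op ((Q P).map (toOne Y i).op (comp Y (Q P) 0 (one i) c)) = _
  rw [map_map]
  exact map_id' P _ (prOne_toOne Y i) _

lemma toCech₀_eq (s : P.obj (op U)) :
    CechEdge.toCech₀ P Y s = cochainOf Y P (fun i => P.map (Y i).hom.op s) := by
  apply Groth.Agent.Helper1.Cech.ext
  intro x
  rw [comp_toCech₀]
  unfold cochainOf
  rw [comp_mk]
  show _ = P.map (pr Y x).left.op (P.map (Y (x 0)).hom.op s)
  rw [← ConcreteCategory.comp_apply, ← P.map_comp, ← op_comp, Over.w]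

lemma face_pr (j : Fin 2) (x : Fin 2 → ι) :
    face Y j x ≫ pr Y (x ∘ j.succAbove) = Pi.π (Y ∘ x) (j.succAbove 0) := by
  unfold face pr
  erw [Pi.lift_π]

lemma comp_d_cochainOf (s : ∀ i, (Q P).obj (op (Y i))) (x : Fin 2 → ι) :
    comp Y (Q P) 1 x ((cx Y (Q P)).d 0 1 (cochainOf Y P s)) =
      (Q P).map (Pi.π (Y ∘ x) 1).op (s (x 1)) - (Q P).map (Pi.π (Y ∘ x) 0).op (s (x 0)) := by
  rw [comp_d, Fin.sum_univ_two]
  have h : ∀ j : Fin 2, (Q P).map (face Y j x).op (comp Y (Q P) 0 (x ∘ j.succAbove) (cochainOf Y P s)) =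
      (Q P).map (Pi.π (Y ∘ x) (j.succAbove 0)).op (s (x (j.succAbove 0))) := by
    intro j
    unfold cochainOf
    rw [comp_mk, map_map]
    congr 3
    exact congrArg Quiver.Hom.op (face_pr Y j x)
  rw [h 0, h 1]
  have e0 : (Fin.succAbove (0 : Fin 2) (0 : Fin 1)) = 1 := rfl
  have e1 : (Fin.succAbove (1 : Fin 2) (0 : Fin 1)) = 0 := rfl
  rw [e0, e1]
  simp only [Fin.val_zero, Fin.val_one, pow_zero, pow_one, one_smul, neg_smul]
  abel

lemma d_cochainOf_eq_zero (s : ∀ i, (Q P).obj (op (Y i)))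
    (hs : Presieve.Arrows.Compatible (P ⋙ forget AddCommGrpCat.{u}) (fun i => (Y i).hom) s) :
    (cx Y (Q P)).d 0 1 (cochainOf Y P s) = 0 := by
  apply Groth.Agent.Helper1.Cech.ext
  intro x
  rw [comp_d_cochainOf, map_zero, sub_eq_zero]
  exact hs (x 1) (x 0) _ (Pi.π (Y ∘ x) 1).left (Pi.π (Y ∘ x) 0).left
    ((Over.w (Pi.π (Y ∘ x) 1)).trans (Over.w (Pi.π (Y ∘ x) 0)).symm)

/-- the morphism to a two-fold product -/
noncomputable def lift2 {Z' : Over U} {i j : ι} (a : Z' ⟶ Y i) (b : Z' ⟶ Y j) :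
    Z' ⟶ prodU Y ![i, j] :=
  Pi.lift (fun k => match k with | 0 => a | 1 => b)

lemma lift2_π0 {Z' : Over U} {i j : ι} (a : Z' ⟶ Y i) (b : Z' ⟶ Y j) :
    lift2 Y a b ≫ Pi.π (Y ∘ ![i, j]) 0 = a := by
  unfold lift2
  erw [Pi.lift_π]

lemma lift2_π1 {Z' : Over U} {i j : ι} (a : Z' ⟶ Y i) (b : Z' ⟶ Y j) :
    lift2 Y a b ≫ Pi.π (Y ∘ ![i, j]) 1 = b := by
  unfold lift2
  erw [Pi.lift_π]

lemma compatible_of_d_eq_zero (s : ∀ i, (Q P).obj (op (Y i)))
    (h : (cx Y (Q P)).d 0 1 (cochainOf Y P s) = 0) :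
    Presieve.Arrows.Compatible (P ⋙ forget AddCommGrpCat.{u}) (fun i => (Y i).hom) s := by
  intro i j Z gi gj hg
  let Z' : Over U := Over.mk (gi ≫ (Y i).hom)
  let a : Z' ⟶ Y i := Over.homMk gi rfl
  let b : Z' ⟶ Y j := Over.homMk gj hg.symm
  have h1 := comp_d_cochainOf Y P s ![i, j]
  rw [h, map_zero] at h1
  have h2 : (Q P).map (Pi.π (Y ∘ ![i, j]) 1).op (s j) =
      (Q P).map (Pi.π (Y ∘ ![i, j]) 0).op (s i) := sub_eq_zero.1 h1.symm
  have h3 := congrArg ((Q P).map (lift2 Y a b).op) h2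
  erw [map_map, map_map, lift2_π0, lift2_π1] at h3
  exact h3.symm

/-- `toCech` is bijective iff the family of arrows satisfies the sheaf condition -/
theorem bijective_toCech_iff_isSheafFor :
    Function.Bijective (CechEdge.toCech Y P) ↔
      (Presieve.ofArrows (fun i => (Y i).left) (fun i => (Y i).hom)).IsSheafFor
        (P ⋙ forget AddCommGrpCat.{u}) := by
  rw [bijective_toCech_iff, Presieve.isSheafFor_arrows_iff]
  constructor
  · rintro ⟨hex, hinj⟩ s hs
    obtain ⟨t, ht⟩ := hex (cochainOf Y P s) (d_cochainOf_eq_zero Y P s hs)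
    rw [toCech₀_eq] at ht
    have ht' : ∀ i, P.map (Y i).hom.op t = s i := by
      intro i
      have := congrArg (fun c => familyOf Y P c i) ht
      exact ((familyOf_cochainOf Y P _ i).symm.trans this).trans (familyOf_cochainOf Y P _ i)
    refine ⟨t, ht', fun t' h' => hinj ?_⟩
    rw [toCech₀_eq, toCech₀_eq]
    congr 1
    funext i
    exact (h' i).trans (ht' i).symm
  · intro h
    constructor
    · intro c hc
      rw [← cochainOf_familyOf Y P c] at hc
      obtain ⟨t, ht, -⟩ := h (familyOf Y P c) (compatible_of_d_eq_zero Y P _ hc)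
      refine ⟨t, ?_⟩
      rw [toCech₀_eq, ← cochainOf_familyOf Y P c]
      congr 1
      funext i
      exact ht i
    · intro t t' htt
      rw [toCech₀_eq, toCech₀_eq] at htt
      have hs : ∀ i, P.map (Y i).hom.op t = P.map (Y i).hom.op t' := by
        intro i
        have := congrArg (fun c => familyOf Y P c i) htt
        exact ((familyOf_cochainOf Y P _ i).symm.trans this).trans (familyOf_cochainOf Y P _ i)
      have hcomp : Presieve.Arrows.Compatible (P ⋙ forget AddCommGrpCat.{u})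
          (fun i => (Y i).hom) (fun i => P.map (Y i).hom.op t) := by
        intro i j Z gi gj hg
        show P.map gi.op (P.map (Y i).hom.op t) = P.map gj.op (P.map (Y j).hom.op t)
        rw [← ConcreteCategory.comp_apply, ← ConcreteCategory.comp_apply, ← P.map_comp,
          ← P.map_comp, ← op_comp, ← op_comp, hg]
      obtain ⟨t₀, -, huniq⟩ := h _ hcomp
      exact (huniq t (fun i => rfl)).trans (huniq t' (fun i => (hs i).symm)).symm

end Groth.Agent.Helper9.CechEdgeA
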