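import Mathlib
import Groth.Prelude.Def_CechEdge
import Groth.Agent.Helper1.CechDelta
import Groth.Agent.Helper1.DeltaHom
import Groth.Agent.Helper1.DeltaComp
import Groth.Agent.Helper9.CechEdgeA

/-! The Ext δ-functor, and edge families as morphisms of δ-functors. -/

set_option autoImplicit false
universe w v u

open CategoryTheory CategoryTheory.Limits Opposite Abelian

namespace Groth.Agent.Helper9.CechEdgeB

open Groth.Agent.Helper1.DeltaFun

section ExtDelta

variable {𝒜 : Type u} [Category.{v} 𝒜] [Abelian 𝒜] [HasExt.{w} 𝒜]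

/-- `Ext^•(X, -)` (Mathlib's `Ext`) as a δ-functor. -/
noncomputable def extDeltaM (X : 𝒜) : DeltaFunctor 𝒜 AddCommGrpCat.{w} where
  T n := extFunctorObj X n
  δ S hS n := AddCommGrpCat.ofHom (hS.extClass.postcomp X rfl)
  δ_nat {S S'} φ hS hS' n := by
    apply AddCommGrpCat.hom_ext
    apply AddMonoidHom.ext
    intro (x : Ext.{w} X S.X₃ n)
    show (x.comp hS.extClass rfl).comp (Ext.mk₀ φ.τ₁) (add_zero _) =
      (x.comp (Ext.mk₀ φ.τ₃) (add_zero _)).comp hS'.extClass rfl
    rw [Ext.comp_assoc_of_third_deg_zero, ShortComplex.ShortExact.extClass_naturality hS hS' φ,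
      Ext.comp_assoc_of_second_deg_zero]
  w₃ S hS n := by
    apply AddCommGrpCat.hom_ext
    apply AddMonoidHom.ext
    intro (x : Ext.{w} X S.X₂ n)
    show (x.comp (Ext.mk₀ S.g) (add_zero _)).comp hS.extClass rfl = 0
    rw [Ext.comp_assoc_of_second_deg_zero, ShortComplex.ShortExact.comp_extClass, Ext.comp_zero]
  w₁ S hS n := by
    apply AddCommGrpCat.hom_ext
    apply AddMonoidHom.ext
    intro (x : Ext.{w} X S.X₃ n)
    show (x.comp hS.extClass rfl).comp (Ext.mk₀ S.f) (add_zero _) = 0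
    rw [Ext.comp_assoc_of_third_deg_zero, ShortComplex.ShortExact.extClass_comp, Ext.comp_zero]
  exact₃ S hS n := Ext.covariant_sequence_exact₃' X hS n (n + 1) rfl
  exact₁ S hS n := Ext.covariant_sequence_exact₁' X hS n (n + 1) rfl

end ExtDelta

section Edge

open Groth.Agent.Helper1.Cech Groth.Agent.Helper9.CechEdgeA

variable {C : Type u} [SmallCategory C] [HasPullbacks C] (J : GrothendieckTopology C) {U : C}
  {ι : Type u} (Y : ι → Over U)

/-- naturality of `toCech₀` -/
lemma toCech₀_naturality {P P' : Cᵒᵖ ⥤ AddCommGrpCat.{u}} (ψ : P ⟶ P') (s : P.obj (op U)) :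
    ((CechEdge.cxFunctor Y).map ψ).f 0 (CechEdge.toCech₀ P Y s) =
      CechEdge.toCech₀ P' Y (ψ.app (op U) s) := by
  apply Groth.Agent.Helper1.Cech.ext
  intro x
  have h1 := comp_map (U := Y) (P := Q P) (Q := Q P')
    (Functor.whiskerLeft (Over.forget U).op ψ) 0 x (CechEdge.toCech₀ P Y s)
  have h2 := comp_toCech₀ Y P x s
  have h3 := comp_toCech₀ Y P' x (ψ.app (op U) s)
  have h4 : ψ.app (op (prodU Y x).left) (P.map (prodU Y x).hom.op s) =
      P'.map (prodU Y x).hom.op (ψ.app (op U) s) := NatTrans.naturality_apply ψ _ s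
  exact h1.trans ((congrArg (ψ.app (op (prodU Y x).left)) h2).trans (h4.trans h3.symm))

/-- naturality of `toCech` -/
lemma toCech_naturality {P P' : Cᵒᵖ ⥤ AddCommGrpCat.{u}} (ψ : P ⟶ P') (s : P.obj (op U)) :
    CechEdge.cechHMap Y ψ 0 (CechEdge.toCech Y P s) = CechEdge.toCech Y P' (ψ.app (op U) s) := by
  have e : CechEdge.toCech₀ P Y ≫ ((CechEdge.cxFunctor Y).map ψ).f 0 =
      ψ.app (op U) ≫ CechEdge.toCech₀ P' Y := by
    ext s
    exact toCech₀_naturality Y ψ s
  have h : CechEdge.toCycles P Y ≫ HomologicalComplex.cyclesMap ((CechEdge.cxFunctor Y).map ψ) 0 =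
      ψ.app (op U) ≫ CechEdge.toCycles P' Y := by
    refine (HomologicalComplex.liftCycles_comp_cyclesMap (K := CechEdge.cx P Y)
      (L := CechEdge.cx P' Y) (CechEdge.toCech₀ P Y) 1 (by simp) (CechEdge.toCech₀_d P Y)
      ((CechEdge.cxFunctor Y).map ψ)).trans ?_
    refine Eq.trans ?_ (HomologicalComplex.comp_liftCycles (K := CechEdge.cx P' Y)
      (CechEdge.toCech₀ P' Y) 1 (by simp) (CechEdge.toCech₀_d P' Y) (ψ.app (op U))).symm
    congr 1
  have h' : (CechEdge.toCycles P Y ≫ (CechEdge.cx P Y).homologyπ 0) ≫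
      HomologicalComplex.homologyMap ((CechEdge.cxFunctor Y).map ψ) 0 =
      ψ.app (op U) ≫ CechEdge.toCycles P' Y ≫ (CechEdge.cx P' Y).homologyπ 0 := by
    have hn := HomologicalComplex.homologyπ_naturality ((CechEdge.cxFunctor Y).map ψ) 0
    rw [Category.assoc]
    refine (congrArg (fun z => CechEdge.toCycles P Y ≫ z) hn).trans ?_
    exact (Category.assoc _ _ _).symm.trans
      ((congrArg (fun z => z ≫ (CechEdge.cx P' Y).homologyπ 0) h).trans (Category.assoc _ _ _))
  exact ConcreteCategory.congr_hom h' s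

/-- presheaves of abelian groups form a Grothendieck abelian category -/
instance : IsGrothendieckAbelian.{u} (Cᵒᵖ ⥤ AddCommGrpCat.{u}) := by
  have : AB5OfSize.{u, u} (Cᵒᵖ ⥤ AddCommGrpCat.{u}) := ⟨fun J _ _ => inferInstance⟩
  exact {}

/-- the Čech δ-functor -/
noncomputable abbrev TC : DeltaFunctor (Cᵒᵖ ⥤ AddCommGrpCat.{u}) AddCommGrpCat.{u} :=
  Groth.Agent.Helper1.CechDelta.cechDelta Y

lemma TC_effaceable : (TC Y).Effaceable := Groth.Agent.Helper1.CechDelta.cechDelta_effaceable Y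

/-- the cohomology δ-functor `P ↦ H^•(U, P^#)` -/
noncomputable def TH (U : C) : DeltaFunctor (Cᵒᵖ ⥤ AddCommGrpCat.{u}) AddCommGrpCat.{u} :=
  (extDeltaM.{u} (CohCx.freeSheaf J U)).precomp (presheafToSheaf J AddCommGrpCat.{u})
    (fun _ hS => hS.map_of_exact _)

variable {J}

/-- for a sheaf and a covering family, sections over `U` are `Ȟ⁰` -/
lemma bijective_toCech_of_isSheaf
    (hY : Sieve.ofArrows (fun i => (Y i).left) (fun i => (Y i).hom) ∈ J U)
    (F : Sheaf J AddCommGrpCat.{u}) : Function.Bijective (CechEdge.toCech Y F.obj) := by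
  rw [bijective_toCech_iff_isSheafFor]
  have h1 : Presieve.IsSheaf J (F.obj ⋙ forget AddCommGrpCat.{u}) :=
    (isSheaf_iff_isSheaf_of_type _ _).1
      ((Presheaf.isSheaf_iff_isSheaf_forget J F.obj (forget AddCommGrpCat.{u})).1 F.property)
  exact (Presieve.isSheafFor_iff_generate _).2 (h1 _ hY)

/-- `sectH0` is natural -/
lemma sectH0_naturality {F G : Sheaf J AddCommGrpCat.{u}} (ψ : F ⟶ G) (s : F.obj.obj (op U)) :
    CechEdge.HUmap ψ 0 U (CechEdge.sectH0 J U F s) =
      CechEdge.sectH0 J U G (ψ.hom.app (op U) s) := by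
  have h1 : ∀ (H : Sheaf J AddCommGrpCat.{u}) (t : H.obj.obj (op U)),
      CechEdge.sectH0 J U H t = Ext.mk₀ (CohFree.ofSect J U H t) := by
    intro H t
    apply (CechEdge.sectH0 J U H).symm.injective
    rw [AddEquiv.symm_apply_apply]
    show t = CohFree.homEquivSect J U H (Ext.addEquiv₀ (Ext.mk₀ (CohFree.ofSect J U H t)))
    have : Ext.addEquiv₀ (Ext.mk₀ (CohFree.ofSect J U H t)) = CohFree.ofSect J U H t := by
      apply (Ext.mk₀_bijective _ _).1
      rw [Ext.mk₀_addEquiv₀_apply]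
    rw [this]
    exact (CohFree.evalGen_ofSect J U H t).symm
  rw [h1, h1]
  show (Ext.mk₀ (CohFree.ofSect J U F s)).comp (Ext.mk₀ ψ) (add_zero 0) = _
  rw [Ext.mk₀_comp_mk₀]
  congr 1
  apply (CohFree.homEquivSect J U G).injective
  rw [CohFree.homEquivSect_apply, CohFree.homEquivSect_apply, CohFree.evalGen_ofSect]
  show (ψ.hom.app (op U)) (((CohFree.ofSect J U F s).hom.app (op U)) (CohFree.gen J U)) = _
  congr 1
  exact CohFree.evalGen_ofSect J U F s

lemma cechHMap_comp {P P' P'' : Cᵒᵖ ⥤ AddCommGrpCat.{u}} (a : P ⟶ P') (b : P' ⟶ P'') (p : ℕ)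
    (x : CohCx.cechH P Y p) :
    CechEdge.cechHMap Y (a ≫ b) p x = CechEdge.cechHMap Y b p (CechEdge.cechHMap Y a p x) := by
  show (HomologicalComplex.homologyMap ((CechEdge.cxFunctor Y).map (a ≫ b)) p) x = _
  rw [Functor.map_comp, HomologicalComplex.homologyMap_comp]
  rfl

variable (hY : Sieve.ofArrows (fun i => (Y i).left) (fun i => (Y i).hom) ∈ J U)

/-- the inverse of `toCech` on a sheaf -/
noncomputable def secOf (F : Sheaf J AddCommGrpCat.{u}) : CohCx.cechH F.obj Y 0 ≃+ F.obj.obj (op U) :=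
  (AddEquiv.ofBijective (CechEdge.toCech Y F.obj) (bijective_toCech_of_isSheaf Y hY F)).symm

lemma toCech_secOf (F : Sheaf J AddCommGrpCat.{u}) (y : CohCx.cechH F.obj Y 0) :
    CechEdge.toCech Y F.obj (secOf Y hY F y) = y :=
  (AddEquiv.ofBijective (CechEdge.toCech Y F.obj) (bijective_toCech_of_isSheaf Y hY F)).apply_symm_apply y

lemma secOf_toCech (F : Sheaf J AddCommGrpCat.{u}) (t : F.obj.obj (op U)) :
    secOf Y hY F (CechEdge.toCech Y F.obj t) = t :=
  (AddEquiv.ofBijective (CechEdge.toCech Y F.obj) (bijective_toCech_of_isSheaf Y hY F)).symm_apply_apply t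

/-- the degree zero edge map -/
noncomputable def e₀ (P : Cᵒᵖ ⥤ AddCommGrpCat.{u}) :
    CohCx.cechH P Y 0 →+ CohSite.HU (CechEdge.shf J P) 0 U :=
  (CechEdge.sectH0 J U (CechEdge.shf J P)).toAddMonoidHom.comp
    ((secOf Y hY (CechEdge.shf J P)).toAddMonoidHom.comp (CechEdge.cechHMap Y (toSheafify J P) 0))

lemma e₀_eq (P : Cᵒᵖ ⥤ AddCommGrpCat.{u}) (x : CohCx.cechH P Y 0)
    (t : (CechEdge.shf J P).obj.obj (op U))
    (ht : CechEdge.toCech Y (CechEdge.shf J P).obj t = CechEdge.cechHMap Y (toSheafify J P) 0 x) :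
    e₀ Y hY P x = CechEdge.sectH0 J U (CechEdge.shf J P) t := by
  show CechEdge.sectH0 J U (CechEdge.shf J P)
    (secOf Y hY (CechEdge.shf J P) (CechEdge.cechHMap Y (toSheafify J P) 0 x)) = _
  rw [← ht, secOf_toCech]

lemma e₀_toCech (P : Cᵒᵖ ⥤ AddCommGrpCat.{u}) (s : P.obj (op U)) :
    e₀ Y hY P (CechEdge.toCech Y P s) =
      CechEdge.sectH0 J U (CechEdge.shf J P) (((toSheafify J P).app (op U)).hom s) :=
  e₀_eq Y hY P _ _ (toCech_naturality Y (toSheafify J P) s).symm

lemma e₀_natural {P P' : Cᵒᵖ ⥤ AddCommGrpCat.{u}} (ψ : P ⟶ P') (x : CohCx.cechH P Y 0) :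
    e₀ Y hY P' (CechEdge.cechHMap Y ψ 0 x) =
      CechEdge.HUmap (CechEdge.shfMap J ψ) 0 U (e₀ Y hY P x) := by
  set t := secOf Y hY (CechEdge.shf J P) (CechEdge.cechHMap Y (toSheafify J P) 0 x) with ht
  have h1 : CechEdge.toCech Y (CechEdge.shf J P).obj t =
      CechEdge.cechHMap Y (toSheafify J P) 0 x := toCech_secOf Y hY _ _
  rw [e₀_eq Y hY P x t h1, sectH0_naturality]
  apply e₀_eq
  rw [← toCech_naturality, h1, ← cechHMap_comp, ← cechHMap_comp]
  have h2 : toSheafify J P ≫ (CechEdge.shfMap J ψ).hom = ψ ≫ toSheafify J P' :=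
    (toSheafify_naturality J ψ).symm
  rw [h2]

/-- the degree-zero natural transformation -/
noncomputable def φ₀ : (TC Y).T 0 ⟶ (TH J U).T 0 where
  app P := AddCommGrpCat.ofHom (e₀ Y hY P)
  naturality P P' ψ := by
    apply AddCommGrpCat.hom_ext
    apply AddMonoidHom.ext
    intro x
    exact e₀_natural Y hY ψ x

include hY in
theorem exists_isEdge :
    ∃ e : ∀ (P : Cᵒᵖ ⥤ AddCommGrpCat.{u}) (p : ℕ),
      CohCx.cechH P Y p →+ CohSite.HU (CechEdge.shf J P) p U, CechEdge.IsEdge J Y e := by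
  let f := extHom (TC_effaceable Y) (φ₀ Y hY)
  refine ⟨fun P p => ((f.app p).app P).hom, ?_⟩
  exact
    { cover := hY
      zero := fun P s => e₀_toCech Y hY P s
      natural := fun P P' ψ p x => ConcreteCategory.congr_hom ((f.app p).naturality ψ) x
      delta := fun S hS hC p x => ConcreteCategory.congr_hom (f.comm S hS p) x }

/-- an edge family as a morphism of δ-functors -/
noncomputable def homOfIsEdge
    (e : ∀ (P : Cᵒᵖ ⥤ AddCommGrpCat.{u}) (p : ℕ),
      CohCx.cechH P Y p →+ CohSite.HU (CechEdge.shf J P) p U)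
    (he : CechEdge.IsEdge J Y e) : (TC Y).Hom (TH J U) where
  app p :=
    { app := fun P => AddCommGrpCat.ofHom (e P p)
      naturality := fun P P' ψ => by
        apply AddCommGrpCat.hom_ext
        apply AddMonoidHom.ext
        intro x
        exact he.natural P P' ψ p x }
  comm S hS p := by
    apply AddCommGrpCat.hom_ext
    apply AddMonoidHom.ext
    intro x
    exact he.delta S hS (Groth.Agent.Helper1.CechDelta.hK Y S hS) p x

theorem isEdge_zero_unique
    (e e' : ∀ (P : Cᵒᵖ ⥤ AddCommGrpCat.{u}) (p : ℕ),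
      CohCx.cechH P Y p →+ CohSite.HU (CechEdge.shf J P) p U)
    (he : CechEdge.IsEdge J Y e) (he' : CechEdge.IsEdge J Y e')
    (P : Cᵒᵖ ⥤ AddCommGrpCat.{u}) (x : CohCx.cechH P Y 0) : e P 0 x = e' P 0 x := by
  have hY := he.cover
  haveI : IsIso (CechEdge.shfMap J (toSheafify J P)) := by
    have h := (sheafificationAdjunction J AddCommGrpCat.{u}).left_triangle_components P
    haveI : IsIso (CechEdge.shfMap J (toSheafify J P) ≫
        (sheafificationAdjunction J AddCommGrpCat.{u}).counit.app (CechEdge.shf J P)) := by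
      rw [show CechEdge.shfMap J (toSheafify J P) ≫
        (sheafificationAdjunction J AddCommGrpCat.{u}).counit.app (CechEdge.shf J P) = 𝟙 _ from h]
      infer_instance
    exact IsIso.of_isIso_comp_right _
      ((sheafificationAdjunction J AddCommGrpCat.{u}).counit.app (CechEdge.shf J P))
  have hinj : Function.Injective (CechEdge.HUmap (CechEdge.shfMap J (toSheafify J P)) 0 U) := by
    have : IsIso ((extFunctorObj (CohCx.freeSheaf J U) 0).map
        (CechEdge.shfMap J (toSheafify J P))) := inferInstance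
    exact ((ConcreteCategory.isIso_iff_bijective _).1 this).1
  apply hinj
  rw [← he.natural, ← he'.natural]
  obtain ⟨t, ht⟩ := (bijective_toCech_of_isSheaf Y hY (CechEdge.shf J P)).2
    (CechEdge.cechHMap Y (toSheafify J P) 0 x)
  rw [← ht, he.zero, he'.zero]

theorem isEdge_unique
    (e e' : ∀ (P : Cᵒᵖ ⥤ AddCommGrpCat.{u}) (p : ℕ),
      CohCx.cechH P Y p →+ CohSite.HU (CechEdge.shf J P) p U)
    (he : CechEdge.IsEdge J Y e) (he' : CechEdge.IsEdge J Y e') : e = e' := by
  have h0 : (homOfIsEdge Y e he).app 0 = (homOfIsEdge Y e' he').app 0 := by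
    ext P x
    exact isEdge_zero_unique Y e e' he he' P x
  funext P p
  apply AddMonoidHom.ext
  intro x
  have := DeltaFunctor.Hom.eq_of_zero (TC_effaceable Y) _ _ h0 p
  exact ConcreteCategory.congr_hom (NatTrans.congr_app this P) x

end Edge

end Groth.Agent.Helper9.CechEdgeB
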