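import Mathlib

set_option autoImplicit false
universe w w' u
open CategoryTheory Limits

namespace Groth.Agent.Helper9.LimHom

section Basic

variable {J : Type w} [Category.{w'} J]

/-- elementwise extensionality in a limit of abelian groups -/
lemma lim_ext (F : J ⥤ AddCommGrpCat.{u}) [HasLimit F] [PreservesLimit F (forget AddCommGrpCat.{u})]
    (x y : (limit F : AddCommGrpCat.{u}))
    (h : ∀ j, (limit.π F j).hom x = (limit.π F j).hom y) : x = y :=
  Concrete.limit_ext F x y h

/-- elements of a limit from compatible families -/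
lemma lim_mk (F : J ⥤ AddCommGrpCat.{u}) [HasLimit F] [PreservesLimit F (forget AddCommGrpCat.{u})]
    (y : ∀ j, F.obj j) (hy : ∀ (i j : J) (f : i ⟶ j), (F.map f).hom (y i) = y j) :
    ∃ x : (limit F : AddCommGrpCat.{u}), ∀ j, (limit.π F j).hom x = y j := by
  let hl := isLimitOfPreserves (forget AddCommGrpCat) (limit.isLimit F)
  let e := Types.isLimitEquivSections hl
  refine ⟨e.symm ⟨y, fun {i j} f => hy i j f⟩, fun j => ?_⟩
  exact Types.isLimitEquivSections_symm_apply hl _ j

lemma lim_compat (F : J ⥤ AddCommGrpCat.{u}) [HasLimit F] (x : (limit F : AddCommGrpCat.{u}))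
    (i j : J) (f : i ⟶ j) : (F.map f).hom ((limit.π F i).hom x) = (limit.π F j).hom x := by
  have := congrArg (fun φ => φ.hom x) (limit.w F f)
  exact this

end Basic

section Elem

variable {ι' : Type*} {c : ComplexShape ι'} (L : HomologicalComplex AddCommGrpCat.{u} c)

lemma iCycles_injective (n : ι') : Function.Injective (L.iCycles n).hom :=
  (AddCommGrpCat.mono_iff_injective _).1 inferInstance

lemma homologyπ_surjective (n : ι') : Function.Surjective (L.homologyπ n).hom :=
  (AddCommGrpCat.epi_iff_surjective _).1 inferInstance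

lemma exists_cycle (n p : ι') (hp : c.next n = p) (x : (L.X n : AddCommGrpCat.{u}))
    (hx : (L.d n p).hom x = 0) : ∃ z : (L.cycles n : AddCommGrpCat.{u}), (L.iCycles n).hom z = x := by
  have hex : (ShortComplex.mk (L.iCycles n) (L.d n p) (by simp)).Exact :=
    ShortComplex.exact_of_f_is_kernel _ (L.cyclesIsKernel n p hp)
  exact (ShortComplex.ab_exact_iff _).1 hex x hx

lemma exists_boundary (m n : ι') (hm : c.prev n = m) (z : (L.cycles n : AddCommGrpCat.{u}))
    (hz : (L.homologyπ n).hom z = 0) :
    ∃ x : (L.X m : AddCommGrpCat.{u}), (L.toCycles m n).hom x = z := by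
  have hex : (ShortComplex.mk (L.toCycles m n) (L.homologyπ n) (by simp)).Exact :=
    ShortComplex.exact_of_g_is_cokernel _ (L.homologyIsCokernel m n hm)
  exact (ShortComplex.ab_exact_iff _).1 hex z hz

lemma iCycles_d_apply (n p : ι') (z : (L.cycles n : AddCommGrpCat.{u})) :
    (L.d n p).hom ((L.iCycles n).hom z) = 0 := by
  have := congrArg (fun φ => φ.hom z) (L.iCycles_d n p)
  exact this

lemma toCycles_i_apply (m n : ι') (x : (L.X m : AddCommGrpCat.{u})) :
    (L.iCycles n).hom ((L.toCycles m n).hom x) = (L.d m n).hom x := by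
  have := congrArg (fun φ => φ.hom x) (L.toCycles_i m n)
  exact this

lemma toCycles_homologyπ_apply (m n : ι') (x : (L.X m : AddCommGrpCat.{u})) :
    (L.homologyπ n).hom ((L.toCycles m n).hom x) = 0 := by
  have := congrArg (fun φ => φ.hom x) (L.toCycles_comp_homologyπ m n)
  exact this

variable {L} {L' : HomologicalComplex AddCommGrpCat.{u} c} (φ : L ⟶ L')

lemma cyclesMap_i_apply (n : ι') (z : (L.cycles n : AddCommGrpCat.{u})) :
    (L'.iCycles n).hom ((HomologicalComplex.cyclesMap φ n).hom z) = (φ.f n).hom ((L.iCycles n).hom z) := by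
  have := congrArg (fun ψ => ψ.hom z) (HomologicalComplex.cyclesMap_i φ n)
  exact this

lemma homologyπ_nat_apply (n : ι') (z : (L.cycles n : AddCommGrpCat.{u})) :
    (HomologicalComplex.homologyMap φ n).hom ((L.homologyπ n).hom z) =
      (L'.homologyπ n).hom ((HomologicalComplex.cyclesMap φ n).hom z) := by
  have := congrArg (fun ψ => ψ.hom z) (HomologicalComplex.homologyπ_naturality φ n)
  exact this

lemma toCycles_nat (m n : ι') :
    L.toCycles m n ≫ HomologicalComplex.cyclesMap φ n = φ.f m ≫ L'.toCycles m n := by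
  rw [← cancel_mono (L'.iCycles n), Category.assoc, HomologicalComplex.cyclesMap_i,
    HomologicalComplex.toCycles_i_assoc, Category.assoc, HomologicalComplex.toCycles_i, φ.comm]

lemma toCycles_nat_apply (m n : ι') (x : (L.X m : AddCommGrpCat.{u})) :
    (HomologicalComplex.cyclesMap φ n).hom ((L.toCycles m n).hom x) =
      (L'.toCycles m n).hom ((φ.f m).hom x) := by
  have := congrArg (fun ψ => ψ.hom x) (toCycles_nat φ m n)
  exact this

lemma comm_apply (m n : ι') (x : (L.X m : AddCommGrpCat.{u})) :
    (L'.d m n).hom ((φ.f m).hom x) = (φ.f n).hom ((L.d m n).hom x) := by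
  have := congrArg (fun ψ => ψ.hom x) (φ.comm m n)
  exact this

end Elem

section Cx

variable {J : Type w} [Category.{w'} J] {ι' : Type*} {c : ComplexShape ι'}
  (K : J ⥤ HomologicalComplex AddCommGrpCat.{u} c)
  [HasLimitsOfShape J AddCommGrpCat.{u}] [PreservesLimitsOfShape J (forget AddCommGrpCat.{u})]

lemma X_ext (q : ι') (x y : ((limit K).X q : AddCommGrpCat.{u}))
    (h : ∀ j, ((limit.π K j).f q).hom x = ((limit.π K j).f q).hom y) : x = y := by
  have hD := isLimitOfPreserves (HomologicalComplex.eval AddCommGrpCat.{u} c q) (limit.isLimit K)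
  exact Concrete.isLimit_ext _ hD x y h

lemma X_mk (q : ι') (x : ∀ j, ((K.obj j).X q : AddCommGrpCat.{u}))
    (hx : ∀ (i j : J) (f : i ⟶ j), ((K.map f).f q).hom (x i) = x j) :
    ∃ y : ((limit K).X q : AddCommGrpCat.{u}), ∀ j, ((limit.π K j).f q).hom y = x j := by
  have hD := isLimitOfPreserves (HomologicalComplex.eval AddCommGrpCat.{u} c q) (limit.isLimit K)
  let hl := isLimitOfPreserves (forget AddCommGrpCat) hD
  let e := Types.isLimitEquivSections hl
  refine ⟨e.symm ⟨x, fun {i j} f => hx i j f⟩, fun j => ?_⟩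
  exact Types.isLimitEquivSections_symm_apply hl _ j

lemma Z_ext (n : ι') (z z' : ((limit K).cycles n : AddCommGrpCat.{u}))
    (h : ∀ j, (HomologicalComplex.cyclesMap (limit.π K j) n).hom z =
      (HomologicalComplex.cyclesMap (limit.π K j) n).hom z') : z = z' := by
  apply iCycles_injective
  apply X_ext K n
  intro j
  rw [← cyclesMap_i_apply, ← cyclesMap_i_apply, h j]

lemma Z_mk (n p : ι') (hp : c.next n = p) (z : ∀ j, ((K.obj j).cycles n : AddCommGrpCat.{u}))
    (hz : ∀ (i j : J) (f : i ⟶ j), (HomologicalComplex.cyclesMap (K.map f) n).hom (z i) = z j) :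
    ∃ y : ((limit K).cycles n : AddCommGrpCat.{u}),
      ∀ j, (HomologicalComplex.cyclesMap (limit.π K j) n).hom y = z j := by
  obtain ⟨x, hx⟩ := X_mk K n (fun j => ((K.obj j).iCycles n).hom (z j)) (by
    intro i j f
    rw [← cyclesMap_i_apply, hz i j f])
  have hdx : ((limit K).d n p).hom x = 0 := by
    apply X_ext K p
    intro j
    rw [← comm_apply, hx j, iCycles_d_apply, map_zero]
  obtain ⟨y, hy⟩ := exists_cycle (limit K) n p hp x hdx
  refine ⟨y, fun j => ?_⟩
  apply iCycles_injective
  rw [cyclesMap_i_apply, hy, hx j]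

/-- surjectivity criterion -/
theorem post_surjective (n p : ι') (hp : c.next n = p)
    (H : ∀ (h : ∀ j, ((K.obj j).homology n : AddCommGrpCat.{u})),
      (∀ (i j : J) (f : i ⟶ j), (HomologicalComplex.homologyMap (K.map f) n).hom (h i) = h j) →
      ∃ z : ∀ j, ((K.obj j).cycles n : AddCommGrpCat.{u}),
        (∀ (i j : J) (f : i ⟶ j), (HomologicalComplex.cyclesMap (K.map f) n).hom (z i) = z j) ∧
        ∀ j, ((K.obj j).homologyπ n).hom (z j) = h j) :
    Function.Surjective (limit.post K (HomologicalComplex.homologyFunctor _ _ n)).hom := by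
  intro y
  obtain ⟨z, hz1, hz2⟩ := H (fun j => (limit.π (K ⋙ HomologicalComplex.homologyFunctor _ _ n) j).hom y)
    (fun i j f => lim_compat (K ⋙ HomologicalComplex.homologyFunctor _ _ n) y i j f)
  obtain ⟨zz, hzz⟩ := Z_mk K n p hp z hz1
  refine ⟨((limit K).homologyπ n).hom zz, ?_⟩
  apply lim_ext
  intro j
  have h1 := congrArg (fun φ => φ.hom (((limit K).homologyπ n).hom zz))
    (limit.post_π K (HomologicalComplex.homologyFunctor _ _ n) j)
  refine h1.trans ?_
  show (HomologicalComplex.homologyMap (limit.π K j) n).hom _ = _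
  rw [homologyπ_nat_apply, hzz j, hz2 j]

/-- injectivity criterion -/
theorem post_injective (m n : ι')
    (H : ∀ (z : ∀ j, ((K.obj j).cycles n : AddCommGrpCat.{u})),
      (∀ (i j : J) (f : i ⟶ j), (HomologicalComplex.cyclesMap (K.map f) n).hom (z i) = z j) →
      (∀ j, ((K.obj j).homologyπ n).hom (z j) = 0) →
      ∃ x : ∀ j, ((K.obj j).X m : AddCommGrpCat.{u}),
        (∀ (i j : J) (f : i ⟶ j), ((K.map f).f m).hom (x i) = x j) ∧
        ∀ j, ((K.obj j).toCycles m n).hom (x j) = z j) :
    Function.Injective (limit.post K (HomologicalComplex.homologyFunctor _ _ n)).hom := by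
  rw [injective_iff_map_eq_zero]
  intro h hh
  obtain ⟨z, rfl⟩ := homologyπ_surjective (limit K) n h
  have hπ : ∀ j, (limit.π (K ⋙ HomologicalComplex.homologyFunctor _ _ n) j).hom
      ((limit.post K (HomologicalComplex.homologyFunctor _ _ n)).hom (((limit K).homologyπ n).hom z)) =
      ((K.obj j).homologyπ n).hom ((HomologicalComplex.cyclesMap (limit.π K j) n).hom z) := by
    intro j
    have h1 := congrArg (fun φ => φ.hom (((limit K).homologyπ n).hom z))
      (limit.post_π K (HomologicalComplex.homologyFunctor _ _ n) j)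
    refine h1.trans ?_
    show (HomologicalComplex.homologyMap (limit.π K j) n).hom _ = _
    rw [homologyπ_nat_apply]
  obtain ⟨x, hx1, hx2⟩ := H (fun j => (HomologicalComplex.cyclesMap (limit.π K j) n).hom z)
    (by
      intro i j f
      have : HomologicalComplex.cyclesMap (limit.π K i) n ≫ HomologicalComplex.cyclesMap (K.map f) n =
          HomologicalComplex.cyclesMap (limit.π K j) n := by
        rw [← HomologicalComplex.cyclesMap_comp, limit.w]
      exact congrArg (fun φ => φ.hom z) this)
    (by
      intro j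
      rw [← hπ j, hh, map_zero]
      rfl)
  obtain ⟨xx, hxx⟩ := X_mk K m x hx1
  have : z = ((limit K).toCycles m n).hom xx := by
    apply Z_ext K n
    intro j
    rw [toCycles_nat_apply, hxx j, hx2 j]
  rw [this, toCycles_homologyπ_apply]
  rfl

end Cx

section Im

variable {J : Type w} [Category.{w'} J] {F G : J ⥤ AddCommGrpCat.{u}} (α : F ⟶ G)

lemma nat_apply {i j : J} (f : i ⟶ j) (x : F.obj i) :
    (G.map f).hom ((α.app i).hom x) = (α.app j).hom ((F.map f).hom x) := by
  have := congrArg (fun φ => φ.hom x) (α.naturality f)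
  exact this.symm

lemma map_mem_range {i j : J} (f : i ⟶ j) (y : G.obj i) (hy : y ∈ (α.app i).hom.range) :
    (G.map f).hom y ∈ (α.app j).hom.range := by
  obtain ⟨x, rfl⟩ := hy
  exact ⟨(F.map f).hom x, (nat_apply α f x).symm⟩

/-- the image system of a natural transformation of systems of abelian groups -/
def imSys : J ⥤ AddCommGrpCat.{u} where
  obj j := AddCommGrpCat.of (α.app j).hom.range
  map {i j} f := AddCommGrpCat.ofHom
    (((G.map f).hom.comp (α.app i).hom.range.subtype).codRestrict (α.app j).hom.range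
      (fun y => map_mem_range α f y.1 y.2))
  map_id j := by
    apply AddCommGrpCat.hom_ext
    apply AddMonoidHom.ext
    intro y
    apply Subtype.ext
    show (G.map (𝟙 j)).hom y.1 = y.1
    rw [G.map_id]
    rfl
  map_comp f g := by
    apply AddCommGrpCat.hom_ext
    apply AddMonoidHom.ext
    intro y
    apply Subtype.ext
    show (G.map (f ≫ g)).hom y.1 = (G.map g).hom ((G.map f).hom y.1)
    rw [G.map_comp]
    rfl

/-- inclusion of the image system -/
def imι : imSys α ⟶ G where
  app j := AddCommGrpCat.ofHom (α.app j).hom.range.subtype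
  naturality i j f := by
    ext y
    rfl

/-- projection onto the image system -/
def imp : F ⟶ imSys α where
  app j := AddCommGrpCat.ofHom (α.app j).hom.rangeRestrict
  naturality i j f := by
    ext x
    apply Subtype.ext
    exact (nat_apply α f x).symm

lemma imι_injective (j : J) : Function.Injective ((imι α).app j).hom :=
  Subtype.val_injective

lemma imp_surjective (j : J) : Function.Surjective ((imp α).app j).hom :=
  (α.app j).hom.rangeRestrict_surjective

lemma imp_ker (j : J) : ((imp α).app j).hom.ker = (α.app j).hom.ker :=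
  (α.app j).hom.ker_rangeRestrict

lemma imι_range (j : J) : ((imι α).app j).hom.range = (α.app j).hom.range :=
  AddSubgroup.range_subtype _

lemma imp_imι_apply (j : J) (x : F.obj j) :
    ((imι α).app j).hom (((imp α).app j).hom x) = (α.app j).hom x := rfl

/-- Mittag-Leffler passes to levelwise quotients (any index category, any universe). -/
lemma ml_of_surjective (v : F ⟶ G) (hv : ∀ j, Function.Surjective (v.app j).hom)
    (hF : (F ⋙ forget AddCommGrpCat).IsMittagLeffler) :
    (G ⋙ forget AddCommGrpCat).IsMittagLeffler := by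
  intro j
  obtain ⟨i, f, hf⟩ := hF j
  refine ⟨i, f, fun k g => ?_⟩
  rintro _ ⟨c', rfl⟩
  obtain ⟨b', rfl⟩ := hv i c'
  have hmem : (F ⋙ forget AddCommGrpCat).map f b' ∈ Set.range ((F ⋙ forget AddCommGrpCat).map g) :=
    hf g ⟨b', rfl⟩
  obtain ⟨b'', hb''⟩ := hmem
  refine ⟨(v.app k).hom b'', ?_⟩
  show (G.map g).hom ((v.app k).hom b'') = (G.map f).hom ((v.app i).hom b')
  rw [nat_apply, nat_apply]
  congr 1

end Im

section Sys

variable {J : Type w} [Category.{w'} J] {ι' : Type*} {c : ComplexShape ι'}
  (K : J ⥤ HomologicalComplex AddCommGrpCat.{u} c)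

/-- cycles → homology -/
noncomputable def πs (n : ι') : K ⋙ HomologicalComplex.cyclesFunctor _ _ n ⟶
    K ⋙ HomologicalComplex.homologyFunctor _ _ n :=
  Functor.whiskerLeft K (HomologicalComplex.natTransHomologyπ _ _ n)

/-- cycles → terms -/
noncomputable def ιs (n : ι') : K ⋙ HomologicalComplex.cyclesFunctor _ _ n ⟶
    K ⋙ HomologicalComplex.eval _ _ n where
  app j := (K.obj j).iCycles n
  naturality _ _ f := HomologicalComplex.cyclesMap_i (K.map f) n

/-- terms → cycles -/
noncomputable def τs (m n : ι') : K ⋙ HomologicalComplex.eval _ _ m ⟶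
    K ⋙ HomologicalComplex.cyclesFunctor _ _ n where
  app j := (K.obj j).toCycles m n
  naturality _ _ f := (toCycles_nat (K.map f) m n).symm

lemma ιs_injective (n : ι') (j : J) : Function.Injective ((ιs K n).app j).hom :=
  iCycles_injective _ n

lemma πs_surjective (n : ι') (j : J) : Function.Surjective ((πs K n).app j).hom :=
  homologyπ_surjective _ n

lemma πs_ker (m n : ι') (hm : c.prev n = m) (j : J) :
    ((πs K n).app j).hom.ker = ((τs K m n).app j).hom.range := by
  ext z
  constructor
  · intro hz
    obtain ⟨x, hx⟩ := exists_boundary (K.obj j) m n hm z hz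
    exact ⟨x, hx⟩
  · rintro ⟨x, rfl⟩
    exact toCycles_homologyπ_apply (K.obj j) m n x

lemma τs_ker (m n : ι') (hn : c.next m = n) (j : J) :
    ((τs K m n).app j).hom.ker = ((ιs K m).app j).hom.range := by
  ext x
  constructor
  · intro hx
    have hx' : ((K.obj j).toCycles m n).hom x = 0 := hx
    have hd : ((K.obj j).d m n).hom x = 0 := by
      have h1 := toCycles_i_apply (K.obj j) m n x
      rw [hx', map_zero] at h1
      exact h1.symm
    obtain ⟨z, hz⟩ := exists_cycle (K.obj j) m n hn x hd
    exact ⟨z, hz⟩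
  · rintro ⟨z, rfl⟩
    have hz : ∀ z' : ((K.obj j).cycles m : AddCommGrpCat.{u}),
        ((K.obj j).toCycles m n).hom (((K.obj j).iCycles m).hom z') = 0 := by
      intro z'
      apply iCycles_injective
      rw [toCycles_i_apply, iCycles_d_apply, map_zero]
    exact hz z

/-- SES (a): `0 → Z^m → X^m → B^n → 0`. -/
lemma sesA_ker (m n : ι') (hn : c.next m = n) (j : J) :
    ((imp (τs K m n)).app j).hom.ker = ((ιs K m).app j).hom.range := by
  rw [imp_ker, τs_ker K m n hn]

/-- SES (b): `0 → B^n → Z^n → H^n → 0`. -/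
lemma sesB_ker (m n : ι') (hm : c.prev n = m) (j : J) :
    ((πs K n).app j).hom.ker = ((imι (τs K m n)).app j).hom.range := by
  rw [imι_range, πs_ker K m n hm]

/-- `B^n` is Mittag-Leffler if `X^m` is. -/
lemma ml_B (m n : ι')
    (hX : ((K ⋙ HomologicalComplex.eval _ _ m) ⋙ forget AddCommGrpCat).IsMittagLeffler) :
    (imSys (τs K m n) ⋙ forget AddCommGrpCat).IsMittagLeffler :=
  ml_of_surjective (imp (τs K m n)) (imp_surjective _) hX

end Sys

end Groth.Agent.Helper9.LimHom
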