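import Mathlib

/-!
# Left derived functors and left derivability structures

Dualization of `LocalizerMorphism.Derives.isIso_of_isRightDerivedFunctor`.
-/

set_option autoImplicit false
set_option linter.style.haveILetI false

namespace Groth.Agent.Helper9.LDeriv1

open CategoryTheory Category Limits Opposite

universe v₁ v₂ v₃ v₄ u₁ u₂ u₃ u₄

section Kan

variable {C : Type u₁} {D : Type u₂} {H : Type u₃} [Category.{v₁} C] [Category.{v₂} D]
  [Category.{v₃} H]

/-- the natural transformation `L ⋙ G.unop ⟶ F` attached to `F.op ⟶ L.op ⋙ G` -/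
def unopTrans {L : C ⥤ D} {F : C ⥤ H} (G : Dᵒᵖ ⥤ Hᵒᵖ) (β : F.op ⟶ L.op ⋙ G) :
    L ⋙ G.unop ⟶ F where
  app X := (β.app (op X)).unop
  naturality X Y f := by
    have := β.naturality f.op
    exact congrArg Quiver.Hom.unop this.symm

/-- the opposite of a right Kan extension is a left Kan extension -/
theorem isLeftKanExtension_op (LF : D ⥤ H) {L : C ⥤ D} {F : C ⥤ H} (α : L ⋙ LF ⟶ F)
    [LF.IsRightKanExtension α] :
    LF.op.IsLeftKanExtension (L := L.op) (F := F.op) (NatTrans.op α) where
  nonempty_isUniversal := by
    refine ⟨IsInitial.ofUniqueHom (fun E => StructuredArrow.homMk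
      { app := fun X => ((LF.liftOfIsRightKanExtension α E.right.unop
          (unopTrans E.right E.hom)).app X.unop).op
        naturality := fun X Y f => by
          have := (LF.liftOfIsRightKanExtension α E.right.unop
            (unopTrans E.right E.hom)).naturality f.unop
          exact congrArg Quiver.Hom.op this.symm } ?_) ?_⟩
    · ext X
      have := LF.liftOfIsRightKanExtension_fac_app α E.right.unop
        (unopTrans E.right E.hom) X.unop
      exact congrArg Quiver.Hom.op this
    · intro E m
      ext X
      apply Quiver.Hom.unop_inj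
      let γ : E.right.unop ⟶ LF :=
        { app := fun Y => (m.right.app (op Y)).unop
          naturality := fun Y Z f => by
            have := m.right.naturality f.op
            exact congrArg Quiver.Hom.unop this.symm }
      have hγ : γ = LF.liftOfIsRightKanExtension α E.right.unop (unopTrans E.right E.hom) := by
        apply LF.hom_ext_of_isRightKanExtension α
        rw [Functor.liftOfIsRightKanExtension_fac]
        ext Y
        have := congrArg (fun t => (NatTrans.app t (op Y)).unop) (StructuredArrow.w m)
        exact this
      exact congrArg (fun t => NatTrans.app t X.unop) hγ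

end Kan

section Derived

variable {C : Type u₁} {D : Type u₂} {H : Type u₃} [Category.{v₁} C] [Category.{v₂} D]
  [Category.{v₃} H]

/-- the opposite of a left derived functor is a right derived functor -/
theorem isRightDerivedFunctor_op (LF : D ⥤ H) {L : C ⥤ D} {F : C ⥤ H} (α : L ⋙ LF ⟶ F)
    (W : MorphismProperty C) [L.IsLocalization W] [LF.IsLeftDerivedFunctor α W] :
    LF.op.IsRightDerivedFunctor (L := L.op) (F := F.op) (NatTrans.op α) W.op where
  isLeftKanExtension := by
    haveI := Functor.IsLeftDerivedFunctor.isRightKanExtension LF α W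
    exact isLeftKanExtension_op LF α

end Derived

section Main

variable {C₁ : Type u₁} {C₂ : Type u₂} {H : Type u₃}
  [Category.{v₁} C₁] [Category.{v₂} C₂] [Category.{v₃} H]
  {D₂ : Type u₄} [Category.{v₄} D₂]
  {W₁ : MorphismProperty C₁} {W₂ : MorphismProperty C₂}

/-- If `Φ` is a left derivability structure and `Φ.functor ⋙ F` inverts `W₁`, the counit of any
left derived functor of `F` is an isomorphism on objects coming from `C₁`. -/
theorem isIso_of_isLeftDerivedFunctor (Φ : LocalizerMorphism W₁ W₂) {F : C₂ ⥤ H}
    (h : Φ.Derives F) [Φ.IsLeftDerivabilityStructure]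
    {L₂ : C₂ ⥤ D₂} [L₂.IsLocalization W₂] {LF : D₂ ⥤ H} (α : L₂ ⋙ LF ⟶ F)
    [LF.IsLeftDerivedFunctor α W₂] (X₁ : C₁) :
    IsIso (α.app (Φ.functor.obj X₁)) := by
  have h' : Φ.op.Derives F.op := by
    intro X Y f hf
    have := h f.unop hf
    dsimp at this ⊢
    infer_instance
  haveI := isRightDerivedFunctor_op LF α W₂
  have := h'.isIso_of_isRightDerivedFunctor (L₂ := L₂.op) (RF := LF.op)
    (NatTrans.op α) (op X₁)
  dsimp at this
  exact isIso_of_op _

end Main

end Groth.Agent.Helper9.LDeriv1
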