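import Mathlib
import Groth.Agent.Helper9.LDeriv1

/-!
# Existence of left derived functors from a left derivability structure
-/

set_option autoImplicit false
set_option linter.style.haveILetI false

namespace Groth.Agent.Helper9.LDeriv7

open CategoryTheory Category Limits Opposite Groth.Agent.Helper9.LDeriv1

universe v₁ v₂ v₃ v₄ u₁ u₂ u₃ u₄

section Kan

variable {C : Type u₁} {D : Type u₂} {H : Type u₃} [Category.{v₁} C] [Category.{v₂} D]
  [Category.{v₃} H]

/-- the natural transformation `F.op ⟶ L.op ⋙ G.op` attached to `L ⋙ G ⟶ F` -/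
def opTrans {L : C ⥤ D} {F : C ⥤ H} (G : D ⥤ H) (β : L ⋙ G ⟶ F) :
    F.op ⟶ L.op ⋙ G.op := NatTrans.op β

/-- the unopposite of a left Kan extension is a right Kan extension -/
theorem isRightKanExtension_unop {L : C ⥤ D} {F : C ⥤ H} (RF : Dᵒᵖ ⥤ Hᵒᵖ)
    (β : F.op ⟶ L.op ⋙ RF) [RF.IsLeftKanExtension β] :
    RF.unop.IsRightKanExtension (unopTrans RF β) where
  nonempty_isUniversal := by
    refine ⟨IsTerminal.ofUniqueHom (fun E => CostructuredArrow.homMk
      { app := fun X => ((RF.descOfIsLeftKanExtension β E.left.op
          (NatTrans.op E.hom)).app (op X)).unop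
        naturality := fun X Y f => by
          have := (RF.descOfIsLeftKanExtension β E.left.op
            (NatTrans.op E.hom)).naturality f.op
          exact congrArg Quiver.Hom.unop this.symm } ?_) ?_⟩
    · ext X
      have := RF.descOfIsLeftKanExtension_fac_app β E.left.op (NatTrans.op E.hom) (op X)
      exact congrArg Quiver.Hom.unop this
    · intro E m
      ext X
      apply Quiver.Hom.op_inj
      let γ : RF ⟶ E.left.op :=
        { app := fun Y => (m.left.app Y.unop).op
          naturality := fun Y Z f => by
            have := m.left.naturality f.unop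
            exact congrArg Quiver.Hom.op this.symm }
      have hγ : γ = RF.descOfIsLeftKanExtension β E.left.op (NatTrans.op E.hom) := by
        apply RF.hom_ext_of_isLeftKanExtension β
        rw [Functor.descOfIsLeftKanExtension_fac]
        ext Y
        have := congrArg (fun t => (NatTrans.app t Y.unop).op) (CostructuredArrow.w m)
        exact this
      exact congrArg (fun t => NatTrans.app t (op X)) hγ

end Kan

section Main

variable {C₁ : Type u₁} {C₂ : Type u₂} {H : Type u₃}
  [Category.{v₁} C₁] [Category.{v₂} C₂] [Category.{v₃} H]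
  {W₁ : MorphismProperty C₁} {W₂ : MorphismProperty C₂}

/-- If `F.op` has a right derived functor with respect to `W.op`, then `F` has a left derived
functor with respect to `W`. -/
theorem hasLeftDerivedFunctor_of_op (F : C₂ ⥤ H) (W : MorphismProperty C₂)
    [F.op.HasRightDerivedFunctor W.op] : F.HasLeftDerivedFunctor W := by
  rw [Functor.hasLeftDerivedFunctor_iff F W.Q W]
  let RF := F.op.totalRightDerived W.Q.op W.op
  let β : F.op ⟶ W.Q.op ⋙ RF := F.op.totalRightDerivedUnit W.Q.op W.op
  haveI : RF.IsLeftKanExtension β :=
    Functor.IsRightDerivedFunctor.isLeftKanExtension RF β W.op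
  haveI := isRightKanExtension_unop RF β
  exact Functor.HasRightKanExtension.mk RF.unop (unopTrans RF β)

/-- If `Φ` is a left derivability structure and `Φ.functor ⋙ F` inverts `W₁`, then `F` has a
left derived functor with respect to `W₂`. -/
theorem hasLeftDerivedFunctor_of_derives (Φ : LocalizerMorphism W₁ W₂) {F : C₂ ⥤ H}
    (h : Φ.Derives F) [Φ.IsLeftDerivabilityStructure] : F.HasLeftDerivedFunctor W₂ := by
  have h' : Φ.op.Derives F.op := by
    intro X Y f hf
    have := h f.unop hf
    dsimp at this ⊢
    infer_instance
  haveI := h'.hasPointwiseRightDerivedFunctor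
  exact hasLeftDerivedFunctor_of_op F W₂

end Main

end Groth.Agent.Helper9.LDeriv7
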