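import Mathlib

/-!
# A diagram chase: injectivity on cokernels (the Tor-vanishing chase)
-/

namespace Groth.Agent.Helper9.ChaseMono

open CategoryTheory Limits Abelian

universe v u

variable {A : Type u} [Category.{v} A] [Abelian A]

attribute [local instance] Pseudoelement.homToFun Pseudoelement.hasZero

/--
```
X₁ --a₁--> Y₁ --b₁--> Z₁ (b₁ epi, a₁ ≫ b₁ = 0)
|s         |u         |w
X₂ --a₂--> Y₂ --b₂--> Z₂ (exact at Y₂)
|t         |v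
X₃ --a₃--> Y₃           (a₃ mono)
```
`s, t` exact at `X₂`, `u` mono, `u ≫ v = 0`: then `w` is mono. -/
theorem mono_of_chase {X₁ Y₁ Z₁ X₂ Y₂ Z₂ X₃ Y₃ : A}
    (a₁ : X₁ ⟶ Y₁) (b₁ : Y₁ ⟶ Z₁) (a₂ : X₂ ⟶ Y₂) (b₂ : Y₂ ⟶ Z₂) (a₃ : X₃ ⟶ Y₃)
    (s : X₁ ⟶ X₂) (t : X₂ ⟶ X₃) (u : Y₁ ⟶ Y₂) (v : Y₂ ⟶ Y₃) (w : Z₁ ⟶ Z₂)
    [Epi b₁] (h₁ : a₁ ≫ b₁ = 0) (w₂ : a₂ ≫ b₂ = 0) (h₂ : (ShortComplex.mk a₂ b₂ w₂).Exact)
    [Mono a₃] (wst : s ≫ t = 0) (hst : (ShortComplex.mk s t wst).Exact) [Mono u]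
    (huv : u ≫ v = 0) (c₁ : a₁ ≫ u = s ≫ a₂) (c₂ : a₂ ≫ v = t ≫ a₃) (c₃ : b₁ ≫ w = u ≫ b₂) :
    Mono w := by
  apply Pseudoelement.mono_of_zero_of_map_zero
  intro x hx
  obtain ⟨y, rfl⟩ := Pseudoelement.pseudo_surjective_of_epi b₁ x
  have h1 : b₂ (u y) = 0 := by
    rw [← Pseudoelement.comp_apply, ← c₃, Pseudoelement.comp_apply]
    exact hx
  obtain ⟨z, hz⟩ := Pseudoelement.pseudo_exact_of_exact h₂ (u y) h1
  have h2 : a₃ (t z) = 0 := by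
    rw [← Pseudoelement.comp_apply, ← c₂, Pseudoelement.comp_apply]
    show v (a₂ z) = 0
    have hz' : a₂ z = u y := hz
    rw [hz', ← Pseudoelement.comp_apply, huv, Pseudoelement.zero_apply]
  have h3 : t z = 0 :=
    Pseudoelement.zero_of_map_zero a₃ (Pseudoelement.pseudo_injective_of_mono a₃) _ h2
  obtain ⟨x₁, hx₁⟩ := Pseudoelement.pseudo_exact_of_exact hst z h3
  have hx₁' : s x₁ = z := hx₁
  have h4 : u (a₁ x₁) = u y := by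
    rw [← Pseudoelement.comp_apply, c₁, Pseudoelement.comp_apply, hx₁']
    exact hz
  have h5 : a₁ x₁ = y := Pseudoelement.pseudo_injective_of_mono u h4
  rw [← h5, ← Pseudoelement.comp_apply, h₁, Pseudoelement.zero_apply]

end Groth.Agent.Helper9.ChaseMono
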