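import Mathlib

/-!
# Sectionwise flat presheaves of modules are flat
-/

namespace Groth.Agent.Helper9.PshFlat

open CategoryTheory MonoidalCategory Opposite Limits

universe u

section General

variable {A B : Type*} [Category A] [Abelian A] [Category B] [Abelian B]

attribute [local instance] preservesBinaryBiproducts_of_preservesBinaryCoproducts in
/-- a right exact functor preserving monomorphisms is exact -/
lemma preservesFiniteLimits_of_mono (F : A ⥤ B) [PreservesFiniteColimits F]
    (h : ∀ {X Y : A} (f : X ⟶ Y), Mono f → Mono (F.map f)) : PreservesFiniteLimits F := by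
  haveI : PreservesColimitsOfShape (Discrete PEmpty.{1}) F :=
    PreservesFiniteColimits.preservesFiniteColimits _
  haveI : PreservesColimit (Functor.empty.{0} A) F := inferInstance
  haveI : F.PreservesZeroMorphisms := Functor.preservesZeroMorphisms_of_preserves_initial_object
  haveI : F.Additive := Functor.additive_of_preservesBinaryBiproducts _
  refine ((Functor.preservesFiniteLimits_tfae F).out 0 3).1 ?_
  intro S hS
  refine ⟨?_, h S.f hS.mono_f⟩
  have h3 : PreservesFiniteColimits F := inferInstance
  have hc : ∀ (S : ShortComplex A), S.ShortExact → (S.map F).Exact ∧ Epi (F.map S.g) :=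
    ((Functor.preservesFiniteColimits_tfae F).out 3 0).1 h3
  exact (hc S hS).1

end General

variable {C : Type u} [SmallCategory C] (O : Cᵒᵖ ⥤ CommRingCat.{u})
  (F : PresheafOfModules.{u} (O ⋙ forget₂ CommRingCat.{u} RingCat.{u}))

set_option backward.isDefEq.respectTransparency false in
lemma mono_whiskerRight (hF : ∀ X : Cᵒᵖ, Module.Flat (O.obj X) (F.obj X))
    {M' M : PresheafOfModules.{u} (O ⋙ forget₂ CommRingCat.{u} RingCat.{u})} (f : M' ⟶ M)
    [Mono f] : Mono (f ▷ F) := by
  apply PresheafOfModules.mono_of_injective
  intro X
  have hinj := PresheafOfModules.injective_of_mono f X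
  haveI : Module.Flat ((O ⋙ forget₂ CommRingCat.{u} RingCat.{u}).obj X) (F.obj X) := hF X
  show Function.Injective ((f.app X).hom.rTensor (F.obj X))
  exact Module.Flat.rTensor_preserves_injective_linearMap _ hinj

instance : PreservesFiniteColimits (tensorRight F) :=
  PreservesColimitsOfSize.preservesFiniteColimits _

theorem preservesFiniteLimits_tensorRight (hF : ∀ X : Cᵒᵖ, Module.Flat (O.obj X) (F.obj X)) :
    PreservesFiniteLimits (tensorRight F) :=
  preservesFiniteLimits_of_mono _ (fun f _ => mono_whiskerRight O F hF f)

end Groth.Agent.Helper9.PshFlat
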