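import Mathlib

/-!
# Algebraic lemmas on vanishing in tensor products under semilinear "restriction" maps
-/

namespace Groth.Agent.Helper9.TensorAlg

open TensorProduct

universe u

variable {R R' : Type u} [CommRing R] [CommRing R'] (f : R →+* R')
variable {A A₁ B A' A'' B' : Type u}
  [AddCommGroup A] [Module R A] [AddCommGroup A₁] [Module R A₁] [AddCommGroup B] [Module R B]
  [AddCommGroup A'] [Module R' A'] [AddCommGroup A''] [Module R' A''] [AddCommGroup B'] [Module R' B']

/-- the tensor product of two semilinear maps, as an additive map -/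
noncomputable def T (α : A →ₛₗ[f] A') (β : B →ₛₗ[f] B') : A ⊗[R] B →+ A' ⊗[R'] B' :=
  TensorProduct.liftAddHom
    { toFun := fun a =>
        { toFun := fun b => α a ⊗ₜ[R'] β b
          map_zero' := by simp
          map_add' := by intro b b'; simp [tmul_add] }
      map_zero' := by ext b; simp
      map_add' := by intro a a'; ext b; simp [add_tmul] }
    (by
      intro r a b
      show α (r • a) ⊗ₜ[R'] β b = α a ⊗ₜ[R'] β (r • b)
      rw [map_smulₛₗ, map_smulₛₗ, smul_tmul])

@[simp]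
lemma T_tmul (α : A →ₛₗ[f] A') (β : B →ₛₗ[f] B') (a : A) (b : B) :
    T f α β (a ⊗ₜ b) = α a ⊗ₜ β b := rfl

lemma T_rTensor (α : A →ₛₗ[f] A') (β : B →ₛₗ[f] B') (g : A₁ →ₗ[R] A) (x : A₁ ⊗[R] B) :
    T f α β (g.rTensor B x) = T f (α.comp g) β x := by
  induction x using TensorProduct.induction_on with
  | zero => simp
  | tmul a b => simp
  | add x y hx hy => simp only [map_add, hx, hy]

lemma rTensor_T (α : A →ₛₗ[f] A') (β : B →ₛₗ[f] B') (g : A' →ₗ[R'] A'') (x : A ⊗[R] B) :
    g.rTensor B' (T f α β x) = T f (g.comp α) β x := by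
  induction x using TensorProduct.induction_on with
  | zero => simp
  | tmul a b => simp
  | add x y hx hy => simp only [map_add, hx, hy]

/-- Step 2 -/
theorem exists_finset_of_rTensor_eq_zero {P Q N : Type u} [AddCommGroup P] [Module R P]
    [AddCommGroup Q] [Module R Q] [AddCommGroup N] [Module R N] (φ : P →ₗ[R] Q) (x : P ⊗[R] N)
    (hx : φ.rTensor N x = 0) :
    ∃ F : Finset Q, ∀ {R' : Type u} [CommRing R'] (f : R →+* R') {P' Q' N' : Type u}
      [AddCommGroup P'] [Module R' P'] [AddCommGroup Q'] [Module R' Q'] [AddCommGroup N']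
      [Module R' N'] (φ' : P' →ₗ[R'] Q') (ρP : P →ₛₗ[f] P') (ρQ : Q →ₛₗ[f] Q') (ρN : N →ₛₗ[f] N')
      (_ : ∀ p, φ' (ρP p) = ρQ (φ p)) (_ : ∀ q ∈ F, ρQ q ∈ LinearMap.range φ'),
      φ'.rangeRestrict.rTensor N' (T f ρP ρN x) = 0 := by
  classical
  set I := LinearMap.range φ with hI
  set xb := φ.rangeRestrict.rTensor N x with hxb
  have h1 : I.subtype.rTensor N xb = 0 := by
    rw [hxb, ← LinearMap.rTensor_comp_apply]
    exact hx
  obtain ⟨I₀, hfg, hle, y, hy⟩ := Submodule.exists_fg_le_eq_rTensor_inclusion xb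
  have h2 : I₀.subtype.rTensor N y = 0 := by
    have : I₀.subtype = I.subtype.comp (I₀.inclusion hle) := rfl
    rw [this, LinearMap.rTensor_comp_apply, ← hy, h1]
  obtain ⟨Q₀, hQfg, hle', heq⟩ := hfg.exists_rTensor_fg_inclusion_eq (x := y) (y := 0)
    (by rw [h2, map_zero])
  rw [map_zero] at heq
  obtain ⟨F, hF⟩ := hQfg
  refine ⟨F, ?_⟩
  intro R' _ f P' Q' N' _ _ _ _ _ _ φ' ρP ρQ ρN hcomm hFmem
  have hQ₀ : ∀ q ∈ Q₀, ρQ q ∈ LinearMap.range φ' := by
    intro q hq
    rw [← hF] at hq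
    induction hq using Submodule.span_induction with
    | mem q hq => exact hFmem q hq
    | zero => rw [map_zero]; exact Submodule.zero_mem _
    | add a b _ _ ha hb => rw [map_add]; exact Submodule.add_mem _ ha hb
    | smul r a _ ha => rw [map_smulₛₗ]; exact Submodule.smul_mem _ _ ha
  let ρ₀ : Q₀ →ₛₗ[f] LinearMap.range φ' :=
    { toFun := fun q => ⟨ρQ q, hQ₀ q q.2⟩
      map_add' := by intro a b; apply Subtype.ext; simp
      map_smul' := by intro r a; apply Subtype.ext; simp }
  have hI' : ∀ i ∈ I, ρQ i ∈ LinearMap.range φ' := by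
    rintro i ⟨p, rfl⟩
    exact ⟨ρP p, hcomm p⟩
  let ρI : I →ₛₗ[f] LinearMap.range φ' :=
    { toFun := fun q => ⟨ρQ q, hI' q q.2⟩
      map_add' := by intro a b; apply Subtype.ext; simp
      map_smul' := by intro r a; apply Subtype.ext; simp }
  have e1 : φ'.rangeRestrict.comp ρP = ρI.comp φ.rangeRestrict := by
    ext p
    exact hcomm p
  have e2 : ρI.comp (I₀.inclusion hle) = ρ₀.comp (I₀.inclusion hle') := by
    ext i
    rfl
  rw [rTensor_T, e1, ← T_rTensor, ← hxb, hy, T_rTensor, e2, ← T_rTensor, heq, map_zero]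

/-- Step 1 -/
theorem exists_of_rangeRestrict_rTensor_eq_zero {P Q N : Type u} [AddCommGroup P] [Module R P]
    [AddCommGroup Q] [Module R Q] [AddCommGroup N] [Module R N] (ψ : P →ₗ[R] Q) (x : P ⊗[R] N)
    (hx : ψ.rangeRestrict.rTensor N x = 0) :
    ∃ w : (LinearMap.ker ψ.rangeRestrict) ⊗[R] N,
      (LinearMap.ker ψ.rangeRestrict).subtype.rTensor N w = x := by
  have hex := rTensor_exact N (LinearMap.exact_subtype_ker_map ψ.rangeRestrict)
    ψ.surjective_rangeRestrict
  exact (hex x).1 hx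

end Groth.Agent.Helper9.TensorAlg
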