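import Mathlib
import Groth.Agent.Helper9.TensorAlg

/-!
# Tensoring a locally bijective morphism of presheaves of modules is locally bijective
-/

namespace Groth.Agent.Helper9.TensorLoc

open CategoryTheory MonoidalCategory Opposite TensorProduct Groth.Agent.Helper9.TensorAlg

universe u

variable {C : Type u} [SmallCategory C] (J : GrothendieckTopology C) {R : Cᵒᵖ ⥤ CommRingCat.{u}}

set_option backward.isDefEq.respectTransparency false

/-- restriction as a semilinear map -/
noncomputable def res (M : PresheafOfModules.{u} (R ⋙ forget₂ CommRingCat RingCat)) {X Y : Cᵒᵖ}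
    (g : X ⟶ Y) : M.obj X →ₛₗ[(R.map g).hom] M.obj Y where
  toFun x := M.map g x
  map_add' := map_add _
  map_smul' r x := M.map_smul g r x

@[simp]
lemma res_apply (M : PresheafOfModules.{u} (R ⋙ forget₂ CommRingCat RingCat)) {X Y : Cᵒᵖ}
    (g : X ⟶ Y) (x : M.obj X) : res M g x = M.map g x := rfl

variable (P Q N : PresheafOfModules.{u} (R ⋙ forget₂ CommRingCat RingCat))

lemma map_eq_T {X Y : Cᵒᵖ} (g : X ⟶ Y) (x : (P ⊗ N).obj X) :
    res (P ⊗ N) g x = T (R.map g).hom (res P g) (res N g) x := by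
  induction x using TensorProduct.induction_on with
  | zero => rw [map_zero, map_zero]
  | tmul a b => rfl
  | add x y hx hy => rw [map_add, map_add, hx, hy]

variable {P Q}

lemma res_naturality (φ : P ⟶ Q) {X Y : Cᵒᵖ} (g : X ⟶ Y) (p : P.obj X) :
    res Q g (φ.app X p) = φ.app Y (res P g p) :=
  (PresheafOfModules.naturality_apply φ g p).symm

lemma whiskerRight_app_hom (φ : P ⟶ Q) (X : Cᵒᵖ) :
    ((φ ▷ N).app X).hom = (φ.app X).hom.rTensor (N.obj X) := rfl

lemma whiskerRight_app_tmul (φ : P ⟶ Q) (X : Cᵒᵖ) (p : P.obj X) (n : N.obj X) :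
    (φ ▷ N).app X (p ⊗ₜ n) = φ.app X p ⊗ₜ n := rfl

lemma res_tmul {X Y : Cᵒᵖ} (g : X ⟶ Y) (p : P.obj X) (n : N.obj X) :
    res (P ⊗ N) g (p ⊗ₜ n) = res P g p ⊗ₜ res N g n := rfl

lemma res_comp (M : PresheafOfModules.{u} (R ⋙ forget₂ CommRingCat RingCat)) {X Y Z : Cᵒᵖ}
    (g : X ⟶ Y) (h : Y ⟶ Z) (x : M.obj X) : res M (g ≫ h) x = res M h (res M g x) := by
  show M.map (g ≫ h) x = M.map h (M.map g x)
  rw [M.map_comp]
  rfl

/-- elementwise local surjectivity -/
def LocSurj (φ : P ⟶ Q) : Prop :=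
  ∀ (U : C) (s : Q.obj (op U)), ∃ S ∈ J U, ∀ ⦃V : C⦄ (g : V ⟶ U), S g →
    ∃ t : P.obj (op V), φ.app (op V) t = res Q g.op s

/-- elementwise local injectivity -/
def LocInj (φ : P ⟶ Q) : Prop :=
  ∀ (U : C) (x : P.obj (op U)), φ.app (op U) x = 0 → ∃ S ∈ J U, ∀ ⦃V : C⦄ (g : V ⟶ U), S g →
    res P g.op x = 0

/-- finite intersections of covering sieves -/
lemma exists_le_of_finset {ι : Type*} {U : C} (F : Finset ι) (S : ι → Sieve U)
    (h : ∀ i ∈ F, S i ∈ J U) : ∃ T ∈ J U, ∀ i ∈ F, T ≤ S i := by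
  classical
  induction F using Finset.induction_on with
  | empty => exact ⟨⊤, J.top_mem U, by simp⟩
  | insert a F ha ih =>
    obtain ⟨T, hT, hT'⟩ := ih (fun i hi => h i (Finset.mem_insert_of_mem hi))
    refine ⟨S a ⊓ T, J.intersection_covering (h a (Finset.mem_insert_self a F)) hT, ?_⟩
    intro i hi
    rcases Finset.mem_insert.1 hi with rfl | hi
    · exact inf_le_left
    · exact inf_le_right.trans (hT' i hi)

theorem locSurj_whiskerRight (φ : P ⟶ Q) (h : LocSurj J φ) : LocSurj J (φ ▷ N) := by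
  intro U s
  induction s using TensorProduct.induction_on with
  | zero =>
    refine ⟨⊤, J.top_mem U, fun V g _ => ⟨0, ?_⟩⟩
    rw [map_zero, map_zero]
  | tmul q n =>
    obtain ⟨S, hS, hS'⟩ := h U q
    refine ⟨S, hS, fun V g hg => ?_⟩
    obtain ⟨t, ht⟩ := hS' g hg
    refine ⟨t ⊗ₜ res N g.op n, ?_⟩
    rw [whiskerRight_app_tmul, ht]
    rfl
  | add x y hx hy =>
    obtain ⟨S₁, hS₁, h₁⟩ := hx
    obtain ⟨S₂, hS₂, h₂⟩ := hy
    refine ⟨S₁ ⊓ S₂, J.intersection_covering hS₁ hS₂, fun V g hg => ?_⟩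
    obtain ⟨t₁, ht₁⟩ := h₁ g hg.1
    obtain ⟨t₂, ht₂⟩ := h₂ g hg.2
    refine ⟨t₁ + t₂, ?_⟩
    rw [map_add, map_add, ht₁, ht₂]

/-- tensors with a locally vanishing first factor vanish locally -/
lemma exists_cover_of_ker (φ : P ⟶ Q) (hi : LocInj J φ) (V : C)
    (w : (LinearMap.ker (φ.app (op V)).hom.rangeRestrict) ⊗[R.obj (op V)] N.obj (op V)) :
    ∃ S ∈ J V, ∀ ⦃W : C⦄ (h : W ⟶ V), S h → res (P ⊗ N) h.op
      ((LinearMap.ker (φ.app (op V)).hom.rangeRestrict).subtype.rTensor (N.obj (op V)) w) = 0 := by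
  induction w using TensorProduct.induction_on with
  | zero =>
    refine ⟨⊤, J.top_mem V, fun W h _ => ?_⟩
    rw [map_zero, map_zero]
  | tmul z n =>
    have hz : φ.app (op V) z.1 = 0 := by
      have := z.2
      rw [LinearMap.mem_ker] at this
      exact congrArg Subtype.val this
    obtain ⟨S, hS, hS'⟩ := hi V z.1 hz
    refine ⟨S, hS, fun W h hh => ?_⟩
    show res (P ⊗ N) h.op (z.1 ⊗ₜ n) = 0
    rw [res_tmul, hS' h hh, zero_tmul]
  | add x y hx hy =>
    obtain ⟨S₁, hS₁, h₁⟩ := hx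
    obtain ⟨S₂, hS₂, h₂⟩ := hy
    refine ⟨S₁ ⊓ S₂, J.intersection_covering hS₁ hS₂, fun W h hh => ?_⟩
    rw [map_add, map_add, h₁ h hh.1, h₂ h hh.2, add_zero]

theorem locInj_whiskerRight (φ : P ⟶ Q) (hi : LocInj J φ) (hs : LocSurj J φ) :
    LocInj J (φ ▷ N) := by
  classical
  intro U x hx
  have hx' : (φ.app (op U)).hom.rTensor (N.obj (op U)) x = 0 := hx
  obtain ⟨F, hF⟩ := exists_finset_of_rTensor_eq_zero (φ.app (op U)).hom x hx'
  choose S hS hS' using hs U
  obtain ⟨T, hT, hT'⟩ := exists_le_of_finset J F S (fun q _ => hS q)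
  -- the sieve on which `x` vanishes
  let E : Sieve U :=
    { arrows := fun V g => res (P ⊗ N) g.op x = 0
      downward_closed := by
        intro V W g hg h
        show res (P ⊗ N) (h ≫ g).op x = 0
        rw [op_comp, res_comp, hg, map_zero] }
  refine ⟨E, ?_, fun V g hg => hg⟩
  refine J.transitive hT E (fun V g hg => ?_)
  have h1 := hF (R.map g.op).hom (φ.app (op V)).hom (res P g.op) (res Q g.op) (res N g.op)
    (fun p => (res_naturality φ g.op p).symm)
    (fun q hq => by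
      obtain ⟨t, ht⟩ := hS' q g (hT' q hq _ hg)
      exact ⟨t, ht⟩)
  have e := map_eq_T P N g.op x
  have h1' : (φ.app (op V)).hom.rangeRestrict.rTensor (N.obj (op V)) (res (P ⊗ N) g.op x) = 0 :=
    (congrArg ((φ.app (op V)).hom.rangeRestrict.rTensor (N.obj (op V))) e).trans h1
  obtain ⟨w, hw⟩ := exists_of_rangeRestrict_rTensor_eq_zero (φ.app (op V)).hom _ h1'
  obtain ⟨S', hS'', hS'''⟩ := exists_cover_of_ker J N φ hi V w
  refine J.superset_covering ?_ hS''
  intro W h hh
  show res (P ⊗ N) (h ≫ g).op x = 0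
  rw [op_comp, res_comp, ← hw]
  exact hS''' h hh

lemma locSurj_of (φ : P ⟶ Q)
    [Presheaf.IsLocallySurjective J ((PresheafOfModules.toPresheaf _).map φ)] : LocSurj J φ := by
  intro U s
  refine ⟨Presheaf.imageSieve ((PresheafOfModules.toPresheaf _).map φ) s,
    Presheaf.imageSieve_mem J ((PresheafOfModules.toPresheaf _).map φ) (U := op U) s,
    fun V g hg => ?_⟩
  obtain ⟨t, ht⟩ := hg
  exact ⟨t, ht⟩

lemma locInj_of (φ : P ⟶ Q)
    [Presheaf.IsLocallyInjective J ((PresheafOfModules.toPresheaf _).map φ)] : LocInj J φ := by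
  intro U x hx
  refine ⟨Presheaf.equalizerSieve (F := P.presheaf) (X := op U) x 0,
    Presheaf.equalizerSieve_mem J ((PresheafOfModules.toPresheaf _).map φ) (X := op U) x 0
      (hx.trans (map_zero _).symm), fun V g hg => ?_⟩
  exact hg.trans (map_zero _)

lemma isLocallySurjective_of (φ : P ⟶ Q) (h : LocSurj J φ) :
    Presheaf.IsLocallySurjective J ((PresheafOfModules.toPresheaf _).map φ) where
  imageSieve_mem {U} s := by
    obtain ⟨S, hS, hS'⟩ := h U s
    exact J.superset_covering (fun V g hg => hS' g hg) hS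

lemma isLocallyInjective_of (φ : P ⟶ Q) (h : LocInj J φ) :
    Presheaf.IsLocallyInjective J ((PresheafOfModules.toPresheaf _).map φ) where
  equalizerSieve_mem {X} x y hxy := by
    induction X using Opposite.rec with | _ U
    have hxy' : φ.app (op U) x = φ.app (op U) y := hxy
    obtain ⟨S, hS, hS'⟩ := h U (x - y) (by rw [map_sub, hxy', sub_self])
    refine J.superset_covering (fun V g hg => ?_) hS
    have := hS' g hg
    rw [map_sub, sub_eq_zero] at this
    exact this

end Groth.Agent.Helper9.TensorLoc
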