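import Mathlib
import Groth.Prelude.Def_ModSite
import Groth.Agent.Helper9.TensorLoc
import Groth.Agent.Helper3.SheafModLib

/-!
# Tensor products of sheaves of modules: sheafification is monoidal; internal Hom exists
-/

namespace Groth.Agent.Helper9.TensorSh

open CategoryTheory MonoidalCategory Opposite Limits Groth.Agent.Helper9.TensorLoc

universe u

variable {C : Type u} [SmallCategory C] {J : GrothendieckTopology C} (O : Sheaf J CommRingCat.{u})

/-- presheaves of `O`-modules -/
abbrev PM : Type (u + 1) := PresheafOfModules.{u} (O.obj ⋙ forget₂ CommRingCat.{u} RingCat.{u})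

/-- sheafification -/
noncomputable abbrev a : PM O ⥤ ModSite.Mod O := ModSite.sheafify O

/-- the inclusion -/
noncomputable abbrev ι : ModSite.Mod O ⥤ PM O := SheafOfModules.forget (ModSite.ringSh O)

/-- the sheafification adjunction -/
noncomputable abbrev adj : a O ⊣ SheafOfModules.forget (ModSite.ringSh O) ⋙
    PresheafOfModules.restrictScalars (𝟙 (ModSite.ringSh O).obj) :=
  PresheafOfModules.sheafificationAdjunction (𝟙 (ModSite.ringSh O).obj)

/-- the unit -/
noncomputable def η (P : PM O) : P ⟶ (ι O).obj ((a O).obj P) := (adj O).unit.app P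

variable {O}

theorem isIso_a_map {P Q : PM O} (ψ : P ⟶ Q) (hi : LocInj J ψ) (hs : LocSurj J ψ) :
    IsIso ((a O).map ψ) := by
  haveI := isLocallyInjective_of J ψ hi
  haveI := isLocallySurjective_of J ψ hs
  have hW : J.W ((PresheafOfModules.toPresheaf _).map ψ) := J.W_of_isLocallyBijective _
  have h1 : IsIso ((presheafToSheaf J AddCommGrpCat.{u}).map
      ((PresheafOfModules.toPresheaf _).map ψ)) := (J.W_iff _).1 hW
  have h2 : IsIso ((SheafOfModules.toSheaf _).map ((a O).map ψ)) := h1
  exact isIso_of_reflects_iso _ (SheafOfModules.toSheaf _)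

lemma locInj_η (P : PM O) : LocInj J (η O P) := by
  haveI : Presheaf.IsLocallyInjective J ((PresheafOfModules.toPresheaf _).map (η O P)) :=
    (inferInstance : Presheaf.IsLocallyInjective J (CategoryTheory.toSheafify J P.presheaf))
  exact locInj_of J (η O P)

lemma locSurj_η (P : PM O) : LocSurj J (η O P) := by
  haveI : Presheaf.IsLocallySurjective J ((PresheafOfModules.toPresheaf _).map (η O P)) :=
    (inferInstance : Presheaf.IsLocallySurjective J (CategoryTheory.toSheafify J P.presheaf))
  exact locSurj_of J (η O P)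

instance isIso_a_map_whiskerRight (P N : PM O) : IsIso ((a O).map (η O P ▷ N)) :=
  isIso_a_map _ (locInj_whiskerRight J N _ (locInj_η P) (locSurj_η P))
    (locSurj_whiskerRight J N _ (locSurj_η P))

instance isIso_a_map_whiskerLeft (P N : PM O) : IsIso ((a O).map (N ◁ η O P)) := by
  have h : N ◁ η O P = (β_ N P).hom ≫ (η O P ▷ N) ≫ (β_ N _).inv := by
    rw [← Category.assoc, ← BraidedCategory.braiding_naturality_right, Category.assoc,
      Iso.hom_inv_id, Category.comp_id]
  rw [h, Functor.map_comp, Functor.map_comp]
  infer_instance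

theorem isIso_a_map_tensorHom (M N : PM O) : IsIso ((a O).map (η O M ⊗ₘ η O N)) := by
  rw [MonoidalCategory.tensorHom_def, Functor.map_comp]
  infer_instance

/-- sheafification is monoidal -/
noncomputable def sheafifyTensorIso (M N : PM O) :
    (a O).obj (M ⊗ N) ≅ ((ModSite.tensorBi O).obj ((a O).obj M)).obj ((a O).obj N) :=
  @asIso _ _ _ _ ((a O).map (η O M ⊗ₘ η O N)) (isIso_a_map_tensorHom M N)

end Groth.Agent.Helper9.TensorSh
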