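import Mathlib
import Groth.Prelude.Def_ModSite
import Groth.Agent.Helper9.TensorSh
import Groth.Agent.Helper3.SheafModLib

/-!
# `- ⊗_O N` on sheaves of modules preserves colimits and has a right adjoint
-/

namespace Groth.Agent.Helper9.TensorAdj

open CategoryTheory MonoidalCategory Opposite Limits Groth.Agent.Helper9.TensorLoc
  Groth.Agent.Helper9.TensorSh

universe u

variable {C : Type u} [SmallCategory C] {J : GrothendieckTopology C} {O : Sheaf J CommRingCat.{u}}

/-- a functor out of sheaves of modules preserves colimits as soon as its composition with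
sheafification does -/
lemma preservesColimits_of_comp {D' : Type*} [Category D'] (F : ModSite.Mod O ⥤ D')
    [PreservesColimitsOfSize.{u, u} (a O ⋙ F)] : PreservesColimitsOfSize.{u, u} F := by
  constructor
  intro K _
  constructor
  intro D
  let ι' : ModSite.Mod O ⥤ PM O := SheafOfModules.forget (ModSite.ringSh O) ⋙
    PresheafOfModules.restrictScalars (𝟙 (ModSite.ringSh O).obj)
  haveI hci : IsIso (adj O).counit :=
    inferInstanceAs (IsIso (PresheafOfModules.sheafificationAdjunction
      (𝟙 (ModSite.ringSh O).obj)).counit)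
  haveI : PreservesColimitsOfSize.{u, u} (a O) := (adj O).leftAdjoint_preservesColimits
  let e0 : ι' ⋙ a O ≅ 𝟭 _ := asIso (adj O).counit
  let e' : D ≅ (D ⋙ ι') ⋙ a O := Functor.isoWhiskerLeft D e0.symm
  have h0 : PreservesColimit ((D ⋙ ι') ⋙ a O) F := by
    have h1 : PreservesColimit (D ⋙ ι') (a O ⋙ F) := inferInstance
    let c := colimit.cocone (D ⋙ ι')
    have hc : IsColimit c := colimit.isColimit _
    have hSc : IsColimit ((a O).mapCocone c) := isColimitOfPreserves (a O) hc
    refine preservesColimit_of_preserves_colimit_cocone hSc ?_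
    exact IsColimit.ofIsoColimit (isColimitOfPreserves (a O ⋙ F) hc)
      (Cocone.ext (Iso.refl _) (by intro j; exact Category.comp_id _))
  exact preservesColimit_of_iso_diagram _ e'.symm

variable (N : ModSite.Mod O)

/-- `- ⊗ N` -/
noncomputable abbrev TN : ModSite.Mod O ⥤ ModSite.Mod O := (ModSite.tensorBi O).flip.obj N

/-- presheaf-level `a(- ⊗ N)` -/
noncomputable abbrev GN : PM O ⥤ ModSite.Mod O := tensorRight ((ι O).obj N) ⋙ a O

lemma TN_map {M M' : ModSite.Mod O} (g : M ⟶ M') :
    (TN N).map g = (a O).map ((ι O).map g ▷ (ι O).obj N) := rfl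

/-- `a(P ⊗ N) ≅ aP ⊗ N` naturally in `P` -/
noncomputable def isoG : GN N ≅ a O ⋙ TN N :=
  NatIso.ofComponents (fun P => @asIso _ _ _ _ ((a O).map (η O P ▷ (ι O).obj N))
      (isIso_a_map_whiskerRight P ((ι O).obj N)))
    (by
      intro P P' f
      show (a O).map (f ▷ _) ≫ (a O).map (η O P' ▷ _) =
        (a O).map (η O P ▷ _) ≫ (a O).map ((ι O).map ((a O).map f) ▷ _)
      rw [← Functor.map_comp, ← Functor.map_comp, ← comp_whiskerRight, ← comp_whiskerRight]
      congr 2
      exact (adj O).unit.naturality f)

instance : PreservesColimitsOfSize.{u, u} (GN N) := by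
  haveI : PreservesColimitsOfSize.{u, u} (a O) := (adj O).leftAdjoint_preservesColimits
  infer_instance

instance preservesColimits_TN : PreservesColimitsOfSize.{u, u} (TN N) := by
  haveI : PreservesColimitsOfSize.{u, u} (a O ⋙ TN N) := preservesColimits_of_natIso (isoG N)
  exact preservesColimits_of_comp _

theorem hasSheafHom : ModSite.HasSheafHom N :=
  Groth.Agent.Helper3.SheafModLib.isLeftAdjoint_of_preservesColimits (ModSite.ringSh O) (TN N)

end Groth.Agent.Helper9.TensorAdj
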