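import Mathlib
import Groth.Prelude.Def_ModSite
import Groth.Agent.Helper9.TensorAdj

/-!
# Flat sheaves of modules: colimits
-/

namespace Groth.Agent.Helper9.TensorFlat

open CategoryTheory MonoidalCategory Opposite Limits Groth.Agent.Helper9.TensorLoc
  Groth.Agent.Helper9.TensorSh Groth.Agent.Helper9.TensorAdj

universe u

variable {C : Type u} [SmallCategory C] {J : GrothendieckTopology C} {O : Sheaf J CommRingCat.{u}}

/-- `M ⊗ -` -/
noncomputable abbrev TL (M : ModSite.Mod O) : ModSite.Mod O ⥤ ModSite.Mod O :=
  (ModSite.tensorBi O).obj M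

lemma TL_map (M : ModSite.Mod O) {N N' : ModSite.Mod O} (g : N ⟶ N') :
    (TL M).map g = (a O).map ((ι O).obj M ◁ (ι O).map g) := rfl

/-- symmetry of the tensor product of sheaves of modules -/
noncomputable def symIso (M : ModSite.Mod O) : TL M ≅ TN M :=
  NatIso.ofComponents (fun N => (a O).mapIso (β_ ((ι O).obj M) ((ι O).obj N)))
    (by
      intro N N' g
      show (a O).map (_ ◁ (ι O).map g) ≫ (a O).map (β_ _ _).hom =
        (a O).map (β_ _ _).hom ≫ (a O).map ((ι O).map g ▷ _)
      rw [← Functor.map_comp, ← Functor.map_comp]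
      exact congrArg (a O).map
        (BraidedCategory.braiding_naturality_right ((ι O).obj M) ((ι O).map g)))

instance preservesColimits_TL (M : ModSite.Mod O) : PreservesColimitsOfSize.{u, u} (TL M) :=
  preservesColimits_of_natIso (symIso M).symm

instance (N : ModSite.Mod O) : PreservesFiniteColimits (TN N) :=
  PreservesColimitsOfSize.preservesFiniteColimits _

instance preservesZeroMorphisms_TN (N : ModSite.Mod O) : (TN N).PreservesZeroMorphisms := by
  haveI : PreservesColimitsOfShape (Discrete PEmpty.{1}) (TN N) :=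
    PreservesFiniteColimits.preservesFiniteColimits _
  haveI : PreservesColimit (Functor.empty.{0} (ModSite.Mod O)) (TN N) := inferInstance
  exact Functor.preservesZeroMorphisms_of_preserves_initial_object

attribute [local instance] preservesBinaryBiproducts_of_preservesBinaryCoproducts in
instance additive_TN (N : ModSite.Mod O) : (TN N).Additive :=
  Functor.additive_of_preservesBinaryBiproducts _

/-- a module is flat as soon as tensoring with it preserves monomorphisms -/
lemma isFlat_of_mono (N : ModSite.Mod O)
    (h : ∀ {M' M : ModSite.Mod O} (f : M' ⟶ M), Mono f → Mono ((TN N).map f)) :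
    ModSite.IsFlat N := by
  refine ⟨?_, inferInstance⟩
  refine ((Functor.preservesFiniteLimits_tfae (TN N)).out 0 3).1 ?_
  intro S hS
  refine ⟨?_, h S.f hS.mono_f⟩
  have h3 : PreservesFiniteColimits (TN N) := inferInstance
  have hc : ∀ (S : ShortComplex (ModSite.Mod O)), S.ShortExact →
      (S.map (TN N)).Exact ∧ Epi ((TN N).map S.g) :=
    ((Functor.preservesFiniteColimits_tfae (TN N)).out 3 0).1 h3
  exact (hc S hS).1

lemma mono_of_isFlat (N : ModSite.Mod O) (hN : ModSite.IsFlat N) {M' M : ModSite.Mod O}
    (f : M' ⟶ M) [Mono f] : Mono ((TN N).map f) := by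
  haveI := hN.1
  infer_instance

section Colim

variable {I : Type u} [SmallCategory I] [HasExactColimitsOfShape I (ModSite.Mod O)]
  (D : I ⥤ ModSite.Mod O) (hD : ∀ i, ModSite.IsFlat (D.obj i)) (c : Cocone D) (hc : IsColimit c)

include hD hc in
theorem isFlat_of_isColimit : ModSite.IsFlat c.pt := by
  apply isFlat_of_mono
  intro M' M f hf
  have hM' : IsColimit ((TL M').mapCocone c) := isColimitOfPreserves (TL M') hc
  have hM : IsColimit ((TL M).mapCocone c) := isColimitOfPreserves (TL M) hc
  let α : D ⋙ TL M' ⟶ D ⋙ TL M := Functor.whiskerLeft D ((ModSite.tensorBi O).map f)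
  haveI : ∀ i, Mono (α.app i) := fun i => mono_of_isFlat (D.obj i) (hD i) f
  haveI : Mono α := NatTrans.mono_of_mono_app α
  haveI : Mono (colim.map α) := inferInstance
  let e' := (colimit.isColimit (D ⋙ TL M')).coconePointUniqueUpToIso hM'
  let e := (colimit.isColimit (D ⋙ TL M)).coconePointUniqueUpToIso hM
  have key : (TN c.pt).map f = e'.inv ≫ colim.map α ≫ e.hom := by
    rw [Iso.eq_inv_comp]
    apply colimit.hom_ext
    intro i
    have h1 : colimit.ι (D ⋙ TL M') i ≫ e'.hom = (TL M').map (c.ι.app i) :=
      IsColimit.comp_coconePointUniqueUpToIso_hom _ hM' i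
    have h2 : colimit.ι (D ⋙ TL M) i ≫ e.hom = (TL M).map (c.ι.app i) :=
      IsColimit.comp_coconePointUniqueUpToIso_hom _ hM i
    have h3 : colimit.ι (D ⋙ TL M') i ≫ colim.map α = α.app i ≫ colimit.ι (D ⋙ TL M) i :=
      ι_colimMap α i
    rw [← Category.assoc, h1, ← Category.assoc, h3, Category.assoc, h2]
    exact ((ModSite.tensorBi O).map f).naturality (c.ι.app i)
  rw [key]
  infer_instance

end Colim

instance hasExactColimitsOfShape_filtered (I : Type u) [SmallCategory I] [IsFiltered I] :
    HasExactColimitsOfShape I (ModSite.Mod O) := by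
  haveI := Groth.Agent.Helper3.SheafModLib.toSheaf_preservesColimits (ModSite.ringSh O)
  exact HasExactColimitsOfShape.domain_of_functor I (SheafOfModules.toSheaf (ModSite.ringSh O))

instance hasExactColimitsOfShape_discrete (κ : Type u) :
    HasExactColimitsOfShape (Discrete κ) (ModSite.Mod O) := by
  haveI := Groth.Agent.Helper3.SheafModLib.toSheaf_preservesColimits (ModSite.ringSh O)
  haveI : HasColimitsOfShape (Discrete κ) (Sheaf J AddCommGrpCat.{u}) :=
    HasColimitsOfSize.has_colimits_of_shape _
  haveI : HasFiniteBiproducts (Sheaf J AddCommGrpCat.{u}) := Abelian.hasFiniteBiproducts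
  haveI : AB4OfSize.{u} (Sheaf J AddCommGrpCat.{u}) := AB4.of_AB5 _
  exact HasExactColimitsOfShape.domain_of_functor (Discrete κ)
    (SheafOfModules.toSheaf (ModSite.ringSh O))

end Groth.Agent.Helper9.TensorFlat
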