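import Mathlib
import Groth.Prelude.Def_ModSite
import Groth.Agent.Helper9.TensorFlat
import Groth.Agent.Helper9.PshFlat
import Groth.Agent.Helper9.ModFree

/-!
# Sheafifications of sectionwise flat presheaves are flat; enough flats
-/

namespace Groth.Agent.Helper9.TensorFree

open CategoryTheory MonoidalCategory Opposite Limits Groth.Agent.Helper9.TensorLoc
  Groth.Agent.Helper9.TensorSh Groth.Agent.Helper9.TensorAdj Groth.Agent.Helper9.TensorFlat

universe u

variable {C : Type u} [SmallCategory C] {J : GrothendieckTopology C} {O : Sheaf J CommRingCat.{u}}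

/-- `M ⊗ aF ≅ a(ιM ⊗ F)` -/
noncomputable def isoTNa (F : PM O) : ι O ⋙ tensorRight F ⋙ a O ≅ TN ((a O).obj F) :=
  NatIso.ofComponents (fun M => @asIso _ _ _ _ ((a O).map ((ι O).obj M ◁ η O F))
      (isIso_a_map_whiskerLeft F ((ι O).obj M)))
    (by
      intro M M' g
      show (a O).map ((ι O).map g ▷ F) ≫ (a O).map (_ ◁ η O F) =
        (a O).map (_ ◁ η O F) ≫ (a O).map ((ι O).map g ▷ _)
      rw [← Functor.map_comp, ← Functor.map_comp]
      exact congrArg (a O).map (whisker_exchange ((ι O).map g) (η O F)).symm)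

theorem isFlat_a (F : PM O)
    (hF : ∀ X : Cᵒᵖ, Module.Flat (O.obj.obj X) (F.obj X)) : ModSite.IsFlat ((a O).obj F) := by
  refine ⟨?_, inferInstance⟩
  haveI : PreservesFiniteLimits (tensorRight F) :=
    PshFlat.preservesFiniteLimits_tensorRight O.obj F hF
  haveI : PreservesFiniteLimits (ι O) := by
    haveI : PreservesLimitsOfSize.{u, u} (SheafOfModules.forget.{u} (ModSite.ringSh O)) :=
      inferInstance
    exact inferInstanceAs (PreservesFiniteLimits (SheafOfModules.forget.{u} (ModSite.ringSh O)))
  haveI : PreservesFiniteLimits (a O) :=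
    inferInstanceAs (PreservesFiniteLimits
      (PresheafOfModules.sheafification.{u} (𝟙 (ModSite.ringSh O).obj)))
  exact preservesFiniteLimits_of_natIso (isoTNa F)

/-- free modules are flat -/
theorem isFlat_free (P : Cᵒᵖ ⥤ Type u) :
    ModSite.IsFlat ((ModFree.L (ModSite.ringSh O)).obj P) := by
  refine isFlat_a ((PresheafOfModules.free _).obj P) (fun X => ?_)
  exact inferInstanceAs (Module.Flat (O.obj.obj X) (P.obj X →₀ O.obj.obj X))

/-- every module is a quotient of a flat module -/
theorem exists_epi_of_isFlat (F : ModSite.Mod O) :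
    ∃ (G : ModSite.Mod O) (π : G ⟶ F), ModSite.IsFlat G ∧ Epi π := by
  haveI : (ModFree.G (ModSite.ringSh O)).Faithful := inferInstance
  exact ⟨_, (ModFree.adjL (ModSite.ringSh O)).counit.app F, isFlat_free _, inferInstance⟩

end Groth.Agent.Helper9.TensorFree
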