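import Mathlib
import Groth.Prelude.Def_ModSite
import Groth.Agent.Helper9.TensorFree
import Groth.Agent.Helper9.ChaseMono

/-!
# Short exact sequences with flat quotient stay exact after tensoring; two out of three for flatness
-/

namespace Groth.Agent.Helper9.TensorSES

open CategoryTheory MonoidalCategory Opposite Limits Groth.Agent.Helper9.TensorLoc
  Groth.Agent.Helper9.TensorSh Groth.Agent.Helper9.TensorAdj Groth.Agent.Helper9.TensorFlat
  Groth.Agent.Helper9.TensorFree

universe u

section General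

variable {A B : Type*} [Category A] [Abelian A] [Category B] [Abelian B]

attribute [local instance] preservesBinaryBiproducts_of_preservesBinaryCoproducts in
/-- right exact functors: image of a short exact sequence -/
lemma map_exact_epi (F : A ⥤ B) [PreservesFiniteColimits F] (S : ShortComplex A)
    (hS : S.ShortExact) :
    ∃ (z : F.map S.f ≫ F.map S.g = 0), (ShortComplex.mk _ _ z).Exact ∧ Epi (F.map S.g) := by
  haveI : PreservesColimitsOfShape (Discrete PEmpty.{1}) F :=
    PreservesFiniteColimits.preservesFiniteColimits _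
  haveI : PreservesColimit (Functor.empty.{0} A) F := inferInstance
  haveI : F.PreservesZeroMorphisms := Functor.preservesZeroMorphisms_of_preserves_initial_object
  haveI : F.Additive := Functor.additive_of_preservesBinaryBiproducts _
  have h3 : PreservesFiniteColimits F := inferInstance
  have hc : ∀ (S : ShortComplex A), S.ShortExact → (S.map F).Exact ∧ Epi (F.map S.g) :=
    ((Functor.preservesFiniteColimits_tfae F).out 3 0).1 h3
  exact ⟨(S.map F).zero, (hc S hS).1, (hc S hS).2⟩

end General

variable {C : Type u} [SmallCategory C] {J : GrothendieckTopology C} {O : Sheaf J CommRingCat.{u}}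

instance (M : ModSite.Mod O) : PreservesFiniteColimits (TL M) :=
  PreservesColimitsOfSize.preservesFiniteColimits _

lemma mono_TL_map_of_isFlat (F : ModSite.Mod O) (hF : ModSite.IsFlat F) {K L : ModSite.Mod O}
    (k : K ⟶ L) [Mono k] : Mono ((TL F).map k) := by
  haveI := mono_of_isFlat F hF k
  have h : (TL F).map k = (symIso F).hom.app K ≫ (TN F).map k ≫ (symIso F).inv.app L := by
    rw [← Category.assoc, ← (symIso F).hom.naturality k, Category.assoc, Iso.hom_inv_id_app,
      Category.comp_id]
  rw [h]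
  infer_instance

/-- if `0 → F'' → F' → F → 0` is exact with `F` flat then `F'' ⊗ G → F' ⊗ G` is a monomorphism -/
theorem mono_TN_map_of_flat_quotient (S : ShortComplex (ModSite.Mod O)) (hS : S.ShortExact)
    (hF : ModSite.IsFlat S.X₃) (G : ModSite.Mod O) : Mono ((TN G).map S.f) := by
  obtain ⟨L, π, hL, hπ⟩ := exists_epi_of_isFlat G
  let Sk : ShortComplex (ModSite.Mod O) := ShortComplex.mk (kernel.ι π) π (kernel.condition π)
  have hSk : Sk.ShortExact :=
    { exact := ShortComplex.exact_kernel π
      mono_f := by dsimp [Sk]; infer_instance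
      epi_g := hπ }
  obtain ⟨z₁, _, he₁⟩ := map_exact_epi (TL S.X₁) Sk hSk
  obtain ⟨z₂, hx₂, _⟩ := map_exact_epi (TL S.X₂) Sk hSk
  obtain ⟨zK, hxK, _⟩ := map_exact_epi (TN (kernel π)) S hS
  haveI : Mono S.f := hS.mono_f
  haveI : Mono ((TN L).map S.f) := mono_of_isFlat L hL S.f
  haveI : Mono ((TL S.X₃).map (kernel.ι π)) := mono_TL_map_of_isFlat S.X₃ hF _
  haveI : Epi ((TL S.X₁).map π) := he₁
  have huv : (TN L).map S.f ≫ (TN L).map S.g = 0 := by
    rw [← Functor.map_comp, S.zero, Functor.map_zero]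
  exact ChaseMono.mono_of_chase ((TL S.X₁).map (kernel.ι π)) ((TL S.X₁).map π)
    ((TL S.X₂).map (kernel.ι π)) ((TL S.X₂).map π) ((TL S.X₃).map (kernel.ι π))
    ((TN (kernel π)).map S.f) ((TN (kernel π)).map S.g) ((TN L).map S.f) ((TN L).map S.g)
    ((TN G).map S.f) z₁ z₂ hx₂ zK hxK huv
    (((ModSite.tensorBi O).map S.f).naturality (kernel.ι π))
    (((ModSite.tensorBi O).map S.g).naturality (kernel.ι π))
    (((ModSite.tensorBi O).map S.f).naturality π)

theorem shortExact_map_TN (S : ShortComplex (ModSite.Mod O)) (hS : S.ShortExact)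
    (hF : ModSite.IsFlat S.X₃) (G : ModSite.Mod O) [(TN G).PreservesZeroMorphisms] :
    (S.map (TN G)).ShortExact := by
  obtain ⟨z, hx, he⟩ := map_exact_epi (TN G) S hS
  exact { exact := hx, mono_f := mono_TN_map_of_flat_quotient S hS hF G, epi_g := he }

lemma mono_TL_map_of_flat_quotient (S : ShortComplex (ModSite.Mod O)) (hS : S.ShortExact)
    (hF : ModSite.IsFlat S.X₃) (G : ModSite.Mod O) : Mono ((TL G).map S.f) := by
  haveI := mono_TN_map_of_flat_quotient S hS hF G
  have h : (TL G).map S.f = (symIso G).hom.app S.X₁ ≫ (TN G).map S.f ≫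
      (symIso G).inv.app S.X₂ := by
    rw [← Category.assoc, ← (symIso G).hom.naturality S.f, Category.assoc, Iso.hom_inv_id_app,
      Category.comp_id]
  rw [h]
  infer_instance

/-- kernel of an epimorphism of flat modules onto a flat module is flat -/
theorem isFlat_X₁ (S : ShortComplex (ModSite.Mod O)) (hS : S.ShortExact)
    (h₁ : ModSite.IsFlat S.X₂) (h₀ : ModSite.IsFlat S.X₃) : ModSite.IsFlat S.X₁ := by
  apply isFlat_of_mono
  intro M' M m hm
  haveI := mono_TL_map_of_flat_quotient S hS h₀ M'
  haveI := mono_of_isFlat S.X₂ h₁ m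
  have hsq : (TN S.X₁).map m ≫ (TL M).map S.f = (TL M').map S.f ≫ (TN S.X₂).map m :=
    (((ModSite.tensorBi O).map m).naturality S.f).symm
  haveI : Mono ((TN S.X₁).map m ≫ (TL M).map S.f) := by
    rw [hsq]
    infer_instance
  exact mono_of_mono _ ((TL M).map S.f)

/-- an extension of flat modules is flat -/
theorem isFlat_X₂ (S : ShortComplex (ModSite.Mod O)) (hS : S.ShortExact)
    (h₂ : ModSite.IsFlat S.X₁) (h₀ : ModSite.IsFlat S.X₃) : ModSite.IsFlat S.X₂ := by
  apply isFlat_of_mono
  intro M' M m hm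
  obtain ⟨z', hx', _⟩ := map_exact_epi (TL M') S hS
  obtain ⟨z, _, _⟩ := map_exact_epi (TL M) S hS
  let S₁ : ShortComplex (ModSite.Mod O) := ShortComplex.mk _ _ z'
  let S₂ : ShortComplex (ModSite.Mod O) := ShortComplex.mk _ _ z
  let φ : S₁ ⟶ S₂ :=
    { τ₁ := (TN S.X₁).map m
      τ₂ := (TN S.X₂).map m
      τ₃ := (TN S.X₃).map m
      comm₁₂ := (((ModSite.tensorBi O).map m).naturality S.f).symm
      comm₂₃ := (((ModSite.tensorBi O).map m).naturality S.g).symm }
  haveI : Mono S₁.f := mono_TL_map_of_flat_quotient S hS h₀ M'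
  haveI : Mono S₂.f := mono_TL_map_of_flat_quotient S hS h₀ M
  haveI : Mono φ.τ₁ := mono_of_isFlat S.X₁ h₂ m
  haveI : Mono φ.τ₃ := mono_of_isFlat S.X₃ h₀ m
  exact ShortComplex.mono_τ₂_of_exact_of_mono φ hx'

end Groth.Agent.Helper9.TensorSES
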