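import Mathlib
import Groth.Prelude.Def_ModSite
import Groth.Agent.Helper9.TensorSES

/-!
# Acyclic bounded below complexes of flat modules stay acyclic after tensoring
-/

namespace Groth.Agent.Helper9.FlatCx

open CategoryTheory MonoidalCategory Opposite Limits Groth.Agent.Helper9.TensorLoc
  Groth.Agent.Helper9.TensorSh Groth.Agent.Helper9.TensorAdj Groth.Agent.Helper9.TensorFlat
  Groth.Agent.Helper9.TensorFree Groth.Agent.Helper9.TensorSES

universe u

section General

variable {A : Type*} [Category A] [Abelian A] {ι : Type*} {c : ComplexShape ι}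
  (M : HomologicalComplex A c)

/-- the map to the cycles -/
noncomputable def p (i j k : ι) : M.X i ⟶ kernel (M.d j k) :=
  kernel.lift _ (M.d i j) (M.d_comp_d i j k)

lemma p_ι (i j k : ι) : p M i j k ≫ kernel.ι (M.d j k) = M.d i j := kernel.lift_ι _ _ _

lemma ι_p (j k l : ι) : kernel.ι (M.d j k) ≫ p M j k l = 0 := by
  rw [← cancel_mono (kernel.ι (M.d k l)), Category.assoc, p_ι, kernel.condition, zero_comp]

/-- the short complex `Z_j → M_j → Z_k` -/
noncomputable abbrev S (j k l : ι) : ShortComplex A :=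
  ShortComplex.mk (kernel.ι (M.d j k)) (p M j k l) (ι_p M j k l)

lemma epi_p (i j k : ι) (h : (M.sc' i j k).Exact) : Epi (p M i j k) :=
  (M.sc' i j k).exact_iff_epi_kernel_lift.1 h

lemma S_shortExact (j k l : ι) (h : (M.sc' j k l).Exact) : (S M j k l).ShortExact := by
  let φ : S M j k l ⟶ ShortComplex.mk (kernel.ι (M.d j k)) (M.d j k) (kernel.condition _) :=
    { τ₁ := 𝟙 _
      τ₂ := 𝟙 _
      τ₃ := kernel.ι (M.d k l)
      comm₁₂ := (Category.id_comp _).trans (Category.comp_id _).symm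
      comm₂₃ := (Category.id_comp _).trans (p_ι M j k l).symm }
  haveI : Epi φ.τ₁ := inferInstanceAs (Epi (𝟙 (kernel (M.d j k))))
  haveI : IsIso φ.τ₂ := inferInstanceAs (IsIso (𝟙 (M.X j)))
  haveI : Mono φ.τ₃ := inferInstanceAs (Mono (kernel.ι (M.d k l)))
  exact
    { exact := (ShortComplex.exact_iff_of_epi_of_isIso_of_mono φ).2 (ShortComplex.exact_kernel _)
      mono_f := inferInstanceAs (Mono (kernel.ι (M.d j k)))
      epi_g := epi_p M j k l h }

variable {B : Type*} [Category B] [Abelian B] (T : A ⥤ B) [T.PreservesZeroMorphisms]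

/-- splicing -/
lemma exact_map_of_splice (i j k l : ι)
    [Epi (T.map (p M i j k))] [Mono (T.map (kernel.ι (M.d k l)))]
    (z : T.map (kernel.ι (M.d j k)) ≫ T.map (p M j k l) = 0)
    (h : (ShortComplex.mk _ _ z).Exact)
    (w : T.map (M.d i j) ≫ T.map (M.d j k) = 0) :
    (ShortComplex.mk _ _ w).Exact := by
  have z' : T.map (kernel.ι (M.d j k)) ≫ T.map (M.d j k) = 0 := by
    rw [← Functor.map_comp, kernel.condition, Functor.map_zero]
  let φ : ShortComplex.mk _ _ z ⟶ ShortComplex.mk _ _ z' :=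
    { τ₁ := 𝟙 _
      τ₂ := 𝟙 _
      τ₃ := T.map (kernel.ι (M.d k l))
      comm₁₂ := (Category.id_comp _).trans (Category.comp_id _).symm
      comm₂₃ := by
        show 𝟙 _ ≫ T.map (M.d j k) = T.map (p M j k l) ≫ T.map (kernel.ι (M.d k l))
        rw [Category.id_comp, ← Functor.map_comp, p_ι] }
  haveI : Epi φ.τ₁ := inferInstanceAs (Epi (𝟙 (T.obj (kernel (M.d j k)))))
  haveI : IsIso φ.τ₂ := inferInstanceAs (IsIso (𝟙 (T.obj (M.X j))))
  haveI : Mono φ.τ₃ := inferInstanceAs (Mono (T.map (kernel.ι (M.d k l))))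
  have hS' : (ShortComplex.mk _ _ z').Exact :=
    (ShortComplex.exact_iff_of_epi_of_isIso_of_mono φ).1 h
  let ψ : ShortComplex.mk _ _ w ⟶ ShortComplex.mk _ _ z' :=
    { τ₁ := T.map (p M i j k)
      τ₂ := 𝟙 _
      τ₃ := 𝟙 _
      comm₁₂ := by
        show T.map (p M i j k) ≫ T.map (kernel.ι (M.d j k)) = T.map (M.d i j) ≫ 𝟙 _
        rw [Category.comp_id, ← Functor.map_comp, p_ι]
      comm₂₃ := (Category.id_comp _).trans (Category.comp_id _).symm }
  haveI : Epi ψ.τ₁ := inferInstanceAs (Epi (T.map (p M i j k)))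
  haveI : IsIso ψ.τ₂ := inferInstanceAs (IsIso (𝟙 (T.obj (M.X j))))
  haveI : Mono ψ.τ₃ := inferInstanceAs (Mono (𝟙 (T.obj (M.X k))))
  exact (ShortComplex.exact_iff_of_epi_of_isIso_of_mono ψ).2 hS'

end General

variable {C : Type u} [SmallCategory C] {J : GrothendieckTopology C} {O : Sheaf J CommRingCat.{u}}

instance preservesZeroMorphisms_TL (M : ModSite.Mod O) : (TL M).PreservesZeroMorphisms := by
  haveI : PreservesColimitsOfShape (Discrete PEmpty.{1}) (TL M) :=
    PreservesFiniteColimits.preservesFiniteColimits _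
  haveI : PreservesColimit (Functor.empty.{0} (ModSite.Mod O)) (TL M) := inferInstance
  exact Functor.preservesZeroMorphisms_of_preserves_initial_object

lemma isFlat_of_isZero (N : ModSite.Mod O) (hN : IsZero N) : ModSite.IsFlat N := by
  apply isFlat_of_mono
  intro M' M m hm
  have hz : IsZero ((TL M').obj N) := Functor.map_isZero _ hN
  exact ⟨fun g h _ => hz.eq_of_tgt g h⟩

variable (M : ChainComplex (ModSite.Mod O) ℤ)

lemma sc'_exact (hac : M.Acyclic) (k l j : ℤ) (hk : l + 1 = k) (hl : j + 1 = l) :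
    (M.sc' k l j).Exact := by
  refine (M.exactAt_iff' k l j ?_ ?_).1 (hac l)
  · exact ComplexShape.prev_eq' _ hk
  · exact ComplexShape.next_eq' _ hl

lemma isFlat_cycles (hb : ∃ i₀ : ℤ, ∀ i, i < i₀ → IsZero (M.X i))
    (hM : ∀ i, ModSite.IsFlat (M.X i)) (hac : M.Acyclic) (k l : ℤ) (hkl : l + 1 = k) :
    ModSite.IsFlat (kernel (M.d k l)) := by
  obtain ⟨i₀, hi₀⟩ := hb
  have key : ∀ n : ℕ, ∀ k l : ℤ, l + 1 = k → k < i₀ + n → ModSite.IsFlat (kernel (M.d k l)) := by
    intro n
    induction n with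
    | zero =>
      intro k l _ hk
      apply isFlat_of_isZero
      have hz : IsZero (M.X k) := hi₀ k (by simpa using hk)
      exact IsZero.of_mono (kernel.ι (M.d k l)) hz
    | succ n ih =>
      intro k l hkl hk
      have h3 : ModSite.IsFlat (kernel (M.d l (l - 1))) :=
        ih l (l - 1) (by ring) (by push_cast at hk; omega)
      exact isFlat_X₁ (S M k l (l - 1))
        (S_shortExact M k l (l - 1) (sc'_exact M hac k l (l - 1) hkl (by ring))) (hM k) h3
  obtain ⟨n, hn⟩ : ∃ n : ℕ, k < i₀ + n := ⟨(k - i₀ + 1).toNat, by omega⟩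
  exact key n k l hkl hn

theorem exact_map_TN (F : ModSite.Mod O)
    (hb : ∃ i₀ : ℤ, ∀ i, i < i₀ → IsZero (M.X i))
    (hM : ∀ i, ModSite.IsFlat (M.X i)) (hac : M.Acyclic) (i : ℤ)
    (w : (TN F).map (M.d (i + 1) i) ≫ (TN F).map (M.d i (i - 1)) = 0) :
    (ShortComplex.mk _ _ w).Exact := by
  have ha := S_shortExact M (i + 1) i (i - 1) (sc'_exact M hac (i + 1) i (i - 1) rfl (by ring))
  have hb' := S_shortExact M i (i - 1) (i - 1 - 1)
    (sc'_exact M hac i (i - 1) (i - 1 - 1) (by ring) (by ring))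
  have hc := S_shortExact M (i - 1) (i - 1 - 1) (i - 1 - 1 - 1)
    (sc'_exact M hac (i - 1) (i - 1 - 1) (i - 1 - 1 - 1) (by ring) (by ring))
  have fb : ModSite.IsFlat (kernel (M.d (i - 1) (i - 1 - 1))) :=
    isFlat_cycles M hb hM hac (i - 1) (i - 1 - 1) (by ring)
  have fc : ModSite.IsFlat (kernel (M.d (i - 1 - 1) (i - 1 - 1 - 1))) :=
    isFlat_cycles M hb hM hac (i - 1 - 1) (i - 1 - 1 - 1) (by ring)
  have hTb := shortExact_map_TN _ hb' fb F
  haveI : Mono ((TN F).map (kernel.ι (M.d (i - 1) (i - 1 - 1)))) :=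
    mono_TN_map_of_flat_quotient _ hc fc F
  haveI : Epi (p M (i + 1) i (i - 1)) := ha.epi_g
  haveI : Epi ((TN F).map (p M (i + 1) i (i - 1))) := inferInstance
  exact exact_map_of_splice M (TN F) (i + 1) i (i - 1) (i - 1 - 1) _ hTb.exact w

end Groth.Agent.Helper9.FlatCx
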