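import Mathlib

/-!
# Generalities for K-flat complexes: coproducts of short exact sequences, two out of three for
acyclic complexes in a short exact sequence of complexes
-/

set_option autoImplicit false
set_option linter.style.haveILetI false
set_option linter.unusedSectionVars false

namespace Groth.Agent.Helper9.KFlat1

open CategoryTheory Limits

universe w v u

section Cofan

variable {A : Type u} [Category.{v} A] [Abelian A] {κ : Type w}
  [HasColimitsOfShape (Discrete κ) A] [HasExactColimitsOfShape (Discrete κ) A]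

/-- pointwise exactness in a functor category -/
lemma exact_of_evaluation {J : Type*} [Category J] (S : ShortComplex (J ⥤ A))
    (h : ∀ j, (S.map ((evaluation J A).obj j)).Exact) : S.Exact := by
  rw [ShortComplex.exact_iff_isZero_homology, Functor.isZero_iff]
  intro j
  exact IsZero.of_iso ((ShortComplex.exact_iff_isZero_homology _).1 (h j))
    (S.mapHomologyIso ((evaluation J A).obj j)).symm

/-- a coproduct of short exact sequences is short exact (AB4), with arbitrary colimit cofans -/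
theorem shortExact_of_cofans (X₁ X₂ X₃ : κ → A) (f : ∀ i, X₁ i ⟶ X₂ i) (g : ∀ i, X₂ i ⟶ X₃ i)
    (w : ∀ i, f i ≫ g i = 0) (h : ∀ i, (ShortComplex.mk (f i) (g i) (w i)).ShortExact)
    (c₁ : Cofan X₁) (c₂ : Cofan X₂) (c₃ : Cofan X₃) (hc₁ : IsColimit c₁) (hc₂ : IsColimit c₂)
    (hc₃ : IsColimit c₃) (φ : c₁.pt ⟶ c₂.pt) (ψ : c₂.pt ⟶ c₃.pt)
    (hφ : ∀ i, c₁.inj i ≫ φ = f i ≫ c₂.inj i) (hψ : ∀ i, c₂.inj i ≫ ψ = g i ≫ c₃.inj i)
    (wφψ : φ ≫ ψ = 0) : (ShortComplex.mk φ ψ wφψ).ShortExact := by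
  let S : ShortComplex (Discrete κ ⥤ A) :=
    ShortComplex.mk (Discrete.natTrans (fun i => f i.as) : Discrete.functor X₁ ⟶ Discrete.functor X₂)
      (Discrete.natTrans (fun i => g i.as) : Discrete.functor X₂ ⟶ Discrete.functor X₃) (by
        ext ⟨i⟩
        exact w i)
  have hS : S.Exact := exact_of_evaluation S (fun ⟨i⟩ => (h i).exact)
  haveI : ∀ j : Discrete κ, Mono (S.f.app j) := fun ⟨i⟩ => (h i).mono_f
  haveI : Mono S.f := NatTrans.mono_of_mono_app S.f
  haveI : ∀ j : Discrete κ, Epi (S.g.app j) := fun ⟨i⟩ => (h i).epi_g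
  have hm : Mono φ := colim.map_mono' S.f hc₁ hc₂ φ (fun ⟨i⟩ => hφ i)
  have he : Epi ψ := colim.map_epi' S.g c₂ hc₃ ψ (fun ⟨i⟩ => hψ i)
  have hex := colim.exact_mapShortComplex (S := S) hS hc₁ hc₂ hc₃ φ ψ
    (fun ⟨i⟩ => hφ i) (fun ⟨i⟩ => hψ i)
  exact { exact := hex, mono_f := hm, epi_g := he }

end Cofan

section LES

variable {A : Type u} [Category.{v} A] [Abelian A]
  (S : ShortComplex (CochainComplex A ℤ)) (hS : S.ShortExact)

include hS

lemma acyclic_X₂ (h₁ : ∀ i, IsZero (S.X₁.homology i)) (h₃ : ∀ i, IsZero (S.X₃.homology i)) (i : ℤ) :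
    IsZero (S.X₂.homology i) :=
  (hS.homology_exact₂ i).isZero_of_both_zeros ((h₁ i).eq_of_src _ _) ((h₃ i).eq_of_tgt _ _)

lemma acyclic_X₃ (h₁ : ∀ i, IsZero (S.X₁.homology i)) (h₂ : ∀ i, IsZero (S.X₂.homology i)) (i : ℤ) :
    IsZero (S.X₃.homology i) :=
  (hS.homology_exact₃ i (i + 1) rfl).isZero_of_both_zeros ((h₂ i).eq_of_src _ _)
    ((h₁ (i + 1)).eq_of_tgt _ _)

lemma acyclic_X₁ (h₂ : ∀ i, IsZero (S.X₂.homology i)) (h₃ : ∀ i, IsZero (S.X₃.homology i)) (i : ℤ) :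
    IsZero (S.X₁.homology i) :=
  (hS.homology_exact₁ (i - 1) i (by simp)).isZero_of_both_zeros ((h₃ (i - 1)).eq_of_src _ _)
    ((h₂ i).eq_of_tgt _ _)

/-- if `X₁` is acyclic then `X₂ ⟶ X₃` is a quasi-isomorphism -/
lemma quasiIso_g (h₁ : ∀ i, IsZero (S.X₁.homology i)) : QuasiIso S.g := by
  rw [quasiIso_iff]
  intro i
  rw [quasiIsoAt_iff_isIso_homologyMap]
  haveI : Mono (HomologicalComplex.homologyMap S.g i) :=
    (hS.homology_exact₂ i).mono_g ((h₁ i).eq_of_src _ _)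
  haveI : Epi (HomologicalComplex.homologyMap S.g i) :=
    (hS.homology_exact₃ i (i + 1) rfl).epi_f ((h₁ (i + 1)).eq_of_tgt _ _)
  exact isIso_of_mono_of_epi _

/-- if `X₃` is acyclic then `X₁ ⟶ X₂` is a quasi-isomorphism -/
lemma quasiIso_f (h₃ : ∀ i, IsZero (S.X₃.homology i)) : QuasiIso S.f := by
  rw [quasiIso_iff]
  intro i
  rw [quasiIsoAt_iff_isIso_homologyMap]
  haveI : Mono (HomologicalComplex.homologyMap S.f i) :=
    (hS.homology_exact₁ (i - 1) i (by simp)).mono_g ((h₃ (i - 1)).eq_of_src _ _)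
  haveI : Epi (HomologicalComplex.homologyMap S.f i) :=
    (hS.homology_exact₂ i).epi_f ((h₃ i).eq_of_tgt _ _)
  exact isIso_of_mono_of_epi _

end LES

end Groth.Agent.Helper9.KFlat1
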