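import Mathlib
import Groth.Agent.Helper9.KFlat1

/-!
# Total complexes of bifunctors preserve termwise short exact sequences (AB4)
-/

set_option autoImplicit false
set_option linter.style.haveILetI false
set_option linter.unusedSectionVars false

namespace Groth.Agent.Helper9.KFlat2

open CategoryTheory Limits HomologicalComplex Groth.Agent.Helper9.KFlat1

universe v u

variable {A : Type u} [Category.{v} A] [Abelian A] (F : A ⥤ A ⥤ A) [F.Additive]
  [∀ X, (F.obj X).Additive]
  [∀ (K₁ K₂ : CochainComplex A ℤ), HasMapBifunctor K₁ K₂ F (ComplexShape.up ℤ)]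
  [∀ n : ℤ, HasColimitsOfShape (Discrete ((ComplexShape.π (ComplexShape.up ℤ) (ComplexShape.up ℤ)
    (ComplexShape.up ℤ)) ⁻¹' {n})) A]
  [∀ n : ℤ, HasExactColimitsOfShape (Discrete ((ComplexShape.π (ComplexShape.up ℤ)
    (ComplexShape.up ℤ) (ComplexShape.up ℤ)) ⁻¹' {n})) A]

/-- the index set of the summands of the total complex in degree `n` -/
abbrev κ (n : ℤ) : Type := (ComplexShape.π (ComplexShape.up ℤ) (ComplexShape.up ℤ)
    (ComplexShape.up ℤ)) ⁻¹' {n}

/-- the colimit cofan of the summands of `Tot(F(L, K))` in degree `n` -/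
noncomputable abbrev cof (L K : CochainComplex A ℤ) (n : ℤ) :
    Cofan (fun i : κ n => (F.obj (L.X i.1.1)).obj (K.X i.1.2)) :=
  (((F.mapBifunctorHomologicalComplex (ComplexShape.up ℤ) (ComplexShape.up ℤ)).obj L).obj
    K).toGradedObject.cofanMapObj (ComplexShape.π (ComplexShape.up ℤ) (ComplexShape.up ℤ)
      (ComplexShape.up ℤ)) n

noncomputable abbrev isColimitCof (L K : CochainComplex A ℤ) (n : ℤ) : IsColimit (cof F L K n) :=
  (((F.mapBifunctorHomologicalComplex (ComplexShape.up ℤ) (ComplexShape.up ℤ)).obj L).obj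
    K).toGradedObject.isColimitCofanMapObj (ComplexShape.π (ComplexShape.up ℤ) (ComplexShape.up ℤ)
      (ComplexShape.up ℤ)) n

lemma cof_inj (L K : CochainComplex A ℤ) (n : ℤ) (i : κ n) :
    (cof F L K n).inj i = ιMapBifunctor L K F (ComplexShape.up ℤ) i.1.1 i.1.2 n i.2 := rfl

instance additive_map₂_obj (L : CochainComplex A ℤ) : (F.map₂CochainComplex.obj L).Additive where
  map_add {K K' f g} := by
    ext n
    apply mapBifunctor.hom_ext
    intro p q h
    show ιMapBifunctor L K F (ComplexShape.up ℤ) p q n h ≫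
        (mapBifunctorMap (𝟙 L) (f + g) F (ComplexShape.up ℤ)).f n =
      ιMapBifunctor L K F (ComplexShape.up ℤ) p q n h ≫
        ((mapBifunctorMap (𝟙 L) f F (ComplexShape.up ℤ)).f n +
          (mapBifunctorMap (𝟙 L) g F (ComplexShape.up ℤ)).f n)
    rw [Preadditive.comp_add, ι_mapBifunctorMap, ι_mapBifunctorMap, ι_mapBifunctorMap]
    simp [Functor.map_add]

instance additive_map₂_flip_obj (K : CochainComplex A ℤ) :
    (F.map₂CochainComplex.flip.obj K).Additive where
  map_add {L L' f g} := by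
    ext n
    apply mapBifunctor.hom_ext
    intro p q h
    show ιMapBifunctor L K F (ComplexShape.up ℤ) p q n h ≫
        (mapBifunctorMap (f + g) (𝟙 K) F (ComplexShape.up ℤ)).f n =
      ιMapBifunctor L K F (ComplexShape.up ℤ) p q n h ≫
        ((mapBifunctorMap f (𝟙 K) F (ComplexShape.up ℤ)).f n +
          (mapBifunctorMap g (𝟙 K) F (ComplexShape.up ℤ)).f n)
    rw [Preadditive.comp_add, ι_mapBifunctorMap, ι_mapBifunctorMap, ι_mapBifunctorMap]
    simp [Functor.map_add]

/-- `Tot(F(L, -))` preserves short exact sequences which are termwise `F(L^p, -)`-exact -/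
theorem shortExact_map_obj (L : CochainComplex A ℤ) (S : ShortComplex (CochainComplex A ℤ))
    (h : ∀ p q : ℤ, ((S.map (eval A (ComplexShape.up ℤ) q)).map (F.obj (L.X p))).ShortExact) :
    (S.map (F.map₂CochainComplex.obj L)).ShortExact := by
  refine shortExact_of_degreewise_shortExact _ (fun n => ?_)
  exact shortExact_of_cofans
    (fun i : κ n => (F.obj (L.X i.1.1)).obj (S.X₁.X i.1.2))
    (fun i : κ n => (F.obj (L.X i.1.1)).obj (S.X₂.X i.1.2))
    (fun i : κ n => (F.obj (L.X i.1.1)).obj (S.X₃.X i.1.2))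
    (fun i => (F.obj (L.X i.1.1)).map (S.f.f i.1.2))
    (fun i => (F.obj (L.X i.1.1)).map (S.g.f i.1.2))
    (fun i => ((S.map (eval A (ComplexShape.up ℤ) i.1.2)).map (F.obj (L.X i.1.1))).zero)
    (fun i => h i.1.1 i.1.2)
    (cof F L S.X₁ n) (cof F L S.X₂ n) (cof F L S.X₃ n)
    (isColimitCof F L S.X₁ n) (isColimitCof F L S.X₂ n) (isColimitCof F L S.X₃ n)
    ((mapBifunctorMap (𝟙 L) S.f F (ComplexShape.up ℤ)).f n)
    ((mapBifunctorMap (𝟙 L) S.g F (ComplexShape.up ℤ)).f n)
    (fun i => by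
      obtain ⟨⟨p, q⟩, hpq⟩ := i
      exact (ι_mapBifunctorMap (𝟙 L) S.f F (ComplexShape.up ℤ) p q n hpq).trans (by simp; rfl))
    (fun i => by
      obtain ⟨⟨p, q⟩, hpq⟩ := i
      exact (ι_mapBifunctorMap (𝟙 L) S.g F (ComplexShape.up ℤ) p q n hpq).trans (by simp; rfl))
    (((S.map (F.map₂CochainComplex.obj L)).map (eval A (ComplexShape.up ℤ) n)).zero)

/-- `Tot(F(-, K))` preserves short exact sequences which are termwise `F(-, K^q)`-exact -/
theorem shortExact_map_flip_obj (K : CochainComplex A ℤ) (S : ShortComplex (CochainComplex A ℤ))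
    (h : ∀ p q : ℤ, ((S.map (eval A (ComplexShape.up ℤ) p)).map (F.flip.obj (K.X q))).ShortExact) :
    (S.map (F.map₂CochainComplex.flip.obj K)).ShortExact := by
  refine shortExact_of_degreewise_shortExact _ (fun n => ?_)
  exact shortExact_of_cofans
    (fun i : κ n => (F.obj (S.X₁.X i.1.1)).obj (K.X i.1.2))
    (fun i : κ n => (F.obj (S.X₂.X i.1.1)).obj (K.X i.1.2))
    (fun i : κ n => (F.obj (S.X₃.X i.1.1)).obj (K.X i.1.2))
    (fun i => (F.map (S.f.f i.1.1)).app (K.X i.1.2))
    (fun i => (F.map (S.g.f i.1.1)).app (K.X i.1.2))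
    (fun i => ((S.map (eval A (ComplexShape.up ℤ) i.1.1)).map (F.flip.obj (K.X i.1.2))).zero)
    (fun i => h i.1.1 i.1.2)
    (cof F S.X₁ K n) (cof F S.X₂ K n) (cof F S.X₃ K n)
    (isColimitCof F S.X₁ K n) (isColimitCof F S.X₂ K n) (isColimitCof F S.X₃ K n)
    ((mapBifunctorMap S.f (𝟙 K) F (ComplexShape.up ℤ)).f n)
    ((mapBifunctorMap S.g (𝟙 K) F (ComplexShape.up ℤ)).f n)
    (fun i => by
      obtain ⟨⟨p, q⟩, hpq⟩ := i
      exact (ι_mapBifunctorMap S.f (𝟙 K) F (ComplexShape.up ℤ) p q n hpq).trans (by simp; rfl))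
    (fun i => by
      obtain ⟨⟨p, q⟩, hpq⟩ := i
      exact (ι_mapBifunctorMap S.g (𝟙 K) F (ComplexShape.up ℤ) p q n hpq).trans (by simp; rfl))
    (((S.map (F.map₂CochainComplex.flip.obj K)).map (eval A (ComplexShape.up ℤ) n)).zero)

instance additive_flip_obj (X : A) : (F.flip.obj X).Additive where
  map_add {Y Z f g} := by
    show (F.map (f + g)).app X = (F.map f).app X + (F.map g).app X
    rw [Functor.map_add]
    rfl

/-- `Tot(F(L, -))` sends degreewise split short exact sequences to short exact sequences -/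
theorem shortExact_map_obj_of_splitting (L : CochainComplex A ℤ)
    (S : ShortComplex (CochainComplex A ℤ))
    (σ : ∀ n : ℤ, Nonempty ((S.map (eval A (ComplexShape.up ℤ) n)).Splitting)) :
    (S.map (F.map₂CochainComplex.obj L)).ShortExact :=
  shortExact_map_obj F L S (fun p q => ((σ q).some.map (F.obj (L.X p))).shortExact)

/-- `Tot(F(-, K))` sends degreewise split short exact sequences to short exact sequences -/
theorem shortExact_map_flip_obj_of_splitting (K : CochainComplex A ℤ)
    (S : ShortComplex (CochainComplex A ℤ))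
    (σ : ∀ n : ℤ, Nonempty ((S.map (eval A (ComplexShape.up ℤ) n)).Splitting)) :
    (S.map (F.map₂CochainComplex.flip.obj K)).ShortExact :=
  shortExact_map_flip_obj F K S (fun p q => ((σ p).some.map (F.flip.obj (K.X q))).shortExact)

end Groth.Agent.Helper9.KFlat2
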