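import Mathlib
import Groth.Agent.Helper9.KFlat1

/-!
# Functors on cochain complexes which commute with cones up to quasi-isomorphism

A functor `T` between categories of cochain complexes which is additive, preserves homotopies,
sends degreewise split short exact sequences to short exact sequences and commutes with the
shift satisfies: `T φ` is a quasi-isomorphism iff `T (cone φ)` is acyclic.
-/

set_option autoImplicit false
set_option linter.style.haveILetI false
set_option linter.unusedSectionVars false

namespace Groth.Agent.Helper9.KFlat3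

open CategoryTheory Limits HomologicalComplex CochainComplex Groth.Agent.Helper9.KFlat1

universe v u v' u'

section

variable {A : Type u} [Category.{v} A] [Abelian A]

/-- a morphism of cochain complexes is a quasi-isomorphism iff its cone is acyclic -/
lemma quasiIso_iff_acyclic_mappingCone {K L : CochainComplex A ℤ} (φ : K ⟶ L) :
    QuasiIso φ ↔ (mappingCone φ).Acyclic := by
  have h1 := (HomotopyCategory.subcategoryAcyclic A).trW_iff_of_distinguished _
      (HomotopyCategory.mappingCone_triangleh_distinguished φ)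
  rw [← HomotopyCategory.quasiIso_eq_trW_subcategoryAcyclic] at h1
  have h2 : HomotopyCategory.subcategoryAcyclic A (mappingCone.triangleh φ).obj₃ ↔
      (mappingCone φ).Acyclic :=
    HomotopyCategory.quotient_obj_mem_subcategoryAcyclic_iff_acyclic (mappingCone φ)
  have h3 : HomotopyCategory.quasiIso A (ComplexShape.up ℤ) (mappingCone.triangleh φ).mor₁ ↔
      HomologicalComplex.quasiIso A (ComplexShape.up ℤ) φ :=
    HomotopyCategory.quotient_map_mem_quasiIso_iff φ
  exact (HomologicalComplex.mem_quasiIso_iff φ).symm.trans (h3.symm.trans (h1.trans h2))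

lemma acyclic_iff_isZero_homology (K : CochainComplex A ℤ) :
    K.Acyclic ↔ ∀ i : ℤ, IsZero (K.homology i) := by
  simp only [HomologicalComplex.Acyclic, HomologicalComplex.exactAt_iff_isZero_homology]

/-- shift and acyclicity -/
lemma acyclic_shift_iff (K : CochainComplex A ℤ) (n : ℤ) :
    (K⟦n⟧).Acyclic ↔ K.Acyclic := by
  rw [acyclic_iff_isZero_homology, acyclic_iff_isZero_homology]
  constructor
  · intro h i
    exact IsZero.of_iso (h (i - n))
      (((HomologicalComplex.homologyFunctor A (ComplexShape.up ℤ) 0).shiftIso n (i - n) i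
        (by omega)).app K).symm
  · intro h i
    exact IsZero.of_iso (h (n + i))
      (((HomologicalComplex.homologyFunctor A (ComplexShape.up ℤ) 0).shiftIso n i (n + i)
        rfl).app K)

/-- in a short exact sequence of complexes, if `g` is a quasi-isomorphism then `X₁` is acyclic -/
lemma acyclic_X₁_of_quasiIso_g (S : ShortComplex (CochainComplex A ℤ)) (hS : S.ShortExact)
    [hg : QuasiIso S.g] : S.X₁.Acyclic := by
  rw [acyclic_iff_isZero_homology]
  intro i
  have h1 := hS.homology_exact₁ (i - 1) i (by simp)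
  have h3 := hS.homology_exact₃ (i - 1) i (by simp)
  have h2 := hS.homology_exact₂ i
  haveI : IsIso (HomologicalComplex.homologyMap S.g (i - 1)) :=
    (quasiIsoAt_iff_isIso_homologyMap S.g (i - 1)).1 inferInstance
  haveI : IsIso (HomologicalComplex.homologyMap S.g i) :=
    (quasiIsoAt_iff_isIso_homologyMap S.g i).1 inferInstance
  have hδ : hS.δ (i - 1) i (by simp) = 0 := by
    have := h3.epi_f_iff.1 ?_
    · exact this
    · dsimp
      infer_instance
  have hf : HomologicalComplex.homologyMap S.f i = 0 := by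
    have := h2.mono_g_iff.1 ?_
    · exact this
    · dsimp
      infer_instance
  exact h1.isZero_of_both_zeros hδ hf

end

section

variable {A : Type u} [Category.{v} A] [Abelian A] {B : Type u'} [Category.{v'} B] [Abelian B]

/-- the hypotheses on a functor between categories of complexes -/
structure Good (T : CochainComplex A ℤ ⥤ CochainComplex B ℤ) : Prop where
  additive : T.Additive
  homotopy : ∀ {X Y : CochainComplex A ℤ} (f g : X ⟶ Y), Homotopy f g →
    Nonempty (Homotopy (T.map f) (T.map g))
  split : ∀ S : ShortComplex (CochainComplex A ℤ),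
    (∀ n : ℤ, Nonempty ((S.map (eval A (ComplexShape.up ℤ) n)).Splitting)) → (S.map T).ShortExact
  shift : Nonempty (CategoryTheory.shiftFunctor (CochainComplex A ℤ) (1 : ℤ) ⋙ T ≅
    T ⋙ CategoryTheory.shiftFunctor (CochainComplex B ℤ) (1 : ℤ))

variable {T : CochainComplex A ℤ ⥤ CochainComplex B ℤ} (hT : Good T)

include hT

lemma Good.quasiIso_map_homotopyEquiv {X Y : CochainComplex A ℤ} (e : HomotopyEquiv X Y) :
    QuasiIso (T.map e.hom) := by
  let e' : HomotopyEquiv (T.obj X) (T.obj Y) :=
    { hom := T.map e.hom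
      inv := T.map e.inv
      homotopyHomInvId :=
        (Homotopy.ofEq (T.map_comp _ _).symm).trans
          ((hT.homotopy _ _ e.homotopyHomInvId).some.trans (Homotopy.ofEq (T.map_id _)))
      homotopyInvHomId :=
        (Homotopy.ofEq (T.map_comp _ _).symm).trans
          ((hT.homotopy _ _ e.homotopyInvHomId).some.trans (Homotopy.ofEq (T.map_id _))) }
  exact e'.quasiIso_hom

lemma Good.acyclic_shift_iff (X : CochainComplex A ℤ) :
    (T.obj (X⟦(1 : ℤ)⟧)).Acyclic ↔ (T.obj X).Acyclic := by
  obtain ⟨e⟩ := hT.shift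
  rw [← KFlat3.acyclic_shift_iff (T.obj X) 1]
  have e' := e.app X
  dsimp at e'
  rw [acyclic_iff_isZero_homology, acyclic_iff_isZero_homology]
  constructor
  · intro h i
    exact IsZero.of_iso (h i)
      ((HomologicalComplex.homologyFunctor B (ComplexShape.up ℤ) i).mapIso e'.symm)
  · intro h i
    exact IsZero.of_iso (h i)
      ((HomologicalComplex.homologyFunctor B (ComplexShape.up ℤ) i).mapIso e')

lemma Good.quasiIso_map_shift_iff {X Y : CochainComplex A ℤ} (φ : X ⟶ Y) :
    QuasiIso (T.map (φ⟦(1 : ℤ)⟧')) ↔ QuasiIso (T.map φ) := by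
  obtain ⟨e⟩ := hT.shift
  rw [← quasiIso_shift_iff (T.map φ) 1]
  refine quasiIso_iff_of_arrow_mk_iso _ _ (Arrow.isoMk (e.app X) (e.app Y) ?_)
  exact (e.hom.naturality φ).symm

/-- the main result: `T φ` is a quasi-isomorphism iff `T (cone φ)` is acyclic -/
theorem Good.quasiIso_map_iff {X Y : CochainComplex A ℤ} (φ : X ⟶ Y) :
    QuasiIso (T.map φ) ↔ (T.obj (mappingCone φ)).Acyclic := by
  haveI := hT.additive
  have hS : ((mappingCone.triangleRotateShortComplex (mappingCone.inr φ)).map T).ShortExact :=
    hT.split _ (fun n => ⟨mappingCone.triangleRotateShortComplexSplitting (mappingCone.inr φ) n⟩)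
  let g : mappingCone (mappingCone.inr φ) ⟶ Y⟦(1 : ℤ)⟧ :=
    (mappingCone.triangle (mappingCone.inr φ)).mor₃
  have hg : ((mappingCone.triangleRotateShortComplex (mappingCone.inr φ)).map T).g = T.map g := rfl
  let e := mappingCone.rotateHomotopyEquiv φ
  haveI he : QuasiIso (T.map e.hom) := hT.quasiIso_map_homotopyEquiv e
  have hcomm : T.map e.hom ≫ T.map g = -T.map (φ⟦(1 : ℤ)⟧') := by
    rw [← T.map_comp, ← T.map_neg]
    congr 1
    exact mappingCone.rotateHomotopyEquiv_comm₃ φ
  have hneg : QuasiIso (-T.map (φ⟦(1 : ℤ)⟧')) ↔ QuasiIso (T.map (φ⟦(1 : ℤ)⟧')) := by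
    have : -T.map (φ⟦(1 : ℤ)⟧') = T.map (φ⟦(1 : ℤ)⟧') ≫ (-𝟙 _) := by simp
    rw [this]
    haveI : IsIso (-𝟙 (T.obj (Y⟦(1 : ℤ)⟧))) :=
      ⟨⟨-𝟙 _, by simp, by simp⟩⟩
    exact quasiIso_iff_comp_right _ _
  rw [← hT.quasiIso_map_shift_iff φ, ← hneg, ← hcomm, quasiIso_iff_comp_left]
  constructor
  · intro hg'
    haveI : QuasiIso ((mappingCone.triangleRotateShortComplex (mappingCone.inr φ)).map T).g := by
      rw [hg]
      exact hg'
    exact acyclic_X₁_of_quasiIso_g _ hS
  · intro hac
    have := quasiIso_g _ hS ((acyclic_iff_isZero_homology _).1 hac)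
    rw [hg] at this
    exact this

/-- two out of three for `T`-acyclicity along cones -/
theorem Good.acyclic_cone_two_out_of_three {X Y : CochainComplex A ℤ} (φ : X ⟶ Y) :
    ((T.obj X).Acyclic → (T.obj Y).Acyclic → (T.obj (mappingCone φ)).Acyclic) ∧
    ((T.obj X).Acyclic → (T.obj (mappingCone φ)).Acyclic → (T.obj Y).Acyclic) ∧
    ((T.obj Y).Acyclic → (T.obj (mappingCone φ)).Acyclic → (T.obj X).Acyclic) := by
  haveI := hT.additive
  let S := mappingCone.triangleRotateShortComplex φ
  have hS : (S.map T).ShortExact :=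
    hT.split S (fun n => ⟨mappingCone.triangleRotateShortComplexSplitting φ n⟩)
  have hsh := hT.acyclic_shift_iff X
  simp only [acyclic_iff_isZero_homology] at hsh ⊢
  refine ⟨fun h1 h2 => acyclic_X₂ _ hS h2 (hsh.2 h1), fun h1 h3 => acyclic_X₁ _ hS h3 (hsh.2 h1),
    fun h2 h3 => hsh.1 (acyclic_X₃ _ hS h2 h3)⟩

end

end Groth.Agent.Helper9.KFlat3
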