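import Mathlib
import Groth.Agent.Helper9.KFlat2
import Groth.Agent.Helper9.KFlat3

/-!
# Generic K-flatness for an additive bifunctor on an abelian category with exact countable coproducts
-/

set_option autoImplicit false
set_option linter.style.haveILetI false
set_option linter.unusedSectionVars false

namespace Groth.Agent.Helper9.KFlat4

open CategoryTheory Limits HomologicalComplex CochainComplex Groth.Agent.Helper9.KFlat1
  Groth.Agent.Helper9.KFlat2 Groth.Agent.Helper9.KFlat3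

universe v u

variable {A : Type u} [Category.{v} A] [Abelian A] (F : A ⥤ A ⥤ A) [F.Additive]
  [∀ X, (F.obj X).Additive]
  [∀ (K₁ K₂ : CochainComplex A ℤ), HomologicalComplex.HasMapBifunctor K₁ K₂ F (ComplexShape.up ℤ)]
  [∀ n : ℤ, HasColimitsOfShape (Discrete ((ComplexShape.π (ComplexShape.up ℤ) (ComplexShape.up ℤ)
    (ComplexShape.up ℤ)) ⁻¹' {n})) A]
  [∀ n : ℤ, HasExactColimitsOfShape (Discrete ((ComplexShape.π (ComplexShape.up ℤ)
    (ComplexShape.up ℤ) (ComplexShape.up ℤ)) ⁻¹' {n})) A]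

theorem good_obj (L : CochainComplex A ℤ) : Good (F.map₂CochainComplex.obj L) where
  additive := inferInstance
  homotopy _ _ h := ⟨HomologicalComplex.mapBifunctorMapHomotopy₂ (𝟙 L) h F (ComplexShape.up ℤ)⟩
  split S σ := shortExact_map_obj_of_splitting F L S σ
  shift := ⟨(F.map₂CochainComplex.obj L).commShiftIso (1 : ℤ)⟩

theorem good_flip_obj (K : CochainComplex A ℤ) : Good (F.map₂CochainComplex.flip.obj K) where
  additive := inferInstance
  homotopy _ _ h := ⟨HomologicalComplex.mapBifunctorMapHomotopy₁ h (𝟙 K) F (ComplexShape.up ℤ)⟩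
  split S σ := shortExact_map_flip_obj_of_splitting F K S σ
  shift := ⟨(F.map₂CochainComplex.flip.obj K).commShiftIso (1 : ℤ)⟩

/-- K-flatness in the second variable -/
def IsKFlatR (K : CochainComplex A ℤ) : Prop :=
  ∀ L : CochainComplex A ℤ, L.Acyclic →
    (HomologicalComplex.mapBifunctor L K F (ComplexShape.up ℤ)).Acyclic

/-- K-flatness in the first variable -/
def IsKFlatL (K : CochainComplex A ℤ) : Prop :=
  ∀ L : CochainComplex A ℤ, L.Acyclic →
    (HomologicalComplex.mapBifunctor K L F (ComplexShape.up ℤ)).Acyclic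

variable {F}

theorem IsKFlatR.quasiIso {K : CochainComplex A ℤ} (hK : IsKFlatR F K)
    {X Y : CochainComplex A ℤ} (φ : X ⟶ Y) [QuasiIso φ] :
    QuasiIso (HomologicalComplex.mapBifunctorMap φ (𝟙 K) F (ComplexShape.up ℤ)) :=
  ((good_flip_obj F K).quasiIso_map_iff φ).2
    (hK _ ((quasiIso_iff_acyclic_mappingCone φ).1 inferInstance))

theorem IsKFlatL.quasiIso {K : CochainComplex A ℤ} (hK : IsKFlatL F K)
    {X Y : CochainComplex A ℤ} (φ : X ⟶ Y) [QuasiIso φ] :
    QuasiIso (HomologicalComplex.mapBifunctorMap (𝟙 K) φ F (ComplexShape.up ℤ)) :=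
  ((good_obj F K).quasiIso_map_iff φ).2
    (hK _ ((quasiIso_iff_acyclic_mappingCone φ).1 inferInstance))

theorem isKFlatR_cone {K₁ K₂ : CochainComplex A ℤ} (φ : K₁ ⟶ K₂) :
    (IsKFlatR F K₁ → IsKFlatR F K₂ → IsKFlatR F (mappingCone φ)) ∧
    (IsKFlatR F K₁ → IsKFlatR F (mappingCone φ) → IsKFlatR F K₂) ∧
    (IsKFlatR F K₂ → IsKFlatR F (mappingCone φ) → IsKFlatR F K₁) :=
  ⟨fun h1 h2 L hL => ((good_obj F L).acyclic_cone_two_out_of_three φ).1 (h1 L hL) (h2 L hL),
   fun h1 h3 L hL => ((good_obj F L).acyclic_cone_two_out_of_three φ).2.1 (h1 L hL) (h3 L hL),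
   fun h2 h3 L hL => ((good_obj F L).acyclic_cone_two_out_of_three φ).2.2 (h2 L hL) (h3 L hL)⟩

theorem isKFlatL_cone {K₁ K₂ : CochainComplex A ℤ} (φ : K₁ ⟶ K₂) :
    (IsKFlatL F K₁ → IsKFlatL F K₂ → IsKFlatL F (mappingCone φ)) ∧
    (IsKFlatL F K₁ → IsKFlatL F (mappingCone φ) → IsKFlatL F K₂) ∧
    (IsKFlatL F K₂ → IsKFlatL F (mappingCone φ) → IsKFlatL F K₁) :=
  ⟨fun h1 h2 L hL => ((good_flip_obj F L).acyclic_cone_two_out_of_three φ).1 (h1 L hL) (h2 L hL),
   fun h1 h3 L hL => ((good_flip_obj F L).acyclic_cone_two_out_of_three φ).2.1 (h1 L hL) (h3 L hL),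
   fun h2 h3 L hL => ((good_flip_obj F L).acyclic_cone_two_out_of_three φ).2.2 (h2 L hL) (h3 L hL)⟩

/-- two out of three for short exact sequences which stay exact after `F(L^p, -)` -/
theorem isKFlatR_shortExact (S : ShortComplex (CochainComplex A ℤ))
    (h : ∀ (X : A) (q : ℤ), ((S.map (eval A (ComplexShape.up ℤ) q)).map (F.obj X)).ShortExact) :
    (IsKFlatR F S.X₁ → IsKFlatR F S.X₂ → IsKFlatR F S.X₃) ∧
    (IsKFlatR F S.X₁ → IsKFlatR F S.X₃ → IsKFlatR F S.X₂) ∧
    (IsKFlatR F S.X₂ → IsKFlatR F S.X₃ → IsKFlatR F S.X₁) := by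
  have hS : ∀ L : CochainComplex A ℤ, (S.map (F.map₂CochainComplex.obj L)).ShortExact :=
    fun L => shortExact_map_obj F L S (fun p q => h (L.X p) q)
  simp only [IsKFlatR, acyclic_iff_isZero_homology]
  exact ⟨fun h1 h2 L hL => acyclic_X₃ _ (hS L) (h1 L hL) (h2 L hL),
    fun h1 h3 L hL => acyclic_X₂ _ (hS L) (h1 L hL) (h3 L hL),
    fun h2 h3 L hL => acyclic_X₁ _ (hS L) (h2 L hL) (h3 L hL)⟩

end Groth.Agent.Helper9.KFlat4
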