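import Mathlib
import Groth.Prelude.Def_KFlatSite
import Groth.Agent.Helper9.KFlat4
import Groth.Agent.Helper9.TensorFlat

/-!
# K-flat complexes on a ringed site: quasi-isomorphisms and cones
-/

set_option autoImplicit false
set_option linter.style.haveILetI false
set_option linter.unusedSectionVars false

namespace Groth.Agent.Helper9.KFlat5

open CategoryTheory Limits HomologicalComplex CochainComplex Groth.Agent.Helper9.KFlat1
  Groth.Agent.Helper9.KFlat2 Groth.Agent.Helper9.KFlat3 Groth.Agent.Helper9.KFlat4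

universe u

variable {C : Type u} [SmallCategory C] {J : GrothendieckTopology C} (O : Sheaf J CommRingCat.{u})

/-- exactness of coproducts indexed by types in universe `0` -/
instance hasExactColimitsOfShape_discrete₀ (κ : Type) :
    HasExactColimitsOfShape (Discrete κ) (ModSite.Mod O) := by
  haveI : HasExactColimitsOfShape (Discrete (ULift.{u} κ)) (ModSite.Mod O) :=
    Groth.Agent.Helper9.TensorFlat.hasExactColimitsOfShape_discrete (O := O) (ULift.{u} κ)
  exact HasExactColimitsOfShape.of_domain_equivalence (ModSite.Mod O)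
    (Discrete.equivalence (Equiv.ulift.{u} (α := κ)))

variable {O}

lemma isKFlat_iff (K : CochainComplex (ModSite.Mod O) ℤ) :
    ModSite.IsKFlat K ↔ IsKFlatR (ModSite.tensorBi O) K := by
  unfold ModSite.IsKFlat IsKFlatR
  simp only [acyclic_iff_isZero_homology]
  rfl

/-- S9050 -/
theorem quasiIso_of_isKFlat {K : CochainComplex (ModSite.Mod O) ℤ} (hK : ModSite.IsKFlat K)
    {F F' : CochainComplex (ModSite.Mod O) ℤ} (φ : F ⟶ F') [QuasiIso φ] :
    QuasiIso (HomologicalComplex.mapBifunctorMap φ (𝟙 K) (ModSite.tensorBi O)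
      (ComplexShape.up ℤ)) :=
  ((isKFlat_iff K).1 hK).quasiIso φ

/-- S9056 -/
theorem isKFlat_cone {K₁ K₂ : CochainComplex (ModSite.Mod O) ℤ} (φ : K₁ ⟶ K₂) :
    (ModSite.IsKFlat K₁ → ModSite.IsKFlat K₂ → ModSite.IsKFlat (CochainComplex.mappingCone φ)) ∧
    (ModSite.IsKFlat K₁ → ModSite.IsKFlat (CochainComplex.mappingCone φ) → ModSite.IsKFlat K₂) ∧
    (ModSite.IsKFlat K₂ → ModSite.IsKFlat (CochainComplex.mappingCone φ) → ModSite.IsKFlat K₁) := by
  simp only [isKFlat_iff]
  exact isKFlatR_cone φ

end Groth.Agent.Helper9.KFlat5
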