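import Mathlib
import Groth.Agent.Helper9.KFlat4

/-!
# Total complexes commute with colimits; filtered colimits of acyclic complexes (generic version)
-/

set_option autoImplicit false
set_option linter.style.haveILetI false
set_option linter.unusedSectionVars false

namespace Groth.Agent.Helper9.KFlat9

open CategoryTheory Limits HomologicalComplex CochainComplex Groth.Agent.Helper9.KFlat1
  Groth.Agent.Helper9.KFlat2 Groth.Agent.Helper9.KFlat3 Groth.Agent.Helper9.KFlat4

universe w' w v u

variable {A : Type u} [Category.{v} A] [Abelian A]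

section Acyclic

variable {J : Type w} [Category.{w'} J] [IsFiltered J] [HasColimitsOfShape J A]
  [HasExactColimitsOfShape J A]

/-- a filtered colimit of acyclic complexes is acyclic -/
theorem acyclic_of_isColimit {D : J ⥤ CochainComplex A ℤ} (c : Cocone D) (hc : IsColimit c)
    (h : ∀ j, (D.obj j).Acyclic) : c.pt.Acyclic := by
  intro n
  rw [HomologicalComplex.exactAt_iff' _ (n - 1) n (n + 1) (by simp) (by simp)]
  let S : ShortComplex (J ⥤ A) := ShortComplex.mk
    (X₁ := D ⋙ eval A (ComplexShape.up ℤ) (n - 1)) (X₂ := D ⋙ eval A (ComplexShape.up ℤ) n)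
    (X₃ := D ⋙ eval A (ComplexShape.up ℤ) (n + 1))
    { app := fun j => (D.obj j).d (n - 1) n
      naturality := fun j j' f => ((D.map f).comm (n - 1) n) }
    { app := fun j => (D.obj j).d n (n + 1)
      naturality := fun j j' f => ((D.map f).comm n (n + 1)) }
    (by ext j; exact (D.obj j).d_comp_d _ _ _)
  have hS : S.Exact := exact_of_evaluation S (fun j =>
    (HomologicalComplex.exactAt_iff' _ (n - 1) n (n + 1) (by simp) (by simp)).1 (h j n))
  exact colim.exact_mapShortComplex (S := S) hS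
    (isColimitOfPreserves (eval A (ComplexShape.up ℤ) (n - 1)) hc)
    (isColimitOfPreserves (eval A (ComplexShape.up ℤ) n) hc)
    (isColimitOfPreserves (eval A (ComplexShape.up ℤ) (n + 1)) hc)
    (c.pt.d (n - 1) n) (c.pt.d n (n + 1))
    (fun j => (c.ι.app j).comm (n - 1) n) (fun j => (c.ι.app j).comm n (n + 1))

end Acyclic

variable (F : A ⥤ A ⥤ A) [F.Additive]
  [∀ X, (F.obj X).Additive]
  [∀ (K₁ K₂ : CochainComplex A ℤ), HomologicalComplex.HasMapBifunctor K₁ K₂ F (ComplexShape.up ℤ)]
  [∀ n : ℤ, HasColimitsOfShape (Discrete ((ComplexShape.π (ComplexShape.up ℤ) (ComplexShape.up ℤ)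
    (ComplexShape.up ℤ)) ⁻¹' {n})) A]
  [∀ n : ℤ, HasExactColimitsOfShape (Discrete ((ComplexShape.π (ComplexShape.up ℤ)
    (ComplexShape.up ℤ) (ComplexShape.up ℤ)) ⁻¹' {n})) A]

section Preserves

variable {J : Type w} [Category.{w'} J] [HasColimitsOfShape J A]
  [∀ X, PreservesColimitsOfShape J (F.obj X)] (L : CochainComplex A ℤ)

/-- the legs of the image cocone -/
noncomputable abbrev leg {D : J ⥤ CochainComplex A ℤ} (c : Cocone D) (m : ℤ) (j : J) :
    (mapBifunctor L (D.obj j) F (ComplexShape.up ℤ)).X m ⟶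
      (mapBifunctor L c.pt F (ComplexShape.up ℤ)).X m :=
  (mapBifunctorMap (𝟙 L) (c.ι.app j : D.obj j ⟶ c.pt) F (ComplexShape.up ℤ)).f m

lemma ι_leg {D : J ⥤ CochainComplex A ℤ} (c : Cocone D) (m : ℤ) (j : J) (p q : ℤ)
    (hpq : p + q = m) :
    ιMapBifunctor L (D.obj j) F (ComplexShape.up ℤ) p q m hpq ≫ leg F L c m j =
      (F.obj (L.X p)).map ((c.ι.app j).f q) ≫
        ιMapBifunctor L c.pt F (ComplexShape.up ℤ) p q m hpq := by
  simp [leg]

lemma ι_map {D : J ⥤ CochainComplex A ℤ} (m : ℤ) {j j' : J} (f : j ⟶ j') (p q : ℤ)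
    (hpq : p + q = m) :
    ιMapBifunctor L (D.obj j) F (ComplexShape.up ℤ) p q m hpq ≫
        (mapBifunctorMap (𝟙 L) (D.map f) F (ComplexShape.up ℤ)).f m =
      (F.obj (L.X p)).map ((D.map f).f q) ≫
        ιMapBifunctor L (D.obj j') F (ComplexShape.up ℤ) p q m hpq := by
  simp

/-- the legs of a cocone over `D ⋙ Tot(F(L,-))^m`, with clean types -/
noncomputable abbrev sleg {D : J ⥤ CochainComplex A ℤ} (m : ℤ)
    (s : Cocone (D ⋙ F.map₂CochainComplex.obj L ⋙ eval A (ComplexShape.up ℤ) m)) (j : J) :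
    (mapBifunctor L (D.obj j) F (ComplexShape.up ℤ)).X m ⟶ s.pt := s.ι.app j

lemma sleg_w {D : J ⥤ CochainComplex A ℤ} (m : ℤ)
    (s : Cocone (D ⋙ F.map₂CochainComplex.obj L ⋙ eval A (ComplexShape.up ℤ) m)) {j j' : J}
    (f : j ⟶ j') :
    (mapBifunctorMap (𝟙 L) (D.map f) F (ComplexShape.up ℤ)).f m ≫ sleg F L m s j' =
      sleg F L m s j := s.w f

/-- the cocone used to define the descent morphism on a summand -/
noncomputable def summandCocone {D : J ⥤ CochainComplex A ℤ} (m : ℤ)
    (s : Cocone (D ⋙ F.map₂CochainComplex.obj L ⋙ eval A (ComplexShape.up ℤ) m)) (p q : ℤ)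
    (hpq : p + q = m) :
    Cocone ((D ⋙ eval A (ComplexShape.up ℤ) q) ⋙ F.obj (L.X p)) where
  pt := s.pt
  ι :=
    { app := fun j => ιMapBifunctor L (D.obj j) F (ComplexShape.up ℤ) p q m hpq ≫ sleg F L m s j
      naturality := fun j j' f => by
        have h1 := ι_map F L (D := D) m f p q hpq
        have h2 := sleg_w F L m s f
        show (F.obj (L.X p)).map ((D.map f).f q) ≫
          ιMapBifunctor L (D.obj j') F (ComplexShape.up ℤ) p q m hpq ≫ sleg F L m s j' =
          (ιMapBifunctor L (D.obj j) F (ComplexShape.up ℤ) p q m hpq ≫ sleg F L m s j) ≫ 𝟙 _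
        rw [Category.comp_id, ← h2, ← Category.assoc, ← h1, Category.assoc] }

/-- `Tot(F(L, -))` commutes with colimits degreewise -/
noncomputable def isColimitMapCoconeEval {D : J ⥤ CochainComplex A ℤ} (c : Cocone D)
    (hc : IsColimit c) (m : ℤ) :
    IsColimit ((F.map₂CochainComplex.obj L ⋙ eval A (ComplexShape.up ℤ) m).mapCocone c) := by
  have hpq : ∀ p q : ℤ, IsColimit ((F.obj (L.X p)).mapCocone
      ((eval A (ComplexShape.up ℤ) q).mapCocone c)) :=
    fun p q => isColimitOfPreserves _ (isColimitOfPreserves _ hc)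
  let dsc : ∀ (s : Cocone (D ⋙ F.map₂CochainComplex.obj L ⋙ eval A (ComplexShape.up ℤ) m))
      (p q : ℤ) (_ : p + q = m), (F.obj (L.X p)).obj (c.pt.X q) ⟶ s.pt :=
    fun s p q h => (hpq p q).desc (summandCocone F L m s p q h)
  refine
    { desc := fun s => mapBifunctorDesc (dsc s)
      fac := fun s j => ?_
      uniq := fun s f hf => ?_ }
  · show leg F L c m j ≫ _ = sleg F L m s j
    refine mapBifunctor.hom_ext (fun p q h => ?_)
    have h3 : (F.obj (L.X p)).map ((c.ι.app j).f q) ≫ dsc s p q h =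
        ιMapBifunctor L (D.obj j) F (ComplexShape.up ℤ) p q m h ≫ sleg F L m s j :=
      (hpq p q).fac (summandCocone F L m s p q h) j
    rw [← Category.assoc, ι_leg, Category.assoc, ι_mapBifunctorDesc]
    exact h3
  · let f' : (mapBifunctor L c.pt F (ComplexShape.up ℤ)).X m ⟶ s.pt := f
    show f' = _
    refine mapBifunctor.hom_ext (fun p q h => ?_)
    rw [ι_mapBifunctorDesc]
    refine (hpq p q).uniq (summandCocone F L m s p q h) _ (fun j => ?_)
    have h5 : leg F L c m j ≫ f' = sleg F L m s j := hf j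
    show (F.obj (L.X p)).map ((c.ι.app j).f q) ≫
      ιMapBifunctor L c.pt F (ComplexShape.up ℤ) p q m h ≫ f' =
      ιMapBifunctor L (D.obj j) F (ComplexShape.up ℤ) p q m h ≫ sleg F L m s j
    rw [← Category.assoc, ← ι_leg, Category.assoc, h5]

instance preservesColimitsOfShape_map₂_obj :
    PreservesColimitsOfShape J (F.map₂CochainComplex.obj L) :=
  preservesColimitsOfShape_of_eval _ (fun m =>
    ⟨fun {_} => ⟨fun {c} hc => ⟨isColimitMapCoconeEval F L c hc m⟩⟩⟩)

end Preserves

section Main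

variable {J : Type w} [Category.{w'} J] [IsFiltered J] [HasColimitsOfShape J A]
  [HasExactColimitsOfShape J A] [∀ X, PreservesColimitsOfShape J (F.obj X)]

variable {F}

/-- a filtered colimit of K-flat complexes is K-flat -/
theorem isKFlatR_of_isColimit {D : J ⥤ CochainComplex A ℤ} (c : Cocone D) (hc : IsColimit c)
    (h : ∀ j, IsKFlatR F (D.obj j)) : IsKFlatR F c.pt := by
  intro L hL
  exact acyclic_of_isColimit ((F.map₂CochainComplex.obj L).mapCocone c)
    (isColimitOfPreserves (F.map₂CochainComplex.obj L) hc) (fun j => h j L hL)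

end Main

end Groth.Agent.Helper9.KFlat9
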