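import Mathlib
import Groth.Prelude.Def_KFlatSite
import Groth.Agent.Helper9.KFlat5
import Groth.Agent.Helper9.KFlat9

/-!
# K-flat complexes on a ringed site: filtered colimits
-/

set_option autoImplicit false
set_option linter.style.haveILetI false
set_option linter.unusedSectionVars false

namespace Groth.Agent.Helper9.KFlat10

open CategoryTheory Limits HomologicalComplex CochainComplex Groth.Agent.Helper9.KFlat1
  Groth.Agent.Helper9.KFlat2 Groth.Agent.Helper9.KFlat3 Groth.Agent.Helper9.KFlat4
  Groth.Agent.Helper9.KFlat5 Groth.Agent.Helper9.KFlat9 Groth.Agent.Helper9.TensorFlat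

universe u

variable {C : Type u} [SmallCategory C] {J : GrothendieckTopology C} (O : Sheaf J CommRingCat.{u})

section

variable (I : Type) [SmallCategory I]

instance hasExactColimitsOfShape_filtered₀ [IsFiltered I] :
    HasExactColimitsOfShape I (ModSite.Mod O) := by
  let e : I ≌ ULiftHom.{u} (ULift.{u} I) := ULiftHomULiftCategory.equiv.{u, u} I
  haveI : IsFiltered (ULiftHom.{u} (ULift.{u} I)) := IsFiltered.of_equivalence e
  haveI : HasExactColimitsOfShape (ULiftHom.{u} (ULift.{u} I)) (ModSite.Mod O) :=
    Groth.Agent.Helper9.TensorFlat.hasExactColimitsOfShape_filtered (O := O) _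
  exact HasExactColimitsOfShape.of_domain_equivalence (ModSite.Mod O) e.symm

instance preservesColimitsOfShape_tensorBi_obj (X : ModSite.Mod O) :
    PreservesColimitsOfShape I ((ModSite.tensorBi O).obj X) := by
  haveI : PreservesColimitsOfSize.{u, u} ((ModSite.tensorBi O).obj X) := preservesColimits_TL X
  haveI : PreservesColimitsOfSize.{0, 0} ((ModSite.tensorBi O).obj X) :=
    preservesColimitsOfSize_shrink.{0, u, 0, u} _
  infer_instance

end

variable {O}

/-- a filtered colimit (indexed by a category in universe `0`) of K-flat complexes is K-flat -/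
theorem isKFlat_of_isColimit {I : Type} [SmallCategory I] [IsFiltered I]
    {D : I ⥤ CochainComplex (ModSite.Mod O) ℤ} (c : Cocone D) (hc : IsColimit c)
    (h : ∀ j, ModSite.IsKFlat (D.obj j)) : ModSite.IsKFlat c.pt := by
  rw [isKFlat_iff]
  exact isKFlatR_of_isColimit c hc (fun j => (isKFlat_iff _).1 (h j))

/-- S9059 -/
theorem isKFlat_colimit_sequence (K : ℕ ⥤ CochainComplex (ModSite.Mod O) ℤ)
    (hK : ∀ n : ℕ, ModSite.IsKFlat (K.obj n)) : ModSite.IsKFlat (colimit K) :=
  isKFlat_of_isColimit (colimit.cocone K) (colimit.isColimit K) hK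

end Groth.Agent.Helper9.KFlat10
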