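import Mathlib

/-!
# Stupid truncations `σ_{≤ c} K` as quotient complexes and `σ_{> c} K` as subcomplexes
-/

set_option autoImplicit false
set_option linter.style.haveILetI false
set_option linter.unusedSectionVars false

namespace Groth.Agent.Helper9.KFlat11

open CategoryTheory Limits HomologicalComplex CochainComplex

universe v u

section Eventually

variable {C : Type u} [Category.{v} C]

/-- a cocone over `ℕ` whose legs are eventually isomorphisms is a colimit cocone -/
noncomputable def isColimitOfEventuallyIsIso {D : ℕ ⥤ C} (c : Cocone D) (j₀ : ℕ)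
    (h : ∀ j, j₀ ≤ j → IsIso (c.ι.app j)) : IsColimit c := by
  haveI := h j₀ le_rfl
  have key : ∀ (s : Cocone D) (k : ℕ) (hk : j₀ ≤ k), haveI := h k hk
      inv (c.ι.app j₀) ≫ s.ι.app j₀ = inv (c.ι.app k) ≫ s.ι.app k := by
    intro s k hk
    haveI := h k hk
    rw [IsIso.inv_comp_eq, ← Category.assoc]
    have h1 : c.ι.app j₀ ≫ inv (c.ι.app k) = D.map (homOfLE hk) := by
      rw [← c.w (homOfLE hk), Category.assoc, IsIso.hom_inv_id]
      exact Category.comp_id _
    rw [h1, s.w]
  exact
    { desc := fun s => inv (c.ι.app j₀) ≫ s.ι.app j₀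
      fac := fun s j => by
        haveI := h (max j j₀) (le_max_right _ _)
        rw [key s (max j j₀) (le_max_right _ _), ← c.w (homOfLE (le_max_left j j₀)),
          Category.assoc, IsIso.hom_inv_id_assoc, s.w]
      uniq := fun s m hm => by
        rw [IsIso.eq_inv_comp]
        exact hm j₀ }

end Eventually

variable {A : Type u} [Category.{v} A] [Abelian A] (K : CochainComplex A ℤ) (c : ℤ)

/-- the stupid truncation `σ_{≤ c} K` -/
noncomputable def sigLE : CochainComplex A ℤ := K.stupidTrunc (ComplexShape.embeddingUpIntLE c)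

/-- the projection `K ⟶ σ_{≤ c} K` -/
noncomputable def πLE : K ⟶ sigLE K c :=
  (ComplexShape.embeddingUpIntLE c).liftExtend (𝟙 (K.restriction (ComplexShape.embeddingUpIntLE c)))
    (fun _ hj => hj.false_of_isTruncLE.elim)

instance : (sigLE K c).IsStrictlyLE c := by
  unfold sigLE
  infer_instance

lemma isZero_sigLE_X (n : ℤ) (hn : c < n) : IsZero ((sigLE K c).X n) :=
  CochainComplex.isZero_of_isStrictlyLE (sigLE K c) c n hn

lemma isIso_πLE_f (n : ℤ) (hn : n ≤ c) : IsIso ((πLE K c).f n) := by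
  obtain ⟨k, hk⟩ : ∃ k : ℕ, (ComplexShape.embeddingUpIntLE c).f k = n :=
    ⟨(c - n).toNat, by rw [ComplexShape.embeddingUpIntLE_f]; omega⟩
  refine ((ComplexShape.embeddingUpIntLE c).isIso_liftExtend_f_iff _ _ hk).2 ?_
  dsimp
  infer_instance

instance epi_πLE_f (n : ℤ) : Epi ((πLE K c).f n) := by
  by_cases hn : n ≤ c
  · haveI := isIso_πLE_f K c n hn
    infer_instance
  · exact ⟨fun g h _ => (isZero_sigLE_X K c n (by omega)).eq_of_src g h⟩

instance epi_πLE : Epi (πLE K c) := HomologicalComplex.epi_of_epi_f _ (fun _ => inferInstance)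

/-- the subcomplex `σ_{> c} K` -/
noncomputable def kerLE : CochainComplex A ℤ := kernel (πLE K c)

/-- the inclusion `σ_{> c} K ⟶ K` -/
noncomputable def ιGT : kerLE K c ⟶ K := kernel.ι (πLE K c)

instance : Mono (ιGT K c) := inferInstanceAs (Mono (kernel.ι (πLE K c)))

lemma ιGT_πLE : ιGT K c ≫ πLE K c = 0 := kernel.condition _

lemma shortExact : (ShortComplex.mk (ιGT K c) (πLE K c) (ιGT_πLE K c)).ShortExact where
  exact := ShortComplex.exact_kernel _

lemma shortExact_eval (n : ℤ) :
    (ShortComplex.mk ((ιGT K c).f n) ((πLE K c).f n)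
      (by rw [← HomologicalComplex.comp_f, ιGT_πLE, HomologicalComplex.zero_f])).ShortExact :=
  (shortExact K c).map_of_exact (eval A (ComplexShape.up ℤ) n)

lemma isZero_kerLE_X (n : ℤ) (hn : n ≤ c) : IsZero ((kerLE K c).X n) := by
  haveI := isIso_πLE_f K c n hn
  exact (shortExact_eval K c n).isIso_g_iff.1 inferInstance

lemma isIso_ιGT_f (n : ℤ) (hn : c < n) : IsIso ((ιGT K c).f n) :=
  (shortExact_eval K c n).isIso_f_iff.2 (isZero_sigLE_X K c n hn)

instance mono_ιGT_f (n : ℤ) : Mono ((ιGT K c).f n) := inferInstance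

lemma isStrictlyLE_kerLE (b : ℤ) [K.IsStrictlyLE b] : (kerLE K c).IsStrictlyLE b := by
  rw [CochainComplex.isStrictlyLE_iff]
  intro n hn
  exact IsZero.of_mono ((ιGT K c).f n) (CochainComplex.isZero_of_isStrictlyLE K b n hn)

lemma isStrictlyGE_kerLE (a : ℤ) (ha : a ≤ c + 1) : (kerLE K c).IsStrictlyGE a := by
  rw [CochainComplex.isStrictlyGE_iff]
  intro n hn
  exact isZero_kerLE_X K c n (by omega)

lemma isStrictlyGE_sigLE (a : ℤ) [K.IsStrictlyGE a] : (sigLE K c).IsStrictlyGE a := by
  rw [CochainComplex.isStrictlyGE_iff]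
  intro n hn
  by_cases hc : n ≤ c
  · haveI := isIso_πLE_f K c n hc
    exact IsZero.of_iso (CochainComplex.isZero_of_isStrictlyGE K a n hn)
      (asIso ((πLE K c).f n)).symm
  · exact isZero_sigLE_X K c n (by omega)

lemma ιGT_πLE' (c' : ℤ) (h : c' ≤ c) : ιGT K c ≫ πLE K c' = 0 := by
  ext n
  by_cases hn : n ≤ c
  · exact (isZero_kerLE_X K c n hn).eq_of_src _ _
  · exact (isZero_sigLE_X K c' n (by omega)).eq_of_tgt _ _

/-- the inclusion `σ_{> c} K ⟶ σ_{> c'} K` for `c' ≤ c` -/
noncomputable def trans (c' : ℤ) (h : c' ≤ c) : kerLE K c ⟶ kerLE K c' :=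
  kernel.lift (πLE K c') (ιGT K c) (ιGT_πLE' K c c' h)

@[reassoc (attr := simp)]
lemma trans_ιGT (c' : ℤ) (h : c' ≤ c) : trans K c c' h ≫ ιGT K c' = ιGT K c :=
  kernel.lift_ι _ _ _

/-- the sequence `σ_{≥ b} K ⟶ σ_{≥ b - 1} K ⟶ ...` -/
noncomputable def seq (b : ℤ) : ℕ ⥤ CochainComplex A ℤ where
  obj j := kerLE K (b - j - 1)
  map {j j'} f := trans K (b - j - 1) (b - j' - 1) (by have := leOfHom f; omega)
  map_id j := by rw [← cancel_mono (ιGT K _), trans_ιGT, Category.id_comp]
  map_comp f g := by rw [← cancel_mono (ιGT K _)]; simp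

/-- the cocone of the sequence with point `K` -/
noncomputable def cocone (b : ℤ) : Cocone (seq K b) where
  pt := K
  ι :=
    { app := fun j => ιGT K (b - j - 1)
      naturality := fun j j' f => by
        dsimp [seq]
        simp }

/-- a bounded above complex is the colimit of its stupid truncations -/
noncomputable def isColimitCocone (b : ℤ) [K.IsStrictlyLE b] : IsColimit (cocone K b) :=
  isColimitOfEval _ _ (fun n => isColimitOfEventuallyIsIso _ (b - n).toNat (fun j hj => by
    show IsIso ((ιGT K (b - j - 1)).f n)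
    exact isIso_ιGT_f K _ n (by omega)))

end Groth.Agent.Helper9.KFlat11
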