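import Mathlib
import Groth.Prelude.Def_KFlatSite
import Groth.Agent.Helper9.KFlat5
import Groth.Agent.Helper9.TensorSES

/-!
# K-flat complexes on a ringed site: short exact sequences with flat quotient terms
-/

set_option autoImplicit false
set_option linter.style.haveILetI false
set_option linter.unusedSectionVars false

namespace Groth.Agent.Helper9.KFlat6

open CategoryTheory Limits HomologicalComplex CochainComplex Groth.Agent.Helper9.KFlat1
  Groth.Agent.Helper9.KFlat2 Groth.Agent.Helper9.KFlat3 Groth.Agent.Helper9.KFlat4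
  Groth.Agent.Helper9.KFlat5 Groth.Agent.Helper9.TensorFlat Groth.Agent.Helper9.TensorSES
  Groth.Agent.Helper9.TensorAdj

universe u

variable {C : Type u} [SmallCategory C] {J : GrothendieckTopology C} {O : Sheaf J CommRingCat.{u}}

theorem shortExact_map_TL (S : ShortComplex (ModSite.Mod O)) (hS : S.ShortExact)
    (hF : ModSite.IsFlat S.X₃) (G : ModSite.Mod O) :
    (S.map ((ModSite.tensorBi O).obj G)).ShortExact := by
  obtain ⟨z, hx, he⟩ := map_exact_epi (TL G) S hS
  exact { exact := hx, mono_f := mono_TL_map_of_flat_quotient S hS hF G, epi_g := he }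

/-- S9057 -/
theorem isKFlat_shortExact (S : ShortComplex (CochainComplex (ModSite.Mod O) ℤ))
    (hS : S.ShortExact) (h3 : ∀ n : ℤ, ModSite.IsFlat (S.X₃.X n)) :
    (ModSite.IsKFlat S.X₁ → ModSite.IsKFlat S.X₂ → ModSite.IsKFlat S.X₃) ∧
    (ModSite.IsKFlat S.X₁ → ModSite.IsKFlat S.X₃ → ModSite.IsKFlat S.X₂) ∧
    (ModSite.IsKFlat S.X₂ → ModSite.IsKFlat S.X₃ → ModSite.IsKFlat S.X₁) := by
  simp only [isKFlat_iff]
  apply isKFlatR_shortExact S
  intro X q
  have hq : (S.map (eval (ModSite.Mod O) (ComplexShape.up ℤ) q)).ShortExact :=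
    hS.map_of_exact (eval (ModSite.Mod O) (ComplexShape.up ℤ) q)
  exact shortExact_map_TL _ hq (h3 q) X

end Groth.Agent.Helper9.KFlat6
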