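import Mathlib
import Groth.Prelude.Def_ModSite

/-!
# Morphisms out of the free module `j_{U!} O_U` are sections over `U`
-/

namespace Groth.Agent.Helper9.FreeOnHom

open CategoryTheory Opposite Limits

universe u

variable {C : Type u} [SmallCategory C] {J : GrothendieckTopology C} (O : Sheaf J CommRingCat.{u})
  (U : C)

/-- global sections of `F|_U` are sections of `F` over `U` -/
noncomputable def secEquiv (F : ModSite.Mod O) :
    ((ModSite.restr O U).obj F).sections ≃ F.val.obj (op U) where
  toFun s := s.val (op (Over.mk (𝟙 U)))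
  invFun x := PresheafOfModules.sectionsMk (M := ((ModSite.restr O U).obj F).val)
    (fun Y => F.val.map (Y.unop.hom.op) x) (by
      intro Y Y' g
      have hw : g.unop.left ≫ (unop Y).hom = (unop Y').hom := Over.w g.unop
      have key : F.val.presheaf.map (Y.unop.hom.op) ≫
          F.val.presheaf.map (g.unop.left).op =
            F.val.presheaf.map (Y'.unop.hom.op) := by
        rw [← Functor.map_comp, ← op_comp, hw]
      exact ConcreteCategory.congr_hom key x)
  left_inv s := by
    ext Y
    have h := s.property (Over.homMk (V := Over.mk (𝟙 U)) Y.unop.hom : Y.unop ⟶ Over.mk (𝟙 U)).op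
    exact h
  right_inv x := by
    have key : ∀ (x' : F.val.presheaf.obj (op U)), F.val.presheaf.map (𝟙 U).op x' = x' := by
      intro x'
      rw [op_id, F.val.presheaf.map_id]
      rfl
    exact key x

/-- `Hom(j_{U!} O_U, F) ≃ F(U)` -/
noncomputable def homEquiv (F : ModSite.Mod O) : (ModSite.freeOn O U ⟶ F) ≃ F.val.obj (op U) :=
  ((ModSite.extZeroAdj O U).homEquiv _ F).trans
    ((SheafOfModules.unitHomEquiv _).trans (secEquiv O U F))

lemma homEquiv_comp {F F' : ModSite.Mod O} (h : ModSite.freeOn O U ⟶ F) (f : F ⟶ F') :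
    homEquiv O U F' (h ≫ f) = f.val.app (op U) (homEquiv O U F h) := by
  unfold homEquiv
  simp only [Equiv.trans_apply]
  rw [Adjunction.homEquiv_naturality_right, SheafOfModules.unitHomEquiv_comp_apply]
  rfl

variable {O}

/-- two morphisms of sheaves of modules agreeing on sections over a topologically generating
family are equal -/
lemma hom_ext_of_generating (G : Set C)
    (hG : ∀ X : C, ∃ (ι : Type u) (Y : ι → C) (f : ∀ i, Y i ⟶ X),
      Sieve.ofArrows Y f ∈ J X ∧ ∀ i, Y i ∈ G)
    {F F' : ModSite.Mod O} (f g : F ⟶ F')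
    (h : ∀ X ∈ G, ∀ s : F.val.obj (op X), f.val.app (op X) s = g.val.app (op X) s) : f = g := by
  apply SheafOfModules.Hom.ext
  apply PresheafOfModules.Hom.ext
  funext V
  induction V using Opposite.rec with | _ V
  apply ModuleCat.hom_ext
  apply LinearMap.ext
  intro s
  obtain ⟨ι, Yc, φ, hφ, hY⟩ := hG V
  have hsh : Presieve.IsSheaf J (F'.val.presheaf ⋙ forget AddCommGrpCat) :=
    (isSheaf_iff_isSheaf_of_type J _).1
      ((Presheaf.isSheaf_iff_isSheaf_forget J F'.val.presheaf (forget AddCommGrpCat)).1 F'.isSheaf)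
  refine (hsh.isSeparated _ hφ).ext ?_
  intro W k hk
  obtain ⟨W', k', k'', hk'', rfl⟩ := hk
  obtain ⟨i⟩ := hk''
  show F'.val.presheaf.map (k' ≫ φ i).op (f.val.app (op V) s) =
    F'.val.presheaf.map (k' ≫ φ i).op (g.val.app (op V) s)
  have hf := PresheafOfModules.naturality_apply f.val (φ i).op s
  have hg := PresheafOfModules.naturality_apply g.val (φ i).op s
  have e : F'.val.map (φ i).op (f.val.app (op V) s) = F'.val.map (φ i).op (g.val.app (op V) s) := by
    rw [← hf, ← hg]
    exact h (Yc i) (hY i) _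
  rw [op_comp, Functor.map_comp]
  exact congrArg (F'.val.presheaf.map k'.op) e

theorem isSeparating_freeOn (G : Set C)
    (hG : ∀ X : C, ∃ (ι : Type u) (Y : ι → C) (f : ∀ i, Y i ⟶ X),
      Sieve.ofArrows Y f ∈ J X ∧ ∀ i, Y i ∈ G) :
    (ObjectProperty.ofObj fun X : G => ModSite.freeOn O (X : C)).IsSeparating := by
  intro F F' f g hfg
  apply hom_ext_of_generating G hG
  intro X hX s
  have h1 := hfg _ (ObjectProperty.ofObj_apply (fun X : G => ModSite.freeOn O (X : C)) ⟨X, hX⟩)
    ((homEquiv O X F).symm s)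
  have h2 := congrArg (homEquiv O X F') h1
  rw [homEquiv_comp, homEquiv_comp, Equiv.apply_symm_apply] at h2
  exact h2

end Groth.Agent.Helper9.FreeOnHom
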