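import Mathlib
import Groth.Prelude.Def_ModSite
import Groth.Agent.Helper9.FreeOnHom
import Groth.Agent.Helper9.TensorFree

/-!
# Isomorphisms between free modules via the Yoneda lemma
-/

namespace Groth.Agent.Helper9.FreeOnIso

open CategoryTheory Opposite Limits Groth.Agent.Helper9.FreeOnHom

universe u

section Yoneda

variable {A : Type*} [Category A] {P Q : A}

/-- an isomorphism from a natural bijection of the corepresented functors -/
def isoOfNatEquiv (e : ∀ F : A, (P ⟶ F) ≃ (Q ⟶ F))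
    (nat : ∀ {F F' : A} (h : P ⟶ F) (φ : F ⟶ F'), e F' (h ≫ φ) = e F h ≫ φ) : P ≅ Q where
  hom := (e Q).symm (𝟙 Q)
  inv := e P (𝟙 P)
  hom_inv_id := by
    apply (e P).injective
    rw [nat, Equiv.apply_symm_apply, Category.id_comp]
  inv_hom_id := by
    rw [← nat, Category.id_comp, Equiv.apply_symm_apply]

end Yoneda

variable {C D : Type u} [SmallCategory C] [SmallCategory D] {J : GrothendieckTopology C}
  {K : GrothendieckTopology D} {O_C : Sheaf J CommRingCat.{u}} {O_D : Sheaf K CommRingCat.{u}}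

/-- `Hom(f^* A'_X, F) ≃ Hom(A_{u X}, F)` -/
noncomputable def pullEquiv (f : ModSite.RMor O_C O_D) (X : D) (F : ModSite.Mod O_C) :
    (f.pull.obj (ModSite.freeOn O_D X) ⟶ F) ≃ (ModSite.freeOn O_C (f.fn.obj X) ⟶ F) :=
  ((f.adj.homEquiv _ F).trans (homEquiv O_D X (f.push.obj F))).trans
    ((show ((f.push.obj F).val.obj (op X) : Type u) ≃ (F.val.obj (op (f.fn.obj X)) : Type u) from
      Equiv.refl _).trans (homEquiv O_C (f.fn.obj X) F).symm)

lemma pullEquiv_apply (f : ModSite.RMor O_C O_D) (X : D) {F : ModSite.Mod O_C}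
    (h : f.pull.obj (ModSite.freeOn O_D X) ⟶ F) :
    homEquiv O_C (f.fn.obj X) F (pullEquiv f X F h) =
      homEquiv O_D X (f.push.obj F) (f.adj.homEquiv _ F h) :=
  Equiv.apply_symm_apply _ _

lemma pullEquiv_nat (f : ModSite.RMor O_C O_D) (X : D) {F F' : ModSite.Mod O_C}
    (h : f.pull.obj (ModSite.freeOn O_D X) ⟶ F) (φ : F ⟶ F') :
    pullEquiv f X F' (h ≫ φ) = pullEquiv f X F h ≫ φ := by
  apply (homEquiv O_C (f.fn.obj X) F').injective
  rw [homEquiv_comp, pullEquiv_apply, pullEquiv_apply, Adjunction.homEquiv_naturality_right,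
    homEquiv_comp]
  rfl

theorem nonempty_pull_freeOn_iso (f : ModSite.RMor O_C O_D) (X : D) :
    Nonempty (f.pull.obj (ModSite.freeOn O_D X) ≅ ModSite.freeOn O_C (f.fn.obj X)) :=
  ⟨isoOfNatEquiv (pullEquiv f X) (pullEquiv_nat f X)⟩

variable (O : Sheaf J CommRingCat.{u}) (U : C)

/-- `Hom(j_{U!} O_U, F) ≃ Hom(O[h_U]^#, F)` -/
noncomputable def freeEquiv (F : ModSite.Mod O) :
    (ModSite.freeOn O U ⟶ F) ≃ ((ModFree.L (ModSite.ringSh O)).obj (yoneda.obj U) ⟶ F) where
  toFun h := ((ModFree.adjL (ModSite.ringSh O)).homEquiv _ F).symm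
    (yonedaEquiv.symm (homEquiv O U F h : ((ModFree.G (ModSite.ringSh O)).obj F).obj (op U)))
  invFun g := (homEquiv O U F).symm
    (yonedaEquiv ((ModFree.adjL (ModSite.ringSh O)).homEquiv _ F g) : F.val.obj (op U))
  left_inv h := by
    refine (congrArg (homEquiv O U F).symm ?_).trans (Equiv.symm_apply_apply _ h)
    exact (congrArg yonedaEquiv (Equiv.apply_symm_apply _ _)).trans
      (Equiv.apply_symm_apply yonedaEquiv _)
  right_inv g := by
    refine (congrArg ((ModFree.adjL (ModSite.ringSh O)).homEquiv _ F).symm ?_).trans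
      (Equiv.symm_apply_apply _ g)
    exact (congrArg yonedaEquiv.symm (Equiv.apply_symm_apply (homEquiv O U F) _)).trans
      (Equiv.symm_apply_apply yonedaEquiv _)

lemma freeEquiv_apply {F : ModSite.Mod O} (h : ModSite.freeOn O U ⟶ F) :
    yonedaEquiv ((ModFree.adjL (ModSite.ringSh O)).homEquiv _ F (freeEquiv O U F h)) =
      homEquiv O U F h := by
  exact (congrArg yonedaEquiv (Equiv.apply_symm_apply _ _)).trans
    (Equiv.apply_symm_apply yonedaEquiv _)

lemma freeEquiv_nat {F F' : ModSite.Mod O} (h : ModSite.freeOn O U ⟶ F) (φ : F ⟶ F') :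
    freeEquiv O U F' (h ≫ φ) = freeEquiv O U F h ≫ φ := by
  apply ((ModFree.adjL (ModSite.ringSh O)).homEquiv _ F').injective
  apply yonedaEquiv.injective
  rw [freeEquiv_apply, homEquiv_comp, Adjunction.homEquiv_naturality_right, yonedaEquiv_comp,
    freeEquiv_apply]
  rfl

/-- `j_{U!} O_U ≅ O[h_U]^#` -/
noncomputable def freeOnIso :
    ModSite.freeOn O U ≅ (ModFree.L (ModSite.ringSh O)).obj (yoneda.obj U) :=
  isoOfNatEquiv (freeEquiv O U) (freeEquiv_nat O U)

theorem isFlat_freeOn : ModSite.IsFlat (ModSite.freeOn O U) := by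
  have h := TensorFree.isFlat_free (O := O) (yoneda.obj U)
  obtain ⟨h1, h2⟩ := h
  have e : (ModSite.tensorBi O).flip.obj (ModSite.freeOn O U) ≅
      (ModSite.tensorBi O).flip.obj ((ModFree.L (ModSite.ringSh O)).obj (yoneda.obj U)) :=
    (ModSite.tensorBi O).flip.mapIso (freeOnIso O U)
  exact ⟨preservesFiniteLimits_of_natIso e.symm, preservesFiniteColimits_of_natIso e.symm⟩

end Groth.Agent.Helper9.FreeOnIso
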