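import Mathlib
import Groth.Agent.Helper9.KFlat4

/-!
# An object `M` with `F(-, M)` exact, placed in degree `0`, is K-flat (generic version)
-/

set_option autoImplicit false
set_option linter.style.haveILetI false
set_option linter.unusedSectionVars false

namespace Groth.Agent.Helper9.KFlat7

open CategoryTheory Limits HomologicalComplex CochainComplex Groth.Agent.Helper9.KFlat1
  Groth.Agent.Helper9.KFlat2 Groth.Agent.Helper9.KFlat3 Groth.Agent.Helper9.KFlat4

universe w v u

section Cofan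

variable {A : Type u} [Category.{v} A] [HasZeroMorphisms A]

open Classical in
/-- if all summands but one are zero, the inclusion of the remaining summand is an isomorphism -/
lemma isIso_inj_of_isZero {κ : Type w} {X : κ → A} (c : Cofan X) (hc : IsColimit c) (i₀ : κ)
    (h : ∀ i, i ≠ i₀ → IsZero (X i)) : IsIso (c.inj i₀) := by
  let r : c.pt ⟶ X i₀ := Cofan.IsColimit.desc hc
    (fun i => if hi : i = i₀ then eqToHom (by rw [hi]) else 0)
  have hr : ∀ i, c.inj i ≫ r = if hi : i = i₀ then eqToHom (by rw [hi]) else 0 :=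
    fun i => Cofan.IsColimit.fac hc _ i
  refine ⟨⟨r, ?_, ?_⟩⟩
  · rw [hr, dif_pos rfl, eqToHom_refl]
  · refine Cofan.IsColimit.hom_ext hc _ _ (fun i => ?_)
    by_cases hi : i = i₀
    · subst hi
      rw [← Category.assoc, hr, dif_pos rfl, eqToHom_refl, Category.id_comp, Category.comp_id]
    · exact (h i hi).eq_of_src _ _

end Cofan

variable {A : Type u} [Category.{v} A] [Abelian A] (F : A ⥤ A ⥤ A) [F.Additive]
  [∀ X, (F.obj X).Additive]
  [∀ (K₁ K₂ : CochainComplex A ℤ), HomologicalComplex.HasMapBifunctor K₁ K₂ F (ComplexShape.up ℤ)]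
  [∀ n : ℤ, HasColimitsOfShape (Discrete ((ComplexShape.π (ComplexShape.up ℤ) (ComplexShape.up ℤ)
    (ComplexShape.up ℤ)) ⁻¹' {n})) A]
  [∀ n : ℤ, HasExactColimitsOfShape (Discrete ((ComplexShape.π (ComplexShape.up ℤ)
    (ComplexShape.up ℤ) (ComplexShape.up ℤ)) ⁻¹' {n})) A]
  (L : CochainComplex A ℤ) (M : A)

/-- the complex `M[0]` -/
noncomputable abbrev Ks : CochainComplex A ℤ := (single A (ComplexShape.up ℤ) 0).obj M

/-- the inclusion of the only nonzero summand of `Tot(L ⊗ M[0])` in degree `n` -/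
noncomputable def ιs (n : ℤ) : (F.obj (L.X n)).obj ((Ks M).X 0) ⟶
    (mapBifunctor L (Ks M) F (ComplexShape.up ℤ)).X n :=
  ιMapBifunctor L (Ks M) F (ComplexShape.up ℤ) n 0 n (add_zero n)

lemma isIso_ιs (n : ℤ) : IsIso (ιs F L M n) := by
  have := isIso_inj_of_isZero (cof F L (Ks M) n) (isColimitCof F L (Ks M) n) ⟨(n, 0), add_zero n⟩
    (fun i hi => by
      obtain ⟨⟨p, q⟩, hpq⟩ := i
      have hq : q ≠ 0 := by
        intro hq
        subst hq
        apply hi
        have hp : p = n := by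
          have : p + 0 = n := hpq
          omega
        subst hp
        rfl
      exact Functor.map_isZero _ (isZero_single_obj_X (ComplexShape.up ℤ) 0 M q hq))
  exact this

lemma ιs_d (i j : ℤ) (hij : i + 1 = j) :
    ιs F L M i ≫ (mapBifunctor L (Ks M) F (ComplexShape.up ℤ)).d i j =
      (F.map (L.d i j)).app ((Ks M).X 0) ≫ ιs F L M j := by
  subst hij
  unfold ιs
  rw [mapBifunctor.d_eq, Preadditive.comp_add, mapBifunctor.ι_D₁, mapBifunctor.ι_D₂,
    mapBifunctor.d₁_eq L (Ks M) F (ComplexShape.up ℤ) (show (ComplexShape.up ℤ).Rel i (i + 1) from rfl)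
      0 (i + 1) (add_zero _)]
  have h2 : mapBifunctor.d₂ L (Ks M) F (ComplexShape.up ℤ) i 0 (i + 1) = 0 := by
    rw [mapBifunctor.d₂_eq L (Ks M) F (ComplexShape.up ℤ) i
      (show (ComplexShape.up ℤ).Rel 0 1 from rfl) (i + 1) rfl]
    simp
  rw [h2, add_zero]
  simp

variable {F L M}

theorem exactAt_single (hL : L.Acyclic) [PreservesFiniteLimits (F.flip.obj M)]
    [PreservesFiniteColimits (F.flip.obj M)] (n : ℤ) :
    (mapBifunctor L (Ks M) F (ComplexShape.up ℤ)).ExactAt n := by
  let e : F.flip.obj M ≅ F.flip.obj ((Ks M).X 0) :=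
    F.flip.mapIso (singleObjXSelf (ComplexShape.up ℤ) 0 M).symm
  haveI : PreservesFiniteLimits (F.flip.obj ((Ks M).X 0)) := preservesFiniteLimits_of_natIso e
  haveI : PreservesFiniteColimits (F.flip.obj ((Ks M).X 0)) := preservesFiniteColimits_of_natIso e
  rw [HomologicalComplex.exactAt_iff' _ (n - 1) n (n + 1) (by simp) (by simp)]
  have h1 : (L.sc' (n - 1) n (n + 1)).Exact :=
    (HomologicalComplex.exactAt_iff' _ (n - 1) n (n + 1) (by simp) (by simp)).1 (hL n)
  have h2 := h1.map (F.flip.obj ((Ks M).X 0))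
  refine ShortComplex.exact_of_iso ?_ h2
  haveI := isIso_ιs F L M (n - 1)
  haveI := isIso_ιs F L M n
  haveI := isIso_ιs F L M (n + 1)
  let e₁ : (F.obj (L.X (n - 1))).obj ((Ks M).X 0) ≅
      (mapBifunctor L (Ks M) F (ComplexShape.up ℤ)).X (n - 1) := asIso (ιs F L M (n - 1))
  let e₂ : (F.obj (L.X n)).obj ((Ks M).X 0) ≅
      (mapBifunctor L (Ks M) F (ComplexShape.up ℤ)).X n := asIso (ιs F L M n)
  let e₃ : (F.obj (L.X (n + 1))).obj ((Ks M).X 0) ≅
      (mapBifunctor L (Ks M) F (ComplexShape.up ℤ)).X (n + 1) := asIso (ιs F L M (n + 1))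
  exact ShortComplex.isoMk e₁ e₂ e₃ (ιs_d F L M (n - 1) n (by simp))
    (ιs_d F L M n (n + 1) rfl)

theorem isKFlatR_single [PreservesFiniteLimits (F.flip.obj M)]
    [PreservesFiniteColimits (F.flip.obj M)] : IsKFlatR F (Ks M) :=
  fun _ hL n => exactAt_single hL n

end Groth.Agent.Helper9.KFlat7
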