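import Mathlib
import Groth.Prelude.Def_KFlatSite
import Groth.Agent.Helper9.KFlat5
import Groth.Agent.Helper9.KFlat7
import Groth.Agent.Helper9.FreeOnIso

/-!
# K-flat complexes on a ringed site: a flat module in degree `0`; shifts and isomorphisms
-/

set_option autoImplicit false
set_option linter.style.haveILetI false
set_option linter.unusedSectionVars false

namespace Groth.Agent.Helper9.KFlat8

open CategoryTheory Limits HomologicalComplex CochainComplex Groth.Agent.Helper9.KFlat1
  Groth.Agent.Helper9.KFlat2 Groth.Agent.Helper9.KFlat3 Groth.Agent.Helper9.KFlat4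
  Groth.Agent.Helper9.KFlat5 Groth.Agent.Helper9.KFlat7

universe u

variable {C : Type u} [SmallCategory C] {J : GrothendieckTopology C} {O : Sheaf J CommRingCat.{u}}

theorem isKFlat_single (M : ModSite.Mod O) (hM : ModSite.IsFlat M) :
    ModSite.IsKFlat ((HomologicalComplex.single (ModSite.Mod O) (ComplexShape.up ℤ) 0).obj M) := by
  rw [isKFlat_iff]
  haveI := hM.1
  haveI := hM.2
  exact isKFlatR_single

/-- S11134 -/
theorem isKFlat_single_freeOn (x : C) :
    ModSite.IsKFlat ((CochainComplex.singleFunctor (ModSite.Mod O) 0).obj (ModSite.freeOn O x)) :=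
  isKFlat_single _ (Groth.Agent.Helper9.FreeOnIso.isFlat_freeOn O x)

/-- K-flatness is invariant under isomorphism -/
theorem isKFlat_of_iso {K K' : CochainComplex (ModSite.Mod O) ℤ} (e : K ≅ K')
    (hK : ModSite.IsKFlat K) : ModSite.IsKFlat K' := by
  intro F hF i
  exact IsZero.of_iso (hK F hF i)
    ((HomologicalComplex.homologyFunctor _ _ i).mapIso
      (((ModSite.tensorCx O).obj F).mapIso e.symm))

/-- K-flatness is invariant under shift -/
theorem isKFlat_shift {K : CochainComplex (ModSite.Mod O) ℤ} (hK : ModSite.IsKFlat K) (n : ℤ) :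
    ModSite.IsKFlat (K⟦n⟧) := by
  rw [isKFlat_iff] at hK ⊢
  intro L hL
  have e := CochainComplex.mapBifunctorShift₂Iso L K (ModSite.tensorBi O) n
  have h := (acyclic_shift_iff (mapBifunctor L K (ModSite.tensorBi O) (ComplexShape.up ℤ)) n).2
    (hK L hL)
  rw [acyclic_iff_isZero_homology] at h ⊢
  intro i
  exact IsZero.of_iso (h i) ((HomologicalComplex.homologyFunctor _ _ i).mapIso e)

theorem isKFlat_zero {K : CochainComplex (ModSite.Mod O) ℤ} (hK : IsZero K) :
    ModSite.IsKFlat K := by
  intro F hF i
  have h0 : IsZero (((ModSite.tensorCx O).obj F).obj K) := Functor.map_isZero _ hK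
  exact Functor.map_isZero (HomologicalComplex.homologyFunctor _ _ i) h0

end Groth.Agent.Helper9.KFlat8
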