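import Mathlib
import Groth.Prelude.Def_KFlatSite
import Groth.Agent.Helper9.KFlat6
import Groth.Agent.Helper9.KFlat8
import Groth.Agent.Helper9.KFlat10
import Groth.Agent.Helper9.KFlat11
import Groth.Agent.Helper9.FlatCx

/-!
# K-flat complexes on a ringed site: bounded above complexes of flat modules
-/

set_option autoImplicit false
set_option linter.style.haveILetI false
set_option linter.unusedSectionVars false

namespace Groth.Agent.Helper9.KFlat12

open CategoryTheory Limits HomologicalComplex CochainComplex Groth.Agent.Helper9.KFlat1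
  Groth.Agent.Helper9.KFlat2 Groth.Agent.Helper9.KFlat3 Groth.Agent.Helper9.KFlat4
  Groth.Agent.Helper9.KFlat5 Groth.Agent.Helper9.KFlat6 Groth.Agent.Helper9.KFlat8
  Groth.Agent.Helper9.KFlat10 Groth.Agent.Helper9.KFlat11

universe u

variable {C : Type u} [SmallCategory C] {J : GrothendieckTopology C} {O : Sheaf J CommRingCat.{u}}

lemma isFlat_of_iso {M M' : ModSite.Mod O} (e : M ≅ M') (hM : ModSite.IsFlat M) :
    ModSite.IsFlat M' := by
  haveI := hM.1
  haveI := hM.2
  exact ⟨preservesFiniteLimits_of_natIso ((ModSite.tensorBi O).flip.mapIso e),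
    preservesFiniteColimits_of_natIso ((ModSite.tensorBi O).flip.mapIso e)⟩

variable (K : CochainComplex (ModSite.Mod O) ℤ)

lemma isFlat_sigLE_X (hK : ∀ n, ModSite.IsFlat (K.X n)) (c n : ℤ) :
    ModSite.IsFlat (O := O) ((sigLE K c).X n) := by
  by_cases hn : n ≤ c
  · haveI := isIso_πLE_f K c n hn
    exact isFlat_of_iso (asIso ((πLE K c).f n)) (hK n)
  · exact Groth.Agent.Helper9.FlatCx.isFlat_of_isZero _ (isZero_sigLE_X K c n (by omega))

lemma isFlat_kerLE_X (hK : ∀ n, ModSite.IsFlat (K.X n)) (c n : ℤ) :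
    ModSite.IsFlat (O := O) ((kerLE K c).X n) := by
  by_cases hn : n ≤ c
  · exact Groth.Agent.Helper9.FlatCx.isFlat_of_isZero _ (isZero_kerLE_X K c n hn)
  · haveI := isIso_ιGT_f K c n (by omega)
    exact isFlat_of_iso (asIso ((ιGT K c).f n)).symm (hK n)

/-- a complex concentrated in one degree with flat term is K-flat -/
theorem isKFlat_of_concentrated (a : ℤ) [K.IsStrictlyGE a] [K.IsStrictlyLE a]
    (hK : ∀ n, ModSite.IsFlat (K.X n)) : ModSite.IsKFlat K := by
  obtain ⟨M, ⟨e⟩⟩ := CochainComplex.exists_iso_single K a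
  have hM : ModSite.IsFlat M :=
    isFlat_of_iso ((HomologicalComplex.eval _ _ a).mapIso e ≪≫
      HomologicalComplex.singleObjXSelf (ComplexShape.up ℤ) a M) (hK a)
  have e' : ((HomologicalComplex.single (ModSite.Mod O) (ComplexShape.up ℤ) 0).obj M)⟦-a⟧ ≅
      (HomologicalComplex.single (ModSite.Mod O) (ComplexShape.up ℤ) a).obj M :=
    ((CochainComplex.singleFunctors (ModSite.Mod O)).shiftIso (-a) a 0 (by simp)).app M
  exact isKFlat_of_iso (e' ≪≫ e.symm) (isKFlat_shift (isKFlat_single M hM) (-a))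

/-- bounded complexes with flat terms are K-flat -/
theorem isKFlat_of_bounded (j : ℕ) : ∀ (K : CochainComplex (ModSite.Mod O) ℤ) (a : ℤ)
    [K.IsStrictlyGE a] [K.IsStrictlyLE (a + j)], (∀ n, ModSite.IsFlat (K.X n)) →
    ModSite.IsKFlat K := by
  induction j with
  | zero =>
    intro K a _ _ hK
    haveI : K.IsStrictlyLE a := by simpa using (inferInstance : K.IsStrictlyLE (a + (0 : ℕ)))
    exact isKFlat_of_concentrated K a hK
  | succ j ih =>
    intro K a _ hb hK
    have hS := shortExact K a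
    haveI : (kerLE K a).IsStrictlyGE (a + 1) := isStrictlyGE_kerLE K a (a + 1) le_rfl
    haveI : (kerLE K a).IsStrictlyLE (a + 1 + j) := by
      haveI : K.IsStrictlyLE (a + 1 + j) := by
        have : a + ((j + 1 : ℕ) : ℤ) = a + 1 + j := by push_cast; ring
        rw [← this]
        exact hb
      exact isStrictlyLE_kerLE K a (a + 1 + j)
    have h1 : ModSite.IsKFlat (O := O) (kerLE K a) := ih (kerLE K a) (a + 1) (isFlat_kerLE_X K hK a)
    haveI : (sigLE K a).IsStrictlyGE a := isStrictlyGE_sigLE K a a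
    have h3 : ModSite.IsKFlat (O := O) (sigLE K a) :=
      isKFlat_of_concentrated (sigLE K a) a (isFlat_sigLE_X K hK a)
    exact (isKFlat_shortExact _ hS (isFlat_sigLE_X K hK a)).2.1 h1 h3

/-- S9058 -/
theorem isKFlat_of_bounded_above (b : ℤ) (hb : K.IsStrictlyLE b)
    (hflat : ∀ n : ℤ, ModSite.IsFlat (K.X n)) : ModSite.IsKFlat K := by
  refine isKFlat_of_isColimit (cocone K b) (isColimitCocone K b) (fun j => ?_)
  show ModSite.IsKFlat (O := O) (kerLE K (b - j - 1))
  haveI : (kerLE K (b - j - 1)).IsStrictlyGE (b - j) :=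
    isStrictlyGE_kerLE K (b - j - 1) (b - j) (by omega)
  haveI : (kerLE K (b - j - 1)).IsStrictlyLE (b - j + j) := by
    haveI : K.IsStrictlyLE (b - j + j) := by
      have : b - (j : ℤ) + j = b := by ring
      rw [this]
      exact hb
    exact isStrictlyLE_kerLE K (b - j - 1) (b - j + j)
  exact isKFlat_of_bounded j (kerLE K (b - j - 1)) (b - j) (isFlat_kerLE_X K hflat _)

end Groth.Agent.Helper9.KFlat12
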