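import Mathlib
import Groth.Agent.Helper9.KFlat1

/-!
# Sequential colimits of complexes: a criterion for the colimit map to be a quasi-isomorphism
-/

set_option autoImplicit false
set_option linter.style.haveILetI false
set_option linter.unusedSectionVars false

namespace Groth.Agent.Helper9.KFlat13

open CategoryTheory Limits HomologicalComplex CochainComplex Groth.Agent.Helper9.KFlat1
open ZeroObject

universe v u

variable {A : Type u} [Category.{v} A] [Abelian A]

section ZeroSeq

/-- a sequence with zero transition maps has zero colimit -/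
noncomputable def isColimitZeroCocone (F : ℕ ⥤ A) (h : ∀ i : ℕ, F.map (homOfLE (Nat.le_succ i)) = 0)
    (c : Cocone F) (hc : IsZero c.pt) : IsColimit c where
  desc _ := 0
  fac s j := by
    have h1 : s.ι.app j = 0 := by
      rw [← s.w (homOfLE (Nat.le_succ j)), h, zero_comp]
    rw [h1, comp_zero]
  uniq _ _ _ := hc.eq_of_src _ _

end ZeroSeq

variable [HasColimitsOfShape ℕ A] [HasExactColimitsOfShape ℕ A]

section Homology

variable {D : ℕ ⥤ CochainComplex A ℤ} (c : Cocone D) (hc : IsColimit c) (n : ℤ)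

/-- the comparison map `colim H^n(D_j) ⟶ H^n(colim D_j)` -/
noncomputable def κ : colimit (D ⋙ homologyFunctor A (ComplexShape.up ℤ) n) ⟶ c.pt.homology n :=
  colimit.desc _ ((homologyFunctor A (ComplexShape.up ℤ) n).mapCocone c)

/-- the comparison map on cycles -/
noncomputable def ζ : colimit (D ⋙ cyclesFunctor A (ComplexShape.up ℤ) n) ⟶ c.pt.cycles n :=
  colimit.desc _ ((cyclesFunctor A (ComplexShape.up ℤ) n).mapCocone c)

include hc in
lemma epi_ζ : Epi (ζ c n) := by
  let S : ShortComplex (ℕ ⥤ A) := ShortComplex.mk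
    (X₁ := D ⋙ cyclesFunctor A (ComplexShape.up ℤ) n) (X₂ := D ⋙ eval A (ComplexShape.up ℤ) n)
    (X₃ := D ⋙ eval A (ComplexShape.up ℤ) (n + 1))
    { app := fun j => (D.obj j).iCycles n
      naturality := fun j j' f => (cyclesMap_i (D.map f) n) }
    { app := fun j => (D.obj j).d n (n + 1)
      naturality := fun j j' f => ((D.map f).comm n (n + 1)) }
    (by ext j; exact (D.obj j).iCycles_d n (n + 1))
  have hS : S.Exact := exact_of_evaluation S (fun j =>
    ShortComplex.exact_of_f_is_kernel _ ((D.obj j).cyclesIsKernel n (n + 1) (by simp)))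
  have hex := colim.exact_mapShortComplex (S := S) hS
    (colimit.isColimit (D ⋙ cyclesFunctor A (ComplexShape.up ℤ) n))
    (isColimitOfPreserves (eval A (ComplexShape.up ℤ) n) hc)
    (isColimitOfPreserves (eval A (ComplexShape.up ℤ) (n + 1)) hc)
    (ζ c n ≫ c.pt.iCycles n) (c.pt.d n (n + 1))
    (fun j => by
      show colimit.ι _ j ≫ ζ c n ≫ c.pt.iCycles n = (D.obj j).iCycles n ≫ (c.ι.app j).f n
      rw [← Category.assoc]
      have : colimit.ι (D ⋙ cyclesFunctor A (ComplexShape.up ℤ) n) j ≫ ζ c n =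
          cyclesMap (c.ι.app j) n := colimit.ι_desc _ _
      rw [this]
      exact cyclesMap_i (c.ι.app j) n)
    (fun j => (c.ι.app j).comm n (n + 1))
  have h2 := (ShortComplex.exact_iff_epi_kernel_lift _).1 hex
  let e : kernel (c.pt.d n (n + 1)) ≅ c.pt.cycles n :=
    IsLimit.conePointUniqueUpToIso (kernelIsKernel _) (c.pt.cyclesIsKernel n (n + 1) (by simp))
  have h3 : ζ c n = kernel.lift (c.pt.d n (n + 1)) (ζ c n ≫ c.pt.iCycles n)
      (by rw [Category.assoc, iCycles_d, comp_zero]) ≫ e.hom := by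
    rw [← cancel_mono (c.pt.iCycles n), Category.assoc]
    have : e.hom ≫ c.pt.iCycles n = kernel.ι _ :=
      IsLimit.conePointUniqueUpToIso_hom_comp (kernelIsKernel _)
        (c.pt.cyclesIsKernel n (n + 1) (by simp)) WalkingParallelPair.zero
    rw [this, kernel.lift_ι]
  rw [h3]
  haveI h2' : Epi (kernel.lift (c.pt.d n (n + 1)) (ζ c n ≫ c.pt.iCycles n)
      (by rw [Category.assoc, iCycles_d, comp_zero])) := h2
  exact epi_comp _ _

include hc in
lemma epi_κ : Epi (κ c n) := by
  haveI := epi_ζ c hc n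
  have h : ζ c n ≫ c.pt.homologyπ n =
      colimMap (Functor.whiskerLeft D (natTransHomologyπ A (ComplexShape.up ℤ) n)) ≫ κ c n := by
    apply colimit.hom_ext
    intro j
    have h1 : colimit.ι (D ⋙ cyclesFunctor A (ComplexShape.up ℤ) n) j ≫ ζ c n =
        cyclesMap (c.ι.app j) n := colimit.ι_desc _ _
    have h2 : colimit.ι (D ⋙ homologyFunctor A (ComplexShape.up ℤ) n) j ≫ κ c n =
        homologyMap (c.ι.app j) n := colimit.ι_desc _ _
    rw [← Category.assoc, h1, ← Category.assoc, ι_colimMap, Category.assoc, h2]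
    exact (homologyπ_naturality (c.ι.app j) n).symm
  have : Epi (colimMap (Functor.whiskerLeft D (natTransHomologyπ A (ComplexShape.up ℤ) n)) ≫
      κ c n) := by
    rw [← h]
    exact epi_comp _ _
  exact epi_of_epi (colimMap (Functor.whiskerLeft D (natTransHomologyπ A (ComplexShape.up ℤ) n))) _

end Homology

section Main

variable {D : ℕ ⥤ CochainComplex A ℤ} (c : Cocone D) (hc : IsColimit c) (s : Cocone D)

include hc in
/-- if the kernel of `H^n(D_i) ⟶ H^n(G)` dies in `H^n(D_{i+1})` for all `i`, then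
`H^n(colim D_i) ⟶ H^n(G)` is a monomorphism -/
theorem mono_homologyMap_desc (n : ℤ)
    (hK : ∀ i : ℕ, kernel.ι (homologyMap (s.ι.app i) n) ≫
      homologyMap (D.map (homOfLE (Nat.le_succ i))) n = 0) :
    Mono (homologyMap (hc.desc s) n) := by
  let leg : ∀ j : ℕ, D.obj j ⟶ c.pt := fun j => c.ι.app j
  let sleg : ∀ j : ℕ, D.obj j ⟶ s.pt := fun j => s.ι.app j
  have hfac : ∀ j, leg j ≫ hc.desc s = sleg j := fun j => hc.fac s j
  have hsw : ∀ i : ℕ, D.map (homOfLE (Nat.le_succ i)) ≫ sleg (i + 1) = sleg i :=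
    fun i => s.w (homOfLE (Nat.le_succ i))
  have hK' : ∀ i : ℕ, kernel.ι (homologyMap (sleg i) n) ≫
      homologyMap (D.map (homOfLE (Nat.le_succ i))) n = 0 := hK
  let hnat : D ⋙ homologyFunctor A (ComplexShape.up ℤ) n ⟶
      (Functor.const ℕ).obj (s.pt.homology n) :=
    { app := fun i => homologyMap (sleg i) n
      naturality := fun i j f => by
        show homologyMap (D.map f) n ≫ homologyMap (sleg j) n = homologyMap (sleg i) n ≫ 𝟙 _
        rw [Category.comp_id, ← homologyMap_comp]
        congr 1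
        exact s.w f }
  let S : ShortComplex (ℕ ⥤ A) := ShortComplex.mk (kernel.ι hnat) hnat (kernel.condition hnat)
  have hS : S.Exact := ShortComplex.exact_kernel hnat
  -- the legs of the kernel die in the next stage
  let ki : ∀ i : ℕ, (kernel hnat).obj i ⟶ (D.obj i).homology n := fun i => (kernel.ι hnat).app i
  have hdie : ∀ i : ℕ, ki i ≫ homologyMap (D.map (homOfLE (Nat.le_succ i))) n = 0 := by
    intro i
    have h0 : ki i ≫ homologyMap (sleg i) n = 0 := by
      have := congrArg (fun t => t.app i) (kernel.condition hnat)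
      exact this
    have h1 : ki i = kernel.lift (homologyMap (sleg i) n) (ki i) h0 ≫
          kernel.ι (homologyMap (sleg i) n) := (kernel.lift_ι _ _ _).symm
    rw [h1, Category.assoc, hK' i, comp_zero]
  have hzero : ∀ i : ℕ, (kernel hnat).map (homOfLE (Nat.le_succ i)) = 0 := by
    intro i
    haveI : Mono (ki (i + 1)) := by
      haveI : Mono (kernel.ι hnat) := inferInstance
      exact (NatTrans.mono_iff_mono_app (kernel.ι hnat)).1 inferInstance (i + 1)
    have hnatur : (kernel hnat).map (homOfLE (Nat.le_succ i)) ≫ ki (i + 1) =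
        ki i ≫ homologyMap (D.map (homOfLE (Nat.le_succ i))) n :=
      (kernel.ι hnat).naturality (homOfLE (Nat.le_succ i))
    rw [← cancel_mono (ki (i + 1)), zero_comp, hnatur]
    exact hdie i
  let c₁ : Cocone (kernel hnat) := ⟨0, 0⟩
  have hc₁ : IsColimit c₁ := isColimitZeroCocone _ hzero c₁ (isZero_zero A)
  have hc₃ : IsColimit (constCocone ℕ (s.pt.homology n)) := isColimitConstCocone ℕ _
  let g : colimit (D ⋙ homologyFunctor A (ComplexShape.up ℤ) n) ⟶ s.pt.homology n :=
    colimit.desc (D ⋙ homologyFunctor A (ComplexShape.up ℤ) n) ⟨s.pt.homology n, hnat⟩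
  let cι : ∀ j : ℕ, (D.obj j).homology n ⟶
      colimit (D ⋙ homologyFunctor A (ComplexShape.up ℤ) n) :=
    fun j => colimit.ι (D ⋙ homologyFunctor A (ComplexShape.up ℤ) n) j
  have hιg : ∀ j, cι j ≫ g = homologyMap (sleg j) n := fun j => colimit.ι_desc _ _
  have hex := colim.exact_mapShortComplex (S := S) hS hc₁
    (colimit.isColimit (D ⋙ homologyFunctor A (ComplexShape.up ℤ) n)) hc₃
    (0 : c₁.pt ⟶ colimit (D ⋙ homologyFunctor A (ComplexShape.up ℤ) n)) g
    (fun j => by
      have hw : homologyMap (D.map (homOfLE (Nat.le_succ j))) n ≫ cι (j + 1) = cι j :=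
        colimit.w (D ⋙ homologyFunctor A (ComplexShape.up ℤ) n) (homOfLE (Nat.le_succ j))
      show (0 : (kernel hnat).obj j ⟶ (0 : A)) ≫ 0 = ki j ≫ cι j
      rw [comp_zero, ← hw, ← Category.assoc, hdie j, zero_comp])
    (fun j => by
      show cι j ≫ g = homologyMap (sleg j) n ≫ 𝟙 _
      rw [Category.comp_id]
      exact hιg j)
  have hg : Mono g := (ShortComplex.exact_iff_mono _ rfl).1 hex
  -- compare with the homology of the colimit
  have hικ : ∀ j, cι j ≫ κ c n = homologyMap (leg j) n := fun j => colimit.ι_desc _ _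
  have hκ : κ c n ≫ homologyMap (hc.desc s) n = g := by
    apply colimit.hom_ext
    intro j
    show cι j ≫ κ c n ≫ homologyMap (hc.desc s) n = cι j ≫ g
    rw [← Category.assoc, hικ, ← homologyMap_comp, hfac, hιg]
  haveI := epi_κ c hc n
  haveI : Mono (κ c n ≫ homologyMap (hc.desc s) n) := by rw [hκ]; exact hg
  haveI : Mono (κ c n) := mono_of_mono (κ c n) (homologyMap (hc.desc s) n)
  haveI : IsIso (κ c n) := isIso_of_mono_of_epi _
  have hfin : homologyMap (hc.desc s) n = inv (κ c n) ≫ g := by
    rw [IsIso.eq_inv_comp]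
    exact hκ
  rw [hfin]
  haveI := hg
  exact mono_comp _ _

include hc in
/-- the criterion -/
theorem quasiIso_desc
    (hE : ∀ n : ℤ, Epi (homologyMap (s.ι.app 0) n))
    (hK : ∀ (i : ℕ) (n : ℤ), kernel.ι (homologyMap (s.ι.app i) n) ≫
      homologyMap (D.map (homOfLE (Nat.le_succ i))) n = 0) :
    QuasiIso (hc.desc s) := by
  rw [quasiIso_iff]
  intro n
  rw [quasiIsoAt_iff_isIso_homologyMap]
  haveI := mono_homologyMap_desc c hc s n (fun i => hK i n)
  haveI : Epi (homologyMap (hc.desc s) n) := by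
    have h1 : homologyMap (c.ι.app 0) n ≫ homologyMap (hc.desc s) n =
        homologyMap (s.ι.app 0) n := by
      rw [← homologyMap_comp, hc.fac]
    haveI : Epi (homologyMap (c.ι.app 0) n ≫ homologyMap (hc.desc s) n) := by
      rw [h1]; exact hE n
    exact epi_of_epi (homologyMap (c.ι.app 0) n) _
  exact isIso_of_mono_of_epi _

end Main

end Groth.Agent.Helper9.KFlat13
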