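import Mathlib
import Groth.Prelude.Def_KFlatSite
import Groth.Agent.Helper9.KFlat12
import Groth.Agent.Helper9.TensorFree

/-!
# K-flat covers: every complex receives a map from a K-flat complex with flat terms which is
an epimorphism on cycles (hence on cohomology)
-/

set_option autoImplicit false
set_option linter.style.haveILetI false
set_option linter.unusedSectionVars false

namespace Groth.Agent.Helper9.KFlat14

open CategoryTheory Limits HomologicalComplex CochainComplex Groth.Agent.Helper9.KFlat1
  Groth.Agent.Helper9.KFlat2 Groth.Agent.Helper9.KFlat3 Groth.Agent.Helper9.KFlat4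
  Groth.Agent.Helper9.KFlat5 Groth.Agent.Helper9.KFlat8 Groth.Agent.Helper9.KFlat9
  Groth.Agent.Helper9.KFlat10 Groth.Agent.Helper9.KFlat12

universe w' w v u

section Generic

variable {A : Type u} [Category.{v} A] [Abelian A]

/-- if all summands but one are zero, the inclusion of the remaining summand is an isomorphism -/
lemma isIso_ι_of_isZero {ι : Type w} [DecidableEq ι] {K : Discrete ι ⥤ A} (c : Cocone K)
    (hc : IsColimit c) (i₀ : ι) (h : ∀ i, i ≠ i₀ → IsZero (K.obj ⟨i⟩)) :
    IsIso (c.ι.app ⟨i₀⟩) := by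
  let s : Cocone K :=
    { pt := K.obj ⟨i₀⟩
      ι := Discrete.natTrans (fun ⟨i⟩ =>
        if hi : i = i₀ then eqToHom (by subst hi; rfl) else 0) }
  have hs : s.ι.app ⟨i₀⟩ = 𝟙 _ := by
    show (if hi : i₀ = i₀ then eqToHom (by rw [hi]) else 0) = 𝟙 (K.obj ⟨i₀⟩)
    rw [dif_pos rfl, eqToHom_refl]
  refine ⟨⟨hc.desc s, ?_, ?_⟩⟩
  · rw [hc.fac, hs]
  · refine hc.hom_ext (fun ⟨i⟩ => ?_)
    by_cases hi : i = i₀
    · subst hi
      rw [← Category.assoc, hc.fac, hs, Category.id_comp]
      exact (Category.comp_id _).symm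
    · exact (h i hi).eq_of_src _ _

section Acyclic

variable {J : Type w} [Category.{w'} J] [HasColimitsOfShape J A] [HasExactColimitsOfShape J A]

/-- a colimit of acyclic complexes over a shape with exact colimits is acyclic -/
theorem acyclic_of_isColimit' {D : J ⥤ CochainComplex A ℤ} (c : Cocone D) (hc : IsColimit c)
    (h : ∀ j, (D.obj j).Acyclic) : c.pt.Acyclic := by
  intro n
  rw [HomologicalComplex.exactAt_iff' _ (n - 1) n (n + 1) (by simp) (by simp)]
  let S : ShortComplex (J ⥤ A) := ShortComplex.mk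
    (X₁ := D ⋙ eval A (ComplexShape.up ℤ) (n - 1)) (X₂ := D ⋙ eval A (ComplexShape.up ℤ) n)
    (X₃ := D ⋙ eval A (ComplexShape.up ℤ) (n + 1))
    { app := fun j => (D.obj j).d (n - 1) n
      naturality := fun j j' f => ((D.map f).comm (n - 1) n) }
    { app := fun j => (D.obj j).d n (n + 1)
      naturality := fun j j' f => ((D.map f).comm n (n + 1)) }
    (by ext j; exact (D.obj j).d_comp_d _ _ _)
  have hS : S.Exact := exact_of_evaluation S (fun j =>
    (HomologicalComplex.exactAt_iff' _ (n - 1) n (n + 1) (by simp) (by simp)).1 (h j n))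
  exact colim.exact_mapShortComplex (S := S) hS
    (isColimitOfPreserves (eval A (ComplexShape.up ℤ) (n - 1)) hc)
    (isColimitOfPreserves (eval A (ComplexShape.up ℤ) n) hc)
    (isColimitOfPreserves (eval A (ComplexShape.up ℤ) (n + 1)) hc)
    (c.pt.d (n - 1) n) (c.pt.d n (n + 1))
    (fun j => (c.ι.app j).comm (n - 1) n) (fun j => (c.ι.app j).comm n (n + 1))

end Acyclic

section Single

variable (C : CochainComplex A ℤ) (m : ℤ) {E : A} (e : E ⟶ C.cycles m)

/-- the map from a single object complex given by a map to the cycles -/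
noncomputable def σ : (single A (ComplexShape.up ℤ) m).obj E ⟶ C :=
  mkHomFromSingle (e ≫ C.iCycles m) (fun k _ => by rw [Category.assoc, iCycles_d, comp_zero])

lemma epi_cyclesMap_σ [Epi e] : Epi (cyclesMap (σ C m e) m) := by
  haveI : IsIso (((single A (ComplexShape.up ℤ) m).obj E).iCycles m) :=
    isIso_iCycles _ m (m + 1) (by simp) (by simp)
  have h : cyclesMap (σ C m e) m = (((single A (ComplexShape.up ℤ) m).obj E).iCycles m ≫
      (singleObjXSelf (ComplexShape.up ℤ) m E).hom) ≫ e := by
    rw [← cancel_mono (C.iCycles m), cyclesMap_i, σ, mkHomFromSingle_f]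
    simp only [Category.assoc]
  rw [h]
  infer_instance

lemma epi_homologyMap_σ [Epi e] : Epi (homologyMap (σ C m e) m) := by
  haveI := epi_cyclesMap_σ C m e
  have h := homologyπ_naturality (σ C m e) m
  haveI : Epi (((single A (ComplexShape.up ℤ) m).obj E).homologyπ m ≫
      homologyMap (σ C m e) m) := by
    rw [h]
    infer_instance
  exact epi_of_epi (((single A (ComplexShape.up ℤ) m).obj E).homologyπ m) _

end Single

end Generic

section Site

variable {C : Type u} [SmallCategory C] {J : GrothendieckTopology C} {O : Sheaf J CommRingCat.{u}}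

/-- a coproduct (indexed by a type in universe `0`) of K-flat complexes is K-flat -/
theorem isKFlat_of_isColimit_discrete {ι : Type} {D : Discrete ι ⥤ CochainComplex (ModSite.Mod O) ℤ}
    (c : Cocone D) (hc : IsColimit c) (h : ∀ j, ModSite.IsKFlat (D.obj j)) :
    ModSite.IsKFlat c.pt := by
  rw [isKFlat_iff]
  intro L hL
  exact acyclic_of_isColimit' (((ModSite.tensorBi O).map₂CochainComplex.obj L).mapCocone c)
    (isColimitOfPreserves ((ModSite.tensorBi O).map₂CochainComplex.obj L) hc)
    (fun j => (isKFlat_iff _).1 (h j) L hL)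

section SigmaSingle

variable (E : ℤ → ModSite.Mod O)

/-- the family of single complexes -/
noncomputable abbrev fam : ℤ → CochainComplex (ModSite.Mod O) ℤ :=
  fun n => (single (ModSite.Mod O) (ComplexShape.up ℤ) n).obj (E n)

/-- the complex with zero differential and terms `E n`, as a coproduct of single complexes -/
noncomputable def sigmaSingle : CochainComplex (ModSite.Mod O) ℤ := ∐ (fam E)

/-- the inclusion of a summand -/
noncomputable def ιSingle (n : ℤ) : fam E n ⟶ sigmaSingle E := Sigma.ι (fam E) n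

lemma isIso_ιSingle_f (m : ℤ) : IsIso ((ιSingle E m).f m) := by
  have hc := isColimitOfPreserves (eval (ModSite.Mod O) (ComplexShape.up ℤ) m)
    (colimit.isColimit (Discrete.functor (fam E)))
  exact isIso_ι_of_isZero _ hc m (fun i hi =>
    isZero_single_obj_X (ComplexShape.up ℤ) i (E i) m (Ne.symm hi))

/-- the terms of `sigmaSingle E` -/
noncomputable def xIso (m : ℤ) : E m ≅ (sigmaSingle E).X m :=
  haveI := isIso_ιSingle_f E m
  (singleObjXSelf (ComplexShape.up ℤ) m (E m)).symm ≪≫ asIso ((ιSingle E m).f m)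

lemma xIso_hom (m : ℤ) : (xIso E m).hom =
    (singleObjXSelf (ComplexShape.up ℤ) m (E m)).inv ≫ (ιSingle E m).f m := rfl

variable {E}

lemma isFlat_sigmaSingle_X (hE : ∀ n, ModSite.IsFlat (E n)) (m : ℤ) :
    ModSite.IsFlat ((sigmaSingle E).X m) :=
  isFlat_of_iso (xIso E m) (hE m)

lemma isKFlat_sigmaSingle (hE : ∀ n, ModSite.IsFlat (E n)) : ModSite.IsKFlat (sigmaSingle E) := by
  refine isKFlat_of_isColimit_discrete (colimit.cocone (Discrete.functor (fam E)))
    (colimit.isColimit _) (fun ⟨n⟩ => ?_)
  show ModSite.IsKFlat (O := O) ((single (ModSite.Mod O) (ComplexShape.up ℤ) n).obj (E n))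
  refine isKFlat_of_concentrated _ n (fun k => ?_)
  by_cases hk : k = n
  · subst hk
    exact isFlat_of_iso (singleObjXSelf (ComplexShape.up ℤ) k (E k)).symm (hE k)
  · exact Groth.Agent.Helper9.FlatCx.isFlat_of_isZero _
      (isZero_single_obj_X (ComplexShape.up ℤ) n (E n) k hk)

end SigmaSingle

variable (G : CochainComplex (ModSite.Mod O) ℤ)

/-- the K-flat cover of a complex -/
theorem exists_cover : ∃ (R : CochainComplex (ModSite.Mod O) ℤ) (θ : R ⟶ G),
    ModSite.IsKFlat R ∧ (∀ n, ModSite.IsFlat (R.X n)) ∧ (∀ n, Epi (cyclesMap θ n)) ∧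
      ∀ n, Epi (homologyMap θ n) := by
  have hE : ∀ n : ℤ, ∃ (E : ModSite.Mod O) (e : E ⟶ G.cycles n), ModSite.IsFlat E ∧ Epi e :=
    fun n => Groth.Agent.Helper9.TensorFree.exists_epi_of_isFlat (G.cycles n)
  choose E e hE he using hE
  let θ : sigmaSingle E ⟶ G := Sigma.desc (fun n => σ G n (e n))
  have hθ : ∀ n, ιSingle E n ≫ θ = σ G n (e n) := fun n => Sigma.ι_desc _ _
  refine ⟨sigmaSingle E, θ, isKFlat_sigmaSingle hE, isFlat_sigmaSingle_X hE, ?_, ?_⟩
  · intro n
    haveI := he n
    haveI := epi_cyclesMap_σ G n (e n)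
    have h1 : cyclesMap (ιSingle E n) n ≫ cyclesMap θ n = cyclesMap (σ G n (e n)) n := by
      rw [← cyclesMap_comp, hθ]
    haveI : Epi (cyclesMap (ιSingle E n) n ≫ cyclesMap θ n) := by rw [h1]; infer_instance
    exact epi_of_epi (cyclesMap (ιSingle E n) n) _
  · intro n
    haveI := he n
    haveI := epi_homologyMap_σ G n (e n)
    have h1 : homologyMap (ιSingle E n) n ≫ homologyMap θ n = homologyMap (σ G n (e n)) n := by
      rw [← homologyMap_comp, hθ]
    haveI : Epi (homologyMap (ιSingle E n) n ≫ homologyMap θ n) := by rw [h1]; infer_instance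
    exact epi_of_epi (homologyMap (ιSingle E n) n) _

end Site

end Groth.Agent.Helper9.KFlat14
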