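import Mathlib

/-!
# Attaching a cell: given `q : P ⟶ G` and `θ : R ⟶ cocone(q)` which is an epimorphism on
cohomology, the complex `P' = cone(R ⟶ cocone(q) ⟶ P)` maps to `G` and the kernel of
`H(P) ⟶ H(G)` dies in `H(P')`.
-/

set_option autoImplicit false
set_option linter.style.haveILetI false
set_option linter.unusedSectionVars false

namespace Groth.Agent.Helper9.KFlat15

open CategoryTheory Limits HomologicalComplex CochainComplex HomComplex

attribute [local instance] HasDerivedCategory.standard

universe v u

variable {A : Type u} [Category.{v} A] [Abelian A] {P G : CochainComplex A ℤ} (q : P ⟶ G)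

lemma δ_snd : δ (-1) 0 (mappingCocone.snd q) = -Cochain.ofHom (mappingCocone.fst q ≫ q) := by
  dsimp [mappingCocone.snd, mappingCocone.fst, mappingCocone]
  rw [Cochain.δ_leftShift _ (-1) (-1) 0 (zero_add _) 1 (by simp), mappingCone.δ_snd,
    Cochain.leftShift_neg, Cochain.leftShift_comp_zero_cochain]
  simp [Cochain.ofHom_comp]
  exact (neg_neg _).symm

lemma homologyMap_fst_comp (n : ℤ) :
    homologyMap (mappingCocone.fst q) n ≫ homologyMap q n = 0 :=
  CochainComplex.homologyMap_comp_eq_zero_of_distTriang (mappingCocone.triangle q)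
    (DerivedCategory.mappingCocone_triangle_distinguished q) n

lemma exact_cocone (n : ℤ) :
    (ShortComplex.mk (homologyMap (mappingCocone.fst q) n) (homologyMap q n)
      (homologyMap_fst_comp q n)).Exact :=
  CochainComplex.homologyMap_exact₂_of_distTriang (mappingCocone.triangle q)
    (DerivedCategory.mappingCocone_triangle_distinguished q) n

variable {R : CochainComplex A ℤ} (θ : R ⟶ mappingCocone q)

/-- the attaching map -/
noncomputable def ψ : R ⟶ P := θ ≫ mappingCocone.fst q

/-- the null-homotopy cochain -/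
noncomputable def α : Cochain R G (-1) :=
  -(Cochain.ofHom θ).comp (mappingCocone.snd q) (zero_add (-1))

lemma δ_α : δ (-1) 0 (α q θ) = Cochain.ofHom (ψ q θ ≫ q) := by
  unfold α ψ
  rw [δ_neg, δ_ofHom_comp, δ_snd, Cochain.comp_neg, neg_neg, ← Cochain.ofHom_comp,
    Category.assoc]

/-- the new complex -/
noncomputable def P' : CochainComplex A ℤ := mappingCone (ψ q θ)

/-- the inclusion of the old complex -/
noncomputable def ι : P ⟶ P' q θ := mappingCone.inr (ψ q θ)

/-- the new map -/
noncomputable def q' : P' q θ ⟶ G := mappingCone.desc (ψ q θ) (α q θ) q (δ_α q θ)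

@[reassoc (attr := simp)]
lemma ι_q' : ι q θ ≫ q' q θ = q := mappingCone.inr_desc _ _ _ _

lemma homologyMap_ψ_ι (n : ℤ) : homologyMap (ψ q θ ≫ ι q θ) n = 0 := by
  have h : Homotopy (ψ q θ ≫ ι q θ) 0 :=
    homotopyCofiber.inrCompHomotopy (ψ q θ) (fun j => ⟨j - 1, by simp⟩)
  rw [h.homologyMap_eq n, homologyMap_zero]

/-- the kernel of `H^n(P) ⟶ H^n(G)` dies in `H^n(P')` -/
theorem kill (n : ℤ) [Epi (homologyMap θ n)] :
    kernel.ι (homologyMap q n) ≫ homologyMap (ι q θ) n = 0 := by
  haveI : Epi (kernel.lift (homologyMap q n) (homologyMap (mappingCocone.fst q) n)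
      (homologyMap_fst_comp q n)) :=
    (ShortComplex.exact_iff_epi_kernel_lift _).1 (exact_cocone q n)
  rw [← cancel_epi (kernel.lift (homologyMap q n) (homologyMap (mappingCocone.fst q) n)
      (homologyMap_fst_comp q n)), comp_zero, ← Category.assoc, kernel.lift_ι,
    ← cancel_epi (homologyMap θ n), comp_zero, ← homologyMap_comp, ← homologyMap_comp,
    ← Category.assoc]
  exact homologyMap_ψ_ι q θ n

end Groth.Agent.Helper9.KFlat15
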