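import Mathlib
import Groth.Prelude.Def_KFlatSite
import Groth.Agent.Helper9.KFlat13
import Groth.Agent.Helper9.KFlat14
import Groth.Agent.Helper9.KFlat15
import Groth.Agent.Helper9.TensorSES

/-!
# K-flat resolutions on a ringed site: the stages of the construction
-/

set_option autoImplicit false
set_option linter.style.haveILetI false
set_option linter.unusedSectionVars false

namespace Groth.Agent.Helper9.KFlat16

open CategoryTheory Limits HomologicalComplex CochainComplex HomComplex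
  Groth.Agent.Helper9.KFlat1
  Groth.Agent.Helper9.KFlat2 Groth.Agent.Helper9.KFlat3 Groth.Agent.Helper9.KFlat4
  Groth.Agent.Helper9.KFlat5 Groth.Agent.Helper9.KFlat6 Groth.Agent.Helper9.KFlat8
  Groth.Agent.Helper9.KFlat9
  Groth.Agent.Helper9.KFlat10 Groth.Agent.Helper9.KFlat12 Groth.Agent.Helper9.KFlat14

universe u

variable {C : Type u} [SmallCategory C] {J : GrothendieckTopology C} {O : Sheaf J CommRingCat.{u}}

/-- terms of a mapping cone of complexes with flat terms are flat -/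
lemma isFlat_mappingCone_X {K L : CochainComplex (ModSite.Mod O) ℤ} (φ : K ⟶ L)
    (hK : ∀ n, ModSite.IsFlat (K.X n)) (hL : ∀ n, ModSite.IsFlat (L.X n)) (n : ℤ) :
    ModSite.IsFlat (O := O) ((mappingCone φ).X n) := by
  let S : ShortComplex (ModSite.Mod O) :=
    (mappingCone.triangleRotateShortComplex φ).map (eval (ModSite.Mod O) (ComplexShape.up ℤ) n)
  have hS : S.ShortExact := (mappingCone.triangleRotateShortComplexSplitting φ n).shortExact
  have h1 : ModSite.IsFlat (O := O) S.X₁ := hL n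
  have h3 : ModSite.IsFlat (O := O) S.X₃ := hK (n + 1)
  exact Groth.Agent.Helper9.TensorSES.isFlat_X₂ S hS h1 h3

variable {P G : CochainComplex (ModSite.Mod O) ℤ} (q : P ⟶ G)

/-- one stage of the construction: kill the kernel on cohomology -/
theorem stage : ∃ (P' : CochainComplex (ModSite.Mod O) ℤ) (ι : P ⟶ P') (q' : P' ⟶ G),
    ι ≫ q' = q ∧ (ModSite.IsKFlat P → ModSite.IsKFlat P') ∧
    ((∀ n, ModSite.IsFlat (P.X n)) → ∀ n, ModSite.IsFlat (P'.X n)) ∧
    ∀ n, kernel.ι (homologyMap q n) ≫ homologyMap ι n = 0 := by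
  obtain ⟨R, θ, hR, hRf, _, hθ⟩ := exists_cover (mappingCocone q)
  refine ⟨KFlat15.P' q θ, KFlat15.ι q θ, KFlat15.q' q θ, KFlat15.ι_q' q θ, ?_, ?_, ?_⟩
  · intro hP
    exact (isKFlat_cone (KFlat15.ψ q θ)).1 hR hP
  · intro hP n
    exact isFlat_mappingCone_X (KFlat15.ψ q θ) hRf hP n
  · intro n
    haveI := hθ n
    exact KFlat15.kill q θ n

/-- the initial stage: make the map an epimorphism on cohomology -/
theorem stage0 : ∃ (P' : CochainComplex (ModSite.Mod O) ℤ) (ι : P ⟶ P') (q' : P' ⟶ G),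
    ι ≫ q' = q ∧ (ModSite.IsKFlat P → ModSite.IsKFlat P') ∧
    ((∀ n, ModSite.IsFlat (P.X n)) → ∀ n, ModSite.IsFlat (P'.X n)) ∧
    ∀ n, Epi (homologyMap q' n) := by
  obtain ⟨R, θ, hR, hRf, _, hθ⟩ := exists_cover G
  let S : ShortComplex (CochainComplex (ModSite.Mod O) ℤ) :=
    ShortComplex.mk (biprod.inl : P ⟶ P ⊞ R) (biprod.snd : P ⊞ R ⟶ R) (by simp)
  let spl : S.Splitting := ShortComplex.Splitting.ofHasBinaryBiproduct P R
  have hS : S.ShortExact := spl.shortExact
  refine ⟨P ⊞ R, biprod.inl, biprod.desc q θ, biprod.inl_desc _ _, ?_, ?_, ?_⟩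
  · intro hP
    exact (isKFlat_shortExact S hS hRf).2.1 hP hR
  · intro hP n
    let Sn : ShortComplex (ModSite.Mod O) :=
      S.map (eval (ModSite.Mod O) (ComplexShape.up ℤ) n)
    have h : Sn.ShortExact := (spl.map (eval (ModSite.Mod O) (ComplexShape.up ℤ) n)).shortExact
    have h1 : ModSite.IsFlat (O := O) Sn.X₁ := hP n
    have h3 : ModSite.IsFlat (O := O) Sn.X₃ := hRf n
    exact Groth.Agent.Helper9.TensorSES.isFlat_X₂ Sn h h1 h3
  · intro n
    haveI := hθ n
    have h1 : homologyMap (biprod.inr : R ⟶ P ⊞ R) n ≫ homologyMap (biprod.desc q θ) n =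
        homologyMap θ n := by
      rw [← homologyMap_comp, biprod.inr_desc]
    haveI : Epi (homologyMap (biprod.inr : R ⟶ P ⊞ R) n ≫ homologyMap (biprod.desc q θ) n) := by
      rw [h1]; infer_instance
    exact epi_of_epi (homologyMap (biprod.inr : R ⟶ P ⊞ R) n) _

variable (G)

/-- a K-flat complex with flat terms mapping termwise epimorphically onto `G` -/
theorem exists_epi_gadget : ∃ (W : CochainComplex (ModSite.Mod O) ℤ) (w : W ⟶ G),
    ModSite.IsKFlat W ∧ (∀ n, ModSite.IsFlat (W.X n)) ∧ ∀ n, Epi (w.f n) := by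
  have hE : ∀ n : ℤ, ∃ (E : ModSite.Mod O) (e : E ⟶ G.X n), ModSite.IsFlat E ∧ Epi e :=
    fun n => Groth.Agent.Helper9.TensorFree.exists_epi_of_isFlat (G.X n)
  choose E e hE he using hE
  let Z := sigmaSingle E
  have hZ : ModSite.IsKFlat Z := isKFlat_sigmaSingle hE
  have hZf : ∀ n, ModSite.IsFlat (Z.X n) := isFlat_sigmaSingle_X hE
  let α : Cochain Z G 0 := Cochain.ofHoms (fun n => (xIso E n).inv ≫ e n)
  let β : Cocycle Z G 1 := Cocycle.mk (-(δ 0 1 α)) 2 (by simp) (by rw [δ_neg, δ_δ, neg_zero])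
  have hαβ : δ 0 1 α + (Cochain.ofHom (𝟙 Z)).comp β.1 (zero_add 1) = 0 := by
    show δ 0 1 α + (Cochain.ofHom (𝟙 Z)).comp (-(δ 0 1 α)) (zero_add 1) = 0
    rw [Cochain.id_comp, add_neg_cancel]
  let w : mappingCocone (𝟙 Z) ⟶ G := mappingCocone.desc (𝟙 Z) α β hαβ
  refine ⟨mappingCocone (𝟙 Z), w, ?_, ?_, ?_⟩
  · exact isKFlat_shift ((isKFlat_cone (𝟙 Z)).1 hZ hZ) (-1)
  · intro n
    exact isFlat_mappingCone_X (𝟙 Z) hZf hZf (n + -1)
  · intro n
    have h1 : (mappingCocone.inl (𝟙 Z)).v n n (add_zero n) ≫ w.f n = (xIso E n).inv ≫ e n := by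
      rw [mappingCocone.inl_v_desc_f]
      exact Cochain.ofHoms_v _ _
    haveI := he n
    haveI : Epi ((mappingCocone.inl (𝟙 Z)).v n n (add_zero n) ≫ w.f n) := by
      rw [h1]; infer_instance
    exact epi_of_epi ((mappingCocone.inl (𝟙 Z)).v n n (add_zero n)) _

end Groth.Agent.Helper9.KFlat16
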