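import Mathlib
import Groth.Prelude.Def_KFlatSite
import Groth.Agent.Helper9.KFlat16

/-!
# K-flat resolutions on a ringed site: the iteration
-/

set_option autoImplicit false
set_option linter.style.haveILetI false
set_option linter.unusedSectionVars false

namespace Groth.Agent.Helper9.KFlat17

open CategoryTheory Limits HomologicalComplex CochainComplex HomComplex
  Groth.Agent.Helper9.KFlat1
  Groth.Agent.Helper9.KFlat5 Groth.Agent.Helper9.KFlat8
  Groth.Agent.Helper9.KFlat10 Groth.Agent.Helper9.KFlat12 Groth.Agent.Helper9.KFlat14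
  Groth.Agent.Helper9.TensorFlat Groth.Agent.Helper9.TensorAdj

universe u

variable {C : Type u} [SmallCategory C] {J : GrothendieckTopology C} {O : Sheaf J CommRingCat.{u}}

section Colim

variable {I : Type} [SmallCategory I] [IsFiltered I]
  (D : I ⥤ ModSite.Mod O) (hD : ∀ i, ModSite.IsFlat (D.obj i)) (c : Cocone D) (hc : IsColimit c)

include hD hc in
/-- a filtered colimit (indexed in universe `0`) of flat modules is flat -/
theorem isFlat_of_isColimit₀ : ModSite.IsFlat c.pt := by
  apply isFlat_of_mono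
  intro M' M f hf
  have hM' : IsColimit ((TL M').mapCocone c) := isColimitOfPreserves (TL M') hc
  have hM : IsColimit ((TL M).mapCocone c) := isColimitOfPreserves (TL M) hc
  let α : D ⋙ TL M' ⟶ D ⋙ TL M := Functor.whiskerLeft D ((ModSite.tensorBi O).map f)
  haveI : ∀ i, Mono (α.app i) := fun i => mono_of_isFlat (D.obj i) (hD i) f
  haveI : Mono α := NatTrans.mono_of_mono_app α
  haveI : Mono (colim.map α) := inferInstance
  let e' := (colimit.isColimit (D ⋙ TL M')).coconePointUniqueUpToIso hM'
  let e := (colimit.isColimit (D ⋙ TL M)).coconePointUniqueUpToIso hM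
  have key : (TN c.pt).map f = e'.inv ≫ colim.map α ≫ e.hom := by
    rw [Iso.eq_inv_comp]
    apply colimit.hom_ext
    intro i
    have h1 : colimit.ι (D ⋙ TL M') i ≫ e'.hom = (TL M').map (c.ι.app i) :=
      IsColimit.comp_coconePointUniqueUpToIso_hom _ hM' i
    have h2 : colimit.ι (D ⋙ TL M) i ≫ e.hom = (TL M).map (c.ι.app i) :=
      IsColimit.comp_coconePointUniqueUpToIso_hom _ hM i
    have h3 : colimit.ι (D ⋙ TL M') i ≫ colim.map α = α.app i ≫ colimit.ι (D ⋙ TL M) i :=
      ι_colimMap α i
    rw [← Category.assoc, h1, ← Category.assoc, h3, Category.assoc, h2]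
    exact ((ModSite.tensorBi O).map f).naturality (c.ι.app i)
  rw [key]
  infer_instance

end Colim

/-- a filtered colimit of complexes with flat terms has flat terms -/
theorem isFlat_X_of_isColimit {I : Type} [SmallCategory I] [IsFiltered I]
    {D : I ⥤ CochainComplex (ModSite.Mod O) ℤ} (c : Cocone D) (hc : IsColimit c)
    (h : ∀ j n, ModSite.IsFlat ((D.obj j).X n)) (n : ℤ) : ModSite.IsFlat (c.pt.X n) := by
  let E : CochainComplex (ModSite.Mod O) ℤ ⥤ ModSite.Mod O :=
    eval (ModSite.Mod O) (ComplexShape.up ℤ) n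
  haveI : PreservesColimitsOfShape I E := by
    dsimp only [E]; infer_instance
  have hc' : IsColimit (E.mapCocone c) := isColimitOfPreserves E hc
  have hD : ∀ j, ModSite.IsFlat (O := O) ((D ⋙ E).obj j) := fun j => h j n
  exact isFlat_of_isColimit₀ (D ⋙ E) hD (E.mapCocone c) hc'

variable (G : CochainComplex (ModSite.Mod O) ℤ)

/-- a complex over `G` -/
structure Stg where
  /-- the complex -/
  P : CochainComplex (ModSite.Mod O) ℤ
  /-- the map -/
  q : P ⟶ G

variable {G}

/-- the next stage -/
noncomputable def next (s : Stg G) : Stg G :=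
  ⟨(KFlat16.stage s.q).choose, (KFlat16.stage s.q).choose_spec.choose_spec.choose⟩

/-- the transition map -/
noncomputable def nextι (s : Stg G) : s.P ⟶ (next s).P :=
  (KFlat16.stage s.q).choose_spec.choose

lemma nextι_q (s : Stg G) : nextι s ≫ (next s).q = s.q :=
  (KFlat16.stage s.q).choose_spec.choose_spec.choose_spec.1

lemma isKFlat_next (s : Stg G) (h : ModSite.IsKFlat s.P) : ModSite.IsKFlat (next s).P :=
  (KFlat16.stage s.q).choose_spec.choose_spec.choose_spec.2.1 h

lemma isFlat_next (s : Stg G) (h : ∀ n, ModSite.IsFlat (s.P.X n)) (n : ℤ) :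
    ModSite.IsFlat ((next s).P.X n) :=
  (KFlat16.stage s.q).choose_spec.choose_spec.choose_spec.2.2.1 h n

lemma kill_next (s : Stg G) (n : ℤ) :
    kernel.ι (homologyMap s.q n) ≫ homologyMap (nextι s) n = 0 :=
  (KFlat16.stage s.q).choose_spec.choose_spec.choose_spec.2.2.2 n

/-- the sequence of stages -/
noncomputable def seq (s : Stg G) : ℕ → Stg G
  | 0 => s
  | (n + 1) => next (seq s n)

/-- the diagram -/
noncomputable def diag (s : Stg G) : ℕ ⥤ CochainComplex (ModSite.Mod O) ℤ :=
  Functor.ofSequence (X := fun n => (seq s n).P) (fun n => nextι (seq s n))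

/-- the cocone over the diagram with point `G` -/
noncomputable def coconeG (s : Stg G) : Cocone (diag s) where
  pt := G
  ι := NatTrans.ofSequence (F := diag s) (G := (Functor.const ℕ).obj G)
    (fun n => (seq s n).q) (by
      intro n
      have h1 : (diag s).map (homOfLE (n.le_add_right 1)) = nextι (seq s n) :=
        Functor.ofSequence_map_homOfLE_succ _ n
      rw [h1]
      show nextι (seq s n) ≫ (next (seq s n)).q = (seq s n).q ≫ 𝟙 G
      rw [nextι_q, Category.comp_id])

lemma isKFlat_seq (s : Stg G) (h : ModSite.IsKFlat s.P) (n : ℕ) :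
    ModSite.IsKFlat (seq s n).P := by
  induction n with
  | zero => exact h
  | succ n ih => exact isKFlat_next _ ih

lemma isFlat_seq (s : Stg G) (h : ∀ n, ModSite.IsFlat (s.P.X n)) (i : ℕ) (n : ℤ) :
    ModSite.IsFlat ((seq s i).P.X n) := by
  induction i generalizing n with
  | zero => exact h n
  | succ i ih => exact isFlat_next _ ih n

/-- iterating the stages: every map `P₀ ⟶ G` factors through a quasi-isomorphism `P ⟶ G`,
with `P` K-flat (resp. with flat terms) if `P₀` is -/
theorem exists_resolution_of {P₀ G : CochainComplex (ModSite.Mod O) ℤ} (q₀ : P₀ ⟶ G) :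
    ∃ (P : CochainComplex (ModSite.Mod O) ℤ) (ι : P₀ ⟶ P) (q : P ⟶ G),
      ι ≫ q = q₀ ∧ QuasiIso q ∧ (ModSite.IsKFlat P₀ → ModSite.IsKFlat P) ∧
      ((∀ n, ModSite.IsFlat (P₀.X n)) → ∀ n, ModSite.IsFlat (P.X n)) := by
  obtain ⟨P₁, ι₁, q₁, h1, hkf1, hf1, hE⟩ := KFlat16.stage0 q₀
  let s : Stg G := ⟨P₁, q₁⟩
  let D := diag s
  let c : Cocone D := colimit.cocone D
  let hc : IsColimit c := colimit.isColimit D
  let t : Cocone D := coconeG s
  let i₀ : P₁ ⟶ c.pt := c.ι.app 0
  let d : c.pt ⟶ G := hc.desc t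
  have hi₀ : i₀ ≫ d = q₁ := hc.fac t 0
  refine ⟨c.pt, ι₁ ≫ i₀, d, ?_, ?_, ?_, ?_⟩
  · rw [Category.assoc, hi₀]
    exact h1
  · show QuasiIso (hc.desc t)
    apply KFlat13.quasiIso_desc c hc t
    · intro n
      exact hE n
    · intro i n
      have h2 : D.map (homOfLE (Nat.le_succ i)) = nextι (seq s i) :=
        Functor.ofSequence_map_homOfLE_succ _ i
      rw [h2]
      exact kill_next (seq s i) n
  · intro h0
    exact isKFlat_of_isColimit c hc (fun j => isKFlat_seq s (hkf1 h0) j)
  · intro h0 n
    exact isFlat_X_of_isColimit c hc (fun j n => isFlat_seq s (hf1 h0) j n) n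

end Groth.Agent.Helper9.KFlat17
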