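import Mathlib
import Groth.Prelude.Def_KFlatSite
import Groth.Agent.Helper9.KFlat17

/-!
# Symmetry of the tensor product of complexes on a ringed site; left K-flatness
-/

set_option autoImplicit false
set_option linter.style.haveILetI false
set_option linter.unusedSectionVars false

namespace Groth.Agent.Helper9.KFlat18

open CategoryTheory Limits HomologicalComplex CochainComplex
  Groth.Agent.Helper9.KFlat1 Groth.Agent.Helper9.KFlat3 Groth.Agent.Helper9.KFlat4
  Groth.Agent.Helper9.KFlat5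

section Generic

variable {C₁ C₂ D : Type*} [Category* C₁] [Category* C₂] [Category* D]
  {I₁ I₂ J : Type*} {c₁ : ComplexShape I₁} {c₂ : ComplexShape I₂}
  [HasZeroMorphisms C₁] [HasZeroMorphisms C₂] [Preadditive D]
  {F F' : C₁ ⥤ C₂ ⥤ D} [F.PreservesZeroMorphisms] [∀ X₁, (F.obj X₁).PreservesZeroMorphisms]
  [F'.PreservesZeroMorphisms] [∀ X₁, (F'.obj X₁).PreservesZeroMorphisms]

/-- the map of bicomplexes induced by a natural transformation of bifunctors -/
def bicomplexMap (τ : F ⟶ F') (K₁ : HomologicalComplex C₁ c₁) (K₂ : HomologicalComplex C₂ c₂) :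
    ((F.mapBifunctorHomologicalComplex c₁ c₂).obj K₁).obj K₂ ⟶
      ((F'.mapBifunctorHomologicalComplex c₁ c₂).obj K₁).obj K₂ :=
  HomologicalComplex₂.homMk (fun ⟨i₁, i₂⟩ => (τ.app (K₁.X i₁)).app (K₂.X i₂))
    (fun i₁ i₁' i₂ _ => by
      show (τ.app (K₁.X i₁)).app (K₂.X i₂) ≫ (F'.map (K₁.d i₁ i₁')).app (K₂.X i₂) =
        (F.map (K₁.d i₁ i₁')).app (K₂.X i₂) ≫ (τ.app (K₁.X i₁')).app (K₂.X i₂)
      rw [← NatTrans.comp_app, ← NatTrans.comp_app, τ.naturality])
    (fun i₁ i₂ i₂' _ => by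
      show (τ.app (K₁.X i₁)).app (K₂.X i₂) ≫ (F'.obj (K₁.X i₁)).map (K₂.d i₂ i₂') =
        (F.obj (K₁.X i₁)).map (K₂.d i₂ i₂') ≫ (τ.app (K₁.X i₁)).app (K₂.X i₂')
      rw [NatTrans.naturality])

lemma bicomplexMap_id (K₁ : HomologicalComplex C₁ c₁) (K₂ : HomologicalComplex C₂ c₂) :
    bicomplexMap (𝟙 F) K₁ K₂ = 𝟙 _ := by
  ext i₁ i₂
  rfl

lemma bicomplexMap_comp {F'' : C₁ ⥤ C₂ ⥤ D} [F''.PreservesZeroMorphisms]
    [∀ X₁, (F''.obj X₁).PreservesZeroMorphisms] (τ : F ⟶ F') (τ' : F' ⟶ F'')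
    (K₁ : HomologicalComplex C₁ c₁) (K₂ : HomologicalComplex C₂ c₂) :
    bicomplexMap (τ ≫ τ') K₁ K₂ = bicomplexMap τ K₁ K₂ ≫ bicomplexMap τ' K₁ K₂ := by
  ext i₁ i₂
  rfl

/-- the isomorphism of bicomplexes induced by a natural isomorphism of bifunctors -/
def bicomplexIso (e : F ≅ F') (K₁ : HomologicalComplex C₁ c₁) (K₂ : HomologicalComplex C₂ c₂) :
    ((F.mapBifunctorHomologicalComplex c₁ c₂).obj K₁).obj K₂ ≅
      ((F'.mapBifunctorHomologicalComplex c₁ c₂).obj K₁).obj K₂ where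
  hom := bicomplexMap e.hom K₁ K₂
  inv := bicomplexMap e.inv K₁ K₂
  hom_inv_id := by rw [← bicomplexMap_comp, e.hom_inv_id, bicomplexMap_id]
  inv_hom_id := by rw [← bicomplexMap_comp, e.inv_hom_id, bicomplexMap_id]

variable (c : ComplexShape J) [TotalComplexShape c₁ c₂ c] [DecidableEq J]

/-- the isomorphism of total complexes induced by a natural isomorphism of bifunctors -/
noncomputable def mapBifunctorNatIso (e : F ≅ F') (K₁ : HomologicalComplex C₁ c₁)
    (K₂ : HomologicalComplex C₂ c₂) [HasMapBifunctor K₁ K₂ F c] [HasMapBifunctor K₁ K₂ F' c] :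
    mapBifunctor K₁ K₂ F c ≅ mapBifunctor K₁ K₂ F' c :=
  HomologicalComplex₂.total.mapIso (bicomplexIso e K₁ K₂) c

end Generic

section Site

open MonoidalCategory Groth.Agent.Helper9.TensorLoc
  Groth.Agent.Helper9.TensorSh Groth.Agent.Helper9.TensorAdj Groth.Agent.Helper9.TensorFlat

universe u

variable {C : Type u} [SmallCategory C] {J : GrothendieckTopology C} (O : Sheaf J CommRingCat.{u})

/-- symmetry of the tensor product of sheaves of modules, as an isomorphism of bifunctors -/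
noncomputable def symBi : ModSite.tensorBi O ≅ (ModSite.tensorBi O).flip :=
  NatIso.ofComponents (fun M => symIso M) (by
    intro M M' f
    apply NatTrans.ext
    funext N
    show (a O).map ((ι O).map f ▷ (ι O).obj N) ≫ (a O).map (β_ _ _).hom =
      (a O).map (β_ _ _).hom ≫ (a O).map ((ι O).obj N ◁ (ι O).map f)
    rw [← Functor.map_comp, ← Functor.map_comp]
    exact congrArg (a O).map
      (BraidedCategory.braiding_naturality_left ((ι O).map f) ((ι O).obj N)))

variable {O}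

/-- symmetry of the tensor product of complexes -/
noncomputable def symCx (K₁ K₂ : CochainComplex (ModSite.Mod O) ℤ) :
    mapBifunctor K₁ K₂ (ModSite.tensorBi O) (ComplexShape.up ℤ) ≅
      mapBifunctor K₂ K₁ (ModSite.tensorBi O) (ComplexShape.up ℤ) :=
  mapBifunctorNatIso (ComplexShape.up ℤ) (symBi O) K₁ K₂ ≪≫
    mapBifunctorFlipIso K₂ K₁ (ModSite.tensorBi O) (ComplexShape.up ℤ)

/-- a K-flat complex is also K-flat in the first variable -/
theorem isKFlatL_of_isKFlat {K : CochainComplex (ModSite.Mod O) ℤ} (hK : ModSite.IsKFlat K) :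
    IsKFlatL (ModSite.tensorBi O) K := by
  intro L hL
  have h := (isKFlat_iff K).1 hK L hL
  rw [acyclic_iff_isZero_homology] at h ⊢
  intro n
  exact (h n).of_iso ((HomologicalComplex.homologyFunctor _ _ n).mapIso (symCx K L))

/-- K-flat resolutions exist (S9060) -/
theorem exists_kflat_resolution (G : CochainComplex (ModSite.Mod O) ℤ) :
    ∃ (K : CochainComplex (ModSite.Mod O) ℤ) (q : K ⟶ G), ModSite.IsKFlat K ∧
      (∀ n : ℤ, ModSite.IsFlat (K.X n)) ∧ QuasiIso q ∧ ∀ n : ℤ, Epi (q.f n) := by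
  obtain ⟨W, w, hW, hWf, hwe⟩ := Groth.Agent.Helper9.KFlat16.exists_epi_gadget G
  obtain ⟨P, ι, q, h1, hq, hkf, hf⟩ := Groth.Agent.Helper9.KFlat17.exists_resolution_of w
  refine ⟨P, q, hkf hW, hf hWf, hq, ?_⟩
  intro n
  haveI := hwe n
  haveI : Epi (ι.f n ≫ q.f n) := by
    rw [← HomologicalComplex.comp_f, h1]; infer_instance
  exact epi_of_epi (ι.f n) (q.f n)

/-- the target of a quasi-isomorphism with acyclic source is acyclic -/
lemma acyclic_of_quasiIso {A : Type*} [Category* A] [Abelian A] {X Y : CochainComplex A ℤ}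
    (f : X ⟶ Y) [QuasiIso f] (hX : X.Acyclic) : Y.Acyclic :=
  fun i => (quasiIsoAt_iff_exactAt f i (hX i)).1 inferInstance

/-- tensoring an acyclic K-flat complex with any complex gives an acyclic complex -/
theorem acyclic_mapBifunctor_of_isKFlat {K : CochainComplex (ModSite.Mod O) ℤ}
    (hK : ModSite.IsKFlat K) (hac : K.Acyclic) (F : CochainComplex (ModSite.Mod O) ℤ) :
    (mapBifunctor F K (ModSite.tensorBi O) (ComplexShape.up ℤ)).Acyclic := by
  obtain ⟨L, ρ, hL, _, hρ, _⟩ := exists_kflat_resolution F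
  haveI := hρ
  haveI : QuasiIso (mapBifunctorMap ρ (𝟙 K) (ModSite.tensorBi O) (ComplexShape.up ℤ)) :=
    quasiIso_of_isKFlat hK ρ
  exact acyclic_of_quasiIso (mapBifunctorMap ρ (𝟙 K) (ModSite.tensorBi O) (ComplexShape.up ℤ))
    (isKFlatL_of_isKFlat hL K hac)

/-- S9051: tensoring any complex with a quasi-isomorphism of K-flat complexes gives a
quasi-isomorphism -/
theorem quasiIso_map_of_isKFlat {P Q : CochainComplex (ModSite.Mod O) ℤ}
    (hP : ModSite.IsKFlat P) (hQ : ModSite.IsKFlat Q) (α : P ⟶ Q) [QuasiIso α]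
    (F : CochainComplex (ModSite.Mod O) ℤ) :
    QuasiIso (mapBifunctorMap (𝟙 F) α (ModSite.tensorBi O) (ComplexShape.up ℤ)) :=
  ((good_obj (ModSite.tensorBi O) F).quasiIso_map_iff α).2
    (acyclic_mapBifunctor_of_isKFlat ((isKFlat_cone α).1 hP hQ)
      ((quasiIso_iff_acyclic_mappingCone α).1 inferInstance) F)

end Site

end Groth.Agent.Helper9.KFlat18
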