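import Mathlib
import Groth.Prelude.Def_KFlatSite
import Groth.Agent.Helper9.KFlat18

/-!
# Cycles of an acyclic K-flat complex with flat terms are flat
-/

set_option autoImplicit false
set_option linter.style.haveILetI false
set_option linter.unusedSectionVars false

namespace Groth.Agent.Helper9.KFlat19

open CategoryTheory Limits HomologicalComplex CochainComplex
  Groth.Agent.Helper9.KFlat1 Groth.Agent.Helper9.KFlat3 Groth.Agent.Helper9.KFlat4
  Groth.Agent.Helper9.KFlat5 Groth.Agent.Helper9.KFlat7 Groth.Agent.Helper9.KFlat18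

section Generic

variable {A B : Type*} [Category* A] [Abelian A] [Category* B] [Abelian B]

/-- if `K` is exact in degree `n` and `T(K)` is exact in degree `n - 1`, then `T` maps the inclusion
of the `n`-cycles of `K` to a monomorphism -/
lemma mono_map_iCycles (T : A ⥤ B) [T.PreservesZeroMorphisms] [T.PreservesEpimorphisms]
    (K : CochainComplex A ℤ) (a b n : ℤ) (hbn : b + 1 = n) (hK : K.ExactAt n)
    (hT : (ShortComplex.mk (T.map (K.d a b)) (T.map (K.d b n))
      (by rw [← T.map_comp, K.d_comp_d, T.map_zero])).Exact) :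
    Mono (T.map (K.iCycles n)) := by
  haveI : Epi (K.toCycles b n) := by
    have h1 : (K.sc' b n (n + 1)).Exact :=
      (HomologicalComplex.exactAt_iff' K b n (n + 1) (by simp [← hbn]) (by simp)).1 hK
    let t : K.X b ⟶ (K.sc' b n (n + 1)).cycles := (K.sc' b n (n + 1)).toCycles
    haveI h3 : Epi t := h1.epi_toCycles
    have hb : (ComplexShape.up ℤ).prev n = b := by simp [← hbn]
    have hn : (ComplexShape.up ℤ).next n = n + 1 := by simp
    have h2 : K.toCycles b n ≫ (K.cyclesIsoSc' b n (n + 1) hb hn).hom = t :=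
      K.toCycles_cyclesIsoSc'_hom b n (n + 1) hb hn
    have h4 : K.toCycles b n = t ≫ (K.cyclesIsoSc' b n (n + 1) hb hn).inv := by
      rw [← h2, Category.assoc, Iso.hom_inv_id, Category.comp_id]
    rw [h4]
    infer_instance
  rw [Preadditive.mono_iff_cancel_zero]
  intro W x hx
  obtain ⟨W', π, hπ, y, hy⟩ := surjective_up_to_refinements_of_epi (T.map (K.toCycles b n)) x
  have hy' : y ≫ T.map (K.d b n) = 0 := by
    rw [← K.toCycles_i b n, T.map_comp, ← Category.assoc, ← hy, Category.assoc, hx, comp_zero]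
  obtain ⟨W'', π', hπ', z, hz⟩ := hT.exact_up_to_refinements y hy'
  have h0 : (π' ≫ π) ≫ x = 0 := by
    have hz' : π' ≫ y = z ≫ T.map (K.d a b) := hz
    have h3 : T.map (K.d a b) ≫ T.map (K.toCycles b n) = 0 := by
      rw [← T.map_comp, K.d_toCycles, T.map_zero]
    rw [Category.assoc, hy, ← Category.assoc, hz', Category.assoc, h3, comp_zero]
  haveI : Epi (π' ≫ π) := epi_comp _ _
  exact (cancel_epi (π' ≫ π)).1 (h0.trans comp_zero.symm)

end Generic

section Site

open MonoidalCategory Groth.Agent.Helper9.TensorLoc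
  Groth.Agent.Helper9.TensorSh Groth.Agent.Helper9.TensorAdj Groth.Agent.Helper9.TensorFlat

universe u

variable {C : Type u} [SmallCategory C] {J : GrothendieckTopology C} {O : Sheaf J CommRingCat.{u}}

/-- for an acyclic K-flat complex `K` and any module `M`, the complex `K ⊗ M` is exact -/
theorem exact_map_TN {K : CochainComplex (ModSite.Mod O) ℤ} (hK : ModSite.IsKFlat K)
    (hac : K.Acyclic) (M : ModSite.Mod O) (n : ℤ) :
    ((K.sc' (n - 1) n (n + 1)).map (TN M)).Exact := by
  have h1 : (mapBifunctor (Ks M) K (ModSite.tensorBi O) (ComplexShape.up ℤ)).Acyclic :=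
    acyclic_mapBifunctor_of_isKFlat hK hac (Ks M)
  have h2 : (mapBifunctor K (Ks M) (ModSite.tensorBi O) (ComplexShape.up ℤ)).Acyclic := by
    rw [acyclic_iff_isZero_homology] at h1 ⊢
    intro i
    exact (h1 i).of_iso ((HomologicalComplex.homologyFunctor _ _ i).mapIso (symCx K (Ks M)))
  have h3 : ((mapBifunctor K (Ks M) (ModSite.tensorBi O) (ComplexShape.up ℤ)).sc'
      (n - 1) n (n + 1)).Exact :=
    (HomologicalComplex.exactAt_iff' _ (n - 1) n (n + 1) (by simp) (by simp)).1 (h2 n)
  haveI := isIso_ιs (ModSite.tensorBi O) K M (n - 1)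
  haveI := isIso_ιs (ModSite.tensorBi O) K M n
  haveI := isIso_ιs (ModSite.tensorBi O) K M (n + 1)
  let e₁ : ((ModSite.tensorBi O).obj (K.X (n - 1))).obj ((Ks M).X 0) ≅
      (mapBifunctor K (Ks M) (ModSite.tensorBi O) (ComplexShape.up ℤ)).X (n - 1) :=
    asIso (ιs (ModSite.tensorBi O) K M (n - 1))
  let e₂ : ((ModSite.tensorBi O).obj (K.X n)).obj ((Ks M).X 0) ≅
      (mapBifunctor K (Ks M) (ModSite.tensorBi O) (ComplexShape.up ℤ)).X n :=
    asIso (ιs (ModSite.tensorBi O) K M n)
  let e₃ : ((ModSite.tensorBi O).obj (K.X (n + 1))).obj ((Ks M).X 0) ≅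
      (mapBifunctor K (Ks M) (ModSite.tensorBi O) (ComplexShape.up ℤ)).X (n + 1) :=
    asIso (ιs (ModSite.tensorBi O) K M (n + 1))
  let e : (K.sc' (n - 1) n (n + 1)).map (TN ((Ks M).X 0)) ≅
      (mapBifunctor K (Ks M) (ModSite.tensorBi O) (ComplexShape.up ℤ)).sc' (n - 1) n (n + 1) :=
    ShortComplex.isoMk e₁ e₂ e₃ (ιs_d (ModSite.tensorBi O) K M (n - 1) n (by simp))
      (ιs_d (ModSite.tensorBi O) K M n (n + 1) rfl)
  have h4 : ((K.sc' (n - 1) n (n + 1)).map (TN ((Ks M).X 0))).Exact :=
    ShortComplex.exact_of_iso e.symm h3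
  let eM : TN ((Ks M).X 0) ≅ TN M :=
    (ModSite.tensorBi O).flip.mapIso (singleObjXSelf (ComplexShape.up ℤ) 0 M)
  exact ShortComplex.exact_of_iso ((K.sc' (n - 1) n (n + 1)).mapNatIso eM) h4

/-- S9052: the cycles of an acyclic K-flat complex with flat terms are flat -/
theorem isFlat_cycles {K : CochainComplex (ModSite.Mod O) ℤ} (hK : ModSite.IsKFlat K)
    (hac : K.Acyclic) (hfl : ∀ i : ℤ, ModSite.IsFlat (K.X i)) (n : ℤ) :
    ModSite.IsFlat (K.cycles n) := by
  apply isFlat_of_mono
  intro G' G m hm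
  -- the inclusion of the cycles stays a monomorphism after `G' ⊗ -`
  haveI : (TL G').PreservesEpimorphisms := by
    haveI : PreservesFiniteColimits (TL G') := PreservesColimitsOfSize.preservesFiniteColimits _
    infer_instance
  haveI : (TL G').PreservesZeroMorphisms := inferInstance
  have h1 : ((K.sc' (n - 1 - 1) (n - 1) n).map (TL G')).Exact := by
    have h := exact_map_TN hK hac G' (n - 1)
    have hn : n - 1 + 1 = n := by omega
    rw [hn] at h
    exact ShortComplex.exact_of_iso ((K.sc' (n - 1 - 1) (n - 1) n).mapNatIso (symIso G').symm) h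
  haveI : Mono ((TL G').map (K.iCycles n)) :=
    mono_map_iCycles (TL G') K (n - 1 - 1) (n - 1) n (by omega) (hac n) h1
  haveI : Mono ((TN (K.X n)).map m) := mono_of_isFlat (K.X n) (hfl n) m
  have hsq : (TN (K.cycles n)).map m ≫ (TL G).map (K.iCycles n) =
      (TL G').map (K.iCycles n) ≫ (TN (K.X n)).map m :=
    (((ModSite.tensorBi O).map m).naturality (K.iCycles n)).symm
  haveI : Mono ((TN (K.cycles n)).map m ≫ (TL G).map (K.iCycles n)) := by
    rw [hsq]; infer_instance
  exact mono_of_mono ((TN (K.cycles n)).map m) ((TL G).map (K.iCycles n))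

end Site

end Groth.Agent.Helper9.KFlat19
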