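import Mathlib
import Groth.Agent.Helper9.LDeriv1

/-!
# A left derivability structure from relative left resolutions in a triangulated category
-/

set_option autoImplicit false
set_option linter.style.haveILetI false
set_option linter.unusedSectionVars false

namespace Groth.Agent.Helper9.LDeriv2

open CategoryTheory Category Limits Pretriangulated ObjectProperty ZeroObject

variable {C : Type*} [Category C] [HasZeroObject C] [HasShift C ℤ] [Preadditive C]
  [∀ n : ℤ, (shiftFunctor C n).Additive] [Pretriangulated C] [IsTriangulated C]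
  (A B : ObjectProperty C) [A.IsTriangulated] [A.IsClosedUnderIsomorphisms]
  [B.IsTriangulated] [B.IsClosedUnderIsomorphisms]

/-- relative left resolutions: any morphism `P₀ ⟶ X` with `P₀` in `A` factors through a
`B.trW`-morphism `P ⟶ X` with `P` in `A`. -/
structure HasRelRes : Prop where
  exists_res : ∀ {P₀ X : C} (f₀ : P₀ ⟶ X), A P₀ →
    ∃ (P : C) (ι : P₀ ⟶ P) (q : P ⟶ X), A P ∧ B.trW q ∧ ι ≫ q = f₀

variable {A B} (h : HasRelRes A B)

include h

lemma exists_res₀ (X : C) : ∃ (P : C) (q : P ⟶ X), A P ∧ B.trW q := by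
  obtain ⟨P, ι, q, hP, hq, -⟩ := h.exists_res (0 : (0 : C) ⟶ X) A.prop_zero
  exact ⟨P, q, hP, hq⟩

lemma hasLeftResolutions : (A.triangulatedLocalizerMorphism B).HasLeftResolutions := by
  intro X
  obtain ⟨P, q, hP, hq⟩ := exists_res₀ h X
  exact ⟨{ X₁ := ⟨P, hP⟩, w := q, hw := hq }⟩

lemma trW_inf_of_trW {X Y : C} (s : X ⟶ Y) (hX : A X) (hY : A Y) (hs : B.trW s) :
    (A ⊓ B).trW s := by
  obtain ⟨Z, hZ, b, c, hT⟩ := A.distinguished_cocone_triangle s hX hY
  exact ⟨Z, b, c, hT, hZ, (B.trW_iff_of_distinguished _ hT).1 hs⟩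

lemma isVerdierLeftLocalizing : A.IsVerdierLeftLocalizing B := by
  rw [isVerdierLeftLocalizing_iff]
  intro X Y s hY hs
  obtain ⟨Z, a, hZ, ha⟩ := exists_res₀ h X
  exact ⟨Z, a ≫ s, a, hZ, trW_inf_of_trW h _ hZ hY (B.trW.comp_mem _ _ ha hs), rfl⟩

lemma isLocalizedEquivalence : (A.triangulatedLocalizerMorphism B).IsLocalizedEquivalence := by
  haveI := isVerdierLeftLocalizing h
  haveI := hasLeftResolutions h
  let Φ := A.triangulatedLocalizerMorphism B
  let L₁ := (B.inverseImage A.ι).trW.Q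
  let L₂ := B.trW.Q
  let G := Φ.localizedFunctor L₁ L₂
  haveI : G.Full := inferInstance
  haveI : G.Faithful := inferInstance
  haveI : (Φ.functor ⋙ L₂).EssSurj := Φ.essSurj_of_hasLeftResolutions L₂
  haveI : (L₁ ⋙ G).EssSurj := Functor.essSurj_of_iso (CatCommSq.iso Φ.functor L₁ L₂ G)
  haveI : G.EssSurj := ⟨fun Y => by
      obtain ⟨X, ⟨e⟩⟩ := Functor.EssSurj.mem_essImage (F := L₁ ⋙ G) Y
      exact ⟨L₁.obj X, ⟨e⟩⟩⟩
  haveI : G.IsEquivalence := { }
  exact LocalizerMorphism.IsLocalizedEquivalence.mk' Φ L₁ L₂ G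

lemma exists_sum {P₁ P₂ X : C} (w₁ : P₁ ⟶ X) (w₂ : P₂ ⟶ X) (h₁ : A P₁) (h₂ : A P₂) :
    ∃ (P : C) (i₁ : P₁ ⟶ P) (i₂ : P₂ ⟶ P) (q : P ⟶ X), A P ∧ B.trW q ∧ i₁ ≫ q = w₁ ∧
      i₂ ≫ q = w₂ := by
  have h₁₂ : A (P₁ ⊞ P₂) :=
    A.ext_of_isTriangulatedClosed₂ _ (binaryBiproductTriangle_distinguished P₁ P₂) h₁ h₂
  obtain ⟨P, ι, q, hP, hq, fac⟩ := h.exists_res (biprod.desc w₁ w₂) h₁₂
  refine ⟨P, biprod.inl ≫ ι, biprod.inr ≫ ι, q, hP, hq, ?_, ?_⟩
  · rw [assoc, fac, biprod.inl_desc]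
  · rw [assoc, fac, biprod.inr_desc]

lemma isConnected_leftResolution (X : C) :
    IsConnected ((A.triangulatedLocalizerMorphism B).LeftResolution X) := by
  haveI : Nonempty ((A.triangulatedLocalizerMorphism B).LeftResolution X) :=
    hasLeftResolutions h X
  refine zigzag_isConnected (fun R₁ R₂ => ?_)
  obtain ⟨P, i₁, i₂, q, hP, hq, fac₁, fac₂⟩ :=
    exists_sum h R₁.w R₂.w R₁.X₁.property R₂.X₁.property
  let R : (A.triangulatedLocalizerMorphism B).LeftResolution X :=
    { X₁ := ⟨P, hP⟩, w := q, hw := hq }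
  let φ₁ : R₁ ⟶ R := { f := A.homMk i₁, comm := fac₁ }
  let φ₂ : R₂ ⟶ R := { f := A.homMk i₂, comm := fac₂ }
  exact (Zigzag.of_hom φ₁).trans (Zigzag.of_inv φ₂)

lemma hasLeftResolutions_arrow :
    (A.triangulatedLocalizerMorphism B).arrow.HasLeftResolutions := by
  intro f
  obtain ⟨P, p, hP, hp⟩ := exists_res₀ h f.left
  obtain ⟨Q, ι, q, hQ, hq, fac⟩ := h.exists_res (p ≫ f.hom) hP
  exact ⟨{ X₁ := Arrow.mk (A.homMk ι : (⟨P, hP⟩ : A.FullSubcategory) ⟶ ⟨Q, hQ⟩)
           w := Arrow.homMk p q fac.symm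
           hw := ⟨hp, hq⟩ }⟩

theorem isLeftDerivabilityStructure :
    (A.triangulatedLocalizerMorphism B).IsLeftDerivabilityStructure := by
  haveI := isLocalizedEquivalence h
  haveI := hasLeftResolutions_arrow h
  haveI := isConnected_leftResolution h
  exact LocalizerMorphism.IsLeftDerivabilityStructure.mk' _

/-- The counit of a left derived functor (with respect to `B.trW`) of a functor which inverts the
`B.trW`-morphisms between objects of `A` is an isomorphism on objects of `A`. -/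
theorem isIso_counit_app {H D : Type*} [Category H] [Category D] (F : C ⥤ H)
    (hF : ∀ {X Y : C} (s : X ⟶ Y), A X → A Y → B.trW s → IsIso (F.map s))
    (L : C ⥤ D) [L.IsLocalization B.trW] (LF : D ⥤ H) (α : L ⋙ LF ⟶ F)
    [LF.IsLeftDerivedFunctor α B.trW] (P : C) (hP : A P) : IsIso (α.app P) := by
  haveI := isLeftDerivabilityStructure h
  have hd : (A.triangulatedLocalizerMorphism B).Derives F := by
    intro X Y f hf
    have hf' := (A.triangulatedLocalizerMorphism B).map f hf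
    exact hF _ X.property Y.property hf'
  exact Groth.Agent.Helper9.LDeriv1.isIso_of_isLeftDerivedFunctor
    (A.triangulatedLocalizerMorphism B) hd α ⟨P, hP⟩

end Groth.Agent.Helper9.LDeriv2
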