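import Mathlib
import Groth.Prelude.Def_KFlatSite
import Groth.Agent.Helper9.KFlat19
import Groth.Agent.Helper9.LDeriv2

/-!
# K-flat objects of the homotopy category of a ringed site form a left derivability structure
-/

set_option autoImplicit false
set_option linter.style.haveILetI false
set_option linter.unusedSectionVars false

namespace Groth.Agent.Helper9.LDeriv3

open CategoryTheory Category Limits Pretriangulated ObjectProperty HomologicalComplex
  CochainComplex ZeroObject
  Groth.Agent.Helper9.KFlat1 Groth.Agent.Helper9.KFlat3 Groth.Agent.Helper9.KFlat4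
  Groth.Agent.Helper9.KFlat5 Groth.Agent.Helper9.KFlat8 Groth.Agent.Helper9.KFlat18

universe u

variable {C : Type u} [SmallCategory C] {J : GrothendieckTopology C} (O : Sheaf J CommRingCat.{u})

/-- K-flatness is invariant under homotopy equivalence -/
theorem isKFlat_of_homotopyEquiv {K K' : CochainComplex (ModSite.Mod O) ℤ}
    (e : HomotopyEquiv K K') (hK : ModSite.IsKFlat K) : ModSite.IsKFlat K' := by
  rw [isKFlat_iff] at hK ⊢
  intro L hL
  haveI : QuasiIso (((ModSite.tensorBi O).map₂CochainComplex.obj L).map e.hom) :=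
    (good_obj (ModSite.tensorBi O) L).quasiIso_map_homotopyEquiv e
  exact @acyclic_of_quasiIso _ _ _ _ _
    (((ModSite.tensorBi O).map₂CochainComplex.obj L).map e.hom) this (hK L hL)

/-- the homotopy category -/
abbrev Ho := HomotopyCategory (ModSite.Mod O) (ComplexShape.up ℤ)

/-- K-flat objects of the homotopy category -/
def KF : ObjectProperty (Ho O) := fun Z => ModSite.IsKFlat Z.as

lemma kf_quotient_obj_iff (K : CochainComplex (ModSite.Mod O) ℤ) :
    KF O ((HomotopyCategory.quotient _ _).obj K) ↔ ModSite.IsKFlat K := Iff.rfl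

instance : (KF O).IsClosedUnderIsomorphisms where
  of_iso {X Y} e hX := by
    have e' : (HomotopyCategory.quotient _ _).obj X.as ≅ (HomotopyCategory.quotient _ _).obj Y.as := e
    exact isKFlat_of_homotopyEquiv O (HomotopyCategory.homotopyEquivOfIso e') hX

instance : (KF O).ContainsZero where
  exists_zero := ⟨(HomotopyCategory.quotient _ _).obj 0,
    Functor.map_isZero _ (isZero_zero _), isKFlat_zero (isZero_zero _)⟩

instance : (KF O).IsStableUnderShift ℤ where
  isStableUnderShiftBy n :=
    { le_shift := fun X hX => by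
        have e : (HomotopyCategory.quotient _ _).obj (X.as⟦n⟧) ≅ X⟦n⟧ :=
          ((HomotopyCategory.quotient (ModSite.Mod O) (ComplexShape.up ℤ)).commShiftIso n).app X.as
        exact (KF O).prop_of_iso e (isKFlat_shift hX n) }

instance : (KF O).IsTriangulatedClosed₂ := .mk' (by
  intro T hT h₁ h₃
  obtain ⟨K, L, φ, ⟨e⟩⟩ := hT
  have e₁ : T.obj₁ ≅ (HomotopyCategory.quotient _ _).obj K := Triangle.π₁.mapIso e
  have e₂ : T.obj₂ ≅ (HomotopyCategory.quotient _ _).obj L := Triangle.π₂.mapIso e
  have e₃ : T.obj₃ ≅ (HomotopyCategory.quotient _ _).obj (mappingCone φ) := Triangle.π₃.mapIso e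
  have hK : ModSite.IsKFlat K := (KF O).prop_of_iso e₁ h₁
  have hc : ModSite.IsKFlat (mappingCone φ) := (KF O).prop_of_iso e₃ h₃
  exact (KF O).prop_of_iso e₂.symm ((isKFlat_cone φ).2.1 hK hc))

instance : (KF O).IsTriangulated where

lemma exists_res_aux {P₀ X : CochainComplex (ModSite.Mod O) ℤ}
    (f₀ : (HomotopyCategory.quotient _ _).obj P₀ ⟶ (HomotopyCategory.quotient _ _).obj X)
    (hP₀ : ModSite.IsKFlat P₀) :
    ∃ (P : Ho O) (ι : (HomotopyCategory.quotient _ _).obj P₀ ⟶ P)
      (q : P ⟶ (HomotopyCategory.quotient _ _).obj X), KF O P ∧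
      (HomotopyCategory.subcategoryAcyclic (ModSite.Mod O)).trW q ∧ ι ≫ q = f₀ := by
  obtain ⟨g₀, rfl⟩ := (HomotopyCategory.quotient _ _).map_surjective f₀
  obtain ⟨P, ι, q, fac, hq, hkf, -⟩ := Groth.Agent.Helper9.KFlat17.exists_resolution_of g₀
  refine ⟨(HomotopyCategory.quotient _ _).obj P, (HomotopyCategory.quotient _ _).map ι,
    (HomotopyCategory.quotient _ _).map q, hkf hP₀, ?_, ?_⟩
  · rw [← HomotopyCategory.quasiIso_eq_trW_subcategoryAcyclic,
      HomotopyCategory.quotient_map_mem_quasiIso_iff]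
    exact hq
  · rw [← Functor.map_comp, fac]

/-- relative K-flat resolutions -/
theorem hasRelRes :
    Groth.Agent.Helper9.LDeriv2.HasRelRes (KF O)
      (HomotopyCategory.subcategoryAcyclic (ModSite.Mod O)) where
  exists_res {P₀ X} f₀ hP₀ := exists_res_aux O (P₀ := P₀.as) (X := X.as) f₀ hP₀

/-- The counit of any left derived functor (with respect to quasi-isomorphisms) of a functor on
the homotopy category which inverts the quasi-isomorphisms between K-flat complexes is an
isomorphism on K-flat complexes. -/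
theorem isIso_counit_app_of_isKFlat {H D : Type*} [Category H] [Category D] (F : Ho O ⥤ H)
    (hF : ∀ {P P' : CochainComplex (ModSite.Mod O) ℤ} (f : P ⟶ P'), ModSite.IsKFlat P →
      ModSite.IsKFlat P' → QuasiIso f → IsIso (F.map ((HomotopyCategory.quotient _ _).map f)))
    (L : Ho O ⥤ D) [L.IsLocalization (HomotopyCategory.quasiIso (ModSite.Mod O) (ComplexShape.up ℤ))]
    (LF : D ⥤ H) (α : L ⋙ LF ⟶ F)
    [LF.IsLeftDerivedFunctor α (HomotopyCategory.quasiIso (ModSite.Mod O) (ComplexShape.up ℤ))]
    (P : CochainComplex (ModSite.Mod O) ℤ) (hP : ModSite.IsKFlat P) :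
    IsIso (α.app ((HomotopyCategory.quotient _ _).obj P)) := by
  haveI hK : LF.IsRightKanExtension α := Functor.IsLeftDerivedFunctor.isRightKanExtension LF α
    (HomotopyCategory.quasiIso (ModSite.Mod O) (ComplexShape.up ℤ))
  haveI : L.IsLocalization (HomotopyCategory.subcategoryAcyclic (ModSite.Mod O)).trW := by
    rw [← HomotopyCategory.quasiIso_eq_trW_subcategoryAcyclic]; infer_instance
  haveI : LF.IsLeftDerivedFunctor α (HomotopyCategory.subcategoryAcyclic (ModSite.Mod O)).trW :=
    ⟨hK⟩
  refine Groth.Agent.Helper9.LDeriv2.isIso_counit_app (hasRelRes O) F ?_ L LF α _ hP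
  intro X Y s hX hY hs
  obtain ⟨f, rfl⟩ : ∃ f : X.as ⟶ Y.as, (HomotopyCategory.quotient _ _).map f = s :=
    (HomotopyCategory.quotient _ _).map_surjective s
  rw [← HomotopyCategory.quasiIso_eq_trW_subcategoryAcyclic] at hs
  exact hF f hX hY ((HomotopyCategory.quotient_map_mem_quasiIso_iff f).1 hs)

end Groth.Agent.Helper9.LDeriv3
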