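import Mathlib
import Groth.Prelude.Def_KFlatSite
import Groth.Agent.Helper9.LDeriv3

/-!
# Left derived functors of termwise functors are computed on K-flat complexes
-/

set_option autoImplicit false
set_option linter.style.haveILetI false
set_option linter.unusedSectionVars false

namespace Groth.Agent.Helper9.LDeriv4

open CategoryTheory Category Limits HomologicalComplex CochainComplex
  Groth.Agent.Helper9.KFlat1 Groth.Agent.Helper9.KFlat3 Groth.Agent.Helper9.KFlat4
  Groth.Agent.Helper9.KFlat5 Groth.Agent.Helper9.KFlat8 Groth.Agent.Helper9.KFlat18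
  Groth.Agent.Helper9.KFlat19 Groth.Agent.Helper9.LDeriv3 Groth.Agent.Helper9.TensorAdj

universe u

variable {C : Type u} [SmallCategory C] {J : GrothendieckTopology C} {O : Sheaf J CommRingCat.{u}}

section General

variable {A' : Type*} [Category A'] [Abelian A'] (T : ModSite.Mod O ⥤ A') [T.Additive]

/-- if `T` sends acyclic K-flat complexes to acyclic complexes, it sends quasi-isomorphisms between
K-flat complexes to quasi-isomorphisms -/
theorem quasiIso_map_of_isKFlat
    (hT : ∀ K : CochainComplex (ModSite.Mod O) ℤ, ModSite.IsKFlat K → K.Acyclic →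
      ((T.mapHomologicalComplex (ComplexShape.up ℤ)).obj K).Acyclic)
    {P P' : CochainComplex (ModSite.Mod O) ℤ} (f : P ⟶ P') (hP : ModSite.IsKFlat P)
    (hP' : ModSite.IsKFlat P') (hf : QuasiIso f) :
    QuasiIso ((T.mapHomologicalComplex (ComplexShape.up ℤ)).map f) := by
  rw [quasiIso_iff_acyclic_mappingCone]
  have h1 := hT _ ((isKFlat_cone f).1 hP hP') ((quasiIso_iff_acyclic_mappingCone f).1 hf)
  rw [acyclic_iff_isZero_homology] at h1 ⊢
  intro n
  exact (h1 n).of_iso ((HomologicalComplex.homologyFunctor _ _ n).mapIso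
    (mappingCone.mapHomologicalComplexIso f T).symm)

variable [HasDerivedCategory A']

theorem isIso_counit_app
    (hT : ∀ K : CochainComplex (ModSite.Mod O) ℤ, ModSite.IsKFlat K → K.Acyclic →
      ((T.mapHomologicalComplex (ComplexShape.up ℤ)).obj K).Acyclic)
    {D : Type*} [Category D] (L : Ho O ⥤ D)
    [L.IsLocalization (HomotopyCategory.quasiIso (ModSite.Mod O) (ComplexShape.up ℤ))]
    (LF : D ⥤ DerivedCategory A')
    (α : L ⋙ LF ⟶ T.mapHomotopyCategory (ComplexShape.up ℤ) ⋙ DerivedCategory.Qh)
    [LF.IsLeftDerivedFunctor α (HomotopyCategory.quasiIso (ModSite.Mod O) (ComplexShape.up ℤ))]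
    (P : CochainComplex (ModSite.Mod O) ℤ) (hP : ModSite.IsKFlat P) :
    IsIso (α.app ((HomotopyCategory.quotient _ _).obj P)) := by
  refine isIso_counit_app_of_isKFlat O _ ?_ L LF α P hP
  intro P P' f hP hP' hf
  have := quasiIso_map_of_isKFlat T hT f hP hP' hf
  show IsIso (DerivedCategory.Qh.map ((HomotopyCategory.quotient _ _).map
    ((T.mapHomologicalComplex (ComplexShape.up ℤ)).map f)))
  rw [DerivedCategory.isIso_Qh_map_iff, HomotopyCategory.quotient_map_mem_quasiIso_iff]
  exact this

end General

/-- `- ⊗ M` sends acyclic K-flat complexes to acyclic complexes -/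
theorem acyclic_map_TN (M : ModSite.Mod O) (K : CochainComplex (ModSite.Mod O) ℤ)
    (hK : ModSite.IsKFlat K) (hac : K.Acyclic) :
    (((TN M).mapHomologicalComplex (ComplexShape.up ℤ)).obj K).Acyclic := by
  intro n
  rw [HomologicalComplex.exactAt_iff' _ (n - 1) n (n + 1) (by simp) (by simp)]
  exact exact_map_TN hK hac M n

end Groth.Agent.Helper9.LDeriv4
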