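import Mathlib
import Groth.Prelude.Def_DTor2
import Groth.Prelude.Def_DCoh4
import Groth.Agent.Helper9.LDeriv4

/-!
# Computing `- ⊗^L M` (for an `O_X`-module `M`) on K-flat complexes of `O_X`-modules
-/

set_option autoImplicit false
set_option linter.style.haveILetI false
set_option linter.unusedSectionVars false

namespace Groth.Agent.Helper9.LTM1

open CategoryTheory Category Limits DerivedCategory AlgebraicGeometry

attribute [local instance] HasDerivedCategory.standard

universe u

variable {X : Scheme.{u}} (M : X.Modules)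

/-- termwise `- ⊗ M` on complexes -/
noncomputable abbrev tensF : CochainComplex X.Modules ℤ ⥤ CochainComplex X.Modules ℤ :=
  (DCoh.tensorRightMod M).mapHomologicalComplex (ComplexShape.up ℤ)

/-- `- ⊗ M` sends acyclic K-flat complexes to acyclic complexes -/
theorem acyclic_tensF (K : CochainComplex X.Modules ℤ) (hK : DCoh.IsKFlat K) (hac : K.Acyclic) :
    ((tensF M).obj K).Acyclic :=
  Groth.Agent.Helper9.LDeriv4.acyclic_map_TN (O := X.sheaf) M K hK hac

/-- `- ⊗ M` sends quasi-isomorphisms between K-flat complexes to quasi-isomorphisms -/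
theorem quasiIso_tensF_map {P P' : CochainComplex X.Modules ℤ} (f : P ⟶ P')
    (hP : DCoh.IsKFlat P) (hP' : DCoh.IsKFlat P') (hf : QuasiIso f) :
    QuasiIso ((tensF M).map f) :=
  @Groth.Agent.Helper9.LDeriv4.quasiIso_map_of_isKFlat _ _ _ X.sheaf _ _ _
    (DCoh.tensorRightMod M) (DCoh.additive_tensorRightMod M)
    (fun K hK hac => acyclic_tensF M K hK hac) _ _ f hP hP' hf

variable [DCoh.HasLTensorMod M]

/-- the counit of the derived tensor product -/
noncomputable def counit : Qh ⋙ DCoh.LTensorMod M ⟶ DCoh.tensorModKh M :=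
  (DCoh.tensorModKh M).totalLeftDerivedCounit Qh
    (HomotopyCategory.quasiIso X.Modules (ComplexShape.up ℤ))

instance isLeftDerivedFunctor_counit : (DCoh.LTensorMod M).IsLeftDerivedFunctor (counit M)
    (HomotopyCategory.quasiIso X.Modules (ComplexShape.up ℤ)) := by
  unfold counit
  infer_instance

/-- the counit is an isomorphism at K-flat complexes -/
theorem isIso_counit_app (P : CochainComplex X.Modules ℤ) (hP : DCoh.IsKFlat P) :
    IsIso ((counit M).app ((HomotopyCategory.quotient _ _).obj P)) :=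
  @Groth.Agent.Helper9.LDeriv4.isIso_counit_app _ _ _ X.sheaf _ _ _
    (DCoh.tensorRightMod M) (DCoh.additive_tensorRightMod M) _
    (fun K hK hac => acyclic_tensF M K hK hac) _ _ Qh _ (DCoh.LTensorMod M) (counit M)
    (isLeftDerivedFunctor_counit M) P hP

/-- the comparison `(Q P) ⊗^L M ⟶ Q (P ⊗ M)`, natural in the complex `P` -/
noncomputable def ltNat : Q ⋙ DCoh.LTensorMod M ⟶ tensF M ⋙ Q :=
  Functor.whiskerRight (quotientCompQhIso X.Modules).inv (DCoh.LTensorMod M) ≫
    (Functor.associator _ _ _).hom ≫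
    Functor.whiskerLeft (HomotopyCategory.quotient _ _) (counit M) ≫
    (Functor.associator _ _ _).inv ≫
    Functor.whiskerRight ((DCoh.tensorRightMod M).mapHomotopyCategoryFactors
      (ComplexShape.up ℤ)).hom Qh ≫
    (Functor.associator _ _ _).hom ≫
    Functor.whiskerLeft (tensF M) (quotientCompQhIso X.Modules).hom

theorem isIso_ltNat_app (P : CochainComplex X.Modules ℤ) (hP : DCoh.IsKFlat P) :
    IsIso ((ltNat M).app P) := by
  have := isIso_counit_app M P hP
  simp only [ltNat, NatTrans.comp_app, Functor.whiskerRight_app, Functor.whiskerLeft_app,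
    Functor.associator_hom_app, Functor.associator_inv_app]
  infer_instance

/-- `(toD P) ⊗^L M ≅ toD (P ⊗ M)` for K-flat `P` -/
noncomputable def ltIso (P : CochainComplex X.Modules ℤ) (hP : DCoh.IsKFlat P) :
    (DCoh.LTensorMod M).obj (DCoh.toD X P) ≅ DCoh.toD X ((tensF M).obj P) :=
  haveI := isIso_ltNat_app M P hP
  (asIso ((ltNat M).app P) : (Q ⋙ DCoh.LTensorMod M).obj P ≅ (tensF M ⋙ Q).obj P)

/-- naturality of `ltIso` -/
theorem ltIso_hom_naturality {P P' : CochainComplex X.Modules ℤ} (f : P ⟶ P')
    (hP : DCoh.IsKFlat P) (hP' : DCoh.IsKFlat P') :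
    (DCoh.LTensorMod M).map (Q.map f) ≫ (ltIso M P' hP').hom =
      (ltIso M P hP).hom ≫ Q.map ((tensF M).map f) :=
  (ltNat M).naturality f

/-- the cohomology of `K ⊗^L M` is computed by a K-flat representative -/
noncomputable def hdIso (P : CochainComplex X.Modules ℤ) (hP : DCoh.IsKFlat P) {K : DCoh.D X}
    (e : DCoh.toD X P ≅ K) (i : ℤ) :
    DCoh.HD ((DCoh.LTensorMod M).obj K) i ≅ ((tensF M).obj P).homology i :=
  (DerivedCategory.homologyFunctor X.Modules i).mapIso
    ((DCoh.LTensorMod M).mapIso e.symm ≪≫ ltIso M P hP) ≪≫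
    (DerivedCategory.homologyFunctorFactors X.Modules i).app _

end Groth.Agent.Helper9.LTM1
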