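import Mathlib
import Groth.Agent.Helper9.TensorLoc

/-!
# The stalk of the tensor product of presheaves of modules on a topological space
-/

set_option autoImplicit false
set_option linter.style.haveILetI false
set_option linter.unusedSectionVars false

namespace Groth.Agent.Helper9.StalkTensor1

open CategoryTheory MonoidalCategory Opposite TensorProduct TopologicalSpace
  Groth.Agent.Helper9.TensorLoc

universe u

set_option backward.isDefEq.respectTransparency false

variable {X : TopCat.{u}} {R : X.Presheaf CommRingCat.{u}}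
  (M N : PresheafOfModules.{u} (R ⋙ forget₂ CommRingCat RingCat)) (x : X)

/-- the stalk, as a type -/
abbrev St : Type u := ↑(TopCat.Presheaf.stalk M.presheaf x)

/-- the germ map, as an additive map -/
noncomputable def gm (U : Opens X) (hx : x ∈ U) : M.obj (op U) →+ St M x :=
  (TopCat.Presheaf.germ M.presheaf U x hx).hom

lemma gm_smul (U : Opens X) (hx : x ∈ U) (r : R.obj (op U)) (m : M.obj (op U)) :
    gm M x U hx (r • m) = R.germ U x hx r • gm M x U hx m :=
  PresheafOfModules.germ_smul M x U hx r m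

lemma gm_res {U V : Opens X} (i : V ⟶ U) (hx : x ∈ V) (m : M.obj (op U)) :
    gm M x V hx (M.map i.op m) = gm M x U (i.le hx) m :=
  TopCat.Presheaf.germ_res_apply M.presheaf i x hx m

lemma exists_gm_eq (t : St M x) : ∃ (U : Opens X) (hx : x ∈ U) (m : M.obj (op U)),
    gm M x U hx m = t :=
  TopCat.Presheaf.exists_germ_eq M.presheaf t

lemma gm_eq {U V : Opens X} (hU : x ∈ U) (hV : x ∈ V) (s : M.obj (op U)) (t : M.obj (op V))
    (h : gm M x U hU s = gm M x V hV t) :
    ∃ (W : Opens X) (_ : x ∈ W) (iU : W ⟶ U) (iV : W ⟶ V), M.map iU.op s = M.map iV.op t :=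
  TopCat.Presheaf.germ_eq M.presheaf x hU hV s t h

/-- the tensor product of the stalks -/
abbrev TS : Type u := TensorProduct (R.stalk x) (St M x) (St N x)

/-- the comparison map from sections of the tensor product presheaf to the tensor product of the
stalks -/
noncomputable def β (U : Opens X) (hx : x ∈ U) : (M ⊗ N).obj (op U) →+ TS M N x :=
  TensorProduct.liftAddHom
    (AddMonoidHom.mk' (fun m => AddMonoidHom.mk' (fun n => gm M x U hx m ⊗ₜ[R.stalk x] gm N x U hx n)
      (fun n n' => by rw [map_add, tmul_add]))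
      (fun m m' => by
        ext n
        show gm M x U hx (m + m') ⊗ₜ[R.stalk x] gm N x U hx n = _
        rw [map_add, add_tmul]
        rfl))
    (fun r m n => by
      show gm M x U hx (r • m) ⊗ₜ[R.stalk x] gm N x U hx n =
        gm M x U hx m ⊗ₜ[R.stalk x] gm N x U hx (r • n)
      rw [gm_smul, gm_smul, smul_tmul])

lemma β_tmul (U : Opens X) (hx : x ∈ U) (m : M.obj (op U)) (n : N.obj (op U)) :
    β M N x U hx (m ⊗ₜ n) = gm M x U hx m ⊗ₜ[R.stalk x] gm N x U hx n := rfl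

lemma β_res {U V : Opens X} (i : V ⟶ U) (hx : x ∈ V) (s : (M ⊗ N).obj (op U)) :
    β M N x V hx ((M ⊗ N).map i.op s) = β M N x U (i.le hx) s := by
  induction s using TensorProduct.induction_on with
  | zero => rw [map_zero, map_zero, map_zero]
  | tmul m n =>
    have h1 : (M ⊗ N).map i.op (m ⊗ₜ n) = M.map i.op m ⊗ₜ N.map i.op n := res_tmul N i.op m n
    rw [h1, β_tmul, β_tmul, gm_res, gm_res]
  | add s t hs ht => rw [map_add, map_add, map_add, hs, ht]

/-- restriction to a smaller open, as an additive map -/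
noncomputable def rs {U V : Opens X} (h : V ≤ U) : M.obj (op U) →+ M.obj (op V) :=
  (res M (homOfLE h).op).toAddMonoidHom

lemma map_eq_rs {U V : Opens X} (i : V ⟶ U) (m : M.obj (op U)) :
    M.map i.op m = rs M i.le m := by
  rfl

lemma rs_rs {U V W : Opens X} (h : V ≤ U) (h' : W ≤ V) (m : M.obj (op U)) :
    rs M h' (rs M h m) = rs M (h'.trans h) m := by
  show res M (homOfLE h').op (res M (homOfLE h).op m) = res M (homOfLE (h'.trans h)).op m
  rw [← res_comp]
  rfl

lemma gm_rs {U V : Opens X} (h : V ≤ U) (hx : x ∈ V) (m : M.obj (op U)) :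
    gm M x V hx (rs M h m) = gm M x U (h hx) m :=
  gm_res M x (homOfLE h) hx m

lemma rs_tmul {U V : Opens X} (h : V ≤ U) (m : M.obj (op U)) (n : N.obj (op U)) :
    rs (M ⊗ N) h (m ⊗ₜ n) = rs M h m ⊗ₜ rs N h n := rfl

lemma rs_smul {U V : Opens X} (h : V ≤ U) (r : R.obj (op U)) (m : M.obj (op U)) :
    rs M h (r • m) = (R.map (homOfLE h).op).hom r • rs M h m :=
  (res M (homOfLE h).op).map_smulₛₗ r m

lemma gm_eq' {U V : Opens X} (hU : x ∈ U) (hV : x ∈ V) (s : M.obj (op U)) (t : M.obj (op V))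
    (h : gm M x U hU s = gm M x V hV t) :
    ∃ (W : Opens X) (_ : x ∈ W) (hWU : W ≤ U) (hWV : W ≤ V), rs M hWU s = rs M hWV t := by
  obtain ⟨W, hW, iU, iV, e⟩ := gm_eq M x hU hV s t h
  refine ⟨W, hW, iU.le, iV.le, ?_⟩
  rw [← map_eq_rs, ← map_eq_rs]
  exact e

/-- two germs have representatives on a common open -/
lemma exists_common₂ (μ : St M x) (ν : St N x) :
    ∃ (W : Opens X) (hx : x ∈ W) (m : M.obj (op W)) (n : N.obj (op W)),
      gm M x W hx m = μ ∧ gm N x W hx n = ν := by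
  obtain ⟨U, hU, m, rfl⟩ := exists_gm_eq M x μ
  obtain ⟨V, hV, n, rfl⟩ := exists_gm_eq N x ν
  exact ⟨U ⊓ V, ⟨hU, hV⟩, rs M inf_le_left m, rs N inf_le_right n, gm_rs M x _ _ m,
    gm_rs N x _ _ n⟩

/-- the value of the pairing on two germs is well defined -/
lemma exists_pair (μ : St M x) (ν : St N x) : ∃ t : St (M ⊗ N) x,
    ∀ (W : Opens X) (hx : x ∈ W) (m : M.obj (op W)) (n : N.obj (op W)),
      gm M x W hx m = μ → gm N x W hx n = ν → t = gm (M ⊗ N) x W hx (m ⊗ₜ n) := by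
  obtain ⟨U, hU, m', n', rfl, rfl⟩ := exists_common₂ M N x μ ν
  refine ⟨gm (M ⊗ N) x U hU (m' ⊗ₜ n'), ?_⟩
  intro W hx m n h1 h2
  obtain ⟨W₁, hW₁, h1W, h1U, e1⟩ := gm_eq' M x hx hU m m' h1
  obtain ⟨W₂, hW₂, h2W, h2U, e2⟩ := gm_eq' N x hx hU n n' h2
  have hx3 : x ∈ W₁ ⊓ W₂ := ⟨hW₁, hW₂⟩
  have hU3 : W₁ ⊓ W₂ ≤ U := inf_le_left.trans h1U
  have hW3 : W₁ ⊓ W₂ ≤ W := inf_le_left.trans h1W
  rw [← gm_rs (M ⊗ N) x hU3 hx3, ← gm_rs (M ⊗ N) x hW3 hx3, rs_tmul, rs_tmul]
  have e1' : rs M hW3 m = rs M hU3 m' := by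
    rw [← rs_rs M h1U inf_le_left, ← rs_rs M h1W inf_le_left, e1]
  have e2' : rs N hW3 n = rs N hU3 n' := by
    rw [← rs_rs N h2U inf_le_right, ← rs_rs N h2W inf_le_right, e2]
  rw [e1', e2']

/-- the bilinear pairing on germs -/
noncomputable def pair (μ : St M x) (ν : St N x) : St (M ⊗ N) x :=
  (exists_pair M N x μ ν).choose

/-- the pairing does not depend on the representatives -/
lemma pair_gm (W : Opens X) (hx : x ∈ W) (m : M.obj (op W)) (n : N.obj (op W)) :
    pair M N x (gm M x W hx m) (gm N x W hx n) = gm (M ⊗ N) x W hx (m ⊗ₜ n) :=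
  (exists_pair M N x _ _).choose_spec W hx m n rfl rfl

lemma exists_common₃l (μ μ' : St M x) (ν : St N x) :
    ∃ (W : Opens X) (hx : x ∈ W) (m m' : M.obj (op W)) (n : N.obj (op W)),
      gm M x W hx m = μ ∧ gm M x W hx m' = μ' ∧ gm N x W hx n = ν := by
  obtain ⟨U, hU, m, n, rfl, rfl⟩ := exists_common₂ M N x μ ν
  obtain ⟨V, hV, m', rfl⟩ := exists_gm_eq M x μ'
  exact ⟨U ⊓ V, ⟨hU, hV⟩, rs M inf_le_left m, rs M inf_le_right m', rs N inf_le_left n,
    gm_rs M x _ _ m, gm_rs M x _ _ m', gm_rs N x _ _ n⟩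

lemma exists_common₃r (μ : St M x) (ν ν' : St N x) :
    ∃ (W : Opens X) (hx : x ∈ W) (m : M.obj (op W)) (n n' : N.obj (op W)),
      gm M x W hx m = μ ∧ gm N x W hx n = ν ∧ gm N x W hx n' = ν' := by
  obtain ⟨U, hU, m, n, rfl, rfl⟩ := exists_common₂ M N x μ ν
  obtain ⟨V, hV, n', rfl⟩ := exists_gm_eq N x ν'
  exact ⟨U ⊓ V, ⟨hU, hV⟩, rs M inf_le_left m, rs N inf_le_left n, rs N inf_le_right n',
    gm_rs M x _ _ m, gm_rs N x _ _ n, gm_rs N x _ _ n'⟩

lemma exists_common_smul (ρ : R.stalk x) (μ : St M x) (ν : St N x) :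
    ∃ (W : Opens X) (hx : x ∈ W) (r : R.obj (op W)) (m : M.obj (op W)) (n : N.obj (op W)),
      R.germ W x hx r = ρ ∧ gm M x W hx m = μ ∧ gm N x W hx n = ν := by
  obtain ⟨U, hU, m, n, rfl, rfl⟩ := exists_common₂ M N x μ ν
  obtain ⟨V, hV, r, rfl⟩ := TopCat.Presheaf.exists_germ_eq R ρ
  exact ⟨U ⊓ V, ⟨hU, hV⟩, R.map (homOfLE inf_le_right).op r, rs M inf_le_left m,
    rs N inf_le_left n, TopCat.Presheaf.germ_res_apply R (homOfLE inf_le_right) x _ r,
    gm_rs M x _ _ m, gm_rs N x _ _ n⟩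

lemma pair_add_left (μ μ' : St M x) (ν : St N x) :
    pair M N x (μ + μ') ν = pair M N x μ ν + pair M N x μ' ν := by
  obtain ⟨W, hx, m, m', n, rfl, rfl, rfl⟩ := exists_common₃l M N x μ μ' ν
  rw [← map_add, pair_gm, pair_gm, pair_gm, add_tmul, map_add]

lemma pair_add_right (μ : St M x) (ν ν' : St N x) :
    pair M N x μ (ν + ν') = pair M N x μ ν + pair M N x μ ν' := by
  obtain ⟨W, hx, m, n, n', rfl, rfl, rfl⟩ := exists_common₃r M N x μ ν ν'
  rw [← map_add, pair_gm, pair_gm, pair_gm, tmul_add, map_add]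

lemma pair_smul (ρ : R.stalk x) (μ : St M x) (ν : St N x) :
    pair M N x (ρ • μ) ν = pair M N x μ (ρ • ν) := by
  obtain ⟨W, hx, r, m, n, rfl, rfl, rfl⟩ := exists_common_smul M N x ρ μ ν
  rw [← gm_smul, ← gm_smul, pair_gm, pair_gm]
  congr 1
  exact TensorProduct.smul_tmul (R := ↑((R ⋙ forget₂ CommRingCat RingCat).obj (op W)))
    (R' := ↑((R ⋙ forget₂ CommRingCat RingCat).obj (op W))) r m n

/-- the inverse comparison map -/
noncomputable def α : TS M N x →+ St (M ⊗ N) x :=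
  TensorProduct.liftAddHom
    (AddMonoidHom.mk' (fun μ => AddMonoidHom.mk' (fun ν => pair M N x μ ν)
      (fun ν ν' => pair_add_right M N x μ ν ν'))
      (fun μ μ' => by
        ext ν
        exact pair_add_left M N x μ μ' ν))
    (fun ρ μ ν => pair_smul M N x ρ μ ν)

lemma α_tmul (μ : St M x) (ν : St N x) : α M N x (μ ⊗ₜ ν) = pair M N x μ ν := rfl

lemma α_β (U : Opens X) (hx : x ∈ U) (s : (M ⊗ N).obj (op U)) :
    α M N x (β M N x U hx s) = gm (M ⊗ N) x U hx s := by
  induction s using TensorProduct.induction_on with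
  | zero => rw [map_zero, map_zero, map_zero]
  | tmul m n => rw [β_tmul, α_tmul, pair_gm]
  | add s t hs ht => rw [map_add, map_add, map_add, hs, ht]

/-- a section of the tensor product presheaf whose image in the tensor product of the stalks
vanishes restricts to zero on a neighbourhood -/
theorem exists_rs_eq_zero (U : Opens X) (hx : x ∈ U) (s : (M ⊗ N).obj (op U))
    (hs : β M N x U hx s = 0) :
    ∃ (V : Opens X) (_ : x ∈ V) (hV : V ≤ U), rs (M ⊗ N) hV s = 0 := by
  have h1 : gm (M ⊗ N) x U hx s = gm (M ⊗ N) x U hx 0 := by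
    rw [← α_β, hs, map_zero, map_zero]
  obtain ⟨W, hW, h1, h2, e⟩ := gm_eq' (M ⊗ N) x hx hx s 0 h1
  exact ⟨W, hW, h1, e.trans (map_zero _)⟩

end Groth.Agent.Helper9.StalkTensor1
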