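import Mathlib
import Groth.Agent.Helper9.StalkTensor1
import Groth.Agent.Helper9.TensorSh

/-!
# Stalkwise flatness and the tensor product of presheaves of modules on a topological space
-/

set_option autoImplicit false
set_option linter.style.haveILetI false
set_option linter.unusedSectionVars false

namespace Groth.Agent.Helper9.StalkTensor2

open CategoryTheory MonoidalCategory Opposite TensorProduct TopologicalSpace
  Groth.Agent.Helper9.TensorLoc Groth.Agent.Helper9.StalkTensor1

universe u

set_option backward.isDefEq.respectTransparency false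

variable {X : TopCat.{u}} {R : X.Presheaf CommRingCat.{u}}
  {M M' : PresheafOfModules.{u} (R ⋙ forget₂ CommRingCat RingCat)}
  (N : PresheafOfModules.{u} (R ⋙ forget₂ CommRingCat RingCat)) (φ : M ⟶ M') (x : X)

/-- the map induced on stalks, as an additive map -/
noncomputable def smAdd : St M x →+ St M' x :=
  ((TopCat.Presheaf.stalkFunctor Ab x).map ((PresheafOfModules.toPresheaf _).map φ)).hom

lemma smAdd_gm (U : Opens X) (hx : x ∈ U) (m : M.obj (op U)) :
    smAdd φ x (gm M x U hx m) = gm M' x U hx (φ.app (op U) m) :=
  TopCat.Presheaf.stalkFunctor_map_germ_apply U x hx ((PresheafOfModules.toPresheaf _).map φ) m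

/-- the map induced on stalks, as a linear map -/
noncomputable def smLin : St M x →ₗ[R.stalk x] St M' x where
  toFun := smAdd φ x
  map_add' := map_add _
  map_smul' ρ μ := by
    obtain ⟨U, hU, m, rfl⟩ := exists_gm_eq M x μ
    obtain ⟨V, hV, r, rfl⟩ := TopCat.Presheaf.exists_germ_eq R ρ
    have hx : x ∈ U ⊓ V := ⟨hU, hV⟩
    have h1 : gm M x U hU m = gm M x (U ⊓ V) hx (rs M inf_le_left m) :=
      (gm_rs M x (inf_le_left : U ⊓ V ≤ U) hx m).symm
    have h2 : R.germ V x hV r = R.germ (U ⊓ V) x hx (R.map (homOfLE inf_le_right).op r) :=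
      (TopCat.Presheaf.germ_res_apply R (homOfLE inf_le_right) x hx r).symm
    rw [h1, h2, RingHom.id_apply, ← gm_smul, smAdd_gm, smAdd_gm, map_smul, gm_smul]

lemma smLin_gm (U : Opens X) (hx : x ∈ U) (m : M.obj (op U)) :
    smLin φ x (gm M x U hx m) = gm M' x U hx (φ.app (op U) m) := smAdd_gm φ x U hx m

/-- naturality of the comparison map -/
lemma β_natural (U : Opens X) (hx : x ∈ U) (s : (M ⊗ N).obj (op U)) :
    β M' N x U hx ((φ ▷ N).app (op U) s) =
      (smLin φ x).rTensor (St N x) (β M N x U hx s) := by
  induction s using TensorProduct.induction_on with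
  | zero => rw [map_zero, map_zero, map_zero, map_zero]
  | tmul m n =>
    rw [whiskerRight_app_tmul, β_tmul, β_tmul, LinearMap.rTensor_tmul, smLin_gm]
  | add s t hs ht => rw [map_add, map_add, map_add, map_add, hs, ht]

/-- tensoring a stalkwise injective morphism with a stalkwise flat presheaf of modules gives a
locally injective morphism -/
theorem locInj_whiskerRight_of_flat (hφ : ∀ x, Function.Injective (smLin φ x))
    (hN : ∀ x, Module.Flat (R.stalk x) (St N x)) :
    LocInj (Opens.grothendieckTopology X) (φ ▷ N) := by
  intro U s hs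
  let S : Sieve U :=
    { arrows := fun V g => res (M ⊗ N) g.op s = 0
      downward_closed := by
        intro V W g hg h
        show res (M ⊗ N) (h ≫ g).op s = 0
        rw [op_comp, res_comp, hg, map_zero] }
  refine ⟨S, ?_, fun V g hg => hg⟩
  intro pt hpt
  haveI := hN pt
  have h1 : (smLin φ pt).rTensor (St N pt) (β M N pt U hpt s) = 0 := by
    rw [← β_natural, hs, map_zero]
  have h2 : β M N pt U hpt s = 0 := by
    have hinj := Module.Flat.rTensor_preserves_injective_linearMap (M := St N pt) (smLin φ pt)
      (hφ pt)
    exact hinj (h1.trans (map_zero _).symm)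
  obtain ⟨V, hV, hVU, e⟩ := exists_rs_eq_zero M N pt U hpt s h2
  exact ⟨V, homOfLE hVU, e, hV⟩

section Site

open Groth.Agent.Helper9.TensorSh

variable {C : Type u} [SmallCategory C] {J : GrothendieckTopology C} {O : Sheaf J CommRingCat.{u}}

/-- the sheafification of a locally injective morphism of presheaves of modules is a
monomorphism -/
theorem mono_a_map {P Q : PM O} (ψ : P ⟶ Q) (hi : LocInj J ψ) : Mono ((a O).map ψ) := by
  haveI := isLocallyInjective_of J ψ hi
  haveI : Sheaf.IsLocallyInjective ((presheafToSheaf J AddCommGrpCat.{u}).map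
      ((PresheafOfModules.toPresheaf _).map ψ)) :=
    (Presheaf.isLocallyInjective_presheafToSheaf_map_iff J
      ((PresheafOfModules.toPresheaf _).map ψ)).2 inferInstance
  have h1 : Mono ((presheafToSheaf J AddCommGrpCat.{u}).map
      ((PresheafOfModules.toPresheaf _).map ψ)) := Sheaf.mono_of_isLocallyInjective _
  have h2 : Mono ((SheafOfModules.toSheaf _).map ((a O).map ψ)) := h1
  exact (SheafOfModules.toSheaf _).mono_of_mono_map h2

end Site

end Groth.Agent.Helper9.StalkTensor2
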