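import Mathlib
import Groth.Prelude.Def_KFlatSite
import Groth.Prelude.Def_FlatMod2
import Groth.Agent.Helper9.StalkTensor2
import Groth.Agent.Helper9.TensorFlat

/-!
# On a ringed space, a stalkwise flat module is flat for the tensor product of sheaves of modules
-/

set_option autoImplicit false
set_option linter.style.haveILetI false
set_option linter.unusedSectionVars false

namespace Groth.Agent.Helper9.StalkTensor3

open CategoryTheory MonoidalCategory Opposite TensorProduct TopologicalSpace AlgebraicGeometry
  Groth.Agent.Helper9.TensorLoc Groth.Agent.Helper9.StalkTensor1 Groth.Agent.Helper9.StalkTensor2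
  Groth.Agent.Helper9.TensorSh Groth.Agent.Helper9.TensorAdj Groth.Agent.Helper9.TensorFlat

universe u

section Top

variable {X : TopCat.{u}} {O : Sheaf (Opens.grothendieckTopology X) CommRingCat.{u}}

/-- a monomorphism of sheaves of modules is injective on stalks -/
theorem smLin_injective_of_mono {G' G : ModSite.Mod O} (m : G' ⟶ G) [Mono m] (x : X) :
    Function.Injective (smLin (R := O.obj) ((ι O).map m) x) := by
  haveI h0 : Mono ((sheafToPresheaf (Opens.grothendieckTopology X) AddCommGrpCat.{u}).map
      ((SheafOfModules.toSheaf (ModSite.ringSh O)).map m)) := inferInstance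
  haveI h1 : Mono ((PresheafOfModules.toPresheaf _).map ((ι O).map m)) := h0
  have h2 : ∀ U : Opens X, Function.Injective
      (((PresheafOfModules.toPresheaf _).map ((ι O).map m)).app (op U)) := by
    intro U
    haveI : Mono (((PresheafOfModules.toPresheaf _).map ((ι O).map m)).app (op U)) :=
      inferInstance
    exact (AddCommGrpCat.mono_iff_injective _).mp this
  exact TopCat.Presheaf.stalkFunctor_map_injective_of_app_injective h2 x

/-- a stalkwise flat module on a ringed space is flat for the tensor product -/
theorem isFlat_of_stalkwise_top (F : ModSite.Mod O)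
    (hF : ∀ x : X, Module.Flat (TopCat.Presheaf.stalk (C := CommRingCat.{u}) O.obj x)
      (St (R := O.obj) ((ι O).obj F) x)) :
    ModSite.IsFlat F := by
  apply isFlat_of_mono
  intro G' G m hm
  rw [TN_map]
  apply mono_a_map
  exact locInj_whiskerRight_of_flat (R := O.obj) ((ι O).obj F) ((ι O).map m)
    (fun x => smLin_injective_of_mono m x) hF

end Top

/-- a stalkwise flat module on a scheme is flat for the tensor product -/
theorem isFlat_of_stalkwise {X : Scheme.{u}} (F : X.Modules) (hF : FlatMod.IsFlat F) :
    ModSite.IsFlat (O := X.sheaf) F :=
  @isFlat_of_stalkwise_top X.toTopCat X.sheaf F hF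

end Groth.Agent.Helper9.StalkTensor3
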