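import Mathlib
import Groth.Prelude.Def_DTor2
import Groth.Prelude.Def_DCoh4
import Groth.Agent.Helper9.LTM1
import Groth.Agent.Helper9.StalkTensor3
import Groth.Agent.Helper9.KFlat12

/-!
# Flat amplitude implies tor amplitude
-/

set_option autoImplicit false
set_option linter.style.haveILetI false
set_option linter.unusedSectionVars false

namespace Groth.Agent.Helper9.LTM2

open CategoryTheory Category Limits DerivedCategory AlgebraicGeometry Groth.Agent.Helper9.LTM1

attribute [local instance] HasDerivedCategory.standard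

universe u

variable {X : Scheme.{u}}

/-- a bounded above complex of (stalkwise) flat modules is K-flat -/
theorem isKFlat_of_vanishesAbove (E : CochainComplex X.Modules ℤ) (b : ℤ)
    (hE : ∀ i : ℤ, b < i → IsZero (E.X i)) (hfl : ∀ i : ℤ, FlatMod.IsFlat (E.X i)) :
    DCoh.IsKFlat E := by
  have hb : E.IsStrictlyLE b := (CochainComplex.isStrictlyLE_iff E b).2 hE
  exact @Groth.Agent.Helper9.KFlat12.isKFlat_of_bounded_above _ _ _ X.sheaf E b hb
    (fun n => Groth.Agent.Helper9.StalkTensor3.isFlat_of_stalkwise (E.X n) (hfl n))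

/-- the terms of `E ⊗ M` vanish where those of `E` do -/
theorem isZero_tensF_X (M : X.Modules) (E : CochainComplex X.Modules ℤ) (i : ℤ)
    (h : IsZero (E.X i)) : IsZero (((tensF M).obj E).X i) :=
  Functor.map_isZero (DCoh.tensorRightMod M) h

theorem isZero_homology_tensF (M : X.Modules) (E : CochainComplex X.Modules ℤ) (i : ℤ)
    (h : IsZero (E.X i)) : IsZero (((tensF M).obj E).homology i) :=
  (HomologicalComplex.ExactAt.of_isZero (isZero_tensF_X M E i h)).isZero_homology

/-- flat amplitude implies tor amplitude -/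
theorem hasTorAmplitudeIn_of_hasFlatAmplitudeIn (a b : ℤ) (K : DCoh.D X)
    (h : DCoh.HasFlatAmplitudeIn a b K) : DCoh.HasTorAmplitudeIn a b K := by
  obtain ⟨E, hE, hfl, ⟨e⟩⟩ := h
  have hKF : DCoh.IsKFlat E := isKFlat_of_vanishesAbove E b (fun i hi => hE i (Or.inr hi)) hfl
  intro F _ i hi
  exact (isZero_homology_tensF F E i (hE i hi)).of_iso (hdIso F E hKF e i)

/-- tor amplitude passes to retracts -/
theorem hasTorAmplitudeIn_of_retract (a b : ℤ) {K K' : DCoh.D X} (i : K ⟶ K') (r : K' ⟶ K)
    (hir : i ≫ r = 𝟙 K) (h : DCoh.HasTorAmplitudeIn a b K') : DCoh.HasTorAmplitudeIn a b K := by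
  intro F _ j hj
  have h0 := h F j hj
  rw [IsZero.iff_id_eq_zero] at h0 ⊢
  have h1 : (DerivedCategory.homologyFunctor X.Modules j).map ((DCoh.LTensorMod F).map i) ≫
      (DerivedCategory.homologyFunctor X.Modules j).map ((DCoh.LTensorMod F).map r) = 𝟙 _ := by
    rw [← Functor.map_comp, ← Functor.map_comp, hir, CategoryTheory.Functor.map_id,
      CategoryTheory.Functor.map_id]
  rw [← h1, ← Category.comp_id ((DerivedCategory.homologyFunctor X.Modules j).map
    ((DCoh.LTensorMod F).map i)), h0, comp_zero, zero_comp]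

end Groth.Agent.Helper9.LTM2
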