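import Mathlib
import Groth.Prelude.Def_KFlatSite
import Groth.Agent.Helper9.StalkTensor2
import Groth.Agent.Helper9.TensorFlat

/-!
# Tensoring a locally injective morphism of presheaves of modules with a flat sheaf of modules
-/

set_option autoImplicit false
set_option linter.style.haveILetI false
set_option linter.unusedSectionVars false

namespace Groth.Agent.Helper9.StalkTensor4

open CategoryTheory MonoidalCategory Opposite
  Groth.Agent.Helper9.TensorLoc Groth.Agent.Helper9.StalkTensor2
  Groth.Agent.Helper9.TensorSh Groth.Agent.Helper9.TensorAdj Groth.Agent.Helper9.TensorFlat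

universe u

variable {C : Type u} [SmallCategory C] {J : GrothendieckTopology C} {O : Sheaf J CommRingCat.{u}}

/-- a morphism of presheaves of modules whose sheafification is a monomorphism is locally
injective -/
theorem locInj_of_mono_a_map {P Q : PM O} (χ : P ⟶ Q) (h : Mono ((a O).map χ)) :
    LocInj J χ := by
  haveI := h
  haveI h0 : Mono ((SheafOfModules.toSheaf (ModSite.ringSh O)).map ((a O).map χ)) :=
    inferInstance
  haveI h1 : Mono ((presheafToSheaf J AddCommGrpCat.{u}).map
      ((PresheafOfModules.toPresheaf _).map χ)) := h0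
  haveI h2 : Mono ((sheafToPresheaf J AddCommGrpCat.{u}).map
      ((presheafToSheaf J AddCommGrpCat.{u}).map ((PresheafOfModules.toPresheaf _).map χ))) :=
    inferInstance
  haveI : Sheaf.IsLocallyInjective ((presheafToSheaf J AddCommGrpCat.{u}).map
      ((PresheafOfModules.toPresheaf _).map χ)) := by
    rw [Sheaf.isLocallyInjective_iff_injective]
    intro X
    haveI : Mono (((sheafToPresheaf J AddCommGrpCat.{u}).map
      ((presheafToSheaf J AddCommGrpCat.{u}).map
        ((PresheafOfModules.toPresheaf _).map χ))).app X) := inferInstance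
    exact (AddCommGrpCat.mono_iff_injective _).mp this
  haveI : Presheaf.IsLocallyInjective J ((PresheafOfModules.toPresheaf _).map χ) :=
    (Presheaf.isLocallyInjective_presheafToSheaf_map_iff J _).1 inferInstance
  exact locInj_of J χ

/-- tensoring a locally injective morphism of presheaves of modules with a flat sheaf of modules
gives a locally injective morphism -/
theorem locInj_whiskerRight_of_isFlat {P Q : PM O} (ψ : P ⟶ Q) (hψ : LocInj J ψ)
    (F : ModSite.Mod O) (hF : ModSite.IsFlat F) : LocInj J (ψ ▷ (ι O).obj F) := by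
  apply locInj_of_mono_a_map
  haveI : Mono ((a O).map ψ) := mono_a_map ψ hψ
  have hm : Mono ((TN F).map ((a O).map ψ)) := mono_of_isFlat F hF _
  have h1 : (TN F).map ((a O).map ψ) =
      (a O).map ((ι O).map ((a O).map ψ) ▷ (ι O).obj F) := TN_map F _
  have hnat : ψ ≫ η O Q = η O P ≫ (ι O).map ((a O).map ψ) := (adj O).unit.naturality ψ
  have hsq : (a O).map (ψ ▷ (ι O).obj F) ≫ (a O).map (η O Q ▷ (ι O).obj F) =
      (a O).map (η O P ▷ (ι O).obj F) ≫
        (a O).map ((ι O).map ((a O).map ψ) ▷ (ι O).obj F) := by
    rw [← Functor.map_comp, ← Functor.map_comp, ← comp_whiskerRight, ← comp_whiskerRight, hnat]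
  haveI : Mono ((a O).map ((ι O).map ((a O).map ψ) ▷ (ι O).obj F)) := by
    rw [← h1]; exact hm
  haveI : Mono ((a O).map (ψ ▷ (ι O).obj F) ≫ (a O).map (η O Q ▷ (ι O).obj F)) := by
    rw [hsq]; infer_instance
  exact mono_of_mono ((a O).map (ψ ▷ (ι O).obj F)) ((a O).map (η O Q ▷ (ι O).obj F))

end Groth.Agent.Helper9.StalkTensor4
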