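import Mathlib
import Groth.Prelude.Def_KFlatSite
import Groth.Prelude.Def_FlatMod2
import Groth.Agent.Helper9.StalkTensor4

/-!
# On a ringed space, the stalks of a flat sheaf of modules are flat
-/

set_option autoImplicit false
set_option linter.style.haveILetI false
set_option linter.unusedSectionVars false

namespace Groth.Agent.Helper9.StalkTensor5

open CategoryTheory MonoidalCategory Opposite TensorProduct TopologicalSpace
  Groth.Agent.Helper9.TensorLoc Groth.Agent.Helper9.StalkTensor1 Groth.Agent.Helper9.StalkTensor2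

universe u

set_option backward.isDefEq.respectTransparency false

variable {X : TopCat.{u}} (R : X.Presheaf CommRingCat.{u}) (x : X) (I : Ideal (R.stalk x))

/-- the presheaf of ideals of sections whose germ at `x` lies in `I` -/
noncomputable def idealSub :
    (PresheafOfModules.unit (R ⋙ forget₂ CommRingCat RingCat)).Submodule where
  obj V :=
    { carrier := {s | ∀ hx : x ∈ V.unop, R.germ V.unop x hx s ∈ I}
      add_mem' := fun {a b} ha hb hx => by
        have : R.germ V.unop x hx (a + b) = R.germ V.unop x hx a + R.germ V.unop x hx b :=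
          map_add _ _ _
        rw [this]
        exact I.add_mem (ha hx) (hb hx)
      zero_mem' := fun hx => by
        have : R.germ V.unop x hx 0 = 0 := map_zero _
        rw [this]
        exact I.zero_mem
      smul_mem' := fun r s hs hx => by
        have : R.germ V.unop x hx (r • s) = R.germ V.unop x hx r * R.germ V.unop x hx s :=
          map_mul _ _ _
        rw [this]
        exact I.mul_mem_left _ (hs hx) }
  map {V W} f := fun s hs hx => by
    have : R.germ W.unop x hx (R.map f s) = R.germ V.unop x (f.unop.le hx) s :=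
      TopCat.Presheaf.germ_res_apply' R f x hx s
    show R.germ W.unop x hx (R.map f s) ∈ I
    rw [this]
    exact hs _

/-- the presheaf of ideals, as a presheaf of modules -/
noncomputable abbrev idealPre : PresheafOfModules.{u} (R ⋙ forget₂ CommRingCat RingCat) :=
  (idealSub R x I).toPresheafOfModules

/-- the inclusion of the presheaf of ideals -/
noncomputable abbrev incl :
    idealPre R x I ⟶ PresheafOfModules.unit (R ⋙ forget₂ CommRingCat RingCat) :=
  (idealSub R x I).ι

lemma incl_app (V : Opens X) (s : (idealPre R x I).obj (op V)) :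
    (incl R x I).app (op V) s = s.1 := rfl

lemma locInj_incl : LocInj (Opens.grothendieckTopology X) (incl R x I) := by
  intro U s hs
  refine ⟨⊤, GrothendieckTopology.top_mem _ _, fun V g _ => ?_⟩
  have h0 : s = 0 := Subtype.ext hs
  rw [h0, map_zero]

/-- the germ of a section of the presheaf of ideals, as an element of `I` -/
noncomputable def gI (V : Opens X) (hx : x ∈ V) (s : (idealPre R x I).obj (op V)) : I :=
  ⟨R.germ V x hx s.1, s.2 hx⟩

lemma gI_add (V : Opens X) (hx : x ∈ V) (s s' : (idealPre R x I).obj (op V)) :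
    gI R x I V hx (s + s') = gI R x I V hx s + gI R x I V hx s' :=
  Subtype.ext (map_add (R.germ V x hx).hom s.1 s'.1)

lemma gI_smul (V : Opens X) (hx : x ∈ V) (r : R.obj (op V)) (s : (idealPre R x I).obj (op V)) :
    gI R x I V hx (r • s) = R.germ V x hx r • gI R x I V hx s :=
  Subtype.ext (map_mul (R.germ V x hx).hom r s.1)

lemma gI_rs {U V : Opens X} (h : V ≤ U) (hx : x ∈ V) (s : (idealPre R x I).obj (op U)) :
    gI R x I V hx (rs (idealPre R x I) h s) = gI R x I U (h hx) s :=
  Subtype.ext (by
    show R.germ V x hx (R.map (homOfLE h).op s.1) = R.germ U x (h hx) s.1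
    exact TopCat.Presheaf.germ_res_apply R (homOfLE h) x hx s.1)

variable (N : PresheafOfModules.{u} (R ⋙ forget₂ CommRingCat RingCat))

/-- the comparison map for the presheaf of ideals -/
noncomputable def BI (V : Opens X) (hx : x ∈ V) :
    (idealPre R x I ⊗ N).obj (op V) →+ TensorProduct (R.stalk x) I (St N x) :=
  TensorProduct.liftAddHom
    (AddMonoidHom.mk' (fun s => AddMonoidHom.mk'
      (fun n => gI R x I V hx s ⊗ₜ[R.stalk x] gm N x V hx n)
      (fun n n' => by rw [map_add, tmul_add]))
      (fun s s' => by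
        ext n
        show gI R x I V hx (s + s') ⊗ₜ[R.stalk x] gm N x V hx n = _
        rw [gI_add, add_tmul]
        rfl))
    (fun r s n => by
      show gI R x I V hx (r • s) ⊗ₜ[R.stalk x] gm N x V hx n =
        gI R x I V hx s ⊗ₜ[R.stalk x] gm N x V hx (r • n)
      rw [gI_smul, gm_smul, smul_tmul])

lemma BI_tmul (V : Opens X) (hx : x ∈ V) (s : (idealPre R x I).obj (op V)) (n : N.obj (op V)) :
    BI R x I N V hx (s ⊗ₜ n) = gI R x I V hx s ⊗ₜ[R.stalk x] gm N x V hx n := rfl

lemma BI_rs {U V : Opens X} (h : V ≤ U) (hx : x ∈ V) (t : (idealPre R x I ⊗ N).obj (op U)) :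
    BI R x I N V hx (rs (idealPre R x I ⊗ N) h t) = BI R x I N U (h hx) t := by
  induction t using TensorProduct.induction_on with
  | zero => rw [map_zero, map_zero, map_zero]
  | tmul s n => rw [rs_tmul, BI_tmul, BI_tmul, gI_rs, gm_rs]
  | add s t hs ht => rw [map_add, map_add, map_add, hs, ht]

/-- every element of `I ⊗ N_x` comes from a section of the tensor product presheaf -/
lemma exists_BI_eq (τ : TensorProduct (R.stalk x) I (St N x)) :
    ∃ (V : Opens X) (hx : x ∈ V) (t : (idealPre R x I ⊗ N).obj (op V)),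
      BI R x I N V hx t = τ := by
  induction τ using TensorProduct.induction_on with
  | zero => exact ⟨⊤, trivial, 0, map_zero _⟩
  | tmul i ν =>
    obtain ⟨U, hU, r, hr⟩ := TopCat.Presheaf.exists_germ_eq R i.1
    obtain ⟨V, hV, n, rfl⟩ := exists_gm_eq N x ν
    have hx : x ∈ U ⊓ V := ⟨hU, hV⟩
    have hr' : ∀ hx' : x ∈ U ⊓ V, R.germ (U ⊓ V) x hx' (R.map (homOfLE inf_le_left).op r) = i.1 :=
      fun hx' => (TopCat.Presheaf.germ_res_apply R (homOfLE inf_le_left) x hx' r).trans hr
    let s : (idealPre R x I).obj (op (U ⊓ V)) :=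
      ⟨R.map (homOfLE inf_le_left).op r, fun hx' => by
        show R.germ (U ⊓ V) x hx' (R.map (homOfLE inf_le_left).op r) ∈ I
        rw [hr' hx']
        exact i.2⟩
    refine ⟨U ⊓ V, hx, s ⊗ₜ rs N inf_le_right n, ?_⟩
    rw [BI_tmul, gm_rs]
    congr 1
    exact Subtype.ext (hr' hx)
  | add τ τ' h h' =>
    obtain ⟨V, hV, t, rfl⟩ := h
    obtain ⟨V', hV', t', rfl⟩ := h'
    refine ⟨V ⊓ V', ⟨hV, hV'⟩, rs _ inf_le_left t + rs _ inf_le_right t', ?_⟩
    rw [map_add, BI_rs, BI_rs]

/-- the unit presheaf of modules -/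
noncomputable abbrev UU : PresheafOfModules.{u} (R ⋙ forget₂ CommRingCat RingCat) :=
  PresheafOfModules.unit (R ⋙ forget₂ CommRingCat RingCat)

/-- `r ⊗ n ↦ r • n` on sections -/
noncomputable def lidV (V : Opens X) : (UU R ⊗ N).obj (op V) →+ N.obj (op V) :=
  (TensorProduct.lid ((R ⋙ forget₂ CommRingCat RingCat).obj (op V)) (N.obj (op V))).toLinearMap.toAddMonoidHom

lemma lidV_tmul (V : Opens X) (r : (UU R).obj (op V)) (n : N.obj (op V)) :
    lidV R N V (r ⊗ₜ n) = (show (R ⋙ forget₂ CommRingCat RingCat).obj (op V) from r) • n := rfl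

lemma eq_one_tmul_lidV (V : Opens X) (u : (UU R ⊗ N).obj (op V)) :
    u = (1 : (R ⋙ forget₂ CommRingCat RingCat).obj (op V)) ⊗ₜ lidV R N V u :=
  ((TensorProduct.lid ((R ⋙ forget₂ CommRingCat RingCat).obj (op V))
    (N.obj (op V))).symm_apply_apply u).symm

lemma gm_lidV (V : Opens X) (hx : x ∈ V) (t : (idealPre R x I ⊗ N).obj (op V)) :
    gm N x V hx (lidV R N V ((incl R x I ▷ N).app (op V) t)) =
      TensorProduct.lid (R.stalk x) (St N x)
        ((I.subtype).rTensor (St N x) (BI R x I N V hx t)) := by
  induction t using TensorProduct.induction_on with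
  | zero => rw [map_zero, map_zero, map_zero, map_zero, map_zero, map_zero]
  | tmul s n =>
    rw [whiskerRight_app_tmul, incl_app, lidV_tmul, gm_smul, BI_tmul, LinearMap.rTensor_tmul,
      TensorProduct.lid_tmul]
    rfl
  | add s t hs ht => rw [map_add, map_add, map_add, map_add, map_add, map_add, hs, ht]

/-- if tensoring the inclusion of the presheaf of ideals with `N` is locally injective, then
`I ⊗ N_x → O_x ⊗ N_x` is injective -/
theorem rTensor_injective_of_locInj
    (hLI : LocInj (Opens.grothendieckTopology X) (incl R x I ▷ N)) :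
    Function.Injective ((I.subtype).rTensor (St N x)) := by
  rw [injective_iff_map_eq_zero]
  intro τ hτ
  obtain ⟨V, hx, t, rfl⟩ := exists_BI_eq R x I N τ
  have h1 : gm N x V hx (lidV R N V ((incl R x I ▷ N).app (op V) t)) = gm N x V hx 0 := by
    rw [gm_lidV, hτ, map_zero, map_zero]
  obtain ⟨W, hW, hWV, _, e⟩ := gm_eq' N x hx hx _ 0 h1
  have h3 : rs (UU R ⊗ N) hWV ((incl R x I ▷ N).app (op V) t) = 0 := by
    rw [eq_one_tmul_lidV R N V ((incl R x I ▷ N).app (op V) t), rs_tmul, e, map_zero, tmul_zero]
  have h4 : (incl R x I ▷ N).app (op W) (rs (idealPre R x I ⊗ N) hWV t) = 0 := by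
    rw [← h3]
    exact (res_naturality (incl R x I ▷ N) (homOfLE hWV).op t).symm
  obtain ⟨S, hS, hS'⟩ := hLI W (rs _ hWV t) h4
  obtain ⟨W', g, hg, hW'⟩ := hS x hW
  have h5 : rs (idealPre R x I ⊗ N) g.le (rs _ hWV t) = 0 := hS' g hg
  rw [← BI_rs R x I N hWV hW, ← BI_rs R x I N g.le hW', h5, map_zero]

section Sheaf

open Groth.Agent.Helper9.TensorSh Groth.Agent.Helper9.StalkTensor4 AlgebraicGeometry

variable {O : Sheaf (Opens.grothendieckTopology X) CommRingCat.{u}}

/-- the stalks of a flat sheaf of modules on a ringed space are flat -/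
theorem flat_stalk_of_isFlat (F : ModSite.Mod O) (hF : ModSite.IsFlat F) (x : X) :
    Module.Flat (TopCat.Presheaf.stalk (C := CommRingCat.{u}) O.obj x)
      (St (R := O.obj) ((ι O).obj F) x) := by
  rw [Module.Flat.iff_rTensor_injective']
  intro I
  exact rTensor_injective_of_locInj O.obj x I ((ι O).obj F)
    (locInj_whiskerRight_of_isFlat (incl O.obj x I) (locInj_incl O.obj x I) F hF)

end Sheaf

/-- a module on a scheme which is flat for the tensor product is stalkwise flat -/
theorem stalkwise_of_isFlat {X : AlgebraicGeometry.Scheme.{u}} (F : X.Modules)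
    (hF : ModSite.IsFlat (O := X.sheaf) F) : FlatMod.IsFlat F :=
  fun x => @flat_stalk_of_isFlat X.toTopCat X.sheaf F hF x

end Groth.Agent.Helper9.StalkTensor5
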