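import Mathlib
import Groth.Prelude.Def_DTor2
import Groth.Prelude.Def_DCoh4
import Groth.Agent.Helper9.LTM2
import Groth.Agent.Helper9.StalkTensor5

/-!
# Tor amplitude and distinguished triangles
-/

set_option autoImplicit false
set_option linter.style.haveILetI false
set_option linter.unusedSectionVars false

namespace Groth.Agent.Helper9.LTM3

open CategoryTheory Category Limits DerivedCategory AlgebraicGeometry Pretriangulated
  CochainComplex Groth.Agent.Helper9.LTM1 Groth.Agent.Helper9.LTM2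

attribute [local instance] HasDerivedCategory.standard

universe u

section Abstract

variable {A : Type*} [Category A] [Abelian A] [HasDerivedCategory A]

/-- the cohomology of a cone vanishes in degree `i` if `H^i` of the target and `H^{i+1}` of the
source do -/
lemma isZero_homology_mappingCone {K L : CochainComplex A ℤ} (ψ : K ⟶ L) (i : ℤ)
    (h₂ : IsZero (L.homology i)) (h₁ : IsZero (K.homology (i + 1))) :
    IsZero ((mappingCone ψ).homology i) := by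
  have h := CochainComplex.homologyMap_exact₃_of_distTriang (mappingCone.triangle ψ)
    (DerivedCategory.mappingCone_triangle_distinguished ψ) i (i + 1) rfl
  exact h.isZero_of_both_zeros (h₂.eq_of_src _ _) (h₁.eq_of_tgt _ _)

end Abstract

variable {X : Scheme.{u}}

/-- K-flat resolutions on a scheme -/
theorem exists_kflat_resolution (G : CochainComplex X.Modules ℤ) :
    ∃ (K : CochainComplex X.Modules ℤ) (q : K ⟶ G), DCoh.IsKFlat K ∧
      (∀ n : ℤ, FlatMod.IsFlat (K.X n)) ∧ QuasiIso q ∧ ∀ n : ℤ, Epi (q.f n) := by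
  obtain ⟨K, q, hK, hfl, hq, hepi⟩ :=
    @Groth.Agent.Helper9.KFlat18.exists_kflat_resolution _ _ _ X.sheaf G
  exact ⟨K, q, hK, fun n => Groth.Agent.Helper9.StalkTensor5.stalkwise_of_isFlat (K.X n) (hfl n),
    hq, hepi⟩

/-- the third vertex of a distinguished triangle whose first two vertices are represented by
K-flat complexes is represented by a K-flat cone -/
theorem exists_cone_rep (T : Triangle (DCoh.D X)) (hT : T ∈ distTriang (DCoh.D X))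
    (E₁ E₂ : CochainComplex X.Modules ℤ)
    (e₁ : DCoh.toD X E₁ ≅ T.obj₁) (e₂ : DCoh.toD X E₂ ≅ T.obj₂) :
    ∃ (E' : CochainComplex X.Modules ℤ) (s : E' ⟶ E₁) (g : E' ⟶ E₂), DCoh.IsKFlat E' ∧
      QuasiIso s ∧ Nonempty (DCoh.toD X (mappingCone g) ≅ T.obj₃) := by
  let φ : Q.obj E₁ ⟶ Q.obj E₂ := e₁.hom ≫ T.mor₁ ≫ e₂.inv
  obtain ⟨X', s, hs, g, hφ⟩ := DerivedCategory.right_fac φ
  obtain ⟨E', r, hE', -, hr, -⟩ := exists_kflat_resolution X'
  haveI : QuasiIso s := (DerivedCategory.isIso_Q_map_iff_quasiIso _ s).1 hs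
  haveI : QuasiIso r := hr
  haveI : QuasiIso (r ≫ s) := inferInstance
  have hrs : IsIso (Q.map (r ≫ s)) :=
    (DerivedCategory.isIso_Q_map_iff_quasiIso _ (r ≫ s)).2 inferInstance
  refine ⟨E', r ≫ s, r ≫ g, hE', inferInstance, ?_⟩
  let T' : Triangle (DCoh.D X) := Q.mapTriangle.obj (mappingCone.triangle (r ≫ g))
  have hT' : T' ∈ distTriang (DCoh.D X) := DerivedCategory.mappingCone_triangle_distinguished _
  let a : T'.obj₁ ≅ T.obj₁ := @asIso _ _ _ _ (Q.map (r ≫ s)) hrs ≪≫ e₁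
  have comm : T'.mor₁ ≫ e₂.hom = a.hom ≫ T.mor₁ := by
    show Q.map (r ≫ g) ≫ e₂.hom = (Q.map (r ≫ s) ≫ e₁.hom) ≫ T.mor₁
    have h1 : Q.map s ≫ φ = Q.map g := by rw [hφ, IsIso.hom_inv_id_assoc]
    rw [Functor.map_comp, Functor.map_comp, ← h1]
    simp only [φ, assoc, Iso.inv_hom_id, comp_id]
  exact ⟨Triangle.π₃.mapIso (isoTriangleOfIso₁₂ T' T hT' hT a e₂ comm)⟩

/-- vanishing of the cohomology of `T.obj₃ ⊗^L F` -/
theorem isZero_HD_obj₃ (T : Triangle (DCoh.D X)) (hT : T ∈ distTriang (DCoh.D X))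
    (E₁ E₂ : CochainComplex X.Modules ℤ) (h₁ : DCoh.IsKFlat E₁) (h₂ : DCoh.IsKFlat E₂)
    (e₁ : DCoh.toD X E₁ ≅ T.obj₁) (e₂ : DCoh.toD X E₂ ≅ T.obj₂)
    (F : X.Modules) [DCoh.HasLTensorMod F] (i : ℤ)
    (z₂ : IsZero (((tensF F).obj E₂).homology i))
    (z₁ : IsZero (((tensF F).obj E₁).homology (i + 1))) :
    IsZero (DCoh.HD ((DCoh.LTensorMod F).obj T.obj₃) i) := by
  obtain ⟨E', s, g, hE', hs, ⟨e₃⟩⟩ := exists_cone_rep T hT E₁ E₂ e₁ e₂
  have hc : DCoh.IsKFlat (mappingCone g) :=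
    (@Groth.Agent.Helper9.KFlat5.isKFlat_cone _ _ _ X.sheaf _ _ g).1 hE' h₂
  refine IsZero.of_iso ?_ (hdIso F (mappingCone g) hc e₃ i)
  have hq : QuasiIso ((tensF F).map s) := quasiIso_tensF_map F s hE' h₁ hs
  have z₁' : IsZero (((tensF F).obj E').homology (i + 1)) :=
    z₁.of_iso (@asIso _ _ _ _ (HomologicalComplex.homologyMap ((tensF F).map s) (i + 1))
      ((quasiIsoAt_iff_isIso_homologyMap _ _).1 inferInstance))
  exact (isZero_homology_mappingCone ((tensF F).map g) i z₂ z₁').of_iso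
    ((HomologicalComplex.homologyFunctor _ _ i).mapIso
      (mappingCone.mapHomologicalComplexIso g (DCoh.tensorRightMod F)))

/-- shifting a representative -/
noncomputable def shiftRep {E : CochainComplex X.Modules ℤ} {K : DCoh.D X}
    (e : DCoh.toD X E ≅ K) (n : ℤ) : DCoh.toD X (E⟦n⟧) ≅ K⟦n⟧ :=
  (Q.commShiftIso n).app E ≪≫ (CategoryTheory.shiftFunctor (DCoh.D X) n).mapIso e

theorem isKFlat_shift {E : CochainComplex X.Modules ℤ} (hE : DCoh.IsKFlat E) (n : ℤ) :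
    DCoh.IsKFlat (E⟦n⟧) :=
  @Groth.Agent.Helper9.KFlat8.isKFlat_shift _ _ _ X.sheaf E hE n

/-- the three cases of the behaviour of tor amplitude in distinguished triangles -/
theorem torAmplitude_triangle (T : Triangle (DCoh.D X)) (hT : T ∈ distTriang (DCoh.D X))
    (a b : ℤ) :
    (DCoh.HasFlatAmplitudeIn (a + 1) (b + 1) T.obj₁ → DCoh.HasFlatAmplitudeIn a b T.obj₂ →
      DCoh.HasTorAmplitudeIn a b T.obj₃) ∧
    (DCoh.HasFlatAmplitudeIn a b T.obj₁ → DCoh.HasFlatAmplitudeIn a b T.obj₃ →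
      DCoh.HasTorAmplitudeIn a b T.obj₂) ∧
    (DCoh.HasFlatAmplitudeIn (a + 1) (b + 1) T.obj₂ → DCoh.HasFlatAmplitudeIn a b T.obj₃ →
      DCoh.HasTorAmplitudeIn (a + 1) (b + 1) T.obj₁) := by
  refine ⟨?_, ?_, ?_⟩
  · rintro ⟨E₁, hE₁, hfl₁, ⟨e₁⟩⟩ ⟨E₂, hE₂, hfl₂, ⟨e₂⟩⟩ F _ i hi
    have k₁ := isKFlat_of_vanishesAbove E₁ (b + 1) (fun j hj => hE₁ j (Or.inr hj)) hfl₁
    have k₂ := isKFlat_of_vanishesAbove E₂ b (fun j hj => hE₂ j (Or.inr hj)) hfl₂
    exact isZero_HD_obj₃ T hT E₁ E₂ k₁ k₂ e₁ e₂ F i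
      (isZero_homology_tensF F E₂ i (hE₂ i hi))
      (isZero_homology_tensF F E₁ (i + 1) (hE₁ (i + 1) (by omega)))
  · rintro ⟨E₁, hE₁, hfl₁, ⟨e₁⟩⟩ ⟨E₃, hE₃, hfl₃, ⟨e₃⟩⟩ F _ i hi
    have k₁ := isKFlat_of_vanishesAbove E₁ b (fun j hj => hE₁ j (Or.inr hj)) hfl₁
    have k₃ := isKFlat_of_vanishesAbove E₃ b (fun j hj => hE₃ j (Or.inr hj)) hfl₃
    exact isZero_HD_obj₃ T.invRotate (inv_rot_of_distTriang T hT) (E₃⟦(-1 : ℤ)⟧) E₁
      (isKFlat_shift k₃ (-1)) k₁ (shiftRep e₃ (-1)) e₁ F i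
      (isZero_homology_tensF F E₁ i (hE₁ i hi))
      (isZero_homology_tensF F (E₃⟦(-1 : ℤ)⟧) (i + 1) (hE₃ (i + 1 + -1) (by omega)))
  · rintro ⟨E₂, hE₂, hfl₂, ⟨e₂⟩⟩ ⟨E₃, hE₃, hfl₃, ⟨e₃⟩⟩ F _ i hi
    have k₂ := isKFlat_of_vanishesAbove E₂ (b + 1) (fun j hj => hE₂ j (Or.inr hj)) hfl₂
    have k₃ := isKFlat_of_vanishesAbove E₃ b (fun j hj => hE₃ j (Or.inr hj)) hfl₃
    exact isZero_HD_obj₃ T.invRotate.invRotate
      (inv_rot_of_distTriang _ (inv_rot_of_distTriang T hT)) (E₂⟦(-1 : ℤ)⟧) (E₃⟦(-1 : ℤ)⟧)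
      (isKFlat_shift k₂ (-1)) (isKFlat_shift k₃ (-1)) (shiftRep e₂ (-1)) (shiftRep e₃ (-1)) F i
      (isZero_homology_tensF F (E₃⟦(-1 : ℤ)⟧) i (hE₃ (i + -1) (by omega)))
      (isZero_homology_tensF F (E₂⟦(-1 : ℤ)⟧) (i + 1) (hE₂ (i + 1 + -1) (by omega)))

end Groth.Agent.Helper9.LTM3
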