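import Mathlib
import Groth.Prelude.Def_KFlatSite
import Groth.Agent.Helper9.LDeriv4
import Groth.Agent.Helper9.LDeriv7

/-!
# Termwise functors sending acyclic K-flat complexes to acyclic complexes have left derived functors
-/

set_option autoImplicit false
set_option linter.style.haveILetI false
set_option linter.unusedSectionVars false

namespace Groth.Agent.Helper9.LDeriv8

open CategoryTheory Category Limits HomologicalComplex CochainComplex ObjectProperty
  Groth.Agent.Helper9.LDeriv3 Groth.Agent.Helper9.LDeriv4

universe u

variable {C : Type u} [SmallCategory C] {J : GrothendieckTopology C} {O : Sheaf J CommRingCat.{u}}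
  {A' : Type*} [Category A'] [Abelian A'] [HasDerivedCategory A']
  (T : ModSite.Mod O ⥤ A') [T.Additive]

/-- if `T` sends acyclic K-flat complexes to acyclic complexes, then the termwise extension of `T`
to the homotopy category has a total left derived functor -/
theorem hasLeftDerivedFunctor
    (hT : ∀ K : CochainComplex (ModSite.Mod O) ℤ, ModSite.IsKFlat K → K.Acyclic →
      ((T.mapHomologicalComplex (ComplexShape.up ℤ)).obj K).Acyclic) :
    (T.mapHomotopyCategory (ComplexShape.up ℤ) ⋙ DerivedCategory.Qh).HasLeftDerivedFunctor
      (HomotopyCategory.quasiIso (ModSite.Mod O) (ComplexShape.up ℤ)) := by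
  rw [HomotopyCategory.quasiIso_eq_trW_subcategoryAcyclic]
  haveI := Groth.Agent.Helper9.LDeriv2.isLeftDerivabilityStructure (hasRelRes O)
  refine Groth.Agent.Helper9.LDeriv7.hasLeftDerivedFunctor_of_derives
    ((KF O).triangulatedLocalizerMorphism (HomotopyCategory.subcategoryAcyclic (ModSite.Mod O))) ?_
  intro X Y s hs
  have hs' : (HomotopyCategory.subcategoryAcyclic (ModSite.Mod O)).trW s.hom :=
    ((KF O).triangulatedLocalizerMorphism
      (HomotopyCategory.subcategoryAcyclic (ModSite.Mod O))).map s hs
  obtain ⟨f, hf⟩ : ∃ f : X.obj.as ⟶ Y.obj.as, (HomotopyCategory.quotient _ _).map f = s.hom :=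
    (HomotopyCategory.quotient _ _).map_surjective s.hom
  rw [← HomotopyCategory.quasiIso_eq_trW_subcategoryAcyclic] at hs'
  rw [← hf] at hs'
  have hq : QuasiIso f := (HomotopyCategory.quotient_map_mem_quasiIso_iff f).1 hs'
  have := quasiIso_map_of_isKFlat T hT f X.property Y.property hq
  show IsIso (DerivedCategory.Qh.map ((T.mapHomotopyCategory (ComplexShape.up ℤ)).map s.hom))
  rw [← hf]
  show IsIso (DerivedCategory.Qh.map ((HomotopyCategory.quotient _ _).map
    ((T.mapHomologicalComplex (ComplexShape.up ℤ)).map f)))
  rw [DerivedCategory.isIso_Qh_map_iff, HomotopyCategory.quotient_map_mem_quasiIso_iff]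
  exact this

end Groth.Agent.Helper9.LDeriv8
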