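import Mathlib
import Groth.Prelude.Def_DerSch

/-! Skyscraper modules on a scheme: for `x : X` and a module `N` over the local ring `O_{X,x}`,
the sheaf of modules whose sections over `U` are the functions `x ∈ U → N`. -/

set_option autoImplicit false
set_option linter.style.haveILetI false
set_option linter.unusedVariables false
universe u

namespace Groth.Agent.Helper9.SkyMod1

open CategoryTheory CategoryTheory.Limits AlgebraicGeometry Opposite TopologicalSpace

variable {X : Scheme.{u}} (x : X) (N : ModuleCat.{u} (X.presheaf.stalk x))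

/-- the underlying presheaf of abelian groups -/
noncomputable def skyPresheaf : (Opens X)ᵒᵖ ⥤ Ab.{u} where
  obj U := AddCommGrpCat.of (PLift (x ∈ U.unop) → N)
  map {U V} i := AddCommGrpCat.ofHom
    { toFun := fun φ h => φ ⟨i.unop.le h.down⟩
      map_zero' := rfl
      map_add' := fun _ _ => rfl }
  map_id _ := rfl
  map_comp _ _ := rfl

lemma skyPresheaf_map_apply {U V : (Opens X)ᵒᵖ} (i : U ⟶ V) (φ : PLift (x ∈ U.unop) → N)
    (h : PLift (x ∈ V.unop)) :
    ((skyPresheaf x N).map i φ : PLift (x ∈ V.unop) → N) h = φ ⟨i.unop.le h.down⟩ := rfl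

/-- the module structure on sections -/
noncomputable instance skyModule (U : (Opens X)ᵒᵖ) :
    Module ((X.ringCatSheaf.obj).obj U) ((skyPresheaf x N).obj U) :=
  @Pi.module (PLift (x ∈ U.unop)) (fun _ => N) ((X.ringCatSheaf.obj).obj U) _ _
    (fun h => Module.compHom N (X.presheaf.germ U.unop x h.down).hom)

lemma sky_smul_apply (U : (Opens X)ᵒᵖ) (r : (X.ringCatSheaf.obj).obj U)
    (φ : (skyPresheaf x N).obj U) (h : PLift (x ∈ U.unop)) :
    ((r • φ : (skyPresheaf x N).obj U) : PLift (x ∈ U.unop) → N) h =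
      (X.presheaf.germ U.unop x h.down r : X.presheaf.stalk x) •
        (φ : PLift (x ∈ U.unop) → N) h := rfl

lemma sky_map_smul ⦃U V : (Opens X)ᵒᵖ⦄ (i : U ⟶ V) (r : (X.ringCatSheaf.obj).obj U)
    (φ : (skyPresheaf x N).obj U) :
    (skyPresheaf x N).map i (r • φ) = (X.ringCatSheaf.obj).map i r • (skyPresheaf x N).map i φ := by
  funext h
  show (X.presheaf.germ U.unop x (i.unop.le h.down) r : X.presheaf.stalk x) •
      ((φ : PLift (x ∈ U.unop) → N) ⟨i.unop.le h.down⟩ : N) =
    (X.presheaf.germ V.unop x h.down (X.presheaf.map i r) : X.presheaf.stalk x) •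
      ((φ : PLift (x ∈ U.unop) → N) ⟨i.unop.le h.down⟩ : N)
  have key : X.presheaf.germ V.unop x h.down (X.presheaf.map i.unop.op (show X.presheaf.obj (op U.unop) from r)) =
      X.presheaf.germ U.unop x (i.unop.le h.down) (show X.presheaf.obj (op U.unop) from r) :=
    TopCat.Presheaf.germ_res_apply X.presheaf i.unop x h.down _
  exact congrArg (fun t : X.presheaf.stalk x => t • ((φ : PLift (x ∈ U.unop) → N) ⟨i.unop.le h.down⟩ : N)) key.symm

/-- the presheaf of modules -/
noncomputable def skyPMod : PresheafOfModules.{u} X.ringCatSheaf.obj :=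
  PresheafOfModules.ofPresheaf (skyPresheaf x N) (sky_map_smul x N)

lemma skyPresheaf_isSheaf : TopCat.Presheaf.IsSheaf (skyPresheaf x N) := by
  rw [TopCat.Presheaf.isSheaf_iff_isSheafUniqueGluing]
  intro ι U sf hsf
  have hc : ∀ (i j : ι) (hi : x ∈ U i) (hj : x ∈ U j),
      (sf i : PLift (x ∈ U i) → N) ⟨hi⟩ = (sf j : PLift (x ∈ U j) → N) ⟨hj⟩ := by
    intro i j hi hj
    have := congrFun (hsf i j) ⟨(⟨hi, hj⟩ : x ∈ U i ⊓ U j)⟩
    exact this
  let s : PLift (x ∈ iSup U) → N := fun h =>
    (sf (Opens.mem_iSup.1 h.down).choose : PLift (x ∈ U _) → N)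
      ⟨(Opens.mem_iSup.1 h.down).choose_spec⟩
  refine ⟨s, ?_, ?_⟩
  · intro i
    funext h
    exact hc _ _ _ _
  · intro s' hs'
    funext h
    have h1 := congrFun (hs' (Opens.mem_iSup.1 h.down).choose)
      ⟨(Opens.mem_iSup.1 h.down).choose_spec⟩
    exact h1

/-- the skyscraper module -/
noncomputable def sky : X.Modules where
  val := skyPMod x N
  isSheaf := skyPresheaf_isSheaf x N

end Groth.Agent.Helper9.SkyMod1
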