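import Mathlib
import Groth.Prelude.Def_DerSch
import Groth.Agent.Helper9.SkyMod1

/-! The skyscraper functor and its adjunction with the stalk functor. -/

set_option autoImplicit false
set_option linter.style.haveILetI false
set_option linter.unusedVariables false
universe u

namespace Groth.Agent.Helper9.SkyMod2

open CategoryTheory CategoryTheory.Limits AlgebraicGeometry Opposite TopologicalSpace
open Groth.Agent.Helper9.SkyMod1

variable {X : Scheme.{u}} (x : X)

lemma germ_smul (M : X.Modules) (U : X.Opens) (hx : x ∈ U) (a : Γ(X, U)) (b : Γ(M, U)) :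
    M.presheaf.germ U x hx (a • b) = X.presheaf.germ U x hx a • M.presheaf.germ U x hx b :=
  PresheafOfModules.germ_smul (R := X.presheaf)
    (show PresheafOfModules (X.presheaf ⋙ forget₂ CommRingCat RingCat) from M.val) x U hx a b

section Functor

variable {N N' N'' : ModuleCat.{u} (X.presheaf.stalk x)}

/-- functoriality of the skyscraper -/
noncomputable def skyMap (g : N ⟶ N') : sky x N ⟶ sky x N' :=
  ⟨PresheafOfModules.homMk
    { app := fun U => AddCommGrpCat.ofHom
        { toFun := fun φ h => g.hom (φ h)
          map_zero' := by funext h; exact map_zero g.hom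
          map_add' := fun φ φ' => by funext h; exact map_add g.hom _ _ }
      naturality := fun U V i => rfl }
    (fun U r φ => by
      funext h
      exact map_smul g.hom _ _)⟩

lemma skyMap_app_apply (g : N ⟶ N') (U : X.Opens) (φ : Γ(sky x N, U)) (h : PLift (x ∈ U)) :
    ((skyMap x g).app U φ : PLift (x ∈ U) → N') h = g.hom ((φ : PLift (x ∈ U) → N) h) := rfl

end Functor

/-- the skyscraper functor -/
noncomputable def skyFunctor : ModuleCat.{u} (X.presheaf.stalk x) ⥤ X.Modules where
  obj N := sky x N
  map g := skyMap x g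
  map_id N := by
    ext U φ
    rfl
  map_comp g g' := by
    ext U φ
    rfl

section Adj

variable (M : X.Modules) (N : ModuleCat.{u} (X.presheaf.stalk x))

/-- from a linear map out of the stalk to a morphism into the skyscraper -/
noncomputable def toSky (g : (DerSch.stalkFunctor X x).obj M ⟶ N) : M ⟶ sky x N :=
  ⟨PresheafOfModules.homMk
    { app := fun U => AddCommGrpCat.ofHom
        { toFun := fun s h => g.hom (M.presheaf.germ U.unop x h.down s)
          map_zero' := by
            funext h
            exact (congrArg g.hom (map_zero (M.presheaf.germ U.unop x h.down).hom)).trans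
              (map_zero g.hom)
          map_add' := fun s s' => by
            funext h
            exact (congrArg g.hom (map_add (M.presheaf.germ U.unop x h.down).hom s s')).trans
              (map_add g.hom _ _) }
      naturality := fun U V i => by
        ext s
        funext h
        show g.hom (M.presheaf.germ V.unop x h.down (M.presheaf.map i s)) =
          g.hom (M.presheaf.germ U.unop x (i.unop.le h.down) s)
        congr 1
        exact TopCat.Presheaf.germ_res_apply M.presheaf i.unop x h.down s }
    (fun U r s => by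
      funext h
      show g.hom (M.presheaf.germ U.unop x h.down (r • s)) =
        (X.presheaf.germ U.unop x h.down r : X.presheaf.stalk x) •
          g.hom (M.presheaf.germ U.unop x h.down s)
      exact (congrArg g.hom (germ_smul x M U.unop h.down r s)).trans (map_smul g.hom _ _))⟩

lemma toSky_app_apply (g : (DerSch.stalkFunctor X x).obj M ⟶ N) (U : X.Opens) (s : Γ(M, U))
    (h : PLift (x ∈ U)) :
    ((toSky x M N g).app U s : PLift (x ∈ U) → N) h = g.hom (M.presheaf.germ U x h.down s) := rfl

/-- the cocone with vertex `N` attached to a morphism into the skyscraper -/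
noncomputable def cocone (ψ : M ⟶ sky x N) :
    Cocone ((OpenNhds.inclusion x).op ⋙ M.presheaf) where
  pt := AddCommGrpCat.of N
  ι :=
    { app := fun U => AddCommGrpCat.ofHom
        { toFun := fun s => ((ψ.app U.unop.1 s : Γ(sky x N, U.unop.1)) :
            PLift (x ∈ U.unop.1) → N) ⟨U.unop.2⟩
          map_zero' := congrFun (map_zero (ψ.app U.unop.1).hom) ⟨U.unop.2⟩
          map_add' := fun s s' => congrFun (map_add (ψ.app U.unop.1).hom s s') ⟨U.unop.2⟩ }
      naturality := fun U V i => by
        ext s
        have h1 := ConcreteCategory.congr_hom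
          ((Scheme.Modules.Hom.mapPresheaf ψ).naturality ((OpenNhds.inclusion x).op.map i)) s
        exact congrFun h1 ⟨V.unop.2⟩ }

/-- the additive map out of the stalk -/
noncomputable def fromSkyAb (ψ : M ⟶ sky x N) : M.presheaf.stalk x ⟶ AddCommGrpCat.of N :=
  colimit.desc _ (cocone x M N ψ)

lemma fromSkyAb_germ (ψ : M ⟶ sky x N) (U : X.Opens) (hx : x ∈ U) (s : Γ(M, U)) :
    fromSkyAb x M N ψ (M.presheaf.germ U x hx s) =
      ((ψ.app U s : Γ(sky x N, U)) : PLift (x ∈ U) → N) ⟨hx⟩ :=
  ConcreteCategory.congr_hom (colimit.ι_desc (cocone x M N ψ) (op (⟨U, hx⟩ : OpenNhds x))) s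

lemma fromSkyAb_smul (ψ : M ⟶ sky x N) (r : X.presheaf.stalk x) (m : M.presheaf.stalk x) :
    fromSkyAb x M N ψ (r • m) = r • (fromSkyAb x M N ψ m : N) := by
  obtain ⟨U, hxU, a, rfl⟩ := X.presheaf.exists_germ_eq (x := x) r
  obtain ⟨V, hxV, t, rfl⟩ := M.presheaf.exists_germ_eq (x := x) m
  have hxW : x ∈ U ⊓ V := ⟨hxU, hxV⟩
  have ha := X.presheaf.germ_res_apply (homOfLE inf_le_left : U ⊓ V ⟶ U) x hxW a
  have ht := M.presheaf.germ_res_apply (homOfLE inf_le_right : U ⊓ V ⟶ V) x hxW t
  rw [← ha, ← ht]
  generalize X.presheaf.map (homOfLE inf_le_left : U ⊓ V ⟶ U).op a = a'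
  generalize M.presheaf.map (homOfLE inf_le_right : U ⊓ V ⟶ V).op t = t'
  rw [← germ_smul x M (U ⊓ V) hxW a' t', fromSkyAb_germ, fromSkyAb_germ,
    Scheme.Modules.Hom.app_smul]
  rfl

/-- from a morphism into the skyscraper to a linear map out of the stalk -/
noncomputable def fromSky (ψ : M ⟶ sky x N) : (DerSch.stalkFunctor X x).obj M ⟶ N :=
  ModuleCat.ofHom
    { toFun := fun m => fromSkyAb x M N ψ m
      map_add' := fun m m' => map_add (fromSkyAb x M N ψ).hom m m'
      map_smul' := fun r m => fromSkyAb_smul x M N ψ r m }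

lemma fromSky_germ (ψ : M ⟶ sky x N) (U : X.Opens) (hx : x ∈ U) (s : Γ(M, U)) :
    (fromSky x M N ψ).hom (M.presheaf.germ U x hx s) =
      ((ψ.app U s : Γ(sky x N, U)) : PLift (x ∈ U) → N) ⟨hx⟩ :=
  fromSkyAb_germ x M N ψ U hx s

/-- the bijection defining the adjunction -/
noncomputable def homEquiv : ((DerSch.stalkFunctor X x).obj M ⟶ N) ≃ (M ⟶ sky x N) where
  toFun := toSky x M N
  invFun := fromSky x M N
  left_inv g := by
    ext m
    obtain ⟨U, hxU, s, rfl⟩ := M.presheaf.exists_germ_eq (x := x) m
    exact fromSky_germ x M N _ U hxU s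
  right_inv ψ := by
    ext U s
    funext h
    exact fromSky_germ x M N ψ U h.down s

end Adj

/-- the adjunction between the stalk and the skyscraper -/
noncomputable def adj : DerSch.stalkFunctor X x ⊣ skyFunctor x :=
  Adjunction.mkOfHomEquiv
    { homEquiv := fun M N => homEquiv x M N
      homEquiv_naturality_left_symm := fun {M' M N} f ψ => by
        ext m
        obtain ⟨U, hxU, s, rfl⟩ := M'.presheaf.exists_germ_eq (x := x) m
        show (fromSky x M' N (f ≫ ψ)).hom (M'.presheaf.germ U x hxU s) =
          (fromSky x M N ψ).hom ((DerSch.stalkFunctor X x).map f (M'.presheaf.germ U x hxU s))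
        refine (fromSky_germ x M' N (f ≫ ψ) U hxU s).trans ?_
        refine Eq.trans ?_ (congrArg (fromSky x M N ψ).hom
          (DerSch.stalkFunctor_map_germ x f U hxU s)).symm
        exact (fromSky_germ x M N ψ U hxU (f.app U s)).symm
      homEquiv_naturality_right := fun {M N N'} g k => by
        ext U s
        funext h
        rfl }

end Groth.Agent.Helper9.SkyMod2
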