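import Mathlib
import Groth.Prelude.Def_DerSch
import Groth.Agent.Helper9.SkyMod2

/-! Direct image of a skyscraper module, and the stalk of a pullback. -/

set_option autoImplicit false
set_option linter.style.haveILetI false
set_option linter.unusedVariables false
universe u

namespace Groth.Agent.Helper9.SkyMod3

open CategoryTheory CategoryTheory.Limits AlgebraicGeometry Opposite TopologicalSpace
open Groth.Agent.Helper9.SkyMod1 Groth.Agent.Helper9.SkyMod2

variable {X Y : Scheme.{u}} (f : X ⟶ Y) (x : X)

/-- restriction of scalars along the stalk map -/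
noncomputable abbrev res : ModuleCat.{u} (X.presheaf.stalk x) ⥤
    ModuleCat.{u} (Y.presheaf.stalk (f.base x)) :=
  ModuleCat.restrictScalars (f.stalkMap x).hom

variable (N : ModuleCat.{u} (X.presheaf.stalk x))

/-- `f_*` of a skyscraper is a skyscraper: the morphism -/
noncomputable def pushSkyHom :
    (Scheme.Modules.pushforward f).obj (sky x N) ⟶ sky (f.base x) ((res f x).obj N) :=
  ⟨PresheafOfModules.homMk
    { app := fun V => AddCommGrpCat.ofHom
        { toFun := fun φ h => (φ : PLift (x ∈ f ⁻¹ᵁ V.unop) → N) ⟨h.down⟩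
          map_zero' := rfl
          map_add' := fun _ _ => rfl }
      naturality := fun U V i => rfl }
    (fun V r φ => by
      funext h
      show (X.presheaf.germ (f ⁻¹ᵁ V.unop) x h.down (f.app V.unop r) : X.presheaf.stalk x) •
          ((φ : PLift (x ∈ f ⁻¹ᵁ V.unop) → N) ⟨h.down⟩ : N) =
        (f.stalkMap x (Y.presheaf.germ V.unop (f.base x) h.down r) : X.presheaf.stalk x) •
          ((φ : PLift (x ∈ f ⁻¹ᵁ V.unop) → N) ⟨h.down⟩ : N)
      have key := Scheme.Hom.germ_stalkMap_apply f V.unop x h.down r
      exact congrArg (fun t : X.presheaf.stalk x =>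
        t • ((φ : PLift (x ∈ f ⁻¹ᵁ V.unop) → N) ⟨h.down⟩ : N)) key.symm)⟩

/-- `f_*` of a skyscraper is a skyscraper: the inverse -/
noncomputable def pushSkyInv :
    sky (f.base x) ((res f x).obj N) ⟶ (Scheme.Modules.pushforward f).obj (sky x N) :=
  ⟨PresheafOfModules.homMk
    { app := fun V => AddCommGrpCat.ofHom
        { toFun := fun φ h => (φ : PLift (f.base x ∈ V.unop) → N) ⟨h.down⟩
          map_zero' := rfl
          map_add' := fun _ _ => rfl }
      naturality := fun U V i => rfl }
    (fun V r φ => by
      funext h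
      show (f.stalkMap x (Y.presheaf.germ V.unop (f.base x) h.down r) : X.presheaf.stalk x) •
          ((φ : PLift (f.base x ∈ V.unop) → N) ⟨h.down⟩ : N) =
        (X.presheaf.germ (f ⁻¹ᵁ V.unop) x h.down (f.app V.unop r) : X.presheaf.stalk x) •
          ((φ : PLift (f.base x ∈ V.unop) → N) ⟨h.down⟩ : N)
      have key := Scheme.Hom.germ_stalkMap_apply f V.unop x h.down r
      exact congrArg (fun t : X.presheaf.stalk x =>
        t • ((φ : PLift (f.base x ∈ V.unop) → N) ⟨h.down⟩ : N)) key)⟩

/-- `f_*` of a skyscraper is a skyscraper -/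
noncomputable def pushSkyIso :
    (Scheme.Modules.pushforward f).obj (sky x N) ≅ sky (f.base x) ((res f x).obj N) where
  hom := pushSkyHom f x N
  inv := pushSkyInv f x N
  hom_inv_id := by
    ext V φ
    rfl
  inv_hom_id := by
    ext V φ
    rfl

/-- `f_*` of a skyscraper is a skyscraper, functorially -/
noncomputable def pushSkyNatIso :
    skyFunctor x ⋙ Scheme.Modules.pushforward f ≅ res f x ⋙ skyFunctor (f.base x) :=
  NatIso.ofComponents (fun N => pushSkyIso f x N) (fun {N N'} g => by
    ext V φ
    rfl)

end Groth.Agent.Helper9.SkyMod3
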