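import Mathlib
import Groth.Prelude.Def_DerSch
import Groth.Agent.Helper9.SkyMod3

/-! The stalk of a skyscraper, the stalk of a pullback, exactness of stalks. -/

set_option autoImplicit false
set_option linter.style.haveILetI false
set_option linter.unusedVariables false
universe u

namespace Groth.Agent.Helper9.SkyMod4

open CategoryTheory CategoryTheory.Limits AlgebraicGeometry Opposite TopologicalSpace
open Groth.Agent.Helper9.SkyMod1 Groth.Agent.Helper9.SkyMod2 Groth.Agent.Helper9.SkyMod3

variable {X Y : Scheme.{u}} (x : X)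

/-- the stalk functor -/
noncomputable abbrev St : X.Modules ⥤ ModuleCat.{u} (X.presheaf.stalk x) := DerSch.stalkFunctor X x

section Counit

variable (N : ModuleCat.{u} (X.presheaf.stalk x))

lemma counit_app_eq : (adj x).counit.app N = fromSky x (sky x N) N (𝟙 _) := rfl

lemma counit_germ (U : X.Opens) (hx : x ∈ U) (s : Γ(sky x N, U)) :
    ((adj x).counit.app N).hom ((sky x N).presheaf.germ U x hx s) =
      (s : PLift (x ∈ U) → N) ⟨hx⟩ :=
  fromSky_germ x (sky x N) N (𝟙 _) U hx s

lemma counit_injective : Function.Injective ((adj x).counit.app N).hom := by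
  rw [injective_iff_map_eq_zero]
  intro m hm
  obtain ⟨U, hxU, s, rfl⟩ := (sky x N).presheaf.exists_germ_eq (x := x) m
  rw [counit_germ] at hm
  have hs : s = 0 := by
    funext h
    exact hm
  rw [hs, map_zero]
  rfl

lemma counit_surjective : Function.Surjective ((adj x).counit.app N).hom := by
  intro n
  refine ⟨(sky x N).presheaf.germ ⊤ x trivial (fun _ => n : PLift (x ∈ (⊤ : X.Opens)) → N), ?_⟩
  exact counit_germ x N ⊤ trivial _

instance isIso_counit_app : IsIso ((adj x).counit.app N) :=
  (ConcreteCategory.isIso_iff_bijective _).2 ⟨counit_injective x N, counit_surjective x N⟩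

end Counit

instance isIso_counit : IsIso (adj x).counit := NatIso.isIso_of_isIso_app _

/-- the stalk of a skyscraper -/
noncomputable def stalkSkyIso : skyFunctor x ⋙ St x ≅ 𝟭 _ := asIso (adj x).counit

instance : (St x).IsLeftAdjoint := (adj x).isLeftAdjoint
instance : (skyFunctor x).IsRightAdjoint := (adj x).isRightAdjoint

section Pull

variable (f : X ⟶ Y)

/-- extension of scalars along the stalk map -/
noncomputable abbrev ext : ModuleCat.{u} (Y.presheaf.stalk (f.base x)) ⥤
    ModuleCat.{u} (X.presheaf.stalk x) :=
  ModuleCat.extendScalars (f.stalkMap x).hom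

/-- the adjunction `f^* ⋙ stalk ⊣ sky ⋙ f_*` -/
noncomputable def adjPull : Scheme.Modules.pullback f ⋙ St x ⊣
    skyFunctor x ⋙ Scheme.Modules.pushforward f :=
  (Scheme.Modules.pullbackPushforwardAdjunction f).comp (adj x)

/-- the adjunction `stalk ⋙ extension of scalars ⊣ restriction of scalars ⋙ sky` -/
noncomputable def adjExt : St (f.base x) ⋙ ext x f ⊣ res f x ⋙ skyFunctor (f.base x) :=
  (adj (f.base x)).comp (ModuleCat.extendRestrictScalarsAdj (f.stalkMap x).hom)

/-- the stalk of a pullback is the base change of the stalk -/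
noncomputable def pullStalkIso :
    Scheme.Modules.pullback f ⋙ St x ≅ St (f.base x) ⋙ ext x f :=
  (adjPull x f).leftAdjointUniq ((adjExt x f).ofNatIsoRight (pushSkyNatIso f x).symm)

end Pull

end Groth.Agent.Helper9.SkyMod4
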