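import Mathlib
import Groth.Agent.Helper9.StalkTensor2

/-!
# The stalk of the tensor product of presheaves of modules is the tensor product of the stalks
(linear equivalence, naturality), and stalks of locally bijective maps.
-/

set_option autoImplicit false
set_option linter.style.haveILetI false
set_option linter.unusedSectionVars false

namespace Groth.Agent.Helper9.StalkTensor6

open CategoryTheory MonoidalCategory Opposite TensorProduct TopologicalSpace
  Groth.Agent.Helper9.TensorLoc Groth.Agent.Helper9.StalkTensor1 Groth.Agent.Helper9.StalkTensor2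

universe u

set_option backward.isDefEq.respectTransparency false

variable {X : TopCat.{u}} {R : X.Presheaf CommRingCat.{u}}
  (M N : PresheafOfModules.{u} (R ⋙ forget₂ CommRingCat RingCat)) (x : X)

/-- every element of the tensor product of the stalks comes from a section of the tensor product -/
lemma exists_β_eq (τ : TS M N x) :
    ∃ (U : Opens X) (hx : x ∈ U) (s : (M ⊗ N).obj (op U)), β M N x U hx s = τ := by
  induction τ using TensorProduct.induction_on with
  | zero =>
    exact ⟨⊤, trivial, 0, map_zero _⟩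
  | tmul μ ν =>
    obtain ⟨W, hx, m, n, rfl, rfl⟩ := exists_common₂ M N x μ ν
    exact ⟨W, hx, m ⊗ₜ n, β_tmul M N x W hx m n⟩
  | add τ τ' h h' =>
    obtain ⟨U, hU, s, rfl⟩ := h
    obtain ⟨V, hV, t, rfl⟩ := h'
    refine ⟨U ⊓ V, ⟨hU, hV⟩, rs (M ⊗ N) inf_le_left s + rs (M ⊗ N) inf_le_right t, ?_⟩
    rw [map_add]
    congr 1
    · exact β_res M N x (homOfLE inf_le_left) ⟨hU, hV⟩ s
    · exact β_res M N x (homOfLE inf_le_right) ⟨hU, hV⟩ t

lemma α_surjective : Function.Surjective (α M N x) := by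
  intro t
  obtain ⟨U, hU, s, rfl⟩ := exists_gm_eq (M ⊗ N) x t
  exact ⟨β M N x U hU s, α_β M N x U hU s⟩

lemma α_injective : Function.Injective (α M N x) := by
  rw [injective_iff_map_eq_zero]
  intro τ hτ
  obtain ⟨U, hU, s, rfl⟩ := exists_β_eq M N x τ
  rw [α_β] at hτ
  have h1 : gm (M ⊗ N) x U hU s = gm (M ⊗ N) x U hU 0 := by rw [hτ, map_zero]
  obtain ⟨W, hW, h1, h2, e⟩ := gm_eq' (M ⊗ N) x hU hU s 0 h1
  rw [← β_res M N x (homOfLE h1) hW s]
  have : (M ⊗ N).map (homOfLE h1).op s = 0 := e.trans (map_zero _)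
  rw [this, map_zero]

lemma α_smul (ρ : R.stalk x) (τ : TS M N x) : α M N x (ρ • τ) = ρ • α M N x τ := by
  induction τ using TensorProduct.induction_on with
  | zero => rw [smul_zero, map_zero, smul_zero]
  | tmul μ ν =>
    obtain ⟨W, hx, r, m, n, rfl, rfl, rfl⟩ := exists_common_smul M N x ρ μ ν
    rw [TensorProduct.smul_tmul', α_tmul, α_tmul, ← gm_smul, pair_gm, pair_gm, ← gm_smul]
    rfl
  | add τ τ' h h' => rw [smul_add, map_add, map_add, smul_add, h, h']

/-- the comparison map as a linear map -/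
noncomputable def αLin : TS M N x →ₗ[R.stalk x] St (M ⊗ N) x where
  toFun := α M N x
  map_add' := map_add _
  map_smul' := α_smul M N x

/-- the stalk of the tensor product is the tensor product of the stalks -/
noncomputable def αEquiv : TS M N x ≃ₗ[R.stalk x] St (M ⊗ N) x :=
  LinearEquiv.ofBijective (αLin M N x) ⟨α_injective M N x, α_surjective M N x⟩

lemma αEquiv_tmul_gm (W : Opens X) (hx : x ∈ W) (m : M.obj (op W)) (n : N.obj (op W)) :
    αEquiv M N x (gm M x W hx m ⊗ₜ gm N x W hx n) = gm (M ⊗ N) x W hx (m ⊗ₜ n) :=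
  pair_gm M N x W hx m n

variable {M N}
variable {M' N' : PresheafOfModules.{u} (R ⋙ forget₂ CommRingCat RingCat)}

lemma tensorHom_app_tmul (φ : M ⟶ M') (ψ : N ⟶ N') (U : Opens X) (m : M.obj (op U))
    (n : N.obj (op U)) :
    (φ ⊗ₘ ψ).app (op U) (m ⊗ₜ n) = φ.app (op U) m ⊗ₜ ψ.app (op U) n := rfl

/-- naturality of the comparison map -/
lemma α_natural (φ : M ⟶ M') (ψ : N ⟶ N') (τ : TS M N x) :
    smLin (φ ⊗ₘ ψ) x (α M N x τ) =
      α M' N' x (TensorProduct.map (smLin φ x) (smLin ψ x) τ) := by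
  induction τ using TensorProduct.induction_on with
  | zero => rw [map_zero, map_zero, map_zero, map_zero]
  | tmul μ ν =>
    obtain ⟨W, hx, m, n, rfl, rfl⟩ := exists_common₂ M N x μ ν
    rw [TensorProduct.map_tmul, α_tmul, α_tmul, pair_gm, smLin_gm, smLin_gm, smLin_gm, pair_gm,
      tensorHom_app_tmul]
  | add τ τ' h h' => rw [map_add, map_add, map_add, map_add, h, h']

section Loc

variable {P Q : PresheafOfModules.{u} (R ⋙ forget₂ CommRingCat RingCat)} (ψ : P ⟶ Q)

/-- a locally injective map is injective on stalks -/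
theorem smLin_injective_of_locInj (hi : LocInj (Opens.grothendieckTopology X) ψ) :
    Function.Injective (smLin ψ x) := by
  rw [injective_iff_map_eq_zero]
  intro μ hμ
  obtain ⟨U, hU, m, rfl⟩ := exists_gm_eq P x μ
  rw [smLin_gm] at hμ
  have h1 : gm Q x U hU (ψ.app (op U) m) = gm Q x U hU 0 := by rw [hμ, map_zero]
  obtain ⟨W, hW, h1, h2, e⟩ := gm_eq' Q x hU hU _ 0 h1
  have e' : rs Q h1 (ψ.app (op U) m) = 0 := e.trans (map_zero _)
  have e2 : ψ.app (op W) (rs P h1 m) = 0 := by
    rw [← e']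
    exact (res_naturality ψ (homOfLE h1).op m).symm
  obtain ⟨S, hS, hS'⟩ := hi W (rs P h1 m) e2
  obtain ⟨V, g, hg, hxV⟩ := hS x hW
  have h3 : rs P (g.le.trans h1) m = 0 := by
    rw [← rs_rs P h1 g.le]
    exact hS' g hg
  rw [← gm_rs P x (g.le.trans h1) hxV m, h3, map_zero]

/-- a locally surjective map is surjective on stalks -/
theorem smLin_surjective_of_locSurj (hs : LocSurj (Opens.grothendieckTopology X) ψ) :
    Function.Surjective (smLin ψ x) := by
  intro ν
  obtain ⟨U, hU, q, rfl⟩ := exists_gm_eq Q x ν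
  obtain ⟨S, hS, hS'⟩ := hs U q
  obtain ⟨V, g, hg, hxV⟩ := hS x hU
  obtain ⟨t, ht⟩ := hS' g hg
  refine ⟨gm P x V hxV t, ?_⟩
  rw [smLin_gm, ht]
  exact gm_res Q x g hxV q

end Loc

end Groth.Agent.Helper9.StalkTensor6
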