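import Mathlib
import Groth.Prelude.Def_KFlatSite
import Groth.Agent.Helper9.StalkTensor6
import Groth.Agent.Helper9.TensorSh

/-!
# The stalk of the tensor product of sheaves of modules on a ringed space
-/

set_option autoImplicit false
set_option linter.style.haveILetI false
set_option linter.unusedSectionVars false

namespace Groth.Agent.Helper9.StalkTensor7

open CategoryTheory MonoidalCategory Opposite TensorProduct TopologicalSpace
  Groth.Agent.Helper9.TensorLoc Groth.Agent.Helper9.StalkTensor1 Groth.Agent.Helper9.StalkTensor2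
  Groth.Agent.Helper9.StalkTensor6 Groth.Agent.Helper9.TensorSh

universe u

set_option backward.isDefEq.respectTransparency false

section Pre

variable {X : TopCat.{u}} {R : X.Presheaf CommRingCat.{u}}
  {P Q T : PresheafOfModules.{u} (R ⋙ forget₂ CommRingCat RingCat)} (x : X)

lemma smLin_comp (f : P ⟶ Q) (g : Q ⟶ T) (μ : St P x) :
    smLin (f ≫ g) x μ = smLin g x (smLin f x μ) := by
  obtain ⟨U, hU, m, rfl⟩ := exists_gm_eq P x μ
  rw [smLin_gm, smLin_gm, smLin_gm]
  rfl

lemma smLin_id (μ : St P x) : smLin (𝟙 P) x μ = μ := by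
  obtain ⟨U, hU, m, rfl⟩ := exists_gm_eq P x μ
  rw [smLin_gm]
  rfl

end Pre

variable {X : TopCat.{u}} {O : Sheaf (Opens.grothendieckTopology X) CommRingCat.{u}} (x : X)

/-- the stalk of a sheaf of modules, as a type -/
abbrev Sx (M : ModSite.Mod O) : Type u := St (R := O.obj) ((ι O).obj M) x

/-- sheafification does not change the stalks -/
noncomputable def etaEquiv (P : PM O) :
    St (R := O.obj) P x ≃ₗ[TopCat.Presheaf.stalk (C := CommRingCat.{u}) O.obj x]
      St (R := O.obj) ((ι O).obj ((a O).obj P)) x :=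
  LinearEquiv.ofBijective (smLin (R := O.obj) (η O P) x)
    ⟨smLin_injective_of_locInj (R := O.obj) x (η O P) (locInj_η P),
      smLin_surjective_of_locSurj (R := O.obj) x (η O P) (locSurj_η P)⟩

lemma etaEquiv_apply (P : PM O) (μ : St (R := O.obj) P x) :
    etaEquiv x P μ = smLin (R := O.obj) (η O P) x μ := rfl

variable (M N : ModSite.Mod O)

/-- the stalk of the tensor product of sheaves of modules -/
noncomputable def stEquiv :
    TS (R := O.obj) ((ι O).obj M) ((ι O).obj N) x
      ≃ₗ[TopCat.Presheaf.stalk (C := CommRingCat.{u}) O.obj x]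
      Sx x (((ModSite.tensorBi O).obj M).obj N) :=
  (αEquiv (R := O.obj) ((ι O).obj M) ((ι O).obj N) x).trans
    (etaEquiv x ((ι O).obj M ⊗ (ι O).obj N))

lemma stEquiv_apply (τ : TS (R := O.obj) ((ι O).obj M) ((ι O).obj N) x) :
    stEquiv x M N τ = smLin (R := O.obj) (η O ((ι O).obj M ⊗ (ι O).obj N)) x
      (α (R := O.obj) ((ι O).obj M) ((ι O).obj N) x τ) := rfl

variable {M N} {M' N' : ModSite.Mod O}

lemma tensorBi_map_eq (φ : M ⟶ M') (ψ : N ⟶ N') :
    ((ModSite.tensorBi O).map φ).app N ≫ ((ModSite.tensorBi O).obj M').map ψ =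
      (a O).map ((ι O).map φ ⊗ₘ (ι O).map ψ) := by
  rw [MonoidalCategory.tensorHom_def, Functor.map_comp]
  rfl

lemma η_naturality {P Q : PM O} (g : P ⟶ Q) :
    η O P ≫ (ι O).map ((a O).map g) = g ≫ η O Q :=
  ((adj O).unit.naturality g).symm

/-- naturality of the stalk of the tensor product -/
theorem stEquiv_natural (φ : M ⟶ M') (ψ : N ⟶ N')
    (τ : TS (R := O.obj) ((ι O).obj M) ((ι O).obj N) x) :
    smLin (R := O.obj)
      ((ι O).map (((ModSite.tensorBi O).map φ).app N ≫ ((ModSite.tensorBi O).obj M').map ψ)) x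
        (stEquiv x M N τ) =
      stEquiv x M' N' (TensorProduct.map (smLin (R := O.obj) ((ι O).map φ) x)
        (smLin (R := O.obj) ((ι O).map ψ) x) τ) := by
  have h0 := tensorBi_map_eq φ ψ
  have h1 : smLin (R := O.obj)
      ((ι O).map (((ModSite.tensorBi O).map φ).app N ≫ ((ModSite.tensorBi O).obj M').map ψ)) x
        (stEquiv x M N τ) =
      smLin (R := O.obj) ((ι O).map ((a O).map ((ι O).map φ ⊗ₘ (ι O).map ψ))) x
        (smLin (R := O.obj) (η O ((ι O).obj M ⊗ (ι O).obj N)) x
          (α (R := O.obj) ((ι O).obj M) ((ι O).obj N) x τ)) :=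
    congrArg (fun θ => smLin (R := O.obj) ((ι O).map θ) x (stEquiv x M N τ)) h0
  refine h1.trans ?_
  rw [stEquiv_apply, ← smLin_comp, η_naturality, smLin_comp, α_natural]

end Groth.Agent.Helper9.StalkTensor7
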