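import Mathlib
import Groth.Prelude.Def_DerSch
import Groth.Agent.Helper9.SkyMod4
import Groth.Agent.Helper9.StalkTensor7
import Groth.Agent.Helper9.StalkTensor3

/-! Exactness and joint conservativity of the stalk functors on modules over a scheme. -/

set_option autoImplicit false
set_option linter.style.haveILetI false
set_option linter.unusedVariables false
universe u

namespace Groth.Agent.Helper9.SkyMod5

open CategoryTheory CategoryTheory.Limits AlgebraicGeometry Opposite TopologicalSpace
open Groth.Agent.Helper9.SkyMod1 Groth.Agent.Helper9.SkyMod2 Groth.Agent.Helper9.SkyMod4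
  Groth.Agent.Helper9.StalkTensor1 Groth.Agent.Helper9.StalkTensor2
  Groth.Agent.Helper9.TensorSh

variable {X : Scheme.{u}} (x : X)

/-- the stalk map in terms of the presheaf-level stalk map -/
lemma stalk_map_eq_smLin {M N : X.Modules} (φ : M ⟶ N) (m : M.presheaf.stalk x) :
    ((St x).map φ).hom m =
      smLin (X := X.toTopCat) (R := X.sheaf.obj) ((ι X.sheaf).map φ) x m := by
  obtain ⟨U, hxU, s, rfl⟩ := M.presheaf.exists_germ_eq (x := x) m
  refine (DerSch.stalkFunctor_map_germ x φ U hxU s).trans ?_
  exact (smLin_gm (X := X.toTopCat) (R := X.sheaf.obj) ((ι X.sheaf).map φ) x U hxU s).symm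

instance preservesMono_St : (St x).PreservesMonomorphisms where
  preserves {M N} φ hφ := by
    rw [ModuleCat.mono_iff_injective]
    intro m m' h
    have h' : smLin (X := X.toTopCat) (R := X.sheaf.obj) ((ι X.sheaf).map φ) x m =
        smLin (X := X.toTopCat) (R := X.sheaf.obj) ((ι X.sheaf).map φ) x m' :=
      (stalk_map_eq_smLin x φ m).symm.trans (h.trans (stalk_map_eq_smLin x φ m'))
    exact @Groth.Agent.Helper9.StalkTensor3.smLin_injective_of_mono
      X.toTopCat X.sheaf M N φ hφ x m m' h'

instance preservesFiniteColimits_St : PreservesFiniteColimits (St x) :=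
  haveI : PreservesColimitsOfSize.{0, 0} (St x) := (adj x).leftAdjoint_preservesColimits
  PreservesColimitsOfSize.preservesFiniteColimits _

instance preservesFiniteLimits_St : PreservesFiniteLimits (St x) := by
  rw [Functor.preservesFiniteLimits_iff_forall_exact_map_and_mono]
  intro S hS
  have h1 := ((St x).preservesFiniteColimits_iff_forall_exact_map_and_epi).1 inferInstance S hS
  haveI := hS.mono_f
  exact ⟨h1.1, inferInstance⟩

variable (X) in
/-- a module all of whose stalks vanish is zero -/
theorem isZero_of_stalks (M : X.Modules) (h : ∀ x : X, IsZero ((St x).obj M)) : IsZero M := by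
  rw [IsZero.iff_id_eq_zero]
  apply Scheme.Modules.hom_ext
  intro U
  ext s
  show s = 0
  refine TopCat.Presheaf.section_ext (⟨M.presheaf, M.isSheaf⟩ : TopCat.Sheaf Ab X.toTopCat) U s 0
    (fun y hy => ?_)
  haveI : Subsingleton ((St y).obj M) := ModuleCat.subsingleton_of_isZero (h y)
  exact Subsingleton.elim (α := (St y).obj M) _ _

/-- stalks of an acyclic complex are acyclic -/
theorem acyclic_stalk (K : CochainComplex X.Modules ℤ) (hK : K.Acyclic) :
    ((((St x).mapHomologicalComplex (ComplexShape.up ℤ)).obj K)).Acyclic := by
  intro i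
  exact (hK i).map (St x)

variable (X) in
/-- a complex all of whose stalk complexes are acyclic is acyclic -/
theorem acyclic_of_stalks (K : CochainComplex X.Modules ℤ)
    (h : ∀ x : X, ((((St x).mapHomologicalComplex (ComplexShape.up ℤ)).obj K)).Acyclic) :
    K.Acyclic := by
  intro i
  show (K.sc i).Exact
  rw [ShortComplex.exact_iff_isZero_homology]
  apply isZero_of_stalks
  intro x
  have h1 : ((K.sc i).map (St x)).Exact := h x i
  rw [ShortComplex.exact_iff_isZero_homology] at h1
  exact h1.of_iso ((K.sc i).mapHomologyIso (St x)).symm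

end Groth.Agent.Helper9.SkyMod5
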