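import Mathlib
import Groth.Prelude.Def_DerSch
import Groth.Agent.Helper9.SkyMod5

/-! Exactness of the skyscraper functor. -/

set_option autoImplicit false
set_option linter.style.haveILetI false
set_option linter.unusedVariables false
universe u

namespace Groth.Agent.Helper9.SkyMod6

open CategoryTheory CategoryTheory.Limits AlgebraicGeometry Opposite TopologicalSpace
open Groth.Agent.Helper9.SkyMod1 Groth.Agent.Helper9.SkyMod2 Groth.Agent.Helper9.SkyMod4
  Groth.Agent.Helper9.SkyMod5

variable {X : Scheme.{u}} (x : X)

instance additive_sky : (skyFunctor x).Additive := (adj x).right_adjoint_additive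

instance preservesFiniteLimits_sky : PreservesFiniteLimits (skyFunctor x) :=
  haveI : PreservesLimitsOfSize.{0, 0} (skyFunctor x) := (adj x).rightAdjoint_preservesLimits
  PreservesLimitsOfSize.preservesFiniteLimits _

instance preservesEpi_sky : (skyFunctor x).PreservesEpimorphisms where
  preserves {N N'} g hg := by
    have hs : Function.Surjective g.hom := (ModuleCat.epi_iff_surjective g).1 hg
    apply (Scheme.Modules.toPresheaf X).epi_of_epi_map
    apply (config := { allowSynthFailures := true }) NatTrans.epi_of_epi_app
    intro U
    rw [AddCommGrpCat.epi_iff_surjective]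
    intro ψ
    refine ⟨(fun h => (hs ((ψ : PLift (x ∈ U.unop) → N') h)).choose :
      PLift (x ∈ U.unop) → N), ?_⟩
    funext h
    exact (hs ((ψ : PLift (x ∈ U.unop) → N') h)).choose_spec

instance preservesFiniteColimits_sky : PreservesFiniteColimits (skyFunctor x) := by
  rw [Functor.preservesFiniteColimits_iff_forall_exact_map_and_epi]
  intro S hS
  have h1 := ((skyFunctor x).preservesFiniteLimits_iff_forall_exact_map_and_mono).1
    inferInstance S hS
  haveI := hS.epi_g
  exact ⟨h1.1, inferInstance⟩

/-- the skyscraper of an acyclic complex is acyclic -/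
theorem acyclic_sky (M : CochainComplex (ModuleCat.{u} (X.presheaf.stalk x)) ℤ)
    (hM : M.Acyclic) :
    (((skyFunctor x).mapHomologicalComplex (ComplexShape.up ℤ)).obj M).Acyclic := by
  intro i
  exact (hM i).map (skyFunctor x)

end Groth.Agent.Helper9.SkyMod6
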