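import Mathlib

/-!
# Additive functors preserving coproducts commute with total complexes of bifunctors
-/

set_option autoImplicit false
set_option linter.style.haveILetI false
set_option linter.unusedSectionVars false

namespace Groth.Agent.Helper9.TotFun1

open CategoryTheory Category Limits HomologicalComplex

variable {C₁ C₂ D D' : Type*} [Category C₁] [Category C₂] [Category D] [Category D']
  {I₁ I₂ J : Type*} {c₁ : ComplexShape I₁} {c₂ : ComplexShape I₂}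
  [HasZeroMorphisms C₁] [HasZeroMorphisms C₂] [Preadditive D] [Preadditive D']
  (F : C₁ ⥤ C₂ ⥤ D) [F.PreservesZeroMorphisms] [∀ X₁, (F.obj X₁).PreservesZeroMorphisms]
  (G : D ⥤ D') [G.Additive]

lemma map_units_smul' (u : ℤˣ) {A B : D} (f : A ⟶ B) : G.map (u • f) = u • G.map f := by
  rcases Int.units_eq_one_or u with rfl | rfl
  · rw [one_smul, one_smul]
  · rw [Units.neg_smul, Units.neg_smul, one_smul, one_smul, G.map_neg]

/-- the bifunctor `G ∘ F` -/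
abbrev FG : C₁ ⥤ C₂ ⥤ D' := F ⋙ (Functor.whiskeringRight C₂ D D').obj G

instance : (FG F G).PreservesZeroMorphisms where
  map_zero X Y := by
    ext Z
    show G.map ((F.map (0 : X ⟶ Y)).app Z) = 0
    rw [F.map_zero]
    exact G.map_zero _ _

instance (X₁ : C₁) : ((FG F G).obj X₁).PreservesZeroMorphisms where
  map_zero X Y := by
    show G.map ((F.obj X₁).map (0 : X ⟶ Y)) = 0
    rw [(F.obj X₁).map_zero]
    exact G.map_zero _ _

variable (c : ComplexShape J) [TotalComplexShape c₁ c₂ c] [DecidableEq J]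
  (K₁ : HomologicalComplex C₁ c₁) (K₂ : HomologicalComplex C₂ c₂)
  [HasMapBifunctor K₁ K₂ F c] [HasMapBifunctor K₁ K₂ (FG F G) c]

/-- the comparison map in each degree -/
noncomputable def compX (j : J) :
    (mapBifunctor K₁ K₂ (FG F G) c).X j ⟶ G.obj ((mapBifunctor K₁ K₂ F c).X j) :=
  mapBifunctorDesc (fun i₁ i₂ h => G.map (ιMapBifunctor K₁ K₂ F c i₁ i₂ j h))

@[reassoc (attr := simp)]
lemma ι_compX (i₁ : I₁) (i₂ : I₂) (j : J) (h : ComplexShape.π c₁ c₂ c (i₁, i₂) = j) :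
    ιMapBifunctor K₁ K₂ (FG F G) c i₁ i₂ j h ≫ compX F G c K₁ K₂ j =
      G.map (ιMapBifunctor K₁ K₂ F c i₁ i₂ j h) :=
  ι_mapBifunctorDesc _ _ _ _

lemma ιOrZero_compX (i₁ : I₁) (i₂ : I₂) (j : J) :
    ιMapBifunctorOrZero K₁ K₂ (FG F G) c i₁ i₂ j ≫ compX F G c K₁ K₂ j =
      G.map (ιMapBifunctorOrZero K₁ K₂ F c i₁ i₂ j) := by
  by_cases h : ComplexShape.π c₁ c₂ c (i₁, i₂) = j
  · rw [ιMapBifunctorOrZero_eq _ _ _ _ _ _ _ h, ιMapBifunctorOrZero_eq _ _ _ _ _ _ _ h, ι_compX]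
  · rw [ιMapBifunctorOrZero_eq_zero _ _ _ _ _ _ _ h, ιMapBifunctorOrZero_eq_zero _ _ _ _ _ _ _ h,
      zero_comp, G.map_zero]

lemma d₁_compX (i₁ : I₁) (i₂ : I₂) (j : J) :
    mapBifunctor.d₁ K₁ K₂ (FG F G) c i₁ i₂ j ≫ compX F G c K₁ K₂ j =
      G.map (mapBifunctor.d₁ K₁ K₂ F c i₁ i₂ j) := by
  by_cases h : c₁.Rel i₁ (c₁.next i₁)
  · rw [mapBifunctor.d₁_eq' _ _ _ _ h, mapBifunctor.d₁_eq' _ _ _ _ h, map_units_smul',
      Linear.units_smul_comp, assoc, ιOrZero_compX, G.map_comp]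
    rfl
  · rw [mapBifunctor.d₁_eq_zero _ _ _ _ _ _ _ h, mapBifunctor.d₁_eq_zero _ _ _ _ _ _ _ h,
      zero_comp, G.map_zero]

lemma d₂_compX (i₁ : I₁) (i₂ : I₂) (j : J) :
    mapBifunctor.d₂ K₁ K₂ (FG F G) c i₁ i₂ j ≫ compX F G c K₁ K₂ j =
      G.map (mapBifunctor.d₂ K₁ K₂ F c i₁ i₂ j) := by
  by_cases h : c₂.Rel i₂ (c₂.next i₂)
  · rw [mapBifunctor.d₂_eq' _ _ _ _ _ h, mapBifunctor.d₂_eq' _ _ _ _ _ h, map_units_smul',
      Linear.units_smul_comp, assoc, ιOrZero_compX, G.map_comp]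
    rfl
  · rw [mapBifunctor.d₂_eq_zero _ _ _ _ _ _ _ h, mapBifunctor.d₂_eq_zero _ _ _ _ _ _ _ h,
      zero_comp, G.map_zero]

/-- the comparison map `Tot (G ∘ F)(K₁, K₂) ⟶ G (Tot F(K₁, K₂))` -/
noncomputable def comparison :
    mapBifunctor K₁ K₂ (FG F G) c ⟶
      (G.mapHomologicalComplex c).obj (mapBifunctor K₁ K₂ F c) where
  f j := compX F G c K₁ K₂ j
  comm' j j' _ := by
    apply mapBifunctor.hom_ext
    intro i₁ i₂ h
    change ιMapBifunctor K₁ K₂ (FG F G) c i₁ i₂ j h ≫ compX F G c K₁ K₂ j ≫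
        G.map ((mapBifunctor K₁ K₂ F c).d j j') =
      ιMapBifunctor K₁ K₂ (FG F G) c i₁ i₂ j h ≫ (mapBifunctor K₁ K₂ (FG F G) c).d j j' ≫
        compX F G c K₁ K₂ j'
    rw [ι_compX_assoc, ← G.map_comp, mapBifunctor.d_eq, mapBifunctor.d_eq, Preadditive.comp_add,
      Preadditive.add_comp, Preadditive.comp_add, mapBifunctor.ι_D₁, mapBifunctor.ι_D₂,
      mapBifunctor.ι_D₁_assoc, mapBifunctor.ι_D₂_assoc, d₁_compX, d₂_compX, G.map_add]

section Iso

/-- the underlying graded object of the bicomplex -/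
noncomputable abbrev gr : GradedObject (I₁ × I₂) D :=
  (((F.mapBifunctorHomologicalComplex c₁ c₂).obj K₁).obj K₂).toGradedObject

variable [∀ j, PreservesColimit
  (Discrete.functor ((gr F K₁ K₂).mapObjFun (ComplexShape.π c₁ c₂ c) j)) G]

/-- the image under `G` of the colimit cofan -/
noncomputable def isColimitMap (j : J) :
    IsColimit (G.mapCocone ((gr F K₁ K₂).cofanMapObj (ComplexShape.π c₁ c₂ c) j)) :=
  isColimitOfPreserves G ((gr F K₁ K₂).isColimitCofanMapObj (ComplexShape.π c₁ c₂ c) j)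

/-- the cocone used to define the inverse of the comparison map -/
noncomputable def invCocone (j : J) :
    Cocone (Discrete.functor ((gr F K₁ K₂).mapObjFun (ComplexShape.π c₁ c₂ c) j) ⋙ G) where
  pt := (mapBifunctor K₁ K₂ (FG F G) c).X j
  ι := Discrete.natTrans (fun ⟨⟨⟨i₁, i₂⟩, hi⟩⟩ => ιMapBifunctor K₁ K₂ (FG F G) c i₁ i₂ j hi)

/-- the inverse of the comparison map in each degree -/
noncomputable def invX (j : J) :
    G.obj ((mapBifunctor K₁ K₂ F c).X j) ⟶ (mapBifunctor K₁ K₂ (FG F G) c).X j :=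
  (isColimitMap F G c K₁ K₂ j).desc (invCocone F G c K₁ K₂ j)

lemma map_ι_invX (i₁ : I₁) (i₂ : I₂) (j : J) (h : ComplexShape.π c₁ c₂ c (i₁, i₂) = j) :
    G.map (ιMapBifunctor K₁ K₂ F c i₁ i₂ j h) ≫ invX F G c K₁ K₂ j =
      ιMapBifunctor K₁ K₂ (FG F G) c i₁ i₂ j h :=
  (isColimitMap F G c K₁ K₂ j).fac (invCocone F G c K₁ K₂ j) ⟨⟨(i₁, i₂), h⟩⟩

lemma compX_invX (j : J) : compX F G c K₁ K₂ j ≫ invX F G c K₁ K₂ j = 𝟙 _ := by
  apply mapBifunctor.hom_ext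
  intro i₁ i₂ h
  rw [ι_compX_assoc, map_ι_invX, comp_id]

lemma invX_compX (j : J) : invX F G c K₁ K₂ j ≫ compX F G c K₁ K₂ j = 𝟙 _ := by
  apply (isColimitMap F G c K₁ K₂ j).hom_ext
  rintro ⟨⟨⟨i₁, i₂⟩, h⟩⟩
  have h1 := map_ι_invX F G c K₁ K₂ i₁ i₂ j h
  have h2 := ι_compX F G c K₁ K₂ i₁ i₂ j h
  show G.map (ιMapBifunctor K₁ K₂ F c i₁ i₂ j h) ≫ invX F G c K₁ K₂ j ≫ compX F G c K₁ K₂ j =
    G.map (ιMapBifunctor K₁ K₂ F c i₁ i₂ j h) ≫ 𝟙 _
  rw [reassoc_of% h1, h2, comp_id]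

instance isIso_compX (j : J) : IsIso (compX F G c K₁ K₂ j) :=
  ⟨invX F G c K₁ K₂ j, compX_invX F G c K₁ K₂ j, invX_compX F G c K₁ K₂ j⟩

instance isIso_comparison : IsIso (comparison F G c K₁ K₂) := by
  haveI : ∀ j, IsIso ((comparison F G c K₁ K₂).f j) := fun j => isIso_compX F G c K₁ K₂ j
  exact HomologicalComplex.Hom.isIso_of_components _

/-- an additive functor preserving the relevant coproducts commutes with the total complex -/
noncomputable def comparisonIso :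
    mapBifunctor K₁ K₂ (FG F G) c ≅
      (G.mapHomologicalComplex c).obj (mapBifunctor K₁ K₂ F c) :=
  asIso (comparison F G c K₁ K₂)

end Iso

end Groth.Agent.Helper9.TotFun1
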