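import Mathlib

/-!
# Total complexes of bifunctors and precomposition with functors
-/

set_option autoImplicit false
set_option linter.style.haveILetI false
set_option linter.unusedSectionVars false

namespace Groth.Agent.Helper9.TotFun2

open CategoryTheory Category Limits HomologicalComplex

variable {C₁ C₂ C₁' C₂' D : Type*} [Category C₁] [Category C₂] [Category C₁'] [Category C₂']
  [Category D]
  {I₁ I₂ J : Type*} {c₁ : ComplexShape I₁} {c₂ : ComplexShape I₂}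
  [HasZeroMorphisms C₁] [HasZeroMorphisms C₂] [HasZeroMorphisms C₁'] [HasZeroMorphisms C₂']
  [Preadditive D]
  (G₁ : C₁ ⥤ C₁') (G₂ : C₂ ⥤ C₂') [G₁.PreservesZeroMorphisms] [G₂.PreservesZeroMorphisms]
  (F : C₁' ⥤ C₂' ⥤ D) [F.PreservesZeroMorphisms] [∀ X₁, (F.obj X₁).PreservesZeroMorphisms]

/-- the bifunctor `F ∘ (G₁ × G₂)` -/
abbrev GF : C₁ ⥤ C₂ ⥤ D := G₁ ⋙ F ⋙ (Functor.whiskeringLeft C₂ C₂' D).obj G₂

instance : (GF G₁ G₂ F).PreservesZeroMorphisms where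
  map_zero X Y := by
    ext Z
    show (F.map (G₁.map (0 : X ⟶ Y))).app (G₂.obj Z) = 0
    rw [G₁.map_zero, F.map_zero]
    rfl

instance (X₁ : C₁) : ((GF G₁ G₂ F).obj X₁).PreservesZeroMorphisms where
  map_zero X Y := by
    show (F.obj (G₁.obj X₁)).map (G₂.map (0 : X ⟶ Y)) = 0
    rw [G₂.map_zero, (F.obj (G₁.obj X₁)).map_zero]

variable (K₁ : HomologicalComplex C₁ c₁) (K₂ : HomologicalComplex C₂ c₂)

/-- the two bicomplexes agree -/
def bicomplexHom :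
    (((GF G₁ G₂ F).mapBifunctorHomologicalComplex c₁ c₂).obj K₁).obj K₂ ⟶
      ((F.mapBifunctorHomologicalComplex c₁ c₂).obj
        ((G₁.mapHomologicalComplex c₁).obj K₁)).obj ((G₂.mapHomologicalComplex c₂).obj K₂) :=
  HomologicalComplex₂.homMk (fun ⟨i₁, i₂⟩ => 𝟙 ((F.obj (G₁.obj (K₁.X i₁))).obj (G₂.obj (K₂.X i₂))))
    (fun i₁ i₁' i₂ _ => by
      show 𝟙 _ ≫ (F.map (G₁.map (K₁.d i₁ i₁'))).app (G₂.obj (K₂.X i₂)) =
        (F.map (G₁.map (K₁.d i₁ i₁'))).app (G₂.obj (K₂.X i₂)) ≫ 𝟙 _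
      rw [id_comp, comp_id])
    (fun i₁ i₂ i₂' _ => by
      show 𝟙 _ ≫ (F.obj (G₁.obj (K₁.X i₁))).map (G₂.map (K₂.d i₂ i₂')) =
        (F.obj (G₁.obj (K₁.X i₁))).map (G₂.map (K₂.d i₂ i₂')) ≫ 𝟙 _
      rw [id_comp, comp_id])

/-- the two bicomplexes agree -/
def bicomplexInv :
    ((F.mapBifunctorHomologicalComplex c₁ c₂).obj
        ((G₁.mapHomologicalComplex c₁).obj K₁)).obj ((G₂.mapHomologicalComplex c₂).obj K₂) ⟶
    (((GF G₁ G₂ F).mapBifunctorHomologicalComplex c₁ c₂).obj K₁).obj K₂ :=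
  HomologicalComplex₂.homMk (fun ⟨i₁, i₂⟩ => 𝟙 ((F.obj (G₁.obj (K₁.X i₁))).obj (G₂.obj (K₂.X i₂))))
    (fun i₁ i₁' i₂ _ => by
      show 𝟙 _ ≫ (F.map (G₁.map (K₁.d i₁ i₁'))).app (G₂.obj (K₂.X i₂)) =
        (F.map (G₁.map (K₁.d i₁ i₁'))).app (G₂.obj (K₂.X i₂)) ≫ 𝟙 _
      rw [id_comp, comp_id])
    (fun i₁ i₂ i₂' _ => by
      show 𝟙 _ ≫ (F.obj (G₁.obj (K₁.X i₁))).map (G₂.map (K₂.d i₂ i₂')) =
        (F.obj (G₁.obj (K₁.X i₁))).map (G₂.map (K₂.d i₂ i₂')) ≫ 𝟙 _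
      rw [id_comp, comp_id])

/-- the two bicomplexes agree -/
def bicomplexIso :
    (((GF G₁ G₂ F).mapBifunctorHomologicalComplex c₁ c₂).obj K₁).obj K₂ ≅
      ((F.mapBifunctorHomologicalComplex c₁ c₂).obj
        ((G₁.mapHomologicalComplex c₁).obj K₁)).obj ((G₂.mapHomologicalComplex c₂).obj K₂) where
  hom := bicomplexHom G₁ G₂ F K₁ K₂
  inv := bicomplexInv G₁ G₂ F K₁ K₂
  hom_inv_id := by
    ext i₁ i₂
    exact comp_id _
  inv_hom_id := by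
    ext i₁ i₂
    exact comp_id _

variable (c : ComplexShape J) [TotalComplexShape c₁ c₂ c] [DecidableEq J]
  [HasMapBifunctor K₁ K₂ (GF G₁ G₂ F) c]
  [HasMapBifunctor ((G₁.mapHomologicalComplex c₁).obj K₁) ((G₂.mapHomologicalComplex c₂).obj K₂)
    F c]

/-- the total complex of `F ∘ (G₁ × G₂)` on `(K₁, K₂)` is the total complex of `F` on
`(G₁ K₁, G₂ K₂)` -/
noncomputable def precompIso :
    mapBifunctor K₁ K₂ (GF G₁ G₂ F) c ≅
      mapBifunctor ((G₁.mapHomologicalComplex c₁).obj K₁)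
        ((G₂.mapHomologicalComplex c₂).obj K₂) F c :=
  HomologicalComplex₂.total.mapIso (bicomplexIso G₁ G₂ F K₁ K₂) c

end Groth.Agent.Helper9.TotFun2
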