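import Mathlib
import Groth.Prelude.Def_DerSch
import Groth.Prelude.Def_DCoh4
import Groth.Agent.Helper9.SkyMod5
import Groth.Agent.Helper9.TotFun1
import Groth.Agent.Helper9.TotFun2

/-! The stalk of the tensor product of modules on a scheme, as an isomorphism of bifunctors. -/

set_option autoImplicit false
set_option linter.style.haveILetI false
set_option linter.unusedVariables false
universe u

namespace Groth.Agent.Helper9.StalkTensor8

open CategoryTheory CategoryTheory.Limits AlgebraicGeometry Opposite TopologicalSpace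
  MonoidalCategory
open Groth.Agent.Helper9.SkyMod4 Groth.Agent.Helper9.SkyMod5
  Groth.Agent.Helper9.StalkTensor1 Groth.Agent.Helper9.StalkTensor2
  Groth.Agent.Helper9.StalkTensor7 Groth.Agent.Helper9.TensorSh

variable {X : Scheme.{u}} (x : X)

lemma stalk_map_hom_eq {M N : X.Modules} (φ : M ⟶ N) :
    ((St x).map φ).hom = smLin (X := X.toTopCat) (R := X.sheaf.obj) ((ι X.sheaf).map φ) x :=
  LinearMap.ext (fun m => stalk_map_eq_smLin x φ m)

/-- the stalk of the tensor product -/
noncomputable def stIso (M N : X.Modules) :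
    (St x).obj M ⊗ (St x).obj N ≅ (St x).obj ((DCoh.tensorBi.obj M).obj N) :=
  LinearEquiv.toModuleIso (stEquiv (X := X.toTopCat) (O := X.sheaf) x M N)

lemma stIso_hom_apply (M N : X.Modules)
    (τ : TensorProduct (X.presheaf.stalk x) (M.presheaf.stalk x) (N.presheaf.stalk x)) :
    (stIso x M N).hom.hom τ = stEquiv (X := X.toTopCat) (O := X.sheaf) x M N τ := rfl

theorem stIso_natural {M M' N N' : X.Modules} (φ : M ⟶ M') (ψ : N ⟶ N') :
    ((St x).map φ ⊗ₘ (St x).map ψ) ≫ (stIso x M' N').hom =
      (stIso x M N).hom ≫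
        (St x).map ((DCoh.tensorBi.map φ).app N ≫ (DCoh.tensorBi.obj M').map ψ) := by
  apply ModuleCat.hom_ext
  apply LinearMap.ext
  intro τ
  have h := stEquiv_natural (X := X.toTopCat) (O := X.sheaf) x φ ψ τ
  rw [← stalk_map_hom_eq, ← stalk_map_hom_eq] at h
  exact h.symm.trans (stalk_map_eq_smLin x
    ((DCoh.tensorBi.map φ).app N ≫ (DCoh.tensorBi.obj M').map ψ)
    (stEquiv (X := X.toTopCat) (O := X.sheaf) x M N τ)).symm

/-- the bifunctor `(M, N) ↦ M_x ⊗ N_x` -/
noncomputable abbrev biL : X.Modules ⥤ X.Modules ⥤ ModuleCat.{u} (X.presheaf.stalk x) :=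
  Groth.Agent.Helper9.TotFun2.GF (St x) (St x) (curriedTensor (ModuleCat.{u} (X.presheaf.stalk x)))

/-- the bifunctor `(M, N) ↦ (M ⊗ N)_x` -/
noncomputable abbrev biR : X.Modules ⥤ X.Modules ⥤ ModuleCat.{u} (X.presheaf.stalk x) :=
  Groth.Agent.Helper9.TotFun1.FG (DCoh.tensorBi (X := X)) (St x)

lemma stIso_natural_right (M : X.Modules) {N N' : X.Modules} (ψ : N ⟶ N') :
    ((biL x).obj M).map ψ ≫ (stIso x M N').hom =
      (stIso x M N).hom ≫ ((biR x).obj M).map ψ := by
  have h := stIso_natural x (𝟙 M) ψ
  rw [CategoryTheory.Functor.map_id, CategoryTheory.Functor.map_id, NatTrans.id_app,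
    Category.id_comp] at h
  exact h

lemma stIso_natural_left {M M' : X.Modules} (φ : M ⟶ M') (N : X.Modules) :
    ((biL x).map φ).app N ≫ (stIso x M' N).hom =
      (stIso x M N).hom ≫ ((biR x).map φ).app N := by
  have h := stIso_natural x φ (𝟙 N)
  rw [CategoryTheory.Functor.map_id, CategoryTheory.Functor.map_id, Category.comp_id] at h
  exact h

/-- the stalk of the tensor product, as an isomorphism of bifunctors -/
noncomputable def stBiIso : biL x ≅ biR x :=
  NatIso.ofComponents
    (fun M => NatIso.ofComponents (fun N => stIso x M N)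
      (fun {N N'} ψ => stIso_natural_right x M ψ))
    (fun {M M'} φ => by
      apply NatTrans.ext
      funext N
      exact stIso_natural_left x φ N)

end Groth.Agent.Helper9.StalkTensor8
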