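import Mathlib
import Groth.Prelude.Def_DerSch
import Groth.Prelude.Def_DCoh4
import Groth.Prelude.Def_KFlatSite
import Groth.Agent.Helper9.StalkTensor8
import Groth.Agent.Helper9.KFlat18

/-! The stalk of the tensor product of complexes of modules on a scheme. -/

set_option autoImplicit false
set_option linter.style.haveILetI false
set_option linter.unusedVariables false
universe u

namespace Groth.Agent.Helper9.StalkTensor9

open CategoryTheory CategoryTheory.Limits AlgebraicGeometry Opposite TopologicalSpace
  MonoidalCategory HomologicalComplex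
open Groth.Agent.Helper9.SkyMod2 Groth.Agent.Helper9.SkyMod4 Groth.Agent.Helper9.SkyMod5
  Groth.Agent.Helper9.StalkTensor8

variable {X : Scheme.{u}} (x : X)

instance preservesColimits_St : PreservesColimitsOfSize.{0, 0} (St x) :=
  (adj x).leftAdjoint_preservesColimits

/-- the complex of stalks -/
noncomputable abbrev StCx : CochainComplex X.Modules ℤ ⥤ DRing.Cx (X.presheaf.stalk x) :=
  (St x).mapHomologicalComplex (ComplexShape.up ℤ)

variable (L K : CochainComplex X.Modules ℤ)

instance : HasMapBifunctor L K (biR x) (ComplexShape.up ℤ) := fun _ => inferInstance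
instance : HasMapBifunctor L K (biL x) (ComplexShape.up ℤ) := fun _ => inferInstance

/-- the stalk of the tensor product of complexes is the tensor product of the stalks -/
noncomputable def stalkTensorCxIso :
    (StCx x).obj ((DCoh.tensorCx.obj L).obj K) ≅ (StCx x).obj L ⊗ (StCx x).obj K :=
  (Groth.Agent.Helper9.TotFun1.comparisonIso (DCoh.tensorBi (X := X)) (St x)
      (ComplexShape.up ℤ) L K).symm ≪≫
    Groth.Agent.Helper9.KFlat18.mapBifunctorNatIso (ComplexShape.up ℤ) (stBiIso x).symm L K ≪≫
    Groth.Agent.Helper9.TotFun2.precompIso (St x) (St x)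
      (curriedTensor (ModuleCat.{u} (X.presheaf.stalk x))) L K (ComplexShape.up ℤ)

end Groth.Agent.Helper9.StalkTensor9
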