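import Mathlib
import Groth.Prelude.Def_DerSch
import Groth.Prelude.Def_DCoh4
import Groth.Prelude.Def_KFlatSite
import Groth.Agent.Helper9.StalkTensor9
import Groth.Agent.Helper9.SkyMod6

/-! A complex of modules on a scheme is K-flat iff its stalks are K-flat. -/

set_option autoImplicit false
set_option linter.style.haveILetI false
set_option linter.unusedVariables false
universe u

namespace Groth.Agent.Helper9.StalkKFlat1

open CategoryTheory CategoryTheory.Limits AlgebraicGeometry Opposite TopologicalSpace
  MonoidalCategory HomologicalComplex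
open Groth.Agent.Helper9.SkyMod2 Groth.Agent.Helper9.SkyMod4 Groth.Agent.Helper9.SkyMod5
  Groth.Agent.Helper9.SkyMod6 Groth.Agent.Helper9.StalkTensor9

section Gen

variable {A : Type*} [Category A] [Abelian A]

lemma acyclic_iff {K : CochainComplex A ℤ} : K.Acyclic ↔ ∀ i : ℤ, IsZero (K.homology i) :=
  forall_congr' (fun i => K.exactAt_iff_isZero_homology i)

lemma acyclic_of_iso {K K' : CochainComplex A ℤ} (e : K ≅ K') (h : K.Acyclic) : K'.Acyclic := by
  rw [acyclic_iff] at h ⊢
  intro i
  exact (h i).of_iso ((HomologicalComplex.homologyFunctor A (ComplexShape.up ℤ) i).mapIso e.symm)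

end Gen

variable {X : Scheme.{u}}

/-- a complex with K-flat stalks is K-flat -/
theorem isKFlat_of_stalks (F : CochainComplex X.Modules ℤ)
    (h : ∀ x : X, DRing.IsKFlat (X.presheaf.stalk x) ((StCx x).obj F)) : DCoh.IsKFlat F := by
  intro L hL
  rw [← acyclic_iff] at hL ⊢
  apply acyclic_of_stalks X
  intro x
  refine acyclic_of_iso (stalkTensorCxIso x L F).symm ?_
  rw [acyclic_iff]
  exact h x ((StCx x).obj L) (acyclic_iff.1 (acyclic_stalk x L hL))

/-- the stalk of the skyscraper complex -/
noncomputable def stalkSkyCxIso (x : X) (M : DRing.Cx (X.presheaf.stalk x)) :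
    (StCx x).obj (((skyFunctor x).mapHomologicalComplex (ComplexShape.up ℤ)).obj M) ≅ M :=
  HomologicalComplex.Hom.isoOfComponents (fun i => (stalkSkyIso x).app (M.X i))
    (fun i j _ => ((stalkSkyIso x).hom.naturality (M.d i j)).symm)

/-- the stalks of a K-flat complex are K-flat -/
theorem isKFlat_stalk (F : CochainComplex X.Modules ℤ) (hF : DCoh.IsKFlat F) (x : X) :
    DRing.IsKFlat (X.presheaf.stalk x) ((StCx x).obj F) := by
  intro M hM
  rw [← acyclic_iff] at hM ⊢
  have h1 := acyclic_sky x M hM
  have h2 : ((DCoh.tensorCx.obj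
      (((skyFunctor x).mapHomologicalComplex (ComplexShape.up ℤ)).obj M)).obj F).Acyclic :=
    acyclic_iff.2 (hF _ (acyclic_iff.1 h1))
  have h3 := acyclic_stalk x _ h2
  have h4 := acyclic_of_iso (stalkTensorCxIso x _ F) h3
  exact acyclic_of_iso (whiskerRightIso (stalkSkyCxIso x M) ((StCx x).obj F)) h4

end Groth.Agent.Helper9.StalkKFlat1
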