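import Mathlib
import Groth.Prelude.Def_DerSch
import Groth.Prelude.Def_DCoh4
import Groth.Prelude.Def_DDual2
import Groth.Prelude.Def_KFlatSite
import Groth.Agent.Helper9.StalkKFlat1
import Groth.Agent.Helper9.LDeriv8
import Groth.Agent.Helper6.ExtKFlat

/-! The pullback of an acyclic K-flat complex is acyclic; existence of `Lf^*`. -/

set_option autoImplicit false
set_option linter.style.haveILetI false
set_option linter.unusedVariables false
universe u

namespace Groth.Agent.Helper9.Lpull1

open CategoryTheory CategoryTheory.Limits AlgebraicGeometry Opposite TopologicalSpace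
  MonoidalCategory HomologicalComplex
open Groth.Agent.Helper9.SkyMod2 Groth.Agent.Helper9.SkyMod4 Groth.Agent.Helper9.SkyMod5
  Groth.Agent.Helper9.StalkTensor9 Groth.Agent.Helper9.StalkKFlat1

section Ring

variable {R R' : Type u} [CommRing R] [CommRing R'] (φ : R →+* R')

/-- the base change of an acyclic K-flat complex is acyclic -/
theorem acyclic_ext (P : DRing.Cx R) (hP : DRing.IsKFlat R P) (hac : P.Acyclic) :
    ((DTen.extCx φ).obj P).Acyclic := by
  have hq : QuasiIso (0 : P ⟶ P) := by
    rw [quasiIso_iff]
    intro i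
    rw [quasiIsoAt_iff_isIso_homologyMap]
    have hz : IsZero (P.homology i) := (P.exactAt_iff_isZero_homology i).1 (hac i)
    exact ⟨⟨0, hz.eq_of_src _ _, hz.eq_of_tgt _ _⟩⟩
  have h1 := Groth.Agent.Helper6.ExtKFlat.quasiIso_ext_of_kflat φ (0 : P ⟶ P) hP hP hq
  rw [Functor.map_zero] at h1
  intro i
  rw [HomologicalComplex.exactAt_iff_isZero_homology, IsZero.iff_id_eq_zero]
  have h2 : IsIso (homologyMap (0 : (DTen.extCx φ).obj P ⟶ (DTen.extCx φ).obj P) i) := by
    rw [← quasiIsoAt_iff_isIso_homologyMap]
    exact (quasiIso_iff _).1 h1 i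
  rw [homologyMap_zero] at h2
  rw [← IsIso.inv_hom_id (0 : ((DTen.extCx φ).obj P).homology i ⟶ _), comp_zero]

end Ring

variable {X Y : Scheme.{u}} (f : X ⟶ Y)

/-- the stalk of the pullback of a complex -/
noncomputable def pullStalkCxIso (x : X) (K : CochainComplex Y.Modules ℤ) :
    (StCx x).obj (((Scheme.Modules.pullback f).mapHomologicalComplex (ComplexShape.up ℤ)).obj K) ≅
      (DTen.extCx (f.stalkMap x).hom).obj ((StCx (f.base x)).obj K) :=
  HomologicalComplex.Hom.isoOfComponents (fun i => (pullStalkIso x f).app (K.X i))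
    (fun i j _ => ((pullStalkIso x f).hom.naturality (K.d i j)).symm)

/-- the pullback of an acyclic K-flat complex is acyclic -/
theorem acyclic_pullback (K : CochainComplex Y.Modules ℤ) (hK : DCoh.IsKFlat K)
    (hac : K.Acyclic) :
    (((Scheme.Modules.pullback f).mapHomologicalComplex (ComplexShape.up ℤ)).obj K).Acyclic := by
  apply acyclic_of_stalks X
  intro x
  exact acyclic_of_iso (pullStalkCxIso f x K).symm
    (acyclic_ext (f.stalkMap x).hom _ (isKFlat_stalk K hK (f.base x))
      (acyclic_stalk (f.base x) K hac))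

attribute [local instance] HasDerivedCategory.standard

/-- `Lf^*` exists -/
theorem hasLpull : DCoh.HasLpull f := by
  have hadd : (Scheme.Modules.pullback f).Additive := inferInstance
  exact @Groth.Agent.Helper9.LDeriv8.hasLeftDerivedFunctor _ _ _ Y.sheaf X.Modules _ _ _
    (Scheme.Modules.pullback f) hadd (fun K hK hac => acyclic_pullback f K hK hac)

end Groth.Agent.Helper9.Lpull1
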