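import Mathlib
import Groth.Agent.Helper9.Lpull1

/-! The pullback of a K-flat complex is K-flat. -/

set_option autoImplicit false
set_option linter.style.haveILetI false
set_option linter.unusedVariables false
universe u

namespace Groth.Agent.Helper9.Lpull2

open CategoryTheory CategoryTheory.Limits AlgebraicGeometry Opposite TopologicalSpace
  MonoidalCategory HomologicalComplex
open Groth.Agent.Helper9.SkyMod2 Groth.Agent.Helper9.SkyMod4 Groth.Agent.Helper9.SkyMod5
  Groth.Agent.Helper9.StalkTensor9 Groth.Agent.Helper9.StalkKFlat1 Groth.Agent.Helper9.Lpull1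

lemma isKFlat_of_iso {R : Type u} [CommRing R] {K K' : DRing.Cx R} (e : K ≅ K')
    (hK : DRing.IsKFlat R K) : DRing.IsKFlat R K' := by
  intro L hL i
  exact (hK L hL i).of_iso
    ((HomologicalComplex.homologyFunctor _ _ i).mapIso (whiskerLeftIso L e.symm))

variable {X Y : Scheme.{u}} (f : X ⟶ Y)

/-- the pullback of a K-flat complex is K-flat -/
theorem isKFlat_pullback (K : CochainComplex Y.Modules ℤ) (hK : DCoh.IsKFlat K) :
    DCoh.IsKFlat
      (((Scheme.Modules.pullback f).mapHomologicalComplex (ComplexShape.up ℤ)).obj K) := by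
  apply isKFlat_of_stalks
  intro x
  exact isKFlat_of_iso (pullStalkCxIso f x K).symm
    (Groth.Agent.Helper6.ExtKFlat.kflat_ext (f.stalkMap x).hom (isKFlat_stalk K hK (f.base x)))

end Groth.Agent.Helper9.Lpull2
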