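import Mathlib
import Groth.Agent.Helper9.Lpull2
import Groth.Agent.Helper9.LTM3

/-! `Lf^*` is computed on K-flat complexes; `Lf^* ∘ Lg^* ≅ L(g ∘ f)^*`. -/

set_option autoImplicit false
set_option linter.style.haveILetI false
set_option linter.unusedVariables false
set_option linter.unusedSectionVars false
universe u

namespace Groth.Agent.Helper9.Lpull3

open CategoryTheory CategoryTheory.Limits AlgebraicGeometry Opposite TopologicalSpace
  HomologicalComplex
open Groth.Agent.Helper9.Lpull1 Groth.Agent.Helper9.Lpull2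

attribute [local instance] HasDerivedCategory.standard

variable {X Y Z : Scheme.{u}}

section One

variable (f : X ⟶ Y) [DCoh.HasLpull f]

/-- the counit of `Lf^*` -/
noncomputable abbrev counit : DerivedCategory.Qh ⋙ DCoh.Lpull f ⟶ DCoh.pullKh f :=
  (DCoh.pullKh f).totalLeftDerivedCounit DerivedCategory.Qh
    (HomotopyCategory.quasiIso Y.Modules (ComplexShape.up ℤ))

/-- the counit of `Lf^*` is an isomorphism on K-flat complexes -/
theorem isIso_counit_app (P : CochainComplex Y.Modules ℤ) (hP : DCoh.IsKFlat P) :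
    IsIso ((counit f).app ((HomotopyCategory.quotient _ _).obj P)) := by
  have hadd : (Scheme.Modules.pullback f).Additive := inferInstance
  have hLD : (DCoh.Lpull f).IsLeftDerivedFunctor (counit f)
      (HomotopyCategory.quasiIso Y.Modules (ComplexShape.up ℤ)) := inferInstance
  have hLoc : (DerivedCategory.Qh (C := Y.Modules)).IsLocalization
      (HomotopyCategory.quasiIso Y.Modules (ComplexShape.up ℤ)) := inferInstance
  exact @Groth.Agent.Helper9.LDeriv4.isIso_counit_app _ _ _ Y.sheaf X.Modules _ _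
    (Scheme.Modules.pullback f) hadd _ (fun K hK hac => acyclic_pullback f K hK hac) _ _
    DerivedCategory.Qh hLoc (DCoh.Lpull f) (counit f) hLD P hP

/-- `Lf^*` of a K-flat complex is its termwise pullback -/
noncomputable def lpullIso (P : CochainComplex Y.Modules ℤ) (hP : DCoh.IsKFlat P) :
    (DCoh.Lpull f).obj (DerivedCategory.Q.obj P) ≅
      DerivedCategory.Q.obj
        (((Scheme.Modules.pullback f).mapHomologicalComplex (ComplexShape.up ℤ)).obj P) :=
  @asIso _ _ _ _ ((counit f).app ((HomotopyCategory.quotient _ _).obj P))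
    (isIso_counit_app f P hP)

/-- every object of `D(O_Y)` is represented by a K-flat complex -/
lemma exists_kflat_rep (D : DCoh.D Y) :
    ∃ (P : CochainComplex Y.Modules ℤ), DCoh.IsKFlat P ∧
      Nonempty (DerivedCategory.Q.obj P ≅ D) := by
  obtain ⟨K, ⟨e⟩⟩ : ∃ K, Nonempty (DerivedCategory.Q.obj K ≅ D) :=
    ⟨_, ⟨DerivedCategory.Q.objObjPreimageIso D⟩⟩
  obtain ⟨P, q, hP, -, hq, -⟩ := Groth.Agent.Helper9.LTM3.exists_kflat_resolution K
  haveI : IsIso (DerivedCategory.Q.map q) := by
    rw [DerivedCategory.isIso_Q_map_iff_quasiIso]; exact hq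
  exact ⟨P, hP, ⟨asIso (DerivedCategory.Q.map q) ≪≫ e⟩⟩

end One

section Comp

variable (f : X ⟶ Y) (g : Y ⟶ Z) [DCoh.HasLpull f] [DCoh.HasLpull g] [DCoh.HasLpull (f ≫ g)]

/-- the comparison of termwise pullbacks on homotopy categories -/
noncomputable def cmp :
    (Scheme.Modules.pullback g).mapHomotopyCategory (ComplexShape.up ℤ) ⋙
      (Scheme.Modules.pullback f).mapHomotopyCategory (ComplexShape.up ℤ) ≅
    (Scheme.Modules.pullback (f ≫ g)).mapHomotopyCategory (ComplexShape.up ℤ) :=
  Functor.mapHomotopyCategoryCompIso (Scheme.Modules.pullbackComp f g) (ComplexShape.up ℤ)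

/-- the natural transformation exhibiting `Lg^* ⋙ Lf^*` as a candidate left derived functor -/
noncomputable def β : DerivedCategory.Qh ⋙ (DCoh.Lpull g ⋙ DCoh.Lpull f) ⟶
    DCoh.pullKh (f ≫ g) :=
  (Functor.associator _ _ _).inv ≫ Functor.whiskerRight (counit g) (DCoh.Lpull f) ≫
    (Functor.associator _ _ _).hom ≫
    Functor.whiskerLeft ((Scheme.Modules.pullback g).mapHomotopyCategory (ComplexShape.up ℤ))
      (counit f) ≫
    (Functor.associator _ _ _).inv ≫ Functor.whiskerRight (cmp f g).hom DerivedCategory.Qh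

lemma β_app (P : HomotopyCategory Z.Modules (ComplexShape.up ℤ)) :
    (β f g).app P = (DCoh.Lpull f).map ((counit g).app P) ≫
      (counit f).app (((Scheme.Modules.pullback g).mapHomotopyCategory (ComplexShape.up ℤ)).obj P) ≫
      DerivedCategory.Qh.map ((cmp f g).hom.app P) := by
  simp [β]

theorem isIso_β_app (P : CochainComplex Z.Modules ℤ) (hP : DCoh.IsKFlat P) :
    IsIso ((β f g).app ((HomotopyCategory.quotient _ _).obj P)) := by
  rw [β_app]
  haveI := isIso_counit_app g P hP
  haveI : IsIso ((counit f).app (((Scheme.Modules.pullback g).mapHomotopyCategory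
      (ComplexShape.up ℤ)).obj ((HomotopyCategory.quotient _ _).obj P))) :=
    isIso_counit_app f _ (isKFlat_pullback g P hP)
  infer_instance

/-- the comparison `Lg^* ⋙ Lf^* ⟶ L(f ≫ g)^*` -/
noncomputable def γ : DCoh.Lpull g ⋙ DCoh.Lpull f ⟶ DCoh.Lpull (f ≫ g) :=
  (DCoh.Lpull (f ≫ g)).leftDerivedLift (counit (f ≫ g))
    (HomotopyCategory.quasiIso Z.Modules (ComplexShape.up ℤ)) _ (β f g)

lemma γ_fac (P : HomotopyCategory Z.Modules (ComplexShape.up ℤ)) :
    (γ f g).app (DerivedCategory.Qh.obj P) ≫ (counit (f ≫ g)).app P = (β f g).app P :=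
  Functor.leftDerived_fac_app _ _ _ _ _ _

instance isIso_γ : IsIso (γ f g) := by
  rw [NatTrans.isIso_iff_isIso_app]
  intro D
  obtain ⟨P, hP, ⟨e⟩⟩ := exists_kflat_rep D
  rw [← NatTrans.isIso_app_iff_of_iso (γ f g) e]
  have h := γ_fac f g ((HomotopyCategory.quotient _ _).obj P)
  haveI := isIso_β_app f g P hP
  haveI := isIso_counit_app (f ≫ g) P hP
  have h2 : (γ f g).app (DerivedCategory.Qh.obj ((HomotopyCategory.quotient _ _).obj P)) =
      (β f g).app ((HomotopyCategory.quotient _ _).obj P) ≫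
        inv ((counit (f ≫ g)).app ((HomotopyCategory.quotient _ _).obj P)) := by
    rw [← h, Category.assoc, IsIso.hom_inv_id, Category.comp_id]
  show IsIso ((γ f g).app (DerivedCategory.Qh.obj ((HomotopyCategory.quotient _ _).obj P)))
  rw [h2]
  infer_instance

/-- `Lg^* ⋙ Lf^* ≅ L(f ≫ g)^*` -/
noncomputable def lpullComp : DCoh.Lpull g ⋙ DCoh.Lpull f ≅ DCoh.Lpull (f ≫ g) :=
  asIso (γ f g)

end Comp

end Groth.Agent.Helper9.Lpull3
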