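import Mathlib
import Groth.Prelude.Def_DRing2
import Groth.Agent.Helper9.TotFun1
import Groth.Agent.Helper9.TotFun2
import Groth.Agent.Helper9.KFlat18

/-! The projection formula `(Y ⊗_B (B ⊗_A N))|_A ≅ Y|_A ⊗_A N` for complexes of modules. -/

set_option autoImplicit false
set_option linter.style.haveILetI false
set_option linter.unusedVariables false
set_option linter.unusedSectionVars false
set_option linter.unusedSimpArgs false
universe u

namespace Groth.Agent.Helper9.RingProj1

open CategoryTheory CategoryTheory.Limits MonoidalCategory TensorProduct ModuleCat ChangeOfRings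

variable {A B : Type u} [CommRing A] [CommRing B] (φ : A →+* B)

/-- extension of scalars -/
noncomputable abbrev ext : ModuleCat.{u} A ⥤ ModuleCat.{u} B := ModuleCat.extendScalars.{u, u, u} φ

/-- restriction of scalars -/
noncomputable abbrev rs : ModuleCat.{u} B ⥤ ModuleCat.{u} A := ModuleCat.restrictScalars.{u} φ

section Lin

variable (M : ModuleCat.{u} B) (N : ModuleCat.{u} A)

/-- the underlying additive equivalence of the projection formula -/
noncomputable def projAdd :
    ((rs φ).obj (M ⊗ (ext φ).obj N) : ModuleCat.{u} A) ≃+ ((rs φ).obj M ⊗ N : ModuleCat.{u} A) := by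
  letI : Algebra A B := φ.toAlgebra
  letI : Module A M := Module.compHom M φ
  haveI : IsScalarTower A B M := ⟨fun a b m => by
    change (φ a * b) • m = φ a • (b • m)
    rw [mul_smul]⟩
  exact (TensorProduct.AlgebraTensorModule.cancelBaseChange A B B M N).toAddEquiv

lemma projAdd_tmul (m : M) (b : B) (n : N) :
    projAdd φ M N (m ⊗ₜ[B] (b ⊗ₜ[A,φ] n)) = ((b • m : M) ⊗ₜ[A] n : ((rs φ).obj M ⊗ N : ModuleCat.{u} A)) :=
  rfl

lemma projAdd_symm_tmul (m : M) (n : N) :
    (projAdd φ M N).symm ((m : (rs φ).obj M) ⊗ₜ[A] n) =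
      (m ⊗ₜ[B] (show ((ext φ).obj N : ModuleCat.{u} B) from (1 : B) ⊗ₜ[A,φ] n)) :=
  rfl

/-- the projection formula, as a linear equivalence -/
noncomputable def projLin :
    ((rs φ).obj (M ⊗ (ext φ).obj N) : ModuleCat.{u} A) ≃ₗ[A]
      ((rs φ).obj M ⊗ N : ModuleCat.{u} A) := by
  letI : Algebra A B := φ.toAlgebra
  letI : Module A M := Module.compHom M φ
  haveI : IsScalarTower A B M := ⟨fun a b m => by
    change (φ a * b) • m = φ a • (b • m)
    rw [mul_smul]⟩
  exact (TensorProduct.AlgebraTensorModule.cancelBaseChange A B B M N).restrictScalars A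

lemma projLin_apply (t : ((rs φ).obj (M ⊗ (ext φ).obj N) : ModuleCat.{u} A)) :
    projLin φ M N t = projAdd φ M N t := rfl

/-- the projection formula for modules -/
noncomputable def projIso :
    (rs φ).obj (M ⊗ (ext φ).obj N) ≅ (rs φ).obj M ⊗ N :=
  (projLin φ M N).toModuleIso

lemma projIso_hom_tmul (m : M) (b : B) (n : N) :
    (projIso φ M N).hom.hom (m ⊗ₜ[B] (b ⊗ₜ[A,φ] n)) =
      ((b • m : M) ⊗ₜ[A] n : ((rs φ).obj M ⊗ N : ModuleCat.{u} A)) :=
  rfl

end Lin

variable {φ}

/-- an induction principle for `M ⊗_B (B ⊗_A N)` -/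
lemma hom_ext_proj {M : ModuleCat.{u} B} {N : ModuleCat.{u} A} {Q : ModuleCat.{u} A}
    (f g : (rs φ).obj (M ⊗ (ext φ).obj N) ⟶ Q)
    (h : ∀ (m : M) (b : B) (n : N), f.hom (m ⊗ₜ[B] (b ⊗ₜ[A,φ] n)) = g.hom (m ⊗ₜ[B] (b ⊗ₜ[A,φ] n))) :
    f = g := by
  apply ModuleCat.hom_ext
  apply LinearMap.ext
  intro (t : TensorProduct B M ((ext φ).obj N))
  induction t using TensorProduct.induction_on with
  | zero => exact (map_zero f.hom).trans (map_zero g.hom).symm
  | tmul m x =>
    letI : Module A B := Module.compHom B φ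
    have key : ∀ y : TensorProduct A B N,
        f.hom (m ⊗ₜ[B] (show ((ext φ).obj N : ModuleCat.{u} B) from y)) =
          g.hom (m ⊗ₜ[B] (show ((ext φ).obj N : ModuleCat.{u} B) from y)) := by
      intro y
      induction y using TensorProduct.induction_on with
      | zero =>
        have h0 : (m ⊗ₜ[B] (0 : ((ext φ).obj N : ModuleCat.{u} B))) =
            (0 : TensorProduct B M ((ext φ).obj N)) := TensorProduct.tmul_zero _ _
        exact (congrArg (fun z => f.hom z) h0).trans
          ((map_zero f.hom).trans ((map_zero g.hom).symm.trans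
            (congrArg (fun z => g.hom z) h0.symm)))
      | tmul b n => exact h m b n
      | add y y' hy hy' =>
        have h0 : (m ⊗ₜ[B] (show ((ext φ).obj N : ModuleCat.{u} B) from (y + y'))) =
            (m ⊗ₜ[B] (show ((ext φ).obj N : ModuleCat.{u} B) from y) +
              m ⊗ₜ[B] (show ((ext φ).obj N : ModuleCat.{u} B) from y') :
              TensorProduct B M ((ext φ).obj N)) := TensorProduct.tmul_add _ _ _
        refine (congrArg (fun z => f.hom z) h0).trans ?_
        refine Eq.trans ?_ (congrArg (fun z => g.hom z) h0.symm)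
        refine (map_add f.hom _ _).trans ?_
        refine Eq.trans ?_ (map_add g.hom _ _).symm
        exact congrArg₂ (· + ·) hy hy'
    exact key x
  | add t t' ht ht' =>
    refine (map_add f.hom _ _).trans ?_
    refine Eq.trans ?_ (map_add g.hom _ _).symm
    exact congrArg₂ (· + ·) ht ht'

variable (φ)

lemma projIso_natural_left {M M' : ModuleCat.{u} B} (g : M ⟶ M') (N : ModuleCat.{u} A) :
    (rs φ).map (g ▷ (ext φ).obj N) ≫ (projIso φ M' N).hom =
      (projIso φ M N).hom ≫ ((rs φ).map g ▷ N) := by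
  apply hom_ext_proj
  intro m b n
  change (projIso φ M' N).hom.hom ((g ▷ (ext φ).obj N).hom (m ⊗ₜ[B] (b ⊗ₜ[A,φ] n))) =
    ((rs φ).map g ▷ N).hom ((projIso φ M N).hom.hom (m ⊗ₜ[B] (b ⊗ₜ[A,φ] n)))
  rw [projIso_hom_tmul]
  refine (congrArg (fun z => (projIso φ M' N).hom.hom z)
    (ModuleCat.MonoidalCategory.whiskerRight_apply g ((ext φ).obj N) m _)).trans ?_
  refine (projIso_hom_tmul φ M' N (g.hom m) b n).trans ?_
  refine Eq.trans ?_ (ModuleCat.MonoidalCategory.whiskerRight_apply ((rs φ).map g) N _ n).symm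
  congr 1
  exact (map_smul g.hom b m).symm

lemma projIso_natural_right (M : ModuleCat.{u} B) {N N' : ModuleCat.{u} A} (h : N ⟶ N') :
    (rs φ).map (M ◁ (ext φ).map h) ≫ (projIso φ M N').hom =
      (projIso φ M N).hom ≫ ((rs φ).obj M ◁ h) := by
  apply hom_ext_proj
  intro m b n
  change (projIso φ M N').hom.hom ((M ◁ (ext φ).map h).hom (m ⊗ₜ[B] (b ⊗ₜ[A,φ] n))) =
    ((rs φ).obj M ◁ h).hom ((projIso φ M N).hom.hom (m ⊗ₜ[B] (b ⊗ₜ[A,φ] n)))
  rw [projIso_hom_tmul]
  refine (congrArg (fun z => (projIso φ M N').hom.hom z)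
    (ModuleCat.MonoidalCategory.whiskerLeft_apply M ((ext φ).map h) m _)).trans ?_
  refine Eq.trans ?_ (ModuleCat.MonoidalCategory.whiskerLeft_apply ((rs φ).obj M) h _ n).symm
  have h1 : ((ext φ).map h).hom (b ⊗ₜ[A,φ] n) = b ⊗ₜ[A,φ] h.hom n :=
    ModuleCat.ExtendScalars.map_tmul φ h b n
  refine (congrArg (fun z => (projIso φ M N').hom.hom (m ⊗ₜ[B] z)) h1).trans ?_
  exact projIso_hom_tmul φ M N' m b (h.hom n)

/-- the bifunctor `(M, N) ↦ (M ⊗_B (B ⊗_A N))|_A` -/
noncomputable abbrev biL : ModuleCat.{u} B ⥤ ModuleCat.{u} A ⥤ ModuleCat.{u} A :=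
  Groth.Agent.Helper9.TotFun1.FG
    (Groth.Agent.Helper9.TotFun2.GF (𝟭 (ModuleCat.{u} B)) (ext φ) (curriedTensor (ModuleCat.{u} B)))
    (rs φ)

/-- the bifunctor `(M, N) ↦ M|_A ⊗_A N` -/
noncomputable abbrev biR : ModuleCat.{u} B ⥤ ModuleCat.{u} A ⥤ ModuleCat.{u} A :=
  Groth.Agent.Helper9.TotFun2.GF (rs φ) (𝟭 (ModuleCat.{u} A)) (curriedTensor (ModuleCat.{u} A))

/-- the projection formula as an isomorphism of bifunctors -/
noncomputable def biIso : biL φ ≅ biR φ :=
  NatIso.ofComponents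
    (fun M => NatIso.ofComponents (fun N => projIso φ M N)
      (fun {N N'} h => projIso_natural_right φ M h))
    (fun {M M'} g => by
      apply NatTrans.ext
      funext N
      exact projIso_natural_left φ g N)

section Cx

open HomologicalComplex

/-- termwise extension of scalars -/
noncomputable abbrev extCx : DRing.Cx A ⥤ DRing.Cx B :=
  (ext φ).mapHomologicalComplex (ComplexShape.up ℤ)

/-- termwise restriction of scalars -/
noncomputable abbrev rCx : DRing.Cx B ⥤ DRing.Cx A :=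
  (rs φ).mapHomologicalComplex (ComplexShape.up ℤ)

variable (Y : DRing.Cx B) (N : DRing.Cx A)

instance : HasMapBifunctor Y N (biL φ) (ComplexShape.up ℤ) := fun _ => inferInstance
instance : HasMapBifunctor Y N (biR φ) (ComplexShape.up ℤ) := fun _ => inferInstance
instance : HasMapBifunctor Y N
    (Groth.Agent.Helper9.TotFun2.GF (𝟭 (ModuleCat.{u} B)) (ext φ) (curriedTensor (ModuleCat.{u} B)))
    (ComplexShape.up ℤ) := fun _ => inferInstance

/-- `Y ⊗_B (B ⊗_A N)` as the total complex of a bifunctor -/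
noncomputable def tensorExtIso :
    mapBifunctor Y N
      (Groth.Agent.Helper9.TotFun2.GF (𝟭 (ModuleCat.{u} B)) (ext φ)
        (curriedTensor (ModuleCat.{u} B))) (ComplexShape.up ℤ) ≅ Y ⊗ (extCx φ).obj N :=
  Groth.Agent.Helper9.TotFun2.precompIso (𝟭 (ModuleCat.{u} B)) (ext φ)
      (curriedTensor (ModuleCat.{u} B)) Y N (ComplexShape.up ℤ) ≪≫
    whiskerRightIso ((Functor.mapHomologicalComplexIdIso (ModuleCat.{u} B)
      (ComplexShape.up ℤ)).app Y) ((extCx φ).obj N)

/-- **the projection formula for complexes** -/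
noncomputable def projCxIso :
    (rCx φ).obj (Y ⊗ (extCx φ).obj N) ≅ (rCx φ).obj Y ⊗ N :=
  (rCx φ).mapIso (tensorExtIso φ Y N).symm ≪≫
    (Groth.Agent.Helper9.TotFun1.comparisonIso
      (Groth.Agent.Helper9.TotFun2.GF (𝟭 (ModuleCat.{u} B)) (ext φ)
        (curriedTensor (ModuleCat.{u} B))) (rs φ) (ComplexShape.up ℤ) Y N).symm ≪≫
    Groth.Agent.Helper9.KFlat18.mapBifunctorNatIso (ComplexShape.up ℤ) (biIso φ) Y N ≪≫
    Groth.Agent.Helper9.TotFun2.precompIso (rs φ) (𝟭 (ModuleCat.{u} A))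
      (curriedTensor (ModuleCat.{u} A)) Y N (ComplexShape.up ℤ) ≪≫
    whiskerLeftIso ((rCx φ).obj Y) ((Functor.mapHomologicalComplexIdIso (ModuleCat.{u} A)
      (ComplexShape.up ℤ)).app N)

end Cx

end Groth.Agent.Helper9.RingProj1
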