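import Mathlib
import Groth.Prelude.Def_DRing2
import Groth.Prelude.Def_DTen
import Groth.Agent.Helper9.RingProj1
import Groth.Agent.Helper6.TenCxQis
import Groth.Agent.Helper6.TenCxBdd
import Groth.Agent.Helper6.TenFin
import Groth.Agent.Helper6.SingleTen
import Groth.Agent.Helper6.KProjQ
import Groth.Agent.Helper6.KProjRes
import Groth.Agent.Helper3.DRingTor3
import Groth.Agent.Helper3.DRingTor4
import Groth.Agent.Helper3.DRingResP
import Groth.Agent.Helper3.DRing1

/-! Tor amplitude of a tensor product with scalars restricted (ring level). -/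

set_option autoImplicit false
set_option linter.style.haveILetI false
set_option linter.unusedVariables false
set_option linter.unusedSectionVars false
set_option linter.unusedSimpArgs false
universe u

namespace Groth.Agent.Helper9.RingProj2

open CategoryTheory CategoryTheory.Limits MonoidalCategory HomologicalComplex
open Groth.Agent.Helper6.TenCx Groth.Agent.Helper3.DRingLib Groth.Agent.Helper9.RingProj1

attribute [local instance] HasDerivedCategory.standard

section One

variable {R : Type u} [CommRing R]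

lemma exactAt_iff_of_quasiIso {K L : DRing.Cx R} (f : K ⟶ L) (hf : QuasiIso f) (i : ℤ) :
    K.ExactAt i ↔ L.ExactAt i :=
  exactAt_iff_of_quasiIsoAt f i

/-- a bounded above complex of flat modules is K-flat -/
lemma kflat_of_flat (E : DRing.Cx R) (b : ℤ) (hE : DRing.VanishesAbove E b)
    (hfl : DRing.TermwiseFlat E) : KFlat E :=
  kflat_of_boundedAbove_flat E b hE hfl

/-- upper bound for the cohomology of `E ⊗ L` -/
theorem exactAt_tensor_of_gt (E L : DRing.Cx R) (b d : ℤ) (hE : DRing.VanishesAbove E b)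
    (hfl : DRing.TermwiseFlat E) (hL : ∀ j : ℤ, d < j → L.ExactAt j) (i : ℤ) (hi : b + d < i) :
    (E ⊗ L).ExactAt i := by
  haveI : L.IsLE d := (CochainComplex.isLE_iff L d).2 hL
  have hq : QuasiIso (E ◁ L.ιTruncLE d) :=
    quasiIso_whiskerLeft (kflat_of_flat E b hE hfl) _ inferInstance
  refine (exactAt_iff_of_quasiIso _ hq i).1 ?_
  apply ExactAt.of_isZero
  exact Groth.Agent.Helper6.TenFin.vanishesAbove_tensor E (L.truncLE d) b d hE
    (fun j hj => (L.truncLE d).isZero_of_isStrictlyLE d j hj) i hi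

/-- lower bound for the cohomology of `E ⊗ W` -/
theorem exactAt_tensor_of_lt (E W : DRing.Cx R) (a b c : ℤ) (hE : DRing.VanishesOutside E a b)
    (hfl : DRing.TermwiseFlat E) (hW : ∀ j : ℤ, j < c → W.ExactAt j) (i : ℤ) (hi : i < a + c) :
    (E ⊗ W).ExactAt i := by
  haveI : W.IsGE c := (CochainComplex.isGE_iff W c).2 hW
  have hq : QuasiIso (E ◁ W.πTruncGE c) :=
    quasiIso_whiskerLeft (kflat_of_flat E b (fun j hj => hE j (Or.inr hj)) hfl) _ inferInstance
  refine (exactAt_iff_of_quasiIso _ hq i).2 ?_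
  apply ExactAt.of_isZero
  apply Groth.Agent.Helper6.TenFin.isZero_X
  intro p q hpq
  by_cases hp : p < a
  · exact Or.inl (hE p (Or.inl hp))
  · exact Or.inr ((W.truncGE c).isZero_of_isStrictlyGE c q (by omega))

/-- for `N'` K-flat, the exactness of `K ⊗ N'` only depends on the class of `K` in `D(R)` -/
theorem exactAt_tensor_iff_of_iso {K K' : DRing.Cx R} (e : DRing.toD K ≅ DRing.toD K')
    (N' : DRing.Cx R) (hN' : KFlat N') (i : ℤ) :
    (K ⊗ N').ExactAt i ↔ (K' ⊗ N').ExactAt i := by
  obtain ⟨P, f, hP, -, -, hf, -⟩ := Groth.Agent.Helper6.KProjRes.exists_resolution K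
  haveI := hP
  haveI : IsIso (DerivedCategory.Q.map f) :=
    (DerivedCategory.isIso_Q_map_iff_quasiIso (ModuleCat.{u} R) _).mpr hf
  obtain ⟨g, hg⟩ := Groth.Agent.Helper6.KProjQ.Q_map_surjective P K'
    (DerivedCategory.Q.map f ≫ e.hom)
  have hgq : QuasiIso g := by
    rw [← DerivedCategory.isIso_Q_map_iff_quasiIso, hg]
    infer_instance
  have h1 := exactAt_iff_of_quasiIso _ (quasiIso_whiskerRight hN' f hf) i
  have h2 := exactAt_iff_of_quasiIso _ (quasiIso_whiskerRight hN' g hgq) i
  exact h1.symm.trans h2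

/-- for `P` K-flat, the exactness of `P ⊗ K` only depends on the class of `K` in `D(R)` -/
theorem exactAt_tensor_iff_of_iso' {K K' : DRing.Cx R} (e : DRing.toD K ≅ DRing.toD K')
    (N' : DRing.Cx R) (hN' : KFlat N') (i : ℤ) :
    (N' ⊗ K).ExactAt i ↔ (N' ⊗ K').ExactAt i := by
  have h := exactAt_tensor_iff_of_iso e N' hN' i
  constructor
  · intro h1
    exact (h.1 (h1.of_iso (DTen.braidCx N' K))).of_iso (DTen.braidCx K' N')
  · intro h1
    exact (h.2 (h1.of_iso (DTen.braidCx N' K'))).of_iso (DTen.braidCx K N')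

/-- a free resolution of a module, as a quasi-isomorphism of complexes -/
theorem exists_module_resolution (N : ModuleCat.{u} R) :
    ∃ (N' : DRing.Cx R) (π : N' ⟶ Groth.Agent.Helper6.SingleTen.sN N),
      DRing.VanishesAbove N' 0 ∧ (∀ i : ℤ, Module.Projective R (N'.X i)) ∧ QuasiIso π := by
  have hb : (DRing.toD (Groth.Agent.Helper6.SingleTen.sN N)).IsLE 0 := by
    haveI : (Groth.Agent.Helper6.SingleTen.sN N).IsStrictlyLE 0 := inferInstance
    infer_instance
  exact exists_projective_resolution _ 0 hb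

/-- tor amplitude bounds the cohomology of `K ⊗ N'` from below, `N'` a resolution of a module -/
theorem exactAt_tensor_resolution_of_lt (K : DRing.Cx R) (c d : ℤ)
    (hK : DRing.HasTorAmplitudeIn R c d (DRing.toD K)) (N : ModuleCat.{u} R) (N' : DRing.Cx R)
    (π : N' ⟶ Groth.Agent.Helper6.SingleTen.sN N) (hN' : KFlat N') (hπ : QuasiIso π) (j : ℤ)
    (hj : j < c ∨ d < j) : (K ⊗ N').ExactAt j := by
  obtain ⟨F, hF, hFfl, ⟨eF⟩⟩ := hK
  rw [exactAt_tensor_iff_of_iso eF.symm N' hN' j]
  have hFk : KFlat F := kflat_of_flat F d (fun i hi => hF i (Or.inr hi)) hFfl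
  refine (exactAt_iff_of_quasiIso _ (quasiIso_whiskerLeft hFk π hπ) j).2 ?_
  apply ExactAt.of_isZero
  apply Groth.Agent.Helper6.TenFin.isZero_X
  intro p q hpq
  by_cases hq : q = 0
  · subst hq
    exact Or.inl (hF p (by omega))
  · exact Or.inr (HomologicalComplex.isZero_single_obj_X (ComplexShape.up ℤ) 0 N q hq)

/-- the cohomology of a complex with tor amplitude in `[c, d]` vanishes outside `[c, d]` -/
theorem exactAt_of_hasTorAmplitudeIn (K : DRing.Cx R) (c d : ℤ)
    (hK : DRing.HasTorAmplitudeIn R c d (DRing.toD K)) (j : ℤ) (hj : j < c ∨ d < j) :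
    K.ExactAt j := by
  obtain ⟨F, hF, hFfl, ⟨eF⟩⟩ := hK
  rw [exactAt_iff_isZero_homology]
  have h0 : IsZero (F.homology j) := by
    rw [← exactAt_iff_isZero_homology]
    exact ExactAt.of_isZero (hF j hj)
  exact h0.of_iso (((DerivedCategory.homologyFunctorFactors _ j).app _).symm ≪≫
    (DerivedCategory.homologyFunctor _ j).mapIso eF.symm ≪≫
    (DerivedCategory.homologyFunctorFactors _ j).app _)

end One

section Two

variable {A B : Type u} [CommRing A] [CommRing B] (φ : A →+* B)

/-- restriction of scalars commutes with homology -/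
noncomputable def rCxHomologyIso (Z : DRing.Cx B) (i : ℤ) :
    ((rCx φ).obj Z).homology i ≅ (rs φ).obj (Z.homology i) :=
  (Z.sc i).mapHomologyIso (rs φ)

/-- restriction of scalars preserves and reflects exactness -/
lemma exactAt_rCx_iff (Z : DRing.Cx B) (i : ℤ) :
    ((rCx φ).obj Z).ExactAt i ↔ Z.ExactAt i := by
  rw [exactAt_iff_isZero_homology, exactAt_iff_isZero_homology]
  constructor
  · intro h
    have h1 : IsZero ((rs φ).obj (Z.homology i)) := h.of_iso (rCxHomologyIso φ Z i).symm
    have h2 : Subsingleton ((rs φ).obj (Z.homology i)) := ModuleCat.subsingleton_of_isZero h1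
    haveI : Subsingleton (Z.homology i) := h2
    exact ModuleCat.isZero_of_subsingleton _
  · intro h
    exact (Functor.map_isZero (rs φ) h).of_iso (rCxHomologyIso φ Z i)

/-- **the core**: for `E` a complex of flat `B`-modules placed in `[a, b]` and `L` a complex of
`B`-modules whose restriction to `A` has tor amplitude in `[c, d]`, the restriction to `A` of
`E ⊗_B L` has tor amplitude in `[a + c, b + d]` -/
theorem core (E L : DRing.Cx B) (a b c d : ℤ) (hE : DRing.VanishesOutside E a b)
    (hfl : DRing.TermwiseFlat E)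
    (hL : DRing.HasTorAmplitudeIn A c d (DRing.toD ((rCx φ).obj L))) :
    DRing.HasTorAmplitudeIn A (a + c) (b + d) (DRing.toD ((rCx φ).obj (E ⊗ L))) := by
  have hEb : DRing.VanishesAbove E b := fun i hi => hE i (Or.inr hi)
  have hLex : ∀ j : ℤ, j < c ∨ d < j → L.ExactAt j := fun j hj =>
    (exactAt_rCx_iff φ L j).1 (exactAt_of_hasTorAmplitudeIn _ c d hL j hj)
  have hup : ∀ i : ℤ, b + d < i → ((rCx φ).obj (E ⊗ L)).ExactAt i := fun i hi =>
    (exactAt_rCx_iff φ _ i).2
      (exactAt_tensor_of_gt E L b d hEb hfl (fun j hj => hLex j (Or.inr hj)) i hi)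
  haveI hXle : ((rCx φ).obj (E ⊗ L)).IsLE (b + d) := (CochainComplex.isLE_iff _ _).2 hup
  have hXle' : (DRing.toD ((rCx φ).obj (E ⊗ L))).IsLE (b + d) := inferInstance
  obtain ⟨P, q, hP, pP, hq⟩ := exists_projective_resolution ((rCx φ).obj (E ⊗ L)) (b + d) hXle'
  have fP : DRing.TermwiseFlat P := fun i => by
    have := pP i
    infer_instance
  haveI : IsIso (DerivedCategory.Q.map q) :=
    (DerivedCategory.isIso_Q_map_iff_quasiIso (ModuleCat.{u} A) _).mpr hq
  rw [hasTorAmplitudeIn_iff']
  refine ⟨hXle', ⟨P, b + d, hP, fP, ⟨asIso (DerivedCategory.Q.map q)⟩, fun N i hi => ?_⟩⟩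
  apply Groth.Agent.Helper6.SingleTen.exactAt_tensorCx_of_exactAt N P i
  obtain ⟨N', π, hN'v, hN'p, hπ⟩ := exists_module_resolution N
  have hN'k : KFlat N' := kflat_of_flat N' 0 hN'v (fun i => by
    have := hN'p i
    infer_instance)
  have hPk : KFlat P := kflat_of_flat P (b + d) hP fP
  refine (exactAt_iff_of_quasiIso _ (quasiIso_whiskerRight hPk π hπ) i).1 ?_
  refine (exactAt_iff_of_quasiIso _ (quasiIso_whiskerLeft hN'k q hq) i).2 ?_
  refine ExactAt.of_iso ?_ ((rCx φ).mapIso (α_ E L ((extCx φ).obj N')).symm ≪≫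
    projCxIso φ (E ⊗ L) N' ≪≫ DTen.braidCx _ _)
  rw [exactAt_rCx_iff]
  apply exactAt_tensor_of_lt E _ a b c hE hfl _ i hi
  intro j hj
  rw [← exactAt_rCx_iff φ]
  refine ExactAt.of_iso ?_ (projCxIso φ L N').symm
  exact exactAt_tensor_resolution_of_lt ((rCx φ).obj L) c d hL N N' π hN'k hπ j (Or.inl hj)

end Two

end Groth.Agent.Helper9.RingProj2
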