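import Mathlib
import Groth.Agent.Helper9.RingProj2
import Groth.Agent.Helper3.DRingBC2

/-! Extension of scalars is monoidal on complexes; composition of extensions of scalars. -/

set_option autoImplicit false
set_option linter.style.haveILetI false
set_option linter.unusedVariables false
set_option linter.unusedSectionVars false
universe u

namespace Groth.Agent.Helper9.RLT1

open CategoryTheory CategoryTheory.Limits MonoidalCategory HomologicalComplex
open Groth.Agent.Helper9.RingProj1

section Mon

variable {A B : Type u} [CommRing A] [CommRing B] (φ : A →+* B)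

/-- the bifunctor `(M, N) ↦ B ⊗_A (M ⊗_A N)` -/
noncomputable abbrev biL' : ModuleCat.{u} A ⥤ ModuleCat.{u} A ⥤ ModuleCat.{u} B :=
  Groth.Agent.Helper9.TotFun1.FG (curriedTensor (ModuleCat.{u} A)) (ext φ)

/-- the bifunctor `(M, N) ↦ (B ⊗_A M) ⊗_B (B ⊗_A N)` -/
noncomputable abbrev biR' : ModuleCat.{u} A ⥤ ModuleCat.{u} A ⥤ ModuleCat.{u} B :=
  Groth.Agent.Helper9.TotFun2.GF (ext φ) (ext φ) (curriedTensor (ModuleCat.{u} B))

/-- monoidality of extension of scalars as an isomorphism of bifunctors -/
noncomputable def biIso' : biL' φ ≅ biR' φ :=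
  NatIso.ofComponents
    (fun M => NatIso.ofComponents (fun N => (Functor.Monoidal.μIso (ext φ) M N).symm)
      (fun {N N'} h => (Functor.OplaxMonoidal.δ_natural_right (ext φ) M h).symm))
    (fun {M M'} g => by
      apply NatTrans.ext
      funext N
      exact (Functor.OplaxMonoidal.δ_natural_left (ext φ) g N).symm)

variable (K L : DRing.Cx A)

instance : HasMapBifunctor K L (biL' φ) (ComplexShape.up ℤ) := fun _ => inferInstance
instance : HasMapBifunctor K L (biR' φ) (ComplexShape.up ℤ) := fun _ => inferInstance

/-- extension of scalars commutes with tensor products of complexes -/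
noncomputable def extTensorIso :
    (extCx φ).obj (K ⊗ L) ≅ (extCx φ).obj K ⊗ (extCx φ).obj L :=
  (Groth.Agent.Helper9.TotFun1.comparisonIso (curriedTensor (ModuleCat.{u} A)) (ext φ)
      (ComplexShape.up ℤ) K L).symm ≪≫
    Groth.Agent.Helper9.KFlat18.mapBifunctorNatIso (ComplexShape.up ℤ) (biIso' φ) K L ≪≫
    Groth.Agent.Helper9.TotFun2.precompIso (ext φ) (ext φ)
      (curriedTensor (ModuleCat.{u} B)) K L (ComplexShape.up ℤ)

end Mon

section Comp

variable {A B C : Type u} [CommRing A] [CommRing B] [CommRing C]

/-- extension of scalars along a composition -/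
noncomputable def extCompIso (φ : A →+* B) (ψ : B →+* C) (χ : A →+* C) (h : χ = ψ.comp φ)
    (N : DRing.Cx A) : (extCx χ).obj N ≅ (extCx ψ).obj ((extCx φ).obj N) := by
  subst h
  exact ((Functor.mapHomologicalComplexCompIso (ModuleCat.extendScalarsComp φ ψ).symm
    (ComplexShape.up ℤ)).app N).symm

end Comp

end Groth.Agent.Helper9.RLT1
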