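import Mathlib
import Groth.Agent.Helper9.RLT1

/-! Transfer of tor amplitude across a commutative square of rings
```
A --φ--> B
|μ       |lam
A' -ψ--> B'
```
with `lam` and `μ` flat. -/

set_option autoImplicit false
set_option linter.style.haveILetI false
set_option linter.unusedVariables false
set_option linter.unusedSectionVars false
universe u

namespace Groth.Agent.Helper9.RLT3

open CategoryTheory CategoryTheory.Limits MonoidalCategory HomologicalComplex TensorProduct
open Groth.Agent.Helper6.TenCx Groth.Agent.Helper3.DRingLib Groth.Agent.Helper9.RingProj1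
  Groth.Agent.Helper9.RingProj2 Groth.Agent.Helper9.RLT1

attribute [local instance] HasDerivedCategory.standard

section Flat

variable {A S : Type u} [CommRing A] [CommRing S] (μ : A →+* S)

/-- exactness is preserved by flat extension of scalars -/
lemma exactAt_extCx (hμ : μ.Flat) (Z : DRing.Cx A) (i : ℤ) (h : Z.ExactAt i) :
    ((extCx μ).obj Z).ExactAt i := by
  letI := μ.toAlgebra
  haveI : Module.Flat A S := hμ
  haveI := preservesHomology_bcF (A := A) S
  rw [exactAt_iff_isZero_homology] at h ⊢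
  exact (Functor.map_isZero (bcF A S) h).of_iso (bcHomologyIso S Z i)

lemma vanishesAbove_extCx (Z : DRing.Cx A) (b : ℤ) (h : DRing.VanishesAbove Z b) :
    DRing.VanishesAbove ((extCx μ).obj Z) b :=
  fun i hi => Functor.map_isZero (ext μ) (h i hi)

lemma termwiseFlat_extCx (Z : DRing.Cx A) (h : DRing.TermwiseFlat Z) :
    DRing.TermwiseFlat ((extCx μ).obj Z) := by
  letI := μ.toAlgebra
  exact bcCx_termwiseFlat S Z h

/-- a quasi-isomorphism onto a module in degree `0` stays one after flat base change -/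
theorem exists_bc_resolution (hμ : μ.Flat)
    (N : ModuleCat.{u} A) (N' : DRing.Cx A) (π : N' ⟶ Groth.Agent.Helper6.SingleTen.sN N)
    (hπ : QuasiIso π) :
    ∃ π' : (extCx μ).obj N' ⟶ Groth.Agent.Helper6.SingleTen.sN ((ext μ).obj N), QuasiIso π' := by
  letI := μ.toAlgebra
  haveI : Module.Flat A S := hμ
  haveI := preservesHomology_bcF (A := A) S
  haveI := hπ
  haveI h1 : QuasiIso ((extCx μ).map π) :=
    quasiIso_map_of_preservesHomology π (bcF A S)
  exact ⟨(extCx μ).map π ≫
    ((HomologicalComplex.singleMapHomologicalComplex (ext μ)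
      (ComplexShape.up ℤ) 0).hom.app N), inferInstance⟩

end Flat

section Square

variable {A B A' B' : Type u} [CommRing A] [CommRing B] [CommRing A'] [CommRing B']
  (φ : A →+* B) (lam : B →+* B') (μ : A →+* A') (ψ : A' →+* B')

/-- the two ways of computing the tensor product around the square -/
noncomputable def squareIso (hcomm : lam.comp φ = ψ.comp μ) (K : DRing.Cx B) (N : DRing.Cx A) :
    (rCx ψ).obj ((extCx lam).obj (K ⊗ (extCx φ).obj N)) ≅
      (rCx ψ).obj ((extCx lam).obj K) ⊗ (extCx μ).obj N :=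
  (rCx ψ).mapIso (extTensorIso lam K ((extCx φ).obj N) ≪≫
    whiskerLeftIso _ ((extCompIso φ lam (lam.comp φ) rfl N).symm ≪≫
      extCompIso μ ψ (lam.comp φ) hcomm N)) ≪≫
    projCxIso ψ ((extCx lam).obj K) ((extCx μ).obj N)

/-- `(K ⊗_B (B ⊗_A N))` is exact at `i` iff `K|_A ⊗_A N` is -/
lemma exactAt_proj_iff (K : DRing.Cx B) (N : DRing.Cx A) (i : ℤ) :
    (K ⊗ (extCx φ).obj N).ExactAt i ↔ ((rCx φ).obj K ⊗ N).ExactAt i := by
  rw [← exactAt_rCx_iff φ]
  exact ⟨fun h => ExactAt.of_iso h (projCxIso φ K N),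
    fun h => ExactAt.of_iso h (projCxIso φ K N).symm⟩

/-- **descent**: tor amplitude over `A` from tor amplitude over the `A'_j` for a jointly
faithful flat family of squares -/
theorem up {J : Type*} (B' A' : J → Type u) [∀ j, CommRing (B' j)] [∀ j, CommRing (A' j)]
    [∀ j, Algebra B (B' j)] [∀ j, Module.Flat B (B' j)]
    (μ : ∀ j, A →+* A' j) (hμ : ∀ j, (μ j).Flat) (ψ : ∀ j, A' j →+* B' j)
    (hcomm : ∀ j, (algebraMap B (B' j)).comp φ = (ψ j).comp (μ j))
    (hJF : JointlyFaithful B B') (K : DRing.Cx B) (a b : ℤ)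
    (h : ∀ j, DRing.HasTorAmplitudeIn (A' j) a b
      (DRing.toD ((rCx (ψ j)).obj ((extCx (algebraMap B (B' j))).obj K)))) :
    DRing.HasTorAmplitudeIn A a b (DRing.toD ((rCx φ).obj K)) := by
  have hKex : ∀ j : ℤ, j < a ∨ b < j → K.ExactAt j := by
    intro i hi
    apply exactAt_of_forall_bcCx hJF K i
    intro j
    exact (exactAt_rCx_iff _ _ i).1 (exactAt_of_hasTorAmplitudeIn _ a b (h j) i hi)
  haveI hXle : ((rCx φ).obj K).IsLE b :=
    (CochainComplex.isLE_iff _ _).2 (fun i hi => (exactAt_rCx_iff φ K i).2 (hKex i (Or.inr hi)))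
  have hXle' : (DRing.toD ((rCx φ).obj K)).IsLE b := inferInstance
  obtain ⟨P, q, hP, pP, hq⟩ := exists_projective_resolution ((rCx φ).obj K) b hXle'
  have fP : DRing.TermwiseFlat P := fun i => by
    have := pP i
    infer_instance
  haveI : IsIso (DerivedCategory.Q.map q) :=
    (DerivedCategory.isIso_Q_map_iff_quasiIso (ModuleCat.{u} A) _).mpr hq
  rw [hasTorAmplitudeIn_iff']
  refine ⟨hXle', ⟨P, b, hP, fP, ⟨asIso (DerivedCategory.Q.map q)⟩, fun N i hi => ?_⟩⟩
  apply Groth.Agent.Helper6.SingleTen.exactAt_tensorCx_of_exactAt N P i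
  obtain ⟨N', π, hN'v, hN'p, hπ⟩ := exists_module_resolution N
  have hN'fl : DRing.TermwiseFlat N' := fun i => by
    have := hN'p i
    infer_instance
  have hN'k : KFlat N' := kflat_of_flat N' 0 hN'v hN'fl
  have hPk : KFlat P := kflat_of_flat P b hP fP
  refine (exactAt_iff_of_quasiIso _ (quasiIso_whiskerRight hPk π hπ) i).1 ?_
  refine (exactAt_iff_of_quasiIso _ (quasiIso_whiskerLeft hN'k q hq) i).2 ?_
  refine ExactAt.of_iso ?_ (DTen.braidCx _ _)
  rw [← exactAt_proj_iff]
  apply exactAt_of_forall_bcCx hJF _ i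
  intro j
  obtain ⟨π', hπ'⟩ := exists_bc_resolution (μ j) (hμ j) N N' π hπ
  have hk' : KFlat ((extCx (μ j)).obj N') :=
    kflat_of_flat _ 0 (vanishesAbove_extCx (μ j) N' 0 hN'v) (termwiseFlat_extCx (μ j) N' hN'fl)
  have key : (((rCx (ψ j)).obj ((extCx (algebraMap B (B' j))).obj K)) ⊗
      (extCx (μ j)).obj N').ExactAt i :=
    exactAt_tensor_resolution_of_lt _ a b (h j) ((ext (μ j)).obj N) _ π' hk' hπ' i (Or.inl hi)
  rw [← exactAt_rCx_iff (ψ j)]
  exact ExactAt.of_iso key (squareIso φ (algebraMap B (B' j)) (μ j) (ψ j) (hcomm j) K N').symm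

/-- **localization**: tor amplitude over `A'` from tor amplitude over `A`, when every
`A'`-module is extended from its restriction to `A` -/
theorem down (hlam : lam.Flat) (hμ : μ.Flat)
    (hμ' : ∀ N : ModuleCat.{u} A', Nonempty ((ext μ).obj ((rs μ).obj N) ≅ N))
    (hcomm : lam.comp φ = ψ.comp μ) (K : DRing.Cx B) (a b : ℤ)
    (h : DRing.HasTorAmplitudeIn A a b (DRing.toD ((rCx φ).obj K))) :
    DRing.HasTorAmplitudeIn A' a b (DRing.toD ((rCx ψ).obj ((extCx lam).obj K))) := by
  have hKex : ∀ j : ℤ, j < a ∨ b < j → K.ExactAt j := fun j hj =>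
    (exactAt_rCx_iff φ K j).1 (exactAt_of_hasTorAmplitudeIn _ a b h j hj)
  set X := (rCx ψ).obj ((extCx lam).obj K) with hX
  haveI hXle : X.IsLE b :=
    (CochainComplex.isLE_iff _ _).2 (fun i hi => (exactAt_rCx_iff ψ _ i).2
      (exactAt_extCx lam hlam K i (hKex i (Or.inr hi))))
  have hXle' : (DRing.toD X).IsLE b := inferInstance
  obtain ⟨P, q, hP, pP, hq⟩ := exists_projective_resolution X b hXle'
  have fP : DRing.TermwiseFlat P := fun i => by
    have := pP i
    infer_instance
  haveI : IsIso (DerivedCategory.Q.map q) :=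
    (DerivedCategory.isIso_Q_map_iff_quasiIso (ModuleCat.{u} A') _).mpr hq
  rw [hasTorAmplitudeIn_iff']
  refine ⟨hXle', ⟨P, b, hP, fP, ⟨asIso (DerivedCategory.Q.map q)⟩, fun N i hi => ?_⟩⟩
  apply Groth.Agent.Helper6.SingleTen.exactAt_tensorCx_of_exactAt N P i
  -- a resolution of `N` extended from `A`
  obtain ⟨N', π, hN'v, hN'p, hπ⟩ := exists_module_resolution ((rs μ).obj N)
  have hN'fl : DRing.TermwiseFlat N' := fun i => by
    have := hN'p i
    infer_instance
  have hN'k : KFlat N' := kflat_of_flat N' 0 hN'v hN'fl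
  obtain ⟨π', hπ'⟩ := exists_bc_resolution μ hμ ((rs μ).obj N) N' π hπ
  obtain ⟨eN⟩ := hμ' N
  let π'' : (extCx μ).obj N' ⟶ Groth.Agent.Helper6.SingleTen.sN N :=
    π' ≫ (HomologicalComplex.single (ModuleCat.{u} A') (ComplexShape.up ℤ) 0).map eN.hom
  haveI := hπ'
  have hπ'' : QuasiIso π'' := inferInstance
  have hk' : KFlat ((extCx μ).obj N') :=
    kflat_of_flat _ 0 (vanishesAbove_extCx μ N' 0 hN'v) (termwiseFlat_extCx μ N' hN'fl)
  have hPk : KFlat P := kflat_of_flat P b hP fP
  refine (exactAt_iff_of_quasiIso _ (quasiIso_whiskerRight hPk π'' hπ'') i).1 ?_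
  refine (exactAt_iff_of_quasiIso _ (quasiIso_whiskerLeft hk' q hq) i).2 ?_
  refine ExactAt.of_iso ?_ (DTen.braidCx _ _)
  refine ExactAt.of_iso ?_ (squareIso φ lam μ ψ hcomm K N')
  rw [exactAt_rCx_iff]
  apply exactAt_extCx lam hlam
  rw [exactAt_proj_iff]
  exact exactAt_tensor_resolution_of_lt _ a b h ((rs μ).obj N) N' π hN'k hπ i (Or.inl hi)

end Square

end Groth.Agent.Helper9.RLT3
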