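import Mathlib
import Groth.Prelude.Def_KFlatSite
import Groth.Agent.Helper9.KFlat17

/-!
# K-flat resolutions on a ringed site, keeping track of boundedness above: the stages
-/

set_option autoImplicit false
set_option linter.style.haveILetI false
set_option linter.unusedSectionVars false

namespace Groth.Agent.Helper9.KFlatB1

open CategoryTheory Limits HomologicalComplex CochainComplex HomComplex ZeroObject
  Groth.Agent.Helper9.KFlat1
  Groth.Agent.Helper9.KFlat2 Groth.Agent.Helper9.KFlat3 Groth.Agent.Helper9.KFlat4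
  Groth.Agent.Helper9.KFlat5 Groth.Agent.Helper9.KFlat6 Groth.Agent.Helper9.KFlat8
  Groth.Agent.Helper9.KFlat9
  Groth.Agent.Helper9.KFlat10 Groth.Agent.Helper9.KFlat12 Groth.Agent.Helper9.KFlat14
  Groth.Agent.Helper9.KFlat16

universe u

section Abstract

variable {A : Type*} [Category A] [Abelian A]

lemma isZero_mappingCone_X {K L : CochainComplex A ℤ} (φ : K ⟶ L) (n : ℤ)
    (hK : IsZero (K.X (n + 1))) (hL : IsZero (L.X n)) : IsZero ((mappingCone φ).X n) := by
  rw [IsZero.iff_id_eq_zero, ← mappingCone.id_X φ n (n + 1) rfl,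
    hK.eq_of_tgt ((mappingCone.fst φ).1.v n (n + 1) rfl) 0,
    hL.eq_of_tgt ((mappingCone.snd φ).v n n (add_zero n)) 0, zero_comp, zero_comp, add_zero]

lemma isStrictlyLE_mappingCone {K L : CochainComplex A ℤ} (φ : K ⟶ L) (b : ℤ)
    (hK : K.IsStrictlyLE (b + 1)) (hL : L.IsStrictlyLE b) : (mappingCone φ).IsStrictlyLE b := by
  rw [CochainComplex.isStrictlyLE_iff]
  intro i hi
  exact isZero_mappingCone_X φ i (K.isZero_of_isStrictlyLE (b + 1) (i + 1) (by omega))
    (L.isZero_of_isStrictlyLE b i hi)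

lemma isStrictlyLE_mappingCocone {K L : CochainComplex A ℤ} (φ : K ⟶ L) (b : ℤ)
    (hK : K.IsStrictlyLE b) (hL : L.IsStrictlyLE b) : (mappingCocone φ).IsStrictlyLE (b + 1) := by
  rw [CochainComplex.isStrictlyLE_iff]
  intro i hi
  exact isZero_mappingCone_X φ (i + -1) (K.isZero_of_isStrictlyLE b (i + -1 + 1) (by omega))
    (L.isZero_of_isStrictlyLE b (i + -1) (by omega))

lemma isZero_cycles_of_isZero_X (K : CochainComplex A ℤ) (n : ℤ) (h : IsZero (K.X n)) :
    IsZero (K.cycles n) :=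
  IsZero.of_mono (K.iCycles n) h

end Abstract

variable {C : Type u} [SmallCategory C] {J : GrothendieckTopology C} {O : Sheaf J CommRingCat.{u}}

variable (G : CochainComplex (ModSite.Mod O) ℤ)

/-- the K-flat cover of a complex, vanishing where the cycles of the complex vanish -/
theorem exists_cover_le : ∃ (R : CochainComplex (ModSite.Mod O) ℤ) (θ : R ⟶ G),
    ModSite.IsKFlat R ∧ (∀ n, ModSite.IsFlat (R.X n)) ∧ (∀ n, Epi (homologyMap θ n)) ∧
      ∀ n, IsZero (G.cycles n) → IsZero (R.X n) := by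
  have hE : ∀ n : ℤ, ∃ (E : ModSite.Mod O) (e : E ⟶ G.cycles n), ModSite.IsFlat E ∧ Epi e ∧
      (IsZero (G.cycles n) → IsZero E) := fun n => by
    by_cases hz : IsZero (G.cycles n)
    · refine ⟨0, 0, Groth.Agent.Helper9.FlatCx.isFlat_of_isZero _ (isZero_zero _), ?_,
        fun _ => isZero_zero _⟩
      exact ⟨fun g h _ => hz.eq_of_src g h⟩
    · obtain ⟨E, e, hE, he⟩ := Groth.Agent.Helper9.TensorFree.exists_epi_of_isFlat (G.cycles n)
      exact ⟨E, e, hE, he, fun h => absurd h hz⟩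
  choose E e hE he hz using hE
  let θ : sigmaSingle E ⟶ G := Sigma.desc (fun n => σ G n (e n))
  have hθ : ∀ n, ιSingle E n ≫ θ = σ G n (e n) := fun n => Sigma.ι_desc _ _
  refine ⟨sigmaSingle E, θ, isKFlat_sigmaSingle hE, isFlat_sigmaSingle_X hE, ?_, ?_⟩
  · intro n
    haveI := he n
    haveI := epi_homologyMap_σ G n (e n)
    have h1 : homologyMap (ιSingle E n) n ≫ homologyMap θ n = homologyMap (σ G n (e n)) n := by
      rw [← homologyMap_comp, hθ]
    haveI : Epi (homologyMap (ιSingle E n) n ≫ homologyMap θ n) := by rw [h1]; infer_instance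
    exact epi_of_epi (homologyMap (ιSingle E n) n) _
  · intro n h
    exact (hz n h).of_iso (xIso E n).symm

theorem exists_cover_isStrictlyLE (b : ℤ) (hG : G.IsStrictlyLE b) :
    ∃ (R : CochainComplex (ModSite.Mod O) ℤ) (θ : R ⟶ G),
    ModSite.IsKFlat R ∧ (∀ n, ModSite.IsFlat (R.X n)) ∧ (∀ n, Epi (homologyMap θ n)) ∧
      R.IsStrictlyLE b := by
  obtain ⟨R, θ, h1, h2, h3, h4⟩ := exists_cover_le G
  refine ⟨R, θ, h1, h2, h3, ?_⟩
  rw [CochainComplex.isStrictlyLE_iff]
  intro i hi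
  exact h4 i (isZero_cycles_of_isZero_X G i (G.isZero_of_isStrictlyLE b i hi))

variable {G} {P : CochainComplex (ModSite.Mod O) ℤ} (q : P ⟶ G)

/-- one stage of the construction: kill the kernel on cohomology -/
theorem stage_le (b : ℤ) (hG : G.IsStrictlyLE b) (hP : P.IsStrictlyLE b) :
    ∃ (P' : CochainComplex (ModSite.Mod O) ℤ) (ι : P ⟶ P') (q' : P' ⟶ G),
    ι ≫ q' = q ∧ (ModSite.IsKFlat P → ModSite.IsKFlat P') ∧
    ((∀ n, ModSite.IsFlat (P.X n)) → ∀ n, ModSite.IsFlat (P'.X n)) ∧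
    (∀ n, kernel.ι (homologyMap q n) ≫ homologyMap ι n = 0) ∧ P'.IsStrictlyLE b := by
  obtain ⟨R, θ, hR, hRf, hθ, hRb⟩ :=
    exists_cover_isStrictlyLE (mappingCocone q) (b + 1) (isStrictlyLE_mappingCocone q b hP hG)
  refine ⟨KFlat15.P' q θ, KFlat15.ι q θ, KFlat15.q' q θ, KFlat15.ι_q' q θ, ?_, ?_, ?_, ?_⟩
  · intro hP
    exact (isKFlat_cone (KFlat15.ψ q θ)).1 hR hP
  · intro hP n
    exact isFlat_mappingCone_X (KFlat15.ψ q θ) hRf hP n
  · intro n
    haveI := hθ n
    exact KFlat15.kill q θ n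
  · exact isStrictlyLE_mappingCone (KFlat15.ψ q θ) b hRb hP

/-- the initial stage: make the map an epimorphism on cohomology -/
theorem stage0_le (b : ℤ) (hG : G.IsStrictlyLE b) (hP : P.IsStrictlyLE b) :
    ∃ (P' : CochainComplex (ModSite.Mod O) ℤ) (ι : P ⟶ P') (q' : P' ⟶ G),
    ι ≫ q' = q ∧ (ModSite.IsKFlat P → ModSite.IsKFlat P') ∧
    ((∀ n, ModSite.IsFlat (P.X n)) → ∀ n, ModSite.IsFlat (P'.X n)) ∧
    (∀ n, Epi (homologyMap q' n)) ∧ P'.IsStrictlyLE b := by
  obtain ⟨R, θ, hR, hRf, hθ, hRb⟩ := exists_cover_isStrictlyLE G b hG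
  let S : ShortComplex (CochainComplex (ModSite.Mod O) ℤ) :=
    ShortComplex.mk (biprod.inl : P ⟶ P ⊞ R) (biprod.snd : P ⊞ R ⟶ R) (by simp)
  let spl : S.Splitting := ShortComplex.Splitting.ofHasBinaryBiproduct P R
  have hS : S.ShortExact := spl.shortExact
  refine ⟨P ⊞ R, biprod.inl, biprod.desc q θ, biprod.inl_desc _ _, ?_, ?_, ?_, ?_⟩
  · intro hP
    exact (isKFlat_shortExact S hS hRf).2.1 hP hR
  · intro hP n
    let Sn : ShortComplex (ModSite.Mod O) :=
      S.map (eval (ModSite.Mod O) (ComplexShape.up ℤ) n)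
    have h : Sn.ShortExact := (spl.map (eval (ModSite.Mod O) (ComplexShape.up ℤ) n)).shortExact
    have h1 : ModSite.IsFlat (O := O) Sn.X₁ := hP n
    have h3 : ModSite.IsFlat (O := O) Sn.X₃ := hRf n
    exact Groth.Agent.Helper9.TensorSES.isFlat_X₂ Sn h h1 h3
  · intro n
    haveI := hθ n
    have h1 : homologyMap (biprod.inr : R ⟶ P ⊞ R) n ≫ homologyMap (biprod.desc q θ) n =
        homologyMap θ n := by
      rw [← homologyMap_comp, biprod.inr_desc]
    haveI : Epi (homologyMap (biprod.inr : R ⟶ P ⊞ R) n ≫ homologyMap (biprod.desc q θ) n) := by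
      rw [h1]; infer_instance
    exact epi_of_epi (homologyMap (biprod.inr : R ⟶ P ⊞ R) n) _
  · rw [CochainComplex.isStrictlyLE_iff]
    intro i hi
    let Sn : ShortComplex (ModSite.Mod O) :=
      S.map (eval (ModSite.Mod O) (ComplexShape.up ℤ) i)
    have h : Sn.ShortExact := (spl.map (eval (ModSite.Mod O) (ComplexShape.up ℤ) i)).shortExact
    exact h.exact.isZero_of_both_zeros
      ((P.isZero_of_isStrictlyLE b i hi).eq_of_src _ _)
      ((R.isZero_of_isStrictlyLE b i hi).eq_of_tgt _ _)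

end Groth.Agent.Helper9.KFlatB1
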