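import Mathlib
import Groth.Prelude.Def_KFlatSite
import Groth.Agent.Helper9.KFlatB1

/-!
# Bounded above flat resolutions of bounded above complexes on a ringed site
-/

set_option autoImplicit false
set_option linter.style.haveILetI false
set_option linter.unusedSectionVars false

namespace Groth.Agent.Helper9.KFlatB2

open CategoryTheory Limits HomologicalComplex CochainComplex HomComplex ZeroObject
  Groth.Agent.Helper9.KFlat1
  Groth.Agent.Helper9.KFlat5 Groth.Agent.Helper9.KFlat8
  Groth.Agent.Helper9.KFlat10 Groth.Agent.Helper9.KFlat12 Groth.Agent.Helper9.KFlat14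
  Groth.Agent.Helper9.KFlat17 Groth.Agent.Helper9.KFlatB1
  Groth.Agent.Helper9.TensorFlat Groth.Agent.Helper9.TensorAdj

universe u

variable {C : Type u} [SmallCategory C] {J : GrothendieckTopology C} {O : Sheaf J CommRingCat.{u}}

/-- a filtered colimit of complexes which are strictly `≤ b` is strictly `≤ b` -/
theorem isStrictlyLE_of_isColimit {I : Type} [SmallCategory I]
    {D : I ⥤ CochainComplex (ModSite.Mod O) ℤ} (c : Cocone D) (hc : IsColimit c) (b : ℤ)
    (h : ∀ j, (D.obj j).IsStrictlyLE b) : c.pt.IsStrictlyLE b := by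
  rw [CochainComplex.isStrictlyLE_iff]
  intro n hn
  let E : CochainComplex (ModSite.Mod O) ℤ ⥤ ModSite.Mod O :=
    eval (ModSite.Mod O) (ComplexShape.up ℤ) n
  haveI : PreservesColimitsOfShape I E := by
    dsimp only [E]; infer_instance
  have hc' : IsColimit (E.mapCocone c) := isColimitOfPreserves E hc
  rw [IsZero.iff_id_eq_zero]
  refine hc'.hom_ext (fun j => ?_)
  exact ((D.obj j).isZero_of_isStrictlyLE b n hn).eq_of_src _ _

variable (G : CochainComplex (ModSite.Mod O) ℤ) (b : ℤ)

/-- a bounded above complex over `G` -/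
structure StgB where
  /-- the complex -/
  P : CochainComplex (ModSite.Mod O) ℤ
  /-- the map -/
  q : P ⟶ G
  /-- boundedness -/
  hP : P.IsStrictlyLE b

variable {G b} (hG : G.IsStrictlyLE b)

/-- the next stage -/
noncomputable def next (s : StgB G b) : StgB G b :=
  ⟨(stage_le s.q b hG s.hP).choose, (stage_le s.q b hG s.hP).choose_spec.choose_spec.choose,
    (stage_le s.q b hG s.hP).choose_spec.choose_spec.choose_spec.2.2.2.2⟩

/-- the transition map -/
noncomputable def nextι (s : StgB G b) : s.P ⟶ (next hG s).P :=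
  (stage_le s.q b hG s.hP).choose_spec.choose

lemma nextι_q (s : StgB G b) : nextι hG s ≫ (next hG s).q = s.q :=
  (stage_le s.q b hG s.hP).choose_spec.choose_spec.choose_spec.1

lemma isKFlat_next (s : StgB G b) (h : ModSite.IsKFlat s.P) : ModSite.IsKFlat (next hG s).P :=
  (stage_le s.q b hG s.hP).choose_spec.choose_spec.choose_spec.2.1 h

lemma isFlat_next (s : StgB G b) (h : ∀ n, ModSite.IsFlat (s.P.X n)) (n : ℤ) :
    ModSite.IsFlat ((next hG s).P.X n) :=
  (stage_le s.q b hG s.hP).choose_spec.choose_spec.choose_spec.2.2.1 h n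

lemma kill_next (s : StgB G b) (n : ℤ) :
    kernel.ι (homologyMap s.q n) ≫ homologyMap (nextι hG s) n = 0 :=
  (stage_le s.q b hG s.hP).choose_spec.choose_spec.choose_spec.2.2.2.1 n

/-- the sequence of stages -/
noncomputable def seq (s : StgB G b) : ℕ → StgB G b
  | 0 => s
  | (n + 1) => next hG (seq s n)

/-- the diagram -/
noncomputable def diag (s : StgB G b) : ℕ ⥤ CochainComplex (ModSite.Mod O) ℤ :=
  Functor.ofSequence (X := fun n => (seq hG s n).P) (fun n => nextι hG (seq hG s n))

/-- the cocone over the diagram with point `G` -/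
noncomputable def coconeG (s : StgB G b) : Cocone (diag hG s) where
  pt := G
  ι := NatTrans.ofSequence (F := diag hG s) (G := (Functor.const ℕ).obj G)
    (fun n => (seq hG s n).q) (by
      intro n
      have h1 : (diag hG s).map (homOfLE (n.le_add_right 1)) = nextι hG (seq hG s n) :=
        Functor.ofSequence_map_homOfLE_succ _ n
      rw [h1]
      show nextι hG (seq hG s n) ≫ (next hG (seq hG s n)).q = (seq hG s n).q ≫ 𝟙 G
      rw [nextι_q, Category.comp_id])

lemma isKFlat_seq (s : StgB G b) (h : ModSite.IsKFlat s.P) (n : ℕ) :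
    ModSite.IsKFlat (seq hG s n).P := by
  induction n with
  | zero => exact h
  | succ n ih => exact isKFlat_next hG _ ih

lemma isFlat_seq (s : StgB G b) (h : ∀ n, ModSite.IsFlat (s.P.X n)) (i : ℕ) (n : ℤ) :
    ModSite.IsFlat ((seq hG s i).P.X n) := by
  induction i generalizing n with
  | zero => exact h n
  | succ i ih => exact isFlat_next hG _ ih n

/-- iterating the stages: every map `P₀ ⟶ G` of complexes which are strictly `≤ b` factors through
a quasi-isomorphism `P ⟶ G` with `P` strictly `≤ b`, K-flat (resp. with flat terms) if `P₀` is -/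
theorem exists_resolution_of_le {P₀ G : CochainComplex (ModSite.Mod O) ℤ} (q₀ : P₀ ⟶ G) (b : ℤ)
    (hG : G.IsStrictlyLE b) (hP₀ : P₀.IsStrictlyLE b) :
    ∃ (P : CochainComplex (ModSite.Mod O) ℤ) (ι : P₀ ⟶ P) (q : P ⟶ G),
      ι ≫ q = q₀ ∧ QuasiIso q ∧ (ModSite.IsKFlat P₀ → ModSite.IsKFlat P) ∧
      ((∀ n, ModSite.IsFlat (P₀.X n)) → ∀ n, ModSite.IsFlat (P.X n)) ∧ P.IsStrictlyLE b := by
  obtain ⟨P₁, ι₁, q₁, h1, hkf1, hf1, hE, hb1⟩ := stage0_le q₀ b hG hP₀
  let s : StgB G b := ⟨P₁, q₁, hb1⟩
  let D := diag hG s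
  let c : Cocone D := colimit.cocone D
  let hc : IsColimit c := colimit.isColimit D
  let t : Cocone D := coconeG hG s
  let i₀ : P₁ ⟶ c.pt := c.ι.app 0
  let d : c.pt ⟶ G := hc.desc t
  have hi₀ : i₀ ≫ d = q₁ := hc.fac t 0
  refine ⟨c.pt, ι₁ ≫ i₀, d, ?_, ?_, ?_, ?_, ?_⟩
  · rw [Category.assoc, hi₀]
    exact h1
  · show QuasiIso (hc.desc t)
    apply KFlat13.quasiIso_desc c hc t
    · intro n
      exact hE n
    · intro i n
      have h2 : D.map (homOfLE (Nat.le_succ i)) = nextι hG (seq hG s i) :=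
        Functor.ofSequence_map_homOfLE_succ _ i
      rw [h2]
      exact kill_next hG (seq hG s i) n
  · intro h0
    exact isKFlat_of_isColimit c hc (fun j => isKFlat_seq hG s (hkf1 h0) j)
  · intro h0 n
    exact isFlat_X_of_isColimit c hc (fun j n => isFlat_seq hG s (hf1 h0) j n) n
  · exact isStrictlyLE_of_isColimit c hc b (fun j => (seq hG s j).hP)

/-- bounded above flat resolutions -/
theorem exists_flat_resolution_le (G : CochainComplex (ModSite.Mod O) ℤ) (b : ℤ)
    (hG : G.IsStrictlyLE b) :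
    ∃ (P : CochainComplex (ModSite.Mod O) ℤ) (q : P ⟶ G), QuasiIso q ∧ ModSite.IsKFlat P ∧
      (∀ n, ModSite.IsFlat (P.X n)) ∧ P.IsStrictlyLE b := by
  have h0 : (0 : CochainComplex (ModSite.Mod O) ℤ).IsStrictlyLE b := by
    rw [CochainComplex.isStrictlyLE_iff]
    intro i _
    exact Functor.map_isZero (eval _ _ i) (isZero_zero _)
  obtain ⟨P, ι, q, -, hq, hkf, hfl, hb⟩ := exists_resolution_of_le (0 : 0 ⟶ G) b hG h0
  refine ⟨P, q, hq, hkf (isKFlat_zero (isZero_zero _)), hfl (fun n => ?_), hb⟩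
  exact Groth.Agent.Helper9.FlatCx.isFlat_of_isZero _
    (Functor.map_isZero (eval _ _ n) (isZero_zero _))

end Groth.Agent.Helper9.KFlatB2
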