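import Mathlib
import Groth.Prelude.Def_KFlatSite
import Groth.Agent.Helper9.KFlat19

/-!
# Flatness of a cokernel from vanishing of Tor
-/

set_option autoImplicit false
set_option linter.style.haveILetI false
set_option linter.unusedSectionVars false

namespace Groth.Agent.Helper9.LTM4

open CategoryTheory Category Limits HomologicalComplex
  Groth.Agent.Helper9.TensorAdj Groth.Agent.Helper9.TensorFlat Groth.Agent.Helper9.TensorSES

universe u

section Abstract

variable {A : Type*} [Category A] [Abelian A] {K L : CochainComplex A ℤ} (φ : K ⟶ L)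

/-- a four lemma for `opcycles` -/
lemma mono_opcyclesMap (a : ℤ) [Mono (homologyMap φ a)] [Mono (φ.f (a + 1))] :
    Mono (opcyclesMap φ a) := by
  refine Preadditive.mono_of_cancel_zero _ (fun {W} k hk => ?_)
  have h1 : k ≫ K.fromOpcycles a (a + 1) = 0 := by
    rw [← cancel_mono (φ.f (a + 1)), zero_comp, assoc]
    have : K.fromOpcycles a (a + 1) ≫ φ.f (a + 1) =
        opcyclesMap φ a ≫ L.fromOpcycles a (a + 1) := by
      rw [← cancel_epi (K.pOpcycles a), p_fromOpcycles_assoc, p_opcyclesMap_assoc,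
        p_fromOpcycles, Hom.comm]
    rw [this, reassoc_of% hk, zero_comp]
  let l : W ⟶ K.homology a :=
    (K.homologyIsKernel a (a + 1) (by simp)).lift (KernelFork.ofι k h1)
  have hl : l ≫ K.homologyι a = k :=
    (K.homologyIsKernel a (a + 1) (by simp)).fac (KernelFork.ofι k h1) WalkingParallelPair.zero
  have h2 : l ≫ homologyMap φ a = 0 := by
    rw [← cancel_mono (L.homologyι a), zero_comp, assoc, homologyι_naturality,
      reassoc_of% hl, hk]
  have h3 : l = 0 := by rw [← cancel_mono (homologyMap φ a), h2, zero_comp]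
  rw [← hl, h3, zero_comp]

end Abstract

variable {C : Type u} [SmallCategory C] {J : GrothendieckTopology C} {O : Sheaf J CommRingCat.{u}}

/-- `E ⊗ G` termwise -/
noncomputable abbrev tens (G : ModSite.Mod O) (E : CochainComplex (ModSite.Mod O) ℤ) :
    CochainComplex (ModSite.Mod O) ℤ :=
  ((TN G).mapHomologicalComplex (ComplexShape.up ℤ)).obj E

/-- the map `E ⊗ G' ⟶ E ⊗ G` -/
noncomputable abbrev tensMap {G' G : ModSite.Mod O} (m : G' ⟶ G)
    (E : CochainComplex (ModSite.Mod O) ℤ) : tens G' E ⟶ tens G E :=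
  (NatTrans.mapHomologicalComplex ((ModSite.tensorBi O).flip.map m) (ComplexShape.up ℤ)).app E

lemma tensMap_f {G' G : ModSite.Mod O} (m : G' ⟶ G) (E : CochainComplex (ModSite.Mod O) ℤ)
    (i : ℤ) : (tensMap m E).f i = (TL (E.X i)).map m := rfl

/-- tensoring a short exact sequence with a flat module (on the left) -/
lemma shortExact_map_TL_of_isFlat (N : ModSite.Mod O) (hN : ModSite.IsFlat N)
    (S : ShortComplex (ModSite.Mod O)) (hS : S.ShortExact) : (S.map (TL N)).ShortExact := by
  obtain ⟨z, hx, he⟩ := map_exact_epi (TL N) S hS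
  haveI := hS.mono_f
  exact { exact := hx, mono_f := mono_TL_map_of_isFlat N hN S.f, epi_g := he }

/-- the short exact sequence of complexes `0 → E ⊗ G' → E ⊗ G → E ⊗ G'' → 0` for a complex
`E` with flat terms -/
noncomputable def tensSC (S : ShortComplex (ModSite.Mod O))
    (E : CochainComplex (ModSite.Mod O) ℤ) : ShortComplex (CochainComplex (ModSite.Mod O) ℤ) :=
  ShortComplex.mk (tensMap S.f E) (tensMap S.g E) (by
    refine HomologicalComplex.hom_ext _ _ (fun i => ?_)
    show (TL (E.X i)).map S.f ≫ (TL (E.X i)).map S.g = 0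
    rw [← Functor.map_comp, S.zero, Functor.map_zero])

lemma tensSC_shortExact (S : ShortComplex (ModSite.Mod O)) (hS : S.ShortExact)
    (E : CochainComplex (ModSite.Mod O) ℤ) (hfl : ∀ i, ModSite.IsFlat (E.X i)) :
    (tensSC S E).ShortExact :=
  shortExact_of_degreewise_shortExact _ (fun i => shortExact_map_TL_of_isFlat (E.X i) (hfl i) S hS)

/-- the identification of the `opcycles` of `E ⊗ G` with `coker(d) ⊗ G` -/
noncomputable def isCol₁ (G : ModSite.Mod O) (E : CochainComplex (ModSite.Mod O) ℤ) (a : ℤ) :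
    IsColimit (CokernelCofork.ofπ ((tens G E).pOpcycles a) ((tens G E).d_pOpcycles (a - 1) a)) :=
  (tens G E).opcyclesIsCokernel (a - 1) a (by simp)

noncomputable def isCol₂ (G : ModSite.Mod O) (E : CochainComplex (ModSite.Mod O) ℤ) (a : ℤ) :
    IsColimit ((CokernelCofork.ofπ (cokernel.π (E.d (a - 1) a))
      (cokernel.condition _)).map (TN G)) :=
  (CokernelCofork.ofπ (cokernel.π (E.d (a - 1) a)) (cokernel.condition _)).mapIsColimit
      (cokernelIsCokernel _) (TN G)

noncomputable def opcyclesIso (G : ModSite.Mod O) (E : CochainComplex (ModSite.Mod O) ℤ) (a : ℤ) :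
    (tens G E).opcycles a ≅ (TN G).obj (cokernel (E.d (a - 1) a)) :=
  IsColimit.coconePointUniqueUpToIso (isCol₁ G E a) (isCol₂ G E a)

@[reassoc]
lemma p_opcyclesIso_hom (G : ModSite.Mod O) (E : CochainComplex (ModSite.Mod O) ℤ) (a : ℤ) :
    (tens G E).pOpcycles a ≫ (opcyclesIso G E a).hom = (TN G).map (cokernel.π (E.d (a - 1) a)) :=
  IsColimit.comp_coconePointUniqueUpToIso_hom (isCol₁ G E a) (isCol₂ G E a)
    WalkingParallelPair.one

lemma opcyclesMap_opcyclesIso {G' G : ModSite.Mod O} (m : G' ⟶ G)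
    (E : CochainComplex (ModSite.Mod O) ℤ) (a : ℤ) :
    opcyclesMap (tensMap m E) a ≫ (opcyclesIso G E a).hom =
      (opcyclesIso G' E a).hom ≫
        ((ModSite.tensorBi O).flip.map m).app (cokernel (E.d (a - 1) a)) := by
  rw [← cancel_epi ((tens G' E).pOpcycles a), p_opcyclesMap_assoc, p_opcyclesIso_hom,
    p_opcyclesIso_hom_assoc]
  exact (((ModSite.tensorBi O).flip.map m).naturality (cokernel.π (E.d (a - 1) a))).symm

/-- if `E` has flat terms and `H^{a-1}(E ⊗ G) = 0` for all `G`, the cokernel of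
`E^{a-1} ⟶ E^a` is flat -/
theorem isFlat_cokernel (E : CochainComplex (ModSite.Mod O) ℤ)
    (hfl : ∀ i, ModSite.IsFlat (E.X i)) (a : ℤ)
    (hex : ∀ G : ModSite.Mod O, IsZero ((tens G E).homology (a - 1))) :
    ModSite.IsFlat (cokernel (E.d (a - 1) a)) := by
  apply isFlat_of_mono
  intro G' G m hm
  suffices h : Mono ((TL (cokernel (E.d (a - 1) a))).map m) by
    have h' : (TN (cokernel (E.d (a - 1) a))).map m =
        (symIso _).inv.app G' ≫ (TL (cokernel (E.d (a - 1) a))).map m ≫ (symIso _).hom.app G := by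
      rw [(symIso _).hom.naturality m, Iso.inv_hom_id_app_assoc]
    rw [h']
    infer_instance
  let S : ShortComplex (ModSite.Mod O) := ShortComplex.mk m (cokernel.π m) (cokernel.condition m)
  have hS : S.ShortExact :=
    { exact := ShortComplex.exact_cokernel m
      mono_f := hm
      epi_g := by dsimp [S]; infer_instance }
  have hSC := tensSC_shortExact S hS E hfl
  have hex₁ := hSC.homology_exact₁ (a - 1) a (by simp)
  haveI : Mono (homologyMap (tensMap m E) a) :=
    hex₁.mono_g ((hex (cokernel m)).eq_of_src _ _)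
  haveI : Mono ((tensMap m E).f (a + 1)) := by
    rw [tensMap_f]
    exact mono_TL_map_of_isFlat _ (hfl (a + 1)) m
  haveI := mono_opcyclesMap (tensMap m E) a
  have h2 := opcyclesMap_opcyclesIso m E a
  have h3 : ((ModSite.tensorBi O).flip.map m).app (cokernel (E.d (a - 1) a)) =
      (opcyclesIso G' E a).inv ≫ opcyclesMap (tensMap m E) a ≫ (opcyclesIso G E a).hom := by
    rw [h2, Iso.inv_hom_id_assoc]
  have h4 : Mono (((ModSite.tensorBi O).flip.map m).app (cokernel (E.d (a - 1) a))) := by
    rw [h3]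
    infer_instance
  exact h4

end Groth.Agent.Helper9.LTM4
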