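import Mathlib
import Groth.Prelude.Def_KFlatSite
import Groth.Agent.Helper9.TensorFlat

/-!
# The right unitor for the tensor product of sheaves of modules on a ringed site
-/

set_option autoImplicit false
set_option linter.style.haveILetI false
set_option linter.unusedSectionVars false

namespace Groth.Agent.Helper9.Unitor1

open CategoryTheory Category Limits MonoidalCategory
  Groth.Agent.Helper9.TensorSh Groth.Agent.Helper9.TensorAdj Groth.Agent.Helper9.TensorFlat

universe u

variable {C : Type u} [SmallCategory C] {J : GrothendieckTopology C} (O : Sheaf J CommRingCat.{u})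

/-- the counit of the sheafification adjunction, typed on `ι` -/
noncomputable def ε (M : ModSite.Mod O) : (a O).obj ((ι O).obj M) ⟶ M := (adj O).counit.app M

instance (M : ModSite.Mod O) : IsIso (ε O M) := by
  have h : IsIso (PresheafOfModules.sheafificationAdjunction
      (𝟙 (ModSite.ringSh O).obj)).counit := inferInstance
  exact @NatIso.isIso_app_of_isIso _ _ _ _ _ _ _ h M

lemma ε_naturality {M M' : ModSite.Mod O} (f : M ⟶ M') :
    (a O).map ((ι O).map f) ≫ ε O M' = ε O M ≫ f :=
  (adj O).counit.naturality f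

/-- the right unitor of presheaves of modules, typed on `ι (unit)` -/
noncomputable def ρ' (P : PM O) : P ⊗ (ι O).obj (ModSite.unit O) ≅ P := ρ_ P

lemma ρ'_naturality {P P' : PM O} (g : P ⟶ P') :
    (g ▷ (ι O).obj (ModSite.unit O)) ≫ (ρ' O P').hom = (ρ' O P).hom ≫ g :=
  MonoidalCategory.rightUnitor_naturality g

/-- `M ⊗ O ≅ M` -/
noncomputable def rUnitor (M : ModSite.Mod O) : (TN (ModSite.unit O)).obj M ≅ M :=
  (a O).mapIso (ρ' O ((ι O).obj M)) ≪≫ asIso (ε O M)

lemma rUnitor_hom (M : ModSite.Mod O) :
    (rUnitor O M).hom = (a O).map (ρ' O ((ι O).obj M)).hom ≫ ε O M := rfl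

/-- the right unitor, as a natural isomorphism -/
noncomputable def rUnitorIso : TN (ModSite.unit O) ≅ 𝟭 (ModSite.Mod O) :=
  NatIso.ofComponents (rUnitor O) (by
    intro M M' f
    show (a O).map ((ι O).map f ▷ (ι O).obj (ModSite.unit O)) ≫
      ((a O).map (ρ' O ((ι O).obj M')).hom ≫ ε O M') =
      ((a O).map (ρ' O ((ι O).obj M)).hom ≫ ε O M) ≫ f
    rw [← Category.assoc, ← Functor.map_comp,
      ρ'_naturality, Functor.map_comp, Category.assoc, Category.assoc, ε_naturality])

end Groth.Agent.Helper9.Unitor1
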