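import Mathlib
import Groth.Prelude.Def_DTor2
import Groth.Prelude.Def_DCoh4
import Groth.Agent.Helper9.LTM3
import Groth.Agent.Helper9.LTM4
import Groth.Agent.Helper9.KFlatB2
import Groth.Agent.Helper9.Unitor1

/-!
# Tor amplitude implies flat amplitude
-/

set_option autoImplicit false
set_option linter.style.haveILetI false
set_option linter.unusedSectionVars false

namespace Groth.Agent.Helper9.LTM6

open CategoryTheory Category Limits DerivedCategory AlgebraicGeometry Pretriangulated
  CochainComplex Groth.Agent.Helper9.LTM1 Groth.Agent.Helper9.LTM2 Groth.Agent.Helper9.LTM3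

attribute [local instance] HasDerivedCategory.standard

universe u

section Site

variable {C : Type u} [SmallCategory C] {J : GrothendieckTopology C} (O : Sheaf J CommRingCat.{u})

/-- `P ⊗ O ≅ P` termwise, on a ringed site -/
noncomputable def tensUnitIsoSite (P : CochainComplex (ModSite.Mod O) ℤ) :
    ((Groth.Agent.Helper9.TensorAdj.TN (ModSite.unit O)).mapHomologicalComplex
      (ComplexShape.up ℤ)).obj P ≅ P :=
  (NatIso.mapHomologicalComplex (Groth.Agent.Helper9.Unitor1.rUnitorIso O)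
    (ComplexShape.up ℤ)).app P ≪≫
  (Functor.mapHomologicalComplexIdIso (ModSite.Mod O) (ComplexShape.up ℤ)).app P

end Site

variable {X : Scheme.{u}}

/-- the structure sheaf, as a module -/
noncomputable abbrev U (X : Scheme.{u}) : X.Modules := ModSite.unit X.sheaf

/-- `P ⊗ O_X ≅ P` termwise -/
noncomputable def tensUnitIso (P : CochainComplex X.Modules ℤ) : (tensF (U X)).obj P ≅ P :=
  @tensUnitIsoSite _ _ _ X.sheaf P

/-- the cohomology of a complex representing an object with tor amplitude in `[a, b]` vanishes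
outside `[a, b]` -/
theorem isZero_homology_of_torAmp [DCoh.HasLTensorMod (U X)] {K : DCoh.D X} (a b : ℤ)
    (h : DCoh.HasTorAmplitudeIn a b K) (G : CochainComplex X.Modules ℤ) (e : DCoh.toD X G ≅ K)
    (i : ℤ) (hi : i < a ∨ b < i) : IsZero (G.homology i) := by
  obtain ⟨P, r, hKF, -, hr, -⟩ := exists_kflat_resolution G
  have hr' : IsIso (Q.map r) := (DerivedCategory.isIso_Q_map_iff_quasiIso _ r).2 hr
  have e' : DCoh.toD X P ≅ K := @asIso _ _ _ _ (Q.map r) hr' ≪≫ e
  have h1 : IsZero (((tensF (U X)).obj P).homology i) :=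
    (h (U X) i hi).of_iso (hdIso (U X) P hKF e' i).symm
  have h2 : IsZero (P.homology i) :=
    h1.of_iso ((HomologicalComplex.homologyFunctor _ _ i).mapIso (tensUnitIso P)).symm
  exact h2.of_iso (@asIso _ _ _ _ (HomologicalComplex.homologyMap r i)
    ((quasiIsoAt_iff_isIso_homologyMap r i).1 (hr.quasiIsoAt i))).symm

/-- flatness of the cokernel of `E^{a-1} ⟶ E^a` (S0968) -/
theorem isFlat_cokernel (E : CochainComplex X.Modules ℤ) (n : ℤ) (hn : E.IsStrictlyLE n)
    (hflat : ∀ i : ℤ, FlatMod.IsFlat (E.X i)) (hL : ∀ G : X.Modules, DCoh.HasLTensorMod G)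
    (a b : ℤ) (hE : DCoh.HasTorAmplitudeIn a b (DCoh.toD X E)) :
    FlatMod.IsFlat (cokernel (E.d (a - 1) a)) := by
  have hKF : DCoh.IsKFlat E := isKFlat_of_vanishesAbove E n
    ((CochainComplex.isStrictlyLE_iff E n).1 hn) hflat
  have hex : ∀ G : X.Modules, IsZero
      ((Groth.Agent.Helper9.LTM4.tens (O := X.sheaf) G E).homology (a - 1)) := by
    intro G
    haveI := hL G
    exact (hE G (a - 1) (Or.inl (by omega))).of_iso (hdIso G E hKF (Iso.refl _) (a - 1)).symm
  exact Groth.Agent.Helper9.StalkTensor5.stalkwise_of_isFlat _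
    (@Groth.Agent.Helper9.LTM4.isFlat_cokernel _ _ _ X.sheaf E
      (fun i => Groth.Agent.Helper9.StalkTensor3.isFlat_of_stalkwise (E.X i) (hflat i)) a hex)

/-- bounded above flat resolutions on a scheme -/
theorem exists_flat_resolution_le (G : CochainComplex X.Modules ℤ) (b : ℤ)
    (hG : G.IsStrictlyLE b) :
    ∃ (P : CochainComplex X.Modules ℤ) (q : P ⟶ G), QuasiIso q ∧ DCoh.IsKFlat P ∧
      (∀ n, FlatMod.IsFlat (P.X n)) ∧ P.IsStrictlyLE b := by
  obtain ⟨P, q, hq, hKF, hfl, hP⟩ :=
    @Groth.Agent.Helper9.KFlatB2.exists_flat_resolution_le _ _ _ X.sheaf G b hG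
  exact ⟨P, q, hq, hKF,
    fun n => Groth.Agent.Helper9.StalkTensor5.stalkwise_of_isFlat (P.X n) (hfl n), hP⟩

/-- flatness is invariant under isomorphism -/
theorem flatMod_of_iso {M M' : X.Modules} (e : M ≅ M') (hM : FlatMod.IsFlat M) :
    FlatMod.IsFlat M' :=
  Groth.Agent.Helper9.StalkTensor5.stalkwise_of_isFlat M'
    (@Groth.Agent.Helper9.KFlat12.isFlat_of_iso _ _ _ X.sheaf M M' e
      (Groth.Agent.Helper9.StalkTensor3.isFlat_of_stalkwise M hM))

theorem flatMod_of_isZero {M : X.Modules} (hM : IsZero M) : FlatMod.IsFlat M :=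
  Groth.Agent.Helper9.StalkTensor5.stalkwise_of_isFlat M
    (@Groth.Agent.Helper9.FlatCx.isFlat_of_isZero _ _ _ X.sheaf M hM)

/-- tor amplitude in `[a, b]` implies flat amplitude in `[a, b]` -/
theorem hasFlatAmplitudeIn_of_hasTorAmplitudeIn (K : DCoh.D X) (a b : ℤ) (hab : a ≤ b)
    (hL : ∀ G : X.Modules, DCoh.HasLTensorMod G) (h : DCoh.HasTorAmplitudeIn a b K) :
    DCoh.HasFlatAmplitudeIn a b K := by
  haveI := hL (U X)
  -- a representative
  let G₀ : CochainComplex X.Modules ℤ := Q.objPreimage K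
  have e₀ : DCoh.toD X G₀ ≅ K := Q.objObjPreimageIso K
  -- truncate above
  haveI hLE : G₀.IsLE b := by
    rw [CochainComplex.isLE_iff]
    intro i hi
    rw [HomologicalComplex.exactAt_iff_isZero_homology]
    exact isZero_homology_of_torAmp a b h G₀ e₀ i (Or.inr hi)
  have h1 : IsIso (Q.map (G₀.ιTruncLE b)) :=
    (DerivedCategory.isIso_Q_map_iff_quasiIso _ _).2 inferInstance
  have e₁ : DCoh.toD X (G₀.truncLE b) ≅ K := @asIso _ _ _ _ (Q.map (G₀.ιTruncLE b)) h1 ≪≫ e₀
  -- a bounded above flat resolution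
  obtain ⟨R, q, hq, hKF, hfl, hR⟩ := exists_flat_resolution_le (G₀.truncLE b) b inferInstance
  have h2 : IsIso (Q.map q) := (DerivedCategory.isIso_Q_map_iff_quasiIso _ q).2 hq
  have e₂ : DCoh.toD X R ≅ K := @asIso _ _ _ _ (Q.map q) h2 ≪≫ e₁
  -- truncate below
  haveI hGE : R.IsGE a := by
    rw [CochainComplex.isGE_iff]
    intro i hi
    rw [HomologicalComplex.exactAt_iff_isZero_homology]
    exact isZero_homology_of_torAmp a b h R e₂ i (Or.inl hi)
  have h3 : IsIso (Q.map (R.πTruncGE a)) :=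
    (DerivedCategory.isIso_Q_map_iff_quasiIso _ _).2 inferInstance
  have e₃ : DCoh.toD X (R.truncGE a) ≅ K :=
    (@asIso _ _ _ _ (Q.map (R.πTruncGE a)) h3).symm ≪≫ e₂
  -- the cokernel is flat
  have hR' : DCoh.HasTorAmplitudeIn a b (DCoh.toD X R) := by
    intro F _ i hi
    exact (h F i hi).of_iso
      ((DerivedCategory.homologyFunctor X.Modules i).mapIso ((DCoh.LTensorMod F).mapIso e₂))
  have hC : FlatMod.IsFlat (cokernel (R.d (a - 1) a)) := isFlat_cokernel R b hR hfl hL a b hR'
  have hop : FlatMod.IsFlat (R.opcycles a) :=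
    flatMod_of_iso (IsColimit.coconePointUniqueUpToIso (cokernelIsCokernel (R.d (a - 1) a))
      (R.opcyclesIsCokernel (a - 1) a (by simp))) hC
  refine ⟨R.truncGE a, ?_, ?_, ⟨e₃⟩⟩
  · intro i hi
    rcases hi with hi | hi
    · exact (R.truncGE a).isZero_of_isStrictlyGE a i hi
    · exact (R.isZero_of_isStrictlyLE b i hi).of_iso (R.truncGEXIso a i (by omega))
  · intro i
    rcases lt_trichotomy i a with hi | rfl | hi
    · exact flatMod_of_isZero ((R.truncGE a).isZero_of_isStrictlyGE a i hi)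
    · exact flatMod_of_iso (R.truncGEXIsoOpcycles i).symm hop
    · exact flatMod_of_iso (R.truncGEXIso a i hi).symm (hfl i)

end Groth.Agent.Helper9.LTM6
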