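import Mathlib

/-! The Euler–Poincaré principle for bounded complexes of finite-dimensional vector spaces. -/

set_option autoImplicit false
set_option linter.style.haveILetI false
set_option linter.unusedVariables false
set_option linter.unusedSectionVars false

namespace Groth.Agent.Helper9.Betti1

open CategoryTheory CategoryTheory.Limits

universe u v

variable {K : Type u} [Field K]

section SC

variable (S : ShortComplex (ModuleCat.{v} K)) [Module.Finite K S.X₂]

lemma finrank_range_toCycles :
    Module.finrank K (LinearMap.range S.moduleCatToCycles) =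
      Module.finrank K (LinearMap.range S.f.hom) := by
  have h1 : (LinearMap.ker S.g.hom).subtype ∘ₗ S.moduleCatToCycles = S.f.hom :=
    LinearMap.subtype_comp_codRestrict _ _ _
  have h2 : LinearMap.range S.f.hom =
      (LinearMap.range S.moduleCatToCycles).map (LinearMap.ker S.g.hom).subtype := by
    rw [← h1, LinearMap.range_comp]
  rw [h2, Submodule.finrank_map_subtype_eq]

lemma finrank_homology :
    (Module.finrank K S.homology : ℤ) =
      Module.finrank K (LinearMap.ker S.g.hom) - Module.finrank K (LinearMap.range S.f.hom) := by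
  have e : S.homology ≅ S.moduleCatLeftHomologyData.H := S.moduleCatHomologyIso
  have h1 : Module.finrank K S.homology =
      Module.finrank K (LinearMap.ker S.g.hom ⧸ LinearMap.range S.moduleCatToCycles) :=
    LinearEquiv.finrank_eq e.toLinearEquiv
  have h2 := Submodule.finrank_quotient_add_finrank (LinearMap.range S.moduleCatToCycles)
  rw [finrank_range_toCycles] at h2
  rw [h1]
  omega

end SC

variable (C : CochainComplex (ModuleCat.{v} K) ℤ) [∀ i, Module.Finite K (C.X i)]

/-- the rank of the differential out of degree `i` -/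
noncomputable def ρ (i : ℤ) : ℕ := Module.finrank K (LinearMap.range (C.d i (i + 1)).hom)

lemma ρ_eq (i j : ℤ) (h : i + 1 = j) :
    ρ C i = Module.finrank K (LinearMap.range (C.d i j).hom) := by
  subst h
  rfl

lemma finrank_X (i : ℤ) :
    Module.finrank K (C.X i) = Module.finrank K (LinearMap.ker (C.d i (i + 1)).hom) + ρ C i := by
  have := LinearMap.finrank_range_add_finrank_ker (C.d i (i + 1)).hom
  unfold ρ
  omega

lemma finrank_homology' (i : ℤ) :
    (Module.finrank K (C.homology i) : ℤ) =
      Module.finrank K (LinearMap.ker (C.d i (i + 1)).hom) - ρ C (i - 1) := by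
  have e : C.homology i ≅ (C.sc' (i - 1) i (i + 1)).homology :=
    C.homologyIsoSc' (i - 1) i (i + 1) (by simp) (by simp)
  have h1 : Module.finrank K (C.homology i) =
      Module.finrank K (C.sc' (i - 1) i (i + 1)).homology :=
    LinearEquiv.finrank_eq e.toLinearEquiv
  haveI : Module.Finite K (C.sc' (i - 1) i (i + 1)).X₂ := inferInstanceAs (Module.Finite K (C.X i))
  have h2 := finrank_homology (C.sc' (i - 1) i (i + 1))
  rw [h1, h2]
  have h3 : ρ C (i - 1) = Module.finrank K (LinearMap.range (C.sc' (i - 1) i (i + 1)).f.hom) :=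
    ρ_eq C (i - 1) i (by omega)
  rw [h3]
  rfl

lemma ρ_eq_zero (i : ℤ) (h : IsZero (C.X i)) : ρ C i = 0 := by
  unfold ρ
  have h0 : (C.d i (i + 1)) = 0 := h.eq_of_src _ _
  rw [h0]
  simp

lemma finrank_X_eq_zero (i : ℤ) (h : IsZero (C.X i)) : Module.finrank K (C.X i) = 0 := by
  haveI : Subsingleton (C.X i) := ModuleCat.subsingleton_of_isZero h
  exact Module.finrank_zero_of_subsingleton

lemma finrank_homology_eq_zero (i : ℤ) (h : IsZero (C.X i)) :
    Module.finrank K (C.homology i) = 0 := by
  have hz : IsZero (C.homology i) := (HomologicalComplex.ExactAt.of_isZero h).isZero_homology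
  haveI : Subsingleton (C.homology i) := ModuleCat.subsingleton_of_isZero hz
  exact Module.finrank_zero_of_subsingleton

lemma key (i : ℤ) :
    (i.negOnePow : ℤ) * (Module.finrank K (C.X i) : ℤ) -
      (i.negOnePow : ℤ) * (Module.finrank K (C.homology i) : ℤ) =
      (i.negOnePow : ℤ) * (ρ C i : ℤ) - ((i - 1).negOnePow : ℤ) * (ρ C (i - 1) : ℤ) := by
  rw [finrank_homology', finrank_X, Int.negOnePow_sub, Int.negOnePow_one]
  push_cast
  ring

/-- the Euler–Poincaré principle -/
theorem euler_poincare (a b : ℤ) (h : ∀ i : ℤ, i < a ∨ b < i → IsZero (C.X i)) :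
    ∑ᶠ i : ℤ, ((i.negOnePow : ℤ) * (Module.finrank K (C.homology i) : ℤ)) =
      ∑ᶠ i : ℤ, ((i.negOnePow : ℤ) * (Module.finrank K (C.X i) : ℤ)) := by
  have hfin : ∀ (f : ℤ → ℤ), (∀ i : ℤ, i < a ∨ b < i → f i = 0) → (Function.support f).Finite := by
    intro f hf
    refine (Set.finite_Icc a b).subset ?_
    intro i hi
    by_contra hcon
    apply hi
    apply hf
    simp only [Set.mem_Icc, not_and_or, not_le] at hcon
    exact hcon
  let fX : ℤ → ℤ := fun i => (i.negOnePow : ℤ) * (Module.finrank K (C.X i) : ℤ)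
  let fH : ℤ → ℤ := fun i => (i.negOnePow : ℤ) * (Module.finrank K (C.homology i) : ℤ)
  let G : ℤ → ℤ := fun i => (i.negOnePow : ℤ) * (ρ C i : ℤ)
  have hX : (Function.support fX).Finite := hfin fX (fun i hi => by
    simp only [fX]; rw [finrank_X_eq_zero C i (h i hi)]; simp)
  have hH : (Function.support fH).Finite := hfin fH (fun i hi => by
    simp only [fH]; rw [finrank_homology_eq_zero C i (h i hi)]; simp)
  have hG : (Function.support G).Finite := hfin G (fun i hi => by
    simp only [G]; rw [ρ_eq_zero C i (h i hi)]; simp)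
  have hG' : (Function.support (fun i => G (i - 1))).Finite := by
    have : (fun i => G (i - 1)) = G ∘ (Equiv.subRight (1 : ℤ)) := rfl
    rw [this]
    exact hG.preimage (Equiv.injective _).injOn |>.subset (by
      intro i hi
      exact hi)
  have h1 : ∑ᶠ i, (fX i - fH i) = ∑ᶠ i, fX i - ∑ᶠ i, fH i := finsum_sub_distrib hX hH
  have h2 : ∑ᶠ i, (fX i - fH i) = ∑ᶠ i, (G i - G (i - 1)) := by
    congr 1
    funext i
    exact key C i
  have h3 : ∑ᶠ i, (G i - G (i - 1)) = ∑ᶠ i, G i - ∑ᶠ i, G (i - 1) := finsum_sub_distrib hG hG'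
  have h4 : ∑ᶠ i, G (i - 1) = ∑ᶠ i, G i :=
    finsum_comp_equiv (Equiv.subRight (1 : ℤ)) (f := G)
  show ∑ᶠ i, fH i = ∑ᶠ i, fX i
  linarith

end Groth.Agent.Helper9.Betti1
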