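import Mathlib
import Groth.Prelude.Def_PerfD
import Groth.Agent.Helper4.EpiStalk
import Groth.Agent.Helper9.Betti1

set_option autoImplicit false
set_option linter.style.haveILetI false
set_option linter.unusedVariables false
set_option linter.unusedSectionVars false

universe u

open CategoryTheory CategoryTheory.Limits AlgebraicGeometry Opposite

namespace Groth.Agent.Helper9.Betti2

/-- global sections functor -/
noncomputable def Γf (Y : Scheme.{u}) : Y.Modules ⥤ ModuleCat.{u} (Coh.Γtop Y) :=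
  SheafOfModules.evaluation.{u} Y.ringCatSheaf (op ⊤)

lemma Γf_obj (Y : Scheme.{u}) (M : Y.Modules) : (Γf Y).obj M = M.val.obj (op ⊤) := rfl

noncomputable instance (Y : Scheme.{u}) : PreservesFiniteLimits (Γf Y) :=
  SheafOfModules.Finite.evaluationPreservesFiniteLimits.{u} Y.ringCatSheaf (op ⊤)

instance (Y : Scheme.{u}) : (Γf Y).Additive := by
  have h1 : (SheafOfModules.forget.{u} Y.ringCatSheaf).Additive := inferInstance
  have h2 : (PresheafOfModules.evaluation.{u} Y.ringCatSheaf.obj (op ⊤)).Additive := inferInstance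
  exact (inferInstance : (SheafOfModules.forget.{u} Y.ringCatSheaf ⋙ PresheafOfModules.evaluation.{u} Y.ringCatSheaf.obj (op ⊤)).Additive)

/-- on a one-point scheme, global sections preserve epimorphisms -/
theorem epi_Γf_map (Y : Scheme.{u}) [Unique Y] {F G : Y.Modules} (p : F ⟶ G) [Epi p] :
    Epi ((Γf Y).map p) := by
  rw [ModuleCat.epi_iff_surjective]
  intro t
  obtain ⟨W, hWU, hW, s, hs⟩ :=
    Groth.Agent.Helper4.EpiStalk.exists_local_lift_of_epi p ⊤ t default trivial
  have hW' : W = ⊤ := by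
    ext z
    simp only [TopologicalSpace.Opens.coe_top, Set.mem_univ, iff_true]
    rw [Unique.eq_default z]
    exact hW
  subst hW'
  refine ⟨s, ?_⟩
  have h1 : (homOfLE hWU) = 𝟙 (⊤ : Y.Opens) := Subsingleton.elim _ _
  rw [h1] at hs
  simp only [op_id, CategoryTheory.Functor.map_id] at hs
  exact hs

instance (Y : Scheme.{u}) [Unique Y] : (Γf Y).PreservesEpimorphisms where
  preserves p _ := epi_Γf_map Y p

instance (Y : Scheme.{u}) [Unique Y] : (Γf Y).PreservesHomology :=
  Functor.preservesHomology_of_preservesEpis_and_kernels (Γf Y)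


/-- global sections of a free module -/
noncomputable def ΓfFreeIso (Y : Scheme.{u}) (n : ℕ) :
    (Γf Y).obj (FlatMod.freeMod Y n) ≅ ModuleCat.of (Coh.Γtop Y) (Fin n → Coh.Γtop Y) :=
  PreservesCoproduct.iso (Γf Y) _ ≪≫ (biproduct.isoCoproduct _).symm ≪≫
    ModuleCat.biproductIsoPi _

/-- global sections commute with homology on a one-point scheme -/
noncomputable def ΓfHomologyIso (Y : Scheme.{u}) [Unique Y] (C : CochainComplex Y.Modules ℤ) (i : ℤ) :
    (((Γf Y).mapHomologicalComplex (ComplexShape.up ℤ)).obj C).homology i ≅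
      (Γf Y).obj (C.homology i) :=
  ShortComplex.mapHomologyIso (C.sc i) (Γf Y)

section Abstract

variable {K : Type u}

/-- Euler–Poincaré for complexes with finite free terms over a field -/
theorem euler_free [Field K] (D : CochainComplex (ModuleCat.{u} K) ℤ) (a b : ℤ)
    (hab : ∀ i : ℤ, i < a ∨ b < i → IsZero (D.X i)) (n : ℤ → ℕ)
    (hn : ∀ i, Nonempty (D.X i ≅ ModuleCat.of K (Fin (n i) → K))) :
    ∑ᶠ i : ℤ, (i.negOnePow : ℤ) * (Module.finrank K (D.homology i) : ℤ) =
      ∑ᶠ i : ℤ, (i.negOnePow : ℤ) * (n i : ℤ) := by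
  have e : ∀ i, D.X i ≃ₗ[K] (Fin (n i) → K) := fun i => (hn i).some.toLinearEquiv
  haveI : ∀ i, Module.Finite K (D.X i) := fun i => Module.Finite.equiv (e i).symm
  rw [Groth.Agent.Helper9.Betti1.euler_poincare D a b hab]
  congr 1
  ext i
  rw [LinearEquiv.finrank_eq (e i), Module.finrank_fin_fun]

/-- the same for a ring which is a field -/
theorem euler_free' [Ring K] (hK : IsField K) (D : CochainComplex (ModuleCat.{u} K) ℤ) (a b : ℤ)
    (hab : ∀ i : ℤ, i < a ∨ b < i → IsZero (D.X i)) (n : ℤ → ℕ)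
    (hn : ∀ i, Nonempty (D.X i ≅ ModuleCat.of K (Fin (n i) → K))) :
    ∑ᶠ i : ℤ, (i.negOnePow : ℤ) * (Module.finrank K (D.homology i) : ℤ) =
      ∑ᶠ i : ℤ, (i.negOnePow : ℤ) * (n i : ℤ) :=
  @euler_free K hK.toField D a b hab n hn

end Abstract

/-- the Euler characteristic of a bounded complex with free terms on a one-point scheme whose
ring of global functions is a field -/
theorem euler_sections (Y : Scheme.{u}) [Unique Y] (hK : IsField (Coh.Γtop Y))
    (C : CochainComplex Y.Modules ℤ) (a b : ℤ)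
    (hab : ∀ i : ℤ, i < a ∨ b < i → IsZero (C.X i)) (n : ℤ → ℕ)
    (hn : ∀ i, Nonempty (C.X i ≅ FlatMod.freeMod Y (n i))) :
    ∑ᶠ i : ℤ, (i.negOnePow : ℤ) *
        (Module.finrank (Coh.Γtop Y) ((C.homology i).val.obj (op ⊤)) : ℤ) =
      ∑ᶠ i : ℤ, (i.negOnePow : ℤ) * (n i : ℤ) := by
  let D := ((Γf Y).mapHomologicalComplex (ComplexShape.up ℤ)).obj C
  have h1 := euler_free' hK D a b (fun i hi => Functor.map_isZero (Γf Y) (hab i hi)) n
    (fun i => ⟨(Γf Y).mapIso (hn i).some ≪≫ ΓfFreeIso Y (n i)⟩)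
  rw [← h1]
  congr 1
  ext i
  congr 2
  exact (LinearEquiv.finrank_eq (ΓfHomologyIso Y C i).toLinearEquiv).symm

end Groth.Agent.Helper9.Betti2
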