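import Mathlib

set_option autoImplicit false
set_option linter.style.haveILetI false
set_option linter.unusedVariables false
set_option linter.unusedSectionVars false

namespace Groth.Agent.Helper9.Fib1

open TensorProduct IsLocalRing

universe u v

/-- Nakayama along a local homomorphism: a finite module which dies after base change along a local
homomorphism of local rings is zero. -/
theorem subsingleton_of_tensor {A B : Type u} [CommRing A] [CommRing B] [IsLocalRing A]
    [IsLocalRing B] [Algebra A B] [IsLocalHom (algebraMap A B)] (N : Type v) [AddCommGroup N]
    [Module A N] [Module.Finite A N] (h : Subsingleton (B ⊗[A] N)) : Subsingleton N := by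
  have h1 : Subsingleton (ResidueField B ⊗[B] (B ⊗[A] N)) := inferInstance
  have h2 : Subsingleton (ResidueField B ⊗[A] N) :=
    (AlgebraTensorModule.cancelBaseChange A B (ResidueField B) (ResidueField B) N).symm.subsingleton
  have h3 : Subsingleton (ResidueField B ⊗[ResidueField A] (ResidueField A ⊗[A] N)) :=
    (AlgebraTensorModule.cancelBaseChange A (ResidueField A) (ResidueField B) (ResidueField B)
      N).subsingleton
  have h4 : Subsingleton (ResidueField A ⊗[A] N) :=
    (Module.FaithfullyFlat.subsingleton_tensorProduct_iff_right (ResidueField A)
      (ResidueField B)).1 h3
  exact IsLocalRing.subsingleton_tensorProduct.1 h4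

end Groth.Agent.Helper9.Fib1
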