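import Mathlib
import Groth.Prelude.Def_PerfD
import Groth.Prelude.Def_MeroDiv
import Groth.Agent.Helper9.SkyMod4
import Groth.Agent.Helper9.Betti2
import Groth.Agent.Helper9.Fib1

set_option autoImplicit false
set_option linter.style.haveILetI false
set_option linter.unusedVariables false
set_option linter.unusedSectionVars false
universe u

namespace Groth.Agent.Helper9.Fib2

open CategoryTheory CategoryTheory.Limits AlgebraicGeometry Opposite TopologicalSpace
open Groth.Agent.Helper9.SkyMod4 Groth.Agent.Helper9.Betti2

variable {V : Scheme.{u}}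

/-- the stalk of the structure module is cyclic -/
theorem finite_stalk_unit (y : V) :
    Module.Finite (V.presheaf.stalk y) ((St y).obj (Coh.structureModule V)) := by
  let O := Coh.structureModule V
  let one : ∀ U : V.Opens, Γ(O, U) := fun U => (show Γ(O, U) from (1 : Γ(V, U)))
  let g₀ : (St y).obj O := O.presheaf.germ ⊤ y trivial (one ⊤)
  refine @Module.Finite.of_fg_top (V.presheaf.stalk y) ((St y).obj O) _ _ _ ⟨{g₀}, ?_⟩
  have key : ∀ m : (St y).obj O, ∃ a : V.presheaf.stalk y, a • g₀ = m := by
    intro m
    obtain ⟨U, hyU, s, hs⟩ := O.presheaf.exists_germ_eq (x := y) m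
    let r : Γ(V, U) := s
    refine ⟨V.presheaf.germ U y hyU r, ?_⟩
    have hres : O.presheaf.map (homOfLE (le_top : U ≤ ⊤)).op (one ⊤) = one U :=
      (map_one (V.presheaf.map (homOfLE (le_top : U ≤ ⊤)).op).hom)
    have h1 : O.presheaf.germ U y hyU (one U) = g₀ :=
      (congrArg (O.presheaf.germ U y hyU) hres).symm.trans
        (TopCat.Presheaf.germ_res_apply O.presheaf (homOfLE (le_top : U ≤ ⊤)) y hyU (one ⊤))
    have h2 : s = r • one U := (mul_one r).symm
    have h3 := (Mero.germ_smul O U y hyU r (one U)).symm
    rw [h1] at h3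
    exact h3.trans ((congrArg (O.presheaf.germ U y hyU) h2.symm).trans hs)
  rw [Finset.coe_singleton, Submodule.eq_top_iff']
  intro m
  exact Submodule.mem_span_singleton.2 (key m)


/-- the stalk of a finite free module is finite -/
theorem finite_stalk_free (y : V) (k : ℕ) :
    Module.Finite (V.presheaf.stalk y) ((St y).obj (FlatMod.freeMod V k)) := by
  let e : (St y).obj (FlatMod.freeMod V k) ≅
      ModuleCat.of (V.presheaf.stalk y) (Fin k → (St y).obj (Coh.structureModule V)) :=
    PreservesCoproduct.iso (St y) _ ≪≫ (biproduct.isoCoproduct _).symm ≪≫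
      ModuleCat.biproductIsoPi _
  haveI := finite_stalk_unit y
  haveI : Module.Finite (V.presheaf.stalk y)
      (ModuleCat.of (V.presheaf.stalk y) (Fin k → (St y).obj (Coh.structureModule V))) :=
    inferInstanceAs (Module.Finite (V.presheaf.stalk y)
      (Fin k → (St y).obj (Coh.structureModule V)))
  exact Module.Finite.equiv e.toLinearEquiv.symm

/-- the stalk of a quotient of a finite free module is finite -/
theorem finite_stalk_of_epi (y : V) {k : ℕ} {C : V.Modules} (π : FlatMod.freeMod V k ⟶ C)
    [Epi π] : Module.Finite (V.presheaf.stalk y) ((St y).obj C) := by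
  haveI := finite_stalk_free y k
  haveI : Epi ((St y).map π) := inferInstance
  exact Module.Finite.of_surjective ((St y).map π).hom
    ((ModuleCat.epi_iff_surjective _).1 inferInstance)

/-- on a one-point scheme, a module without global sections has zero stalk -/
theorem isZero_stalk_of_isZero_Γf (Y : Scheme.{u}) [Unique Y] (N : Y.Modules)
    (h : IsZero ((Γf Y).obj N)) : IsZero ((St (default : Y)).obj N) := by
  rw [ModuleCat.isZero_iff_subsingleton] at h ⊢
  refine ⟨fun a b => ?_⟩
  have key : ∀ m : (St (default : Y)).obj N, m = 0 := by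
    intro m
    obtain ⟨U, hU, s, hs⟩ := N.presheaf.exists_germ_eq (x := (default : Y)) m
    have hU' : U = ⊤ := by
      ext z
      simp only [TopologicalSpace.Opens.coe_top, Set.mem_univ, iff_true]
      rw [Unique.eq_default z]
      exact hU
    subst hU'
    have hs0 : s = 0 := h.elim (α := (Γf Y).obj N) s 0
    rw [← hs, hs0]
    exact map_zero _
  rw [key a, key b]

/-- Nakayama: a quotient of a finite free module whose fibre along a morphism from a one-point
scheme vanishes has zero stalk at the image point -/
theorem isZero_stalk_of_fibre {Y : Scheme.{u}} [Unique Y] (g : Y ⟶ V) {k : ℕ} {C : V.Modules}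
    (π : FlatMod.freeMod V k ⟶ C) [Epi π]
    (h : IsZero ((Γf Y).obj ((Scheme.Modules.pullback g).obj C))) :
    IsZero ((St (g.base default)).obj C) := by
  have h1 := isZero_stalk_of_isZero_Γf Y _ h
  have h2 : IsZero ((ext default g).obj ((St (g.base default)).obj C)) :=
    h1.of_iso ((pullStalkIso default g).app C).symm
  rw [ModuleCat.isZero_iff_subsingleton] at h2 ⊢
  haveI := finite_stalk_of_epi (g.base default) π
  letI := (g.stalkMap default).hom.toAlgebra
  haveI : IsLocalHom (algebraMap (V.presheaf.stalk (g.base default)) (Y.presheaf.stalk default)) :=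
    inferInstanceAs (IsLocalHom (g.stalkMap default).hom)
  exact Groth.Agent.Helper9.Fib1.subsingleton_of_tensor
    (A := V.presheaf.stalk (g.base default)) (B := Y.presheaf.stalk default) _ h2

end Groth.Agent.Helper9.Fib2
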