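import Mathlib

/-! Split injectivity over a local ring detected on a field-valued point; projectivity of
kernels. -/

set_option autoImplicit false
set_option linter.style.haveILetI false
set_option linter.unusedVariables false
set_option linter.unusedSectionVars false

namespace Groth.Agent.Helper9.LocSplit1

open TensorProduct IsLocalRing

universe u

section Field

variable {A B : Type u} [CommRing A] [IsLocalRing A] [Field B] [Algebra A B]
  [IsLocalHom (algebraMap A B)]
variable {M N : Type u} [AddCommGroup M] [Module A M] [AddCommGroup N] [Module A N]

/-- injectivity after base change to a field along a local homomorphism implies injectivity after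
base change to the residue field -/
theorem injective_lTensor_residueField (l : M →ₗ[A] N) (h : Function.Injective (l.lTensor B)) :
    Function.Injective (l.lTensor (ResidueField A)) := by
  letI : Algebra (ResidueField A) B := (ResidueField.lift (algebraMap A B)).toAlgebra
  haveI : IsScalarTower A (ResidueField A) B :=
    IsScalarTower.of_algebraMap_eq (fun a => (ResidueField.lift_residue_apply _ a).symm)
  let eM := AlgebraTensorModule.cancelBaseChange A (ResidueField A) B B M
  let eN := AlgebraTensorModule.cancelBaseChange A (ResidueField A) B B N
  have hsq : ∀ x, eN ((LinearMap.lTensor B (l.baseChange (ResidueField A))) x) =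
      (l.lTensor B) (eM x) := by
    intro x
    induction x using TensorProduct.induction_on with
    | zero => simp
    | tmul b y =>
      induction y using TensorProduct.induction_on with
      | zero => simp
      | tmul c m =>
        simp only [LinearMap.lTensor_tmul, LinearMap.baseChange_tmul, eM, eN,
          AlgebraTensorModule.cancelBaseChange_tmul]
      | add y₁ y₂ h₁ h₂ =>
        rw [tmul_add, map_add, map_add, h₁, h₂, map_add, map_add]
    | add x₁ x₂ h₁ h₂ => rw [map_add, map_add, h₁, h₂, map_add, map_add]
  have h1 : Function.Injective (LinearMap.lTensor B (l.baseChange (ResidueField A))) := by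
    rw [injective_iff_map_eq_zero]
    intro x hx
    have h2 : (l.lTensor B) (eM x) = 0 := by rw [← hsq, hx, map_zero]
    have h3 : eM x = 0 := (injective_iff_map_eq_zero _).1 h _ h2
    exact (LinearEquiv.map_eq_zero_iff eM).1 h3
  exact (Module.FaithfullyFlat.lTensor_injective_iff_injective (ResidueField A) B
    (l.baseChange (ResidueField A))).1 h1

/-- a map from a finite module to a finite free module over a local ring which is injective after
base change to a field along a local homomorphism is split injective -/
theorem exists_retraction [Module.Finite A M] [Module.Finite A N] [Module.Free A N]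
    (l : M →ₗ[A] N) (h : Function.Injective (l.lTensor B)) :
    ∃ l' : N →ₗ[A] M, l' ∘ₗ l = LinearMap.id :=
  (IsLocalRing.split_injective_iff_lTensor_residueField_injective l).2
    (injective_lTensor_residueField l h)

end Field

section Proj

variable {A : Type u} [CommRing A] {M N : Type u} [AddCommGroup M] [Module A M]
  [AddCommGroup N] [Module A N]

/-- the kernel of a map between projective modules with projective cokernel is projective -/
theorem projective_ker [Module.Projective A M] [Module.Projective A N] (l : M →ₗ[A] N)
    (hQ : Module.Projective A (N ⧸ LinearMap.range l)) :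
    Module.Projective A (LinearMap.ker l) := by
  obtain ⟨σ, hσ⟩ := Module.projective_lifting_property (LinearMap.range l).mkQ LinearMap.id
    (Submodule.mkQ_surjective _)
  -- the range is a retract of `N`
  let ρ : N →ₗ[A] LinearMap.range l :=
    (LinearMap.id - σ ∘ₗ (LinearMap.range l).mkQ).codRestrict (LinearMap.range l) (fun n => by
      apply (Submodule.Quotient.mk_eq_zero (LinearMap.range l)).1
      have := LinearMap.congr_fun hσ ((LinearMap.range l).mkQ n)
      simp only [LinearMap.id_coe, id_eq, LinearMap.coe_comp,
        Function.comp_apply] at this
      change (LinearMap.range l).mkQ (n - σ ((LinearMap.range l).mkQ n)) = 0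
      rw [map_sub, this, sub_self])
  have hρ : ρ ∘ₗ (LinearMap.range l).subtype = LinearMap.id := by
    ext ⟨x, hx⟩
    have h0 : (LinearMap.range l).mkQ x = 0 := by
      rw [← LinearMap.mem_ker, Submodule.ker_mkQ]
      exact hx
    simp [ρ, h0]
  haveI : Module.Projective A (LinearMap.range l) :=
    Module.Projective.of_split (LinearMap.range l).subtype ρ hρ
  obtain ⟨τ, hτ⟩ := Module.projective_lifting_property l.rangeRestrict LinearMap.id
    l.surjective_rangeRestrict
  let κ : M →ₗ[A] LinearMap.ker l :=
    (LinearMap.id - τ ∘ₗ l.rangeRestrict).codRestrict (LinearMap.ker l) (fun m => by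
      rw [LinearMap.mem_ker]
      have := congrArg Subtype.val (LinearMap.congr_fun hτ (l.rangeRestrict m))
      simp only [LinearMap.sub_apply, LinearMap.id_coe, id_eq, LinearMap.coe_comp,
        Function.comp_apply, map_sub, LinearMap.codRestrict_apply] at this ⊢
      rw [sub_eq_zero]
      exact this.symm)
  have hκ : κ ∘ₗ (LinearMap.ker l).subtype = LinearMap.id := by
    ext ⟨x, hx⟩
    have h0 : l.rangeRestrict x = 0 := by
      ext
      exact hx
    simp [κ, h0]
  exact Module.Projective.of_split (LinearMap.ker l).subtype κ hκ

end Proj

end Groth.Agent.Helper9.LocSplit1
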