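import Mathlib
import Groth.Prelude.Def_DTen4
import Groth.Agent.Helper9.LocSplit1
import Groth.Agent.Helper1.FlatCxDRank

/-! Complexes of finite free modules over a local ring whose base change to a field-valued point
is exact in some degree. -/

set_option autoImplicit false
set_option linter.style.haveILetI false
set_option linter.unusedVariables false
set_option linter.unusedSectionVars false

namespace Groth.Agent.Helper9.LocSplit2

open CategoryTheory CategoryTheory.Limits TensorProduct IsLocalRing

universe u

variable {A B : Type u} [CommRing A] [CommRing B] (φ : A →+* B)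
variable (C : CochainComplex (ModuleCat.{u} A) ℤ)

/-- opcycles commute with extension of scalars -/
noncomputable def extOpcyclesIso (q : ℤ) :
    ((DTen.extCx φ).obj C).opcycles q ≅ (ModuleCat.extendScalars φ).obj (C.opcycles q) :=
  IsColimit.coconePointUniqueUpToIso
    (((DTen.extCx φ).obj C).opcyclesIsCokernel ((ComplexShape.up ℤ).prev q) q rfl)
    (CokernelCofork.mapIsColimit _ (C.opcyclesIsCokernel ((ComplexShape.up ℤ).prev q) q rfl)
      (ModuleCat.extendScalars φ))

lemma pOpcycles_extOpcyclesIso_hom (q : ℤ) :
    ((DTen.extCx φ).obj C).pOpcycles q ≫ (extOpcyclesIso φ C q).hom =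
      (ModuleCat.extendScalars φ).map (C.pOpcycles q) :=
  IsColimit.comp_coconePointUniqueUpToIso_hom
    (((DTen.extCx φ).obj C).opcyclesIsCokernel ((ComplexShape.up ℤ).prev q) q rfl)
    (CokernelCofork.mapIsColimit _ (C.opcyclesIsCokernel ((ComplexShape.up ℤ).prev q) q rfl)
      (ModuleCat.extendScalars φ)) WalkingParallelPair.one

lemma extOpcyclesIso_hom_fromOpcycles (q : ℤ) :
    (extOpcyclesIso φ C q).hom ≫ (ModuleCat.extendScalars φ).map (C.fromOpcycles q (q + 1)) =
      ((DTen.extCx φ).obj C).fromOpcycles q (q + 1) := by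
  have h1 : ((DTen.extCx φ).obj C).pOpcycles q ≫ ((extOpcyclesIso φ C q).hom ≫
      (ModuleCat.extendScalars φ).map (C.fromOpcycles q (q + 1))) =
      ((DTen.extCx φ).obj C).pOpcycles q ≫ ((DTen.extCx φ).obj C).fromOpcycles q (q + 1) := by
    rw [← Category.assoc, pOpcycles_extOpcyclesIso_hom]
    have e1 : (ModuleCat.extendScalars φ).map (C.pOpcycles q) ≫
        (ModuleCat.extendScalars φ).map (C.fromOpcycles q (q + 1)) =
        (ModuleCat.extendScalars φ).map (C.d q (q + 1)) := by
      rw [← Functor.map_comp, HomologicalComplex.p_fromOpcycles]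
    exact e1.trans (HomologicalComplex.p_fromOpcycles ((DTen.extCx φ).obj C) q (q + 1)).symm
  exact (cancel_epi _).1 h1


section Local

variable [IsLocalRing A] (hB : IsField B) [IsLocalHom φ]

include hB in
/-- if the base change of `C` to the field `B` is exact in degree `q`, then
`C.opcycles q ⟶ C.X (q + 1)` is split injective -/
theorem exists_retraction_fromOpcycles (q : ℤ) [Module.Finite A (C.X q)]
    [Module.Finite A (C.X (q + 1))] [Module.Free A (C.X (q + 1))]
    (h : IsZero (((DTen.extCx φ).obj C).homology q)) :
    ∃ r : C.X (q + 1) ⟶ C.opcycles q, C.fromOpcycles q (q + 1) ≫ r = 𝟙 _ := by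
  haveI : Module.Finite A (C.opcycles q) :=
    Module.Finite.of_surjective (C.pOpcycles q).hom
      ((ModuleCat.epi_iff_surjective _).mp inferInstance)
  have hm : Mono (((DTen.extCx φ).obj C).fromOpcycles q (q + 1)) :=
    Preadditive.mono_of_isZero_kernel' _
      (((DTen.extCx φ).obj C).homologyIsKernel q (q + 1) (by simp)) h
  have hinj0 : Function.Injective (((DTen.extCx φ).obj C).fromOpcycles q (q + 1)).hom :=
    (ModuleCat.mono_iff_injective _).1 hm
  have hinj : Function.Injective
      ((ModuleCat.extendScalars φ).map (C.fromOpcycles q (q + 1))).hom := by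
    intro x y hxy
    have h1 := extOpcyclesIso_hom_fromOpcycles φ C q
    have hx : ∀ z, (((DTen.extCx φ).obj C).fromOpcycles q (q + 1)).hom
        ((extOpcyclesIso φ C q).inv.hom z) =
        ((ModuleCat.extendScalars φ).map (C.fromOpcycles q (q + 1))).hom z := by
      intro z
      have h2 := congrArg (fun g => g.hom ((extOpcyclesIso φ C q).inv.hom z)) h1
      refine h2.symm.trans ?_
      change ((ModuleCat.extendScalars φ).map (C.fromOpcycles q (q + 1))).hom
        (((extOpcyclesIso φ C q).inv ≫ (extOpcyclesIso φ C q).hom).hom z) = _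
      rw [Iso.inv_hom_id]
      rfl
    have h3 : (extOpcyclesIso φ C q).inv.hom x = (extOpcyclesIso φ C q).inv.hom y :=
      hinj0 ((hx x).trans (hxy.trans (hx y).symm))
    have h4 := congrArg (extOpcyclesIso φ C q).hom.hom h3
    change ((extOpcyclesIso φ C q).inv ≫ (extOpcyclesIso φ C q).hom).hom x =
      ((extOpcyclesIso φ C q).inv ≫ (extOpcyclesIso φ C q).hom).hom y at h4
    rw [Iso.inv_hom_id] at h4
    exact h4
  obtain ⟨l', hl'⟩ := @Groth.Agent.Helper9.LocSplit1.exists_retraction A B _ _ hB.toField
    (by exact φ.toAlgebra) (by exact ‹IsLocalHom φ›) (C.opcycles q) (C.X (q + 1)) _ _ _ _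
    (by infer_instance) (by infer_instance) (by infer_instance) (C.fromOpcycles q (q + 1)).hom
    (by exact hinj)
  exact ⟨ModuleCat.ofHom l', by ext x; exact LinearMap.congr_fun hl' x⟩

end Local


section Consequences

variable {C}

/-- a split injective `fromOpcycles` kills the homology -/
theorem isZero_homology_of_retraction (q : ℤ) (r : C.X (q + 1) ⟶ C.opcycles q)
    (hr : C.fromOpcycles q (q + 1) ≫ r = 𝟙 _) : IsZero (C.homology q) := by
  haveI : Mono (C.fromOpcycles q (q + 1)) := mono_of_mono_fac hr
  exact KernelFork.IsLimit.isZero_of_mono (C.homologyIsKernel q (q + 1) (by simp))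

/-- `opcycles q` is projective when `fromOpcycles` is split injective into a projective module -/
theorem projective_opcycles_of_retraction (q : ℤ) (r : C.X (q + 1) ⟶ C.opcycles q)
    (hr : C.fromOpcycles q (q + 1) ≫ r = 𝟙 _) [Module.Projective A (C.X (q + 1))] :
    Module.Projective A (C.opcycles q) :=
  Module.Projective.of_split (C.fromOpcycles q (q + 1)).hom r.hom (by
    ext x
    exact congrArg (fun g => g.hom x) hr)

lemma fromOpcycles_pOpcycles (q : ℤ) :
    C.fromOpcycles q (q + 1) ≫ C.pOpcycles (q + 1) = 0 := by
  rw [← cancel_epi (C.pOpcycles q), HomologicalComplex.p_fromOpcycles_assoc,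
    HomologicalComplex.d_pOpcycles, comp_zero]

/-- `opcycles (q + 1)` is projective when `fromOpcycles q` is split injective into a projective
module -/
theorem projective_opcycles_succ_of_retraction (q : ℤ) (r : C.X (q + 1) ⟶ C.opcycles q)
    (hr : C.fromOpcycles q (q + 1) ≫ r = 𝟙 _) [Module.Projective A (C.X (q + 1))] :
    Module.Projective A (C.opcycles (q + 1)) := by
  let g : C.X (q + 1) ⟶ C.X (q + 1) := 𝟙 _ - r ≫ C.fromOpcycles q (q + 1)
  have hg : C.d q (q + 1) ≫ g = 0 := by
    have h1 : C.d q (q + 1) = C.pOpcycles q ≫ C.fromOpcycles q (q + 1) :=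
      (C.p_fromOpcycles q (q + 1)).symm
    simp only [g, Preadditive.comp_sub, Category.comp_id]
    rw [sub_eq_zero, h1, Category.assoc, reassoc_of% hr]
  let s : C.opcycles (q + 1) ⟶ C.X (q + 1) := C.descOpcycles g q (by simp) hg
  have hs : s ≫ C.pOpcycles (q + 1) = 𝟙 _ := by
    rw [← cancel_epi (C.pOpcycles (q + 1)), HomologicalComplex.p_descOpcycles_assoc]
    simp only [g, Preadditive.sub_comp, Category.id_comp, Category.assoc, Category.comp_id]
    rw [fromOpcycles_pOpcycles, comp_zero, sub_zero]
  exact Module.Projective.of_split s.hom (C.pOpcycles (q + 1)).hom (by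
    ext x
    exact congrArg (fun g => g.hom x) hs)

omit [CommRing B] in
lemma projective_quotient_range_d (p j : ℤ) (hp : (ComplexShape.up ℤ).prev j = p)
    (h : Module.Projective A (C.opcycles j)) :
    Module.Projective A (C.X j ⧸ LinearMap.range (C.d p j).hom) := by
  subst hp
  haveI : Module.Projective A (C.sc j).opcycles := h
  exact Module.Projective.of_equiv ((C.sc j).moduleCatOpcyclesIso.toLinearEquiv)

/-- the homology in degree `i` is projective when `opcycles i`, `X (i + 1)` and `opcycles (i + 1)`
are -/
theorem projective_homology (i : ℤ) (h1 : Module.Projective A (C.opcycles i))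
    (h2 : Module.Projective A (C.X (i + 1))) (h3 : Module.Projective A (C.opcycles (i + 1))) :
    Module.Projective A (C.homology i) := by
  have hQ : Module.Projective A (C.X (i + 1) ⧸ LinearMap.range (C.fromOpcycles i (i + 1)).hom) := by
    rw [Groth.Agent.Helper1.FlatCx.range_fromOpcycles]
    exact projective_quotient_range_d i (i + 1) (by simp) h3
  have h4 := Groth.Agent.Helper9.LocSplit1.projective_ker (C.fromOpcycles i (i + 1)).hom hQ
  have hex := Groth.Agent.Helper1.FlatCx.exact_homologyι_fromOpcycles C i (i + 1) (by simp)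
  have hinj : Function.Injective (C.homologyι i).hom :=
    (ModuleCat.mono_iff_injective _).mp inferInstance
  rw [LinearMap.exact_iff.mp hex] at h4
  exact Module.Projective.of_equiv (LinearEquiv.ofInjective _ hinj).symm

end Consequences


section Main

variable [IsLocalRing A] (hB : IsField B) [IsLocalHom φ]

include hB in
/-- a complex of finite free modules over a local ring whose base change to a field-valued point
has cohomology only in degree `i` has cohomology only in degree `i`, and it is projective -/
theorem main (hfin : ∀ j, Module.Finite A (C.X j)) (hfree : ∀ j, Module.Free A (C.X j)) (i : ℤ)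
    (h : ∀ q : ℤ, q ≠ i → IsZero (((DTen.extCx φ).obj C).homology q)) :
    (∀ q : ℤ, q ≠ i → IsZero (C.homology q)) ∧ Module.Projective A (C.homology i) := by
  haveI := hfin
  haveI := hfree
  have key : ∀ q : ℤ, q ≠ i → ∃ r : C.X (q + 1) ⟶ C.opcycles q,
      C.fromOpcycles q (q + 1) ≫ r = 𝟙 _ :=
    fun q hq => exists_retraction_fromOpcycles φ C hB q (h q hq)
  refine ⟨fun q hq => ?_, ?_⟩
  · obtain ⟨r, hr⟩ := key q hq
    exact isZero_homology_of_retraction q r hr
  · have h1 : ∀ q : ℤ, q + 1 = i → Module.Projective A (C.opcycles i) := by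
      intro q hq
      subst hq
      obtain ⟨r, hr⟩ := key q (by omega)
      exact projective_opcycles_succ_of_retraction q r hr
    obtain ⟨r₂, hr₂⟩ := key (i + 1) (by omega)
    exact projective_homology i (h1 (i - 1) (by omega)) inferInstance
      (projective_opcycles_of_retraction (i + 1) r₂ hr₂)

end Main

end Groth.Agent.Helper9.LocSplit2
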