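import Mathlib
import Groth.Prelude.Def_PerfD
import Groth.Agent.Helper9.LocSplit2
import Groth.Agent.Helper9.Fib2
import Groth.Agent.Helper9.Lpull1
import Groth.Agent.Lead.FreeLocus1

/-! From vanishing of the fibre cohomology at a point to the stalks of the cohomology sheaves. -/

set_option autoImplicit false
set_option linter.style.haveILetI false
set_option linter.unusedVariables false
set_option linter.unusedSectionVars false
universe u

namespace Groth.Agent.Helper9.LocSplit3

open CategoryTheory CategoryTheory.Limits AlgebraicGeometry Opposite TopologicalSpace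
open Groth.Agent.Helper9.SkyMod4 Groth.Agent.Helper9.Betti2 Groth.Agent.Helper9.StalkTensor9
  Groth.Agent.Helper9.Lpull1

/-- the stalk of a one-point scheme whose ring of functions is a field is a field -/
theorem isField_stalk (T : Scheme.{u}) [Unique T] (hK : IsField (Coh.Γtop T)) :
    IsField (T.presheaf.stalk (default : T)) := by
  have hinj : Function.Injective (T.presheaf.germ ⊤ (default : T) (Opens.mem_top _)).hom := by
    intro s t hst
    obtain ⟨W, hW, i1, i2, h⟩ := T.presheaf.germ_eq (default : T) (Opens.mem_top _)
      (Opens.mem_top _) s t hst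
    have hW' : W = ⊤ := by
      ext z
      simp only [TopologicalSpace.Opens.coe_top, Set.mem_univ, iff_true]
      rw [Unique.eq_default z]
      exact hW
    subst hW'
    have h1 : i1 = 𝟙 _ := Subsingleton.elim _ _
    have h2 : i2 = 𝟙 _ := Subsingleton.elim _ _
    rw [h1, h2] at h
    simpa using h
  have hsurj : Function.Surjective (T.presheaf.germ ⊤ (default : T) (Opens.mem_top _)).hom := by
    intro m
    obtain ⟨U, hU, s, hs⟩ := T.presheaf.exists_germ_eq (x := (default : T)) m
    have hU' : U = ⊤ := by
      ext z
      simp only [TopologicalSpace.Opens.coe_top, Set.mem_univ, iff_true]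
      rw [Unique.eq_default z]
      exact hU
    subst hU'
    exact ⟨s, hs⟩
  let e : Γ(T, ⊤) ≃+* T.presheaf.stalk (default : T) :=
    RingEquiv.ofBijective (T.presheaf.germ ⊤ (default : T) (Opens.mem_top _)).hom ⟨hinj, hsurj⟩
  exact MulEquiv.isField hK e.symm.toMulEquiv


variable {Z T : Scheme.{u}}

/-- stalks commute with homology -/
noncomputable def stalkHomologyIso (z : Z) (P : CochainComplex Z.Modules ℤ) (q : ℤ) :
    ((StCx z).obj P).homology q ≅ (St z).obj (P.homology q) :=
  (P.sc q).mapHomologyIso (St z)

/-- **From the fibre to the stalk**: if the pullback of a complex of finite locally free modules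
along a morphism from a one-point scheme (whose ring of functions is a field) has cohomology only
in degree `i`, then the stalks at the image point of the cohomology sheaves vanish in degrees
`≠ i`, and the stalk of the `i`-th cohomology sheaf is projective. -/
theorem stalk_homology_of_fibre [Unique T] (hK : IsField (Coh.Γtop T)) (g : T ⟶ Z)
    (P : CochainComplex Z.Modules ℤ) (hP : ∀ j, FlatMod.IsFinLocFree (P.X j)) (i : ℤ)
    (h : ∀ q : ℤ, q ≠ i → IsZero
      ((((Scheme.Modules.pullback g).mapHomologicalComplex (ComplexShape.up ℤ)).obj P).homology q)) :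
    (∀ q : ℤ, q ≠ i → IsZero ((St (g.base default)).obj (P.homology q))) ∧
      Module.Projective (Z.presheaf.stalk (g.base default))
        ((St (g.base default)).obj (P.homology i)) := by
  let C := (StCx (g.base default)).obj P
  have hfin : ∀ j, Module.Finite (Z.presheaf.stalk (g.base default)) (C.X j) := fun j =>
    (Groth.Agent.Lead.FreeLocus.FLFAt.free_finite (hP j (g.base default))).2
  have hfree : ∀ j, Module.Free (Z.presheaf.stalk (g.base default)) (C.X j) := fun j =>
    (Groth.Agent.Lead.FreeLocus.FLFAt.free_finite (hP j (g.base default))).1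
  have hC : ∀ q : ℤ, q ≠ i →
      IsZero (((DTen.extCx (g.stalkMap default).hom).obj C).homology q) := by
    intro q hq
    have h1 : IsZero ((St (default : T)).obj
        ((((Scheme.Modules.pullback g).mapHomologicalComplex (ComplexShape.up ℤ)).obj P).homology
          q)) := Functor.map_isZero _ (h q hq)
    have h2 : IsZero (((StCx (default : T)).obj
        (((Scheme.Modules.pullback g).mapHomologicalComplex (ComplexShape.up ℤ)).obj P)).homology
          q) := h1.of_iso (stalkHomologyIso default _ q)
    exact h2.of_iso ((HomologicalComplex.homologyFunctor _ _ q).mapIso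
      (pullStalkCxIso g default P)).symm
  have hB := isField_stalk T hK
  obtain ⟨m1, m2⟩ := Groth.Agent.Helper9.LocSplit2.main (g.stalkMap default).hom C hB hfin hfree i hC
  refine ⟨fun q hq => (m1 q hq).of_iso (stalkHomologyIso _ P q).symm, ?_⟩
  exact Module.Projective.of_equiv (stalkHomologyIso _ P i).toLinearEquiv

end Groth.Agent.Helper9.LocSplit3
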