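import Mathlib
import Groth.Prelude.Def_DRing2
import Groth.Prelude.Def_DRing4
import Groth.Prelude.Def_DDual2
import Groth.Prelude.Def_DTen
import Groth.Agent.Helper9.RingProj2
import Groth.Agent.Helper6.LTenCxCompute
import Groth.Agent.Helper3.DRingRestr
import Groth.Agent.Helper3.DRingCone

/-! Tor amplitude of `K ⊗^L_B L` with scalars restricted to `A`. -/

set_option autoImplicit false
set_option linter.style.haveILetI false
set_option linter.unusedVariables false
set_option linter.unusedSectionVars false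
set_option linter.unusedSimpArgs false
universe u

namespace Groth.Agent.Helper9.RingProj3

open CategoryTheory CategoryTheory.Limits MonoidalCategory HomologicalComplex
open Groth.Agent.Helper6.TenCx Groth.Agent.Helper9.RingProj2

attribute [local instance] HasDerivedCategory.standard

section One

variable {R : Type u} [CommRing R]

/-- a quasi-isomorphism between K-flat complexes stays one after tensoring with any complex -/
theorem quasiIso_whiskerRight_of_kflat {P Q : DRing.Cx R} (α : P ⟶ Q) (hP : KFlat P)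
    (hQ : KFlat Q) (hα : QuasiIso α) (L : DRing.Cx R) : QuasiIso (α ▷ L) := by
  have h := DTen.braidCx_naturality α (𝟙 L)
  rw [MonoidalCategory.tensorHom_id, MonoidalCategory.id_tensorHom] at h
  haveI hq := quasiIso_whiskerLeft_of_kflat α hP hQ hα L
  have h2 : α ▷ L = (DTen.braidCx P L).hom ≫ (L ◁ α) ≫ (DTen.braidCx Q L).inv := by
    rw [← Category.assoc, ← h, Category.assoc, Iso.hom_inv_id, Category.comp_id]
  rw [h2]
  infer_instance

/-- for `E` K-flat, `toD E ⊗^L L ≅ toD (E ⊗ L)` -/
theorem nonempty_ltcIso_of_kflat (E L : DRing.Cx R) [DRing.HasLTensorCx R L] (hE : KFlat E) :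
    Nonempty ((DRing.LTensorCx R L).obj (DRing.toD E) ≅ DRing.toD (E ⊗ L)) := by
  obtain ⟨P, f, hP, hPk, -, hf, -⟩ := Groth.Agent.Helper6.KProjRes.exists_resolution E
  haveI := hP
  haveI : IsIso (DerivedCategory.Q.map f) :=
    (DerivedCategory.isIso_Q_map_iff_quasiIso (ModuleCat.{u} R) _).mpr hf
  haveI : IsIso (DerivedCategory.Q.map (f ▷ L)) :=
    (DerivedCategory.isIso_Q_map_iff_quasiIso (ModuleCat.{u} R) _).mpr
      (quasiIso_whiskerRight_of_kflat f hPk hE hf L)
  exact ⟨(DRing.LTensorCx R L).mapIso (asIso (DerivedCategory.Q.map f)).symm ≪≫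
    Groth.Agent.Helper6.LTenCxCompute.ltcIso L P ≪≫ asIso (DerivedCategory.Q.map (f ▷ L))⟩

end One

section Two

variable {A B : Type u} [CommRing A] [CommRing B] (φ : A →+* B)

/-- tor amplitude of `K ⊗^L_B L` over `A` -/
theorem main (K : Dual.D B) (a b c d : ℤ) (hK : DRing.HasTorAmplitudeIn B a b K)
    (L : DRing.Cx B)
    (hL : DRing.HasTorAmplitudeIn A c d (DRing.toD ((DRing.restrictCx φ).obj L)))
    [DRing.HasLTensorCx B L] :
    DRing.HasTorAmplitudeIn A (a + c) (b + d)
      ((DRing.restrictD φ).obj ((DRing.LTensorCx B L).obj K)) := by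
  obtain ⟨E, hE, hfl, ⟨eE⟩⟩ := hK
  obtain ⟨e1⟩ := nonempty_ltcIso_of_kflat E L
    (kflat_of_flat E b (fun i hi => hE i (Or.inr hi)) hfl)
  have h := core φ E L a b c d hE hfl hL
  exact Groth.Agent.Helper3.DRingLib.hasTorAmplitudeIn_of_iso
    ((Groth.Agent.Helper3.DRingLib.rDToD φ (E ⊗ L)).symm ≪≫
      (DRing.restrictD φ).mapIso (e1.symm ≪≫ (DRing.LTensorCx B L).mapIso eE)) _ _ h

end Two

end Groth.Agent.Helper9.RingProj3
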