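import Mathlib
import Groth.Prelude.Def_DRing2
import Groth.Prelude.Def_DRing4
import Groth.Prelude.Def_DDual2
import Groth.Prelude.Def_DTen
import Groth.Agent.Helper9.RingProj3

/-! Tor amplitude of `E₀ ⊗_B M` over `A` for `A → B → C`, `E₀` K-flat over `B`, `M` over `C`. -/

set_option autoImplicit false
set_option linter.style.haveILetI false
set_option linter.unusedVariables false
set_option linter.unusedSectionVars false
set_option linter.unusedSimpArgs false
universe u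

namespace Groth.Agent.Helper9.RingProj4

open CategoryTheory CategoryTheory.Limits MonoidalCategory HomologicalComplex
open Groth.Agent.Helper6.TenCx Groth.Agent.Helper9.RingProj2 Groth.Agent.Helper9.RingProj1

attribute [local instance] HasDerivedCategory.standard

section Two

variable {A B : Type u} [CommRing A] [CommRing B] (ψ : A →+* B)

/-- restriction of scalars of complexes respects isomorphisms in the derived category -/
noncomputable def rCxDIso {K K' : DRing.Cx B} (e : DRing.toD K ≅ DRing.toD K') :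
    DRing.toD ((rCx ψ).obj K) ≅ DRing.toD ((rCx ψ).obj K') :=
  (Groth.Agent.Helper3.DRingLib.rDToD ψ K).symm ≪≫ (DRing.restrictD ψ).mapIso e ≪≫
    Groth.Agent.Helper3.DRingLib.rDToD ψ K'

/-- the core, for `K'` of tor amplitude `[a, b]` over `B` and `L` K-flat over `B` -/
theorem core2 (K' L : DRing.Cx B) (a b c d : ℤ)
    (hK' : DRing.HasTorAmplitudeIn B a b (DRing.toD K')) (hLk : KFlat L)
    (hL : DRing.HasTorAmplitudeIn A c d (DRing.toD ((rCx ψ).obj L))) :
    DRing.HasTorAmplitudeIn A (a + c) (b + d) (DRing.toD ((rCx ψ).obj (K' ⊗ L))) := by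
  obtain ⟨E, hE, hfl, ⟨eE⟩⟩ := hK'
  obtain ⟨P, f, hP, -, -, hf, -⟩ := Groth.Agent.Helper6.KProjRes.exists_resolution K'
  haveI := hP
  haveI : IsIso (DerivedCategory.Q.map f) :=
    (DerivedCategory.isIso_Q_map_iff_quasiIso (ModuleCat.{u} B) _).mpr hf
  obtain ⟨g, hg⟩ := Groth.Agent.Helper6.KProjQ.Q_map_surjective P E
    (DerivedCategory.Q.map f ≫ eE.inv)
  have hgq : QuasiIso g := by
    rw [← DerivedCategory.isIso_Q_map_iff_quasiIso, hg]
    infer_instance
  haveI : IsIso (DerivedCategory.Q.map (f ▷ L)) :=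
    (DerivedCategory.isIso_Q_map_iff_quasiIso (ModuleCat.{u} B) _).mpr
      (quasiIso_whiskerRight hLk f hf)
  haveI : IsIso (DerivedCategory.Q.map (g ▷ L)) :=
    (DerivedCategory.isIso_Q_map_iff_quasiIso (ModuleCat.{u} B) _).mpr
      (quasiIso_whiskerRight hLk g hgq)
  have e1 : DRing.toD (E ⊗ L) ≅ DRing.toD (K' ⊗ L) :=
    (asIso (DerivedCategory.Q.map (g ▷ L))).symm ≪≫ asIso (DerivedCategory.Q.map (f ▷ L))
  exact Groth.Agent.Helper3.DRingLib.hasTorAmplitudeIn_of_iso (rCxDIso ψ e1) _ _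
    (core ψ E L a b c d hE hfl hL)

end Two

section Three

variable {A B C : Type u} [CommRing A] [CommRing B] [CommRing C]
  (ψ : A →+* B) (φ : B →+* C) (χ : A →+* C) (hχ : χ = φ.comp ψ)

/-- restriction of scalars along a composite -/
noncomputable def rCxCompIso (hχ : χ = φ.comp ψ) (K : DRing.Cx C) :
    (rCx ψ).obj ((rCx φ).obj K) ≅ (rCx χ).obj K :=
  (Functor.mapHomologicalComplexCompIso (ModuleCat.restrictScalarsComp' ψ φ χ hχ).symm
    (ComplexShape.up ℤ)).app K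

/-- tor amplitude of `(C ⊗_B E₀) ⊗_C M` over `A` -/
theorem core3 (hχ : χ = φ.comp ψ) (E₀ : DRing.Cx B) (M : DRing.Cx C) (a b c d : ℤ)
    (hE₀k : KFlat E₀)
    (hE₀ : DRing.HasTorAmplitudeIn A c d (DRing.toD ((rCx ψ).obj E₀)))
    (hM : DRing.HasTorAmplitudeIn B a b (DRing.toD ((rCx φ).obj M))) :
    DRing.HasTorAmplitudeIn A (a + c) (b + d)
      (DRing.toD ((rCx χ).obj ((extCx φ).obj E₀ ⊗ M))) := by
  have h := core2 ψ ((rCx φ).obj M) E₀ a b c d hM hE₀k hE₀
  have e1 : (rCx φ).obj M ⊗ E₀ ≅ (rCx φ).obj ((extCx φ).obj E₀ ⊗ M) :=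
    (projCxIso φ M E₀).symm ≪≫ (rCx φ).mapIso (DTen.braidCx _ _)
  exact Groth.Agent.Helper3.DRingLib.hasTorAmplitudeIn_of_iso
    (DerivedCategory.Q.mapIso ((rCx ψ).mapIso e1 ≪≫ rCxCompIso ψ φ χ hχ _)) _ _ h

/-- tor amplitude of `C ⊗_B E₀` over `A` -/
theorem core4 (hχ : χ = φ.comp ψ) (E₀ : DRing.Cx B) (m : ℕ) (c d : ℤ)
    (hE₀k : KFlat E₀)
    (hE₀ : DRing.HasTorAmplitudeIn A c d (DRing.toD ((rCx ψ).obj E₀)))
    (hC : DRing.HasTorAmplitudeIn B (-(m : ℤ)) 0
      (DRing.toD ((rCx φ).obj (𝟙_ (DRing.Cx C))))) :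
    DRing.HasTorAmplitudeIn A (c - m) d (DRing.toD ((rCx χ).obj ((extCx φ).obj E₀))) := by
  have h := core3 ψ φ χ hχ E₀ (𝟙_ (DRing.Cx C)) (-(m : ℤ)) 0 c d hE₀k hE₀ hC
  have h1 : -(m : ℤ) + c = c - m := by ring
  have h2 : (0 : ℤ) + d = d := by ring
  rw [h1, h2] at h
  exact Groth.Agent.Helper3.DRingLib.hasTorAmplitudeIn_of_iso
    (DerivedCategory.Q.mapIso ((rCx χ).mapIso (ρ_ ((extCx φ).obj E₀)))) _ _ h

end Three

end Groth.Agent.Helper9.RingProj4
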