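import Mathlib
import Groth.Prelude.Def_DTor2
import Groth.Agent.Helper9.Lpull3
import Groth.Agent.Helper9.LTM2

/-! Pullback of flat modules; tor amplitude of `Lf^*`. -/

set_option autoImplicit false
set_option linter.style.haveILetI false
set_option linter.unusedVariables false
set_option linter.unusedSectionVars false
universe u

namespace Groth.Agent.Helper9.Lpull4

open CategoryTheory CategoryTheory.Limits AlgebraicGeometry Opposite TopologicalSpace
  HomologicalComplex
open Groth.Agent.Helper9.Lpull1 Groth.Agent.Helper9.Lpull2 Groth.Agent.Helper9.Lpull3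
  Groth.Agent.Helper9.SkyMod4

attribute [local instance] HasDerivedCategory.standard

section Ring

variable {A B : Type u} [CommRing A] [CommRing B] (φ : A →+* B)

/-- extension of scalars preserves flatness -/
theorem flat_extendScalars (N : ModuleCat.{u} A) [Module.Flat A N] :
    Module.Flat B ((ModuleCat.extendScalars φ).obj N) := by
  letI := φ.toAlgebra
  exact (inferInstance : Module.Flat B (TensorProduct A B N))

end Ring

variable {X Y : Scheme.{u}} (f : X ⟶ Y)

/-- the pullback of a flat module is flat -/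
theorem isFlat_pullback (M : Y.Modules) (hM : FlatMod.IsFlat M) :
    FlatMod.IsFlat ((Scheme.Modules.pullback f).obj M) := by
  intro x
  haveI : Module.Flat (Y.presheaf.stalk (f.base x)) ((St (f.base x)).obj M) := hM (f.base x)
  have h2 : Module.Flat (X.presheaf.stalk x) ((ext x f).obj ((St (f.base x)).obj M)) :=
    flat_extendScalars (f.stalkMap x).hom ((St (f.base x)).obj M)
  have e : ((St x).obj ((Scheme.Modules.pullback f).obj M)) ≃ₗ[X.presheaf.stalk x]
      ((ext x f).obj ((St (f.base x)).obj M)) := ((pullStalkIso x f).app M).toLinearEquiv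
  exact @Module.Flat.of_linearEquiv _ _ _ _ _ _ _ _ h2 e

variable [DCoh.HasLpull f]

/-- `Lf^*` preserves flat amplitude -/
theorem hasFlatAmplitudeIn_lpull (E : DCoh.D Y) (a b : ℤ) (hE : DCoh.HasFlatAmplitudeIn a b E) :
    DCoh.HasFlatAmplitudeIn a b ((DCoh.Lpull f).obj E) := by
  obtain ⟨E', hE', hfl, ⟨e⟩⟩ := hE
  have hKF : DCoh.IsKFlat E' :=
    Groth.Agent.Helper9.LTM2.isKFlat_of_vanishesAbove E' b (fun i hi => hE' i (Or.inr hi)) hfl
  refine ⟨((Scheme.Modules.pullback f).mapHomologicalComplex (ComplexShape.up ℤ)).obj E',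
    fun i hi => Functor.map_isZero (Scheme.Modules.pullback f) (hE' i hi),
    fun i => isFlat_pullback f (E'.X i) (hfl i), ⟨?_⟩⟩
  exact (lpullIso f E' hKF).symm ≪≫ (DCoh.Lpull f).mapIso e

/-- `Lf^*` of a complex with flat amplitude in `[a, b]` has tor amplitude in `[a, b]` -/
theorem hasTorAmplitudeIn_lpull (E : DCoh.D Y) (a b : ℤ) (hE : DCoh.HasFlatAmplitudeIn a b E) :
    DCoh.HasTorAmplitudeIn a b ((DCoh.Lpull f).obj E) :=
  Groth.Agent.Helper9.LTM2.hasTorAmplitudeIn_of_hasFlatAmplitudeIn a b _
    (hasFlatAmplitudeIn_lpull f E a b hE)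

end Groth.Agent.Helper9.Lpull4
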