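import Mathlib
import Groth.Prelude.Def_DerSch
import Groth.Prelude.Def_Coh
import Groth.Agent.Helper9.SkyMod4

/-! The stalk of the structure module is the local ring (free of rank one). -/

set_option autoImplicit false
set_option linter.style.haveILetI false
set_option linter.unusedVariables false
set_option linter.unusedSectionVars false
universe u

namespace Groth.Agent.Helper9.PullMon2

open CategoryTheory CategoryTheory.Limits AlgebraicGeometry Opposite TopologicalSpace
open Groth.Agent.Helper9.SkyMod2 Groth.Agent.Helper9.SkyMod4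

variable {X : Scheme.{u}} (x : X)

/-- the stalk of the structure module -/
noncomputable abbrev M₀ : ModuleCat.{u} (X.presheaf.stalk x) := (St x).obj (Coh.structureModule X)

/-- a function on an open, as a section of the structure module -/
abbrev sec (U : X.Opens) (s : Γ(X, U)) : Γ(Coh.structureModule X, U) := s

/-- the generator -/
noncomputable def g₁ : M₀ x :=
  (Coh.structureModule X).presheaf.germ ⊤ x trivial (sec ⊤ 1)

lemma germ_sec (U : X.Opens) (hx : x ∈ U) (s : Γ(X, U)) :
    (Coh.structureModule X).presheaf.germ U x hx (sec U s) =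
      (X.presheaf.germ U x hx s : X.presheaf.stalk x) • g₁ x := by
  have h1 : sec U s = s • sec U 1 := by
    show s = s * 1
    rw [mul_one]
  have h2 : (Coh.structureModule X).presheaf.map (homOfLE (le_top : U ≤ ⊤)).op (sec ⊤ 1) =
      sec U 1 := by
    exact map_one (X.presheaf.map (homOfLE (le_top : U ≤ ⊤)).op).hom
  have h3 : (Coh.structureModule X).presheaf.germ U x hx (sec U 1) = g₁ x := by
    rw [← h2]
    exact TopCat.Presheaf.germ_res_apply (Coh.structureModule X).presheaf
      (homOfLE (le_top : U ≤ ⊤)) x hx (sec ⊤ 1)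
  rw [h1, germ_smul x (Coh.structureModule X) U hx s (sec U 1), h3]
  rfl

/-- `r ↦ r • g₁` -/
noncomputable def ℓ : X.presheaf.stalk x →ₗ[X.presheaf.stalk x] M₀ x :=
  LinearMap.toSpanSingleton _ _ (g₁ x)

lemma ℓ_apply (r : X.presheaf.stalk x) : ℓ x r = r • g₁ x := rfl

lemma ℓ_surjective : Function.Surjective (ℓ x) := by
  intro μ
  obtain ⟨U, hxU, t, rfl⟩ := (Coh.structureModule X).presheaf.exists_germ_eq (x := x) μ
  exact ⟨X.presheaf.germ U x hxU t, (germ_sec x U hxU t).symm⟩

lemma ℓ_injective : Function.Injective (ℓ x) := by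
  rw [injective_iff_map_eq_zero]
  intro r hr
  obtain ⟨U, hxU, s, rfl⟩ := X.presheaf.exists_germ_eq (x := x) r
  have h : (Coh.structureModule X).presheaf.germ U x hxU (sec U s) = 0 :=
    (germ_sec x U hxU s).trans hr
  obtain ⟨W, hxW, iU, iV, e⟩ := TopCat.Presheaf.germ_eq (Coh.structureModule X).presheaf x hxU hxU
    (sec U s) 0 (h.trans (map_zero _).symm)
  have h2 : X.presheaf.map iU.op s = 0 := e.trans (map_zero _)
  rw [← X.presheaf.germ_res_apply iU x hxW s, h2, map_zero]

/-- the stalk of the structure module is free of rank one -/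
noncomputable def unitStalkEquiv : X.presheaf.stalk x ≃ₗ[X.presheaf.stalk x] M₀ x :=
  LinearEquiv.ofBijective (ℓ x) ⟨ℓ_injective x, ℓ_surjective x⟩

/-- the stalk of the structure module is free of rank one -/
noncomputable def unitStalkIso : ModuleCat.of (X.presheaf.stalk x) (X.presheaf.stalk x) ≅ M₀ x :=
  (unitStalkEquiv x).toModuleIso


end Groth.Agent.Helper9.PullMon2
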