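import Mathlib
import Groth.Prelude.Def_DerSch
import Groth.Agent.Helper6.TorAmpRestr
import Groth.Agent.Helper9.PullMon2
import Groth.Agent.Helper9.StalkTensor9

/-! Tor amplitude relative to a morphism (stalkwise form): composition. -/

set_option autoImplicit false
set_option linter.style.haveILetI false
set_option linter.unusedVariables false
set_option linter.unusedSectionVars false
universe u

namespace Groth.Agent.Helper9.TorAmpSch1

open CategoryTheory CategoryTheory.Limits AlgebraicGeometry Opposite TopologicalSpace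
open Groth.Agent.Helper9.SkyMod4 Groth.Agent.Helper3.DRingLib

attribute [local instance] HasDerivedCategory.standard

section Ring

variable {A B C : Type u} [CommRing A] [CommRing B] [CommRing C]

/-- the ring-level statement: tor amplitude after restriction of scalars along a map of finite
tor dimension -/
theorem key (φ : A →+* B) (ψ : B →+* C) (χ : A →+* C) (hχ : χ = ψ.comp φ) (K : DRing.Cx C)
    (n : ℕ) (a b : ℤ)
    (hB : DRing.HasTorAmplitudeIn A (-(n : ℤ)) 0
      ((DerivedCategory.singleFunctor (ModuleCat.{u} A) 0).obj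
        ((ModuleCat.restrictScalars φ).obj (ModuleCat.of B B))))
    (hK : DRing.HasTorAmplitudeIn B a b (DRing.toD ((rCx ψ).obj K))) :
    DRing.HasTorAmplitudeIn A (a - n) b (DRing.toD ((rCx χ).obj K)) := by
  letI : Algebra A B := φ.toAlgebra
  have e0 : (ModuleCat.restrictScalars φ).obj (ModuleCat.of B B) ≅ ModuleCat.of A B :=
    (AddEquiv.toLinearEquiv
      (M := ↑((ModuleCat.restrictScalars φ).obj (ModuleCat.of B B)))
      (M₂ := ↑(ModuleCat.of A B)) (by rfl) (fun r x => rfl)).toModuleIso
  have hB' : DRing.HasTorAmplitudeIn A (-(n : ℤ)) 0 (Dual.inD A B) :=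
    hasTorAmplitudeIn_of_iso ((DerivedCategory.singleFunctor (ModuleCat.{u} A) 0).mapIso e0) _ _ hB
  have h1 := Groth.Agent.Helper6.TorAmpRestr.main n hB' _ a b hK
  have e1 : (rCx φ).obj ((rCx ψ).obj K) ≅ (rCx χ).obj K :=
    (Functor.mapHomologicalComplexCompIso (ModuleCat.restrictScalarsComp' φ ψ χ hχ).symm
      (ComplexShape.up ℤ)).app K
  exact hasTorAmplitudeIn_of_iso (rDToD φ _ ≪≫ DerivedCategory.Q.mapIso e1) _ _ h1

end Ring

variable {X Y Z : Scheme.{u}}

/-- the complex of stalks of the structure sheaf placed in degree `0` -/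
noncomputable def stalkUnitCxIso (g : Y ⟶ Z) (y : Y) :
    DRing.toD ((DerSch.stalkCxOver g y).obj (DerSch.unitCx Y)) ≅
      (DerivedCategory.singleFunctor (ModuleCat.{u} (Z.presheaf.stalk (g.base y))) 0).obj
        ((ModuleCat.restrictScalars (g.stalkMap y).hom).obj
          (ModuleCat.of (Y.presheaf.stalk y) (Y.presheaf.stalk y))) :=
  DerivedCategory.Q.mapIso
    ((HomologicalComplex.singleMapHomologicalComplex (DerSch.stalkOver g y) (ComplexShape.up ℤ)
      0).app (Coh.structureModule Y)) ≪≫
    ((DerivedCategory.singleFunctorIsoCompQ _ 0).app _).symm ≪≫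
    (DerivedCategory.singleFunctor _ 0).mapIso
      ((ModuleCat.restrictScalars (g.stalkMap y).hom).mapIso
        (Groth.Agent.Helper9.PullMon2.unitStalkIso y).symm)

/-- tor amplitude relative to a composite -/
theorem hasTorAmplitude_comp (f : X ⟶ Y) (g : Y ⟶ Z) (n : ℕ) (hg : DerSch.HasTorDimLE g n)
    (F : CochainComplex X.Modules ℤ) (a b : ℤ) (hF : DerSch.HasTorAmplitude f a b F) :
    DerSch.HasTorAmplitude (f ≫ g) (a - n) b F := by
  intro x
  exact key (g.stalkMap (f.base x)).hom (f.stalkMap x).hom ((f ≫ g).stalkMap x).hom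
    (by rw [Scheme.Hom.stalkMap_comp]; rfl)
    ((Groth.Agent.Helper9.StalkTensor9.StCx x).obj F) n a b
    (hasTorAmplitudeIn_of_iso (stalkUnitCxIso g (f.base x)) _ _ (hg (f.base x))) (hF x)

end Groth.Agent.Helper9.TorAmpSch1
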