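import Mathlib
import Groth.Prelude.Def_DTor2
import Groth.Agent.Helper9.LTM1
import Groth.Agent.Helper9.LDeriv8
import Groth.Agent.Helper9.StalkTensor9
import Groth.Agent.Helper9.Lpull3
import Groth.Agent.Helper9.LocSplit3

/-! Existence of `- ⊗^L M`, and the stalks of the cohomology sheaves of `P ⊗ M`. -/

set_option autoImplicit false
set_option linter.style.haveILetI false
set_option linter.unusedVariables false
set_option linter.unusedSectionVars false
set_option linter.unusedSimpArgs false
universe u

namespace Groth.Agent.Helper9.TorQc1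

open CategoryTheory CategoryTheory.Limits AlgebraicGeometry Opposite TopologicalSpace
  MonoidalCategory HomologicalComplex
open Groth.Agent.Helper9.SkyMod4 Groth.Agent.Helper9.SkyMod5 Groth.Agent.Helper9.StalkTensor8
  Groth.Agent.Helper9.StalkTensor9 Groth.Agent.Helper9.LTM1

attribute [local instance] HasDerivedCategory.standard

variable {X : Scheme.{u}}

/-- **the derived tensor product with a module exists** -/
theorem hasLTensorMod (M : X.Modules) : DCoh.HasLTensorMod M :=
  @Groth.Agent.Helper9.LDeriv8.hasLeftDerivedFunctor _ _ _ X.sheaf X.Modules _ _ _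
    (DCoh.tensorRightMod M) (DCoh.additive_tensorRightMod M)
    (fun K hK hac => acyclic_tensF M K hK hac)

/-- `- ⊗ M` in terms of the tensor bifunctor -/
noncomputable def tensorRightIso (M : X.Modules) :
    DCoh.tensorRightMod M ≅ (DCoh.tensorBi (X := X)).flip.obj M :=
  NatIso.ofComponents (fun N => Iso.refl _) (by
    intro N N' φ
    simp only [Iso.refl_hom, Category.comp_id, Category.id_comp]
    rfl)

variable (x : X)

/-- the stalk of `- ⊗ M` -/
noncomputable def stalkTensorRightIso (M : X.Modules) :
    DCoh.tensorRightMod M ⋙ St x ≅ (biL x).flip.obj M :=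
  Functor.isoWhiskerRight (tensorRightIso M) (St x) ≪≫
    (((flipFunctor _ _ _).mapIso (stBiIso x)).app M).symm

/-- dependence on the stalk of the module only -/
noncomputable def biLCongr {F G : X.Modules} (ε : (St x).obj F ≅ (St x).obj G) :
    (biL x).flip.obj F ≅ (biL x).flip.obj G :=
  NatIso.ofComponents (fun N => whiskerLeftIso ((St x).obj N) ε) (by
    intro N N' φ
    exact (whisker_exchange ((St x).map φ) ε.hom).symm)

/-- the functor `N ↦ (N ⊗ M)_x` only depends on `M_x` -/
noncomputable def stalkTensorCongr {F G : X.Modules} (ε : (St x).obj F ≅ (St x).obj G) :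
    DCoh.tensorRightMod F ⋙ St x ≅ DCoh.tensorRightMod G ⋙ St x :=
  stalkTensorRightIso x F ≪≫ biLCongr x ε ≪≫ (stalkTensorRightIso x G).symm


/-- the stalk at `x` of the cohomology sheaves of `P ⊗ G` only depends on the stalk `G_x` -/
theorem isZero_stalk_homology_tensF {F G : X.Modules} (ε : (St x).obj F ≅ (St x).obj G)
    (P : CochainComplex X.Modules ℤ) (i : ℤ) (h : IsZero (((tensF F).obj P).homology i)) :
    IsZero ((St x).obj (((tensF G).obj P).homology i)) := by
  have e1 : ((StCx x).obj ((tensF G).obj P)).homology i ≅
      ((StCx x).obj ((tensF F).obj P)).homology i :=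
    (HomologicalComplex.homologyFunctor _ _ i).mapIso
      ((NatIso.mapHomologicalComplex (stalkTensorCongr x ε).symm (ComplexShape.up ℤ)).app P)
  have h1 : IsZero ((St x).obj (((tensF F).obj P).homology i)) := Functor.map_isZero _ h
  exact h1.of_iso ((Groth.Agent.Helper9.LocSplit3.stalkHomologyIso x _ i).symm ≪≫ e1 ≪≫
    Groth.Agent.Helper9.LocSplit3.stalkHomologyIso x _ i)

end Groth.Agent.Helper9.TorQc1
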