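import Mathlib
import Groth.Prelude.Def_DerSch
import Groth.Prelude.Def_DTor2
import Groth.Agent.Helper9.TorQc1
import Groth.Agent.Helper9.LTM6
import Groth.Agent.Helper9.TorAmpSch1
import Groth.Agent.Helper3.DRingTor3

/-! Flat amplitude of a complex of modules on a scheme versus tor amplitude of its stalks. -/

set_option autoImplicit false
set_option linter.style.haveILetI false
set_option linter.unusedVariables false
set_option linter.unusedSectionVars false
set_option linter.unusedSimpArgs false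
universe u

namespace Groth.Agent.Helper9.TorStalk1

open CategoryTheory CategoryTheory.Limits AlgebraicGeometry Opposite TopologicalSpace
  MonoidalCategory HomologicalComplex
open Groth.Agent.Helper9.SkyMod4 Groth.Agent.Helper9.SkyMod5 Groth.Agent.Helper9.StalkTensor8
  Groth.Agent.Helper9.StalkTensor9 Groth.Agent.Helper9.LTM1 Groth.Agent.Helper3.DRingLib

attribute [local instance] HasDerivedCategory.standard

section Ring

variable {A : Type u} [CommRing A]

/-- restriction of scalars along the identity -/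
noncomputable def rCxIdIso (φ : A →+* A) (hφ : φ = RingHom.id A) (K : DRing.Cx A) :
    (rCx φ).obj K ≅ K :=
  HomologicalComplex.Hom.isoOfComponents
    (fun i => (ModuleCat.restrictScalarsId' φ hφ).app (K.X i))
    (fun i j _ => ((ModuleCat.restrictScalarsId' φ hφ).hom.naturality (K.d i j)).symm)

theorem hasTorAmplitudeIn_rCx_id (φ : A →+* A) (hφ : φ = RingHom.id A) (K : DRing.Cx A)
    (a b : ℤ) :
    DRing.HasTorAmplitudeIn A a b (DRing.toD ((rCx φ).obj K)) ↔
      DRing.HasTorAmplitudeIn A a b (DRing.toD K) :=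
  ⟨fun h => hasTorAmplitudeIn_of_iso (DerivedCategory.Q.mapIso (rCxIdIso φ hφ K)) _ _ h,
    fun h => hasTorAmplitudeIn_of_iso (DerivedCategory.Q.mapIso (rCxIdIso φ hφ K)).symm _ _ h⟩

end Ring

variable {X : Scheme.{u}}

/-- tor amplitude relative to the identity is tor amplitude of the stalks -/
theorem hasTorAmplitudeAt_id_iff (F : CochainComplex X.Modules ℤ) (a b : ℤ) (x : X) :
    DerSch.HasTorAmplitudeAt (𝟙 X) a b F x ↔
      DRing.HasTorAmplitudeIn (X.presheaf.stalk x) a b (DRing.toD ((StCx x).obj F)) :=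
  hasTorAmplitudeIn_rCx_id ((𝟙 X : X ⟶ X).stalkMap x).hom
    (by rw [Scheme.Hom.stalkMap_id]; rfl) ((StCx x).obj F) a b

/-- the stalk functor on derived categories, on representatives -/
noncomputable def stalkDIso (x : X) {F F' : CochainComplex X.Modules ℤ}
    (e : DCoh.toD X F ≅ DCoh.toD X F') :
    DRing.toD ((StCx x).obj F) ≅ DRing.toD ((StCx x).obj F') :=
  ((St x).mapDerivedCategoryFactors.app F).symm ≪≫ (St x).mapDerivedCategory.mapIso e ≪≫
    (St x).mapDerivedCategoryFactors.app F'

/-- flat amplitude implies tor amplitude of the stalks -/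
theorem hasTorAmplitudeIn_stalk_of_hasFlatAmplitudeIn (F : CochainComplex X.Modules ℤ) (a b : ℤ)
    (h : DCoh.HasFlatAmplitudeIn a b (DCoh.toD X F)) (x : X) :
    DRing.HasTorAmplitudeIn (X.presheaf.stalk x) a b (DRing.toD ((StCx x).obj F)) := by
  obtain ⟨E, hE, hfl, ⟨e⟩⟩ := h
  exact ⟨(StCx x).obj E, fun i hi => Functor.map_isZero (St x) (hE i hi), fun i => hfl i x,
    ⟨stalkDIso x e⟩⟩

/-- the functor `N ↦ N_x ⊗ G_x` -/
noncomputable def biLFlipIso (x : X) (G : X.Modules) :
    (biL x).flip.obj G ≅ St x ⋙ tensorRight ((St x).obj G) :=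
  NatIso.ofComponents (fun N => Iso.refl _) (by
    intro N N' φ
    simp only [Iso.refl_hom, Category.comp_id, Category.id_comp]
    rfl)

/-- the stalk of `P ⊗ G` is `P_x ⊗ G_x` -/
noncomputable def stalkTensFIso (x : X) (G : X.Modules) (P : CochainComplex X.Modules ℤ) :
    (StCx x).obj ((tensF G).obj P) ≅ DRing.tensorCx ((StCx x).obj P) ((St x).obj G) :=
  (NatIso.mapHomologicalComplex (Groth.Agent.Helper9.TorQc1.stalkTensorRightIso x G ≪≫ biLFlipIso x G)
    (ComplexShape.up ℤ)).app P

/-- tor amplitude of the stalks implies tor amplitude (derived tensor form) -/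
theorem hasTorAmplitudeIn_of_stalks (F : CochainComplex X.Modules ℤ) (d : ℤ)
    [(DCoh.toD X F).IsLE d] (a b : ℤ)
    (h : ∀ x : X, DRing.HasTorAmplitudeIn (X.presheaf.stalk x) a b
      (DRing.toD ((StCx x).obj F))) :
    DCoh.HasTorAmplitudeIn a b (DCoh.toD X F) := by
  haveI hFd : F.IsLE d := (DerivedCategory.isLE_Q_obj_iff F d).1 inferInstance
  have h1 : IsIso (DerivedCategory.Q.map (F.ιTruncLE d)) :=
    (DerivedCategory.isIso_Q_map_iff_quasiIso _ _).2 inferInstance
  obtain ⟨R, q, hq, hKF, hfl, hR⟩ :=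
    Groth.Agent.Helper9.LTM6.exists_flat_resolution_le (F.truncLE d) d inferInstance
  have h2 : IsIso (DerivedCategory.Q.map q) := (DerivedCategory.isIso_Q_map_iff_quasiIso _ q).2 hq
  have eR : DCoh.toD X R ≅ DCoh.toD X F :=
    @asIso _ _ _ _ (DerivedCategory.Q.map q) h2 ≪≫
      @asIso _ _ _ _ (DerivedCategory.Q.map (F.ιTruncLE d)) h1
  intro G _ i hi
  refine IsZero.of_iso ?_ (hdIso G R hKF eR i)
  apply isZero_of_stalks
  intro x
  obtain ⟨E, hE, hEfl, ⟨e⟩⟩ := h x
  refine IsZero.of_iso ?_ ((Groth.Agent.Helper9.LocSplit3.stalkHomologyIso x _ i).symm ≪≫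
    (HomologicalComplex.homologyFunctor _ _ i).mapIso (stalkTensFIso x G R))
  change IsZero ((DRing.tensorCx ((StCx x).obj R) ((St x).obj G)).homology i)
  rw [← HomologicalComplex.exactAt_iff_isZero_homology]
  have hRv : DRing.VanishesAbove ((StCx x).obj R) d := fun j hj =>
    Functor.map_isZero (St x) (R.isZero_of_isStrictlyLE d j hj)
  have hRf : DRing.TermwiseFlat ((StCx x).obj R) := fun j => hfl j x
  refine (exactAt_tensorCx_iff_of_iso d b hRv (fun j hj => hE j (Or.inr hj)) hRf hEfl
    (stalkDIso x eR ≪≫ e.symm) ((St x).obj G) i).2 ?_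
  exact exactAt_of_isZero_X _ i (tensorCx_isZero_X E _ i (hE i hi))

/-- tor amplitude of the stalks implies flat amplitude -/
theorem hasFlatAmplitudeIn_of_stalks (F : CochainComplex X.Modules ℤ) (d : ℤ)
    [(DCoh.toD X F).IsLE d] (a b : ℤ)
    (h : ∀ x : X, DRing.HasTorAmplitudeIn (X.presheaf.stalk x) a b
      (DRing.toD ((StCx x).obj F))) :
    DCoh.HasFlatAmplitudeIn a b (DCoh.toD X F) := by
  by_cases hab : a ≤ b
  · exact Groth.Agent.Helper9.LTM6.hasFlatAmplitudeIn_of_hasTorAmplitudeIn _ a b hab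
      (fun G => Groth.Agent.Helper9.TorQc1.hasLTensorMod G) (hasTorAmplitudeIn_of_stalks F d a b h)
  · have hac : ∀ i : ℤ, F.ExactAt i := by
      intro i
      rw [HomologicalComplex.exactAt_iff_isZero_homology]
      apply isZero_of_stalks
      intro x
      obtain ⟨E, hE, _, ⟨e⟩⟩ := h x
      refine IsZero.of_iso ?_ (Groth.Agent.Helper9.LocSplit3.stalkHomologyIso x F i).symm
      have hEz : IsZero (E.homology i) := by
        rw [← HomologicalComplex.exactAt_iff_isZero_homology]
        exact exactAt_of_isZero_X E i (hE i (by omega))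
      exact hEz.of_iso (((DerivedCategory.homologyFunctorFactors _ i).app _).symm ≪≫
        (DerivedCategory.homologyFunctor _ i).mapIso e.symm ≪≫
        (DerivedCategory.homologyFunctorFactors _ i).app _)
    let E : CochainComplex X.Modules ℤ := HomologicalComplex.zero
    have hEz : IsZero E := HomologicalComplex.isZero_zero
    have hE0 : ∀ i : ℤ, E.ExactAt i := by
      intro i
      rw [HomologicalComplex.exactAt_iff_isZero_homology]
      exact Functor.map_isZero (HomologicalComplex.homologyFunctor _ _ i) hEz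
    have hq : QuasiIso (0 : E ⟶ F) :=
      ⟨fun i => (quasiIsoAt_iff_exactAt _ i (hE0 i)).2 (hac i)⟩
    have hiso : IsIso (DerivedCategory.Q.map (0 : E ⟶ F)) :=
      (DerivedCategory.isIso_Q_map_iff_quasiIso _ _).2 hq
    refine ⟨E, fun i _ => Functor.map_isZero (HomologicalComplex.eval _ _ i) hEz,
      fun i => Groth.Agent.Helper9.LTM6.flatMod_of_isZero
        (Functor.map_isZero (HomologicalComplex.eval _ _ i) hEz),
      ⟨@asIso _ _ _ _ (DerivedCategory.Q.map (0 : E ⟶ F)) hiso⟩⟩

/-- **flat amplitude is tor amplitude of the stalks** -/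
theorem hasFlatAmplitudeIn_iff (F : CochainComplex X.Modules ℤ) (d : ℤ)
    [(DCoh.toD X F).IsLE d] (a b : ℤ) :
    DCoh.HasFlatAmplitudeIn a b (DCoh.toD X F) ↔ DerSch.HasTorAmplitude (𝟙 X) a b F :=
  ⟨fun h x => (hasTorAmplitudeAt_id_iff F a b x).2
      (hasTorAmplitudeIn_stalk_of_hasFlatAmplitudeIn F a b h x),
    fun h => hasFlatAmplitudeIn_of_stalks F d a b
      (fun x => (hasTorAmplitudeAt_id_iff F a b x).1 (h x))⟩

end Groth.Agent.Helper9.TorStalk1
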