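import Mathlib
import Groth.Agent.Helper9.TorStalk1
import Groth.Agent.Helper9.Lpull4
import Groth.Agent.Helper3.DRingBC2

/-! Descent of flat amplitude along a flat surjective morphism. -/

set_option autoImplicit false
set_option linter.style.haveILetI false
set_option linter.unusedVariables false
set_option linter.unusedSectionVars false
universe u

namespace Groth.Agent.Helper9.TorD1

open CategoryTheory CategoryTheory.Limits AlgebraicGeometry Opposite TopologicalSpace
  HomologicalComplex
open Groth.Agent.Helper9.SkyMod4 Groth.Agent.Helper9.SkyMod5 Groth.Agent.Helper9.StalkTensor9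
  Groth.Agent.Helper9.Lpull1 Groth.Agent.Helper9.Lpull3 Groth.Agent.Helper3.DRingLib
  Groth.Agent.Helper9.TorStalk1

attribute [local instance] HasDerivedCategory.standard

theorem hasFlatAmplitudeIn_of_iso {X : Scheme.{u}} {K K' : DCoh.D X} (e : K ≅ K') (a b : ℤ)
    (h : DCoh.HasFlatAmplitudeIn a b K) : DCoh.HasFlatAmplitudeIn a b K' := by
  obtain ⟨E, hE, hfl, ⟨e'⟩⟩ := h
  exact ⟨E, hE, hfl, ⟨e' ≪≫ e⟩⟩

section Ring

variable {A B : Type u} [CommRing A] [CommRing B] (φ : A →+* B)

/-- descent of tor amplitude along a faithfully flat ring map -/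
theorem hasTorAmplitudeIn_of_ext [IsLocalRing A] [IsLocalRing B] [IsLocalHom φ] (hφ : φ.Flat)
    (K : DRing.Cx A) (a b : ℤ)
    (h : DRing.HasTorAmplitudeIn B a b (DRing.toD ((DTen.extCx φ).obj K))) :
    DRing.HasTorAmplitudeIn A a b (DRing.toD K) := by
  letI := φ.toAlgebra
  haveI : Module.Flat A B := hφ
  haveI : IsLocalHom (algebraMap A B) := ‹IsLocalHom φ›
  haveI : Module.FaithfullyFlat A B := Module.FaithfullyFlat.of_flat_of_isLocalHom
  exact hasTorAmplitudeIn_of_forall_bcCx (jointlyFaithful_of_faithfullyFlat B) K a b (fun _ => h)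

end Ring

variable {X Y : Scheme.{u}} (f : X ⟶ Y) [Flat f] [Surjective f] [DCoh.HasLpull f]

theorem hasFlatAmplitudeIn_of_lpull (E : DCoh.D Y) (a b : ℤ)
    (h : DCoh.HasFlatAmplitudeIn a b ((DCoh.Lpull f).obj E)) : DCoh.HasFlatAmplitudeIn a b E := by
  obtain ⟨P, hP, ⟨eP⟩⟩ := exists_kflat_rep E
  let G := ((Scheme.Modules.pullback f).mapHomologicalComplex (ComplexShape.up ℤ)).obj P
  have eG : DerivedCategory.Q.obj G ≅ (DCoh.Lpull f).obj E :=
    (lpullIso f P hP).symm ≪≫ (DCoh.Lpull f).mapIso eP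
  have hG : DCoh.HasFlatAmplitudeIn a b (DCoh.toD X G) := hasFlatAmplitudeIn_of_iso eG.symm a b h
  have hst : ∀ y : Y, DRing.HasTorAmplitudeIn (Y.presheaf.stalk y) a b
      (DRing.toD ((StCx y).obj P)) := by
    intro y
    obtain ⟨x, rfl⟩ := f.surjective y
    have h1 := hasTorAmplitudeIn_stalk_of_hasFlatAmplitudeIn G a b hG x
    have h2 : DRing.HasTorAmplitudeIn (X.presheaf.stalk x) a b
        (DRing.toD ((DTen.extCx (f.stalkMap x).hom).obj ((StCx (f.base x)).obj P))) :=
      hasTorAmplitudeIn_of_iso (DerivedCategory.Q.mapIso (pullStalkCxIso f x P)) _ _ h1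
    exact hasTorAmplitudeIn_of_ext (f.stalkMap x).hom (Flat.stalkMap f x) _ a b h2
  have hLE : P.IsLE b := by
    rw [CochainComplex.isLE_iff]
    intro i hi
    rw [HomologicalComplex.exactAt_iff_isZero_homology]
    apply isZero_of_stalks
    intro y
    obtain ⟨E', hE', _, ⟨e⟩⟩ := hst y
    refine IsZero.of_iso ?_ (Groth.Agent.Helper9.LocSplit3.stalkHomologyIso y P i).symm
    have hEz : IsZero (E'.homology i) := by
      rw [← HomologicalComplex.exactAt_iff_isZero_homology]
      exact exactAt_of_isZero_X E' i (hE' i (Or.inr hi))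
    exact hEz.of_iso (((DerivedCategory.homologyFunctorFactors _ i).app _).symm ≪≫
      (DerivedCategory.homologyFunctor _ i).mapIso e.symm ≪≫
      (DerivedCategory.homologyFunctorFactors _ i).app _)
  haveI : (DCoh.toD Y P).IsLE b := (DerivedCategory.isLE_Q_obj_iff P b).2 hLE
  exact hasFlatAmplitudeIn_of_iso eP a b (hasFlatAmplitudeIn_of_stalks P b a b hst)

end Groth.Agent.Helper9.TorD1
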