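import Mathlib
import Groth.Prelude.Def_DCoh3
import Groth.Agent.Helper9.TorD1
import Groth.Agent.Helper9.LTM6
import Groth.Agent.Helper9.RingProj4
import Groth.Agent.Helper9.LocSplit3

/-! Relative flat amplitude (representative form) versus stalkwise relative tor amplitude. -/

set_option autoImplicit false
set_option linter.style.haveILetI false
set_option linter.unusedVariables false
set_option linter.unusedSectionVars false
universe u

namespace Groth.Agent.Helper9.RelTor1

noncomputable section

open CategoryTheory CategoryTheory.Limits AlgebraicGeometry HomologicalComplex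
open Groth.Agent.Helper3.DRingLib Groth.Agent.Helper9.RingProj1 Groth.Agent.Helper9.RingProj2
  Groth.Agent.Helper9.RingProj4 Groth.Agent.Helper9.SkyMod4 Groth.Agent.Helper9.SkyMod5
  Groth.Agent.Helper9.StalkTensor9

attribute [local instance] HasDerivedCategory.standard

variable {X S : Scheme.{u}} (f : X ⟶ S)

/-- flatness over `S` at `x`, in terms of the stalk functor -/
lemma isFlatOverAt_iff (M : X.Modules) (x : X) :
    FlatMod.IsFlatOverAt f M x ↔
      Module.Flat (S.presheaf.stalk (f.base x)) ((DerSch.stalkOver f x).obj M) :=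
  Iff.rfl

lemma isFlatOverAt_of_iso {M M' : X.Modules} (e : M ≅ M') (x : X)
    (h : FlatMod.IsFlatOverAt f M x) : FlatMod.IsFlatOverAt f M' x := by
  rw [isFlatOverAt_iff] at h ⊢
  exact Module.Flat.of_linearEquiv ((DerSch.stalkOver f x).mapIso e).symm.toLinearEquiv

lemma isFlatOverAt_of_isZero {M : X.Modules} (hM : IsZero M) (x : X) :
    FlatMod.IsFlatOverAt f M x := by
  rw [isFlatOverAt_iff]
  have := ModuleCat.subsingleton_of_isZero (Functor.map_isZero (DerSch.stalkOver f x) hM)
  infer_instance

/-- an `O_X`-flat module is flat over `S` when `f` is flat -/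
lemma isFlatOverAt_of_isFlat [Flat f] (M : X.Modules) (hM : FlatMod.IsFlat M) (x : X) :
    FlatMod.IsFlatOverAt f M x := by
  rw [isFlatOverAt_iff]
  letI := (f.stalkMap x).hom.toAlgebra
  haveI : Module.Flat (S.presheaf.stalk (f.base x)) (X.presheaf.stalk x) := Flat.stalkMap f x
  haveI : Module.Flat (X.presheaf.stalk x) ((St x).obj M) := hM x
  letI : Module (X.presheaf.stalk x) ((DerSch.stalkOver f x).obj M) :=
    inferInstanceAs (Module (X.presheaf.stalk x) ((St x).obj M))
  haveI : IsScalarTower (S.presheaf.stalk (f.base x)) (X.presheaf.stalk x)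
      ((DerSch.stalkOver f x).obj M) := ⟨fun r s m => by
    show (((f.stalkMap x).hom r) * s) • (m : (St x).obj M) = ((f.stalkMap x).hom r) • (s • m)
    rw [mul_smul]⟩
  haveI : Module.Flat (X.presheaf.stalk x) ((DerSch.stalkOver f x).obj M) := hM x
  exact Module.Flat.trans (S.presheaf.stalk (f.base x)) (X.presheaf.stalk x) _

/-- the easy direction -/
theorem hasTorAmplitude_of_hasRelFlatAmplitudeIn (F : CochainComplex X.Modules ℤ) (a b : ℤ)
    (h : DCoh.HasRelFlatAmplitudeIn f a b (DCoh.toD X F)) : DerSch.HasTorAmplitude f a b F := by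
  obtain ⟨E, hE, hfl, ⟨e⟩⟩ := h
  intro x
  refine hasTorAmplitudeIn_of_iso
    (rCxDIso (f.stalkMap x).hom (Groth.Agent.Helper9.TorStalk1.stalkDIso x e)) _ _ ?_
  exact ⟨(DerSch.stalkCxOver f x).obj E,
    fun i hi => Functor.map_isZero (DerSch.stalkOver f x) (hE i hi),
    fun i => hfl i x, ⟨Iso.refl _⟩⟩

/-- exactness can be checked on stalks -/
lemma exactAt_of_stalks (F : CochainComplex X.Modules ℤ) (i : ℤ)
    (h : ∀ x : X, ((StCx x).obj F).ExactAt i) : F.ExactAt i := by
  rw [exactAt_iff_isZero_homology]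
  apply isZero_of_stalks
  intro x
  have h1 := h x
  rw [exactAt_iff_isZero_homology] at h1
  exact h1.of_iso (Groth.Agent.Helper9.LocSplit3.stalkHomologyIso x F i).symm

instance (x : X) : (DerSch.stalkOver f x).PreservesHomology := by
  haveI : PreservesFiniteLimits (DerSch.stalkOver f x) := by
    unfold DerSch.stalkOver
    infer_instance
  haveI : PreservesFiniteColimits (DerSch.stalkOver f x) := by
    unfold DerSch.stalkOver
    infer_instance
  infer_instance

/-- the key flatness statement for the cokernel -/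
theorem isFlatOverAt_opcycles [Flat f] (F P : CochainComplex X.Modules ℤ) (q : P ⟶ F)
    (hq : QuasiIso q) (a b : ℤ) (hPfl : ∀ n, FlatMod.IsFlat (P.X n)) (hPle : P.IsStrictlyLE b)
    (x : X) (h : DerSch.HasTorAmplitudeAt f a b F x) :
    FlatMod.IsFlatOverAt f (P.opcycles a) x := by
  rw [isFlatOverAt_iff]
  let P' : DRing.Cx (S.presheaf.stalk (f.base x)) := (DerSch.stalkCxOver f x).obj P
  have hP'v : DRing.VanishesAbove P' b := fun i hi =>
    Functor.map_isZero (DerSch.stalkOver f x) (P.isZero_of_isStrictlyLE b i hi)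
  have fP' : DRing.TermwiseFlat P' := fun i =>
    (isFlatOverAt_iff f _ x).1 (isFlatOverAt_of_isFlat f _ (hPfl i) x)
  haveI : IsIso (DerivedCategory.Q.map q) :=
    (DerivedCategory.isIso_Q_map_iff_quasiIso _ q).2 hq
  have e' : DRing.toD P' ≅ DRing.toD ((DerSch.stalkCxOver f x).obj F) :=
    rCxDIso (f.stalkMap x).hom
      (Groth.Agent.Helper9.TorStalk1.stalkDIso x (asIso (DerivedCategory.Q.map q)))
  have hT : IsTorGE a (DRing.toD ((DerSch.stalkCxOver f x).obj F)) :=
    isTorGE_of_hasTorAmplitudeIn h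
  have hex : ∀ N : ModuleCat.{u} (S.presheaf.stalk (f.base x)),
      (DRing.tensorCx P' N).ExactAt (a - 1) := fun N =>
    hT.forall_rep P' b hP'v fP' e' N (a - 1) (by omega)
  have hfl := flat_coker_of_exactAt_tensorCx P' a (fP' a) hex
  let e1 : P'.opcycles a ≅ (DerSch.stalkOver f x).obj (P.opcycles a) :=
    (P.sc a).mapOpcyclesIso (DerSch.stalkOver f x)
  let e2 := opcyclesIsoQuot P' (a - 1) a (by omega)
  exact Module.Flat.of_linearEquiv (e1.symm ≪≫ e2).toLinearEquiv

/-- **the hard direction**: stalkwise relative tor amplitude gives a representative by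
`S`-flat modules -/
theorem hasRelFlatAmplitudeIn_of_hasTorAmplitude [Flat f] (F : CochainComplex X.Modules ℤ)
    (a b : ℤ) (h : DerSch.HasTorAmplitude f a b F) :
    DCoh.HasRelFlatAmplitudeIn f a b (DCoh.toD X F) := by
  have hFex : ∀ i : ℤ, i < a ∨ b < i → F.ExactAt i := fun i hi =>
    exactAt_of_stalks F i (fun x =>
      (exactAt_rCx_iff (f.stalkMap x).hom _ i).1 (exactAt_of_hasTorAmplitudeIn _ a b (h x) i hi))
  haveI : F.IsLE b := (CochainComplex.isLE_iff F b).2 (fun i hi => hFex i (Or.inr hi))
  haveI hq1 : QuasiIso (F.ιTruncLE b) := (F.quasiIso_ιTruncLE_iff b).2 inferInstance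
  obtain ⟨P, q, hq, hPK, hPfl, hPle⟩ :=
    Groth.Agent.Helper9.LTM6.exists_flat_resolution_le (F.truncLE b) b inferInstance
  haveI := hq
  haveI := hPle
  let q' : P ⟶ F := q ≫ F.ιTruncLE b
  have hq' : QuasiIso q' := inferInstance
  haveI : P.IsGE a := (CochainComplex.isGE_iff P a).2 (fun i hi =>
    (exactAt_iff_of_quasiIsoAt q' i).2 (hFex i (Or.inl hi)))
  haveI hq2 : QuasiIso (P.πTruncGE a) := inferInstance
  haveI : IsIso (DerivedCategory.Q.map (P.πTruncGE a)) :=
    (DerivedCategory.isIso_Q_map_iff_quasiIso _ _).2 hq2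
  haveI : IsIso (DerivedCategory.Q.map q') :=
    (DerivedCategory.isIso_Q_map_iff_quasiIso _ _).2 hq'
  refine ⟨P.truncGE a, ?_, ?_, ⟨(asIso (DerivedCategory.Q.map (P.πTruncGE a))).symm ≪≫
    asIso (DerivedCategory.Q.map q')⟩⟩
  · rintro i (hi | hi)
    · exact (P.truncGE a).isZero_of_isStrictlyGE a i hi
    · by_cases hia : i < a
      · exact (P.truncGE a).isZero_of_isStrictlyGE a i hia
      · by_cases hia' : i = a
        · subst hia'
          have h0 : IsZero (P.X i) := P.isZero_of_isStrictlyLE b i hi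
          refine IsZero.of_iso ?_ (P.truncGEXIsoOpcycles i)
          haveI : Epi (P.pOpcycles i) := inferInstance
          exact IsZero.of_epi (P.pOpcycles i) h0
        · exact IsZero.of_iso (P.isZero_of_isStrictlyLE b i hi) (P.truncGEXIso a i (by omega))
  · intro i x
    rcases lt_trichotomy i a with hi | rfl | hi
    · exact isFlatOverAt_of_isZero f ((P.truncGE a).isZero_of_isStrictlyGE a i hi) x
    · exact isFlatOverAt_of_iso f (P.truncGEXIsoOpcycles i).symm x
        (isFlatOverAt_opcycles f F P q' hq' i b hPfl hPle x (h x))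
    · exact isFlatOverAt_of_iso f (P.truncGEXIso a i hi).symm x
        (isFlatOverAt_of_isFlat f _ (hPfl i) x)

end

end Groth.Agent.Helper9.RelTor1
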