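import Mathlib
import Groth.Agent.Helper9.RelTor1
import Groth.Agent.Helper9.RLT3
import Groth.Agent.Helper9.Lpull1
import Groth.Agent.Lead.PerfLib3

/-! Local finiteness of relative tor dimension: representative form versus stalkwise form. -/

set_option autoImplicit false
set_option linter.style.haveILetI false
set_option linter.unusedVariables false
set_option linter.unusedSectionVars false
universe u

namespace Groth.Agent.Helper9.RelTor2

noncomputable section

open CategoryTheory CategoryTheory.Limits AlgebraicGeometry HomologicalComplex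
open Groth.Agent.Helper3.DRingLib Groth.Agent.Helper9.RingProj1 Groth.Agent.Helper9.RingProj2
  Groth.Agent.Helper9.RingProj4 Groth.Agent.Helper9.SkyMod4 Groth.Agent.Helper9.SkyMod5
  Groth.Agent.Helper9.StalkTensor9 Groth.Agent.Helper9.RLT3 Groth.Agent.Helper9.RelTor1
  Groth.Agent.Lead.PerfLib

attribute [local instance] HasDerivedCategory.standard

variable {X S : Scheme.{u}} (f : X ⟶ S)

lemma hasTorAmplitudeIn_mono {A : Type u} [CommRing A] {a b a' b' : ℤ} (ha : a' ≤ a) (hb : b ≤ b')
    {K : Dual.D A} (h : DRing.HasTorAmplitudeIn A a b K) : DRing.HasTorAmplitudeIn A a' b' K := by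
  obtain ⟨E, hE, hfl, he⟩ := h
  exact ⟨E, fun i hi => hE i (by omega), hfl, he⟩

/-- the stalk of a restriction to an open -/
def stalkRestrictIso {U : Scheme.{u}} (j : U ⟶ X) [IsOpenImmersion j]
    (F : CochainComplex X.Modules ℤ) (u : U) :
    (StCx u).obj ((Rc j).obj F) ≅ (extCx (j.stalkMap u).hom).obj ((StCx (j.base u)).obj F) :=
  (StCx u).mapIso ((NatIso.mapHomologicalComplex (Scheme.Modules.restrictFunctorIsoPullback j)
    (ComplexShape.up ℤ)).app F) ≪≫ Groth.Agent.Helper9.Lpull1.pullStalkCxIso j u F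

/-- relative tor amplitude at a point of an open subscheme -/
theorem hasTorAmplitudeAt_restrict_iff {U : Scheme.{u}} (j : U ⟶ X) [IsOpenImmersion j]
    (F : CochainComplex X.Modules ℤ) (a b : ℤ) (u : U) :
    DerSch.HasTorAmplitudeAt (j ≫ f) a b ((Rc j).obj F) u ↔
      DerSch.HasTorAmplitudeAt f a b F (j.base u) := by
  have hbij : Function.Bijective (j.stalkMap u).hom :=
    ConcreteCategory.bijective_of_isIso (j.stalkMap u)
  have hcomm : (j.stalkMap u).hom.comp (f.stalkMap (j.base u)).hom =
      ((j ≫ f).stalkMap u).hom.comp (RingHom.id _) := by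
    rw [RingHom.comp_id, Scheme.Hom.stalkMap_comp]
    rfl
  have e : DRing.toD ((DerSch.stalkCxOver (j ≫ f) u).obj ((Rc j).obj F)) ≅
      DRing.toD ((RingProj1.rCx ((j ≫ f).stalkMap u).hom).obj
        ((extCx (j.stalkMap u).hom).obj ((StCx (j.base u)).obj F))) :=
    DerivedCategory.Q.mapIso ((RingProj1.rCx ((j ≫ f).stalkMap u).hom).mapIso (stalkRestrictIso j F u))
  constructor
  · intro h
    have h' := hasTorAmplitudeIn_of_iso e _ _ h
    letI := (j.stalkMap u).hom.toAlgebra
    haveI : Module.FaithfullyFlat (X.presheaf.stalk (j.base u)) (U.presheaf.stalk u) :=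
      RingHom.FaithfullyFlat.of_bijective hbij
    exact up (f.stalkMap (j.base u)).hom (fun _ : Unit => U.presheaf.stalk u)
      (fun _ : Unit => S.presheaf.stalk (f.base (j.base u)))
      (fun _ => RingHom.id _) (fun _ => RingHom.Flat.id _)
      (fun _ => ((j ≫ f).stalkMap u).hom)
      (fun _ => hcomm) (jointlyFaithful_of_faithfullyFlat _) ((StCx (j.base u)).obj F) a b
      (fun _ => h')
  · intro h
    refine hasTorAmplitudeIn_of_iso e.symm _ _ ?_
    exact down (f.stalkMap (j.base u)).hom (j.stalkMap u).hom (RingHom.id _)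
      ((j ≫ f).stalkMap u).hom (RingHom.Flat.of_bijective hbij) (RingHom.Flat.id _)
      (fun N => ⟨(ModuleCat.extendScalarsId _).app _ ≪≫ (ModuleCat.restrictScalarsId _).app N⟩)
      hcomm ((StCx (j.base u)).obj F) a b h

/-- relative tor amplitude at a point only depends on the class in the derived category -/
theorem hasTorAmplitudeAt_of_iso {F F' : CochainComplex X.Modules ℤ}
    (e : DCoh.toD X F ≅ DCoh.toD X F') (a b : ℤ) (x : X)
    (h : DerSch.HasTorAmplitudeAt f a b F x) : DerSch.HasTorAmplitudeAt f a b F' x :=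
  hasTorAmplitudeIn_of_iso
    (rCxDIso (f.stalkMap x).hom (Groth.Agent.Helper9.TorStalk1.stalkDIso x e)) _ _ h

/-- **Theorem B**: for `f` flat, "locally represented by bounded complexes of `S`-flat modules"
is the stalkwise local finiteness of relative tor amplitude -/
theorem locHasFiniteRelTorDim_iff [Flat f] (K : DCoh.D X) (F : CochainComplex X.Modules ℤ)
    (e : DCoh.toD X F ≅ K) :
    DCoh.LocHasFiniteRelTorDim f K ↔ DerSch.LocFiniteTorAmplitude f F := by
  constructor
  · intro h x
    obtain ⟨V, a, b, hxV, hV⟩ := h x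
    refine ⟨V, a, b, hxV, fun x' hx' => ?_⟩
    have h1 := hasTorAmplitude_of_hasRelFlatAmplitudeIn (V.ι ≫ f) _ a b (hV F ⟨e⟩)
    exact (hasTorAmplitudeAt_restrict_iff f V.ι F a b ⟨x', hx'⟩).1 (h1 ⟨x', hx'⟩)
  · intro h x
    obtain ⟨V, a, b, hxV, hV⟩ := h x
    refine ⟨V, a, b, hxV, fun F' ⟨e'⟩ => ?_⟩
    apply hasRelFlatAmplitudeIn_of_hasTorAmplitude (V.ι ≫ f)
    intro v
    exact (hasTorAmplitudeAt_restrict_iff f V.ι F' a b v).2
      (hasTorAmplitudeAt_of_iso f (e ≪≫ e'.symm) a b _ (hV _ v.2))

end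

end Groth.Agent.Helper9.RelTor2
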