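import Mathlib
import Groth.Prelude.Def_DualSh
import Groth.Agent.Helper9.RelTor2
import Groth.Agent.Helper9.SkyMod5
import Groth.Agent.Lead.PcLib9
import Groth.Agent.Helper3.DRingTor8

/-! The `S`-perfect objects of `D(O_X)` form a saturated triangulated subcategory. -/

set_option autoImplicit false
set_option linter.style.haveILetI false
set_option linter.unusedVariables false
set_option linter.unusedSectionVars false
universe u

namespace Groth.Agent.Helper9.RelTor4

noncomputable section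

open CategoryTheory CategoryTheory.Limits AlgebraicGeometry HomologicalComplex Pretriangulated
open ZeroObject
open Groth.Agent.Helper3.DRingLib Groth.Agent.Helper9.RelTor1 Groth.Agent.Helper9.RelTor2
  Groth.Agent.Lead.PcLib

attribute [local instance] HasDerivedCategory.standard

variable {X S : Scheme.{u}} (f : X ⟶ S)

/-- the derived stalk functor, with values in the derived category of the local ring of the base -/
abbrev Φ (x : X) : DCoh.D X ⥤ Dual.D (S.presheaf.stalk (f.base x)) :=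
  (DerSch.stalkOver f x).mapDerivedCategory

/-- the derived stalk functor on representatives -/
def ΦIso (x : X) (F : CochainComplex X.Modules ℤ) :
    (Φ f x).obj (DCoh.toD X F) ≅ DRing.toD ((DerSch.stalkCxOver f x).obj F) :=
  ((DerSch.stalkOver f x).mapDerivedCategoryFactors).app F

/-- stalkwise local finiteness of tor amplitude, on the derived category -/
def LocFin (K : DCoh.D X) : Prop :=
  ∀ x : X, ∃ (V : X.Opens) (a b : ℤ), x ∈ V ∧ ∀ x' : X, x' ∈ V →
    DRing.HasTorAmplitudeIn (S.presheaf.stalk (f.base x')) a b ((Φ f x').obj K)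

theorem locHasFiniteRelTorDim_iff_locFin [Flat f] (K : DCoh.D X) :
    DCoh.LocHasFiniteRelTorDim f K ↔ LocFin f K := by
  let F : CochainComplex X.Modules ℤ := DerivedCategory.Q.objPreimage K
  let e : DCoh.toD X F ≅ K := DerivedCategory.Q.objObjPreimageIso K
  rw [locHasFiniteRelTorDim_iff f K F e]
  constructor
  · intro h x
    obtain ⟨V, a, b, hxV, hV⟩ := h x
    refine ⟨V, a, b, hxV, fun x' hx' => ?_⟩
    exact hasTorAmplitudeIn_of_iso ((ΦIso f x' F).symm ≪≫ (Φ f x').mapIso e) _ _ (hV x' hx')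
  · intro h x
    obtain ⟨V, a, b, hxV, hV⟩ := h x
    refine ⟨V, a, b, hxV, fun x' hx' => ?_⟩
    exact hasTorAmplitudeIn_of_iso ((Φ f x').mapIso e.symm ≪≫ ΦIso f x' F) _ _ (hV x' hx')

lemma locFin_of_isZero {K : DCoh.D X} (hK : IsZero K) : LocFin f K := fun x =>
  ⟨⊤, 0, 0, trivial, fun x' _ => hasTorAmplitudeIn_of_isZero ((Φ f x').map_isZero hK) 0 0⟩

lemma locFin_shift {K : DCoh.D X} (hK : LocFin f K) (n : ℤ) : LocFin f (K⟦n⟧) := by
  intro x
  obtain ⟨V, a, b, hxV, hV⟩ := hK x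
  refine ⟨V, a - n, b - n, hxV, fun x' hx' => ?_⟩
  exact hasTorAmplitudeIn_of_iso (((Φ f x').commShiftIso n).app K).symm _ _
    (hasTorAmplitudeIn_shift a b n (hV x' hx'))

lemma locFin_obj₂ (T : Triangle (DCoh.D X)) (hT : T ∈ distTriang _)
    (h₁ : LocFin f T.obj₁) (h₃ : LocFin f T.obj₃) : LocFin f T.obj₂ := by
  intro x
  obtain ⟨V₁, a₁, b₁, hxV₁, hV₁⟩ := h₁ x
  obtain ⟨V₃, a₃, b₃, hxV₃, hV₃⟩ := h₃ x
  refine ⟨V₁ ⊓ V₃, min a₁ a₃, max b₁ b₃, ⟨hxV₁, hxV₃⟩, fun x' hx' => ?_⟩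
  exact hasTorAmplitudeIn_obj₂ ((Φ f x').mapTriangle.obj T) ((Φ f x').map_distinguished T hT) _ _
    (RelTor2.hasTorAmplitudeIn_mono (min_le_left _ _) (le_max_left _ _) (hV₁ x' hx'.1))
    (RelTor2.hasTorAmplitudeIn_mono (min_le_right _ _) (le_max_right _ _) (hV₃ x' hx'.2))

lemma locFin_of_retract {K K' : DCoh.D X} (r : Retract K K') (h : LocFin f K') : LocFin f K := by
  intro x
  obtain ⟨V, a, b, hxV, hV⟩ := h x
  refine ⟨V, a, b, hxV, fun x' hx' => ?_⟩
  exact hasTorAmplitudeIn_of_retract ((Φ f x').map r.i) ((Φ f x').map r.r)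
    (by rw [← Functor.map_comp, r.retract, CategoryTheory.Functor.map_id]) (hV x' hx')

/-- pseudo-coherence in all degrees -/
def PC (K : DCoh.D X) : Prop := ∀ m : ℤ, DCoh.IsPseudoCoherentD m K

lemma pc_of_isZero {K : DCoh.D X} (hK : IsZero K) : PC K := fun m =>
  isPseudoCoherentD_of_isZero_HD m K (fun i _ =>
    Functor.map_isZero (DerivedCategory.homologyFunctor X.Modules i) hK)

lemma pc_shift {K : DCoh.D X} (hK : PC K) (n : ℤ) : PC (K⟦n⟧) := fun m =>
  isPseudoCoherentD_shift (hK (n + m)) n m rfl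

lemma pc_obj₂ (T : Triangle (DCoh.D X)) (hT : T ∈ distTriang _)
    (h₁ : PC T.obj₁) (h₃ : PC T.obj₃) : PC T.obj₂ := fun m =>
  (isPseudoCoherentD_triangle m T hT).2.1 (h₁ m) (h₃ m)

lemma pc_of_retract {K K' : DCoh.D X} (r : Retract K K') (h : PC K') : PC K := by
  intro m
  obtain ⟨Z, g, h', hT⟩ := distinguished_cocone_triangle r.i
  haveI : IsSplitMono r.i := ⟨⟨⟨r.r, r.retract⟩⟩⟩
  have hz : (Triangle.mk r.i g h').mor₃ = 0 :=
    Triangle.mor₃_eq_zero_of_mono₁ _ hT (show Mono r.i from inferInstance)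
  obtain ⟨e, -, -⟩ := exists_iso_binaryBiproduct_of_distTriang _ hT hz
  exact (isPseudoCoherentD_biprod m K Z (isPseudoCoherentD_of_iso e (h m))).1

/-- the property of being `S`-perfect -/
def P : ObjectProperty (DCoh.D X) := fun E =>
  (∀ m : ℤ, DCoh.IsPseudoCoherentD m E) ∧ DCoh.LocHasFiniteRelTorDim f E

theorem main [Flat f] :
    ObjectProperty.IsTriangulated (fun E : DCoh.D X =>
      (∀ m : ℤ, DCoh.IsPseudoCoherentD m E) ∧ DCoh.LocHasFiniteRelTorDim f E) ∧
    ObjectProperty.IsStableUnderRetracts (fun E : DCoh.D X =>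
      (∀ m : ℤ, DCoh.IsPseudoCoherentD m E) ∧ DCoh.LocHasFiniteRelTorDim f E) := by
  have hP : ∀ E : DCoh.D X, ((∀ m : ℤ, DCoh.IsPseudoCoherentD m E) ∧
      DCoh.LocHasFiniteRelTorDim f E) ↔ (PC E ∧ LocFin f E) := fun E => by
    rw [locHasFiniteRelTorDim_iff_locFin]; rfl
  refine ⟨?_, ?_⟩
  · exact
    { exists_zero := ⟨0, isZero_zero _, (hP _).2 ⟨pc_of_isZero (isZero_zero _),
        locFin_of_isZero f (isZero_zero _)⟩⟩
      isStableUnderShiftBy := fun n =>
        { le_shift := fun K hK => (hP _).2 ⟨pc_shift ((hP _).1 hK).1 n,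
            locFin_shift f ((hP _).1 hK).2 n⟩ }
      ext₂' := fun T hT h₁ h₃ => ObjectProperty.le_isoClosure _ _
        ((hP _).2 ⟨pc_obj₂ T hT ((hP _).1 h₁).1 ((hP _).1 h₃).1,
          locFin_obj₂ f T hT ((hP _).1 h₁).2 ((hP _).1 h₃).2⟩) }
  · exact
    { of_retract := fun {K K'} r hK' => (hP _).2 ⟨pc_of_retract r ((hP _).1 hK').1,
        locFin_of_retract f r ((hP _).1 hK').2⟩ }

end

end Groth.Agent.Helper9.RelTor4
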