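import Mathlib
import Groth.Prelude.Def_DualSh
import Groth.Agent.Helper9.RelTor4
import Groth.Agent.Lead.PcLib9

/-! Generalities for the closed immersion theorem: finite coproducts of pseudo-coherent objects,
homology of a chain map out of a complex concentrated in one degree, compatibility of `homologyπ`
with exact functors. -/

set_option autoImplicit false
set_option linter.style.haveILetI false
set_option linter.unusedVariables false
set_option linter.unusedSectionVars false
universe u

namespace Groth.Agent.Helper9.CI1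

noncomputable section

open CategoryTheory CategoryTheory.Limits AlgebraicGeometry HomologicalComplex Pretriangulated
open Groth.Agent.Lead.PcLib ZeroObject

attribute [local instance] HasDerivedCategory.standard

section PcAll

variable {X : Scheme.{u}}

/-- pseudo-coherence in all degrees, as an object property -/
def pcAll : ObjectProperty (DCoh.D X) := fun K => ∀ m : ℤ, DCoh.IsPseudoCoherentD m K

instance : (pcAll (X := X)).IsClosedUnderIsomorphisms where
  of_iso e h := fun m => isPseudoCoherentD_of_iso e (h m)

instance : (pcAll (X := X)).IsTriangulated :=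
  { exists_zero := ⟨0, isZero_zero _, Groth.Agent.Helper9.RelTor4.pc_of_isZero (isZero_zero _)⟩
    isStableUnderShiftBy := fun n =>
      { le_shift := fun K hK => Groth.Agent.Helper9.RelTor4.pc_shift hK n }
    ext₂' := fun T hT h₁ h₃ => ObjectProperty.le_isoClosure _ _
      (Groth.Agent.Helper9.RelTor4.pc_obj₂ T hT h₁ h₃) }

/-- a finite coproduct of modules whose images in `D(O_X)` are pseudo-coherent is
pseudo-coherent -/
theorem pcAll_inD_sigma {J : Type} [Finite J] (N : J → X.Modules)
    (h : ∀ j, pcAll (DCoh.inD X (N j))) : pcAll (DCoh.inD X (∐ N)) := by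
  haveI := Fintype.ofFinite J
  have h1 : pcAll (∏ᶜ fun j => DCoh.inD X (N j)) := (pcAll (X := X)).prop_product h
  have e1 : DCoh.inD X (∐ N) ≅ ∐ fun j => DCoh.inD X (N j) :=
    PreservesCoproduct.iso (DerivedCategory.singleFunctor X.Modules 0) N
  have e2 : (∐ fun j => DCoh.inD X (N j)) ≅ ∏ᶜ fun j => DCoh.inD X (N j) :=
    (biproduct.isoCoproduct _).symm ≪≫ biproduct.isoProduct _
  exact (pcAll (X := X)).prop_of_iso (e1 ≪≫ e2).symm h1

end PcAll

section Abelian

variable {C : Type*} [Category C] [Abelian C]

/-- the homology map of a chain map out of a complex concentrated in one degree -/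
lemma epi_homologyMap_mkHomFromSingle (K : CochainComplex C ℤ) (b : ℤ) (G : C) (φ : G ⟶ K.X b)
    (hφ : ∀ k, (ComplexShape.up ℤ).Rel b k → φ ≫ K.d b k = 0)
    (h : Epi (K.liftCycles φ (b + 1) (by simp) (hφ _ (by simp)) ≫ K.homologyπ b)) :
    Epi (homologyMap (mkHomFromSingle φ hφ) b) := by
  have h1 : (singleObjCyclesSelfIso (ComplexShape.up ℤ) b G).inv ≫
      cyclesMap (mkHomFromSingle φ hφ) b = K.liftCycles φ (b + 1) (by simp) (hφ _ (by simp)) := by
    rw [← cancel_mono (K.iCycles b), Category.assoc, cyclesMap_i, liftCycles_i,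
      singleObjCyclesSelfIso_inv_iCycles_assoc, mkHomFromSingle_f, Iso.inv_hom_id_assoc]
  have h2 : ((single C (ComplexShape.up ℤ) b).obj G).homologyπ b ≫
      homologyMap (mkHomFromSingle φ hφ) b =
      cyclesMap (mkHomFromSingle φ hφ) b ≫ K.homologyπ b := homologyπ_naturality _ _
  have h3 : Epi (cyclesMap (mkHomFromSingle φ hφ) b ≫ K.homologyπ b) := by
    have : cyclesMap (mkHomFromSingle φ hφ) b ≫ K.homologyπ b =
        (singleObjCyclesSelfIso (ComplexShape.up ℤ) b G).hom ≫
          (K.liftCycles φ (b + 1) (by simp) (hφ _ (by simp)) ≫ K.homologyπ b) := by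
      rw [← h1, Category.assoc, Iso.hom_inv_id_assoc]
    rw [this]
    infer_instance
  rw [← h2] at h3
  exact epi_of_epi (((single C (ComplexShape.up ℤ) b).obj G).homologyπ b) _

variable {D : Type*} [Category D] [Abelian D] (R : C ⥤ D) [R.Additive]
  [PreservesFiniteLimits R] [PreservesFiniteColimits R]

/-- `homologyπ` commutes with exact functors -/
lemma map_homologyπ (S : ShortComplex C) :
    (S.map R).homologyπ ≫ (S.mapHomologyIso R).hom =
      (S.mapCyclesIso R).hom ≫ R.map S.homologyπ := by
  let h := S.leftHomologyData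
  let a : (S.map R).homology ⟶ R.obj h.H := (h.map R).homologyIso.hom
  let c : (S.map R).cycles ⟶ R.obj h.K := (h.map R).cyclesIso.hom
  have hL : (S.map R).homologyπ ≫ a = c ≫ R.map h.π :=
    (h.map R).homologyπ_comp_homologyIso_hom
  have hS : S.homologyπ ≫ h.homologyIso.hom = h.cyclesIso.hom ≫ h.π :=
    h.homologyπ_comp_homologyIso_hom
  have hS' : h.π ≫ h.homologyIso.inv = h.cyclesIso.inv ≫ S.homologyπ := by
    rw [← cancel_mono h.homologyIso.hom, Category.assoc, Iso.inv_hom_id, Category.comp_id,
      Category.assoc, hS, Iso.inv_hom_id_assoc]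
  have e1 : (S.mapHomologyIso R).hom = a ≫ R.map h.homologyIso.inv := by
    rw [ShortComplex.LeftHomologyData.mapHomologyIso_eq h R]; rfl
  have e2 : (S.mapCyclesIso R).hom = c ≫ R.map h.cyclesIso.inv := by
    rw [ShortComplex.LeftHomologyData.mapCyclesIso_eq h R]; rfl
  calc (S.map R).homologyπ ≫ (S.mapHomologyIso R).hom
      = ((S.map R).homologyπ ≫ a) ≫ R.map h.homologyIso.inv := by
        rw [e1, Category.assoc]
    _ = c ≫ R.map (h.π ≫ h.homologyIso.inv) := by
        rw [hL, Category.assoc, ← R.map_comp]
    _ = c ≫ R.map (h.cyclesIso.inv ≫ S.homologyπ) := by rw [hS']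
    _ = (S.mapCyclesIso R).hom ≫ R.map S.homologyπ := by
        rw [e2, R.map_comp, Category.assoc]

end Abelian

end

end Groth.Agent.Helper9.CI1
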