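import Mathlib
import Groth.Prelude.Def_DerSch
import Groth.Agent.Helper9.SkyMod5
import Groth.Agent.Helper4.EpiStalk

/-! Stalks of the direct image of a module along an embedding of schemes; exactness of the direct
image along a closed immersion. -/

set_option autoImplicit false
set_option linter.style.haveILetI false
set_option linter.unusedVariables false
set_option linter.unusedSectionVars false
set_option linter.unusedSimpArgs false
universe u

namespace Groth.Agent.Helper9.ClImm1

open CategoryTheory CategoryTheory.Limits AlgebraicGeometry Opposite TopologicalSpace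
open Groth.Agent.Helper9.SkyMod4 Groth.Agent.Helper9.SkyMod5

variable {X Y : Scheme.{u}} (f : X ⟶ Y)

/-- the comparison map on stalks (abelian groups) -/
noncomputable def pushStalkAb (M : X.Modules) (x : X) :
    ((Scheme.Modules.pushforward f).obj M).presheaf.stalk (f.base x) ⟶ M.presheaf.stalk x :=
  TopCat.Presheaf.stalkPushforward Ab f.base M.presheaf x

lemma pushStalkAb_germ (M : X.Modules) (x : X) (U : Y.Opens) (hx : f.base x ∈ U)
    (s : Γ((Scheme.Modules.pushforward f).obj M, U)) :
    pushStalkAb f M x (((Scheme.Modules.pushforward f).obj M).presheaf.germ U (f.base x) hx s) =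
      M.presheaf.germ (f ⁻¹ᵁ U) x hx s :=
  ConcreteCategory.congr_hom
    (TopCat.Presheaf.stalkPushforward_germ Ab f.base M.presheaf U x hx) s

lemma pushStalkAb_smul (M : X.Modules) (x : X) (r : Y.presheaf.stalk (f.base x))
    (m : ((Scheme.Modules.pushforward f).obj M).presheaf.stalk (f.base x)) :
    pushStalkAb f M x (r • m) = (f.stalkMap x).hom r • pushStalkAb f M x m := by
  obtain ⟨U, hU, a, rfl⟩ := Y.presheaf.exists_germ_eq (x := f.base x) r
  obtain ⟨V, hV, t, rfl⟩ :=
    ((Scheme.Modules.pushforward f).obj M).presheaf.exists_germ_eq (x := f.base x) m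
  have hW : f.base x ∈ U ⊓ V := ⟨hU, hV⟩
  have ha := Y.presheaf.germ_res_apply (homOfLE inf_le_left : U ⊓ V ⟶ U) (f.base x) hW a
  have ht := ((Scheme.Modules.pushforward f).obj M).presheaf.germ_res_apply
    (homOfLE inf_le_right : U ⊓ V ⟶ V) (f.base x) hW t
  rw [← ha, ← ht]
  generalize Y.presheaf.map (homOfLE inf_le_left : U ⊓ V ⟶ U).op a = a'
  generalize ((Scheme.Modules.pushforward f).obj M).presheaf.map
    (homOfLE inf_le_right : U ⊓ V ⟶ V).op t = t'
  rw [← Groth.Agent.Helper9.SkyMod2.germ_smul (f.base x) _ (U ⊓ V) hW a' t', pushStalkAb_germ,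
    pushStalkAb_germ]
  have h1 : (f.stalkMap x).hom (Y.presheaf.germ (U ⊓ V) (f.base x) hW a') =
      X.presheaf.germ (f ⁻¹ᵁ (U ⊓ V)) x hW (f.app (U ⊓ V) a') :=
    Scheme.Hom.germ_stalkMap_apply f (U ⊓ V) x hW a'
  rw [h1]
  exact Groth.Agent.Helper9.SkyMod2.germ_smul x M (f ⁻¹ᵁ (U ⊓ V)) hW (f.app (U ⊓ V) a') t'

/-- the comparison map on stalks, as a linear map -/
noncomputable def pushStalkLin (M : X.Modules) (x : X) :
    (St (f.base x)).obj ((Scheme.Modules.pushforward f).obj M) ⟶
      (ModuleCat.restrictScalars (f.stalkMap x).hom).obj ((St x).obj M) :=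
  ModuleCat.ofHom (X := (St (f.base x)).obj ((Scheme.Modules.pushforward f).obj M))
    (Y := (ModuleCat.restrictScalars (f.stalkMap x).hom).obj ((St x).obj M))
    { toFun := fun m => pushStalkAb f M x m
      map_add' := fun m m' => map_add (pushStalkAb f M x).hom m m'
      map_smul' := fun r m => pushStalkAb_smul f M x r m }

lemma pushStalkLin_germ (M : X.Modules) (x : X) (U : Y.Opens) (hx : f.base x ∈ U)
    (s : Γ((Scheme.Modules.pushforward f).obj M, U)) :
    (pushStalkLin f M x).hom
        (((Scheme.Modules.pushforward f).obj M).presheaf.germ U (f.base x) hx s) =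
      M.presheaf.germ (f ⁻¹ᵁ U) x hx s := by
  change pushStalkAb f M x _ = _
  exact pushStalkAb_germ f M x U hx s

lemma pushStalkLin_natural {M N : X.Modules} (φ : M ⟶ N) (x : X) :
    (St (f.base x)).map ((Scheme.Modules.pushforward f).map φ) ≫ pushStalkLin f N x =
      pushStalkLin f M x ≫
        (ModuleCat.restrictScalars (f.stalkMap x).hom).map ((St x).map φ) := by
  apply ModuleCat.hom_ext
  apply LinearMap.ext
  intro m
  obtain ⟨U, hU, s, rfl⟩ :=
    ((Scheme.Modules.pushforward f).obj M).presheaf.exists_germ_eq (x := f.base x) m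
  change (pushStalkLin f N x).hom ((DerSch.stalkFunctor Y (f.base x)).map
      ((Scheme.Modules.pushforward f).map φ)
        (((Scheme.Modules.pushforward f).obj M).presheaf.germ U (f.base x) hU s)) =
    (DerSch.stalkFunctor X x).map φ ((pushStalkLin f M x).hom
      (((Scheme.Modules.pushforward f).obj M).presheaf.germ U (f.base x) hU s))
  rw [DerSch.stalkFunctor_map_germ, pushStalkLin_germ, pushStalkLin_germ]
  exact (DerSch.stalkFunctor_map_germ x φ (f ⁻¹ᵁ U) hU s).symm

lemma pushStalkLin_bijective (hf : Topology.IsInducing f.base) (M : X.Modules) (x : X) :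
    Function.Bijective (pushStalkLin f M x).hom := by
  have h : IsIso (pushStalkAb f M x) :=
    TopCat.Presheaf.stalkPushforward.stalkPushforward_iso_of_isInducing Ab hf M.presheaf x
  exact (ConcreteCategory.isIso_iff_bijective (pushStalkAb f M x)).1 h

/-- the stalk of the direct image along an embedding -/
noncomputable def pushStalkIso (hf : Topology.IsInducing f.base) (x : X) :
    Scheme.Modules.pushforward f ⋙ St (f.base x) ≅
      St x ⋙ ModuleCat.restrictScalars (f.stalkMap x).hom :=
  NatIso.ofComponents
    (fun M => (LinearEquiv.ofBijective (pushStalkLin f M x).hom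
      (pushStalkLin_bijective f hf M x)).toModuleIso)
    (fun {M N} φ => pushStalkLin_natural f φ x)

/-- the stalks of the direct image vanish outside a closed image -/
theorem subsingleton_stalk (hf : IsClosed (Set.range f.base)) (M : X.Modules) (y : Y)
    (hy : y ∉ Set.range f.base) :
    Subsingleton (((Scheme.Modules.pushforward f).obj M).presheaf.stalk y) := by
  refine ⟨fun m m' => ?_⟩
  have key : ∀ m : ((Scheme.Modules.pushforward f).obj M).presheaf.stalk y, m = 0 := by
    intro m
    obtain ⟨U, hU, s, rfl⟩ :=
      ((Scheme.Modules.pushforward f).obj M).presheaf.exists_germ_eq (x := y) m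
    let W : Y.Opens := U ⊓ ⟨(Set.range f.base)ᶜ, hf.isOpen_compl⟩
    have hW : y ∈ W := ⟨hU, hy⟩
    have hs := ((Scheme.Modules.pushforward f).obj M).presheaf.germ_res_apply
      (homOfLE inf_le_left : W ⟶ U) y hW s
    rw [← hs]
    have hbot : f ⁻¹ᵁ W = ⊥ := by
      ext z
      simp only [W, Scheme.Hom.coe_preimage, Set.mem_preimage, SetLike.mem_coe,
        Opens.coe_bot, Set.mem_empty_iff_false, iff_false]
      rintro ⟨_, h2⟩
      exact h2 ⟨z, rfl⟩
    have hsub : Subsingleton (Γ(M, f ⁻¹ᵁ W)) := by
      rw [hbot]
      have hsh : TopCat.Presheaf.IsSheaf M.presheaf := M.isSheaf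
      exact (AddCommGrpCat.subsingleton_of_isZero
        (IsTerminal.isZero (TopCat.Sheaf.isTerminalOfEmpty
          (⟨M.presheaf, hsh⟩ : TopCat.Sheaf Ab X))) : _)
    have h0 : ((Scheme.Modules.pushforward f).obj M).presheaf.map
        (homOfLE inf_le_left : W ⟶ U).op s = 0 := @Subsingleton.elim _ hsub _ _
    rw [h0, map_zero]
  rw [key m, key m']

lemma stalkLin_eq {M N : X.Modules} (φ : M ⟶ N) (x : X) (m : M.presheaf.stalk x) :
    Groth.Agent.Helper4.StalkDict.stalkLin φ x m = ((St x).map φ).hom m := rfl

/-- the direct image along a closed embedding preserves epimorphisms -/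
theorem epi_pushforward_map (hf : Topology.IsClosedEmbedding f.base) {M N : X.Modules}
    (φ : M ⟶ N) [Epi φ] : Epi ((Scheme.Modules.pushforward f).map φ) := by
  rw [Groth.Agent.Helper4.EpiStalk.epi_iff_stalkLin_surjective]
  intro y
  by_cases hy : y ∈ Set.range f.base
  · obtain ⟨x, rfl⟩ := hy
    intro n
    obtain ⟨m, hm⟩ := Groth.Agent.Helper4.EpiStalk.stalkLin_surjective_of_epi φ x
      ((pushStalkLin f N x).hom n)
    obtain ⟨m', rfl⟩ := (pushStalkLin_bijective f hf.isInducing M x).2 m
    refine ⟨m', (pushStalkLin_bijective f hf.isInducing N x).1 ?_⟩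
    have h1 := congrArg (fun g => g.hom m') (pushStalkLin_natural f φ x)
    exact h1.trans hm
  · intro n
    haveI := subsingleton_stalk f hf.isClosed_range N y hy
    exact ⟨0, Subsingleton.elim _ _⟩

variable [IsClosedImmersion f]

lemma isClosedEmbedding : Topology.IsClosedEmbedding f.base :=
  Scheme.Hom.isClosedEmbedding f

instance preservesEpimorphisms_pushforward :
    (Scheme.Modules.pushforward f).PreservesEpimorphisms where
  preserves φ _ := epi_pushforward_map f (isClosedEmbedding f) φ

/-- the direct image along a closed immersion is exact -/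
instance preservesFiniteColimits_pushforward :
    PreservesFiniteColimits (Scheme.Modules.pushforward f) := by
  rw [Functor.preservesFiniteColimits_iff_forall_exact_map_and_epi]
  intro S hS
  haveI := hS.epi_g
  have hlim : PreservesFiniteLimits (Scheme.Modules.pushforward f) := inferInstance
  have h30 : PreservesFiniteLimits (Scheme.Modules.pushforward f) →
      ∀ (S : ShortComplex X.Modules), S.ShortExact →
        (S.map (Scheme.Modules.pushforward f)).Exact ∧
          Mono ((Scheme.Modules.pushforward f).map S.f) :=
    ((Functor.preservesFiniteLimits_tfae (Scheme.Modules.pushforward f)).out 3 0).1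
  exact ⟨(h30 hlim S hS).1, inferInstance⟩

omit [IsClosedImmersion f] in
/-- the direct image along an embedding reflects zero objects -/
theorem isZero_of_isZero_pushforward (hf : Topology.IsInducing f.base) (M : X.Modules)
    (h : IsZero ((Scheme.Modules.pushforward f).obj M)) : IsZero M := by
  apply isZero_of_stalks
  intro x
  have h1 : IsZero ((ModuleCat.restrictScalars (f.stalkMap x).hom).obj ((St x).obj M)) :=
    (Functor.map_isZero (St (f.base x)) h).of_iso ((pushStalkIso f hf x).app M).symm
  have h2 : Subsingleton
      ((ModuleCat.restrictScalars (f.stalkMap x).hom).obj ((St x).obj M)) :=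
    ModuleCat.subsingleton_of_isZero h1
  haveI : Subsingleton ((St x).obj M) := h2
  exact ModuleCat.isZero_of_subsingleton _

/-- the direct image along a closed immersion commutes with homology -/
noncomputable def pushHomologyIso (G : CochainComplex X.Modules ℤ) (j : ℤ) :
    (((Scheme.Modules.pushforward f).mapHomologicalComplex (ComplexShape.up ℤ)).obj G).homology j ≅
      (Scheme.Modules.pushforward f).obj (G.homology j) :=
  (G.sc j).mapHomologyIso (Scheme.Modules.pushforward f)

/-- vanishing of the homology of the direct image along a closed immersion -/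
theorem isZero_homology_of_pushforward (G : CochainComplex X.Modules ℤ) (j : ℤ)
    (h : IsZero ((((Scheme.Modules.pushforward f).mapHomologicalComplex
      (ComplexShape.up ℤ)).obj G).homology j)) : IsZero (G.homology j) :=
  isZero_of_isZero_pushforward f (isClosedEmbedding f).isInducing _
    (h.of_iso (pushHomologyIso f G j).symm)

end Groth.Agent.Helper9.ClImm1
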