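import Mathlib
import Groth.Prelude.Def_KoszTw
import Groth.Agent.Helper4.PullTensor

/-! Naturality of the comparison map `θ : f^*(A ⊗ B) ⟶ f^*A ⊗ f^*B`. -/

set_option autoImplicit false
set_option linter.style.haveILetI false
set_option linter.unusedVariables false
set_option linter.unusedSectionVars false
universe u

namespace Groth.Agent.Helper9.PullMon1

open CategoryTheory CategoryTheory.Limits AlgebraicGeometry Opposite TopologicalSpace
open Groth.Agent.Helper4.PullTensor Groth.Agent.Helper4.TensorLift

variable {X' X : Scheme.{u}} (f : X' ⟶ X)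

/-- naturality of the unit on sections -/
lemma η_natural_app {A A' : X.Modules} (φ : A ⟶ A') (V : X.Opens) (a : Γ(A, V)) :
    ((Scheme.Modules.pullback f).map φ).app (f ⁻¹ᵁ V) ((η f A).app V a) =
      (η f A').app V (φ.app V a) := by
  have h := (Scheme.Modules.pullbackPushforwardAdjunction f).unit.naturality φ
  have h1 := congrArg (fun ξ => (Scheme.Modules.Hom.app ξ V) a) h
  exact h1.symm

theorem θ_natural {A A' B B' : X.Modules} (φ : A ⟶ A') (ψ : B ⟶ B') :
    (Scheme.Modules.pullback f).map (KoszTw.tensorMap φ ψ) ≫ θ f A' B' =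
      θ f A B ≫ KoszTw.tensorMap ((Scheme.Modules.pullback f).map φ)
        ((Scheme.Modules.pullback f).map ψ) := by
  apply ((Scheme.Modules.pullbackPushforwardAdjunction f).homEquiv _ _).injective
  rw [Adjunction.homEquiv_unit, Adjunction.homEquiv_unit]
  have h1 : (Scheme.Modules.pullbackPushforwardAdjunction f).unit.app (CohB1.tensorMod A B) ≫
      (Scheme.Modules.pushforward f).map
        ((Scheme.Modules.pullback f).map (KoszTw.tensorMap φ ψ) ≫ θ f A' B') =
      KoszTw.tensorMap φ ψ ≫ pushTensor f (η f A') (η f B') := by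
    rw [Functor.map_comp, ← Category.assoc]
    have h := (Scheme.Modules.pullbackPushforwardAdjunction f).unit.naturality
      (KoszTw.tensorMap φ ψ)
    erw [← h]
    rw [Category.assoc]
    congr 1
    exact unit_θ f A' B'
  have h2 : (Scheme.Modules.pullbackPushforwardAdjunction f).unit.app (CohB1.tensorMod A B) ≫
      (Scheme.Modules.pushforward f).map
        (θ f A B ≫ KoszTw.tensorMap ((Scheme.Modules.pullback f).map φ)
          ((Scheme.Modules.pullback f).map ψ)) =
      pushTensor f (η f A) (η f B) ≫ (Scheme.Modules.pushforward f).map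
        (KoszTw.tensorMap ((Scheme.Modules.pullback f).map φ)
          ((Scheme.Modules.pullback f).map ψ)) := by
    rw [Functor.map_comp, ← Category.assoc]
    congr 1
    exact unit_θ f A B
  refine h1.trans (Eq.trans ?_ h2.symm)
  apply hom_ext
  intro V a b
  have e1 : (KoszTw.tensorMap φ ψ ≫ pushTensor f (η f A') (η f B')).app V
      (SecTwist.tmul A B V a b) =
      SecTwist.tmul _ _ (f ⁻¹ᵁ V) ((η f A').app V (φ.app V a)) ((η f B').app V (ψ.app V b)) := by
    have := KoszTw.tensorMap_tmul φ ψ V a b
    show (pushTensor f (η f A') (η f B')).app V ((KoszTw.tensorMap φ ψ).app V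
      (SecTwist.tmul A B V a b)) = _
    rw [this]
    exact pushTensor_tmul f _ _ V _ _
  have e2 : (pushTensor f (η f A) (η f B) ≫ (Scheme.Modules.pushforward f).map
        (KoszTw.tensorMap ((Scheme.Modules.pullback f).map φ)
          ((Scheme.Modules.pullback f).map ψ))).app V (SecTwist.tmul A B V a b) =
      SecTwist.tmul _ _ (f ⁻¹ᵁ V) ((η f A').app V (φ.app V a)) ((η f B').app V (ψ.app V b)) := by
    show (KoszTw.tensorMap ((Scheme.Modules.pullback f).map φ)
          ((Scheme.Modules.pullback f).map ψ)).app (f ⁻¹ᵁ V)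
        ((pushTensor f (η f A) (η f B)).app V (SecTwist.tmul A B V a b)) = _
    refine (congrArg _ (pushTensor_tmul f (η f A) (η f B) V a b)).trans ?_
    refine (KoszTw.tensorMap_tmul ((Scheme.Modules.pullback f).map φ)
      ((Scheme.Modules.pullback f).map ψ) (f ⁻¹ᵁ V) _ _).trans ?_
    congr 1
    · exact η_natural_app f φ V a
    · exact η_natural_app f ψ V b
  exact e1.trans e2.symm

end Groth.Agent.Helper9.PullMon1
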