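import Mathlib

/-! A natural transformation `S ⊗ (M ⊗ N) ⟶ (S ⊗ M) ⊗ (S ⊗ N)` which is an isomorphism for
`M = N = R` is an isomorphism. -/

set_option autoImplicit false
set_option linter.style.haveILetI false
set_option linter.unusedVariables false
set_option linter.unusedSectionVars false
universe u

namespace Groth.Agent.Helper9.PullMon3

open CategoryTheory MonoidalCategory ModuleCat TensorProduct Functor.OplaxMonoidal ChangeOfRings

variable {R S : Type u} [CommRing R] [CommRing S] (f : R →+* S)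

/-- the module `R` -/
abbrev R1 : ModuleCat.{u} R := ModuleCat.of R R

/-- the map `R ⟶ M`, `1 ↦ m` -/
noncomputable def pt {M : ModuleCat.{u} R} (m : M) : R1 (R := R) ⟶ M :=
  ModuleCat.ofHom (LinearMap.toSpanSingleton R M m)

lemma pt_one {M : ModuleCat.{u} R} (m : M) : (pt m).hom (1 : R) = m := by
  simp [pt]

/-- the generator of `S ⊗ (R ⊗ R)` -/
noncomputable def ω : ((extendScalars f).obj (R1 (R := R) ⊗ R1 (R := R)) : ModuleCat.{u} S) :=
  (1 : S) ⊗ₜ[R,f] ((1 : R) ⊗ₜ[R] (1 : R))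

lemma exists_smul_ω (y : ((extendScalars f).obj (R1 (R := R) ⊗ R1 (R := R)) : ModuleCat.{u} S)) :
    ∃ c : S, y = c • ω f := by
  letI : Module R S := Module.compHom S f
  have key : ∀ z : TensorProduct R S (TensorProduct R R R),
      ∃ c : S, (show ((extendScalars f).obj (R1 (R := R) ⊗ R1 (R := R)) : ModuleCat.{u} S) from z) =
        c • ω f := by
    intro z
    induction z using TensorProduct.induction_on with
    | zero => exact ⟨0, by rw [zero_smul]; rfl⟩
    | tmul s t =>
      induction t using TensorProduct.induction_on with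
      | zero =>
        refine ⟨0, ?_⟩
        rw [zero_smul]
        exact TensorProduct.tmul_zero _ _
      | tmul a b =>
        refine ⟨s * f (a * b), ?_⟩
        have h1 : (a ⊗ₜ[R] b : TensorProduct R R R) = (a * b) • ((1 : R) ⊗ₜ[R] (1 : R)) := by
          calc (a ⊗ₜ[R] b : TensorProduct R R R) = a ⊗ₜ[R] (b • (1 : R)) := by
                rw [smul_eq_mul, mul_one]
            _ = (b • a) ⊗ₜ[R] (1 : R) := (TensorProduct.smul_tmul b a 1).symm
            _ = (a * b) • ((1 : R) ⊗ₜ[R] (1 : R)) := by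
                rw [TensorProduct.smul_tmul', smul_eq_mul, smul_eq_mul, mul_one, mul_comm]
        have h2 : (s ⊗ₜ[R] (a ⊗ₜ[R] b) : TensorProduct R S (TensorProduct R R R)) =
            (s * f (a * b)) ⊗ₜ[R] ((1 : R) ⊗ₜ[R] (1 : R)) := by
          rw [h1, ← TensorProduct.smul_tmul]
          congr 1
          show f (a * b) * s = s * f (a * b)
          exact mul_comm _ _
        have h3 : (s ⊗ₜ[R] (a ⊗ₜ[R] b) : TensorProduct R S (TensorProduct R R R)) =
            (s * f (a * b) * 1) ⊗ₜ[R] ((1 : R) ⊗ₜ[R] (1 : R)) := by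
          rw [mul_one]
          exact h2
        exact h3
      | add t t' ht ht' =>
        obtain ⟨c, hc⟩ := ht
        obtain ⟨c', hc'⟩ := ht'
        refine ⟨c + c', ?_⟩
        rw [add_smul, ← hc, ← hc']
        exact TensorProduct.tmul_add _ _ _
    | add z z' hz hz' =>
      obtain ⟨c, hc⟩ := hz
      obtain ⟨c', hc'⟩ := hz'
      refine ⟨c + c', ?_⟩
      rw [add_smul, ← hc, ← hc']
      rfl
  exact key y

variable (τ : ∀ M N : ModuleCat.{u} R,
    (extendScalars f).obj (M ⊗ N) ⟶ (extendScalars f).obj M ⊗ (extendScalars f).obj N)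

lemma map_pt_ω {M N : ModuleCat.{u} R} (m : M) (n : N) :
    ((extendScalars f).map (pt m ⊗ₘ pt n)).hom (ω f) = (1 : S) ⊗ₜ[R,f] (m ⊗ₜ[R] n) := by
  unfold ω
  refine (ExtendScalars.map_tmul f (pt m ⊗ₘ pt n) 1 _).trans ?_
  congr 1
  refine (ModuleCat.MonoidalCategory.tensorHom_tmul (pt m) (pt n) (1 : R) (1 : R)).trans ?_
  congr 1
  · exact pt_one m
  · exact pt_one n

variable {τ}

lemma τ_one_tmul
    (hτ : ∀ {M M' N N' : ModuleCat.{u} R} (g : M ⟶ M') (h : N ⟶ N'),
      (extendScalars f).map (g ⊗ₘ h) ≫ τ M' N' =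
        τ M N ≫ ((extendScalars f).map g ⊗ₘ (extendScalars f).map h))
    (c : S) (hc : (τ R1 R1).hom (ω f) = c • (δ (extendScalars f) R1 R1).hom (ω f))
    {M N : ModuleCat.{u} R} (m : M) (n : N) :
    (τ M N).hom ((1 : S) ⊗ₜ[R,f] (m ⊗ₜ[R] n)) =
      c • (δ (extendScalars f) M N).hom ((1 : S) ⊗ₜ[R,f] (m ⊗ₜ[R] n)) := by
  have e := map_pt_ω f m n
  have h1 : (τ M N).hom (((extendScalars f).map (pt m ⊗ₘ pt n)).hom (ω f)) =
      ((extendScalars f).map (pt m) ⊗ₘ (extendScalars f).map (pt n)).hom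
        ((τ R1 R1).hom (ω f)) :=
    congrArg (fun φ => φ.hom (ω f)) (hτ (pt m) (pt n))
  have h2 : (δ (extendScalars f) M N).hom (((extendScalars f).map (pt m ⊗ₘ pt n)).hom (ω f)) =
      ((extendScalars f).map (pt m) ⊗ₘ (extendScalars f).map (pt n)).hom
        ((δ (extendScalars f) R1 R1).hom (ω f)) :=
    congrArg (fun φ => φ.hom (ω f)) (δ_natural (extendScalars f) (pt m) (pt n))
  calc (τ M N).hom ((1 : S) ⊗ₜ[R,f] (m ⊗ₜ[R] n))
      = (τ M N).hom (((extendScalars f).map (pt m ⊗ₘ pt n)).hom (ω f)) :=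
        congrArg (fun z => (τ M N).hom z) e.symm
    _ = ((extendScalars f).map (pt m) ⊗ₘ (extendScalars f).map (pt n)).hom
          ((τ R1 R1).hom (ω f)) := h1
    _ = ((extendScalars f).map (pt m) ⊗ₘ (extendScalars f).map (pt n)).hom
          (c • (δ (extendScalars f) R1 R1).hom (ω f)) := congrArg _ hc
    _ = c • ((extendScalars f).map (pt m) ⊗ₘ (extendScalars f).map (pt n)).hom
          ((δ (extendScalars f) R1 R1).hom (ω f)) := map_smul _ _ _
    _ = c • (δ (extendScalars f) M N).hom (((extendScalars f).map (pt m ⊗ₘ pt n)).hom (ω f)) :=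
        congrArg (fun z => c • z) h2.symm
    _ = c • (δ (extendScalars f) M N).hom ((1 : S) ⊗ₜ[R,f] (m ⊗ₜ[R] n)) :=
        congrArg (fun z => c • (δ (extendScalars f) M N).hom z) e

lemma τ_eq_smul
    (hτ : ∀ {M M' N N' : ModuleCat.{u} R} (g : M ⟶ M') (h : N ⟶ N'),
      (extendScalars f).map (g ⊗ₘ h) ≫ τ M' N' =
        τ M N ≫ ((extendScalars f).map g ⊗ₘ (extendScalars f).map h))
    (c : S) (hc : (τ R1 R1).hom (ω f) = c • (δ (extendScalars f) R1 R1).hom (ω f))
    (M N : ModuleCat.{u} R) :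
    τ M N = c • δ (extendScalars f) M N := by
  letI : Module R S := Module.compHom S f
  apply ExtendScalars.hom_ext
  intro (p : TensorProduct R M N)
  induction p using TensorProduct.induction_on with
  | zero =>
    have h0 : ((1 : S) ⊗ₜ[R,f] (0 : TensorProduct R M N)) =
        (0 : ((extendScalars f).obj (M ⊗ N) : ModuleCat.{u} S)) := TensorProduct.tmul_zero _ _
    exact (congrArg (fun z => (τ M N).hom z) h0).trans
      ((map_zero _).trans ((map_zero _).symm.trans
        (congrArg (fun z => (c • δ (extendScalars f) M N).hom z) h0.symm)))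
  | tmul m n => exact τ_one_tmul f hτ c hc m n
  | add p q hp hq =>
    have h0 : ((1 : S) ⊗ₜ[R,f] (p + q)) =
        (((1 : S) ⊗ₜ[R,f] p + (1 : S) ⊗ₜ[R,f] q :
          ((extendScalars f).obj (M ⊗ N) : ModuleCat.{u} S))) := TensorProduct.tmul_add _ _ _
    refine (congrArg (fun z => (τ M N).hom z) h0).trans ?_
    refine Eq.trans ?_ (congrArg (fun z => (c • δ (extendScalars f) M N).hom z) h0.symm)
    refine (map_add _ _ _).trans ?_
    refine Eq.trans ?_ (map_add _ _ _).symm
    exact congrArg₂ (· + ·) hp hq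

/-- the functional `s ⊗ (a ⊗ b) ↦ f (a b) s` -/
noncomputable def φ : letI : Module R S := Module.compHom S f
    TensorProduct R S (TensorProduct R R R) →+ S :=
  letI : Module R S := Module.compHom S f
  ((TensorProduct.rid R S).toLinearMap.comp
    (LinearMap.lTensor S (TensorProduct.lid R R).toLinearMap)).toAddMonoidHom

lemma φ_smul_ω (c : S) : φ f (c • ω f) = c := by
  letI : Module R S := Module.compHom S f
  show (TensorProduct.rid R S) ((LinearMap.lTensor S (TensorProduct.lid R R).toLinearMap)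
    ((c * 1) ⊗ₜ[R] ((1 : R) ⊗ₜ[R] (1 : R)))) = c
  rw [LinearMap.lTensor_tmul]
  show (TensorProduct.rid R S) ((c * 1) ⊗ₜ[R] ((TensorProduct.lid R R) ((1 : R) ⊗ₜ[R] (1 : R)))) = c
  rw [TensorProduct.lid_tmul, TensorProduct.rid_tmul, smul_eq_mul, mul_one, one_smul, mul_one]

theorem isIso_τ
    (hτ : ∀ {M M' N N' : ModuleCat.{u} R} (g : M ⟶ M') (h : N ⟶ N'),
      (extendScalars f).map (g ⊗ₘ h) ≫ τ M' N' =
        τ M N ≫ ((extendScalars f).map g ⊗ₘ (extendScalars f).map h))
    (h1 : IsIso (τ R1 R1)) (M N : ModuleCat.{u} R) : IsIso (τ M N) := by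
  -- the scalar `c`
  obtain ⟨c, hc⟩ : ∃ c : S, (τ R1 R1).hom (ω f) = c • (δ (extendScalars f) R1 R1).hom (ω f) := by
    obtain ⟨c, hc⟩ := exists_smul_ω f ((inv (δ (extendScalars f) R1 R1)).hom ((τ R1 R1).hom (ω f)))
    refine ⟨c, ?_⟩
    have h2 := congrArg (fun z => (δ (extendScalars f) R1 R1).hom z) hc
    have h3 : (δ (extendScalars f) R1 R1).hom
        ((inv (δ (extendScalars f) R1 R1)).hom ((τ R1 R1).hom (ω f))) = (τ R1 R1).hom (ω f) := by
      have := congrArg (fun φ => φ.hom ((τ R1 R1).hom (ω f)))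
        (IsIso.inv_hom_id (δ (extendScalars f) R1 R1))
      exact this
    exact h3.symm.trans (h2.trans (map_smul _ _ _))
  have hRR := τ_eq_smul f hτ c hc R1 R1
  -- the scalar `d`
  obtain ⟨d, hd⟩ := exists_smul_ω f ((inv (τ R1 R1)).hom ((δ (extendScalars f) R1 R1).hom (ω f)))
  have hcd : c * d = 1 := by
    have h4 : (inv (τ R1 R1)).hom ((τ R1 R1).hom (ω f)) = ω f := by
      have := congrArg (fun φ => φ.hom (ω f)) (IsIso.hom_inv_id (τ R1 R1))
      exact this
    have h5 : ω f = (c * d) • ω f := by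
      calc ω f = (inv (τ R1 R1)).hom ((τ R1 R1).hom (ω f)) := h4.symm
        _ = (inv (τ R1 R1)).hom (c • (δ (extendScalars f) R1 R1).hom (ω f)) := congrArg _ hc
        _ = c • (inv (τ R1 R1)).hom ((δ (extendScalars f) R1 R1).hom (ω f)) := map_smul _ _ _
        _ = c • (d • ω f) := congrArg (fun z => c • z) hd
        _ = (c * d) • ω f := (mul_smul _ _ _).symm
    have h6 := congrArg (φ f) h5
    have h7 : φ f (ω f) = 1 := by
      have := φ_smul_ω f 1
      rwa [one_smul] at this
    rw [h7, φ_smul_ω] at h6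
    exact h6.symm
  rw [τ_eq_smul f hτ c hc M N]
  refine ⟨⟨d • inv (δ (extendScalars f) M N), ?_, ?_⟩⟩
  · rw [Linear.smul_comp, Linear.comp_smul, IsIso.hom_inv_id, smul_smul, hcd, one_smul]
  · rw [Linear.smul_comp, Linear.comp_smul, IsIso.inv_hom_id, smul_smul, mul_comm, hcd, one_smul]

end Groth.Agent.Helper9.PullMon3



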