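import Mathlib
import Groth.Prelude.Def_DCoh4
import Groth.Prelude.Def_KoszTw
import Groth.Agent.Helper9.PullMon1
import Groth.Agent.Helper9.PullMon2
import Groth.Agent.Helper9.PullMon3
import Groth.Agent.Helper9.StalkTensor8
import Groth.Agent.Helper4.TensorInv

/-! `f^*(A ⊗ B) ≅ f^*A ⊗ f^*B`: the comparison map `θ` is an isomorphism. -/

set_option autoImplicit false
set_option linter.style.haveILetI false
set_option linter.unusedVariables false
set_option linter.unusedSectionVars false
universe u

namespace Groth.Agent.Helper9.PullMon4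

open CategoryTheory CategoryTheory.Limits AlgebraicGeometry Opposite TopologicalSpace
  MonoidalCategory
open Groth.Agent.Helper9.SkyMod2 Groth.Agent.Helper9.SkyMod4 Groth.Agent.Helper9.SkyMod5
  Groth.Agent.Helper9.StalkTensor8 Groth.Agent.Helper4.PullTensor

section Stalks

variable {X : Scheme.{u}}

/-- a morphism of modules which is an isomorphism on all stalks is an isomorphism -/
theorem isIso_of_stalks {M N : X.Modules} (φ : M ⟶ N) (h : ∀ x : X, IsIso ((St x).map φ)) :
    IsIso φ := by
  haveI : Mono φ := by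
    rw [Preadditive.mono_iff_isZero_kernel]
    apply isZero_of_stalks
    intro x
    haveI := h x
    have e : (St x).obj (kernel φ) ≅ kernel ((St x).map φ) := PreservesKernel.iso (St x) φ
    exact (isZero_kernel_of_mono ((St x).map φ)).of_iso e
  haveI : Epi φ := by
    rw [Preadditive.epi_iff_isZero_cokernel]
    apply isZero_of_stalks
    intro x
    haveI := h x
    have e : (St x).obj (cokernel φ) ≅ cokernel ((St x).map φ) := PreservesCokernel.iso (St x) φ
    exact (isZero_cokernel_of_epi ((St x).map φ)).of_iso e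
  exact isIso_of_mono_of_epi φ

/-- the stalk of the tensor product (typed with `CohB1.tensorMod`) -/
noncomputable def stIso' (y : X) (M N : X.Modules) :
    (St y).obj M ⊗ (St y).obj N ≅ (St y).obj (CohB1.tensorMod M N) :=
  stIso y M N

lemma stIso'_natural (y : X) {M M' N N' : X.Modules} (φ : M ⟶ M') (ψ : N ⟶ N') :
    ((St y).map φ ⊗ₘ (St y).map ψ) ≫ (stIso' y M' N').hom =
      (stIso' y M N).hom ≫ (St y).map (KoszTw.tensorMap φ ψ) :=
  stIso_natural y φ ψ

lemma stIso'_inv_natural (y : X) {M M' N N' : X.Modules} (φ : M ⟶ M') (ψ : N ⟶ N') :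
    (St y).map (KoszTw.tensorMap φ ψ) ≫ (stIso' y M' N').inv =
      (stIso' y M N).inv ≫ ((St y).map φ ⊗ₘ (St y).map ψ) := by
  rw [Iso.comp_inv_eq, Category.assoc, Iso.eq_inv_comp]
  exact (stIso'_natural y φ ψ).symm

end Stalks

section Main

variable {X' X : Scheme.{u}} (f : X' ⟶ X) (x' : X')

/-- the stalk of `θ` -/
noncomputable def t (A B : X.Modules) :
    (St x').obj ((Scheme.Modules.pullback f).obj (CohB1.tensorMod A B)) ⟶
      (St x').obj (CohB1.tensorMod ((Scheme.Modules.pullback f).obj A)
        ((Scheme.Modules.pullback f).obj B)) :=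
  (St x').map (θ f A B)

/-- the stalk of `f^*(A ⊗ B)` -/
noncomputable def i1 (A B : X.Modules) :
    (St x').obj ((Scheme.Modules.pullback f).obj (CohB1.tensorMod A B)) ≅
      (ext x' f).obj ((St (f.base x')).obj A ⊗ (St (f.base x')).obj B) :=
  (pullStalkIso x' f).app (CohB1.tensorMod A B) ≪≫
    (ext x' f).mapIso (stIso' (f.base x') A B).symm

/-- the stalk of `f^*A ⊗ f^*B` -/
noncomputable def i2 (A B : X.Modules) :
    (St x').obj (CohB1.tensorMod ((Scheme.Modules.pullback f).obj A)
        ((Scheme.Modules.pullback f).obj B)) ≅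
      (ext x' f).obj ((St (f.base x')).obj A) ⊗ (ext x' f).obj ((St (f.base x')).obj B) :=
  (stIso' x' ((Scheme.Modules.pullback f).obj A) ((Scheme.Modules.pullback f).obj B)).symm ≪≫
    ((pullStalkIso x' f).app A ⊗ᵢ (pullStalkIso x' f).app B)

variable {A A' B B' : X.Modules} (α : A ⟶ A') (β : B ⟶ B')

lemma i1_natural :
    (St x').map ((Scheme.Modules.pullback f).map (KoszTw.tensorMap α β)) ≫ (i1 f x' A' B').hom =
      (i1 f x' A B).hom ≫
        (ext x' f).map ((St (f.base x')).map α ⊗ₘ (St (f.base x')).map β) := by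
  have h1 := (pullStalkIso x' f).hom.naturality (KoszTw.tensorMap α β)
  have h2 := stIso'_inv_natural (f.base x') α β
  simp only [i1, Iso.trans_hom, Iso.app_hom, Functor.mapIso_hom, Iso.symm_hom, Category.assoc]
  erw [← Category.assoc, h1]
  rw [Category.assoc]
  congr 1
  show (ext x' f).map ((St (f.base x')).map (KoszTw.tensorMap α β)) ≫
    (ext x' f).map (stIso' (f.base x') A' B').inv = _
  rw [← Functor.map_comp, h2, Functor.map_comp]

lemma i2_natural :
    (St x').map (KoszTw.tensorMap ((Scheme.Modules.pullback f).map α)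
        ((Scheme.Modules.pullback f).map β)) ≫ (i2 f x' A' B').hom =
      (i2 f x' A B).hom ≫
        ((ext x' f).map ((St (f.base x')).map α) ⊗ₘ (ext x' f).map ((St (f.base x')).map β)) := by
  have h1 := (pullStalkIso x' f).hom.naturality α
  have h2 := (pullStalkIso x' f).hom.naturality β
  have h3 := stIso'_inv_natural x' ((Scheme.Modules.pullback f).map α)
    ((Scheme.Modules.pullback f).map β)
  simp only [i2, Iso.trans_hom, Iso.symm_hom, tensorIso_hom, Iso.app_hom, Category.assoc]
  rw [← Category.assoc, h3, Category.assoc]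
  congr 1
  rw [MonoidalCategory.tensorHom_comp_tensorHom, MonoidalCategory.tensorHom_comp_tensorHom]
  congr 1

lemma t_natural :
    (St x').map ((Scheme.Modules.pullback f).map (KoszTw.tensorMap α β)) ≫ t f x' A' B' =
      t f x' A B ≫ (St x').map (KoszTw.tensorMap ((Scheme.Modules.pullback f).map α)
        ((Scheme.Modules.pullback f).map β)) := by
  unfold t
  rw [← Functor.map_comp, ← Functor.map_comp, Groth.Agent.Helper9.PullMon1.θ_natural]

lemma isIso_F1 [IsIso ((St (f.base x')).map α)] [IsIso ((St (f.base x')).map β)] :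
    IsIso ((St x').map ((Scheme.Modules.pullback f).map (KoszTw.tensorMap α β))) := by
  have h := i1_natural f x' α β
  have h2 : (St x').map ((Scheme.Modules.pullback f).map (KoszTw.tensorMap α β)) =
      (i1 f x' A B).hom ≫
        (ext x' f).map ((St (f.base x')).map α ⊗ₘ (St (f.base x')).map β) ≫
        (i1 f x' A' B').inv := by
    rw [← Category.assoc, ← h, Category.assoc, Iso.hom_inv_id, Category.comp_id]
  rw [h2]
  infer_instance

lemma isIso_F2 [IsIso ((St (f.base x')).map α)] [IsIso ((St (f.base x')).map β)] :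
    IsIso ((St x').map (KoszTw.tensorMap ((Scheme.Modules.pullback f).map α)
        ((Scheme.Modules.pullback f).map β))) := by
  have h := i2_natural f x' α β
  have h2 : (St x').map (KoszTw.tensorMap ((Scheme.Modules.pullback f).map α)
        ((Scheme.Modules.pullback f).map β)) =
      (i2 f x' A B).hom ≫
        ((ext x' f).map ((St (f.base x')).map α) ⊗ₘ (ext x' f).map ((St (f.base x')).map β)) ≫
        (i2 f x' A' B').inv := by
    rw [← Category.assoc, ← h, Category.assoc, Iso.hom_inv_id, Category.comp_id]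
  rw [h2]
  infer_instance

lemma isIso_t_iff [IsIso ((St (f.base x')).map α)] [IsIso ((St (f.base x')).map β)] :
    IsIso (t f x' A B) ↔ IsIso (t f x' A' B') := by
  haveI := isIso_F1 f x' α β
  haveI := isIso_F2 f x' α β
  have h := t_natural f x' α β
  constructor
  · intro h1
    have h3 : t f x' A' B' =
        inv ((St x').map ((Scheme.Modules.pullback f).map (KoszTw.tensorMap α β))) ≫
          t f x' A B ≫ (St x').map (KoszTw.tensorMap ((Scheme.Modules.pullback f).map α)
            ((Scheme.Modules.pullback f).map β)) := by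
      rw [← h, IsIso.inv_hom_id_assoc]
    rw [h3]
    infer_instance
  · intro h1
    have h3 : t f x' A B =
        (St x').map ((Scheme.Modules.pullback f).map (KoszTw.tensorMap α β)) ≫ t f x' A' B' ≫
          inv ((St x').map (KoszTw.tensorMap ((Scheme.Modules.pullback f).map α)
            ((Scheme.Modules.pullback f).map β))) := by
      rw [← Category.assoc, h, Category.assoc, IsIso.hom_inv_id, Category.comp_id]
    rw [h3]
    infer_instance

variable (A B)

/-- `θ` on stalks, transported to modules over the local rings -/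
noncomputable def τ' :
    (ext x' f).obj ((St (f.base x')).obj A ⊗ (St (f.base x')).obj B) ⟶
      (ext x' f).obj ((St (f.base x')).obj A) ⊗ (ext x' f).obj ((St (f.base x')).obj B) :=
  (i1 f x' A B).inv ≫ t f x' A B ≫ (i2 f x' A B).hom

variable {A B}

lemma τ'_natural :
    (ext x' f).map ((St (f.base x')).map α ⊗ₘ (St (f.base x')).map β) ≫ τ' f x' A' B' =
      τ' f x' A B ≫
        ((ext x' f).map ((St (f.base x')).map α) ⊗ₘ (ext x' f).map ((St (f.base x')).map β)) := by
  unfold τ'
  have h1 := i1_natural f x' α β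
  have h2 := i2_natural f x' α β
  have h3 := t_natural f x' α β
  have k1 : (ext x' f).map ((St (f.base x')).map α ⊗ₘ (St (f.base x')).map β) ≫
      (i1 f x' A' B').inv =
      (i1 f x' A B).inv ≫
        (St x').map ((Scheme.Modules.pullback f).map (KoszTw.tensorMap α β)) := by
    rw [Iso.comp_inv_eq, Category.assoc, Iso.eq_inv_comp]
    exact h1.symm
  calc (ext x' f).map ((St (f.base x')).map α ⊗ₘ (St (f.base x')).map β) ≫
        (i1 f x' A' B').inv ≫ t f x' A' B' ≫ (i2 f x' A' B').hom
      = ((ext x' f).map ((St (f.base x')).map α ⊗ₘ (St (f.base x')).map β) ≫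
          (i1 f x' A' B').inv) ≫ t f x' A' B' ≫ (i2 f x' A' B').hom := by
        rw [Category.assoc]
    _ = (i1 f x' A B).inv ≫
          ((St x').map ((Scheme.Modules.pullback f).map (KoszTw.tensorMap α β)) ≫
            t f x' A' B') ≫ (i2 f x' A' B').hom := by
        rw [k1, Category.assoc, Category.assoc]
    _ = (i1 f x' A B).inv ≫ t f x' A B ≫
          ((St x').map (KoszTw.tensorMap ((Scheme.Modules.pullback f).map α)
            ((Scheme.Modules.pullback f).map β)) ≫ (i2 f x' A' B').hom) := by
        rw [h3, Category.assoc]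
    _ = ((i1 f x' A B).inv ≫ t f x' A B ≫ (i2 f x' A B).hom) ≫
          ((ext x' f).map ((St (f.base x')).map α) ⊗ₘ
            (ext x' f).map ((St (f.base x')).map β)) := by
        rw [h2, Category.assoc, Category.assoc]

lemma isIso_t_iff_τ' (A B : X.Modules) : IsIso (t f x' A B) ↔ IsIso (τ' f x' A B) := by
  unfold τ'
  constructor
  · intro h
    infer_instance
  · intro h
    have h2 : t f x' A B = (i1 f x' A B).hom ≫
        ((i1 f x' A B).inv ≫ t f x' A B ≫ (i2 f x' A B).hom) ≫ (i2 f x' A B).inv := by
      simp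
    rw [h2]
    infer_instance

/-- the skyscraper functor at `f x'` -/
noncomputable abbrev sk : ModuleCat.{u} (X.presheaf.stalk (f.base x')) ⥤ X.Modules :=
  skyFunctor (f.base x')

/-- the stalk of a skyscraper -/
noncomputable abbrev εs (M : ModuleCat.{u} (X.presheaf.stalk (f.base x'))) :
    (St (f.base x')).obj ((sk f x').obj M) ≅ M :=
  (stalkSkyIso (f.base x')).app M

lemma εs_natural {M M' : ModuleCat.{u} (X.presheaf.stalk (f.base x'))} (g : M ⟶ M') :
    (St (f.base x')).map ((sk f x').map g) ≫ (εs f x' M').hom = (εs f x' M).hom ≫ g :=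
  (stalkSkyIso (f.base x')).hom.naturality g

/-- `θ` on stalks, as a transformation of bifunctors on modules over the local ring -/
noncomputable def τ (M N : ModuleCat.{u} (X.presheaf.stalk (f.base x'))) :
    (ext x' f).obj (M ⊗ N) ⟶ (ext x' f).obj M ⊗ (ext x' f).obj N :=
  (ext x' f).map ((εs f x' M).inv ⊗ₘ (εs f x' N).inv) ≫
    τ' f x' ((sk f x').obj M) ((sk f x').obj N) ≫
    ((ext x' f).map (εs f x' M).hom ⊗ₘ (ext x' f).map (εs f x' N).hom)

lemma τ_natural {M M' N N' : ModuleCat.{u} (X.presheaf.stalk (f.base x'))} (g : M ⟶ M')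
    (h : N ⟶ N') :
    (ext x' f).map (g ⊗ₘ h) ≫ τ f x' M' N' =
      τ f x' M N ≫ ((ext x' f).map g ⊗ₘ (ext x' f).map h) := by
  unfold τ
  have h1 := τ'_natural f x' ((sk f x').map g) ((sk f x').map h)
  have e1 : (g ⊗ₘ h) ≫ ((εs f x' M').inv ⊗ₘ (εs f x' N').inv) =
      ((εs f x' M).inv ⊗ₘ (εs f x' N).inv) ≫
        ((St (f.base x')).map ((sk f x').map g) ⊗ₘ (St (f.base x')).map ((sk f x').map h)) := by
    rw [MonoidalCategory.tensorHom_comp_tensorHom, MonoidalCategory.tensorHom_comp_tensorHom]
    congr 1
    · rw [Iso.comp_inv_eq, Category.assoc, Iso.eq_inv_comp]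
      exact (εs_natural f x' g).symm
    · rw [Iso.comp_inv_eq, Category.assoc, Iso.eq_inv_comp]
      exact (εs_natural f x' h).symm
  have e2 : ((ext x' f).map ((St (f.base x')).map ((sk f x').map g)) ⊗ₘ
        (ext x' f).map ((St (f.base x')).map ((sk f x').map h))) ≫
      ((ext x' f).map (εs f x' M').hom ⊗ₘ (ext x' f).map (εs f x' N').hom) =
      ((ext x' f).map (εs f x' M).hom ⊗ₘ (ext x' f).map (εs f x' N).hom) ≫
        ((ext x' f).map g ⊗ₘ (ext x' f).map h) := by
    rw [MonoidalCategory.tensorHom_comp_tensorHom, MonoidalCategory.tensorHom_comp_tensorHom,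
      ← Functor.map_comp, ← Functor.map_comp, ← Functor.map_comp, ← Functor.map_comp,
      εs_natural, εs_natural]
  rw [← Category.assoc, ← Functor.map_comp, e1, Functor.map_comp, Category.assoc,
    ← Category.assoc _ (τ' f x' _ _), h1, Category.assoc, Category.assoc, Category.assoc, e2]

lemma isIso_St_unit (y : X) (A : X.Modules) : IsIso ((St y).map ((adj y).unit.app A)) := by
  have h := (adj y).left_triangle_components A
  haveI : IsIso ((St y).map ((adj y).unit.app A) ≫ (adj y).counit.app ((St y).obj A)) := by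
    rw [h]
    infer_instance
  exact IsIso.of_isIso_comp_right _ ((adj y).counit.app ((St y).obj A))

lemma isIso_τ'_of_τ (M N : ModuleCat.{u} (X.presheaf.stalk (f.base x')))
    (h : IsIso (τ f x' M N)) : IsIso (τ' f x' ((sk f x').obj M) ((sk f x').obj N)) := by
  have h2 : τ' f x' ((sk f x').obj M) ((sk f x').obj N) =
      (ext x' f).map ((εs f x' M).hom ⊗ₘ (εs f x' N).hom) ≫ τ f x' M N ≫
        ((ext x' f).map (εs f x' M).inv ⊗ₘ (ext x' f).map (εs f x' N).inv) := by
    unfold τ
    simp only [Category.assoc, MonoidalCategory.tensorHom_comp_tensorHom, ← Functor.map_comp,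
      Iso.hom_inv_id, CategoryTheory.Functor.map_id, MonoidalCategory.tensorHom_id,
      MonoidalCategory.id_whiskerRight, Category.comp_id]
    rw [← Category.assoc, ← Functor.map_comp, MonoidalCategory.tensorHom_comp_tensorHom,
      Iso.hom_inv_id, Iso.hom_inv_id, MonoidalCategory.tensorHom_id,
      MonoidalCategory.id_whiskerRight, CategoryTheory.Functor.map_id, Category.id_comp]
  rw [h2]
  infer_instance

theorem isIso_t (A B : X.Modules) : IsIso (t f x' A B) := by
  have hOO : IsIso (t f x' (Coh.structureModule X) (Coh.structureModule X)) := by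
    haveI := isIso_θ f (Groth.Agent.Helper4.TensorInv.isInvertible_structureModule (X := X))
      (Groth.Agent.Helper4.TensorInv.isInvertible_structureModule (X := X))
    unfold t
    infer_instance
  haveI := isIso_St_unit (f.base x') (Coh.structureModule X)
  have h2 : IsIso (t f x' ((sk f x').obj ((St (f.base x')).obj (Coh.structureModule X)))
      ((sk f x').obj ((St (f.base x')).obj (Coh.structureModule X)))) :=
    (isIso_t_iff f x' ((adj (f.base x')).unit.app (Coh.structureModule X))
      ((adj (f.base x')).unit.app (Coh.structureModule X))).1 hOO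
  have h3 : IsIso (t f x' ((sk f x').obj (Groth.Agent.Helper9.PullMon3.R1))
      ((sk f x').obj (Groth.Agent.Helper9.PullMon3.R1))) :=
    (isIso_t_iff f x'
      ((sk f x').map (Groth.Agent.Helper9.PullMon2.unitStalkIso (f.base x')).hom)
      ((sk f x').map (Groth.Agent.Helper9.PullMon2.unitStalkIso (f.base x')).hom)).2 h2
  have h4 : IsIso (τ f x' Groth.Agent.Helper9.PullMon3.R1 Groth.Agent.Helper9.PullMon3.R1) := by
    haveI := (isIso_t_iff_τ' f x' _ _).1 h3
    unfold τ
    infer_instance
  have h5 : ∀ M N : ModuleCat.{u} (X.presheaf.stalk (f.base x')), IsIso (τ f x' M N) :=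
    Groth.Agent.Helper9.PullMon3.isIso_τ (f.stalkMap x').hom (τ_natural f x') h4
  haveI := isIso_St_unit (f.base x') A
  haveI := isIso_St_unit (f.base x') B
  refine (isIso_t_iff f x' ((adj (f.base x')).unit.app A) ((adj (f.base x')).unit.app B)).2 ?_
  exact (isIso_t_iff_τ' f x' _ _).2 (isIso_τ'_of_τ f x' _ _ (h5 _ _))

/-- the comparison map `f^*(A ⊗ B) ⟶ f^*A ⊗ f^*B` is an isomorphism -/
theorem isIso_θ' (A B : X.Modules) : IsIso (θ f A B) :=
  isIso_of_stalks _ (fun x' => isIso_t f x' A B)

end Main

end Groth.Agent.Helper9.PullMon4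

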