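import Mathlib
import Groth.Prelude.Def_DerSch
import Groth.Prelude.Def_DCoh4
import Groth.Prelude.Def_SecTwist
import Groth.Prelude.Def_KoszTw
import Groth.Agent.Helper9.StalkTensor8
import Groth.Agent.Helper9.ClImm1
import Groth.Agent.Helper9.PullMon4
import Groth.Agent.Helper9.RingProj1
import Groth.Agent.Helper1.PF2

/-! The projection formula `f_* F ⊗ L ≅ f_*(F ⊗ f^* L)` for a closed immersion `f` and arbitrary
modules. -/

set_option autoImplicit false
set_option linter.style.haveILetI false
set_option linter.unusedVariables false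
set_option linter.unusedSectionVars false
set_option linter.unusedSimpArgs false
universe u

namespace Groth.Agent.Helper9.ClImmPF1

open CategoryTheory CategoryTheory.Limits AlgebraicGeometry Opposite TopologicalSpace
  MonoidalCategory TensorProduct ModuleCat ChangeOfRings
open Groth.Agent.Helper9.SkyMod4 Groth.Agent.Helper9.SkyMod5 Groth.Agent.Helper9.StalkTensor8
  Groth.Agent.Helper1.PF

variable {X Y : Scheme.{u}}

set_option backward.isDefEq.respectTransparency false in
/-- the stalk of the tensor product on pure tensors of germs -/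
theorem stIso_germ (x : X) (M N : X.Modules) (U : X.Opens) (hx : x ∈ U) (a : Γ(M, U))
    (b : Γ(N, U)) :
    (stIso x M N).hom.hom
      ((M.presheaf.germ U x hx a : (St x).obj M) ⊗ₜ[X.presheaf.stalk x]
        (N.presheaf.germ U x hx b : (St x).obj N)) =
      (CohB1.tensorMod M N).presheaf.germ U x hx (SecTwist.tmul M N U a b) := by
  open Groth.Agent.Helper9.StalkTensor1 Groth.Agent.Helper9.StalkTensor2
    Groth.Agent.Helper9.StalkTensor7 Groth.Agent.Helper9.TensorSh in
  change stEquiv (X := X.toTopCat) (O := X.sheaf) x M N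
    (gm ((ι X.sheaf).obj M) x U hx a ⊗ₜ gm ((ι X.sheaf).obj N) x U hx b) = _
  refine (Groth.Agent.Helper9.StalkTensor7.stEquiv_apply (X := X.toTopCat) (O := X.sheaf) x M N
    _).trans ?_
  refine (congrArg (Groth.Agent.Helper9.StalkTensor2.smLin (R := X.sheaf.obj)
    (Groth.Agent.Helper9.TensorSh.η X.sheaf ((Groth.Agent.Helper9.TensorSh.ι X.sheaf).obj M ⊗
      (Groth.Agent.Helper9.TensorSh.ι X.sheaf).obj N)) x)
    (Groth.Agent.Helper9.StalkTensor1.pair_gm ((Groth.Agent.Helper9.TensorSh.ι X.sheaf).obj M)
      ((Groth.Agent.Helper9.TensorSh.ι X.sheaf).obj N) x U hx a b)).trans ?_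
  refine (Groth.Agent.Helper9.StalkTensor2.smLin_gm _ x U hx _).trans ?_
  rfl

open Groth.Agent.Helper9.SkyMod1 Groth.Agent.Helper9.SkyMod2 Groth.Agent.Helper9.SkyMod3 in
/-- the stalk of the pullback on the image of a section under the unit -/
theorem pullStalkIso_germ_unit (f : X ⟶ Y) (x : X) (N : Y.Modules) (V : Y.Opens)
    (hx : f.base x ∈ V) (n : Γ(N, V)) :
    ((pullStalkIso x f).hom.app N).hom
      (((Scheme.Modules.pullback f).obj N).presheaf.germ (f ⁻¹ᵁ V) x hx
        ((Groth.Agent.Helper4.PullTensor.η f N).app V n)) =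
    (show ((ext x f).obj ((St (f.base x)).obj N) : ModuleCat.{u} (X.presheaf.stalk x)) from
      (1 : X.presheaf.stalk x) ⊗ₜ[Y.presheaf.stalk (f.base x), (f.stalkMap x).hom]
        (N.presheaf.germ V (f.base x) hx n : (St (f.base x)).obj N)) := by
  have h := Adjunction.unit_leftAdjointUniq_hom_app (adjPull x f)
    ((adjExt x f).ofNatIsoRight (pushSkyNatIso f x).symm) N
  have h1 := congrArg (fun ξ => ((Scheme.Modules.Hom.app ξ V n :
    Γ((Scheme.Modules.pushforward f).obj (sky x ((ext x f).obj ((St (f.base x)).obj N))), V)) :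
      PLift (x ∈ f ⁻¹ᵁ V) → _) ⟨hx⟩) h
  exact h1

/-- naturality of the projection morphism -/
theorem projMap_natural (f : X ⟶ Y) {F F' : X.Modules} {L L' : Y.Modules} (φ : F ⟶ F')
    (ψ : L ⟶ L') :
    KoszTw.tensorMap ((Scheme.Modules.pushforward f).map φ) ψ ≫ projMap f F' L' =
      projMap f F L ≫ (Scheme.Modules.pushforward f).map
        (KoszTw.tensorMap φ ((Scheme.Modules.pullback f).map ψ)) := by
  apply Groth.Agent.Helper4.TensorLift.hom_ext
  intro V a b
  have e1 : (KoszTw.tensorMap ((Scheme.Modules.pushforward f).map φ) ψ ≫ projMap f F' L').app V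
      (SecTwist.tmul _ L V a b) =
      SecTwist.tmul F' ((Scheme.Modules.pullback f).obj L') (f ⁻¹ᵁ V)
        (((Scheme.Modules.pushforward f).map φ).app V a)
        ((Groth.Agent.Helper4.PullTensor.η f L').app V (ψ.app V b)) := by
    change (projMap f F' L').app V
      ((KoszTw.tensorMap ((Scheme.Modules.pushforward f).map φ) ψ).app V
        (SecTwist.tmul _ L V a b)) = _
    rw [KoszTw.tensorMap_tmul]
    exact projMap_tmul f F' L' V _ _
  have e2 : (projMap f F L ≫ (Scheme.Modules.pushforward f).map
      (KoszTw.tensorMap φ ((Scheme.Modules.pullback f).map ψ))).app V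
        (SecTwist.tmul _ L V a b) =
      SecTwist.tmul F' ((Scheme.Modules.pullback f).obj L') (f ⁻¹ᵁ V)
        (φ.app (f ⁻¹ᵁ V) a)
        (((Scheme.Modules.pullback f).map ψ).app (f ⁻¹ᵁ V)
          ((Groth.Agent.Helper4.PullTensor.η f L).app V b)) := by
    change ((Scheme.Modules.pushforward f).map
      (KoszTw.tensorMap φ ((Scheme.Modules.pullback f).map ψ))).app V
        ((projMap f F L).app V (SecTwist.tmul _ L V a b)) = _
    rw [projMap_tmul]
    exact KoszTw.tensorMap_tmul φ ((Scheme.Modules.pullback f).map ψ) (f ⁻¹ᵁ V) a _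
  refine e1.trans (Eq.trans ?_ e2.symm)
  congr 1
  exact (Groth.Agent.Helper9.PullMon1.η_natural_app f ψ V b).symm

section Stalk

open Groth.Agent.Helper9.ClImm1 Groth.Agent.Helper9.RingProj1

variable (f : X ⟶ Y) (hf : Topology.IsInducing f.base) (x : X) (F : X.Modules) (L : Y.Modules)

/-- germs of two sections can be taken over a common open -/
lemma exists_common (M N : Y.Modules) (y : Y) (μ : (St y).obj M) (ν : (St y).obj N) :
    ∃ (V : Y.Opens) (hy : y ∈ V) (a : Γ(M, V)) (b : Γ(N, V)),
      μ = M.presheaf.germ V y hy a ∧ ν = N.presheaf.germ V y hy b := by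
  obtain ⟨U, hU, a, rfl⟩ := M.presheaf.exists_germ_eq (x := y) μ
  obtain ⟨U', hU', b, rfl⟩ := N.presheaf.exists_germ_eq (x := y) ν
  refine ⟨U ⊓ U', ⟨hU, hU'⟩, M.presheaf.map (homOfLE inf_le_left).op a,
    N.presheaf.map (homOfLE inf_le_right).op b, ?_, ?_⟩
  · exact (M.presheaf.germ_res_apply (homOfLE inf_le_left : U ⊓ U' ⟶ U) y ⟨hU, hU'⟩ a).symm
  · exact (N.presheaf.germ_res_apply (homOfLE inf_le_right : U ⊓ U' ⟶ U') y ⟨hU, hU'⟩ b).symm

/-- the inverse of the stalk of the tensor product on germs of pure tensors -/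
lemma stIso_inv_germ (x : X) (M N : X.Modules) (U : X.Opens) (hx : x ∈ U) (a : Γ(M, U))
    (b : Γ(N, U)) :
    (stIso x M N).inv.hom
      ((CohB1.tensorMod M N).presheaf.germ U x hx (SecTwist.tmul M N U a b)) =
      ((M.presheaf.germ U x hx a : (St x).obj M) ⊗ₜ[X.presheaf.stalk x]
        (N.presheaf.germ U x hx b : (St x).obj N)) := by
  rw [← stIso_germ]
  exact ConcreteCategory.congr_hom (stIso x M N).hom_inv_id _

/-- the key computation: the stalk of the projection morphism at a point of the image -/
theorem key_eq :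
    (stIso (f.base x) ((Scheme.Modules.pushforward f).obj F) L).hom ≫
      (St (f.base x)).map (projMap f F L) ≫
      (pushStalkIso f hf x).hom.app (CohB1.tensorMod F ((Scheme.Modules.pullback f).obj L)) ≫
      (rs (f.stalkMap x).hom).map ((stIso x F ((Scheme.Modules.pullback f).obj L)).inv ≫
        ((St x).obj F ◁ (pullStalkIso x f).hom.app L)) ≫
      (projIso (f.stalkMap x).hom ((St x).obj F) ((St (f.base x)).obj L)).hom =
    ((pushStalkIso f hf x).hom.app F ▷ (St (f.base x)).obj L) := by
  apply ModuleCat.hom_ext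
  apply TensorProduct.ext'
  intro μ ν
  obtain ⟨V, hy, a, b, rfl, rfl⟩ := exists_common _ _ (f.base x) μ ν
  have s1 := stIso_germ (f.base x) ((Scheme.Modules.pushforward f).obj F) L V hy a b
  have s2 : ((St (f.base x)).map (projMap f F L)).hom
      ((CohB1.tensorMod ((Scheme.Modules.pushforward f).obj F) L).presheaf.germ V (f.base x) hy
        (SecTwist.tmul _ L V a b)) =
      ((Scheme.Modules.pushforward f).obj
        (CohB1.tensorMod F ((Scheme.Modules.pullback f).obj L))).presheaf.germ V (f.base x) hy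
        (SecTwist.tmul F ((Scheme.Modules.pullback f).obj L) (f ⁻¹ᵁ V) a
          ((Groth.Agent.Helper4.PullTensor.η f L).app V b)) :=
    (DerSch.stalkFunctor_map_germ (f.base x) (projMap f F L) V hy _).trans
      (congrArg _ (projMap_tmul f F L V a b))
  have s3 := pushStalkLin_germ f (CohB1.tensorMod F ((Scheme.Modules.pullback f).obj L)) x V hy
    (SecTwist.tmul F ((Scheme.Modules.pullback f).obj L) (f ⁻¹ᵁ V) a
      ((Groth.Agent.Helper4.PullTensor.η f L).app V b))
  have s4 := stIso_inv_germ x F ((Scheme.Modules.pullback f).obj L) (f ⁻¹ᵁ V) hy a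
    ((Groth.Agent.Helper4.PullTensor.η f L).app V b)
  have s5 := pullStalkIso_germ_unit f x L V hy b
  have s7 := pushStalkLin_germ f F x V hy a
  change (projIso (f.stalkMap x).hom ((St x).obj F) ((St (f.base x)).obj L)).hom.hom
      ((((St x).obj F ◁ (pullStalkIso x f).hom.app L)).hom
        ((stIso x F ((Scheme.Modules.pullback f).obj L)).inv.hom
          ((pushStalkLin f (CohB1.tensorMod F ((Scheme.Modules.pullback f).obj L)) x).hom
            (((St (f.base x)).map (projMap f F L)).hom
              ((stIso (f.base x) ((Scheme.Modules.pushforward f).obj F) L).hom.hom _))))) = _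
  rw [s1, s2, s3, s4]
  have s5' : (((St x).obj F ◁ (pullStalkIso x f).hom.app L)).hom
      ((F.presheaf.germ (f ⁻¹ᵁ V) x hy a : (St x).obj F) ⊗ₜ[X.presheaf.stalk x]
        (((Scheme.Modules.pullback f).obj L).presheaf.germ (f ⁻¹ᵁ V) x hy
          ((Groth.Agent.Helper4.PullTensor.η f L).app V b) :
            (St x).obj ((Scheme.Modules.pullback f).obj L))) =
      ((F.presheaf.germ (f ⁻¹ᵁ V) x hy a : (St x).obj F) ⊗ₜ[X.presheaf.stalk x]
        (show ((ext x f).obj ((St (f.base x)).obj L) : ModuleCat.{u} (X.presheaf.stalk x)) from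
          (1 : X.presheaf.stalk x) ⊗ₜ[Y.presheaf.stalk (f.base x), (f.stalkMap x).hom]
            (L.presheaf.germ V (f.base x) hy b : (St (f.base x)).obj L))) :=
    (ModuleCat.MonoidalCategory.whiskerLeft_apply _ _ _ _).trans (congrArg _ s5)
  refine (congrArg (fun z => (projIso (f.stalkMap x).hom ((St x).obj F)
    ((St (f.base x)).obj L)).hom.hom z) s5').trans ?_
  refine (projIso_hom_tmul (f.stalkMap x).hom ((St x).obj F) ((St (f.base x)).obj L) _ 1 _).trans ?_
  have h1 : ((1 : X.presheaf.stalk x) • (F.presheaf.germ (f ⁻¹ᵁ V) x hy a : (St x).obj F)) =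
      F.presheaf.germ (f ⁻¹ᵁ V) x hy a := one_smul _ _
  refine (congrArg (fun z : ((rs (f.stalkMap x).hom).obj ((St x).obj F) :
      ModuleCat.{u} (Y.presheaf.stalk (f.base x))) => z ⊗ₜ[Y.presheaf.stalk (f.base x)]
    (L.presheaf.germ V (f.base x) hy b : (St (f.base x)).obj L)) h1).trans ?_
  change _ = (((pushStalkLin f F x).hom
      (((Scheme.Modules.pushforward f).obj F).presheaf.germ V (f.base x) hy a) :
        ((rs (f.stalkMap x).hom).obj ((St x).obj F) :
          ModuleCat.{u} (Y.presheaf.stalk (f.base x)))) ⊗ₜ[Y.presheaf.stalk (f.base x)]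
    (L.presheaf.germ V (f.base x) hy b : (St (f.base x)).obj L))
  exact congrArg (fun z : ((rs (f.stalkMap x).hom).obj ((St x).obj F) :
      ModuleCat.{u} (Y.presheaf.stalk (f.base x))) => z ⊗ₜ[Y.presheaf.stalk (f.base x)]
    (L.presheaf.germ V (f.base x) hy b : (St (f.base x)).obj L)) s7.symm

include hf in
/-- the projection morphism is an isomorphism on the stalks at the points of the image -/
theorem isIso_stalk_projMap : IsIso ((St (f.base x)).map (projMap f F L)) := by
  have h := key_eq f hf x F L
  have i1 : IsIso ((pushStalkIso f hf x).hom.app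
      (CohB1.tensorMod F ((Scheme.Modules.pullback f).obj L))) := inferInstance
  have i1' : IsIso ((pushStalkIso f hf x).hom.app F) := inferInstance
  have i2 : IsIso ((pullStalkIso x f).hom.app L) := inferInstance
  have i3 : IsIso ((St x).obj F ◁ (pullStalkIso x f).hom.app L) := inferInstance
  have i4 : IsIso ((rs (f.stalkMap x).hom).map
      ((stIso x F ((Scheme.Modules.pullback f).obj L)).inv ≫
        ((St x).obj F ◁ (pullStalkIso x f).hom.app L))) := inferInstance
  have i45 : IsIso ((rs (f.stalkMap x).hom).map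
      ((stIso x F ((Scheme.Modules.pullback f).obj L)).inv ≫
        ((St x).obj F ◁ (pullStalkIso x f).hom.app L)) ≫
      (projIso (f.stalkMap x).hom ((St x).obj F) ((St (f.base x)).obj L)).hom) :=
    @IsIso.comp_isIso _ _ _ _ _ _ _ i4 inferInstance
  have i5 : IsIso ((pushStalkIso f hf x).hom.app
      (CohB1.tensorMod F ((Scheme.Modules.pullback f).obj L)) ≫
      (rs (f.stalkMap x).hom).map ((stIso x F ((Scheme.Modules.pullback f).obj L)).inv ≫
        ((St x).obj F ◁ (pullStalkIso x f).hom.app L)) ≫
      (projIso (f.stalkMap x).hom ((St x).obj F) ((St (f.base x)).obj L)).hom) :=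
    @IsIso.comp_isIso _ _ _ _ _ _ _ i1 i45
  have i6 : IsIso ((pushStalkIso f hf x).hom.app F ▷ (St (f.base x)).obj L) := inferInstance
  rw [← h] at i6
  have h2 := @IsIso.of_isIso_comp_left _ _ _ _ _
    (stIso (f.base x) ((Scheme.Modules.pushforward f).obj F) L).hom _ inferInstance i6
  exact @IsIso.of_isIso_comp_right _ _ _ _ _ _ _ i5 h2

end Stalk

/-- **the projection formula for a closed immersion**, for arbitrary modules -/
theorem isIso_projMap (f : X ⟶ Y) [IsClosedImmersion f] (F : X.Modules) (L : Y.Modules) :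
    IsIso (projMap f F L) := by
  apply Groth.Agent.Helper9.PullMon4.isIso_of_stalks
  intro y
  by_cases hy : y ∈ Set.range f.base
  · obtain ⟨x, rfl⟩ := hy
    exact isIso_stalk_projMap f (Groth.Agent.Helper9.ClImm1.isClosedEmbedding f).isInducing x F L
  · have hcl : IsClosed (Set.range f.base) :=
      (Groth.Agent.Helper9.ClImm1.isClosedEmbedding f).isClosed_range
    have hs2 : Subsingleton ((St y).obj ((Scheme.Modules.pushforward f).obj
        (CohB1.tensorMod F ((Scheme.Modules.pullback f).obj L)))) :=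
      Groth.Agent.Helper9.ClImm1.subsingleton_stalk f hcl _ y hy
    have hs0 : Subsingleton ((St y).obj ((Scheme.Modules.pushforward f).obj F)) :=
      Groth.Agent.Helper9.ClImm1.subsingleton_stalk f hcl _ y hy
    have hs1' : Subsingleton (((St y).obj ((Scheme.Modules.pushforward f).obj F) ⊗
        (St y).obj L : ModuleCat.{u} (Y.presheaf.stalk y))) := by
      haveI := hs0
      exact (inferInstance : Subsingleton (TensorProduct (Y.presheaf.stalk y)
        ((St y).obj ((Scheme.Modules.pushforward f).obj F)) ((St y).obj L)))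
    have hz1 : IsZero ((St y).obj (CohB1.tensorMod ((Scheme.Modules.pushforward f).obj F) L)) :=
      (@ModuleCat.isZero_of_subsingleton _ _ _ hs1').of_iso
        (stIso y ((Scheme.Modules.pushforward f).obj F) L).symm
    have hz2 : IsZero ((St y).obj ((Scheme.Modules.pushforward f).obj
        (CohB1.tensorMod F ((Scheme.Modules.pullback f).obj L)))) :=
      @ModuleCat.isZero_of_subsingleton _ _ _ hs2
    exact ⟨⟨0, hz1.eq_of_src _ _, hz2.eq_of_src _ _⟩⟩

end Groth.Agent.Helper9.ClImmPF1
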