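import Mathlib
import Groth.Prelude.Def_DCoh4
import Groth.Prelude.Def_KoszTw
import Groth.Agent.Helper9.PullMon4
import Groth.Agent.Helper9.TotFun1
import Groth.Agent.Helper9.TotFun2
import Groth.Agent.Helper9.KFlat18

/-! `f^*(L ⊗ K) ≅ f^*L ⊗ f^*K` for complexes. -/

set_option autoImplicit false
set_option linter.style.haveILetI false
set_option linter.unusedVariables false
set_option linter.unusedSectionVars false
universe u

namespace Groth.Agent.Helper9.PullMon5

open CategoryTheory CategoryTheory.Limits AlgebraicGeometry Opposite TopologicalSpace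
  MonoidalCategory HomologicalComplex
open Groth.Agent.Helper4.PullTensor Groth.Agent.Helper9.PullMon4

variable {X' X : Scheme.{u}} (f : X' ⟶ X)

/-- the bifunctor `(A, B) ↦ f^*(A ⊗ B)` -/
noncomputable abbrev biL : X.Modules ⥤ X.Modules ⥤ X'.Modules :=
  Groth.Agent.Helper9.TotFun1.FG (DCoh.tensorBi (X := X)) (Scheme.Modules.pullback f)

/-- the bifunctor `(A, B) ↦ f^*A ⊗ f^*B` -/
noncomputable abbrev biR : X.Modules ⥤ X.Modules ⥤ X'.Modules :=
  Groth.Agent.Helper9.TotFun2.GF (Scheme.Modules.pullback f) (Scheme.Modules.pullback f)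
    (DCoh.tensorBi (X := X'))

/-- `θ` as an isomorphism -/
noncomputable def θIso (A B : X.Modules) : ((biL f).obj A).obj B ≅ ((biR f).obj A).obj B :=
  @asIso _ _ _ _ (θ f A B) (isIso_θ' f A B)

lemma θIso_natural_right (A : X.Modules) {B B' : X.Modules} (β : B ⟶ B') :
    ((biL f).obj A).map β ≫ (θIso f A B').hom = (θIso f A B).hom ≫ ((biR f).obj A).map β := by
  have h := Groth.Agent.Helper9.PullMon1.θ_natural f (𝟙 A) β
  rw [CategoryTheory.Functor.map_id, ← KoszTw.tensorBi_obj_map, ← KoszTw.tensorBi_obj_map] at h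
  exact h

lemma θIso_natural_left {A A' : X.Modules} (α : A ⟶ A') (B : X.Modules) :
    ((biL f).map α).app B ≫ (θIso f A' B).hom = (θIso f A B).hom ≫ ((biR f).map α).app B := by
  have h := Groth.Agent.Helper9.PullMon1.θ_natural f α (𝟙 B)
  rw [CategoryTheory.Functor.map_id, ← KoszTw.tensorBi_map_app, ← KoszTw.tensorBi_map_app] at h
  exact h

/-- pullback commutes with the tensor product, as an isomorphism of bifunctors -/
noncomputable def pbBiIso : biL f ≅ biR f :=
  NatIso.ofComponents
    (fun A => NatIso.ofComponents (fun B => θIso f A B)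
      (fun {B B'} β => θIso_natural_right f A β))
    (fun {A A'} α => by
      apply NatTrans.ext
      funext B
      exact θIso_natural_left f α B)

/-- termwise pullback of complexes -/
noncomputable abbrev pCx : CochainComplex X.Modules ℤ ⥤ CochainComplex X'.Modules ℤ :=
  (Scheme.Modules.pullback f).mapHomologicalComplex (ComplexShape.up ℤ)

variable (L K : CochainComplex X.Modules ℤ)

instance : HasMapBifunctor L K (biR f) (ComplexShape.up ℤ) := fun _ => inferInstance
instance : HasMapBifunctor L K (biL f) (ComplexShape.up ℤ) := fun _ => inferInstance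

/-- pullback commutes with the tensor product of complexes -/
noncomputable def pullTensorCxIso :
    (pCx f).obj ((DCoh.tensorCx.obj L).obj K) ≅
      (DCoh.tensorCx.obj ((pCx f).obj L)).obj ((pCx f).obj K) :=
  (Groth.Agent.Helper9.TotFun1.comparisonIso (DCoh.tensorBi (X := X)) (Scheme.Modules.pullback f)
      (ComplexShape.up ℤ) L K).symm ≪≫
    Groth.Agent.Helper9.KFlat18.mapBifunctorNatIso (ComplexShape.up ℤ) (pbBiIso f) L K ≪≫
    Groth.Agent.Helper9.TotFun2.precompIso (Scheme.Modules.pullback f) (Scheme.Modules.pullback f)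
      (DCoh.tensorBi (X := X')) L K (ComplexShape.up ℤ)

end Groth.Agent.Helper9.PullMon5

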