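import Mathlib
import Groth.Prelude.Def_DerSch
import Groth.Prelude.Def_DCoh4
import Groth.Agent.Helper9.ClImmPF1
import Groth.Agent.Helper9.StalkTensor9
import Groth.Agent.Helper9.PullMon5

/-! The direct image along a closed immersion preserves colimits; the projection formula for
complexes. -/

set_option autoImplicit false
set_option linter.style.haveILetI false
set_option linter.unusedVariables false
set_option linter.unusedSectionVars false
set_option linter.unusedSimpArgs false
universe u

namespace Groth.Agent.Helper9.ClImmPF2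

open CategoryTheory CategoryTheory.Limits AlgebraicGeometry Opposite TopologicalSpace
  MonoidalCategory HomologicalComplex
open Groth.Agent.Helper9.SkyMod4 Groth.Agent.Helper9.SkyMod5 Groth.Agent.Helper9.StalkTensor8
  Groth.Agent.Helper9.StalkTensor9 Groth.Agent.Helper9.ClImm1 Groth.Agent.Helper9.ClImmPF1
  Groth.Agent.Helper1.PF

variable {X Y : Scheme.{u}}

section Colim

variable {J : Type} [SmallCategory J]

lemma isZero_colimit_of_isZero {C : Type*} [Category C] [HasZeroMorphisms C] (D : J ⥤ C)
    [HasColimit D] (h : ∀ j, IsZero (D.obj j)) : IsZero (colimit D) := by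
  rw [IsZero.iff_id_eq_zero]
  apply colimit.hom_ext
  intro j
  exact (h j).eq_of_src _ _

variable (f : X ⟶ Y) [IsClosedImmersion f]

instance (x : X) : PreservesColimitsOfSize.{0, 0}
    (ModuleCat.restrictScalars.{u} (f.stalkMap x).hom) :=
  (ModuleCat.restrictCoextendScalarsAdj.{u} (f.stalkMap x).hom).leftAdjoint_preservesColimits

/-- the direct image along a closed immersion commutes with colimits -/
theorem isIso_post (K : J ⥤ X.Modules) :
    IsIso (colimit.post K (Scheme.Modules.pushforward f)) := by
  apply Groth.Agent.Helper9.PullMon4.isIso_of_stalks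
  intro y
  have h1 := colimit.post_post K (Scheme.Modules.pushforward f) (St y)
  haveI i1 : IsIso (colimit.post (K ⋙ Scheme.Modules.pushforward f) (St y)) := inferInstance
  by_cases hy : y ∈ Set.range f.base
  · obtain ⟨x, rfl⟩ := hy
    haveI : PreservesColimit K (Scheme.Modules.pushforward f ⋙ St (f.base x)) :=
      preservesColimit_of_natIso K (pushStalkIso f (isClosedEmbedding f).isInducing x).symm
    haveI i2 : IsIso (colimit.post K (Scheme.Modules.pushforward f ⋙ St (f.base x))) :=
      inferInstance
    rw [← h1] at i2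
    exact IsIso.of_isIso_comp_left
      (colimit.post (K ⋙ Scheme.Modules.pushforward f) (St (f.base x))) _
  · have hcl : IsClosed (Set.range f.base) := (isClosedEmbedding f).isClosed_range
    have hz : ∀ M : X.Modules, IsZero ((St y).obj ((Scheme.Modules.pushforward f).obj M)) :=
      fun M => @ModuleCat.isZero_of_subsingleton _ _ _ (subsingleton_stalk f hcl M y hy)
    have hz1 : IsZero ((St y).obj (colimit (K ⋙ Scheme.Modules.pushforward f))) :=
      (isZero_colimit_of_isZero ((K ⋙ Scheme.Modules.pushforward f) ⋙ St y)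
        (fun j => hz (K.obj j))).of_iso
        (asIso (colimit.post (K ⋙ Scheme.Modules.pushforward f) (St y))).symm
    exact ⟨⟨0, hz1.eq_of_src _ _, (hz _).eq_of_src _ _⟩⟩

instance preservesColimits_pushforward :
    PreservesColimitsOfSize.{0, 0} (Scheme.Modules.pushforward f) where
  preservesColimitsOfShape {J} _ :=
    { preservesColimit := fun {K} => by
        haveI := isIso_post f K
        exact preservesColimit_of_isIso_post (Scheme.Modules.pushforward f) K }

end Colim

section Cx

variable (f : X ⟶ Y) [IsClosedImmersion f]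

/-- the bifunctor `(M, N) ↦ f_*(M ⊗ f^*N)` -/
noncomputable abbrev biL : X.Modules ⥤ Y.Modules ⥤ Y.Modules :=
  Groth.Agent.Helper9.TotFun1.FG
    (Groth.Agent.Helper9.TotFun2.GF (𝟭 X.Modules) (Scheme.Modules.pullback f)
      (DCoh.tensorBi (X := X)))
    (Scheme.Modules.pushforward f)

/-- the bifunctor `(M, N) ↦ f_*M ⊗ N` -/
noncomputable abbrev biR : X.Modules ⥤ Y.Modules ⥤ Y.Modules :=
  Groth.Agent.Helper9.TotFun2.GF (Scheme.Modules.pushforward f) (𝟭 Y.Modules)
    (DCoh.tensorBi (X := Y))

/-- the projection morphism as an isomorphism -/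
noncomputable def pIso (M : X.Modules) (N : Y.Modules) :
    ((biR f).obj M).obj N ≅ ((biL f).obj M).obj N :=
  @asIso _ _ _ _ (projMap f M N) (isIso_projMap f M N)

lemma pIso_natural_right (M : X.Modules) {N N' : Y.Modules} (ψ : N ⟶ N') :
    ((biR f).obj M).map ψ ≫ (pIso f M N').hom = (pIso f M N).hom ≫ ((biL f).obj M).map ψ := by
  have h := projMap_natural f (𝟙 M) ψ
  rw [CategoryTheory.Functor.map_id, ← KoszTw.tensorBi_obj_map, ← KoszTw.tensorBi_obj_map] at h
  exact h

lemma pIso_natural_left {M M' : X.Modules} (φ : M ⟶ M') (N : Y.Modules) :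
    ((biR f).map φ).app N ≫ (pIso f M' N).hom = (pIso f M N).hom ≫ ((biL f).map φ).app N := by
  have h := projMap_natural f φ (𝟙 N)
  rw [CategoryTheory.Functor.map_id, ← KoszTw.tensorBi_map_app, ← KoszTw.tensorBi_map_app] at h
  exact h

/-- the projection formula as an isomorphism of bifunctors -/
noncomputable def biIso : biR f ≅ biL f :=
  NatIso.ofComponents
    (fun M => NatIso.ofComponents (fun N => pIso f M N)
      (fun {N N'} ψ => pIso_natural_right f M ψ))
    (fun {M M'} φ => by
      apply NatTrans.ext
      funext N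
      exact pIso_natural_left f φ N)

/-- termwise pullback of complexes -/
noncomputable abbrev pCx : CochainComplex Y.Modules ℤ ⥤ CochainComplex X.Modules ℤ :=
  (Scheme.Modules.pullback f).mapHomologicalComplex (ComplexShape.up ℤ)

/-- termwise direct image of complexes -/
noncomputable abbrev pushCx : CochainComplex X.Modules ℤ ⥤ CochainComplex Y.Modules ℤ :=
  (Scheme.Modules.pushforward f).mapHomologicalComplex (ComplexShape.up ℤ)

variable (F : CochainComplex X.Modules ℤ) (P : CochainComplex Y.Modules ℤ)

instance : HasMapBifunctor F P (biR f) (ComplexShape.up ℤ) := fun _ => inferInstance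
instance : HasMapBifunctor F P (biL f) (ComplexShape.up ℤ) := fun _ => inferInstance
instance : HasMapBifunctor F P
    (Groth.Agent.Helper9.TotFun2.GF (𝟭 X.Modules) (Scheme.Modules.pullback f)
      (DCoh.tensorBi (X := X))) (ComplexShape.up ℤ) := fun _ => inferInstance

/-- `F ⊗ f^* P` as the total complex of a bifunctor -/
noncomputable def tensorPullIso :
    mapBifunctor F P
      (Groth.Agent.Helper9.TotFun2.GF (𝟭 X.Modules) (Scheme.Modules.pullback f)
        (DCoh.tensorBi (X := X))) (ComplexShape.up ℤ) ≅
      (DCoh.tensorCx.obj F).obj ((pCx f).obj P) :=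
  Groth.Agent.Helper9.TotFun2.precompIso (𝟭 X.Modules) (Scheme.Modules.pullback f)
      (DCoh.tensorBi (X := X)) F P (ComplexShape.up ℤ) ≪≫
    (DCoh.tensorCx.mapIso ((Functor.mapHomologicalComplexIdIso X.Modules
      (ComplexShape.up ℤ)).app F)).app ((pCx f).obj P)

/-- **the projection formula for complexes**, for a closed immersion -/
noncomputable def projCxIso :
    (DCoh.tensorCx.obj ((pushCx f).obj F)).obj P ≅
      (pushCx f).obj ((DCoh.tensorCx.obj F).obj ((pCx f).obj P)) :=
  (DCoh.tensorCx.obj ((pushCx f).obj F)).mapIso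
      ((Functor.mapHomologicalComplexIdIso Y.Modules (ComplexShape.up ℤ)).app P).symm ≪≫
    (Groth.Agent.Helper9.TotFun2.precompIso (Scheme.Modules.pushforward f) (𝟭 Y.Modules)
      (DCoh.tensorBi (X := Y)) F P (ComplexShape.up ℤ)).symm ≪≫
    Groth.Agent.Helper9.KFlat18.mapBifunctorNatIso (ComplexShape.up ℤ) (biIso f) F P ≪≫
    Groth.Agent.Helper9.TotFun1.comparisonIso
      (Groth.Agent.Helper9.TotFun2.GF (𝟭 X.Modules) (Scheme.Modules.pullback f)
        (DCoh.tensorBi (X := X))) (Scheme.Modules.pushforward f) (ComplexShape.up ℤ) F P ≪≫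
    (pushCx f).mapIso (tensorPullIso f F P)

end Cx

end Groth.Agent.Helper9.ClImmPF2
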