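import Mathlib
import Groth.Prelude.Def_DerSch2
import Groth.Agent.Helper9.ClImm1
import Groth.Agent.Lead.PcLib9

/-! Relative pseudo-coherence (chart form) on a quasi-compact scheme bounds the cohomology above. -/

set_option autoImplicit false
set_option linter.style.haveILetI false
set_option linter.unusedVariables false
set_option linter.unusedSectionVars false
set_option linter.unusedSimpArgs false
universe u

namespace Groth.Agent.Helper9.ClImm3

open CategoryTheory CategoryTheory.Limits AlgebraicGeometry Opposite TopologicalSpace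
open Groth.Agent.Lead.PerfLib Groth.Agent.Lead.PcLib Groth.Agent.Helper9.ClImm1

attribute [local instance] HasDerivedCategory.standard

/-- a cohomological bound from local bounds on a quasi-compact scheme -/
theorem exists_isLE_of_locally {X : Scheme.{u}} [CompactSpace X] (E : DCoh.D X)
    (F₀ : CochainComplex X.Modules ℤ) (e₀ : DerivedCategory.Q.obj F₀ ≅ E)
    (h : ∀ x : X, ∃ (U : X.Opens) (b : ℤ), x ∈ U ∧
      ∀ j : ℤ, b < j → IsZero ((F₀.homology j).restrict U.ι)) : ∃ b : ℤ, E.IsLE b := by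
  choose U b hxU hUb using h
  obtain ⟨t, ht⟩ := isCompact_univ.elim_finite_subcover
    (fun x => ((U x : X.Opens) : Set X)) (fun x => (U x).isOpen)
    (fun y _ => Set.mem_iUnion.mpr ⟨y, hxU y⟩)
  obtain ⟨B, hB⟩ := (t.image b).exists_le
  have hcov : ∀ y : X, ∃ x ∈ t, y ∈ U x := by
    intro y
    have := ht (Set.mem_univ y)
    simp only [Set.mem_iUnion] at this
    obtain ⟨x, hxt, hy⟩ := this
    exact ⟨x, hxt, hy⟩
  refine ⟨B, ?_⟩
  rw [DerivedCategory.isLE_iff]
  intro i hi
  refine IsZero.of_iso ?_ (hdIso e₀ i)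
  apply isZero_of_locally
  intro y
  obtain ⟨x, hxt, hy⟩ := hcov y
  refine ⟨U x, (U x).ι, inferInstance, ⟨⟨y, hy⟩, rfl⟩, hUb x i ?_⟩
  have h1 := hB (b x) (Finset.mem_image_of_mem _ hxt)
  omega

/-- an `m`-pseudo-coherent object on a quasi-compact scheme is bounded above -/
theorem exists_isLE_of_isPseudoCoherentD {X : Scheme.{u}} [CompactSpace X] (E : DCoh.D X)
    (m : ℤ) (h : DCoh.IsPseudoCoherentD m E) : ∃ b : ℤ, E.IsLE b := by
  let F₀ : CochainComplex X.Modules ℤ := DerivedCategory.Q.objPreimage E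
  let e₀ : DerivedCategory.Q.obj F₀ ≅ E := DerivedCategory.Q.objObjPreimageIso E
  apply exists_isLE_of_locally E F₀ e₀
  intro x
  obtain ⟨V, hxV, P, α, hP, hiso, hepi⟩ := exists_local_data_of_pseudoCoherent m E h F₀ e₀ x
  obtain ⟨a, b, hab⟩ := hP.1
  refine ⟨V, max b m, hxV, fun j hj => ?_⟩
  have hj1 : b < j := lt_of_le_of_lt (le_max_left _ _) hj
  have hj2 : m < j := lt_of_le_of_lt (le_max_right _ _) hj
  haveI := hiso j hj2
  refine IsZero.of_iso ?_ (asIso (homologyMapOfQ α j) ≪≫ homologyRestrictIso V.ι F₀ j).symm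
  apply isZero_homology_of_isZero
  exact hab j (Or.inr hj1)

variable {X Y : Scheme.{u}}

/-- a chart on an affine open is a closed immersion -/
theorem isClosedImmersion_chartImm (U : X.Opens) (hU : IsAffineOpen U) {R : Type u} [CommRing R]
    {n : ℕ} (φ : MvPolynomial (Fin n) R →+* Γ(X, U)) (hφ : Function.Surjective φ) :
    IsClosedImmersion (DerSch.chartImm U φ) := by
  haveI : IsIso U.toSpecΓ := by
    rw [← IsAffineOpen.isoSpec_hom hU]
    infer_instance
  haveI : IsClosedImmersion (Spec.map (CommRingCat.ofHom φ)) :=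
    IsClosedImmersion.spec_of_surjective (CommRingCat.ofHom φ) hφ
  unfold DerSch.chartImm
  infer_instance

/-- **relative pseudo-coherence bounds the cohomology above** on a quasi-compact scheme -/
theorem exists_isLE_of_isPseudoCoherentRel [CompactSpace X] (f : X ⟶ Y) (n : ℤ) (E : DCoh.D X)
    (hE : DerSch.IsPseudoCoherentRel f n E) : ∃ b : ℤ, E.IsLE b := by
  obtain ⟨hft, 𝒱, h𝒱, hV⟩ := hE
  let F₀ : CochainComplex X.Modules ℤ := DerivedCategory.Q.objPreimage E
  let e₀ : DerivedCategory.Q.obj F₀ ≅ E := DerivedCategory.Q.objObjPreimageIso E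
  apply exists_isLE_of_locally E F₀ e₀
  intro x
  have hfx : f.base x ∈ (⊤ : Y.Opens) := Opens.mem_top _
  rw [← h𝒱] at hfx
  simp only [Opens.mem_iSup] at hfx
  obtain ⟨V, hVm, hxV⟩ := hfx
  obtain ⟨𝒰, h𝒰, hU⟩ := hV V hVm
  have hx' : x ∈ f ⁻¹ᵁ (V : Y.Opens) := hxV
  rw [← h𝒰] at hx'
  simp only [Opens.mem_iSup] at hx'
  obtain ⟨U, hUm, hxU⟩ := hx'
  have hle : (U : X.Opens) ≤ f ⁻¹ᵁ (V : Y.Opens) := by
    rw [← h𝒰]
    exact le_iSup₂ (f := fun (U : X.affineOpens) (_ : U ∈ 𝒰) => (U : X.Opens)) U hUm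
  obtain ⟨k, φ, hc, hpc⟩ := hU U hUm hle
  have hpc' := hpc F₀ ⟨e₀⟩
  haveI : IsClosedImmersion (DerSch.chartImm (U : X.Opens) φ) :=
    isClosedImmersion_chartImm (U : X.Opens) U.2 φ hc.1
  obtain ⟨b, hb⟩ := exists_isLE_of_isPseudoCoherentD _ n hpc'
  refine ⟨U, b, hxU, fun j hj => ?_⟩
  haveI := hb
  have h1 : IsZero (((DerSch.pushCx (DerSch.chartImm (U : X.Opens) φ)).obj
      ((DCoh.restrictCx (U : X.Opens)).obj F₀)).homology j) :=
    (DerivedCategory.isZero_of_isLE _ b j hj).of_iso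
      ((DerivedCategory.homologyFunctorFactors _ j).app _).symm
  have h2 := isZero_homology_of_pushforward (DerSch.chartImm (U : X.Opens) φ) _ j h1
  exact h2.of_iso (homologyRestrictIso (U : X.Opens).ι F₀ j).symm

end Groth.Agent.Helper9.ClImm3
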