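import Mathlib

/-!
# Towers and the Milnor sequence in a pretriangulated category

`LC1.main`: for a tower `E 0 ← E 1 ← ⋯` with product `∏ᶜ E` and a distinguished triangle
`∏ᶜ E ⟶ ∏ᶜ E ⟶ M ⟶ (∏ᶜ E)⟦1⟧` whose first map is `1 - shift`, and a test object `V` for which
`Hom(V, E (k+1)) → Hom(V, E k)` and `Hom(V, (E (k+1))⟦1⟧) → Hom(V, (E k)⟦1⟧)` are bijective for `k ≥ n0`,
the map `Hom(V, M) → Hom(V, (E n)⟦1⟧)` is bijective for `n ≥ n0`.
-/

set_option autoImplicit false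
set_option linter.style.haveILetI false
set_option linter.unusedSectionVars false
set_option linter.unusedVariables false

universe u

namespace Groth.Agent.Helper9.LC1

section Tower

/-- `1 - shift` is surjective on the product of a tower which is eventually bijective -/
theorem surj_one_sub : ∀ (n0 : ℕ) (A : ℕ → Type u) [inst : ∀ k, AddCommGroup (A k)]
    (σ : ∀ k, A (k + 1) →+ A k) (_ : ∀ k, n0 ≤ k → Function.Bijective (σ k)) (y : ∀ k, A k),
    ∃ x : ∀ k, A k, ∀ k, x k - σ k (x (k + 1)) = y k := by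
  intro n0
  induction n0 with
  | zero =>
    intro A inst σ hσ y
    let x : ∀ k, A k := fun k => Nat.rec (motive := A) 0
      (fun k xk => Classical.choose ((hσ k (Nat.zero_le k)).2 (xk - y k))) k
    refine ⟨x, fun k => ?_⟩
    have h : σ k (x (k + 1)) = x k - y k :=
      Classical.choose_spec ((hσ k (Nat.zero_le k)).2 (x k - y k))
    rw [h]
    abel
  | succ n ih =>
    intro A inst σ hσ y
    obtain ⟨x', hx'⟩ := ih (fun k => A (k + 1)) (fun k => σ (k + 1))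
      (fun k hk => hσ (k + 1) (by omega)) (fun k => y (k + 1))
    let x : ∀ k, A k := fun k => match k with
      | 0 => y 0 + σ 0 (x' 0)
      | (k + 1) => x' k
    refine ⟨x, fun k => ?_⟩
    cases k with
    | zero =>
      show y 0 + σ 0 (x' 0) - σ 0 (x' 0) = y 0
      abel
    | succ k => exact hx' k

/-- compatible families of an eventually bijective tower are determined by one late component -/
theorem existsUnique_compat : ∀ (n0 : ℕ) (A : ℕ → Type u) [inst : ∀ k, AddCommGroup (A k)]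
    (σ : ∀ k, A (k + 1) →+ A k) (_ : ∀ k, n0 ≤ k → Function.Bijective (σ k))
    (n : ℕ) (_ : n0 ≤ n) (a : A n),
    ∃! x : ∀ k, A k, (∀ k, σ k (x (k + 1)) = x k) ∧ x n = a := by
  intro n0
  induction n0 with
  | zero =>
    intro A inst σ hσ n _ a
    -- the case `n = 0`
    have h0 : ∀ a : A 0, ∃! x : ∀ k, A k, (∀ k, σ k (x (k + 1)) = x k) ∧ x 0 = a := by
      intro a
      let x : ∀ k, A k := fun k => Nat.rec (motive := A) a
        (fun k xk => Classical.choose ((hσ k (Nat.zero_le k)).2 xk)) k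
      refine ⟨x, ⟨fun k => Classical.choose_spec ((hσ k (Nat.zero_le k)).2 (x k)), rfl⟩, ?_⟩
      rintro x' ⟨hx', hx'0⟩
      funext k
      induction k with
      | zero => exact hx'0
      | succ k ihk =>
        apply (hσ k (Nat.zero_le k)).1
        rw [hx' k, ihk]
        exact (Classical.choose_spec ((hσ k (Nat.zero_le k)).2 (x k))).symm
    -- general `n` by induction
    have hn : ∀ n : ℕ, ∀ a : A n, ∃! x : ∀ k, A k, (∀ k, σ k (x (k + 1)) = x k) ∧ x n = a := by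
      intro n
      induction n with
      | zero => exact h0
      | succ n ihn =>
        intro a
        obtain ⟨x, ⟨hx, hxn⟩, hux⟩ := ihn (σ n a)
        refine ⟨x, ⟨hx, ?_⟩, ?_⟩
        · apply (hσ n (Nat.zero_le n)).1
          rw [hx n, hxn]
        · rintro x' ⟨hx', hx'n⟩
          apply hux
          refine ⟨hx', ?_⟩
          rw [← hx' n, hx'n]
    exact hn n a
  | succ m ih =>
    intro A inst σ hσ n hn a
    obtain ⟨n', rfl⟩ : ∃ n', n = n' + 1 := ⟨n - 1, by omega⟩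
    obtain ⟨x', ⟨hx', hx'n⟩, hux'⟩ := ih (fun k => A (k + 1)) (fun k => σ (k + 1))
      (fun k hk => hσ (k + 1) (by omega)) n' (by omega) a
    let x : ∀ k, A k := fun k => match k with
      | 0 => σ 0 (x' 0)
      | (k + 1) => x' k
    refine ⟨x, ⟨?_, hx'n⟩, ?_⟩
    · intro k
      cases k with
      | zero => rfl
      | succ k => exact hx' k
    · rintro z ⟨hz, hzn⟩
      have h1 : (fun k => z (k + 1)) = x' := hux' _ ⟨fun k => hz (k + 1), hzn⟩
      funext k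
      cases k with
      | zero =>
        show z 0 = σ 0 (x' 0)
        rw [← hz 0, ← h1]
      | succ k => exact congrFun h1 k

end Tower

open CategoryTheory Limits Pretriangulated

variable {C : Type*} [Category C] [Preadditive C] [HasZeroObject C] [HasShift C ℤ]
  [∀ n : ℤ, (shiftFunctor C n).Additive] [Pretriangulated C]

variable (E : ℕ → C) (s : ∀ n, E (n + 1) ⟶ E n) [HasProduct E]

/-- `1 - shift` on the product of a tower -/
noncomputable def b : ∏ᶜ E ⟶ ∏ᶜ E := Pi.lift (fun n => Pi.π E n - Pi.π E (n + 1) ≫ s n)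

@[reassoc]
lemma b_π (n : ℕ) : b E s ≫ Pi.π E n = Pi.π E n - Pi.π E (n + 1) ≫ s n := by
  unfold b
  rw [Pi.lift_π]

lemma shift_pi_ext {V : C} (g g' : V ⟶ (∏ᶜ E)⟦(1 : ℤ)⟧)
    (h : ∀ k, g ≫ (Pi.π E k)⟦(1 : ℤ)⟧' = g' ≫ (Pi.π E k)⟦(1 : ℤ)⟧') : g = g' := by
  have hl : IsLimit ((shiftFunctor C (1 : ℤ)).mapCone (limit.cone (Discrete.functor E))) :=
    isLimitOfPreserves _ (limit.isLimit _)
  apply hl.hom_ext
  rintro ⟨k⟩
  exact h k

lemma shift_pi_lift {V : C} (g : ∀ k, V ⟶ (E k)⟦(1 : ℤ)⟧) :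
    ∃ m : V ⟶ (∏ᶜ E)⟦(1 : ℤ)⟧, ∀ k, m ≫ (Pi.π E k)⟦(1 : ℤ)⟧' = g k := by
  have hl : IsLimit ((shiftFunctor C (1 : ℤ)).mapCone (limit.cone (Discrete.functor E))) :=
    isLimitOfPreserves _ (limit.isLimit _)
  let c : Cone (Discrete.functor E ⋙ shiftFunctor C (1 : ℤ)) :=
    { pt := V
      π := Discrete.natTrans (fun k => g k.as) }
  exact ⟨hl.lift c, fun k => hl.fac c ⟨k⟩⟩

lemma b_shift_π (k : ℕ) : (b E s)⟦(1 : ℤ)⟧' ≫ (Pi.π E k)⟦(1 : ℤ)⟧' =
    (Pi.π E k)⟦(1 : ℤ)⟧' - (Pi.π E (k + 1))⟦(1 : ℤ)⟧' ≫ (s k)⟦(1 : ℤ)⟧' := by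
  rw [← Functor.map_comp, b_π, Functor.map_sub, Functor.map_comp]

variable {M : C} (a' : ∏ᶜ E ⟶ M) (c' : M ⟶ (∏ᶜ E)⟦(1 : ℤ)⟧)
  (hT : Triangle.mk (b E s) a' c' ∈ distTriang C)

include hT in
theorem main (V : C) (n0 : ℕ)
    (h1 : ∀ k, n0 ≤ k → Function.Bijective
      (fun f : V ⟶ (E (k + 1))⟦(1 : ℤ)⟧ => f ≫ (s k)⟦(1 : ℤ)⟧'))
    (h2 : ∀ k, n0 ≤ k → Function.Bijective (fun f : V ⟶ E (k + 1) => f ≫ s k))
    (n : ℕ) (hn : n0 ≤ n) :
    Function.Bijective (fun f : V ⟶ M => f ≫ c' ≫ (Pi.π E n)⟦(1 : ℤ)⟧') := by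
  -- the two towers of abelian groups
  let σ1 : ∀ k, (V ⟶ (E (k + 1))⟦(1 : ℤ)⟧) →+ (V ⟶ (E k)⟦(1 : ℤ)⟧) := fun k =>
    { toFun := fun f => f ≫ (s k)⟦(1 : ℤ)⟧'
      map_zero' := zero_comp
      map_add' := fun f g => Preadditive.add_comp _ _ _ _ _ _ }
  let σ2 : ∀ k, (V ⟶ E (k + 1)) →+ (V ⟶ E k) := fun k =>
    { toFun := fun f => f ≫ s k
      map_zero' := zero_comp
      map_add' := fun f g => Preadditive.add_comp _ _ _ _ _ _ }
  have hc'b : c' ≫ (b E s)⟦(1 : ℤ)⟧' = 0 := comp_distTriang_mor_zero₃₁ _ hT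
  have hba' : b E s ≫ a' = 0 := comp_distTriang_mor_zero₁₂ _ hT
  -- compatibility of the family attached to a morphism to `M`
  have hcompat : ∀ g : V ⟶ M, ∀ k, σ1 k (g ≫ c' ≫ (Pi.π E (k + 1))⟦(1 : ℤ)⟧') =
      g ≫ c' ≫ (Pi.π E k)⟦(1 : ℤ)⟧' := by
    intro g k
    show (g ≫ c' ≫ (Pi.π E (k + 1))⟦(1 : ℤ)⟧') ≫ (s k)⟦(1 : ℤ)⟧' = _
    have h := b_shift_π E s k
    have h' : c' ≫ ((Pi.π E k)⟦(1 : ℤ)⟧' -
        (Pi.π E (k + 1))⟦(1 : ℤ)⟧' ≫ (s k)⟦(1 : ℤ)⟧') = 0 := by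
      rw [← h, ← Category.assoc, hc'b, zero_comp]
    rw [Preadditive.comp_sub, sub_eq_zero] at h'
    rw [Category.assoc, Category.assoc, ← h']
  constructor
  · -- injectivity
    intro f f' hff'
    have hg : (f - f') ≫ c' ≫ (Pi.π E n)⟦(1 : ℤ)⟧' = 0 := by
      rw [Preadditive.sub_comp]
      exact sub_eq_zero.2 hff'
    obtain ⟨x, -, hux⟩ := existsUnique_compat n0 (fun k => V ⟶ (E k)⟦(1 : ℤ)⟧) σ1 h1 n hn 0
    have e1 : (fun k => (f - f') ≫ c' ≫ (Pi.π E k)⟦(1 : ℤ)⟧') = x :=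
      hux _ ⟨hcompat (f - f'), hg⟩
    have e2 : (fun k => (0 : V ⟶ (E k)⟦(1 : ℤ)⟧)) = x :=
      hux _ ⟨fun k => map_zero (σ1 k), rfl⟩
    have hgc : (f - f') ≫ c' = 0 := by
      apply shift_pi_ext
      intro k
      rw [Category.assoc, zero_comp]
      exact (congrFun e1 k).trans (congrFun e2 k).symm
    obtain ⟨h, hh⟩ : ∃ h : V ⟶ ∏ᶜ E, f - f' = h ≫ a' :=
      Triangle.coyoneda_exact₃ _ hT (f - f') hgc
    obtain ⟨x', hx'⟩ := surj_one_sub n0 (fun k => V ⟶ E k) σ2 h2 (fun k => h ≫ Pi.π E k)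
    have hh' : h = Pi.lift x' ≫ b E s := by
      apply Pi.hom_ext
      intro k
      rw [Category.assoc, b_π, Preadditive.comp_sub, Pi.lift_π, Pi.lift_π_assoc]
      exact (hx' k).symm
    have : f - f' = 0 := by
      rw [hh, hh', Category.assoc, hba', comp_zero]
    exact sub_eq_zero.1 this
  · -- surjectivity
    intro a
    obtain ⟨x, ⟨hx, hxn⟩, -⟩ := existsUnique_compat n0 (fun k => V ⟶ (E k)⟦(1 : ℤ)⟧) σ1 h1 n hn a
    obtain ⟨m, hm⟩ := shift_pi_lift E x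
    have hmb : m ≫ (b E s)⟦(1 : ℤ)⟧' = 0 := by
      apply shift_pi_ext
      intro k
      rw [Category.assoc, b_shift_π, Preadditive.comp_sub, zero_comp, ← Category.assoc, hm, hm,
        sub_eq_zero]
      exact (hx k).symm
    obtain ⟨f, hf⟩ : ∃ f : V ⟶ M, m = f ≫ c' := Triangle.coyoneda_exact₁ _ hT m hmb
    refine ⟨f, ?_⟩
    show f ≫ c' ≫ (Pi.π E n)⟦(1 : ℤ)⟧' = a
    have : f ≫ c' = m := hf.symm
    rw [← Category.assoc, this, hm, hxn]

end Groth.Agent.Helper9.LC1
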