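import Mathlib

/-!
# Detecting cohomology of objects of the derived category by maps from shifted generators
-/

set_option autoImplicit false
set_option linter.style.haveILetI false
set_option linter.unusedSectionVars false
set_option linter.unusedVariables false

universe w v u

namespace Groth.Agent.Helper9.LC3

open CategoryTheory Limits Pretriangulated DerivedCategory

variable {A : Type u} [Category.{v} A] [Abelian A] [HasDerivedCategory.{w} A]

/-- the test object `G` placed in degree `i` -/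
noncomputable abbrev W (G : A) (i : ℤ) : DerivedCategory A := (singleFunctor A i).obj G

/-- `(W G i')⟦n⟧ ≅ W G i` when `n + i = i'` -/
noncomputable def wShift (G : A) (n i i' : ℤ) (h : n + i = i') : (W G i')⟦n⟧ ≅ W G i :=
  ((singleFunctors A).shiftIso n i i' h).app G

/-- if all maps from the `W G i`, `G` in a separating class, to `X` vanish, then `H^i(X) = 0` -/
theorem isZero_homology_of_hom_eq_zero (𝒢 : ObjectProperty A) (h𝒢 : 𝒢.IsSeparating)
    (X : DerivedCategory A) (i : ℤ) (h : ∀ G, 𝒢 G → ∀ f : W G i ⟶ X, f = 0) :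
    IsZero ((homologyFunctor A i).obj X) := by
  let K := Q.objPreimage X
  let e : Q.obj K ≅ X := Q.objObjPreimageIso X
  suffices hK : IsZero (K.homology i) by
    exact hK.of_iso ((homologyFunctor A i).mapIso e.symm ≪≫ (homologyFunctorFactors A i).app K)
  have h0 : K.homologyπ i = 0 := by
    apply h𝒢
    intro G hG z
    rw [comp_zero]
    let zh : (HomologicalComplex.single A (ComplexShape.up ℤ) i).obj G ⟶ K :=
      HomologicalComplex.mkHomFromSingle (z ≫ K.iCycles i) (fun k hk => by simp)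
    have hf := h G hG (((singleFunctorIsoCompQ A i).hom.app G) ≫ Q.map zh ≫ e.hom)
    have hQ : Q.map zh = 0 := by
      have h1 : Q.map zh ≫ e.hom = 0 := (Category.id_comp _).symm.trans hf
      rw [← cancel_mono e.hom, h1, zero_comp]
    have hH : HomologicalComplex.homologyMap zh i = 0 := by
      have h2 := homologyFunctorFactors_hom_naturality zh i
      rw [hQ, Functor.map_zero, zero_comp] at h2
      exact (cancel_epi ((homologyFunctorFactors A i).hom.app
        ((HomologicalComplex.single A (ComplexShape.up ℤ) i).obj G))).1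
          (h2.symm.trans comp_zero.symm)
    let S := (HomologicalComplex.single A (ComplexShape.up ℤ) i).obj G
    let ζ : G ⟶ S.cycles i :=
      S.liftCycles (HomologicalComplex.singleObjXSelf (ComplexShape.up ℤ) i G).inv (i + 1)
        (by simp) (by rw [HomologicalComplex.single_obj_d, comp_zero])
    have hζ : ζ ≫ HomologicalComplex.cyclesMap zh i = z := by
      rw [← cancel_mono (K.iCycles i), Category.assoc, HomologicalComplex.cyclesMap_i,
        HomologicalComplex.liftCycles_i_assoc, HomologicalComplex.mkHomFromSingle_f,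
        Iso.inv_hom_id_assoc]
    rw [← hζ, Category.assoc, ← HomologicalComplex.homologyπ_naturality, hH, comp_zero, comp_zero]
  have : Epi (K.homologyπ i) := inferInstance
  rw [h0] at this
  exact (IsZero.iff_id_eq_zero _).2 ((cancel_epi (0 : K.cycles i ⟶ K.homology i)).1 (by simp))

/-- maps from the test objects to a cone vanish -/
theorem hom_cone_eq_zero {Y Y' Z : DerivedCategory A} (φ : Y ⟶ Y') (g : Y' ⟶ Z)
    (δ : Z ⟶ Y⟦(1 : ℤ)⟧) (hT : Triangle.mk φ g δ ∈ distTriang _) (G : A) (i : ℤ)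
    (hs : Function.Surjective (fun f : W G i ⟶ Y => f ≫ φ))
    (hi : Function.Injective (fun f : W G (i + 1) ⟶ Y => f ≫ φ))
    (f : W G i ⟶ Z) : f = 0 := by
  let σ : (W G (i + 1))⟦(1 : ℤ)⟧ ≅ W G i := wShift G 1 i (i + 1) (by omega)
  obtain ⟨g', hg'⟩ : ∃ g' : W G (i + 1) ⟶ Y, g'⟦(1 : ℤ)⟧' = σ.hom ≫ f ≫ δ :=
    ⟨(shiftFunctor _ (1 : ℤ)).preimage (σ.hom ≫ f ≫ δ), Functor.map_preimage _ _⟩
  have hδφ : δ ≫ φ⟦(1 : ℤ)⟧' = 0 := comp_distTriang_mor_zero₃₁ _ hT
  have h1 : g' ≫ φ = 0 ≫ φ := by
    apply (shiftFunctor (DerivedCategory A) (1 : ℤ)).map_injective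
    rw [Functor.map_comp, hg', zero_comp, Functor.map_zero, Category.assoc, Category.assoc, hδφ,
      comp_zero, comp_zero]
  have h2 : g' = 0 := hi h1
  have h3 : f ≫ δ = 0 := by
    rw [← cancel_epi σ.hom, ← hg', h2, Functor.map_zero, comp_zero]
  obtain ⟨f', hf'⟩ : ∃ f' : W G i ⟶ Y', f = f' ≫ g := Triangle.coyoneda_exact₃ _ hT f h3
  obtain ⟨f'', hf''⟩ := hs f'
  have hφg : φ ≫ g = 0 := comp_distTriang_mor_zero₁₂ _ hT
  rw [hf', ← hf'']
  show (f'' ≫ φ) ≫ g = 0
  rw [Category.assoc, hφg, comp_zero]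

/-- a morphism inducing bijections on maps from the test objects in degrees around `q` is an
isomorphism on `H^q` -/
theorem isIso_homologyMap (𝒢 : ObjectProperty A) (h𝒢 : 𝒢.IsSeparating)
    {Y Y' : DerivedCategory A} (φ : Y ⟶ Y') (q : ℤ)
    (hs : ∀ G, 𝒢 G → ∀ i, (i = q - 1 ∨ i = q) →
      Function.Surjective (fun f : W G i ⟶ Y => f ≫ φ))
    (hi : ∀ G, 𝒢 G → ∀ i, (i = q ∨ i = q + 1) →
      Function.Injective (fun f : W G i ⟶ Y => f ≫ φ)) :
    IsIso ((homologyFunctor A q).map φ) := by
  obtain ⟨Z, g, δ, hT⟩ := distinguished_cocone_triangle φ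
  have hZ1 : IsZero ((homologyFunctor A (q - 1)).obj Z) := by
    apply isZero_homology_of_hom_eq_zero 𝒢 h𝒢
    intro G hG f
    exact hom_cone_eq_zero φ g δ hT G (q - 1) (hs G hG _ (Or.inl rfl))
      (hi G hG _ (Or.inl (by omega))) f
  have hZ2 : IsZero ((homologyFunctor A q).obj Z) := by
    apply isZero_homology_of_hom_eq_zero 𝒢 h𝒢
    intro G hG f
    exact hom_cone_eq_zero φ g δ hT G q (hs G hG _ (Or.inr rfl))
      (hi G hG _ (Or.inr rfl)) f
  have hepi : Epi ((homologyFunctor A q).map φ) :=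
    (HomologySequence.epi_homologyMap_mor₁_iff _ hT q).2 (hZ2.eq_of_tgt _ _)
  have hmono : Mono ((homologyFunctor A q).map φ) :=
    (HomologySequence.mono_homologyMap_mor₁_iff _ hT (q - 1) q (by omega)).2 (hZ1.eq_of_src _ _)
  exact isIso_of_mono_of_epi _

end Groth.Agent.Helper9.LC3
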