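import Mathlib
import Groth.Agent.Helper9.LC3

/-!
# Truncations, acyclicity with respect to a test object, bounded dévissage
-/

set_option autoImplicit false
set_option linter.style.haveILetI false
set_option linter.unusedSectionVars false
set_option linter.unusedVariables false

universe w v u

namespace Groth.Agent.Helper9.LC2

open CategoryTheory Limits Pretriangulated DerivedCategory DerivedCategory.TStructure
open Groth.Agent.Helper9.LC3

variable {A : Type u} [Category.{v} A] [Abelian A] [HasDerivedCategory.{w} A]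

/-- `H^p(X) ⟶ H^p(τ≥n X)` is an isomorphism for `p ≥ n` -/
theorem isIso_homologyMap_truncGEπ (X : DerivedCategory A) (n p : ℤ) (h : n ≤ p) :
    IsIso ((homologyFunctor A p).map ((t.truncGEπ n).app X)) := by
  have hT := t.triangleLTGE_distinguished n X
  have hmono : Mono ((homologyFunctor A p).map ((t.truncGEπ n).app X)) := by
    refine (HomologySequence.mono_homologyMap_mor₂_iff _ hT p).2 ?_
    exact (isZero_of_isLE ((t.truncLT n).obj X) (n - 1) p (by omega)).eq_of_src _ _
  have hepi : Epi ((homologyFunctor A p).map ((t.truncGEπ n).app X)) := by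
    refine (HomologySequence.epi_homologyMap_mor₂_iff _ hT p (p + 1) rfl).2 ?_
    exact (isZero_of_isLE ((t.truncLT n).obj X) (n - 1) (p + 1) (by omega)).eq_of_tgt _ _
  exact isIso_of_mono_of_epi _

/-- `H^p(τ<n X) ⟶ H^p(X)` is an isomorphism for `p < n` -/
theorem isIso_homologyMap_truncLTι (X : DerivedCategory A) (n p : ℤ) (h : p < n) :
    IsIso ((homologyFunctor A p).map ((t.truncLTι n).app X)) := by
  have hT := t.triangleLTGE_distinguished n X
  have hepi : Epi ((homologyFunctor A p).map ((t.truncLTι n).app X)) := by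
    refine (HomologySequence.epi_homologyMap_mor₁_iff _ hT p).2 ?_
    exact (isZero_of_isGE ((t.truncGE n).obj X) n p h).eq_of_tgt _ _
  have hmono : Mono ((homologyFunctor A p).map ((t.truncLTι n).app X)) := by
    refine (HomologySequence.mono_homologyMap_mor₁_iff _ hT (p - 1) p (by omega)).2 ?_
    exact (isZero_of_isGE ((t.truncGE n).obj X) n (p - 1) (by omega)).eq_of_src _ _
  exact isIso_of_mono_of_epi _

/-- `G` has no higher extensions by `F` -/
def Acyc (G F : A) : Prop := ∀ (i j : ℤ), j < i → ∀ f : W G i ⟶ W F j, f = 0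

lemma Acyc.of_iso {G F F' : A} (h : Acyc G F) (e : F ≅ F') : Acyc G F' := by
  intro i j hij f
  have := h i j hij (f ≫ (singleFunctor A j).map e.inv)
  rw [← cancel_mono ((singleFunctor A j).map e.inv), this, zero_comp]

lemma Acyc.of_isZero {G F : A} (h : IsZero F) : Acyc G F := by
  intro i j _ f
  exact (((singleFunctor A j).map_isZero h)).eq_of_tgt _ _

lemma hom_single_eq_zero {G F : A} (h : Acyc G F) (i j : ℤ) (hij : i ≠ j) (f : W G i ⟶ W F j) :
    f = 0 := by
  rcases lt_or_gt_of_ne hij with h1 | h1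
  · exact t.zero_of_isLE_of_isGE f i j h1 inferInstance inferInstance
  · exact h i j h1 f

/-- a version for objects isomorphic to single objects -/
lemma hom_eq_zero_of_iso_single {G F : A} (h : Acyc G F) (i j : ℤ) (hij : i ≠ j)
    {Y : DerivedCategory A} (e : Y ≅ W F j) (f : W G i ⟶ Y) : f = 0 := by
  have := hom_single_eq_zero h i j hij (f ≫ e.hom)
  rw [← cancel_mono e.hom, this, zero_comp]

/-- an object concentrated in one degree is a single object on its cohomology -/
lemma exists_iso_single (Y : DerivedCategory A) (j : ℤ) [Y.IsGE j] [Y.IsLE j] :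
    ∃ F : A, Nonempty (Y ≅ W F j) ∧ Nonempty (F ≅ (homologyFunctor A j).obj Y) := by
  obtain ⟨F, ⟨e⟩⟩ := exists_iso_singleFunctor_obj_of_isGE_of_isLE Y j
  exact ⟨F, ⟨e⟩, ⟨((singleFunctorCompHomologyFunctorIso A j).app F).symm ≪≫
    (homologyFunctor A j).mapIso e.symm⟩⟩

/-- bounded dévissage: no maps from `G` placed above the amplitude -/
theorem hom_eq_zero_of_bounded (G : A) : ∀ (N : ℕ) (Y : DerivedCategory A) (a : ℤ)
    (_ : Y.IsGE a) (_ : Y.IsLE (a + N - 1))
    (_ : ∀ p : ℤ, Acyc G ((homologyFunctor A p).obj Y)) (i : ℤ) (_ : a + N - 1 < i)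
    (f : W G i ⟶ Y), f = 0 := by
  intro N
  induction N with
  | zero =>
    intro Y a h1 h2 _ i _ f
    have : IsZero Y := t.isZero Y (a + (0 : ℕ) - 1) a (by simp)
    exact this.eq_of_tgt _ _
  | succ N ih =>
    intro Y a h1 h2 hac i hi f
    have hb : a + ((N + 1 : ℕ) : ℤ) - 1 = a + N := by push_cast; ring
    rw [hb] at h2 hi
    have hT := t.triangleLTGE_distinguished (a + N) Y
    haveI : ((t.truncGE (a + N)).obj Y).IsLE (a + N) := inferInstance
    haveI : ((t.truncGE (a + N)).obj Y).IsGE (a + N) := inferInstance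
    obtain ⟨F, ⟨e⟩, ⟨eF⟩⟩ := exists_iso_single ((t.truncGE (a + N)).obj Y) (a + N)
    have hF : Acyc G F := by
      haveI := isIso_homologyMap_truncGEπ Y (a + N) (a + N) le_rfl
      exact (hac (a + N)).of_iso
        (asIso ((homologyFunctor A (a + N)).map ((t.truncGEπ (a + N)).app Y)) ≪≫ eF.symm)
    have h0 : f ≫ (t.truncGEπ (a + N)).app Y = 0 :=
      hom_eq_zero_of_iso_single hF i (a + N) (by omega) e _
    obtain ⟨f₁, hf₁⟩ : ∃ f₁ : W G i ⟶ (t.truncLT (a + N)).obj Y,
        f = f₁ ≫ (t.truncLTι (a + N)).app Y := Triangle.coyoneda_exact₂ _ hT f h0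
    have hf₁0 : f₁ = 0 := by
      refine ih ((t.truncLT (a + N)).obj Y) a inferInstance
        (t.isLE_of_le _ (a + N - 1) (a + N - 1) le_rfl) ?_ i (by omega) f₁
      intro p
      by_cases hp : p < a + N
      · haveI := isIso_homologyMap_truncLTι Y (a + N) p hp
        exact (hac p).of_iso
          (asIso ((homologyFunctor A p).map ((t.truncLTι (a + N)).app Y))).symm
      · exact Acyc.of_isZero (isZero_of_isLE ((t.truncLT (a + N)).obj Y) (a + N - 1) p (by omega))
    rw [hf₁, hf₁0, zero_comp]

end Groth.Agent.Helper9.LC2
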