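import Mathlib
import Groth.Agent.Helper9.LC1
import Groth.Agent.Helper9.LC2

/-!
# Left completeness: an object with acyclic cohomology is the homotopy limit of a truncation tower
-/

set_option autoImplicit false
set_option linter.style.haveILetI false
set_option linter.unusedSectionVars false
set_option linter.unusedVariables false

universe w v u

namespace Groth.Agent.Helper9.LC4

open CategoryTheory Limits Pretriangulated DerivedCategory DerivedCategory.TStructure
open Groth.Agent.Helper9.LC3 Groth.Agent.Helper9.LC2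

section Generic

variable {C : Type*} [Category C] [Preadditive C] [HasShift C ℤ]
  [∀ n : ℤ, (shiftFunctor C n).Additive]

lemma bijective_shift_iff {X Y Y' : C} (g : Y ⟶ Y') :
    Function.Bijective (fun f : X⟦(1 : ℤ)⟧ ⟶ Y⟦(1 : ℤ)⟧ => f ≫ g⟦(1 : ℤ)⟧') ↔
      Function.Bijective (fun f : X ⟶ Y => f ≫ g) := by
  let Φ : ∀ (Z : C), (X ⟶ Z) ≃ (X⟦(1 : ℤ)⟧ ⟶ Z⟦(1 : ℤ)⟧) := fun Z =>
    (Functor.FullyFaithful.ofFullyFaithful (shiftFunctor C (1 : ℤ))).homEquiv
  have hΦ : ∀ (Z : C) (f : X ⟶ Z), Φ Z f = f⟦(1 : ℤ)⟧' := fun Z f => rfl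
  have hcomm : (fun f : X⟦(1 : ℤ)⟧ ⟶ Y⟦(1 : ℤ)⟧ => f ≫ g⟦(1 : ℤ)⟧') ∘ (Φ Y) =
      (Φ Y') ∘ (fun f : X ⟶ Y => f ≫ g) := by
    funext f
    simp [hΦ]
  constructor
  · intro h
    have h1 : Function.Bijective ((Φ Y') ∘ (fun f : X ⟶ Y => f ≫ g)) := by
      rw [← hcomm]
      exact h.comp (Φ Y).bijective
    exact (Function.Bijective.of_comp_iff' (Φ Y').bijective _).1 h1
  · intro h
    have h1 : Function.Bijective
        ((fun f : X⟦(1 : ℤ)⟧ ⟶ Y⟦(1 : ℤ)⟧ => f ≫ g⟦(1 : ℤ)⟧') ∘ (Φ Y)) := by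
      rw [hcomm]
      exact (Φ Y').bijective.comp h
    exact (Function.Bijective.of_comp_iff _ (Φ Y).bijective).1 h1

omit [Preadditive C] [HasShift C ℤ] [∀ n : ℤ, (shiftFunctor C n).Additive] in
lemma bijective_of_iso {X X' Y Y' : C} (e : X ≅ X') (g : Y ⟶ Y')
    (h : Function.Bijective (fun f : X' ⟶ Y => f ≫ g)) :
    Function.Bijective (fun f : X ⟶ Y => f ≫ g) := by
  let Ψ : ∀ (Z : C), (X ⟶ Z) ≃ (X' ⟶ Z) := fun Z =>
    { toFun := fun f => e.inv ≫ f
      invFun := fun f => e.hom ≫ f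
      left_inv := fun f => by simp
      right_inv := fun f => by simp }
  have hcomm : (fun f : X ⟶ Y => f ≫ g) = (Ψ Y').symm ∘ (fun f : X' ⟶ Y => f ≫ g) ∘ (Ψ Y) := by
    funext f
    simp [Ψ]
  rw [hcomm]
  exact (Ψ Y').symm.bijective.comp (h.comp (Ψ Y).bijective)

end Generic

variable {A : Type u} [Category.{v} A] [Abelian A] [HasDerivedCategory.{w} A]

variable (E : DerivedCategory A) (En : ℕ → DerivedCategory A)
  (s : ∀ n, En (n + 1) ⟶ En n) (τ : ∀ n, E ⟶ En n)
  (hτs : ∀ n, τ (n + 1) ≫ s n = τ n)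
  (hGE : ∀ n : ℕ, (En n).IsGE (-(n : ℤ)))
  (hiso : ∀ (n : ℕ) (p : ℤ), -(n : ℤ) ≤ p → IsIso ((homologyFunctor A p).map (τ n)))

include hτs hiso in
lemma isIso_homology_s (n : ℕ) (p : ℤ) (hp : -(n : ℤ) ≤ p) :
    IsIso ((homologyFunctor A p).map (s n)) := by
  have h1 : IsIso ((homologyFunctor A p).map (τ (n + 1))) := hiso (n + 1) p (by push_cast; omega)
  have h2 : IsIso ((homologyFunctor A p).map (τ (n + 1)) ≫ (homologyFunctor A p).map (s n)) := by
    rw [← Functor.map_comp, hτs]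
    exact hiso n p hp
  exact IsIso.of_isIso_comp_left ((homologyFunctor A p).map (τ (n + 1))) _

include hGE in
lemma isZero_homology_En (n : ℕ) (p : ℤ) (hp : p < -(n : ℤ)) :
    IsZero ((homologyFunctor A p).obj (En n)) := by
  haveI := hGE n
  exact isZero_of_isGE (En n) (-(n : ℤ)) p hp

include hτs hiso hGE in
lemma epi_homology_s (n : ℕ) (p : ℤ) : Epi ((homologyFunctor A p).map (s n)) := by
  by_cases hp : -(n : ℤ) ≤ p
  · haveI := isIso_homology_s E En s τ hτs hiso n p hp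
    infer_instance
  · constructor
    intro Z g h _
    exact (isZero_homology_En En hGE n p (by omega)).eq_of_src _ _

include hτs hiso hGE in
lemma mono_homology_s (n : ℕ) (p : ℤ) (hp : p ≠ -(n : ℤ) - 1) :
    Mono ((homologyFunctor A p).map (s n)) := by
  by_cases hp' : -(n : ℤ) ≤ p
  · haveI := isIso_homology_s E En s τ hτs hiso n p hp'
    infer_instance
  · constructor
    intro Z g h _
    exact (isZero_homology_En En hGE (n + 1) p (by push_cast; omega)).eq_of_tgt _ _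

include hτs hiso hGE in
/-- the fibre of a transition map is a single object on the corresponding cohomology of `E` -/
lemma exists_fibre (n : ℕ) : ∃ (Z : DerivedCategory A) (f : Z ⟶ En (n + 1))
    (h : En n ⟶ Z⟦(1 : ℤ)⟧) (_ : Triangle.mk f (s n) h ∈ distTriang _) (F : A),
    Nonempty (Z ≅ W F (-(n : ℤ) - 1)) ∧
      Nonempty (F ≅ (homologyFunctor A (-(n : ℤ) - 1)).obj E) := by
  obtain ⟨Z, f, h, hT⟩ := distinguished_cocone_triangle₁ (s n)
  have hz : ∀ p : ℤ, p ≠ -(n : ℤ) - 1 → IsZero ((homologyFunctor A p).obj Z) := by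
    intro p hp
    have h1 : Mono ((homologyFunctor A p).map f) := by
      refine (HomologySequence.mono_homologyMap_mor₁_iff _ hT (p - 1) p (by omega)).2 ?_
      exact (HomologySequence.epi_homologyMap_mor₂_iff _ hT (p - 1) p (by omega)).1
        (epi_homology_s E En s τ hτs hGE hiso n (p - 1))
    have h2 : (homologyFunctor A p).map f = 0 := by
      exact (HomologySequence.mono_homologyMap_mor₂_iff _ hT p).1
        (mono_homology_s E En s τ hτs hGE hiso n p hp)
    exact IsZero.of_mono_eq_zero _ h2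
  haveI : Z.IsGE (-(n : ℤ) - 1) := by
    rw [isGE_iff]
    intro i hi
    exact hz i (by omega)
  haveI : Z.IsLE (-(n : ℤ) - 1) := by
    rw [isLE_iff]
    intro i hi
    exact hz i (by omega)
  obtain ⟨F, ⟨e⟩, ⟨eF⟩⟩ := exists_iso_single Z (-(n : ℤ) - 1)
  have h3 : IsIso ((homologyFunctor A (-(n : ℤ) - 1)).map f) := by
    have h1 : Mono ((homologyFunctor A (-(n : ℤ) - 1)).map f) := by
      refine (HomologySequence.mono_homologyMap_mor₁_iff _ hT (-(n : ℤ) - 1 - 1) _ (by omega)).2 ?_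
      exact (HomologySequence.epi_homologyMap_mor₂_iff _ hT _ _ (by omega)).1
        (epi_homology_s E En s τ hτs hGE hiso n (-(n : ℤ) - 1 - 1))
    have h2 : Epi ((homologyFunctor A (-(n : ℤ) - 1)).map f) := by
      refine (HomologySequence.epi_homologyMap_mor₁_iff _ hT _).2 ?_
      exact (isZero_homology_En En hGE n _ (by omega)).eq_of_tgt _ _
    exact isIso_of_mono_of_epi _
  have h4 : IsIso ((homologyFunctor A (-(n : ℤ) - 1)).map (τ (n + 1))) :=
    hiso (n + 1) _ (by push_cast; omega)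
  exact ⟨Z, f, h, hT, F, ⟨e⟩, ⟨eF ≪≫ asIso ((homologyFunctor A (-(n : ℤ) - 1)).map f) ≪≫
    (asIso ((homologyFunctor A (-(n : ℤ) - 1)).map (τ (n + 1)))).symm⟩⟩

include hτs hiso hGE in
/-- the transition maps induce bijections on maps from test objects away from two degrees -/
lemma bijective_comp_s (G : A) (hac : ∀ p, Acyc G ((homologyFunctor A p).obj E)) (n : ℕ) (i : ℤ)
    (h1 : i ≠ -(n : ℤ) - 1) (h2 : i ≠ -(n : ℤ) - 2) :
    Function.Bijective (fun x : W G i ⟶ En (n + 1) => x ≫ s n) := by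
  obtain ⟨Z, f, h, hT, F, ⟨e⟩, ⟨eF⟩⟩ := exists_fibre E En s τ hτs hGE hiso n
  have hF : Acyc G F := (hac _).of_iso eF.symm
  constructor
  · intro x x' hxx'
    have h0 : (x - x') ≫ s n = 0 := by
      rw [Preadditive.sub_comp]
      exact sub_eq_zero.2 hxx'
    obtain ⟨y, hy⟩ : ∃ y : W G i ⟶ Z, x - x' = y ≫ f := Triangle.coyoneda_exact₂ _ hT _ h0
    have hy0 : y = 0 := hom_eq_zero_of_iso_single hF i _ h1 e y
    rw [hy0, zero_comp] at hy
    exact sub_eq_zero.1 hy
  · intro x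
    have h0 : x ≫ h = 0 := by
      refine hom_eq_zero_of_iso_single hF i (-(n : ℤ) - 2) h2
        ((shiftFunctor _ (1 : ℤ)).mapIso e ≪≫ wShift F 1 (-(n : ℤ) - 2) (-(n : ℤ) - 1) (by omega)) _
    obtain ⟨x', hx'⟩ : ∃ x' : W G i ⟶ En (n + 1), x = x' ≫ s n :=
      Triangle.coyoneda_exact₃ _ hT x h0
    exact ⟨x', hx'.symm⟩

end Groth.Agent.Helper9.LC4
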