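import Mathlib
import Groth.Agent.Helper9.LC4

/-!
# Left completeness (continued): the comparison with the homotopy limit is an isomorphism
-/

set_option autoImplicit false
set_option linter.style.haveILetI false
set_option linter.unusedSectionVars false
set_option linter.unusedVariables false

universe w v u

namespace Groth.Agent.Helper9.LC5

open CategoryTheory Limits Pretriangulated DerivedCategory DerivedCategory.TStructure
open Groth.Agent.Helper9.LC3 Groth.Agent.Helper9.LC2 Groth.Agent.Helper9.LC4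

variable {A : Type u} [Category.{v} A] [Abelian A] [HasDerivedCategory.{w} A]

variable (𝒢 : ObjectProperty A) (h𝒢 : 𝒢.IsSeparating)
  (E : DerivedCategory A) (En : ℕ → DerivedCategory A)
  (s : ∀ n, En (n + 1) ⟶ En n) (τ : ∀ n, E ⟶ En n)
  (hτs : ∀ n, τ (n + 1) ≫ s n = τ n)
  (hGE : ∀ n : ℕ, (En n).IsGE (-(n : ℤ)))
  (hiso : ∀ (n : ℕ) (p : ℤ), -(n : ℤ) ≤ p → IsIso ((homologyFunctor A p).map (τ n)))
  (hac : ∀ G, 𝒢 G → ∀ p, Acyc G ((homologyFunctor A p).obj E))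
  [HasProduct En] {M : DerivedCategory A} (a' : ∏ᶜ En ⟶ M) (c' : M ⟶ (∏ᶜ En)⟦(1 : ℤ)⟧)
  (hT : Triangle.mk (LC1.b En s) a' c' ∈ distTriang _)

include hτs in
lemma lift_comp_b : Pi.lift τ ≫ LC1.b En s = 0 := by
  apply Pi.hom_ext
  intro k
  rw [Category.assoc, LC1.b_π, Preadditive.comp_sub, Pi.lift_π, Pi.lift_π_assoc, hτs, sub_self,
    zero_comp]

include hτs hT in
lemma exists_lam : ∃ lam : E⟦(1 : ℤ)⟧ ⟶ M, lam ≫ c' = (Pi.lift τ)⟦(1 : ℤ)⟧' := by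
  have hm : (Pi.lift τ)⟦(1 : ℤ)⟧' ≫ (LC1.b En s)⟦(1 : ℤ)⟧' = 0 := by
    rw [← Functor.map_comp, lift_comp_b E En s τ hτs, Functor.map_zero]
  obtain ⟨g, hg⟩ : ∃ g : E⟦(1 : ℤ)⟧ ⟶ M, (Pi.lift τ)⟦(1 : ℤ)⟧' = g ≫ c' :=
    Triangle.coyoneda_exact₁ _ hT _ hm
  exact ⟨g, hg.symm⟩

include hτs hGE hiso hac hT in
lemma bijective_μ (G : A) (hG : 𝒢 G) (i : ℤ) (n : ℕ) (hn : (-i).toNat ≤ n) :
    Function.Bijective (fun f : W G i ⟶ M => f ≫ c' ≫ (Pi.π En n)⟦(1 : ℤ)⟧') := by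
  apply bijective_of_iso (wShift G 1 i (i + 1) (by omega)).symm
  refine LC1.main En s a' c' hT _ (-i).toNat ?_ ?_ n hn
  · intro k hk
    rw [bijective_shift_iff]
    exact bijective_comp_s E En s τ hτs hGE hiso G (hac G hG) k (i + 1) (by omega) (by omega)
  · intro k hk
    apply bijective_of_iso (wShift G 1 i (i + 1) (by omega))
    exact bijective_comp_s E En s τ hτs hGE hiso G (hac G hG) k i (by omega) (by omega)

include h𝒢 hτs hGE hiso hac hT in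
lemma isIso_homology_μ (q : ℤ) (n : ℕ) (hn : (1 - q).toNat ≤ n) :
    IsIso ((homologyFunctor A q).map (c' ≫ (Pi.π En n)⟦(1 : ℤ)⟧')) := by
  apply LC3.isIso_homologyMap 𝒢 h𝒢 _ q
  · intro G hG i hi
    exact (bijective_μ 𝒢 E En s τ hτs hGE hiso hac a' c' hT G hG i n (by omega)).2
  · intro G hG i hi
    exact (bijective_μ 𝒢 E En s τ hτs hGE hiso hac a' c' hT G hG i n (by omega)).1

omit [HasProduct En] in
lemma isIso_homology_shift {X Y : DerivedCategory A} (f : X ⟶ Y) (q : ℤ)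
    (h : IsIso ((homologyFunctor A (q + 1)).map f)) :
    IsIso ((homologyFunctor A q).map (f⟦(1 : ℤ)⟧')) := by
  let e : shiftFunctor _ (1 : ℤ) ⋙ homologyFunctor A q ≅ homologyFunctor A (q + 1) :=
    (homologyFunctor A 0).shiftIso (1 : ℤ) q (q + 1) (by omega)
  exact (NatIso.isIso_map_iff e f).2 h

include h𝒢 hτs hGE hiso hac hT in
theorem isIso_lam (lam : E⟦(1 : ℤ)⟧ ⟶ M) (hlam : lam ≫ c' = (Pi.lift τ)⟦(1 : ℤ)⟧') :
    IsIso lam := by
  rw [DerivedCategory.isIso_iff]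
  intro q
  let n : ℕ := max (1 - q).toNat (-q - 1).toNat
  have h1 : IsIso ((homologyFunctor A q).map (c' ≫ (Pi.π En n)⟦(1 : ℤ)⟧')) :=
    isIso_homology_μ 𝒢 h𝒢 E En s τ hτs hGE hiso hac a' c' hT q n (le_max_left _ _)
  have h2 : IsIso ((homologyFunctor A q).map ((τ n)⟦(1 : ℤ)⟧')) := by
    apply isIso_homology_shift
    apply hiso
    have : (-q - 1).toNat ≤ n := le_max_right _ _
    omega
  have h3 : lam ≫ c' ≫ (Pi.π En n)⟦(1 : ℤ)⟧' = (τ n)⟦(1 : ℤ)⟧' := by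
    rw [← Category.assoc, hlam, ← Functor.map_comp, Pi.lift_π]
  have h4 : IsIso ((homologyFunctor A q).map lam ≫
      (homologyFunctor A q).map (c' ≫ (Pi.π En n)⟦(1 : ℤ)⟧')) := by
    rw [← Functor.map_comp, h3]
    exact h2
  exact IsIso.of_isIso_comp_right _ ((homologyFunctor A q).map (c' ≫ (Pi.π En n)⟦(1 : ℤ)⟧'))

include h𝒢 hτs hGE hiso hac hT in
theorem key_aux (G : A) (hG : 𝒢 G) (j : ℤ) (n : ℕ) (hn : (1 - j).toNat ≤ n) :
    Function.Bijective (fun f : W G j ⟶ E => f ≫ τ n) := by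
  obtain ⟨lam, hlam⟩ := exists_lam E En s τ hτs a' c' hT
  haveI := isIso_lam 𝒢 h𝒢 E En s τ hτs hGE hiso hac a' c' hT lam hlam
  rw [← bijective_shift_iff]
  have h3 : lam ≫ c' ≫ (Pi.π En n)⟦(1 : ℤ)⟧' = (τ n)⟦(1 : ℤ)⟧' := by
    rw [← Category.assoc, hlam, ← Functor.map_comp, Pi.lift_π]
  have h5 : Function.Bijective
      (fun f : (W G j)⟦(1 : ℤ)⟧ ⟶ M => f ≫ c' ≫ (Pi.π En n)⟦(1 : ℤ)⟧') := by
    apply bijective_of_iso (wShift G 1 (j - 1) j (by omega))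
    exact bijective_μ 𝒢 E En s τ hτs hGE hiso hac a' c' hT G hG (j - 1) n (by omega)
  have h6 : Function.Bijective (fun f : (W G j)⟦(1 : ℤ)⟧ ⟶ E⟦(1 : ℤ)⟧ => f ≫ lam) :=
    ⟨fun f f' h => (cancel_mono lam).1 h, fun g => ⟨g ≫ inv lam, by simp⟩⟩
  have h7 : (fun f : (W G j)⟦(1 : ℤ)⟧ ⟶ E⟦(1 : ℤ)⟧ => f ≫ (τ n)⟦(1 : ℤ)⟧') =
      (fun f : (W G j)⟦(1 : ℤ)⟧ ⟶ M => f ≫ c' ≫ (Pi.π En n)⟦(1 : ℤ)⟧') ∘
        (fun f : (W G j)⟦(1 : ℤ)⟧ ⟶ E⟦(1 : ℤ)⟧ => f ≫ lam) := by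
    funext f
    simp only [Function.comp_apply, Category.assoc, h3]
  rw [h7]
  exact h5.comp h6

include h𝒢 hτs hGE hiso hac in
/-- **Key**: maps from a test object to `E` are maps to a sufficiently late truncation -/
theorem key (G : A) (hG : 𝒢 G) (j : ℤ) (n : ℕ) (hn : (1 - j).toNat ≤ n) :
    Function.Bijective (fun f : W G j ⟶ E => f ≫ τ n) := by
  obtain ⟨M, a', c', hT⟩ := distinguished_cocone_triangle (LC1.b En s)
  exact key_aux 𝒢 h𝒢 E En s τ hτs hGE hiso hac a' c' hT G hG j n hn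

include h𝒢 hτs hGE hiso hac in
/-- `E` is the homotopy limit of the tower -/
theorem exists_triangle : ∃ c : ∏ᶜ En ⟶ E⟦(1 : ℤ)⟧,
    Triangle.mk (Pi.lift τ) (LC1.b En s) c ∈ distTriang _ := by
  obtain ⟨M, a', c', hT⟩ := distinguished_cocone_triangle (LC1.b En s)
  obtain ⟨lam, hlam⟩ := exists_lam E En s τ hτs a' c' hT
  haveI := isIso_lam 𝒢 h𝒢 E En s τ hτs hGE hiso hac a' c' hT lam hlam
  refine ⟨-(a' ≫ inv lam), ?_⟩
  rw [rotate_distinguished_triangle]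
  let e₃ : E⟦(1 : ℤ)⟧ ≅ M :=
    { hom := -lam
      inv := -inv lam
      hom_inv_id := by simp
      inv_hom_id := by simp }
  refine isomorphic_distinguished _ hT _ ?_
  refine Triangle.isoMk _ _ (Iso.refl _) (Iso.refl _) e₃ ?_ ?_ ?_
  · exact (Category.comp_id _).trans (Category.id_comp _).symm
  · show (-(a' ≫ inv lam)) ≫ (-lam) = 𝟙 _ ≫ a'
    rw [Category.id_comp, Preadditive.neg_comp, Preadditive.comp_neg, neg_neg, Category.assoc,
      IsIso.inv_hom_id, Category.comp_id]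
  · show (-(Pi.lift τ)⟦(1 : ℤ)⟧') ≫ (𝟙 (∏ᶜ En))⟦(1 : ℤ)⟧' = (-lam) ≫ c'
    rw [CategoryTheory.Functor.map_id, Category.comp_id, Preadditive.neg_comp, hlam]

end Groth.Agent.Helper9.LC5
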