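import Mathlib
import Groth.Agent.Helper9.LC5

/-!
# Acyclicity from vanishing of `Ext`; the truncation tower
-/

set_option autoImplicit false
set_option linter.style.haveILetI false
set_option linter.unusedSectionVars false
set_option linter.unusedVariables false

universe w' w v u

namespace Groth.Agent.Helper9.LC6

open CategoryTheory Limits Pretriangulated DerivedCategory DerivedCategory.TStructure
open Groth.Agent.Helper9.LC3 Groth.Agent.Helper9.LC2

variable {A : Type u} [Category.{v} A] [Abelian A] [HasDerivedCategory.{w} A]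

/-- vanishing of higher `Ext` gives acyclicity in the sense of `LC2.Acyc` -/
theorem acyc_of_subsingleton_ext [HasExt.{w'} A] (G F : A)
    (h : ∀ n : ℕ, Subsingleton (Abelian.Ext.{w'} G F (n + 1))) : Acyc G F := by
  intro i j hij f
  obtain ⟨n, hn⟩ : ∃ n : ℕ, ((n + 1 : ℕ) : ℤ) = i - j := ⟨(i - j - 1).toNat, by
    push_cast
    omega⟩
  haveI : Subsingleton (ShiftedHom ((singleFunctor A 0).obj G) ((singleFunctor A 0).obj F)
      ((n + 1 : ℕ) : ℤ)) := by
    haveI := h n
    exact (Abelian.Ext.homEquiv (X := G) (Y := F) (n := n + 1)).symm.subsingleton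
  let f' : W G 0 ⟶ (W F 0)⟦((n + 1 : ℕ) : ℤ)⟧ :=
    (wShift G i 0 i (by omega)).inv ≫ f⟦i⟧' ≫ (wShift F i (j - i) j (by omega)).hom ≫
      (wShift F ((n + 1 : ℕ) : ℤ) (j - i) 0 (by omega)).inv
  have hf' : f' = 0 := Subsingleton.elim _ _
  have h2 : f⟦i⟧' = 0 := by
    have h3 : (wShift G i 0 i (by omega)).hom ≫ f' ≫
        (wShift F ((n + 1 : ℕ) : ℤ) (j - i) 0 (by omega)).hom ≫
          (wShift F i (j - i) j (by omega)).inv = f⟦i⟧' := by
      simp only [f', Category.assoc, Iso.hom_inv_id, Category.comp_id,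
        Iso.hom_inv_id_assoc, Iso.inv_hom_id_assoc]
    rw [← h3, hf', zero_comp, comp_zero]
  apply (shiftFunctor (DerivedCategory A) i).map_injective
  rw [h2, Functor.map_zero]

/-- the truncation tower of an object -/
noncomputable abbrev En (E : DerivedCategory A) (n : ℕ) : DerivedCategory A :=
  (t.truncGE (-(n : ℤ))).obj E

noncomputable abbrev sE (E : DerivedCategory A) (n : ℕ) : En E (n + 1) ⟶ En E n :=
  (t.natTransTruncGEOfLE (-((n + 1 : ℕ) : ℤ)) (-(n : ℤ))
    (Int.neg_le_neg (Int.ofNat_le.mpr (Nat.le_succ n)))).app E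

noncomputable abbrev τE (E : DerivedCategory A) (n : ℕ) : E ⟶ En E n :=
  (t.truncGEπ (-(n : ℤ))).app E

lemma τE_sE (E : DerivedCategory A) (n : ℕ) : τE E (n + 1) ≫ sE E n = τE E n :=
  t.π_natTransTruncGEOfLE_app _ _ _ E

variable (𝒢 : ObjectProperty A) (h𝒢 : 𝒢.IsSeparating) (E : DerivedCategory A)
  (hac : ∀ G, 𝒢 G → ∀ p, Acyc G ((homologyFunctor A p).obj E))

include h𝒢 hac in
/-- maps from a test object to `E` are maps to a late truncation -/
theorem key (G : A) (hG : 𝒢 G) (j : ℤ) (n : ℕ) (hn : (1 - j).toNat ≤ n)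
    [HasProduct (En E)] :
    Function.Bijective (fun f : W G j ⟶ E => f ≫ τE E n) :=
  LC5.key 𝒢 h𝒢 E (En E) (sE E) (τE E) (τE_sE E) (fun n => inferInstance)
    (fun n p hp => isIso_homologyMap_truncGEπ E _ p hp) hac G hG j n hn

include h𝒢 hac in
/-- `E` is the derived limit of its truncations (the form of S1007) -/
theorem exists_triangle [HasProduct (En E)] : ∃ c : ∏ᶜ (En E) ⟶ E⟦(1 : ℤ)⟧,
    Triangle.mk (Pi.lift (τE E))
      (Pi.lift (fun n : ℕ => Pi.π (En E) n - Pi.π (En E) (n + 1) ≫ sE E n)) c ∈ distTriang _ :=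
  LC5.exists_triangle 𝒢 h𝒢 E (En E) (sE E) (τE E) (τE_sE E) (fun n => inferInstance)
    (fun n p hp => isIso_homologyMap_truncGEπ E _ p hp) hac

end Groth.Agent.Helper9.LC6
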