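import Mathlib
import Groth.Agent.Helper9.LC6
import Groth.Agent.Helper9.ModCechExt
import Groth.Agent.Helper9.FreeOnHom
import Groth.Agent.Helper1.SerreD

/-!
# Free modules on affine opens of a scheme: a separating family, acyclic for quasi-coherent modules
-/

set_option autoImplicit false
set_option linter.style.haveILetI false
set_option linter.unusedSectionVars false
set_option linter.unusedVariables false

universe u

namespace Groth.Agent.Helper9.LCAff1

open CategoryTheory Limits Opposite TopologicalSpace AlgebraicGeometry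
open Groth.Agent.Helper9.LC2 Groth.Agent.Helper9.LC3

section Site

variable {C : Type u} [SmallCategory C] {J : GrothendieckTopology C} (O : Sheaf J RingCat.{u})

/-- `Hom(O[h_U]^#, F) ≃ F(U)` -/
noncomputable def secEquiv' (U : C) (F : SheafOfModules.{u} O) :
    ((ModFree.L O).obj (yoneda.obj U) ⟶ F) ≃ ((ModFree.G O).obj F).obj (op U) :=
  ((ModFree.adjL O).homEquiv (yoneda.obj U) F).trans yonedaEquiv

lemma secEquiv'_comp (U : C) {F F' : SheafOfModules.{u} O}
    (h : (ModFree.L O).obj (yoneda.obj U) ⟶ F) (f : F ⟶ F') :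
    secEquiv' O U F' (h ≫ f) = ((ModFree.G O).map f).app (op U) (secEquiv' O U F h) := by
  unfold secEquiv'
  simp only [Equiv.trans_apply]
  rw [Adjunction.homEquiv_naturality_right, yonedaEquiv_comp]

end Site

attribute [local instance] HasDerivedCategory.standard

variable {X : Scheme.{u}}

/-- representable presheaves on the site of opens are sheaves -/
lemma isSheaf_yoneda (U : X.Opens) :
    Presieve.IsSheaf (Opens.grothendieckTopology X) (yoneda.obj U) := by
  intro V S hS x hx
  have hVU : V ≤ U := by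
    intro p hp
    obtain ⟨W, f, hf, hpW⟩ := hS p hp
    exact (leOfHom (x f hf)) hpW
  refine ⟨homOfLE hVU, ?_, ?_⟩
  · intro W f hf
    exact @Subsingleton.elim (W ⟶ U) inferInstance _ _
  · intro y _
    exact @Subsingleton.elim (V ⟶ U) inferInstance _ _

/-- the representable sheaf of sets of an open -/
noncomputable def yU (U : X.Opens) : Sheaf (Opens.grothendieckTopology X) (Type u) :=
  ⟨yoneda.obj U, (isSheaf_iff_isSheaf_of_type _ _).2 (isSheaf_yoneda U)⟩

/-- the free module on an open (extension by zero of the structure sheaf) -/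
noncomputable def GU (U : X.Opens) : X.Modules :=
  (ModCechRes.Φm X.ringCatSheaf).obj (yU U)

/-- `Hom(GU U, F) ≃ F(U)` -/
noncomputable def secEquiv (U : X.Opens) (F : X.Modules) :
    (GU U ⟶ F) ≃ ((ModFree.G X.ringCatSheaf).obj F).obj (op U) :=
  secEquiv' X.ringCatSheaf U F

lemma secEquiv_comp (U : X.Opens) {F F' : X.Modules} (h : GU U ⟶ F) (f : F ⟶ F') :
    secEquiv U F' (h ≫ f) = ((ModFree.G X.ringCatSheaf).map f).app (op U) (secEquiv U F h) :=
  secEquiv'_comp X.ringCatSheaf U h f

/-- the class of free modules on affine opens -/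
def 𝒢 (X : Scheme.{u}) : ObjectProperty X.Modules :=
  fun G => ∃ U : X.Opens, IsAffineOpen U ∧ G = GU U

theorem isSeparating_𝒢 (X : Scheme.{u}) : (𝒢 X).IsSeparating := by
  intro F F' f g hfg
  refine FreeOnHom.hom_ext_of_generating (O := X.sheaf) {U : X.Opens | IsAffineOpen U} ?_ f g ?_
  · intro V
    refine ⟨{W : X.Opens // IsAffineOpen W ∧ W ≤ V}, fun W => W.1, fun W => homOfLE W.2.2, ?_,
      fun W => W.2.1⟩
    intro p hp
    obtain ⟨_, ⟨W, hW, rfl⟩, hpW, hWV⟩ :=
      X.isBasis_affineOpens.exists_subset_of_mem_open hp V.2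
    exact ⟨W, homOfLE hWV, Sieve.ofArrows_mk _ _ (⟨W, hW, hWV⟩ : {W : X.Opens // IsAffineOpen W ∧ W ≤ V}),
      hpW⟩
  · intro U hU s
    have h1 := hfg (GU U) ⟨U, hU, rfl⟩ ((secEquiv U F).symm s)
    have h2 := congrArg (secEquiv U F') h1
    rw [secEquiv_comp, secEquiv_comp] at h2
    have h3 : secEquiv U F ((secEquiv U F).symm s) = s := Equiv.apply_symm_apply _ _
    exact (congrArg (((ModFree.G X.ringCatSheaf).map f).app (op U)) h3).symm.trans
      (h2.trans (congrArg (((ModFree.G X.ringCatSheaf).map g).app (op U)) h3))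

theorem acyc (U : X.Opens) (hU : IsAffineOpen U) (F : X.Modules) [F.IsQuasicoherent] :
    Acyc (GU U) F := by
  haveI : EnoughInjectives (SheafOfModules.{u} X.ringCatSheaf) :=
    ModCechExt.enoughInjectives_mod X.ringCatSheaf
  haveI hE : HasExt.{u} (SheafOfModules.{u} X.ringCatSheaf) := hasExt_of_enoughInjectives _
  haveI : HasExt.{u} X.Modules := hE
  apply LC6.acyc_of_subsingleton_ext.{u}
  intro n
  have h1 := ModCechExt.nonempty_addEquiv X.ringCatSheaf (yU U)
    (show SheafOfModules.{u} X.ringCatSheaf from F) (n + 1)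
  haveI : Subsingleton (CohCx.HK (yU U) ((SheafOfModules.toSheaf X.ringCatSheaf).obj F) (n + 1)) :=
    Groth.Agent.Helper1.Serre.subsingleton_HU_of_isAffineOpen F hU n
  exact h1.some.toEquiv.subsingleton

end Groth.Agent.Helper9.LCAff1
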