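import Mathlib
import Groth.Agent.Helper9.LCAff1

/-!
# The structure sheaf is the free module on the terminal object
-/

set_option autoImplicit false
set_option linter.style.haveILetI false
set_option linter.unusedSectionVars false
set_option linter.unusedVariables false

universe u

namespace Groth.Agent.Helper9.LCUnit1

open CategoryTheory Limits Opposite TopologicalSpace AlgebraicGeometry
open Groth.Agent.Helper9.LC2 Groth.Agent.Helper9.LC3

section Site

variable {C : Type u} [SmallCategory C] {J : GrothendieckTopology C} (O : Sheaf J RingCat.{u})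
  (T : C) (hT : IsTerminal T)

/-- the map from the free module on the terminal object to the structure sheaf -/
noncomputable def a : (ModFree.L O).obj (yoneda.obj T) ⟶ SheafOfModules.unit O :=
  (LCAff1.secEquiv' O T (SheafOfModules.unit O)).symm
    (show ((ModFree.G O).obj (SheafOfModules.unit O)).obj (op T) from (1 : O.obj.obj (op T)))

/-- the generating section -/
noncomputable def e : ((ModFree.L O).obj (yoneda.obj T)).val.obj (op T) :=
  LCAff1.secEquiv' O T _ (𝟙 _)

/-- the global section generated by `e` -/
noncomputable def sec : ((ModFree.L O).obj (yoneda.obj T)).sections :=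
  PresheafOfModules.sectionsMk
    (fun U => ((ModFree.L O).obj (yoneda.obj T)).val.map (hT.from U.unop).op (e O T))
    (fun U V f => by
      have h : (hT.from U.unop).op ≫ f = (hT.from V.unop).op :=
        Quiver.Hom.unop_inj (hT.hom_ext _ _)
      rw [← h]
      exact (PresheafOfModules.map_comp_apply _ _ _ _).symm)

/-- the map from the structure sheaf to the free module on the terminal object -/
noncomputable def b : SheafOfModules.unit O ⟶ (ModFree.L O).obj (yoneda.obj T) :=
  (SheafOfModules.unitHomEquiv _).symm (sec O T hT)

end Site

end Groth.Agent.Helper9.LCUnit1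

namespace Groth.Agent.Helper9.LCUnit1

open CategoryTheory Limits Opposite TopologicalSpace AlgebraicGeometry

section Site2

variable {C : Type u} [SmallCategory C] {J : GrothendieckTopology C} (O : Sheaf J RingCat.{u})
  (T : C) (hT : IsTerminal T)

lemma secEquiv'_apply (U : C) {F : SheafOfModules.{u} O}
    (h : (ModFree.L O).obj (yoneda.obj U) ⟶ F) :
    LCAff1.secEquiv' O U F h = h.val.app (op U) (LCAff1.secEquiv' O U _ (𝟙 _)) := by
  have := LCAff1.secEquiv'_comp O U (𝟙 _) h
  rw [Category.id_comp] at this
  exact this

lemma a_e : (a O T).val.app (op T) (e O T) = (1 : O.obj.obj (op T)) := by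
  have h := secEquiv'_apply O T (a O T)
  unfold a at h
  rw [Equiv.apply_symm_apply] at h
  exact h.symm

lemma a_b : a O T ≫ b O T hT = 𝟙 _ := by
  apply (LCAff1.secEquiv' O T _).injective
  rw [secEquiv'_apply O T (a O T ≫ b O T hT)]
  show (b O T hT).val.app (op T) ((a O T).val.app (op T) _) = _
  erw [a_e]
  show ((SheafOfModules.unitHomEquiv _) (b O T hT)).val (op T) = _
  unfold b
  rw [Equiv.apply_symm_apply]
  show ((ModFree.L O).obj (yoneda.obj T)).val.map (hT.from T).op (e O T) = _
  have : hT.from T = 𝟙 T := hT.hom_ext _ _
  rw [this]
  erw [PresheafOfModules.map_id]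
  rfl

end Site2

end Groth.Agent.Helper9.LCUnit1

namespace Groth.Agent.Helper9.LCUnit1

open CategoryTheory Limits Opposite TopologicalSpace AlgebraicGeometry

section Site3

variable {C : Type u} [SmallCategory C] {J : GrothendieckTopology C} (O : Sheaf J RingCat.{u})
  (T : C) (hT : IsTerminal T)

lemma b_a : b O T hT ≫ a O T = 𝟙 _ := by
  apply (SheafOfModules.unitHomEquiv _).injective
  rw [SheafOfModules.unitHomEquiv_comp_apply]
  unfold b
  rw [Equiv.apply_symm_apply]
  apply PresheafOfModules.sections_ext
  intro U
  show (a O T).val.app U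
    (((ModFree.L O).obj (yoneda.obj T)).val.map (hT.from U.unop).op (e O T)) = _
  have h1 := PresheafOfModules.naturality_apply (a O T).val (hT.from U.unop).op (e O T)
  erw [h1, a_e]
  show (O.obj.map (hT.from U.unop).op) 1 = 1
  exact map_one _

/-- the structure sheaf is the free module on the terminal object -/
noncomputable def unitIso : SheafOfModules.unit O ≅ (ModFree.L O).obj (yoneda.obj T) where
  hom := b O T hT
  inv := a O T
  hom_inv_id := b_a O T hT
  inv_hom_id := a_b O T hT

end Site3

attribute [local instance] HasDerivedCategory.standard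

variable (X : Scheme.{u})

/-- on a scheme: `O_X ≅ GU ⊤` -/
noncomputable def unitIsoGU :
    @Iso X.Modules _ (SheafOfModules.unit X.ringCatSheaf) (LCAff1.GU (⊤ : X.Opens)) :=
  unitIso X.ringCatSheaf (⊤ : X.Opens) isTerminalTop

end Groth.Agent.Helper9.LCUnit1
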