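import Mathlib
import Groth.Agent.Helper1.SerreH

/-! Mayer–Vietoris induction principle over quasi-compact quasi-separated opens of a scheme. -/

set_option autoImplicit false
set_option linter.style.haveILetI false
set_option linter.unusedVariables false
set_option linter.unusedSectionVars false
universe u

namespace Groth.Agent.Helper9.QP3a

open CategoryTheory Limits AlgebraicGeometry Opposite TopologicalSpace
open Groth.Agent.Helper1.Serre

variable {X : Scheme.{u}}

lemma finset_sup (P : X.Opens → Prop)
    (hP₂ : ∀ U V : X.Opens, P U → P V → P (U ⊓ V) → P (U ⊔ V))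
    (𝒞 : Set X.Opens) (h𝒞P : ∀ U ∈ 𝒞, P U) (h𝒞inf : ∀ U ∈ 𝒞, ∀ V ∈ 𝒞, U ⊓ V ∈ 𝒞) (hbot : P ⊥) :
    ∀ (n : ℕ) (s : Finset X.Opens), (∀ U ∈ s, U ∈ 𝒞) → s.card ≤ n → P (s.sup id) := by
  classical
  intro n
  induction n with
  | zero =>
    intro s hs hcard
    have : s = ∅ := Finset.card_eq_zero.1 (Nat.le_zero.1 hcard)
    subst this
    simpa using hbot
  | succ n ih =>
    intro s hs hcard
    rcases s.eq_empty_or_nonempty with rfl | ⟨A, hA⟩
    · simpa using hbot
    · have hs' : s = insert A (s.erase A) := (Finset.insert_erase hA).symm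
      have hcard' : (s.erase A).card ≤ n := by
        rw [Finset.card_erase_of_mem hA]
        omega
      rw [hs', Finset.sup_insert, id]
      apply hP₂
      · exact h𝒞P A (hs A hA)
      · exact ih (s.erase A) (fun U hU => hs U (Finset.mem_of_mem_erase hU)) hcard'
      · have h2 : A ⊓ (s.erase A).sup id = ((s.erase A).image (fun V => A ⊓ V)).sup id := by
          rw [Finset.sup_image, Finset.sup_inf_distrib_left]
          rfl
        rw [h2]
        apply ih
        · intro U hU
          obtain ⟨V, hV, rfl⟩ := Finset.mem_image.1 hU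
          exact h𝒞inf A (hs A hA) V (hs V (Finset.mem_of_mem_erase hV))
        · exact Finset.card_image_le.trans hcard'

/-- Mayer–Vietoris induction over quasi-compact quasi-separated opens -/
theorem mv_induction (P : X.Opens → Prop) (hP₁ : ∀ U : X.Opens, IsAffineOpen U → P U)
    (hP₂ : ∀ U V : X.Opens, P U → P V → P (U ⊓ V) → P (U ⊔ V))
    (Ω : X.Opens) (hΩc : IsCompact (Ω : Set X)) (hΩ : IsQuasiSeparated (Ω : Set X)) : P Ω := by
  classical
  have hbot : P ⊥ := hP₁ ⊥ (isAffineOpen_bot X)
  -- stage 1
  have stage1 : ∀ (A : X.Opens), IsAffineOpen A → ∀ W : X.Opens, W ≤ A →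
      IsCompact (W : Set X) → P W := by
    intro A hA W hWA hW
    obtain ⟨s, rfl⟩ := exists_finset_basicOpen hA W hWA hW
    have := finset_sup P hP₂ {V | ∃ g : Γ(X, A), V = X.basicOpen g}
      (by rintro V ⟨g, rfl⟩; exact hP₁ _ (hA.basicOpen g))
      (by
        rintro V ⟨g, rfl⟩ V' ⟨g', rfl⟩
        exact ⟨g * g', (X.basicOpen_mul g g').symm⟩) hbot
      (s.image (fun g => X.basicOpen g)).card (s.image (fun g => X.basicOpen g))
      (by
        intro V hV
        obtain ⟨g, -, rfl⟩ := Finset.mem_image.1 hV
        exact ⟨g, rfl⟩) le_rfl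
    rwa [Finset.sup_image] at this
  -- stage 2
  obtain ⟨s, hs, rfl⟩ := exists_finset_affine_sup Ω hΩc
  have key : ∀ t : Finset X.Opens, t ⊆ s → P (t.sup id) := by
    intro t
    induction t using Finset.induction_on with
    | empty => intro _; simpa using hbot
    | insert A t hAt ih =>
      intro hsub
      have hAs : A ∈ s := hsub (Finset.mem_insert_self _ _)
      have hts : t ⊆ s := fun U hU => hsub (Finset.mem_insert_of_mem hU)
      have hA : IsAffineOpen A := hs A hAs
      rw [Finset.sup_insert, id]
      apply hP₂ _ _ (hP₁ A hA) (ih hts)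
      apply stage1 A hA _ inf_le_left
      exact hΩ (A : Set X) (t.sup id : X.Opens) (Finset.le_sup (f := id) hAs) A.2 hA.isCompact
        (show ((t.sup id : X.Opens) : Set X) ⊆ ((s.sup id : X.Opens) : Set X) from
          fun x hx => (Finset.sup_mono (f := id) hts : t.sup id ≤ s.sup id) hx) (t.sup id).2
        (isCompact_finset_sup t (fun U hU => (hs U (hts hU)).isCompact))
  exact key s (Finset.Subset.refl s)

end Groth.Agent.Helper9.QP3a
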