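import Mathlib
import Groth.Agent.Helper9.QP3a

/-! Mayer–Vietoris induction over quasi-compact quasi-separated opens, starting from a class of
affine opens stable under passage to smaller affine opens. -/

set_option autoImplicit false
set_option linter.style.haveILetI false
set_option linter.unusedVariables false
set_option linter.unusedSectionVars false
universe u

namespace Groth.Agent.Helper9.MVP1

open CategoryTheory Limits AlgebraicGeometry Opposite TopologicalSpace
open Groth.Agent.Helper1.Serre Groth.Agent.Helper9.QP3a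

variable {X : Scheme.{u}}

/-- a compact open covered by members of `𝒜` is a finite union of members of `𝒜` -/
lemma exists_finset_sup (𝒜 : Set X.Opens) (Ω : X.Opens) (hΩc : IsCompact (Ω : Set X))
    (hcov : ∀ x ∈ Ω, ∃ A ∈ 𝒜, x ∈ A ∧ A ≤ Ω) :
    ∃ s : Finset X.Opens, (∀ A ∈ s, A ∈ 𝒜) ∧ s.sup id = Ω := by
  classical
  choose! f hf𝒜 hxf hfΩ using hcov
  obtain ⟨t, ht⟩ := hΩc.elim_finite_subcover (fun x : Ω => ((f x.1 : X.Opens) : Set X))
    (fun x => (f x.1).2) (fun x hx => Set.mem_iUnion.2 ⟨⟨x, hx⟩, hxf x hx⟩)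
  refine ⟨t.image (fun x : Ω => f x.1), ?_, ?_⟩
  · intro A hA
    obtain ⟨x, -, rfl⟩ := Finset.mem_image.1 hA
    exact hf𝒜 x.1 x.2
  · apply le_antisymm
    · apply Finset.sup_le
      intro A hA
      obtain ⟨x, -, rfl⟩ := Finset.mem_image.1 hA
      exact hfΩ x.1 x.2
    · intro x hx
      obtain ⟨y, hy⟩ := Set.mem_iUnion.1 (ht hx)
      obtain ⟨hyt, hxy⟩ := Set.mem_iUnion.1 hy
      exact (Finset.le_sup (f := id) (Finset.mem_image_of_mem (fun x : Ω => f x.1) hyt) :
        f y.1 ≤ _) hxy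

/-- Mayer–Vietoris induction from a class of affine opens stable under smaller affine opens -/
theorem mv_induction_basis (P : X.Opens → Prop) (𝒜 : Set X.Opens)
    (h𝒜aff : ∀ A ∈ 𝒜, IsAffineOpen A)
    (h𝒜sub : ∀ A ∈ 𝒜, ∀ B : X.Opens, B ≤ A → IsAffineOpen B → B ∈ 𝒜)
    (hP₁ : ∀ A ∈ 𝒜, P A) (hbot : P ⊥)
    (hP₂ : ∀ U V : X.Opens, P U → P V → P (U ⊓ V) → P (U ⊔ V))
    (Ω : X.Opens) (hΩc : IsCompact (Ω : Set X)) (hΩ : IsQuasiSeparated (Ω : Set X))
    (hcov : ∀ x ∈ Ω, ∃ A ∈ 𝒜, x ∈ A ∧ A ≤ Ω) : P Ω := by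
  classical
  -- stage 1
  have stage1 : ∀ (A : X.Opens), A ∈ 𝒜 → ∀ W : X.Opens, W ≤ A →
      IsCompact (W : Set X) → P W := by
    intro A hA𝒜 W hWA hW
    have hA := h𝒜aff A hA𝒜
    obtain ⟨s, rfl⟩ := exists_finset_basicOpen hA W hWA hW
    have := finset_sup P hP₂ {V | ∃ g : Γ(X, A), V = X.basicOpen g}
      (by rintro V ⟨g, rfl⟩; exact hP₁ _ (h𝒜sub A hA𝒜 _ (X.basicOpen_le g) (hA.basicOpen g)))
      (by
        rintro V ⟨g, rfl⟩ V' ⟨g', rfl⟩
        exact ⟨g * g', (X.basicOpen_mul g g').symm⟩) hbot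
      (s.image (fun g => X.basicOpen g)).card (s.image (fun g => X.basicOpen g))
      (by
        intro V hV
        obtain ⟨g, -, rfl⟩ := Finset.mem_image.1 hV
        exact ⟨g, rfl⟩) le_rfl
    rwa [Finset.sup_image] at this
  -- stage 2
  obtain ⟨s, hs, rfl⟩ := exists_finset_sup 𝒜 Ω hΩc hcov
  have key : ∀ t : Finset X.Opens, t ⊆ s → P (t.sup id) := by
    intro t
    induction t using Finset.induction_on with
    | empty => intro _; simpa using hbot
    | insert A t hAt ih =>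
      intro hsub
      have hAs : A ∈ s := hsub (Finset.mem_insert_self _ _)
      have hts : t ⊆ s := fun U hU => hsub (Finset.mem_insert_of_mem hU)
      have hA : IsAffineOpen A := h𝒜aff A (hs A hAs)
      rw [Finset.sup_insert, id]
      apply hP₂ _ _ (hP₁ A (hs A hAs)) (ih hts)
      apply stage1 A (hs A hAs) _ inf_le_left
      exact hΩ (A : Set X) (t.sup id : X.Opens) (Finset.le_sup (f := id) hAs) A.2 hA.isCompact
        (show ((t.sup id : X.Opens) : Set X) ⊆ ((s.sup id : X.Opens) : Set X) from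
          fun x hx => (Finset.sup_mono (f := id) hts : t.sup id ≤ s.sup id) hx) (t.sup id).2
        (isCompact_finset_sup t (fun U hU => (h𝒜aff U (hs U (hts hU))).isCompact))
  exact key s (Finset.Subset.refl s)

end Groth.Agent.Helper9.MVP1
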