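import Mathlib
import Groth.Prelude.Def_DCoh3
import Groth.Agent.Lead.PerfLib3
import Groth.Agent.Helper9.MVP1
import Groth.Agent.Helper4.AssDict

/-! Induction principle for perfect objects on quasi-compact quasi-separated schemes:
Mayer–Vietoris plus bounded complexes of finite free modules on affines. -/

set_option autoImplicit false
set_option linter.style.haveILetI false
set_option linter.unusedVariables false
set_option linter.unusedSectionVars false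
universe u

namespace Groth.Agent.Helper9.MVP2

open CategoryTheory CategoryTheory.Limits AlgebraicGeometry Opposite TopologicalSpace
open Groth.Agent.Lead.PerfLib Groth.Agent.Helper4.FinLocFree Scheme.Modules

attribute [local instance] HasDerivedCategory.standard

/-- a bounded complex of finite free modules -/
def BddFree {Z : Scheme.{u}} (E : CochainComplex Z.Modules ℤ) : Prop :=
  (∃ a b : ℤ, ∀ i : ℤ, i < a ∨ b < i → IsZero (E.X i)) ∧
    ∀ i : ℤ, ∃ n : ℕ, Nonempty (E.X i ≅ FlatMod.freeMod Z n)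

lemma BddFree.restrict {Z Z' : Scheme.{u}} (k : Z' ⟶ Z) [IsOpenImmersion k]
    {E : CochainComplex Z.Modules ℤ} (h : BddFree E) : BddFree ((Rc k).obj E) := by
  obtain ⟨⟨a, b, hab⟩, hfree⟩ := h
  refine ⟨⟨a, b, fun i hi => Functor.map_isZero (restrictFunctor k) (hab i hi)⟩, fun i => ?_⟩
  obtain ⟨n, ⟨e⟩⟩ := hfree i
  exact ⟨n, ⟨(restrictFunctor k).mapIso e ≪≫ restrictFreeIso k n⟩⟩

lemma bddFree_of_isEmpty {Z : Scheme.{u}} [IsEmpty Z] (E : CochainComplex Z.Modules ℤ) :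
    BddFree E := by
  have hz : ∀ M : Z.Modules, IsZero M := fun M =>
    Groth.Agent.Helper4.AssDict.isZero_of_subsingleton_stalks M (fun x => (IsEmpty.false x).elim)
  exact ⟨⟨0, 0, fun i _ => hz _⟩, fun i => ⟨0, ⟨(hz _).iso (hz _)⟩⟩⟩

variable {X : Scheme.{u}} (F₀ : CochainComplex X.Modules ℤ)

/-- `F₀` restricted along `j` is isomorphic in the derived category to a bounded complex of finite
free modules -/
def Model {Z : Scheme.{u}} (j : Z ⟶ X) [IsOpenImmersion j] : Prop :=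
  ∃ E : CochainComplex Z.Modules ℤ, BddFree E ∧
    Nonempty (DerivedCategory.Q.obj ((Rc j).obj F₀) ≅ DerivedCategory.Q.obj E)

lemma Model.of_range_subset {Z Z' : Scheme.{u}} (j : Z ⟶ X) [IsOpenImmersion j] (j' : Z' ⟶ X)
    [IsOpenImmersion j'] (hle : Set.range j' ⊆ Set.range j) (h : Model F₀ j) : Model F₀ j' := by
  obtain ⟨E, hE, ⟨ψ⟩⟩ := h
  let k : Z' ⟶ Z := IsOpenImmersion.lift j j' hle
  have hk : j' = k ≫ j := (IsOpenImmersion.lift_fac j j' hle).symm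
  haveI : IsOpenImmersion (k ≫ j) := by rw [← hk]; infer_instance
  haveI : IsOpenImmersion k := IsOpenImmersion.of_comp k j
  exact ⟨(Rc k).obj E, hE.restrict k,
    ⟨DerivedCategory.Q.mapIso (rcCompIso j k j' hk F₀) ≪≫ qRestrictIso k ψ⟩⟩

lemma exists_model (hloc : ∀ x : X, LocSP F₀ x) (x : X) :
    ∃ A : X.Opens, IsAffineOpen A ∧ x ∈ A ∧ Model F₀ A.ι := by
  obtain ⟨Z₁, j₁, hj₁, ⟨z₁, rfl⟩, E₁, ⟨⟨a, b, hvan⟩, hfree⟩, ⟨ψ₁⟩⟩ := hloc x
  haveI := hj₁
  obtain ⟨W, hzW, hW⟩ := exists_free_nhd E₁ a b hvan hfree z₁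
  obtain ⟨A₁', hA₁aff, hzA₁', hA₁W'⟩ := Opens.isBasis_iff_nbhd.1 Z₁.isBasis_affineOpens hzW
  obtain ⟨A₁, rfl⟩ : ∃ A₁ : Z₁.Opens, A₁ = A₁' := ⟨_, rfl⟩
  have hzA₁ : z₁ ∈ A₁ := hzA₁'
  have hA₁W : A₁ ≤ W := hA₁W'
  have hA₁ : IsAffineOpen A₁ := hA₁aff
  refine ⟨j₁ ''ᵁ A₁, hA₁.image_of_isOpenImmersion j₁, ⟨z₁, hzA₁, rfl⟩, ?_⟩
  have hm : Model F₀ (A₁.ι ≫ j₁) := by
    refine ⟨(Rc A₁.ι).obj E₁, ⟨⟨a, b, fun i hi =>
      Functor.map_isZero (restrictFunctor A₁.ι) (hvan i hi)⟩, fun i => ?_⟩,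
      ⟨DerivedCategory.Q.mapIso (rcCompIso j₁ A₁.ι (A₁.ι ≫ j₁) rfl F₀) ≪≫ qRestrictIso A₁.ι ψ₁⟩⟩
    obtain ⟨n, hn⟩ := hW i
    exact ⟨n, IsFreeAlong.of_le hA₁W hn⟩
  refine Model.of_range_subset F₀ (A₁.ι ≫ j₁) (j₁ ''ᵁ A₁).ι ?_ hm
  intro y hy
  have hy' : y ∈ (j₁ ''ᵁ A₁).ι.opensRange := hy
  rw [Scheme.Opens.opensRange_ι] at hy'
  have : y ∈ (A₁.ι ≫ j₁).opensRange := by
    rw [Scheme.Hom.opensRange_comp, Scheme.Opens.opensRange_ι]
    exact hy'
  exact this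

/-- **induction principle for perfect objects** on a quasi-compact quasi-separated scheme -/
theorem perfect_induction [CompactSpace X] [QuasiSeparatedSpace X]
    (𝒫r : ∀ (Z : Scheme.{u}) (j : Z ⟶ X) [IsOpenImmersion j], DCoh.D Z → Prop)
    (hiso : ∀ (Z : Scheme.{u}) (j : Z ⟶ X) [IsOpenImmersion j] (B B' : DCoh.D Z),
      (B ≅ B') → 𝒫r Z j B → 𝒫r Z j B')
    (hMV : ∀ (Z : Scheme.{u}) (j : Z ⟶ X) [IsOpenImmersion j] (U V : Z.Opens) (B : DCoh.D Z),
      U ⊔ V = ⊤ → 𝒫r U (U.ι ≫ j) ((DCoh.restrictD U.ι).obj B) →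
      𝒫r V (V.ι ≫ j) ((DCoh.restrictD V.ι).obj B) →
      𝒫r (U ⊓ V : Z.Opens) ((U ⊓ V).ι ≫ j) ((DCoh.restrictD (U ⊓ V).ι).obj B) → 𝒫r Z j B)
    (hbase : ∀ (Z : Scheme.{u}) (j : Z ⟶ X) [IsOpenImmersion j] [IsAffine Z]
      (E : CochainComplex Z.Modules ℤ), BddFree E → 𝒫r Z j (DerivedCategory.Q.obj E))
    (K : DCoh.D X) (hK : DCoh.IsPerfect K) : 𝒫r X (𝟙 X) K := by
  let F₀ : CochainComplex X.Modules ℤ := DerivedCategory.Q.objPreimage K
  let e₀ : DerivedCategory.Q.obj F₀ ≅ K := DerivedCategory.Q.objObjPreimageIso K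
  have hloc : ∀ x : X, LocSP F₀ x := (isPerfect_iff_locSP K F₀ e₀).1 hK
  let P : X.Opens → Prop := fun U => ∀ (Z : Scheme.{u}) (j : Z ⟶ X) [IsOpenImmersion j],
    j.opensRange = U → 𝒫r Z j (DerivedCategory.Q.obj ((Rc j).obj F₀))
  have hP : P ⊤ := by
    refine MVP1.mv_induction_basis P {A | IsAffineOpen A ∧ Model F₀ A.ι} (fun A hA => hA.1)
      ?_ ?_ ?_ ?_ ⊤ (by simpa using isCompact_univ) (by simpa using isQuasiSeparated_univ) ?_
    · -- stability under smaller affine opens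
      rintro A ⟨hA, hm⟩ B hBA hB
      refine ⟨hB, Model.of_range_subset F₀ A.ι B.ι ?_ hm⟩
      intro y hy
      have hy' : y ∈ B.ι.opensRange := hy
      rw [Scheme.Opens.opensRange_ι] at hy'
      have : y ∈ A.ι.opensRange := by
        rw [Scheme.Opens.opensRange_ι]
        exact hBA hy'
      exact this
    · -- the base case
      rintro A ⟨hA, hm⟩ Z j _ hj
      have hm' : Model F₀ j := by
        refine Model.of_range_subset F₀ A.ι j ?_ hm
        intro y hy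
        have hy' : y ∈ j.opensRange := hy
        rw [hj] at hy'
        have : y ∈ A.ι.opensRange := by
          rw [Scheme.Opens.opensRange_ι]
          exact hy'
        exact this
      obtain ⟨E, hE, ⟨ψ⟩⟩ := hm'
      haveI : IsAffine (j.opensRange : Scheme.{u}) := by
        rw [hj]
        exact hA
      haveI : IsAffine Z := IsAffine.of_isIso j.isoOpensRange.hom
      exact hiso Z j _ _ ψ.symm (hbase Z j E hE)
    · -- the empty open
      intro Z j _ hj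
      haveI : IsEmpty Z := by
        constructor
        intro z
        have : j z ∈ j.opensRange := ⟨z, rfl⟩
        rw [hj] at this
        exact this
      exact hbase Z j _ (bddFree_of_isEmpty _)
    · -- Mayer–Vietoris
      intro U V hU hV hUV Z j _ hj
      have hsub : ∀ (W : X.Opens), W ≤ U ⊔ V → ((j ⁻¹ᵁ W).ι ≫ j).opensRange = W := by
        intro W hW
        rw [Scheme.Hom.opensRange_comp, Scheme.Opens.opensRange_ι,
          Scheme.Hom.image_preimage_eq_opensRange_inf, hj]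
        exact inf_eq_right.2 hW
      have key : ∀ (W : X.Opens), W ≤ U ⊔ V → P W →
          𝒫r (j ⁻¹ᵁ W) ((j ⁻¹ᵁ W).ι ≫ j)
            ((DCoh.restrictD (j ⁻¹ᵁ W).ι).obj (DerivedCategory.Q.obj ((Rc j).obj F₀))) := by
        intro W hW hPW
        refine hiso _ _ _ _ ?_ (hPW _ ((j ⁻¹ᵁ W).ι ≫ j) (hsub W hW))
        exact DerivedCategory.Q.mapIso (rcCompIso j (j ⁻¹ᵁ W).ι ((j ⁻¹ᵁ W).ι ≫ j) rfl F₀) ≪≫
          ((restrictFunctor (j ⁻¹ᵁ W).ι).mapDerivedCategoryFactors.app ((Rc j).obj F₀)).symm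
      refine hMV Z j (j ⁻¹ᵁ U) (j ⁻¹ᵁ V) _ ?_ (key U le_sup_left hU) (key V le_sup_right hV)
        (key (U ⊓ V) (inf_le_left.trans le_sup_left) hUV)
      rw [← Scheme.Hom.preimage_sup, ← hj]
      exact Scheme.Hom.preimage_opensRange j
    · intro x _
      obtain ⟨A, hA, hxA, hm⟩ := exists_model F₀ hloc x
      exact ⟨A, ⟨hA, hm⟩, hxA, le_top⟩
  have h1 := hP X (𝟙 X) (Scheme.Hom.opensRange_of_isIso (𝟙 X))
  refine hiso X (𝟙 X) _ _ ?_ h1
  exact DerivedCategory.Q.mapIso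
    ((NatIso.mapHomologicalComplex restrictFunctorId (ComplexShape.up ℤ)).app F₀) ≪≫ e₀

end Groth.Agent.Helper9.MVP2
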