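import Mathlib
import Groth.Agent.Helper4.RDerTri
import Groth.Agent.Helper4.RpushCl
import Groth.Agent.Helper4.RDerAdd
import Groth.Agent.Helper4.SuppLib

/-! Cohomological amplitude of a total right derived functor `RF : D(B) ⥤ D(A)` on bounded objects
whose cohomology lies in a class `P` on which `RᵖF` vanishes for `p ≥ N`. -/

set_option autoImplicit false
set_option linter.unusedSectionVars false
set_option linter.unusedVariables false
set_option linter.style.haveILetI false
universe w w' v v' u u'

open CategoryTheory Limits Pretriangulated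

namespace Groth.Agent.Helper9.Amp1

open Groth.Agent.Helper1 Groth.Agent.Helper4 DerivedCategory

variable {A : Type u} [Category.{v} A] [Abelian A] [HasDerivedCategory.{w} A]
  {B : Type u'} [Category.{v'} B] [Abelian B] [IsGrothendieckAbelian.{v'} B]
  [HasDerivedCategory.{w'} B]
  (F : B ⥤ A) [F.Additive] (RF : DerivedCategory B ⥤ DerivedCategory A)
  (β : F.mapHomotopyCategory (ComplexShape.up ℤ) ⋙ DerivedCategory.Qh ⟶ DerivedCategory.Qh ⋙ RF)
  [RF.IsRightDerivedFunctor β (HomotopyCategory.quasiIso B (ComplexShape.up ℤ))]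

include β in
/-- a total right derived functor commutes with shifts, objectwise -/
theorem nonempty_shift_iso (K : DerivedCategory B) (n : ℤ) :
    Nonempty (RF.obj (K⟦n⟧) ≅ (RF.obj K)⟦n⟧) := by
  haveI : (KInjDer.G (A := B)).EssSurj := KInjDer.essSurj KDerAdj.hKinj
  let G := KInjDer.G (A := B)
  let H := (KInjDer.P B).ι ⋙ F.mapHomotopyCategory (ComplexShape.up ℤ) ⋙ DerivedCategory.Qh
  let X := G.objPreimage K
  let e : G.obj X ≅ K := G.objObjPreimageIso K
  let eK := RDerTri.eK F RF β
  exact ⟨RF.mapIso ((shiftFunctor _ n).mapIso e.symm) ≪≫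
    RF.mapIso ((G.commShiftIso n).app X).symm ≪≫ eK.app (X⟦n⟧) ≪≫ (H.commShiftIso n).app X ≪≫
    (shiftFunctor _ n).mapIso (eK.app X).symm ≪≫ (shiftFunctor _ n).mapIso (RF.mapIso e)⟩

/-- `Hⁱ(Z⟦n⟧) ≅ H^{n+i}(Z)` -/
noncomputable def homologyShiftIso (Z : DerivedCategory A) (n i : ℤ) :
    (homologyFunctor A i).obj (Z⟦n⟧) ≅ (homologyFunctor A (n + i)).obj Z :=
  ((homologyFunctor A 0).shiftIso n i (n + i) rfl).app Z

variable [HasInjectiveResolutions B]

include β in
/-- `Hʲ(RF(M[0])) = 0` for `j < 0` -/
theorem isZero_homology_single_neg (M : B) (j : ℤ) (hj : j < 0) :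
    IsZero ((homologyFunctor A j).obj (RF.obj ((singleFunctor B 0).obj M))) := by
  let R := injectiveResolution M
  haveI : R.cochainComplex.IsKInjective := CochainComplex.isKInjective_of_injective _ 0
  obtain ⟨e1⟩ := RpushCl.nonempty_iso_of_isKInjective F RF β R.cochainComplex
  let e0 : (DerivedCategory.singleFunctor B 0).obj M ≅ DerivedCategory.Q.obj R.cochainComplex :=
    (DerivedCategory.singleFunctorIsoCompQ B 0).app M ≪≫ asIso (DerivedCategory.Q.map R.ι')
  let e2 := (DerivedCategory.homologyFunctorFactors A j).app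
    ((F.mapHomologicalComplex (ComplexShape.up ℤ)).obj R.cochainComplex)
  refine IsZero.of_iso ?_ ((homologyFunctor A j).mapIso (RF.mapIso e0 ≪≫ e1) ≪≫ e2)
  apply ShortComplex.isZero_homology_of_isZero_X₂
  exact Functor.map_isZero F (CochainComplex.isZero_of_isStrictlyGE R.cochainComplex 0 j hj)

include β in
theorem isZero_homology_single (M : B) (N : ℕ)
    (hM : ∀ p : ℕ, N ≤ p → IsZero ((F.rightDerived p).obj M)) (b i : ℤ)
    (hi : i < b ∨ b + N - 1 < i) :
    IsZero ((homologyFunctor A i).obj (RF.obj ((singleFunctor B b).obj M))) := by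
  let e1 : ((singleFunctor B 0).obj M)⟦-b⟧ ≅ (singleFunctor B b).obj M :=
    ((DerivedCategory.singleFunctors B).shiftIso (-b) b 0 (by simp)).app M
  obtain ⟨e2⟩ := nonempty_shift_iso F RF β ((singleFunctor B 0).obj M) (-b)
  let e3 := homologyShiftIso (RF.obj ((singleFunctor B 0).obj M)) (-b) i
  refine IsZero.of_iso ?_ ((homologyFunctor A i).mapIso (RF.mapIso e1.symm ≪≫ e2) ≪≫ e3)
  by_cases hneg : -b + i < 0
  · exact isZero_homology_single_neg F RF β M _ hneg
  · obtain ⟨p, hp⟩ := Int.eq_ofNat_of_zero_le (not_lt.mp hneg)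
    rw [hp]
    obtain ⟨e4⟩ := RpushCl.nonempty_homology_iso F RF β M p
    refine IsZero.of_iso (hM p ?_) e4
    have : (N : ℤ) ≤ p := by omega
    exact_mod_cast this


section Trunc

variable {C : Type u} [Category.{v} C] [Abelian C] [HasDerivedCategory.{w} C]

/-- truncation triangle with control of the cohomology -/
theorem exists_trunc_triangle (E : DerivedCategory C) (b : ℤ) :
    ∃ (X Y : DerivedCategory C) (f : X ⟶ E) (g : E ⟶ Y) (h : Y ⟶ X⟦(1 : ℤ)⟧),
      Triangle.mk f g h ∈ distTriang (DerivedCategory C) ∧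
      (∀ i : ℤ, b ≤ i → IsZero ((homologyFunctor C i).obj X)) ∧
      (∀ i : ℤ, i < b → IsZero ((homologyFunctor C i).obj Y)) ∧
      (∀ i : ℤ, i < b → IsIso ((homologyFunctor C i).map f)) ∧
      (∀ i : ℤ, b ≤ i → IsIso ((homologyFunctor C i).map g)) := by
  obtain ⟨X, Y, hX, hY, f, g, h, hT⟩ := TStructure.t.exists_triangle E (b - 1) b (by ring)
  haveI : X.IsLE (b - 1) := ⟨hX⟩
  haveI : Y.IsGE b := ⟨hY⟩
  have hX0 : ∀ i : ℤ, b ≤ i → IsZero ((homologyFunctor C i).obj X) := fun i hi =>
    X.isZero_of_isLE (b - 1) i (by omega)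
  have hY0 : ∀ i : ℤ, i < b → IsZero ((homologyFunctor C i).obj Y) := fun i hi =>
    Y.isZero_of_isGE b i hi
  refine ⟨X, Y, f, g, h, hT, hX0, hY0, ?_, ?_⟩
  · intro i hi
    haveI : Mono ((homologyFunctor C i).map f) :=
      (HomologySequence.mono_homologyMap_mor₁_iff _ hT (i - 1) i (by ring)).2
        ((hY0 (i - 1) (by omega)).eq_of_src _ _)
    haveI : Epi ((homologyFunctor C i).map f) :=
      (HomologySequence.epi_homologyMap_mor₁_iff _ hT i).2 ((hY0 i hi).eq_of_tgt _ _)
    exact isIso_of_mono_of_epi _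
  · intro i hi
    haveI : Mono ((homologyFunctor C i).map g) :=
      (HomologySequence.mono_homologyMap_mor₂_iff _ hT i).2 ((hX0 i hi).eq_of_src _ _)
    haveI : Epi ((homologyFunctor C i).map g) :=
      (HomologySequence.epi_homologyMap_mor₂_iff _ hT i (i + 1) rfl).2
        ((hX0 (i + 1) (by omega)).eq_of_tgt _ _)
    exact isIso_of_mono_of_epi _

end Trunc

variable (P : ObjectProperty B) [P.IsClosedUnderIsomorphisms] (N : ℕ)
  (hF : ∀ G : B, P G → ∀ p : ℕ, N ≤ p → IsZero ((F.rightDerived p).obj G))

include β hF in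
theorem amplitude_aux (n : ℕ) : ∀ (a b : ℤ) (hn : b < a + n) (E : DerivedCategory B)
    (hE : ∀ i : ℤ, IsZero ((homologyFunctor B i).obj E) ∨ P ((homologyFunctor B i).obj E))
    (hab : ∀ i : ℤ, i < a ∨ b < i → IsZero ((homologyFunctor B i).obj E))
    (i : ℤ) (hi : i < a ∨ b + N - 1 < i), IsZero ((homologyFunctor A i).obj (RF.obj E)) := by
  have base : ∀ (a b : ℤ) (hn : b < a) (E : DerivedCategory B)
      (hab : ∀ i : ℤ, i < a ∨ b < i → IsZero ((homologyFunctor B i).obj E))
      (i : ℤ), IsZero ((homologyFunctor A i).obj (RF.obj E)) := by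
    intro a b hn E hab i
    have hE0 : IsZero E := SuppLib.isZero_of_homology E (fun j => hab j (by omega))
    exact Functor.map_isZero _ (RDerAdd.isZero_obj F RF β E hE0)
  induction n with
  | zero =>
    intro a b hn E hE hab i hi
    exact base a b (by simpa using hn) E hab i
  | succ n ih =>
    intro a b hn E hE hab i hi
    by_cases hba : b < a
    · exact base a b hba E hab i
    obtain ⟨X, Y, f, g, h, hT, hX0, hY0, hf, hg⟩ := exists_trunc_triangle E b
    -- the truncation `X`
    have hX : IsZero ((homologyFunctor A i).obj (RF.obj X)) := by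
      refine ih a (b - 1) (by push_cast at hn; omega) X ?_ ?_ i (by omega)
      · intro j
        by_cases hj : j < b
        · haveI := hf j hj
          let ej := asIso ((homologyFunctor B j).map f)
          rcases hE j with h0 | hP
          · exact Or.inl (h0.of_iso ej)
          · exact Or.inr (P.prop_of_iso ej.symm hP)
        · exact Or.inl (hX0 j (by omega))
      · intro j hj
        by_cases hjb : j < b
        · haveI := hf j hjb
          exact (hab j (by omega)).of_iso (asIso ((homologyFunctor B j).map f))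
        · exact hX0 j (by omega)
    -- the top piece `Y`
    have hY : IsZero ((homologyFunctor A i).obj (RF.obj Y)) := by
      haveI : Y.IsGE b := (isGE_iff Y b).2 (fun j hj => hY0 j hj)
      haveI : Y.IsLE b := (isLE_iff Y b).2 (fun j hj => by
        haveI := hg j (by omega)
        exact (hab j (Or.inr hj)).of_iso (asIso ((homologyFunctor B j).map g)).symm)
      obtain ⟨M, ⟨eY⟩⟩ := exists_iso_singleFunctor_obj_of_isGE_of_isLE Y b
      haveI := hg b le_rfl
      let eM : M ≅ (homologyFunctor B b).obj E :=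
        ((singleFunctorCompHomologyFunctorIso B b).app M).symm ≪≫
          (homologyFunctor B b).mapIso eY.symm ≪≫ (asIso ((homologyFunctor B b).map g)).symm
      rcases hE b with h0 | hP
      · have hY0' : IsZero Y :=
          (Functor.map_isZero (singleFunctor B b) (h0.of_iso eM)).of_iso eY
        exact Functor.map_isZero _ (RDerAdd.isZero_obj F RF β Y hY0')
      · have hM : ∀ p : ℕ, N ≤ p → IsZero ((F.rightDerived p).obj M) :=
          fun p hp => hF M (P.prop_of_iso eM.symm hP) p hp
        exact IsZero.of_iso (isZero_homology_single F RF β M N hM b i (by omega))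
          ((homologyFunctor A i).mapIso (RF.mapIso eY))
    obtain ⟨c, hc⟩ := RDerTri.exists_distinguished_map F RF β _ hT
    exact (HomologySequence.exact₂ _ hc i).isZero_of_both_isZero hX hY

include β hF in
/-- **Amplitude bound**: if `Hⁱ(E)` lies in `P` (or is zero) for all `i` and vanishes outside
`[a, b]`, then `Hⁱ(RF E)` vanishes outside `[a, b + N - 1]`. -/
theorem amplitude (a b : ℤ) (E : DerivedCategory B)
    (hE : ∀ i : ℤ, P ((homologyFunctor B i).obj E))
    (hab : ∀ i : ℤ, i < a ∨ b < i → IsZero ((homologyFunctor B i).obj E))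
    (i : ℤ) (hi : i < a ∨ b + N - 1 < i) : IsZero ((homologyFunctor A i).obj (RF.obj E)) := by
  refine amplitude_aux F RF β P N hF (b - a + 1).toNat a b ?_ E (fun j => Or.inr (hE j)) hab i hi
  have := Int.self_le_toNat (b - a + 1)
  omega

end Groth.Agent.Helper9.Amp1
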