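import Mathlib
import Groth.Agent.Helper9.LC6

/-!
# Maps from a test object are computed on cohomology
-/

set_option autoImplicit false
set_option linter.style.haveILetI false
set_option linter.unusedSectionVars false
set_option linter.unusedVariables false

universe w v u

namespace Groth.Agent.Helper9.LC7

open CategoryTheory Limits Pretriangulated DerivedCategory DerivedCategory.TStructure
open Groth.Agent.Helper9.LC3 Groth.Agent.Helper9.LC2

variable {A : Type u} [Category.{v} A] [Abelian A] [HasDerivedCategory.{w} A]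

/-- transfer of the bijectivity of `f ↦ H^i(f)` along a morphism -/
lemma bijective_homologyMap_iff {V Y Y' : DerivedCategory A} (π : Y ⟶ Y') (i : ℤ)
    (hπ : Function.Bijective (fun f : V ⟶ Y => f ≫ π))
    (hH : IsIso ((homologyFunctor A i).map π)) :
    Function.Bijective (fun f : V ⟶ Y => (homologyFunctor A i).map f) ↔
      Function.Bijective (fun f : V ⟶ Y' => (homologyFunctor A i).map f) := by
  have hpost : Function.Bijective
      (fun g : (homologyFunctor A i).obj V ⟶ (homologyFunctor A i).obj Y =>
        g ≫ (homologyFunctor A i).map π) :=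
    ⟨fun g g' h => (cancel_mono _).1 h, fun g => ⟨g ≫ inv ((homologyFunctor A i).map π), by simp⟩⟩
  have hcomm : (fun f : V ⟶ Y' => (homologyFunctor A i).map f) ∘ (fun f : V ⟶ Y => f ≫ π) =
      (fun g : (homologyFunctor A i).obj V ⟶ (homologyFunctor A i).obj Y =>
        g ≫ (homologyFunctor A i).map π) ∘ (fun f : V ⟶ Y => (homologyFunctor A i).map f) := by
    funext f
    simp
  constructor
  · intro h
    have h1 : Function.Bijective ((fun f : V ⟶ Y' => (homologyFunctor A i).map f) ∘
        (fun f : V ⟶ Y => f ≫ π)) := by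
      rw [hcomm]
      exact hpost.comp h
    exact (Function.Bijective.of_comp_iff _ hπ).1 h1
  · intro h
    have h1 : Function.Bijective ((fun g : (homologyFunctor A i).obj V ⟶
        (homologyFunctor A i).obj Y => g ≫ (homologyFunctor A i).map π) ∘
          (fun f : V ⟶ Y => (homologyFunctor A i).map f)) := by
      rw [← hcomm]
      exact h.comp hπ
    exact (Function.Bijective.of_comp_iff' hpost _).1 h1

/-- the case of single objects -/
lemma bijective_homologyMap_single (G F : A) (i : ℤ) :
    Function.Bijective (fun f : W G i ⟶ W F i => (homologyFunctor A i).map f) := by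
  have h1 : Function.Bijective (fun f : G ⟶ F => (singleFunctor A i).map f) :=
    (Functor.FullyFaithful.ofFullyFaithful (singleFunctor A i)).map_bijective _ _
  let e := singleFunctorCompHomologyFunctorIso A i
  have h2 : Function.Bijective (fun f : G ⟶ F =>
      (homologyFunctor A i).map ((singleFunctor A i).map f)) := by
    have : (fun f : G ⟶ F => (homologyFunctor A i).map ((singleFunctor A i).map f)) =
        fun f => e.hom.app G ≫ f ≫ e.inv.app F := by
      funext f
      have := e.hom.naturality f
      dsimp at this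
      rw [← Category.assoc, ← this, Category.assoc, Iso.hom_inv_id_app]
      simp
    rw [this]
    constructor
    · intro f f' h
      dsimp at h
      rw [cancel_epi, cancel_mono] at h
      exact h
    · intro g
      refine ⟨e.inv.app G ≫ g ≫ e.hom.app F, ?_⟩
      simp
  exact (Function.Bijective.of_comp_iff
    (fun f : W G i ⟶ W F i => (homologyFunctor A i).map f) h1).1 h2

/-- the case of objects concentrated in one degree -/
lemma bijective_homologyMap_of_isGE_of_isLE (G : A) (Y : DerivedCategory A) (i : ℤ)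
    [Y.IsGE i] [Y.IsLE i] :
    Function.Bijective (fun f : W G i ⟶ Y => (homologyFunctor A i).map f) := by
  obtain ⟨F, ⟨e⟩, -⟩ := exists_iso_single Y i
  refine (bijective_homologyMap_iff e.hom i ?_ inferInstance).2 (bijective_homologyMap_single G F i)
  exact ⟨fun f f' h => (cancel_mono e.hom).1 h, fun g => ⟨g ≫ e.inv, by simp⟩⟩

/-- bounded below objects with acyclic cohomology -/
theorem bijective_homologyMap_of_isGE (G : A) (Y : DerivedCategory A) (a : ℤ) [Y.IsGE a]
    (hac : ∀ p, Acyc G ((homologyFunctor A p).obj Y)) (i : ℤ) :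
    Function.Bijective (fun f : W G i ⟶ Y => (homologyFunctor A i).map f) := by
  -- step α : pass to `τ≥i Y`
  let Y' := (t.truncGE i).obj Y
  have hY₁ : ∀ p, Acyc G ((homologyFunctor A p).obj ((t.truncLT i).obj Y)) := by
    intro p
    by_cases hp : p < i
    · haveI := isIso_homologyMap_truncLTι Y i p hp
      exact (hac p).of_iso (asIso ((homologyFunctor A p).map ((t.truncLTι i).app Y))).symm
    · exact Acyc.of_isZero (isZero_of_isLE ((t.truncLT i).obj Y) (i - 1) p (by omega))
  have hzero : ∀ j : ℤ, i ≤ j → ∀ f : W G j ⟶ (t.truncLT i).obj Y, f = 0 := by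
    intro j hj f
    haveI : Y.IsGE (min a i) := t.isGE_of_ge Y (min a i) a (min_le_left _ _)
    have hai : min a i ≤ i := min_le_right _ _
    refine hom_eq_zero_of_bounded G (i - min a i).toNat ((t.truncLT i).obj Y) (min a i)
      inferInstance ?_ hY₁ j (by omega) f
    exact t.isLE_of_le _ (i - 1) _ (by omega)
  have hT := t.triangleLTGE_distinguished i Y
  have hπ : Function.Bijective (fun f : W G i ⟶ Y => f ≫ (t.truncGEπ i).app Y) := by
    constructor
    · intro f f' h
      have h0 : (f - f') ≫ (t.truncGEπ i).app Y = 0 := by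
        rw [Preadditive.sub_comp]
        exact sub_eq_zero.2 h
      obtain ⟨g, hg⟩ : ∃ g : W G i ⟶ (t.truncLT i).obj Y, f - f' = g ≫ (t.truncLTι i).app Y :=
        Triangle.coyoneda_exact₂ _ hT _ h0
      rw [hzero i le_rfl g, zero_comp] at hg
      exact sub_eq_zero.1 hg
    · intro g
      have h0 : g ≫ (t.truncGEδLT i).app Y = 0 := by
        let σ := wShift G 1 i (i + 1) (by omega)
        obtain ⟨g', hg'⟩ : ∃ g' : W G (i + 1) ⟶ (t.truncLT i).obj Y,
            g'⟦(1 : ℤ)⟧' = σ.hom ≫ g ≫ (t.truncGEδLT i).app Y :=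
          ⟨(shiftFunctor _ (1 : ℤ)).preimage _, Functor.map_preimage _ _⟩
        rw [hzero (i + 1) (by omega) g', Functor.map_zero] at hg'
        rw [← cancel_epi σ.hom, ← hg', comp_zero]
      obtain ⟨f, hf⟩ : ∃ f : W G i ⟶ Y, g = f ≫ (t.truncGEπ i).app Y :=
        Triangle.coyoneda_exact₃ _ hT g h0
      exact ⟨f, hf.symm⟩
  refine (bijective_homologyMap_iff ((t.truncGEπ i).app Y) i hπ
    (isIso_homologyMap_truncGEπ Y i i le_rfl)).2 ?_
  -- step β : pass to `τ≤i τ≥i Y`
  have hι : Function.Bijective (fun f : W G i ⟶ (t.truncLT (i + 1)).obj Y' =>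
      f ≫ (t.truncLTι (i + 1)).app Y') := by
    constructor
    · intro f f' h
      haveI : t.IsLE (W G i) (i + 1 - 1) := t.isLE_of_le _ i _ (by omega)
      exact t.to_truncLT_obj_ext h
    · intro g
      exact ⟨t.liftTruncLT g i (i + 1) rfl, t.liftTruncLT_ι g i (i + 1) rfl⟩
  refine (bijective_homologyMap_iff ((t.truncLTι (i + 1)).app Y') i hι
    (isIso_homologyMap_truncLTι Y' (i + 1) i (by omega))).1 ?_
  -- step γ
  haveI : ((t.truncLT (i + 1)).obj Y').IsLE i := t.isLE_of_le _ (i + 1 - 1) _ (by omega)
  haveI : ((t.truncLT (i + 1)).obj Y').IsGE i := inferInstance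
  exact bijective_homologyMap_of_isGE_of_isLE G _ i

variable (𝒢 : ObjectProperty A) (h𝒢 : 𝒢.IsSeparating) (E : DerivedCategory A)
  (hac : ∀ G, 𝒢 G → ∀ p, Acyc G ((homologyFunctor A p).obj E))

include h𝒢 hac in
/-- **K''**: maps from a test object to an object with acyclic cohomology are computed on `H^i` -/
theorem bijective_homologyMap (G : A) (hG : 𝒢 G) (i : ℤ) [HasProduct (LC6.En E)] :
    Function.Bijective (fun f : W G i ⟶ E => (homologyFunctor A i).map f) := by
  let n : ℕ := max (1 - i).toNat (-i).toNat
  have hkey := LC6.key 𝒢 h𝒢 E hac G hG i n (le_max_left _ _)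
  have hn : -(n : ℤ) ≤ i := by
    have : (-i).toNat ≤ n := le_max_right _ _
    omega
  refine (bijective_homologyMap_iff (LC6.τE E n) i hkey
    (isIso_homologyMap_truncGEπ E _ i hn)).2 ?_
  refine bijective_homologyMap_of_isGE G (LC6.En E n) (-(n : ℤ)) ?_ i
  intro p
  by_cases hp : -(n : ℤ) ≤ p
  · haveI := isIso_homologyMap_truncGEπ E (-(n : ℤ)) p hp
    exact (hac G hG p).of_iso (asIso ((homologyFunctor A p).map (LC6.τE E n)))
  · exact Acyc.of_isZero (isZero_of_isGE (LC6.En E n) (-(n : ℤ)) p (by omega))

end Groth.Agent.Helper9.LC7
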