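import Mathlib

set_option autoImplicit false
universe w v u
open CategoryTheory CategoryTheory.Limits CategoryTheory.Pretriangulated

namespace Groth.Agent.Helper9.PerfCone

variable {C : Type u} [Category.{v} C] [Abelian C]

/-- an object onto which every epimorphism splits is projective -/
lemma projective_of_split (F : C) (h : ∀ (E : C) (u : E ⟶ F), Epi u → IsSplitEpi u) :
    Projective F := by
  constructor
  intro X Y f e he
  haveI := he
  haveI : Epi (pullback.snd e f) := inferInstance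
  obtain ⟨⟨s, hs⟩⟩ := h _ (pullback.snd e f) inferInstance
  refine ⟨s ≫ pullback.fst e f, ?_⟩
  rw [Category.assoc, pullback.condition, ← Category.assoc, hs, Category.id_comp]

/-- dually -/
lemma injective_of_split (F : C) (h : ∀ (E : C) (u : F ⟶ E), Mono u → IsSplitMono u) :
    Injective F := by
  constructor
  intro X Y f e he
  haveI := he
  haveI : Mono (pushout.inr e f) := inferInstance
  obtain ⟨⟨s, hs⟩⟩ := h _ (pushout.inr e f) inferInstance
  refine ⟨pushout.inl e f ≫ s, ?_⟩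
  rw [← Category.assoc, pushout.condition, Category.assoc, hs, Category.comp_id]

variable (P : ObjectProperty C) [P.IsClosedUnderIsomorphisms]

include P in
lemma prop_biprod (hsum : ∀ X Y : C, P X → P Y → P (X ⨯ Y)) (X Y : C) (hX : P X) (hY : P Y) :
    P (X ⊞ Y) :=
  P.prop_of_iso (biprod.isoProd X Y).symm (hsum X Y hX hY)

lemma prop_mappingCone {E₁ E₂ : CochainComplex C ℤ} (φ : E₁ ⟶ E₂)
    (hbi : ∀ X Y : C, P X → P Y → P (X ⊞ Y))
    (h₁ : ∀ i, P (E₁.X i)) (h₂ : ∀ i, P (E₂.X i)) (i : ℤ) :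
    P ((CochainComplex.mappingCone φ).X i) :=
  P.prop_of_iso (HomologicalComplex.homotopyCofiber.XIsoBiprod φ i (i + 1) rfl).symm
    (hbi _ _ (h₁ _) (h₂ _))

lemma isZero_mappingCone {E₁ E₂ : CochainComplex C ℤ} (φ : E₁ ⟶ E₂) (i : ℤ)
    (h₁ : IsZero (E₁.X (i + 1))) (h₂ : IsZero (E₂.X i)) :
    IsZero ((CochainComplex.mappingCone φ).X i) := by
  refine IsZero.of_iso ?_ (HomologicalComplex.homotopyCofiber.XIsoBiprod φ i (i + 1) rfl)
  rw [IsZero.iff_id_eq_zero]
  apply biprod.hom_ext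
  · rw [Category.id_comp, zero_comp]
    exact h₁.eq_of_tgt _ _
  · rw [Category.id_comp, zero_comp]
    exact h₂.eq_of_tgt _ _

variable [HasDerivedCategory.{w} C]

/-- a morphism in the derived category out of a K-projective complex is a chain map -/
lemma exists_map_eq_of_isKProjective (E₁ E₂ : CochainComplex C ℤ) [E₁.IsKProjective]
    (f : DerivedCategory.Q.obj E₁ ⟶ DerivedCategory.Q.obj E₂) :
    ∃ φ : E₁ ⟶ E₂, DerivedCategory.Q.map φ = f := by
  obtain ⟨g, hg⟩ := (CochainComplex.IsKProjective.Qh_map_bijective E₁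
    ((HomotopyCategory.quotient _ _).obj E₂)).2
    ((DerivedCategory.quotientCompQhIso C).hom.app E₁ ≫ f ≫
      (DerivedCategory.quotientCompQhIso C).inv.app E₂)
  obtain ⟨φ, rfl⟩ := (HomotopyCategory.quotient C (ComplexShape.up ℤ)).map_surjective g
  refine ⟨φ, ?_⟩
  have h := (DerivedCategory.quotientCompQhIso C).hom.naturality φ
  simp only [Functor.comp_map] at h
  rw [hg] at h
  simp only [Category.assoc, Iso.inv_hom_id_app, Category.comp_id] at h
  exact ((cancel_epi ((DerivedCategory.quotientCompQhIso C).hom.app E₁)).1 h).symm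

/-- cone of a map between complexes, K-projective source -/
theorem exists_iso_cone (T : Triangle (DerivedCategory C)) (hT : T ∈ distinguishedTriangles)
    (E₁ E₂ : CochainComplex C ℤ) [E₁.IsKProjective]
    (e₁ : DerivedCategory.Q.obj E₁ ≅ T.obj₁) (e₂ : DerivedCategory.Q.obj E₂ ≅ T.obj₂) :
    ∃ φ : E₁ ⟶ E₂, Nonempty (DerivedCategory.Q.obj (CochainComplex.mappingCone φ) ≅ T.obj₃) := by
  obtain ⟨φ, hφ⟩ := exists_map_eq_of_isKProjective E₁ E₂ (e₁.hom ≫ T.mor₁ ≫ e₂.inv)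
  refine ⟨φ, ?_⟩
  have hT' : DerivedCategory.Q.mapTriangle.obj (CochainComplex.mappingCone.triangle φ) ∈
      distTriang (DerivedCategory C) := by
    rw [DerivedCategory.mem_distTriang_iff]
    exact ⟨_, _, φ, ⟨Iso.refl _⟩⟩
  have iso := isoTriangleOfIso₁₂ _ T hT' hT e₁ e₂ (by
    show DerivedCategory.Q.map φ ≫ e₂.hom = e₁.hom ≫ T.mor₁
    rw [hφ, Category.assoc, Category.assoc, Iso.inv_hom_id, Category.comp_id])
  exact ⟨Triangle.π₃.mapIso iso⟩

/-- a morphism in the derived category into a K-injective complex is a chain map -/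
lemma exists_map_eq_of_isKInjective (E₁ E₂ : CochainComplex C ℤ) [E₂.IsKInjective]
    (f : DerivedCategory.Q.obj E₁ ⟶ DerivedCategory.Q.obj E₂) :
    ∃ φ : E₁ ⟶ E₂, DerivedCategory.Q.map φ = f := by
  obtain ⟨g, hg⟩ := (CochainComplex.IsKInjective.Qh_map_bijective
    ((HomotopyCategory.quotient _ _).obj E₁) E₂).2
    ((DerivedCategory.quotientCompQhIso C).hom.app E₁ ≫ f ≫
      (DerivedCategory.quotientCompQhIso C).inv.app E₂)
  obtain ⟨φ, rfl⟩ := (HomotopyCategory.quotient C (ComplexShape.up ℤ)).map_surjective g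
  refine ⟨φ, ?_⟩
  have h := (DerivedCategory.quotientCompQhIso C).hom.naturality φ
  simp only [Functor.comp_map] at h
  rw [hg] at h
  simp only [Category.assoc, Iso.inv_hom_id_app, Category.comp_id] at h
  exact ((cancel_epi ((DerivedCategory.quotientCompQhIso C).hom.app E₁)).1 h).symm

/-- cone of a map between complexes, K-injective target -/
theorem exists_iso_cone' (T : Triangle (DerivedCategory C)) (hT : T ∈ distinguishedTriangles)
    (E₁ E₂ : CochainComplex C ℤ) [E₂.IsKInjective]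
    (e₁ : DerivedCategory.Q.obj E₁ ≅ T.obj₁) (e₂ : DerivedCategory.Q.obj E₂ ≅ T.obj₂) :
    ∃ φ : E₁ ⟶ E₂, Nonempty (DerivedCategory.Q.obj (CochainComplex.mappingCone φ) ≅ T.obj₃) := by
  obtain ⟨φ, hφ⟩ := exists_map_eq_of_isKInjective E₁ E₂ (e₁.hom ≫ T.mor₁ ≫ e₂.inv)
  refine ⟨φ, ?_⟩
  have hT' : DerivedCategory.Q.mapTriangle.obj (CochainComplex.mappingCone.triangle φ) ∈
      distTriang (DerivedCategory C) := by
    rw [DerivedCategory.mem_distTriang_iff]
    exact ⟨_, _, φ, ⟨Iso.refl _⟩⟩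
  have iso := isoTriangleOfIso₁₂ _ T hT' hT e₁ e₂ (by
    show DerivedCategory.Q.map φ ≫ e₂.hom = e₁.hom ≫ T.mor₁
    rw [hφ, Category.assoc, Category.assoc, Iso.inv_hom_id, Category.comp_id])
  exact ⟨Triangle.π₃.mapIso iso⟩

theorem s11159 (T : Triangle (DerivedCategory C)) (hT : T ∈ distTriang (DerivedCategory C))
    (h₁ : (∃ (I : CochainComplex C ℤ) (b c : ℤ), I.IsStrictlyGE b ∧ I.IsStrictlyLE c ∧
        (∀ n : ℤ, Injective (I.X n)) ∧ Nonempty (T.obj₁ ≅ DerivedCategory.Q.obj I)))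
    (h₃ : (∃ (I : CochainComplex C ℤ) (b c : ℤ), I.IsStrictlyGE b ∧ I.IsStrictlyLE c ∧
        (∀ n : ℤ, Injective (I.X n)) ∧ Nonempty (T.obj₃ ≅ DerivedCategory.Q.obj I))) :
    (∃ (I : CochainComplex C ℤ) (b c : ℤ), I.IsStrictlyGE b ∧ I.IsStrictlyLE c ∧
        (∀ n : ℤ, Injective (I.X n)) ∧ Nonempty (T.obj₂ ≅ DerivedCategory.Q.obj I)) := by
  obtain ⟨I₁, b₁, c₁, hb₁, hc₁, hI₁, ⟨e₁⟩⟩ := h₁
  obtain ⟨I₃, b₃, c₃, hb₃, hc₃, hI₃, ⟨e₃⟩⟩ := h₃
  haveI := hb₁
  haveI := hI₁
  haveI : I₁.IsKInjective := CochainComplex.isKInjective_of_injective I₁ b₁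
  have hT' := inv_rot_of_distTriang T hT
  let E : CochainComplex C ℤ := I₃⟦(-1 : ℤ)⟧
  let eE : DerivedCategory.Q.obj E ≅ T.invRotate.obj₁ :=
    ((DerivedCategory.Q.commShiftIso (-1 : ℤ)).app I₃) ≪≫
      (shiftFunctor (DerivedCategory C) (-1 : ℤ)).mapIso e₃.symm
  obtain ⟨φ, ⟨e⟩⟩ := exists_iso_cone' T.invRotate hT' E I₁ eE e₁.symm
  have hEX : ∀ i : ℤ, E.X i = I₃.X (i + (-1)) := fun i => rfl
  refine ⟨CochainComplex.mappingCone φ, min b₁ b₃, max c₁ c₃, ?_, ?_, ?_, ⟨e.symm⟩⟩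
  · rw [CochainComplex.isStrictlyGE_iff]
    intro i hi
    apply isZero_mappingCone
    · rw [hEX]
      have := min_le_right b₁ b₃
      exact CochainComplex.isZero_of_isStrictlyGE I₃ b₃ _ (by omega)
    · have := min_le_left b₁ b₃
      exact CochainComplex.isZero_of_isStrictlyGE I₁ b₁ _ (by omega)
  · rw [CochainComplex.isStrictlyLE_iff]
    intro i hi
    apply isZero_mappingCone
    · rw [hEX]
      have := le_max_right c₁ c₃
      exact CochainComplex.isZero_of_isStrictlyLE I₃ c₃ _ (by omega)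
    · have := le_max_left c₁ c₃
      exact CochainComplex.isZero_of_isStrictlyLE I₁ c₁ _ (by omega)
  · intro i
    have h1 : Injective (E.X (i + 1)) := by
      rw [hEX]
      exact hI₃ _
    have : Injective (E.X (i + 1) ⊞ I₁.X i) := inferInstance
    exact Injective.of_iso (HomologicalComplex.homotopyCofiber.XIsoBiprod φ i (i + 1) rfl).symm this

theorem s5609 (hsum : ∀ X Y : C, P X → P Y → P (X ⨯ Y))
    (hlift : ∀ (E F : C) (u : E ⟶ F), Epi u → P F → IsSplitEpi u)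
    (T : Triangle (DerivedCategory C)) (hT : T ∈ distinguishedTriangles)
    (h₁ : (∃ (E : CochainComplex C ℤ) (a b : ℤ), (∀ i : ℤ, i < a ∨ b < i → IsZero (E.X i)) ∧
      (∀ i : ℤ, P (E.X i)) ∧ Nonempty (DerivedCategory.Q.obj E ≅ T.obj₁)))
    (h₂ : (∃ (E : CochainComplex C ℤ) (a b : ℤ), (∀ i : ℤ, i < a ∨ b < i → IsZero (E.X i)) ∧
      (∀ i : ℤ, P (E.X i)) ∧ Nonempty (DerivedCategory.Q.obj E ≅ T.obj₂))) :
    (∃ (E : CochainComplex C ℤ) (a b : ℤ), (∀ i : ℤ, i < a ∨ b < i → IsZero (E.X i)) ∧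
      (∀ i : ℤ, P (E.X i)) ∧ Nonempty (DerivedCategory.Q.obj E ≅ T.obj₃)) := by
  obtain ⟨E₁, a₁, b₁, hz₁, hP₁, ⟨e₁⟩⟩ := h₁
  obtain ⟨E₂, a₂, b₂, hz₂, hP₂, ⟨e₂⟩⟩ := h₂
  haveI : ∀ n, Projective (E₁.X n) := fun n =>
    projective_of_split _ (fun E u hu => hlift E _ u hu (hP₁ n))
  haveI : E₁.IsStrictlyLE b₁ := by
    rw [CochainComplex.isStrictlyLE_iff]
    intro i hi
    exact hz₁ i (Or.inr hi)
  haveI : E₁.IsKProjective := CochainComplex.isKProjective_of_projective E₁ b₁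
  obtain ⟨φ, ⟨e₃⟩⟩ := exists_iso_cone T hT E₁ E₂ e₁ e₂
  refine ⟨CochainComplex.mappingCone φ, min (a₁ - 1) a₂, max b₁ b₂, ?_, ?_, ⟨e₃⟩⟩
  · intro i hi
    apply isZero_mappingCone
    · apply hz₁
      rcases hi with hi | hi
      · left
        have := min_le_left (a₁ - 1) a₂
        omega
      · right
        have := le_max_left b₁ b₂
        omega
    · apply hz₂
      rcases hi with hi | hi
      · left
        have := min_le_right (a₁ - 1) a₂
        omega
      · right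
        have := le_max_right b₁ b₂
        omega
  · intro i
    exact prop_mappingCone P φ (prop_biprod P hsum) hP₁ hP₂ i

end Groth.Agent.Helper9.PerfCone
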