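import Mathlib
import Groth.Agent.Helper9.PerfCone

/-! Injective amplitude via `Ext` vanishing, in a general abelian category. -/

set_option autoImplicit false
universe w v u
open CategoryTheory CategoryTheory.Limits CategoryTheory.Pretriangulated

namespace Groth.Agent.Helper9.InjAmp

open DerivedCategory CochainComplex.HomComplex

variable {C : Type u} [Category.{v} C] [Abelian C] [HasDerivedCategory.{w} C]

/-- Chain maps into a K-injective complex which agree in `D(A)` are homotopic. -/
lemma homotopy_of_Q_map_eq_of_isKInjective (L I : CochainComplex C ℤ) [I.IsKInjective] (φ ψ : L ⟶ I)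
    (h : DerivedCategory.Q.map φ = DerivedCategory.Q.map ψ) : Nonempty (Homotopy φ ψ) := by
  have h2 : DerivedCategory.Qh.map ((HomotopyCategory.quotient _ _).map φ) =
      DerivedCategory.Qh.map ((HomotopyCategory.quotient _ _).map ψ) := by
    have h1 := DerivedCategory.quotientCompQhIso_hom_naturality φ
    have h1' := DerivedCategory.quotientCompQhIso_hom_naturality ψ
    rw [← cancel_mono ((DerivedCategory.quotientCompQhIso _).hom.app I), h1, h1', h]
  have := (CochainComplex.IsKInjective.Qh_map_bijective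
    ((HomotopyCategory.quotient _ _).obj L) I).injective h2
  exact ⟨HomotopyCategory.homotopyOfEq _ _ this⟩

/-- The cocycle attached to `f : N → I^i` with `f ≫ d = 0`. -/
noncomputable def extCocycleI (I : CochainComplex C ℤ) (N : C) (i : ℤ)
    (f : N ⟶ I.X i) (hf : f ≫ I.d i (i + 1) = 0) :
    Cocycle ((CochainComplex.singleFunctor C 0).obj N) I i :=
  Cocycle.fromSingleMk f (zero_add i) (i + 1) rfl hf

/-- The morphism `N[0] → I[i]` in `D(A)` attached to `f : N → I^i` with `f ≫ d = 0`. -/
noncomputable def extRepI (I : CochainComplex C ℤ) (N : C) (i : ℤ)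
    (f : N ⟶ I.X i) (hf : f ≫ I.d i (i + 1) = 0) :
    (DerivedCategory.singleFunctor C 0).obj N ⟶ (DerivedCategory.Q.obj I)⟦i⟧ :=
  (DerivedCategory.singleFunctorIsoCompQ C 0).hom.app N ≫
    DerivedCategory.Q.map (Cocycle.equivHomShift.symm (extCocycleI I N i f hf)) ≫
      (DerivedCategory.Q.commShiftIso i).hom.app I

lemma extRepI_surjective (I : CochainComplex C ℤ) [I.IsKInjective] (N : C) (i : ℤ)
    (e : (DerivedCategory.singleFunctor C 0).obj N ⟶ (DerivedCategory.Q.obj I)⟦i⟧) :
    ∃ (f : N ⟶ I.X i) (hf : f ≫ I.d i (i + 1) = 0), extRepI I N i f hf = e := by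
  haveI : (I⟦i⟧).IsKInjective := (CochainComplex.isKInjective_shift_iff I i).mpr inferInstance
  obtain ⟨φ, hφ⟩ := PerfCone.exists_map_eq_of_isKInjective _ (I⟦i⟧)
    ((DerivedCategory.singleFunctorIsoCompQ C 0).inv.app N ≫ e ≫
      (DerivedCategory.Q.commShiftIso i).inv.app I)
  obtain ⟨f, hf, h⟩ := Cocycle.fromSingleMk_surjective (Cocycle.equivHomShift φ) i (zero_add i)
    (i + 1) rfl
  refine ⟨f, hf, ?_⟩
  dsimp only [extRepI, extCocycleI]
  rw [h, AddEquiv.symm_apply_apply, hφ]
  simp

lemma extRepI_eq_zero_iff (I : CochainComplex C ℤ) [I.IsKInjective] (N : C) (i : ℤ)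
    (f : N ⟶ I.X i) (hf : f ≫ I.d i (i + 1) = 0) :
    extRepI I N i f hf = 0 ↔ ∃ h : N ⟶ I.X (i - 1), h ≫ I.d (i - 1) i = f := by
  haveI : (I⟦i⟧).IsKInjective := (CochainComplex.isKInjective_shift_iff I i).mpr inferInstance
  rw [← Cocycle.fromSingleMk_mem_coboundaries_iff f (zero_add i) (i + 1) rfl hf (i - 1) (by omega),
    ← CohomologyClass.toHom_mk_eq_zero_iff, CohomologyClass.toHom_mk]
  dsimp only [extRepI, extCocycleI]
  constructor
  · intro h
    have h1 : DerivedCategory.Q.map (Cocycle.equivHomShift.symm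
        (Cocycle.fromSingleMk f (zero_add i) (i + 1) rfl hf)) = DerivedCategory.Q.map 0 := by
      rw [Functor.map_zero,
        ← cancel_epi ((DerivedCategory.singleFunctorIsoCompQ C 0).hom.app N),
        ← cancel_mono ((DerivedCategory.Q.commShiftIso i).hom.app I), Category.assoc, h,
        comp_zero, zero_comp]
    obtain ⟨H⟩ := homotopy_of_Q_map_eq_of_isKInjective _ (I⟦i⟧) _ _ h1
    rw [HomotopyCategory.eq_of_homotopy _ _ H, Functor.map_zero]
  · intro h
    have h2 : DerivedCategory.Q.map (Cocycle.equivHomShift.symm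
        (Cocycle.fromSingleMk f (zero_add i) (i + 1) rfl hf)) = 0 := by
      have := DerivedCategory.quotientCompQhIso_hom_naturality (C := C)
        (Cocycle.equivHomShift.symm (Cocycle.fromSingleMk f (zero_add i) (i + 1) rfl hf))
      rw [h, Functor.map_zero, zero_comp] at this
      rw [← cancel_epi ((DerivedCategory.quotientCompQhIso C).hom.app
        ((CochainComplex.singleFunctor C 0).obj N)), ← this, comp_zero]
    rw [h2, zero_comp, comp_zero]

lemma extRepI_zero (I : CochainComplex C ℤ) [I.IsKInjective] (N : C) (i : ℤ) :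
    extRepI I N i 0 (by rw [zero_comp]) = 0 := by
  rw [extRepI_eq_zero_iff]
  exact ⟨0, by rw [zero_comp]⟩

/-- if `I^i = 0` then all maps `N[0] → I[i]` vanish -/
lemma hom_eq_zero_of_isZero (I : CochainComplex C ℤ) [I.IsKInjective] (N : C) (i : ℤ)
    (hI : IsZero (I.X i))
    (e : (DerivedCategory.singleFunctor C 0).obj N ⟶ (DerivedCategory.Q.obj I)⟦i⟧) : e = 0 := by
  obtain ⟨f, hf, rfl⟩ := extRepI_surjective I N i e
  obtain rfl : f = 0 := hI.eq_of_tgt _ _
  exact extRepI_zero I N i

end Groth.Agent.Helper9.InjAmp
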