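import Mathlib
import Groth.Agent.Helper9.InjAmp

/-! Injective amplitude via `Ext` vanishing, in a general abelian category, part 2. -/

set_option autoImplicit false
universe w v u
open CategoryTheory CategoryTheory.Limits CategoryTheory.Pretriangulated

namespace Groth.Agent.Helper9.InjAmp

open DerivedCategory CochainComplex.HomComplex

variable {C : Type u} [Category.{v} C] [Abelian C] [HasDerivedCategory.{w} C]

/-- if all maps `F[0] → Q K` vanish then `H^0 K = 0`. -/
lemma isZero_homology_of_hom_eq_zero (K : CochainComplex C ℤ)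
    (h : ∀ (F : C) (φ : (DerivedCategory.singleFunctor C 0).obj F ⟶ DerivedCategory.Q.obj K), φ = 0) :
    IsZero (K.homology 0) := by
  let S : CochainComplex C ℤ := (HomologicalComplex.single C (ComplexShape.up ℤ) 0).obj (K.cycles 0)
  let ψ : S ⟶ K :=
    HomologicalComplex.mkHomFromSingle (K.iCycles 0) (by
      intro k hk
      simp)
  have hQ : DerivedCategory.Q.map ψ = 0 := by
    have := h (K.cycles 0)
      ((DerivedCategory.singleFunctorIsoCompQ C 0).hom.app (K.cycles 0) ≫ DerivedCategory.Q.map ψ)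
    exact (cancel_epi ((DerivedCategory.singleFunctorIsoCompQ C 0).hom.app (K.cycles 0))).1
      (this.trans comp_zero.symm)
  have hH : HomologicalComplex.homologyMap ψ 0 = 0 := by
    have h1 := (DerivedCategory.homologyFunctorFactors C 0).hom.naturality ψ
    dsimp at h1
    rw [hQ, Functor.map_zero, zero_comp] at h1
    have h1' : (DerivedCategory.homologyFunctorFactors C 0).hom.app S ≫
        HomologicalComplex.homologyMap ψ 0 = 0 := h1.symm
    exact (cancel_epi ((DerivedCategory.homologyFunctorFactors C 0).hom.app S)).1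
      (h1'.trans comp_zero.symm)
  have h2 := HomologicalComplex.homologyπ_naturality ψ 0
  rw [hH, comp_zero] at h2
  have h3 : IsIso (HomologicalComplex.cyclesMap ψ 0) := by
    have : HomologicalComplex.cyclesMap ψ 0 =
        (HomologicalComplex.singleObjCyclesSelfIso (ComplexShape.up ℤ) 0 (K.cycles 0)).hom := by
      rw [← cancel_mono (K.iCycles 0), HomologicalComplex.cyclesMap_i,
        HomologicalComplex.singleObjCyclesSelfIso_hom, Category.assoc]
      congr 1
      exact HomologicalComplex.mkHomFromSingle_f _ _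
    rw [this]
    infer_instance
  have h4 : K.homologyπ 0 = 0 := by
    rw [← cancel_epi (HomologicalComplex.cyclesMap ψ 0), ← h2, comp_zero]
  rw [IsZero.iff_id_eq_zero, ← cancel_epi (K.homologyπ 0), h4, zero_comp, zero_comp]

/-- if all maps `F[0] → X[i]` vanish then `H^i X = 0`. -/
lemma isZero_homology_of_hom_eq_zero' (X : DerivedCategory C) (i : ℤ)
    (h : ∀ (F : C) (φ : (DerivedCategory.singleFunctor C 0).obj F ⟶ X⟦i⟧), φ = 0) :
    IsZero ((DerivedCategory.homologyFunctor C i).obj X) := by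
  let K := DerivedCategory.Q.objPreimage (X⟦i⟧)
  let e : DerivedCategory.Q.obj K ≅ X⟦i⟧ := DerivedCategory.Q.objObjPreimageIso _
  have h1 : IsZero (K.homology 0) := by
    apply isZero_homology_of_hom_eq_zero
    intro F φ
    have := h F (φ ≫ e.hom)
    rw [← cancel_mono e.hom, this, zero_comp]
  have h2 : IsZero ((DerivedCategory.homologyFunctor C 0).obj (X⟦i⟧)) :=
    h1.of_iso ((DerivedCategory.homologyFunctor C 0).mapIso e.symm ≪≫
      (DerivedCategory.homologyFunctorFactors C 0).app K)
  exact h2.of_iso (((DerivedCategory.homologyFunctor C 0).shiftIso i 0 i (by simp)).app X).symm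

/-- Bounded below objects of `D(A)` have injective resolutions. -/
theorem exists_injective_rep [EnoughInjectives C] (X : DerivedCategory C) (a : ℤ) [X.IsGE a] :
    ∃ (E : CochainComplex C ℤ), E.IsStrictlyGE a ∧
      (∀ i : ℤ, Injective (E.X i)) ∧ Nonempty (DerivedCategory.Q.obj E ≅ X) := by
  obtain ⟨K', hK', ⟨e⟩⟩ := X.exists_iso_Q_obj_of_isGE a
  obtain ⟨L, i, hi, hL, hL'⟩ :=
    CochainComplex.Plus.modelCategoryQuillen.exists_quasiIso_injective K' a
  have hiso : IsIso (DerivedCategory.Q.map i) :=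
    (DerivedCategory.isIso_Q_map_iff_quasiIso C _).mpr hi
  exact ⟨L, hL', hL, ⟨(asIso (DerivedCategory.Q.map i)).symm ≪≫ e.symm⟩⟩

/-- The cycles in degree `b` of a K-injective complex of injectives are injective as soon as
all `Ext^{b+1}(F, E)` vanish. -/
theorem injective_cycles (E : CochainComplex C ℤ) [E.IsKInjective]
    (hinj : ∀ i : ℤ, Injective (E.X i)) (b : ℤ)
    (h : ∀ (F : C) (e : (DerivedCategory.singleFunctor C 0).obj F ⟶
      (DerivedCategory.Q.obj E)⟦b + 1⟧), e = 0) :
    Injective (E.cycles b) := by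
  constructor
  intro M N g f hf
  have := hinj b
  let g₂ : N ⟶ E.X b := Injective.factorThru (g ≫ E.iCycles b) f
  have hg₂ : f ≫ g₂ = g ≫ E.iCycles b := Injective.comp_factorThru _ _
  have h0 : f ≫ (g₂ ≫ E.d b (b + 1)) = 0 := by
    rw [← Category.assoc, hg₂, Category.assoc, E.iCycles_d, comp_zero]
  let hq : cokernel f ⟶ E.X (b + 1) := cokernel.desc f (g₂ ≫ E.d b (b + 1)) h0
  have hq' : cokernel.π f ≫ hq = g₂ ≫ E.d b (b + 1) := cokernel.π_desc _ _ _
  have hcoc : hq ≫ E.d (b + 1) (b + 1 + 1) = 0 := by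
    rw [← cancel_epi (cokernel.π f), ← Category.assoc, hq', Category.assoc, E.d_comp_d,
      comp_zero, comp_zero]
  have h1 := h _ (extRepI E (cokernel f) (b + 1) hq hcoc)
  rw [extRepI_eq_zero_iff] at h1
  obtain ⟨k', hk'⟩ := h1
  obtain ⟨k, hk⟩ : ∃ k : cokernel f ⟶ E.X b, k ≫ E.d b (b + 1) = hq := by
    have : ∀ (c : ℤ) (hc : c = b) (h'' : cokernel f ⟶ E.X c),
        h'' ≫ E.d c (b + 1) = hq → ∃ k : cokernel f ⟶ E.X b, k ≫ E.d b (b + 1) = hq := by
      intro c hc h'' hh''
      subst hc
      exact ⟨h'', hh''⟩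
    exact this (b + 1 - 1) (by omega) k' hk'
  let g' : N ⟶ E.X b := g₂ - cokernel.π f ≫ k
  have hg' : g' ≫ E.d b (b + 1) = 0 := by
    dsimp only [g']
    rw [Preadditive.sub_comp, Category.assoc, hk, hq', sub_self]
  refine ⟨E.liftCycles g' (b + 1) (by simp) hg', ?_⟩
  rw [← cancel_mono (E.iCycles b), Category.assoc, HomologicalComplex.liftCycles_i]
  dsimp only [g']
  rw [Preadditive.comp_sub, hg₂, ← Category.assoc, cokernel.condition, zero_comp, sub_zero]

/-- The truncation `τ_{≤b}E` of a complex of injectives with injective cycles in degree `b`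
is a complex of injectives. -/
lemma truncLE_injective (E : CochainComplex C ℤ)
    (hinj : ∀ i : ℤ, Injective (E.X i)) (b : ℤ) (hker : Injective (E.cycles b)) (i : ℤ) :
    Injective ((E.truncLE b).X i) := by
  by_cases h1 : b < i
  · exact ((E.truncLE b).isZero_of_isStrictlyLE b i h1).injective
  · by_cases h2 : i = b
    · subst h2
      exact Injective.of_iso (E.truncLEXIsoCycles i).symm hker
    · exact Injective.of_iso (E.truncLEXIso b i (by omega)).symm (hinj i)

lemma truncLE_isZero (E : CochainComplex C ℤ) (a : ℤ) [E.IsStrictlyGE a] (b : ℤ) (i : ℤ)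
    (hi : i < a ∨ b < i) : IsZero ((E.truncLE b).X i) := by
  rcases hi with hi | hi
  · by_cases h1 : i < b
    · exact (E.isZero_of_isStrictlyGE a i hi).of_iso (E.truncLEXIso b i h1)
    · by_cases h2 : i = b
      · subst h2
        have hz : IsZero (E.X i) := E.isZero_of_isStrictlyGE a i hi
        refine IsZero.of_iso ?_ (E.truncLEXIsoCycles i)
        rw [IsZero.iff_id_eq_zero, ← cancel_mono (E.iCycles i)]
        exact hz.eq_of_tgt _ _
      · exact (E.truncLE b).isZero_of_isStrictlyLE b i (by omega)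
  · exact (E.truncLE b).isZero_of_isStrictlyLE b i hi

/-- Core of the injective amplitude criterion: `E` a bounded below complex of injectives
with `Ext^i(F, E) = 0` for `i > b`. Then `τ_{≤ b} E → E` is a quasi-isomorphism from a complex
of injectives in `[a, b]`. -/
theorem truncLE_of_ext (E : CochainComplex C ℤ) (a : ℤ) [E.IsStrictlyGE a]
    (hinj : ∀ i : ℤ, Injective (E.X i)) (b : ℤ)
    (h : ∀ (F : C) (i : ℤ), b < i →
      ∀ e : (DerivedCategory.singleFunctor C 0).obj F ⟶ (DerivedCategory.Q.obj E)⟦i⟧, e = 0) :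
    (∀ i, Injective ((E.truncLE b).X i)) ∧ (∀ i, (i < a ∨ b < i) → IsZero ((E.truncLE b).X i)) ∧
      QuasiIso (E.ιTruncLE b) := by
  haveI : E.IsKInjective := CochainComplex.isKInjective_of_injective E a
  have hker : Injective (E.cycles b) :=
    injective_cycles E hinj b (fun F e => h F (b + 1) (by omega) e)
  refine ⟨truncLE_injective E hinj b hker, truncLE_isZero E a b, ?_⟩
  rw [E.quasiIso_ιTruncLE_iff b, ← DerivedCategory.isLE_Q_obj_iff, DerivedCategory.isLE_iff]
  intro i hi
  exact isZero_homology_of_hom_eq_zero' _ i (fun F φ => h F i hi φ)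

/-- The injective amplitude criterion. -/
theorem exists_injective_rep_of_ext [EnoughInjectives C] (X : DerivedCategory C) (a b : ℤ)
    (h : ∀ (F : C) (i : ℤ), (i < a ∨ b < i) →
      ∀ e : (DerivedCategory.singleFunctor C 0).obj F ⟶ X⟦i⟧, e = 0) :
    ∃ I : CochainComplex C ℤ, (∀ i, Injective (I.X i)) ∧ (∀ i, (i < a ∨ b < i) → IsZero (I.X i)) ∧
        Nonempty (DerivedCategory.Q.obj I ≅ X) := by
  haveI : X.IsGE a := by
    rw [DerivedCategory.isGE_iff]
    intro i hi
    exact isZero_homology_of_hom_eq_zero' X i (fun F φ => h F i (Or.inl hi) φ)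
  obtain ⟨E, hE, hinj, ⟨eE⟩⟩ := exists_injective_rep X a
  obtain ⟨h1, h2, h3⟩ := truncLE_of_ext E a hinj b (by
    intro F i hi e
    have h0 := h F i (Or.inr hi) (e ≫ eE.hom⟦i⟧')
    rw [← cancel_mono (eE.hom⟦i⟧'), h0, zero_comp])
  have hiso : IsIso (DerivedCategory.Q.map (E.ιTruncLE b)) :=
    (DerivedCategory.isIso_Q_map_iff_quasiIso C _).mpr h3
  exact ⟨E.truncLE b, h1, h2, ⟨asIso (DerivedCategory.Q.map (E.ιTruncLE b)) ≪≫ eE⟩⟩

/-- converse -/
theorem ext_eq_zero_of_iso (X : DerivedCategory C) (a : ℤ) (I : CochainComplex C ℤ)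
    (hinj : ∀ i, Injective (I.X i)) [I.IsStrictlyGE a] (e : DerivedCategory.Q.obj I ≅ X)
    (F : C) (i : ℤ) (hi : IsZero (I.X i))
    (φ : (DerivedCategory.singleFunctor C 0).obj F ⟶ X⟦i⟧) : φ = 0 := by
  haveI : I.IsKInjective := CochainComplex.isKInjective_of_injective I a
  have := hom_eq_zero_of_isZero I F i hi (φ ≫ e.inv⟦i⟧')
  rw [← cancel_mono (e.inv⟦i⟧'), this, zero_comp]

end Groth.Agent.Helper9.InjAmp
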