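import Mathlib
import Groth.Agent.Helper9.InjAmp2

/-! Products in the derived category computed by products of K-injective complexes. -/

set_option autoImplicit false
universe w v u
open CategoryTheory CategoryTheory.Limits

namespace Groth.Agent.Helper9.DProd

open CochainComplex HomComplex

variable {A : Type u} [Category.{v} A] [Abelian A]

theorem homotopy_zero_iff_ext {K L : CochainComplex A ℤ} (f : K ⟶ L) :
    Nonempty (Homotopy f 0) ↔ ∃ g : mappingCone (𝟙 K) ⟶ L, mappingCone.inr (𝟙 K) ≫ g = f := by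
  constructor
  · rintro ⟨h⟩
    obtain ⟨α, hα⟩ := Cochain.equivHomotopy f 0 h
    rw [Cochain.ofHom_zero, add_zero] at hα
    refine ⟨mappingCone.desc (𝟙 K) α f (by rw [← hα, Category.id_comp]), ?_⟩
    simp
  · rintro ⟨g, rfl⟩
    refine ⟨(Cochain.equivHomotopy _ 0).symm
      ⟨(mappingCone.inl (𝟙 K)).comp (Cochain.ofHom g) (add_zero _), ?_⟩⟩
    rw [Cochain.ofHom_zero, add_zero, δ_comp_ofHom, mappingCone.δ_inl, Category.id_comp,
      ← Cochain.ofHom_comp]

variable {T : Type*} (I : T → CochainComplex A ℤ) [HasProduct I]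

/-- maps into a product which are componentwise null-homotopic are null-homotopic -/
theorem homotopy_zero_of_pi {K : CochainComplex A ℤ} (f : K ⟶ ∏ᶜ I)
    (h : ∀ t, Nonempty (Homotopy (f ≫ Pi.π I t) 0)) : Nonempty (Homotopy f 0) := by
  rw [homotopy_zero_iff_ext]
  have : ∀ t, ∃ g : mappingCone (𝟙 K) ⟶ I t,
      mappingCone.inr (𝟙 K) ≫ g = f ≫ Pi.π I t := fun t =>
    (homotopy_zero_iff_ext _).1 (h t)
  choose g hg using this
  refine ⟨Pi.lift g, ?_⟩
  apply Pi.hom_ext
  intro t
  simp [hg]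

theorem isKInjective_pi (h : ∀ t, (I t).IsKInjective) : (∏ᶜ I).IsKInjective :=
  ⟨fun {K} f hK => homotopy_zero_of_pi I f
    (fun t => (h t).nonempty_homotopy_zero (f ≫ Pi.π I t) hK)⟩

theorem homotopy_of_pi {K : CochainComplex A ℤ} (f g : K ⟶ ∏ᶜ I)
    (h : ∀ t, Nonempty (Homotopy (f ≫ Pi.π I t) (g ≫ Pi.π I t))) : Nonempty (Homotopy f g) := by
  have h1 : Nonempty (Homotopy (f - g) 0) := by
    apply homotopy_zero_of_pi I
    intro t
    obtain ⟨H⟩ := h t
    rw [Preadditive.sub_comp]
    exact ⟨Homotopy.equivSubZero H⟩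
  obtain ⟨H⟩ := h1
  exact ⟨Homotopy.equivSubZero.symm H⟩

variable [HasDerivedCategory.{w} A]

lemma Q_map_eq_of_homotopy {K L : CochainComplex A ℤ} (f g : K ⟶ L) (h : Homotopy f g) :
    DerivedCategory.Q.map f = DerivedCategory.Q.map g := by
  have h1 := DerivedCategory.quotientCompQhIso_hom_naturality (C := A) f
  have h2 := DerivedCategory.quotientCompQhIso_hom_naturality (C := A) g
  rw [HomotopyCategory.eq_of_homotopy f g h] at h1
  rw [← cancel_epi ((DerivedCategory.quotientCompQhIso A).hom.app K), ← h1, ← h2]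

/-- joint monicity of the projections -/
theorem hom_ext_pi (hI : ∀ t, (I t).IsKInjective) {X : DerivedCategory A}
    (m m' : X ⟶ DerivedCategory.Q.obj (∏ᶜ I))
    (h : ∀ t, m ≫ DerivedCategory.Q.map (Pi.π I t) = m' ≫ DerivedCategory.Q.map (Pi.π I t)) :
    m = m' := by
  haveI := isKInjective_pi I hI
  let L := DerivedCategory.Q.objPreimage X
  let eX : DerivedCategory.Q.obj L ≅ X := DerivedCategory.Q.objObjPreimageIso X
  obtain ⟨ψ, hψ⟩ := PerfCone.exists_map_eq_of_isKInjective L (∏ᶜ I) (eX.hom ≫ m)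
  obtain ⟨ψ', hψ'⟩ := PerfCone.exists_map_eq_of_isKInjective L (∏ᶜ I) (eX.hom ≫ m')
  have hh : Nonempty (Homotopy ψ ψ') := by
    apply homotopy_of_pi I
    intro t
    haveI := hI t
    apply InjAmp.homotopy_of_Q_map_eq_of_isKInjective
    rw [Functor.map_comp, Functor.map_comp, hψ, hψ', Category.assoc, Category.assoc, h t]
  obtain ⟨H⟩ := hh
  have := Q_map_eq_of_homotopy ψ ψ' H
  rw [hψ, hψ'] at this
  exact (cancel_epi eX.hom).1 this

/-- existence of lifts -/
theorem exists_lift_pi (hI : ∀ t, (I t).IsKInjective) {X : DerivedCategory A}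
    (g : ∀ t, X ⟶ DerivedCategory.Q.obj (I t)) :
    ∃ m : X ⟶ DerivedCategory.Q.obj (∏ᶜ I), ∀ t, m ≫ DerivedCategory.Q.map (Pi.π I t) = g t := by
  let L := DerivedCategory.Q.objPreimage X
  let eX : DerivedCategory.Q.obj L ≅ X := DerivedCategory.Q.objObjPreimageIso X
  have : ∀ t, ∃ φ : L ⟶ I t, DerivedCategory.Q.map φ = eX.hom ≫ g t := fun t => by
    haveI := hI t
    exact PerfCone.exists_map_eq_of_isKInjective L (I t) _
  choose φ hφ using this
  refine ⟨eX.inv ≫ DerivedCategory.Q.map (Pi.lift φ), fun t => ?_⟩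
  rw [Category.assoc, ← Functor.map_comp, Pi.lift_π, hφ, Iso.inv_hom_id_assoc]

/-- the product of K-injective complexes computes the product in the derived category -/
theorem hasProduct_of_iso (hI : ∀ t, (I t).IsKInjective) (K : T → DerivedCategory A)
    (e : ∀ t, DerivedCategory.Q.obj (I t) ≅ K t) : HasProduct K := by
  let c : Fan K := Fan.mk (DerivedCategory.Q.obj (∏ᶜ I))
    (fun t => DerivedCategory.Q.map (Pi.π I t) ≫ (e t).hom)
  have hex : ∀ s : Fan K, ∃ m : s.pt ⟶ DerivedCategory.Q.obj (∏ᶜ I),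
      ∀ t, m ≫ DerivedCategory.Q.map (Pi.π I t) = s.proj t ≫ (e t).inv := fun s =>
    exists_lift_pi I hI _
  choose lift hlift using hex
  have hc : IsLimit c := Fan.IsLimit.mk c lift
    (fun s t => by
      change lift s ≫ DerivedCategory.Q.map (Pi.π I t) ≫ (e t).hom = s.proj t
      rw [← Category.assoc, hlift, Category.assoc, Iso.inv_hom_id, Category.comp_id])
    (fun s m hm => by
      apply hom_ext_pi I hI
      intro t
      rw [hlift]
      have := hm t
      change m ≫ DerivedCategory.Q.map (Pi.π I t) ≫ (e t).hom = s.proj t at this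
      rw [← this, Category.assoc, Category.assoc, Iso.hom_inv_id, Category.comp_id])
  exact ⟨⟨⟨c, hc⟩⟩⟩

end Groth.Agent.Helper9.DProd
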