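import Mathlib
import Groth.Agent.Helper9.DProd
import Groth.Agent.Helper4.KInjRes

/-!
# Products in the derived category of a Grothendieck abelian category
-/

set_option autoImplicit false
set_option linter.style.haveILetI false
set_option linter.unusedSectionVars false
set_option linter.unusedVariables false

universe w v u

namespace Groth.Agent.Helper9.LCProd1

open CategoryTheory Limits

variable {A : Type u} [Category.{v} A] [Abelian A] [IsGrothendieckAbelian.{v} A]
  [HasDerivedCategory.{w} A]

theorem hasProduct {T : Type*} [HasProductsOfShape T A] (K : T → DerivedCategory A) :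
    HasProduct K := by
  have h : ∀ t, ∃ (I : CochainComplex A ℤ), I.IsKInjective ∧
      Nonempty (DerivedCategory.Q.obj I ≅ K t) := by
    intro t
    obtain ⟨I, f, hI, hf, -, -⟩ :=
      Groth.Agent.Helper4.KInjRes.exists_resolution (DerivedCategory.Q.objPreimage (K t))
    haveI := hf
    haveI : IsIso (DerivedCategory.Q.map f) := by
      rw [DerivedCategory.isIso_Q_map_iff_quasiIso]
      exact hf
    exact ⟨I, hI, ⟨(asIso (DerivedCategory.Q.map f)).symm ≪≫
      DerivedCategory.Q.objObjPreimageIso (K t)⟩⟩
  choose I hI e using h
  haveI : HasProduct I := inferInstance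
  exact DProd.hasProduct_of_iso I hI K (fun t => (e t).some)

end Groth.Agent.Helper9.LCProd1

namespace Groth.Agent.Helper9.LCProd1

open CategoryTheory Limits

variable {A : Type u} [Category.{v} A] [Abelian A] [IsGrothendieckAbelian.{v} A]
  [HasDerivedCategory.{w} A]

theorem hasProduct_nat (K : ℕ → DerivedCategory A) : HasProduct K := hasProduct K

end Groth.Agent.Helper9.LCProd1
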