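import Mathlib
import Groth.Agent.Helper9.LC7
import Groth.Agent.Helper9.LCProd1

/-!
# Maps from `R[-i]` in `D(R)` are computed on cohomology
-/

set_option autoImplicit false
set_option linter.style.haveILetI false
set_option linter.unusedSectionVars false
set_option linter.unusedVariables false

universe u

namespace Groth.Agent.Helper9.LCMod1

open CategoryTheory Limits
open Groth.Agent.Helper9.LC2 Groth.Agent.Helper9.LC3

attribute [local instance] HasDerivedCategory.standard

variable (R : Type u) [CommRing R]

/-- the class consisting of the free module of rank one -/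
def 𝒢 : ObjectProperty (ModuleCat.{u} R) := fun G => G = ModuleCat.of R R

theorem isSeparating_𝒢 : (𝒢 R).IsSeparating := by
  intro X Y f g h
  ext x
  have := h (ModuleCat.of R R) rfl (ModuleCat.ofHom (LinearMap.toSpanSingleton R X x))
  have h2 := congrArg (fun φ => φ.hom (1 : R)) this
  simpa using h2

theorem acyc (N : ModuleCat.{u} R) : Acyc (ModuleCat.of R R) N := by
  haveI : HasExt.{u} (ModuleCat.{u} R) := hasExt_of_enoughProjectives _
  apply LC6.acyc_of_subsingleton_ext.{u}
  intro n
  haveI : Projective (ModuleCat.of R R) := ModuleCat.projective_of_free (Module.Basis.singleton PUnit.{1} R)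
  exact Abelian.Ext.subsingleton_of_projective _ _ n

/-- **K''** in `D(R)` -/
theorem bijective_homologyMap (E : DerivedCategory (ModuleCat.{u} R)) (i : ℤ) :
    Function.Bijective (fun f : W (ModuleCat.of R R) i ⟶ E =>
      (DerivedCategory.homologyFunctor (ModuleCat.{u} R) i).map f) := by
  haveI := LCProd1.hasProduct_nat (LC6.En E)
  exact LC7.bijective_homologyMap (𝒢 R) (isSeparating_𝒢 R) E
    (fun G hG p => by rw [hG]; exact acyc R _) _ rfl i

end Groth.Agent.Helper9.LCMod1
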