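import Mathlib
import Groth.Agent.Helper9.LC7
import Groth.Agent.Helper9.LCProd1
import Groth.Agent.Helper9.LCUnit1
import Groth.Agent.Helper4.SchAdj
import Groth.Prelude.Def_DCoh2

/-!
# Maps from `O_X[-i]` to an object of `D_QCoh(O_X)`, `X` affine, are computed on cohomology
-/

set_option autoImplicit false
set_option linter.style.haveILetI false
set_option linter.unusedSectionVars false
set_option linter.unusedVariables false

universe w' v' u' u

namespace Groth.Agent.Helper9.LCQc1

open CategoryTheory Limits AlgebraicGeometry
open Groth.Agent.Helper9.LC2 Groth.Agent.Helper9.LC3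

attribute [local instance] HasDerivedCategory.standard

section gen

variable {A : Type u'} [Category.{v'} A] [Abelian A] [HasDerivedCategory.{w'} A]

/-- transfer of K'' along an isomorphism of test objects -/
lemma bijective_homologyMap_of_iso {G G' : A} (e : G ≅ G') (E : DerivedCategory A) (i : ℤ)
    (h : Function.Bijective (fun f : W G i ⟶ E =>
      (DerivedCategory.homologyFunctor A i).map f)) :
    Function.Bijective (fun f : W G' i ⟶ E =>
      (DerivedCategory.homologyFunctor A i).map f) := by
  let ε : W G i ≅ W G' i := (DerivedCategory.singleFunctor A i).mapIso e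
  have h1 : Function.Bijective (fun f : W G' i ⟶ E => ε.hom ≫ f) :=
    ⟨fun f g hfg => (cancel_epi ε.hom).1 hfg, fun f => ⟨ε.inv ≫ f, by simp⟩⟩
  have h2 : Function.Bijective
      (fun g : (DerivedCategory.homologyFunctor A i).obj (W G i) ⟶
          (DerivedCategory.homologyFunctor A i).obj E =>
        (DerivedCategory.homologyFunctor A i).map ε.inv ≫ g) :=
    ⟨fun f g hfg => (cancel_epi _).1 hfg, fun f =>
      ⟨(DerivedCategory.homologyFunctor A i).map ε.hom ≫ f, by
        simp [← Functor.map_comp_assoc]⟩⟩
  have h3 := h2.comp (h.comp h1)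
  convert h3 using 1
  funext f
  simp [← Functor.map_comp]

end gen

variable {X : Scheme.{u}}

/-- **K''** for the structure sheaf of an affine scheme and objects with quasi-coherent cohomology -/
theorem bijective_homologyMap [IsAffine X] (E : DCoh.D X) (hE : DCoh.IsQCohD E) (i : ℤ) :
    Function.Bijective (fun f : W (SheafOfModules.unit X.ringCatSheaf : X.Modules) i ⟶ E =>
      (DerivedCategory.homologyFunctor X.Modules i).map f) := by
  haveI := Groth.Agent.Helper4.SchAdj.isGrothendieckAbelian_modules X
  haveI := LCProd1.hasProduct_nat (LC6.En E)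
  have h := LC7.bijective_homologyMap (LCAff1.𝒢 X) (LCAff1.isSeparating_𝒢 X) E
    (fun G hG p => by
      obtain ⟨U, hU, rfl⟩ := hG
      haveI : ((DerivedCategory.homologyFunctor X.Modules p).obj E).IsQuasicoherent := hE p
      exact LCAff1.acyc U hU _) (LCAff1.GU (⊤ : X.Opens)) ⟨⊤, isAffineOpen_top X, rfl⟩ i
  exact bijective_homologyMap_of_iso (LCUnit1.unitIsoGU X).symm E i h

end Groth.Agent.Helper9.LCQc1
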