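import Mathlib
import Groth.Agent.Helper9.LCMod1
import Groth.Agent.Helper9.LCQc1
import Groth.Agent.Lead.PcLib2
import Groth.Prelude.Def_DCoh2

/-!
# `D(R) ⥤ D(O_{Spec R})`: bijectivity on maps out of `R[-i]`
-/

set_option autoImplicit false
set_option linter.style.haveILetI false
set_option linter.unusedSectionVars false
set_option linter.unusedVariables false

universe w' v' u' u

namespace Groth.Agent.Helper9.LCTil1

open CategoryTheory Limits AlgebraicGeometry
open Groth.Agent.Helper9.LC2 Groth.Agent.Helper9.LC3

attribute [local instance] HasDerivedCategory.standard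

section gen

variable {A : Type u'} [Category.{v'} A] [Abelian A] [HasDerivedCategory.{w'} A]

/-- transfer of K'' along an isomorphism of test objects in the derived category -/
lemma bijective_homologyMap_of_iso {V V' : DerivedCategory A} (ε : V ≅ V')
    (E : DerivedCategory A) (i : ℤ)
    (h : Function.Bijective (fun f : V ⟶ E =>
      (DerivedCategory.homologyFunctor A i).map f)) :
    Function.Bijective (fun f : V' ⟶ E =>
      (DerivedCategory.homologyFunctor A i).map f) := by
  have h1 : Function.Bijective (fun f : V' ⟶ E => ε.hom ≫ f) :=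
    ⟨fun f g hfg => (cancel_epi ε.hom).1 hfg, fun f => ⟨ε.inv ≫ f, by simp⟩⟩
  have h2 : Function.Bijective
      (fun g : (DerivedCategory.homologyFunctor A i).obj V ⟶
          (DerivedCategory.homologyFunctor A i).obj E =>
        (DerivedCategory.homologyFunctor A i).map ε.inv ≫ g) :=
    ⟨fun f g hfg => (cancel_epi _).1 hfg, fun f =>
      ⟨(DerivedCategory.homologyFunctor A i).map ε.hom ≫ f, by
        simp [← Functor.map_comp_assoc]⟩⟩
  have h3 := h2.comp (h.comp h1)
  convert h3 using 1
  funext f
  simp [← Functor.map_comp]

end gen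

variable (R : CommRingCat.{u}) [PreservesFiniteLimits (tilde.functor R)]

/-- the cohomology sheaves of `M~` are quasi-coherent -/
theorem isQCohD_tildeD (M : DerivedCategory (ModuleCat.{u} R)) :
    DCoh.IsQCohD ((DCoh.tildeD R).obj M) := by
  intro i
  exact (SheafOfModules.isQuasicoherent (Spec (CommRingCat.of R)).ringCatSheaf).prop_of_iso
    ((Groth.Agent.Lead.PcLib.mapDerivedCategoryHomologyIso (tilde.functor R) i).app M).symm
    (by
      show ((tilde.functor R).obj _).IsQuasicoherent
      infer_instance)

/-- `R~[-i] ≅ (R[-i])~` -/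
noncomputable def singleIso (i : ℤ) :
    (DCoh.tildeD R).obj (W (ModuleCat.of R R) i) ≅
      W (SheafOfModules.unit (Spec (CommRingCat.of R)).ringCatSheaf :
        (Spec (CommRingCat.of R)).Modules) i :=
  ((tilde.functor R).mapDerivedCategorySingleFunctor i).app (ModuleCat.of R R)

/-- K'' for the test object `(R[-i])~` -/
theorem bijective_homologyMap_tilde (E : DCoh.D (Spec (CommRingCat.of R))) (hE : DCoh.IsQCohD E)
    (i : ℤ) :
    Function.Bijective (fun f : (DCoh.tildeD R).obj (W (ModuleCat.of R R) i) ⟶ E =>
      (DerivedCategory.homologyFunctor (Spec (CommRingCat.of R)).Modules i).map f) :=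
  bijective_homologyMap_of_iso (singleIso R i).symm E i (LCQc1.bijective_homologyMap E hE i)

/-- `M ↦ M~` is bijective on maps out of `R[-i]` -/
theorem bijective_map (M : DerivedCategory (ModuleCat.{u} R)) (i : ℤ) :
    Function.Bijective (fun f : W (ModuleCat.of R R) i ⟶ M => (DCoh.tildeD R).map f) := by
  let η := Groth.Agent.Lead.PcLib.mapDerivedCategoryHomologyIso (tilde.functor R) i
  let V := W (ModuleCat.of R R) i
  have h1 := LCMod1.bijective_homologyMap R M i
  have h2 : Function.Bijective
      (fun g : (DerivedCategory.homologyFunctor (ModuleCat.{u} R) i).obj V ⟶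
          (DerivedCategory.homologyFunctor (ModuleCat.{u} R) i).obj M =>
        (tilde.functor R).map g) :=
    (tilde.fullyFaithfulFunctor (R := R)).map_bijective _ _
  have h3 : Function.Bijective
      (fun g : (tilde.functor R).obj
            ((DerivedCategory.homologyFunctor (ModuleCat.{u} R) i).obj V) ⟶
          (tilde.functor R).obj ((DerivedCategory.homologyFunctor (ModuleCat.{u} R) i).obj M) =>
        (η.app V).hom ≫ g ≫ (η.app M).inv) := by
    refine ⟨fun f g hfg => ?_, fun f => ⟨(η.app V).inv ≫ f ≫ (η.app M).hom, ?_⟩⟩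
    · exact (cancel_mono (η.app M).inv).1 ((cancel_epi (η.app V).hom).1 hfg)
    · simp
  have h4 := bijective_homologyMap_tilde R ((DCoh.tildeD R).obj M) (isQCohD_tildeD R M) i
  refine (Function.Bijective.of_comp_iff' h4 _).1 ?_
  have h5 := h3.comp (h2.comp h1)
  have h6 : ((fun f : (DCoh.tildeD R).obj V ⟶ (DCoh.tildeD R).obj M =>
        (DerivedCategory.homologyFunctor (Spec (CommRingCat.of R)).Modules i).map f) ∘
      (fun f : V ⟶ M => (DCoh.tildeD R).map f)) =
      ((fun g => (η.app V).hom ≫ g ≫ (η.app M).inv) ∘
        (fun g => (tilde.functor R).map g) ∘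
          fun f => (DerivedCategory.homologyFunctor (ModuleCat.{u} R) i).map f) := by
    funext f
    have hn := η.hom.naturality f
    simp only [Function.comp_apply]
    rw [← cancel_mono (η.app M).hom]
    simp only [Category.assoc, Iso.inv_hom_id, Category.comp_id]
    exact hn
  rw [h6]
  exact h5

end Groth.Agent.Helper9.LCTil1
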