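import Mathlib
import Groth.Agent.Helper9.LCTil1
import Groth.Agent.Helper4.KDerAdj
import Groth.Agent.Helper4.HasRD

/-!
# `D(R) ⥤ D(O_{Spec R})`: the derived adjunction, its unit and counit
-/

set_option autoImplicit false
set_option linter.style.haveILetI false
set_option linter.unusedSectionVars false
set_option linter.unusedVariables false

universe u

namespace Groth.Agent.Helper9.LCTil2

open CategoryTheory Limits AlgebraicGeometry
open Groth.Agent.Helper9.LC2 Groth.Agent.Helper9.LC3

attribute [local instance] HasDerivedCategory.standard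

variable (R : CommRingCat.{u}) [PreservesFiniteLimits (tilde.functor R)]

instance : (moduleSpecΓFunctor (R := R)).Additive :=
  (tilde.adjunction (R := R)).right_adjoint_additive

/-- there is a right adjoint of `M ↦ M~` on derived categories -/
theorem exists_adj : ∃ (RG : DCoh.D (Spec (CommRingCat.of R)) ⥤ DerivedCategory (ModuleCat.{u} R)),
    Nonempty (DCoh.tildeD R ⊣ RG) := by
  haveI := Groth.Agent.Helper4.SchAdj.isGrothendieckAbelian_modules (Spec (CommRingCat.of R))
  haveI := Groth.Agent.Helper4.HasRD.hasRightDerivedFunctor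
    ((moduleSpecΓFunctor (R := R)).mapHomotopyCategory (ComplexShape.up ℤ) ⋙ DerivedCategory.Qh)
  exact ⟨_, ⟨Groth.Agent.Helper4.KDerAdj.derivedAdj (tilde.adjunction (R := R))
    (((moduleSpecΓFunctor (R := R)).mapHomotopyCategory (ComplexShape.up ℤ) ⋙
      DerivedCategory.Qh).totalRightDerived DerivedCategory.Qh
        (HomotopyCategory.quasiIso _ (ComplexShape.up ℤ)))
    (Functor.totalRightDerivedUnit _ _ _)⟩⟩

variable {R} {RG : DCoh.D (Spec (CommRingCat.of R)) ⥤ DerivedCategory (ModuleCat.{u} R)}
  (dadj : DCoh.tildeD R ⊣ RG)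

include dadj in
/-- the unit of the derived adjunction is an isomorphism -/
theorem isIso_unit_app (M : DerivedCategory (ModuleCat.{u} R)) : IsIso (dadj.unit.app M) := by
  rw [DerivedCategory.isIso_iff]
  intro n
  have key : ∀ i : ℤ, Function.Bijective
      (fun f : W (ModuleCat.of R R) i ⟶ M => f ≫ dadj.unit.app M) := by
    intro i
    have h1 := LCTil1.bijective_map R M i
    have h2 := (dadj.homEquiv (W (ModuleCat.of R R) i) ((DCoh.tildeD R).obj M)).bijective
    have h3 := h2.comp h1
    have h4 : (fun f : W (ModuleCat.of R R) i ⟶ M => f ≫ dadj.unit.app M) =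
        (⇑(dadj.homEquiv (W (ModuleCat.of R R) i) ((DCoh.tildeD R).obj M)) ∘
          fun f => (DCoh.tildeD R).map f) := by
      funext f
      simp only [Function.comp_apply, Adjunction.homEquiv_unit]
      exact dadj.unit.naturality f
    rw [h4]
    exact h3
  refine LC3.isIso_homologyMap (LCMod1.𝒢 R) (LCMod1.isSeparating_𝒢 R) _ n ?_ ?_
  · intro G hG i _
    rw [hG]
    exact (key i).2
  · intro G hG i _
    rw [hG]
    exact (key i).1

/-- a map of modules inducing a bijection on maps from `R` is an isomorphism -/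
theorem isIso_of_bijective_mod {S : Type u} [CommRing S] {N N' : ModuleCat.{u} S} (g : N ⟶ N')
    (hΓ : Function.Bijective (fun t : ModuleCat.of S S ⟶ N => t ≫ g)) : IsIso g := by
  have hbij : Function.Bijective g.hom := by
    constructor
    · intro x y hxy
      have := hΓ.1 (a₁ := ModuleCat.ofHom (LinearMap.toSpanSingleton S _ x))
        (a₂ := ModuleCat.ofHom (LinearMap.toSpanSingleton S _ y)) (by
          ext
          simp [hxy])
      have h2 := congrArg (fun t => t.hom (1 : S)) this
      simpa using h2
    · intro y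
      obtain ⟨t, ht⟩ := hΓ.2 (ModuleCat.ofHom (LinearMap.toSpanSingleton S _ y))
      refine ⟨t.hom 1, ?_⟩
      have h2 := congrArg (fun t => t.hom (1 : S)) ht
      simpa using h2
  exact (ConcreteCategory.isIso_iff_bijective _).2 hbij

omit [PreservesFiniteLimits (tilde.functor R)] in
/-- a map of quasi-coherent modules on `Spec R` inducing a bijection on maps from `R~` is an
isomorphism -/
theorem isIso_of_bijective {P Q : (Spec (CommRingCat.of R)).Modules}
    [P.IsQuasicoherent] [Q.IsQuasicoherent] (φ : P ⟶ Q)
    (h : Function.Bijective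
      (fun s : (tilde.functor R).obj (ModuleCat.of R R) ⟶ P => s ≫ φ)) : IsIso φ := by
  let adj := tilde.adjunction (R := R)
  let Γ := moduleSpecΓFunctor (R := R)
  have hΓ : Function.Bijective (fun t : ModuleCat.of R R ⟶ Γ.obj P => t ≫ Γ.map φ) := by
    have e1 := (adj.homEquiv (ModuleCat.of R R) P).bijective
    have e2 := (adj.homEquiv (ModuleCat.of R R) Q).bijective
    have h3 : (fun t : ModuleCat.of R R ⟶ Γ.obj P => t ≫ Γ.map φ) ∘
        (adj.homEquiv (ModuleCat.of R R) P) =
        (adj.homEquiv (ModuleCat.of R R) Q) ∘ (fun s => s ≫ φ) := by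
      funext s
      simp only [Function.comp_apply]
      exact (adj.homEquiv_naturality_right s φ).symm
    refine (Function.Bijective.of_comp_iff _ e1).1 ?_
    rw [h3]
    exact e2.comp h
  haveI : IsIso (Γ.map φ) := isIso_of_bijective_mod _ hΓ
  haveI : IsIso (adj.counit.app P) := by
    show IsIso (Scheme.Modules.fromTildeΓ P)
    infer_instance
  haveI : IsIso (adj.counit.app Q) := by
    show IsIso (Scheme.Modules.fromTildeΓ Q)
    infer_instance
  have hn := adj.counit.naturality φ
  have : φ = inv (adj.counit.app P) ≫ (tilde.functor R).map (Γ.map φ) ≫ adj.counit.app Q := by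
    rw [IsIso.eq_inv_comp]
    exact hn.symm
  rw [this]
  infer_instance

lemma bijective_precomp {C : Type*} [Category C] {P P' : C} (θ : P ≅ P') (Y : C) :
    Function.Bijective (fun s : P' ⟶ Y => θ.hom ≫ s) :=
  ⟨fun f g hfg => (cancel_epi θ.hom).1 hfg, fun f => ⟨θ.inv ≫ f, by simp⟩⟩

include dadj in
/-- the counit of the derived adjunction is an isomorphism on `D_QCoh` -/
theorem isIso_counit_app (K : DCoh.D (Spec (CommRingCat.of R))) (hK : DCoh.IsQCohD K) :
    IsIso (dadj.counit.app K) := by
  rw [DerivedCategory.isIso_iff]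
  intro q
  let H := DerivedCategory.homologyFunctor (Spec (CommRingCat.of R)).Modules q
  let V := W (ModuleCat.of R R) q
  let LV := (DCoh.tildeD R).obj V
  let E := (DCoh.tildeD R).obj (RG.obj K)
  have hE : DCoh.IsQCohD E := LCTil1.isQCohD_tildeD R _
  let ε : E ⟶ K := dadj.counit.app K
  have htop : Function.Bijective (fun h : LV ⟶ E => h ≫ ε) := by
    have h1 := LCTil1.bijective_map R (RG.obj K) q
    have h2 := (dadj.homEquiv V K).symm.bijective
    have h3 : (fun h : LV ⟶ E => h ≫ ε) ∘
        (fun f : V ⟶ RG.obj K => (DCoh.tildeD R).map f) = ⇑(dadj.homEquiv V K).symm := by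
      funext f
      simp only [Function.comp_apply, Adjunction.homEquiv_counit]
      rfl
    refine (Function.Bijective.of_comp_iff _ h1).1 ?_
    rw [h3]
    exact h2
  have k := LCTil1.bijective_homologyMap_tilde R E hE q
  have k' := LCTil1.bijective_homologyMap_tilde R K hK q
  have hbot : Function.Bijective (fun g : H.obj LV ⟶ H.obj E => g ≫ H.map ε) := by
    refine (Function.Bijective.of_comp_iff _ k).1 ?_
    have : (fun g : H.obj LV ⟶ H.obj E => g ≫ H.map ε) ∘ (fun f : LV ⟶ E => H.map f) =
        (fun f : LV ⟶ K => H.map f) ∘ (fun h : LV ⟶ E => h ≫ ε) := by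
      funext f
      simp
    rw [this]
    exact k'.comp htop
  let θ : H.obj LV ≅ (tilde.functor R).obj (ModuleCat.of R R) :=
    H.mapIso (LCTil1.singleIso R q) ≪≫
      (DerivedCategory.singleFunctorCompHomologyFunctorIso _ q).app _
  haveI : (H.obj E).IsQuasicoherent := hE q
  haveI : (H.obj K).IsQuasicoherent := hK q
  show IsIso (H.map ε)
  apply isIso_of_bijective (P := H.obj E) (Q := H.obj K)
  refine (Function.Bijective.of_comp_iff' (bijective_precomp θ (H.obj K)) _).1 ?_
  have : (fun s : (tilde.functor R).obj (ModuleCat.of R R) ⟶ H.obj K => θ.hom ≫ s) ∘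
      (fun s : (tilde.functor R).obj (ModuleCat.of R R) ⟶ H.obj E => s ≫ H.map ε) =
      (fun g : H.obj LV ⟶ H.obj E => g ≫ H.map ε) ∘
        (fun s : (tilde.functor R).obj (ModuleCat.of R R) ⟶ H.obj E => θ.hom ≫ s) := by
    funext s
    simp
  rw [this]
  exact hbot.comp (bijective_precomp θ (H.obj E))

end Groth.Agent.Helper9.LCTil2
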