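import Mathlib

/-! Abstract calculus of "localization at `a`" for Hom groups in a linear (pre)triangulated
category: `LocHom a ρ E` says that precomposition with `ρ : G' ⟶ G` on maps to `E` is injective
and surjective up to powers of `a`. -/

set_option autoImplicit false
set_option linter.style.haveILetI false
set_option linter.unusedVariables false
set_option linter.unusedSectionVars false

namespace Groth.Agent.Helper9.QP1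

open CategoryTheory CategoryTheory.Limits Pretriangulated

variable {A : Type*} [CommRing A] {D : Type*} [Category D] [Preadditive D] [Linear A D]

/-- precomposition with `ρ` is, up to powers of `a`, injective and surjective on maps to `E` -/
def LocHom (a : A) {G' G : D} (ρ : G' ⟶ G) (E : D) : Prop :=
  (∀ ψ : G ⟶ E, ρ ≫ ψ = 0 → ∃ n : ℕ, a ^ n • ψ = 0) ∧
  (∀ t : G' ⟶ E, ∃ (n : ℕ) (ψ : G ⟶ E), a ^ n • t = ρ ≫ ψ)

/-- invariance under isomorphisms of arrows -/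
theorem LocHom.of_iso {a : A} {G' G G₁' G₁ : D} {ρ : G' ⟶ G} {ρ₁ : G₁' ⟶ G₁} {E : D}
    (h : LocHom a ρ E) (e' : G₁' ≅ G') (e : G₁ ≅ G) (w : ρ₁ ≫ e.hom = e'.hom ≫ ρ) :
    LocHom a ρ₁ E := by
  constructor
  · intro ψ₁ hψ₁
    obtain ⟨n, hn⟩ := h.1 (e.inv ≫ ψ₁) (by
      have : ρ ≫ e.inv = e'.inv ≫ ρ₁ := by
        rw [← cancel_mono e.hom, Category.assoc, Category.assoc, e.inv_hom_id, Category.comp_id,
          w, e'.inv_hom_id_assoc]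
      rw [← Category.assoc, this, Category.assoc, hψ₁, comp_zero])
    refine ⟨n, ?_⟩
    rw [← cancel_epi e.inv, Linear.comp_smul, hn, comp_zero]
  · intro t₁
    obtain ⟨n, ψ, hn⟩ := h.2 (e'.inv ≫ t₁)
    refine ⟨n, e.hom ≫ ψ, ?_⟩
    rw [← Category.assoc, w, Category.assoc, ← hn, Linear.comp_smul, e'.hom_inv_id_assoc]

/-- direct sums -/
theorem LocHom.bisum {a : A} {G₁' G₂' G' G₁ G₂ G : D} {E : D}
    {ρ₁ : G₁' ⟶ G₁} {ρ₂ : G₂' ⟶ G₂} {ρ : G' ⟶ G}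
    (h₁ : LocHom a ρ₁ E) (h₂ : LocHom a ρ₂ E)
    (i₁ : G₁ ⟶ G) (i₂ : G₂ ⟶ G) (p₁ : G ⟶ G₁) (p₂ : G ⟶ G₂)
    (i₁' : G₁' ⟶ G') (i₂' : G₂' ⟶ G') (p₁' : G' ⟶ G₁') (p₂' : G' ⟶ G₂')
    (hG : p₁ ≫ i₁ + p₂ ≫ i₂ = 𝟙 G) (hG' : p₁' ≫ i₁' + p₂' ≫ i₂' = 𝟙 G')
    (w₁ : i₁' ≫ ρ = ρ₁ ≫ i₁) (w₂ : i₂' ≫ ρ = ρ₂ ≫ i₂)
    (v₁ : ρ ≫ p₁ = p₁' ≫ ρ₁) (v₂ : ρ ≫ p₂ = p₂' ≫ ρ₂) :
    LocHom a ρ E := by
  constructor
  · intro ψ hψ
    obtain ⟨n₁, hn₁⟩ := h₁.1 (i₁ ≫ ψ) (by rw [← Category.assoc, ← w₁, Category.assoc, hψ, comp_zero])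
    obtain ⟨n₂, hn₂⟩ := h₂.1 (i₂ ≫ ψ) (by rw [← Category.assoc, ← w₂, Category.assoc, hψ, comp_zero])
    refine ⟨n₁ + n₂, ?_⟩
    have e1 : a ^ (n₁ + n₂) • (i₁ ≫ ψ) = 0 := by
      rw [pow_add, mul_comm, mul_smul, hn₁, smul_zero]
    have e2 : a ^ (n₁ + n₂) • (i₂ ≫ ψ) = 0 := by
      rw [pow_add, mul_smul, hn₂, smul_zero]
    calc a ^ (n₁ + n₂) • ψ = a ^ (n₁ + n₂) • (𝟙 G ≫ ψ) := by rw [Category.id_comp]
      _ = p₁ ≫ (a ^ (n₁ + n₂) • (i₁ ≫ ψ)) + p₂ ≫ (a ^ (n₁ + n₂) • (i₂ ≫ ψ)) := by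
        rw [← hG, Preadditive.add_comp, smul_add, Category.assoc, Category.assoc,
          Linear.comp_smul, Linear.comp_smul]
      _ = 0 := by rw [e1, e2, comp_zero, comp_zero, add_zero]
  · intro t
    obtain ⟨n₁, ψ₁, hn₁⟩ := h₁.2 (i₁' ≫ t)
    obtain ⟨n₂, ψ₂, hn₂⟩ := h₂.2 (i₂' ≫ t)
    refine ⟨n₁ + n₂, p₁ ≫ (a ^ n₂ • ψ₁) + p₂ ≫ (a ^ n₁ • ψ₂), ?_⟩
    have e1 : a ^ (n₁ + n₂) • (i₁' ≫ t) = ρ₁ ≫ (a ^ n₂ • ψ₁) := by
      rw [pow_add, mul_comm, mul_smul, hn₁, Linear.comp_smul]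
    have e2 : a ^ (n₁ + n₂) • (i₂' ≫ t) = ρ₂ ≫ (a ^ n₁ • ψ₂) := by
      rw [pow_add, mul_smul, hn₂, Linear.comp_smul]
    calc a ^ (n₁ + n₂) • t = a ^ (n₁ + n₂) • (𝟙 G' ≫ t) := by rw [Category.id_comp]
      _ = p₁' ≫ (a ^ (n₁ + n₂) • (i₁' ≫ t)) + p₂' ≫ (a ^ (n₁ + n₂) • (i₂' ≫ t)) := by
        rw [← hG', Preadditive.add_comp, smul_add, Category.assoc, Category.assoc,
          Linear.comp_smul, Linear.comp_smul]
      _ = ρ ≫ (p₁ ≫ (a ^ n₂ • ψ₁) + p₂ ≫ (a ^ n₁ • ψ₂)) := by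
        rw [e1, e2, Preadditive.comp_add, ← Category.assoc ρ, ← Category.assoc ρ, v₁, v₂,
          Category.assoc, Category.assoc]


section Tri

variable [HasZeroObject D] [HasShift D ℤ] [∀ n : ℤ, (shiftFunctor D n).Additive] [Pretriangulated D]

/-- five lemma: a morphism of distinguished triangles whose first two components (and their
shifts by one) are localizations at `a` on maps to `E` has the same property for the third -/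
theorem LocHom.triangle {a : A} {E : D} (T' T : Triangle D) (hT' : T' ∈ distTriang D)
    (hT : T ∈ distTriang D) (φ : T' ⟶ T)
    (h₁ : LocHom a φ.hom₁ E) (h₂ : LocHom a φ.hom₂ E)
    (h₁' : LocHom a (φ.hom₁⟦(1 : ℤ)⟧') E) (h₂' : LocHom a (φ.hom₂⟦(1 : ℤ)⟧') E) :
    LocHom a φ.hom₃ E := by
  have c₁ := φ.comm₁
  have c₂ := φ.comm₂
  have c₃ := φ.comm₃
  constructor
  · intro ψ hψ
    -- step 1
    obtain ⟨n, hn⟩ := h₂.1 (T.mor₂ ≫ ψ) (by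
      rw [← Category.assoc, ← c₂, Category.assoc, hψ, comp_zero])
    obtain ⟨χ, hχ⟩ := Triangle.yoneda_exact₃ T hT (a ^ n • ψ) (by rw [Linear.comp_smul, hn])
    -- step 2
    have hrot := rot_of_distTriang _ hT'
    obtain ⟨ω, hω⟩ : ∃ ω : T'.obj₂⟦(1 : ℤ)⟧ ⟶ E,
        φ.hom₁⟦(1 : ℤ)⟧' ≫ χ = (-T'.mor₁⟦(1 : ℤ)⟧') ≫ ω :=
      Triangle.yoneda_exact₃ T'.rotate hrot (φ.hom₁⟦(1 : ℤ)⟧' ≫ χ) (by
        show T'.mor₃ ≫ φ.hom₁⟦(1 : ℤ)⟧' ≫ χ = 0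
        rw [← Category.assoc, c₃, Category.assoc, ← hχ, Linear.comp_smul, hψ, smul_zero])
    have hω' : φ.hom₁⟦(1 : ℤ)⟧' ≫ χ = -(T'.mor₁⟦(1 : ℤ)⟧' ≫ ω) := by
      rw [hω, Preadditive.neg_comp]
    -- step 3
    obtain ⟨k, ω₁, hk⟩ := h₂'.2 ω
    have hc : T'.mor₁⟦(1 : ℤ)⟧' ≫ φ.hom₂⟦(1 : ℤ)⟧' = φ.hom₁⟦(1 : ℤ)⟧' ≫ T.mor₁⟦(1 : ℤ)⟧' := by
      rw [← Functor.map_comp, ← Functor.map_comp, c₁]
    obtain ⟨l, hl⟩ := h₁'.1 (a ^ k • χ + T.mor₁⟦(1 : ℤ)⟧' ≫ ω₁) (by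
      rw [Preadditive.comp_add, Linear.comp_smul, hω', smul_neg, ← Linear.comp_smul, hk,
        ← Category.assoc, hc, Category.assoc, neg_add_cancel])
    refine ⟨l + (k + n), ?_⟩
    have h0 : T.mor₃ ≫ T.mor₁⟦(1 : ℤ)⟧' = 0 := comp_distTriang_mor_zero₃₁ _ hT
    have e1 : a ^ l • a ^ k • χ = -(T.mor₁⟦(1 : ℤ)⟧' ≫ (a ^ l • ω₁)) := by
      rw [smul_add] at hl
      rw [Linear.comp_smul]
      exact eq_neg_of_add_eq_zero_left hl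
    calc a ^ (l + (k + n)) • ψ = a ^ l • a ^ k • (a ^ n • ψ) := by
          rw [pow_add, pow_add, mul_smul, mul_smul]
      _ = T.mor₃ ≫ (a ^ l • a ^ k • χ) := by
          rw [hχ, Linear.comp_smul, Linear.comp_smul]
      _ = 0 := by
          rw [e1, Preadditive.comp_neg, ← Category.assoc, h0, zero_comp, neg_zero]
  · intro t
    -- step 1
    obtain ⟨n, ψ₁, hn⟩ := h₂.2 (T'.mor₂ ≫ t)
    -- step 2
    have h0' : T'.mor₁ ≫ T'.mor₂ = 0 := comp_distTriang_mor_zero₁₂ _ hT'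
    obtain ⟨k, hk⟩ := h₁.1 (T.mor₁ ≫ ψ₁) (by
      rw [← Category.assoc, ← c₁, Category.assoc, ← hn, Linear.comp_smul, ← Category.assoc, h0',
        zero_comp, smul_zero])
    obtain ⟨ψ₂, hψ₂⟩ := Triangle.yoneda_exact₂ T hT (a ^ k • ψ₁) (by rw [Linear.comp_smul, hk])
    -- step 3
    obtain ⟨χ', hχ'⟩ := Triangle.yoneda_exact₃ T' hT' (φ.hom₃ ≫ ψ₂ - a ^ (k + n) • t) (by
      rw [Preadditive.comp_sub, ← Category.assoc, c₂, Category.assoc, ← hψ₂, Linear.comp_smul,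
        Linear.comp_smul, ← hn, pow_add, mul_smul, sub_self])
    -- step 4
    obtain ⟨l, χ, hl⟩ := h₁'.2 χ'
    refine ⟨l + (k + n), a ^ l • ψ₂ - T.mor₃ ≫ χ, ?_⟩
    have e1 : a ^ l • (φ.hom₃ ≫ ψ₂ - a ^ (k + n) • t) = φ.hom₃ ≫ T.mor₃ ≫ χ := by
      rw [hχ', ← Linear.comp_smul, hl, ← Category.assoc, c₃, Category.assoc]
    rw [Preadditive.comp_sub, ← e1, smul_sub, Linear.comp_smul, pow_add, mul_smul]
    abel

end Tri


section Square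

theorem eq_zero_of_pow_smul_eq_zero {a : A} {G' Y : D} (ha : IsIso (a • 𝟙 G')) :
    ∀ (m : ℕ) (t : G' ⟶ Y), a ^ m • t = 0 → t = 0 := by
  intro m
  induction m with
  | zero => intro t h; simpa using h
  | succ m ih =>
    intro t h
    apply ih
    have : (a • 𝟙 G') ≫ (a ^ m • t) = 0 := by
      rw [Linear.smul_comp, Category.id_comp, smul_smul, ← pow_succ']
      exact h
    exact (cancel_epi (a • 𝟙 G')).1 (by rw [this, comp_zero])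

theorem exists_pow_smul_eq {a : A} {G' Y : D} (ha : IsIso (a • 𝟙 G')) :
    ∀ (n : ℕ) (t₀ : G' ⟶ Y), ∃ t : G' ⟶ Y, a ^ n • t = t₀ := by
  intro n
  induction n with
  | zero => intro t₀; exact ⟨t₀, by simp⟩
  | succ n ih =>
    intro t₀
    obtain ⟨t', ht'⟩ := ih t₀
    refine ⟨inv (a • 𝟙 G') ≫ t', ?_⟩
    have : a • (inv (a • 𝟙 G') ≫ t') = t' := by
      have h1 : (a • 𝟙 G') ≫ inv (a • 𝟙 G') ≫ t' = t' := by simp
      rw [Linear.smul_comp, Category.id_comp] at h1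
      exact h1
    rw [pow_succ, mul_smul, this, ht']

/-- if `ρ` is a localization at `a` on maps to both `Y` and `E`, `a` is invertible on `G'`, and
`φ : Y ⟶ E` induces a bijection on maps from `G`, then it induces a bijection on maps from `G'` -/
theorem bijective_of_locHom {a : A} {G' G Y E : D} (ρ : G' ⟶ G) (φ : Y ⟶ E)
    (hY : LocHom a ρ Y) (hE : LocHom a ρ E) (ha : IsIso (a • 𝟙 G'))
    (hG : Function.Bijective (fun ψ : G ⟶ Y => ψ ≫ φ)) :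
    Function.Bijective (fun t : G' ⟶ Y => t ≫ φ) := by
  have hinj : ∀ t : G' ⟶ Y, t ≫ φ = 0 → t = 0 := by
    intro t ht
    obtain ⟨n, ψ, hn⟩ := hY.2 t
    obtain ⟨m, hm⟩ := hE.1 (ψ ≫ φ) (by
      rw [← Category.assoc, ← hn, Linear.smul_comp, ht, smul_zero])
    have h1 : a ^ m • ψ = 0 := by
      apply hG.1
      show (a ^ m • ψ) ≫ φ = 0 ≫ φ
      rw [Linear.smul_comp, hm, zero_comp]
    apply eq_zero_of_pow_smul_eq_zero ha (m + n)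
    rw [pow_add, mul_smul, hn, ← Linear.comp_smul, h1, comp_zero]
  constructor
  · intro t₁ t₂ h
    have h' : (t₁ - t₂) ≫ φ = 0 := by
      rw [Preadditive.sub_comp]
      exact sub_eq_zero.2 h
    exact sub_eq_zero.1 (hinj _ h')
  · intro s
    obtain ⟨n, ψ', hn⟩ := hE.2 s
    obtain ⟨ψ, hψ⟩ := hG.2 ψ'
    obtain ⟨t, ht⟩ := exists_pow_smul_eq (Y := Y) ha n (ρ ≫ ψ)
    refine ⟨t, ?_⟩
    have h1 : a ^ n • (t ≫ φ - s) = 0 := by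
      rw [smul_sub, ← Linear.smul_comp, ht, hn, Category.assoc]
      show ρ ≫ ψ ≫ φ - ρ ≫ ψ' = 0
      rw [show ψ ≫ φ = ψ' from hψ, sub_self]
    exact sub_eq_zero.1 (eq_zero_of_pow_smul_eq_zero ha n _ h1)

end Square

section Good

variable [HasZeroObject D] [HasShift D ℤ] [∀ n : ℤ, (shiftFunctor D n).Additive] [Pretriangulated D]

/-- all shifts of `ρ` are localizations at `a` on maps to objects of `P` -/
def Good (a : A) (P : ObjectProperty D) {G' G : D} (ρ : G' ⟶ G) : Prop :=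
  ∀ E, P E → ∀ n : ℤ, LocHom a (ρ⟦n⟧') E

theorem Good.of_iso {a : A} {P : ObjectProperty D} {G' G G₁' G₁ : D} {ρ : G' ⟶ G}
    {ρ₁ : G₁' ⟶ G₁} (h : Good a P ρ) (e' : G₁' ≅ G') (e : G₁ ≅ G)
    (w : ρ₁ ≫ e.hom = e'.hom ≫ ρ) : Good a P ρ₁ := by
  intro E hE n
  refine (h E hE n).of_iso ((shiftFunctor D n).mapIso e') ((shiftFunctor D n).mapIso e) ?_
  simp only [Functor.mapIso_hom, ← Functor.map_comp, w]

theorem LocHom.shift_succ {a : A} {G' G E : D} {ρ : G' ⟶ G} (n : ℤ)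
    (h : LocHom a (ρ⟦n + 1⟧') E) : LocHom a ((ρ⟦n⟧')⟦(1 : ℤ)⟧') E := by
  refine h.of_iso ((shiftFunctorAdd' D n 1 (n + 1) rfl).app G').symm
    ((shiftFunctorAdd' D n 1 (n + 1) rfl).app G).symm ?_
  simp only [Iso.symm_hom, Iso.app_inv]
  exact ((shiftFunctorAdd' D n 1 (n + 1) rfl).inv.naturality ρ)

theorem Good.triangle {a : A} {P : ObjectProperty D} (T' T : Triangle D)
    (hT' : T' ∈ distTriang D) (hT : T ∈ distTriang D) (φ : T' ⟶ T)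
    (h₁ : Good a P φ.hom₁) (h₂ : Good a P φ.hom₂) : Good a P φ.hom₃ := by
  intro E hE n
  exact LocHom.triangle _ _ (Triangle.shift_distinguished T' hT' n)
    (Triangle.shift_distinguished T hT n)
    ((CategoryTheory.shiftFunctor (Triangle D) n).map φ) (h₁ E hE n) (h₂ E hE n)
    ((h₁ E hE (n + 1)).shift_succ n) ((h₂ E hE (n + 1)).shift_succ n)

theorem Good.bisum {a : A} {P : ObjectProperty D} {G₁' G₂' G' G₁ G₂ G : D}
    {ρ₁ : G₁' ⟶ G₁} {ρ₂ : G₂' ⟶ G₂} {ρ : G' ⟶ G}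
    (h₁ : Good a P ρ₁) (h₂ : Good a P ρ₂)
    (i₁ : G₁ ⟶ G) (i₂ : G₂ ⟶ G) (p₁ : G ⟶ G₁) (p₂ : G ⟶ G₂)
    (i₁' : G₁' ⟶ G') (i₂' : G₂' ⟶ G') (p₁' : G' ⟶ G₁') (p₂' : G' ⟶ G₂')
    (hG : p₁ ≫ i₁ + p₂ ≫ i₂ = 𝟙 G) (hG' : p₁' ≫ i₁' + p₂' ≫ i₂' = 𝟙 G')
    (w₁ : i₁' ≫ ρ = ρ₁ ≫ i₁) (w₂ : i₂' ≫ ρ = ρ₂ ≫ i₂)
    (v₁ : ρ ≫ p₁ = p₁' ≫ ρ₁) (v₂ : ρ ≫ p₂ = p₂' ≫ ρ₂) :
    Good a P ρ := by
  intro E hE n
  refine LocHom.bisum (h₁ E hE n) (h₂ E hE n) (i₁⟦n⟧') (i₂⟦n⟧') (p₁⟦n⟧') (p₂⟦n⟧')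
    (i₁'⟦n⟧') (i₂'⟦n⟧') (p₁'⟦n⟧') (p₂'⟦n⟧') ?_ ?_ ?_ ?_ ?_ ?_
  · rw [← Functor.map_comp, ← Functor.map_comp, ← Functor.map_add, hG, CategoryTheory.Functor.map_id]
  · rw [← Functor.map_comp, ← Functor.map_comp, ← Functor.map_add, hG', CategoryTheory.Functor.map_id]
  · rw [← Functor.map_comp, ← Functor.map_comp, w₁]
  · rw [← Functor.map_comp, ← Functor.map_comp, w₂]
  · rw [← Functor.map_comp, ← Functor.map_comp, v₁]
  · rw [← Functor.map_comp, ← Functor.map_comp, v₂]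

end Good

end Groth.Agent.Helper9.QP1
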