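import Mathlib
import Groth.Agent.Helper9.LCAff1
import Groth.Agent.Helper9.LCUnit1
import Groth.Agent.Helper9.ModCechExt
import Groth.Prelude.Def_KLin

/-! Restriction maps between the free modules `GU U` on opens of a scheme, and the
Mayer–Vietoris short exact sequence `0 → GU (U ⊓ V) → GU U ⊞ GU V → GU (U ⊔ V) → 0`. -/

set_option autoImplicit false
set_option linter.style.haveILetI false
set_option linter.unusedVariables false
set_option linter.unusedSectionVars false
universe u

namespace Groth.Agent.Helper9.QP2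

open CategoryTheory Limits AlgebraicGeometry Opposite TopologicalSpace
open Groth.Agent.Helper9 Groth.Agent.Helper9.LCAff1

section Site
variable {C : Type u} [SmallCategory C] {J : GrothendieckTopology C} (O : Sheaf J RingCat.{u})

lemma secEquiv'_map {V U : C} (g : V ⟶ U) (F : SheafOfModules.{u} O)
    (ψ : (ModFree.L O).obj (yoneda.obj U) ⟶ F) :
    secEquiv' O V F ((ModFree.L O).map (yoneda.map g) ≫ ψ) =
      ((ModFree.G O).obj F).map g.op (secEquiv' O U F ψ) := by
  unfold secEquiv'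
  simp only [Equiv.trans_apply]
  rw [Adjunction.homEquiv_naturality_left]
  exact (yonedaEquiv_naturality _ _).symm

end Site

variable {X : Scheme.{u}}

/-- the map `GU V ⟶ GU U` for `V ≤ U` -/
noncomputable def GUmap {V U : X.Opens} (h : V ≤ U) : GU V ⟶ GU U :=
  (ModFree.L X.ringCatSheaf).map (yoneda.map (homOfLE h))

/-- evaluation at the universal section -/
noncomputable def sec (U : X.Opens) (F : X.Modules) (ψ : GU U ⟶ F) : Γ(F, U) := secEquiv U F ψ

lemma sec_GUmap {V U : X.Opens} (h : V ≤ U) (F : X.Modules) (ψ : GU U ⟶ F) :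
    sec V F (GUmap h ≫ ψ) = F.presheaf.map (homOfLE h).op (sec U F ψ) :=
  secEquiv'_map X.ringCatSheaf (homOfLE h) F ψ

lemma sec_comp (U : X.Opens) {F F' : X.Modules} (ψ : GU U ⟶ F) (f : F ⟶ F') :
    sec U F' (ψ ≫ f) = f.app U (sec U F ψ) := secEquiv_comp U ψ f

lemma sec_injective (U : X.Opens) (F : X.Modules) : Function.Injective (sec U F) :=
  (secEquiv U F).injective

lemma sec_surjective (U : X.Opens) (F : X.Modules) : Function.Surjective (sec U F) :=
  (secEquiv U F).surjective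

lemma GUmap_comp {W V U : X.Opens} (h : W ≤ V) (h' : V ≤ U) :
    GUmap h ≫ GUmap h' = GUmap (h.trans h') :=
  (Functor.map_comp (ModFree.L X.ringCatSheaf) (yoneda.map (homOfLE h))
    (yoneda.map (homOfLE h'))).symm.trans
    (congrArg (ModFree.L X.ringCatSheaf).map (by rw [← Functor.map_comp]; rfl))

/-- the universal section -/
noncomputable def eU (U : X.Opens) : Γ(GU U, U) := sec U (GU U) (𝟙 _)

lemma sec_eq (U : X.Opens) (F : X.Modules) (ψ : GU U ⟶ F) : sec U F ψ = ψ.app U (eU U) := by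
  have := sec_comp U (𝟙 (GU U)) ψ
  rw [Category.id_comp] at this
  exact this

lemma sec_add (U : X.Opens) (F : X.Modules) (ψ ψ' : GU U ⟶ F) :
    sec U F (ψ + ψ') = sec U F ψ + sec U F ψ' := by
  rw [sec_eq, sec_eq, sec_eq, Scheme.Modules.Hom.add_app]
  rfl

lemma sec_zero (U : X.Opens) (F : X.Modules) : sec U F 0 = 0 := by
  rw [sec_eq, Scheme.Modules.Hom.zero_app]
  rfl

lemma sec_neg (U : X.Opens) (F : X.Modules) (ψ : GU U ⟶ F) : sec U F (-ψ) = -sec U F ψ := by
  have h := sec_add U F ψ (-ψ)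
  rw [add_neg_cancel, sec_zero] at h
  exact eq_neg_of_add_eq_zero_right h.symm

lemma sec_sub (U : X.Opens) (F : X.Modules) (ψ ψ' : GU U ⟶ F) :
    sec U F (ψ - ψ') = sec U F ψ - sec U F ψ' := by
  rw [sub_eq_add_neg, sec_add, sec_neg, sub_eq_add_neg]

section Lin

variable (A : Type u) [CommRing A] [X.Over (Spec (CommRingCat.of A))]

/-- the image of `a : A` in `Γ(X, U)` -/
noncomputable def resA (a : A) (U : X.Opens) : Γ(X, U) :=
  X.presheaf.map (homOfLE (le_top : U ≤ ⊤)).op (Coh.toGlobal (X ↘ Spec (CommRingCat.of A)) a)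

lemma sec_smul (a : A) (U : X.Opens) (F : X.Modules) (ψ : GU U ⟶ F) :
    sec U F (a • ψ) = resA A a U • sec U F ψ := by
  rw [sec_eq, sec_eq, KLin.smul_app_apply]
  rfl

lemma resA_pow (a : A) (n : ℕ) (U : X.Opens) : resA A (a ^ n) U = resA A a U ^ n := by
  unfold resA
  rw [map_pow]
  exact map_pow (X.presheaf.map (homOfLE (le_top : U ≤ ⊤)).op).hom _ n

lemma resA_res (a : A) {V U : X.Opens} (h : V ≤ U) :
    X.presheaf.map (homOfLE h).op (resA A a U) = resA A a V := by
  unfold resA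
  show (X.presheaf.map (homOfLE (le_top : U ≤ ⊤)).op ≫ X.presheaf.map (homOfLE h).op) _ = _
  rw [← Functor.map_comp]
  rfl

end Lin

section Glue

variable (F : X.Modules)

lemma sep₂ (U V : X.Opens) (w w' : Γ(F, U ⊔ V))
    (h₁ : F.presheaf.map (homOfLE (le_sup_left : U ≤ U ⊔ V)).op w =
      F.presheaf.map (homOfLE (le_sup_left : U ≤ U ⊔ V)).op w')
    (h₂ : F.presheaf.map (homOfLE (le_sup_right : V ≤ U ⊔ V)).op w =
      F.presheaf.map (homOfLE (le_sup_right : V ≤ U ⊔ V)).op w') : w = w' :=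
  TopCat.Sheaf.eq_of_locally_eq₂ (⟨F.presheaf, F.isSheaf⟩ : TopCat.Sheaf Ab X)
    (homOfLE le_sup_left) (homOfLE le_sup_right) le_rfl w w' h₁ h₂

lemma glue₂ (U V : X.Opens) (s : Γ(F, U)) (t : Γ(F, V))
    (h : F.presheaf.map (homOfLE (inf_le_left : U ⊓ V ≤ U)).op s =
      F.presheaf.map (homOfLE (inf_le_right : U ⊓ V ≤ V)).op t) :
    ∃ w : Γ(F, U ⊔ V), F.presheaf.map (homOfLE (le_sup_left : U ≤ U ⊔ V)).op w = s ∧
      F.presheaf.map (homOfLE (le_sup_right : V ≤ U ⊔ V)).op w = t := by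
  let Ub : Bool → X.Opens := fun b => cond b U V
  let sf : ∀ b : Bool, ToType ((⟨F.presheaf, F.isSheaf⟩ : TopCat.Sheaf Ab X).1.obj (op (Ub b))) :=
    fun b => Bool.rec (motive := fun b => ToType (F.presheaf.obj (op (Ub b)))) t s b
  have hcompat : TopCat.Presheaf.IsCompatible F.presheaf Ub sf := by
    intro i j
    cases i <;> cases j
    · rfl
    · -- i = false, j = true : on `V ⊓ U`
      show F.presheaf.map (homOfLE (inf_le_left : V ⊓ U ≤ V)).op t =
        F.presheaf.map (homOfLE (inf_le_right : V ⊓ U ≤ U)).op s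
      have h' := congrArg (F.presheaf.map (homOfLE (le_of_eq (inf_comm V U) : V ⊓ U ≤ U ⊓ V)).op) h
      rw [← ConcreteCategory.comp_apply, ← ConcreteCategory.comp_apply, ← F.presheaf.map_comp,
        ← F.presheaf.map_comp] at h'
      exact h'.symm
    · exact h
    · rfl
  obtain ⟨w, hw, -⟩ := TopCat.Sheaf.existsUnique_gluing'
    (⟨F.presheaf, F.isSheaf⟩ : TopCat.Sheaf Ab X) Ub (U ⊔ V)
    (fun b => homOfLE (by cases b; exact le_sup_right; exact le_sup_left))
    (by
      rw [sup_le_iff]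
      exact ⟨le_iSup Ub true, le_iSup Ub false⟩) sf hcompat
  exact ⟨w, hw true, hw false⟩

end Glue

section Mono

/-- the restriction maps `GU V ⟶ GU U` are monomorphisms -/
theorem mono_GUmap {V U : X.Opens} (h : V ≤ U) : Mono (GUmap h) := by
  haveI : EnoughInjectives (SheafOfModules.{u} X.ringCatSheaf) :=
    ModCechExt.enoughInjectives_mod X.ringCatSheaf
  haveI : EnoughInjectives X.Modules := ‹EnoughInjectives (SheafOfModules.{u} X.ringCatSheaf)›
  let I : X.Modules := Injective.under (GU V)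
  let ι : GU V ⟶ I := Injective.ι (GU V)
  have hI : Injective I := Injective.injective_under (GU V)
  haveI : Mono (homOfLE h) := ⟨fun _ _ _ => Subsingleton.elim _ _⟩
  obtain ⟨s, hs⟩ := @ModFree.restriction_surjective _ _ _ X.ringCatSheaf I hI _ _ (homOfLE h) _
    (sec V I ι)
  obtain ⟨ψ, hψ⟩ := sec_surjective U I s
  have : GUmap h ≫ ψ = ι := by
    apply sec_injective
    rw [sec_GUmap, hψ]
    exact hs
  haveI : Mono (GUmap h ≫ ψ) := by rw [this]; infer_instance
  exact mono_of_mono (GUmap h) ψ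

end Mono


section MV

/-- the first map of the Mayer–Vietoris sequence -/
noncomputable def mvf (U V : X.Opens) : GU (U ⊓ V) ⟶ GU U ⊞ GU V :=
  biprod.lift (GUmap (inf_le_left : U ⊓ V ≤ U)) (-GUmap (inf_le_right : U ⊓ V ≤ V))

/-- the second map of the Mayer–Vietoris sequence -/
noncomputable def mvg (U V : X.Opens) : GU U ⊞ GU V ⟶ GU (U ⊔ V) :=
  biprod.desc (GUmap (le_sup_left : U ≤ U ⊔ V)) (GUmap (le_sup_right : V ≤ U ⊔ V))

lemma mvf_fst (U V : X.Opens) : mvf U V ≫ biprod.fst = GUmap (inf_le_left : U ⊓ V ≤ U) :=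
  biprod.lift_fst _ _

lemma mvf_snd (U V : X.Opens) : mvf U V ≫ biprod.snd = -GUmap (inf_le_right : U ⊓ V ≤ V) :=
  biprod.lift_snd _ _

lemma inl_mvg (U V : X.Opens) : biprod.inl ≫ mvg U V = GUmap (le_sup_left : U ≤ U ⊔ V) :=
  biprod.inl_desc _ _

lemma inr_mvg (U V : X.Opens) : biprod.inr ≫ mvg U V = GUmap (le_sup_right : V ≤ U ⊔ V) :=
  biprod.inr_desc _ _

lemma mvf_eq (U V : X.Opens) : mvf U V = GUmap (inf_le_left : U ⊓ V ≤ U) ≫ biprod.inl -
    GUmap (inf_le_right : U ⊓ V ≤ V) ≫ biprod.inr := by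
  apply biprod.hom_ext
  · rw [mvf_fst, Preadditive.sub_comp, Category.assoc, Category.assoc, biprod.inl_fst,
      biprod.inr_fst, Category.comp_id, comp_zero, sub_zero]
  · rw [mvf_snd, Preadditive.sub_comp, Category.assoc, Category.assoc, biprod.inl_snd,
      biprod.inr_snd, Category.comp_id, comp_zero, zero_sub]

lemma mvf_mvg (U V : X.Opens) : mvf U V ≫ mvg U V = 0 := by
  rw [mvf_eq, Preadditive.sub_comp, Category.assoc, Category.assoc, inl_mvg, inr_mvg, GUmap_comp,
    GUmap_comp, sub_self]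

instance mono_mvf (U V : X.Opens) : Mono (mvf U V) := by
  haveI := mono_GUmap (inf_le_left : U ⊓ V ≤ U)
  haveI : Mono (mvf U V ≫ biprod.fst) := by
    rw [mvf_fst]
    infer_instance
  exact mono_of_mono _ biprod.fst

instance epi_mvg (U V : X.Opens) : Epi (mvg U V) := by
  constructor
  intro F ψ ψ' h
  apply sec_injective
  apply sep₂
  · rw [← sec_GUmap, ← sec_GUmap, ← inl_mvg, Category.assoc, Category.assoc, h]
  · rw [← sec_GUmap, ← sec_GUmap, ← inr_mvg, Category.assoc, Category.assoc, h]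

/-- `mvg` is a cokernel of `mvf` -/
noncomputable def isColimitMv (U V : X.Opens) :
    IsColimit (CokernelCofork.ofπ (mvg U V) (mvf_mvg U V)) := by
  apply CokernelCofork.IsColimit.ofπ'
  intro F k hk
  have hk1 : GUmap (inf_le_left : U ⊓ V ≤ U) ≫ biprod.inl ≫ k =
      GUmap (inf_le_right : U ⊓ V ≤ V) ≫ biprod.inr ≫ k := by
    rw [mvf_eq, Preadditive.sub_comp, Category.assoc, Category.assoc] at hk
    exact sub_eq_zero.1 hk
  have hex : ∃ l : GU (U ⊔ V) ⟶ F, mvg U V ≫ l = k := by
    obtain ⟨w, hw1, hw2⟩ := glue₂ F U V (sec U F (biprod.inl ≫ k)) (sec V F (biprod.inr ≫ k)) (by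
      rw [← sec_GUmap, ← sec_GUmap, hk1])
    obtain ⟨l, hl⟩ := sec_surjective (U ⊔ V) F w
    refine ⟨l, ?_⟩
    apply biprod.hom_ext'
    · rw [← Category.assoc, inl_mvg]
      apply sec_injective
      rw [sec_GUmap, hl, hw1]
    · rw [← Category.assoc, inr_mvg]
      apply sec_injective
      rw [sec_GUmap, hl, hw2]
  exact ⟨hex.choose, hex.choose_spec⟩

/-- the Mayer–Vietoris short complex -/
noncomputable def mvS (U V : X.Opens) : ShortComplex X.Modules :=
  ShortComplex.mk (mvf U V) (mvg U V) (mvf_mvg U V)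

theorem mvS_shortExact (U V : X.Opens) : (mvS U V).ShortExact :=
  ShortComplex.ShortExact.mk' (ShortComplex.exact_of_g_is_cokernel _ (isColimitMv U V))
    (mono_mvf U V) (epi_mvg U V)

/-- functoriality of the Mayer–Vietoris short complex -/
noncomputable def mvSmap {U' U V' V : X.Opens} (hU : U' ≤ U) (hV : V' ≤ V) :
    mvS U' V' ⟶ mvS U V where
  τ₁ := GUmap (inf_le_inf hU hV)
  τ₂ := biprod.map (GUmap hU) (GUmap hV)
  τ₃ := GUmap (sup_le_sup hU hV)
  comm₁₂ := by
    show GUmap (inf_le_inf hU hV) ≫ mvf U V = mvf U' V' ≫ biprod.map (GUmap hU) (GUmap hV)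
    apply biprod.hom_ext
    · rw [Category.assoc, mvf_fst, Category.assoc, biprod.map_fst, ← Category.assoc, mvf_fst,
        GUmap_comp, GUmap_comp]
    · rw [Category.assoc, mvf_snd, Category.assoc, biprod.map_snd, ← Category.assoc, mvf_snd,
        Preadditive.comp_neg, Preadditive.neg_comp, GUmap_comp, GUmap_comp]
  comm₂₃ := by
    show biprod.map (GUmap hU) (GUmap hV) ≫ mvg U V = mvg U' V' ≫ GUmap (sup_le_sup hU hV)
    apply biprod.hom_ext'
    · rw [← Category.assoc, biprod.inl_map, Category.assoc, inl_mvg, ← Category.assoc, inl_mvg,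
        GUmap_comp, GUmap_comp]
    · rw [← Category.assoc, biprod.inr_map, Category.assoc, inr_mvg, ← Category.assoc, inr_mvg,
        GUmap_comp, GUmap_comp]

end MV


section Unit

variable (A : Type u) [CommRing A] [X.Over (Spec (CommRingCat.of A))]

/-- the locus where `a` is invertible -/
noncomputable def Xa (a : A) : X.Opens :=
  X.basicOpen (Coh.toGlobal (X ↘ Spec (CommRingCat.of A)) a)

lemma isUnit_resA (a : A) {W : X.Opens} (h : W ≤ Xa (X := X) A a) : IsUnit (resA A a W) := by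
  have h1 : IsUnit (resA A a (Xa (X := X) A a)) :=
    RingedSpace.isUnit_res_basicOpen X.toRingedSpace
      (Coh.toGlobal (X ↘ Spec (CommRingCat.of A)) a)
  have h2 := h1.map (X.presheaf.map (homOfLE h).op).hom
  have h3 : (X.presheaf.map (homOfLE h).op).hom (resA A a (Xa (X := X) A a)) = resA A a W :=
    resA_res A a h
  rwa [h3] at h2

theorem isIso_smul_id_GU (a : A) (W : X.Opens) (hW : IsUnit (resA A a W)) :
    IsIso (a • 𝟙 (GU W)) := by
  obtain ⟨b, hb⟩ := hW.exists_left_inv
  obtain ⟨β, hβ⟩ := sec_surjective W (GU W) (b • eU W)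
  have h1 : a • β = 𝟙 _ := by
    apply sec_injective
    rw [sec_smul, hβ, smul_smul, mul_comm, hb, one_smul]
    rfl
  refine ⟨β, ?_, ?_⟩
  · rw [Linear.smul_comp, Category.id_comp, h1]
  · rw [Linear.comp_smul, Category.comp_id, h1]

end Unit

end Groth.Agent.Helper9.QP2
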