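import Mathlib
import Groth.Agent.Helper9.QP1
import Groth.Agent.Helper9.QP2
import Groth.Agent.Helper9.QP3a
import Groth.Agent.Helper9.LCQc1
import Groth.Agent.Helper4.QcqsMod
import Groth.Prelude.Def_DCoh2
import Groth.Prelude.Def_KLin

/-! For a quasi-compact quasi-separated scheme `X` over `Spec A`, `a : A` and `E ∈ D_QCoh(O_X)`,
the restriction maps `Hom(GU U [-i], E) → Hom(GU (U ∩ X_a) [-i], E)` are localizations at `a`
(in the sense of `QP1.LocHom`), for all quasi-compact opens `U`. -/

set_option autoImplicit false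
set_option linter.style.haveILetI false
set_option linter.unusedVariables false
set_option linter.unusedSectionVars false
universe u

namespace Groth.Agent.Helper9.QP3

open CategoryTheory Limits AlgebraicGeometry Opposite TopologicalSpace DerivedCategory
open Groth.Agent.Helper9 Groth.Agent.Helper9.LCAff1 Groth.Agent.Helper9.QP1
  Groth.Agent.Helper9.QP2 Groth.Agent.Helper9.LC3

attribute [local instance] HasDerivedCategory.standard

variable {X : Scheme.{u}}

section KK

variable (i : ℤ) (E : DCoh.D X)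

/-- `G ≅ H^i(G[-i])` -/
noncomputable def σ (G : X.Modules) : G ≅ (homologyFunctor X.Modules i).obj (W G i) :=
  ((singleFunctorCompHomologyFunctorIso X.Modules i).app G).symm

lemma σ_nat {G G' : X.Modules} (r : G' ⟶ G) :
    (σ i G').hom ≫ (homologyFunctor X.Modules i).map ((singleFunctor X.Modules i).map r) =
      r ≫ (σ i G).hom :=
  ((singleFunctorCompHomologyFunctorIso X.Modules i).inv.naturality r).symm

/-- the comparison of maps `GU U [-i] ⟶ E` with sections of `H^i(E)` over `U` -/
noncomputable def kk (U : X.Opens) (ψ : W (GU U) i ⟶ E) :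
    Γ((homologyFunctor X.Modules i).obj E, U) :=
  sec U _ ((σ i (GU U)).hom ≫ (homologyFunctor X.Modules i).map ψ)

lemma kk_zero (U : X.Opens) : kk i E U 0 = 0 := by
  unfold kk
  rw [Functor.map_zero, comp_zero, sec_zero]

lemma kk_res {V U : X.Opens} (h : V ≤ U) (ψ : W (GU U) i ⟶ E) :
    kk i E V ((singleFunctor X.Modules i).map (GUmap h) ≫ ψ) =
      ((homologyFunctor X.Modules i).obj E).presheaf.map (homOfLE h).op (kk i E U ψ) := by
  unfold kk
  rw [Functor.map_comp, ← Category.assoc, σ_nat, Category.assoc, sec_GUmap]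

theorem kk_bijective (hE : DCoh.IsQCohD E) (U : X.Opens) (hU : IsAffineOpen U) :
    Function.Bijective (kk i E U) := by
  haveI := Groth.Agent.Helper4.SchAdj.isGrothendieckAbelian_modules X
  haveI := LCProd1.hasProduct_nat (LC6.En E)
  have h := LC7.bijective_homologyMap (LCAff1.𝒢 X) (LCAff1.isSeparating_𝒢 X) E
    (fun G hG p => by
      obtain ⟨U, hU, rfl⟩ := hG
      haveI : ((DerivedCategory.homologyFunctor X.Modules p).obj E).IsQuasicoherent := hE p
      exact LCAff1.acyc U hU _) (LCAff1.GU U) ⟨U, hU, rfl⟩ i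
  have h2 : Function.Bijective
      (fun g : (homologyFunctor X.Modules i).obj (W (GU U) i) ⟶
        (homologyFunctor X.Modules i).obj E => (σ i (GU U)).hom ≫ g) :=
    ⟨fun f g hfg => (cancel_epi _).1 hfg, fun f => ⟨(σ i (GU U)).inv ≫ f, by simp⟩⟩
  exact (secEquiv U _).bijective.comp (h2.comp h)

variable (A : Type u) [CommRing A] [X.Over (Spec (CommRingCat.of A))]

lemma kk_smul (a : A) (U : X.Opens) (ψ : W (GU U) i ⟶ E) :
    kk i E U (a • ψ) = resA A a U • kk i E U ψ := by
  have h1 : a • ψ = (singleFunctor X.Modules i).map (a • 𝟙 (GU U)) ≫ ψ := by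
    rw [Functor.map_smul, CategoryTheory.Functor.map_id, Linear.smul_comp, Category.id_comp]
  unfold kk
  rw [h1, Functor.map_comp, ← Category.assoc, σ_nat, Category.assoc, Linear.smul_comp,
    Category.id_comp, sec_smul]

/-- base case: affine opens -/
theorem locHom_affine (a : A) (U : X.Opens) (hU : IsAffineOpen U) (hE : DCoh.IsQCohD E) :
    LocHom a ((singleFunctor X.Modules i).map
      (GUmap (X.basicOpen_le (resA A a U)))) E := by
  haveI : ((homologyFunctor X.Modules i).obj E).IsQuasicoherent := hE i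
  have hloc := Groth.Agent.Helper4.QcqsMod.isLocalizingOn_of_isAffineOpen
    ((homologyFunctor X.Modules i).obj E) hU
  have hU' : IsAffineOpen (X.basicOpen (resA A a U)) := hU.basicOpen _
  constructor
  · intro ψ hψ
    have h1 := kk_res i E (X.basicOpen_le (resA A a U)) ψ
    rw [hψ, kk_zero] at h1
    obtain ⟨n, hn⟩ := hloc.zero (resA A a U) (kk i E U ψ) h1.symm
    refine ⟨n, ?_⟩
    apply (kk_bijective i E hE U hU).1
    rw [kk_smul, resA_pow, hn, kk_zero]
  · intro t
    obtain ⟨n, m, hnm⟩ := hloc.surj (resA A a U) (kk i E _ t)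
    obtain ⟨ψ, hψ⟩ := (kk_bijective i E hE U hU).2 m
    refine ⟨n, ψ, ?_⟩
    apply (kk_bijective i E hE _ hU').1
    rw [kk_smul, kk_res, hψ, ← hnm, resA_pow, ← resA_res A a (X.basicOpen_le (resA A a U)),
      map_pow]

end KK


section Ind

variable (A : Type u) [CommRing A] [X.Over (Spec (CommRingCat.of A))] (a : A)

/-- the property of opens established by Mayer–Vietoris induction -/
def GoodOpen (U : X.Opens) : Prop :=
  ∀ (U' : X.Opens) (h : U' ≤ U), U' = U ⊓ Xa (X := X) A a →
    Good a (DCoh.IsQCohD (X := X)) ((singleFunctor X.Modules 0).map (GUmap h))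

lemma good_of_locHom {G' G : X.Modules} (r : G' ⟶ G)
    (h : ∀ (E : DCoh.D X), DCoh.IsQCohD E → ∀ i : ℤ,
      LocHom a ((singleFunctor X.Modules i).map r) E) :
    Good a (DCoh.IsQCohD (X := X)) ((singleFunctor X.Modules 0).map r) := by
  intro E hE n
  refine (h E hE (-n)).of_iso (wShift G' n (-n) 0 (by omega)) (wShift G n (-n) 0 (by omega)) ?_
  exact ((singleFunctors X.Modules).shiftIso n (-n) 0 (by omega)).hom.naturality r

theorem goodOpen_affine (U : X.Opens) (hU : IsAffineOpen U) : GoodOpen A a U := by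
  intro U' h hU'
  have h1 : U' = X.basicOpen (resA A a U) := by
    rw [hU']
    exact (Scheme.basicOpen_res X (Coh.toGlobal (X ↘ Spec (CommRingCat.of A)) a)
      (homOfLE (le_top : U ≤ ⊤)).op).symm
  subst h1
  apply good_of_locHom
  intro E hE i
  exact locHom_affine i E A a U hU hE

lemma good_biprod_map {G₁' G₁ G₂' G₂ : X.Modules} (r₁ : G₁' ⟶ G₁) (r₂ : G₂' ⟶ G₂)
    (h₁ : Good a (DCoh.IsQCohD (X := X)) ((singleFunctor X.Modules 0).map r₁))
    (h₂ : Good a (DCoh.IsQCohD (X := X)) ((singleFunctor X.Modules 0).map r₂)) :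
    Good a (DCoh.IsQCohD (X := X)) ((singleFunctor X.Modules 0).map (biprod.map r₁ r₂)) := by
  let S₀ := singleFunctor X.Modules 0
  refine Good.bisum h₁ h₂ (S₀.map biprod.inl) (S₀.map biprod.inr) (S₀.map biprod.fst)
    (S₀.map biprod.snd) (S₀.map biprod.inl) (S₀.map biprod.inr) (S₀.map biprod.fst)
    (S₀.map biprod.snd) ?_ ?_ ?_ ?_ ?_ ?_
  · rw [← Functor.map_comp, ← Functor.map_comp, ← Functor.map_add, biprod.total,
      CategoryTheory.Functor.map_id]
  · rw [← Functor.map_comp, ← Functor.map_comp, ← Functor.map_add, biprod.total,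
      CategoryTheory.Functor.map_id]
  · rw [← Functor.map_comp, ← Functor.map_comp, biprod.inl_map]
  · rw [← Functor.map_comp, ← Functor.map_comp, biprod.inr_map]
  · rw [← Functor.map_comp, ← Functor.map_comp, biprod.map_fst]
  · rw [← Functor.map_comp, ← Functor.map_comp, biprod.map_snd]

theorem goodOpen_sup (U V : X.Opens) (hU : GoodOpen A a U) (hV : GoodOpen A a V)
    (hUV : GoodOpen A a (U ⊓ V)) : GoodOpen A a (U ⊔ V) := by
  intro W h hW
  have hW' : W = (U ⊓ Xa (X := X) A a) ⊔ (V ⊓ Xa (X := X) A a) := by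
    rw [hW, inf_sup_right]
  subst hW'
  have gU := hU (U ⊓ Xa (X := X) A a) inf_le_left rfl
  have gV := hV (V ⊓ Xa (X := X) A a) inf_le_left rfl
  have gUV := hUV ((U ⊓ Xa (X := X) A a) ⊓ (V ⊓ Xa (X := X) A a))
    (inf_le_inf inf_le_left inf_le_left) (inf_inf_distrib_right _ _ _).symm
  let φ := ShortComplex.ShortExact.singleTriangle.map
    (mvS_shortExact (U ⊓ Xa (X := X) A a) (V ⊓ Xa (X := X) A a)) (mvS_shortExact U V)
    (mvSmap (inf_le_left : U ⊓ Xa (X := X) A a ≤ U) (inf_le_left : V ⊓ Xa (X := X) A a ≤ V))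
  have key := Good.triangle (a := a) (P := DCoh.IsQCohD (X := X)) _ _
    (ShortComplex.ShortExact.singleTriangle_distinguished
      (mvS_shortExact (U ⊓ Xa (X := X) A a) (V ⊓ Xa (X := X) A a)))
    (ShortComplex.ShortExact.singleTriangle_distinguished (mvS_shortExact U V)) φ gUV ?_
  · exact key
  · exact good_biprod_map A a _ _ gU gV

/-- **Theorem Q**: for a quasi-compact quasi-separated open `Ω`, restriction from `Ω` to
`Ω ⊓ X_a` is a localization at `a` on maps to objects of `D_QCoh` -/
theorem goodOpen (Ω : X.Opens) (hΩc : IsCompact (Ω : Set X))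
    (hΩ : IsQuasiSeparated (Ω : Set X)) : GoodOpen A a Ω :=
  QP3a.mv_induction (GoodOpen A a) (goodOpen_affine A a) (goodOpen_sup A a) Ω hΩc hΩ

end Ind

end Groth.Agent.Helper9.QP3
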