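import Mathlib
import Groth.Agent.Helper9.QP1
import Groth.Agent.Helper4.KDerAdj

/-! Right derived functors (on the unbounded derived category of a Grothendieck abelian category)
of linear functors are linear; transfer of `LocHom` along a linear adjunction. -/

set_option autoImplicit false
set_option linter.style.haveILetI false
set_option linter.unusedVariables false
set_option linter.unusedSectionVars false
universe w' v' u' v'' u''

namespace Groth.Agent.Helper9.QP4a

open CategoryTheory Limits
open Groth.Agent.Helper1 Groth.Agent.Helper9.QP1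

section Linear

variable {R : Type*} [Ring R]
  {B : Type u'} [Category.{v'} B] [Abelian B] [IsGrothendieckAbelian.{v'} B]
  [HasDerivedCategory.{w'} B] [Linear R B]
  {H : Type u''} [Category.{v''} H] [Preadditive H] [Linear R H]
  (𝓕 : HomotopyCategory B (ComplexShape.up ℤ) ⥤ H) [𝓕.Linear R]
  (RF : DerivedCategory B ⥤ H) (β : 𝓕 ⟶ DerivedCategory.Qh ⋙ RF)
  [RF.IsRightDerivedFunctor β (HomotopyCategory.quasiIso B (ComplexShape.up ℤ))]

include β in
/-- the right derived functor of a linear functor is linear -/
theorem linear_rightDerived : RF.Linear R := by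
  rw [Functor.linear_iff]
  intro K r
  obtain ⟨I, f, hI, hf⟩ := Groth.Agent.Helper4.KDerAdj.hKinj (DerivedCategory.Q.objPreimage K)
  let X : (KInjDer.P B).FullSubcategory :=
    ⟨(HomotopyCategory.quotient _ _).obj I, hI.rightOrthogonal⟩
  haveI : IsIso (DerivedCategory.Q.map f) := by
    rw [DerivedCategory.isIso_Q_map_iff_quasiIso]; exact hf
  let e : K ≅ DerivedCategory.Qh.obj X.obj :=
    (DerivedCategory.Q.objObjPreimageIso K).symm ≪≫ asIso (DerivedCategory.Q.map f) ≪≫
      ((DerivedCategory.quotientCompQhIso B).app I).symm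
  haveI : IsIso (β.app X.obj) :=
    (Groth.Agent.Helper4.KDerAdj.derives 𝓕).isIso_of_isRightDerivedFunctor β X
  have h1 : RF.map (r • 𝟙 (DerivedCategory.Qh.obj X.obj)) =
      r • 𝟙 (RF.obj (DerivedCategory.Qh.obj X.obj)) := by
    have nat := β.naturality (r • 𝟙 X.obj)
    rw [Functor.map_smul, CategoryTheory.Functor.map_id, Linear.smul_comp, Category.id_comp,
      Functor.comp_map, Functor.map_smul, CategoryTheory.Functor.map_id] at nat
    rw [← cancel_epi (β.app X.obj), ← nat, Linear.comp_smul]
    erw [Category.comp_id]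
  have h2 : r • 𝟙 K = e.hom ≫ (r • 𝟙 _) ≫ e.inv := by
    rw [Linear.smul_comp, Category.id_comp, Linear.comp_smul, e.hom_inv_id]
  rw [h2, Functor.map_comp, Functor.map_comp, h1, Linear.smul_comp, Category.id_comp,
    Linear.comp_smul, ← Functor.map_comp, e.hom_inv_id, CategoryTheory.Functor.map_id]

end Linear

section Transfer

variable {A : Type*} [CommRing A] {C D : Type*} [Category C] [Category D] [Preadditive C]
  [Preadditive D] [Linear A C] [Linear A D] {L : C ⥤ D} {Rt : D ⥤ C} (adj : L ⊣ Rt)
  [Rt.Linear A]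

include adj in
/-- transfer of the localization property along an adjunction whose right adjoint is linear -/
theorem locHom_of_adj {a : A} {G' G : C} (ρ : G' ⟶ G) (E : D)
    (h : LocHom a (L.map ρ) E) : LocHom a ρ (Rt.obj E) := by
  have hlin : ∀ {G₀ : C} (r : A) (ψ : L.obj G₀ ⟶ E),
      adj.homEquiv G₀ E (r • ψ) = r • adj.homEquiv G₀ E ψ := by
    intro G₀ r ψ
    rw [Adjunction.homEquiv_unit, Adjunction.homEquiv_unit, Functor.map_smul, Linear.comp_smul]
  have hzero : ∀ {G₀ : C}, adj.homEquiv G₀ E 0 = 0 := by
    intro G₀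
    have := hlin (G₀ := G₀) 0 0
    rwa [zero_smul, zero_smul] at this
  constructor
  · intro ψ' hψ'
    obtain ⟨n, hn⟩ := h.1 ((adj.homEquiv G E).symm ψ') (by
      rw [← Adjunction.homEquiv_naturality_left_symm, hψ']
      apply (adj.homEquiv G' E).injective
      rw [Equiv.apply_symm_apply, hzero])
    refine ⟨n, ?_⟩
    have := hlin (a ^ n) ((adj.homEquiv G E).symm ψ')
    rw [hn, hzero, Equiv.apply_symm_apply] at this
    exact this.symm
  · intro t'
    obtain ⟨n, ψ, hn⟩ := h.2 ((adj.homEquiv G' E).symm t')
    refine ⟨n, adj.homEquiv G E ψ, ?_⟩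
    have := hlin (a ^ n) ((adj.homEquiv G' E).symm t')
    rw [hn, Equiv.apply_symm_apply, Adjunction.homEquiv_naturality_left] at this
    exact this.symm

end Transfer

end Groth.Agent.Helper9.QP4a
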