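import Mathlib
import Groth.Agent.Helper9.QP2
import Groth.Agent.Helper9.FreeOnIso
import Groth.Agent.Helper9.KFlat12
import Groth.Agent.Helper9.Lpull3
import Groth.Agent.Helper9.LC3

/-! `f^* GU_Y(V) ≅ GU_X(f⁻¹V)`, and `Lf^*(GU_Y(V)[-i]) ≅ GU_X(f⁻¹V)[-i]`, naturally in `V`. -/

set_option autoImplicit false
set_option linter.style.haveILetI false
set_option linter.unusedVariables false
set_option linter.unusedSectionVars false
universe u

namespace Groth.Agent.Helper9.QP4b

open CategoryTheory Limits AlgebraicGeometry Opposite TopologicalSpace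
open Groth.Agent.Helper9 Groth.Agent.Helper9.LCAff1 Groth.Agent.Helper9.QP2

variable {X Y : Scheme.{u}} (f : X ⟶ Y)

/-- maps out of `f^* GU(V)` and `GU(f⁻¹V)` agree -/
noncomputable def pullEquiv (V : Y.Opens) (F : X.Modules) :
    ((Scheme.Modules.pullback f).obj (GU V) ⟶ F) ≃ (GU (f ⁻¹ᵁ V) ⟶ F) :=
  ((Scheme.Modules.pullbackPushforwardAdjunction f).homEquiv _ F).trans
    ((secEquiv V ((Scheme.Modules.pushforward f).obj F)).trans (secEquiv (f ⁻¹ᵁ V) F).symm)

lemma sec_pullEquiv (V : Y.Opens) (F : X.Modules)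
    (h : (Scheme.Modules.pullback f).obj (GU V) ⟶ F) :
    sec (f ⁻¹ᵁ V) F (pullEquiv f V F h) =
      sec V ((Scheme.Modules.pushforward f).obj F)
        ((Scheme.Modules.pullbackPushforwardAdjunction f).homEquiv _ F h) :=
  Equiv.apply_symm_apply _ _

lemma pullEquiv_nat (V : Y.Opens) {F F' : X.Modules}
    (h : (Scheme.Modules.pullback f).obj (GU V) ⟶ F) (φ : F ⟶ F') :
    pullEquiv f V F' (h ≫ φ) = pullEquiv f V F h ≫ φ := by
  apply sec_injective
  rw [sec_comp, sec_pullEquiv, sec_pullEquiv, Adjunction.homEquiv_naturality_right, sec_comp]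
  rfl

/-- `f^* GU(V) ≅ GU(f⁻¹V)` -/
noncomputable def pullGU (V : Y.Opens) : (Scheme.Modules.pullback f).obj (GU V) ≅ GU (f ⁻¹ᵁ V) :=
  FreeOnIso.isoOfNatEquiv (pullEquiv f V) (pullEquiv_nat f V)

lemma pullEquiv_hom (V : Y.Opens) {F : X.Modules} (ψ : GU (f ⁻¹ᵁ V) ⟶ F) :
    pullEquiv f V F ((pullGU f V).hom ≫ ψ) = ψ := by
  rw [pullEquiv_nat]
  show pullEquiv f V _ ((pullEquiv f V _).symm (𝟙 _)) ≫ ψ = ψ
  rw [Equiv.apply_symm_apply, Category.id_comp]

lemma pullGU_nat {V' V : Y.Opens} (h : V' ≤ V) :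
    (Scheme.Modules.pullback f).map (GUmap h) ≫ (pullGU f V).hom =
      (pullGU f V').hom ≫ GUmap (f.preimage_mono h) := by
  apply (pullEquiv f V' _).injective
  apply sec_injective
  rw [pullEquiv_hom, sec_pullEquiv, Adjunction.homEquiv_naturality_left, sec_GUmap]
  have h1 : GUmap (f.preimage_mono h) = GUmap (f.preimage_mono h) ≫ 𝟙 _ :=
    (Category.comp_id _).symm
  rw [h1, sec_GUmap]
  have h2 := sec_pullEquiv f V _ ((pullGU f V).hom ≫ 𝟙 _)
  rw [pullEquiv_hom, Category.comp_id] at h2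
  rw [h2]
  rfl

theorem isFlat_GU (V : Y.Opens) : @ModSite.IsFlat _ _ _ Y.sheaf (GU V) :=
  Groth.Agent.Helper9.TensorFree.isFlat_free (O := Y.sheaf) (yoneda.obj V)

theorem isKFlat_single_GU (V : Y.Opens) (i : ℤ) :
    DCoh.IsKFlat ((HomologicalComplex.single Y.Modules (ComplexShape.up ℤ) i).obj (GU V)) := by
  haveI h1 : CochainComplex.IsStrictlyLE
      ((HomologicalComplex.single Y.Modules (ComplexShape.up ℤ) i).obj (GU V)) i :=
    inferInstanceAs (((CochainComplex.singleFunctor Y.Modules i).obj (GU V)).IsStrictlyLE i)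
  haveI h2 : CochainComplex.IsStrictlyGE
      ((HomologicalComplex.single Y.Modules (ComplexShape.up ℤ) i).obj (GU V)) i :=
    inferInstanceAs (((CochainComplex.singleFunctor Y.Modules i).obj (GU V)).IsStrictlyGE i)
  apply @Groth.Agent.Helper9.KFlat12.isKFlat_of_concentrated _ _ _ Y.sheaf _ i h2 h1
  intro n
  by_cases hn : n = i
  · subst hn
    exact Groth.Agent.Helper9.KFlat12.isFlat_of_iso
      (HomologicalComplex.singleObjXSelf (ComplexShape.up ℤ) n (GU V)).symm (isFlat_GU V)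
  · exact Groth.Agent.Helper9.FlatCx.isFlat_of_isZero _
      (HomologicalComplex.isZero_single_obj_X (ComplexShape.up ℤ) i (GU V) n hn)

attribute [local instance] HasDerivedCategory.standard
open DerivedCategory Groth.Agent.Helper9.LC3

variable [DCoh.HasLpull f]

/-- `Lf^*(GU(V)[-i]) ≅ GU(f⁻¹V)[-i]` -/
noncomputable def θ (V : Y.Opens) (i : ℤ) :
    (DCoh.Lpull f).obj (W (GU V) i) ≅ W (GU (f ⁻¹ᵁ V)) i :=
  Groth.Agent.Helper9.Lpull3.lpullIso f _ (isKFlat_single_GU V i) ≪≫
    Q.mapIso ((HomologicalComplex.singleMapHomologicalComplex (Scheme.Modules.pullback f)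
      (ComplexShape.up ℤ) i).app (GU V)) ≪≫
    (singleFunctor X.Modules i).mapIso (pullGU f V)

lemma lpullIso_nat {P' P : CochainComplex Y.Modules ℤ} (g : P' ⟶ P) (hP' : DCoh.IsKFlat P')
    (hP : DCoh.IsKFlat P) :
    (DCoh.Lpull f).map (Q.map g) ≫ (Groth.Agent.Helper9.Lpull3.lpullIso f P hP).hom =
      (Groth.Agent.Helper9.Lpull3.lpullIso f P' hP').hom ≫
        Q.map (((Scheme.Modules.pullback f).mapHomologicalComplex (ComplexShape.up ℤ)).map g) :=
  (Groth.Agent.Helper9.Lpull3.counit f).naturality ((HomotopyCategory.quotient _ _).map g)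

lemma θ_nat {V' V : Y.Opens} (h : V' ≤ V) (i : ℤ) :
    (DCoh.Lpull f).map ((singleFunctor Y.Modules i).map (GUmap h)) ≫ (θ f V i).hom =
      (θ f V' i).hom ≫ (singleFunctor X.Modules i).map (GUmap (f.preimage_mono h)) := by
  let sg := HomologicalComplex.single Y.Modules (ComplexShape.up ℤ) i
  let sgX := HomologicalComplex.single X.Modules (ComplexShape.up ℤ) i
  let pHC := (Scheme.Modules.pullback f).mapHomologicalComplex (ComplexShape.up ℤ)
  let s := HomologicalComplex.singleMapHomologicalComplex (Scheme.Modules.pullback f)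
      (ComplexShape.up ℤ) i
  have e1 := lpullIso_nat f (sg.map (GUmap h)) (isKFlat_single_GU V' i) (isKFlat_single_GU V i)
  have e2 : pHC.map (sg.map (GUmap h)) ≫ s.hom.app (GU V) =
      s.hom.app (GU V') ≫ sgX.map ((Scheme.Modules.pullback f).map (GUmap h)) :=
    s.hom.naturality (GUmap h)
  have e3 : sgX.map ((Scheme.Modules.pullback f).map (GUmap h)) ≫ sgX.map (pullGU f V).hom =
      sgX.map (pullGU f V').hom ≫ sgX.map (GUmap (f.preimage_mono h)) := by
    rw [← Functor.map_comp, ← Functor.map_comp, pullGU_nat]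
  have hθ : ∀ V : Y.Opens, (θ f V i).hom =
      (Groth.Agent.Helper9.Lpull3.lpullIso f _ (isKFlat_single_GU V i)).hom ≫
        Q.map (s.hom.app (GU V)) ≫ Q.map (sgX.map (pullGU f V).hom) := fun V => rfl
  rw [hθ V, hθ V']
  show (DCoh.Lpull f).map (Q.map (sg.map (GUmap h))) ≫
      (Groth.Agent.Helper9.Lpull3.lpullIso f _ (isKFlat_single_GU V i)).hom ≫
        Q.map (s.hom.app (GU V)) ≫ Q.map (sgX.map (pullGU f V).hom) =
    ((Groth.Agent.Helper9.Lpull3.lpullIso f _ (isKFlat_single_GU V' i)).hom ≫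
        Q.map (s.hom.app (GU V')) ≫ Q.map (sgX.map (pullGU f V').hom)) ≫
      Q.map (sgX.map (GUmap (f.preimage_mono h)))
  rw [reassoc_of% e1, ← Functor.map_comp_assoc, e2, Functor.map_comp_assoc, ← Functor.map_comp,
    e3, Functor.map_comp, Category.assoc, Category.assoc]

end Groth.Agent.Helper9.QP4b
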