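import Mathlib
import Groth.Agent.Helper9.QP3
import Groth.Agent.Helper9.QP4a
import Groth.Agent.Helper9.QP4b
import Groth.Agent.Helper4.SchAdj

/-! For `f : X ⟶ S` quasi-compact quasi-separated over `Spec A` with `S` affine, and
`E ∈ D_QCoh(O_X)`: restriction `Hom(GU_S(⊤)[-i], Rf_* E) → Hom(GU_S(S_a)[-i], Rf_* E)` is a
localization at `a`. -/

set_option autoImplicit false
set_option linter.style.haveILetI false
set_option linter.unusedVariables false
set_option linter.unusedSectionVars false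
universe u

namespace Groth.Agent.Helper9.QP5

open CategoryTheory Limits AlgebraicGeometry Opposite TopologicalSpace DerivedCategory
open Groth.Agent.Helper9 Groth.Agent.Helper9.LCAff1 Groth.Agent.Helper9.QP1
  Groth.Agent.Helper9.QP2 Groth.Agent.Helper9.QP3 Groth.Agent.Helper9.LC3

attribute [local instance] HasDerivedCategory.standard

variable {A : Type u} [CommRing A] {X S : Scheme.{u}} [X.Over (Spec (CommRingCat.of A))]
  [S.Over (Spec (CommRingCat.of A))] (f : X ⟶ S) [f.IsOver (Spec (CommRingCat.of A))]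

/-- `Rf_*` is `A`-linear -/
theorem linear_Rpush [DCoh.HasRpush f] : (DCoh.Rpush f).Linear A := by
  haveI := Groth.Agent.Helper4.SchAdj.isGrothendieckAbelian_modules X
  exact QP4a.linear_rightDerived (DCoh.pushKh f) (DCoh.Rpush f)
    ((DCoh.pushKh f).totalRightDerivedUnit DerivedCategory.Qh
      (HomotopyCategory.quasiIso X.Modules (ComplexShape.up ℤ)))

lemma preimage_Xa (a : A) : f ⁻¹ᵁ (Xa (X := S) A a) = Xa (X := X) A a := by
  have h1 : Coh.toGlobal (X ↘ Spec (CommRingCat.of A)) a =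
      f.appTop (Coh.toGlobal (S ↘ Spec (CommRingCat.of A)) a) := by
    rw [← KLin.toGlobal_comp f (S ↘ Spec (CommRingCat.of A)) a,
      comp_over f (Spec (CommRingCat.of A))]
  have h2 := Scheme.preimage_basicOpen f (U := ⊤)
    (Coh.toGlobal (S ↘ Spec (CommRingCat.of A)) a)
  unfold Xa
  rw [h1]
  exact h2

/-- converse of `good_of_locHom` -/
lemma locHom_of_good {a : A} {G' G : X.Modules} (r : G' ⟶ G)
    (h : Good a (DCoh.IsQCohD (X := X)) ((singleFunctor X.Modules 0).map r))
    (E : DCoh.D X) (hE : DCoh.IsQCohD E) (i : ℤ) :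
    LocHom a ((singleFunctor X.Modules i).map r) E := by
  refine (h E hE (-i)).of_iso (wShift G' (-i) i 0 (by omega)).symm
    (wShift G (-i) i 0 (by omega)).symm ?_
  have nat := ((singleFunctors X.Modules).shiftIso (-i) i 0 (by omega)).inv.naturality r
  exact nat

theorem locHom_Rpush [IsAffine S] [QuasiCompact f] [QuasiSeparated f] [DCoh.HasRpush f]
    (a : A) (E : DCoh.D X) (hE : DCoh.IsQCohD E) (i : ℤ) :
    LocHom a ((singleFunctor S.Modules i).map
      (GUmap (le_top : Xa (X := S) A a ≤ ⊤))) ((DCoh.Rpush f).obj E) := by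
  haveI : DCoh.HasLpull f := Groth.Agent.Helper9.Lpull1.hasLpull f
  haveI := linear_Rpush (A := A) f
  apply QP4a.locHom_of_adj (Groth.Agent.Helper4.SchAdj.adj f)
  -- now on `X`
  have hc : IsCompact ((f ⁻¹ᵁ (⊤ : S.Opens) : X.Opens) : Set X) :=
    f.isCompact_preimage (isAffineOpen_top S).isCompact
  have hq : IsQuasiSeparated ((f ⁻¹ᵁ (⊤ : S.Opens) : X.Opens) : Set X) :=
    f.isQuasiSeparated_preimage (isAffineOpen_top S).isQuasiSeparated
  have hgood := goodOpen A a (f ⁻¹ᵁ (⊤ : S.Opens)) hc hq (f ⁻¹ᵁ (Xa (X := S) A a))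
    (f.preimage_mono le_top) (by
      rw [preimage_Xa]
      exact (inf_eq_right.2 (fun x _ => trivial)).symm)
  have h1 := locHom_of_good _ hgood E hE i
  exact h1.of_iso (QP4b.θ f (Xa (X := S) A a) i) (QP4b.θ f ⊤ i) (QP4b.θ_nat f le_top i)

end Groth.Agent.Helper9.QP5
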