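import Mathlib
import Groth.Prelude.Def_DCoh2
import Groth.Agent.Helper9.Lpull4
import Groth.Agent.Helper2.FinLocFreeLim

/-! `Lf^*` of a perfect complex is perfect. -/

set_option autoImplicit false
set_option linter.style.haveILetI false
set_option linter.unusedVariables false
set_option linter.unusedSectionVars false
universe u

namespace Groth.Agent.Helper9.Lpull5

open CategoryTheory CategoryTheory.Limits AlgebraicGeometry Opposite TopologicalSpace
  HomologicalComplex
open Groth.Agent.Helper9.Lpull1 Groth.Agent.Helper9.Lpull2 Groth.Agent.Helper9.Lpull3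
  Groth.Agent.Helper9.Lpull4

attribute [local instance] HasDerivedCategory.standard

variable {X Y : Scheme.{u}}

section Restr

variable {U : Scheme.{u}} (j : U ⟶ Y) [IsOpenImmersion j]

instance : PreservesFiniteLimits (Scheme.Modules.restrictFunctor j) := inferInstance
instance : PreservesFiniteColimits (Scheme.Modules.restrictFunctor j) := inferInstance

/-- restriction of complexes -/
noncomputable abbrev rCx : CochainComplex Y.Modules ℤ ⥤ CochainComplex U.Modules ℤ :=
  (Scheme.Modules.restrictFunctor j).mapHomologicalComplex (ComplexShape.up ℤ)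

/-- restriction on derived categories -/
noncomputable abbrev rD : DCoh.D Y ⥤ DCoh.D U :=
  (Scheme.Modules.restrictFunctor j).mapDerivedCategory

/-- restriction of complexes respects isomorphisms in the derived category -/
noncomputable def qRestrIso {F F' : CochainComplex Y.Modules ℤ}
    (e : DerivedCategory.Q.obj F ≅ DerivedCategory.Q.obj F') :
    DerivedCategory.Q.obj ((rCx j).obj F) ≅ DerivedCategory.Q.obj ((rCx j).obj F') :=
  ((Scheme.Modules.restrictFunctor j).mapDerivedCategoryFactors.app F).symm ≪≫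
    (rD j).mapIso e ≪≫ (Scheme.Modules.restrictFunctor j).mapDerivedCategoryFactors.app F'

/-- the restriction of a K-flat complex is K-flat -/
theorem isKFlat_restrict (P : CochainComplex Y.Modules ℤ) (hP : DCoh.IsKFlat P) :
    DCoh.IsKFlat ((rCx j).obj P) := by
  have h1 := isKFlat_pullback j P hP
  have e : ((Scheme.Modules.pullback j).mapHomologicalComplex (ComplexShape.up ℤ)).obj P ≅
      (rCx j).obj P :=
    ((NatIso.mapHomologicalComplex (Scheme.Modules.restrictFunctorIsoPullback j)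
      (ComplexShape.up ℤ)).app P).symm
  exact @Groth.Agent.Helper9.KFlat8.isKFlat_of_iso _ _ _ U.sheaf _ _ e h1

end Restr

section Sq

variable (f : X ⟶ Y) (V : Y.Opens)

/-- restriction commutes with pullback -/
noncomputable def restrPullIso :
    Scheme.Modules.pullback f ⋙ Scheme.Modules.restrictFunctor (f ⁻¹ᵁ V).ι ≅
      Scheme.Modules.restrictFunctor V.ι ⋙ Scheme.Modules.pullback (f ∣_ V) :=
  Functor.isoWhiskerLeft _ (Scheme.Modules.restrictFunctorIsoPullback (f ⁻¹ᵁ V).ι) ≪≫
    Scheme.Modules.pullbackComp (f ⁻¹ᵁ V).ι f ≪≫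
    Scheme.Modules.pullbackCongr (morphismRestrict_ι f V).symm ≪≫
    (Scheme.Modules.pullbackComp (f ∣_ V) V.ι).symm ≪≫
    Functor.isoWhiskerRight (Scheme.Modules.restrictFunctorIsoPullback V.ι).symm _

/-- restriction commutes with pullback, for complexes -/
noncomputable def restrPullCxIso (P : CochainComplex Y.Modules ℤ) :
    (rCx (f ⁻¹ᵁ V).ι).obj
      (((Scheme.Modules.pullback f).mapHomologicalComplex (ComplexShape.up ℤ)).obj P) ≅
    ((Scheme.Modules.pullback (f ∣_ V)).mapHomologicalComplex (ComplexShape.up ℤ)).obj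
      ((rCx V.ι).obj P) :=
  HomologicalComplex.Hom.isoOfComponents (fun i => (restrPullIso f V).app (P.X i))
    (fun i j _ => ((restrPullIso f V).hom.naturality (P.d i j)).symm)

end Sq

/-- the pullback of a finite locally free module is finite locally free -/
theorem isFinLocFree_pullback (f : X ⟶ Y) (M : Y.Modules) (hM : FlatMod.IsFinLocFree M) :
    FlatMod.IsFinLocFree ((Scheme.Modules.pullback f).obj M) := by
  rw [Groth.Agent.Helper4.FinLocFree.isFinLocFree_iff_isFreeAlong] at hM ⊢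
  intro x
  obtain ⟨V, n, hV, h⟩ := hM (f x)
  exact ⟨f ⁻¹ᵁ V, n, hV, Groth.Agent.Helper2.FinLocFreeLim.isFreeAlong_pullback f h⟩

/-- the pullback of a strictly perfect complex is strictly perfect -/
theorem isStrictlyPerfect_pullback (f : X ⟶ Y) (E : CochainComplex Y.Modules ℤ)
    (hE : DCoh.IsStrictlyPerfect E) :
    DCoh.IsStrictlyPerfect
      (((Scheme.Modules.pullback f).mapHomologicalComplex (ComplexShape.up ℤ)).obj E) := by
  obtain ⟨⟨a, b, hab⟩, hfl⟩ := hE
  exact ⟨⟨a, b, fun i hi => Functor.map_isZero (Scheme.Modules.pullback f) (hab i hi)⟩,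
    fun i => isFinLocFree_pullback f (E.X i) (hfl i)⟩

/-- a strictly perfect complex is K-flat -/
theorem isKFlat_of_isStrictlyPerfect (E : CochainComplex Y.Modules ℤ)
    (hE : DCoh.IsStrictlyPerfect E) : DCoh.IsKFlat E := by
  obtain ⟨⟨a, b, hab⟩, hfl⟩ := hE
  exact Groth.Agent.Helper9.LTM2.isKFlat_of_vanishesAbove E b (fun i hi => hab i (Or.inr hi))
    (fun i => Groth.Agent.Lead.FlatLib.isFlat_of_isFinLocFree (hfl i))

/-- `Lf^*` of a perfect complex is perfect -/
theorem isPerfect_lpull (f : X ⟶ Y) [DCoh.HasLpull f] (E : DCoh.D Y) (hE : DCoh.IsPerfect E) :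
    DCoh.IsPerfect ((DCoh.Lpull f).obj E) := by
  intro x
  obtain ⟨V, hxV, hV⟩ := hE (f x)
  refine ⟨f ⁻¹ᵁ V, hxV, ?_⟩
  intro F' ⟨e'⟩
  obtain ⟨P, hP, ⟨eP⟩⟩ := exists_kflat_rep E
  obtain ⟨EV, hEV, ⟨eV⟩⟩ := hV P ⟨eP⟩
  haveI : DCoh.HasLpull (f ∣_ V) := hasLpull _
  refine ⟨((Scheme.Modules.pullback (f ∣_ V)).mapHomologicalComplex (ComplexShape.up ℤ)).obj EV,
    isStrictlyPerfect_pullback _ EV hEV, ⟨?_⟩⟩
  -- `Q F' ≅ Q (f^* P)`
  have e1 : DerivedCategory.Q.obj F' ≅ DerivedCategory.Q.obj
      (((Scheme.Modules.pullback f).mapHomologicalComplex (ComplexShape.up ℤ)).obj P) :=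
    e' ≪≫ (DCoh.Lpull f).mapIso eP.symm ≪≫ lpullIso f P hP
  have e2 := qRestrIso (f ⁻¹ᵁ V).ι e1
  have e3 := DerivedCategory.Q.mapIso (restrPullCxIso f V P)
  have hPV : DCoh.IsKFlat ((rCx V.ι).obj P) := isKFlat_restrict V.ι P hP
  have e4 := (lpullIso (f ∣_ V) _ hPV).symm
  have e5 := (DCoh.Lpull (f ∣_ V)).mapIso eV
  have e6 := lpullIso (f ∣_ V) EV (isKFlat_of_isStrictlyPerfect EV hEV)
  exact e2 ≪≫ e3 ≪≫ e4 ≪≫ e5 ≪≫ e6

end Groth.Agent.Helper9.Lpull5
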