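import Mathlib
import Groth.Prelude.Def_DCoh2
import Groth.Agent.Helper9.Lpull5
import Groth.Agent.Helper9.LTM6

/-! `Lf^*` preserves morphisms which are isomorphisms on `H^i` for `i > m` and epimorphisms
on `H^m`; `Lf^*` of a pseudo-coherent object is pseudo-coherent. -/

set_option autoImplicit false
set_option linter.style.haveILetI false
set_option linter.unusedVariables false
set_option linter.unusedSectionVars false
universe u

namespace Groth.Agent.Helper9.Lpull6

open CategoryTheory CategoryTheory.Limits AlgebraicGeometry Opposite TopologicalSpace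
  HomologicalComplex CochainComplex
open Groth.Agent.Helper9.Lpull1 Groth.Agent.Helper9.Lpull2 Groth.Agent.Helper9.Lpull3
  Groth.Agent.Helper9.Lpull4 Groth.Agent.Helper9.Lpull5

attribute [local instance] HasDerivedCategory.standard

section Abstract

variable {A : Type*} [Category A] [Abelian A] [HasDerivedCategory A]

/-- a chain map is an `m`-quasi-isomorphism -/
def GoodC (m : ℤ) {K L : CochainComplex A ℤ} (φ : K ⟶ L) : Prop :=
  (∀ i : ℤ, m < i → IsIso (homologyMap φ i)) ∧ Epi (homologyMap φ m)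

/-- the cone of `φ` has no cohomology in degrees `≥ m` -/
def ConeLE (m : ℤ) {K L : CochainComplex A ℤ} (φ : K ⟶ L) : Prop :=
  ∀ i : ℤ, m ≤ i → IsZero ((mappingCone φ).homology i)

lemma goodC_of_coneLE (m : ℤ) {K L : CochainComplex A ℤ} (φ : K ⟶ L) (h : ConeLE m φ) :
    GoodC m φ := by
  have hT := DerivedCategory.mappingCone_triangle_distinguished φ
  have hepi : ∀ i : ℤ, m ≤ i → Epi (homologyMap φ i) := by
    intro i hi
    have h2 := CochainComplex.homologyMap_exact₂_of_distTriang (mappingCone.triangle φ) hT i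
    exact h2.epi_f ((h i hi).eq_of_tgt _ _)
  have hmono : ∀ i : ℤ, m < i → Mono (homologyMap φ i) := by
    intro i hi
    have h1 := CochainComplex.homologyMap_exact₁_of_distTriang (mappingCone.triangle φ) hT
      (i - 1) i (by omega)
    exact h1.mono_g ((h (i - 1) (by omega)).eq_of_src _ _)
  refine ⟨fun i hi => ?_, hepi m le_rfl⟩
  haveI := hepi i hi.le
  haveI := hmono i hi
  exact isIso_of_mono_of_epi _

lemma coneLE_of_goodC (m : ℤ) {K L : CochainComplex A ℤ} (φ : K ⟶ L) (h : GoodC m φ) :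
    ConeLE m φ := by
  have hT := DerivedCategory.mappingCone_triangle_distinguished φ
  intro i hi
  have h3 := CochainComplex.homologyMap_exact₃_of_distTriang (mappingCone.triangle φ) hT
    i (i + 1) rfl
  haveI hepi : Epi (homologyMap φ i) := by
    rcases hi.lt_or_eq with h' | h'
    · haveI := h.1 i h'
      infer_instance
    · rw [← h']
      exact h.2
  haveI hmono : Mono (homologyMap φ (i + 1)) := by
    haveI := h.1 (i + 1) (by omega)
    infer_instance
  refine h3.isZero_of_both_zeros ?_ ?_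
  · have := CochainComplex.homologyMap_comp_eq_zero_of_distTriang (mappingCone.triangle φ) hT i
    exact (cancel_epi (homologyMap φ i)).1 (this.trans comp_zero.symm)
  · have := CochainComplex.homologyδOfTriangle_homologyMap (mappingCone.triangle φ) hT
      i (i + 1) rfl
    exact (cancel_mono (homologyMap φ (i + 1))).1 (this.trans zero_comp.symm)

/-- a morphism of the derived category is an `m`-quasi-isomorphism -/
def GoodD (m : ℤ) {K L : DerivedCategory A} (α : K ⟶ L) : Prop :=
  (∀ i : ℤ, m < i → IsIso ((DerivedCategory.homologyFunctor A i).map α)) ∧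
    Epi ((DerivedCategory.homologyFunctor A m).map α)

lemma goodD_iso_comp (m : ℤ) {K' K L : DerivedCategory A} (e : K' ⟶ K) [IsIso e] (α : K ⟶ L) :
    GoodD m (e ≫ α) ↔ GoodD m α := by
  unfold GoodD
  simp only [Functor.map_comp]
  constructor
  · rintro ⟨h1, h2⟩
    refine ⟨fun i hi => ?_, ?_⟩
    · have := h1 i hi
      exact (isIso_comp_left_iff _ _).1 this
    · exact epi_of_epi ((DerivedCategory.homologyFunctor A m).map e) _
  · rintro ⟨h1, h2⟩
    refine ⟨fun i hi => ?_, ?_⟩
    · haveI := h1 i hi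
      infer_instance
    · infer_instance

lemma goodD_comp_iso (m : ℤ) {K L L' : DerivedCategory A} (α : K ⟶ L) (e : L ⟶ L') [IsIso e] :
    GoodD m (α ≫ e) ↔ GoodD m α := by
  unfold GoodD
  simp only [Functor.map_comp]
  constructor
  · rintro ⟨h1, h2⟩
    refine ⟨fun i hi => ?_, ?_⟩
    · have := h1 i hi
      exact (isIso_comp_right_iff _ _).1 this
    · have h3 : (DerivedCategory.homologyFunctor A m).map α =
          ((DerivedCategory.homologyFunctor A m).map α ≫
            (DerivedCategory.homologyFunctor A m).map e) ≫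
            inv ((DerivedCategory.homologyFunctor A m).map e) := by
        rw [Category.assoc, IsIso.hom_inv_id, Category.comp_id]
      rw [h3]
      infer_instance
  · rintro ⟨h1, h2⟩
    refine ⟨fun i hi => ?_, ?_⟩
    · haveI := h1 i hi
      infer_instance
    · infer_instance

lemma isIso_map_iff_of_natIso {C D : Type*} [Category C] [Category D] {F G : C ⥤ D} (e : F ≅ G)
    {X Y : C} (φ : X ⟶ Y) : IsIso (F.map φ) ↔ IsIso (G.map φ) :=
  NatIso.isIso_map_iff e φ

lemma epi_map_iff_of_natIso {C D : Type*} [Category C] [Category D] {F G : C ⥤ D} (e : F ≅ G)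
    {X Y : C} (φ : X ⟶ Y) : Epi (F.map φ) ↔ Epi (G.map φ) := by
  constructor
  · intro h
    have h1 : G.map φ = e.inv.app X ≫ F.map φ ≫ e.hom.app Y := (NatIso.naturality_1 e φ).symm
    rw [h1]
    infer_instance
  · intro h
    have h1 : F.map φ = e.hom.app X ≫ G.map φ ≫ e.inv.app Y := (NatIso.naturality_2 e φ).symm
    rw [h1]
    infer_instance

lemma goodD_Q_map_iff (m : ℤ) {K L : CochainComplex A ℤ} (φ : K ⟶ L) :
    GoodD m (DerivedCategory.Q.map φ) ↔ GoodC m φ := by
  have h1 : ∀ i : ℤ, IsIso ((DerivedCategory.homologyFunctor A i).map (DerivedCategory.Q.map φ)) ↔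
      IsIso (homologyMap φ i) := fun i =>
    isIso_map_iff_of_natIso (DerivedCategory.homologyFunctorFactors A i) φ
  have h2 : Epi ((DerivedCategory.homologyFunctor A m).map (DerivedCategory.Q.map φ)) ↔
      Epi (homologyMap φ m) :=
    epi_map_iff_of_natIso (DerivedCategory.homologyFunctorFactors A m) φ
  unfold GoodD GoodC
  rw [h2]
  exact and_congr_left (fun _ => forall_congr' (fun i => imp_congr_right (fun _ => h1 i)))

end Abstract

variable {X Y : Scheme.{u}} (g : X ⟶ Y)

/-- termwise pullback of complexes -/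
noncomputable abbrev pCx : CochainComplex Y.Modules ℤ ⥤ CochainComplex X.Modules ℤ :=
  (Scheme.Modules.pullback g).mapHomologicalComplex (ComplexShape.up ℤ)

/-- pullback preserves quasi-isomorphisms between K-flat complexes -/
theorem quasiIso_pullback_map {P P' : CochainComplex Y.Modules ℤ} (a : P ⟶ P')
    (hP : DCoh.IsKFlat P) (hP' : DCoh.IsKFlat P') (ha : QuasiIso a) :
    QuasiIso ((pCx g).map a) := by
  have hadd : (Scheme.Modules.pullback g).Additive := inferInstance
  exact @Groth.Agent.Helper9.LDeriv4.quasiIso_map_of_isKFlat _ _ _ Y.sheaf X.Modules _ _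
    (Scheme.Modules.pullback g) hadd (fun K hK hac => acyclic_pullback g K hK hac) P P' a hP hP' ha

/-- pullback of a K-flat complex without cohomology in degrees `≥ m` -/
theorem isZero_homology_pullback (C : CochainComplex Y.Modules ℤ) (hC : DCoh.IsKFlat C) (m : ℤ)
    (h : ∀ i : ℤ, m ≤ i → IsZero (C.homology i)) (i : ℤ) (hi : m ≤ i) :
    IsZero (((pCx g).obj C).homology i) := by
  haveI hLE : C.IsLE (m - 1) := by
    rw [CochainComplex.isLE_iff]
    intro j hj
    rw [HomologicalComplex.exactAt_iff_isZero_homology]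
    exact h j (by omega)
  haveI : QuasiIso (C.ιTruncLE (m - 1)) := (C.quasiIso_ιTruncLE_iff (m - 1)).2 hLE
  obtain ⟨P, q, hq, hP, -, hPle⟩ :=
    Groth.Agent.Helper9.LTM6.exists_flat_resolution_le (C.truncLE (m - 1)) (m - 1) inferInstance
  haveI := hq
  have hqi : QuasiIso (q ≫ C.ιTruncLE (m - 1)) := inferInstance
  haveI := quasiIso_pullback_map g (q ≫ C.ιTruncLE (m - 1)) hP hC hqi
  have hz : IsZero (((pCx g).obj P).homology i) := by
    have h0 : IsZero (P.X i) := P.isZero_of_isStrictlyLE (m - 1) i (by omega)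
    have h1 : IsZero (((pCx g).obj P).X i) := Functor.map_isZero (Scheme.Modules.pullback g) h0
    exact (HomologicalComplex.ExactAt.of_isZero h1).isZero_homology
  exact hz.of_iso (@asIso _ _ _ _
    (HomologicalComplex.homologyMap ((pCx g).map (q ≫ C.ιTruncLE (m - 1))) i)
    ((quasiIsoAt_iff_isIso_homologyMap _ i).1 inferInstance)).symm

/-- pullback preserves `m`-quasi-isomorphisms between K-flat complexes -/
theorem goodC_pullback {P P' : CochainComplex Y.Modules ℤ} (a : P ⟶ P')
    (hP : DCoh.IsKFlat P) (hP' : DCoh.IsKFlat P') (m : ℤ) (h : GoodC m a) :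
    GoodC m ((pCx g).map a) := by
  apply goodC_of_coneLE
  have hc : DCoh.IsKFlat (mappingCone a) :=
    (@Groth.Agent.Helper9.KFlat5.isKFlat_cone _ _ _ Y.sheaf _ _ a).1 hP hP'
  intro i hi
  exact (isZero_homology_pullback g (mappingCone a) hc m (coneLE_of_goodC m a h) i hi).of_iso
    ((HomologicalComplex.homologyFunctor _ _ i).mapIso
      (mappingCone.mapHomologicalComplexIso a (Scheme.Modules.pullback g))).symm

variable [DCoh.HasLpull g]

/-- naturality of `lpullIso` -/
lemma lpull_map_Q {P P' : CochainComplex Y.Modules ℤ} (a : P ⟶ P')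
    (hP : DCoh.IsKFlat P) (hP' : DCoh.IsKFlat P') :
    (DCoh.Lpull g).map (DerivedCategory.Q.map a) =
      (lpullIso g P hP).hom ≫ DerivedCategory.Q.map ((pCx g).map a) ≫
        (lpullIso g P' hP').inv := by
  have h := (counit g).naturality ((HomotopyCategory.quotient _ _).map a)
  rw [← Category.assoc, Iso.eq_comp_inv]
  exact h

/-- `Lg^*` preserves `m`-quasi-isomorphisms -/
theorem goodD_lpull {A B : DCoh.D Y} (α : A ⟶ B) (m : ℤ) (h : GoodD m α) :
    GoodD m ((DCoh.Lpull g).map α) := by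
  obtain ⟨PA, hPA, ⟨eA⟩⟩ := exists_kflat_rep A
  obtain ⟨PB, hPB, ⟨eB⟩⟩ := exists_kflat_rep B
  let α' : DerivedCategory.Q.obj PA ⟶ DerivedCategory.Q.obj PB := eA.hom ≫ α ≫ eB.inv
  have hα' : GoodD m α' := by
    show GoodD m (eA.hom ≫ α ≫ eB.inv)
    rw [goodD_iso_comp, goodD_comp_iso]
    exact h
  obtain ⟨X', s, hs, b, hφ⟩ := DerivedCategory.right_fac α'
  obtain ⟨E', r, hE', -, hr, -⟩ := Groth.Agent.Helper9.LTM3.exists_kflat_resolution X'
  haveI : QuasiIso s := (DerivedCategory.isIso_Q_map_iff_quasiIso _ s).1 hs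
  haveI : QuasiIso r := hr
  haveI hrs : IsIso (DerivedCategory.Q.map (r ≫ s)) :=
    (DerivedCategory.isIso_Q_map_iff_quasiIso _ (r ≫ s)).2 inferInstance
  have h1 : DerivedCategory.Q.map (r ≫ s) ≫ α' = DerivedCategory.Q.map (r ≫ b) := by
    rw [hφ, Functor.map_comp, Functor.map_comp, Category.assoc, IsIso.hom_inv_id_assoc]
  have hb : GoodC m (r ≫ b) := by
    rw [← goodD_Q_map_iff, ← h1, goodD_iso_comp]
    exact hα'
  have hb' : GoodC m ((pCx g).map (r ≫ b)) := goodC_pullback g (r ≫ b) hE' hPB m hb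
  have h2 : GoodD m ((DCoh.Lpull g).map (DerivedCategory.Q.map (r ≫ b))) := by
    rw [lpull_map_Q g (r ≫ b) hE' hPB, goodD_iso_comp, goodD_comp_iso, goodD_Q_map_iff]
    exact hb'
  have h4 : (DCoh.Lpull g).map (DerivedCategory.Q.map (r ≫ s)) ≫ (DCoh.Lpull g).map α' =
      (DCoh.Lpull g).map (DerivedCategory.Q.map (r ≫ b)) := by
    rw [← Functor.map_comp, h1]
  have h5 : (DCoh.Lpull g).map α' = inv ((DCoh.Lpull g).map (DerivedCategory.Q.map (r ≫ s))) ≫
      (DCoh.Lpull g).map (DerivedCategory.Q.map (r ≫ b)) :=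
    (IsIso.eq_inv_comp _).2 h4
  have h6 : (DCoh.Lpull g).map α = (DCoh.Lpull g).map eA.inv ≫ (DCoh.Lpull g).map α' ≫
      (DCoh.Lpull g).map eB.hom := by
    rw [← Functor.map_comp, ← Functor.map_comp]
    congr 1
    simp [α']
  rw [h6, h5, goodD_iso_comp, Category.assoc, goodD_iso_comp, goodD_comp_iso]
  exact h2

/-- `Lf^*` of an `m`-pseudo-coherent object is `m`-pseudo-coherent -/
theorem isPseudoCoherentD_lpull {X Y : Scheme.{u}} (f : X ⟶ Y) [DCoh.HasLpull f] (m : ℤ)
    (E : DCoh.D Y) (hE : DCoh.IsPseudoCoherentD m E) :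
    DCoh.IsPseudoCoherentD m ((DCoh.Lpull f).obj E) := by
  intro x
  obtain ⟨V, hxV, hV⟩ := hE (f x)
  refine ⟨f ⁻¹ᵁ V, hxV, ?_⟩
  intro F' ⟨e'⟩
  obtain ⟨P, hP, ⟨eP⟩⟩ := exists_kflat_rep E
  obtain ⟨EV, α, hEV, hα1, hα2⟩ := hV P ⟨eP⟩
  haveI : DCoh.HasLpull (f ∣_ V) := hasLpull _
  have hα : GoodD m α := ⟨hα1, hα2⟩
  -- `Q F' ≅ Q (f^* P)`
  have e1 : DerivedCategory.Q.obj F' ≅ DerivedCategory.Q.obj
      (((Scheme.Modules.pullback f).mapHomologicalComplex (ComplexShape.up ℤ)).obj P) :=
    e' ≪≫ (DCoh.Lpull f).mapIso eP.symm ≪≫ lpullIso f P hP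
  have e2 := qRestrIso (f ⁻¹ᵁ V).ι e1
  have e3 := DerivedCategory.Q.mapIso (restrPullCxIso f V P)
  have hPV : DCoh.IsKFlat ((rCx V.ι).obj P) := isKFlat_restrict V.ι P hP
  have e4 := (lpullIso (f ∣_ V) _ hPV).symm
  have e6 := lpullIso (f ∣_ V) EV (isKFlat_of_isStrictlyPerfect EV hEV)
  have hβ : GoodD m (e6.inv ≫ (DCoh.Lpull (f ∣_ V)).map α ≫ (e2 ≪≫ e3 ≪≫ e4).inv) := by
    rw [goodD_iso_comp, goodD_comp_iso]
    exact goodD_lpull (f ∣_ V) α m hα
  exact ⟨((Scheme.Modules.pullback (f ∣_ V)).mapHomologicalComplex (ComplexShape.up ℤ)).obj EV,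
    e6.inv ≫ (DCoh.Lpull (f ∣_ V)).map α ≫ (e2 ≪≫ e3 ≪≫ e4).inv,
    isStrictlyPerfect_pullback _ EV hEV, hβ.1, hβ.2⟩

end Groth.Agent.Helper9.Lpull6
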