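import Mathlib
import Groth.Prelude.Def_PerfD
import Groth.Agent.Helper9.Lpull6

/-! The derived fibre of a complex at a point `y` of an open `V`, computed from a K-flat model
on `V`. -/

set_option autoImplicit false
set_option linter.style.haveILetI false
set_option linter.unusedVariables false
set_option linter.unusedSectionVars false
universe u

namespace Groth.Agent.Helper9.Betti3

open CategoryTheory CategoryTheory.Limits AlgebraicGeometry Opposite TopologicalSpace
  HomologicalComplex
open Groth.Agent.Helper9.Lpull1 Groth.Agent.Helper9.Lpull2 Groth.Agent.Helper9.Lpull3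
  Groth.Agent.Helper9.Lpull4 Groth.Agent.Helper9.Lpull5

attribute [local instance] HasDerivedCategory.standard

/-- `Lf^*` only depends on `f` -/
noncomputable def lpullCongr {X Y : Scheme.{u}} {f g : X ⟶ Y} (h : f = g) [DCoh.HasLpull f]
    [DCoh.HasLpull g] : DCoh.Lpull f ≅ DCoh.Lpull g := by
  subst h
  exact Iso.refl _

variable {X : Scheme.{u}}

theorem exists_fibre_model (E : DCoh.D X) (V : X.Opens) (F : CochainComplex X.Modules ℤ)
    (hF : DCoh.IsKFlat F) (eF : DerivedCategory.Q.obj F ≅ E)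
    (P : CochainComplex (V : Scheme.{u}).Modules ℤ) (hP : DCoh.IsKFlat P)
    (eP : DerivedCategory.Q.obj ((DCoh.restrictCx V).obj F) ≅ DerivedCategory.Q.obj P)
    (y : X) (hy : y ∈ V) [DCoh.HasLpull (X.fromSpecResidueField y)] :
    ∃ g : Spec (X.residueField y) ⟶ (V : Scheme.{u}),
      Nonempty ((DCoh.Lpull (X.fromSpecResidueField y)).obj E ≅
        DerivedCategory.Q.obj
          (((Scheme.Modules.pullback g).mapHomologicalComplex (ComplexShape.up ℤ)).obj P)) := by
  have hr : Set.range (X.fromSpecResidueField y) ⊆ Set.range V.ι := by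
    rw [Scheme.range_fromSpecResidueField, Scheme.Opens.range_ι]
    intro z hz
    rw [Set.mem_singleton_iff] at hz
    subst hz
    exact hy
  let g : Spec (X.residueField y) ⟶ (V : Scheme.{u}) :=
    IsOpenImmersion.lift V.ι (X.fromSpecResidueField y) hr
  have hg : g ≫ V.ι = X.fromSpecResidueField y := IsOpenImmersion.lift_fac _ _ _
  refine ⟨g, ⟨?_⟩⟩
  haveI : DCoh.HasLpull g := hasLpull _
  haveI : DCoh.HasLpull V.ι := hasLpull _
  haveI : DCoh.HasLpull (g ≫ V.ι) := hasLpull _
  have e1 : (DCoh.Lpull (X.fromSpecResidueField y)).obj E ≅ (DCoh.Lpull (g ≫ V.ι)).obj E :=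
    (lpullCongr hg.symm).app E
  have e2 : (DCoh.Lpull (g ≫ V.ι)).obj E ≅ (DCoh.Lpull g).obj ((DCoh.Lpull V.ι).obj E) :=
    ((lpullComp g V.ι).app E).symm
  have e3 : (DCoh.Lpull V.ι).obj E ≅ DerivedCategory.Q.obj ((DCoh.restrictCx V).obj F) :=
    (DCoh.Lpull V.ι).mapIso eF.symm ≪≫ lpullIso V.ι F hF ≪≫
      DerivedCategory.Q.mapIso
        ((NatIso.mapHomologicalComplex (Scheme.Modules.restrictFunctorIsoPullback V.ι)
          (ComplexShape.up ℤ)).app F).symm
  exact e1 ≪≫ e2 ≪≫ (DCoh.Lpull g).mapIso (e3 ≪≫ eP) ≪≫ lpullIso g P hP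

end Groth.Agent.Helper9.Betti3
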