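import Mathlib
import Groth.Prelude.Def_PerfD
import Groth.Agent.Helper9.Lpull6
import Groth.Agent.Lead.PerfLib7

/-! A module placed in degree `i`, in the derived category of a scheme: cohomology, derived
pullback, and recognition. -/

set_option autoImplicit false
set_option linter.style.haveILetI false
set_option linter.unusedVariables false
set_option linter.unusedSectionVars false
universe u

namespace Groth.Agent.Helper9.ShiftVB1

open CategoryTheory CategoryTheory.Limits AlgebraicGeometry Opposite TopologicalSpace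
  HomologicalComplex
open Groth.Agent.Helper9.Lpull1 Groth.Agent.Helper9.Lpull3 Groth.Agent.Helper9.Lpull5

attribute [local instance] HasDerivedCategory.standard

variable {Y Y' : Scheme.{u}}

/-- the complex with `M` in degree `i` -/
noncomputable abbrev sg (M : Y.Modules) (i : ℤ) : CochainComplex Y.Modules ℤ :=
  (HomologicalComplex.single Y.Modules (ComplexShape.up ℤ) i).obj M

/-- `M[-i]` is represented by the complex with `M` in degree `i` -/
noncomputable def shiftSingleIso (M : Y.Modules) (i : ℤ) :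
    (DCoh.inD Y M)⟦-i⟧ ≅ DerivedCategory.Q.obj (sg M i) :=
  ((DerivedCategory.singleFunctors Y.Modules).shiftIso (-i) i 0 (by omega)).app M ≪≫
    (DerivedCategory.singleFunctorIsoCompQ Y.Modules i).app M

/-- the cohomology of `M[-i]` in degree `i` -/
noncomputable def hdSelfIso (M : Y.Modules) (i : ℤ) : DCoh.HD ((DCoh.inD Y M)⟦-i⟧) i ≅ M :=
  (DerivedCategory.homologyFunctor _ i).mapIso (shiftSingleIso M i) ≪≫
    (DerivedCategory.homologyFunctorFactors _ i).app (sg M i) ≪≫
    HomologicalComplex.singleObjHomologySelfIso (ComplexShape.up ℤ) i M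

/-- the cohomology of `M[-i]` in degrees `≠ i` -/
theorem isZero_hd (M : Y.Modules) (i q : ℤ) (h : q ≠ i) :
    IsZero (DCoh.HD ((DCoh.inD Y M)⟦-i⟧) q) :=
  (HomologicalComplex.isZero_single_obj_homology (ComplexShape.up ℤ) i M q h).of_iso
    ((DerivedCategory.homologyFunctor _ q).mapIso (shiftSingleIso M i) ≪≫
      (DerivedCategory.homologyFunctorFactors _ q).app (sg M i))

/-- functoriality in the module -/
noncomputable def mapIso {M N : Y.Modules} (e : M ≅ N) (i : ℤ) :
    (DCoh.inD Y M)⟦-i⟧ ≅ (DCoh.inD Y N)⟦-i⟧ :=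
  (shiftFunctor (DCoh.D Y) (-i)).mapIso ((DerivedCategory.singleFunctor Y.Modules 0).mapIso e)

/-- **Recognition**: an object whose cohomology is concentrated in degree `i` is its `i`-th
cohomology sheaf placed in degree `i`. -/
theorem nonempty_iso_of_isZero_hd (K : DCoh.D Y) (i : ℤ)
    (h : ∀ q : ℤ, q ≠ i → IsZero (DCoh.HD K q)) :
    Nonempty (K ≅ (DCoh.inD Y (DCoh.HD K i))⟦-i⟧) := by
  haveI : K.IsGE i := (DerivedCategory.isGE_iff K i).2 (fun q hq => h q (by omega))
  haveI : K.IsLE i := (DerivedCategory.isLE_iff K i).2 (fun q hq => h q (by omega))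
  obtain ⟨M, ⟨e⟩⟩ := DerivedCategory.exists_iso_singleFunctor_obj_of_isGE_of_isLE K i
  have e1 : K ≅ (DCoh.inD Y M)⟦-i⟧ :=
    e ≪≫ (((DerivedCategory.singleFunctors Y.Modules).shiftIso (-i) i 0 (by omega)).app M).symm
  have e2 : DCoh.HD K i ≅ M :=
    (DerivedCategory.homologyFunctor _ i).mapIso e1 ≪≫ hdSelfIso M i
  exact ⟨e1 ≪≫ mapIso e2.symm i⟩

/-- the complex with a finite locally free module in degree `i` is strictly perfect -/
theorem isStrictlyPerfect_sg (M : Y.Modules) (hM : FlatMod.IsFinLocFree M) (i : ℤ) :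
    DCoh.IsStrictlyPerfect (sg M i) := by
  refine ⟨⟨i, i, fun q hq => ?_⟩, fun q => ?_⟩
  · exact HomologicalComplex.isZero_single_obj_X (ComplexShape.up ℤ) i M q (by omega)
  · by_cases hq : q = i
    · subst hq
      exact Groth.Agent.Helper4.FinLocFree2.isFinLocFree_of_iso
        (HomologicalComplex.singleObjXSelf (ComplexShape.up ℤ) q M).symm hM
    · exact Groth.Agent.Lead.PerfLib.isFinLocFree_of_isZero
        (HomologicalComplex.isZero_single_obj_X (ComplexShape.up ℤ) i M q hq)

/-- **derived pullback** of a finite locally free module placed in degree `i` -/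
noncomputable def lpullIso' (h : Y' ⟶ Y) [DCoh.HasLpull h] (M : Y.Modules)
    (hM : FlatMod.IsFinLocFree M) (i : ℤ) :
    (DCoh.Lpull h).obj ((DCoh.inD Y M)⟦-i⟧) ≅
      (DCoh.inD Y' ((Scheme.Modules.pullback h).obj M))⟦-i⟧ :=
  (DCoh.Lpull h).mapIso (shiftSingleIso M i) ≪≫
    lpullIso h (sg M i) (isKFlat_of_isStrictlyPerfect _ (isStrictlyPerfect_sg M hM i)) ≪≫
    DerivedCategory.Q.mapIso
      ((HomologicalComplex.singleMapHomologicalComplex (Scheme.Modules.pullback h)
        (ComplexShape.up ℤ) i).app M) ≪≫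
    (shiftSingleIso ((Scheme.Modules.pullback h).obj M) i).symm

end Groth.Agent.Helper9.ShiftVB1
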