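import Mathlib
import Groth.Prelude.Def_PerfD
import Groth.Agent.Helper9.ShiftVB1
import Groth.Agent.Helper9.Betti3
import Groth.Agent.Lead.PerfLib5
import Groth.Agent.Helper8.TildeBC

/-! Objects of `D(O_X)` which are locally a free module of rank `r` placed in degree `i`. -/

set_option autoImplicit false
set_option linter.style.haveILetI false
set_option linter.unusedVariables false
set_option linter.unusedSectionVars false
universe u

namespace Groth.Agent.Helper9.LocTriv1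

open CategoryTheory CategoryTheory.Limits AlgebraicGeometry Opposite TopologicalSpace
  HomologicalComplex
open Groth.Agent.Helper9.Lpull1 Groth.Agent.Helper9.Lpull3 Groth.Agent.Helper9.Lpull5
  Groth.Agent.Helper9.Betti3 Groth.Agent.Helper9.ShiftVB1 Groth.Agent.Lead.PerfLib
  Groth.Agent.Helper4.FinLocFree

attribute [local instance] HasDerivedCategory.standard

variable {X Y Z T : Scheme.{u}}

/-- the derived pullback along an open immersion is restriction of a K-flat representative -/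
noncomputable def lpullOpenIso (j : Z ⟶ X) [IsOpenImmersion j] [DCoh.HasLpull j] (E : DCoh.D X)
    (F : CochainComplex X.Modules ℤ) (hF : DCoh.IsKFlat F) (eF : DerivedCategory.Q.obj F ≅ E) :
    (DCoh.Lpull j).obj E ≅ DerivedCategory.Q.obj ((Rc j).obj F) :=
  (DCoh.Lpull j).mapIso eF.symm ≪≫ lpullIso j F hF ≪≫
    DerivedCategory.Q.mapIso
      ((NatIso.mapHomologicalComplex (Scheme.Modules.restrictFunctorIsoPullback j)
        (ComplexShape.up ℤ)).app F).symm

/-- cohomology sheaves commute with restriction to an open -/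
theorem nonempty_hdRestrictIso (j : Z ⟶ X) [IsOpenImmersion j] [DCoh.HasLpull j] (E : DCoh.D X)
    (q : ℤ) : Nonempty (DCoh.HD ((DCoh.Lpull j).obj E) q ≅ (DCoh.HD E q).restrict j) := by
  obtain ⟨F, hF, ⟨eF⟩⟩ := exists_kflat_rep E
  exact ⟨(DerivedCategory.homologyFunctor _ q).mapIso (lpullOpenIso j E F hF eF) ≪≫
    (DerivedCategory.homologyFunctorFactors _ q).app _ ≪≫ homologyRestrictIso j F q ≪≫
    (Scheme.Modules.restrictFunctor j).mapIso (hdIso eF q).symm⟩

/-- pulling back a trivialisation -/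
theorem nonempty_lpull_comp (s : T ⟶ Z) (j : Z ⟶ X) [DCoh.HasLpull s] [DCoh.HasLpull j]
    [DCoh.HasLpull (s ≫ j)] (E : DCoh.D X) (i : ℤ) (r : ℕ)
    (e : (DCoh.Lpull j).obj E ≅ (DCoh.inD Z (FlatMod.freeMod Z r))⟦-i⟧) :
    Nonempty ((DCoh.Lpull (s ≫ j)).obj E ≅ (DCoh.inD T (FlatMod.freeMod T r))⟦-i⟧) :=
  ⟨((lpullComp s j).app E).symm ≪≫ (DCoh.Lpull s).mapIso e ≪≫
    lpullIso' s _ (Groth.Agent.Helper4.FinLocFree2.isFinLocFree_freeMod r) i ≪≫
    ShiftVB1.mapIso (Groth.Agent.Helper8.TildeBC.pullbackFreeIso s r) i⟩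

/-- `E` is, near `x`, a free module of rank `r` placed in degree `i` -/
def LocTriv (E : DCoh.D X) (i : ℤ) (r : ℕ) (x : X) : Prop :=
  ∃ (Z : Scheme.{u}) (j : Z ⟶ X) (_ : IsOpenImmersion j), x ∈ Set.range j ∧
    Nonempty ((@DCoh.Lpull _ _ j (hasLpull j)).obj E ≅
      (DCoh.inD Z (FlatMod.freeMod Z r))⟦-i⟧)

theorem isOpen_locTriv (E : DCoh.D X) (i : ℤ) (r : ℕ) : IsOpen {x : X | LocTriv E i r x} := by
  rw [isOpen_iff_forall_mem_open]
  rintro x ⟨Z, j, hj, hx, he⟩
  haveI := hj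
  exact ⟨Set.range j, fun x' hx' => ⟨Z, j, hj, hx', he⟩, j.isOpenEmbedding.isOpen_range, hx⟩

/-- local triviality is inherited by derived pullbacks -/
theorem LocTriv.lpull (f : Y ⟶ X) [DCoh.HasLpull f] (E : DCoh.D X) (i : ℤ) (r : ℕ) (y : Y)
    (h : LocTriv E i r (f y)) : LocTriv ((DCoh.Lpull f).obj E) i r y := by
  obtain ⟨Z, j, hj, hx, ⟨e⟩⟩ := h
  haveI := hj
  let W : Y.Opens := f ⁻¹ᵁ j.opensRange
  have hr : Set.range (W.ι ≫ f) ⊆ Set.range j := by
    rintro _ ⟨w, rfl⟩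
    exact w.2
  let f' : (W : Scheme.{u}) ⟶ Z := IsOpenImmersion.lift j (W.ι ≫ f) hr
  have hf' : f' ≫ j = W.ι ≫ f := IsOpenImmersion.lift_fac _ _ _
  haveI : DCoh.HasLpull j := hasLpull _
  haveI : DCoh.HasLpull f' := hasLpull _
  haveI : DCoh.HasLpull W.ι := hasLpull _
  haveI : DCoh.HasLpull (f' ≫ j) := hasLpull _
  haveI : DCoh.HasLpull (W.ι ≫ f) := hasLpull _
  obtain ⟨e1⟩ := nonempty_lpull_comp f' j E i r e
  refine ⟨W, W.ι, inferInstance, ⟨⟨y, hx⟩, rfl⟩, ⟨?_⟩⟩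
  exact (lpullComp W.ι f).app E ≪≫ (lpullCongr hf'.symm).app E ≪≫ e1

/-- **gluing**: an object which is locally a free module of rank `r` in degree `i` is a locally
free module of rank `r` placed in degree `i` -/
theorem exists_iso_of_locTriv (E : DCoh.D Y) (i : ℤ) (r : ℕ) (h : ∀ y : Y, LocTriv E i r y) :
    ∃ V : Y.Modules, FlatMod.IsFinLocFreeOfRank r V ∧
      Nonempty (E ≅ (DCoh.inD Y V)⟦-i⟧) := by
  refine ⟨DCoh.HD E i, ?_, ?_⟩
  · intro y
    obtain ⟨Z, j, hj, hy, ⟨e⟩⟩ := h y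
    haveI := hj
    haveI : DCoh.HasLpull j := hasLpull _
    obtain ⟨e1⟩ := nonempty_hdRestrictIso j E i
    have h1 : IsFreeAlong (DCoh.HD E i) j r :=
      ⟨e1.symm ≪≫ (DerivedCategory.homologyFunctor _ i).mapIso e ≪≫ hdSelfIso _ i⟩
    exact ⟨j.opensRange, hy, h1.opensRange j⟩
  · apply nonempty_iso_of_isZero_hd
    intro q hq
    apply isZero_of_locally
    intro y
    obtain ⟨Z, j, hj, hy, ⟨e⟩⟩ := h y
    haveI := hj
    haveI : DCoh.HasLpull j := hasLpull _
    obtain ⟨e1⟩ := nonempty_hdRestrictIso j E q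
    exact ⟨Z, j, hj, hy, (isZero_hd _ i q hq).of_iso
      (e1.symm ≪≫ (DerivedCategory.homologyFunctor _ q).mapIso e)⟩

end Groth.Agent.Helper9.LocTriv1
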