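import Mathlib
import Groth.Prelude.Def_DerSch
import Groth.Agent.Helper9.SkyMod4

/-! The stalk of `M~` at a point of `Spec R` is the base change of `M`. -/

set_option autoImplicit false
set_option linter.style.haveILetI false
set_option linter.unusedVariables false
universe u

namespace Groth.Agent.Helper9.Tilde1

open CategoryTheory CategoryTheory.Limits AlgebraicGeometry Opposite TopologicalSpace
open Groth.Agent.Helper9.SkyMod1 Groth.Agent.Helper9.SkyMod2 Groth.Agent.Helper9.SkyMod4

variable (R : CommRingCat.{u}) (p : Spec R)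

/-- the ring map from `R` to the local ring at `p` -/
noncomputable def ψ : R →+* (Spec R).presheaf.stalk p :=
  ((Spec R).presheaf.germ ⊤ p trivial).hom.comp
    (((Spec R).presheaf.map (⊤ : (Spec R).Opens).leTop.op).hom.comp (Scheme.ΓSpecIso R).inv.hom)

variable (N : ModuleCat.{u} ((Spec R).presheaf.stalk p))

/-- global sections of the skyscraper -/
noncomputable def skyΓEquiv :
    moduleSpecΓFunctor.obj ((skyFunctor p).obj N) ≃ₗ[R] (ModuleCat.restrictScalars (ψ R p)).obj N where
  toFun φ := (φ : PLift (p ∈ (⊤ : (Spec R).Opens)) → N) ⟨trivial⟩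
  invFun n := (fun _ => n : PLift (p ∈ (⊤ : (Spec R).Opens)) → N)
  left_inv φ := by
    funext h
    rfl
  right_inv n := rfl
  map_add' φ φ' := rfl
  map_smul' r φ := rfl

/-- global sections of the skyscraper -/
noncomputable def skyΓNatIso :
    skyFunctor p ⋙ moduleSpecΓFunctor ≅ ModuleCat.restrictScalars (ψ R p) :=
  NatIso.ofComponents (fun N => (skyΓEquiv R p N).toModuleIso) (fun {N N'} g => by
    ext φ
    rfl)

/-- the stalk of `M~` is the base change of `M` to the local ring -/
noncomputable def tildeStalkIso :
    tilde.functor R ⋙ St p ≅ ModuleCat.extendScalars (ψ R p) :=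
  ((tilde.adjunction (R := R)).comp (adj p)).leftAdjointUniq
    ((ModuleCat.extendRestrictScalarsAdj (ψ R p)).ofNatIsoRight (skyΓNatIso R p).symm)

end Groth.Agent.Helper9.Tilde1
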