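import Mathlib
import Groth.Agent.Helper9.Tilde1
import Groth.Agent.Helper9.Lpull2

/-! `K~` is K-flat when `K` is. -/

set_option autoImplicit false
set_option linter.style.haveILetI false
set_option linter.unusedVariables false
universe u

namespace Groth.Agent.Helper9.Tilde2

open CategoryTheory CategoryTheory.Limits AlgebraicGeometry Opposite TopologicalSpace
  MonoidalCategory HomologicalComplex
open Groth.Agent.Helper9.SkyMod4 Groth.Agent.Helper9.StalkTensor9
  Groth.Agent.Helper9.StalkKFlat1 Groth.Agent.Helper9.Tilde1

variable (R : CommRingCat.{u})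

/-- the stalk complex of `K~` -/
noncomputable def tildeStalkCxIso (p : Spec R) (K : DRing.Cx R) :
    (StCx p).obj (((tilde.functor R).mapHomologicalComplex (ComplexShape.up ℤ)).obj K) ≅
      (DTen.extCx (ψ R p)).obj K :=
  HomologicalComplex.Hom.isoOfComponents (fun i => (tildeStalkIso R p).app (K.X i))
    (fun i j _ => ((tildeStalkIso R p).hom.naturality (K.d i j)).symm)

/-- `K~` is K-flat when `K` is -/
theorem isKFlat_tilde (K : DRing.Cx R) (hK : DRing.IsKFlat R K) :
    DCoh.IsKFlat (((tilde.functor R).mapHomologicalComplex (ComplexShape.up ℤ)).obj K) := by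
  apply isKFlat_of_stalks
  intro p
  exact Groth.Agent.Helper9.Lpull2.isKFlat_of_iso (tildeStalkCxIso R p K).symm
    (Groth.Agent.Helper6.ExtKFlat.kflat_ext (ψ R p) hK)

end Groth.Agent.Helper9.Tilde2
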