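import Mathlib
import Groth.Prelude.Def_DCoh2
import Groth.Prelude.Def_DDual2
import Groth.Agent.Helper9.Lpull3
import Groth.Agent.Helper9.Tilde2
import Groth.Agent.Helper6.LBCAdj
import Groth.Agent.Helper8.TildeBC
import Groth.Agent.Helper9.LCTil2
import Groth.Agent.Helper4.TildeExact
import Groth.Agent.Helper4.QcohGlue
import Groth.Agent.Helper9.LocTriv1

/-! `Lf^*(M~)` has quasi-coherent cohomology for `f = Spec φ`. -/

set_option autoImplicit false
set_option linter.style.haveILetI false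
set_option linter.unusedVariables false
set_option linter.unusedSectionVars false
universe u

namespace Groth.Agent.Helper9.QcLpull1

open CategoryTheory CategoryTheory.Limits AlgebraicGeometry Opposite TopologicalSpace
  HomologicalComplex
open Groth.Agent.Helper9.Lpull1 Groth.Agent.Helper9.Lpull2 Groth.Agent.Helper9.Lpull3

attribute [local instance] HasDerivedCategory.standard

/-- `D_QCoh` is closed under isomorphisms -/
theorem isQCohD_of_iso {X : Scheme.{u}} {K K' : DCoh.D X} (e : K ≅ K') (h : DCoh.IsQCohD K) :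
    DCoh.IsQCohD K' := fun i =>
  (SheafOfModules.isQuasicoherent X.ringCatSheaf).prop_of_iso
    ((DerivedCategory.homologyFunctor _ i).mapIso e) (h i)

variable {R S : CommRingCat.{u}} (φ : R ⟶ S) [DCoh.HasLpull (Spec.map φ)]

/-- termwise: pullback of `P~` is `(S ⊗ P)~` -/
noncomputable def cxIso (P : CochainComplex (ModuleCat.{u} R) ℤ) :
    ((Scheme.Modules.pullback (Spec.map φ)).mapHomologicalComplex (ComplexShape.up ℤ)).obj
      (((tilde.functor R).mapHomologicalComplex (ComplexShape.up ℤ)).obj P) ≅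
    ((tilde.functor S).mapHomologicalComplex (ComplexShape.up ℤ)).obj
      (((ModuleCat.extendScalars.{u, u, u} φ.hom).mapHomologicalComplex (ComplexShape.up ℤ)).obj P) :=
  HomologicalComplex.Hom.isoOfComponents
    (fun i => (Groth.Agent.Helper8.TildeBC.tildePullbackIso φ).app (P.X i))
    (fun i j _ => ((Groth.Agent.Helper8.TildeBC.tildePullbackIso φ).hom.naturality (P.d i j)).symm)

theorem isQCohD_lpull_tildeD (M : DerivedCategory (ModuleCat.{u} R)) :
    DCoh.IsQCohD ((DCoh.Lpull (Spec.map φ)).obj ((DCoh.tildeD R).obj M)) := by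
  obtain ⟨P, hP, hPf, ⟨e⟩⟩ := Groth.Agent.Helper6.LBCAdj.exists_kproj M
  let e0 : DerivedCategory.Q.obj P ≅ M := (DerivedCategory.quotientCompQhIso _).symm.app P ≪≫ e
  let e1 : (DCoh.tildeD R).obj M ≅
      DerivedCategory.Q.obj (((tilde.functor R).mapHomologicalComplex (ComplexShape.up ℤ)).obj P) :=
    (DCoh.tildeD R).mapIso e0.symm ≪≫ (tilde.functor R).mapDerivedCategoryFactors.app P
  let e2 := (DCoh.Lpull (Spec.map φ)).mapIso e1 ≪≫
    lpullIso (Spec.map φ) _ (Groth.Agent.Helper9.Tilde2.isKFlat_tilde R P hPf)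
  let e3 := e2 ≪≫ DerivedCategory.Q.mapIso (cxIso φ P) ≪≫
    ((tilde.functor S).mapDerivedCategoryFactors.app _).symm
  exact isQCohD_of_iso e3.symm (LCTil1.isQCohD_tildeD S _)

/-- objects of `D_QCoh(Spec R)` come from `D(R)` -/
theorem exists_iso_tildeD (R : CommRingCat.{u}) (K : DCoh.D (Spec (CommRingCat.of R)))
    (hK : DCoh.IsQCohD K) :
    ∃ M : DerivedCategory (ModuleCat.{u} R), Nonempty ((DCoh.tildeD R).obj M ≅ K) := by
  obtain ⟨RG, ⟨dadj⟩⟩ := LCTil2.exists_adj R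
  haveI := LCTil2.isIso_counit_app dadj K hK
  exact ⟨RG.obj K, ⟨asIso (dadj.counit.app K)⟩⟩

theorem lpullCongr {X Y : Scheme.{u}} {g g' : Y ⟶ X} (h : g = g') [DCoh.HasLpull g]
    [DCoh.HasLpull g'] (K : DCoh.D X) :
    Nonempty ((DCoh.Lpull g).obj K ≅ (DCoh.Lpull g').obj K) := by
  subst h
  exact ⟨Iso.refl _⟩

/-- restriction to an open preserves `D_QCoh` -/
theorem isQCohD_lpull_of_isOpenImmersion {X Z : Scheme.{u}} (j : Z ⟶ X) [IsOpenImmersion j]
    [DCoh.HasLpull j] (K : DCoh.D X) (hK : DCoh.IsQCohD K) :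
    DCoh.IsQCohD ((DCoh.Lpull j).obj K) := by
  intro q
  obtain ⟨e⟩ := LocTriv1.nonempty_hdRestrictIso j K q
  haveI : (DCoh.HD K q).IsQuasicoherent := hK q
  exact (SheafOfModules.isQuasicoherent Z.ringCatSheaf).prop_of_iso e.symm
    (inferInstanceAs ((Scheme.Modules.restrictFunctor j).obj (DCoh.HD K q)).IsQuasicoherent)

/-- **`Lf^*` preserves `D_QCoh`** -/
theorem isQCohD_lpull {Y X : Scheme.{u}} (f : Y ⟶ X) [DCoh.HasLpull f] (K : DCoh.D X)
    (hK : DCoh.IsQCohD K) : DCoh.IsQCohD ((DCoh.Lpull f).obj K) := by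
  intro i
  apply Groth.Agent.Helper4.QcohGlue.isQuasicoherent_of_affine_cover
  intro y
  obtain ⟨_, ⟨U, hU0, rfl⟩, hfyU, -⟩ :=
    X.isBasis_affineOpens.exists_subset_of_mem_open (Set.mem_univ (f y)) isOpen_univ
  obtain ⟨_, ⟨V, hV0, rfl⟩, hyV, hVU⟩ :=
    Y.isBasis_affineOpens.exists_subset_of_mem_open (show y ∈ (f ⁻¹ᵁ U : Set Y) from hfyU)
      (f ⁻¹ᵁ U).2
  have hU : IsAffineOpen U := hU0
  have hV : IsAffineOpen V := hV0
  refine ⟨V, hV, hyV, ?_⟩
  have hVU' : V ≤ f ⁻¹ᵁ U := hVU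
  let φ := f.appLE U V hVU'
  have hcomm : Spec.map φ ≫ hU.fromSpec = hV.fromSpec ≫ f :=
    IsAffineOpen.SpecMap_appLE_fromSpec f hU hV hVU'
  haveI : DCoh.HasLpull hV.fromSpec := hasLpull _
  haveI : DCoh.HasLpull hU.fromSpec := hasLpull _
  haveI : DCoh.HasLpull (Spec.map φ) := hasLpull _
  haveI : DCoh.HasLpull (hV.fromSpec ≫ f) := hasLpull _
  haveI : DCoh.HasLpull (Spec.map φ ≫ hU.fromSpec) := hasLpull _
  obtain ⟨e1⟩ := LocTriv1.nonempty_hdRestrictIso hV.fromSpec ((DCoh.Lpull f).obj K) i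
  let e2 := (lpullComp hV.fromSpec f).app K
  obtain ⟨e3⟩ := lpullCongr hcomm.symm K
  let e4 := (lpullComp (Spec.map φ) hU.fromSpec).app K
  have hK' : DCoh.IsQCohD ((DCoh.Lpull hU.fromSpec).obj K) :=
    isQCohD_lpull_of_isOpenImmersion _ K hK
  obtain ⟨M, ⟨eM⟩⟩ := exists_iso_tildeD Γ(X, U) _ hK'
  have h5 : DCoh.IsQCohD ((DCoh.Lpull (Spec.map φ)).obj ((DCoh.Lpull hU.fromSpec).obj K)) :=
    isQCohD_of_iso ((DCoh.Lpull (Spec.map φ)).mapIso eM) (isQCohD_lpull_tildeD φ M)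
  have h6 : DCoh.IsQCohD ((DCoh.Lpull hV.fromSpec).obj ((DCoh.Lpull f).obj K)) :=
    isQCohD_of_iso (e4 ≪≫ e3.symm ≪≫ e2.symm) h5
  exact (SheafOfModules.isQuasicoherent (Spec Γ(Y, V)).ringCatSheaf).prop_of_iso e1 (h6 i)

end Groth.Agent.Helper9.QcLpull1
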