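import Mathlib
import Groth.Agent.Helper9.QP5
import Groth.Agent.Helper9.LCTil2
import Groth.Agent.Helper9.QcLpull1
import Groth.Agent.Helper4.TildeExact

/-! Criterion: an object `E'` of `D(O_S)`, `S = Spec R`, such that restriction
`Hom(GU(⊤)[-i], E') → Hom(GU(D(a))[-i], E')` is a localization at `a` for all `a`, `i`, has
quasi-coherent cohomology. -/

set_option autoImplicit false
set_option linter.style.haveILetI false
set_option linter.unusedVariables false
set_option linter.unusedSectionVars false
universe u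

namespace Groth.Agent.Helper9.QP6

open CategoryTheory Limits AlgebraicGeometry Opposite TopologicalSpace DerivedCategory
open Groth.Agent.Helper9 Groth.Agent.Helper9.LCAff1 Groth.Agent.Helper9.QP1
  Groth.Agent.Helper9.QP2 Groth.Agent.Helper9.QP3 Groth.Agent.Helper9.LC3

attribute [local instance] HasDerivedCategory.standard

variable (R : CommRingCat.{u})

local notation "S" => Spec (CommRingCat.of R)

/-- `Spec R` over itself by the identity -/
@[reducible] noncomputable def ovr : (S).Over (S) := ⟨𝟙 _⟩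

attribute [local instance 2000] ovr

lemma Xa_eq (a : R) : Xa (X := S) R a = PrimeSpectrum.basicOpen a := by
  unfold Xa
  have h : Coh.toGlobal (S ↘ S) a = (Scheme.ΓSpecIso (CommRingCat.of R)).inv a := by
    unfold Coh.toGlobal
    have h0 : (S ↘ S) = 𝟙 (S) := rfl
    rw [h0]
    simp
    rfl
  rw [h]
  exact basicOpen_eq_of_affine (R := CommRingCat.of R) a

/-- free modules on basic opens -/
def 𝒢b : ObjectProperty (S).Modules := fun G => ∃ a : R, G = GU (Xa (X := S) R a)

theorem isSeparating_𝒢b : (𝒢b R).IsSeparating := by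
  intro F F' f g hfg
  refine FreeOnHom.hom_ext_of_generating (O := (S).sheaf)
    {U : (S).Opens | ∃ a : R, U = Xa (X := S) R a} ?_ f g ?_
  · intro V
    refine ⟨{a : R // Xa (X := S) R a ≤ V}, fun a => Xa (X := S) R a.1, fun a => homOfLE a.2, ?_,
      fun a => ⟨a.1, rfl⟩⟩
    intro p hp
    obtain ⟨_, ⟨a, rfl⟩, hpa, haV⟩ :=
      PrimeSpectrum.isTopologicalBasis_basic_opens.exists_subset_of_mem_open hp V.2
    have haV' : Xa (X := S) R a ≤ V := by rw [Xa_eq]; exact haV
    refine ⟨Xa (X := S) R a, homOfLE haV', Sieve.ofArrows_mk _ _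
      (⟨a, haV'⟩ : {a : R // Xa (X := S) R a ≤ V}), ?_⟩
    rw [Xa_eq]
    exact hpa
  · rintro U ⟨a, rfl⟩ s
    have h1 := hfg (GU (Xa (X := S) R a)) ⟨a, rfl⟩ ((secEquiv _ F).symm s)
    have h2 := congrArg (secEquiv _ F') h1
    rw [secEquiv_comp, secEquiv_comp] at h2
    have h3 : secEquiv _ F ((secEquiv (Xa (X := S) R a) F).symm s) = s :=
      Equiv.apply_symm_apply _ _
    exact (congrArg (((ModFree.G (S).ringCatSheaf).map f).app (op _)) h3).symm.trans
      (h2.trans (congrArg (((ModFree.G (S).ringCatSheaf).map g).app (op _)) h3))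


/-- **Criterion**: localization property for all basic opens implies quasi-coherent cohomology -/
theorem isQCohD_of_locHom (E' : DCoh.D (S))
    (h : ∀ (a : R) (i : ℤ), LocHom a ((singleFunctor (S).Modules i).map
      (GUmap (le_top : Xa (X := S) R a ≤ ⊤))) E') : DCoh.IsQCohD E' := by
  obtain ⟨RG, ⟨dadj⟩⟩ := LCTil2.exists_adj R
  let Y := (DCoh.tildeD R).obj (RG.obj E')
  have hY : DCoh.IsQCohD Y := LCTil1.isQCohD_tildeD R _
  let ε : Y ⟶ E' := dadj.counit.app E'
  have key : ∀ (a : R) (i : ℤ),
      Function.Bijective (fun t : W (GU (Xa (X := S) R a)) i ⟶ Y => t ≫ ε) := by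
    intro a i
    let ρ := (singleFunctor (S).Modules i).map (GUmap (le_top : Xa (X := S) R a ≤ ⊤))
    have hYloc : LocHom a ρ Y :=
      QP5.locHom_of_good _ (goodOpen_affine R a ⊤ (isAffineOpen_top _) (Xa (X := S) R a) le_top
        (top_inf_eq _).symm) Y hY i
    have ha : IsIso (a • 𝟙 (W (GU (Xa (X := S) R a)) i)) := by
      haveI := isIso_smul_id_GU R a (Xa (X := S) R a) (isUnit_resA R a le_rfl)
      have e : a • 𝟙 (W (GU (Xa (X := S) R a)) i) =
          (singleFunctor (S).Modules i).map (a • 𝟙 (GU (Xa (X := S) R a))) := by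
        rw [Functor.map_smul, CategoryTheory.Functor.map_id]
      rw [e]
      infer_instance
    have hG : Function.Bijective (fun ψ : W (GU (⊤ : (S).Opens)) i ⟶ Y => ψ ≫ ε) := by
      let V := W (ModuleCat.of R R) i
      let LV := (DCoh.tildeD R).obj V
      have htop : Function.Bijective (fun h : LV ⟶ Y => h ≫ ε) := by
        have h1 := LCTil1.bijective_map R (RG.obj E') i
        have h2 := (dadj.homEquiv V E').symm.bijective
        have h3 : (fun h : LV ⟶ Y => h ≫ ε) ∘
            (fun f : V ⟶ RG.obj E' => (DCoh.tildeD R).map f) = ⇑(dadj.homEquiv V E').symm := by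
          funext f
          simp only [Function.comp_apply, Adjunction.homEquiv_counit]
          rfl
        refine (Function.Bijective.of_comp_iff _ h1).1 ?_
        rw [h3]
        exact h2
      let κ : W (GU (⊤ : (S).Opens)) i ≅ LV :=
        (singleFunctor (S).Modules i).mapIso (LCUnit1.unitIsoGU (S)).symm ≪≫
          (LCTil1.singleIso R i).symm
      have h4 : (fun ψ : W (GU (⊤ : (S).Opens)) i ⟶ Y => ψ ≫ ε) =
          (fun h' : LV ⟶ E' => κ.hom ≫ h') ∘ (fun h : LV ⟶ Y => h ≫ ε) ∘
            (fun ψ : W (GU (⊤ : (S).Opens)) i ⟶ Y => κ.inv ≫ ψ) := by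
        funext ψ
        simp
      rw [h4]
      exact (LCTil2.bijective_precomp κ E').comp (htop.comp (LCTil2.bijective_precomp κ.symm Y))
    exact bijective_of_locHom ρ ε hYloc (h a i) ha hG
  have hiso : IsIso ε := by
    rw [DerivedCategory.isIso_iff]
    intro q
    exact LC3.isIso_homologyMap (𝒢b R) (isSeparating_𝒢b R) ε q
      (fun G hG i _ => by obtain ⟨a, rfl⟩ := hG; exact (key a i).2)
      (fun G hG i _ => by obtain ⟨a, rfl⟩ := hG; exact (key a i).1)
  exact QcLpull1.isQCohD_of_iso (asIso ε) hY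

end Groth.Agent.Helper9.QP6
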