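import Mathlib

/-! A right adjoint of an exact functor preserves K-injective complexes. -/

set_option autoImplicit false
set_option backward.isDefEq.respectTransparency false
universe v₁ v₂ u₁ u₂

open CategoryTheory CategoryTheory.Limits

namespace Groth.Agent.Helper9.KInjAdj

variable {A : Type u₁} [Category.{v₁} A] [Abelian A] {B : Type u₂} [Category.{v₂} B] [Abelian B]
  {L : A ⥤ B} {R : B ⥤ A} (adj : L ⊣ R) [L.Additive] [R.Additive]

/-- components of a morphism to `R•I`, typed -/
def comp {K : CochainComplex A ℤ} {I : CochainComplex B ℤ}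
    (f : K ⟶ (R.mapHomologicalComplex (ComplexShape.up ℤ)).obj I) (n : ℤ) :
    K.X n ⟶ R.obj (I.X n) := f.f n

lemma comp_comm {K : CochainComplex A ℤ} {I : CochainComplex B ℤ}
    (f : K ⟶ (R.mapHomologicalComplex (ComplexShape.up ℤ)).obj I) (i j : ℤ) :
    comp f i ≫ R.map (I.d i j) = K.d i j ≫ comp f j := f.comm i j

/-- components of the transpose -/
def tcomp {K : CochainComplex A ℤ} {I : CochainComplex B ℤ}
    (f : K ⟶ (R.mapHomologicalComplex (ComplexShape.up ℤ)).obj I) (n : ℤ) :
    L.obj (K.X n) ⟶ I.X n := L.map (comp f n) ≫ adj.counit.app (I.X n)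

lemma tcomp_comm {K : CochainComplex A ℤ} {I : CochainComplex B ℤ}
    (f : K ⟶ (R.mapHomologicalComplex (ComplexShape.up ℤ)).obj I) (i j : ℤ) :
    L.map (K.d i j) ≫ tcomp adj f j = tcomp adj f i ≫ I.d i j := by
  unfold tcomp
  rw [Category.assoc, ← adj.counit_naturality (I.d i j)]
  rw [← L.map_comp_assoc, ← L.map_comp_assoc, comp_comm]

lemma unit_tcomp {K : CochainComplex A ℤ} {I : CochainComplex B ℤ}
    (f : K ⟶ (R.mapHomologicalComplex (ComplexShape.up ℤ)).obj I) (n : ℤ) :
    adj.unit.app (K.X n) ≫ R.map (tcomp adj f n) = comp f n := by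
  unfold tcomp
  rw [R.map_comp]
  erw [adj.unit_naturality_assoc]
  rw [adj.right_triangle_components]
  exact Category.comp_id _

/-- transpose of a morphism of complexes -/
def transpose {K : CochainComplex A ℤ} {I : CochainComplex B ℤ}
    (f : K ⟶ (R.mapHomologicalComplex (ComplexShape.up ℤ)).obj I) :
    (L.mapHomologicalComplex (ComplexShape.up ℤ)).obj K ⟶ I where
  f n := tcomp adj f n
  comm' i j _ := (tcomp_comm adj f i j).symm

/-- typed homotopy components -/
def hcomp {K : CochainComplex A ℤ} {I : CochainComplex B ℤ}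
    {g : (L.mapHomologicalComplex (ComplexShape.up ℤ)).obj K ⟶ I} (h : Homotopy g 0) (i j : ℤ) :
    L.obj (K.X i) ⟶ I.X j := h.hom i j

lemma hcomp_zero {K : CochainComplex A ℤ} {I : CochainComplex B ℤ}
    {g : (L.mapHomologicalComplex (ComplexShape.up ℤ)).obj K ⟶ I} (h : Homotopy g 0) (i j : ℤ)
    (hij : ¬ (ComplexShape.up ℤ).Rel j i) : hcomp h i j = 0 := h.zero i j hij

lemma hcomp_comm {K : CochainComplex A ℤ} {I : CochainComplex B ℤ}
    (f : K ⟶ (R.mapHomologicalComplex (ComplexShape.up ℤ)).obj I)
    (h : Homotopy (transpose adj f) 0) (i : ℤ) :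
    tcomp adj f i = L.map (K.d i (i + 1)) ≫ hcomp h (i + 1) i + hcomp h i (i - 1) ≫ I.d (i - 1) i := by
  have h1 := h.comm i
  rw [dNext_eq _ (show (ComplexShape.up ℤ).Rel i (i + 1) from rfl),
    prevD_eq _ (show (ComplexShape.up ℤ).Rel (i - 1) i by simp)] at h1
  refine h1.trans ?_
  exact add_zero _

/-- a null-homotopy of the transpose gives a null-homotopy -/
def homotopyOfTranspose {K : CochainComplex A ℤ} {I : CochainComplex B ℤ}
    (f : K ⟶ (R.mapHomologicalComplex (ComplexShape.up ℤ)).obj I)
    (h : Homotopy (transpose adj f) 0) : Homotopy f 0 where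
  hom i j := adj.unit.app (K.X i) ≫ R.map (hcomp h i j)
  zero i j hij := by
    rw [hcomp_zero h i j hij, R.map_zero, comp_zero]
  comm i := by
    rw [dNext_eq _ (show (ComplexShape.up ℤ).Rel i (i + 1) from rfl),
      prevD_eq _ (show (ComplexShape.up ℤ).Rel (i - 1) i by simp)]
    have h2 := congrArg (fun t => adj.unit.app (K.X i) ≫ R.map t) (hcomp_comm adj f h i)
    rw [unit_tcomp, R.map_add, Preadditive.comp_add, R.map_comp, R.map_comp] at h2
    erw [adj.unit_naturality_assoc] at h2
    refine Eq.trans (show f.f i = comp f i from rfl) (h2.trans ?_)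
    refine (add_zero _).symm.trans ?_
    congr 1
    congr 1
    exact (Category.assoc _ _ _).symm

omit [R.Additive] in
theorem acyclic_map [PreservesFiniteLimits L] [PreservesFiniteColimits L]
    (K : CochainComplex A ℤ) (hK : K.Acyclic) :
    ((L.mapHomologicalComplex (ComplexShape.up ℤ)).obj K).Acyclic := by
  intro n
  have h := (HomologicalComplex.exactAt_iff _ _).1 (hK n)
  rw [HomologicalComplex.exactAt_iff]
  exact h.map L

include adj in
theorem isKInjective_map [PreservesFiniteLimits L] [PreservesFiniteColimits L]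
    (I : CochainComplex B ℤ) [I.IsKInjective] :
    CochainComplex.IsKInjective ((R.mapHomologicalComplex (ComplexShape.up ℤ)).obj I) := by
  refine ⟨fun {K} f hK => ?_⟩
  obtain ⟨h⟩ := CochainComplex.IsKInjective.nonempty_homotopy_zero (transpose adj f)
    (acyclic_map K hK)
  exact ⟨homotopyOfTranspose adj f h⟩

end Groth.Agent.Helper9.KInjAdj
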