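import Mathlib
import Groth.Agent.Helper9.TensorLoc

/-!
# Maps out of `free(h_X) ⊗ P` are maps `P|_X ⟶ Q|_X`
-/

namespace Groth.Agent.Helper9.FreeTensor

open CategoryTheory MonoidalCategory Opposite Limits TensorProduct
  Groth.Agent.Helper9.TensorLoc

universe u

set_option backward.isDefEq.respectTransparency false

variable {C : Type u} [SmallCategory C] (R : Cᵒᵖ ⥤ CommRingCat.{u}) (X : C)

/-- presheaves of modules over `R` -/
abbrev PMod : Type (u + 1) := PresheafOfModules.{u} (R ⋙ forget₂ CommRingCat.{u} RingCat.{u})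

/-- the ring of sections -/
abbrev RR (V : C) : Type u := (R ⋙ forget₂ CommRingCat.{u} RingCat.{u}).obj (op V)

/-- restriction to `Over X` -/
noncomputable abbrev pf : PMod R ⥤ PMod ((Over.forget X).op ⋙ R) :=
  PresheafOfModules.pushforward (F := Over.forget X)
    (𝟙 (((Over.forget X).op ⋙ R) ⋙ forget₂ CommRingCat.{u} RingCat.{u}))

/-- the free presheaf of modules on `h_X` -/
noncomputable abbrev fr : PMod R :=
  (PresheafOfModules.free (R ⋙ forget₂ CommRingCat.{u} RingCat.{u})).obj (yoneda.obj X)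

variable {R X} {P Q : PMod R}

/-- the section `r [a]` of the free presheaf -/
noncomputable def sg {V : C} (a : V ⟶ X) (r : RR R V) : (fr R X).obj (op V) :=
  (Finsupp.single a r : (V ⟶ X) →₀ RR R V)

lemma smul_sg {V : C} (a : V ⟶ X) (r s : RR R V) : r • sg a s = sg a (r * s) :=
  Finsupp.smul_single r a s

lemma res_sg_one {V W : C} (g : W ⟶ V) (a : V ⟶ X) :
    res (fr R X) g.op (sg a 1) = sg (g ≫ a) 1 :=
  ModuleCat.freeDesc_apply (R := RR R V) _ a

lemma res_sg {V W : C} (g : W ⟶ V) (a : V ⟶ X) (r : RR R V) :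
    res (fr R X) g.op (sg a r) = sg (g ≫ a) (R.map g.op r) := by
  have h : sg a r = r • sg a 1 := by rw [smul_sg, mul_one]
  rw [h, map_smulₛₗ, res_sg_one, smul_sg, mul_one]

/-- the section `[a] ⊗ p` -/
noncomputable def gen {V : C} (a : V ⟶ X) (p : P.obj (op V)) : (fr R X ⊗ P).obj (op V) :=
  sg a 1 ⊗ₜ p

lemma gen_add {V : C} (a : V ⟶ X) (p p' : P.obj (op V)) :
    gen a (p + p') = gen a p + gen a p' := TensorProduct.tmul_add _ _ _

lemma gen_smul {V : C} (a : V ⟶ X) (r : RR R V) (p : P.obj (op V)) :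
    gen a (r • p) = r • gen a p := TensorProduct.tmul_smul _ _ _

lemma smul_gen {V : C} (a : V ⟶ X) (r : RR R V) (p : P.obj (op V)) :
    r • gen a p = (sg a r ⊗ₜ p : (fr R X ⊗ P).obj (op V)) := by
  unfold gen
  rw [TensorProduct.smul_tmul', smul_sg, mul_one]

lemma res_gen {V W : C} (g : W ⟶ V) (a : V ⟶ X) (p : P.obj (op V)) :
    res (fr R X ⊗ P) g.op (gen a p) = gen (g ≫ a) (res P g.op p) := by
  unfold gen
  rw [res_tmul, res_sg_one]


/-- forward direction -/
noncomputable def fwd (ψ : fr R X ⊗ P ⟶ Q) : (pf R X).obj P ⟶ (pf R X).obj Q where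
  app Y := ModuleCat.ofHom
    (X := ((pf R X).obj P).obj Y) (Y := ((pf R X).obj Q).obj Y)
    { toFun := fun p => ψ.app (op Y.unop.left) (gen Y.unop.hom p)
      map_add' := fun p p' => by
        show ψ.app (op Y.unop.left) (gen Y.unop.hom (p + p')) = _
        rw [gen_add, map_add]
      map_smul' := fun r p => by
        show ψ.app (op Y.unop.left) (gen Y.unop.hom (r • p)) = _
        rw [gen_smul, map_smul]
        rfl }
  naturality {Y Y'} g := by
    apply ModuleCat.hom_ext
    apply LinearMap.ext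
    intro p
    have h1 := res_naturality ψ g.unop.left.op (gen Y.unop.hom p)
    rw [res_gen] at h1
    have hw : g.unop.left ≫ Y.unop.hom = Y'.unop.hom := Over.w g.unop
    rw [hw] at h1
    exact h1.symm


lemma fwd_app (ψ : fr R X ⊗ P ⟶ Q) (Y : Over X) (p : P.obj (op Y.left)) :
    (fwd ψ).app (op Y) p = ψ.app (op Y.left) (gen Y.hom p) := rfl

/-- the components of a morphism `P|_X ⟶ Q|_X` -/
noncomputable def cmp (φ : (pf R X).obj P ⟶ (pf R X).obj Q) (Y : Over X) :
    P.obj (op Y.left) →ₗ[RR R Y.left] Q.obj (op Y.left) where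
  toFun p := φ.app (op Y) p
  map_add' p p' := map_add (φ.app (op Y)).hom p p'
  map_smul' r p := map_smul (φ.app (op Y)).hom r p

lemma cmp_apply (φ : (pf R X).obj P ⟶ (pf R X).obj Q) (Y : Over X) (p : P.obj (op Y.left)) :
    cmp φ Y p = φ.app (op Y) p := rfl

lemma cmp_res (φ : (pf R X).obj P ⟶ (pf R X).obj Q) {Y Y' : Over X} (g : Y' ⟶ Y)
    (p : P.obj (op Y.left)) :
    cmp φ Y' (res P g.left.op p) = res Q g.left.op (cmp φ Y p) :=
  PresheafOfModules.naturality_apply φ g.op p

/-- the backward direction, sectionwise -/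
noncomputable def bwdApp (φ : (pf R X).obj P ⟶ (pf R X).obj Q) (V : C) :
    (fr R X ⊗ P).obj (op V) →ₗ[RR R V] Q.obj (op V) :=
  TensorProduct.lift
    (Finsupp.lsum (RR R V) (fun a : V ⟶ X =>
      LinearMap.toSpanSingleton (RR R V) (P.obj (op V) →ₗ[RR R V] Q.obj (op V))
        (cmp φ (Over.mk a))))

lemma bwdApp_tmul (φ : (pf R X).obj P ⟶ (pf R X).obj Q) {V : C} (a : V ⟶ X) (r : RR R V)
    (p : P.obj (op V)) :
    bwdApp φ V (sg a r ⊗ₜ p) = r • cmp φ (Over.mk a) p := by
  have h : bwdApp φ V (sg a r ⊗ₜ p) = (Finsupp.lsum (RR R V) (fun a : V ⟶ X =>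
      LinearMap.toSpanSingleton (RR R V) (P.obj (op V) →ₗ[RR R V] Q.obj (op V))
        (cmp φ (Over.mk a)))) (Finsupp.single a r) p := rfl
  rw [h, Finsupp.lsum_single]
  rfl


lemma sg_induction {V : C} {motive : (fr R X).obj (op V) → Prop} (zero : motive 0)
    (add : ∀ s t, motive s → motive t → motive (s + t)) (single : ∀ a r, motive (sg a r))
    (s : (fr R X).obj (op V)) : motive s :=
  @Finsupp.induction_linear (V ⟶ X) (RR R V) _ motive s zero add single

lemma tensor_induction {V : C} {motive : (fr R X ⊗ P).obj (op V) → Prop} (zero : motive 0)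
    (add : ∀ s t, motive s → motive t → motive (s + t))
    (single : ∀ a r p, motive (sg a r ⊗ₜ p)) (x : (fr R X ⊗ P).obj (op V)) : motive x := by
  induction x using TensorProduct.induction_on with
  | zero => exact zero
  | tmul s p =>
    induction s using sg_induction with
    | zero => rw [TensorProduct.zero_tmul]; exact zero
    | add s t hs ht => rw [TensorProduct.add_tmul]; exact add _ _ hs ht
    | single a r => exact single a r p
  | add x y hx hy => exact add _ _ hx hy

lemma bwdApp_res (φ : (pf R X).obj P ⟶ (pf R X).obj Q) {V W : C} (g : W ⟶ V)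
    (x : (fr R X ⊗ P).obj (op V)) :
    bwdApp φ W (res (fr R X ⊗ P) g.op x) = res Q g.op (bwdApp φ V x) := by
  induction x using tensor_induction with
  | zero => rw [map_zero, map_zero, map_zero, map_zero]
  | add s t hs ht => rw [map_add, map_add, map_add, map_add, hs, ht]
  | single a r p =>
    rw [res_tmul, res_sg, bwdApp_tmul, bwdApp_tmul, map_smulₛₗ]
    congr 1
    exact cmp_res φ (Over.homMk g : Over.mk (g ≫ a) ⟶ Over.mk a) p

/-- the backward direction -/
noncomputable def bwd (φ : (pf R X).obj P ⟶ (pf R X).obj Q) : fr R X ⊗ P ⟶ Q where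
  app V := ModuleCat.ofHom (bwdApp φ V.unop)
  naturality {V W} f := by
    apply ModuleCat.hom_ext
    apply LinearMap.ext
    intro x
    exact bwdApp_res φ f.unop x

lemma bwd_app (φ : (pf R X).obj P ⟶ (pf R X).obj Q) (V : C) (x : (fr R X ⊗ P).obj (op V)) :
    (bwd φ).app (op V) x = bwdApp φ V x := rfl


lemma fwd_bwd (φ : (pf R X).obj P ⟶ (pf R X).obj Q) : fwd (bwd φ) = φ := by
  apply PresheafOfModules.Hom.ext
  funext Y
  induction Y using Opposite.rec with | _ Y
  apply ModuleCat.hom_ext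
  apply LinearMap.ext
  intro p
  show bwdApp φ Y.left (gen Y.hom p) = φ.app (op Y) p
  unfold gen
  rw [bwdApp_tmul, one_smul]
  rfl

lemma bwd_fwd (ψ : fr R X ⊗ P ⟶ Q) : bwd (fwd ψ) = ψ := by
  apply PresheafOfModules.Hom.ext
  funext V
  induction V using Opposite.rec with | _ V
  apply ModuleCat.hom_ext
  apply LinearMap.ext
  intro x
  show bwdApp (fwd ψ) V x = ψ.app (op V) x
  induction x using tensor_induction with
  | zero => rw [map_zero, map_zero]
  | add s t hs ht => rw [map_add, map_add, hs, ht]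
  | single a r p =>
    rw [bwdApp_tmul, ← smul_gen, map_smul]
    rfl

/-- maps out of `free(h_X) ⊗ P` are maps `P|_X ⟶ Q|_X` -/
noncomputable def equiv (P Q : PMod R) :
    (fr R X ⊗ P ⟶ Q) ≃ ((pf R X).obj P ⟶ (pf R X).obj Q) where
  toFun := fwd
  invFun := bwd
  left_inv := bwd_fwd
  right_inv := fwd_bwd

lemma fwd_comp {Q' : PMod R} (ψ : fr R X ⊗ P ⟶ Q) (β : Q ⟶ Q') :
    fwd (ψ ≫ β) = fwd ψ ≫ (pf R X).map β := rfl

lemma fwd_add (ψ ψ' : fr R X ⊗ P ⟶ Q) : fwd (ψ + ψ') = fwd ψ + fwd ψ' := rfl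

end Groth.Agent.Helper9.FreeTensor
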