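import Mathlib
import Groth.Prelude.Def_ModSite
import Groth.Agent.Helper9.Shriek
import Groth.Agent.Helper9.TensorSh

/-!
# Extension by zero of sheaves of modules, explicitly
-/

namespace Groth.Agent.Helper9.ShriekSh

open CategoryTheory MonoidalCategory Opposite Limits
  Groth.Agent.Helper9.TensorSh Groth.Agent.Helper9.FreeTensor Groth.Agent.Helper9.Shriek

universe u

variable {C : Type u} [SmallCategory C] {J : GrothendieckTopology C} (O : Sheaf J CommRingCat.{u})
  (X : C)

/-- the forgetful functor from sheaves of modules on `C/X`, valued in presheaves of modules over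
the restricted ring presheaf -/
noncomputable abbrev ιX : ModSite.Mod (O.over X) ⥤ PMod (SX O.obj X) := ι (O.over X)

/-- the right adjoint of sheafification -/
noncomputable abbrev ι' : ModSite.Mod O ⥤ PM O :=
  SheafOfModules.forget (ModSite.ringSh O) ⋙
    PresheafOfModules.restrictScalars (𝟙 (ModSite.ringSh O).obj)

/-- the explicit extension by zero -/
noncomputable abbrev ext : ModSite.Mod (O.over X) ⥤ ModSite.Mod O :=
  ιX O X ⋙ shF O.obj X ⋙ a O

/-- restriction commutes with the forgetful functors -/
noncomputable def comm2 : 𝟭 (ModSite.Mod O) ⋙ (ι' O ⋙ pf O.obj X) ≅ ModSite.restr O X ⋙ ιX O X :=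
  NatIso.ofComponents (fun N => Iso.refl _) (by
    intro N N' f
    rfl)

/-- the adjunction `ext ⊣ restr` -/
noncomputable def extAdj : ext O X ⊣ ModSite.restr O X :=
  ((shAdj O.obj X).comp (adj O)).restrictFullyFaithful
    (SheafOfModules.fullyFaithfulForget (ModSite.ringSh (O.over X)))
    (Functor.FullyFaithful.id _) (Iso.refl _) (comm2 O X)

/-- `j_!` is the explicit extension by zero -/
noncomputable def extZeroIso : ModSite.extZero O X ≅ ext O X :=
  (ModSite.extZeroAdj O X).leftAdjointUniq (extAdj O X)


instance preservesFiniteLimits_ιX : PreservesFiniteLimits (ιX O X) := by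
  haveI : PreservesLimitsOfSize.{u, u}
      (SheafOfModules.forget.{u} (ModSite.ringSh (O.over X))) := inferInstance
  exact inferInstanceAs (PreservesFiniteLimits
    (SheafOfModules.forget.{u} (ModSite.ringSh (O.over X))))

instance preservesFiniteLimits_a' : PreservesFiniteLimits (a O) :=
  inferInstanceAs (PreservesFiniteLimits
    (PresheafOfModules.sheafification.{u} (𝟙 (ModSite.ringSh O).obj)))

instance preservesFiniteLimits_ext : PreservesFiniteLimits (ext O X) := by
  haveI : PreservesFiniteLimits (shF O.obj X ⋙ a O) := comp_preservesFiniteLimits _ _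
  exact comp_preservesFiniteLimits _ _

/-- `j_!` is exact -/
theorem preservesFiniteLimits_extZero : PreservesFiniteLimits (ModSite.extZero O X) :=
  preservesFiniteLimits_of_natIso (extZeroIso O X).symm

end Groth.Agent.Helper9.ShriekSh
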