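import Mathlib
import Groth.Agent.Helper9.QP6
import Groth.Agent.Helper4.RDerComp
import Groth.Agent.Helper4.SuppLib
import Groth.Agent.Helper4.QcohGlue
import Groth.Agent.Helper4.HasRD
import Groth.Agent.S6508
import Groth.Prelude.Def_CxOX

/-! `Rf_*` preserves `D_QCoh` for quasi-compact quasi-separated `f`. -/

set_option autoImplicit false
set_option linter.style.haveILetI false
set_option linter.unusedVariables false
set_option linter.unusedSectionVars false
universe u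

namespace Groth.Agent.Helper9.QP7

open CategoryTheory Limits AlgebraicGeometry Opposite TopologicalSpace DerivedCategory
open Groth.Agent.Helper9 Groth.Agent.Helper9.QP1 Groth.Agent.Helper9.QP2 Scheme.Modules

attribute [local instance] HasDerivedCategory.standard
attribute [local instance 2000] QP6.ovr

/-- the case of an affine base `Spec R` -/
theorem isQCohD_Rpush_spec (R : CommRingCat.{u}) {X : Scheme.{u}}
    (f : X ⟶ Spec (CommRingCat.of R)) [QuasiCompact f] [QuasiSeparated f] [DCoh.HasRpush f]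
    (E : DCoh.D X) (hE : DCoh.IsQCohD E) : DCoh.IsQCohD ((DCoh.Rpush f).obj E) := by
  letI : X.Over (Spec (CommRingCat.of R)) := ⟨f⟩
  haveI : f.IsOver (Spec (CommRingCat.of R)) := ⟨Category.comp_id f⟩
  exact QP6.isQCohD_of_locHom R _ (fun a i => QP5.locHom_Rpush f a E hE i)

section Iso

variable {X' U' T : Scheme.{u}} (g : X' ⟶ U') (φ : U' ≅ T)

/-- restriction along the inverse of an isomorphism is direct image along the isomorphism -/
noncomputable def restrictIsoPush : restrictFunctor φ.inv ≅ pushforward φ.hom :=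
  (Functor.leftUnitor _).symm ≪≫
    Functor.isoWhiskerRight ((pushforwardId U').symm ≪≫
      pushforwardCongr (φ.hom_inv_id).symm ≪≫ (pushforwardComp φ.hom φ.inv).symm) _ ≪≫
    Functor.associator _ _ _ ≪≫
    Functor.isoWhiskerLeft _ (restrictFunctorAdjCounitIso φ.inv) ≪≫ Functor.rightUnitor _

/-- module level: `g_*` followed by restriction along `φ⁻¹` is `(g ≫ φ)_*` -/
noncomputable def pushRestrictIso :
    pushforward g ⋙ restrictFunctor φ.inv ≅ pushforward (g ≫ φ.hom) :=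
  Functor.isoWhiskerLeft _ (restrictIsoPush φ) ≪≫ pushforwardComp g φ.hom

theorem nonempty_Rpush_restrict_iso [DCoh.HasRpush g] [DCoh.HasRpush (g ≫ φ.hom)] :
    Nonempty (DCoh.Rpush g ⋙ DCoh.restrictD φ.inv ≅ DCoh.Rpush (g ≫ φ.hom)) := by
  haveI := Groth.Agent.Helper4.SchAdj.isGrothendieckAbelian_modules X'
  let β := (DCoh.pushKh g).totalRightDerivedUnit DerivedCategory.Qh
      (HomotopyCategory.quasiIso X'.Modules (ComplexShape.up ℤ))
  let β' := (DCoh.pushKh (g ≫ φ.hom)).totalRightDerivedUnit DerivedCategory.Qh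
      (HomotopyCategory.quasiIso X'.Modules (ComplexShape.up ℤ))
  let α₁ := Functor.whiskerRight β (DCoh.restrictD φ.inv) ≫ (Functor.associator _ _ _).hom
  have h1 : (DCoh.Rpush g ⋙ DCoh.restrictD φ.inv).IsRightDerivedFunctor α₁
      (HomotopyCategory.quasiIso X'.Modules (ComplexShape.up ℤ)) :=
    Groth.Agent.Helper4.RDerComp.post (DCoh.pushKh g) (DCoh.Rpush g) β (DCoh.restrictD φ.inv)
  let τ : DCoh.pushKh g ⋙ DCoh.restrictD φ.inv ≅ DCoh.pushKh (g ≫ φ.hom) :=
    Functor.associator _ _ _ ≪≫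
    Functor.isoWhiskerLeft _ (restrictFunctor φ.inv).mapDerivedCategoryFactorsh ≪≫
    (Functor.associator _ _ _).symm ≪≫
    Functor.isoWhiskerRight
      (Functor.mapHomotopyCategoryCompIso (pushRestrictIso g φ) (ComplexShape.up ℤ))
      DerivedCategory.Qh
  exact ⟨Functor.rightDerivedNatIso _ _ α₁ β'
    (HomotopyCategory.quasiIso X'.Modules (ComplexShape.up ℤ)) τ⟩

end Iso


/-- restriction to an open preserves `D_QCoh` -/
theorem isQCohD_restrictD {Z X : Scheme.{u}} (j : Z ⟶ X) [IsOpenImmersion j] (K : DCoh.D X)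
    (hK : DCoh.IsQCohD K) : DCoh.IsQCohD ((DCoh.restrictD j).obj K) := by
  intro q
  haveI : (DCoh.HD K q).IsQuasicoherent := hK q
  exact (SheafOfModules.isQuasicoherent Z.ringCatSheaf).prop_of_iso
    (Groth.Agent.Helper4.SuppLib.HDRestrictIso j K q).symm
    (inferInstanceAs ((Scheme.Modules.restrictFunctor j).obj (DCoh.HD K q)).IsQuasicoherent)

/-- **`Rf_*` preserves `D_QCoh`** for quasi-compact quasi-separated `f` -/
theorem isQCohD_Rpush {X S : Scheme.{u}} (f : X ⟶ S) [QuasiCompact f] [QuasiSeparated f]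
    [DCoh.HasRpush f] (E : DCoh.D X) (hE : DCoh.IsQCohD E) :
    DCoh.IsQCohD ((DCoh.Rpush f).obj E) := by
  intro i
  apply Groth.Agent.Helper4.QcohGlue.isQuasicoherent_of_affine_cover
  intro s
  obtain ⟨_, ⟨U₀, hU0, rfl⟩, hsU, -⟩ :=
    S.isBasis_affineOpens.exists_subset_of_mem_open (Set.mem_univ s) isOpen_univ
  obtain ⟨U, hUU⟩ : ∃ U : S.Opens, U = U₀ := ⟨U₀, rfl⟩
  subst hUU
  have hU : IsAffineOpen U := hU0
  refine ⟨U, hU, hsU, ?_⟩
  let K := (DCoh.Rpush f).obj E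
  let φ : (U : Scheme.{u}) ≅ Spec (CommRingCat.of Γ(S, U)) := hU.isoSpec
  have hfs : hU.fromSpec = φ.inv ≫ U.ι := rfl
  haveI : DCoh.HasRpush (f ∣_ U) := Groth.Agent.Helper4.HasRD.hasRpush _
  haveI : DCoh.HasRpush ((f ∣_ U) ≫ φ.hom) := Groth.Agent.Helper4.HasRD.hasRpush _
  obtain ⟨e1⟩ := Groth.Agent.S6508.result f U
  obtain ⟨e2⟩ := nonempty_Rpush_restrict_iso (f ∣_ U) φ
  let E₁ := (DCoh.restrictD (f ⁻¹ᵁ U).ι).obj E
  have hE₁ : DCoh.IsQCohD E₁ := isQCohD_restrictD _ E hE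
  haveI : QuasiCompact ((f ∣_ U) ≫ φ.hom) := inferInstance
  haveI : QuasiSeparated ((f ∣_ U) ≫ φ.hom) := inferInstance
  have hK₂ : DCoh.IsQCohD ((DCoh.Rpush ((f ∣_ U) ≫ φ.hom)).obj E₁) :=
    isQCohD_Rpush_spec Γ(S, U) ((f ∣_ U) ≫ φ.hom) E₁ hE₁
  let ι : (DCoh.HD K i).restrict hU.fromSpec ≅
      DCoh.HD ((DCoh.Rpush ((f ∣_ U) ≫ φ.hom)).obj E₁) i :=
    (restrictFunctorCongr hfs).app _ ≪≫ (restrictFunctorComp φ.inv U.ι).app (DCoh.HD K i) ≪≫
      (restrictFunctor φ.inv).mapIso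
        ((Groth.Agent.Helper4.SuppLib.HDRestrictIso U.ι K i).symm ≪≫
          (DerivedCategory.homologyFunctor _ i).mapIso (e1.app E)) ≪≫
      (Groth.Agent.Helper4.SuppLib.HDRestrictIso φ.inv _ i).symm ≪≫
      (DerivedCategory.homologyFunctor _ i).mapIso (e2.app E₁)
  haveI : (DCoh.HD ((DCoh.Rpush ((f ∣_ U) ≫ φ.hom)).obj E₁) i).IsQuasicoherent := hK₂ i
  exact (SheafOfModules.isQuasicoherent (Spec (CommRingCat.of Γ(S, U))).ringCatSheaf).prop_of_iso
    ι.symm (inferInstanceAs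
      (DCoh.HD ((DCoh.Rpush ((f ∣_ U) ≫ φ.hom)).obj E₁) i).IsQuasicoherent)

end Groth.Agent.Helper9.QP7
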