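import Mathlib
import Groth.Prelude.Def_CxOX
import Groth.Agent.Helper4.LocalObj
import Groth.Agent.Helper4.ColocalObj
import Groth.Agent.Helper4.AffKD
import Groth.Agent.Helper4.HasRD
import Groth.Agent.Helper4.RjSuppGen
import Groth.Agent.Helper9.SkyMod5

/-! Extension by zero along a general open immersion `j : Z ⟶ X`: exactness, the derived adjunction
`j_! ⊣ j^*`, and objects of `D(O_X)` supported inside `j(Z)`. -/

set_option autoImplicit false
set_option linter.style.haveILetI false
set_option linter.unusedVariables false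
set_option linter.unusedSectionVars false
universe u

namespace Groth.Agent.Helper9.RH2

open CategoryTheory CategoryTheory.Limits AlgebraicGeometry Opposite Pretriangulated
open Groth.Agent.Helper9.SkyMod4 Groth.Agent.Helper9.SkyMod5

attribute [local instance] HasDerivedCategory.standard

variable {Z X : Scheme.{u}} (j : Z ⟶ X) [IsOpenImmersion j]

/-- `j^* ≅ φ^* ∘ (j.opensRange.ι)^*` for `φ : Z ≅ j(Z)` -/
noncomputable def restrictFactorIso :
    Scheme.Modules.restrictFunctor j ≅
      Scheme.Modules.restrictFunctor j.opensRange.ι ⋙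
        Scheme.Modules.restrictFunctor j.isoOpensRange.hom :=
  Scheme.Modules.restrictFunctorCongr j.isoOpensRange_hom_ι.symm ≪≫
    Scheme.Modules.restrictFunctorComp j.isoOpensRange.hom j.opensRange.ι

/-- `j_! ≅ (j.opensRange.ι)_! ∘ (φ⁻¹)^*` -/
noncomputable def extZeroFactorIso :
    CxOX.extZero j ≅
      Scheme.Modules.restrictFunctor j.isoOpensRange.inv ⋙ CxOX.extZero j.opensRange.ι :=
  (CxOX.extZeroAdj j).leftAdjointUniq
    ((((Groth.Agent.Helper4.AffKD.restrictEquiv j.isoOpensRange).symm.toAdjunction).comp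
      (CxOX.extZeroAdj j.opensRange.ι)).ofNatIsoRight (restrictFactorIso j).symm)

instance preservesFiniteLimits_extZero : PreservesFiniteLimits (CxOX.extZero j) := by
  haveI : PreservesFiniteLimits (CxOX.extZero j.opensRange.ι) :=
    Groth.Agent.Helper4.RestrKInj.preservesFiniteLimits_extZero j.opensRange
  haveI : PreservesFiniteLimits (Scheme.Modules.restrictFunctor j.isoOpensRange.inv) :=
    inferInstance
  exact preservesFiniteLimits_of_natIso (extZeroFactorIso j).symm

/-- the derived adjunction `j_! ⊣ j^*` -/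
noncomputable def shAdj : CxOX.extZeroD j ⊣ DCoh.restrictD j :=
  haveI := Groth.Agent.Helper4.SchAdj.isGrothendieckAbelian_modules X
  haveI : (DCoh.restrictD j).IsRightDerivedFunctor
      (Scheme.Modules.restrictFunctor j).mapDerivedCategoryFactorsh.inv
      (HomotopyCategory.quasiIso X.Modules (ComplexShape.up ℤ)) :=
    Functor.isRightDerivedFunctor_of_inverts _ _ _
  Groth.Agent.Helper4.KDerAdj.derivedAdj (CxOX.extZeroAdj j) (DCoh.restrictD j)
    (Scheme.Modules.restrictFunctor j).mapDerivedCategoryFactorsh.inv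

instance isIso_shAdj_unit : IsIso (shAdj j).unit := by
  haveI : DCoh.HasRpush j := Groth.Agent.Helper4.HasRD.hasRpush _
  let t : Adjunction.Triple (CxOX.extZeroD j) (DCoh.restrictD j) (DCoh.Rpush j) :=
    ⟨shAdj j, Groth.Agent.Helper4.RjSuppGen.dAdj' j⟩
  exact t.isIso_unit_iff_isIso_counit.2 inferInstance

theorem isIso_restrict_counit (E : DCoh.D X) :
    IsIso ((DCoh.restrictD j).map ((shAdj j).counit.app E)) := by
  have h := (shAdj j).right_triangle_components E
  haveI : IsIso ((shAdj j).unit.app ((DCoh.restrictD j).obj E)) := inferInstance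
  rw [IsIso.eq_inv_of_hom_inv_id h]
  infer_instance

/-- the cohomology sheaves of `A` have zero stalks outside `j(Z)` -/
def SuppIn (A : DCoh.D X) : Prop :=
  ∀ i : ℤ, CohB1.support (DCoh.HD A i) ⊆ Set.range j

theorem suppIn_extZeroD (B : DCoh.D Z) : SuppIn j ((CxOX.extZeroD j).obj B) := by
  intro i x hx
  obtain ⟨y, -, hy⟩ := Groth.Agent.Helper4.ExtZeroStalk.support_HD_extZeroD_subset j B i hx
  exact ⟨y, hy⟩

theorem SuppIn.of_iso {A A' : DCoh.D X} (e : A ≅ A') (h : SuppIn j A) : SuppIn j A' := by
  intro i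
  rw [← Groth.Agent.Helper4.ExtZeroStalk.support_eq_of_iso
    ((DerivedCategory.homologyFunctor X.Modules i).mapIso e)]
  exact h i

lemma isZero_St_iff (M : X.Modules) (x : X) :
    IsZero ((St x).obj M) ↔ x ∉ CohB1.support M := by
  constructor
  · intro h hx
    exact hx (ModuleCat.subsingleton_of_isZero h)
  · intro h
    have : Subsingleton (M.presheaf.stalk x) := not_not.1 h
    exact @ModuleCat.isZero_of_subsingleton _ _ ((St x).obj M) this

/-- a morphism between objects supported in `j(Z)` which is an isomorphism over `Z` is an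
isomorphism -/
theorem isIso_of_suppIn {A A' : DCoh.D X} (f : A ⟶ A') (hA : SuppIn j A) (hA' : SuppIn j A')
    (hf : IsIso ((DCoh.restrictD j).map f)) : IsIso f := by
  obtain ⟨C, g, k, hT⟩ := distinguished_cocone_triangle f
  refine (Triangle.isZero₃_iff_isIso₁ _ hT).1 ?_
  show IsZero C
  have hCj : IsZero ((DCoh.restrictD j).obj C) :=
    (Triangle.isZero₃_iff_isIso₁ _ ((DCoh.restrictD j).map_distinguished _ hT)).2 hf
  rw [Groth.Agent.Helper4.SuppLib.isZero_restrictD_iff] at hCj
  apply Groth.Agent.Helper4.SuppLib.isZero_of_HD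
  intro i
  apply SkyMod5.isZero_of_stalks
  intro x
  rw [isZero_St_iff]
  by_cases hx : x ∈ Set.range j
  · obtain ⟨z, rfl⟩ := hx
    exact hCj i z
  · -- exact sequence H^i(A') → H^i(C) → H^{i+1}(A)
    have hex := DerivedCategory.HomologySequence.exact₃ _ hT i (i + 1) rfl
    have hex' := hex.map (St x)
    have h1 : IsZero ((St x).obj (DCoh.HD A' i)) :=
      (isZero_St_iff _ x).2 (fun h => hx (hA' i h))
    have h2 : IsZero ((St x).obj (DCoh.HD A (i + 1))) :=
      (isZero_St_iff _ x).2 (fun h => hx (hA (i + 1) h))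
    rw [← isZero_St_iff]
    exact hex'.isZero_of_both_zeros (h1.eq_of_src _ _) (h2.eq_of_tgt _ _)

/-- objects supported in `j(Z)` are in the essential image of `j_!` -/
theorem isIso_counit_of_suppIn (A : DCoh.D X) (hA : SuppIn j A) :
    IsIso ((shAdj j).counit.app A) :=
  isIso_of_suppIn j _ (suppIn_extZeroD j _) hA (isIso_restrict_counit j A)

end Groth.Agent.Helper9.RH2
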