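import Mathlib
import Groth.Agent.S6513
import Groth.Agent.Helper9.RH2
import Groth.Agent.Helper9.QP7
import Groth.Agent.Helper9.Amp1
import Groth.Agent.Helper4.SuppLib

/-! Vanishing of `Hom(B, L)` for `L ∈ D_QCoh` with cohomology vanishing in a range: the
Mayer–Vietoris step. -/

set_option autoImplicit false
set_option linter.style.haveILetI false
set_option linter.unusedVariables false
set_option linter.unusedSectionVars false
universe u

namespace Groth.Agent.Helper9.MVP3

open CategoryTheory CategoryTheory.Limits AlgebraicGeometry Opposite Pretriangulated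

attribute [local instance] HasDerivedCategory.standard

/-- `Hom(B, L) = 0` for all `L ∈ D_QCoh` whose cohomology vanishes in a fixed range -/
def HV (Z : Scheme.{u}) (B : DCoh.D Z) : Prop :=
  ∃ a b : ℤ, a ≤ b ∧ ∀ L : DCoh.D Z, DCoh.IsQCohD L →
    (∀ i : ℤ, a ≤ i → i ≤ b → IsZero (DCoh.HD L i)) → ∀ φ : B ⟶ L, φ = 0

theorem HV.of_iso {Z : Scheme.{u}} {B B' : DCoh.D Z} (e : B ≅ B') (h : HV Z B) : HV Z B' := by
  obtain ⟨a, b, hab, h⟩ := h
  refine ⟨a, b, hab, fun L hL hvan φ => ?_⟩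
  have := h L hL hvan (e.hom ≫ φ)
  rw [← cancel_epi e.hom, this, comp_zero]

theorem isQCohD_shift {Z : Scheme.{u}} (L : DCoh.D Z) (hL : DCoh.IsQCohD L) (n : ℤ) :
    DCoh.IsQCohD (L⟦n⟧) := by
  intro i
  haveI : (DCoh.HD L (n + i)).IsQuasicoherent := hL (n + i)
  exact (SheafOfModules.isQuasicoherent Z.ringCatSheaf).prop_of_iso
    (Groth.Agent.Helper9.Amp1.homologyShiftIso L n i).symm inferInstance

lemma adj_hom_eq_zero {C D : Type*} [Category C] [Category D] [Preadditive C] [Preadditive D]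
    {F : C ⥤ D} {G : D ⥤ C} [F.PreservesZeroMorphisms] (adj : F ⊣ G) {X : C} {Y : D}
    (f : F.obj X ⟶ Y) (h : adj.homEquiv X Y f = 0) : f = 0 := by
  have h2 := (adj.homEquiv X Y).symm_apply_apply f
  rw [h, Adjunction.homEquiv_counit, Functor.map_zero, zero_comp] at h2
  exact h2.symm

theorem isZero_HD_restrict {Z Y : Scheme.{u}} (j : Y ⟶ Z) [IsOpenImmersion j] (L : DCoh.D Z)
    (i : ℤ) (h : IsZero (DCoh.HD L i)) : IsZero (DCoh.HD ((DCoh.restrictD j).obj L) i) :=
  IsZero.of_iso (Functor.map_isZero (Scheme.Modules.restrictFunctor j) h)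
    (Groth.Agent.Helper4.SuppLib.HDRestrictIso j L i)

/-- the Mayer–Vietoris step -/
theorem HV.mv (Z : Scheme.{u}) (U V : Z.Opens) (hUV : U ⊔ V = ⊤) (B : DCoh.D Z)
    (hU : HV U ((DCoh.restrictD U.ι).obj B)) (hV : HV V ((DCoh.restrictD V.ι).obj B))
    (hW : HV (U ⊓ V : Z.Opens) ((DCoh.restrictD (U ⊓ V).ι).obj B)) : HV Z B := by
  obtain ⟨aU, bU, habU, hU⟩ := hU
  obtain ⟨aV, bV, habV, hV⟩ := hV
  obtain ⟨aW, bW, habW, hW⟩ := hW
  refine ⟨min aU (min aV (aW - 1)), max bU (max bV (bW - 1)),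
    (min_le_left _ _).trans (habU.trans (le_max_left _ _)), fun L hL hvan φ => ?_⟩
  obtain ⟨a', b', c', hT⟩ := Groth.Agent.S6513.result U V hUV B
  have h1 : b' ≫ φ = 0 := by
    apply biprod.hom_ext'
    · rw [comp_zero]
      apply adj_hom_eq_zero (Groth.Agent.Helper9.RH2.shAdj U.ι)
      refine hU _ (Groth.Agent.Helper9.QP7.isQCohD_restrictD U.ι L hL) (fun i hi hi' => ?_) _
      exact isZero_HD_restrict U.ι L i (hvan i ((min_le_left _ _).trans hi)
        (hi'.trans (le_max_left _ _)))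
    · rw [comp_zero]
      apply adj_hom_eq_zero (Groth.Agent.Helper9.RH2.shAdj V.ι)
      refine hV _ (Groth.Agent.Helper9.QP7.isQCohD_restrictD V.ι L hL) (fun i hi hi' => ?_) _
      exact isZero_HD_restrict V.ι L i (hvan i
        (((min_le_right _ _).trans (min_le_left _ _)).trans hi)
        (hi'.trans ((le_max_left _ _).trans (le_max_right _ _))))
  obtain ⟨g, hg⟩ := Triangle.yoneda_exact₃ _ hT φ h1
  have h2 : g = 0 := by
    apply adj_hom_eq_zero (shiftEquiv (DCoh.D Z) (1 : ℤ)).toAdjunction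
    apply adj_hom_eq_zero (Groth.Agent.Helper9.RH2.shAdj (U ⊓ V).ι)
    refine hW _ (Groth.Agent.Helper9.QP7.isQCohD_restrictD (U ⊓ V).ι _
      (isQCohD_shift L hL (-1))) (fun i hi hi' => ?_) _
    refine isZero_HD_restrict (U ⊓ V).ι _ i ?_
    refine IsZero.of_iso (hvan (-1 + i) ?_ ?_) (Groth.Agent.Helper9.Amp1.homologyShiftIso L (-1) i)
    · have : min aU (min aV (aW - 1)) ≤ aW - 1 :=
        (min_le_right aU _).trans (min_le_right aV _)
      omega
    · have : bW - 1 ≤ max bU (max bV (bW - 1)) :=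
        (le_max_right bV (bW - 1)).trans (le_max_right bU _)
      omega
  rw [hg, h2]
  exact comp_zero

end Groth.Agent.Helper9.MVP3
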