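import Mathlib

/-! Finite generation of `Hom` modules in linear triangulated categories over a Noetherian ring:
two-out-of-three for distinguished triangles, invariance under isomorphisms, finite
decompositions. -/

set_option autoImplicit false
set_option linter.style.haveILetI false
set_option linter.unusedVariables false
set_option linter.unusedSectionVars false

namespace Groth.Agent.Helper9.RH10a

open CategoryTheory CategoryTheory.Limits Pretriangulated

variable {R : Type*} [CommRing R] [IsNoetherianRing R]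

/-- a module which embeds linearly into a finite module over a Noetherian ring is finite -/
lemma finite_of_injective {X Y : Type*} [AddCommGroup X] [Module R X] [AddCommGroup Y]
    [Module R Y] [Module.Finite R Y] (f : X →ₗ[R] Y) (hf : Function.Injective f) :
    Module.Finite R X := by
  haveI : IsNoetherian R Y := isNoetherian_of_isNoetherianRing_of_finite R Y
  exact Module.Finite.of_injective f hf

variable {D : Type*} [Category D] [Preadditive D] [Linear R D]

lemma finite_of_iso {B B' M : D} (e : B ≅ B') (h : Module.Finite R (B ⟶ M)) :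
    Module.Finite R (B' ⟶ M) :=
  Module.Finite.equiv (Linear.homCongr R e (Iso.refl M))

lemma finite_of_isZero {B M : D} (hB : IsZero B) : Module.Finite R (B ⟶ M) := by
  haveI : Subsingleton (B ⟶ M) := ⟨fun f g => hB.eq_of_src f g⟩
  infer_instance

/-- finite decompositions -/
lemma finite_of_decomp {κ : Type*} [Fintype κ] {B M : D} (Bk : κ → D) (i : ∀ k, Bk k ⟶ B)
    (p : ∀ k, B ⟶ Bk k) (h : ∑ k, p k ≫ i k = 𝟙 B)
    (hk : ∀ k, Module.Finite R (Bk k ⟶ M)) : Module.Finite R (B ⟶ M) := by
  haveI := hk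
  let f : (B ⟶ M) →ₗ[R] (∀ k, Bk k ⟶ M) := LinearMap.pi (fun k => Linear.leftComp R M (i k))
  refine finite_of_injective f ?_
  rw [← LinearMap.ker_eq_bot, LinearMap.ker_eq_bot']
  intro φ hφ
  have h1 : ∀ k, i k ≫ φ = 0 := fun k => congrFun hφ k
  calc φ = (∑ k, p k ≫ i k) ≫ φ := by rw [h, Category.id_comp]
    _ = ∑ k, (p k ≫ i k) ≫ φ := Preadditive.sum_comp _ _ _
    _ = 0 := Finset.sum_eq_zero (fun k _ => by rw [Category.assoc, h1, comp_zero])

variable [HasZeroObject D] [HasShift D ℤ] [∀ n : ℤ, (shiftFunctor D n).Additive]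
  [Pretriangulated D]

/-- two-out-of-three for distinguished triangles -/
lemma finite_of_triangle (T : Triangle D) (hT : T ∈ distTriang D) (M : D)
    (h1 : Module.Finite R (T.obj₁ ⟶ M)) (h3 : Module.Finite R (T.obj₃ ⟶ M)) :
    Module.Finite R (T.obj₂ ⟶ M) := by
  haveI : IsNoetherian R (T.obj₁ ⟶ M) := isNoetherian_of_isNoetherianRing_of_finite R _
  haveI : IsNoetherian R (T.obj₃ ⟶ M) := isNoetherian_of_isNoetherianRing_of_finite R _
  let f : (T.obj₃ ⟶ M) →ₗ[R] (T.obj₂ ⟶ M) := Linear.leftComp R M T.mor₂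
  let g : (T.obj₂ ⟶ M) →ₗ[R] (T.obj₁ ⟶ M) := Linear.leftComp R M T.mor₁
  have hfg : LinearMap.range f = LinearMap.ker g := by
    ext φ
    constructor
    · rintro ⟨ψ, rfl⟩
      show T.mor₁ ≫ T.mor₂ ≫ ψ = 0
      rw [← Category.assoc, comp_distTriang_mor_zero₁₂ _ hT, zero_comp]
    · intro hφ
      obtain ⟨ψ, hψ⟩ := Triangle.yoneda_exact₂ T hT φ hφ
      exact ⟨ψ, hψ.symm⟩
  haveI : IsNoetherian R (T.obj₂ ⟶ M) := isNoetherian_of_range_eq_ker f g hfg
  infer_instance

variable (R) in
/-- all shifts of `B` have finitely generated modules of maps to `M` -/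
def FGp (M B : D) : Prop := ∀ n : ℤ, Module.Finite R (B⟦n⟧ ⟶ M)

lemma FGp.of_iso {M B B' : D} (e : B ≅ B') (h : FGp R M B) : FGp R M B' :=
  fun n => finite_of_iso ((shiftFunctor D n).mapIso e) (h n)

lemma FGp.of_isZero {M B : D} (hB : IsZero B) : FGp R M B :=
  fun n => finite_of_isZero ((shiftFunctor D n).map_isZero hB)

lemma FGp.triangle (T : Triangle D) (hT : T ∈ distTriang D) (M : D)
    (h1 : FGp R M T.obj₁) (h3 : FGp R M T.obj₃) : FGp R M T.obj₂ := fun n =>
  finite_of_triangle ((Triangle.shiftFunctor D n).obj T) (Triangle.shift_distinguished T hT n) M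
    (h1 n) (h3 n)

lemma FGp.of_decomp {κ : Type*} [Fintype κ] {B M : D} (Bk : κ → D) (i : ∀ k, Bk k ⟶ B)
    (p : ∀ k, B ⟶ Bk k) (h : ∑ k, p k ≫ i k = 𝟙 B) (hk : ∀ k, FGp R M (Bk k)) :
    FGp R M B := fun n =>
  finite_of_decomp (fun k => (Bk k)⟦n⟧) (fun k => (i k)⟦n⟧') (fun k => (p k)⟦n⟧')
    (by
      simp only [← Functor.map_comp]
      rw [← Functor.map_sum, h, CategoryTheory.Functor.map_id])
    (fun k => hk k n)

end Groth.Agent.Helper9.RH10a
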