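import Mathlib
import Groth.Prelude.Def_KFlatSite
import Groth.Agent.Helper9.KFlat18

/-!
# `- ⊗^L E` for a K-flat complex `E` on a ringed site is computed by the underived tensor product
-/

set_option autoImplicit false
set_option linter.style.haveILetI false
set_option linter.unusedSectionVars false

namespace Groth.Agent.Helper9.LTCx1

open CategoryTheory Category Limits HomologicalComplex CochainComplex
  Groth.Agent.Helper9.KFlat3 Groth.Agent.Helper9.KFlat4
  Groth.Agent.Helper9.KFlat5 Groth.Agent.Helper9.KFlat18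

attribute [local instance] HasDerivedCategory.standard

universe u

variable {C : Type u} [SmallCategory C] {J : GrothendieckTopology C} {O : Sheaf J CommRingCat.{u}}

/-- the class of quasi-isomorphisms -/
abbrev W : MorphismProperty (CochainComplex (ModSite.Mod O) ℤ) :=
  HomologicalComplex.quasiIso (ModSite.Mod O) (ComplexShape.up ℤ)

lemma tensorCx_flip_map (E : CochainComplex (ModSite.Mod O) ℤ)
    {K K' : CochainComplex (ModSite.Mod O) ℤ} (f : K ⟶ K') :
    ((ModSite.tensorCx O).flip.obj E).map f =
      mapBifunctorMap f (𝟙 E) (ModSite.tensorBi O) (ComplexShape.up ℤ) := rfl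

/-- for K-flat `E`, the functor `- ⊗ E` preserves quasi-isomorphisms -/
theorem quasiIso_flip_map {E : CochainComplex (ModSite.Mod O) ℤ} (hE : ModSite.IsKFlat E)
    {K K' : CochainComplex (ModSite.Mod O) ℤ} (f : K ⟶ K') (hf : QuasiIso f) :
    QuasiIso (((ModSite.tensorCx O).flip.obj E).map f) := by
  rw [tensorCx_flip_map]
  exact quasiIso_of_isKFlat hE f

/-- for K-flat `E`, the functor `tensorCxQ E` inverts quasi-isomorphisms -/
theorem isInvertedBy_tensorCxQ {E : CochainComplex (ModSite.Mod O) ℤ} (hE : ModSite.IsKFlat E) :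
    (W (O := O)).IsInvertedBy (ModSite.tensorCxQ E) := by
  intro K K' f hf
  have hf' : QuasiIso f := hf
  have := quasiIso_flip_map hE f hf'
  show IsIso (DerivedCategory.Q.map (((ModSite.tensorCx O).flip.obj E).map f))
  rw [DerivedCategory.isIso_Q_map_iff_quasiIso]
  exact this

variable (E : CochainComplex (ModSite.Mod O) ℤ) [ModSite.HasLTensorCx E]

/-- the counit of the derived tensor product -/
noncomputable abbrev counit : DerivedCategory.Q ⋙ ModSite.LTensorCx E ⟶ ModSite.tensorCxQ E :=
  (ModSite.tensorCxQ E).totalLeftDerivedCounit DerivedCategory.Q (W (O := O))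

instance : (ModSite.LTensorCx E).IsLeftDerivedFunctor (counit E) (W (O := O)) := by
  unfold counit
  infer_instance

theorem isIso_counit (hE : ModSite.IsKFlat E) : IsIso (counit E) :=
  Functor.isIso_of_isLeftDerivedFunctor_of_inverts (ModSite.LTensorCx E) (counit E)
    (isInvertedBy_tensorCxQ hE)

/-- for K-flat `E`: `Q ⋙ (- ⊗^L E) ≅ Q ∘ (- ⊗ E)` -/
noncomputable def counitIso (hE : ModSite.IsKFlat E) :
    DerivedCategory.Q ⋙ ModSite.LTensorCx E ≅ ModSite.tensorCxQ E :=
  @asIso _ _ _ _ (counit E) (isIso_counit E hE)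

/-- for K-flat `E`: `Q K ⊗^L E ≅ Q (K ⊗ E)` -/
noncomputable def ltIso (hE : ModSite.IsKFlat E) (K : CochainComplex (ModSite.Mod O) ℤ) :
    (ModSite.LTensorCx E).obj (DerivedCategory.Q.obj K) ≅
      DerivedCategory.Q.obj (((ModSite.tensorCx O).obj K).obj E) :=
  (counitIso E hE).app K

lemma ltIso_hom_naturality (hE : ModSite.IsKFlat E) {K K' : CochainComplex (ModSite.Mod O) ℤ}
    (f : K ⟶ K') :
    (ModSite.LTensorCx E).map (DerivedCategory.Q.map f) ≫ (ltIso E hE K').hom =
      (ltIso E hE K).hom ≫ DerivedCategory.Q.map (((ModSite.tensorCx O).map f).app E) :=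
  (counitIso E hE).hom.naturality f

end Groth.Agent.Helper9.LTCx1
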