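import Mathlib
import Groth.Agent.Helper9.KFlat7

/-!
# `Tot(M[0] ⊗ E)` is `M ⊗ E` termwise (generic version, first variable)
-/

set_option autoImplicit false
set_option linter.style.haveILetI false
set_option linter.unusedSectionVars false

namespace Groth.Agent.Helper9.LTCx3

open CategoryTheory Limits HomologicalComplex CochainComplex Groth.Agent.Helper9.KFlat1
  Groth.Agent.Helper9.KFlat2 Groth.Agent.Helper9.KFlat3 Groth.Agent.Helper9.KFlat4
  Groth.Agent.Helper9.KFlat7

universe v u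

variable {A : Type u} [Category.{v} A] [Abelian A] (F : A ⥤ A ⥤ A) [F.Additive]
  [∀ X, (F.obj X).Additive]
  [∀ (K₁ K₂ : CochainComplex A ℤ), HomologicalComplex.HasMapBifunctor K₁ K₂ F (ComplexShape.up ℤ)]
  [∀ n : ℤ, HasColimitsOfShape (Discrete ((ComplexShape.π (ComplexShape.up ℤ) (ComplexShape.up ℤ)
    (ComplexShape.up ℤ)) ⁻¹' {n})) A]
  [∀ n : ℤ, HasExactColimitsOfShape (Discrete ((ComplexShape.π (ComplexShape.up ℤ)
    (ComplexShape.up ℤ) (ComplexShape.up ℤ)) ⁻¹' {n})) A]
  (M : A) (E : CochainComplex A ℤ)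

/-- the inclusion of the only nonzero summand of `Tot(M[0] ⊗ E)` in degree `n` -/
noncomputable def ιl (n : ℤ) : (F.obj ((Ks M).X 0)).obj (E.X n) ⟶
    (mapBifunctor (Ks M) E F (ComplexShape.up ℤ)).X n :=
  ιMapBifunctor (Ks M) E F (ComplexShape.up ℤ) 0 n n (zero_add n)

lemma isIso_ιl (n : ℤ) : IsIso (ιl F M E n) := by
  have := isIso_inj_of_isZero (cof F (Ks M) E n) (isColimitCof F (Ks M) E n) ⟨(0, n), zero_add n⟩
    (fun i hi => by
      obtain ⟨⟨p, q⟩, hpq⟩ := i
      have hp : p ≠ 0 := by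
        intro hp
        subst hp
        apply hi
        have hq : q = n := by
          have : 0 + q = n := hpq
          omega
        subst hq
        rfl
      have hz : IsZero (F.obj ((Ks M).X p)) :=
        Functor.map_isZero _ (isZero_single_obj_X (ComplexShape.up ℤ) 0 M p hp)
      exact (Functor.isZero_iff _).1 hz _)
  exact this

lemma ιl_d (i j : ℤ) (hij : i + 1 = j) :
    ιl F M E i ≫ (mapBifunctor (Ks M) E F (ComplexShape.up ℤ)).d i j =
      (F.obj ((Ks M).X 0)).map (E.d i j) ≫ ιl F M E j := by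
  subst hij
  unfold ιl
  rw [mapBifunctor.d_eq, Preadditive.comp_add, mapBifunctor.ι_D₁, mapBifunctor.ι_D₂,
    mapBifunctor.d₂_eq (Ks M) E F (ComplexShape.up ℤ) 0
      (show (ComplexShape.up ℤ).Rel i (i + 1) from rfl) (i + 1) (zero_add _)]
  have h1 : mapBifunctor.d₁ (Ks M) E F (ComplexShape.up ℤ) 0 i (i + 1) = 0 := by
    rw [mapBifunctor.d₁_eq (Ks M) E F (ComplexShape.up ℤ)
      (show (ComplexShape.up ℤ).Rel 0 1 from rfl) i (i + 1)
      (by show (1 : ℤ) + i = i + 1; omega)]
    simp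
  rw [h1, zero_add]
  simp

/-- `M ⊗ E` termwise -/
noncomputable abbrev tensL : CochainComplex A ℤ :=
  ((F.obj M).mapHomologicalComplex (ComplexShape.up ℤ)).obj E

/-- the degreewise isomorphism -/
noncomputable def xIso (n : ℤ) :
    (mapBifunctor (Ks M) E F (ComplexShape.up ℤ)).X n ≅ (tensL F M E).X n :=
  haveI := isIso_ιl F M E n
  (asIso (ιl F M E n)).symm ≪≫
    (F.mapIso (singleObjXSelf (ComplexShape.up ℤ) 0 M)).app (E.X n)

@[reassoc]
lemma ιl_xIso_hom (n : ℤ) :
    ιl F M E n ≫ (xIso F M E n).hom =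
      (F.map (singleObjXSelf (ComplexShape.up ℤ) 0 M).hom).app (E.X n) := by
  haveI := isIso_ιl F M E n
  show ιl F M E n ≫ (inv (ιl F M E n) ≫ _) = _
  rw [IsIso.hom_inv_id_assoc]
  rfl

/-- `Tot(M[0] ⊗ E) ≅ M ⊗ E` -/
noncomputable def singleTensorIso :
    mapBifunctor (Ks M) E F (ComplexShape.up ℤ) ≅ tensL F M E :=
  HomologicalComplex.Hom.isoOfComponents (xIso F M E) (by
    intro i j hij
    have hij' : i + 1 = j := hij
    haveI := isIso_ιl F M E i
    rw [← cancel_epi (ιl F M E i), ιl_xIso_hom_assoc, ← Category.assoc, ιl_d F M E i j hij',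
      Category.assoc, ιl_xIso_hom]
    show (F.map _).app (E.X i) ≫ (F.obj M).map (E.d i j) = _
    exact ((F.map (singleObjXSelf (ComplexShape.up ℤ) 0 M).hom).naturality (E.d i j)).symm)

lemma singleTensorIso_hom_f (n : ℤ) :
    (singleTensorIso F M E).hom.f n = (xIso F M E n).hom := rfl

variable {M}

/-- the map `M ⊗ E ⟶ M' ⊗ E` -/
noncomputable abbrev tensLMap {M' : A} (m : M ⟶ M') : tensL F M E ⟶ tensL F M' E :=
  (NatTrans.mapHomologicalComplex (F.map m) (ComplexShape.up ℤ)).app E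

lemma singleTensorIso_naturality {M' : A} (m : M ⟶ M') :
    mapBifunctorMap ((single A (ComplexShape.up ℤ) 0).map m) (𝟙 E) F (ComplexShape.up ℤ) ≫
      (singleTensorIso F M' E).hom = (singleTensorIso F M E).hom ≫ tensLMap F E m := by
  refine HomologicalComplex.hom_ext _ _ (fun n => ?_)
  haveI := isIso_ιl F M E n
  rw [HomologicalComplex.comp_f, HomologicalComplex.comp_f, singleTensorIso_hom_f,
    singleTensorIso_hom_f, ← cancel_epi (ιl F M E n), ιl_xIso_hom_assoc]
  have h1 : ιl F M E n ≫ (mapBifunctorMap ((single A (ComplexShape.up ℤ) 0).map m) (𝟙 E) F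
      (ComplexShape.up ℤ)).f n =
      (F.map (((single A (ComplexShape.up ℤ) 0).map m).f 0)).app (E.X n) ≫ ιl F M' E n := by
    unfold ιl
    rw [ι_mapBifunctorMap]
    simp
  rw [← Category.assoc, h1, Category.assoc, ιl_xIso_hom]
  have key : ((single A (ComplexShape.up ℤ) 0).map m).f 0 ≫
      (singleObjXSelf (ComplexShape.up ℤ) 0 M').hom =
      (singleObjXSelf (ComplexShape.up ℤ) 0 M).hom ≫ m := by
    rw [HomologicalComplex.single_map_f_self, Category.assoc, Category.assoc, Iso.inv_hom_id,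
      Category.comp_id]
  have key2 : (F.map (((single A (ComplexShape.up ℤ) 0).map m).f 0)).app (E.X n) ≫
      (F.map (singleObjXSelf (ComplexShape.up ℤ) 0 M').hom).app (E.X n) =
      (F.map (singleObjXSelf (ComplexShape.up ℤ) 0 M).hom).app (E.X n) ≫
        (F.map m).app (E.X n) := by
    rw [← NatTrans.comp_app, ← NatTrans.comp_app, ← F.map_comp, ← F.map_comp, key]
  exact key2

end Groth.Agent.Helper9.LTCx3
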