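import Mathlib
import Groth.Prelude.Def_KFlatSite
import Groth.Agent.Helper9.KFlat18
import Groth.Agent.Helper9.LTCx1
import Groth.Agent.Helper9.LTCx3
import Groth.Agent.Helper9.LTM4

/-!
# The functors `M ↦ H^p(M ⊗^L E)` for a K-flat complex `E` on a ringed site
-/

set_option autoImplicit false
set_option linter.style.haveILetI false
set_option linter.unusedSectionVars false

namespace Groth.Agent.Helper9.LTCx4

open CategoryTheory Category Limits HomologicalComplex CochainComplex
  Groth.Agent.Helper9.KFlat3 Groth.Agent.Helper9.KFlat4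
  Groth.Agent.Helper9.KFlat5 Groth.Agent.Helper9.KFlat18 Groth.Agent.Helper9.LTCx1
  Groth.Agent.Helper9.LTCx3
  Groth.Agent.Helper9.TensorAdj Groth.Agent.Helper9.TensorFlat

attribute [local instance] HasDerivedCategory.standard

universe u

variable {C : Type u} [SmallCategory C] {J : GrothendieckTopology C} {O : Sheaf J CommRingCat.{u}}

variable (E : CochainComplex (ModSite.Mod O) ℤ)

/-- `M ↦ M ⊗ E` (termwise) -/
noncomputable def tensLF : ModSite.Mod O ⥤ CochainComplex (ModSite.Mod O) ℤ where
  obj M := tensL (ModSite.tensorBi O) M E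
  map m := tensLMap (ModSite.tensorBi O) E m
  map_id M := by
    refine HomologicalComplex.hom_ext _ _ (fun n => ?_)
    show ((ModSite.tensorBi O).map (𝟙 M)).app (E.X n) = 𝟙 _
    rw [CategoryTheory.Functor.map_id]
    rfl
  map_comp m m' := by
    refine HomologicalComplex.hom_ext _ _ (fun n => ?_)
    show ((ModSite.tensorBi O).map (m ≫ m')).app (E.X n) = _
    rw [CategoryTheory.Functor.map_comp]
    rfl

lemma tensLF_map_f {M M' : ModSite.Mod O} (m : M ⟶ M') (n : ℤ) :
    ((tensLF E).map m).f n = (TN (E.X n)).map m := rfl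

instance : (tensLF E).Additive where
  map_add {M M' m m'} := by
    refine HomologicalComplex.hom_ext _ _ (fun n => ?_)
    show (TN (E.X n)).map (m + m') = (TN (E.X n)).map m + (TN (E.X n)).map m'
    exact Functor.map_add _

/-- `M[0] ⊗ E ≅ M ⊗ E`, naturally in `M` -/
noncomputable def singleIso :
    HomologicalComplex.single (ModSite.Mod O) (ComplexShape.up ℤ) 0 ⋙ (ModSite.tensorCx O).flip.obj E ≅
      tensLF E :=
  NatIso.ofComponents (fun M => singleTensorIso (ModSite.tensorBi O) M E)
    (fun m => singleTensorIso_naturality (ModSite.tensorBi O) E m)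

/-- `M ↦ H^p(M ⊗ E)` -/
noncomputable abbrev Ψ (p : ℤ) : ModSite.Mod O ⥤ ModSite.Mod O :=
  tensLF E ⋙ HomologicalComplex.homologyFunctor (ModSite.Mod O) (ComplexShape.up ℤ) p

instance (p : ℤ) : (Ψ E p).Additive := by
  unfold Ψ; infer_instance

variable [ModSite.HasLTensorCx E]

/-- `M ↦ H^p(M ⊗^L E)` -/
noncomputable abbrev Φ (p : ℤ) : ModSite.Mod O ⥤ ModSite.Mod O :=
  DerivedCategory.singleFunctor (ModSite.Mod O) 0 ⋙ ModSite.LTensorCx E ⋙
    DerivedCategory.homologyFunctor (ModSite.Mod O) p

/-- for K-flat `E`: `H^p(M ⊗^L E) ≅ H^p(M ⊗ E)` naturally in `M` -/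
noncomputable def phiIso (hE : ModSite.IsKFlat E) (p : ℤ) : Φ E p ≅ Ψ E p :=
  Functor.isoWhiskerRight (DerivedCategory.singleFunctorIsoCompQ (ModSite.Mod O) 0)
      (ModSite.LTensorCx E ⋙ DerivedCategory.homologyFunctor (ModSite.Mod O) p) ≪≫
    (show (CochainComplex.singleFunctor (ModSite.Mod O) 0 ⋙ DerivedCategory.Q) ⋙
        (ModSite.LTensorCx E ⋙ DerivedCategory.homologyFunctor (ModSite.Mod O) p) ≅
      CochainComplex.singleFunctor (ModSite.Mod O) 0 ⋙
        ((DerivedCategory.Q ⋙ ModSite.LTensorCx E) ⋙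
          DerivedCategory.homologyFunctor (ModSite.Mod O) p) from Iso.refl _) ≪≫
    Functor.isoWhiskerLeft (CochainComplex.singleFunctor (ModSite.Mod O) 0)
      (Functor.isoWhiskerRight (counitIso E hE)
        (DerivedCategory.homologyFunctor (ModSite.Mod O) p)) ≪≫
    (show CochainComplex.singleFunctor (ModSite.Mod O) 0 ⋙
        (((ModSite.tensorCx O).flip.obj E ⋙ DerivedCategory.Q) ⋙
          DerivedCategory.homologyFunctor (ModSite.Mod O) p) ≅
      (CochainComplex.singleFunctor (ModSite.Mod O) 0 ⋙ (ModSite.tensorCx O).flip.obj E) ⋙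
        (DerivedCategory.Q ⋙ DerivedCategory.homologyFunctor (ModSite.Mod O) p) from Iso.refl _) ≪≫
    Functor.isoWhiskerLeft _ (DerivedCategory.homologyFunctorFactors (ModSite.Mod O) p) ≪≫
    Functor.isoWhiskerRight (singleIso E) _


omit [ModSite.HasLTensorCx E] in
/-- tensoring a short exact sequence with a complex with flat terms -/
lemma shortExact_map_tensLF (hfl : ∀ i, ModSite.IsFlat (E.X i))
    (S : ShortComplex (ModSite.Mod O)) (hS : S.ShortExact) : (S.map (tensLF E)).ShortExact := by
  refine HomologicalComplex.shortExact_of_degreewise_shortExact _ (fun i => ?_)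
  haveI := (hfl i).1
  haveI := (hfl i).2
  exact hS.map_of_exact (TN (E.X i))

section Exactness

omit [ModSite.HasLTensorCx E]

variable (hfl : ∀ i, ModSite.IsFlat (E.X i))

include hfl

lemma exact_map_Ψ (S : ShortComplex (ModSite.Mod O)) (hS : S.ShortExact) (p : ℤ) :
    (S.map (Ψ E p)).Exact :=
  (shortExact_map_tensLF E hfl S hS).homology_exact₂ p

/-- `H^p(- ⊗ E)` preserves the epimorphism of a short exact sequence iff `H^{p+1}(- ⊗ E)`
preserves its monomorphism -/
lemma epi_iff_mono (S : ShortComplex (ModSite.Mod O)) (hS : S.ShortExact) (p : ℤ) :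
    Epi ((Ψ E p).map S.g) ↔ Mono ((Ψ E (p + 1)).map S.f) := by
  have hSC := shortExact_map_tensLF E hfl S hS
  have h3 := hSC.homology_exact₃ p (p + 1) rfl
  have h1 := hSC.homology_exact₁ p (p + 1) rfl
  exact h3.epi_f_iff.trans h1.mono_g_iff.symm

theorem preservesFiniteColimits_Ψ_iff (p : ℤ) :
    PreservesFiniteColimits (Ψ E p) ↔
      ∀ S : ShortComplex (ModSite.Mod O), S.ShortExact → Epi ((Ψ E p).map S.g) := by
  rw [((Functor.preservesFiniteColimits_tfae (Ψ E p)).out 3 0 :)]
  constructor
  · intro h S hS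
    exact (h S hS).2
  · intro h S hS
    exact ⟨exact_map_Ψ E hfl S hS p, h S hS⟩

theorem preservesFiniteLimits_Ψ_iff (p : ℤ) :
    PreservesFiniteLimits (Ψ E p) ↔
      ∀ S : ShortComplex (ModSite.Mod O), S.ShortExact → Mono ((Ψ E p).map S.f) := by
  rw [((Functor.preservesFiniteLimits_tfae (Ψ E p)).out 3 0 :)]
  constructor
  · intro h S hS
    exact (h S hS).2
  · intro h S hS
    exact ⟨exact_map_Ψ E hfl S hS p, h S hS⟩

/-- S6249 for complexes with flat terms (underived form) -/
theorem rightExact_iff_leftExact_succ (p : ℤ) :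
    PreservesFiniteColimits (Ψ E p) ↔ PreservesFiniteLimits (Ψ E (p + 1)) := by
  rw [preservesFiniteColimits_Ψ_iff E hfl, preservesFiniteLimits_Ψ_iff E hfl]
  constructor
  · intro h S hS
    exact (epi_iff_mono E hfl S hS p).1 (h S hS)
  · intro h S hS
    exact (epi_iff_mono E hfl S hS p).2 (h S hS)

end Exactness

section Opcycles

omit [ModSite.HasLTensorCx E]

variable (M : ModSite.Mod O) (i j : ℤ) (hij : i + 1 = j)

noncomputable def isCol₁ :
    IsColimit (CokernelCofork.ofπ (((tensLF E).obj M).pOpcycles j)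
      (((tensLF E).obj M).d_pOpcycles i j)) :=
  ((tensLF E).obj M).opcyclesIsCokernel i j (by subst hij; simp)

noncomputable def isCol₂ :
    IsColimit ((CokernelCofork.ofπ (cokernel.π (E.d i j)) (cokernel.condition _)).map (TL M)) :=
  (CokernelCofork.ofπ (cokernel.π (E.d i j)) (cokernel.condition _)).mapIsColimit
      (cokernelIsCokernel _) (TL M)

/-- the `opcycles` of `M ⊗ E` are `M ⊗ coker(d)` -/
noncomputable def opcyclesIso :
    ((tensLF E).obj M).opcycles j ≅ (TL M).obj (cokernel (E.d i j)) :=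
  IsColimit.coconePointUniqueUpToIso (isCol₁ E M i j hij) (isCol₂ E M i j)

@[reassoc]
lemma p_opcyclesIso_hom :
    ((tensLF E).obj M).pOpcycles j ≫ (opcyclesIso E M i j hij).hom =
      (TL M).map (cokernel.π (E.d i j)) :=
  IsColimit.comp_coconePointUniqueUpToIso_hom (isCol₁ E M i j hij) (isCol₂ E M i j)
    WalkingParallelPair.one

variable {M}

lemma opcyclesMap_opcyclesIso {M' : ModSite.Mod O} (m : M ⟶ M') :
    opcyclesMap ((tensLF E).map m) j ≫ (opcyclesIso E M' i j hij).hom =
      (opcyclesIso E M i j hij).hom ≫ (TN (cokernel (E.d i j))).map m := by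
  rw [← cancel_epi (((tensLF E).obj M).pOpcycles j), p_opcyclesMap_assoc, p_opcyclesIso_hom,
    p_opcyclesIso_hom_assoc, tensLF_map_f]
  exact (((ModSite.tensorBi O).map m).naturality (cokernel.π (E.d i j))).symm

include hij in
/-- `Mono (m ⊗ coker d) ↔ Mono (opcyclesMap)` -/
lemma mono_opcyclesMap_iff {M' : ModSite.Mod O} (m : M ⟶ M') :
    Mono (opcyclesMap ((tensLF E).map m) j) ↔ Mono ((TN (cokernel (E.d i j))).map m) := by
  have h := opcyclesMap_opcyclesIso E i j hij m
  constructor
  · intro _
    have h' : (TN (cokernel (E.d i j))).map m = (opcyclesIso E M i j hij).inv ≫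
        opcyclesMap ((tensLF E).map m) j ≫ (opcyclesIso E M' i j hij).hom := by
      rw [h, Iso.inv_hom_id_assoc]
    rw [h']
    infer_instance
  · intro _
    have h' : opcyclesMap ((tensLF E).map m) j = (opcyclesIso E M i j hij).hom ≫
        (TN (cokernel (E.d i j))).map m ≫ (opcyclesIso E M' i j hij).inv := by
      rw [← reassoc_of% h, Iso.hom_inv_id, Category.comp_id]
    rw [h']
    infer_instance

end Opcycles

omit [ModSite.HasLTensorCx E] in
/-- `H^j(- ⊗ E)` is left exact iff `coker(E^i ⟶ E^j)` is flat (`i + 1 = j`, flat terms) -/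
theorem leftExact_iff_isFlat_cokernel (hfl : ∀ i, ModSite.IsFlat (E.X i)) (i j : ℤ)
    (hij : i + 1 = j) :
    PreservesFiniteLimits (Ψ E j) ↔ ModSite.IsFlat (cokernel (E.d i j)) := by
  rw [preservesFiniteLimits_Ψ_iff E hfl]
  constructor
  · intro h
    apply isFlat_of_mono
    intro M' M m hm
    let S : ShortComplex (ModSite.Mod O) := ShortComplex.mk m (cokernel.π m) (cokernel.condition m)
    have hS : S.ShortExact :=
      { exact := ShortComplex.exact_cokernel m
        mono_f := hm
        epi_g := by dsimp [S]; infer_instance }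
    haveI : Mono (homologyMap ((tensLF E).map m) j) := h S hS
    haveI : Mono (((tensLF E).map m).f (j + 1)) := by
      rw [tensLF_map_f]
      exact mono_of_isFlat _ (hfl (j + 1)) m
    haveI := Groth.Agent.Helper9.LTM4.mono_opcyclesMap ((tensLF E).map m) j
    exact (mono_opcyclesMap_iff E i j hij m).1 inferInstance
  · intro hC S hS
    haveI := hS.mono_f
    haveI : Mono ((TN (cokernel (E.d i j))).map S.f) := mono_of_isFlat _ hC S.f
    haveI : Mono (opcyclesMap ((tensLF E).map S.f) j) :=
      (mono_opcyclesMap_iff E i j hij S.f).2 inferInstance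
    have hn : homologyMap ((tensLF E).map S.f) j ≫ ((tensLF E).obj S.X₂).homologyι j =
        ((tensLF E).obj S.X₁).homologyι j ≫ opcyclesMap ((tensLF E).map S.f) j :=
      homologyι_naturality _ _
    haveI : Mono (homologyMap ((tensLF E).map S.f) j ≫ ((tensLF E).obj S.X₂).homologyι j) := by
      rw [hn]; infer_instance
    exact mono_of_mono (homologyMap ((tensLF E).map S.f) j) (((tensLF E).obj S.X₂).homologyι j)

end Groth.Agent.Helper9.LTCx4
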