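import Mathlib

/-! Stupid truncations of cochain complexes in an abelian category: the quotient `σ_{≤ a} K`
(Mathlib's `stupidTrunc`) and the subcomplex `σ_{> a} K`, defined as the kernel of the projection. -/

set_option autoImplicit false
set_option linter.unusedSectionVars false
set_option linter.unusedVariables false
set_option linter.style.haveILetI false
universe w w' v v' u u'

open CategoryTheory Limits HomologicalComplex ComplexShape

namespace Groth.Agent.Helper9.Leray3

variable {B : Type u'} [Category.{v'} B] [Abelian B] (K : CochainComplex B ℤ) (a : ℤ)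

/-- the quotient stupid truncation `σ_{≤ a} K` -/
noncomputable abbrev sLE : CochainComplex B ℤ := K.stupidTrunc (embeddingUpIntLE a)

lemma hasLift_id :
    (embeddingUpIntLE a).HasLift (𝟙 (K.restriction (embeddingUpIntLE a))) :=
  fun j hj => hj.false_of_isTruncLE.elim

/-- the projection `K ⟶ σ_{≤ a} K` -/
noncomputable def πLE : K ⟶ sLE K a :=
  (embeddingUpIntLE a).liftExtend (𝟙 (K.restriction (embeddingUpIntLE a))) (hasLift_id K a)

lemma isIso_πLE_f (n : ℤ) (hn : n ≤ a) : IsIso ((πLE K a).f n) := by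
  obtain ⟨i, hi⟩ : ∃ i : ℕ, (embeddingUpIntLE a).f i = n := ⟨(a - n).toNat, by simp; omega⟩
  exact ((embeddingUpIntLE a).isIso_liftExtend_f_iff _ (hasLift_id K a) hi).2
    (inferInstanceAs (IsIso ((𝟙 (K.restriction (embeddingUpIntLE a)) : _ ⟶ _).f i)))

lemma isZero_sLE_X (n : ℤ) (hn : a < n) : IsZero ((sLE K a).X n) :=
  K.isZero_stupidTrunc_X _ n ((notMem_range_embeddingUpIntLE_iff a n).2 hn)

instance : (sLE K a).IsStrictlyLE a := by
  dsimp [sLE]
  infer_instance

/-- the terms of `σ_{≤ a} K` -/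
noncomputable def sLEXIso (n : ℤ) (hn : n ≤ a) : (sLE K a).X n ≅ K.X n :=
  haveI := isIso_πLE_f K a n hn
  (asIso ((πLE K a).f n)).symm

/-- the sub stupid truncation `σ_{> a} K` -/
noncomputable abbrev sGT : CochainComplex B ℤ := kernel (πLE K a)

/-- the inclusion `σ_{> a} K ⟶ K` -/
noncomputable abbrev ιGT : sGT K a ⟶ K := kernel.ι (πLE K a)

lemma ιGT_f_eq (n : ℤ) : (ιGT K a).f n =
    (PreservesKernel.iso (eval B (ComplexShape.up ℤ) n) (πLE K a)).hom ≫
      kernel.ι ((πLE K a).f n) := by
  rw [PreservesKernel.iso_hom]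
  exact (kernelComparison_comp_ι (πLE K a) (eval B (ComplexShape.up ℤ) n)).symm

lemma isIso_ιGT_f (n : ℤ) (hn : a < n) : IsIso ((ιGT K a).f n) := by
  rw [ιGT_f_eq]
  have h0 : (πLE K a).f n = 0 := (isZero_sLE_X K a n hn).eq_of_tgt _ _
  haveI : IsIso (kernel.ι ((πLE K a).f n)) := by
    have := KernelFork.IsLimit.isIso_ι (KernelFork.ofι (kernel.ι ((πLE K a).f n))
      (kernel.condition _)) (kernelIsKernel _) h0
    simpa using this
  exact IsIso.comp_isIso' (Iso.isIso_hom _) this

lemma isZero_sGT_X (n : ℤ) (hn : n ≤ a) : IsZero ((sGT K a).X n) := by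
  haveI := isIso_πLE_f K a n hn
  exact (isZero_kernel_of_mono ((πLE K a).f n)).of_iso
    (PreservesKernel.iso (eval B (ComplexShape.up ℤ) n) (πLE K a))

instance : (sGT K a).IsStrictlyGE (a + 1) := by
  rw [CochainComplex.isStrictlyGE_iff]
  intro i hi
  exact isZero_sGT_X K a i (by omega)

/-- the terms of `σ_{> a} K` -/
noncomputable def sGTXIso (n : ℤ) (hn : a < n) : (sGT K a).X n ≅ K.X n :=
  haveI := isIso_ιGT_f K a n hn
  asIso ((ιGT K a).f n)

instance : Epi (πLE K a) := by
  apply HomologicalComplex.epi_of_epi_f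
  intro n
  by_cases hn : n ≤ a
  · haveI := isIso_πLE_f K a n hn
    infer_instance
  · exact ⟨fun g h _ => (isZero_sLE_X K a n (by omega)).eq_of_src _ _⟩

/-- `0 ⟶ σ_{> a} K ⟶ K ⟶ σ_{≤ a} K ⟶ 0` -/
noncomputable def truncSES : ShortComplex (CochainComplex B ℤ) :=
  ShortComplex.mk (ιGT K a) (πLE K a) (kernel.condition _)

lemma truncSES_shortExact : (truncSES K a).ShortExact := by
  have hex : (truncSES K a).Exact :=
    ShortComplex.exact_of_f_is_kernel _ (kernelIsKernel (πLE K a))
  haveI : Mono (truncSES K a).f := by dsimp [truncSES]; infer_instance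
  haveI : Epi (truncSES K a).g := by dsimp [truncSES]; infer_instance
  exact ShortComplex.ShortExact.mk hex

end Groth.Agent.Helper9.Leray3
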