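import Mathlib

/-! Abstract calculus of "localization at an endomorphism" for Hom groups in a (pre)triangulated
category: `LocE α' α ρ E` says that precomposition with `ρ : G' ⟶ G` on maps to `E` is injective
and surjective up to powers of the endomorphisms `α'`, `α`.  (Endomorphism form of `QP1.LocHom`.) -/

set_option autoImplicit false
set_option linter.style.haveILetI false
set_option linter.unusedVariables false
set_option linter.unusedSectionVars false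

namespace Groth.Agent.Helper9.RH1

open CategoryTheory CategoryTheory.Limits Pretriangulated

variable {D : Type*} [Category D]

/-- powers of an endomorphism -/
def pw {G : D} (α : G ⟶ G) : ℕ → (G ⟶ G)
  | 0 => 𝟙 G
  | n + 1 => α ≫ pw α n

@[simp] lemma pw_zero {G : D} (α : G ⟶ G) : pw α 0 = 𝟙 G := rfl

lemma pw_succ {G : D} (α : G ⟶ G) (n : ℕ) : pw α (n + 1) = α ≫ pw α n := rfl

lemma pw_comm {G H : D} {α : G ⟶ G} {β : H ⟶ H} {f : G ⟶ H} (h : α ≫ f = f ≫ β) (n : ℕ) :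
    pw α n ≫ f = f ≫ pw β n := by
  induction n with
  | zero => simp
  | succ n ih => rw [pw_succ, pw_succ, Category.assoc, ih, ← Category.assoc, h, Category.assoc]

lemma pw_add {G : D} (α : G ⟶ G) (m n : ℕ) : pw α (m + n) = pw α m ≫ pw α n := by
  induction m with
  | zero => simp
  | succ m ih => rw [Nat.succ_add, pw_succ, pw_succ, ih, Category.assoc]

lemma pw_map {D' : Type*} [Category D'] (F : D ⥤ D') {G : D} (α : G ⟶ G) (n : ℕ) :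
    F.map (pw α n) = pw (F.map α) n := by
  induction n with
  | zero => simp
  | succ n ih => rw [pw_succ, pw_succ, F.map_comp, ih]

variable [Preadditive D]

/-- precomposition with `ρ` is, up to powers of the endomorphisms, injective and surjective on
maps to `E` -/
def LocE {G' G : D} (α' : G' ⟶ G') (α : G ⟶ G) (ρ : G' ⟶ G) (E : D) : Prop :=
  (∀ ψ : G ⟶ E, ρ ≫ ψ = 0 → ∃ n : ℕ, pw α n ≫ ψ = 0) ∧
  (∀ t : G' ⟶ E, ∃ (n : ℕ) (ψ : G ⟶ E), pw α' n ≫ t = ρ ≫ ψ)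

/-- invariance under isomorphisms of arrows -/
theorem LocE.of_iso {G' G G₁' G₁ E : D} {α' : G' ⟶ G'} {α : G ⟶ G} {ρ : G' ⟶ G}
    {α₁' : G₁' ⟶ G₁'} {α₁ : G₁ ⟶ G₁} {ρ₁ : G₁' ⟶ G₁}
    (h : LocE α' α ρ E) (e' : G₁' ≅ G') (e : G₁ ≅ G) (w : ρ₁ ≫ e.hom = e'.hom ≫ ρ)
    (w' : α₁' ≫ e'.hom = e'.hom ≫ α') (w'' : α₁ ≫ e.hom = e.hom ≫ α) :
    LocE α₁' α₁ ρ₁ E := by
  have winv : ρ ≫ e.inv = e'.inv ≫ ρ₁ := by
    rw [← cancel_mono e.hom, Category.assoc, Category.assoc, e.inv_hom_id, Category.comp_id,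
      w, e'.inv_hom_id_assoc]
  constructor
  · intro ψ₁ hψ₁
    obtain ⟨n, hn⟩ := h.1 (e.inv ≫ ψ₁) (by
      rw [← Category.assoc, winv, Category.assoc, hψ₁, comp_zero])
    refine ⟨n, ?_⟩
    have h1 := pw_comm w'' n
    rw [← cancel_epi e.inv]
    have : e.inv ≫ pw α₁ n = pw α n ≫ e.inv := by
      rw [← cancel_mono e.hom, Category.assoc, Category.assoc, e.inv_hom_id, Category.comp_id,
        h1, e.inv_hom_id_assoc]
    rw [← Category.assoc, this, Category.assoc, hn, comp_zero]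
  · intro t₁
    obtain ⟨n, ψ, hn⟩ := h.2 (e'.inv ≫ t₁)
    refine ⟨n, e.hom ≫ ψ, ?_⟩
    have h1 := pw_comm w' n
    rw [← Category.assoc, w, Category.assoc, ← hn, ← Category.assoc, ← h1, Category.assoc,
      e'.hom_inv_id_assoc]

/-- transfer along natural bijections of Hom sets -/
theorem LocE.of_equiv {D' : Type*} [Category D'] [Preadditive D']
    {G' G E : D} {α' : G' ⟶ G'} {α : G ⟶ G} {ρ : G' ⟶ G}
    {H' H F : D'} {β' : H' ⟶ H'} {β : H ⟶ H} {σ : H' ⟶ H}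
    (h : LocE β' β σ F)
    (Ψ' : (G' ⟶ E) ≃ (H' ⟶ F)) (Ψ : (G ⟶ E) ≃ (H ⟶ F))
    (hΨ0 : Ψ 0 = 0) (hΨ'0 : Ψ' 0 = 0)
    (hρ : ∀ ψ : G ⟶ E, Ψ' (ρ ≫ ψ) = σ ≫ Ψ ψ)
    (hα : ∀ ψ : G ⟶ E, Ψ (α ≫ ψ) = β ≫ Ψ ψ)
    (hα' : ∀ t : G' ⟶ E, Ψ' (α' ≫ t) = β' ≫ Ψ' t) :
    LocE α' α ρ E := by
  have hpw : ∀ (n : ℕ) (ψ : G ⟶ E), Ψ (pw α n ≫ ψ) = pw β n ≫ Ψ ψ := by
    intro n
    induction n with
    | zero => intro ψ; simp
    | succ n ih => intro ψ; rw [pw_succ, pw_succ, Category.assoc, hα, ih, Category.assoc]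
  have hpw' : ∀ (n : ℕ) (t : G' ⟶ E), Ψ' (pw α' n ≫ t) = pw β' n ≫ Ψ' t := by
    intro n
    induction n with
    | zero => intro t; simp
    | succ n ih => intro t; rw [pw_succ, pw_succ, Category.assoc, hα', ih, Category.assoc]
  constructor
  · intro ψ hψ
    obtain ⟨n, hn⟩ := h.1 (Ψ ψ) (by rw [← hρ, hψ, hΨ'0])
    refine ⟨n, Ψ.injective ?_⟩
    rw [hpw, hn, hΨ0]
  · intro t
    obtain ⟨n, χ, hn⟩ := h.2 (Ψ' t)
    refine ⟨n, Ψ.symm χ, Ψ'.injective ?_⟩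
    rw [hpw', hn, hρ, Equiv.apply_symm_apply]

/-- finite direct sums / retracts -/
theorem LocE.finsum {κ : Type*} [Fintype κ] {G' G E : D} {α' : G' ⟶ G'} {α : G ⟶ G} {ρ : G' ⟶ G}
    (Gk' Gk : κ → D) (αk' : ∀ k, Gk' k ⟶ Gk' k) (αk : ∀ k, Gk k ⟶ Gk k) (ρk : ∀ k, Gk' k ⟶ Gk k)
    (h : ∀ k, LocE (αk' k) (αk k) (ρk k) E)
    (i : ∀ k, Gk k ⟶ G) (p : ∀ k, G ⟶ Gk k) (i' : ∀ k, Gk' k ⟶ G') (p' : ∀ k, G' ⟶ Gk' k)
    (hG : ∑ k, p k ≫ i k = 𝟙 G) (hG' : ∑ k, p' k ≫ i' k = 𝟙 G')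
    (w : ∀ k, i' k ≫ ρ = ρk k ≫ i k) (v : ∀ k, ρ ≫ p k = p' k ≫ ρk k)
    (b : ∀ k, α ≫ p k = p k ≫ αk k) (b' : ∀ k, α' ≫ p' k = p' k ≫ αk' k)
    (c : ∀ k, αk' k ≫ ρk k = ρk k ≫ αk k) :
    LocE α' α ρ E := by
  classical
  constructor
  · intro ψ hψ
    have h1 : ∀ k, ∃ n : ℕ, pw (αk k) n ≫ i k ≫ ψ = 0 := fun k =>
      (h k).1 (i k ≫ ψ) (by rw [← Category.assoc, ← w, Category.assoc, hψ, comp_zero])
    choose n hn using h1
    refine ⟨∑ k, n k, ?_⟩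
    have e1 : ∀ k, pw (αk k) (∑ k, n k) ≫ i k ≫ ψ = 0 := by
      intro k
      have hle : n k ≤ ∑ k, n k := Finset.single_le_sum (f := n) (fun _ _ => Nat.zero_le _)
        (Finset.mem_univ k)
      obtain ⟨m, hm⟩ := Nat.exists_eq_add_of_le hle
      rw [hm, add_comm, pw_add, Category.assoc, hn, comp_zero]
    calc pw α (∑ k, n k) ≫ ψ = pw α (∑ k, n k) ≫ 𝟙 G ≫ ψ := by rw [Category.id_comp]
      _ = ∑ k, p k ≫ pw (αk k) (∑ k, n k) ≫ i k ≫ ψ := by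
        rw [← hG, Preadditive.sum_comp, Preadditive.comp_sum]
        refine Finset.sum_congr rfl (fun k _ => ?_)
        rw [Category.assoc, ← Category.assoc (pw α _) (p k), pw_comm (b k), Category.assoc]
      _ = 0 := by
        refine Finset.sum_eq_zero (fun k _ => ?_)
        rw [e1, comp_zero]
  · intro t
    have h1 : ∀ k, ∃ (n : ℕ) (ψ : Gk k ⟶ E), pw (αk' k) n ≫ i' k ≫ t = ρk k ≫ ψ := fun k =>
      (h k).2 (i' k ≫ t)
    choose n ψ hn using h1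
    have hle : ∀ k, n k ≤ ∑ k, n k := fun k =>
      Finset.single_le_sum (f := n) (fun _ _ => Nat.zero_le _) (Finset.mem_univ k)
    refine ⟨∑ k, n k, ∑ k, p k ≫ pw (αk k) ((∑ k, n k) - n k) ≫ ψ k, ?_⟩
    have e1 : ∀ k, pw (αk' k) (∑ k, n k) ≫ i' k ≫ t =
        ρk k ≫ pw (αk k) ((∑ k, n k) - n k) ≫ ψ k := by
      intro k
      have hm : ∑ k, n k = ((∑ k, n k) - n k) + n k := (Nat.sub_add_cancel (hle k)).symm
      conv_lhs => rw [hm, pw_add, Category.assoc, hn]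
      rw [← Category.assoc, pw_comm (c k), Category.assoc]
    calc pw α' (∑ k, n k) ≫ t = pw α' (∑ k, n k) ≫ 𝟙 G' ≫ t := by rw [Category.id_comp]
      _ = ∑ k, p' k ≫ pw (αk' k) (∑ k, n k) ≫ i' k ≫ t := by
        rw [← hG', Preadditive.sum_comp, Preadditive.comp_sum]
        refine Finset.sum_congr rfl (fun k _ => ?_)
        rw [Category.assoc, ← Category.assoc (pw α' _) (p' k), pw_comm (b' k), Category.assoc]
      _ = ρ ≫ ∑ k, p k ≫ pw (αk k) ((∑ k, n k) - n k) ≫ ψ k := by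
        rw [Preadditive.comp_sum]
        refine Finset.sum_congr rfl (fun k _ => ?_)
        rw [e1, ← Category.assoc ρ, v, Category.assoc]

section Tri

variable [HasZeroObject D] [HasShift D ℤ] [∀ n : ℤ, (shiftFunctor D n).Additive] [Pretriangulated D]

/-- five lemma: a morphism of distinguished triangles (with compatible endomorphisms) whose first
two components (and their shifts by one) are localizations on maps to `E` has the same property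
for the third -/
theorem LocE.triangle {E : D} (T' T : Triangle D) (hT' : T' ∈ distTriang D)
    (hT : T ∈ distTriang D) (φ : T' ⟶ T) (a' : T' ⟶ T') (a : T ⟶ T) (hc : a' ≫ φ = φ ≫ a)
    (h₁ : LocE a'.hom₁ a.hom₁ φ.hom₁ E) (h₂ : LocE a'.hom₂ a.hom₂ φ.hom₂ E)
    (h₁' : LocE (a'.hom₁⟦(1 : ℤ)⟧') (a.hom₁⟦(1 : ℤ)⟧') (φ.hom₁⟦(1 : ℤ)⟧') E)
    (h₂' : LocE (a'.hom₂⟦(1 : ℤ)⟧') (a.hom₂⟦(1 : ℤ)⟧') (φ.hom₂⟦(1 : ℤ)⟧') E) :
    LocE a'.hom₃ a.hom₃ φ.hom₃ E := by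
  have c₁ := φ.comm₁
  have c₂ := φ.comm₂
  have c₃ := φ.comm₃
  have hc1 : a'.hom₁ ≫ φ.hom₁ = φ.hom₁ ≫ a.hom₁ := congrArg TriangleMorphism.hom₁ hc
  have hc2 : a'.hom₂ ≫ φ.hom₂ = φ.hom₂ ≫ a.hom₂ := congrArg TriangleMorphism.hom₂ hc
  have hc3 : a'.hom₃ ≫ φ.hom₃ = φ.hom₃ ≫ a.hom₃ := congrArg TriangleMorphism.hom₃ hc
  have hc1s : a'.hom₁⟦(1 : ℤ)⟧' ≫ φ.hom₁⟦(1 : ℤ)⟧' = φ.hom₁⟦(1 : ℤ)⟧' ≫ a.hom₁⟦(1 : ℤ)⟧' := by
    rw [← Functor.map_comp, ← Functor.map_comp, hc1]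
  have hc2s : a'.hom₂⟦(1 : ℤ)⟧' ≫ φ.hom₂⟦(1 : ℤ)⟧' = φ.hom₂⟦(1 : ℤ)⟧' ≫ a.hom₂⟦(1 : ℤ)⟧' := by
    rw [← Functor.map_comp, ← Functor.map_comp, hc2]
  -- endomorphisms commute with the maps of the triangles
  have t2 : a.hom₂ ≫ T.mor₂ = T.mor₂ ≫ a.hom₃ := a.comm₂.symm
  have t3 : a.hom₃ ≫ T.mor₃ = T.mor₃ ≫ a.hom₁⟦(1 : ℤ)⟧' := a.comm₃.symm
  have t1s : a.hom₁⟦(1 : ℤ)⟧' ≫ T.mor₁⟦(1 : ℤ)⟧' = T.mor₁⟦(1 : ℤ)⟧' ≫ a.hom₂⟦(1 : ℤ)⟧' := by
    rw [← Functor.map_comp, ← Functor.map_comp, a.comm₁]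
  have t2' : a'.hom₂ ≫ T'.mor₂ = T'.mor₂ ≫ a'.hom₃ := a'.comm₂.symm
  have t3' : a'.hom₃ ≫ T'.mor₃ = T'.mor₃ ≫ a'.hom₁⟦(1 : ℤ)⟧' := a'.comm₃.symm
  have t1s' : a'.hom₁⟦(1 : ℤ)⟧' ≫ T'.mor₁⟦(1 : ℤ)⟧' = T'.mor₁⟦(1 : ℤ)⟧' ≫ a'.hom₂⟦(1 : ℤ)⟧' := by
    rw [← Functor.map_comp, ← Functor.map_comp, a'.comm₁]
  have t1 : a.hom₁ ≫ T.mor₁ = T.mor₁ ≫ a.hom₂ := a.comm₁.symm
  have t1' : a'.hom₁ ≫ T'.mor₁ = T'.mor₁ ≫ a'.hom₂ := a'.comm₁.symm
  constructor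
  · intro ψ hψ
    -- step 1
    obtain ⟨n, hn⟩ := h₂.1 (T.mor₂ ≫ ψ) (by
      rw [← Category.assoc, ← c₂, Category.assoc, hψ, comp_zero])
    obtain ⟨χ, hχ⟩ := Triangle.yoneda_exact₃ T hT (pw a.hom₃ n ≫ ψ) (by
      rw [← Category.assoc, ← pw_comm t2 n, Category.assoc, hn])
    -- step 2
    have hrot := rot_of_distTriang _ hT'
    obtain ⟨ω, hω⟩ : ∃ ω : T'.obj₂⟦(1 : ℤ)⟧ ⟶ E,
        φ.hom₁⟦(1 : ℤ)⟧' ≫ χ = (-T'.mor₁⟦(1 : ℤ)⟧') ≫ ω :=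
      Triangle.yoneda_exact₃ T'.rotate hrot (φ.hom₁⟦(1 : ℤ)⟧' ≫ χ) (by
        show T'.mor₃ ≫ φ.hom₁⟦(1 : ℤ)⟧' ≫ χ = 0
        rw [← Category.assoc, c₃, Category.assoc, ← hχ, ← Category.assoc, ← pw_comm hc3 n,
          Category.assoc, hψ, comp_zero])
    have hω' : φ.hom₁⟦(1 : ℤ)⟧' ≫ χ = -(T'.mor₁⟦(1 : ℤ)⟧' ≫ ω) := by
      rw [hω, Preadditive.neg_comp]
    -- step 3
    obtain ⟨k, ω₁, hk⟩ := h₂'.2 ω
    have hcc : T'.mor₁⟦(1 : ℤ)⟧' ≫ φ.hom₂⟦(1 : ℤ)⟧' = φ.hom₁⟦(1 : ℤ)⟧' ≫ T.mor₁⟦(1 : ℤ)⟧' := by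
      rw [← Functor.map_comp, ← Functor.map_comp, c₁]
    obtain ⟨l, hl⟩ := h₁'.1 (pw (a.hom₁⟦(1 : ℤ)⟧') k ≫ χ + T.mor₁⟦(1 : ℤ)⟧' ≫ ω₁) (by
      rw [Preadditive.comp_add, ← Category.assoc, ← pw_comm hc1s k, Category.assoc, hω',
        Preadditive.comp_neg, ← Category.assoc, pw_comm t1s' k, Category.assoc, hk,
        ← Category.assoc, hcc, Category.assoc, neg_add_cancel])
    refine ⟨l + (k + n), ?_⟩
    have h0 : T.mor₃ ≫ T.mor₁⟦(1 : ℤ)⟧' = 0 := comp_distTriang_mor_zero₃₁ _ hT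
    have e1 : pw (a.hom₁⟦(1 : ℤ)⟧') l ≫ pw (a.hom₁⟦(1 : ℤ)⟧') k ≫ χ =
        -(pw (a.hom₁⟦(1 : ℤ)⟧') l ≫ T.mor₁⟦(1 : ℤ)⟧' ≫ ω₁) := by
      rw [Preadditive.comp_add] at hl
      exact eq_neg_of_add_eq_zero_left hl
    calc pw a.hom₃ (l + (k + n)) ≫ ψ = pw a.hom₃ l ≫ pw a.hom₃ k ≫ pw a.hom₃ n ≫ ψ := by
          rw [pw_add, pw_add, Category.assoc, Category.assoc]
      _ = T.mor₃ ≫ pw (a.hom₁⟦(1 : ℤ)⟧') l ≫ pw (a.hom₁⟦(1 : ℤ)⟧') k ≫ χ := by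
          rw [hχ, ← Category.assoc (pw a.hom₃ k), pw_comm t3 k, Category.assoc,
            ← Category.assoc (pw a.hom₃ l), pw_comm t3 l, Category.assoc]
      _ = 0 := by
          rw [e1, Preadditive.comp_neg, ← Category.assoc (pw _ l), pw_comm t1s l, Category.assoc,
            ← Category.assoc, h0, zero_comp, neg_zero]
  · intro t
    -- step 1
    obtain ⟨n, ψ₁, hn⟩ := h₂.2 (T'.mor₂ ≫ t)
    -- step 2
    have h0' : T'.mor₁ ≫ T'.mor₂ = 0 := comp_distTriang_mor_zero₁₂ _ hT'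
    obtain ⟨k, hk⟩ := h₁.1 (T.mor₁ ≫ ψ₁) (by
      rw [← Category.assoc, ← c₁, Category.assoc, ← hn, ← Category.assoc, ← pw_comm t1' n,
        Category.assoc, ← Category.assoc T'.mor₁, h0', zero_comp, comp_zero])
    obtain ⟨ψ₂, hψ₂⟩ := Triangle.yoneda_exact₂ T hT (pw a.hom₂ k ≫ ψ₁) (by
      rw [← Category.assoc, ← pw_comm t1 k, Category.assoc, hk])
    -- step 3
    obtain ⟨χ', hχ'⟩ := Triangle.yoneda_exact₃ T' hT' (φ.hom₃ ≫ ψ₂ - pw a'.hom₃ (k + n) ≫ t) (by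
      rw [Preadditive.comp_sub, ← Category.assoc, c₂, Category.assoc, ← hψ₂,
        ← Category.assoc, ← pw_comm hc2 k, Category.assoc, ← hn, ← Category.assoc T'.mor₂,
        ← pw_comm t2' (k + n), pw_add, Category.assoc, Category.assoc, sub_self])
    -- step 4
    obtain ⟨l, χ, hl⟩ := h₁'.2 χ'
    refine ⟨l + (k + n), pw a.hom₃ l ≫ ψ₂ - T.mor₃ ≫ χ, ?_⟩
    have e1 : pw a'.hom₃ l ≫ (φ.hom₃ ≫ ψ₂ - pw a'.hom₃ (k + n) ≫ t) = φ.hom₃ ≫ T.mor₃ ≫ χ := by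
      rw [hχ', ← Category.assoc, pw_comm t3' l, Category.assoc, hl, ← Category.assoc, c₃,
        Category.assoc]
    rw [Preadditive.comp_sub, ← e1, Preadditive.comp_sub, ← Category.assoc (pw a'.hom₃ l) φ.hom₃,
      pw_comm hc3 l, Category.assoc, pw_add, Category.assoc]
    abel

end Tri

section Good

variable [HasZeroObject D] [HasShift D ℤ] [∀ n : ℤ, (shiftFunctor D n).Additive] [Pretriangulated D]

/-- all shifts of `ρ` are localizations on maps to objects of `P` -/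
def GoodE (P : ObjectProperty D) {G' G : D} (α' : G' ⟶ G') (α : G ⟶ G) (ρ : G' ⟶ G) : Prop :=
  ∀ E, P E → ∀ n : ℤ, LocE (α'⟦n⟧') (α⟦n⟧') (ρ⟦n⟧') E

theorem GoodE.of_iso {P : ObjectProperty D} {G' G G₁' G₁ : D} {α' : G' ⟶ G'} {α : G ⟶ G}
    {ρ : G' ⟶ G} {α₁' : G₁' ⟶ G₁'} {α₁ : G₁ ⟶ G₁} {ρ₁ : G₁' ⟶ G₁}
    (h : GoodE P α' α ρ) (e' : G₁' ≅ G') (e : G₁ ≅ G) (w : ρ₁ ≫ e.hom = e'.hom ≫ ρ)
    (w' : α₁' ≫ e'.hom = e'.hom ≫ α') (w'' : α₁ ≫ e.hom = e.hom ≫ α) :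
    GoodE P α₁' α₁ ρ₁ := by
  intro E hE n
  refine (h E hE n).of_iso ((shiftFunctor D n).mapIso e') ((shiftFunctor D n).mapIso e) ?_ ?_ ?_
  · simp only [Functor.mapIso_hom, ← Functor.map_comp, w]
  · simp only [Functor.mapIso_hom, ← Functor.map_comp, w']
  · simp only [Functor.mapIso_hom, ← Functor.map_comp, w'']

theorem LocE.shift_succ {G' G E : D} {α' : G' ⟶ G'} {α : G ⟶ G} {ρ : G' ⟶ G} (n : ℤ)
    (h : LocE (α'⟦n + 1⟧') (α⟦n + 1⟧') (ρ⟦n + 1⟧') E) :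
    LocE ((α'⟦n⟧')⟦(1 : ℤ)⟧') ((α⟦n⟧')⟦(1 : ℤ)⟧') ((ρ⟦n⟧')⟦(1 : ℤ)⟧') E := by
  refine h.of_iso ((shiftFunctorAdd' D n 1 (n + 1) rfl).app G').symm
    ((shiftFunctorAdd' D n 1 (n + 1) rfl).app G).symm ?_ ?_ ?_
  · simp only [Iso.symm_hom, Iso.app_inv]
    exact ((shiftFunctorAdd' D n 1 (n + 1) rfl).inv.naturality ρ)
  · simp only [Iso.symm_hom, Iso.app_inv]
    exact ((shiftFunctorAdd' D n 1 (n + 1) rfl).inv.naturality α')
  · simp only [Iso.symm_hom, Iso.app_inv]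
    exact ((shiftFunctorAdd' D n 1 (n + 1) rfl).inv.naturality α)

/-- shifting -/
theorem GoodE.shift {P : ObjectProperty D} {G' G : D} {α' : G' ⟶ G'} {α : G ⟶ G} {ρ : G' ⟶ G}
    (h : GoodE P α' α ρ) (m : ℤ) : GoodE P (α'⟦m⟧') (α⟦m⟧') (ρ⟦m⟧') := by
  intro E hE n
  refine (h E hE (m + n)).of_iso ((shiftFunctorAdd' D m n (m + n) rfl).app G').symm
    ((shiftFunctorAdd' D m n (m + n) rfl).app G).symm ?_ ?_ ?_
  · simp only [Iso.symm_hom, Iso.app_inv]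
    exact ((shiftFunctorAdd' D m n (m + n) rfl).inv.naturality ρ)
  · simp only [Iso.symm_hom, Iso.app_inv]
    exact ((shiftFunctorAdd' D m n (m + n) rfl).inv.naturality α')
  · simp only [Iso.symm_hom, Iso.app_inv]
    exact ((shiftFunctorAdd' D m n (m + n) rfl).inv.naturality α)

/-- unshifting -/
theorem GoodE.of_shift {P : ObjectProperty D} {G' G : D} {α' : G' ⟶ G'} {α : G ⟶ G} {ρ : G' ⟶ G}
    (m : ℤ) (h : GoodE P (α'⟦m⟧') (α⟦m⟧') (ρ⟦m⟧')) : GoodE P α' α ρ := by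
  intro E hE n
  refine (h E hE (n - m)).of_iso ((shiftFunctorAdd' D m (n - m) n (by omega)).app G')
    ((shiftFunctorAdd' D m (n - m) n (by omega)).app G) ?_ ?_ ?_
  · simp only [Iso.app_hom]
    exact ((shiftFunctorAdd' D m (n - m) n (by omega)).hom.naturality ρ)
  · simp only [Iso.app_hom]
    exact ((shiftFunctorAdd' D m (n - m) n (by omega)).hom.naturality α')
  · simp only [Iso.app_hom]
    exact ((shiftFunctorAdd' D m (n - m) n (by omega)).hom.naturality α)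

theorem GoodE.triangle {P : ObjectProperty D} (T' T : Triangle D)
    (hT' : T' ∈ distTriang D) (hT : T ∈ distTriang D) (φ : T' ⟶ T) (a' : T' ⟶ T') (a : T ⟶ T)
    (hc : a' ≫ φ = φ ≫ a)
    (h₁ : GoodE P a'.hom₁ a.hom₁ φ.hom₁) (h₂ : GoodE P a'.hom₂ a.hom₂ φ.hom₂) :
    GoodE P a'.hom₃ a.hom₃ φ.hom₃ := by
  intro E hE n
  have hc' : (CategoryTheory.shiftFunctor (Triangle D) n).map a' ≫
      (CategoryTheory.shiftFunctor (Triangle D) n).map φ =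
      (CategoryTheory.shiftFunctor (Triangle D) n).map φ ≫
        (CategoryTheory.shiftFunctor (Triangle D) n).map a := by
    rw [← Functor.map_comp, ← Functor.map_comp, hc]
  exact LocE.triangle _ _ (Triangle.shift_distinguished T' hT' n)
    (Triangle.shift_distinguished T hT n)
    ((CategoryTheory.shiftFunctor (Triangle D) n).map φ)
    ((CategoryTheory.shiftFunctor (Triangle D) n).map a')
    ((CategoryTheory.shiftFunctor (Triangle D) n).map a) hc'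
    (h₁ E hE n) (h₂ E hE n)
    ((h₁ E hE (n + 1)).shift_succ n) ((h₂ E hE (n + 1)).shift_succ n)

/-- the middle term from the outer ones -/
theorem GoodE.triangle₂ {P : ObjectProperty D} (T' T : Triangle D)
    (hT' : T' ∈ distTriang D) (hT : T ∈ distTriang D) (φ : T' ⟶ T) (a' : T' ⟶ T') (a : T ⟶ T)
    (hc : a' ≫ φ = φ ≫ a)
    (h₁ : GoodE P a'.hom₁ a.hom₁ φ.hom₁) (h₃ : GoodE P a'.hom₃ a.hom₃ φ.hom₃) :
    GoodE P a'.hom₂ a.hom₂ φ.hom₂ := by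
  have hr' := rot_of_distTriang _ (rot_of_distTriang _ hT')
  have hr := rot_of_distTriang _ (rot_of_distTriang _ hT)
  let R := Pretriangulated.rotate D ⋙ Pretriangulated.rotate D
  have hcR : R.map a' ≫ R.map φ = R.map φ ≫ R.map a := by
    rw [← Functor.map_comp, ← Functor.map_comp, hc]
  have key := GoodE.triangle (P := P) _ _ hr' hr (R.map φ) (R.map a') (R.map a) hcR h₃
    (h₁.shift 1)
  exact GoodE.of_shift 1 key

/-- decomposition along an additive functor -/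
theorem GoodE.of_decomp {P : ObjectProperty D} {C : Type*} [Category C] [Preadditive C]
    (F' F : C ⥤ D) [F'.Additive] [F.Additive] (τ : F' ⟶ F) (a' : F' ⟶ F') (a : F ⟶ F)
    (hc : a' ≫ τ = τ ≫ a) {κ : Type*} [Fintype κ] (N : C) (Nk : κ → C)
    (i : ∀ k, Nk k ⟶ N) (p : ∀ k, N ⟶ Nk k) (hN : ∑ k, p k ≫ i k = 𝟙 N)
    (h : ∀ k, GoodE P (a'.app (Nk k)) (a.app (Nk k)) (τ.app (Nk k))) :
    GoodE P (a'.app N) (a.app N) (τ.app N) := by
  intro E hE n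
  let S := shiftFunctor D n
  refine LocE.finsum (fun k => S.obj (F'.obj (Nk k))) (fun k => S.obj (F.obj (Nk k)))
    (fun k => S.map (a'.app (Nk k))) (fun k => S.map (a.app (Nk k)))
    (fun k => S.map (τ.app (Nk k))) (fun k => h k E hE n)
    (fun k => S.map (F.map (i k))) (fun k => S.map (F.map (p k)))
    (fun k => S.map (F'.map (i k))) (fun k => S.map (F'.map (p k))) ?_ ?_ ?_ ?_ ?_ ?_ ?_
  · have : ∑ k, S.map (F.map (p k)) ≫ S.map (F.map (i k)) = S.map (F.map (∑ k, p k ≫ i k)) := by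
      rw [Functor.map_sum, Functor.map_sum]
      refine Finset.sum_congr rfl (fun k _ => ?_)
      rw [Functor.map_comp, Functor.map_comp]
    rw [this, hN, CategoryTheory.Functor.map_id, CategoryTheory.Functor.map_id]
  · have : ∑ k, S.map (F'.map (p k)) ≫ S.map (F'.map (i k)) = S.map (F'.map (∑ k, p k ≫ i k)) := by
      rw [Functor.map_sum, Functor.map_sum]
      refine Finset.sum_congr rfl (fun k _ => ?_)
      rw [Functor.map_comp, Functor.map_comp]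
    rw [this, hN, CategoryTheory.Functor.map_id, CategoryTheory.Functor.map_id]
  · intro k
    show S.map (F'.map (i k)) ≫ S.map (τ.app N) = S.map (τ.app (Nk k)) ≫ S.map (F.map (i k))
    rw [← Functor.map_comp, ← Functor.map_comp, τ.naturality]
  · intro k
    show S.map (τ.app N) ≫ S.map (F.map (p k)) = S.map (F'.map (p k)) ≫ S.map (τ.app (Nk k))
    rw [← Functor.map_comp, ← Functor.map_comp, τ.naturality]
  · intro k
    show S.map (a.app N) ≫ S.map (F.map (p k)) = S.map (F.map (p k)) ≫ S.map (a.app (Nk k))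
    rw [← Functor.map_comp, ← Functor.map_comp, a.naturality]
  · intro k
    show S.map (a'.app N) ≫ S.map (F'.map (p k)) = S.map (F'.map (p k)) ≫ S.map (a'.app (Nk k))
    rw [← Functor.map_comp, ← Functor.map_comp, a'.naturality]
  · intro k
    show S.map (a'.app (Nk k)) ≫ S.map (τ.app (Nk k)) = S.map (τ.app (Nk k)) ≫ S.map (a.app (Nk k))
    rw [← Functor.map_comp, ← Functor.map_comp]
    congr 1
    exact congrArg (fun t => t.app (Nk k)) hc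

end Good

end Groth.Agent.Helper9.RH1
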