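import Mathlib
import Groth.Agent.Helper9.RH1
import Groth.Agent.Helper9.Leray3

/-! Dévissage on bounded complexes for the localization property `GoodE`, at the level of
functors on cochain complexes. -/

set_option autoImplicit false
set_option linter.style.haveILetI false
set_option linter.unusedVariables false
set_option linter.unusedSectionVars false

namespace Groth.Agent.Helper9.RH6a

open CategoryTheory CategoryTheory.Limits Pretriangulated HomologicalComplex DerivedCategory
open Groth.Agent.Helper9.RH1 Groth.Agent.Helper9.Leray3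

universe w v u

section Zero

variable {D : Type*} [Category D] [Preadditive D]

lemma locE_of_isZero {G' G E : D} (α' : G' ⟶ G') (α : G ⟶ G) (ρ : G' ⟶ G)
    (hG' : IsZero G') (hG : IsZero G) : LocE α' α ρ E := by
  constructor
  · intro ψ _
    exact ⟨0, hG.eq_of_src _ _⟩
  · intro t
    exact ⟨0, 0, hG'.eq_of_src _ _⟩

variable [HasZeroObject D] [HasShift D ℤ] [∀ n : ℤ, (shiftFunctor D n).Additive] [Pretriangulated D]

lemma goodE_of_isZero (P : ObjectProperty D) {G' G : D} (α' : G' ⟶ G') (α : G ⟶ G) (ρ : G' ⟶ G)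
    (hG' : IsZero G') (hG : IsZero G) : GoodE P α' α ρ := by
  intro E _ n
  exact locE_of_isZero _ _ _ ((shiftFunctor D n).map_isZero hG') ((shiftFunctor D n).map_isZero hG)

end Zero

variable {A : Type u} [Category.{v} A] [Abelian A] [HasDerivedCategory.{w} A]

/-- an additive functor sends degreewise split short exact sequences of complexes to short exact
sequences -/
lemma shortExact_map_of_splitting (Φ : A ⥤ A) [Φ.Additive]
    (S : ShortComplex (CochainComplex A ℤ))
    (hs : ∀ n : ℤ, Nonempty ((S.map (eval A (ComplexShape.up ℤ) n)).Splitting)) :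
    (S.map (Φ.mapHomologicalComplex (ComplexShape.up ℤ))).ShortExact := by
  refine HomologicalComplex.shortExact_of_degreewise_shortExact _ (fun n => ?_)
  obtain ⟨s⟩ := hs n
  exact (s.map Φ).shortExact

/-- the stupid truncation sequence is degreewise split -/
lemma truncSES_splitting (K : CochainComplex A ℤ) (a n : ℤ) :
    Nonempty (((truncSES K a).map (eval A (ComplexShape.up ℤ) n)).Splitting) := by
  by_cases hn : n ≤ a
  · exact ⟨ShortComplex.Splitting.ofIsZeroOfIsIso _ (isZero_sGT_X K a n hn) (isIso_πLE_f K a n hn)⟩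
  · exact ⟨ShortComplex.Splitting.ofIsIsoOfIsZero _ (isIso_ιGT_f K a n (by omega))
      (isZero_sLE_X K a n (by omega))⟩

lemma isZero_of_X (E : CochainComplex A ℤ) (h : ∀ i, IsZero (E.X i)) : IsZero E := by
  rw [IsZero.iff_id_eq_zero]
  ext i
  exact (h i).eq_of_src _ _

variable (Ψ' Ψ : CochainComplex A ℤ ⥤ CochainComplex A ℤ) [Ψ'.Additive] [Ψ.Additive]
  (ν : Ψ' ⟶ Ψ) (a' : Ψ' ⟶ Ψ') (a : Ψ ⟶ Ψ)
  (P : ObjectProperty (DerivedCategory A))

/-- the localization property for the value of the functors at `E` -/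
def G (E : CochainComplex A ℤ) : Prop :=
  GoodE P (Q.map (a'.app E)) (Q.map (a.app E)) (Q.map (ν.app E))

variable {Ψ' Ψ ν a' a P}

lemma G.of_iso {E E' : CochainComplex A ℤ} (e : E ≅ E') (h : G Ψ' Ψ ν a' a P E) :
    G Ψ' Ψ ν a' a P E' := by
  refine GoodE.of_iso h (Q.mapIso (Ψ'.mapIso e.symm)) (Q.mapIso (Ψ.mapIso e.symm)) ?_ ?_ ?_
  · simp only [Functor.mapIso_hom, Iso.symm_hom, ← Functor.map_comp, ν.naturality]
  · simp only [Functor.mapIso_hom, Iso.symm_hom, ← Functor.map_comp, a'.naturality]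
  · simp only [Functor.mapIso_hom, Iso.symm_hom, ← Functor.map_comp, a.naturality]

lemma G.of_isZero {E : CochainComplex A ℤ} (hE : IsZero E) : G Ψ' Ψ ν a' a P E :=
  goodE_of_isZero P _ _ _ (Q.map_isZero (Ψ'.map_isZero hE)) (Q.map_isZero (Ψ.map_isZero hE))

lemma G.of_ses (hc : a' ≫ ν = ν ≫ a) (S : ShortComplex (CochainComplex A ℤ))
    (h' : (S.map Ψ').ShortExact) (h : (S.map Ψ).ShortExact)
    (h₁ : G Ψ' Ψ ν a' a P S.X₁) (h₃ : G Ψ' Ψ ν a' a P S.X₃) : G Ψ' Ψ ν a' a P S.X₂ := by
  let φ := triangleOfSES.map h' h (S.mapNatTrans ν)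
  let α' := triangleOfSES.map h' h' (S.mapNatTrans a')
  let α := triangleOfSES.map h h (S.mapNatTrans a)
  have hcomp : α' ≫ φ = φ ≫ α := by
    ext
    · show Q.map (a'.app S.X₁) ≫ Q.map (ν.app S.X₁) = Q.map (ν.app S.X₁) ≫ Q.map (a.app S.X₁)
      rw [← Functor.map_comp, ← Functor.map_comp, ← NatTrans.comp_app, ← NatTrans.comp_app, hc]
    · show Q.map (a'.app S.X₂) ≫ Q.map (ν.app S.X₂) = Q.map (ν.app S.X₂) ≫ Q.map (a.app S.X₂)
      rw [← Functor.map_comp, ← Functor.map_comp, ← NatTrans.comp_app, ← NatTrans.comp_app, hc]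
    · show Q.map (a'.app S.X₃) ≫ Q.map (ν.app S.X₃) = Q.map (ν.app S.X₃) ≫ Q.map (a.app S.X₃)
      rw [← Functor.map_comp, ← Functor.map_comp, ← NatTrans.comp_app, ← NatTrans.comp_app, hc]
  exact GoodE.triangle₂ _ _ (triangleOfSES_distinguished h') (triangleOfSES_distinguished h)
    φ α' α hcomp h₁ h₃

lemma G.of_decomp (hc : a' ≫ ν = ν ≫ a) {κ : Type*} [Fintype κ] (N : CochainComplex A ℤ)
    (Nk : κ → CochainComplex A ℤ) (i : ∀ k, Nk k ⟶ N) (p : ∀ k, N ⟶ Nk k)
    (hN : ∑ k, p k ≫ i k = 𝟙 N) (h : ∀ k, G Ψ' Ψ ν a' a P (Nk k)) : G Ψ' Ψ ν a' a P N := by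
  have hc' : Functor.whiskerRight a' Q ≫ Functor.whiskerRight ν Q =
      Functor.whiskerRight ν Q ≫ Functor.whiskerRight a Q := by
    rw [← Functor.whiskerRight_comp, ← Functor.whiskerRight_comp, hc]
  exact GoodE.of_decomp (Ψ' ⋙ Q) (Ψ ⋙ Q) (Functor.whiskerRight ν Q) (Functor.whiskerRight a' Q)
    (Functor.whiskerRight a Q) hc' N Nk i p hN h

/-- dévissage: the localization property for single complexes with terms in `𝒞` implies it for
all bounded complexes with terms in `𝒞` -/
theorem G.of_bounded (hc : a' ≫ ν = ν ≫ a) (𝒞 : ObjectProperty A)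
    (h𝒞iso : ∀ {M M' : A}, (M ≅ M') → 𝒞 M → 𝒞 M') (h𝒞0 : ∀ M : A, IsZero M → 𝒞 M)
    (hsplit' : ∀ S : ShortComplex (CochainComplex A ℤ),
      (∀ n : ℤ, Nonempty ((S.map (eval A (ComplexShape.up ℤ) n)).Splitting)) →
        (S.map Ψ').ShortExact)
    (hsplit : ∀ S : ShortComplex (CochainComplex A ℤ),
      (∀ n : ℤ, Nonempty ((S.map (eval A (ComplexShape.up ℤ) n)).Splitting)) →
        (S.map Ψ).ShortExact)
    (hbase : ∀ M : A, 𝒞 M → ∀ k : ℤ,
      G Ψ' Ψ ν a' a P ((HomologicalComplex.single A (ComplexShape.up ℤ) k).obj M)) :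
    ∀ (n : ℕ) (E : CochainComplex A ℤ) (lo hi : ℤ), hi - lo + 1 ≤ n → (∀ i, 𝒞 (E.X i)) →
      (∀ i, i < lo → IsZero (E.X i)) → (∀ i, hi < i → IsZero (E.X i)) → G Ψ' Ψ ν a' a P E := by
  intro n
  induction n with
  | zero =>
    intro E lo hi hn _ hlo hhi
    refine G.of_isZero (isZero_of_X E (fun i => ?_))
    by_cases h : i < lo
    · exact hlo i h
    · exact hhi i (by omega)
  | succ n ih =>
    intro E lo hi hn hE hlo hhi
    let S := truncSES E (hi - 1)
    have hS' := hsplit' S (fun k => truncSES_splitting E (hi - 1) k)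
    have hS := hsplit S (fun k => truncSES_splitting E (hi - 1) k)
    refine G.of_ses hc S hS' hS ?_ ?_
    · -- the top term
      haveI : (sGT E (hi - 1)).IsStrictlyGE hi := by
        rw [CochainComplex.isStrictlyGE_iff]
        intro i hi'
        exact isZero_sGT_X E (hi - 1) i (by omega)
      haveI : (sGT E (hi - 1)).IsStrictlyLE hi := by
        rw [CochainComplex.isStrictlyLE_iff]
        intro i hi'
        exact (hhi i hi').of_iso (sGTXIso E (hi - 1) i (by omega))
      obtain ⟨M, ⟨e⟩⟩ := CochainComplex.exists_iso_single (sGT E (hi - 1)) hi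
      have eM : M ≅ E.X hi :=
        (HomologicalComplex.singleObjXSelf (ComplexShape.up ℤ) hi M).symm ≪≫
          ((HomologicalComplex.eval A (ComplexShape.up ℤ) hi).mapIso e).symm ≪≫
          sGTXIso E (hi - 1) hi (by omega)
      exact G.of_iso e.symm (hbase M (h𝒞iso eM.symm (hE hi)) hi)
    · -- the rest
      refine ih (sLE E (hi - 1)) lo (hi - 1) (by omega) (fun i => ?_) (fun i hi' => ?_)
        (fun i hi' => isZero_sLE_X E (hi - 1) i hi')
      · by_cases h : i ≤ hi - 1
        · exact h𝒞iso (sLEXIso E (hi - 1) i h).symm (hE i)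
        · exact h𝒞0 _ (isZero_sLE_X E (hi - 1) i (by omega))
      · by_cases h : i ≤ hi - 1
        · exact (hlo i hi').of_iso (sLEXIso E (hi - 1) i h)
        · exact isZero_sLE_X E (hi - 1) i (by omega)

end Groth.Agent.Helper9.RH6a
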