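import Mathlib
import Groth.Prelude.Def_KFlatSite
import Groth.Agent.Helper9.RH6a
import Groth.Agent.Helper9.Unitor1
import Groth.Agent.Helper9.LTCx4

/-! Dévissage for `E ↦ G ⊗ E` on bounded complexes of finite free modules (ringed sites). -/

set_option autoImplicit false
set_option linter.style.haveILetI false
set_option linter.unusedVariables false
set_option linter.unusedSectionVars false
universe u

namespace Groth.Agent.Helper9.RH6c

open CategoryTheory CategoryTheory.Limits Pretriangulated HomologicalComplex DerivedCategory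
open Groth.Agent.Helper9.RH1 Groth.Agent.Helper9.RH6a Groth.Agent.Helper9.TensorAdj

attribute [local instance] HasDerivedCategory.standard

section Generic

variable {V W : Type*} [Category V] [Category W] [HasZeroMorphisms V] [HasZeroMorphisms W]
  [HasZeroObject V] [HasZeroObject W] {Φ' Φ : V ⥤ W} [Φ'.PreservesZeroMorphisms]
  [Φ.PreservesZeroMorphisms] (τ : Φ' ⟶ Φ) {ι : Type*} (c : ComplexShape ι) [DecidableEq ι]

set_option backward.isDefEq.respectTransparency false in
lemma singleMap_nat (k : ι) (N : V) :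
    (NatTrans.mapHomologicalComplex τ c).app ((single V c k).obj N) ≫
        (singleMapHomologicalComplex Φ c k).hom.app N =
      (singleMapHomologicalComplex Φ' c k).hom.app N ≫ (single W c k).map (τ.app N) := by
  apply HomologicalComplex.to_single_hom_ext
  rw [HomologicalComplex.comp_f, HomologicalComplex.comp_f,
    singleMapHomologicalComplex_hom_app_self, singleMapHomologicalComplex_hom_app_self,
    single_map_f_self]
  have n := τ.naturality (singleObjXSelf c k N).hom
  simp only [NatTrans.mapHomologicalComplex_app_f, Category.assoc, Iso.inv_hom_id_assoc]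
  rw [← Category.assoc, ← n, Category.assoc]

end Generic

variable {C : Type u} [SmallCategory C] {J : GrothendieckTopology C} {O : Sheaf J CommRingCat.{u}}

/-- `E ↦ G ⊗ E` termwise -/
noncomputable abbrev ΨG (G : ModSite.Mod O) :
    CochainComplex (ModSite.Mod O) ℤ ⥤ CochainComplex (ModSite.Mod O) ℤ :=
  ((ModSite.tensorBi O).obj G).mapHomologicalComplex (ComplexShape.up ℤ)

/-- the transformation induced by a morphism in the first variable -/
noncomputable abbrev νr {G' G : ModSite.Mod O} (r : G' ⟶ G) : ΨG G' ⟶ ΨG G :=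
  NatTrans.mapHomologicalComplex ((ModSite.tensorBi O).map r) (ComplexShape.up ℤ)

lemma νr_comp {G'' G' G : ModSite.Mod O} (r : G'' ⟶ G') (s : G' ⟶ G) :
    νr (r ≫ s) = νr r ≫ νr s := by
  unfold νr
  rw [Functor.map_comp, NatTrans.mapHomologicalComplex_comp]

/-- `G ⊗ O[-k] ≅ G[-k]` as complexes -/
noncomputable def baseIsoC (G : ModSite.Mod O) (k : ℤ) :
    (ΨG G).obj ((single (ModSite.Mod O) (ComplexShape.up ℤ) k).obj (ModSite.unit O)) ≅
      (single (ModSite.Mod O) (ComplexShape.up ℤ) k).obj G :=
  (singleMapHomologicalComplex ((ModSite.tensorBi O).obj G) (ComplexShape.up ℤ) k).app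
      (ModSite.unit O) ≪≫
    (single (ModSite.Mod O) (ComplexShape.up ℤ) k).mapIso (Groth.Agent.Helper9.Unitor1.rUnitor O G)

lemma baseIsoC_nat {G' G : ModSite.Mod O} (r : G' ⟶ G) (k : ℤ) :
    (νr r).app ((single (ModSite.Mod O) (ComplexShape.up ℤ) k).obj (ModSite.unit O)) ≫
        (baseIsoC G k).hom =
      (baseIsoC G' k).hom ≫ (single (ModSite.Mod O) (ComplexShape.up ℤ) k).map r := by
  have h1 := singleMap_nat ((ModSite.tensorBi O).map r) (ComplexShape.up ℤ) k (ModSite.unit O)
  have h2 := (Groth.Agent.Helper9.Unitor1.rUnitorIso O).hom.naturality r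
  have h2' : ((ModSite.tensorBi O).map r).app (ModSite.unit O) ≫
      (Groth.Agent.Helper9.Unitor1.rUnitor O G).hom =
      (Groth.Agent.Helper9.Unitor1.rUnitor O G').hom ≫ r := h2
  have h3 : (single (ModSite.Mod O) (ComplexShape.up ℤ) k).map
        (((ModSite.tensorBi O).map r).app (ModSite.unit O)) ≫
      (single (ModSite.Mod O) (ComplexShape.up ℤ) k).map
        (Groth.Agent.Helper9.Unitor1.rUnitor O G).hom =
      (single (ModSite.Mod O) (ComplexShape.up ℤ) k).map
        (Groth.Agent.Helper9.Unitor1.rUnitor O G').hom ≫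
      (single (ModSite.Mod O) (ComplexShape.up ℤ) k).map r := by
    rw [← Functor.map_comp, h2', Functor.map_comp]
  calc _ = ((NatTrans.mapHomologicalComplex ((ModSite.tensorBi O).map r) (ComplexShape.up ℤ)).app
        ((single (ModSite.Mod O) (ComplexShape.up ℤ) k).obj (ModSite.unit O)) ≫
        (singleMapHomologicalComplex ((ModSite.tensorBi O).obj G) (ComplexShape.up ℤ) k).hom.app
          (ModSite.unit O)) ≫
        (single (ModSite.Mod O) (ComplexShape.up ℤ) k).map
          (Groth.Agent.Helper9.Unitor1.rUnitor O G).hom := (Category.assoc _ _ _).symm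
    _ = _ := by rw [h1, Category.assoc, h3]; exact (Category.assoc _ _ _).symm

/-- `Q(G ⊗ O[-k]) ≅ G[-k]` -/
noncomputable def baseIso (G : ModSite.Mod O) (k : ℤ) :
    Q.obj ((ΨG G).obj ((single (ModSite.Mod O) (ComplexShape.up ℤ) k).obj (ModSite.unit O))) ≅
      (singleFunctor (ModSite.Mod O) k).obj G :=
  Q.mapIso (baseIsoC G k)

lemma baseIso_nat {G' G : ModSite.Mod O} (r : G' ⟶ G) (k : ℤ) :
    Q.map ((νr r).app ((single (ModSite.Mod O) (ComplexShape.up ℤ) k).obj (ModSite.unit O))) ≫
        (baseIso G k).hom =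
      (baseIso G' k).hom ≫ (singleFunctor (ModSite.Mod O) k).map r :=
  (Q.map_comp _ _).symm.trans ((congrArg Q.map (baseIsoC_nat r k)).trans (Q.map_comp _ _))

variable {P : ObjectProperty (DerivedCategory (ModSite.Mod O))}
  {G' G : ModSite.Mod O} (r : G' ⟶ G) (α' : G' ⟶ G') (α : G ⟶ G) (hc : α' ≫ r = r ≫ α)

/-- the finite free modules -/
def IsFree (N : ModSite.Mod O) : Prop :=
  ∃ n : ℕ, Nonempty (N ≅ ∐ fun _ : Fin n => ModSite.unit O)

include hc in
lemma νr_comm : νr α' ≫ νr r = νr r ≫ νr α := by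
  rw [← νr_comp, ← νr_comp, hc]

variable (h : GoodE P ((singleFunctor (ModSite.Mod O) 0).map α')
  ((singleFunctor (ModSite.Mod O) 0).map α) ((singleFunctor (ModSite.Mod O) 0).map r))

include h in
lemma g_single_unit (k : ℤ) :
    RH6a.G (ΨG G') (ΨG G) (νr r) (νr α') (νr α) P
      ((single (ModSite.Mod O) (ComplexShape.up ℤ) k).obj (ModSite.unit O)) := by
  have h1 := h.shift (-k)
  let e := (singleFunctors (ModSite.Mod O)).shiftIso (-k) k 0 (by omega)
  have h2 : GoodE P ((singleFunctor (ModSite.Mod O) k).map α')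
      ((singleFunctor (ModSite.Mod O) k).map α) ((singleFunctor (ModSite.Mod O) k).map r) :=
    h1.of_iso (e.app G').symm (e.app G).symm (e.inv.naturality r) (e.inv.naturality α')
      (e.inv.naturality α)
  exact h2.of_iso (baseIso G' k) (baseIso G k) (baseIso_nat r k) (baseIso_nat α' k)
    (baseIso_nat α k)

include h hc in
lemma g_single_free (N : ModSite.Mod O) (hN : IsFree N) (k : ℤ) :
    RH6a.G (ΨG G') (ΨG G) (νr r) (νr α') (νr α) P
      ((single (ModSite.Mod O) (ComplexShape.up ℤ) k).obj N) := by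
  obtain ⟨n, ⟨e⟩⟩ := hN
  haveI : HasFiniteBiproducts (ModSite.Mod O) := Abelian.hasFiniteBiproducts
  let f : Fin n → ModSite.Mod O := fun _ => ModSite.unit O
  have e' : N ≅ ⨁ f := e ≪≫ (biproduct.isoCoproduct f).symm
  refine RH6a.G.of_iso ((single (ModSite.Mod O) (ComplexShape.up ℤ) k).mapIso e'.symm) ?_
  refine RH6a.G.of_decomp (νr_comm r α' α hc) _
    (fun j => (single (ModSite.Mod O) (ComplexShape.up ℤ) k).obj (f j))
    (fun j => (single (ModSite.Mod O) (ComplexShape.up ℤ) k).map (biproduct.ι f j))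
    (fun j => (single (ModSite.Mod O) (ComplexShape.up ℤ) k).map (biproduct.π f j)) ?_
    (fun j => g_single_unit r α' α h k)
  simp only [← Functor.map_comp]
  rw [← Functor.map_sum, biproduct.total, CategoryTheory.Functor.map_id]

include h hc in
/-- the localization property for `G ⊗ E`, `E` a bounded complex of finite free modules -/
theorem goodE_bounded_free (E : CochainComplex (ModSite.Mod O) ℤ) (hE : ∀ i, IsFree (E.X i))
    (lo hi : ℤ) (hlo : ∀ i, i < lo → IsZero (E.X i)) (hhi : ∀ i, hi < i → IsZero (E.X i)) :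
    GoodE P (Q.map ((νr α').app E)) (Q.map ((νr α).app E)) (Q.map ((νr r).app E)) := by
  refine RH6a.G.of_bounded (νr_comm r α' α hc) IsFree ?_ ?_ ?_ ?_ ?_ (hi - lo + 1).toNat E lo hi
    (by omega) hE hlo hhi
  · rintro M M' e ⟨n, ⟨e'⟩⟩
    exact ⟨n, ⟨e.symm ≪≫ e'⟩⟩
  · intro M hM
    refine ⟨0, ⟨hM.iso ?_⟩⟩
    rw [IsZero.iff_id_eq_zero]
    apply Sigma.hom_ext
    intro i
    exact i.elim0
  · intro S hs
    exact shortExact_map_of_splitting _ S hs
  · intro S hs
    exact shortExact_map_of_splitting _ S hs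
  · intro M hM k
    exact g_single_free r α' α hc h M hM k

end Groth.Agent.Helper9.RH6c
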