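import Mathlib
import Groth.Prelude.Def_KFlatSite
import Groth.Agent.Helper9.RH10a
import Groth.Agent.Helper9.RH6c

/-! Dévissage on bounded complexes for object properties of the derived category, and finite
generation of `Hom(G ⊗ E [n], M)` for bounded complexes `E` of finite free modules. -/

set_option autoImplicit false
set_option linter.style.haveILetI false
set_option linter.unusedVariables false
set_option linter.unusedSectionVars false

namespace Groth.Agent.Helper9.RH10b

open CategoryTheory CategoryTheory.Limits Pretriangulated HomologicalComplex DerivedCategory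
open Groth.Agent.Helper9.RH10a Groth.Agent.Helper9.RH6a Groth.Agent.Helper9.RH6c
  Groth.Agent.Helper9.Leray3 Groth.Agent.Helper9.TensorAdj

universe w v u

section Generic

variable {A : Type u} [Category.{v} A] [Abelian A] [HasDerivedCategory.{w} A]

/-- dévissage: a property of objects of the derived category which is invariant under
isomorphisms, holds for zero objects and satisfies two-out-of-three (outer terms) in distinguished
triangles holds for `Ψ E`, `E` a bounded complex with terms in `𝒞`, as soon as it holds for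
`Ψ (M[-k])`, `M ∈ 𝒞`. -/
theorem of_bounded (Ψ : CochainComplex A ℤ ⥤ CochainComplex A ℤ) [Ψ.Additive]
    (Pr : DerivedCategory A → Prop)
    (hPiso : ∀ {B B' : DerivedCategory A}, (B ≅ B') → Pr B → Pr B')
    (hP0 : ∀ B : DerivedCategory A, IsZero B → Pr B)
    (hPtri : ∀ T : Triangle (DerivedCategory A), T ∈ distTriang (DerivedCategory A) →
      Pr T.obj₁ → Pr T.obj₃ → Pr T.obj₂)
    (𝒞 : ObjectProperty A)
    (h𝒞iso : ∀ {M M' : A}, (M ≅ M') → 𝒞 M → 𝒞 M') (h𝒞0 : ∀ M : A, IsZero M → 𝒞 M)
    (hsplit : ∀ S : ShortComplex (CochainComplex A ℤ),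
      (∀ n : ℤ, Nonempty ((S.map (eval A (ComplexShape.up ℤ) n)).Splitting)) →
        (S.map Ψ).ShortExact)
    (hbase : ∀ M : A, 𝒞 M → ∀ k : ℤ,
      Pr (Q.obj (Ψ.obj ((HomologicalComplex.single A (ComplexShape.up ℤ) k).obj M)))) :
    ∀ (n : ℕ) (E : CochainComplex A ℤ) (lo hi : ℤ), hi - lo + 1 ≤ n → (∀ i, 𝒞 (E.X i)) →
      (∀ i, i < lo → IsZero (E.X i)) → (∀ i, hi < i → IsZero (E.X i)) →
        Pr (Q.obj (Ψ.obj E)) := by
  intro n
  induction n with
  | zero =>
    intro E lo hi hn _ hlo hhi
    refine hP0 _ (Q.map_isZero (Ψ.map_isZero (isZero_of_X E (fun i => ?_))))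
    by_cases h : i < lo
    · exact hlo i h
    · exact hhi i (by omega)
  | succ n ih =>
    intro E lo hi hn hE hlo hhi
    let S := truncSES E (hi - 1)
    have hS := hsplit S (fun k => truncSES_splitting E (hi - 1) k)
    refine hPtri _ (triangleOfSES_distinguished hS) ?_ ?_
    · -- the top term
      haveI : (sGT E (hi - 1)).IsStrictlyGE hi := by
        rw [CochainComplex.isStrictlyGE_iff]
        intro i hi'
        exact isZero_sGT_X E (hi - 1) i (by omega)
      haveI : (sGT E (hi - 1)).IsStrictlyLE hi := by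
        rw [CochainComplex.isStrictlyLE_iff]
        intro i hi'
        exact (hhi i hi').of_iso (sGTXIso E (hi - 1) i (by omega))
      obtain ⟨M, ⟨e⟩⟩ := CochainComplex.exists_iso_single (sGT E (hi - 1)) hi
      have eM : M ≅ E.X hi :=
        (HomologicalComplex.singleObjXSelf (ComplexShape.up ℤ) hi M).symm ≪≫
          ((HomologicalComplex.eval A (ComplexShape.up ℤ) hi).mapIso e).symm ≪≫
          sGTXIso E (hi - 1) hi (by omega)
      exact hPiso (Q.mapIso (Ψ.mapIso e.symm)) (hbase M (h𝒞iso eM.symm (hE hi)) hi)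
    · -- the rest
      refine ih (sLE E (hi - 1)) lo (hi - 1) (by omega) (fun i => ?_) (fun i hi' => ?_)
        (fun i hi' => isZero_sLE_X E (hi - 1) i hi')
      · by_cases h : i ≤ hi - 1
        · exact h𝒞iso (sLEXIso E (hi - 1) i h).symm (hE i)
        · exact h𝒞0 _ (isZero_sLE_X E (hi - 1) i (by omega))
      · by_cases h : i ≤ hi - 1
        · exact (hlo i hi').of_iso (sLEXIso E (hi - 1) i h)
        · exact isZero_sLE_X E (hi - 1) i (by omega)

end Generic

attribute [local instance] HasDerivedCategory.standard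

variable {C : Type u} [SmallCategory C] {J : GrothendieckTopology C} {O : Sheaf J CommRingCat.{u}}
  {R : Type u} [CommRing R] [Linear R (ModSite.Mod O)]

/-- tensoring is linear in the first variable, on the unit -/
lemma tensor_map_smul_unit (G : ModSite.Mod O) (a : R) :
    ((ModSite.tensorBi O).map (a • 𝟙 G)).app (ModSite.unit O) =
      a • 𝟙 (((ModSite.tensorBi O).obj G).obj (ModSite.unit O)) := by
  have h := (Groth.Agent.Helper9.Unitor1.rUnitorIso O).hom.naturality (a • 𝟙 G)
  have h' : ((ModSite.tensorBi O).map (a • 𝟙 G)).app (ModSite.unit O) ≫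
      (Groth.Agent.Helper9.Unitor1.rUnitor O G).hom =
      (Groth.Agent.Helper9.Unitor1.rUnitor O G).hom ≫ (a • 𝟙 G) := h
  rw [← cancel_mono (Groth.Agent.Helper9.Unitor1.rUnitor O G).hom, h', Linear.comp_smul,
    Linear.smul_comp, Category.comp_id, Category.id_comp]

/-- tensoring is linear in the first variable, on finite free modules -/
lemma tensor_map_smul_free (G N : ModSite.Mod O) (hN : IsFree N) (a : R) :
    ((ModSite.tensorBi O).map (a • 𝟙 G)).app N =
      a • 𝟙 (((ModSite.tensorBi O).obj G).obj N) := by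
  obtain ⟨n, ⟨e⟩⟩ := hN
  haveI : HasFiniteBiproducts (ModSite.Mod O) := Abelian.hasFiniteBiproducts
  let f : Fin n → ModSite.Mod O := fun _ => ModSite.unit O
  let e' : N ≅ ⨁ f := e ≪≫ (biproduct.isoCoproduct f).symm
  let F := (ModSite.tensorBi O).obj G
  let τ := (ModSite.tensorBi O).map (a • 𝟙 G)
  have hsum : ∑ j, F.map (e'.hom ≫ biproduct.π f j) ≫ F.map (biproduct.ι f j ≫ e'.inv) =
      𝟙 (F.obj N) := by
    simp only [← Functor.map_comp]
    rw [← Functor.map_sum]
    have : ∑ j, (e'.hom ≫ biproduct.π f j) ≫ biproduct.ι f j ≫ e'.inv = 𝟙 N := by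
      have h1 : ∀ j, (e'.hom ≫ biproduct.π f j) ≫ biproduct.ι f j ≫ e'.inv =
          e'.hom ≫ (biproduct.π f j ≫ biproduct.ι f j) ≫ e'.inv := by
        intro j; simp only [Category.assoc]
      simp only [h1]
      rw [← Preadditive.comp_sum]
      rw [← Preadditive.sum_comp, biproduct.total, Category.id_comp, Iso.hom_inv_id]
    rw [this, CategoryTheory.Functor.map_id]
  calc τ.app N = τ.app N ≫ 𝟙 (F.obj N) := (Category.comp_id _).symm
    _ = ∑ j, τ.app N ≫ F.map (e'.hom ≫ biproduct.π f j) ≫ F.map (biproduct.ι f j ≫ e'.inv) := by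
        rw [← hsum, Preadditive.comp_sum]
    _ = ∑ j, F.map (e'.hom ≫ biproduct.π f j) ≫ (a • 𝟙 _) ≫
          F.map (biproduct.ι f j ≫ e'.inv) := by
        refine Finset.sum_congr rfl (fun j _ => ?_)
        have hn := τ.naturality (e'.hom ≫ biproduct.π f j)
        have hu : τ.app (f j) = a • 𝟙 _ := tensor_map_smul_unit G a
        rw [← Category.assoc, ← hn, hu, Category.assoc]
    _ = a • ∑ j, F.map (e'.hom ≫ biproduct.π f j) ≫ F.map (biproduct.ι f j ≫ e'.inv) := by
        rw [Finset.smul_sum]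
        refine Finset.sum_congr rfl (fun j _ => ?_)
        rw [Linear.smul_comp, Linear.comp_smul, Category.id_comp]
    _ = a • 𝟙 _ := by rw [hsum]

/-- the endomorphism of `G ⊗ E` induced by `a • 𝟙 G` is `a • 𝟙`, for termwise free `E` -/
lemma νr_smul (G : ModSite.Mod O) (E : CochainComplex (ModSite.Mod O) ℤ)
    (hE : ∀ i, IsFree (E.X i)) (a : R) :
    (νr (a • 𝟙 G)).app E = a • 𝟙 ((ΨG G).obj E) := by
  refine HomologicalComplex.hom_ext _ _ (fun n => ?_)
  rw [NatTrans.mapHomologicalComplex_app_f, HomologicalComplex.smul_f_apply,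
    HomologicalComplex.id_f]
  exact tensor_map_smul_free G (E.X n) (hE n) a

variable [IsNoetherianRing R]

/-- finite generation of `Hom(G ⊗ E [n], M)` for bounded complexes of finite free modules -/
theorem fgp_bounded_free (G : ModSite.Mod O) (M : DerivedCategory (ModSite.Mod O))
    (h : ∀ k : ℤ, Module.Finite R ((singleFunctor (ModSite.Mod O) k).obj G ⟶ M))
    (E : CochainComplex (ModSite.Mod O) ℤ) (hE : ∀ i, IsFree (E.X i))
    (lo hi : ℤ) (hlo : ∀ i, i < lo → IsZero (E.X i)) (hhi : ∀ i, hi < i → IsZero (E.X i)) :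
    FGp R M (Q.obj ((ΨG G).obj E)) := by
  have hunit : ∀ k : ℤ, FGp R M (Q.obj ((ΨG G).obj
      ((single (ModSite.Mod O) (ComplexShape.up ℤ) k).obj (ModSite.unit O)))) := by
    intro k
    refine FGp.of_iso (baseIso G k).symm ?_
    intro n
    exact finite_of_iso
      (((singleFunctors (ModSite.Mod O)).shiftIso n (k - n) k (by omega)).app G).symm (h (k - n))
  refine of_bounded (ΨG G) (FGp R M) (fun e h => FGp.of_iso e h) (fun B hB => FGp.of_isZero hB)
    (fun T hT h1 h3 => FGp.triangle T hT M h1 h3) IsFree ?_ ?_ ?_ ?_ (hi - lo + 1).toNat E lo hi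
    (by omega) hE hlo hhi
  · rintro M M' e ⟨n, ⟨e'⟩⟩
    exact ⟨n, ⟨e.symm ≪≫ e'⟩⟩
  · intro M hM
    refine ⟨0, ⟨hM.iso ?_⟩⟩
    rw [IsZero.iff_id_eq_zero]
    apply Sigma.hom_ext
    intro i
    exact i.elim0
  · intro S hs
    exact shortExact_map_of_splitting _ S hs
  · intro N hN k
    obtain ⟨n, ⟨e⟩⟩ := hN
    haveI : HasFiniteBiproducts (ModSite.Mod O) := Abelian.hasFiniteBiproducts
    let f : Fin n → ModSite.Mod O := fun _ => ModSite.unit O
    have e' : N ≅ ⨁ f := e ≪≫ (biproduct.isoCoproduct f).symm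
    let Fk : ModSite.Mod O ⥤ DerivedCategory (ModSite.Mod O) :=
      single (ModSite.Mod O) (ComplexShape.up ℤ) k ⋙ ΨG G ⋙ Q
    refine FGp.of_iso (Fk.mapIso e'.symm) ?_
    refine FGp.of_decomp (fun j => Fk.obj (f j)) (fun j => Fk.map (biproduct.ι f j))
      (fun j => Fk.map (biproduct.π f j)) ?_ (fun j => hunit k)
    simp only [← Functor.map_comp]
    rw [← Functor.map_sum, biproduct.total, CategoryTheory.Functor.map_id]

end Groth.Agent.Helper9.RH10b
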