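import Mathlib
import Groth.Agent.Helper9.MVP3
import Groth.Agent.Helper9.RH10b
import Groth.Agent.Helper9.QP3
import Groth.Agent.Helper9.LCUnit1

/-! Vanishing of `Hom(E, L)` for bounded complexes `E` of finite free modules on an affine
scheme. -/

set_option autoImplicit false
set_option linter.style.haveILetI false
set_option linter.unusedVariables false
set_option linter.unusedSectionVars false

namespace Groth.Agent.Helper9.MVP4

open CategoryTheory CategoryTheory.Limits Pretriangulated HomologicalComplex DerivedCategory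
open Groth.Agent.Helper9.RH6a Groth.Agent.Helper9.Leray3

universe w v u

section Generic

variable {A : Type u} [Category.{v} A] [Abelian A] [HasDerivedCategory.{w} A]

/-- dévissage on bounded complexes, keeping track of the range of degrees -/
theorem of_bounded_range
    (Pr : DerivedCategory A → Prop)
    (hPiso : ∀ {B B' : DerivedCategory A}, (B ≅ B') → Pr B → Pr B')
    (hP0 : ∀ B : DerivedCategory A, IsZero B → Pr B)
    (hPtri : ∀ T : Triangle (DerivedCategory A), T ∈ distTriang (DerivedCategory A) →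
      Pr T.obj₁ → Pr T.obj₃ → Pr T.obj₂)
    (𝒞 : ObjectProperty A)
    (h𝒞iso : ∀ {M M' : A}, (M ≅ M') → 𝒞 M → 𝒞 M') (h𝒞0 : ∀ M : A, IsZero M → 𝒞 M)
    (lo₀ hi₀ : ℤ)
    (hbase : ∀ M : A, 𝒞 M → ∀ k : ℤ, lo₀ ≤ k → k ≤ hi₀ →
      Pr (Q.obj ((HomologicalComplex.single A (ComplexShape.up ℤ) k).obj M))) :
    ∀ (n : ℕ) (E : CochainComplex A ℤ) (lo hi : ℤ), lo₀ ≤ lo → hi ≤ hi₀ → hi - lo + 1 ≤ n →
      (∀ i, 𝒞 (E.X i)) → (∀ i, i < lo → IsZero (E.X i)) → (∀ i, hi < i → IsZero (E.X i)) →
        Pr (Q.obj E) := by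
  intro n
  induction n with
  | zero =>
    intro E lo hi _ _ hn _ hlo hhi
    refine hP0 _ (Q.map_isZero (isZero_of_X E (fun i => ?_)))
    by_cases h : i < lo
    · exact hlo i h
    · exact hhi i (by omega)
  | succ n ih =>
    intro E lo hi hlo₀ hhi₀ hn hE hlo hhi
    by_cases hlh : hi < lo
    · refine hP0 _ (Q.map_isZero (isZero_of_X E (fun i => ?_)))
      by_cases h : i < lo
      · exact hlo i h
      · exact hhi i (by omega)
    let S := truncSES E (hi - 1)
    have hS : S.ShortExact := truncSES_shortExact E (hi - 1)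
    refine hPtri _ (triangleOfSES_distinguished hS) ?_ ?_
    · -- the top term
      haveI : (sGT E (hi - 1)).IsStrictlyGE hi := by
        rw [CochainComplex.isStrictlyGE_iff]
        intro i hi'
        exact isZero_sGT_X E (hi - 1) i (by omega)
      haveI : (sGT E (hi - 1)).IsStrictlyLE hi := by
        rw [CochainComplex.isStrictlyLE_iff]
        intro i hi'
        exact (hhi i hi').of_iso (sGTXIso E (hi - 1) i (by omega))
      obtain ⟨M, ⟨e⟩⟩ := CochainComplex.exists_iso_single (sGT E (hi - 1)) hi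
      have eM : M ≅ E.X hi :=
        (HomologicalComplex.singleObjXSelf (ComplexShape.up ℤ) hi M).symm ≪≫
          ((HomologicalComplex.eval A (ComplexShape.up ℤ) hi).mapIso e).symm ≪≫
          sGTXIso E (hi - 1) hi (by omega)
      exact hPiso (Q.mapIso e.symm) (hbase M (h𝒞iso eM.symm (hE hi)) hi (by omega) hhi₀)
    · -- the rest
      refine ih (sLE E (hi - 1)) lo (hi - 1) hlo₀ (by omega) (by omega) (fun i => ?_)
        (fun i hi' => ?_) (fun i hi' => isZero_sLE_X E (hi - 1) i hi')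
      · by_cases h : i ≤ hi - 1
        · exact h𝒞iso (sLEXIso E (hi - 1) i h).symm (hE i)
        · exact h𝒞0 _ (isZero_sLE_X E (hi - 1) i (by omega))
      · by_cases h : i ≤ hi - 1
        · exact (hlo i hi').of_iso (sLEXIso E (hi - 1) i h)
        · exact isZero_sLE_X E (hi - 1) i (by omega)

end Generic

end Groth.Agent.Helper9.MVP4

namespace Groth.Agent.Helper9.MVP4

open CategoryTheory CategoryTheory.Limits Pretriangulated AlgebraicGeometry DerivedCategory
open Groth.Agent.Helper9.MVP3 Groth.Agent.Helper9.LC3 Groth.Agent.Helper9.LCAff1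

universe u

attribute [local instance] HasDerivedCategory.standard

variable (Z : Scheme.{u}) [IsAffine Z]

/-- maps from the structure sheaf in degree `k` to `L ∈ D_QCoh` vanish if `H^k(L) = 0` -/
theorem hom_unit_eq_zero (L : DCoh.D Z) (hL : DCoh.IsQCohD L) (k : ℤ)
    (h : IsZero (DCoh.HD L k))
    (ψ : (singleFunctor Z.Modules k).obj (SheafOfModules.unit Z.ringCatSheaf) ⟶ L) : ψ = 0 := by
  let e := Groth.Agent.Helper9.LCUnit1.unitIsoGU Z
  have hb := Groth.Agent.Helper9.QP3.kk_bijective k L hL (⊤ : Z.Opens) (isAffineOpen_top Z)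
  have h1 : (singleFunctor Z.Modules k).map e.inv ≫ ψ = 0 := by
    apply hb.1
    unfold Groth.Agent.Helper9.QP3.kk
    congr 1
    exact h.eq_of_tgt _ _
  have h2 := ((singleFunctor Z.Modules k).mapIso e).hom_inv_id_assoc ψ
  rw [← h2]
  exact (congrArg (fun t => ((singleFunctor Z.Modules k).mapIso e).hom ≫ t) h1).trans comp_zero

/-- maps from a finite free module in degree `k` to `L ∈ D_QCoh` vanish if `H^k(L) = 0` -/
theorem hom_free_eq_zero (L : DCoh.D Z) (hL : DCoh.IsQCohD L) (k : ℤ)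
    (h : IsZero (DCoh.HD L k)) (n : ℕ)
    (ψ : (singleFunctor Z.Modules k).obj (FlatMod.freeMod Z n) ⟶ L) : ψ = 0 := by
  haveI : HasFiniteBiproducts Z.Modules := Abelian.hasFiniteBiproducts
  let f : Fin n → Z.Modules := fun _ => SheafOfModules.unit Z.ringCatSheaf
  let e' : FlatMod.freeMod Z n ≅ ⨁ f := (biproduct.isoCoproduct f).symm
  let Fk := singleFunctor Z.Modules k
  have h1 : 𝟙 (Fk.obj (⨁ f)) = ∑ j : Fin n, Fk.map (biproduct.π f j) ≫ Fk.map (biproduct.ι f j) := by
    simp only [← Functor.map_comp]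
    rw [← Functor.map_sum, biproduct.total, CategoryTheory.Functor.map_id]
  have h2 : ∀ χ : Fk.obj (⨁ f) ⟶ L, χ = 0 := by
    intro χ
    rw [← Category.id_comp χ, h1, Preadditive.sum_comp]
    refine Finset.sum_eq_zero (fun j _ => ?_)
    rw [Category.assoc, hom_unit_eq_zero Z L hL k h (Fk.map (biproduct.ι f j) ≫ χ), comp_zero]
  have h3 := (Fk.mapIso e').hom_inv_id_assoc ψ
  rw [← h3]
  exact (congrArg (fun t => (Fk.mapIso e').hom ≫ t) (h2 (Fk.map e'.inv ≫ ψ))).trans comp_zero

/-- the base case: bounded complexes of finite free modules on an affine scheme -/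
theorem HV_bounded_free (E : CochainComplex Z.Modules ℤ) (a b : ℤ)
    (hvan : ∀ i : ℤ, i < a ∨ b < i → IsZero (E.X i))
    (hfree : ∀ i : ℤ, ∃ n : ℕ, Nonempty (E.X i ≅ FlatMod.freeMod Z n)) :
    HV Z (Q.obj E) := by
  refine ⟨a, max a b, le_max_left _ _, ?_⟩
  refine of_bounded_range
    (fun B => ∀ L : DCoh.D Z, DCoh.IsQCohD L →
      (∀ i : ℤ, a ≤ i → i ≤ max a b → IsZero (DCoh.HD L i)) → ∀ φ : B ⟶ L, φ = 0)
    ?_ ?_ ?_ (fun M => ∃ n : ℕ, Nonempty (M ≅ FlatMod.freeMod Z n)) ?_ ?_ a (max a b) ?_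
    (max a b - a + 1).toNat E a (max a b) le_rfl le_rfl (by omega) hfree
    (fun i hi => hvan i (Or.inl hi)) (fun i hi => hvan i (Or.inr ((le_max_right a b).trans_lt hi)))
  · intro B B' e h L hL hv φ
    have := h L hL hv (e.hom ≫ φ)
    rw [← cancel_epi e.hom, this, comp_zero]
  · intro B hB L _ _ φ
    exact hB.eq_of_src _ _
  · intro T hT h1 h3 L hL hv φ
    obtain ⟨g, hg⟩ := Triangle.yoneda_exact₂ T hT φ (h1 L hL hv _)
    rw [hg, h3 L hL hv g, comp_zero]
  · rintro M M' e ⟨n, ⟨e'⟩⟩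
    exact ⟨n, ⟨e.symm ≪≫ e'⟩⟩
  · intro M hM
    exact ⟨0, ⟨hM.iso (Groth.Agent.Lead.PerfLib.isZero_freeMod_zero Z)⟩⟩
  · rintro M ⟨n, ⟨e⟩⟩ k hk hk' L hL hv φ
    let κ : (singleFunctor Z.Modules k).obj (FlatMod.freeMod Z n) ≅
        Q.obj ((HomologicalComplex.single Z.Modules (ComplexShape.up ℤ) k).obj M) :=
      (singleFunctor Z.Modules k).mapIso e.symm ≪≫ (singleFunctorIsoCompQ Z.Modules k).app M
    have := hom_free_eq_zero Z L hL k (hv k hk hk') n (κ.hom ≫ φ)
    rw [← cancel_epi κ.hom, this, comp_zero]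

end Groth.Agent.Helper9.MVP4
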