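import Mathlib
import Groth.Prelude.Def_CxOX
import Groth.Agent.Helper9.MVP2
import Groth.Agent.Helper9.MVP4
import Groth.Agent.Helper9.QP3
import Groth.Agent.Helper9.QP7
import Groth.Agent.Helper9.LCUnit1
import Groth.Agent.Helper4.SuppLib
import Groth.Agent.S6513

/-! Countability of `Hom(B, L)`: Mayer–Vietoris step and the affine base case. -/

set_option autoImplicit false
set_option linter.style.haveILetI false
set_option linter.unusedVariables false
set_option linter.unusedSectionVars false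
universe w u

namespace Groth.Agent.Helper9.MVP12

open CategoryTheory CategoryTheory.Limits AlgebraicGeometry Opposite TopologicalSpace
  Pretriangulated DerivedCategory
open Groth.Agent.Helper9.MVP3 Groth.Agent.Helper9.LC3 Groth.Agent.Helper9.LCAff1
  Groth.Agent.Helper9.QP2

attribute [local instance] HasDerivedCategory.standard

/-- a type mapping to a countable type with countably parametrized fibres is countable -/
lemma countable_of_fibers {α β : Type*} (f : α → β) [Countable β]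
    (h : ∀ a₀ : α, ∃ (γ : Type w) (_ : Countable γ) (g : γ → α), ∀ a, f a = f a₀ → a ∈ Set.range g) :
    Countable α := by
  rw [← Set.countable_univ_iff]
  have h1 : (Set.univ : Set α) = ⋃ b : β, f ⁻¹' {b} := by
    ext a
    simp
  rw [h1]
  refine Set.countable_iUnion (fun b => ?_)
  by_cases hb : ∃ a₀, f a₀ = b
  · obtain ⟨a₀, rfl⟩ := hb
    obtain ⟨γ, hγ, g, hg⟩ := h a₀
    exact (Set.countable_range g).mono (fun a ha => hg a ha)
  · have : f ⁻¹' {b} = ∅ := by
      ext a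
      simp only [Set.mem_preimage, Set.mem_singleton_iff, Set.mem_empty_iff_false, iff_false]
      exact fun ha => hb ⟨a, ha⟩
    rw [this]
    exact Set.countable_empty

section Tri

variable {D : Type*} [Category D] [Preadditive D] [HasZeroObject D] [HasShift D ℤ]
  [∀ n : ℤ, (shiftFunctor D n).Additive] [Pretriangulated D]

/-- countability of Hom in a distinguished triangle -/
lemma countable_hom_triangle (T : Triangle D) (hT : T ∈ distTriang D) (L : D)
    (h1 : Countable (T.obj₁ ⟶ L)) (h3 : Countable (T.obj₃ ⟶ L)) : Countable (T.obj₂ ⟶ L) := by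
  refine countable_of_fibers (fun φ : T.obj₂ ⟶ L => T.mor₁ ≫ φ) (fun φ₀ => ?_)
  refine ⟨(T.obj₃ ⟶ L), inferInstance, fun g => φ₀ + T.mor₂ ≫ g, fun φ hφ => ?_⟩
  obtain ⟨g, hg⟩ := Triangle.yoneda_exact₂ T hT (φ - φ₀) (by
    rw [Preadditive.comp_sub]
    exact sub_eq_zero.2 hφ)
  refine ⟨g, ?_⟩
  show φ₀ + T.mor₂ ≫ g = φ
  rw [← hg]
  abel

end Tri

section CC

/-- transport of countability of sections along an isomorphism of modules -/
lemma countable_sections_of_iso {Z : Scheme.{u}} {M N : Z.Modules} (e : M ≅ N) (V : Z.Opens)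
    (h : Countable (M.val.obj (op V))) : Countable (N.val.obj (op V)) := by
  let e' := (SheafOfModules.forget _ ⋙ PresheafOfModules.evaluation _ (op V)).mapIso e
  exact (Equiv.countable_iff e'.toLinearEquiv.toEquiv).1 h

/-- the sections of the cohomology sheaves over affine opens are countable -/
def CC (Z : Scheme.{u}) (L : DCoh.D Z) : Prop :=
  ∀ V : Z.Opens, IsAffineOpen V → ∀ n : ℤ, Countable ((DCoh.HD L n).val.obj (op V))

variable {Z : Scheme.{u}}

lemma CC.shift {L : DCoh.D Z} (h : CC Z L) (m : ℤ) : CC Z (L⟦m⟧) :=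
  fun V hV n => countable_sections_of_iso
    (Groth.Agent.Helper9.Amp1.homologyShiftIso L m n).symm V (h V hV (m + n))

lemma CC.restrict {L : DCoh.D Z} (h : CC Z L) (U : Z.Opens) :
    CC U ((DCoh.restrictD U.ι).obj L) := by
  intro V hV n
  refine countable_sections_of_iso (Groth.Agent.Helper4.SuppLib.HDRestrictIso U.ι L n).symm V ?_
  exact h (U.ι ''ᵁ V) (hV.image_of_isOpenImmersion U.ι) n

/-- maps from `B` to objects of `D_QCoh` with countable cohomology sections are countable -/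
def CH (Z : Scheme.{u}) (B : DCoh.D Z) : Prop :=
  ∀ L : DCoh.D Z, DCoh.IsQCohD L → CC Z L → Countable (B ⟶ L)

lemma CH.of_iso {B B' : DCoh.D Z} (e : B ≅ B') (h : CH Z B) : CH Z B' := by
  intro L hq hc
  haveI := h L hq hc
  exact Function.Injective.countable (f := fun φ : B' ⟶ L => e.hom ≫ φ)
    (fun φ φ' hφ => (cancel_epi e.hom).1 hφ)

lemma CH.of_isZero {B : DCoh.D Z} (h : IsZero B) : CH Z B := by
  intro L _ _
  haveI : Subsingleton (B ⟶ L) := ⟨fun f g => h.eq_of_src f g⟩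
  infer_instance

lemma CH.triangle (T : Triangle (DCoh.D Z)) (hT : T ∈ distTriang _) (h1 : CH Z T.obj₁)
    (h3 : CH Z T.obj₃) : CH Z T.obj₂ :=
  fun L hq hc => countable_hom_triangle T hT L (h1 L hq hc) (h3 L hq hc)

end CC

section MV

variable {Z : Scheme.{u}}

/-- the Mayer–Vietoris step -/
theorem CH.mv (U V : Z.Opens) (hUV : U ⊔ V = ⊤) (B : DCoh.D Z)
    (hU : CH U ((DCoh.restrictD U.ι).obj B)) (hV : CH V ((DCoh.restrictD V.ι).obj B))
    (hW : CH (U ⊓ V : Z.Opens) ((DCoh.restrictD (U ⊓ V).ι).obj B)) : CH Z B := by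
  intro L hq hc
  obtain ⟨a', b', c', hT⟩ := Groth.Agent.S6513.result U V hUV B
  haveI := hU _ (Groth.Agent.Helper9.QP7.isQCohD_restrictD U.ι L hq) (hc.restrict U)
  haveI := hV _ (Groth.Agent.Helper9.QP7.isQCohD_restrictD V.ι L hq) (hc.restrict V)
  haveI := hW _ (Groth.Agent.Helper9.QP7.isQCohD_restrictD (U ⊓ V).ι _
      (isQCohD_shift L hq (-1))) ((hc.shift (-1)).restrict (U ⊓ V))
  let eqv : (((CxOX.extZeroD (U ⊓ V).ι).obj
      ((DCoh.restrictD (U ⊓ V).ι).obj B))⟦(1 : ℤ)⟧ ⟶ L) ≃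
      ((DCoh.restrictD (U ⊓ V).ι).obj B ⟶ (DCoh.restrictD (U ⊓ V).ι).obj (L⟦(-1 : ℤ)⟧)) :=
    ((shiftEquiv (DCoh.D Z) (1 : ℤ)).toAdjunction.homEquiv _ _).trans
      ((Groth.Agent.Helper9.RH2.shAdj (U ⊓ V).ι).homEquiv _ _)
  refine countable_of_fibers
    (fun φ : B ⟶ L =>
      ((Groth.Agent.Helper9.RH2.shAdj U.ι).homEquiv _ _ (biprod.inl ≫ b' ≫ φ),
       (Groth.Agent.Helper9.RH2.shAdj V.ι).homEquiv _ _ (biprod.inr ≫ b' ≫ φ))) (fun φ₀ => ?_)
  refine ⟨((DCoh.restrictD (U ⊓ V).ι).obj B ⟶ (DCoh.restrictD (U ⊓ V).ι).obj (L⟦(-1 : ℤ)⟧)),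
    inferInstance,
    fun g => φ₀ + c' ≫ eqv.symm g, fun φ hφ => ?_⟩
  have hφ1 := congrArg Prod.fst hφ
  have hφ2 := congrArg Prod.snd hφ
  simp only [] at hφ1 hφ2
  have h1 : b' ≫ (φ - φ₀) = 0 := by
    apply biprod.hom_ext'
    · rw [comp_zero, Preadditive.comp_sub, Preadditive.comp_sub, sub_eq_zero]
      exact ((Groth.Agent.Helper9.RH2.shAdj U.ι).homEquiv _ _).injective hφ1
    · rw [comp_zero, Preadditive.comp_sub, Preadditive.comp_sub, sub_eq_zero]
      exact ((Groth.Agent.Helper9.RH2.shAdj V.ι).homEquiv _ _).injective hφ2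
  obtain ⟨g, hg⟩ : ∃ g : ((CxOX.extZeroD (U ⊓ V).ι).obj
      ((DCoh.restrictD (U ⊓ V).ι).obj B))⟦(1 : ℤ)⟧ ⟶ L, φ - φ₀ = c' ≫ g :=
    Triangle.yoneda_exact₃ _ hT (φ - φ₀) h1
  refine ⟨eqv g, ?_⟩
  show φ₀ + c' ≫ eqv.symm (eqv g) = φ
  rw [Equiv.symm_apply_apply, ← hg]
  abel

end MV

section Base

variable (Z : Scheme.{u}) [IsAffine Z]

/-- the structure sheaf placed in degree `k` -/
theorem ch_unit (k : ℤ) :
    CH Z ((singleFunctor Z.Modules k).obj (SheafOfModules.unit Z.ringCatSheaf)) := by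
  intro L hL hc
  let e := Groth.Agent.Helper9.LCUnit1.unitIsoGU Z
  have hb := Groth.Agent.Helper9.QP3.kk_bijective k L hL (⊤ : Z.Opens) (isAffineOpen_top Z)
  have h0 : Countable ((DCoh.HD L k).val.obj (op (⊤ : Z.Opens))) := hc ⊤ (isAffineOpen_top Z) k
  haveI : Countable (Γ((homologyFunctor Z.Modules k).obj L, (⊤ : Z.Opens))) := h0
  haveI : Countable ((singleFunctor Z.Modules k).obj (GU (⊤ : Z.Opens)) ⟶ L) :=
    Function.Injective.countable hb.1
  exact Function.Injective.countable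
    (f := fun ψ : (singleFunctor Z.Modules k).obj (SheafOfModules.unit Z.ringCatSheaf) ⟶ L =>
      (singleFunctor Z.Modules k).map e.inv ≫ ψ)
    (fun ψ ψ' h => (cancel_epi ((singleFunctor Z.Modules k).mapIso e.symm).hom).1 h)

/-- a finite free module placed in degree `k` -/
theorem ch_free (k : ℤ) (n : ℕ) :
    CH Z ((singleFunctor Z.Modules k).obj (FlatMod.freeMod Z n)) := by
  intro L hL hc
  haveI : HasFiniteBiproducts Z.Modules := Abelian.hasFiniteBiproducts
  let f : Fin n → Z.Modules := fun _ => SheafOfModules.unit Z.ringCatSheaf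
  let e' : FlatMod.freeMod Z n ≅ ⨁ f := (biproduct.isoCoproduct f).symm
  let Fk := singleFunctor Z.Modules k
  have h1 : 𝟙 (Fk.obj (⨁ f)) = ∑ j : Fin n, Fk.map (biproduct.π f j) ≫ Fk.map (biproduct.ι f j) := by
    simp only [← Functor.map_comp]
    rw [← Functor.map_sum, biproduct.total, CategoryTheory.Functor.map_id]
  haveI : Countable (Fk.obj (SheafOfModules.unit Z.ringCatSheaf) ⟶ L) := ch_unit Z k L hL hc
  haveI : Countable (Fk.obj (⨁ f) ⟶ L) := by
    refine Function.Injective.countable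
      (f := fun (χ : Fk.obj (⨁ f) ⟶ L) (j : Fin n) => Fk.map (biproduct.ι f j) ≫ χ) ?_
    intro χ χ' h
    rw [← Category.id_comp χ, ← Category.id_comp χ', h1, Preadditive.sum_comp,
      Preadditive.sum_comp]
    refine Finset.sum_congr rfl (fun j _ => ?_)
    rw [Category.assoc, Category.assoc]
    exact congrArg (fun t => Fk.map (biproduct.π f j) ≫ t) (congrFun h j)
  exact Function.Injective.countable
    (f := fun ψ : Fk.obj (FlatMod.freeMod Z n) ⟶ L => Fk.map e'.inv ≫ ψ)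
    (fun ψ ψ' h => (cancel_epi (Fk.map e'.inv)).1 h)

/-- the base case: bounded complexes of finite free modules on an affine scheme -/
theorem ch_bddFree (E : CochainComplex Z.Modules ℤ) (hE : MVP2.BddFree E) : CH Z (Q.obj E) := by
  obtain ⟨⟨a, b, hvan⟩, hfree⟩ := hE
  refine MVP4.of_bounded_range (fun B => CH Z B) (fun e h => h.of_iso e)
    (fun B hB => CH.of_isZero hB) (fun T hT h1 h3 => CH.triangle T hT h1 h3)
    (fun M => ∃ n : ℕ, Nonempty (M ≅ FlatMod.freeMod Z n)) ?_ ?_ a (max a b) ?_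
    (max a b - a + 1).toNat E a (max a b) le_rfl le_rfl (by omega) hfree
    (fun i hi => hvan i (Or.inl hi)) (fun i hi => hvan i (Or.inr ((le_max_right a b).trans_lt hi)))
  · rintro M M' e ⟨n, ⟨e'⟩⟩
    exact ⟨n, ⟨e.symm ≪≫ e'⟩⟩
  · intro M hM
    exact ⟨0, ⟨hM.iso (Groth.Agent.Lead.PerfLib.isZero_freeMod_zero Z)⟩⟩
  · rintro M ⟨n, ⟨e⟩⟩ k hk hk'
    let κ : (singleFunctor Z.Modules k).obj (FlatMod.freeMod Z n) ≅
        Q.obj ((HomologicalComplex.single Z.Modules (ComplexShape.up ℤ) k).obj M) :=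
      (singleFunctor Z.Modules k).mapIso e.symm ≪≫ (singleFunctorIsoCompQ Z.Modules k).app M
    exact (ch_free Z k n).of_iso κ

end Base

section Main

/-- maps from a perfect object on a quasi-compact quasi-separated scheme to an object of `D_QCoh`
with countable sections of cohomology sheaves form a countable set -/
theorem ch_of_isPerfect (X : Scheme.{u}) [CompactSpace X] [QuasiSeparatedSpace X]
    (K : DCoh.D X) (hK : DCoh.IsPerfect K) : CH X K := by
  refine MVP2.perfect_induction (fun Z _ _ B => CH Z B) (fun Z j _ B B' e h => CH.of_iso e h)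
    (fun Z j _ U V B hUV hU hV hW => CH.mv U V hUV B hU hV hW) ?_ K hK
  intro Z j _ _ E hE
  exact ch_bddFree Z E hE

open Groth.Agent.Lead.PerfLib Scheme.Modules in
/-- perfect objects restrict to perfect objects on open subschemes -/
theorem isPerfect_restrictD {X Z : Scheme.{u}} (j : Z ⟶ X) [IsOpenImmersion j]
    [PreservesFiniteLimits (Scheme.Modules.restrictFunctor j)]
    (K : DCoh.D X) (hK : DCoh.IsPerfect K) : DCoh.IsPerfect ((DCoh.restrictD j).obj K) := by
  let F₀ : CochainComplex X.Modules ℤ := Q.objPreimage K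
  let e₀ : Q.obj F₀ ≅ K := Q.objObjPreimageIso K
  have hloc := (isPerfect_iff_locSP K F₀ e₀).1 hK
  let e₁ : Q.obj ((Rc j).obj F₀) ≅ (DCoh.restrictD j).obj K :=
    ((restrictFunctor j).mapDerivedCategoryFactors.app F₀).symm ≪≫ (DCoh.restrictD j).mapIso e₀
  refine (isPerfect_iff_locSP _ ((Rc j).obj F₀) e₁).2 (fun z => ?_)
  obtain ⟨Z₁, j₁, hj₁, ⟨z₁, hz₁⟩, E₁, hE₁, ⟨ψ₁⟩⟩ := hloc (j z)
  haveI := hj₁
  obtain ⟨p, hp1, hp2⟩ := Scheme.Pullback.exists_preimage_pullback z z₁ hz₁.symm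
  refine ⟨pullback j j₁, pullback.fst j j₁, inferInstance, ⟨p, hp1⟩,
    (Rc (pullback.snd j j₁)).obj E₁, isStrictlyPerfect_restrict _ hE₁, ⟨?_⟩⟩
  exact (Q.mapIso (rcCompIso j (pullback.fst j j₁) (pullback.fst j j₁ ≫ j) rfl F₀)).symm ≪≫
    Q.mapIso (rcCompIso j₁ (pullback.snd j j₁) (pullback.fst j j₁ ≫ j) pullback.condition F₀) ≪≫
    qRestrictIso (pullback.snd j j₁) ψ₁

/-- the statement over a quasi-compact open -/
theorem countable_hom_over_open (X : Scheme.{u}) [QuasiSeparatedSpace X]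
    (K : DCoh.D X) (hK : DCoh.IsQCohD K) (hKc : CC X K)
    (E : DCoh.D X) (hE : DCoh.IsPerfect E) (U : X.Opens) (hU : IsCompact (U : Set X))
    [PreservesFiniteLimits (Scheme.Modules.restrictFunctor U.ι)] (i : ℤ) :
    Countable ((DCoh.restrictD U.ι).obj E ⟶ ((DCoh.restrictD U.ι).obj K)⟦i⟧) := by
  haveI : CompactSpace U := isCompact_iff_compactSpace.1 hU
  haveI : QuasiSeparatedSpace U := U.isOpenEmbedding'.quasiSeparatedSpace
  exact ch_of_isPerfect U _ (isPerfect_restrictD U.ι E hE) _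
    (isQCohD_shift _ (Groth.Agent.Helper9.QP7.isQCohD_restrictD U.ι K hK) i)
    ((hKc.restrict U).shift i)

end Main

end Groth.Agent.Helper9.MVP12
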