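import Mathlib
import Groth.Prelude.Def_KZero

/-! Transfer of `K₀` of triangulated subcategories along a fully faithful triangulated functor. -/

set_option autoImplicit false
set_option linter.style.haveILetI false
set_option linter.unusedVariables false
set_option linter.unusedSectionVars false

namespace Groth.Agent.Helper9.K0Eq

open CategoryTheory CategoryTheory.Limits Pretriangulated KZero ZeroObject

universe v₁ u₁ v₂ u₂

section one

variable {D : Type u₁} [Category.{v₁} D] [Preadditive D] [HasZeroObject D] [HasShift D ℤ]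
  [∀ n : ℤ, (shiftFunctor D n).Additive] [Pretriangulated D] (P : ObjectProperty D)

/-- the generators of `K0tr P` -/
noncomputable def gen (X : D) (h : P X) : K0tr P :=
  QuotientAddGroup.mk (FreeAbelianGroup.of ⟨X, h⟩)

lemma clTr_eq (X : D) (h : P X) : clTr P X = gen P X h := dif_pos h

lemma gen_triangle (T : Triangle D) (hT : T ∈ distTriang D) (h₁ : P T.obj₁) (h₂ : P T.obj₂)
    (h₃ : P T.obj₃) : gen P T.obj₂ h₂ = gen P T.obj₁ h₁ + gen P T.obj₃ h₃ := by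
  have hmem : (FreeAbelianGroup.of (⟨T.obj₂, h₂⟩ : Subtype P) - FreeAbelianGroup.of ⟨T.obj₁, h₁⟩ -
      FreeAbelianGroup.of ⟨T.obj₃, h₃⟩) ∈ relTr P :=
    AddSubgroup.subset_closure ⟨T, h₁, h₂, h₃, hT, rfl⟩
  have h0 := (QuotientAddGroup.eq_zero_iff _).2 hmem
  rw [QuotientAddGroup.mk_sub, QuotientAddGroup.mk_sub] at h0
  have h1 : gen P T.obj₂ h₂ - gen P T.obj₁ h₁ - gen P T.obj₃ h₃ = 0 := h0
  rw [sub_sub, sub_eq_zero] at h1
  exact h1

lemma gen_zero (h0 : P 0) : gen P 0 h0 = 0 := by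
  have h := gen_triangle P _ (contractible_distinguished (0 : D)) h0 h0 h0
  simpa using h

lemma gen_eq_of_iso {X X' : D} (e : X ≅ X') (h : P X) (h' : P X') (h0 : P 0) :
    gen P X h = gen P X' h' := by
  have hT : Triangle.mk e.hom (0 : X' ⟶ 0) (0 : (0 : D) ⟶ X⟦(1 : ℤ)⟧) ∈ distTriang D := by
    refine isomorphic_distinguished _ (contractible_distinguished X) _
      (Triangle.isoMk _ _ (Iso.refl _) e.symm (Iso.refl _) ?_ ?_ ?_)
    · show e.hom ≫ e.inv = 𝟙 X ≫ 𝟙 X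
      rw [e.hom_inv_id, Category.comp_id]
    · show (0 : X' ⟶ 0) ≫ 𝟙 0 = e.inv ≫ (0 : X ⟶ 0)
      rw [zero_comp, comp_zero]
    · show (0 : (0 : D) ⟶ X⟦(1 : ℤ)⟧) ≫ (shiftFunctor D (1 : ℤ)).map (𝟙 X) = 𝟙 0 ≫ 0
      rw [zero_comp, comp_zero]
  have h1 : gen P X' h' = gen P X h + gen P 0 h0 := gen_triangle P _ hT h h' h0
  rw [gen_zero P h0, add_zero] at h1
  exact h1.symm

lemma clTr_eq_of_iso {X X' : D} (e : X ≅ X') (h : P X) (h' : P X') (h0 : P 0) :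
    clTr P X = clTr P X' := by
  rw [clTr_eq P X h, clTr_eq P X' h']
  exact gen_eq_of_iso P e h h' h0

end one

section two

variable {C : Type u₁} [Category.{v₁} C] [Preadditive C] [HasZeroObject C] [HasShift C ℤ]
  [∀ n : ℤ, (shiftFunctor C n).Additive] [Pretriangulated C]
  {D : Type u₂} [Category.{v₂} D] [Preadditive D] [HasZeroObject D] [HasShift D ℤ]
  [∀ n : ℤ, (shiftFunctor D n).Additive] [Pretriangulated D]
  (F : C ⥤ D) [F.CommShift ℤ] [F.IsTriangulated] [F.Full] [F.Faithful]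
  (P : ObjectProperty C) (Q : ObjectProperty D)

theorem exists_addEquiv (hPQ : ∀ X, Q (F.obj X) ↔ P X)
    (hess : ∀ Y, Q Y → ∃ X, Nonempty (F.obj X ≅ Y))
    (hQiso : ∀ {Y Y' : D}, (Y ≅ Y') → Q Y → Q Y') (hP0 : P 0) (hQ0 : Q 0) :
    ∃ φ : K0tr P ≃+ K0tr Q, ∀ (X : C) (h : P X), φ (gen P X h) = gen Q (F.obj X) ((hPQ X).2 h) := by
  -- forward map
  let φ₁ : FreeAbelianGroup (Subtype P) →+ K0tr Q :=
    FreeAbelianGroup.lift (fun X => gen Q (F.obj X.1) ((hPQ X.1).2 X.2))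
  have hφ₁ : relTr P ≤ φ₁.ker := by
    refine (AddSubgroup.closure_le _).2 ?_
    rintro x ⟨T, h₁, h₂, h₃, hT, rfl⟩
    have h := gen_triangle Q _ (F.map_distinguished T hT) ((hPQ _).2 h₁) ((hPQ _).2 h₂)
      ((hPQ _).2 h₃)
    change φ₁ _ = 0
    simp only [map_sub, φ₁, FreeAbelianGroup.lift_apply_of]
    rw [sub_sub, sub_eq_zero]
    exact h
  let φ₀ : K0tr P →+ K0tr Q := QuotientAddGroup.lift (relTr P) φ₁ hφ₁
  have hφ₀ : ∀ (X : C) (h : P X), φ₀ (gen P X h) = gen Q (F.obj X) ((hPQ X).2 h) := by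
    intro X h
    change φ₁ (FreeAbelianGroup.of ⟨X, h⟩) = _
    simp [φ₁]
  -- backward map
  choose G hG using hess
  have hPG : ∀ (Y : D) (hY : Q Y), P (G Y hY) := fun Y hY =>
    (hPQ _).1 (hQiso (hG Y hY).some.symm hY)
  let ψ₁ : FreeAbelianGroup (Subtype Q) →+ K0tr P :=
    FreeAbelianGroup.lift (fun Y => gen P (G Y.1 Y.2) (hPG Y.1 Y.2))
  have hψ₁ : relTr Q ≤ ψ₁.ker := by
    refine (AddSubgroup.closure_le _).2 ?_
    rintro x ⟨T, h₁, h₂, h₃, hT, rfl⟩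
    let ε₁ : F.obj (G _ h₁) ≅ T.obj₁ := (hG _ h₁).some
    let ε₂ : F.obj (G _ h₂) ≅ T.obj₂ := (hG _ h₂).some
    let ε₃ : F.obj (G _ h₃) ≅ T.obj₃ := (hG _ h₃).some
    let f : G _ h₁ ⟶ G _ h₂ := F.preimage (ε₁.hom ≫ T.mor₁ ≫ ε₂.inv)
    let g : G _ h₂ ⟶ G _ h₃ := F.preimage (ε₂.hom ≫ T.mor₂ ≫ ε₃.inv)
    let k : G _ h₃ ⟶ (G _ h₁)⟦(1 : ℤ)⟧ :=
      F.preimage (ε₃.hom ≫ T.mor₃ ≫ ε₁.inv⟦(1 : ℤ)⟧' ≫ (F.commShiftIso (1 : ℤ)).inv.app _)
    have hT' : Triangle.mk f g k ∈ distTriang C := by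
      rw [← F.map_distinguished_iff]
      refine isomorphic_distinguished _ hT _ (Triangle.isoMk _ _ ε₁ ε₂ ε₃ ?_ ?_ ?_)
      · show F.map f ≫ ε₂.hom = ε₁.hom ≫ T.mor₁
        simp only [f, Functor.map_preimage, Category.assoc, Iso.inv_hom_id, Category.comp_id]
      · show F.map g ≫ ε₃.hom = ε₂.hom ≫ T.mor₂
        simp only [g, Functor.map_preimage, Category.assoc, Iso.inv_hom_id, Category.comp_id]
      · show (F.map k ≫ (F.commShiftIso (1 : ℤ)).hom.app _) ≫ ε₁.hom⟦(1 : ℤ)⟧' = ε₃.hom ≫ T.mor₃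
        simp only [k, Functor.map_preimage, Category.assoc, Iso.inv_hom_id_app_assoc]
        rw [← Functor.map_comp, Iso.inv_hom_id, CategoryTheory.Functor.map_id, Category.comp_id]
    have h := gen_triangle P _ hT' (hPG _ h₁) (hPG _ h₂) (hPG _ h₃)
    change ψ₁ _ = 0
    simp only [map_sub, ψ₁, FreeAbelianGroup.lift_apply_of]
    rw [sub_sub, sub_eq_zero]
    exact h
  let ψ₀ : K0tr Q →+ K0tr P := QuotientAddGroup.lift (relTr Q) ψ₁ hψ₁
  have hψ₀ : ∀ (Y : D) (h : Q Y), ψ₀ (gen Q Y h) = gen P (G Y h) (hPG Y h) := by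
    intro Y h
    change ψ₁ (FreeAbelianGroup.of ⟨Y, h⟩) = _
    simp [ψ₁]
  have h12 : ψ₀.comp φ₀ = AddMonoidHom.id _ := by
    apply QuotientAddGroup.addMonoidHom_ext
    apply FreeAbelianGroup.lift_ext
    rintro ⟨X, hX⟩
    change ψ₀ (φ₀ (gen P X hX)) = gen P X hX
    rw [hφ₀, hψ₀]
    exact gen_eq_of_iso P (F.preimageIso (hG _ _).some) _ _ hP0
  have h21 : φ₀.comp ψ₀ = AddMonoidHom.id _ := by
    apply QuotientAddGroup.addMonoidHom_ext
    apply FreeAbelianGroup.lift_ext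
    rintro ⟨Y, hY⟩
    change φ₀ (ψ₀ (gen Q Y hY)) = gen Q Y hY
    rw [hψ₀, hφ₀]
    exact gen_eq_of_iso Q (hG _ _).some _ _ hQ0
  exact ⟨AddMonoidHom.toAddEquiv φ₀ ψ₀ h12 h21, hφ₀⟩

end two

end Groth.Agent.Helper9.K0Eq
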