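import Mathlib
import Groth.Prelude.Def_KLin
import Groth.Prelude.Def_DCoh3
import Groth.Prelude.Def_CxOX

/-! Restriction to an open subscheme is linear over the base ring, for modules and on derived
categories. -/

set_option autoImplicit false
set_option linter.style.haveILetI false
set_option linter.unusedVariables false
set_option linter.unusedSectionVars false
universe u

namespace Groth.Agent.Helper9.MVP9

open CategoryTheory CategoryTheory.Limits AlgebraicGeometry Opposite TopologicalSpace
  Scheme.Modules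

attribute [local instance] HasDerivedCategory.standard

variable {A : Type u} [CommRing A] {X U : Scheme.{u}} [X.Over (Spec (CommRingCat.of A))]
  [U.Over (Spec (CommRingCat.of A))] (j : U ⟶ X) [IsOpenImmersion j]
  [j.IsOver (Spec (CommRingCat.of A))]

lemma toGlobal_eq (a : A) :
    Coh.toGlobal (U ↘ Spec (CommRingCat.of A)) a =
      j.appTop (Coh.toGlobal (X ↘ Spec (CommRingCat.of A)) a) := by
  rw [← KLin.toGlobal_comp j (X ↘ Spec (CommRingCat.of A)) a,
    comp_over j (Spec (CommRingCat.of A))]

lemma appIso_inv_res (a : A) (V : U.Opens) :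
    (j.appIso V).inv (U.presheaf.map (homOfLE (le_top : V ≤ ⊤)).op
      (Coh.toGlobal (U ↘ Spec (CommRingCat.of A)) a)) =
      X.presheaf.map (homOfLE (le_top : j ''ᵁ V ≤ ⊤)).op
        (Coh.toGlobal (X ↘ Spec (CommRingCat.of A)) a) := by
  rw [toGlobal_eq j a]
  have h := Scheme.Hom.appLE_appIso_inv j (U := ⊤) (V := V) le_top
  have h2 := congrArg (fun φ => φ.hom (Coh.toGlobal (X ↘ Spec (CommRingCat.of A)) a)) h
  simp only [Scheme.Hom.appLE, CommRingCat.hom_comp, RingHom.coe_comp] at h2
  exact h2

/-- restriction to an open subscheme over `Spec A` is `A`-linear -/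
theorem restrict_map_smul_id (M : X.Modules) (a : A) :
    (restrictFunctor j).map (a • 𝟙 M) = a • 𝟙 ((restrictFunctor j).obj M) := by
  refine Scheme.Modules.hom_ext _ _ fun V => ?_
  ext m
  have h1 : ∀ m' : Γ(M, j ''ᵁ V), (a • 𝟙 M).app (j ''ᵁ V) m' =
      X.presheaf.map (homOfLE (le_top : j ''ᵁ V ≤ ⊤)).op
        (Coh.toGlobal (X ↘ Spec (CommRingCat.of A)) a) • m' := fun m' => by
    rw [KLin.smul_app_apply, Scheme.Modules.Hom.id_app]
    rfl
  have h2 : (a • 𝟙 ((restrictFunctor j).obj M)).app V m =
      U.presheaf.map (homOfLE (le_top : V ≤ ⊤)).op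
        (Coh.toGlobal (U ↘ Spec (CommRingCat.of A)) a) • m := by
    rw [KLin.smul_app_apply, Scheme.Modules.Hom.id_app]
    rfl
  have h3 : U.presheaf.map (homOfLE (le_top : V ≤ ⊤)).op
        (Coh.toGlobal (U ↘ Spec (CommRingCat.of A)) a) • m =
      (show Γ(M, j ''ᵁ V) from ((j.appIso V).inv (U.presheaf.map (homOfLE (le_top : V ≤ ⊤)).op
        (Coh.toGlobal (U ↘ Spec (CommRingCat.of A)) a)) • (show Γ(M, j ''ᵁ V) from m))) := rfl
  refine (h1 m).trans (Eq.trans ?_ (h2.trans h3).symm)
  rw [appIso_inv_res j a V]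

instance linear_restrictFunctor : (restrictFunctor j).Linear A :=
  (Functor.linear_iff A _).mpr fun M a => restrict_map_smul_id j M a

instance linear_restrictD : (DCoh.restrictD j).Linear A :=
  inferInstanceAs ((restrictFunctor j).mapDerivedCategory.Linear A)

theorem restrictD_map_smul {K L : DCoh.D X} (a : A) (φ : K ⟶ L) :
    (DCoh.restrictD j).map (a • φ) = a • (DCoh.restrictD j).map φ :=
  Functor.map_smul _ _ _

/-- adjunction transposes are compatible with scalar multiplication when the right adjoint is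
linear -/
lemma adj_homEquiv_smul {C D : Type*} [Category C] [Category D] [Preadditive C] [Preadditive D]
    {R : Type*} [Semiring R] [Linear R C] [Linear R D]
    {F : C ⥤ D} {G : D ⥤ C} [G.Additive] [G.Linear R] (adj : F ⊣ G) {X : C} {Y : D}
    (r : R) (f : F.obj X ⟶ Y) : adj.homEquiv X Y (r • f) = r • adj.homEquiv X Y f := by
  rw [Adjunction.homEquiv_unit, Adjunction.homEquiv_unit, Functor.map_smul, Linear.comp_smul]

end Groth.Agent.Helper9.MVP9
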