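import Mathlib
import Groth.Prelude.Def_KLin
import Groth.Agent.Helper9.MVP2
import Groth.Agent.Helper9.MVP4
import Groth.Agent.Helper9.MVP9
import Groth.Agent.Helper9.QP3
import Groth.Agent.Helper4.SuppLib
import Groth.Agent.Helper4.AssDict

/-! Maps from a perfect object to an object of `D_QCoh` supported on the zero locus of `a` are
killed by a power of `a`. -/

set_option autoImplicit false
set_option linter.style.haveILetI false
set_option linter.unusedVariables false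
set_option linter.unusedSectionVars false
universe u

namespace Groth.Agent.Helper9.MVP10

open CategoryTheory CategoryTheory.Limits AlgebraicGeometry Opposite TopologicalSpace
  Pretriangulated DerivedCategory
open Groth.Agent.Helper9.MVP3 Groth.Agent.Helper9.MVP9 Groth.Agent.Helper9.LC3
  Groth.Agent.Helper9.LCAff1 Groth.Agent.Helper9.QP2

attribute [local instance] HasDerivedCategory.standard

variable (A : Type u) [CommRing A] (a : A)

lemma subsingleton_stalk_of_iso {Z : Scheme.{u}} {M N : Z.Modules} (e : M ≅ N) (x : Z)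
    (h : Subsingleton (M.presheaf.stalk x)) : Subsingleton (N.presheaf.stalk x) := by
  let e' := (Scheme.Modules.toPresheaf Z ⋙ TopCat.Presheaf.stalkFunctor Ab.{u} x).mapIso e
  have h2 : Subsingleton ((forget Ab).obj ((Scheme.Modules.toPresheaf Z ⋙
      TopCat.Presheaf.stalkFunctor Ab (X := Z.toTopCat) x).obj M)) := h
  exact ((forget Ab).mapIso e').toEquiv.symm.subsingleton

section Defs

variable (Z : Scheme.{u}) [Z.Over (Spec (CommRingCat.of A))]

/-- the cohomology sheaves of `E'` vanish where `a` is invertible -/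
def SuppA (E' : DCoh.D Z) : Prop :=
  ∀ (i : ℤ) (x : Z), x ∈ Z.basicOpen (Coh.toGlobal (Z ↘ Spec (CommRingCat.of A)) a) →
    Subsingleton ((DCoh.HD E' i).presheaf.stalk x)

/-- maps from `B` to objects of `D_QCoh` supported on `V(a)` are killed by powers of `a` -/
def KA (B : DCoh.D Z) : Prop :=
  ∀ E' : DCoh.D Z, DCoh.IsQCohD E' → SuppA A a Z E' → ∀ α : B ⟶ E', ∃ n : ℕ, a ^ n • α = 0

variable {Z}

lemma suppA_shift (E' : DCoh.D Z) (h : SuppA A a Z E') (n : ℤ) : SuppA A a Z (E'⟦n⟧) :=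
  fun i x hx => subsingleton_stalk_of_iso
    (Groth.Agent.Helper9.Amp1.homologyShiftIso E' n i).symm x (h (n + i) x hx)

lemma suppA_restrict (E' : DCoh.D Z) (h : SuppA A a Z E') (U : Z.Opens) :
    SuppA A a U ((DCoh.restrictD U.ι).obj E') := by
  intro i x hx
  have e1 := Scheme.preimage_basicOpen_top U.ι (Coh.toGlobal (Z ↘ Spec (CommRingCat.of A)) a)
  have e2 := toGlobal_eq U.ι a
  have hx2 : x ∈ U.ι ⁻¹ᵁ Z.basicOpen (Coh.toGlobal (Z ↘ Spec (CommRingCat.of A)) a) := by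
    rw [e1, ← e2]
    exact hx
  have h1 : U.ι x ∉ CohB1.support (DCoh.HD E' i) := fun hc => hc (h i (U.ι x) hx2)
  have h2 : x ∉ CohB1.support (DCoh.HD ((DCoh.restrictD U.ι).obj E') i) := by
    rw [Groth.Agent.Helper4.SuppLib.support_HD_restrictD]
    exact h1
  exact not_not.1 h2

lemma KA.of_iso {B B' : DCoh.D Z} (e : B ≅ B') (h : KA A a Z B) : KA A a Z B' := by
  intro E' hq hs α
  obtain ⟨n, hn⟩ := h E' hq hs (e.hom ≫ α)
  refine ⟨n, ?_⟩
  rw [← cancel_epi e.hom, Linear.comp_smul, hn, comp_zero]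

lemma KA.of_isZero {B : DCoh.D Z} (h : IsZero B) : KA A a Z B :=
  fun E' _ _ α => ⟨0, by rw [h.eq_of_src α 0, smul_zero]⟩

lemma KA.triangle (T : Triangle (DCoh.D Z)) (hT : T ∈ distTriang _) (h1 : KA A a Z T.obj₁)
    (h3 : KA A a Z T.obj₃) : KA A a Z T.obj₂ := by
  intro E' hq hs α
  obtain ⟨n, hn⟩ := h1 E' hq hs (T.mor₁ ≫ α)
  obtain ⟨g, hg⟩ := Triangle.yoneda_exact₂ T hT (a ^ n • α) (by rw [Linear.comp_smul, hn])
  obtain ⟨m, hm⟩ := h3 E' hq hs g
  refine ⟨m + n, ?_⟩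
  rw [pow_add, mul_smul, hg, ← Linear.comp_smul, hm, comp_zero]

end Defs

section MV

variable {Z : Scheme.{u}} [Z.Over (Spec (CommRingCat.of A))]

lemma smul_eq_zero_of_adj {C D : Type*} [Category C] [Category D] [Preadditive C] [Preadditive D]
    [Linear A C] [Linear A D] {F : C ⥤ D} {G : D ⥤ C} [F.PreservesZeroMorphisms] [G.Additive]
    [G.Linear A] (adj : F ⊣ G) {X : C} {Y : D} (f : F.obj X ⟶ Y) (r : A)
    (h : r • adj.homEquiv X Y f = 0) : r • f = 0 := by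
  apply adj_hom_eq_zero adj
  rw [adj_homEquiv_smul, h]

/-- the Mayer–Vietoris step -/
theorem KA.mv (U V : Z.Opens) (hUV : U ⊔ V = ⊤) (B : DCoh.D Z)
    (hU : KA A a U ((DCoh.restrictD U.ι).obj B)) (hV : KA A a V ((DCoh.restrictD V.ι).obj B))
    (hW : KA A a (U ⊓ V : Z.Opens) ((DCoh.restrictD (U ⊓ V).ι).obj B)) : KA A a Z B := by
  intro E' hq hs α
  obtain ⟨a', b', c', hT⟩ := Groth.Agent.S6513.result U V hUV B
  obtain ⟨nU, hnU⟩ := hU _ (Groth.Agent.Helper9.QP7.isQCohD_restrictD U.ι E' hq)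
    (suppA_restrict A a E' hs U)
    ((Groth.Agent.Helper9.RH2.shAdj U.ι).homEquiv _ _ (biprod.inl ≫ b' ≫ α))
  obtain ⟨nV, hnV⟩ := hV _ (Groth.Agent.Helper9.QP7.isQCohD_restrictD V.ι E' hq)
    (suppA_restrict A a E' hs V)
    ((Groth.Agent.Helper9.RH2.shAdj V.ι).homEquiv _ _ (biprod.inr ≫ b' ≫ α))
  have hU0 := smul_eq_zero_of_adj A (Groth.Agent.Helper9.RH2.shAdj U.ι) _ _ hnU
  have hV0 := smul_eq_zero_of_adj A (Groth.Agent.Helper9.RH2.shAdj V.ι) _ _ hnV
  have h1 : b' ≫ (a ^ (nU + nV) • α) = 0 := by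
    apply biprod.hom_ext'
    · rw [comp_zero, Linear.comp_smul, Linear.comp_smul, pow_add, mul_comm, mul_smul, hU0,
        smul_zero]
    · rw [comp_zero, Linear.comp_smul, Linear.comp_smul, pow_add, mul_smul, hV0, smul_zero]
  obtain ⟨g, hg⟩ : ∃ g : ((CxOX.extZeroD (U ⊓ V).ι).obj
      ((DCoh.restrictD (U ⊓ V).ι).obj B))⟦(1 : ℤ)⟧ ⟶ E', a ^ (nU + nV) • α = c' ≫ g :=
    Triangle.yoneda_exact₃ _ hT (a ^ (nU + nV) • α) h1
  obtain ⟨m, hm⟩ := hW _ (Groth.Agent.Helper9.QP7.isQCohD_restrictD (U ⊓ V).ι _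
      (isQCohD_shift E' hq (-1)))
    (suppA_restrict A a _ (suppA_shift A a E' hs (-1)) (U ⊓ V))
    ((Groth.Agent.Helper9.RH2.shAdj (U ⊓ V).ι).homEquiv _ _
      ((shiftEquiv (DCoh.D Z) (1 : ℤ)).toAdjunction.homEquiv _ _ g))
  haveI : (shiftEquiv (DCoh.D Z) (1 : ℤ)).inverse.Additive :=
    inferInstanceAs ((shiftFunctor (DCoh.D Z) (-(1 : ℤ))).Additive)
  haveI : (shiftEquiv (DCoh.D Z) (1 : ℤ)).inverse.Linear A :=
    inferInstanceAs ((shiftFunctor (DCoh.D Z) (-(1 : ℤ))).Linear A)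
  have hg0 : a ^ m • g = 0 := by
    apply smul_eq_zero_of_adj A (shiftEquiv (DCoh.D Z) (1 : ℤ)).toAdjunction
    exact smul_eq_zero_of_adj A (Groth.Agent.Helper9.RH2.shAdj (U ⊓ V).ι) _ _ hm
  refine ⟨m + (nU + nV), ?_⟩
  rw [pow_add, mul_smul, hg, ← Linear.comp_smul, hg0, comp_zero]

end MV

end Groth.Agent.Helper9.MVP10
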