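import Mathlib
import Groth.Agent.Helper9.MVP10
import Groth.Agent.Helper9.LCUnit1

/-! Maps from a perfect object to an object of `D_QCoh` supported on the zero locus of `a` are
killed by a power of `a`: the affine base case and the induction. -/

set_option autoImplicit false
set_option linter.style.haveILetI false
set_option linter.unusedVariables false
set_option linter.unusedSectionVars false
universe u

namespace Groth.Agent.Helper9.MVP11

open CategoryTheory CategoryTheory.Limits AlgebraicGeometry Opposite TopologicalSpace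
  Pretriangulated DerivedCategory
open Groth.Agent.Helper9.MVP3 Groth.Agent.Helper9.MVP9 Groth.Agent.Helper9.MVP10
  Groth.Agent.Helper9.LC3 Groth.Agent.Helper9.LCAff1 Groth.Agent.Helper9.QP1
  Groth.Agent.Helper9.QP2

attribute [local instance] HasDerivedCategory.standard

variable (A : Type u) [CommRing A] (a : A)

section Base

variable {Z : Scheme.{u}} [Z.Over (Spec (CommRingCat.of A))] [IsAffine Z]

theorem ka_unit (k : ℤ) :
    KA A a Z ((singleFunctor Z.Modules k).obj (SheafOfModules.unit Z.ringCatSheaf)) := by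
  intro E' hq hs ψ
  let e := Groth.Agent.Helper9.LCUnit1.unitIsoGU Z
  have hl := Groth.Agent.Helper9.QP3.locHom_affine k E' A a (⊤ : Z.Opens) (isAffineOpen_top Z) hq
  have hD : IsAffineOpen (Z.basicOpen (resA A a (⊤ : Z.Opens))) :=
    (isAffineOpen_top Z).basicOpen _
  have hρ : (singleFunctor Z.Modules k).map (GUmap (Z.basicOpen_le (resA A a (⊤ : Z.Opens)))) ≫
      ((singleFunctor Z.Modules k).map e.inv ≫ ψ) = 0 := by
    apply (Groth.Agent.Helper9.QP3.kk_bijective k E' hq _ hD).1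
    rw [Groth.Agent.Helper9.QP3.kk_zero]
    apply Groth.Agent.Helper4.AssDict.section_eq_zero_of_germ
    intro x hx
    have hx' : x ∈ Z.basicOpen (Coh.toGlobal (Z ↘ Spec (CommRingCat.of A)) a) := by
      have h1 : Z.basicOpen (resA A a (⊤ : Z.Opens)) =
          ⊤ ⊓ Z.basicOpen (Coh.toGlobal (Z ↘ Spec (CommRingCat.of A)) a) :=
        Scheme.basicOpen_res Z _ _
      rw [h1] at hx
      exact hx.2
    haveI := hs k x hx'
    exact Subsingleton.elim _ _
  obtain ⟨n, hn⟩ := hl.1 _ hρ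
  refine ⟨n, ?_⟩
  have h2 := ((singleFunctor Z.Modules k).mapIso e).hom_inv_id_assoc ψ
  rw [← h2, ← Linear.comp_smul]
  exact (congrArg (fun t => ((singleFunctor Z.Modules k).mapIso e).hom ≫ t) hn).trans comp_zero

theorem ka_free (k : ℤ) (n : ℕ) :
    KA A a Z ((singleFunctor Z.Modules k).obj (FlatMod.freeMod Z n)) := by
  classical
  intro E' hq hs ψ
  haveI : HasFiniteBiproducts Z.Modules := Abelian.hasFiniteBiproducts
  let f : Fin n → Z.Modules := fun _ => SheafOfModules.unit Z.ringCatSheaf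
  let e' : FlatMod.freeMod Z n ≅ ⨁ f := (biproduct.isoCoproduct f).symm
  let Fk := singleFunctor Z.Modules k
  have h1 : 𝟙 (Fk.obj (⨁ f)) = ∑ j : Fin n, Fk.map (biproduct.π f j) ≫ Fk.map (biproduct.ι f j) := by
    simp only [← Functor.map_comp]
    rw [← Functor.map_sum, biproduct.total, CategoryTheory.Functor.map_id]
  have h2 : ∀ χ : Fk.obj (⨁ f) ⟶ E', ∃ N : ℕ, a ^ N • χ = 0 := by
    intro χ
    choose m hm using fun j : Fin n => ka_unit A a k E' hq hs (Fk.map (biproduct.ι f j) ≫ χ)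
    refine ⟨∑ j, m j, ?_⟩
    rw [← Category.id_comp χ, h1, Preadditive.sum_comp, Finset.smul_sum]
    refine Finset.sum_eq_zero (fun j _ => ?_)
    have h3 : a ^ (∑ j, m j) = a ^ (∑ i ∈ Finset.univ.erase j, m i) * a ^ m j := by
      rw [← pow_add, Finset.sum_erase_add _ _ (Finset.mem_univ j)]
    rw [Category.assoc, ← Linear.comp_smul, h3, mul_smul, hm j, smul_zero, comp_zero]
  obtain ⟨N, hN⟩ := h2 (Fk.map e'.inv ≫ ψ)
  refine ⟨N, ?_⟩
  have h3 := (Fk.mapIso e').hom_inv_id_assoc ψ
  rw [← h3, ← Linear.comp_smul]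
  exact (congrArg (fun t => (Fk.mapIso e').hom ≫ t) hN).trans comp_zero

/-- the base case: bounded complexes of finite free modules on an affine scheme -/
theorem ka_bddFree (E : CochainComplex Z.Modules ℤ) (hE : MVP2.BddFree E) :
    KA A a Z (Q.obj E) := by
  obtain ⟨⟨lo, hi, hvan⟩, hfree⟩ := hE
  refine MVP4.of_bounded_range (KA A a Z) (fun e h => KA.of_iso A a e h)
    (fun B hB => KA.of_isZero A a hB) (fun T hT h1 h3 => KA.triangle A a T hT h1 h3)
    (fun M => ∃ n : ℕ, Nonempty (M ≅ FlatMod.freeMod Z n)) ?_ ?_ lo hi ?_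
    (hi - lo + 1).toNat E lo hi le_rfl le_rfl (by omega) hfree
    (fun i hi' => hvan i (Or.inl hi')) (fun i hi' => hvan i (Or.inr hi'))
  · rintro M M' e ⟨n, ⟨e'⟩⟩
    exact ⟨n, ⟨e.symm ≪≫ e'⟩⟩
  · intro M hM
    exact ⟨0, ⟨hM.iso (Groth.Agent.Lead.PerfLib.isZero_freeMod_zero Z)⟩⟩
  · rintro M ⟨n, ⟨e⟩⟩ k _ _
    exact KA.of_iso A a ((singleFunctor Z.Modules k).mapIso e.symm ≪≫
      (singleFunctorIsoCompQ Z.Modules k).app M) (ka_free A a k n)

end Base

/-- **main theorem** -/
theorem ka_of_isPerfect (X : Scheme.{u}) [X.Over (Spec (CommRingCat.of A))] [CompactSpace X]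
    [QuasiSeparatedSpace X] (K : DCoh.D X) (hK : DCoh.IsPerfect K) : KA A a X K := by
  have key := MVP2.perfect_induction (X := X)
    (fun Z j _ B => ∀ (inst : Z.Over (Spec (CommRingCat.of A))),
      (Z ↘ Spec (CommRingCat.of A)) = j ≫ (X ↘ Spec (CommRingCat.of A)) → KA A a Z B)
    (fun Z j _ B B' e h inst hinst => KA.of_iso A a e (h inst hinst))
    ?_ ?_ K hK
  · exact key inferInstance (Category.id_comp _).symm
  · intro Z j _ U V B hUV hU hV hW inst hinst
    refine KA.mv A a U V hUV B (hU inferInstance ?_) (hV inferInstance ?_) (hW inferInstance ?_)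
    · show U.ι ≫ (Z ↘ Spec (CommRingCat.of A)) = (U.ι ≫ j) ≫ (X ↘ Spec (CommRingCat.of A))
      rw [hinst, Category.assoc]
    · show V.ι ≫ (Z ↘ Spec (CommRingCat.of A)) = (V.ι ≫ j) ≫ (X ↘ Spec (CommRingCat.of A))
      rw [hinst, Category.assoc]
    · show (U ⊓ V).ι ≫ (Z ↘ Spec (CommRingCat.of A)) =
        ((U ⊓ V).ι ≫ j) ≫ (X ↘ Spec (CommRingCat.of A))
      rw [hinst, Category.assoc]
  · intro Z j _ _ E hE inst hinst
    exact ka_bddFree A a E hE

end Groth.Agent.Helper9.MVP11
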