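import Mathlib
import Groth.Agent.Helper9.MVP11
import Groth.Agent.Lead.PerfLib4

/-! Maps from a perfect object to an object of `D_QCoh` vanishing on `U = X_{f₁} ∪ … ∪ X_{f_r}` factor
through a perfect object vanishing on `U`. -/

set_option autoImplicit false
set_option linter.style.haveILetI false
set_option linter.unusedVariables false
set_option linter.unusedSectionVars false
universe u

namespace Groth.Agent.Helper9.MVP13

open CategoryTheory CategoryTheory.Limits AlgebraicGeometry Opposite TopologicalSpace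
  Pretriangulated DerivedCategory
open Groth.Agent.Helper9.MVP3 Groth.Agent.Helper9.MVP9 Groth.Agent.Helper9.MVP10

attribute [local instance] HasDerivedCategory.standard

section Unit

variable (A : Type u) [CommRing A] {Z : Scheme.{u}} [Z.Over (Spec (CommRingCat.of A))]

/-- multiplication by a global unit is an isomorphism of modules -/
lemma isIso_smulModΓ (M : Z.Modules) (r : Coh.Γtop Z) (hr : IsUnit r) :
    IsIso (Formal.smulModΓ M r) := by
  obtain ⟨u, rfl⟩ := hr
  refine ⟨Formal.smulModΓ M (↑u⁻¹ : Coh.Γtop Z), ?_, ?_⟩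
  · rw [← KLin.smulModΓ_mul, Units.mul_inv, KLin.smulModΓ_one]
  · rw [← KLin.smulModΓ_mul, Units.inv_mul, KLin.smulModΓ_one]

lemma isIso_smul_id_modules (a : A) (ha : IsUnit (Coh.toGlobal (Z ↘ Spec (CommRingCat.of A)) a))
    (M : Z.Modules) : IsIso (a • 𝟙 M) := by
  rw [KLin.smul_id]
  exact isIso_smulModΓ M _ ha

/-- multiplication by an element of `A` which becomes a unit on `Z` is an isomorphism on every
object of `D(O_Z)` -/
theorem isIso_smul_id (a : A) (ha : IsUnit (Coh.toGlobal (Z ↘ Spec (CommRingCat.of A)) a))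
    (K : DCoh.D Z) : IsIso (a • 𝟙 K) := by
  let F : CochainComplex Z.Modules ℤ := Q.objPreimage K
  let e : Q.obj F ≅ K := Q.objObjPreimageIso K
  haveI h1 : IsIso (a • 𝟙 F) := by
    haveI : ∀ n, IsIso ((a • 𝟙 F : F ⟶ F).f n) := fun n => by
      have : (a • 𝟙 F : F ⟶ F).f n = a • 𝟙 (F.X n) := by
        rw [HomologicalComplex.smul_f_apply, HomologicalComplex.id_f]
      rw [this]
      exact isIso_smul_id_modules A a ha _
    exact HomologicalComplex.Hom.isIso_of_components _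
  have h2 : a • 𝟙 K = e.inv ≫ Q.map (a • 𝟙 F) ≫ e.hom := by
    rw [Functor.map_smul, CategoryTheory.Functor.map_id, Linear.smul_comp, Linear.comp_smul,
      Category.id_comp, e.inv_hom_id]
  rw [h2]
  infer_instance

end Unit

section Basic

lemma isUnit_of_basicOpen_eq_top {Y : Scheme.{u}} (g : Γ(Y, ⊤)) (h : Y.basicOpen g = ⊤) :
    IsUnit g := by
  apply RingedSpace.isUnit_of_isUnit_germ Y.toRingedSpace ⊤ g
  intro x hx
  have hx' : x ∈ Y.basicOpen g := by rw [h]; trivial
  exact (Y.mem_basicOpen g x hx).1 hx'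

variable (A : Type u) [CommRing A] {X : Scheme.{u}} [X.Over (Spec (CommRingCat.of A))]

/-- the basic open of `X` where `a ∈ A` is invertible -/
noncomputable abbrev Da (X : Scheme.{u}) [X.Over (Spec (CommRingCat.of A))] (a : A) : X.Opens :=
  X.basicOpen (Coh.toGlobal (X ↘ Spec (CommRingCat.of A)) a)

lemma isUnit_toGlobal_Da (a : A) {W : X.Opens} (hW : W ≤ Da A X a) :
    IsUnit (Coh.toGlobal ((W : Scheme.{u}) ↘ Spec (CommRingCat.of A)) a) := by
  rw [toGlobal_eq W.ι a]
  apply isUnit_of_basicOpen_eq_top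
  refine (Scheme.preimage_basicOpen_top W.ι
    (Coh.toGlobal (X ↘ Spec (CommRingCat.of A)) a)).symm.trans ?_
  apply top_le_iff.1
  intro x _
  exact hW x.2

/-- a power of `a` acts invertibly on objects over opens where `a` is invertible -/
lemma isIso_smul_id_Da (a : A) (n : ℕ) {W : X.Opens} (hW : W ≤ Da A X a)
    (K : DCoh.D (W : Scheme.{u})) : IsIso ((a ^ n) • 𝟙 K) := by
  apply isIso_smul_id A (a ^ n) _ K
  rw [map_pow]
  exact (isUnit_toGlobal_Da A a hW).pow n

end Basic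

section Main

open Groth.Agent.Lead.PerfLib

variable (A : Type u) [CommRing A] {X : Scheme.{u}} [X.Over (Spec (CommRingCat.of A))]

/-- the cohomology sheaves of `C` vanish at all points of `W` -/
def ZeroOn (C : DCoh.D X) (W : X.Opens) : Prop :=
  ∀ (i : ℤ) (x : X), x ∈ W → x ∉ CohB1.support (DCoh.HD C i)

lemma zeroOn_iff (C : DCoh.D X) (W : X.Opens) :
    ZeroOn C W ↔ IsZero ((DCoh.restrictD W.ι).obj C) := by
  rw [Groth.Agent.Helper4.SuppLib.isZero_restrictD_iff]
  constructor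
  · intro h i x
    exact h i (W.ι x) x.2
  · intro h i x hx
    exact h i ⟨x, hx⟩

lemma ZeroOn.mono {C : DCoh.D X} {W W' : X.Opens} (h : ZeroOn C W) (hle : W' ≤ W) :
    ZeroOn C W' := fun i x hx => h i x (hle hx)

lemma ZeroOn.sup {C : DCoh.D X} {W W' : X.Opens} (h : ZeroOn C W) (h' : ZeroOn C W') :
    ZeroOn C (W ⊔ W') := by
  intro i x hx
  rcases hx with hx | hx
  · exact h i x hx
  · exact h' i x hx

lemma zeroOn_obj₃ (T : Triangle (DCoh.D X)) (hT : T ∈ distTriang _) (W : X.Opens)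
    (h : IsIso ((DCoh.restrictD W.ι).map T.mor₁)) : ZeroOn T.obj₃ W := by
  rw [zeroOn_iff]
  have hT' := (DCoh.restrictD W.ι).map_distinguished T hT
  exact (Triangle.isZero₃_iff_isIso₁ _ hT').2 h

lemma isIso_restrict_mor₁ (T : Triangle (DCoh.D X)) (hT : T ∈ distTriang _) (W : X.Opens)
    (h : ZeroOn T.obj₃ W) : IsIso ((DCoh.restrictD W.ι).map T.mor₁) := by
  rw [zeroOn_iff] at h
  have hT' := (DCoh.restrictD W.ι).map_distinguished T hT
  exact (Triangle.isZero₃_iff_isIso₁ _ hT').1 h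

/-- the union of the basic opens of the elements of a list -/
noncomputable def UL (X : Scheme.{u}) [X.Over (Spec (CommRingCat.of A))] : List A → X.Opens
  | [] => ⊥
  | a :: l => Da A X a ⊔ UL X l

lemma suppA_of_zeroOn (a : A) (G : DCoh.D X) (h : ZeroOn G (Da A X a)) : SuppA A a X G := by
  intro i x hx
  exact not_not.1 (h i x hx)

/-- **factorization through a perfect object vanishing on `U`** -/
theorem exists_factor [CompactSpace X] [QuasiSeparatedSpace X] (as : List A) :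
    ∀ (E : DCoh.D X), DCoh.IsPerfect E → ∀ (G : DCoh.D X), DCoh.IsQCohD G →
      ZeroOn G (UL A X as) → ∀ ω : E ⟶ G,
      ∃ (C : DCoh.D X) (c : E ⟶ C) (ω' : C ⟶ G), DCoh.IsPerfect C ∧ ZeroOn C (UL A X as) ∧
        c ≫ ω' = ω := by
  induction as with
  | nil =>
    intro E hE G hG hz ω
    exact ⟨E, 𝟙 E, ω, hE, fun i x hx => (hx : x ∈ (⊥ : X.Opens)).elim, Category.id_comp ω⟩
  | cons a l ih =>
    intro E hE G hG hz ω
    have hz1 : ZeroOn G (Da A X a) := hz.mono le_sup_left
    have hz2 : ZeroOn G (UL A X l) := hz.mono le_sup_right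
    obtain ⟨C', c', ω₁, hC', hzC', hfac⟩ := ih E hE G hG hz2 ω
    obtain ⟨n, hn⟩ := Groth.Agent.Helper9.MVP11.ka_of_isPerfect A a X C' hC' G hG
      (suppA_of_zeroOn A a G hz1) ω₁
    obtain ⟨C, g, h, hT⟩ := Pretriangulated.distinguished_cocone_triangle ((a ^ n) • 𝟙 C')
    obtain ⟨ω₂, hω₂⟩ : ∃ ω₂ : C ⟶ G, ω₁ = g ≫ ω₂ := Triangle.yoneda_exact₂ _ hT ω₁ (by
      show ((a ^ n) • 𝟙 C') ≫ ω₁ = 0
      rw [Linear.smul_comp, Category.id_comp, hn])
    refine ⟨C, c' ≫ g, ω₂, isPerfect_obj₃ _ hT hC' hC', ?_, ?_⟩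
    · show ZeroOn C (Da A X a ⊔ UL A X l)
      refine ZeroOn.sup ?_ ?_
      · refine zeroOn_obj₃ _ hT (Da A X a) ?_
        show IsIso ((DCoh.restrictD (Da A X a).ι).map ((a ^ n) • 𝟙 C'))
        rw [Functor.map_smul, CategoryTheory.Functor.map_id]
        exact isIso_smul_id_Da A a n le_rfl _
      · refine zeroOn_obj₃ _ hT (UL A X l) ?_
        have hz0 : IsZero ((DCoh.restrictD (UL A X l).ι).obj C') := (zeroOn_iff C' _).1 hzC'
        exact ⟨0, hz0.eq_of_src _ _, hz0.eq_of_src _ _⟩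
    · rw [Category.assoc, ← hfac]
      exact congrArg (fun t => c' ≫ t) hω₂.symm

/-- fibre form: a perfect `E₁ ⟶ E`, an isomorphism over `U`, killing `ω` -/
theorem exists_perfect_iso_on [CompactSpace X] [QuasiSeparatedSpace X] (as : List A)
    (E : DCoh.D X) (hE : DCoh.IsPerfect E) (G : DCoh.D X) (hG : DCoh.IsQCohD G)
    (hz : ZeroOn G (UL A X as)) (ω : E ⟶ G) :
    ∃ (E₁ : DCoh.D X) (β : E₁ ⟶ E), DCoh.IsPerfect E₁ ∧
      IsIso ((DCoh.restrictD (UL A X as).ι).map β) ∧ β ≫ ω = 0 := by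
  obtain ⟨C, c, ω', hC, hzC, hfac⟩ := exists_factor A as E hE G hG hz ω
  obtain ⟨E₁, β, h, hT⟩ := Pretriangulated.distinguished_cocone_triangle₁ c
  refine ⟨E₁, β, (isPerfect_two_out_of_three _ hT).2.2 hE hC,
    isIso_restrict_mor₁ _ hT _ hzC, ?_⟩
  rw [← hfac, ← Category.assoc]
  have h0 : β ≫ c = 0 := comp_distTriang_mor_zero₁₂ _ hT
  rw [h0, zero_comp]

end Main

end Groth.Agent.Helper9.MVP13
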