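import Mathlib
import Groth.Agent.Helper9.MVP13
import Groth.Agent.Helper9.QP7
import Groth.Agent.Helper4.RjSuppGen
import Groth.Agent.Helper4.QcohWSerre
import Groth.Agent.Helper4.HasRD

/-! Lifting maps `E|_U ⟶ E'|_U` with `E` perfect to roofs `E ⟵ E₁ ⟶ E'` with `E₁` perfect and
`E₁ ⟶ E` an isomorphism over `U`, for `U = X_{f₁} ∪ … ∪ X_{f_r}`. -/

set_option autoImplicit false
set_option linter.style.haveILetI false
set_option linter.unusedVariables false
set_option linter.unusedSectionVars false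
universe u

namespace Groth.Agent.Helper9.MVP14

open CategoryTheory CategoryTheory.Limits AlgebraicGeometry Opposite TopologicalSpace
  Pretriangulated DerivedCategory
open Groth.Agent.Helper9.MVP13

attribute [local instance] HasDerivedCategory.standard

/-- the inclusion of a quasi-compact open of a quasi-separated scheme is quasi-compact -/
lemma quasiCompact_ι (X : Scheme.{u}) [QuasiSeparatedSpace X] (U : X.Opens)
    (hU : IsCompact (U : Set X)) : QuasiCompact U.ι := by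
  rw [quasiCompact_iff_forall_isAffineOpen]
  intro V hV
  have h1 : IsCompact ((U : Set X) ∩ (V : Set X)) :=
    QuasiSeparatedSpace.inter_isCompact _ _ U.isOpen hU V.isOpen hV.isCompact
  have h2 : (U.ι ⁻¹ᵁ V : Set U) = (Subtype.val : U → X) ⁻¹' ((U : Set X) ∩ (V : Set X)) := by
    ext x
    constructor
    · intro hx
      exact ⟨x.2, hx⟩
    · intro hx
      exact hx.2
  rw [h2]
  exact (Topology.IsEmbedding.subtypeVal).isCompact_preimage_iff
    (by rw [Subtype.range_coe]; exact Set.inter_subset_left) |>.2 h1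

section Main

variable (A : Type u) [CommRing A] {X : Scheme.{u}} [X.Over (Spec (CommRingCat.of A))]

theorem lift_of_UL [CompactSpace X] [QuasiSeparatedSpace X] (as : List A)
    (hU : IsCompact (UL A X as : Set X)) (E E' : DCoh.D X) (hE : DCoh.IsPerfect E)
    (hE' : DCoh.IsQCohD E')
    (α : (DCoh.restrictD (UL A X as).ι).obj E ⟶ (DCoh.restrictD (UL A X as).ι).obj E') :
    ∃ (E₁ : DCoh.D X) (β : E₁ ⟶ E) (γ : E₁ ⟶ E'), DCoh.IsPerfect E₁ ∧
      IsIso ((DCoh.restrictD (UL A X as).ι).map β) ∧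
      (DCoh.restrictD (UL A X as).ι).map β ≫ α = (DCoh.restrictD (UL A X as).ι).map γ := by
  haveI : QuasiCompact (UL A X as).ι := quasiCompact_ι X _ hU
  haveI : DCoh.HasRpush (UL A X as).ι := Groth.Agent.Helper4.HasRD.hasRpush _
  let adj := Groth.Agent.Helper4.RjSuppGen.dAdj' (UL A X as).ι
  have hE'' : DCoh.IsQCohD ((DCoh.Rpush (UL A X as).ι).obj
      ((DCoh.restrictD (UL A X as).ι).obj E')) :=
    Groth.Agent.Helper9.QP7.isQCohD_Rpush (UL A X as).ι _
      (Groth.Agent.Helper9.QP7.isQCohD_restrictD (UL A X as).ι E' hE')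
  obtain ⟨F₁, g, δ, hT⟩ := distinguished_cocone_triangle (adj.unit.app E')
  have hF₁ : DCoh.IsQCohD F₁ :=
    Groth.Agent.Helper4.QcohWSerre.isQCohD_obj₃ _ hT hE' hE''
  have hz : ZeroOn F₁ (UL A X as) := zeroOn_obj₃ _ hT _
    (Groth.Agent.Helper4.RjSuppGen.isIso_restrict_unit_of_adj (UL A X as).ι adj E')
  obtain ⟨E₁, β, hE₁, hβ, hβω⟩ := exists_perfect_iso_on A as E hE F₁ hF₁ hz
    (adj.homEquiv _ _ α ≫ g)
  obtain ⟨γ, hγ⟩ : ∃ γ : E₁ ⟶ E', β ≫ adj.homEquiv _ _ α = γ ≫ adj.unit.app E' :=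
    Triangle.coyoneda_exact₂ _ hT (β ≫ adj.homEquiv _ _ α)
      ((Category.assoc _ _ _).trans hβω)
  refine ⟨E₁, β, γ, hE₁, hβ, ?_⟩
  apply (adj.homEquiv _ _).injective
  rw [Adjunction.homEquiv_naturality_left, hγ, Adjunction.homEquiv_unit]
  exact adj.unit.naturality γ

end Main

section Affine

variable (A : Type u) [CommRing A] {X : Scheme.{u}} [X.Over (Spec (CommRingCat.of A))]

lemma mem_UL (as : List A) (x : X) : x ∈ UL A X as ↔ ∃ a ∈ as, x ∈ Da A X a := by
  induction as with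
  | nil =>
    constructor
    · intro h
      exact (h : x ∈ (⊥ : X.Opens)).elim
    · rintro ⟨a, ha, -⟩
      exact absurd ha (List.not_mem_nil)
  | cons b l ih =>
    constructor
    · intro h
      rcases (h : x ∈ Da A X b ⊔ UL A X l) with h | h
      · exact ⟨b, List.mem_cons_self, h⟩
      · obtain ⟨a, ha, hx⟩ := ih.1 h
        exact ⟨a, List.mem_cons_of_mem _ ha, hx⟩
    · rintro ⟨a, ha, hx⟩
      rcases List.mem_cons.1 ha with rfl | ha'
      · exact Or.inl hx
      · exact Or.inr (ih.2 ⟨a, ha', hx⟩)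

variable (X) in
/-- every scheme lives over the spectrum of its ring of global functions -/
@[instance_reducible]
noncomputable def overΓ : X.Over (Spec (CommRingCat.of Γ(X, ⊤))) := ⟨X.toSpecΓ⟩

lemma toGlobal_overΓ (Y : Scheme.{u}) (a : Γ(Y, ⊤)) :
    Coh.toGlobal (Y.toSpecΓ : Y ⟶ Spec (CommRingCat.of Γ(Y, ⊤))) a = a := by
  unfold Coh.toGlobal
  have h := Scheme.toSpecΓ_appTop Y
  show (Y.toSpecΓ.appTop).hom ((Scheme.ΓSpecIso (CommRingCat.of Γ(Y, ⊤))).inv.hom a) = a
  rw [h]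
  exact Iso.inv_hom_id_apply (C := CommRingCat) _ _

/-- a quasi-compact open of an affine scheme is a finite union of basic opens -/
lemma exists_list_UL (Y : Scheme.{u}) [IsAffine Y] (U : Y.Opens) (hU : IsCompact (U : Set Y)) :
    letI := overΓ Y
    ∃ as : List Γ(Y, ⊤), UL Γ(Y, ⊤) Y as = U := by
  letI := overΓ Y
  classical
  obtain ⟨s, hs, hUs⟩ := (Opens.IsBasis.isCompact_open_iff_eq_finite_iUnion
    (Y.basicOpen : Γ(Y, ⊤) → Y.Opens) (isBasis_basicOpen Y)
    (fun f => ((isAffineOpen_top Y).basicOpen f).isCompact) (U : Set Y)).1 ⟨hU, U.isOpen⟩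
  refine ⟨hs.toFinset.toList, ?_⟩
  ext x
  rw [SetLike.mem_coe, mem_UL]
  have hx : x ∈ U ↔ ∃ f ∈ s, x ∈ Y.basicOpen f := by
    rw [← SetLike.mem_coe, hUs]
    simp only [Set.mem_iUnion, SetLike.mem_coe, exists_prop]
  rw [SetLike.mem_coe, hx]
  constructor
  · rintro ⟨a, ha, hxa⟩
    refine ⟨a, ?_, ?_⟩
    · simpa using ha
    · have : Da Γ(Y, ⊤) Y a = Y.basicOpen a := by
        show Y.basicOpen (Coh.toGlobal (Y.toSpecΓ : Y ⟶ Spec (CommRingCat.of Γ(Y, ⊤))) a) = _
        rw [toGlobal_overΓ]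
      rw [this] at hxa
      exact hxa
  · rintro ⟨f, hf, hxf⟩
    refine ⟨f, ?_, ?_⟩
    · simpa using hf
    · have : Da Γ(Y, ⊤) Y f = Y.basicOpen f := by
        show Y.basicOpen (Coh.toGlobal (Y.toSpecΓ : Y ⟶ Spec (CommRingCat.of Γ(Y, ⊤))) f) = _
        rw [toGlobal_overΓ]
      rw [this]
      exact hxf

/-- the statement for an affine scheme and a quasi-compact open -/
theorem lift_affine (Y : Scheme.{u}) [IsAffine Y] (U : Y.Opens) (hU : IsCompact (U : Set Y))
    (E E' : DCoh.D Y) (hE : DCoh.IsPerfect E) (hE' : DCoh.IsQCohD E')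
    (α : (DCoh.restrictD U.ι).obj E ⟶ (DCoh.restrictD U.ι).obj E') :
    ∃ (E₁ : DCoh.D Y) (β : E₁ ⟶ E) (γ : E₁ ⟶ E'), DCoh.IsPerfect E₁ ∧
      IsIso ((DCoh.restrictD U.ι).map β) ∧
      (DCoh.restrictD U.ι).map β ≫ α = (DCoh.restrictD U.ι).map γ := by
  letI := overΓ Y
  obtain ⟨as, rfl⟩ := exists_list_UL Y U hU
  exact lift_of_UL Γ(Y, ⊤) as hU E E' hE hE' α

end Affine

end Groth.Agent.Helper9.MVP14
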