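import Mathlib
import Groth.Prelude.Def_KLin
import Groth.Prelude.Def_DCoh2
import Groth.Agent.Helper9.MVP14

/-! The tilde functor on `Spec R` is `R`-linear; basic opens of `Spec R`. -/

set_option autoImplicit false
set_option linter.style.haveILetI false
set_option linter.unusedVariables false
set_option linter.unusedSectionVars false
universe u

namespace Groth.Agent.Helper9.KZ1

open CategoryTheory CategoryTheory.Limits AlgebraicGeometry Opposite TopologicalSpace
  Pretriangulated DerivedCategory
open Groth.Agent.Helper9.MVP13 Groth.Agent.Helper9.MVP14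

attribute [local instance] HasDerivedCategory.standard

variable (R : CommRingCat.{u})

/-- `Spec R` over itself -/
@[instance_reducible]
noncomputable def overSelf : (Spec (CommRingCat.of R)).Over (Spec (CommRingCat.of R)) := ⟨𝟙 _⟩

attribute [local instance] overSelf

lemma toGlobal_self (a : R) :
    Coh.toGlobal (Spec (CommRingCat.of R) ↘ Spec (CommRingCat.of R)) a =
      (Scheme.ΓSpecIso (CommRingCat.of R)).inv a := by
  unfold Coh.toGlobal
  show (Scheme.Hom.appTop (𝟙 (Spec (CommRingCat.of R)))).hom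
    ((Scheme.ΓSpecIso (CommRingCat.of R)).inv.hom a) = _
  rw [Scheme.Hom.id_appTop]
  rfl

lemma Da_eq (a : R) :
    Da R (Spec (CommRingCat.of R)) a = PrimeSpectrum.basicOpen a := by
  show (Spec (CommRingCat.of R)).basicOpen _ = _
  rw [toGlobal_self]
  exact basicOpen_eq_of_affine (R := CommRingCat.of R) a

lemma mem_compl_zeroLocus_span (S : Set R) (y : PrimeSpectrum R) :
    y ∈ (PrimeSpectrum.zeroLocus ((Ideal.span S : Ideal R) : Set R))ᶜ ↔
      ∃ a ∈ S, a ∉ y.asIdeal := by
  rw [PrimeSpectrum.zeroLocus_span, Set.mem_compl_iff, PrimeSpectrum.mem_zeroLocus,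
    Set.not_subset]
  rfl

lemma UL_eq_puncturedOpen (fs : List R) :
    UL R (Spec (CommRingCat.of R)) fs = LocCoh.puncturedOpen R (Ideal.span {a | a ∈ fs}) := by
  ext x
  rw [SetLike.mem_coe, mem_UL]
  have h1 : x ∈ (LocCoh.puncturedOpen R (Ideal.span {a | a ∈ fs}) : Set _) ↔
      ∃ a ∈ fs, a ∉ (x : PrimeSpectrum R).asIdeal :=
    mem_compl_zeroLocus_span R {a | a ∈ fs} x
  rw [h1]
  constructor
  · rintro ⟨a, ha, hx⟩
    rw [Da_eq] at hx
    exact ⟨a, ha, hx⟩
  · rintro ⟨a, ha, hx⟩
    refine ⟨a, ha, ?_⟩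
    rw [Da_eq]
    exact hx

section Linear

open Scheme.Modules

/-- the global sections functor on `Spec R` is `R`-linear -/
lemma Γ_map_smul_id (N : (Spec (CommRingCat.of R)).Modules) (a : R) :
    (moduleSpecΓFunctor (R := R)).map (a • 𝟙 N) =
      a • 𝟙 ((moduleSpecΓFunctor (R := R)).obj N) := by
  ext x
  have h1 : ((moduleSpecΓFunctor (R := R)).map (a • 𝟙 N)).hom x =
      (a • 𝟙 N).app ⊤ (show Γ(N, ⊤) from x) := rfl
  have h2 := KLin.smul_app_apply a (𝟙 N) ⊤ (show Γ(N, ⊤) from x)
  rw [toGlobal_self] at h2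
  exact h1.trans h2

/-- the tilde functor on `Spec R` is `R`-linear -/
theorem tilde_map_smul_id (M : ModuleCat.{u} R) (a : R) :
    (tilde.functor R).map (a • 𝟙 M) = a • 𝟙 ((tilde.functor R).obj M) := by
  let adj := tilde.adjunction (R := R)
  apply (adj.homEquiv _ _).injective
  rw [Adjunction.homEquiv_unit, Adjunction.homEquiv_unit]
  have h := adj.unit.naturality (a • 𝟙 M)
  simp only [Functor.id_obj, Functor.id_map, Functor.comp_map] at h
  rw [← h, Γ_map_smul_id, Linear.smul_comp, Category.id_comp, Linear.comp_smul]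
  exact congrArg (fun t => a • t) (Category.comp_id _).symm

instance linear_tilde : (tilde.functor R).Linear R :=
  (Functor.linear_iff R _).mpr fun M a => tilde_map_smul_id R M a

instance linear_tildeD [PreservesFiniteLimits (tilde.functor R)] :
    (DCoh.tildeD R).Linear R :=
  inferInstanceAs ((tilde.functor R).mapDerivedCategory.Linear R)

end Linear

end Groth.Agent.Helper9.KZ1
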