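import Mathlib
import Groth.Prelude.Def_Koszul
import Groth.Agent.Helper9.KZ1
import Groth.Agent.Helper9.LCTil1
import Groth.Agent.Lead.PcLib9
import Groth.Agent.Lead.PerfLib10
import Groth.Agent.Helper4.FinLocFree6

/-! The Koszul objects `K(f₁, …, f_r)~` of `D(O_{Spec R})`: triangles, perfectness, support. -/

set_option autoImplicit false
set_option linter.style.haveILetI false
set_option linter.unusedVariables false
set_option linter.unusedSectionVars false
universe u

namespace Groth.Agent.Helper9.KZ2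

open CategoryTheory CategoryTheory.Limits AlgebraicGeometry Opposite TopologicalSpace
  Pretriangulated DerivedCategory
open Groth.Agent.Helper9.MVP13 Groth.Agent.Helper9.MVP14 Groth.Agent.Helper9.KZ1
  Groth.Agent.Lead.PerfLib

attribute [local instance] HasDerivedCategory.standard
attribute [local instance] overSelf

variable (R : CommRingCat.{u}) [PreservesFiniteLimits (tilde.functor R)]

/-- the Koszul object of `D(O_{Spec R})` -/
noncomputable abbrev Kt (l : List R) : DCoh.D (Spec (CommRingCat.of R)) :=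
  (DCoh.tildeD R).obj (Q.obj (Koszul.koszul R l))

/-- the structure sheaf in degree `0` -/
noncomputable abbrev OX : DCoh.D (Spec (CommRingCat.of R)) :=
  (singleFunctor (Spec (CommRingCat.of R)).Modules 0).obj
    (SheafOfModules.unit (Spec (CommRingCat.of R)).ringCatSheaf)

noncomputable def KtNilIso : Kt R [] ≅ OX R :=
  Groth.Agent.Helper9.LCTil1.singleIso R 0

/-- the defining triangle of the Koszul object -/
theorem exists_triangle (f : R) (l : List R) :
    ∃ (g : Kt R l ⟶ Kt R (f :: l)) (h : Kt R (f :: l) ⟶ (Kt R l)⟦(1 : ℤ)⟧),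
      Triangle.mk (f • 𝟙 (Kt R l)) g h ∈ distTriang (DCoh.D (Spec (CommRingCat.of R))) := by
  let φ : Koszul.koszul R l ⟶ Koszul.koszul R l := f • 𝟙 (Koszul.koszul R l)
  let T₀ := Q.mapTriangle.obj (CochainComplex.mappingCone.triangle φ)
  have hT₀ : T₀ ∈ distTriang (DerivedCategory (ModuleCat.{u} R)) :=
    (DerivedCategory.mem_distTriang_iff T₀).2 ⟨_, _, φ, ⟨Iso.refl _⟩⟩
  have hT₁ := (DCoh.tildeD R).map_distinguished T₀ hT₀
  have e : ((DCoh.tildeD R).mapTriangle.obj T₀).mor₁ = f • 𝟙 (Kt R l) := by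
    show (DCoh.tildeD R).map (Q.map (f • 𝟙 (Koszul.koszul R l))) = _
    rw [Functor.map_smul, Functor.map_smul, CategoryTheory.Functor.map_id,
      CategoryTheory.Functor.map_id]
  refine ⟨((DCoh.tildeD R).mapTriangle.obj T₀).mor₂, ((DCoh.tildeD R).mapTriangle.obj T₀).mor₃, ?_⟩
  rw [← e]
  exact hT₁

theorem isPerfect_inD_of_isFinLocFree {Y : Scheme.{u}} (F : Y.Modules)
    (hF : FlatMod.IsFinLocFree F) : DCoh.IsPerfect (DCoh.inD Y F) := by
  rw [isPerfect_iff_locSP _ (sg F) (sgIso F)]
  intro y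
  exact ⟨Y, 𝟙 Y, inferInstance, ⟨y, rfl⟩, (Rc (𝟙 Y)).obj (sg F),
    isStrictlyPerfect_restrict _ (Groth.Agent.Lead.PcLib.isStrictlyPerfect_sg F hF), ⟨Iso.refl _⟩⟩

theorem isPerfect_OX : DCoh.IsPerfect (OX R) :=
  isPerfect_inD_of_isFinLocFree _ Groth.Agent.Helper4.FinLocFree6.isFinLocFree_unit

/-- the Koszul objects are perfect -/
theorem isPerfect_Kt (l : List R) : DCoh.IsPerfect (Kt R l) := by
  induction l with
  | nil => exact isPerfect_of_iso (KtNilIso R).symm (isPerfect_OX R)
  | cons f l ih =>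
    obtain ⟨g, h, hT⟩ := exists_triangle R f l
    exact isPerfect_obj₃ _ hT ih ih

/-- the Koszul objects vanish where one of the elements is invertible -/
theorem zeroOn_Kt (l : List R) : ZeroOn (Kt R l) (UL R (Spec (CommRingCat.of R)) l) := by
  induction l with
  | nil => exact fun i x hx => (hx : x ∈ (⊥ : (Spec (CommRingCat.of R)).Opens)).elim
  | cons f l ih =>
    obtain ⟨g, h, hT⟩ := exists_triangle R f l
    show ZeroOn (Kt R (f :: l)) (Da R (Spec (CommRingCat.of R)) f ⊔ UL R _ l)
    refine ZeroOn.sup ?_ ?_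
    · refine zeroOn_obj₃ _ hT (Da R (Spec (CommRingCat.of R)) f) ?_
      show IsIso ((DCoh.restrictD (Da R (Spec (CommRingCat.of R)) f).ι).map (f • 𝟙 (Kt R l)))
      rw [Functor.map_smul, CategoryTheory.Functor.map_id]
      have := isIso_smul_id_Da R f 1 (X := Spec (CommRingCat.of R)) le_rfl
        ((DCoh.restrictD (Da R (Spec (CommRingCat.of R)) f).ι).obj (Kt R l))
      rwa [pow_one] at this
    · refine zeroOn_obj₃ _ hT (UL R (Spec (CommRingCat.of R)) l) ?_
      have hz0 : IsZero ((DCoh.restrictD (UL R (Spec (CommRingCat.of R)) l).ι).obj (Kt R l)) :=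
        (zeroOn_iff (Kt R l) _).1 ih
      exact ⟨0, hz0.eq_of_src _ _, hz0.eq_of_src _ _⟩

end Groth.Agent.Helper9.KZ2
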