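import Mathlib
import Groth.Agent.Helper9.MVP2
import Groth.Agent.Helper9.MVP4

/-! Maps from a perfect object to objects of `D_QCoh` on a quasi-compact quasi-separated scheme
vanish when the cohomology of the target vanishes in a fixed range. -/

set_option autoImplicit false
set_option linter.style.haveILetI false
set_option linter.unusedVariables false
set_option linter.unusedSectionVars false
universe u

namespace Groth.Agent.Helper9.MVP5

open CategoryTheory CategoryTheory.Limits AlgebraicGeometry Opposite TopologicalSpace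
open Groth.Agent.Helper9.MVP3

attribute [local instance] HasDerivedCategory.standard

theorem hv_of_isPerfect (X : Scheme.{u}) [CompactSpace X] [QuasiSeparatedSpace X]
    (K : DCoh.D X) (hK : DCoh.IsPerfect K) : HV X K := by
  refine MVP2.perfect_induction (fun Z _ _ B => HV Z B) (fun Z j _ B B' e h => HV.of_iso e h)
    (fun Z j _ U V B hUV hU hV hW => HV.mv Z U V hUV B hU hV hW) ?_ K hK
  rintro Z j _ _ E ⟨⟨a, b, hab⟩, hfree⟩
  exact MVP4.HV_bounded_free Z E a b hab hfree

/-- cohomology of a shift of a bounded object -/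
theorem isZero_HD_shift_of_isLE {X : Scheme.{u}} (L : DCoh.D X) (b' : ℤ) [L.IsLE b'] (n i : ℤ)
    (h : b' < n + i) : IsZero (DCoh.HD (L⟦n⟧) i) :=
  IsZero.of_iso (DerivedCategory.isZero_of_isLE L b' (n + i) h)
    (Groth.Agent.Helper9.Amp1.homologyShiftIso L n i)

theorem isZero_HD_shift_of_isGE {X : Scheme.{u}} (L : DCoh.D X) (a' : ℤ) [L.IsGE a'] (n i : ℤ)
    (h : n + i < a') : IsZero (DCoh.HD (L⟦n⟧) i) :=
  IsZero.of_iso (DerivedCategory.isZero_of_isGE L a' (n + i) h)
    (Groth.Agent.Helper9.Amp1.homologyShiftIso L n i)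

end Groth.Agent.Helper9.MVP5
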