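import Mathlib
import Groth.Agent.Helper9.MVP3

/-! Vanishing of `Hom(B, L)` for `L ∈ D_QCoh` whose cohomology vanishes on a set of degrees:
Mayer–Vietoris step for arbitrary sets of degrees. -/

set_option autoImplicit false
set_option linter.style.haveILetI false
set_option linter.unusedVariables false
set_option linter.unusedSectionVars false
universe u

namespace Groth.Agent.Helper9.MVP7

open CategoryTheory CategoryTheory.Limits AlgebraicGeometry Opposite Pretriangulated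
open Groth.Agent.Helper9.MVP3

attribute [local instance] HasDerivedCategory.standard

/-- `Hom(B, L) = 0` for all `L ∈ D_QCoh` whose cohomology vanishes in the degrees of `R` -/
def HVr (Z : Scheme.{u}) (B : DCoh.D Z) (R : Set ℤ) : Prop :=
  ∀ L : DCoh.D Z, DCoh.IsQCohD L → (∀ i ∈ R, IsZero (DCoh.HD L i)) → ∀ φ : B ⟶ L, φ = 0

theorem HVr.mono {Z : Scheme.{u}} {B : DCoh.D Z} {R R' : Set ℤ} (h : R ⊆ R') (hB : HVr Z B R) :
    HVr Z B R' :=
  fun L hL hv φ => hB L hL (fun i hi => hv i (h hi)) φ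

theorem HVr.of_iso {Z : Scheme.{u}} {B B' : DCoh.D Z} {R : Set ℤ} (e : B ≅ B')
    (h : HVr Z B R) : HVr Z B' R := by
  intro L hL hvan φ
  have := h L hL hvan (e.hom ≫ φ)
  rw [← cancel_epi e.hom, this, comp_zero]

/-- the Mayer–Vietoris step -/
theorem HVr.mv (Z : Scheme.{u}) (U V : Z.Opens) (hUV : U ⊔ V = ⊤) (B : DCoh.D Z)
    (RU RV RW : Set ℤ)
    (hU : HVr U ((DCoh.restrictD U.ι).obj B) RU) (hV : HVr V ((DCoh.restrictD V.ι).obj B) RV)
    (hW : HVr (U ⊓ V : Z.Opens) ((DCoh.restrictD (U ⊓ V).ι).obj B) RW) :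
    HVr Z B (RU ∪ RV ∪ {i | i + 1 ∈ RW}) := by
  intro L hL hvan φ
  obtain ⟨a', b', c', hT⟩ := Groth.Agent.S6513.result U V hUV B
  have h1 : b' ≫ φ = 0 := by
    apply biprod.hom_ext'
    · rw [comp_zero]
      apply adj_hom_eq_zero (Groth.Agent.Helper9.RH2.shAdj U.ι)
      refine hU _ (Groth.Agent.Helper9.QP7.isQCohD_restrictD U.ι L hL) (fun i hi => ?_) _
      exact isZero_HD_restrict U.ι L i (hvan i (Or.inl (Or.inl hi)))
    · rw [comp_zero]
      apply adj_hom_eq_zero (Groth.Agent.Helper9.RH2.shAdj V.ι)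
      refine hV _ (Groth.Agent.Helper9.QP7.isQCohD_restrictD V.ι L hL) (fun i hi => ?_) _
      exact isZero_HD_restrict V.ι L i (hvan i (Or.inl (Or.inr hi)))
  obtain ⟨g, hg⟩ := Triangle.yoneda_exact₃ _ hT φ h1
  have h2 : g = 0 := by
    apply adj_hom_eq_zero (shiftEquiv (DCoh.D Z) (1 : ℤ)).toAdjunction
    apply adj_hom_eq_zero (Groth.Agent.Helper9.RH2.shAdj (U ⊓ V).ι)
    refine hW _ (Groth.Agent.Helper9.QP7.isQCohD_restrictD (U ⊓ V).ι _
      (isQCohD_shift L hL (-1))) (fun i hi => ?_) _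
    refine isZero_HD_restrict (U ⊓ V).ι _ i ?_
    refine IsZero.of_iso (hvan (-1 + i) (Or.inr ?_))
      (Groth.Agent.Helper9.Amp1.homologyShiftIso L (-1) i)
    show -1 + i + 1 ∈ RW
    have : -1 + i + 1 = i := by ring
    rw [this]
    exact hi
  rw [hg, h2]
  exact comp_zero

end Groth.Agent.Helper9.MVP7
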