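import Mathlib
import Groth.Agent.Helper9.MVP7
import Groth.Agent.Helper9.MVP4
import Groth.Agent.Helper9.MVP5
import Groth.Agent.Helper4.FinLocFree3
import Groth.Agent.Helper4.FinLocFree4
import Groth.Agent.Helper4.AffKD
import Groth.Agent.Lead.LocLift3

/-! Uniform vanishing of `Extⁿ(F, E)` for finite locally free `F` on a quasi-compact
quasi-separated scheme. -/

set_option autoImplicit false
set_option linter.style.haveILetI false
set_option linter.unusedVariables false
set_option linter.unusedSectionVars false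
universe u

namespace Groth.Agent.Helper9.MVP8

open CategoryTheory CategoryTheory.Limits AlgebraicGeometry Opposite Pretriangulated
open Groth.Agent.Helper9.MVP3 Groth.Agent.Helper9.MVP7 Groth.Agent.Helper4.FinLocFree
  Scheme.Modules

attribute [local instance] HasDerivedCategory.standard

lemma retract_of_iso {C : Type*} [Category C] {A B T : C} (e : A ≅ B) (i : A ⟶ T) (p : T ⟶ A)
    (h : i ≫ p = 𝟙 A) : (e.inv ≫ i) ≫ (p ≫ e.hom) = 𝟙 B := by
  rw [Category.assoc, ← Category.assoc i, h, Category.id_comp, e.inv_hom_id]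

lemma retract_map {C D : Type*} [Category C] [Category D] (G : C ⥤ D) {A T : C} (i : A ⟶ T)
    (p : T ⟶ A) (h : i ≫ p = 𝟙 A) : G.map i ≫ G.map p = 𝟙 (G.obj A) := by
  rw [← G.map_comp, h, G.map_id]

lemma retract_postcomp_iso {C : Type*} [Category C] {A T T' : C} (κ : T ≅ T') (i : A ⟶ T)
    (p : T ⟶ A) (h : i ≫ p = 𝟙 A) : (i ≫ κ.hom) ≫ (κ.inv ≫ p) = 𝟙 A := by
  rw [Category.assoc, κ.hom_inv_id_assoc, h]

/-- `M~` finite locally free is a retract of a finite free module -/
theorem exists_retract_free_tilde (R : CommRingCat.{u}) (M : ModuleCat.{u} R)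
    (hM : FlatMod.IsFinLocFree (tilde M)) :
    ∃ (m : ℕ) (i : tilde M ⟶ FlatMod.freeMod (Spec R) m) (p : FlatMod.freeMod (Spec R) m ⟶ tilde M),
      i ≫ p = 𝟙 (tilde M) := by
  have hfp : SheafOfModules.IsFinitePresentation (R := (Spec R).ringCatSheaf) (tilde M) :=
    Groth.Agent.Helper4.FinLocFree2.isFinitePresentation_of_isFinLocFree (tilde M) hM
  haveI : Module.FinitePresentation R M :=
    Groth.Agent.Helper4.FPTilde.finitePresentation_of_isFP_tilde R M hfp
  haveI : Module.Finite R M := inferInstance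
  haveI : Module.Projective R M := by
    rw [← Module.freeLocus_eq_univ_iff, Set.eq_univ_iff_forall]
    intro x
    exact (Groth.Agent.Helper4.FinLocFree3.mem_freeLocus_iff_free_stalk R M x).mpr
      (Groth.Agent.Helper4.FinLocFree2.free_stalk_of_isFinLocFree (tilde M) hM x)
  obtain ⟨m, π, hπ⟩ := Module.Finite.exists_fin' R M
  let π' : (Fin m →₀ R) →ₗ[R] M := π ∘ₗ (Finsupp.linearEquivFunOnFinite R R (Fin m)).toLinearMap
  have hπ' : Function.Surjective π' :=
    hπ.comp (Finsupp.linearEquivFunOnFinite R R (Fin m)).surjective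
  obtain ⟨s, hs⟩ := Module.projective_lifting_property π' LinearMap.id hπ'
  let i₀ : M ⟶ ModuleCat.of R (Fin m →₀ R) := ModuleCat.ofHom s
  let p₀ : ModuleCat.of R (Fin m →₀ R) ⟶ M := ModuleCat.ofHom π'
  have h0 : i₀ ≫ p₀ = 𝟙 M := by
    ext x
    exact LinearMap.congr_fun hs x
  exact ⟨m, (tilde.functor R).map i₀ ≫ (tildeFreeIso R m).hom,
    (tildeFreeIso R m).inv ≫ (tilde.functor R).map p₀,
    retract_postcomp_iso (tildeFreeIso R m) _ _ (retract_map (tilde.functor R) i₀ p₀ h0)⟩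

/-- on `Spec R`, a finite locally free module is a retract of a finite free module -/
theorem exists_retract_free_spec (R : CommRingCat.{u}) (F : (Spec R).Modules)
    (hF : FlatMod.IsFinLocFree F) :
    ∃ (m : ℕ) (i : F ⟶ FlatMod.freeMod (Spec R) m) (p : FlatMod.freeMod (Spec R) m ⟶ F),
      i ≫ p = 𝟙 F := by
  haveI : F.IsQuasicoherent :=
    Groth.Agent.Helper4.FinLocFree4.isQuasicoherent_of_isFinLocFree F hF
  haveI : IsIso F.fromTildeΓ := inferInstance
  let e1 := asIso F.fromTildeΓ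
  have hM : FlatMod.IsFinLocFree (tilde (moduleSpecΓFunctor.obj F)) := by
    intro x
    obtain ⟨U, n, hx, ⟨e⟩⟩ := hF x
    exact ⟨U, n, hx, ⟨(restrictFunctor U.ι).mapIso e1 ≪≫ e⟩⟩
  obtain ⟨m, i, p, hip⟩ := exists_retract_free_tilde R _ hM
  exact ⟨m, e1.inv ≫ i, p ≫ e1.hom, retract_of_iso e1 i p hip⟩

/-- on an affine scheme, a finite locally free module is a retract of a finite free module -/
theorem exists_retract_free (Z : Scheme.{u}) [IsAffine Z] (F : Z.Modules)
    (hF : FlatMod.IsFinLocFree F) :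
    ∃ (m : ℕ) (i : F ⟶ FlatMod.freeMod Z m) (p : FlatMod.freeMod Z m ⟶ F), i ≫ p = 𝟙 F := by
  let e : Z ≅ Spec Γ(Z, ⊤) := Z.isoSpec
  let Eq := Groth.Agent.Helper4.AffKD.restrictEquiv e
  let F' : (Spec Γ(Z, ⊤)).Modules := Eq.inverse.obj F
  have hF' : FlatMod.IsFinLocFree F' :=
    Groth.Agent.Lead.LocLift.isFinLocFree_restrict hF e.inv
  obtain ⟨m, i, p, hip⟩ := exists_retract_free_spec Γ(Z, ⊤) F' hF'
  let κ : Eq.functor.obj (FlatMod.freeMod (Spec Γ(Z, ⊤)) m) ≅ FlatMod.freeMod Z m :=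
    restrictFreeIso e.hom m
  have h1 := retract_postcomp_iso κ _ _ (retract_map Eq.functor i p hip)
  exact ⟨m, (Eq.counitIso.app F).inv ≫ (Eq.functor.map i ≫ κ.hom),
    (κ.inv ≫ Eq.functor.map p) ≫ (Eq.counitIso.app F).hom,
    retract_of_iso (Eq.counitIso.app F) _ _ h1⟩

/-- uniform vanishing property for finite locally free modules on `Z` -/
def PF (Z : Scheme.{u}) : Prop :=
  ∃ N : ℤ, ∀ F : Z.Modules, FlatMod.IsFinLocFree F →
    HVr Z ((DerivedCategory.singleFunctor Z.Modules 0).obj F) (Set.Ioi N)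

theorem pf_affine (Z : Scheme.{u}) [IsAffine Z] : PF Z := by
  refine ⟨-1, fun F hF L hL hv φ => ?_⟩
  obtain ⟨m, i, p, hip⟩ := exists_retract_free Z F hF
  have h0 : IsZero (DCoh.HD L 0) := hv 0 (by simp)
  have h1 := Groth.Agent.Helper9.MVP4.hom_free_eq_zero Z L hL 0 h0 m
    ((DerivedCategory.singleFunctor Z.Modules 0).map p ≫ φ)
  have h2 : φ = (DerivedCategory.singleFunctor Z.Modules 0).map i ≫
      ((DerivedCategory.singleFunctor Z.Modules 0).map p ≫ φ) := by
    rw [← Category.assoc, ← Functor.map_comp, hip, CategoryTheory.Functor.map_id,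
      Category.id_comp]
  rw [h2, h1, comp_zero]

theorem pf_mv (Z : Scheme.{u}) (U V : Z.Opens) (hUV : U ⊔ V = ⊤)
    (hU : PF U) (hV : PF V) (hW : PF (U ⊓ V : Z.Opens)) : PF Z := by
  obtain ⟨NU, hU⟩ := hU
  obtain ⟨NV, hV⟩ := hV
  obtain ⟨NW, hW⟩ := hW
  refine ⟨min NU (min NV (NW - 1)), fun F hF => ?_⟩
  have key : ∀ (W : Z.Opens) (N : ℤ), (∀ F' : (W : Scheme.{u}).Modules, FlatMod.IsFinLocFree F' →
      HVr W ((DerivedCategory.singleFunctor (W : Scheme.{u}).Modules 0).obj F') (Set.Ioi N)) →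
      HVr W ((DCoh.restrictD W.ι).obj ((DerivedCategory.singleFunctor Z.Modules 0).obj F))
        (Set.Ioi N) := by
    intro W N h
    exact HVr.of_iso (((restrictFunctor W.ι).mapDerivedCategorySingleFunctor 0).app F).symm
      (h _ (Groth.Agent.Lead.LocLift.isFinLocFree_restrict hF W.ι))
  refine HVr.mono ?_ (HVr.mv Z U V hUV _ _ _ _ (key U NU hU) (key V NV hV) (key (U ⊓ V) NW hW))
  rintro i ((hi | hi) | hi)
  · exact lt_of_le_of_lt (min_le_left _ _) (Set.mem_Ioi.1 hi)
  · exact lt_of_le_of_lt ((min_le_right _ _).trans (min_le_left _ _)) (Set.mem_Ioi.1 hi)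
  · have h1 : NW < i + 1 := hi
    have h2 : min NU (min NV (NW - 1)) ≤ NW - 1 := (min_le_right _ _).trans (min_le_right _ _)
    show min NU (min NV (NW - 1)) < i
    omega

/-- **uniform vanishing** on quasi-compact quasi-separated schemes -/
theorem pf_qcqs (X : Scheme.{u}) [CompactSpace X] [QuasiSeparatedSpace X] : PF X := by
  let P : X.Opens → Prop := fun U => ∀ (Z : Scheme.{u}) (j : Z ⟶ X) [IsOpenImmersion j],
    j.opensRange = U → PF Z
  have hP : P ⊤ := by
    refine QP3a.mv_induction P ?_ ?_ ⊤ (by simpa using isCompact_univ)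
      (by simpa using isQuasiSeparated_univ)
    · intro U hU Z j _ hj
      haveI : IsAffine (j.opensRange : Scheme.{u}) := by
        rw [hj]
        exact hU
      haveI : IsAffine Z := IsAffine.of_isIso j.isoOpensRange.hom
      exact pf_affine Z
    · intro U V hU hV hUV Z j _ hj
      have hsub : ∀ (W : X.Opens), W ≤ U ⊔ V → ((j ⁻¹ᵁ W).ι ≫ j).opensRange = W := by
        intro W hW
        rw [Scheme.Hom.opensRange_comp, Scheme.Opens.opensRange_ι,
          Scheme.Hom.image_preimage_eq_opensRange_inf, hj]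
        exact inf_eq_right.2 hW
      have hW' : PF (j ⁻¹ᵁ (U ⊓ V) : Z.Opens) :=
        hUV _ ((j ⁻¹ᵁ (U ⊓ V)).ι ≫ j) (hsub (U ⊓ V) (inf_le_left.trans le_sup_left))
      refine pf_mv Z (j ⁻¹ᵁ U) (j ⁻¹ᵁ V) ?_ (hU _ ((j ⁻¹ᵁ U).ι ≫ j) (hsub U le_sup_left))
        (hV _ ((j ⁻¹ᵁ V).ι ≫ j) (hsub V le_sup_right)) hW'
      rw [← Scheme.Hom.preimage_sup, ← hj]
      exact Scheme.Hom.preimage_opensRange j
  exact hP X (𝟙 X) (Scheme.Hom.opensRange_of_isIso (𝟙 X))

end Groth.Agent.Helper9.MVP8
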