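import Mathlib
import Groth.Prelude.Def_DCoh2
import Groth.Prelude.Def_DRing2
import Groth.Agent.Helper9.MVP8
import Groth.Agent.Helper8.TildeBC
import Groth.Agent.Helper4.TildeExact
import Groth.Agent.Lead.PerfLib3

/-! Strictly perfect complexes on `Spec R` versus bounded complexes of finite projective
`R`-modules; compatibility of `tilde` with restriction to `Spec` of a localisation. -/

set_option autoImplicit false
set_option linter.style.haveILetI false
set_option linter.unusedVariables false
set_option linter.unusedSectionVars false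
universe u

namespace Groth.Agent.Helper9.TP1

open CategoryTheory CategoryTheory.Limits AlgebraicGeometry Opposite
open Groth.Agent.Helper4.FinLocFree Scheme.Modules Groth.Agent.Lead.PerfLib

attribute [local instance] HasDerivedCategory.standard

variable (R : CommRingCat.{u})

/-- `tilde` on complexes -/
noncomputable abbrev tCx :
    CochainComplex (ModuleCat.{u} R) ℤ ⥤ CochainComplex (Spec R).Modules ℤ :=
  (tilde.functor R).mapHomologicalComplex (ComplexShape.up ℤ)

/-- global sections on complexes -/
noncomputable abbrev gCx :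
    CochainComplex (Spec R).Modules ℤ ⥤ CochainComplex (ModuleCat.{u} R) ℤ :=
  haveI : (moduleSpecΓFunctor (R := R)).Additive :=
    (tilde.adjunction (R := R)).right_adjoint_additive
  (moduleSpecΓFunctor (R := R)).mapHomologicalComplex (ComplexShape.up ℤ)

/-- if `M~` is finite locally free then `M` is finite projective -/
theorem finite_projective_of_isFinLocFree_tilde (M : ModuleCat.{u} R)
    (hM : FlatMod.IsFinLocFree (tilde M)) : Module.Finite R M ∧ Module.Projective R M := by
  have hfp : SheafOfModules.IsFinitePresentation (R := (Spec R).ringCatSheaf) (tilde M) :=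
    Groth.Agent.Helper4.FinLocFree2.isFinitePresentation_of_isFinLocFree (tilde M) hM
  haveI : Module.FinitePresentation R M :=
    Groth.Agent.Helper4.FPTilde.finitePresentation_of_isFP_tilde R M hfp
  haveI : Module.Finite R M := inferInstance
  refine ⟨inferInstance, ?_⟩
  rw [← Module.freeLocus_eq_univ_iff, Set.eq_univ_iff_forall]
  intro x
  exact (Groth.Agent.Helper4.FinLocFree3.mem_freeLocus_iff_free_stalk R M x).mpr
    (Groth.Agent.Helper4.FinLocFree2.free_stalk_of_isFinLocFree (tilde M) hM x)

/-- `M~` is finite locally free for `M` finite projective -/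
theorem isFinLocFree_tilde (M : ModuleCat.{u} R) (h1 : Module.Finite R M)
    (h2 : Module.Projective R M) : FlatMod.IsFinLocFree (tilde M) := by
  obtain ⟨m, π, hπ⟩ := Module.Finite.exists_fin' R M
  let π' : (Fin m →₀ R) →ₗ[R] M := π ∘ₗ (Finsupp.linearEquivFunOnFinite R R (Fin m)).toLinearMap
  have hπ' : Function.Surjective π' :=
    hπ.comp (Finsupp.linearEquivFunOnFinite R R (Fin m)).surjective
  obtain ⟨s, hs⟩ := Module.projective_lifting_property π' LinearMap.id hπ'
  let i₀ : M ⟶ ModuleCat.of R (Fin m →₀ R) := ModuleCat.ofHom s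
  let p₀ : ModuleCat.of R (Fin m →₀ R) ⟶ M := ModuleCat.ofHom π'
  have h0 : i₀ ≫ p₀ = 𝟙 M := by
    ext x
    exact LinearMap.congr_fun hs x
  exact Groth.Agent.Helper4.FinLocFree4.isFinLocFree_of_retract_free m
    ((tilde.functor R).map i₀ ≫ (tildeFreeIso R m).hom)
    ((tildeFreeIso R m).inv ≫ (tilde.functor R).map p₀)
    (Groth.Agent.Helper9.MVP8.retract_postcomp_iso (tildeFreeIso R m) _ _
      (Groth.Agent.Helper9.MVP8.retract_map (tilde.functor R) i₀ p₀ h0))

/-- tilde of a bounded complex of finite projective modules is strictly perfect -/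
theorem isStrictlyPerfect_tCx (N : CochainComplex (ModuleCat.{u} R) ℤ) (a b : ℤ)
    (hv : ∀ i : ℤ, i < a ∨ b < i → IsZero (N.X i))
    (hN : ∀ i : ℤ, Module.Finite R (N.X i) ∧ Module.Projective R (N.X i)) :
    DCoh.IsStrictlyPerfect ((tCx R).obj N) :=
  ⟨⟨a, b, fun i hi => Functor.map_isZero (tilde.functor R) (hv i hi)⟩,
    fun i => isFinLocFree_tilde R (N.X i) (hN i).1 (hN i).2⟩

/-- a strictly perfect complex on `Spec R` is the tilde of a bounded complex of finite projective
modules -/
theorem exists_of_isStrictlyPerfect (E : CochainComplex (Spec R).Modules ℤ)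
    (hE : DCoh.IsStrictlyPerfect E) :
    ∃ (N : CochainComplex (ModuleCat.{u} R) ℤ) (a b : ℤ),
      (∀ i : ℤ, i < a ∨ b < i → IsZero (N.X i)) ∧
      (∀ i : ℤ, Module.Finite R (N.X i) ∧ Module.Projective R (N.X i)) ∧
      Nonempty ((tCx R).obj N ≅ E) := by
  obtain ⟨⟨a, b, hv⟩, hf⟩ := hE
  haveI : (moduleSpecΓFunctor (R := R)).Additive :=
    (tilde.adjunction (R := R)).right_adjoint_additive
  have hq : ∀ i : ℤ, (E.X i).IsQuasicoherent := fun i =>
    Groth.Agent.Helper4.FinLocFree4.isQuasicoherent_of_isFinLocFree (E.X i) (hf i)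
  have hiso : ∀ i : ℤ, IsIso ((E.X i).fromTildeΓ) := fun i => by
    haveI := hq i
    infer_instance
  let adj := tilde.adjunction (R := R)
  let e : (tCx R).obj ((gCx R).obj E) ≅ E :=
    HomologicalComplex.Hom.isoOfComponents
      (fun i => @asIso _ _ _ _ ((E.X i).fromTildeΓ) (hiso i))
      (fun i j _ => by
        exact (adj.counit.naturality (E.d i j)).symm)
  refine ⟨(gCx R).obj E, a, b, fun i hi => Functor.map_isZero (moduleSpecΓFunctor (R := R)) (hv i hi),
    fun i => ?_, ⟨e⟩⟩
  apply finite_projective_of_isFinLocFree_tilde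
  intro x
  obtain ⟨U, n, hx, ⟨ε⟩⟩ := hf i x
  haveI := hiso i
  exact ⟨U, n, hx, ⟨(restrictFunctor U.ι).mapIso (@asIso _ _ _ _ ((E.X i).fromTildeΓ) (hiso i)) ≪≫ ε⟩⟩

section BC

variable {R} {S : CommRingCat.{u}} (φ : R ⟶ S) [IsOpenImmersion (Spec.map φ)]

/-- restriction of `M~` to `Spec S` is `(S ⊗ M)~` -/
noncomputable def tildeRestrictIso :
    tilde.functor R ⋙ restrictFunctor (Spec.map φ) ≅
      ModuleCat.extendScalars.{u, u, u} φ.hom ⋙ tilde.functor S :=
  Functor.isoWhiskerLeft (tilde.functor R) (restrictFunctorIsoPullback (Spec.map φ)) ≪≫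
    Groth.Agent.Helper8.TildeBC.tildePullbackIso φ

/-- the same on complexes -/
noncomputable def tCxRestrictIso (K : CochainComplex (ModuleCat.{u} R) ℤ) :
    (Rc (Spec.map φ)).obj ((tCx R).obj K) ≅
      (tCx S).obj (((ModuleCat.extendScalars.{u, u, u} φ.hom).mapHomologicalComplex
        (ComplexShape.up ℤ)).obj K) :=
  HomologicalComplex.Hom.isoOfComponents (fun i => (tildeRestrictIso φ).app (K.X i))
    (fun i j _ => ((tildeRestrictIso φ).hom.naturality (K.d i j)).symm)

end BC

end Groth.Agent.Helper9.TP1
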