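import Mathlib
import Groth.Agent.Helper9.TP1
import Groth.Agent.Helper9.LCTil2
import Groth.Agent.Lead.PcLib3
import Groth.Agent.Helper3.DRingPC3
import Groth.Agent.Helper3.DRingApprox

/-! Affine refinements of local strictly perfect data; transfer to `D(R)`. -/

set_option autoImplicit false
set_option linter.style.haveILetI false
set_option linter.unusedVariables false
set_option linter.unusedSectionVars false
universe u

namespace Groth.Agent.Helper9.TP2

open CategoryTheory CategoryTheory.Limits AlgebraicGeometry Opposite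
open Scheme.Modules Groth.Agent.Lead.PerfLib Groth.Agent.Lead.PcLib Groth.Agent.Helper9.TP1

attribute [local instance] HasDerivedCategory.standard

variable (R : CommRingCat.{u})

/-- the localisation map as a morphism of commutative rings -/
noncomputable abbrev locHom (f : R) : R ⟶ CommRingCat.of (Localization.Away f) :=
  CommRingCat.ofHom (algebraMap R (Localization.Away f))

theorem exists_basic_lift {Z : Scheme.{u}} (j : Z ⟶ Spec R) [IsOpenImmersion j] (x : Spec R)
    (hx : x ∈ Set.range j) :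
    ∃ (f : R) (k : Spec (CommRingCat.of (Localization.Away f)) ⟶ Z) (_ : IsOpenImmersion k),
      x ∈ (PrimeSpectrum.basicOpen f : Set (PrimeSpectrum R)) ∧ Spec.map (locHom R f) = k ≫ j := by
  have hopen : IsOpen (Set.range j : Set (PrimeSpectrum R)) := j.opensRange.isOpen
  obtain ⟨_, ⟨_, ⟨f, rfl⟩, rfl⟩, hxf, hfle⟩ :=
    PrimeSpectrum.isBasis_basic_opens.exists_subset_of_mem_open (a := x) hx hopen
  have hr : Set.range (Spec.map (locHom R f)) ⊆ Set.range j := by
    have h1 : (Spec.map (locHom R f)).opensRange = PrimeSpectrum.basicOpen f :=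
      Scheme.Hom.opensRange_localizationAway f
    intro y hy
    have h2 : y ∈ ((Spec.map (locHom R f)).opensRange : Set (Spec R)) := hy
    rw [h1] at h2
    exact hfle h2
  let k := IsOpenImmersion.lift j (Spec.map (locHom R f)) hr
  have hk : k ≫ j = Spec.map (locHom R f) := IsOpenImmersion.lift_fac _ _ _
  haveI : IsOpenImmersion (k ≫ j) := by
    rw [hk]
    infer_instance
  exact ⟨f, k, IsOpenImmersion.of_comp k j, hxf, hk.symm⟩

theorem LocSP.affine (F : CochainComplex (Spec R).Modules ℤ) (x : Spec R) (h : LocSP F x) :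
    ∃ f : R, x ∈ (PrimeSpectrum.basicOpen f : Set (PrimeSpectrum R)) ∧
      ∃ E : CochainComplex (Spec (CommRingCat.of (Localization.Away f))).Modules ℤ,
        DCoh.IsStrictlyPerfect E ∧
        Nonempty (DerivedCategory.Q.obj ((Rc (Spec.map (locHom R f))).obj F) ≅
          DerivedCategory.Q.obj E) := by
  obtain ⟨Z, j, hj, hx, E, hE, ⟨ψ⟩⟩ := h
  haveI := hj
  obtain ⟨f, k, hk, hxf, hfac⟩ := exists_basic_lift R j x hx
  haveI := hk
  exact ⟨f, hxf, (Rc k).obj E, isStrictlyPerfect_restrict k hE,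
    ⟨DerivedCategory.Q.mapIso (rcCompIso j k _ hfac F) ≪≫ qRestrictIso k ψ⟩⟩

theorem LocPC.affine (m : ℤ) (F : CochainComplex (Spec R).Modules ℤ) (x : Spec R)
    (h : LocPC m F x) :
    ∃ f : R, x ∈ (PrimeSpectrum.basicOpen f : Set (PrimeSpectrum R)) ∧
      ∃ (E : CochainComplex (Spec (CommRingCat.of (Localization.Away f))).Modules ℤ)
        (α : DerivedCategory.Q.obj E ⟶
          DerivedCategory.Q.obj ((Rc (Spec.map (locHom R f))).obj F)),
        DCoh.IsStrictlyPerfect E ∧ IsQisAbove m α := by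
  obtain ⟨Z, j, hj, hx, E, α, hE, hα⟩ := h
  haveI := hj
  obtain ⟨f, k, hk, hxf, hfac⟩ := exists_basic_lift R j x hx
  haveI := hk
  obtain ⟨E', α', hE', hα'⟩ := LocPC.data_restrict j k _ hfac α hE hα
  exact ⟨f, hxf, E', α', hE', hα'⟩

/-- finite subcovers by basic opens -/
theorem exists_fin_cover {A : Type u} [CommRing A] (P : A → Prop)
    (h : ∀ x : PrimeSpectrum A, ∃ f : A, x ∈ (PrimeSpectrum.basicOpen f : Set (PrimeSpectrum A)) ∧ P f) :
    ∃ (r : ℕ) (f : Fin r → A), Ideal.span (Set.range f) = ⊤ ∧ ∀ i, P (f i) := by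
  have htop : Ideal.span {f : A | P f} = ⊤ := by
    by_contra hne
    obtain ⟨𝔪, h𝔪, hle⟩ := Ideal.exists_le_maximal _ hne
    obtain ⟨f, hxf, hPf⟩ := h ⟨𝔪, h𝔪.isPrime⟩
    exact hxf (hle (Ideal.subset_span hPf))
  obtain ⟨s, hs, hstop⟩ := (Ideal.span_eq_top_iff_finite _).1 htop
  refine ⟨s.card, fun i => (s.equivFin.symm i).1, ?_, fun i => hs (s.equivFin.symm i).2⟩
  have : Set.range (fun i => ((s.equivFin.symm i).1 : A)) = (s : Set A) := by
    ext a
    constructor
    · rintro ⟨i, rfl⟩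
      exact (s.equivFin.symm i).2
    · intro ha
      exact ⟨s.equivFin ⟨a, ha⟩, by simp⟩
  rw [this]
  exact hstop

section FF

variable [PreservesFiniteLimits (tilde.functor R)]

theorem nonempty_fullyFaithful : Nonempty (DCoh.tildeD R).FullyFaithful := by
  obtain ⟨RG, ⟨dadj⟩⟩ := LCTil2.exists_adj R
  haveI : ∀ M, IsIso (dadj.unit.app M) := fun M => LCTil2.isIso_unit_app dadj M
  haveI : IsIso dadj.unit := NatIso.isIso_of_isIso_app _
  exact ⟨dadj.fullyFaithfulLOfIsIsoUnit⟩

/-- `Q(L~) ≅ (Q L)~` -/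
noncomputable def qIso (L : CochainComplex (ModuleCat.{u} R) ℤ) :
    (DCoh.tildeD R).obj (DerivedCategory.Q.obj L) ≅ DerivedCategory.Q.obj ((tCx R).obj L) :=
  (tilde.functor R).mapDerivedCategoryFactors.app L

theorem isPerfect_of_sp (L : CochainComplex (ModuleCat.{u} R) ℤ)
    (E : CochainComplex (Spec R).Modules ℤ) (hE : DCoh.IsStrictlyPerfect E)
    (ψ : DerivedCategory.Q.obj ((tCx R).obj L) ≅ DerivedCategory.Q.obj E) :
    DRing.IsPerfect R (DRing.toD L) := by
  obtain ⟨N, a, b, hv, hN, ⟨e⟩⟩ := exists_of_isStrictlyPerfect R E hE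
  obtain ⟨ff⟩ := nonempty_fullyFaithful R
  let ι : (DCoh.tildeD R).obj (DerivedCategory.Q.obj N) ≅
      (DCoh.tildeD R).obj (DerivedCategory.Q.obj L) :=
    qIso R N ≪≫ DerivedCategory.Q.mapIso e ≪≫ ψ.symm ≪≫ (qIso R L).symm
  exact ⟨N, a, b, hv, hN, ⟨ff.preimageIso ι⟩⟩

theorem isPseudoCoherent_of_sp (m : ℤ) (L : CochainComplex (ModuleCat.{u} R) ℤ)
    (E : CochainComplex (Spec R).Modules ℤ) (hE : DCoh.IsStrictlyPerfect E)
    (α : DerivedCategory.Q.obj E ⟶ DerivedCategory.Q.obj ((tCx R).obj L))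
    (hα : IsQisAbove m α) :
    DRing.IsPseudoCoherent R m (DRing.toD L) := by
  obtain ⟨N, a, b, hv, hN, ⟨e⟩⟩ := exists_of_isStrictlyPerfect R E hE
  obtain ⟨ff⟩ := nonempty_fullyFaithful R
  let α' : (DCoh.tildeD R).obj (DerivedCategory.Q.obj N) ⟶
      (DCoh.tildeD R).obj (DerivedCategory.Q.obj L) :=
    (qIso R N).hom ≫ DerivedCategory.Q.map e.hom ≫ α ≫ (qIso R L).inv
  have hα' : IsQisAbove m α' :=
    (IsQisAbove.of_isIso m _).comp ((IsQisAbove.of_isIso m _).comp
      (hα.comp (IsQisAbove.of_isIso m _)))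
  let g : DerivedCategory.Q.obj N ⟶ DerivedCategory.Q.obj L := ff.preimage α'
  have hg : (DCoh.tildeD R).map g = α' := ff.map_preimage α'
  have hga : Groth.Agent.Helper3.DRingLib.IsApprox (A := R) m g := by
    rw [← hg] at hα'
    constructor
    · intro i hi
      have h1 := hα'.1 i hi
      have h2 : IsIso ((tilde.functor R).map
          ((DerivedCategory.homologyFunctor (ModuleCat.{u} R) i).map g)) :=
        ((MorphismProperty.isomorphisms _).arrow_mk_iso_iff
          (mapDerivedCategoryHomologyArrowIso (tilde.functor R) i g)).mp h1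
      exact isIso_of_fully_faithful (tilde.functor R) _
    · have h1 := hα'.2
      have h2 : Epi ((tilde.functor R).map
          ((DerivedCategory.homologyFunctor (ModuleCat.{u} R) m).map g)) :=
        ((MorphismProperty.epimorphisms _).arrow_mk_iso_iff
          (mapDerivedCategoryHomologyArrowIso (tilde.functor R) m g)).mp h1
      exact (tilde.functor R).epi_of_epi_map h2
  obtain ⟨C, β, γ, hT⟩ := Pretriangulated.distinguished_cocone_triangle g
  have hC : C.IsLE (m - 1) :=
    (Groth.Agent.Helper3.DRingLib.isApprox_iff_isLE _ hT m).mp hga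
  have h1 : DRing.IsPseudoCoherent R m (DRing.toD N) :=
    Groth.Agent.Helper3.DRingLib.isPseudoCoherent_of_termwiseFiniteProjective N b
      (fun i hi => hv i (Or.inr hi)) hN m
  have h3 : DRing.IsPseudoCoherent R m C :=
    Groth.Agent.Helper3.DRingLib.isPseudoCoherent_of_isLE C m
  exact Groth.Agent.Helper3.DRingLib.isPseudoCoherent_obj₂ _ hT m h1 h3

end FF

end Groth.Agent.Helper9.TP2
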