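import Mathlib
import Groth.Agent.Helper9.TP2
import Groth.Agent.Helper3.DRingBC3

/-! `M~` is perfect / `m`-pseudo-coherent on `Spec R` iff `M` is so in `D(R)`. -/

set_option autoImplicit false
set_option linter.style.haveILetI false
set_option linter.unusedVariables false
set_option linter.unusedSectionVars false
universe u

namespace Groth.Agent.Helper9.TP3

open CategoryTheory CategoryTheory.Limits AlgebraicGeometry Opposite
open Scheme.Modules Groth.Agent.Lead.PerfLib Groth.Agent.Lead.PcLib Groth.Agent.Helper9.TP1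
  Groth.Agent.Helper9.TP2 Groth.Agent.Helper3.DRingLib

attribute [local instance] HasDerivedCategory.standard

variable (R : CommRingCat.{u}) [PreservesFiniteLimits (tilde.functor R)]

theorem isPerfect_tildeD_iff (M : DerivedCategory (ModuleCat.{u} R)) :
    DCoh.IsPerfect ((DCoh.tildeD R).obj M) ↔ DRing.IsPerfect R M := by
  constructor
  · intro h
    let K : CochainComplex (ModuleCat.{u} R) ℤ := DerivedCategory.Q.objPreimage M
    let e : DerivedCategory.Q.obj K ≅ M := DerivedCategory.Q.objObjPreimageIso M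
    let F₀ := (tCx R).obj K
    let e₀ : DerivedCategory.Q.obj F₀ ≅ (DCoh.tildeD R).obj M :=
      (qIso R K).symm ≪≫ (DCoh.tildeD R).mapIso e
    have hloc := (isPerfect_iff_locSP _ F₀ e₀).1 h
    obtain ⟨r, f, hf, hP⟩ := exists_fin_cover (A := R)
      (fun f => ∃ E : CochainComplex (Spec (CommRingCat.of (Localization.Away f))).Modules ℤ,
        DCoh.IsStrictlyPerfect E ∧
        Nonempty (DerivedCategory.Q.obj ((Rc (Spec.map (locHom R f))).obj F₀) ≅
          DerivedCategory.Q.obj E))
      (fun x => LocSP.affine R F₀ x (hloc x))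
    have hK : DRing.IsPerfect R (DRing.toD K) := by
      refine isPerfect_of_forall_bcCx (B := fun i => Localization.Away (f i))
        (jointlyFaithful_away f hf) (jointlyFinite_away f hf) K (fun i => ?_)
      obtain ⟨E, hE, ⟨ψ⟩⟩ := hP i
      haveI : PreservesFiniteLimits (tilde.functor (CommRingCat.of (Localization.Away (f i)))) :=
        Groth.Agent.Helper4.TildeExact.preservesFiniteLimits_tilde _
      exact isPerfect_of_sp (CommRingCat.of (Localization.Away (f i))) _ E hE
        ((DerivedCategory.Q.mapIso (tCxRestrictIso (locHom R (f i)) K)).symm ≪≫ ψ)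
    obtain ⟨E, a, b, hv, hE, ⟨e'⟩⟩ := hK
    exact ⟨E, a, b, hv, hE, ⟨e' ≪≫ e⟩⟩
  · rintro ⟨E, a, b, hv, hE, ⟨e⟩⟩
    let F₀ := (tCx R).obj E
    let e₀ : DerivedCategory.Q.obj F₀ ≅ (DCoh.tildeD R).obj M :=
      (qIso R E).symm ≪≫ (DCoh.tildeD R).mapIso e
    refine (isPerfect_iff_locSP _ F₀ e₀).2 (fun x => ?_)
    exact ⟨Spec R, 𝟙 _, inferInstance, ⟨x, rfl⟩, (Rc (𝟙 _)).obj F₀,
      isStrictlyPerfect_restrict _ (isStrictlyPerfect_tCx R E a b hv hE), ⟨Iso.refl _⟩⟩

theorem isPseudoCoherentD_tildeD_iff (M : DerivedCategory (ModuleCat.{u} R)) (m : ℤ) :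
    DCoh.IsPseudoCoherentD m ((DCoh.tildeD R).obj M) ↔ DRing.IsPseudoCoherent R m M := by
  constructor
  · intro h
    let K : CochainComplex (ModuleCat.{u} R) ℤ := DerivedCategory.Q.objPreimage M
    let e : DerivedCategory.Q.obj K ≅ M := DerivedCategory.Q.objObjPreimageIso M
    let F₀ := (tCx R).obj K
    let e₀ : DerivedCategory.Q.obj F₀ ≅ (DCoh.tildeD R).obj M :=
      (qIso R K).symm ≪≫ (DCoh.tildeD R).mapIso e
    have hloc := (isPseudoCoherentD_iff_locPC m _ F₀ e₀).1 h
    obtain ⟨r, f, hf, hP⟩ := exists_fin_cover (A := R)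
      (fun f => ∃ (E : CochainComplex (Spec (CommRingCat.of (Localization.Away f))).Modules ℤ)
        (α : DerivedCategory.Q.obj E ⟶
          DerivedCategory.Q.obj ((Rc (Spec.map (locHom R f))).obj F₀)),
        DCoh.IsStrictlyPerfect E ∧ IsQisAbove m α)
      (fun x => LocPC.affine R m F₀ x (hloc x))
    have hK : DRing.IsPseudoCoherent R m (DRing.toD K) := by
      refine isPseudoCoherent_of_forall_bcCx (B := fun i => Localization.Away (f i))
        (jointlyFaithful_away f hf) (jointlyFinite_away f hf) m K (fun i => ?_)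
      obtain ⟨E, α, hE, hα⟩ := hP i
      haveI : PreservesFiniteLimits (tilde.functor (CommRingCat.of (Localization.Away (f i)))) :=
        Groth.Agent.Helper4.TildeExact.preservesFiniteLimits_tilde _
      exact isPseudoCoherent_of_sp (CommRingCat.of (Localization.Away (f i))) m _ E hE
        (α ≫ DerivedCategory.Q.map (tCxRestrictIso (locHom R (f i)) K).hom)
        (hα.comp (IsQisAbove.of_isIso m _))
    exact isPseudoCoherent_of_iso e hK
  · rintro ⟨E, a, b, α, hv, hE, h1, h2⟩
    let K : CochainComplex (ModuleCat.{u} R) ℤ := DerivedCategory.Q.objPreimage M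
    let e : DerivedCategory.Q.obj K ≅ M := DerivedCategory.Q.objObjPreimageIso M
    let F₀ := (tCx R).obj K
    let e₀ : DerivedCategory.Q.obj F₀ ≅ (DCoh.tildeD R).obj M :=
      (qIso R K).symm ≪≫ (DCoh.tildeD R).mapIso e
    refine (isPseudoCoherentD_iff_locPC m _ F₀ e₀).2 (fun x => ?_)
    have hsp : DCoh.IsStrictlyPerfect ((tCx R).obj E) :=
      isStrictlyPerfect_tCx R E a b hv (fun i => ⟨(hE i).1, haveI := (hE i).2; inferInstance⟩)
    let α₀ : DerivedCategory.Q.obj ((tCx R).obj E) ⟶ DerivedCategory.Q.obj F₀ :=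
      (qIso R E).inv ≫ (DCoh.tildeD R).map (α ≫ e.inv) ≫ (qIso R K).hom
    have hα₀ : IsQisAbove m α₀ := by
      have hα : IsQisAbove m (α ≫ e.inv) :=
        IsQisAbove.comp ⟨h1, h2⟩ (IsQisAbove.of_isIso m _)
      have h3 : IsQisAbove m ((DCoh.tildeD R).map (α ≫ e.inv)) :=
        ⟨fun i hi => isIso_homology_mapDerivedCategory _ i _ (hα.1 i hi),
          epi_homology_mapDerivedCategory _ m _ hα.2⟩
      exact (IsQisAbove.of_isIso m _).comp (h3.comp (IsQisAbove.of_isIso m _))
    exact ⟨Spec R, 𝟙 _, inferInstance, ⟨x, rfl⟩, (Rc (𝟙 _)).obj ((tCx R).obj E),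
      resD (𝟙 _) α₀, isStrictlyPerfect_restrict _ hsp, isQisAbove_resD _ hα₀⟩

end Groth.Agent.Helper9.TP3
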