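import Mathlib
import Groth.Agent.Helper9.TP3
import Groth.Agent.Helper9.K0Eq
import Groth.Agent.Helper9.QcLpull1
import Groth.Agent.Helper3.DRingPeel2
import Groth.Agent.Lead.PerfLib6
import Groth.Agent.S7142
import Groth.Agent.Helper9.KZ2

/-! `K₀(A) ≅ K₀(D_perf(Spec A))`. -/

set_option autoImplicit false
set_option linter.style.haveILetI false
set_option linter.unusedVariables false
set_option linter.unusedSectionVars false
universe u

namespace Groth.Agent.Helper9.TP4

open CategoryTheory CategoryTheory.Limits AlgebraicGeometry Opposite ZeroObject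
open Scheme.Modules Groth.Agent.Lead.PerfLib Groth.Agent.Helper9.TP1
  Groth.Agent.Helper9.TP2 Groth.Agent.Helper9.K0Eq KZero

attribute [local instance] HasDerivedCategory.standard

/-- perfect objects have quasi-coherent cohomology sheaves -/
theorem isQCohD_of_isPerfect {X : Scheme.{u}} (K : DCoh.D X) (hK : DCoh.IsPerfect K) :
    DCoh.IsQCohD K := by
  let F₀ : CochainComplex X.Modules ℤ := DerivedCategory.Q.objPreimage K
  let e₀ : DerivedCategory.Q.obj F₀ ≅ K := DerivedCategory.Q.objObjPreimageIso K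
  rw [isPerfect_iff_locSP K F₀ e₀] at hK
  intro i
  haveI : (F₀.homology i).IsQuasicoherent := by
    apply isQuasicoherent_of_locally
    intro x
    obtain ⟨Z, j, hj, hx, E, hE, hiso⟩ := (hK x).exists_homology_iso
    haveI := isQuasicoherent_homology_of_isStrictlyPerfect hE i
    exact ⟨Z, j, hj, hx,
      Groth.Agent.Helper4.QcohLimits.isQuasicoherent_of_iso (hiso i).some.symm⟩
  exact Groth.Agent.Helper4.QcohLimits.isQuasicoherent_of_iso (hdIso e₀ i).symm

theorem main (A : Type u) [CommRing A] :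
    ∃ φ : KZero.K0sub (fun M : ModuleCat.{u} A => Module.Finite A M ∧ Module.Projective A M) ≃+
        KZero.K0tr (fun K : DCoh.D (Spec (CommRingCat.of A)) => DCoh.IsPerfect K),
      ∀ (M : ModuleCat.{u} A), Module.Finite A M → Module.Projective A M →
        φ (KZero.clSub (fun M : ModuleCat.{u} A => Module.Finite A M ∧ Module.Projective A M) M) =
          KZero.clTr (fun K : DCoh.D (Spec (CommRingCat.of A)) => DCoh.IsPerfect K)
            (DCoh.inD (Spec (CommRingCat.of A)) (tilde M)) := by
  obtain ⟨φ₁, h₁, -⟩ := Groth.Agent.S7142.result A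
  let R : CommRingCat.{u} := CommRingCat.of A
  haveI : PreservesFiniteLimits (tilde.functor R) :=
    Groth.Agent.Helper4.TildeExact.preservesFiniteLimits_tilde _
  haveI : PreservesFiniteColimits (tilde.functor R) :=
    Groth.Agent.Helper4.TildeExact.preservesFiniteColimits_tilde _
  obtain ⟨ff⟩ := nonempty_fullyFaithful R
  haveI := ff.full
  haveI := ff.faithful
  have hP0 : DRing.IsPerfect A (0 : Dual.D A) :=
    Groth.Agent.Helper3.DRingLib.isPerfect_of_isZero _ (isZero_zero _)
  have hQ0 : DCoh.IsPerfect (0 : DCoh.D (Spec (CommRingCat.of A))) :=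
    isPerfect_of_iso ((DCoh.tildeD R).mapZeroObject)
      ((TP3.isPerfect_tildeD_iff R 0).2 hP0)
  obtain ⟨φ₂, h₂⟩ := exists_addEquiv (DCoh.tildeD R)
    (fun K : Dual.D A => DRing.IsPerfect A K)
    (fun K : DCoh.D (Spec (CommRingCat.of A)) => DCoh.IsPerfect K)
    (fun M => TP3.isPerfect_tildeD_iff R M)
    (fun Y hY => Groth.Agent.Helper9.QcLpull1.exists_iso_tildeD R Y (isQCohD_of_isPerfect Y hY))
    (fun e h => isPerfect_of_iso e h) hP0 hQ0
  refine ⟨φ₁.trans φ₂, fun M hf hp => ?_⟩
  have hM : DRing.IsPerfect A (Dual.inD A M) := by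
    have := (TP3.isPerfect_tildeD_iff R (Dual.inD A M)).1 ?_
    · exact this
    · exact isPerfect_of_iso
        (((tilde.functor R).mapDerivedCategorySingleFunctor 0).app M).symm
        (Groth.Agent.Helper9.KZ2.isPerfect_inD_of_isFinLocFree _
          (isFinLocFree_tilde R M hf hp))
  have e1 : φ₁ (KZero.clSub (fun M : ModuleCat.{u} A => Module.Finite A M ∧ Module.Projective A M)
      M) = KZero.clTr (fun K : Dual.D A => DRing.IsPerfect A K) (Dual.inD A M) := h₁ M hf hp
  show φ₂ (φ₁ _) = _
  rw [e1, clTr_eq _ _ hM, h₂]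
  rw [← clTr_eq (fun K : DCoh.D (Spec (CommRingCat.of A)) => DCoh.IsPerfect K)]
  exact clTr_eq_of_iso _ (((tilde.functor R).mapDerivedCategorySingleFunctor 0).app M)
    ((TP3.isPerfect_tildeD_iff R _).2 hM)
    (Groth.Agent.Helper9.KZ2.isPerfect_inD_of_isFinLocFree _ (isFinLocFree_tilde R M hf hp)) hQ0

end Groth.Agent.Helper9.TP4
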