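import Mathlib
import Groth.Agent.Helper4.SecDict
import Groth.Agent.Helper4.FinLocFree2

/-! Finite generation of a quasi-coherent module over a quasi-compact open of an affine scheme
by finitely many global sections. -/

set_option autoImplicit false
set_option linter.style.haveILetI false
set_option linter.unusedVariables false
set_option linter.unusedSectionVars false
universe u

namespace Groth.Agent.Helper9.TT1

open CategoryTheory CategoryTheory.Limits AlgebraicGeometry Opposite TopologicalSpace
open Groth.Agent.Helper4 Groth.Agent.Helper4.StalkDict Scheme.Modules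

variable {X : Scheme.{u}}

set_option backward.isDefEq.respectTransparency false in
/-- local version of `SecDict.finite_sections` -/
theorem finite_sections_of_le (F : X.Modules) [F.IsQuasicoherent] (W : X.Opens)
    (hF : SheafOfModules.IsFiniteType (R := (W : Scheme.{u}).ringCatSheaf) (F.restrict W.ι))
    {U : X.Opens} (hU : IsAffineOpen U) (hUW : U ≤ W) : Module.Finite Γ(X, U) Γ(F, U) := by
  let A : CommRingCat.{u} := Γ(X, U)
  have hr : Set.range hU.fromSpec ⊆ Set.range W.ι := by
    rw [hU.range_fromSpec, Scheme.Opens.range_ι]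
    exact hUW
  let k : Spec A ⟶ (W : Scheme.{u}) := IsOpenImmersion.lift W.ι hU.fromSpec hr
  have hk : k ≫ W.ι = hU.fromSpec := IsOpenImmersion.lift_fac _ _ _
  haveI : IsOpenImmersion (k ≫ W.ι) := by rw [hk]; infer_instance
  haveI : IsOpenImmersion k := IsOpenImmersion.of_comp k W.ι
  let N : (Spec A).Modules := F.restrict hU.fromSpec
  haveI : N.IsQuasicoherent := inferInstance
  have hN : SheafOfModules.IsFiniteType (R := (Spec A).ringCatSheaf) N := by
    have h1 : SheafOfModules.IsFiniteType (R := (Spec A).ringCatSheaf)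
        ((F.restrict W.ι).restrict k) := FTRestrict.isFT_restrict _ _ hF
    let e : (F.restrict W.ι).restrict k ≅ N :=
      ((restrictFunctorComp k W.ι).symm.app F) ≪≫ (restrictFunctorCongr hk).app F
    haveI := h1
    exact FTRestrict.SoM.isFiniteType_of_iso (R := (Spec A).ringCatSheaf) e
  haveI : IsIso N.fromTildeΓ := inferInstance
  let ΓN : ModuleCat.{u} A := moduleSpecΓFunctor.obj N
  let e : tilde ΓN ≅ N := asIso N.fromTildeΓ
  have hT : SheafOfModules.IsFiniteType (R := (Spec A).ringCatSheaf) (tilde ΓN) :=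
    haveI := hN
    FTRestrict.SoM.isFiniteType_of_iso (R := (Spec A).ringCatSheaf) (M := N) (N := tilde ΓN) e.symm
  haveI : Module.Finite A ΓN := FTTilde.finite_of_isFT_tilde A ΓN hT
  exact Module.Finite.equiv (SecDict.sectionsEquiv hU F).symm


/-- the span of the germs at `x` of a list of global sections -/
noncomputable def gspan (H : X.Modules) (l : List Γ(H, ⊤)) (x : X) :
    Submodule (X.presheaf.stalk x) (H.presheaf.stalk x) :=
  Submodule.span (X.presheaf.stalk x) {z | ∃ m ∈ l, z = H.presheaf.germ ⊤ x trivial m}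

lemma gspan_mono (H : X.Modules) {l l' : List Γ(H, ⊤)} (h : ∀ m ∈ l, m ∈ l') (x : X) :
    gspan H l x ≤ gspan H l' x := by
  apply Submodule.span_mono
  rintro z ⟨m, hm, rfl⟩
  exact ⟨m, h m hm, rfl⟩

set_option backward.isDefEq.respectTransparency false in
/-- on a basic open of an affine scheme contained in `W` -/
theorem exists_list_basicOpen [IsAffine X] (H : X.Modules) [H.IsQuasicoherent] (W : X.Opens)
    (hF : SheafOfModules.IsFiniteType (R := (W : Scheme.{u}).ringCatSheaf) (H.restrict W.ι))
    (g : Γ(X, ⊤)) (hg : X.basicOpen g ≤ W) :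
    ∃ l : List Γ(H, ⊤), ∀ x ∈ X.basicOpen g, gspan H l x = ⊤ := by
  classical
  have hU : IsAffineOpen (X.basicOpen g) := (isAffineOpen_top X).basicOpen g
  haveI := finite_sections_of_le H W hF hU hg
  obtain ⟨S, hS⟩ := (Module.finite_def.1 (inferInstance :
    Module.Finite Γ(X, X.basicOpen g) Γ(H, X.basicOpen g)))
  have key : ∀ y : Γ(H, X.basicOpen g), ∃ (n : ℕ) (m : Γ(H, ⊤)),
      (X.presheaf.map (homOfLE (X.basicOpen_le g)).op (g ^ n)) • y =
        H.presheaf.map (homOfLE (X.basicOpen_le g)).op m :=
    fun y => exists_pow_smul_eq_res (isAffineOpen_top X) H g y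
  choose n m hnm using key
  refine ⟨S.toList.map m, fun x hx => ?_⟩
  rw [eq_top_iff]
  -- (i) germs of elements of `S`
  have h1 : ∀ y ∈ S, H.presheaf.germ (X.basicOpen g) x hx y ∈ gspan H (S.toList.map m) x := by
    intro y hy
    have e1 := congrArg (H.presheaf.germ (X.basicOpen g) x hx) (hnm y)
    rw [germ_smul] at e1
    have e2 : H.presheaf.germ (X.basicOpen g) x hx
        (H.presheaf.map (homOfLE (X.basicOpen_le g)).op (m y)) =
        H.presheaf.germ ⊤ x trivial (m y) :=
      TopCat.Presheaf.germ_res_apply H.presheaf (homOfLE (X.basicOpen_le g)) x hx (m y)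
    have e3 : X.presheaf.germ (X.basicOpen g) x hx
        (X.presheaf.map (homOfLE (X.basicOpen_le g)).op (g ^ n y)) =
        X.presheaf.germ ⊤ x trivial (g ^ n y) :=
      TopCat.Presheaf.germ_res_apply X.presheaf (homOfLE (X.basicOpen_le g)) x hx (g ^ n y)
    rw [e2, e3] at e1
    have hu : IsUnit (X.presheaf.germ ⊤ x trivial (g ^ n y)) := by
      rw [map_pow]
      exact ((X.mem_basicOpen g x trivial).1 hx).pow _
    obtain ⟨u, hu'⟩ := hu
    have e4 : H.presheaf.germ (X.basicOpen g) x hx y =
        (↑u⁻¹ : X.presheaf.stalk x) • H.presheaf.germ ⊤ x trivial (m y) := by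
      rw [← e1, ← hu', smul_smul]
      simp
    rw [e4]
    apply Submodule.smul_mem
    apply Submodule.subset_span
    exact ⟨m y, List.mem_map.2 ⟨y, Finset.mem_toList.2 hy, rfl⟩, rfl⟩
  -- (ii) germs of all sections over the basic open
  have h2 : ∀ t : Γ(H, X.basicOpen g),
      H.presheaf.germ (X.basicOpen g) x hx t ∈ gspan H (S.toList.map m) x := by
    intro t
    have ht : t ∈ Submodule.span Γ(X, X.basicOpen g) (S : Set Γ(H, X.basicOpen g)) := by
      rw [hS]; trivial
    induction ht using Submodule.span_induction with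
    | mem y hy => exact h1 y hy
    | zero => rw [map_zero]; exact Submodule.zero_mem _
    | add a b _ _ ha hb => rw [map_add]; exact Submodule.add_mem _ ha hb
    | smul r a _ ha =>
      rw [germ_smul]
      exact Submodule.smul_mem _ _ ha
  -- (iii) everything
  intro z _
  letI := sectionModStalk H x hx
  haveI := isLocalizedModule_germ hU H x hx
  obtain ⟨⟨t, s⟩, hs⟩ := IsLocalizedModule.surj
    (hU.primeIdealOf ⟨x, hx⟩).asIdeal.primeCompl (germLin H x hx) z
  obtain ⟨u, hu⟩ := QcohLocal.isUnit_germ_of_mem_primeCompl hU x hx s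
  have e5 : z = (↑u⁻¹ : X.presheaf.stalk x) • H.presheaf.germ (X.basicOpen g) x hx t := by
    rw [← germLin_apply, ← hs]
    change z = (↑u⁻¹ : X.presheaf.stalk x) • (X.presheaf.germ (X.basicOpen g) x hx s.1 • z)
    rw [← hu, smul_smul]
    simp
  rw [e5]
  exact Submodule.smul_mem _ _ (h2 t)

/-- **finitely many global sections generate a quasi-coherent module over a quasi-compact open
on which it is of finite type** -/
theorem exists_list [IsAffine X] (H : X.Modules) [H.IsQuasicoherent] (W : X.Opens)
    (hW : IsCompact (W : Set X))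
    (hF : SheafOfModules.IsFiniteType (R := (W : Scheme.{u}).ringCatSheaf) (H.restrict W.ι)) :
    ∃ l : List Γ(H, ⊤), ∀ x ∈ W, gspan H l x = ⊤ := by
  classical
  obtain ⟨s, hs, hUs⟩ := (Opens.IsBasis.isCompact_open_iff_eq_finite_iUnion
    (X.basicOpen : Γ(X, ⊤) → X.Opens) (isBasis_basicOpen X)
    (fun f => ((isAffineOpen_top X).basicOpen f).isCompact) (W : Set X)).1 ⟨hW, W.isOpen⟩
  have hle : ∀ g ∈ s, X.basicOpen g ≤ W := by
    intro g hg x hx
    have : x ∈ (W : Set X) := by
      rw [hUs]
      simp only [Set.mem_iUnion, SetLike.mem_coe, exists_prop]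
      exact ⟨g, hg, hx⟩
    exact this
  have key : ∀ g : s, ∃ l : List Γ(H, ⊤), ∀ x ∈ X.basicOpen g.1, gspan H l x = ⊤ :=
    fun g => exists_list_basicOpen H W hF g.1 (hle g.1 g.2)
  choose L hL using key
  haveI : Fintype s := hs.fintype
  refine ⟨(Finset.univ : Finset s).toList.flatMap L, fun x hx => ?_⟩
  have hx' : x ∈ (W : Set X) := hx
  rw [hUs] at hx'
  simp only [Set.mem_iUnion, SetLike.mem_coe, exists_prop] at hx'
  obtain ⟨g, hg, hxg⟩ := hx'
  rw [eq_top_iff, ← hL ⟨g, hg⟩ x hxg]
  apply gspan_mono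
  intro m hm
  exact List.mem_flatMap.2 ⟨⟨g, hg⟩, Finset.mem_toList.2 (Finset.mem_univ _), hm⟩

end Groth.Agent.Helper9.TT1
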