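import Mathlib
import Groth.Agent.Helper9.MVP5
import Groth.Agent.Helper4.QcohWSerre

/-! Truncations of objects of `D_QCoh`, and vanishing of maps from shifts of a perfect object
versus truncations. -/

set_option autoImplicit false
set_option linter.style.haveILetI false
set_option linter.unusedVariables false
set_option linter.unusedSectionVars false
universe u

namespace Groth.Agent.Helper9.MVP6

open CategoryTheory CategoryTheory.Limits AlgebraicGeometry Opposite TopologicalSpace Pretriangulated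
open Groth.Agent.Helper9.MVP3 Groth.Agent.Helper9.MVP5 DerivedCategory

attribute [local instance] HasDerivedCategory.standard

variable {X : Scheme.{u}}

/-- the canonical t-structure on `D(O_X)` -/
noncomputable abbrev tX (X : Scheme.{u}) : CategoryTheory.Triangulated.TStructure (DCoh.D X) :=
  DerivedCategory.TStructure.t

/-- `τ_{<a} E ∈ D_QCoh` -/
theorem isQCohD_truncLT (E : DCoh.D X) (hE : DCoh.IsQCohD E) (a : ℤ) :
    DCoh.IsQCohD (((tX X).truncLT a).obj E) := by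
  intro j
  let T := ((tX X).triangleLTGE a).obj E
  have hT : T ∈ distTriang _ := (tX X).triangleLTGE_distinguished a E
  haveI : T.obj₁.IsLE (a - 1) := inferInstanceAs ((tX X).IsLE (((tX X).triangleLTGE a).obj E).obj₁ (a - 1))
  haveI : T.obj₃.IsGE a := inferInstanceAs ((tX X).IsGE (((tX X).triangleLTGE a).obj E).obj₃ a)
  show (DCoh.HD T.obj₁ j).IsQuasicoherent
  by_cases hj : j < a
  · haveI : Mono ((homologyFunctor X.Modules j).map T.mor₁) := by
      rw [HomologySequence.mono_homologyMap_mor₁_iff T hT (j - 1) j (by omega)]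
      exact (isZero_of_isGE T.obj₃ a (j - 1) (by omega)).eq_of_src _ _
    haveI : Epi ((homologyFunctor X.Modules j).map T.mor₁) := by
      rw [HomologySequence.epi_homologyMap_mor₁_iff T hT j]
      exact (isZero_of_isGE T.obj₃ a j hj).eq_of_tgt _ _
    haveI : IsIso ((homologyFunctor X.Modules j).map T.mor₁) := isIso_of_mono_of_epi _
    haveI : (DCoh.HD E j).IsQuasicoherent := hE j
    exact (SheafOfModules.isQuasicoherent X.ringCatSheaf).prop_of_iso
      (asIso ((homologyFunctor X.Modules j).map T.mor₁)).symm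
      (inferInstanceAs (DCoh.HD E j).IsQuasicoherent)
  · exact Groth.Agent.Helper4.RpushQc.isQuasicoherent_of_isZero
      (isZero_of_isLE T.obj₁ (a - 1) j (by omega))

/-- `τ_{≥a} E ∈ D_QCoh` -/
theorem isQCohD_truncGE (E : DCoh.D X) (hE : DCoh.IsQCohD E) (a : ℤ) :
    DCoh.IsQCohD (((tX X).truncGE a).obj E) :=
  Groth.Agent.Helper4.QcohWSerre.isQCohD_obj₃ _ ((tX X).triangleLTGE_distinguished a E)
    (isQCohD_truncLT E hE a) hE

variable (P : DCoh.D X) (aK bK : ℤ)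
  (h : ∀ L : DCoh.D X, DCoh.IsQCohD L →
    (∀ i : ℤ, aK ≤ i → i ≤ bK → IsZero (DCoh.HD L i)) → ∀ φ : P ⟶ L, φ = 0)

include h in
lemma hom_shift_eq_zero_of_isLE (M : DCoh.D X) (hM : DCoh.IsQCohD M) (c : ℤ) [M.IsLE c] (i : ℤ)
    (hi : c < i + aK) (φ : P⟦-i⟧ ⟶ M) : φ = 0 := by
  apply adj_hom_eq_zero (shiftEquiv' (DCoh.D X) (-i) i (by omega)).toAdjunction
  exact h (M⟦i⟧) (isQCohD_shift M hM i)
    (fun j hj hj' => isZero_HD_shift_of_isLE M c i j (by omega)) _

include h in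
lemma hom_shift_eq_zero_of_isGE (M : DCoh.D X) (hM : DCoh.IsQCohD M) (c : ℤ) [M.IsGE c] (i : ℤ)
    (hi : i + bK < c) (φ : P⟦-i⟧ ⟶ M) : φ = 0 := by
  apply adj_hom_eq_zero (shiftEquiv' (DCoh.D X) (-i) i (by omega)).toAdjunction
  exact h (M⟦i⟧) (isQCohD_shift M hM i)
    (fun j hj hj' => isZero_HD_shift_of_isGE M c i j (by omega)) _

include h in
theorem iff_truncGE (E : DCoh.D X) (hE : DCoh.IsQCohD E) (a : ℤ) :
    (∃ N : ℤ, ∀ i : ℤ, N ≤ i → ∀ φ : P⟦-i⟧ ⟶ E, φ = 0) ↔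
    (∃ N : ℤ, ∀ i : ℤ, N ≤ i → ∀ φ : P⟦-i⟧ ⟶ ((tX X).truncGE a).obj E, φ = 0) := by
  let T := ((tX X).triangleLTGE a).obj E
  have hT : T ∈ distTriang _ := (tX X).triangleLTGE_distinguished a E
  haveI : T.obj₁.IsLE (a - 1) := inferInstanceAs ((tX X).IsLE (((tX X).triangleLTGE a).obj E).obj₁ (a - 1))
  have hq : DCoh.IsQCohD T.obj₁ := isQCohD_truncLT E hE a
  haveI : (T.obj₁⟦(1 : ℤ)⟧).IsLE (a - 2) := (tX X).isLE_shift T.obj₁ (a - 1) 1 (a - 2) (by omega)
  constructor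
  · rintro ⟨N, hN⟩
    refine ⟨max N (a - aK), fun i hi ψ => ?_⟩
    have h1 : ψ ≫ T.mor₃ = 0 :=
      hom_shift_eq_zero_of_isLE P aK bK h _ (isQCohD_shift _ hq 1) (a - 2) i
        (by have := (le_max_right N (a - aK)).trans hi; omega) _
    obtain ⟨φ, hφ⟩ := Triangle.coyoneda_exact₃ T hT ψ h1
    exact hφ.trans ((congrArg (fun t => t ≫ T.mor₂)
      (hN i ((le_max_left _ _).trans hi) φ)).trans zero_comp)
  · rintro ⟨N, hN⟩
    refine ⟨max N (a - aK), fun i hi φ => ?_⟩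
    have h1 : φ ≫ T.mor₂ = 0 := hN i ((le_max_left _ _).trans hi) _
    obtain ⟨g, hg⟩ := Triangle.coyoneda_exact₂ T hT φ h1
    exact hg.trans ((congrArg (fun t => t ≫ T.mor₁)
      (hom_shift_eq_zero_of_isLE P aK bK h _ hq (a - 1) i
        (by have := (le_max_right N (a - aK)).trans hi; omega) g)).trans zero_comp)

include h in
theorem iff_truncLE (E : DCoh.D X) (hE : DCoh.IsQCohD E) (a : ℤ) :
    (∃ N : ℤ, ∀ i : ℤ, i ≤ N → ∀ φ : P⟦-i⟧ ⟶ E, φ = 0) ↔
    (∃ N : ℤ, ∀ i : ℤ, i ≤ N → ∀ φ : P⟦-i⟧ ⟶ ((tX X).truncLE a).obj E, φ = 0) := by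
  let T := ((tX X).triangleLEGT a).obj E
  have hT : T ∈ distTriang _ := (tX X).triangleLEGT_distinguished a E
  haveI : T.obj₃.IsGE (a + 1) := inferInstanceAs ((tX X).IsGE (((tX X).truncGT a).obj E) (a + 1))
  have hq : DCoh.IsQCohD T.obj₃ := isQCohD_truncGE E hE (a + 1)
  haveI : (T.obj₃⟦(-1 : ℤ)⟧).IsGE (a + 2) := (tX X).isGE_shift T.obj₃ (a + 1) (-1) (a + 2) (by omega)
  constructor
  · rintro ⟨N, hN⟩
    refine ⟨min N (a - bK), fun i hi ψ => ?_⟩
    have h1 : ψ ≫ T.invRotate.mor₂ = 0 := hN i (hi.trans (min_le_left _ _)) _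
    obtain ⟨g, hg⟩ := Triangle.coyoneda_exact₂ T.invRotate (inv_rot_of_distTriang _ hT) ψ h1
    exact hg.trans ((congrArg (fun t => t ≫ T.invRotate.mor₁)
      (hom_shift_eq_zero_of_isGE P aK bK h _ (isQCohD_shift _ hq (-1)) (a + 2) i
        (by have := hi.trans (min_le_right N (a - bK)); omega) g)).trans zero_comp)
  · rintro ⟨N, hN⟩
    refine ⟨min N (a - bK), fun i hi φ => ?_⟩
    have h1 : φ ≫ T.mor₂ = 0 :=
      hom_shift_eq_zero_of_isGE P aK bK h _ hq (a + 1) i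
        (by have := hi.trans (min_le_right N (a - bK)); omega) _
    obtain ⟨g, hg⟩ := Triangle.coyoneda_exact₂ T hT φ h1
    exact hg.trans ((congrArg (fun t => t ≫ T.mor₁)
      (hN i (hi.trans (min_le_left _ _)) g)).trans zero_comp)

end Groth.Agent.Helper9.MVP6
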