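import Mathlib
import Groth.Agent.Helper9.QP7
import Groth.Agent.Helper4.QcohLocal

/-! `Rf_*` reflects isomorphisms between objects of `D_QCoh` for affine `f`. -/

set_option autoImplicit false
set_option linter.style.haveILetI false
set_option linter.unusedVariables false
set_option linter.unusedSectionVars false
universe u

namespace Groth.Agent.Helper9.QP8

open CategoryTheory Limits AlgebraicGeometry Opposite TopologicalSpace DerivedCategory
open Groth.Agent.Helper9 Groth.Agent.Helper9.LCAff1 Groth.Agent.Helper9.QP2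
  Groth.Agent.Helper9.QP3 Groth.Agent.Helper9.LC3

attribute [local instance] HasDerivedCategory.standard

lemma bijective_comp_of_adj {C D : Type*} [Category C] [Category D] {L : C ⥤ D} {Rt : D ⥤ C}
    (adj : L ⊣ Rt) {E F : D} (α : E ⟶ F) [IsIso (Rt.map α)] (G : C) :
    Function.Bijective (fun χ : L.obj G ⟶ E => χ ≫ α) := by
  have h1 : Function.Bijective (fun χ : G ⟶ Rt.obj E => χ ≫ Rt.map α) :=
    ⟨fun f g hfg => (cancel_mono _).1 hfg, fun f => ⟨f ≫ inv (Rt.map α), by simp⟩⟩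
  have h2 : (fun χ : L.obj G ⟶ E => χ ≫ α) =
      ⇑(adj.homEquiv G F).symm ∘ (fun χ : G ⟶ Rt.obj E => χ ≫ Rt.map α) ∘ ⇑(adj.homEquiv G E) := by
    funext χ
    simp only [Function.comp_apply]
    rw [← Adjunction.homEquiv_naturality_right, Equiv.symm_apply_apply]
  rw [h2]
  exact (adj.homEquiv G F).symm.bijective.comp (h1.comp (adj.homEquiv G E).bijective)

variable {X S : Scheme.{u}}

lemma kk_comp (i : ℤ) {E F : DCoh.D X} (α : E ⟶ F) (U : X.Opens) (ψ : W (GU U) i ⟶ E) :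
    kk i F U (ψ ≫ α) = ((homologyFunctor X.Modules i).map α).app U (kk i E U ψ) := by
  unfold kk
  rw [Functor.map_comp, ← Category.assoc, sec_comp]

theorem isIso_of_isIso_Rpush (f : X ⟶ S) [IsAffineHom f] [DCoh.HasRpush f]
    {E F : DCoh.D X} (hE : DCoh.IsQCohD E) (hF : DCoh.IsQCohD F) (α : E ⟶ F)
    (hα : IsIso ((DCoh.Rpush f).map α)) : IsIso α := by
  haveI : DCoh.HasLpull f := Groth.Agent.Helper9.Lpull1.hasLpull f
  rw [DerivedCategory.isIso_iff]
  intro q
  haveI : ((homologyFunctor X.Modules q).obj E).IsQuasicoherent := hE q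
  haveI : ((homologyFunctor X.Modules q).obj F).IsQuasicoherent := hF q
  apply Groth.Agent.Helper4.QcohLocal.isIso_of_app_bijective_of_affine_cover
  intro x
  obtain ⟨_, ⟨V₀, hV0, rfl⟩, hxV, -⟩ :=
    S.isBasis_affineOpens.exists_subset_of_mem_open (Set.mem_univ (f x)) isOpen_univ
  obtain ⟨V, hVV⟩ : ∃ V : S.Opens, V = V₀ := ⟨V₀, rfl⟩
  subst hVV
  have hV : IsAffineOpen V := hV0
  have hU : IsAffineOpen (f ⁻¹ᵁ V) := hV.preimage f
  refine ⟨f ⁻¹ᵁ V, hU, hxV, ?_⟩
  have k1 := kk_bijective q E hE _ hU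
  have k2 := kk_bijective q F hF _ hU
  have hb : Function.Bijective (fun ψ : W (GU (f ⁻¹ᵁ V)) q ⟶ E => ψ ≫ α) := by
    have h1 := bijective_comp_of_adj (Groth.Agent.Helper4.SchAdj.adj f) α (W (GU V) q)
    let θ := QP4b.θ f V q
    have h2 : (fun ψ : W (GU (f ⁻¹ᵁ V)) q ⟶ E => ψ ≫ α) =
        (fun χ : (DCoh.Lpull f).obj (W (GU V) q) ⟶ F => θ.inv ≫ χ) ∘
          (fun χ : (DCoh.Lpull f).obj (W (GU V) q) ⟶ E => χ ≫ α) ∘
            (fun ψ : W (GU (f ⁻¹ᵁ V)) q ⟶ E => θ.hom ≫ ψ) := by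
      funext ψ
      simp
    rw [h2]
    exact (LCTil2.bijective_precomp θ.symm F).comp (h1.comp (LCTil2.bijective_precomp θ E))
  have h3 : ⇑(ConcreteCategory.hom (((homologyFunctor X.Modules q).map α).app (f ⁻¹ᵁ V))) ∘
      kk q E (f ⁻¹ᵁ V) = kk q F (f ⁻¹ᵁ V) ∘ (fun ψ : W (GU (f ⁻¹ᵁ V)) q ⟶ E => ψ ≫ α) := by
    funext ψ
    exact (kk_comp q α _ ψ).symm
  have h4 : Function.Bijective
      (⇑(ConcreteCategory.hom (((homologyFunctor X.Modules q).map α).app (f ⁻¹ᵁ V))) ∘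
        kk q E (f ⁻¹ᵁ V)) := by
    rw [h3]
    exact k2.comp hb
  exact (Function.Bijective.of_comp_iff _ k1).1 h4

end Groth.Agent.Helper9.QP8
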