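import Mathlib
import Groth.Agent.Helper9.QP8
import Groth.Agent.Helper4.RDerTri
import Groth.Agent.Helper4.RDerAdd
import Groth.Agent.Helper4.RpushQc

/-! Uniform vanishing bound for `Rf_*` on `D_QCoh^{≤ 0}` (`f` quasi-compact quasi-separated,
quasi-compact base). -/

set_option autoImplicit false
set_option linter.style.haveILetI false
set_option linter.unusedVariables false
set_option linter.unusedSectionVars false
universe u

namespace Groth.Agent.Helper9.Van1

open CategoryTheory Limits AlgebraicGeometry Opposite TopologicalSpace DerivedCategory Pretriangulated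
open Groth.Agent.Helper9 Groth.Agent.Helper9.LCAff1 Groth.Agent.Helper9.QP2
  Groth.Agent.Helper9.QP3 Groth.Agent.Helper9.LC3

attribute [local instance] HasDerivedCategory.standard

variable {X S : Scheme.{u}}

/-- maps from `G[-m]` to objects of `D_QCoh^{≤ 0}` vanish for `m ≥ N` -/
def Van (G : X.Modules) (N : ℤ) : Prop :=
  ∀ (E : DCoh.D X), DCoh.IsQCohD E → E.IsLE 0 → ∀ m : ℤ, N ≤ m → ∀ ψ : W G m ⟶ E, ψ = 0

lemma Van.mono {G : X.Modules} {N N' : ℤ} (h : Van G N) (hN : N ≤ N') : Van G N' :=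
  fun E hE hE0 m hm ψ => h E hE hE0 m (hN.trans hm) ψ

/-- the triangle of a short exact sequence placed in degree `m` -/
lemma exists_singleTriangle (T : ShortComplex X.Modules) (hT : T.ShortExact) (m : ℤ) :
    ∃ c : W T.X₃ m ⟶ (W T.X₁ m)⟦(1 : ℤ)⟧,
      Triangle.mk ((singleFunctor X.Modules m).map T.f) ((singleFunctor X.Modules m).map T.g) c ∈
        distTriang (DCoh.D X) := by
  have h0 := Triangle.shift_distinguished _ (ShortComplex.ShortExact.singleTriangle_distinguished hT)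
    (-m)
  have n₁ := ((singleFunctors X.Modules).shiftIso (-m) m 0 (by omega)).inv.naturality T.f
  have n₂ := ((singleFunctors X.Modules).shiftIso (-m) m 0 (by omega)).inv.naturality T.g
  refine Groth.Agent.Helper4.RDerTri.exists_of_isos _ h0 _ _
    (wShift T.X₁ (-m) m 0 (by omega)).symm ((-m).negOnePow • (wShift T.X₂ (-m) m 0 (by omega)).symm)
    (wShift T.X₃ (-m) m 0 (by omega)).symm ?_ ?_
  · show (singleFunctor X.Modules m).map T.f ≫
        ((-m).negOnePow • (wShift T.X₂ (-m) m 0 (by omega)).symm.hom) =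
      (wShift T.X₁ (-m) m 0 (by omega)).symm.hom ≫
        ((-m).negOnePow • ((singleFunctor X.Modules 0).map T.f)⟦-m⟧')
    rw [Linear.comp_units_smul, Linear.comp_units_smul]
    congr 1
  · show (singleFunctor X.Modules m).map T.g ≫ (wShift T.X₃ (-m) m 0 (by omega)).symm.hom =
      ((-m).negOnePow • (wShift T.X₂ (-m) m 0 (by omega)).symm.hom) ≫
        ((-m).negOnePow • ((singleFunctor X.Modules 0).map T.g)⟦-m⟧')
    rw [Linear.comp_units_smul, Linear.units_smul_comp, smul_smul, Int.units_mul_self, one_smul]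
    exact n₂

lemma Van.of_shortExact (T : ShortComplex X.Modules) (hT : T.ShortExact) {N₁ N₂ : ℤ}
    (h₁ : Van T.X₁ N₁) (h₂ : Van T.X₂ N₂) : Van T.X₃ (max N₂ (N₁ + 1)) := by
  intro E hE hE0 m hm ψ
  obtain ⟨c, hc⟩ := exists_singleTriangle T hT m
  have h2 : (singleFunctor X.Modules m).map T.g ≫ ψ = 0 :=
    h₂ E hE hE0 m (le_trans (le_max_left _ _) hm) _
  obtain ⟨g, hg⟩ := Triangle.yoneda_exact₃ _ hc ψ h2
  have hg0 : g = 0 := by
    let σ : (W T.X₁ m)⟦(1 : ℤ)⟧ ≅ W T.X₁ (m - 1) := wShift T.X₁ 1 (m - 1) m (by omega)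
    have : σ.inv ≫ g = 0 := h₁ E hE hE0 (m - 1) (by
      have := le_trans (le_max_right _ _) hm
      omega) _
    exact (cancel_epi σ.inv).1 (this.trans comp_zero.symm)
  rw [hg, hg0]
  exact comp_zero

lemma Van.biprod {G₁ G₂ : X.Modules} {N₁ N₂ : ℤ} (h₁ : Van G₁ N₁) (h₂ : Van G₂ N₂) :
    Van (G₁ ⊞ G₂) (max N₁ N₂) := by
  intro E hE hE0 m hm ψ
  let Sm := singleFunctor X.Modules m
  have h : Sm.map (biprod.fst : G₁ ⊞ G₂ ⟶ G₁) ≫ Sm.map biprod.inl +
      Sm.map (biprod.snd : G₁ ⊞ G₂ ⟶ G₂) ≫ Sm.map biprod.inr = 𝟙 _ := by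
    rw [← Functor.map_comp, ← Functor.map_comp, ← Functor.map_add, biprod.total,
      CategoryTheory.Functor.map_id]
  have e1 : Sm.map (biprod.inl : G₁ ⟶ G₁ ⊞ G₂) ≫ ψ = 0 :=
    h₁ E hE hE0 m (le_trans (le_max_left _ _) hm) _
  have e2 : Sm.map (biprod.inr : G₂ ⟶ G₁ ⊞ G₂) ≫ ψ = 0 :=
    h₂ E hE hE0 m (le_trans (le_max_right _ _) hm) _
  calc ψ = 𝟙 _ ≫ ψ := (Category.id_comp ψ).symm
    _ = 0 := by
      rw [← h, Preadditive.add_comp, Category.assoc, Category.assoc, e1, e2, comp_zero, comp_zero,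
        add_zero]

theorem van_affine (U : X.Opens) (hU : IsAffineOpen U) : Van (GU U) 1 := by
  intro E hE hE0 m hm ψ
  apply (kk_bijective m E hE U hU).1
  have hz : IsZero ((homologyFunctor X.Modules m).obj E) := E.isZero_of_isLE 0 m (by omega)
  have h0 : ∀ s t : Γ((homologyFunctor X.Modules m).obj E, U), s = t := by
    intro s t
    have hid : 𝟙 ((homologyFunctor X.Modules m).obj E) = 0 := hz.eq_of_src _ _
    have h1 : s = (𝟙 ((homologyFunctor X.Modules m).obj E) : _ ⟶ _).app U s := by simp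
    have h2 : t = (𝟙 ((homologyFunctor X.Modules m).obj E) : _ ⟶ _).app U t := by simp
    rw [h1, h2, hid]
    simp
  exact h0 _ _

theorem van_open (Ω : X.Opens) (hΩc : IsCompact (Ω : Set X))
    (hΩ : IsQuasiSeparated (Ω : Set X)) : ∃ N : ℤ, Van (GU Ω) N := by
  refine QP3a.mv_induction (fun U => ∃ N : ℤ, Van (GU U) N) (fun U hU => ⟨1, van_affine U hU⟩)
    ?_ Ω hΩc hΩ
  rintro U V ⟨N₁, h₁⟩ ⟨N₂, h₂⟩ ⟨N₃, h₃⟩
  exact ⟨_, Van.of_shortExact (mvS U V) (mvS_shortExact U V) h₃ (Van.biprod h₁ h₂)⟩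


/-- sections of a zero module vanish -/
lemma section_eq_of_isZero {M : X.Modules} (hz : IsZero M) (U : X.Opens) (s t : Γ(M, U)) : s = t := by
  have hid : 𝟙 M = 0 := hz.eq_of_src _ _
  have h1 : s = (𝟙 M : M ⟶ M).app U s := by simp
  have h2 : t = (𝟙 M : M ⟶ M).app U t := by simp
  rw [h1, h2, hid]
  simp

/-- a quasi-coherent module on an affine scheme without non-zero global sections is zero -/
theorem isZero_of_sections_top [IsAffine S] (M : S.Modules) [M.IsQuasicoherent]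
    (h : ∀ s : Γ(M, ⊤), s = 0) : IsZero M := by
  obtain ⟨Z, hZ⟩ := HasZeroObject.zero (C := S.Modules)
  haveI : Z.IsQuasicoherent := Groth.Agent.Helper4.RpushQc.isQuasicoherent_of_isZero hZ
  haveI : IsIso (0 : M ⟶ Z) := by
    apply Groth.Agent.Helper4.QcohLocal.isIso_of_app_bijective_of_affine_cover
    intro x
    refine ⟨⊤, isAffineOpen_top S, trivial, ?_, ?_⟩
    · intro s t _
      rw [h s, h t]
    · intro t
      exact ⟨0, section_eq_of_isZero hZ _ _ _⟩
  exact hZ.of_iso (asIso (0 : M ⟶ Z))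

/-- affine base -/
theorem rpush_vanishing_of_isAffine (f : X ⟶ S) [IsAffine S] [QuasiCompact f] [QuasiSeparated f]
    [DCoh.HasRpush f] :
    ∃ N : ℤ, ∀ (E : DCoh.D X), DCoh.IsQCohD E → E.IsLE 0 → ∀ m : ℤ, N ≤ m →
      IsZero (DCoh.HD ((DCoh.Rpush f).obj E) m) := by
  haveI : DCoh.HasLpull f := Groth.Agent.Helper9.Lpull1.hasLpull f
  haveI := Groth.Agent.Helper4.SchAdj.isGrothendieckAbelian_modules X
  have hc : IsCompact ((f ⁻¹ᵁ (⊤ : S.Opens) : X.Opens) : Set X) :=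
    f.isCompact_preimage (isAffineOpen_top S).isCompact
  have hq : IsQuasiSeparated ((f ⁻¹ᵁ (⊤ : S.Opens) : X.Opens) : Set X) :=
    f.isQuasiSeparated_preimage (isAffineOpen_top S).isQuasiSeparated
  obtain ⟨N, hN⟩ := van_open (f ⁻¹ᵁ (⊤ : S.Opens)) hc hq
  refine ⟨N, fun E hE hE0 m hm => ?_⟩
  have hK : DCoh.IsQCohD ((DCoh.Rpush f).obj E) := QP7.isQCohD_Rpush f E hE
  haveI : (DCoh.HD ((DCoh.Rpush f).obj E) m).IsQuasicoherent := hK m
  apply isZero_of_sections_top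
  intro s
  obtain ⟨ψ, rfl⟩ := (kk_bijective m _ hK ⊤ (isAffineOpen_top S)).2 s
  have hψ : ψ = 0 := by
    let adj := Groth.Agent.Helper4.SchAdj.adj f
    let θ := QP4b.θ f ⊤ m
    have h1 : θ.inv ≫ (adj.homEquiv _ _).symm ψ = 0 := hN E hE hE0 m hm _
    have h2 : (adj.homEquiv _ _).symm ψ = 0 := (cancel_epi θ.inv).1 (h1.trans comp_zero.symm)
    have h3 : ψ = adj.homEquiv _ _ 0 := by
      rw [← h2, Equiv.apply_symm_apply]
    rw [h3, Adjunction.homEquiv_unit]
    have h4 : (DCoh.Rpush f).map (0 : (DCoh.Lpull f).obj (W (GU (⊤ : S.Opens)) m) ⟶ E) = 0 :=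
      Groth.Agent.Helper4.RDerAdd.map_zero (Scheme.Modules.pushforward f) (DCoh.Rpush f)
        ((DCoh.pushKh f).totalRightDerivedUnit DerivedCategory.Qh
          (HomotopyCategory.quasiIso X.Modules (ComplexShape.up ℤ))) _ _
    rw [h4, comp_zero]
  rw [hψ]
  exact kk_zero m _ ⊤


lemma exists_mem_of_mem_finset_sup (s : Finset S.Opens) (x : S)
    (hx : x ∈ (s.sup id : S.Opens)) : ∃ U ∈ s, x ∈ U := by
  classical
  induction s using Finset.induction_on with
  | empty => exact absurd hx (by simp)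
  | insert A t hA ih =>
    rw [Finset.sup_insert] at hx
    rcases hx with h | h
    · exact ⟨A, Finset.mem_insert_self _ _, h⟩
    · obtain ⟨U, hU, hxU⟩ := ih h
      exact ⟨U, Finset.mem_insert_of_mem hU, hxU⟩

/-- restriction to an open preserves `D^{≤ 0}` -/
lemma isLE_restrictD {Z : Scheme.{u}} (j : Z ⟶ X) [IsOpenImmersion j] (E : DCoh.D X) (n : ℤ)
    [E.IsLE n] : ((DCoh.restrictD j).obj E).IsLE n := by
  rw [isLE_iff]
  intro i hi
  exact IsZero.of_iso (Functor.map_isZero (Scheme.Modules.restrictFunctor j)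
    (E.isZero_of_isLE n i hi)) (Groth.Agent.Helper4.SuppLib.HDRestrictIso j E i)

/-- **uniform vanishing bound** for `Rf_*` on `D_QCoh^{≤ 0}` -/
theorem rpush_vanishing (f : X ⟶ S) [QuasiCompact f] [QuasiSeparated f] [CompactSpace ↥S]
    [DCoh.HasRpush f] :
    ∃ N : ℤ, ∀ (E : DCoh.D X), DCoh.IsQCohD E → E.IsLE 0 → ∀ m : ℤ, N ≤ m →
      IsZero (DCoh.HD ((DCoh.Rpush f).obj E) m) := by
  classical
  haveI : ∀ U : S.Opens, DCoh.HasRpush (f ∣_ U) := fun U => Groth.Agent.Helper4.HasRD.hasRpush _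
  obtain ⟨s, hs, hsup⟩ :=
    Groth.Agent.Helper1.Serre.exists_finset_affine_sup (⊤ : S.Opens) isCompact_univ
  have hunif : ∀ t : Finset S.Opens, (∀ U ∈ t, IsAffineOpen U) → ∃ N : ℤ, ∀ U ∈ t,
      ∀ (E' : DCoh.D ((f ⁻¹ᵁ U : X.Opens) : Scheme.{u})), DCoh.IsQCohD E' → E'.IsLE 0 →
        ∀ m : ℤ, N ≤ m → IsZero (DCoh.HD ((DCoh.Rpush (f ∣_ U)).obj E') m) := by
    intro t
    induction t using Finset.induction_on with
    | empty => intro _; exact ⟨0, by simp⟩
    | insert A t hA ih =>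
      intro h
      haveI : IsAffine ((A : S.Opens) : Scheme.{u}) := h A (Finset.mem_insert_self _ _)
      obtain ⟨N₁, h₁⟩ := rpush_vanishing_of_isAffine (f ∣_ A)
      obtain ⟨N₂, h₂⟩ := ih (fun U hU => h U (Finset.mem_insert_of_mem hU))
      refine ⟨max N₁ N₂, ?_⟩
      intro U hU E' hE' hE0 m hm
      rcases Finset.mem_insert.1 hU with rfl | hU
      · exact h₁ E' hE' hE0 m (le_trans (le_max_left _ _) hm)
      · exact h₂ U hU E' hE' hE0 m (le_trans (le_max_right _ _) hm)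
  obtain ⟨N, hN⟩ := hunif s hs
  refine ⟨N, fun E hE hE0 m hm => ?_⟩
  apply Groth.Agent.Helper4.SuppLib.isZero_of_stalks
  intro x
  obtain ⟨U, hU, hxU⟩ := exists_mem_of_mem_finset_sup s x (hsup ▸ (trivial : x ∈ (⊤ : S.Opens)))
  obtain ⟨e1⟩ := Groth.Agent.S6508.result f U
  let E₁ := (DCoh.restrictD (f ⁻¹ᵁ U).ι).obj E
  have hE₁ : DCoh.IsQCohD E₁ := QP7.isQCohD_restrictD _ E hE
  haveI : E₁.IsLE 0 := isLE_restrictD _ E 0
  have hz := hN U hU E₁ hE₁ inferInstance m hm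
  have hz' : IsZero ((Scheme.Modules.restrictFunctor U.ι).obj
      (DCoh.HD ((DCoh.Rpush f).obj E) m)) :=
    hz.of_iso ((Groth.Agent.Helper4.SuppLib.HDRestrictIso U.ι _ m).symm ≪≫
      (DerivedCategory.homologyFunctor _ m).mapIso (e1.app E))
  exact (Groth.Agent.Helper4.SuppLib.subsingleton_stalk_restrict_iff U.ι _ ⟨x, hxU⟩).1
    (Groth.Agent.Helper4.SuppLib.subsingleton_stalk_of_isZero _ hz' _)

end Groth.Agent.Helper9.Van1
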