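import Mathlib
import Groth.Agent.Helper9.KZ2
import Groth.Agent.Helper9.Van1
import Groth.Agent.Helper9.MVP6

/-! Koszul objects detect the cohomology sheaves of objects of `D_QCoh(Spec R)` supported on
`V(f₁, …, f_r)`; the amplitude of Koszul objects. -/

set_option autoImplicit false
set_option linter.style.haveILetI false
set_option linter.unusedVariables false
set_option linter.unusedSectionVars false
universe u

namespace Groth.Agent.Helper9.KZ3

open CategoryTheory CategoryTheory.Limits AlgebraicGeometry Opposite TopologicalSpace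
  Pretriangulated DerivedCategory
open Groth.Agent.Helper9.MVP3 Groth.Agent.Helper9.MVP10 Groth.Agent.Helper9.MVP13
  Groth.Agent.Helper9.MVP14 Groth.Agent.Helper9.KZ1 Groth.Agent.Helper9.KZ2
  Groth.Agent.Helper9.LC3 Groth.Agent.Helper9.LCAff1 Groth.Agent.Lead.PerfLib

attribute [local instance] HasDerivedCategory.standard
attribute [local instance] overSelf

lemma adj_hom_eq_zero' {C D : Type*} [Category C] [Category D] [Preadditive C] [Preadditive D]
    {F : C ⥤ D} {G : D ⥤ C} [G.PreservesZeroMorphisms] (adj : F ⊣ G) {X : C} {Y : D}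
    (g : X ⟶ G.obj Y) (h : (adj.homEquiv X Y).symm g = 0) : g = 0 := by
  have h2 := (adj.homEquiv X Y).apply_symm_apply g
  rw [h, Adjunction.homEquiv_unit, Functor.map_zero, comp_zero] at h2
  exact h2.symm

section ZeroOn

variable {X : Scheme.{u}}

lemma zeroOn_shift {C : DCoh.D X} {W : X.Opens} (h : ZeroOn C W) (n : ℤ) : ZeroOn (C⟦n⟧) W := by
  intro i x hx hns
  apply h (n + i) x hx
  intro hsub
  exact hns (subsingleton_stalk_of_iso
    (Groth.Agent.Helper9.Amp1.homologyShiftIso C n i).symm x hsub)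

end ZeroOn

variable (R : CommRingCat.{u}) [PreservesFiniteLimits (tilde.functor R)]

/-- one step: maps from `K(l)~` vanish if maps from `K(f :: l)~` do -/
lemma hom_Kt_eq_zero_of_cons (f : R) (l : List R) (C : DCoh.D (Spec (CommRingCat.of R)))
    (hC : DCoh.IsQCohD C) (hz : ZeroOn C (Da R (Spec (CommRingCat.of R)) f))
    (h : ∀ ψ : Kt R (f :: l) ⟶ C, ψ = 0) (φ : Kt R l ⟶ C) : φ = 0 := by
  obtain ⟨g, k, hT⟩ := exists_triangle R f l
  have step : ∀ φ' : Kt R l ⟶ C, f • φ' = 0 → φ' = 0 := by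
    intro φ' hφ'
    obtain ⟨χ, hχ⟩ : ∃ χ : Kt R (f :: l) ⟶ C, φ' = g ≫ χ :=
      Triangle.yoneda_exact₂ _ hT φ' (by
        show (f • 𝟙 (Kt R l)) ≫ φ' = 0
        rw [Linear.smul_comp, Category.id_comp, hφ'])
    rw [hχ, h χ, comp_zero]
  have key : ∀ (m : ℕ) (φ' : Kt R l ⟶ C), f ^ m • φ' = 0 → φ' = 0 := by
    intro m
    induction m with
    | zero =>
      intro φ' hφ'
      rwa [pow_zero, one_smul] at hφ'
    | succ m ih =>
      intro φ' hφ'
      apply ih
      apply step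
      rw [smul_smul, ← pow_succ']
      exact hφ'
  obtain ⟨m, hm⟩ := Groth.Agent.Helper9.MVP11.ka_of_isPerfect R f (Spec (CommRingCat.of R))
    (Kt R l) (isPerfect_Kt R l) C hC (suppA_of_zeroOn R f C hz) φ
  exact key m φ hm

/-- maps from the structure sheaf vanish if maps from the Koszul object do -/
theorem hom_OX_eq_zero (l : List R) :
    ∀ (C : DCoh.D (Spec (CommRingCat.of R))), DCoh.IsQCohD C →
      ZeroOn C (UL R (Spec (CommRingCat.of R)) l) → (∀ ψ : Kt R l ⟶ C, ψ = 0) →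
      ∀ ψ : OX R ⟶ C, ψ = 0 := by
  induction l with
  | nil =>
    intro C hC hz h ψ
    have h1 := h ((KtNilIso R).hom ≫ ψ)
    rw [← cancel_epi (KtNilIso R).hom, h1, comp_zero]
  | cons f l ih =>
    intro C hC hz h ψ
    have hz1 : ZeroOn C (Da R (Spec (CommRingCat.of R)) f) := hz.mono le_sup_left
    have hz2 : ZeroOn C (UL R (Spec (CommRingCat.of R)) l) := hz.mono le_sup_right
    exact ih C hC hz2 (fun φ => hom_Kt_eq_zero_of_cons R f l C hC hz1 h φ) ψ

/-- maps from the structure sheaf in degree `0` detect `H⁰` on `D_QCoh` of an affine scheme -/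
theorem isZero_HD_zero_of_hom_OX (C : DCoh.D (Spec (CommRingCat.of R))) (hC : DCoh.IsQCohD C)
    (h : ∀ ψ : OX R ⟶ C, ψ = 0) : IsZero (DCoh.HD C 0) := by
  haveI : (DCoh.HD C 0).IsQuasicoherent := hC 0
  apply Groth.Agent.Helper9.Van1.isZero_of_sections_top
  intro s
  let e := Groth.Agent.Helper9.LCUnit1.unitIsoGU (Spec (CommRingCat.of R))
  have hb := Groth.Agent.Helper9.QP3.kk_bijective 0 C hC
    (⊤ : (Spec (CommRingCat.of R)).Opens) (isAffineOpen_top _)
  obtain ⟨ψ, hψ⟩ := hb.2 s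
  have h0 : ψ = 0 := by
    have h1 := h ((singleFunctor _ 0).map e.hom ≫ ψ)
    have h2 := ((singleFunctor (Spec (CommRingCat.of R)).Modules 0).mapIso e).inv_hom_id_assoc ψ
    rw [← h2]
    exact (congrArg (fun t => ((singleFunctor (Spec (CommRingCat.of R)).Modules 0).mapIso e).inv ≫ t)
      h1).trans comp_zero
  rw [← hψ, h0, Groth.Agent.Helper9.QP3.kk_zero]

/-- **Koszul objects detect cohomology**: for `C ∈ D_QCoh` vanishing on `U`, if all maps
`K~[-n] ⟶ C` vanish then `Hⁿ(C) = 0` -/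
theorem isZero_HD_of_hom_Kt (l : List R) (C : DCoh.D (Spec (CommRingCat.of R)))
    (hC : DCoh.IsQCohD C) (hz : ZeroOn C (UL R (Spec (CommRingCat.of R)) l)) (n : ℤ)
    (h : ∀ φ : (Kt R l)⟦-n⟧ ⟶ C, φ = 0) : IsZero (DCoh.HD C n) := by
  have h1 : ∀ ψ : Kt R l ⟶ C⟦n⟧, ψ = 0 := fun ψ =>
    adj_hom_eq_zero' (shiftEquiv' (DCoh.D (Spec (CommRingCat.of R))) (-n) n (by omega)).toAdjunction
      ψ (h _)
  have h2 := hom_OX_eq_zero R l (C⟦n⟧) (isQCohD_shift C hC n) (zeroOn_shift hz n) h1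
  have h3 := isZero_HD_zero_of_hom_OX R (C⟦n⟧) (isQCohD_shift C hC n) h2
  exact (h3.of_iso (Groth.Agent.Helper9.Amp1.homologyShiftIso C n 0).symm).of_iso
    (eqToIso (by rw [add_zero]))

/-- **amplitude of Koszul objects**: maps from `K(l)~` to `L ∈ D_QCoh` vanish if `Hⁱ(L) = 0` for
`-r ≤ i ≤ 0` -/
theorem hom_Kt_eq_zero_of_range (l : List R) :
    ∀ (L : DCoh.D (Spec (CommRingCat.of R))), DCoh.IsQCohD L →
      (∀ i : ℤ, -(l.length : ℤ) ≤ i → i ≤ 0 → IsZero (DCoh.HD L i)) →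
      ∀ ψ : Kt R l ⟶ L, ψ = 0 := by
  induction l with
  | nil =>
    intro L hL h ψ
    have h1 := Groth.Agent.Helper9.MVP4.hom_unit_eq_zero (Spec (CommRingCat.of R)) L hL 0
      (h 0 (by simp) le_rfl) ((KtNilIso R).inv ≫ ψ)
    rw [← cancel_epi (KtNilIso R).inv, h1, comp_zero]
  | cons f l ih =>
    intro L hL h ψ
    obtain ⟨g, k, hT⟩ := exists_triangle R f l
    have hlen : ((f :: l).length : ℤ) = (l.length : ℤ) + 1 := by
      rw [List.length_cons]
      push_cast
      rfl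
    have h1 : g ≫ ψ = 0 := ih L hL (fun i hi hi' => h i (by rw [hlen]; omega) hi') _
    obtain ⟨χ, hχ⟩ : ∃ χ : (Kt R l)⟦(1 : ℤ)⟧ ⟶ L, ψ = k ≫ χ :=
      Triangle.yoneda_exact₃ _ hT ψ h1
    have h2 : χ = 0 := by
      apply adj_hom_eq_zero (shiftEquiv (DCoh.D (Spec (CommRingCat.of R))) (1 : ℤ)).toAdjunction
      refine ih (L⟦(-1 : ℤ)⟧) (isQCohD_shift L hL (-1)) (fun i hi hi' => ?_) _
      exact (h (-1 + i) (by rw [hlen]; omega) (by omega)).of_iso
        (Groth.Agent.Helper9.Amp1.homologyShiftIso L (-1) i)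
    rw [hχ, h2, comp_zero]

lemma isLE_single (Y : Scheme.{u}) (M : Y.Modules) (n : ℤ) :
    ((singleFunctor Y.Modules n).obj M).IsLE n := inferInstance

/-- Koszul objects live in non-positive degrees -/
instance isLE_Kt (l : List R) : (Kt R l).IsLE 0 := by
  induction l with
  | nil =>
    haveI : (OX R).IsLE 0 := isLE_single (Spec (CommRingCat.of R))
      (SheafOfModules.unit (Spec (CommRingCat.of R)).ringCatSheaf) 0
    exact DerivedCategory.TStructure.t.isLE_of_iso (KtNilIso R).symm 0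
  | cons f l ih =>
    obtain ⟨g, k, hT⟩ := exists_triangle R f l
    haveI : (Kt R l).IsLE 0 := ih
    have h3 : DerivedCategory.TStructure.t.IsLE ((Kt R l)⟦(1 : ℤ)⟧) 0 :=
      haveI := DerivedCategory.TStructure.t.isLE_shift (Kt R l) 0 1 (-1) (by omega)
      DerivedCategory.TStructure.t.isLE_of_le _ (-1) 0 (by omega)
    exact DerivedCategory.TStructure.t.isLE₂ _ (rot_of_distTriang _ hT) 0 ih h3

end Groth.Agent.Helper9.KZ3
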