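import Mathlib
import Groth.Agent.Helper9.KZ3
import Groth.Agent.Helper9.MVP5
import Groth.Agent.Helper9.QP7
import Groth.Agent.Helper4.RjSuppGen
import Groth.Agent.Helper4.QcohWSerre
import Groth.Agent.Helper4.SuppLib

/-! Koszul objects and `Rj_*` for the complement of `V(f₁, …, f_r)` in `Spec R`. -/

set_option autoImplicit false
set_option linter.style.haveILetI false
set_option linter.unusedVariables false
set_option linter.unusedSectionVars false
universe u

namespace Groth.Agent.Helper9.KZ4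

open CategoryTheory CategoryTheory.Limits AlgebraicGeometry Opposite TopologicalSpace
  Pretriangulated DerivedCategory
open Groth.Agent.Helper9.MVP3 Groth.Agent.Helper9.MVP10 Groth.Agent.Helper9.MVP13
  Groth.Agent.Helper9.MVP14 Groth.Agent.Helper9.KZ1 Groth.Agent.Helper9.KZ2
  Groth.Agent.Helper9.KZ3 Groth.Agent.Lead.PerfLib

attribute [local instance] HasDerivedCategory.standard
attribute [local instance] overSelf

section General

variable {D : Type*} [Category D] [Preadditive D] [HasZeroObject D] [HasShift D ℤ]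
  [∀ n : ℤ, (shiftFunctor D n).Additive] [Pretriangulated D]

/-- all maps `K ⟶ Y⟦i⟧` vanish -/
def HZ (K Y : D) (i : ℤ) : Prop := ∀ ψ : K ⟶ Y⟦i⟧, ψ = 0

lemma HZ.of_iso {K Y Y' : D} {i : ℤ} (e : Y ≅ Y') (h : HZ K Y i) : HZ K Y' i := by
  intro ψ
  have h1 := h (ψ ≫ (shiftFunctor D i).map e.inv)
  have h2 : ψ = (ψ ≫ (shiftFunctor D i).map e.inv) ≫ (shiftFunctor D i).map e.hom := by
    rw [Category.assoc, ← Functor.map_comp, e.inv_hom_id, CategoryTheory.Functor.map_id,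
      Category.comp_id]
  rw [h2, h1, zero_comp]

lemma HZ.shift_iff (K Y : D) (a i : ℤ) : HZ K (Y⟦a⟧) i ↔ HZ K Y (a + i) := by
  let e : (Y⟦a⟧)⟦i⟧ ≅ Y⟦a + i⟧ := ((shiftFunctorAdd' D a i (a + i) rfl).app Y).symm
  constructor
  · intro h ψ
    have h1 := h (ψ ≫ e.inv)
    have h2 : ψ = (ψ ≫ e.inv) ≫ e.hom := by rw [Category.assoc, e.inv_hom_id, Category.comp_id]
    rw [h2, h1, zero_comp]
  · intro h ψ
    have h1 := h (ψ ≫ e.hom)
    have h2 : ψ = (ψ ≫ e.hom) ≫ e.inv := by rw [Category.assoc, e.hom_inv_id, Category.comp_id]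
    rw [h2, h1, zero_comp]

lemma HZ_iff (K Y : D) (i : ℤ) : HZ K Y i ↔ ∀ φ : K⟦-i⟧ ⟶ Y, φ = 0 := by
  have hi : -i + i = 0 := by omega
  haveI : (shiftEquiv' D (-i) i hi).inverse.PreservesZeroMorphisms :=
    inferInstanceAs ((shiftFunctor D i).PreservesZeroMorphisms)
  haveI : (shiftEquiv' D (-i) i hi).functor.PreservesZeroMorphisms :=
    inferInstanceAs ((shiftFunctor D (-i)).PreservesZeroMorphisms)
  constructor
  · intro h φ
    exact adj_hom_eq_zero (shiftEquiv' D (-i) i hi).toAdjunction φ (h _)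
  · intro h ψ
    exact adj_hom_eq_zero' (shiftEquiv' D (-i) i hi).toAdjunction ψ (h _)

/-- the middle term -/
lemma HZ.obj₂ (T : Triangle D) (hT : T ∈ distTriang D) (K : D) (i : ℤ)
    (h₁ : HZ K T.obj₁ i) (h₃ : HZ K T.obj₃ i) : HZ K T.obj₂ i := by
  intro ψ
  obtain ⟨χ, hχ⟩ : ∃ χ : K ⟶ T.obj₁⟦i⟧, ψ = χ ≫ ((Triangle.shiftFunctor D i).obj T).mor₁ :=
    Triangle.coyoneda_exact₂ _ (Triangle.shift_distinguished T hT i) ψ (h₃ _)
  rw [hχ, h₁ χ]
  exact zero_comp

lemma HZ.obj₃ (T : Triangle D) (hT : T ∈ distTriang D) (K : D) (i : ℤ)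
    (h₂ : HZ K T.obj₂ i) (h₁ : HZ K T.obj₁ (i + 1)) : HZ K T.obj₃ i := by
  refine HZ.obj₂ T.rotate (rot_of_distTriang _ hT) K i h₂ ?_
  show HZ K (T.obj₁⟦(1 : ℤ)⟧) i
  rw [HZ.shift_iff, add_comm]
  exact h₁

lemma HZ.obj₁ (T : Triangle D) (hT : T ∈ distTriang D) (K : D) (i : ℤ)
    (h₂ : HZ K T.obj₂ i) (h₃ : HZ K T.obj₃ (i - 1)) : HZ K T.obj₁ i := by
  refine HZ.obj₂ T.invRotate (inv_rot_of_distTriang _ hT) K i ?_ h₂
  show HZ K (T.obj₃⟦(-1 : ℤ)⟧) i
  rw [HZ.shift_iff]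
  have : (-1 : ℤ) + i = i - 1 := by omega
  rw [this]
  exact h₃

end General

section Spec

variable (R : CommRingCat.{u}) [PreservesFiniteLimits (tilde.functor R)]

lemma isCompact_UL {X : Scheme.{u}} [IsAffine X] (A : Type u) [CommRing A]
    [X.Over (Spec (CommRingCat.of A))] (l : List A) : IsCompact (UL A X l : Set X) := by
  induction l with
  | nil =>
    show IsCompact ((⊥ : X.Opens) : Set X)
    simp
  | cons a l ih =>
    show IsCompact ((Da A X a ⊔ UL A X l : X.Opens) : Set X)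
    rw [Opens.coe_sup]
    exact ((isAffineOpen_top X).basicOpen _).isCompact.union ih

/-- in the form used with `HZ`: cohomology is detected by Koszul objects -/
theorem isZero_HD_of_HZ (l : List R) (C : DCoh.D (Spec (CommRingCat.of R)))
    (hC : DCoh.IsQCohD C) (hz : ZeroOn C (UL R (Spec (CommRingCat.of R)) l)) (n : ℤ)
    (h : HZ (Kt R l) C n) : IsZero (DCoh.HD C n) :=
  isZero_HD_of_hom_Kt R l C hC hz n ((HZ_iff _ _ _).1 h)

variable (fs : List R)

/-- the open complement of `V(fs)` -/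
noncomputable abbrev PU : (Spec (CommRingCat.of R)).Opens :=
  LocCoh.puncturedOpen R (Ideal.span {a | a ∈ fs})

lemma zeroOn_Kt_PU : ZeroOn (Kt R fs) (PU R fs) := by
  have h := zeroOn_Kt R fs
  rwa [UL_eq_puncturedOpen] at h

lemma isCompact_PU : IsCompact (PU R fs : Set (Spec (CommRingCat.of R))) := by
  have h := isCompact_UL (X := Spec (CommRingCat.of R)) R fs
  rwa [UL_eq_puncturedOpen] at h

variable [PreservesFiniteLimits (Scheme.Modules.restrictFunctor (PU R fs).ι)]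
  [DCoh.HasRpush (PU R fs).ι] (adj : DCoh.restrictD (PU R fs).ι ⊣ DCoh.Rpush (PU R fs).ι)

include adj in
/-- maps from shifted Koszul objects to `Rj_* M` vanish -/
lemma HZ_Rpush (M : DCoh.D (PU R fs : Scheme.{u})) (i : ℤ) :
    HZ (Kt R fs) ((DCoh.Rpush (PU R fs).ι).obj M) i := by
  rw [HZ_iff]
  intro φ
  haveI : (DCoh.Rpush (PU R fs).ι).Additive := adj.right_adjoint_additive
  apply adj_hom_eq_zero' adj
  have hz : IsZero ((DCoh.restrictD (PU R fs).ι).obj ((Kt R fs)⟦-i⟧)) :=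
    (zeroOn_iff _ _).1 (zeroOn_shift (zeroOn_Kt_PU R fs) (-i))
  exact hz.eq_of_src _ _

lemma zeroOn_obj₁ {X : Scheme.{u}} (T : Triangle (DCoh.D X)) (hT : T ∈ distTriang _) (W : X.Opens)
    (h : IsIso ((DCoh.restrictD W.ι).map T.mor₂)) : ZeroOn T.obj₁ W := by
  rw [zeroOn_iff]
  have hT' := (DCoh.restrictD W.ι).map_distinguished T hT
  exact (Triangle.isZero₁_iff_isIso₂ _ hT').2 h

lemma isQCohD_RE (E : DCoh.D (Spec (CommRingCat.of R))) (hE : DCoh.IsQCohD E) :
    DCoh.IsQCohD ((DCoh.Rpush (PU R fs).ι).obj ((DCoh.restrictD (PU R fs).ι).obj E)) := by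
  haveI : QuasiCompact (PU R fs).ι := quasiCompact_ι _ _ (isCompact_PU R fs)
  exact Groth.Agent.Helper9.QP7.isQCohD_Rpush _ _
    (Groth.Agent.Helper9.QP7.isQCohD_restrictD _ E hE)

/-- the canonical t-structure on `D(O_{Spec R})` -/
noncomputable abbrev tS (R : CommRingCat.{u}) :
    CategoryTheory.Triangulated.TStructure (DCoh.D (Spec (CommRingCat.of R))) :=
  DerivedCategory.TStructure.t

include adj in
/-- S1095, first half -/
theorem truncLE_unit_isIso (E : DCoh.D (Spec (CommRingCat.of R))) (hE : DCoh.IsQCohD E) (a : ℤ)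
    (h : ∀ n : ℤ, n ≤ a → ∀ φ : (Kt R fs)⟦-n⟧ ⟶ E, φ = 0) :
    IsIso (((tS R).truncLE (a - 1)).map (adj.unit.app E)) := by
  obtain ⟨C, g, δ, hT⟩ := distinguished_cocone_triangle (adj.unit.app E)
  have hC : DCoh.IsQCohD C :=
    Groth.Agent.Helper4.QcohWSerre.isQCohD_obj₃ _ hT hE (isQCohD_RE R fs E hE)
  have hz : ZeroOn C (PU R fs) := zeroOn_obj₃ _ hT _
    (Groth.Agent.Helper4.RjSuppGen.isIso_restrict_unit_of_adj (PU R fs).ι adj E)
  have hz' : ZeroOn C (UL R (Spec (CommRingCat.of R)) fs) := by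
    rw [UL_eq_puncturedOpen]
    exact hz
  have hGE : C.IsGE a := by
    rw [DerivedCategory.isGE_iff]
    intro i hi
    apply isZero_HD_of_HZ R fs C hC hz' i
    exact HZ.obj₃ _ hT (Kt R fs) i (HZ_Rpush R fs adj _ i)
      ((HZ_iff _ _ _).2 (h (i + 1) (by omega)))
  exact (tS R).isIso₁_truncLE_map_of_isGE _ hT (a - 1) a (by omega) hGE

include adj in
/-- S1095, second half -/
theorem hom_eq_zero_of_truncLE_unit_isIso (E : DCoh.D (Spec (CommRingCat.of R))) (a : ℤ)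
    (hiso : IsIso (((tS R).truncLE (a - 1)).map (adj.unit.app E))) (n : ℤ) (hn : n ≤ a - 1)
    (φ : (Kt R fs)⟦-n⟧ ⟶ E) : φ = 0 := by
  have h0 : φ ≫ adj.unit.app E = 0 := (HZ_iff _ _ _).1 (HZ_Rpush R fs adj _ n) _
  haveI : (tS R).IsLE ((Kt R fs)⟦-n⟧) (a - 1) :=
    haveI : (tS R).IsLE (Kt R fs) 0 := isLE_Kt R fs
    haveI := (tS R).isLE_shift (Kt R fs) 0 (-n) n (by omega)
    (tS R).isLE_of_le _ n (a - 1) hn
  have h1 : (tS R).liftTruncLE φ (a - 1) ≫ ((tS R).truncLE (a - 1)).map (adj.unit.app E) = 0 := by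
    apply (tS R).to_truncLE_obj_ext
    rw [Category.assoc, zero_comp]
    have hnat : ((tS R).truncLE (a - 1)).map (adj.unit.app E) ≫
        ((tS R).truncLEι (a - 1)).app
          ((DCoh.Rpush (PU R fs).ι).obj ((DCoh.restrictD (PU R fs).ι).obj E)) =
        ((tS R).truncLEι (a - 1)).app E ≫ adj.unit.app E :=
      ((tS R).truncLEι (a - 1)).naturality (adj.unit.app E)
    refine (congrArg (fun t => (tS R).liftTruncLE φ (a - 1) ≫ t) hnat).trans ?_
    rw [← Category.assoc, (tS R).liftTruncLE_ι]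
    exact h0
  have h2 : (tS R).liftTruncLE φ (a - 1) = 0 := by
    rw [← cancel_mono (((tS R).truncLE (a - 1)).map (adj.unit.app E)), h1, zero_comp]
  rw [← (tS R).liftTruncLE_ι φ (a - 1), h2, zero_comp]

include adj in
/-- S1096, first half -/
theorem truncGE_unit_isIso (E : DCoh.D (Spec (CommRingCat.of R))) (hE : DCoh.IsQCohD E) (a : ℤ)
    (h : ∀ n : ℤ, a ≤ n → ∀ φ : (Kt R fs)⟦-n⟧ ⟶ E, φ = 0) :
    IsIso (((tS R).truncGE a).map (adj.unit.app E)) := by
  obtain ⟨F, ι, δ, hT⟩ := distinguished_cocone_triangle₁ (adj.unit.app E)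
  have hF : DCoh.IsQCohD F :=
    Groth.Agent.Helper4.QcohWSerre.isQCohD_obj₁ _ hT hE (isQCohD_RE R fs E hE)
  have hz : ZeroOn F (PU R fs) := zeroOn_obj₁ _ hT _
    (Groth.Agent.Helper4.RjSuppGen.isIso_restrict_unit_of_adj (PU R fs).ι adj E)
  have hz' : ZeroOn F (UL R (Spec (CommRingCat.of R)) fs) := by
    rw [UL_eq_puncturedOpen]
    exact hz
  have hLE : F.IsLE (a - 1) := by
    rw [DerivedCategory.isLE_iff]
    intro i hi
    apply isZero_HD_of_HZ R fs F hF hz' i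
    exact HZ.obj₁ _ hT (Kt R fs) i ((HZ_iff _ _ _).2 (h i (by omega)))
      (HZ_Rpush R fs adj _ (i - 1))
  exact (tS R).isIso₂_truncGE_map_of_isLE _ hT (a - 1) a (by omega) hLE

include adj in
/-- S1096, second half -/
theorem hom_eq_zero_of_truncGE_unit_isIso (E : DCoh.D (Spec (CommRingCat.of R)))
    (hE : DCoh.IsQCohD E) (a : ℤ)
    (hiso : IsIso (((tS R).truncGE a).map (adj.unit.app E))) (n : ℤ)
    (hn : a + (fs.length : ℤ) ≤ n) (φ : (Kt R fs)⟦-n⟧ ⟶ E) : φ = 0 := by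
  have h0 : φ ≫ adj.unit.app E = 0 := (HZ_iff _ _ _).1 (HZ_Rpush R fs adj _ n) _
  have h1 : φ ≫ ((tS R).truncGEπ a).app E = 0 := by
    rw [← cancel_mono (((tS R).truncGE a).map (adj.unit.app E)), Category.assoc, zero_comp]
    have hnat : adj.unit.app E ≫ ((tS R).truncGEπ a).app
          ((DCoh.Rpush (PU R fs).ι).obj ((DCoh.restrictD (PU R fs).ι).obj E)) =
        ((tS R).truncGEπ a).app E ≫ ((tS R).truncGE a).map (adj.unit.app E) :=
      ((tS R).truncGEπ a).naturality (adj.unit.app E)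
    rw [← hnat, ← Category.assoc]
    exact (congrArg (fun t => t ≫ ((tS R).truncGEπ a).app _) h0).trans zero_comp
  obtain ⟨φ', hφ'⟩ : ∃ φ' : (Kt R fs)⟦-n⟧ ⟶ ((tS R).truncLT a).obj E,
      φ = φ' ≫ ((tS R).truncLTι a).app E :=
    Triangle.coyoneda_exact₂ _ ((tS R).triangleLTGE_distinguished a E) φ h1
  have hL : DCoh.IsQCohD (((tS R).truncLT a).obj E) :=
    Groth.Agent.Helper9.MVP6.isQCohD_truncLT E hE a
  haveI : (((tS R).truncLT a).obj E).IsLE (a - 1) := inferInstance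
  have h2 : φ' = 0 := by
    refine (HZ_iff _ _ _).1 ?_ φ'
    intro ψ
    refine hom_Kt_eq_zero_of_range R fs _ (isQCohD_shift _ hL n) (fun i hi hi' => ?_) ψ
    exact Groth.Agent.Helper9.MVP5.isZero_HD_shift_of_isLE (((tS R).truncLT a).obj E) (a - 1) n i
      (by omega)
  rw [hφ', h2, zero_comp]

/-- S1044 -/
theorem orthogonal_iff (E : DCoh.D (Spec (CommRingCat.of R))) (hE : DCoh.IsQCohD E) :
    (∃ M : DCoh.D (PU R fs : Scheme.{u}), DCoh.IsQCohD M ∧
        Nonempty (E ≅ (DCoh.Rpush (PU R fs).ι).obj M)) ↔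
    ∀ (n : ℤ) (φ : (Kt R fs)⟦n⟧ ⟶ E), φ = 0 := by
  let adj' := Groth.Agent.Helper4.RjSuppGen.dAdj' (PU R fs).ι
  constructor
  · rintro ⟨M, -, ⟨e⟩⟩ n φ
    have h1 : φ ≫ e.hom = 0 := by
      have := (HZ_iff _ _ _).1 (HZ_Rpush R fs adj' M (-n))
      rw [neg_neg] at this
      exact this _
    rw [← cancel_mono e.hom, h1, zero_comp]
  · intro h
    obtain ⟨C, g, δ, hT⟩ := distinguished_cocone_triangle (adj'.unit.app E)
    have hC : DCoh.IsQCohD C :=
      Groth.Agent.Helper4.QcohWSerre.isQCohD_obj₃ _ hT hE (isQCohD_RE R fs E hE)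
    have hz : ZeroOn C (PU R fs) := zeroOn_obj₃ _ hT _
      (Groth.Agent.Helper4.RjSuppGen.isIso_restrict_unit_of_adj (PU R fs).ι adj' E)
    have hz' : ZeroOn C (UL R (Spec (CommRingCat.of R)) fs) := by
      rw [UL_eq_puncturedOpen]
      exact hz
    have hzero : IsZero C := by
      apply Groth.Agent.Helper4.SuppLib.isZero_of_HD
      intro i
      apply isZero_HD_of_HZ R fs C hC hz' i
      refine HZ.obj₃ _ hT (Kt R fs) i (HZ_Rpush R fs adj' _ i) ((HZ_iff _ _ _).2 ?_)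
      exact h (-(i + 1))
    haveI : IsIso (adj'.unit.app E) := (Triangle.isZero₃_iff_isIso₁ _ hT).1 hzero
    exact ⟨(DCoh.restrictD (PU R fs).ι).obj E,
      Groth.Agent.Helper9.QP7.isQCohD_restrictD _ E hE, ⟨asIso (adj'.unit.app E)⟩⟩

end Spec

end Groth.Agent.Helper9.KZ4
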