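import Mathlib
import Groth.Agent.Helper9.KZ4
import Groth.Agent.Helper9.MVP7

/-! Cohomological dimension: on a union of `r` basic opens of an affine scheme, maps from the
structure sheaf to `L ∈ D_QCoh` vanish if `Hⁱ(L) = 0` for `-r < i ≤ 0`. -/

set_option autoImplicit false
set_option linter.style.haveILetI false
set_option linter.unusedVariables false
set_option linter.unusedSectionVars false
universe u

namespace Groth.Agent.Helper9.KZ5

open CategoryTheory CategoryTheory.Limits AlgebraicGeometry Opposite TopologicalSpace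
  Pretriangulated DerivedCategory
open Groth.Agent.Helper9.MVP3 Groth.Agent.Helper9.MVP7 Groth.Agent.Helper9.MVP13
  Groth.Agent.Helper9.MVP14 Groth.Agent.Helper9.KZ1

attribute [local instance] HasDerivedCategory.standard

/-- the structure sheaf in degree `0` -/
noncomputable abbrev OZ (Z : Scheme.{u}) : DCoh.D Z :=
  (singleFunctor Z.Modules 0).obj (SheafOfModules.unit Z.ringCatSheaf)

/-- restriction of the structure sheaf -/
noncomputable def restrictOZIso {Z' Z : Scheme.{u}} (k : Z' ⟶ Z) [IsOpenImmersion k] :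
    (DCoh.restrictD k).obj (OZ Z) ≅ OZ Z' :=
  ((Scheme.Modules.restrictFunctor k).mapDerivedCategorySingleFunctor 0).app _ ≪≫
    (singleFunctor Z'.Modules 0).mapIso (Scheme.Modules.restrictUnitIso k)

lemma hvr_affine (Z : Scheme.{u}) [IsAffine Z] : HVr Z (OZ Z) {0} :=
  fun L hL hv φ => Groth.Agent.Helper9.MVP4.hom_unit_eq_zero Z L hL 0 (hv 0 rfl) φ

lemma hvr_empty (Z : Scheme.{u}) [IsEmpty Z] (B : DCoh.D Z) (S : Set ℤ) : HVr Z B S := by
  intro L hL hv φ
  have hz : ∀ M : Z.Modules, IsZero M := fun M =>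
    Groth.Agent.Helper4.AssDict.isZero_of_subsingleton_stalks M (fun x => (IsEmpty.false x).elim)
  have hB : IsZero B := Groth.Agent.Helper4.SuppLib.isZero_of_HD B (fun i => hz _)
  exact hB.eq_of_src _ _

section UL

variable (A : Type u) [CommRing A] {X : Scheme.{u}} [X.Over (Spec (CommRingCat.of A))]

lemma Da_inf_Da (f g : A) : Da A X f ⊓ Da A X g = Da A X (f * g) := by
  show X.basicOpen _ ⊓ X.basicOpen _ = X.basicOpen _
  rw [map_mul]
  exact (Scheme.basicOpen_mul X (U := ⊤) (Coh.toGlobal (X ↘ Spec (CommRingCat.of A)) f)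
    (Coh.toGlobal (X ↘ Spec (CommRingCat.of A)) g)).symm

lemma Da_inf_UL (f : A) (l : List A) :
    Da A X f ⊓ UL A X l = UL A X (l.map (fun g => f * g)) := by
  induction l with
  | nil =>
    show Da A X f ⊓ ⊥ = ⊥
    exact inf_bot_eq _
  | cons g l ih =>
    show Da A X f ⊓ (Da A X g ⊔ UL A X l) = Da A X (f * g) ⊔ UL A X (l.map (fun g => f * g))
    rw [inf_sup_left, Da_inf_Da, ih]

end UL

section Main

variable (R : CommRingCat.{u})

attribute [local instance] overSelf

lemma opensRange_ι_comp {Z X : Scheme.{u}} (j : Z ⟶ X) [IsOpenImmersion j] (W : X.Opens)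
    (hW : W ≤ j.opensRange) : ((j ⁻¹ᵁ W).ι ≫ j).opensRange = W := by
  rw [Scheme.Hom.opensRange_comp, Scheme.Opens.opensRange_ι,
    Scheme.Hom.image_preimage_eq_opensRange_inf, inf_eq_right.2 hW]

/-- the cohomological dimension bound -/
theorem hvr_UL (n : ℕ) : ∀ (l : List R), l.length = n → ∀ (Z : Scheme.{u})
    (j : Z ⟶ Spec (CommRingCat.of R)) [IsOpenImmersion j],
    j.opensRange = UL R (Spec (CommRingCat.of R)) l → HVr Z (OZ Z) (Set.Ioc (-(n : ℤ)) 0) := by
  induction n with
  | zero =>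
    intro l hl Z j _ hj
    have hnil : l = [] := List.eq_nil_of_length_eq_zero hl
    subst hnil
    haveI : IsEmpty Z := ⟨fun z => by
      have hz : j z ∈ j.opensRange := ⟨z, rfl⟩
      rw [hj] at hz
      exact (hz : j z ∈ (⊥ : (Spec (CommRingCat.of R)).Opens)).elim⟩
    exact hvr_empty Z _ _
  | succ n ih =>
    intro l hl Z j _ hj
    obtain ⟨f, l', rfl⟩ : ∃ f l', l = f :: l' := by
      cases l with
      | nil => simp at hl
      | cons f l' => exact ⟨f, l', rfl⟩
    have hl' : l'.length = n := by simpa using hl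
    have hj' : j.opensRange = Da R (Spec (CommRingCat.of R)) f ⊔ UL R (Spec (CommRingCat.of R)) l' :=
      hj
    have hDa : Da R (Spec (CommRingCat.of R)) f ≤ j.opensRange := by rw [hj']; exact le_sup_left
    have hULl : UL R (Spec (CommRingCat.of R)) l' ≤ j.opensRange := by
      rw [hj']; exact le_sup_right
    let U : Z.Opens := j ⁻¹ᵁ (Da R (Spec (CommRingCat.of R)) f)
    let V : Z.Opens := j ⁻¹ᵁ (UL R (Spec (CommRingCat.of R)) l')
    have hUV : U ⊔ V = ⊤ := by
      apply top_le_iff.1
      intro z _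
      have hz : j z ∈ j.opensRange := ⟨z, rfl⟩
      rw [hj'] at hz
      rcases hz with hz | hz
      · exact Or.inl hz
      · exact Or.inr hz
    have hUaff : IsAffineOpen U :=
      IsAffineOpen.preimage_of_isOpenImmersion
        ((isAffineOpen_top (Spec (CommRingCat.of R))).basicOpen _) j hDa
    haveI : IsAffine (U : Scheme.{u}) := hUaff
    have hU : HVr U ((DCoh.restrictD U.ι).obj (OZ Z)) {0} :=
      HVr.of_iso (restrictOZIso U.ι).symm (hvr_affine U)
    have hV : HVr V ((DCoh.restrictD V.ι).obj (OZ Z)) (Set.Ioc (-(n : ℤ)) 0) :=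
      HVr.of_iso (restrictOZIso V.ι).symm
        (ih l' hl' V (V.ι ≫ j) (opensRange_ι_comp j _ hULl))
    have hWrange : ((U ⊓ V).ι ≫ j).opensRange =
        UL R (Spec (CommRingCat.of R)) (l'.map (fun g => f * g)) := by
      have h1 : U ⊓ V = j ⁻¹ᵁ (Da R (Spec (CommRingCat.of R)) f ⊓
          UL R (Spec (CommRingCat.of R)) l') := rfl
      rw [h1, opensRange_ι_comp j _ (inf_le_left.trans hDa), Da_inf_UL]
    have hW : HVr (U ⊓ V : Z.Opens) ((DCoh.restrictD (U ⊓ V).ι).obj (OZ Z))
        (Set.Ioc (-(n : ℤ)) 0) :=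
      HVr.of_iso (restrictOZIso (U ⊓ V).ι).symm
        (ih (l'.map (fun g => f * g)) (by rw [List.length_map]; exact hl') _ _ hWrange)
    refine HVr.mono ?_ (HVr.mv Z U V hUV (OZ Z) _ _ _ hU hV hW)
    intro i hi
    simp only [Set.mem_union, Set.mem_singleton_iff, Set.mem_Ioc, Set.mem_ofPred_eq] at hi ⊢
    push_cast
    rcases hi with (rfl | ⟨h1, h2⟩) | ⟨h1, h2⟩
    · constructor <;> omega
    · constructor <;> omega
    · constructor <;> omega

end Main

end Groth.Agent.Helper9.KZ5
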