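import Mathlib
import Groth.Agent.Helper9.KZ5

/-! A section `O_X ⟶ E` vanishing on `U = D(f₁) ∪ … ∪ D(f_r)` factors through the Koszul object
on `f₁^e, …, f_r^e` for some `e`. -/

set_option autoImplicit false
set_option linter.style.haveILetI false
set_option linter.unusedVariables false
set_option linter.unusedSectionVars false
universe u

namespace Groth.Agent.Helper9.KZ6

open CategoryTheory CategoryTheory.Limits AlgebraicGeometry Opposite TopologicalSpace
  Pretriangulated DerivedCategory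
open Groth.Agent.Helper9.MVP3 Groth.Agent.Helper9.MVP7 Groth.Agent.Helper9.MVP10
  Groth.Agent.Helper9.MVP13 Groth.Agent.Helper9.MVP14 Groth.Agent.Helper9.KZ1
  Groth.Agent.Helper9.KZ2 Groth.Agent.Helper9.KZ3 Groth.Agent.Helper9.KZ4 Groth.Agent.Helper9.KZ5
  Groth.Agent.Lead.PerfLib

attribute [local instance] HasDerivedCategory.standard
attribute [local instance] overSelf

variable (R : CommRingCat.{u}) [PreservesFiniteLimits (tilde.functor R)]

/-- the explicit second map of the Koszul triangle -/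
noncomputable def gK (f : R) (l : List R) : Kt R l ⟶ Kt R (f :: l) :=
  (DCoh.tildeD R).map (Q.map (CochainComplex.mappingCone.inr (f • 𝟙 (Koszul.koszul R l))))

theorem exists_triangle' (f : R) (l : List R) :
    ∃ (h : Kt R (f :: l) ⟶ (Kt R l)⟦(1 : ℤ)⟧),
      Triangle.mk (f • 𝟙 (Kt R l)) (gK R f l) h ∈
        distTriang (DCoh.D (Spec (CommRingCat.of R))) := by
  let φ : Koszul.koszul R l ⟶ Koszul.koszul R l := f • 𝟙 (Koszul.koszul R l)
  let T₀ := Q.mapTriangle.obj (CochainComplex.mappingCone.triangle φ)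
  have hT₀ : T₀ ∈ distTriang (DerivedCategory (ModuleCat.{u} R)) :=
    (DerivedCategory.mem_distTriang_iff T₀).2 ⟨_, _, φ, ⟨Iso.refl _⟩⟩
  have hT₁ := (DCoh.tildeD R).map_distinguished T₀ hT₀
  have e : ((DCoh.tildeD R).mapTriangle.obj T₀).mor₁ = f • 𝟙 (Kt R l) := by
    show (DCoh.tildeD R).map (Q.map (f • 𝟙 (Koszul.koszul R l))) = _
    rw [Functor.map_smul, Functor.map_smul, CategoryTheory.Functor.map_id,
      CategoryTheory.Functor.map_id]
  refine ⟨((DCoh.tildeD R).mapTriangle.obj T₀).mor₃, ?_⟩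
  rw [← e]
  exact hT₁

/-- the canonical map from the structure sheaf to the Koszul object -/
noncomputable def can : ∀ l : List R, OX R ⟶ Kt R l
  | [] => (KtNilIso R).inv
  | f :: l => can l ≫ gK R f l

lemma can_cons (f : R) (l : List R) : can R (f :: l) = can R l ≫ gK R f l := rfl

/-- transition maps between Koszul objects, compatible with the canonical maps -/
theorem exists_trans {l l' : List R} (h : List.Forall₂ (fun a b : R => ∃ c : R, a = c * b) l l') :
    ∃ τ : Kt R l ⟶ Kt R l', can R l ≫ τ = can R l' := by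
  induction h with
  | nil => exact ⟨𝟙 _, Category.comp_id _⟩
  | @cons a b l l' hab hl ih =>
    obtain ⟨c, rfl⟩ := hab
    obtain ⟨τ, hτ⟩ := ih
    obtain ⟨ha, hTa⟩ := exists_triangle' R (c * b) l
    obtain ⟨hb, hTb⟩ := exists_triangle' R b l'
    obtain ⟨τ', hτ'2⟩ : ∃ τ' : Kt R (c * b :: l) ⟶ Kt R (b :: l'),
        gK R (c * b) l ≫ τ' = τ ≫ gK R b l' := by
      obtain ⟨τ', hτ'1, -⟩ := complete_distinguished_triangle_morphism _ _ hTa hTb (c • τ) τ (by
        show ((c * b) • 𝟙 (Kt R l)) ≫ τ = (c • τ) ≫ (b • 𝟙 (Kt R l'))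
        rw [Linear.smul_comp, Category.id_comp, Linear.smul_comp, Linear.comp_smul,
          Category.comp_id, smul_smul])
      exact ⟨τ', hτ'1⟩
    refine ⟨τ', ?_⟩
    rw [can_cons, can_cons, Category.assoc, hτ'2, ← Category.assoc, hτ]

/-- factorization through a Koszul object on powers -/
theorem exists_factor_Kt (l : List R) :
    ∀ (G : DCoh.D (Spec (CommRingCat.of R))), DCoh.IsQCohD G →
      ZeroOn G (UL R (Spec (CommRingCat.of R)) l) → ∀ s' : OX R ⟶ G,
      ∃ (e₀ : ℕ) (l' : List R),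
        List.Forall₂ (fun a b : R => ∃ m : ℕ, m ≤ e₀ ∧ b = a ^ m) l l' ∧
        ∃ ψ : Kt R l' ⟶ G, can R l' ≫ ψ = s' := by
  induction l with
  | nil =>
    intro G hG hz s'
    refine ⟨0, [], List.Forall₂.nil, (KtNilIso R).hom ≫ s', ?_⟩
    show (KtNilIso R).inv ≫ (KtNilIso R).hom ≫ s' = s'
    rw [Iso.inv_hom_id_assoc]
  | cons f l ih =>
    intro G hG hz s'
    have hz1 : ZeroOn G (Da R (Spec (CommRingCat.of R)) f) := hz.mono le_sup_left
    have hz2 : ZeroOn G (UL R (Spec (CommRingCat.of R)) l) := hz.mono le_sup_right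
    obtain ⟨e₀, l', hF, ψ₁, hψ₁⟩ := ih G hG hz2 s'
    obtain ⟨m, hm⟩ := Groth.Agent.Helper9.MVP11.ka_of_isPerfect R f (Spec (CommRingCat.of R))
      (Kt R l') (isPerfect_Kt R l') G hG (suppA_of_zeroOn R f G hz1) ψ₁
    obtain ⟨h, hT⟩ := exists_triangle' R (f ^ m) l'
    obtain ⟨ψ₂, hψ₂⟩ : ∃ ψ₂ : Kt R (f ^ m :: l') ⟶ G, ψ₁ = gK R (f ^ m) l' ≫ ψ₂ :=
      Triangle.yoneda_exact₂ _ hT ψ₁ (by
        show ((f ^ m) • 𝟙 (Kt R l')) ≫ ψ₁ = 0
        rw [Linear.smul_comp, Category.id_comp, hm])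
    refine ⟨max e₀ m, f ^ m :: l', List.Forall₂.cons ⟨m, le_max_right _ _, rfl⟩
      (hF.imp (fun a b ⟨m', hm', hb⟩ => ⟨m', hm'.trans (le_max_left _ _), hb⟩)), ψ₂, ?_⟩
    rw [can_cons, Category.assoc, ← hψ₂, hψ₁]

/-- **S1045** -/
theorem section_factors (fs : List R) (E : DCoh.D (Spec (CommRingCat.of R)))
    (hE : DCoh.IsQCohD E)
    (hU : ∀ i : ℤ, -(fs.length : ℤ) < i → i ≤ 0 →
      IsZero ((DCoh.HD E i).restrict (PU R fs).ι))
    (s : OX R ⟶ E) :
    ∃ (e : ℕ) (ψ : Kt R (fs.map (fun a => a ^ e)) ⟶ E)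
      (t : OX R ⟶ Kt R (fs.map (fun a => a ^ e))), t ≫ ψ = s := by
  haveI : DCoh.HasRpush (PU R fs).ι := Groth.Agent.Helper4.HasRD.hasRpush _
  let adj := Groth.Agent.Helper4.RjSuppGen.dAdj' (PU R fs).ι
  haveI : (DCoh.Rpush (PU R fs).ι).Additive := adj.right_adjoint_additive
  -- Step A: `s` vanishes on `U`
  have hrange : (PU R fs).ι.opensRange = UL R (Spec (CommRingCat.of R)) fs := by
    rw [Scheme.Opens.opensRange_ι, UL_eq_puncturedOpen]
  have hvr := hvr_UL R fs.length fs rfl (PU R fs : Scheme.{u}) (PU R fs).ι hrange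
  have hA : (DCoh.restrictD (PU R fs).ι).map s = 0 := by
    have h1 := hvr ((DCoh.restrictD (PU R fs).ι).obj E)
      (Groth.Agent.Helper9.QP7.isQCohD_restrictD _ E hE) (fun i hi =>
        (hU i hi.1 hi.2).of_iso (Groth.Agent.Helper4.SuppLib.HDRestrictIso (PU R fs).ι E i))
      ((restrictOZIso (PU R fs).ι).inv ≫ (DCoh.restrictD (PU R fs).ι).map s)
    rw [← cancel_epi (restrictOZIso (PU R fs).ι).inv, h1, comp_zero]
  -- Step B
  have hB : s ≫ adj.unit.app E = 0 := by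
    have hnat : s ≫ adj.unit.app E = adj.unit.app (OX R) ≫
        (DCoh.Rpush (PU R fs).ι).map ((DCoh.restrictD (PU R fs).ι).map s) :=
      adj.unit.naturality s
    rw [hnat, hA, Functor.map_zero, comp_zero]
  -- Step C
  obtain ⟨F, ι, δ, hT⟩ := distinguished_cocone_triangle₁ (adj.unit.app E)
  obtain ⟨s', hs'⟩ : ∃ s' : OX R ⟶ F, s = s' ≫ ι := Triangle.coyoneda_exact₂ _ hT s hB
  have hF : DCoh.IsQCohD F :=
    Groth.Agent.Helper4.QcohWSerre.isQCohD_obj₁ _ hT hE (isQCohD_RE R fs E hE)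
  have hz : ZeroOn F (PU R fs) := zeroOn_obj₁ _ hT _
    (Groth.Agent.Helper4.RjSuppGen.isIso_restrict_unit_of_adj (PU R fs).ι adj E)
  have hz' : ZeroOn F (UL R (Spec (CommRingCat.of R)) fs) := by
    rw [UL_eq_puncturedOpen]
    exact hz
  -- Step D
  obtain ⟨e₀, l', hl', ψ', hψ'⟩ := exists_factor_Kt R fs F hF hz' s'
  -- Step E
  have hdiv : List.Forall₂ (fun a b : R => ∃ c : R, a = c * b) (fs.map (fun a => a ^ e₀)) l' := by
    rw [List.forall₂_map_left_iff]
    refine hl'.imp (fun a b ⟨m, hm, hb⟩ => ⟨a ^ (e₀ - m), ?_⟩)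
    rw [hb, ← pow_add, Nat.sub_add_cancel hm]
  obtain ⟨τ, hτ⟩ := exists_trans R hdiv
  refine ⟨e₀, τ ≫ ψ' ≫ ι, can R (fs.map (fun a => a ^ e₀)), ?_⟩
  rw [← Category.assoc, hτ, ← Category.assoc, hψ', hs']

end Groth.Agent.Helper9.KZ6
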