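import Mathlib
import Groth.Agent.Helper9.MVP13
import Groth.Agent.Helper4.SuppLib
import Groth.Agent.Lead.StalkNhd
import Groth.Agent.Lead.PcLib2

/-! Vanishing of cohomology sheaves on an open, along distinguished triangles. -/

set_option autoImplicit false
set_option linter.style.haveILetI false
set_option linter.unusedVariables false
set_option linter.unusedSectionVars false
universe u

namespace Groth.Agent.Helper9.TT2

open CategoryTheory CategoryTheory.Limits AlgebraicGeometry Opposite TopologicalSpace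
  Pretriangulated DerivedCategory
open Groth.Agent.Helper4 Groth.Agent.Helper4.StalkDict Groth.Agent.Helper9.MVP13

attribute [local instance] HasDerivedCategory.standard

variable {X : Scheme.{u}}

/-- `Hⁱ(E)` has vanishing stalks at all points of `V` -/
def VanOn (E : DCoh.D X) (V : X.Opens) (i : ℤ) : Prop :=
  ∀ x ∈ V, x ∉ CohB1.support (DCoh.HD E i)

lemma zeroOn_iff_vanOn (E : DCoh.D X) (V : X.Opens) : ZeroOn E V ↔ ∀ i, VanOn E V i :=
  ⟨fun h i x hx => h i x hx, fun h i x hx => h i x hx⟩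

lemma VanOn.mono {E : DCoh.D X} {V V' : X.Opens} {i : ℤ} (h : VanOn E V i) (hle : V' ≤ V) :
    VanOn E V' i := fun x hx => h x (hle hx)

lemma vanOn_iff (E : DCoh.D X) (V : X.Opens) (i : ℤ) :
    VanOn E V i ↔ IsZero (DCoh.HD ((DCoh.restrictD V.ι).obj E) i) := by
  constructor
  · intro h
    apply SuppLib.isZero_of_support
    rw [SuppLib.support_HD_restrictD]
    ext x
    simp only [Set.mem_preimage, Set.mem_empty_iff_false, iff_false]
    exact h _ x.2
  · intro h x hx hs
    have h2 := SuppLib.support_eq_empty_of_isZero _ h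
    rw [SuppLib.support_HD_restrictD] at h2
    have h3 : (⟨x, hx⟩ : V) ∈ (∅ : Set V) := h2 ▸ (show (⟨x, hx⟩ : V) ∈
      (fun y => V.ι y) ⁻¹' CohB1.support (DCoh.HD E i) from hs)
    exact h3

lemma VanOn.of_iso {E E' : DCoh.D X} (e : E ≅ E') {V : X.Opens} {i : ℤ} (h : VanOn E V i) :
    VanOn E' V i := by
  rw [vanOn_iff] at h ⊢
  exact h.of_iso ((DerivedCategory.homologyFunctor _ i).mapIso
    ((DCoh.restrictD V.ι).mapIso e.symm))

lemma vanOn_of_isZero_HD (E : DCoh.D X) (V : X.Opens) (i : ℤ) (h : IsZero (DCoh.HD E i)) :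
    VanOn E V i := by
  rw [vanOn_iff]
  exact Groth.Agent.Helper9.MVP3.isZero_HD_restrict V.ι E i h

lemma vanOn_shift (E : DCoh.D X) (V : X.Opens) (n i : ℤ) :
    VanOn (E⟦n⟧) V i ↔ VanOn E V (n + i) := by
  have e := Groth.Agent.Helper9.Amp1.homologyShiftIso E n i
  constructor
  · intro h x hx hs
    refine h x hx ?_
    intro hsub
    apply hs
    exact (Groth.Agent.Helper9.MVP10.subsingleton_stalk_of_iso e x hsub)
  · intro h x hx hs
    refine h x hx ?_
    intro hsub
    apply hs
    exact (Groth.Agent.Helper9.MVP10.subsingleton_stalk_of_iso e.symm x hsub)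

section Tri

variable (T : Triangle (DCoh.D X)) (hT : T ∈ distTriang (DCoh.D X)) (V : X.Opens)
include hT

lemma vanOn_obj₂ (i : ℤ) (h₁ : VanOn T.obj₁ V i) (h₃ : VanOn T.obj₃ V i) : VanOn T.obj₂ V i := by
  rw [vanOn_iff] at h₁ h₃ ⊢
  have hT' := (DCoh.restrictD V.ι).map_distinguished T hT
  exact (HomologySequence.exact₂ _ hT' i).isZero_of_both_isZero h₁ h₃

lemma vanOn_obj₃ (i j : ℤ) (hij : i + 1 = j) (h₂ : VanOn T.obj₂ V i) (h₁ : VanOn T.obj₁ V j) :
    VanOn T.obj₃ V i := by
  rw [vanOn_iff] at h₁ h₂ ⊢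
  have hT' := (DCoh.restrictD V.ι).map_distinguished T hT
  exact (HomologySequence.exact₃ _ hT' i j hij).isZero_of_both_isZero h₂ h₁

lemma vanOn_obj₁ (i j : ℤ) (hij : i + 1 = j) (h₃ : VanOn T.obj₃ V i) (h₂ : VanOn T.obj₂ V j) :
    VanOn T.obj₁ V j := by
  rw [vanOn_iff] at h₃ h₂ ⊢
  have hT' := (DCoh.restrictD V.ι).map_distinguished T hT
  exact (HomologySequence.exact₁ _ hT' i j hij).isZero_of_both_isZero h₃ h₂

/-- if `Hᵇ(T.mor₁)` is surjective on stalks over `V` and `Hᵇ⁺¹(T.obj₁)` vanishes on `V`, then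
`Hᵇ(T.obj₃)` vanishes on `V` -/
lemma vanOn_obj₃_of_surjective (b b' : ℤ) (hb : b + 1 = b') (h₁ : VanOn T.obj₁ V b')
    (hs : ∀ x ∈ V, Function.Surjective
      (stalkLin ((DerivedCategory.homologyFunctor X.Modules b).map T.mor₁) x)) :
    VanOn T.obj₃ V b := by
  rw [vanOn_iff] at h₁ ⊢
  have hT' := (DCoh.restrictD V.ι).map_distinguished T hT
  let ν := Groth.Agent.Lead.PcLib.mapDerivedCategoryHomologyIso
    (Scheme.Modules.restrictFunctor V.ι) b
  have hepi0 : Epi ((Scheme.Modules.restrictFunctor V.ι).map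
      ((DerivedCategory.homologyFunctor X.Modules b).map T.mor₁)) := by
    apply QcohLocal.epi_of_stalkLin_surjective
    intro z
    exact Groth.Agent.Lead.StalkNhd.stalkLin_restrict_surjective _ V z (hs _ z.2)
  have hepi : Epi ((DerivedCategory.homologyFunctor _ b).map
      ((DCoh.restrictD V.ι).map T.mor₁)) := by
    have hnat := ν.hom.naturality T.mor₁
    have e : (DerivedCategory.homologyFunctor _ b).map ((DCoh.restrictD V.ι).map T.mor₁) =
        ν.hom.app T.obj₁ ≫ (Scheme.Modules.restrictFunctor V.ι).map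
          ((DerivedCategory.homologyFunctor X.Modules b).map T.mor₁) ≫ ν.inv.app T.obj₂ := by
      rw [← Category.assoc, ← cancel_mono (ν.hom.app T.obj₂), Category.assoc,
        Iso.inv_hom_id_app]
      exact hnat.trans (Category.comp_id _).symm
    rw [e]
    infer_instance
  have h0 := (HomologySequence.epi_homologyMap_mor₁_iff _ hT' b).1 hepi
  have ex3 := HomologySequence.exact₃ _ hT' b b' hb
  exact ex3.isZero_X₂ h0 (h₁.eq_of_tgt _ _)

end Tri

end Groth.Agent.Helper9.TT2
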