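import Mathlib
import Groth.Agent.Helper9.KZ6
import Groth.Agent.Helper9.TT2
import Groth.Agent.Helper9.QP3

/-! A global section of `Hᵇ(E)` is hit, on stalks, by a map from a shifted Koszul object. -/

set_option autoImplicit false
set_option linter.style.haveILetI false
set_option linter.unusedVariables false
set_option linter.unusedSectionVars false
universe u

namespace Groth.Agent.Helper9.TT3

open CategoryTheory CategoryTheory.Limits AlgebraicGeometry Opposite TopologicalSpace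
  Pretriangulated DerivedCategory
open Groth.Agent.Helper4 Groth.Agent.Helper4.StalkDict Groth.Agent.Helper9.MVP13
  Groth.Agent.Helper9.KZ2 Groth.Agent.Helper9.KZ4 Groth.Agent.Helper9.TT2
  Groth.Agent.Helper9.LCAff1 Groth.Agent.Helper9.QP2 Groth.Agent.Helper9.LC3

attribute [local instance] HasDerivedCategory.standard
attribute [local instance] Groth.Agent.Helper9.KZ1.overSelf

variable (R : CommRingCat.{u}) [PreservesFiniteLimits (tilde.functor R)]

theorem section_lemma (fs : List R) (E : DCoh.D (Spec (CommRingCat.of R)))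
    (hE : DCoh.IsQCohD E) (b : ℤ)
    (hsupp : ∀ i : ℤ, b - (fs.length : ℤ) < i → i ≤ b → VanOn E (PU R fs) i)
    (m : Γ(DCoh.HD E b, ⊤)) :
    ∃ (e : ℕ) (ψ : (Kt R (fs.map (fun a => a ^ e)))⟦-b⟧ ⟶ E), ∀ x,
      (DCoh.HD E b).presheaf.germ ⊤ x trivial m ∈
        LinearMap.range (stalkLin ((DerivedCategory.homologyFunctor _ b).map ψ) x) := by
  let X := Spec (CommRingCat.of R)
  obtain ⟨ψm, hψm⟩ := (Groth.Agent.Helper9.QP3.kk_bijective b E hE
    (⊤ : X.Opens) (isAffineOpen_top _)).2 m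
  let A : DCoh.D X := W (GU (⊤ : X.Opens)) b
  let θ : OX R ≅ A⟦b⟧ :=
    (singleFunctor X.Modules 0).mapIso (Groth.Agent.Helper9.LCUnit1.unitIsoGU X) ≪≫
      (wShift (GU (⊤ : X.Opens)) b 0 b (by simp)).symm
  let s : OX R ⟶ E⟦b⟧ := θ.hom ≫ ψm⟦b⟧'
  have hU : ∀ i : ℤ, -(fs.length : ℤ) < i → i ≤ 0 →
      IsZero ((DCoh.HD (E⟦b⟧) i).restrict (PU R fs).ι) := by
    intro i hi hi'
    have h1 : VanOn (E⟦b⟧) (PU R fs) i :=
      (vanOn_shift E (PU R fs) b i).2 (hsupp (b + i) (by omega) (by omega))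
    apply Groth.Agent.Lead.StalkNhd.isZero_restrict_of_subsingleton_stalks
    intro x hx
    exact not_not.1 (h1 x hx)
  obtain ⟨e, ψ, t, hts⟩ := Groth.Agent.Helper9.KZ6.section_factors R fs (E⟦b⟧)
    (Groth.Agent.Helper9.MVP3.isQCohD_shift E hE b) hU s
  let η := shiftFunctorCompIsoId (DCoh.D X) b (-b) (add_neg_cancel b)
  let ψ' : (Kt R (fs.map (fun a => a ^ e)))⟦-b⟧ ⟶ E := ψ⟦-b⟧' ≫ η.hom.app E
  let τ : A ⟶ (Kt R (fs.map (fun a => a ^ e)))⟦-b⟧ := η.inv.app A ≫ (θ.inv ≫ t)⟦-b⟧'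
  have hfac : ψm = τ ≫ ψ' := by
    have h1 : (θ.inv ≫ t) ≫ ψ = ψm⟦b⟧' := by
      rw [Category.assoc, hts]
      show θ.inv ≫ θ.hom ≫ ψm⟦b⟧' = _
      rw [Iso.inv_hom_id_assoc]
    have h2 : (ψm⟦b⟧')⟦-b⟧' ≫ η.hom.app E = η.hom.app A ≫ ψm := η.hom.naturality ψm
    show ψm = (η.inv.app A ≫ (θ.inv ≫ t)⟦-b⟧') ≫ ψ⟦-b⟧' ≫ η.hom.app E
    rw [Category.assoc, ← Category.assoc ((θ.inv ≫ t)⟦-b⟧'), ← Functor.map_comp, h1, h2,
      Iso.inv_hom_id_app_assoc]
  refine ⟨e, ψ', fun x => ?_⟩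
  have hm : m = ((DerivedCategory.homologyFunctor X.Modules b).map ψ').app ⊤
      (sec ⊤ _ ((Groth.Agent.Helper9.QP3.σ b (GU (⊤ : X.Opens))).hom ≫
        (DerivedCategory.homologyFunctor X.Modules b).map τ)) := by
    rw [← hψm]
    unfold Groth.Agent.Helper9.QP3.kk
    rw [hfac, Functor.map_comp, ← Category.assoc, sec_comp]
  refine ⟨((DerivedCategory.homologyFunctor X.Modules b).obj
    ((Kt R (fs.map (fun a => a ^ e)))⟦-b⟧)).presheaf.germ ⊤ x trivial
      (sec ⊤ _ ((Groth.Agent.Helper9.QP3.σ b (GU (⊤ : X.Opens))).hom ≫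
        (DerivedCategory.homologyFunctor X.Modules b).map τ)), ?_⟩
  rw [hm]
  exact StalkExact.stalkLin_germ _ x ⊤ trivial _

end Groth.Agent.Helper9.TT3
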