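import Mathlib
import Groth.Agent.Helper9.TT1
import Groth.Agent.Helper9.TT3
import Groth.Agent.Lead.PerfLib7

/-! Finitely many global sections of `Hᵇ(E)` are hit, on stalks, by a single map from a perfect
object supported on `V(fs)` and bounded above by `b`. -/

set_option autoImplicit false
set_option linter.style.haveILetI false
set_option linter.unusedVariables false
set_option linter.unusedSectionVars false
universe u

namespace Groth.Agent.Helper9.TT4

open CategoryTheory CategoryTheory.Limits AlgebraicGeometry Opposite TopologicalSpace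
  Pretriangulated DerivedCategory ZeroObject
open Groth.Agent.Helper4 Groth.Agent.Helper4.StalkDict Groth.Agent.Helper9.MVP13
  Groth.Agent.Helper9.KZ2 Groth.Agent.Helper9.KZ4 Groth.Agent.Helper9.TT2
  Groth.Agent.Helper9.TT1 Groth.Agent.Lead.PerfLib

attribute [local instance] HasDerivedCategory.standard
attribute [local instance] Groth.Agent.Helper9.KZ1.overSelf

theorem isPerfect_of_isZero {X : Scheme.{u}} {K : DCoh.D X} (hK : IsZero K) :
    DCoh.IsPerfect K := by
  have h0 : IsZero (DCoh.inD X (0 : X.Modules)) :=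
    (DerivedCategory.singleFunctor X.Modules 0).map_isZero (isZero_zero _)
  exact isPerfect_of_iso (h0.iso hK)
    (isPerfect_inD_of_isFinLocFree _ (isFinLocFree_of_isZero (isZero_zero _)))

variable (R : CommRingCat.{u}) [PreservesFiniteLimits (tilde.functor R)]
variable (fs : List R) (b : ℤ)

/-- perfect, supported on `V(fs)`, bounded above by `b` -/
structure Good (P : DCoh.D (Spec (CommRingCat.of R))) : Prop where
  perf : DCoh.IsPerfect P
  zero : ZeroOn P (PU R fs)
  le : ∀ i : ℤ, b < i → IsZero (DCoh.HD P i)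

lemma good_of_isZero {P : DCoh.D (Spec (CommRingCat.of R))} (h : IsZero P) : Good R fs b P where
  perf := isPerfect_of_isZero h
  zero := by
    rw [zeroOn_iff]
    exact Functor.map_isZero _ h
  le := fun i _ => Functor.map_isZero _ h

lemma PU_le_pow (e : ℕ) : PU R fs ≤ PU R (fs.map (fun a => a ^ e)) := by
  intro x hx
  have h1 : ∃ a ∈ {a | a ∈ fs}, a ∉ (x : PrimeSpectrum R).asIdeal :=
    (Groth.Agent.Helper9.KZ1.mem_compl_zeroLocus_span R {a | a ∈ fs} x).1 hx
  obtain ⟨a, ha, hax⟩ := h1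
  refine (Groth.Agent.Helper9.KZ1.mem_compl_zeroLocus_span R
    {a | a ∈ fs.map (fun a => a ^ e)} x).2 ⟨a ^ e, ?_, ?_⟩
  · exact List.mem_map.2 ⟨a, ha, rfl⟩
  · intro h
    exact hax ((x : PrimeSpectrum R).isPrime.mem_of_pow_mem e h)

lemma good_Kt (e : ℕ) : Good R fs b ((Kt R (fs.map (fun a => a ^ e)))⟦-b⟧) where
  perf := isPerfect_shift (isPerfect_Kt R _) (-b)
  zero := (Groth.Agent.Helper9.KZ3.zeroOn_shift (zeroOn_Kt_PU R _) (-b)).mono (PU_le_pow R fs e)
  le := fun i hi =>
    Groth.Agent.Helper9.MVP5.isZero_HD_shift_of_isLE (Kt R (fs.map (fun a => a ^ e))) 0 (-b) i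
      (by omega)

lemma good_obj₂ (T : Triangle (DCoh.D (Spec (CommRingCat.of R))))
    (hT : T ∈ distTriang (DCoh.D (Spec (CommRingCat.of R))))
    (h₁ : Good R fs b T.obj₁) (h₃ : Good R fs b T.obj₃) : Good R fs b T.obj₂ where
  perf := (isPerfect_two_out_of_three T hT).2.1 h₁.perf h₃.perf
  zero := by
    rw [zeroOn_iff_vanOn]
    intro i
    exact vanOn_obj₂ T hT _ i ((zeroOn_iff_vanOn _ _).1 h₁.zero i) ((zeroOn_iff_vanOn _ _).1 h₃.zero i)
  le := fun i hi =>
    (HomologySequence.exact₂ _ hT i).isZero_of_both_isZero (h₁.le i hi) (h₃.le i hi)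

lemma good_biprod (P Q : DCoh.D (Spec (CommRingCat.of R))) (hP : Good R fs b P)
    (hQ : Good R fs b Q) : Good R fs b (P ⊞ Q) :=
  good_obj₂ R fs b (binaryBiproductTriangle P Q) (binaryBiproductTriangle_distinguished P Q) hP hQ

theorem exists_good_map (E : DCoh.D (Spec (CommRingCat.of R))) (hE : DCoh.IsQCohD E)
    (hsupp : ∀ i : ℤ, b - (fs.length : ℤ) < i → i ≤ b → VanOn E (PU R fs) i)
    (l : List Γ(DCoh.HD E b, ⊤)) :
    ∃ (P : DCoh.D (Spec (CommRingCat.of R))) (ψ : P ⟶ E), Good R fs b P ∧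
      ∀ x, gspan (DCoh.HD E b) l x ≤
        LinearMap.range (stalkLin ((DerivedCategory.homologyFunctor _ b).map ψ) x) := by
  induction l with
  | nil =>
    refine ⟨0, 0, good_of_isZero R fs b (isZero_zero _), fun x => ?_⟩
    apply Submodule.span_le.2
    rintro z ⟨m, hm, -⟩
    exact (List.not_mem_nil hm).elim
  | cons m l ih =>
    obtain ⟨P, ψ, hP, hψ⟩ := ih
    obtain ⟨e, ψm, hψm⟩ := Groth.Agent.Helper9.TT3.section_lemma R fs E hE b hsupp m
    refine ⟨(Kt R (fs.map (fun a => a ^ e)))⟦-b⟧ ⊞ P, biprod.desc ψm ψ,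
      good_biprod R fs b _ _ (good_Kt R fs b e) hP, fun x => ?_⟩
    have hr1 : LinearMap.range (stalkLin ((DerivedCategory.homologyFunctor _ b).map ψm) x) ≤
        LinearMap.range (stalkLin ((DerivedCategory.homologyFunctor _ b).map
          (biprod.desc ψm ψ)) x) := by
      rintro z ⟨y, rfl⟩
      refine ⟨stalkLin ((DerivedCategory.homologyFunctor _ b).map biprod.inl) x y, ?_⟩
      rw [← Groth.Agent.Lead.StalkNhd.stalkLin_comp, ← Functor.map_comp, biprod.inl_desc]
    have hr2 : LinearMap.range (stalkLin ((DerivedCategory.homologyFunctor _ b).map ψ) x) ≤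
        LinearMap.range (stalkLin ((DerivedCategory.homologyFunctor _ b).map
          (biprod.desc ψm ψ)) x) := by
      rintro z ⟨y, rfl⟩
      refine ⟨stalkLin ((DerivedCategory.homologyFunctor _ b).map biprod.inr) x y, ?_⟩
      rw [← Groth.Agent.Lead.StalkNhd.stalkLin_comp, ← Functor.map_comp, biprod.inr_desc]
    apply Submodule.span_le.2
    rintro z ⟨m', hm', rfl⟩
    rcases List.mem_cons.1 hm' with rfl | hm''
    · exact hr1 (hψm x)
    · refine hr2 (hψ x ?_)
      apply Submodule.subset_span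
      exact ⟨m', hm'', rfl⟩

end Groth.Agent.Helper9.TT4
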