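import Mathlib
import Groth.Agent.Helper9.TT4
import Groth.Agent.Helper9.TP4
import Groth.Agent.Helper9.MVP12
import Groth.Agent.Helper4.QcohWSerre
import Groth.Agent.Lead.PerfLib9
import Groth.Agent.Lead.PcLib9

/-! Approximation by perfect complexes on `Spec R`, relative to a quasi-compact open `W`
(Thomason–Trobaugh style induction on the amplitude). -/

set_option autoImplicit false
set_option linter.style.haveILetI false
set_option linter.unusedVariables false
set_option linter.unusedSectionVars false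
universe u

namespace Groth.Agent.Helper9.TT5

open CategoryTheory CategoryTheory.Limits AlgebraicGeometry Opposite TopologicalSpace
  Pretriangulated DerivedCategory ZeroObject
open Groth.Agent.Helper4 Groth.Agent.Helper4.StalkDict Groth.Agent.Helper9.MVP13
  Groth.Agent.Helper9.KZ2 Groth.Agent.Helper9.KZ4 Groth.Agent.Helper9.TT2
  Groth.Agent.Helper9.TT1 Groth.Agent.Helper9.TT4 Groth.Agent.Lead.PerfLib
  Groth.Agent.Lead.PcLib

attribute [local instance] HasDerivedCategory.standard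
attribute [local instance] Groth.Agent.Helper9.KZ1.overSelf

/-- perfect objects are pseudo-coherent -/
theorem isPseudoCoherentD_of_isPerfect {X : Scheme.{u}} (K : DCoh.D X) (hK : DCoh.IsPerfect K)
    (m : ℤ) : DCoh.IsPseudoCoherentD m K := by
  let F₀ : CochainComplex X.Modules ℤ := Q.objPreimage K
  let e₀ : Q.obj F₀ ≅ K := Q.objObjPreimageIso K
  have hloc := (isPerfect_iff_locSP K F₀ e₀).1 hK
  refine (isPseudoCoherentD_iff_locPC m K F₀ e₀).2 (fun x => ?_)
  obtain ⟨Z, j, hj, hx, E, hE, ⟨ψ⟩⟩ := hloc x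
  exact ⟨Z, j, hj, hx, E, ψ.inv, hE, IsQisAbove.of_isIso m _⟩

variable (R : CommRingCat.{u}) [PreservesFiniteLimits (tilde.functor R)]

theorem approx (fs : List R) (W : (Spec (CommRingCat.of R)).Opens)
    (hW : IsCompact (W : Set (Spec (CommRingCat.of R)))) (m : ℤ) :
    ∀ (n : ℕ) (b : ℤ), b - m < n → ∀ (E : DCoh.D (Spec (CommRingCat.of R))), DCoh.IsQCohD E →
      DCoh.IsPseudoCoherentD m ((DCoh.restrictD W.ι).obj E) →
      (∀ i : ℤ, b < i → VanOn E W i) →
      (∀ i : ℤ, m - (fs.length : ℤ) < i → VanOn E (PU R fs) i) →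
      ∃ (P Q' : DCoh.D (Spec (CommRingCat.of R))) (α : P ⟶ E) (g : E ⟶ Q')
        (h : Q' ⟶ P⟦(1 : ℤ)⟧), Triangle.mk α g h ∈ distTriang _ ∧
        DCoh.IsPerfect P ∧ ZeroOn P (PU R fs) ∧ ∀ i : ℤ, m ≤ i → VanOn Q' W i := by
  have base : ∀ (b : ℤ), b < m → ∀ (E : DCoh.D (Spec (CommRingCat.of R))),
      (∀ i : ℤ, b < i → VanOn E W i) →
      ∃ (P Q' : DCoh.D (Spec (CommRingCat.of R))) (α : P ⟶ E) (g : E ⟶ Q')
        (h : Q' ⟶ P⟦(1 : ℤ)⟧), Triangle.mk α g h ∈ distTriang _ ∧
        DCoh.IsPerfect P ∧ ZeroOn P (PU R fs) ∧ ∀ i : ℤ, m ≤ i → VanOn Q' W i := by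
    intro b hb E hvan
    refine ⟨0, E, 0, 𝟙 E, 0, contractible_distinguished₁ E, isPerfect_of_isZero (isZero_zero _),
      ?_, fun i hi => hvan i (by omega)⟩
    rw [zeroOn_iff]
    exact Functor.map_isZero _ (isZero_zero _)
  intro n
  induction n with
  | zero =>
    intro b hb E _ _ hvan _
    exact base b (by simpa using hb) E hvan
  | succ n ih =>
    intro b hb E hE hpc hvan hsupp
    by_cases hbm : b < m
    · exact base b hbm E hvan
    have hmb : m ≤ b := not_lt.1 hbm
    let X := Spec (CommRingCat.of R)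
    -- finite type of the top cohomology on `W`
    have hpcb : DCoh.IsPseudoCoherentD b ((DCoh.restrictD W.ι).obj E) :=
      isPseudoCoherentD_mono hmb hpc
    have hFT0 : CohB1.IsFT (DCoh.HD ((DCoh.restrictD W.ι).obj E) b) :=
      (finiteType_top_cohomology_of_pseudoCoherent b _ hpcb).1
        (fun i hi => (vanOn_iff E W i).1 (hvan i hi))
    haveI : (DCoh.HD E b).IsQuasicoherent := hE b
    have hFT : SheafOfModules.IsFiniteType (R := (W : Scheme.{u}).ringCatSheaf)
        ((DCoh.HD E b).restrict W.ι) := by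
      haveI := hFT0
      exact FTRestrict.SoM.isFiniteType_of_iso (R := (W : Scheme.{u}).ringCatSheaf)
        (SuppLib.HDRestrictIso W.ι E b)
    obtain ⟨l, hl⟩ := exists_list (X := X) (DCoh.HD E b) W hW hFT
    obtain ⟨P₁, ψ, hP₁, hψ⟩ := exists_good_map R fs b E hE
      (fun i hi _ => hsupp i (by omega)) l
    obtain ⟨C, g₁, h₁, hT₁⟩ := distinguished_cocone_triangle ψ
    have hCq : DCoh.IsQCohD C := QcohWSerre.isQCohD_obj₃ _ hT₁
      (Groth.Agent.Helper9.TP4.isQCohD_of_isPerfect P₁ hP₁.perf) hE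
    have hCpc : DCoh.IsPseudoCoherentD m ((DCoh.restrictD W.ι).obj C) :=
      isPseudoCoherentD_obj₃ m _ ((DCoh.restrictD W.ι).map_distinguished _ hT₁)
        (isPseudoCoherentD_of_isPerfect _
          (Groth.Agent.Helper9.MVP12.isPerfect_restrictD W.ι P₁ hP₁.perf) (m + 1)) hpc
    have hCvan : ∀ i : ℤ, b - 1 < i → VanOn C W i := by
      intro i hi
      by_cases hib : i = b
      · subst hib
        refine vanOn_obj₃_of_surjective _ hT₁ W i (i + 1) rfl
          (vanOn_of_isZero_HD P₁ W (i + 1) (hP₁.le (i + 1) (by omega))) (fun x hx => ?_)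
        rw [← LinearMap.range_eq_top, eq_top_iff]
        exact (hl x hx).symm.le.trans (hψ x)
      · exact vanOn_obj₃ _ hT₁ W i (i + 1) rfl (hvan i (by omega))
          (vanOn_of_isZero_HD P₁ W (i + 1) (hP₁.le (i + 1) (by omega)))
    have hCsupp : ∀ i : ℤ, m - (fs.length : ℤ) < i → VanOn C (PU R fs) i := by
      intro i hi
      exact vanOn_obj₃ _ hT₁ (PU R fs) i (i + 1) rfl (hsupp i hi)
        ((zeroOn_iff_vanOn _ _).1 hP₁.zero (i + 1))
    obtain ⟨P', Q', α', g', h', hT', hP', hzP', hQ'⟩ :=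
      ih (b - 1) (by push_cast at hb; omega) C hCq hCpc hCvan hCsupp
    obtain ⟨P, α, h, hT⟩ := distinguished_cocone_triangle₁ (g₁ ≫ g')
    have oct := Triangulated.someOctahedron' rfl hT₁ hT' hT
    refine ⟨P, Q', α, g₁ ≫ g', h, hT, ?_, ?_, hQ'⟩
    · exact (isPerfect_two_out_of_three _ oct.mem).2.1 hP₁.perf hP'
    · rw [zeroOn_iff_vanOn]
      intro i
      exact vanOn_obj₂ _ oct.mem _ i ((zeroOn_iff_vanOn _ _).1 hP₁.zero i)
        ((zeroOn_iff_vanOn _ _).1 hzP' i)

end Groth.Agent.Helper9.TT5
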