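import Mathlib
import Groth.Agent.Helper9.TT5
import Groth.Agent.Helper9.ClImm3

/-! Restriction toolkit for `D(O_X)` and the approximation lemma on `Spec R` with the bound
on the amplitude removed. -/

set_option autoImplicit false
set_option linter.style.haveILetI false
set_option linter.unusedVariables false
set_option linter.unusedSectionVars false
universe u

namespace Groth.Agent.Helper9.TT6

open CategoryTheory CategoryTheory.Limits AlgebraicGeometry Opposite TopologicalSpace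
  Pretriangulated DerivedCategory ZeroObject
open Groth.Agent.Helper4 Groth.Agent.Helper9.MVP13
  Groth.Agent.Helper9.KZ2 Groth.Agent.Helper9.KZ4 Groth.Agent.Helper9.TT2
  Groth.Agent.Lead.PerfLib Groth.Agent.Lead.PcLib Scheme.Modules

attribute [local instance] HasDerivedCategory.standard
attribute [local instance] Groth.Agent.Helper9.KZ1.overSelf

/-- pseudo-coherence restricts to open subschemes -/
theorem isPseudoCoherentD_restrictD {X Z : Scheme.{u}} (j : Z ⟶ X) [IsOpenImmersion j]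
    (m : ℤ) (K : DCoh.D X) (hK : DCoh.IsPseudoCoherentD m K) :
    DCoh.IsPseudoCoherentD m ((DCoh.restrictD j).obj K) := by
  let F₀ : CochainComplex X.Modules ℤ := Q.objPreimage K
  let e₀ : Q.obj F₀ ≅ K := Q.objObjPreimageIso K
  have hloc := (isPseudoCoherentD_iff_locPC m K F₀ e₀).1 hK
  let e₁ : Q.obj ((Rc j).obj F₀) ≅ (DCoh.restrictD j).obj K :=
    ((restrictFunctor j).mapDerivedCategoryFactors.app F₀).symm ≪≫ (DCoh.restrictD j).mapIso e₀
  refine (isPseudoCoherentD_iff_locPC m _ ((Rc j).obj F₀) e₁).2 (fun z => ?_)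
  obtain ⟨Z₁, j₁, hj₁, ⟨z₁, hz₁⟩, E₁, α₁, hE₁, hα₁⟩ := hloc (j z)
  haveI := hj₁
  obtain ⟨p, hp1, hp2⟩ := Scheme.Pullback.exists_preimage_pullback z z₁ hz₁.symm
  obtain ⟨E', α', hE', hα'⟩ := LocPC.data_restrict j₁ (pullback.snd j j₁)
    (pullback.fst j j₁ ≫ j) pullback.condition α₁ hE₁ hα₁
  refine ⟨pullback j j₁, pullback.fst j j₁, inferInstance, ⟨p, hp1⟩, E',
    α' ≫ (Q.mapIso (rcCompIso j (pullback.fst j j₁) (pullback.fst j j₁ ≫ j) rfl F₀)).hom, hE',
    hα'.comp (IsQisAbove.of_isIso m _)⟩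

/-- transitivity of restriction, on objects of the derived category -/
theorem nonempty_restrictD_comp_iso {X Z Z' : Scheme.{u}} (j : Z ⟶ X) [IsOpenImmersion j]
    (k : Z' ⟶ Z) [IsOpenImmersion k] (j' : Z' ⟶ X) [IsOpenImmersion j'] (h : j' = k ≫ j)
    (E : DCoh.D X) :
    Nonempty ((DCoh.restrictD k).obj ((DCoh.restrictD j).obj E) ≅ (DCoh.restrictD j').obj E) := by
  let F₀ : CochainComplex X.Modules ℤ := Q.objPreimage E
  let e₀ : Q.obj F₀ ≅ E := Q.objObjPreimageIso E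
  exact ⟨(DCoh.restrictD k).mapIso ((DCoh.restrictD j).mapIso e₀.symm) ≪≫
    (DCoh.restrictD k).mapIso ((restrictFunctor j).mapDerivedCategoryFactors.app F₀) ≪≫
    (restrictFunctor k).mapDerivedCategoryFactors.app ((Rc j).obj F₀) ≪≫
    Q.mapIso (rcCompIso j k j' h F₀).symm ≪≫
    ((restrictFunctor j').mapDerivedCategoryFactors.app F₀).symm ≪≫
    (DCoh.restrictD j').mapIso e₀⟩

/-- restriction along the identity -/
theorem nonempty_restrictD_id_iso {X : Scheme.{u}} (E : DCoh.D X) :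
    Nonempty ((DCoh.restrictD (𝟙 X)).obj E ≅ E) := by
  let F₀ : CochainComplex X.Modules ℤ := Q.objPreimage E
  let e₀ : Q.obj F₀ ≅ E := Q.objObjPreimageIso E
  let κ : (Rc (𝟙 X)).obj F₀ ≅ F₀ :=
    (NatIso.mapHomologicalComplex (restrictFunctorId (X := X)) (ComplexShape.up ℤ)).app F₀ ≪≫
      (Functor.mapHomologicalComplexIdIso X.Modules (ComplexShape.up ℤ)).app F₀
  exact ⟨(DCoh.restrictD (𝟙 X)).mapIso e₀.symm ≪≫
    (restrictFunctor (𝟙 X)).mapDerivedCategoryFactors.app F₀ ≪≫ Q.mapIso κ ≪≫ e₀⟩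

/-- restriction along an isomorphism and its inverse -/
theorem nonempty_restrictD_hom_inv_iso {X Y : Scheme.{u}} (e : X ≅ Y) (E : DCoh.D X) :
    Nonempty ((DCoh.restrictD e.hom).obj ((DCoh.restrictD e.inv).obj E) ≅ E) := by
  obtain ⟨ι₁⟩ := nonempty_restrictD_comp_iso e.inv e.hom (𝟙 X) e.hom_inv_id.symm E
  obtain ⟨ι₂⟩ := nonempty_restrictD_id_iso E
  exact ⟨ι₁ ≪≫ ι₂⟩

variable (R : CommRingCat.{u}) [PreservesFiniteLimits (tilde.functor R)]

/-- the approximation lemma on `Spec R` -/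
theorem approx' (fs : List R) (W : (Spec (CommRingCat.of R)).Opens)
    (hW : IsCompact (W : Set (Spec (CommRingCat.of R)))) (m : ℤ)
    (E : DCoh.D (Spec (CommRingCat.of R))) (hE : DCoh.IsQCohD E)
    (hpc : DCoh.IsPseudoCoherentD m ((DCoh.restrictD W.ι).obj E))
    (hsupp : ∀ i : ℤ, m - (fs.length : ℤ) < i → VanOn E (PU R fs) i) :
    ∃ (P Q' : DCoh.D (Spec (CommRingCat.of R))) (α : P ⟶ E) (g : E ⟶ Q')
      (h : Q' ⟶ P⟦(1 : ℤ)⟧), Triangle.mk α g h ∈ distTriang _ ∧
      DCoh.IsPerfect P ∧ ZeroOn P (PU R fs) ∧ ∀ i : ℤ, m ≤ i → VanOn Q' W i := by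
  haveI : CompactSpace (W : Scheme.{u}) := isCompact_iff_compactSpace.1 hW
  obtain ⟨b, hb⟩ := Groth.Agent.Helper9.ClImm3.exists_isLE_of_isPseudoCoherentD _ m hpc
  have hvan : ∀ i : ℤ, b < i → VanOn E W i := by
    intro i hi
    rw [vanOn_iff]
    exact DerivedCategory.isZero_of_isLE _ b i hi
  exact Groth.Agent.Helper9.TT5.approx R fs W hW m (b - m + 1).toNat b (by omega) E hE hpc hvan
    hsupp

end Groth.Agent.Helper9.TT6
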