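import Mathlib
import Groth.Prelude.Def_DualSh
import Groth.Prelude.Def_DerSch2
import Groth.Agent.Helper9.CI1
import Groth.Agent.Helper9.ClImmPF2
import Groth.Agent.Helper9.TT6
import Groth.Agent.Helper4.OpenBC

/-! Closed immersions: restriction of the direct image to opens of the target, the direct image
of a free module, vanishing away from the image. -/

set_option autoImplicit false
set_option linter.style.haveILetI false
set_option linter.unusedVariables false
set_option linter.unusedSectionVars false
universe u

namespace Groth.Agent.Helper9.CI2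

noncomputable section

open CategoryTheory CategoryTheory.Limits AlgebraicGeometry HomologicalComplex Pretriangulated
open Groth.Agent.Lead.PcLib Groth.Agent.Lead.PerfLib Groth.Agent.Helper9.CI1
  Groth.Agent.Helper9.ClImm1 Groth.Agent.Helper9.ClImmPF2 Scheme.Modules ZeroObject

attribute [local instance] HasDerivedCategory.standard

variable {Z X : Scheme.{u}} (i : Z ⟶ X) [IsClosedImmersion i]

/-- every open of the source of a closed immersion is the preimage of an open of the target -/
lemma exists_preimage_eq (W : Z.Opens) : ∃ V : X.Opens, i ⁻¹ᵁ V = W := by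
  obtain ⟨t, ht, hW⟩ := (i.isEmbedding.isInducing.isOpen_iff).1 W.isOpen
  exact ⟨⟨t, ht⟩, TopologicalSpace.Opens.ext hW⟩

/-- the hypothesis that the direct image of the structure sheaf is pseudo-coherent -/
def HO : Prop := pcAll (DCoh.inD X ((pushforward i).obj (Coh.structureModule Z)))

/-- restriction of the termwise direct image to an open of the target -/
def rcPushIso (V : X.Opens) (F : CochainComplex Z.Modules ℤ) :
    (Rc V.ι).obj ((DerSch.pushCx i).obj F) ≅
      (DerSch.pushCx (i ∣_ V)).obj ((Rc (i ⁻¹ᵁ V).ι).obj F) :=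
  (NatIso.mapHomologicalComplex (Groth.Agent.Helper4.OpenBC.iso i V) (ComplexShape.up ℤ)).app F

/-- restriction of the image in the derived category of a module -/
def restrictDInD {Y : Scheme.{u}} (V : Y.Opens) (N : Y.Modules) :
    (DCoh.restrictD V.ι).obj (DCoh.inD Y N) ≅ DCoh.inD (V : Scheme.{u}) (N.restrict V.ι) :=
  ((restrictFunctor V.ι).mapDerivedCategorySingleFunctor 0).app N

lemma HO_restrict (hO : HO i) (V : X.Opens) : HO (i ∣_ V) := by
  intro m
  have h1 := Groth.Agent.Helper9.TT6.isPseudoCoherentD_restrictD V.ι m _ (hO m)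
  have e : ((pushforward i).obj (Coh.structureModule Z)).restrict V.ι ≅
      (pushforward (i ∣_ V)).obj (Coh.structureModule ((i ⁻¹ᵁ V : Z.Opens) : Scheme.{u})) :=
    (Groth.Agent.Helper4.OpenBC.iso i V).app (Coh.structureModule Z) ≪≫
      (pushforward (i ∣_ V)).mapIso (restrictUnitIso (i ⁻¹ᵁ V).ι)
  exact isPseudoCoherentD_of_iso (restrictDInD V _ ≪≫
    (DerivedCategory.singleFunctor _ 0).mapIso e) h1

/-- the direct image of a free module of finite rank is pseudo-coherent -/
lemma pcAll_push_freeMod (hO : HO i) (r : ℕ) :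
    pcAll (DCoh.inD X ((pushforward i).obj (FlatMod.freeMod Z r))) := by
  have e : (pushforward i).obj (FlatMod.freeMod Z r) ≅
      ∐ fun _ : Fin r => (pushforward i).obj (Coh.structureModule Z) :=
    PreservesCoproduct.iso (pushforward i) _
  exact (pcAll (X := X)).prop_of_iso ((DerivedCategory.singleFunctor _ 0).mapIso e).symm
    (pcAll_inD_sigma _ (fun _ => hO))

/-- modules on the empty scheme vanish -/
lemma isZero_of_isEmpty {Y : Scheme.{u}} [IsEmpty Y] (M : Y.Modules) : IsZero M :=
  Groth.Agent.Helper9.SkyMod5.isZero_of_stalks Y M (fun y => (IsEmpty.false y).elim)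

/-- the direct image vanishes over opens which do not meet the image -/
lemma isZero_rc_pushCx (V : X.Opens) (hV : i ⁻¹ᵁ V = ⊥) (F : CochainComplex Z.Modules ℤ) :
    IsZero ((Rc V.ι).obj ((DerSch.pushCx i).obj F)) := by
  haveI : IsEmpty ((i ⁻¹ᵁ V : Z.Opens) : Scheme.{u}) := by
    rw [hV]
    exact ⟨fun x => x.2⟩
  have h1 : IsZero ((Rc (i ⁻¹ᵁ V).ι).obj F) := by
    rw [IsZero.iff_id_eq_zero]
    ext j : 1
    exact (isZero_of_isEmpty _).eq_of_src _ _
  exact ((DerSch.pushCx (i ∣_ V)).map_isZero h1).of_iso (rcPushIso i V F)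

end

end Groth.Agent.Helper9.CI2
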