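import Mathlib
import Groth.Prelude.Def_CxOX
import Groth.Agent.Helper9.TT6
import Groth.Agent.Lead.PcLib3
import Groth.Agent.Lead.PcLib7

/-! Locality of `m`-pseudo-coherence for open immersions. -/

set_option autoImplicit false
set_option linter.style.haveILetI false
set_option linter.unusedVariables false
set_option linter.unusedSectionVars false
universe u

namespace Groth.Agent.Helper9.FP1

open CategoryTheory CategoryTheory.Limits AlgebraicGeometry Opposite TopologicalSpace
  DerivedCategory
open Groth.Agent.Lead.PcLib Groth.Agent.Lead.PerfLib Scheme.Modules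

attribute [local instance] HasDerivedCategory.standard

variable {X : Scheme.{u}}

/-- pseudo-coherence is local for open immersions -/
theorem isPseudoCoherentD_of_local (m : ℤ) (K : DCoh.D X)
    (h : ∀ x : X, ∃ (Z : Scheme.{u}) (j : Z ⟶ X) (_ : IsOpenImmersion j), x ∈ Set.range j ∧
      DCoh.IsPseudoCoherentD m ((DCoh.restrictD j).obj K)) : DCoh.IsPseudoCoherentD m K := by
  let F₀ : CochainComplex X.Modules ℤ := Q.objPreimage K
  let e₀ : Q.obj F₀ ≅ K := Q.objObjPreimageIso K
  refine (isPseudoCoherentD_iff_locPC m K F₀ e₀).2 (fun x => ?_)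
  obtain ⟨Z, j, hj, ⟨y, rfl⟩, hp⟩ := h x
  haveI := hj
  let e₁ : Q.obj ((Rc j).obj F₀) ≅ (DCoh.restrictD j).obj K :=
    ((restrictFunctor j).mapDerivedCategoryFactors.app F₀).symm ≪≫ (DCoh.restrictD j).mapIso e₀
  exact LocPC.of_restrict j ((isPseudoCoherentD_iff_locPC m _ ((Rc j).obj F₀) e₁).1 hp y)

/-- for a surjective open immersion (e.g. an isomorphism) pseudo-coherence can be tested after
restriction -/
theorem isPseudoCoherentD_restrictD_iff {Z : Scheme.{u}} (j : Z ⟶ X) [IsOpenImmersion j]
    (hj : Function.Surjective j) (m : ℤ) (K : DCoh.D X) :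
    DCoh.IsPseudoCoherentD m ((DCoh.restrictD j).obj K) ↔ DCoh.IsPseudoCoherentD m K := by
  constructor
  · intro h
    refine isPseudoCoherentD_of_local m K (fun x => ?_)
    obtain ⟨z, rfl⟩ := hj x
    exact ⟨Z, j, inferInstance, ⟨z, rfl⟩, h⟩
  · intro h
    exact Groth.Agent.Helper9.TT6.isPseudoCoherentD_restrictD j m K h

end Groth.Agent.Helper9.FP1
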