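import Mathlib

/-! Truncations versus cohomology in the derived category of an abelian category:
`τ_{≥a} φ` is an isomorphism iff `Hʲ(φ)` is an isomorphism for all `j ≥ a`; cohomology of cones. -/

set_option autoImplicit false
set_option linter.style.haveILetI false
set_option linter.unusedVariables false
set_option linter.unusedSectionVars false

namespace Groth.Agent.Helper9.HP0

open CategoryTheory Limits Pretriangulated DerivedCategory

universe w v u

variable {A : Type u} [Category.{v} A] [Abelian A] [HasDerivedCategory.{w} A]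

/-- the canonical t-structure -/
noncomputable abbrev tA (A : Type u) [Category.{v} A] [Abelian A] [HasDerivedCategory.{w} A] :
    CategoryTheory.Triangulated.TStructure (DerivedCategory A) :=
  DerivedCategory.TStructure.t

lemma isIso_of_isZero' {C : Type*} [Category C] [HasZeroMorphisms C] {X Y : C} (f : X ⟶ Y)
    (hX : IsZero X) (hY : IsZero Y) : IsIso f :=
  ⟨⟨0, hX.eq_of_src _ _, hY.eq_of_src _ _⟩⟩

/-- `Hʲ(E) ⟶ Hʲ(τ_{≥a}E)` is an isomorphism for `j ≥ a` -/
lemma isIso_homology_truncGEπ (E : DerivedCategory A) (a j : ℤ) (hj : a ≤ j) :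
    IsIso ((homologyFunctor A j).map (((tA A).truncGEπ a).app E)) := by
  let T := ((tA A).triangleLTGE a).obj E
  have hT : T ∈ distTriang _ := (tA A).triangleLTGE_distinguished a E
  haveI : T.obj₁.IsLE (a - 1) :=
    inferInstanceAs ((tA A).IsLE (((tA A).triangleLTGE a).obj E).obj₁ (a - 1))
  haveI : Mono ((homologyFunctor A j).map T.mor₂) := by
    rw [HomologySequence.mono_homologyMap_mor₂_iff T hT j]
    exact (isZero_of_isLE T.obj₁ (a - 1) j (by omega)).eq_of_src _ _
  haveI : Epi ((homologyFunctor A j).map T.mor₂) := by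
    rw [HomologySequence.epi_homologyMap_mor₂_iff T hT j (j + 1) rfl]
    exact (isZero_of_isLE T.obj₁ (a - 1) (j + 1) (by omega)).eq_of_tgt _ _
  exact isIso_of_mono_of_epi ((homologyFunctor A j).map T.mor₂)

/-- `τ_{≥a} φ` is an isomorphism iff `Hʲ(φ)` is an isomorphism for all `j ≥ a` -/
theorem isIso_truncGE_map_iff {E F : DerivedCategory A} (φ : E ⟶ F) (a : ℤ) :
    IsIso (((tA A).truncGE a).map φ) ↔
      ∀ j : ℤ, a ≤ j → IsIso ((homologyFunctor A j).map φ) := by
  have nat : ∀ j : ℤ, (homologyFunctor A j).map (((tA A).truncGEπ a).app E) ≫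
      (homologyFunctor A j).map (((tA A).truncGE a).map φ) =
      (homologyFunctor A j).map φ ≫ (homologyFunctor A j).map (((tA A).truncGEπ a).app F) := by
    intro j
    rw [← Functor.map_comp, ← Functor.map_comp, (tA A).truncGEπ_naturality a φ]
  constructor
  · intro h j hj
    haveI := isIso_homology_truncGEπ E a j hj
    haveI := isIso_homology_truncGEπ F a j hj
    have h1 : (homologyFunctor A j).map φ =
        ((homologyFunctor A j).map (((tA A).truncGEπ a).app E) ≫
          (homologyFunctor A j).map (((tA A).truncGE a).map φ)) ≫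
        inv ((homologyFunctor A j).map (((tA A).truncGEπ a).app F)) := by
      rw [nat j, Category.assoc, IsIso.hom_inv_id, Category.comp_id]
    rw [h1]
    infer_instance
  · intro h
    rw [DerivedCategory.isIso_iff]
    intro j
    by_cases hj : a ≤ j
    · haveI := isIso_homology_truncGEπ E a j hj
      haveI := isIso_homology_truncGEπ F a j hj
      haveI := h j hj
      have h1 : (homologyFunctor A j).map (((tA A).truncGE a).map φ) =
          inv ((homologyFunctor A j).map (((tA A).truncGEπ a).app E)) ≫
            (homologyFunctor A j).map φ ≫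
              (homologyFunctor A j).map (((tA A).truncGEπ a).app F) := by
        rw [← nat j, IsIso.inv_hom_id_assoc]
      rw [h1]
      infer_instance
    · haveI : (((tA A).truncGE a).obj E).IsGE a :=
        inferInstanceAs ((tA A).IsGE (((tA A).truncGE a).obj E) a)
      haveI : (((tA A).truncGE a).obj F).IsGE a :=
        inferInstanceAs ((tA A).IsGE (((tA A).truncGE a).obj F) a)
      exact isIso_of_isZero' _ (isZero_of_isGE _ a j (by omega)) (isZero_of_isGE _ a j (by omega))

/-- cohomology of the cone: if `Hʲ(mor₁)` is epi and `Hʲ⁺¹(mor₁)` is mono, then `Hʲ(obj₃) = 0` -/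
lemma isZero_homology_obj₃ (T : Triangle (DerivedCategory A)) (hT : T ∈ distTriang _) (j : ℤ)
    (h1 : Epi ((homologyFunctor A j).map T.mor₁))
    (h2 : Mono ((homologyFunctor A (j + 1)).map T.mor₁)) :
    IsZero ((homologyFunctor A j).obj T.obj₃) := by
  have e1 : (homologyFunctor A j).map T.mor₂ = 0 :=
    (HomologySequence.epi_homologyMap_mor₁_iff T hT j).1 h1
  have e2 : HomologySequence.δ T j (j + 1) rfl = 0 :=
    (HomologySequence.mono_homologyMap_mor₁_iff T hT j (j + 1) rfl).1 h2
  exact (HomologySequence.exact₃ T hT j (j + 1) rfl).isZero_of_both_zeros e1 e2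

/-- conversely, if `Hʲ⁻¹(obj₃)` and `Hʲ(obj₃)` vanish then `Hʲ(mor₁)` is an isomorphism -/
lemma isIso_homology_mor₁ (T : Triangle (DerivedCategory A)) (hT : T ∈ distTriang _) (j : ℤ)
    (h1 : IsZero ((homologyFunctor A (j - 1)).obj T.obj₃))
    (h2 : IsZero ((homologyFunctor A j).obj T.obj₃)) :
    IsIso ((homologyFunctor A j).map T.mor₁) := by
  haveI : Mono ((homologyFunctor A j).map T.mor₁) := by
    rw [HomologySequence.mono_homologyMap_mor₁_iff T hT (j - 1) j (by omega)]
    exact h1.eq_of_src _ _
  haveI : Epi ((homologyFunctor A j).map T.mor₁) := by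
    rw [HomologySequence.epi_homologyMap_mor₁_iff T hT j]
    exact h2.eq_of_tgt _ _
  exact isIso_of_mono_of_epi _

end Groth.Agent.Helper9.HP0
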