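import Mathlib
import Groth.Prelude.Def_DualSh
import Groth.Prelude.Def_DerSch2
import Groth.Agent.Helper9.CI2
import Groth.Agent.Helper9.HP0
import Groth.Agent.Helper9.FP1
import Groth.Agent.Helper4.FTLocal
import Groth.Agent.Helper4.FTTilde
import Groth.Agent.Lead.PerfLib9
import Groth.Agent.Lead.LocLift

/-! Closed immersions: descent of finite type along the direct image, the local dévissage step
for pseudo-coherence. -/

set_option autoImplicit false
set_option linter.style.haveILetI false
set_option linter.unusedVariables false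
set_option linter.unusedSectionVars false
universe u

namespace Groth.Agent.Helper9.CI3

noncomputable section

open CategoryTheory CategoryTheory.Limits AlgebraicGeometry HomologicalComplex Pretriangulated
open Groth.Agent.Lead.PcLib Groth.Agent.Lead.PerfLib Groth.Agent.Helper9.CI1
  Groth.Agent.Helper9.CI2
  Groth.Agent.Helper9.ClImm1 Groth.Agent.Helper9.ClImmPF2 Scheme.Modules ZeroObject

attribute [local instance] HasDerivedCategory.standard

section FT

variable {Z X : Scheme.{u}} (i : Z ⟶ X) [IsClosedImmersion i]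

/-- the direct image along a closed immersion reflects epimorphisms -/
theorem epi_of_epi_pushforward_map {M N : Z.Modules} (g : M ⟶ N)
    (h : Epi ((pushforward i).map g)) : Epi g := by
  apply Abelian.epi_of_cokernel_π_eq_zero
  have h1 : (pushforward i).map g ≫ (pushforward i).map (cokernel.π g) = 0 := by
    rw [← Functor.map_comp, cokernel.condition, Functor.map_zero]
  have h2 : (pushforward i).map (cokernel.π g) = 0 := by
    rw [← cancel_epi ((pushforward i).map g), h1, comp_zero]
  haveI : Epi ((pushforward i).map (cokernel.π g)) := inferInstance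
  have h3 : IsZero ((pushforward i).obj (cokernel g)) := IsZero.of_epi_eq_zero _ h2
  have h4 : IsZero (cokernel g) :=
    isZero_of_isZero_pushforward i (isClosedEmbedding i).isInducing _ h3
  exact h4.eq_of_tgt _ _

open Groth.Agent.Helper8.TildeBC in
/-- descent of finite type along the direct image of a closed immersion -/
theorem isFT_of_pushforward (M : Z.Modules)
    (h : CohB1.IsFT ((pushforward i).obj M)) : CohB1.IsFT M := by
  apply Groth.Agent.Lead.PerfLib.isFiniteType_of_locally_gen
  intro z
  obtain ⟨W, hzW, hW⟩ :=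
    Groth.Agent.Helper4.FTLocal.exists_generatingSections_restrict _ h (i.base z)
  obtain ⟨σ, hσ⟩ := hW W le_rfl
  haveI := hσ
  obtain ⟨n, φ, hφ⟩ := Groth.Agent.Helper4.FTTilde.gen_of_generatingSections _ σ
  haveI := hφ
  let g : FlatMod.freeMod (W : Scheme.{u}) n ⟶
      (pushforward (i ∣_ W)).obj (M.restrict (i ⁻¹ᵁ W).ι) :=
    φ ≫ ((Groth.Agent.Helper4.OpenBC.iso i W).app M).hom
  haveI : Epi g := epi_comp _ _
  let adj := Scheme.Modules.pullbackPushforwardAdjunction (i ∣_ W)
  let g' : (Scheme.Modules.pullback (i ∣_ W)).obj (FlatMod.freeMod (W : Scheme.{u}) n) ⟶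
      M.restrict (i ⁻¹ᵁ W).ι := (adj.homEquiv _ _).symm g
  have hg : g = adj.unit.app _ ≫ (pushforward (i ∣_ W)).map g' := by
    have := (adj.homEquiv _ _).apply_symm_apply g
    rw [Adjunction.homEquiv_unit] at this
    exact this.symm
  haveI : Epi ((pushforward (i ∣_ W)).map g') := by
    haveI : Epi (adj.unit.app _ ≫ (pushforward (i ∣_ W)).map g') := by rw [← hg]; infer_instance
    exact epi_of_epi (adj.unit.app _) _
  haveI : Epi g' := epi_of_epi_pushforward_map (i ∣_ W) g' inferInstance
  exact ⟨_, (i ⁻¹ᵁ W).ι, inferInstance, n, ⟨⟨z, hzW⟩, rfl⟩,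
    ⟨(pullbackFreeIso (i ∣_ W) n).inv ≫ g', epi_comp _ _⟩⟩

end FT

section Cone

variable {Y : Scheme.{u}}

/-- if the source of a chain map is pseudo-coherent in all degrees, the target is
`m`-pseudo-coherent iff the cone is -/
theorem pc_iff_cone {K L : CochainComplex Y.Modules ℤ} (φ : K ⟶ L)
    (hK : pcAll (DerivedCategory.Q.obj K)) (m : ℤ) :
    DCoh.IsPseudoCoherentD m (DerivedCategory.Q.obj L) ↔
      DCoh.IsPseudoCoherentD m (DerivedCategory.Q.obj (CochainComplex.mappingCone φ)) := by
  have hT := DerivedCategory.mappingCone_triangle_distinguished φ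
  have h := isPseudoCoherentD_triangle m _ hT
  exact ⟨fun hL => h.1 (hK (m + 1)) hL, fun hC => h.2.1 (hK m) hC⟩

/-- homology of the cone of a chain map out of a complex concentrated in degree `b` which is
surjective on `H^b`, when the target has no homology above `b` -/
theorem isZero_homology_mappingCone {A : Type*} [Category A] [Abelian A]
    [HasDerivedCategory A] (G : A) (b : ℤ) (K : CochainComplex A ℤ)
    (σ : (single A (ComplexShape.up ℤ) b).obj G ⟶ K) (hσ : Epi (homologyMap σ b))
    (hK : ∀ j, b < j → IsZero (K.homology j)) (j : ℤ) (hj : b ≤ j) :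
    IsZero ((CochainComplex.mappingCone σ).homology j) := by
  have hT := DerivedCategory.mappingCone_triangle_distinguished σ
  have hS : ∀ k, k ≠ b → IsZero (((single A (ComplexShape.up ℤ) b).obj G).homology k) :=
    fun k hk => Groth.Agent.Lead.PerfLib.isZero_homology_of_isZero _ k
      (HomologicalComplex.isZero_single_obj_X _ _ _ k hk)
  have key : ∀ k, (Epi (homologyMap σ k) → Epi ((DerivedCategory.homologyFunctor A k).map
      (DerivedCategory.Q.map σ))) ∧ (Mono (homologyMap σ k) →
      Mono ((DerivedCategory.homologyFunctor A k).map (DerivedCategory.Q.map σ))) := by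
    intro k
    have e := NatIso.naturality_2 (DerivedCategory.homologyFunctorFactors A k) σ
    dsimp at e
    constructor
    · intro h
      haveI : Epi ((homologyFunctor A (ComplexShape.up ℤ) k).map σ) := h
      exact e ▸ (inferInstance : Epi ((DerivedCategory.homologyFunctorFactors A k).hom.app _ ≫
        (homologyFunctor A (ComplexShape.up ℤ) k).map σ ≫
          (DerivedCategory.homologyFunctorFactors A k).inv.app K))
    · intro h
      haveI : Mono ((homologyFunctor A (ComplexShape.up ℤ) k).map σ) := h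
      exact e ▸ (inferInstance : Mono ((DerivedCategory.homologyFunctorFactors A k).hom.app _ ≫
        (homologyFunctor A (ComplexShape.up ℤ) k).map σ ≫
          (DerivedCategory.homologyFunctorFactors A k).inv.app K))
  have h1 : Epi (homologyMap σ j) := by
    rcases hj.eq_or_lt with rfl | hlt
    · exact hσ
    · exact ⟨fun _ _ _ => (hK j hlt).eq_of_src _ _⟩
  have h2 : Mono (homologyMap σ (j + 1)) :=
    ⟨fun _ _ _ => (hS (j + 1) (by omega)).eq_of_tgt _ _⟩
  have h3 := Groth.Agent.Helper9.HP0.isZero_homology_obj₃ _ hT j ((key j).1 h1)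
    ((key (j + 1)).2 h2)
  exact h3.of_iso ((DerivedCategory.homologyFunctorFactors A j).app _).symm

end Cone

section Loc

variable {Z X : Scheme.{u}} (i : Z ⟶ X) [IsClosedImmersion i]

/-- restriction of the image in the derived category of a complex -/
def restrictDQ {Y Y' : Scheme.{u}} (j : Y' ⟶ Y) [IsOpenImmersion j]
    (F : CochainComplex Y.Modules ℤ) :
    (DCoh.restrictD j).obj (DerivedCategory.Q.obj F) ≅ DerivedCategory.Q.obj ((Rc j).obj F) :=
  (restrictFunctor j).mapDerivedCategoryFactors.app F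

/-- the comparison of pseudo-coherence of a complex and of its direct image is local -/
theorem iff_of_local (F : CochainComplex Z.Modules ℤ) (m : ℤ)
    (h : ∀ z : Z, ∃ V : X.Opens, i.base z ∈ V ∧
      (DCoh.IsPseudoCoherentD m (DerivedCategory.Q.obj ((Rc (i ⁻¹ᵁ V).ι).obj F)) ↔
        DCoh.IsPseudoCoherentD m (DerivedCategory.Q.obj
          ((DerSch.pushCx (i ∣_ V)).obj ((Rc (i ⁻¹ᵁ V).ι).obj F))))) :
    DCoh.IsPseudoCoherentD m (DerivedCategory.Q.obj F) ↔
      DCoh.IsPseudoCoherentD m (DerivedCategory.Q.obj ((DerSch.pushCx i).obj F)) := by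
  have eX : ∀ V : X.Opens, (DCoh.restrictD V.ι).obj
      (DerivedCategory.Q.obj ((DerSch.pushCx i).obj F)) ≅
      DerivedCategory.Q.obj ((DerSch.pushCx (i ∣_ V)).obj ((Rc (i ⁻¹ᵁ V).ι).obj F)) :=
    fun V => restrictDQ V.ι _ ≪≫ DerivedCategory.Q.mapIso (rcPushIso i V F)
  constructor
  · intro hF
    refine Groth.Agent.Helper9.FP1.isPseudoCoherentD_of_local m _ (fun x => ?_)
    by_cases hx : x ∈ Set.range i.base
    · obtain ⟨z, rfl⟩ := hx
      obtain ⟨V, hzV, hV⟩ := h z
      refine ⟨V, V.ι, inferInstance, ⟨⟨i.base z, hzV⟩, rfl⟩, ?_⟩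
      refine isPseudoCoherentD_of_iso (eX V).symm (hV.1 ?_)
      exact isPseudoCoherentD_of_iso (restrictDQ (i ⁻¹ᵁ V).ι F)
        (Groth.Agent.Helper9.TT6.isPseudoCoherentD_restrictD (i ⁻¹ᵁ V).ι m _ hF)
    · let V : X.Opens := ⟨(Set.range i.base)ᶜ, (isClosedEmbedding i).isClosed_range.isOpen_compl⟩
      have hV : i ⁻¹ᵁ V = ⊥ := by
        ext z
        simp only [TopologicalSpace.Opens.coe_bot, Set.mem_empty_iff_false, iff_false]
        intro hz
        exact hz ⟨z, rfl⟩
      refine ⟨V, V.ι, inferInstance, ⟨⟨x, hx⟩, rfl⟩, ?_⟩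
      have h0 : IsZero (DerivedCategory.Q.obj ((Rc V.ι).obj ((DerSch.pushCx i).obj F))) :=
        DerivedCategory.Q.map_isZero (isZero_rc_pushCx i V hV F)
      exact isPseudoCoherentD_of_iso (restrictDQ V.ι _).symm
        (Groth.Agent.Helper9.RelTor4.pc_of_isZero h0 m)
  · intro hF
    refine Groth.Agent.Helper9.FP1.isPseudoCoherentD_of_local m _ (fun z => ?_)
    obtain ⟨V, hzV, hV⟩ := h z
    refine ⟨_, (i ⁻¹ᵁ V).ι, inferInstance, ⟨⟨z, hzV⟩, rfl⟩, ?_⟩
    refine isPseudoCoherentD_of_iso (restrictDQ (i ⁻¹ᵁ V).ι F).symm (hV.2 ?_)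
    exact isPseudoCoherentD_of_iso (eX V)
      (Groth.Agent.Helper9.TT6.isPseudoCoherentD_restrictD V.ι m _ hF)

end Loc

section Step

variable {Z X : Scheme.{u}} (i : Z ⟶ X) [IsClosedImmersion i]

/-- a module placed in degree `b` is pseudo-coherent as soon as it is so in degree `0` -/
theorem pcAll_Q_single {Y : Scheme.{u}} (N : Y.Modules) (b : ℤ) (h : pcAll (DCoh.inD Y N)) :
    pcAll (DerivedCategory.Q.obj ((single Y.Modules (ComplexShape.up ℤ) b).obj N)) := by
  have e1 : DerivedCategory.Q.obj ((single Y.Modules (ComplexShape.up ℤ) b).obj N) ≅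
      (DerivedCategory.singleFunctor Y.Modules b).obj N :=
    ((DerivedCategory.singleFunctorIsoCompQ Y.Modules b).app N).symm
  have e2 : ((DerivedCategory.singleFunctor Y.Modules 0).obj N)⟦-b⟧ ≅
      (DerivedCategory.singleFunctor Y.Modules b).obj N :=
    ((DerivedCategory.singleFunctors Y.Modules).shiftIso (-b) b 0 (by omega)).app N
  have h1 : pcAll (((DerivedCategory.singleFunctor Y.Modules 0).obj N)⟦-b⟧) :=
    Groth.Agent.Helper9.RelTor4.pc_shift h (-b)
  exact (pcAll (X := Y)).prop_of_iso (e2 ≪≫ e1.symm) h1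

/-- free modules of finite rank are pseudo-coherent -/
theorem pcAll_inD_freeMod (Y : Scheme.{u}) (r : ℕ) : pcAll (DCoh.inD Y (FlatMod.freeMod Y r)) := by
  intro m
  rw [isPseudoCoherentD_iff_locPC m _ (sg (FlatMod.freeMod Y r)) (sgIso _)]
  exact fun y => locPC_of_isStrictlyPerfect (isStrictlyPerfect_sg _
    (Groth.Agent.Helper4.FinLocFree2.isFinLocFree_freeMod r)) m y

/-- the dévissage step, for a complex whose top cohomology is generated by finitely many global
sections which lift to cocycles -/
theorem step_local (hO : HO i) (m b : ℤ) (F : CochainComplex Z.Modules ℤ) (r : ℕ)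
    (σ₀ : FlatMod.freeMod Z r ⟶ F.X b)
    (hσ : ∀ k, (ComplexShape.up ℤ).Rel b k → σ₀ ≫ F.d b k = 0)
    (hepi : Epi (F.liftCycles σ₀ (b + 1) (by simp) (hσ _ (by simp)) ≫ F.homologyπ b))
    (hF : ∀ j, b < j → IsZero (F.homology j))
    (IH : ∀ G : CochainComplex Z.Modules ℤ, (∀ j, b ≤ j → IsZero (G.homology j)) →
      (DCoh.IsPseudoCoherentD m (DerivedCategory.Q.obj G) ↔
        DCoh.IsPseudoCoherentD m (DerivedCategory.Q.obj ((DerSch.pushCx i).obj G)))) :
    DCoh.IsPseudoCoherentD m (DerivedCategory.Q.obj F) ↔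
      DCoh.IsPseudoCoherentD m (DerivedCategory.Q.obj ((DerSch.pushCx i).obj F)) := by
  let σ : (single Z.Modules (ComplexShape.up ℤ) b).obj (FlatMod.freeMod Z r) ⟶ F :=
    mkHomFromSingle σ₀ hσ
  have hσepi : Epi (homologyMap σ b) := epi_homologyMap_mkHomFromSingle F b _ σ₀ hσ hepi
  have hC : ∀ j, b ≤ j → IsZero ((CochainComplex.mappingCone σ).homology j) :=
    fun j hj => isZero_homology_mappingCone _ b F σ hσepi hF j hj
  have h1 := pc_iff_cone σ (pcAll_Q_single _ b (pcAll_inD_freeMod Z r)) m
  have hS : pcAll (DerivedCategory.Q.obj ((DerSch.pushCx i).obj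
      ((single Z.Modules (ComplexShape.up ℤ) b).obj (FlatMod.freeMod Z r)))) := by
    have e : (DerSch.pushCx i).obj
        ((single Z.Modules (ComplexShape.up ℤ) b).obj (FlatMod.freeMod Z r)) ≅
        (single X.Modules (ComplexShape.up ℤ) b).obj
          ((pushforward i).obj (FlatMod.freeMod Z r)) :=
      (HomologicalComplex.singleMapHomologicalComplex (pushforward i) (ComplexShape.up ℤ) b).app _
    exact (pcAll (X := X)).prop_of_iso (DerivedCategory.Q.mapIso e).symm
      (pcAll_Q_single _ b (pcAll_push_freeMod i hO r))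
  have h2 := pc_iff_cone ((DerSch.pushCx i).map σ) hS m
  have e3 : (DerSch.pushCx i).obj (CochainComplex.mappingCone σ) ≅
      CochainComplex.mappingCone ((DerSch.pushCx i).map σ) :=
    CochainComplex.mappingCone.mapHomologicalComplexIso σ (pushforward i)
  have h3 := IH _ hC
  rw [h1, h3, h2]
  exact ⟨fun h => isPseudoCoherentD_of_iso (DerivedCategory.Q.mapIso e3) h,
    fun h => isPseudoCoherentD_of_iso (DerivedCategory.Q.mapIso e3).symm h⟩

end Step

end

end Groth.Agent.Helper9.CI3
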