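import Mathlib
import Groth.Prelude.Def_DualSh
import Groth.Prelude.Def_DerSch2
import Groth.Agent.Helper9.CI3

/-! Closed immersions: pseudo-coherence of a complex and of its direct image (induction on the
top degree). -/

set_option autoImplicit false
set_option linter.style.haveILetI false
set_option linter.unusedVariables false
set_option linter.unusedSectionVars false
universe u

namespace Groth.Agent.Helper9.CI4

noncomputable section

open CategoryTheory CategoryTheory.Limits AlgebraicGeometry HomologicalComplex Pretriangulated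
open Groth.Agent.Lead.PcLib Groth.Agent.Lead.PerfLib Groth.Agent.Helper9.CI1
  Groth.Agent.Helper9.CI2 Groth.Agent.Helper9.CI3
  Groth.Agent.Helper9.ClImm1 Groth.Agent.Helper9.ClImmPF2 Scheme.Modules ZeroObject

attribute [local instance] HasDerivedCategory.standard

section Abstract

variable {C D : Type*} [Category C] [Abelian C] [Category D] [Abelian D] (R : C ⥤ D)
  [R.Additive] [PreservesFiniteLimits R] [PreservesFiniteColimits R]
  (F : CochainComplex C ℤ) (b : ℤ) {G : D} (ψ : G ⟶ R.obj (F.cycles b))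

/-- the image complex -/
abbrev KK : CochainComplex D ℤ := (R.mapHomologicalComplex (ComplexShape.up ℤ)).obj F

/-- a map to the cycles, as a map to the component of the image complex -/
def sigma0 : G ⟶ (KK R F).X b := ψ ≫ R.map (F.iCycles b)

/-- the image of a map to a component of the complex -/
def mapX {A : C} (f : A ⟶ F.X b) : R.obj A ⟶ (KK R F).X b := R.map f

lemma mapX_d {A : C} (f : A ⟶ F.X b) (k : ℤ) (h : f ≫ F.d b k = 0) :
    mapX R F b f ≫ (KK R F).d b k = 0 := by
  have h1 : mapX R F b f ≫ (KK R F).d b k = R.map (f ≫ F.d b k) := (R.map_comp _ _).symm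
  rw [h1, h, R.map_zero]
  rfl

lemma sigma0_eq : sigma0 R F b ψ = ψ ≫ mapX R F b (F.iCycles b) := rfl

lemma sigma0_d (k : ℤ) : sigma0 R F b ψ ≫ (KK R F).d b k = 0 := by
  rw [sigma0_eq, Category.assoc, mapX_d R F b _ k (iCycles_d F b k), comp_zero]

def cycIso : (KK R F).cycles b ≅ R.obj (F.cycles b) := (F.sc b).mapCyclesIso R

def homIso : (KK R F).homology b ≅ R.obj (F.homology b) := (F.sc b).mapHomologyIso R

lemma cycIso_hom_i : (cycIso R F b).hom ≫ mapX R F b (F.iCycles b) = (KK R F).iCycles b :=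
  ShortComplex.mapCyclesIso_hom_iCycles (F.sc b) R

lemma homologyπ_homIso : (KK R F).homologyπ b ≫ (homIso R F b).hom =
    (cycIso R F b).hom ≫ R.map (F.homologyπ b) :=
  map_homologyπ R (F.sc b)

lemma liftCycles_sigma0 :
    (KK R F).liftCycles (sigma0 R F b ψ) (b + 1) (by simp) (sigma0_d R F b ψ _) =
      ψ ≫ (cycIso R F b).inv := by
  rw [← cancel_mono ((KK R F).iCycles b), liftCycles_i, Category.assoc, ← cycIso_hom_i,
    Iso.inv_hom_id_assoc, sigma0_eq]

lemma liftCycles_sigma0_π :
    (KK R F).liftCycles (sigma0 R F b ψ) (b + 1) (by simp) (sigma0_d R F b ψ _) ≫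
      (KK R F).homologyπ b = ψ ≫ R.map (F.homologyπ b) ≫ (homIso R F b).inv := by
  rw [liftCycles_sigma0, Category.assoc]
  congr 1
  rw [← cancel_mono (homIso R F b).hom, Category.assoc, Category.assoc, Iso.inv_hom_id,
    Category.comp_id, homologyπ_homIso, Iso.inv_hom_id_assoc]

end Abstract

/-- the statement of the theorem for complexes without cohomology in degrees `≥ b` -/
def Pn (m b : ℤ) : Prop :=
  ∀ (Z X : Scheme.{u}) (i : Z ⟶ X) [IsClosedImmersion i] (_ : HO i)
    (G : CochainComplex Z.Modules ℤ), (∀ j, b ≤ j → IsZero (G.homology j)) →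
    (DCoh.IsPseudoCoherentD m (DerivedCategory.Q.obj G) ↔
      DCoh.IsPseudoCoherentD m (DerivedCategory.Q.obj ((DerSch.pushCx i).obj G)))

variable {Z X : Scheme.{u}} (i : Z ⟶ X) [IsClosedImmersion i]

lemma isZero_homology_rc (F : CochainComplex Z.Modules ℤ) (W : Z.Opens) (j : ℤ)
    (h : IsZero (F.homology j)) : IsZero (((Rc W.ι).obj F).homology j) :=
  ((restrictFunctor W.ι).map_isZero h).of_iso (homologyRestrictIso W.ι F j)

lemma isZero_homology_pushCx (F : CochainComplex Z.Modules ℤ) (j : ℤ)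
    (h : IsZero (F.homology j)) : IsZero (((DerSch.pushCx i).obj F).homology j) :=
  ((pushforward i).map_isZero h).of_iso (pushHomologyIso i F j)

/-- the case where the top cohomology is generated by finitely many global sections -/
theorem step_gen (m b : ℤ) (IH : Pn.{u} m b) (hO : HO i) (F : CochainComplex Z.Modules ℤ)
    (hF : ∀ j, b < j → IsZero (F.homology j)) (r : ℕ)
    (φ : FlatMod.freeMod Z r ⟶ F.homology b) (hφ : Epi φ) :
    DCoh.IsPseudoCoherentD m (DerivedCategory.Q.obj F) ↔
      DCoh.IsPseudoCoherentD m (DerivedCategory.Q.obj ((DerSch.pushCx i).obj F)) := by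
  apply iff_of_local i F m
  intro z
  haveI : Epi (F.homologyπ b) := inferInstance
  obtain ⟨W, hzW, ψ, hψ⟩ := Groth.Agent.Lead.LocLift.exists_nhd_lift_free (F.homologyπ b) r φ z
  obtain ⟨V, rfl⟩ := exists_preimage_eq i W
  refine ⟨V, hzW, ?_⟩
  let R := restrictFunctor (i ⁻¹ᵁ V).ι
  let ψ' : FlatMod.freeMod ((i ⁻¹ᵁ V : Z.Opens) : Scheme.{u}) r ⟶ R.obj (F.cycles b) :=
    (Groth.Agent.Helper4.FinLocFree.restrictFreeIso (i ⁻¹ᵁ V).ι r).inv ≫ ψ
  have hepi : Epi ((KK R F).liftCycles (sigma0 R F b ψ') (b + 1) (by simp)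
      (sigma0_d R F b ψ' _) ≫ (KK R F).homologyπ b) := by
    rw [liftCycles_sigma0_π]
    have h3 : ψ' ≫ R.map (F.homologyπ b) ≫ (homIso R F b).inv =
        (Groth.Agent.Helper4.FinLocFree.restrictFreeIso (i ⁻¹ᵁ V).ι r).inv ≫ R.map φ ≫
          (homIso R F b).inv := by
      dsimp only [ψ']
      rw [Category.assoc, ← Category.assoc ψ, hψ]
    rw [h3]
    haveI : Epi (R.map φ) := inferInstance
    infer_instance
  exact step_local (i ∣_ V) (HO_restrict i hO V) m b (KK R F) r (sigma0 R F b ψ')
    (fun k _ => sigma0_d R F b ψ' k) hepi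
    (fun j hj => isZero_homology_rc F _ j (hF j hj))
    (fun G hG => IH _ _ (i ∣_ V) (HO_restrict i hO V) G hG)

/-- the case where the top cohomology is of finite type -/
theorem step_ft (m b : ℤ) (IH : Pn.{u} m b) (hO : HO i) (F : CochainComplex Z.Modules ℤ)
    (hF : ∀ j, b < j → IsZero (F.homology j)) (hFT : CohB1.IsFT (F.homology b)) :
    DCoh.IsPseudoCoherentD m (DerivedCategory.Q.obj F) ↔
      DCoh.IsPseudoCoherentD m (DerivedCategory.Q.obj ((DerSch.pushCx i).obj F)) := by
  apply iff_of_local i F m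
  intro z
  obtain ⟨W, hzW, hW⟩ :=
    Groth.Agent.Helper4.FTLocal.exists_generatingSections_restrict _ hFT z
  obtain ⟨V, rfl⟩ := exists_preimage_eq i W
  obtain ⟨σ, hσ⟩ := hW _ le_rfl
  haveI := hσ
  obtain ⟨r, φ₀, hφ₀⟩ := Groth.Agent.Helper4.FTTilde.gen_of_generatingSections _ σ
  haveI := hφ₀
  refine ⟨V, hzW, ?_⟩
  exact step_gen (i ∣_ V) m b IH (HO_restrict i hO V) _
    (fun j hj => isZero_homology_rc F _ j (hF j hj)) r
    (φ₀ ≫ (homologyRestrictIso (i ⁻¹ᵁ V).ι F b).inv) (epi_comp _ _)

/-- the induction step -/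
theorem step (m b : ℤ) (hmb : m ≤ b) (IH : Pn.{u} m b) : Pn.{u} m (b + 1) := by
  intro Z X i _ hO F hF
  have hF' : ∀ j, b < j → IsZero (F.homology j) := fun j hj => hF j (by omega)
  constructor
  · intro h
    have h1 := (finiteType_top_cohomology_of_pseudoCoherent b _
      (isPseudoCoherentD_mono hmb h)).1
      (fun j hj => (hF' j hj).of_iso (hdIso (Iso.refl _) j))
    haveI : SheafOfModules.IsFiniteType (R := Z.ringCatSheaf)
      (DCoh.HD (DerivedCategory.Q.obj F) b) := h1
    have hFT : CohB1.IsFT (F.homology b) :=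
      Groth.Agent.Helper4.FTRestrict.SoM.isFiniteType_of_iso (R := Z.ringCatSheaf)
        (hdIso (Iso.refl (DerivedCategory.Q.obj F)) b)
    exact (step_ft i m b IH hO F hF' hFT).1 h
  · intro h
    have h1 := (finiteType_top_cohomology_of_pseudoCoherent b _
      (isPseudoCoherentD_mono hmb h)).1
      (fun j hj => (isZero_homology_pushCx i F j (hF' j hj)).of_iso (hdIso (Iso.refl _) j))
    haveI : SheafOfModules.IsFiniteType (R := X.ringCatSheaf)
      (DCoh.HD (DerivedCategory.Q.obj ((DerSch.pushCx i).obj F)) b) := h1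
    have hFT' : CohB1.IsFT ((pushforward i).obj (F.homology b)) :=
      Groth.Agent.Helper4.FTRestrict.SoM.isFiniteType_of_iso (R := X.ringCatSheaf)
        (hdIso (Iso.refl (DerivedCategory.Q.obj ((DerSch.pushCx i).obj F))) b ≪≫
          pushHomologyIso i F b)
    exact (step_ft i m b IH hO F hF' (isFT_of_pushforward i _ hFT')).2 h

/-- the base case -/
theorem base (m b : ℤ) (hmb : b ≤ m) : Pn.{u} m b := by
  intro Z X i _ hO F hF
  have h1 : DCoh.IsPseudoCoherentD m (DerivedCategory.Q.obj F) :=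
    isPseudoCoherentD_of_isZero_HD m _
      (fun j hj => (hF j (by omega)).of_iso (hdIso (Iso.refl _) j))
  have h2 : DCoh.IsPseudoCoherentD m (DerivedCategory.Q.obj ((DerSch.pushCx i).obj F)) :=
    isPseudoCoherentD_of_isZero_HD m _
      (fun j hj => (isZero_homology_pushCx i F j (hF j (by omega))).of_iso
        (hdIso (Iso.refl _) j))
  exact ⟨fun _ => h2, fun _ => h1⟩

theorem all (m b : ℤ) : Pn.{u} m b := by
  by_cases h : b ≤ m
  · exact base m b h
  · have h := not_le.1 h
    have : ∀ n : ℕ, Pn.{u} m (m + n) := by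
      intro n
      induction n with
      | zero => exact base m _ (by simp)
      | succ n ih =>
        have := step m (m + n) (by omega) ih
        rw [show m + ((n + 1 : ℕ) : ℤ) = m + n + 1 by push_cast; ring]
        exact this
    have h2 := this (b - m).toNat
    rwa [show m + ((b - m).toNat : ℤ) = b by omega] at h2

/-- a pseudo-coherent complex is locally bounded above -/
theorem bdd_of_pc {Y : Scheme.{u}} (F : CochainComplex Y.Modules ℤ) (m : ℤ)
    (h : DCoh.IsPseudoCoherentD m (DerivedCategory.Q.obj F)) (y : Y) :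
    ∃ V : Y.Opens, y ∈ V ∧ ∃ b : ℤ, ∀ j, b ≤ j → IsZero (((Rc V.ι).obj F).homology j) := by
  obtain ⟨V, hyV, P, α, hP, hiso, hepi⟩ :=
    exists_local_data_of_pseudoCoherent m _ h F (Iso.refl _) y
  obtain ⟨a, b, hab⟩ := hP.1
  refine ⟨V, hyV, max b m + 1, fun j hj => ?_⟩
  have hj0 : max b m < j := by omega
  have hj1 : b < j := lt_of_le_of_lt (le_max_left _ _) hj0
  have hj2 : m < j := lt_of_le_of_lt (le_max_right _ _) hj0
  haveI := hiso j hj2
  refine IsZero.of_iso ?_ (asIso (homologyMapOfQ α j)).symm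
  apply isZero_homology_of_isZero
  exact hab j (Or.inr hj1)

/-- **Pseudo-coherence and the direct image along a closed immersion** (chain level) -/
theorem main (hO : HO i) (m : ℤ) (F : CochainComplex Z.Modules ℤ) :
    DCoh.IsPseudoCoherentD m (DerivedCategory.Q.obj F) ↔
      DCoh.IsPseudoCoherentD m (DerivedCategory.Q.obj ((DerSch.pushCx i).obj F)) := by
  have key : (∀ z : Z, ∃ V : X.Opens, i.base z ∈ V ∧ ∃ b : ℤ, ∀ j, b ≤ j →
      IsZero (((Rc (i ⁻¹ᵁ V).ι).obj F).homology j)) →
      (DCoh.IsPseudoCoherentD m (DerivedCategory.Q.obj F) ↔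
        DCoh.IsPseudoCoherentD m (DerivedCategory.Q.obj ((DerSch.pushCx i).obj F))) := by
    intro hb
    apply iff_of_local i F m
    intro z
    obtain ⟨V, hzV, b, hV⟩ := hb z
    exact ⟨V, hzV, all m b _ _ (i ∣_ V) (HO_restrict i hO V) _ hV⟩
  constructor
  · intro h
    refine (key (fun z => ?_)).1 h
    obtain ⟨W, hzW, b, hb⟩ := bdd_of_pc F m h z
    obtain ⟨V, rfl⟩ := exists_preimage_eq i W
    exact ⟨V, hzW, b, hb⟩
  · intro h
    refine (key (fun z => ?_)).2 h
    obtain ⟨V, hzV, b, hb⟩ := bdd_of_pc _ m h (i.base z)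
    refine ⟨V, hzV, b, fun j hj => ?_⟩
    apply isZero_homology_of_pushforward (i ∣_ V)
    exact (hb j hj).of_iso
      ((HomologicalComplex.homologyFunctor _ _ j).mapIso (rcPushIso i V F)).symm

/-- **Pseudo-coherence and the direct image along a closed immersion** -/
theorem main' [(pushforward i).Additive] [PreservesFiniteLimits (pushforward i)]
    [PreservesFiniteColimits (pushforward i)]
    (hO : ∀ m : ℤ, DCoh.IsPseudoCoherentD m
      (DCoh.inD X ((pushforward i).obj (Coh.structureModule Z))))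
    (E : DCoh.D Z) (m : ℤ) :
    DCoh.IsPseudoCoherentD m E ↔
      DCoh.IsPseudoCoherentD m ((pushforward i).mapDerivedCategory.obj E) := by
  let F : CochainComplex Z.Modules ℤ := DerivedCategory.Q.objPreimage E
  let e : DerivedCategory.Q.obj F ≅ E := DerivedCategory.Q.objObjPreimageIso E
  have e' : (pushforward i).mapDerivedCategory.obj E ≅
      DerivedCategory.Q.obj ((DerSch.pushCx i).obj F) :=
    (pushforward i).mapDerivedCategory.mapIso e.symm ≪≫
      (pushforward i).mapDerivedCategoryFactors.app F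
  have h := main i hO m F
  exact ⟨fun h1 => isPseudoCoherentD_of_iso e'.symm (h.1 (isPseudoCoherentD_of_iso e.symm h1)),
    fun h1 => isPseudoCoherentD_of_iso e (h.2 (isPseudoCoherentD_of_iso e' h1))⟩

end

end Groth.Agent.Helper9.CI4
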