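import Mathlib
import Groth.Agent.Helper8.TildeBC

/-! `f_*(M~) ≅ (M_A)~` for `f = Spec φ`, naturally in the `B`-module `M`. -/

set_option autoImplicit false
set_option linter.style.haveILetI false
set_option linter.unusedSectionVars false
set_option linter.unusedVariables false

universe u

namespace Groth.Agent.Helper9.TilPush1

open CategoryTheory Limits AlgebraicGeometry

variable {R S : CommRingCat.{u}} (φ : R ⟶ S)

/-- the counit of tilde-Γ, whiskered with `M ↦ f_*(M~)` -/
noncomputable def counitW :
    (tilde.functor S ⋙ Scheme.Modules.pushforward (Spec.map φ)) ⋙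
      (moduleSpecΓFunctor (R := R) ⋙ tilde.functor R) ⟶
    (tilde.functor S ⋙ Scheme.Modules.pushforward (Spec.map φ)) ⋙ 𝟭 _ :=
  Functor.whiskerLeft _ (Scheme.Modules.fromTildeΓNatTrans (R := R))

instance : IsIso (counitW φ) := by
  apply (config := { allowSynthFailures := true }) NatIso.isIso_of_isIso_app
  intro M
  show IsIso (Scheme.Modules.fromTildeΓ
    ((Scheme.Modules.pushforward (Spec.map φ)).obj ((tilde.functor S).obj M)))
  exact isIso_fromTildeΓ_pushforward φ _

/-- `f_*(M~) ≅ (M_A)~` -/
noncomputable def θ :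
    tilde.functor S ⋙ Scheme.Modules.pushforward (Spec.map φ) ≅
      ModuleCat.restrictScalars φ.hom ⋙ tilde.functor R :=
  (Functor.rightUnitor _).symm ≪≫ (asIso (counitW φ)).symm ≪≫
    (Functor.associator _ _ _).symm ≪≫
    Functor.isoWhiskerRight
      (Functor.associator _ _ _ ≪≫
        Functor.isoWhiskerLeft _ (Groth.Agent.Helper8.TildeBC.pushforwardΓIso φ) ≪≫
        (Functor.associator _ _ _).symm ≪≫
        Functor.isoWhiskerRight (tilde.toTildeΓNatIso (R := S)).symm _ ≪≫
        Functor.leftUnitor _) (tilde.functor R)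

end Groth.Agent.Helper9.TilPush1
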