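import Mathlib
import Groth.Prelude.Def_DualSh
import Groth.Prelude.Def_DerSch2
import Groth.Agent.Helper9.CI4
import Groth.Agent.Helper9.TilPush1
import Groth.Agent.Helper9.TP3
import Groth.Agent.Helper3.PcHomB
import Groth.Agent.Helper4.TildeExact

/-! Closed immersions of affine schemes with pseudo-coherent structure sheaf; independence of the
chart for relative pseudo-coherence. -/

set_option autoImplicit false
set_option linter.style.haveILetI false
set_option linter.unusedVariables false
set_option linter.unusedSectionVars false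
universe u

namespace Groth.Agent.Helper9.CI5

noncomputable section

open CategoryTheory CategoryTheory.Limits AlgebraicGeometry HomologicalComplex Pretriangulated
open Groth.Agent.Lead.PcLib Groth.Agent.Lead.PerfLib Groth.Agent.Helper9.CI1
  Groth.Agent.Helper9.CI2 Groth.Agent.Helper9.CI3 Groth.Agent.Helper9.CI4
  Scheme.Modules ZeroObject

attribute [local instance] HasDerivedCategory.standard

section Alg

open Groth.Agent.Helper3.PcHom MvPolynomial

variable {A B : Type u} [CommRing A] [CommRing B]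

/-- two charts are dominated by a common one -/
theorem exists_common (c : A →+* B) {n k : ℕ} (φ : MvPolynomial (Fin n) A →+* B)
    (ψ : MvPolynomial (Fin k) A →+* B) (hφ : Function.Surjective φ)
    (hφc : φ.comp MvPolynomial.C = c) (hψ : Function.Surjective ψ)
    (hψc : ψ.comp MvPolynomial.C = c) :
    ∃ (s : MvPolynomial (Fin k) (MvPolynomial (Fin n) A) →+* MvPolynomial (Fin n) A)
      (t : MvPolynomial (Fin k) (MvPolynomial (Fin n) A) →+* MvPolynomial (Fin k) A),
      Function.Surjective s ∧ Function.Surjective t ∧ φ.comp s = ψ.comp t ∧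
      Groth.Agent.Helper3.PcHom.Q s ∧ Groth.Agent.Helper3.PcHom.Q t := by
  choose p hp using fun j : Fin k => hφ (ψ (X j))
  choose q hq using fun i : Fin n => hψ (φ (X i))
  let s : MvPolynomial (Fin k) (MvPolynomial (Fin n) A) →+* (MvPolynomial (Fin n) A) := eval₂Hom (RingHom.id (MvPolynomial (Fin n) A)) p
  let g : (MvPolynomial (Fin n) A) →+* (MvPolynomial (Fin k) A) := eval₂Hom (C : A →+* (MvPolynomial (Fin k) A)) q
  let t : MvPolynomial (Fin k) (MvPolynomial (Fin n) A) →+* (MvPolynomial (Fin k) A) := eval₂Hom g (X : Fin k → (MvPolynomial (Fin k) A))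
  have hsC : s.comp (C : (MvPolynomial (Fin n) A) →+* MvPolynomial (Fin k) (MvPolynomial (Fin n) A)) = RingHom.id (MvPolynomial (Fin n) A) := by
    ext a : 1
    · simp [s]
    · simp [s]
  have htC : (t.comp (C : (MvPolynomial (Fin n) A) →+* MvPolynomial (Fin k) (MvPolynomial (Fin n) A))).comp (C : A →+* (MvPolynomial (Fin n) A)) =
      (C : A →+* (MvPolynomial (Fin k) A)) := by
    ext a
    simp [t, g]
  refine ⟨s, t, ?_, ?_, ?_, ?_, ?_⟩
  · intro a
    exact ⟨C a, by simp [s]⟩
  · intro b
    induction b using MvPolynomial.induction_on with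
    | C a => exact ⟨C (C a), by simp [t, g]⟩
    | add x y hx hy =>
      obtain ⟨x', rfl⟩ := hx
      obtain ⟨y', rfl⟩ := hy
      exact ⟨x' + y', map_add _ _ _⟩
    | mul_X x j hx =>
      obtain ⟨x', rfl⟩ := hx
      exact ⟨x' * X j, by simp [t]⟩
  · apply MvPolynomial.ringHom_ext
    · intro a
      have h1 : ((φ.comp s).comp (C : (MvPolynomial (Fin n) A) →+* MvPolynomial (Fin k) (MvPolynomial (Fin n) A))) =
          (ψ.comp t).comp (C : (MvPolynomial (Fin n) A) →+* MvPolynomial (Fin k) (MvPolynomial (Fin n) A)) := by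
        apply MvPolynomial.ringHom_ext
        · intro a'
          have e1 : φ (C a') = c a' := by rw [← hφc]; rfl
          have e2 : ψ (C a') = c a' := by rw [← hψc]; rfl
          simp [s, t, g, e1, e2]
        · intro i
          simp [s, t, g, hq]
      exact congrArg (fun r => r a) h1
    · intro j
      simp [s, t, hp]
  · -- `Q s`
    have h1 : Groth.Agent.Helper3.PcHom.Q (C : (MvPolynomial (Fin n) A) →+* MvPolynomial (Fin k) (MvPolynomial (Fin n) A)) :=
      (Q_algebraMap (A := (MvPolynomial (Fin n) A)) (B := MvPolynomial (Fin k) (MvPolynomial (Fin n) A))).2 (pcHom_mvPolynomial (MvPolynomial (Fin n) A) k)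
    have h2 : Groth.Agent.Helper3.PcHom.Q (s.comp (C : (MvPolynomial (Fin n) A) →+* MvPolynomial (Fin k) (MvPolynomial (Fin n) A))) := by
      rw [hsC]
      exact (Q_algebraMap (A := (MvPolynomial (Fin n) A)) (B := (MvPolynomial (Fin n) A))).2 (pcHom_self (MvPolynomial (Fin n) A))
    exact Q_cancel _ _ h1 h2
  · -- `Q t`
    have h0 : Groth.Agent.Helper3.PcHom.Q (C : A →+* (MvPolynomial (Fin n) A)) :=
      (Q_algebraMap (A := A) (B := (MvPolynomial (Fin n) A))).2 (pcHom_mvPolynomial A n)
    have h1 : Groth.Agent.Helper3.PcHom.Q (C : (MvPolynomial (Fin n) A) →+* MvPolynomial (Fin k) (MvPolynomial (Fin n) A)) :=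
      (Q_algebraMap (A := (MvPolynomial (Fin n) A)) (B := MvPolynomial (Fin k) (MvPolynomial (Fin n) A))).2 (pcHom_mvPolynomial (MvPolynomial (Fin n) A) k)
    have h01 := Q_comp _ _ h0 h1
    have h2 : Groth.Agent.Helper3.PcHom.Q
        (t.comp ((C : (MvPolynomial (Fin n) A) →+* MvPolynomial (Fin k) (MvPolynomial (Fin n) A)).comp (C : A →+* (MvPolynomial (Fin n) A)))) := by
      rw [← RingHom.comp_assoc, htC]
      exact (Q_algebraMap (A := A) (B := (MvPolynomial (Fin k) A))).2 (pcHom_mvPolynomial A k)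
    exact Q_cancel _ _ h01 h2

end Alg

section Spec

variable {T R : CommRingCat.{u}} (s : T ⟶ R)

/-- the direct image of the structure sheaf along `Spec R → Spec T` is pseudo-coherent when `R`
is a pseudo-coherent `T`-module -/
theorem HO_spec [IsClosedImmersion (Spec.map s)]
    (h : letI := s.hom.toAlgebra; DRing.IsPseudoCoherent' T (Dual.inD T R)) :
    HO (Spec.map s) := by
  intro m
  letI := s.hom.toAlgebra
  let N : ModuleCat.{u} T := (ModuleCat.restrictScalars s.hom).obj (ModuleCat.of R R)
  have e1 : (pushforward (Spec.map s)).obj (Coh.structureModule (Spec R)) ≅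
      (tilde.functor T).obj N := (Groth.Agent.Helper9.TilPush1.θ s).app (ModuleCat.of R R)
  have e2 : DCoh.inD (Spec T) ((tilde.functor T).obj N) ≅
      (DCoh.tildeD T).obj ((DerivedCategory.singleFunctor _ 0).obj N) :=
    (((tilde.functor T).mapDerivedCategorySingleFunctor 0).app N).symm
  have e3 : (DerivedCategory.singleFunctor (ModuleCat.{u} T) 0).obj N ≅ Dual.inD T R :=
    (DerivedCategory.singleFunctor (ModuleCat.{u} T) 0).mapIso
      (LinearEquiv.toModuleIso
        { toFun := fun x => x
          invFun := fun x => x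
          map_add' := fun _ _ => rfl
          map_smul' := fun _ _ => rfl
          left_inv := fun _ => rfl
          right_inv := fun _ => rfl })
  have h1 : DRing.IsPseudoCoherent T m (Dual.inD T R) :=
    (Groth.Agent.Helper3.DRingLib.isPseudoCoherent'_iff_forall _).1 h m
  have h2 : DCoh.IsPseudoCoherentD m ((DCoh.tildeD T).obj (Dual.inD T R)) :=
    (Groth.Agent.Helper9.TP3.isPseudoCoherentD_tildeD_iff T _ m).2 h1
  exact isPseudoCoherentD_of_iso ((DCoh.tildeD T).mapIso e3.symm ≪≫ e2.symm ≪≫
    (DerivedCategory.singleFunctor _ 0).mapIso e1.symm) h2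

end Spec

section Comp

variable {X Y Z : Scheme.{u}}

/-- the termwise direct image along a composite -/
def pushCxComp (f : X ⟶ Y) (g : Y ⟶ Z) (F : CochainComplex X.Modules ℤ) :
    (DerSch.pushCx g).obj ((DerSch.pushCx f).obj F) ≅ (DerSch.pushCx (f ≫ g)).obj F :=
  (NatIso.mapHomologicalComplex (pushforwardComp f g) (ComplexShape.up ℤ)).app F

/-- the termwise direct image along equal morphisms -/
def pushCxCongr {f g : X ⟶ Y} (h : f = g) (F : CochainComplex X.Modules ℤ) :
    (DerSch.pushCx f).obj F ≅ (DerSch.pushCx g).obj F :=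
  (NatIso.mapHomologicalComplex (pushforwardCongr h) (ComplexShape.up ℤ)).app F

/-- pseudo-coherence of a direct image may be tested after a further closed immersion whose
structure sheaf is pseudo-coherent -/
theorem pc_pushCx_comp_iff (c : X ⟶ Y) (i : Y ⟶ Z) [IsClosedImmersion i] (hO : HO i)
    (F : CochainComplex X.Modules ℤ) (m : ℤ) :
    DCoh.IsPseudoCoherentD m (DerivedCategory.Q.obj ((DerSch.pushCx c).obj F)) ↔
      DCoh.IsPseudoCoherentD m (DerivedCategory.Q.obj ((DerSch.pushCx (c ≫ i)).obj F)) := by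
  rw [Groth.Agent.Helper9.CI4.main i hO m ((DerSch.pushCx c).obj F)]
  exact ⟨fun h => isPseudoCoherentD_of_iso (DerivedCategory.Q.mapIso (pushCxComp c i F)) h,
    fun h => isPseudoCoherentD_of_iso (DerivedCategory.Q.mapIso (pushCxComp c i F)).symm h⟩

end Comp

section Chart

variable {X S : Scheme.{u}}

/-- a chart factors through a closed immersion of affine spaces -/
lemma chartImm_comp (U : X.Opens) {P P' : Type u} [CommRing P] [CommRing P']
    {B : Type u} (ρ : P →+* Γ(X, U)) (π : P' →+* P) :
    U.toSpecΓ ≫ Spec.map (CommRingCat.ofHom ρ) ≫ Spec.map (CommRingCat.ofHom π) =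
      U.toSpecΓ ≫ Spec.map (CommRingCat.ofHom (ρ.comp π)) := by
  rw [← Spec.map_comp]
  rfl

/-- **Independence of the chart** -/
theorem chartPC_of_chartPC (f : X ⟶ S) (U : X.Opens) (V : S.Opens) (h : U ≤ f ⁻¹ᵁ V) (m : ℤ)
    (E : DCoh.D X)
    {n : ℕ} (φ : MvPolynomial (Fin n) Γ(S, V) →+* Γ(X, U)) (hφ : DerSch.IsChart f U V h φ)
    (hE : DerSch.ChartPC m E U V φ)
    {k : ℕ} (ψ : MvPolynomial (Fin k) Γ(S, V) →+* Γ(X, U)) (hψ : DerSch.IsChart f U V h ψ) :
    DerSch.ChartPC m E U V ψ := by
  obtain ⟨s, t, hs, ht, hst, hQs, hQt⟩ :=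
    exists_common (f.appLE V U h).hom φ ψ hφ.1 hφ.2 hψ.1 hψ.2
  intro G hG
  have h1 := hE G hG
  let F := (DCoh.restrictCx U).obj G
  let s' : CommRingCat.of (MvPolynomial (Fin k) (MvPolynomial (Fin n) Γ(S, V))) ⟶
    CommRingCat.of (MvPolynomial (Fin n) Γ(S, V)) := CommRingCat.ofHom s
  let t' : CommRingCat.of (MvPolynomial (Fin k) (MvPolynomial (Fin n) Γ(S, V))) ⟶
    CommRingCat.of (MvPolynomial (Fin k) Γ(S, V)) := CommRingCat.ofHom t
  haveI : IsClosedImmersion (Spec.map s') := IsClosedImmersion.spec_of_surjective s' hs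
  haveI : IsClosedImmersion (Spec.map t') := IsClosedImmersion.spec_of_surjective t' ht
  have hOs : HO (Spec.map s') := by
    apply HO_spec
    letI := s.toAlgebra
    exact (Groth.Agent.Helper3.PcHom.pcHom_iff_of_surjective hs).1 hQs
  have hOt : HO (Spec.map t') := by
    apply HO_spec
    letI := t.toAlgebra
    exact (Groth.Agent.Helper3.PcHom.pcHom_iff_of_surjective ht).1 hQt
  have e : DerSch.chartImm U φ ≫ Spec.map s' = DerSch.chartImm U ψ ≫ Spec.map t' := by
    have hc : s' ≫ CommRingCat.ofHom φ = t' ≫ CommRingCat.ofHom ψ :=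
      CommRingCat.hom_ext hst
    dsimp only [DerSch.chartImm]
    rw [Category.assoc, Category.assoc, ← Spec.map_comp, ← Spec.map_comp, hc]
  have h2 := (pc_pushCx_comp_iff (DerSch.chartImm U φ) (Spec.map s') hOs F m).1 h1
  have h3 : DCoh.IsPseudoCoherentD m (DerivedCategory.Q.obj
      ((DerSch.pushCx (DerSch.chartImm U ψ ≫ Spec.map t')).obj F)) :=
    isPseudoCoherentD_of_iso (DerivedCategory.Q.mapIso (pushCxCongr e F)) h2
  exact (pc_pushCx_comp_iff (DerSch.chartImm U ψ) (Spec.map t') hOt F m).2 h3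

end Chart

end

end Groth.Agent.Helper9.CI5
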