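import Mathlib

/-! Base change of the direct image of modules along open immersions, for a cartesian square
of schemes whose horizontal arrows are open immersions:
`(i_* M)|_{X'} ≅ i'_* (M|_{Z'})`. -/

set_option autoImplicit false
universe u

open CategoryTheory Limits AlgebraicGeometry

namespace Groth.Agent.Helper9.OBC1

open Scheme.Modules

variable {Z X Z' X' : Scheme.{u}} (i : Z ⟶ X) (j : X' ⟶ X) [IsOpenImmersion j]
  (j' : Z' ⟶ Z) [IsOpenImmersion j'] (i' : Z' ⟶ X')

lemma isIso_presheaf_map_of_eq (M : Z.Modules) {U W : Z.Opens} (h : U = W) (a : U ⟶ W) :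
    IsIso (M.presheaf.map a.op) := by
  subst h
  have : a = 𝟙 _ := Subsingleton.elim _ _
  rw [this]
  simp only [op_id, CategoryTheory.Functor.map_id]
  infer_instance

/-- the first map -/
noncomputable def τ : pushforward i ⋙ restrictFunctor j ⟶
    (restrictFunctor j' ⋙ pushforward j') ⋙ pushforward i ⋙ restrictFunctor j :=
  Functor.whiskerRight (restrictAdjunction j').unit (pushforward i ⋙ restrictFunctor j)

lemma isIso_τ_app (hc : j'.opensRange = i ⁻¹ᵁ j.opensRange) (M : Z.Modules) :
    IsIso ((τ i j j').app M) := by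
  rw [Hom.isIso_iff_isIso_app]
  intro W
  have h : ((τ i j j').app M).app W =
      M.presheaf.map (homOfLE (j'.image_preimage_le (i ⁻¹ᵁ (j ''ᵁ W)))).op := rfl
  rw [h]
  apply isIso_presheaf_map_of_eq
  rw [Scheme.Hom.image_preimage_eq_opensRange_inf, hc]
  apply inf_eq_right.2
  exact Scheme.Hom.preimage_mono i (Scheme.Hom.image_le_opensRange j W)

/-- the remaining isomorphisms -/
noncomputable def σ (w : i' ≫ j = j' ≫ i) :
    (restrictFunctor j' ⋙ pushforward j') ⋙ pushforward i ⋙ restrictFunctor j ≅
      restrictFunctor j' ⋙ pushforward i' :=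
  Functor.associator _ _ _ ≪≫
  Functor.isoWhiskerLeft (restrictFunctor j')
    ((Functor.associator _ _ _).symm ≪≫
      Functor.isoWhiskerRight
        (pushforwardComp j' i ≪≫ pushforwardCongr w.symm ≪≫
          (pushforwardComp i' j).symm) (restrictFunctor j) ≪≫
      Functor.associator _ _ _ ≪≫
      Functor.isoWhiskerLeft (pushforward i') (restrictFunctorAdjCounitIso j) ≪≫
      Functor.rightUnitor _)

/-- base change along open immersions -/
noncomputable def iso (w : i' ≫ j = j' ≫ i) (hc : j'.opensRange = i ⁻¹ᵁ j.opensRange) :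
    pushforward i ⋙ restrictFunctor j ≅ restrictFunctor j' ⋙ pushforward i' :=
  haveI : IsIso (τ i j j') := by
    haveI : ∀ M, IsIso ((τ i j j').app M) := isIso_τ_app i j j' hc
    exact NatIso.isIso_of_isIso_app _
  asIso (τ i j j') ≪≫ σ i j j' i' w

end Groth.Agent.Helper9.OBC1
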