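import Mathlib
import Groth.Prelude.Def_DualSh
import Groth.Prelude.Def_DerSch2
import Groth.Agent.Helper9.CI5
import Groth.Agent.Helper9.OBC1

/-! Charts: the morphism to an affine scheme attached to a ring map to the sections over an open,
and its behaviour under localisation of the ring. -/

set_option autoImplicit false
set_option linter.style.haveILetI false
set_option linter.unusedVariables false
set_option linter.unusedSectionVars false
universe u

namespace Groth.Agent.Helper9.Chart1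

noncomputable section

open CategoryTheory CategoryTheory.Limits AlgebraicGeometry HomologicalComplex
open Groth.Agent.Lead.PcLib Groth.Agent.Lead.PerfLib Groth.Agent.Helper9.CI2
  Groth.Agent.Helper9.CI3 Groth.Agent.Helper9.CI5 Scheme.Modules

attribute [local instance] HasDerivedCategory.standard

variable {X : Scheme.{u}}

/-- the morphism `U ⟶ Spec P` attached to a ring map `P → Γ(X, U)` -/
def cMap (U : X.Opens) {P : Type u} [CommRing P] (ρ : P →+* Γ(X, U)) :
    (U : Scheme.{u}) ⟶ Spec (CommRingCat.of P) :=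
  U.toSpecΓ ≫ Spec.map (CommRingCat.ofHom ρ)

lemma chartImm_eq (U : X.Opens) {R : Type u} [CommRing R] {n : ℕ}
    (φ : MvPolynomial (Fin n) R →+* Γ(X, U)) : DerSch.chartImm U φ = cMap U φ := rfl

/-- pseudo-coherence of the direct image along `cMap` of the restriction of a complex -/
def PCvia (U : X.Opens) {P : Type u} [CommRing P] (ρ : P →+* Γ(X, U)) (m : ℤ)
    (G : CochainComplex X.Modules ℤ) : Prop :=
  DCoh.IsPseudoCoherentD m (DerivedCategory.Q.obj
    ((DerSch.pushCx (cMap U ρ)).obj ((DCoh.restrictCx U).obj G)))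

lemma chartPC_iff {S : Scheme.{u}} (m : ℤ) (K : DCoh.D X) (U : X.Opens) (V : S.Opens) {n : ℕ}
    (φ : MvPolynomial (Fin n) Γ(S, V) →+* Γ(X, U)) :
    DerSch.ChartPC m K U V φ ↔
      ∀ G : CochainComplex X.Modules ℤ, Nonempty (DCoh.toD X G ≅ K) → PCvia U φ m G :=
  Iff.rfl

lemma cMap_comp (U : X.Opens) {P P' : Type u} [CommRing P] [CommRing P']
    (ρ : P →+* Γ(X, U)) (π : P' →+* P) :
    cMap U (ρ.comp π) = cMap U ρ ≫ Spec.map (CommRingCat.ofHom π) := by
  dsimp only [cMap]
  rw [Category.assoc, ← Spec.map_comp]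
  rfl

/-- **change of presentation**: precomposing with a surjection `π : P' → P` such that `P` is a
pseudo-coherent `P'`-module does not change the test -/
theorem pcvia_comp_iff (U : X.Opens) {P P' : Type u} [CommRing P] [CommRing P']
    (ρ : P →+* Γ(X, U)) (π : P' →+* P) (hπ : Function.Surjective π)
    (hQ : Groth.Agent.Helper3.PcHom.Q π) (m : ℤ) (G : CochainComplex X.Modules ℤ) :
    PCvia U ρ m G ↔ PCvia U (ρ.comp π) m G := by
  let π' : CommRingCat.of P' ⟶ CommRingCat.of P := CommRingCat.ofHom π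
  haveI : IsClosedImmersion (Spec.map π') := IsClosedImmersion.spec_of_surjective π' hπ
  have hO : HO (Spec.map π') := by
    apply HO_spec
    letI := π.toAlgebra
    exact (Groth.Agent.Helper3.PcHom.pcHom_iff_of_surjective hπ).1 hQ
  unfold PCvia
  rw [pc_pushCx_comp_iff (cMap U ρ) (Spec.map π') hO _ m]
  have e := cMap_comp U ρ π
  exact ⟨fun h => isPseudoCoherentD_of_iso (DerivedCategory.Q.mapIso (pushCxCongr e.symm _)) h,
    fun h => isPseudoCoherentD_of_iso (DerivedCategory.Q.mapIso (pushCxCongr e _)) h⟩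

section Loc

variable {D U : X.Opens} (hDU : D ≤ U) {P P' : Type u} [CommRing P] [CommRing P']
  (ρ : P →+* Γ(X, U)) (ρ' : P' →+* Γ(X, D)) (ℓ : P →+* P')

/-- restriction of a restriction -/
def rcRestrictIso (G : CochainComplex X.Modules ℤ) :
    (Rc (X.homOfLE hDU)).obj ((DCoh.restrictCx U).obj G) ≅ (DCoh.restrictCx D).obj G :=
  (NatIso.mapHomologicalComplex
    ((restrictFunctorComp (X.homOfLE hDU) U.ι).symm ≪≫
      restrictFunctorCongr (X.homOfLE_ι hDU)) (ComplexShape.up ℤ)).app G

lemma cMap_loc_comm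
    (hc : ρ'.comp ℓ = (X.presheaf.map (homOfLE hDU).op).hom.comp ρ) :
    cMap D ρ' ≫ Spec.map (CommRingCat.ofHom ℓ) = X.homOfLE hDU ≫ cMap U ρ := by
  dsimp only [cMap]
  rw [Category.assoc, ← Spec.map_comp,
    ← Scheme.Opens.toSpecΓ_SpecMap_presheaf_map_assoc D U hDU, ← Spec.map_comp]
  congr 2
  exact CommRingCat.hom_ext hc

/-- **localisation**: the restriction of the direct image along `cMap U ρ` to the open
`Spec P' ⊆ Spec P` is the direct image along `cMap D ρ'` -/
def locIso [IsOpenImmersion (Spec.map (CommRingCat.ofHom ℓ))]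
    (hc : ρ'.comp ℓ = (X.presheaf.map (homOfLE hDU).op).hom.comp ρ)
    (hcart : (X.homOfLE hDU).opensRange =
      cMap U ρ ⁻¹ᵁ (Spec.map (CommRingCat.ofHom ℓ)).opensRange)
    (G : CochainComplex X.Modules ℤ) :
    (Rc (Spec.map (CommRingCat.ofHom ℓ))).obj
        ((DerSch.pushCx (cMap U ρ)).obj ((DCoh.restrictCx U).obj G)) ≅
      (DerSch.pushCx (cMap D ρ')).obj ((DCoh.restrictCx D).obj G) :=
  (NatIso.mapHomologicalComplex
    (Groth.Agent.Helper9.OBC1.iso (cMap U ρ) (Spec.map (CommRingCat.ofHom ℓ)) (X.homOfLE hDU)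
      (cMap D ρ') (cMap_loc_comm hDU ρ ρ' ℓ hc) hcart) (ComplexShape.up ℤ)).app
        ((DCoh.restrictCx U).obj G) ≪≫
    (DerSch.pushCx (cMap D ρ')).mapIso (rcRestrictIso hDU G)

/-- the test passes to a localisation -/
theorem pcvia_loc [IsOpenImmersion (Spec.map (CommRingCat.ofHom ℓ))]
    (hc : ρ'.comp ℓ = (X.presheaf.map (homOfLE hDU).op).hom.comp ρ)
    (hcart : (X.homOfLE hDU).opensRange =
      cMap U ρ ⁻¹ᵁ (Spec.map (CommRingCat.ofHom ℓ)).opensRange)
    (m : ℤ) (G : CochainComplex X.Modules ℤ) (h : PCvia U ρ m G) : PCvia D ρ' m G := by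
  have h1 := Groth.Agent.Helper9.TT6.isPseudoCoherentD_restrictD
    (Spec.map (CommRingCat.ofHom ℓ)) m _ h
  exact isPseudoCoherentD_of_iso (restrictDQ _ _ ≪≫
    DerivedCategory.Q.mapIso (locIso hDU ρ ρ' ℓ hc hcart G)) h1

end Loc

end

end Groth.Agent.Helper9.Chart1
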