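import Mathlib
import Groth.Agent.Helper3.PcHomB

/-! Algebra for charts: presentations of localisations. -/

set_option autoImplicit false
set_option linter.style.haveILetI false
set_option linter.unusedVariables false
set_option linter.unusedSectionVars false
universe u

namespace Groth.Agent.Helper9.Chart2

noncomputable section

open Groth.Agent.Helper3.PcHom MvPolynomial

variable (A : Type u) [CommRing A] (n : ℕ)

/-- `A[x_0, …, x_n] → A[x_1, …, x_n]_g`, `x_0 ↦ 1/g` -/
def piLoc (g : MvPolynomial (Fin n) A) :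
    MvPolynomial (Fin (n + 1)) A →+* Localization.Away g :=
  (Polynomial.eval₂RingHom (algebraMap (MvPolynomial (Fin n) A) (Localization.Away g))
    (IsLocalization.Away.invSelf g)).comp (finSuccEquiv A n).toRingEquiv.toRingHom

lemma piLoc_C (g : MvPolynomial (Fin n) A) :
    (piLoc A n g).comp (C : A →+* MvPolynomial (Fin (n + 1)) A) =
      (algebraMap (MvPolynomial (Fin n) A) (Localization.Away g)).comp C := by
  refine RingHom.ext fun a => ?_
  simp [piLoc, finSuccEquiv_apply]

lemma piLoc_surjective (g : MvPolynomial (Fin n) A) : Function.Surjective (piLoc A n g) := by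
  intro y
  obtain ⟨p, k, rfl⟩ : ∃ (p : MvPolynomial (Fin n) A) (k : ℕ),
      y = algebraMap _ (Localization.Away g) p * (IsLocalization.Away.invSelf g) ^ k := by
    obtain ⟨⟨p, ⟨_, k, rfl⟩⟩, hy⟩ := IsLocalization.surj (Submonoid.powers g) y
    refine ⟨p, k, ?_⟩
    dsimp at hy
    have h1 : algebraMap _ (Localization.Away g) g * IsLocalization.Away.invSelf g = 1 :=
      IsLocalization.Away.mul_invSelf g
    calc y = y * (algebraMap _ (Localization.Away g) g * IsLocalization.Away.invSelf g) ^ k := by
          rw [h1, one_pow, mul_one]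
      _ = (y * algebraMap _ (Localization.Away g) (g ^ k)) * IsLocalization.Away.invSelf g ^ k := by
          rw [mul_pow, map_pow]; ring
      _ = _ := by rw [hy]
  refine ⟨(finSuccEquiv A n).symm (Polynomial.C p * Polynomial.X ^ k), ?_⟩
  simp [piLoc]

lemma Q_piLoc (g : MvPolynomial (Fin n) A) : Q (piLoc A n g) := by
  have h1 : Q (C : A →+* MvPolynomial (Fin (n + 1)) A) :=
    (Q_algebraMap (A := A) (B := MvPolynomial (Fin (n + 1)) A)).2 (pcHom_mvPolynomial A (n + 1))
  have h2 : Q ((piLoc A n g).comp (C : A →+* MvPolynomial (Fin (n + 1)) A)) := by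
    rw [piLoc_C]
    exact Q_comp _ _ ((Q_algebraMap (A := A) (B := MvPolynomial (Fin n) A)).2
      (pcHom_mvPolynomial A n)) (Q_holdsForLocalizationAway _ g)
  exact Q_cancel _ _ h1 h2

variable {A} (r : A) (A' : Type u) [CommRing A'] [Algebra A A'] [IsLocalization.Away r A']

/-- `A[x_0, …, x_n] → A_r[x_1, …, x_n]`, `x_0 ↦ 1/r` -/
def piBase : MvPolynomial (Fin (n + 1)) A →+* MvPolynomial (Fin n) A' :=
  (Polynomial.eval₂RingHom (MvPolynomial.map (algebraMap A A'))
    (C (IsLocalization.Away.invSelf (S := A') r))).comp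
      (finSuccEquiv A n).toRingEquiv.toRingHom

lemma piBase_C : (piBase n r A').comp (C : A →+* MvPolynomial (Fin (n + 1)) A) =
    (C : A' →+* MvPolynomial (Fin n) A').comp (algebraMap A A') := by
  refine RingHom.ext fun a => ?_
  simp [piBase, finSuccEquiv_apply]

lemma piBase_surjective : Function.Surjective (piBase n r A') := by
  intro y
  induction y using MvPolynomial.induction_on with
  | C a' =>
    obtain ⟨⟨a, ⟨_, k, rfl⟩⟩, hy⟩ := IsLocalization.surj (Submonoid.powers r) a'
    dsimp at hy
    have h1 : algebraMap A A' r * IsLocalization.Away.invSelf (S := A') r = 1 :=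
      IsLocalization.Away.mul_invSelf r
    have h2 : a' = algebraMap A A' a * IsLocalization.Away.invSelf (S := A') r ^ k := by
      calc a' = a' * (algebraMap A A' r * IsLocalization.Away.invSelf (S := A') r) ^ k := by
            rw [h1, one_pow, mul_one]
        _ = (a' * algebraMap A A' (r ^ k)) * IsLocalization.Away.invSelf (S := A') r ^ k := by
            rw [mul_pow, map_pow]; ring
        _ = _ := by rw [hy]
    refine ⟨(finSuccEquiv A n).symm (Polynomial.C (C a) * Polynomial.X ^ k), ?_⟩
    simp [piBase, h2]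
  | add x y hx hy =>
    obtain ⟨x', rfl⟩ := hx
    obtain ⟨y', rfl⟩ := hy
    exact ⟨x' + y', map_add _ _ _⟩
  | mul_X x j hx =>
    obtain ⟨x', rfl⟩ := hx
    refine ⟨x' * (finSuccEquiv A n).symm (Polynomial.C (X j)), ?_⟩
    simp [piBase]

lemma Q_piBase : Q (piBase n r A') := by
  have h1 : Q (C : A →+* MvPolynomial (Fin (n + 1)) A) :=
    (Q_algebraMap (A := A) (B := MvPolynomial (Fin (n + 1)) A)).2 (pcHom_mvPolynomial A (n + 1))
  have h2 : Q ((piBase n r A').comp (C : A →+* MvPolynomial (Fin (n + 1)) A)) := by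
    rw [piBase_C]
    exact Q_comp _ _ (Q_holdsForLocalizationAway _ r)
      ((Q_algebraMap (A := A') (B := MvPolynomial (Fin n) A')).2 (pcHom_mvPolynomial A' n))
  exact Q_cancel _ _ h1 h2

end

end Groth.Agent.Helper9.Chart2
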