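import Mathlib
import Groth.Prelude.Def_DualSh
import Groth.Prelude.Def_DerSch2
import Groth.Agent.Helper9.Chart1
import Groth.Agent.Helper9.Chart2

/-! Charts: localisation on the source. -/

set_option autoImplicit false
set_option linter.style.haveILetI false
set_option linter.unusedVariables false
set_option linter.unusedSectionVars false
universe u

namespace Groth.Agent.Helper9.Chart3

noncomputable section

open CategoryTheory CategoryTheory.Limits AlgebraicGeometry HomologicalComplex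
open Groth.Agent.Lead.PcLib Groth.Agent.Lead.PerfLib Groth.Agent.Helper9.CI2
  Groth.Agent.Helper9.CI3 Groth.Agent.Helper9.CI5 Groth.Agent.Helper9.Chart1
  Groth.Agent.Helper9.Chart2 Scheme.Modules

attribute [local instance] HasDerivedCategory.standard

variable {X S : Scheme.{u}}

/-- `K` admits a chart on `(U, V)` along which it is `m`-pseudo-coherent -/
def HasChart (f : X ⟶ S) (m : ℤ) (K : DCoh.D X) (U : X.Opens) (V : S.Opens) : Prop :=
  ∃ (h : U ≤ f ⁻¹ᵁ V) (n : ℕ) (φ : MvPolynomial (Fin n) Γ(S, V) →+* Γ(X, U)),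
    DerSch.IsChart f U V h φ ∧ DerSch.ChartPC m K U V φ

section SourceLoc

variable {U : X.Opens} {P : Type u} [CommRing P] (ρ : P →+* Γ(X, U)) (g : P)

/-- restriction to the basic open -/
abbrev resD : Γ(X, U) →+* Γ(X, X.basicOpen (ρ g)) :=
  (X.presheaf.map (homOfLE (X.basicOpen_le (ρ g))).op).hom

lemma isUnit_resD : IsUnit ((resD ρ g).comp ρ g) :=
  RingedSpace.isUnit_res_basicOpen X.toRingedSpace (ρ g)

/-- the induced map from the localisation to the sections over the basic open -/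
def rhoLoc : Localization.Away g →+* Γ(X, X.basicOpen (ρ g)) :=
  IsLocalization.Away.lift g (isUnit_resD ρ g)

lemma rhoLoc_comp :
    (rhoLoc ρ g).comp (algebraMap P (Localization.Away g)) = (resD ρ g).comp ρ :=
  IsLocalization.Away.lift_comp g (isUnit_resD ρ g)

lemma rhoLoc_surjective (hU : IsAffineOpen U) (hρ : Function.Surjective ρ) :
    Function.Surjective (rhoLoc ρ g) := by
  haveI := hU.isLocalization_basicOpen (ρ g)
  intro y
  obtain ⟨⟨b, ⟨_, k, rfl⟩⟩, hy⟩ := IsLocalization.surj (Submonoid.powers (ρ g)) y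
  obtain ⟨p, rfl⟩ := hρ b
  have hy' : y * (resD ρ g (ρ g)) ^ k = resD ρ g (ρ p) := by
    rw [← map_pow]
    exact hy
  have h1 : rhoLoc ρ g (IsLocalization.Away.invSelf g) * resD ρ g (ρ g) = 1 := by
    have := congrArg (fun r => r g) (rhoLoc_comp ρ g)
    dsimp at this
    rw [← this, ← map_mul, mul_comm, IsLocalization.Away.mul_invSelf, map_one]
  refine ⟨algebraMap P (Localization.Away g) p * (IsLocalization.Away.invSelf g) ^ k, ?_⟩
  have h2 : rhoLoc ρ g (algebraMap P (Localization.Away g) p) = resD ρ g (ρ p) :=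
    congrArg (fun r => r p) (rhoLoc_comp ρ g)
  rw [map_mul, map_pow, h2, ← hy', mul_assoc, ← mul_pow, mul_comm (resD ρ g (ρ g)), h1, one_pow,
    mul_one]

lemma cartesian_loc :
    (X.homOfLE (X.basicOpen_le (ρ g))).opensRange =
      cMap U ρ ⁻¹ᵁ (Spec.map (CommRingCat.ofHom
        (algebraMap P (Localization.Away g)))).opensRange := by
  rw [Scheme.opensRange_homOfLE]
  have h1 : (Spec.map (CommRingCat.ofHom (algebraMap P (Localization.Away g)))).opensRange =
      (PrimeSpectrum.basicOpen g : (Spec (CommRingCat.of P)).Opens) :=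
    Scheme.Hom.opensRange_localizationAway (R := CommRingCat.of P) g
  have h2 : cMap U ρ ⁻¹ᵁ (PrimeSpectrum.basicOpen g : (Spec (CommRingCat.of P)).Opens) =
      U.toSpecΓ ⁻¹ᵁ (PrimeSpectrum.basicOpen (ρ g)) := rfl
  rw [h1, h2]
  exact (Scheme.Opens.toSpecΓ_preimage_basicOpen U (ρ g)).symm

/-- the test along `ρ` implies the test along the localised map -/
theorem pcvia_rhoLoc (m : ℤ) (G : CochainComplex X.Modules ℤ) (h : PCvia U ρ m G) :
    PCvia (X.basicOpen (ρ g)) (rhoLoc ρ g) m G :=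
  pcvia_loc (X.basicOpen_le (ρ g)) ρ (rhoLoc ρ g) (algebraMap P (Localization.Away g))
    (rhoLoc_comp ρ g) (cartesian_loc ρ g) m G h

/-- the restriction of the direct image to the basic open of `Spec P` -/
def locIso' (G : CochainComplex X.Modules ℤ) :
    (Rc (Spec.map (CommRingCat.ofHom (algebraMap P (Localization.Away g))))).obj
        ((DerSch.pushCx (cMap U ρ)).obj ((DCoh.restrictCx U).obj G)) ≅
      (DerSch.pushCx (cMap (X.basicOpen (ρ g)) (rhoLoc ρ g))).obj
        ((DCoh.restrictCx (X.basicOpen (ρ g))).obj G) :=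
  locIso (X.basicOpen_le (ρ g)) ρ (rhoLoc ρ g) (algebraMap P (Localization.Away g))
    (rhoLoc_comp ρ g) (cartesian_loc ρ g) G

lemma cMap_mem_basicOpen_iff (x : (U : Scheme.{u})) :
    (cMap U ρ).base x ∈ (PrimeSpectrum.basicOpen g : (Spec (CommRingCat.of P)).Opens) ↔
      U.ι.base x ∈ X.basicOpen (ρ g) := by
  have h2 : cMap U ρ ⁻¹ᵁ (PrimeSpectrum.basicOpen g : (Spec (CommRingCat.of P)).Opens) =
      U.ι ⁻¹ᵁ X.basicOpen (ρ g) :=
    (rfl : cMap U ρ ⁻¹ᵁ (PrimeSpectrum.basicOpen g : (Spec (CommRingCat.of P)).Opens) =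
      U.toSpecΓ ⁻¹ᵁ (PrimeSpectrum.basicOpen (ρ g))).trans
      (Scheme.Opens.toSpecΓ_preimage_basicOpen U (ρ g))
  exact (SetLike.ext_iff.1 h2 x)

end SourceLoc

section ChartLoc

variable (f : X ⟶ S) {U : X.Opens} (hU : IsAffineOpen U) {V : S.Opens} (h : U ≤ f ⁻¹ᵁ V) {n : ℕ}
  (φ : MvPolynomial (Fin n) Γ(S, V) →+* Γ(X, U)) (g : MvPolynomial (Fin n) Γ(S, V))

/-- the localised chart -/
def psiLoc : MvPolynomial (Fin (n + 1)) Γ(S, V) →+* Γ(X, X.basicOpen (φ g)) :=
  (rhoLoc φ g).comp (piLoc Γ(S, V) n g)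

include hU in
lemma isChart_psiLoc (hφ : DerSch.IsChart f U V h φ) :
    DerSch.IsChart f (X.basicOpen (φ g)) V ((X.basicOpen_le _).trans h) (psiLoc φ g) := by
  refine ⟨(rhoLoc_surjective φ g hU hφ.1).comp (piLoc_surjective _ n g), ?_⟩
  dsimp only [psiLoc]
  rw [RingHom.comp_assoc, piLoc_C, ← RingHom.comp_assoc, rhoLoc_comp, RingHom.comp_assoc, hφ.2]
  have := f.appLE_map (U := V) (V := U) h (homOfLE (X.basicOpen_le (φ g))).op
  rw [← this]
  rfl

lemma pcvia_psiLoc_iff (m : ℤ) (G : CochainComplex X.Modules ℤ) :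
    PCvia (X.basicOpen (φ g)) (psiLoc φ g) m G ↔ PCvia (X.basicOpen (φ g)) (rhoLoc φ g) m G :=
  (pcvia_comp_iff (X.basicOpen (φ g)) (rhoLoc φ g) (piLoc Γ(S, V) n g)
    (piLoc_surjective _ n g) (Q_piLoc _ n g) m G).symm

/-- **localisation of a chart on the source** -/
theorem chartPC_psiLoc (m : ℤ) (K : DCoh.D X) (hc : DerSch.ChartPC m K U V φ) :
    DerSch.ChartPC m K (X.basicOpen (φ g)) V (psiLoc φ g) := by
  intro G hG
  exact (pcvia_psiLoc_iff φ g m G).2 (pcvia_rhoLoc φ g m G (hc G hG))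

include hU in
/-- **gluing of charts on the source** -/
theorem chartPC_of_local (hφ : DerSch.IsChart f U V h φ) (m : ℤ) (K : DCoh.D X)
    (hloc : ∀ x : X, x ∈ U → ∃ g : MvPolynomial (Fin n) Γ(S, V),
      x ∈ X.basicOpen (φ g) ∧ HasChart f m K (X.basicOpen (φ g)) V) :
    DerSch.ChartPC m K U V φ := by
  intro G hG
  haveI : IsClosedImmersion (cMap U φ) :=
    Groth.Agent.Helper9.ClImm3.isClosedImmersion_chartImm U hU φ hφ.1
  show DCoh.IsPseudoCoherentD m _
  refine Groth.Agent.Helper9.FP1.isPseudoCoherentD_of_local m _ (fun y => ?_)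
  by_cases hy : y ∈ Set.range (cMap U φ).base
  · obtain ⟨x, rfl⟩ := hy
    obtain ⟨g, hxg, h', n', ψ, hψ, hcψ⟩ := hloc (U.ι.base x) x.2
    have h1 : DerSch.ChartPC m K (X.basicOpen (φ g)) V (psiLoc φ g) :=
      chartPC_of_chartPC f _ V h' m K ψ hψ hcψ (psiLoc φ g) (isChart_psiLoc f hU h φ g hφ)
    have h2 : PCvia (X.basicOpen (φ g)) (rhoLoc φ g) m G :=
      (pcvia_psiLoc_iff φ g m G).1 (h1 G hG)
    refine ⟨_, Spec.map (CommRingCat.ofHom (algebraMap _ (Localization.Away g))), inferInstance,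
      ?_, ?_⟩
    · have h3 : (cMap U φ).base x ∈ (Spec.map (CommRingCat.ofHom
          (algebraMap (MvPolynomial (Fin n) Γ(S, V)) (Localization.Away g)))).opensRange := by
        have e : (Spec.map (CommRingCat.ofHom (algebraMap (MvPolynomial (Fin n) Γ(S, V))
            (Localization.Away g)))).opensRange =
            (PrimeSpectrum.basicOpen g :
              (Spec (CommRingCat.of (MvPolynomial (Fin n) Γ(S, V)))).Opens) :=
          Scheme.Hom.opensRange_localizationAway
            (R := CommRingCat.of (MvPolynomial (Fin n) Γ(S, V))) g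
        rw [e]
        exact (cMap_mem_basicOpen_iff φ g x).2 hxg
      exact h3
    · exact isPseudoCoherentD_of_iso
        (restrictDQ _ _ ≪≫ DerivedCategory.Q.mapIso (locIso' φ g G)).symm h2
  · let W : (Spec (CommRingCat.of (MvPolynomial (Fin n) Γ(S, V)))).Opens :=
      ⟨(Set.range (cMap U φ).base)ᶜ,
        (Scheme.Hom.isClosedEmbedding (cMap U φ)).isClosed_range.isOpen_compl⟩
    have hW : cMap U φ ⁻¹ᵁ W = ⊥ := by
      ext z
      simp only [TopologicalSpace.Opens.coe_bot, Set.mem_empty_iff_false, iff_false]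
      intro hz
      exact hz ⟨z, rfl⟩
    refine ⟨W, W.ι, inferInstance, ⟨⟨y, hy⟩, rfl⟩, ?_⟩
    have h0 : IsZero (DerivedCategory.Q.obj ((Rc W.ι).obj ((DerSch.pushCx (cMap U φ)).obj
        ((DCoh.restrictCx U).obj G)))) :=
      DerivedCategory.Q.map_isZero (isZero_rc_pushCx (cMap U φ) W hW _)
    exact isPseudoCoherentD_of_iso (restrictDQ W.ι _).symm
      (Groth.Agent.Helper9.RelTor4.pc_of_isZero h0 m)

end ChartLoc

end

end Groth.Agent.Helper9.Chart3
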