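import Mathlib
import Groth.Prelude.Def_DualSh
import Groth.Prelude.Def_DerSch2
import Groth.Agent.Helper9.Chart3

/-! Charts: localisation on the base. -/

set_option autoImplicit false
set_option linter.style.haveILetI false
set_option linter.unusedVariables false
set_option linter.unusedSectionVars false
universe u

namespace Groth.Agent.Helper9.Chart4

noncomputable section

open CategoryTheory CategoryTheory.Limits AlgebraicGeometry HomologicalComplex
open Groth.Agent.Lead.PcLib Groth.Agent.Lead.PerfLib Groth.Agent.Helper9.CI2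
  Groth.Agent.Helper9.CI3 Groth.Agent.Helper9.CI5 Groth.Agent.Helper9.Chart1
  Groth.Agent.Helper9.Chart2 Groth.Agent.Helper9.Chart3 Scheme.Modules MvPolynomial

attribute [local instance] HasDerivedCategory.standard

variable {X S : Scheme.{u}} (f : X ⟶ S) {U : X.Opens} {V : S.Opens} (hV : IsAffineOpen V)
  (r : Γ(S, V))

section Enlarge

variable (h : U ≤ f ⁻¹ᵁ S.basicOpen r) {n : ℕ}
  (φ : MvPolynomial (Fin n) Γ(S, S.basicOpen r) →+* Γ(X, U))

include hV in
/-- **enlarging the base of a chart** from a basic open to the affine open -/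
theorem exists_chart_enlarge (hφ : DerSch.IsChart f U (S.basicOpen r) h φ) (m : ℤ)
    (K : DCoh.D X) (hc : DerSch.ChartPC m K U (S.basicOpen r) φ) :
    ∃ ψ : MvPolynomial (Fin (n + 1)) Γ(S, V) →+* Γ(X, U),
      DerSch.IsChart f U V (h.trans (Scheme.Hom.preimage_mono f (S.basicOpen_le r))) ψ ∧
        DerSch.ChartPC m K U V ψ := by
  haveI := hV.isLocalization_basicOpen r
  refine ⟨φ.comp (piBase n r Γ(S, S.basicOpen r)), ⟨?_, ?_⟩, ?_⟩
  · exact hφ.1.comp (piBase_surjective n r _)
  · rw [RingHom.comp_assoc, piBase_C, ← RingHom.comp_assoc, hφ.2]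
    have := f.map_appLE (U := S.basicOpen r) (V := U) h (homOfLE (S.basicOpen_le r)).op
    rw [← this]
    rfl
  · intro G hG
    exact (pcvia_comp_iff U φ (piBase n r Γ(S, S.basicOpen r)) (piBase_surjective n r _)
      (Q_piBase n r _) m G).1 (hc G hG)

end Enlarge

section Shrink

variable (h : U ≤ f ⁻¹ᵁ V) (hUr : U ≤ f ⁻¹ᵁ S.basicOpen r) {n : ℕ}
  (φ : MvPolynomial (Fin n) Γ(S, V) →+* Γ(X, U))

/-- the chart over the basic open -/
def phiShrink : MvPolynomial (Fin n) Γ(S, S.basicOpen r) →+* Γ(X, U) :=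
  eval₂Hom (f.appLE (S.basicOpen r) U hUr).hom (fun i => φ (MvPolynomial.X i))

/-- the localisation map of polynomial rings -/
abbrev ellMap : MvPolynomial (Fin n) Γ(S, V) →+* MvPolynomial (Fin n) Γ(S, S.basicOpen r) :=
  MvPolynomial.map (algebraMap Γ(S, V) Γ(S, S.basicOpen r))

lemma phiShrink_comp (hφ : DerSch.IsChart f U V h φ) :
    (phiShrink f r hUr φ).comp (ellMap r) = φ := by
  apply MvPolynomial.ringHom_ext
  · intro a
    have h1 : φ (C a) = (f.appLE V U h).hom a := congrArg (fun t => t a) hφ.2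
    have h2 := f.map_appLE (U := S.basicOpen r) (V := U) hUr (homOfLE (S.basicOpen_le r)).op
    have h3 : (f.appLE (S.basicOpen r) U hUr).hom (algebraMap Γ(S, V) Γ(S, S.basicOpen r) a) =
        (f.appLE V U h).hom a := by
      rw [← h2]
      rfl
    simp [phiShrink, h1, h3]
  · intro i
    simp [phiShrink]

lemma isChart_phiShrink (hφ : DerSch.IsChart f U V h φ) :
    DerSch.IsChart f U (S.basicOpen r) hUr (phiShrink f r hUr φ) := by
  refine ⟨?_, ?_⟩
  · intro b
    obtain ⟨p, rfl⟩ := hφ.1 b
    refine ⟨ellMap r p, ?_⟩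
    exact congrArg (fun t => t p) (phiShrink_comp f r h hUr φ hφ)
  · refine RingHom.ext fun a => ?_
    simp [phiShrink]

attribute [local instance] MvPolynomial.algebraMvPolynomial in
include hV in
lemma isLocalization_ell :
    IsLocalization.Away (C r : MvPolynomial (Fin n) Γ(S, V))
      (MvPolynomial (Fin n) Γ(S, S.basicOpen r)) := by
  haveI := hV.isLocalization_basicOpen r
  have h1 : IsLocalization ((Submonoid.powers r).map (C (σ := Fin n)))
      (MvPolynomial (Fin n) Γ(S, S.basicOpen r)) := MvPolynomial.isLocalization _ _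
  have h2 : (Submonoid.powers r).map (C (σ := Fin n) : Γ(S, V) →+* _) =
      Submonoid.powers (C r : MvPolynomial (Fin n) Γ(S, V)) := by
    rw [Submonoid.map_powers]
  rw [h2] at h1
  exact h1

include hV in
/-- **shrinking the base of a chart** to a basic open -/
theorem chartPC_phiShrink (hφ : DerSch.IsChart f U V h φ) (m : ℤ)
    (K : DCoh.D X) (hc : DerSch.ChartPC m K U V φ) :
    DerSch.ChartPC m K U (S.basicOpen r) (phiShrink f r hUr φ) := by
  letI : Algebra (MvPolynomial (Fin n) Γ(S, V)) (MvPolynomial (Fin n) Γ(S, S.basicOpen r)) :=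
    MvPolynomial.algebraMvPolynomial
  haveI := isLocalization_ell (n := n) hV r
  haveI : IsOpenImmersion (Spec.map (CommRingCat.ofHom (ellMap (n := n) r))) :=
    IsOpenImmersion.of_isLocalization (C r : MvPolynomial (Fin n) Γ(S, V))
  intro G hG
  refine pcvia_loc (le_refl U) φ (phiShrink f r hUr φ) (ellMap r) ?_ ?_ m G (hc G hG)
  · rw [phiShrink_comp f r h hUr φ hφ]
    refine RingHom.ext fun a => ?_
    have : X.presheaf.map (homOfLE (le_refl U)).op = 𝟙 _ := by
      rw [show homOfLE (le_refl U) = 𝟙 U from rfl, op_id, X.presheaf.map_id]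
    rw [this]
    rfl
  · rw [Scheme.opensRange_homOfLE]
    have h1 : (Spec.map (CommRingCat.ofHom (ellMap (n := n) r))).opensRange =
        (PrimeSpectrum.basicOpen (C r : MvPolynomial (Fin n) Γ(S, V)) :
          (Spec (CommRingCat.of (MvPolynomial (Fin n) Γ(S, V)))).Opens) :=
      TopologicalSpace.Opens.ext (PrimeSpectrum.localization_away_comap_range
        (MvPolynomial (Fin n) Γ(S, S.basicOpen r)) (C r : MvPolynomial (Fin n) Γ(S, V)))
    have h2 : cMap U φ ⁻¹ᵁ (PrimeSpectrum.basicOpen (C r : MvPolynomial (Fin n) Γ(S, V)) :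
        (Spec (CommRingCat.of (MvPolynomial (Fin n) Γ(S, V)))).Opens) =
        U.ι ⁻¹ᵁ X.basicOpen (φ (C r)) :=
      (rfl : cMap U φ ⁻¹ᵁ (PrimeSpectrum.basicOpen (C r : MvPolynomial (Fin n) Γ(S, V)) :
        (Spec (CommRingCat.of (MvPolynomial (Fin n) Γ(S, V)))).Opens) =
        U.toSpecΓ ⁻¹ᵁ (PrimeSpectrum.basicOpen (φ (C r)))).trans
        (Scheme.Opens.toSpecΓ_preimage_basicOpen U (φ (C r)))
    rw [h1, h2]
    have h3 : φ (C r) = (f.appLE V U h).hom r := congrArg (fun t => t r) hφ.2
    have h4 : X.basicOpen (φ (C r)) = U := by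
      rw [h3]
      have := Scheme.basicOpen_appLE f U V h r
      rw [this]
      exact inf_eq_left.2 hUr
    rw [h4]

end Shrink

end

end Groth.Agent.Helper9.Chart4
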