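import Mathlib
import Groth.Prelude.Def_DualSh
import Groth.Prelude.Def_DerSch2
import Groth.Agent.Helper9.Chart4

/-! Charts: standard open coverings of the source. -/

set_option autoImplicit false
set_option linter.style.haveILetI false
set_option linter.unusedVariables false
set_option linter.unusedSectionVars false
universe u

namespace Groth.Agent.Helper9.Chart5

noncomputable section

open CategoryTheory CategoryTheory.Limits AlgebraicGeometry HomologicalComplex
open Groth.Agent.Lead.PcLib Groth.Agent.Lead.PerfLib Groth.Agent.Helper9.Chart1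
  Groth.Agent.Helper9.Chart2 Groth.Agent.Helper9.Chart3 Groth.Agent.Helper9.Chart4
  Scheme.Modules

attribute [local instance] HasDerivedCategory.standard

variable {X S : Scheme.{u}} (f : X ⟶ S)

/-- a chart exists as soon as the ring map is of finite type -/
theorem exists_isChart {U : X.Opens} {V : S.Opens} (h : U ≤ f ⁻¹ᵁ V)
    (hft : (f.appLE V U h).hom.FiniteType) :
    ∃ (n : ℕ) (φ : MvPolynomial (Fin n) Γ(S, V) →+* Γ(X, U)), DerSch.IsChart f U V h φ := by
  letI := (f.appLE V U h).hom.toAlgebra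
  have h1 : Algebra.FiniteType Γ(S, V) Γ(X, U) := hft
  obtain ⟨n, φ, hφ⟩ := Algebra.FiniteType.iff_quotient_mvPolynomial''.1 h1
  refine ⟨n, φ.toRingHom, hφ, ?_⟩
  refine RingHom.ext fun a => ?_
  exact φ.commutes a

/-- `HasChart` passes to basic opens of an affine open of the source -/
theorem hasChart_basicOpen {U : X.Opens} (hU : IsAffineOpen U) {V : S.Opens} (m : ℤ)
    (K : DCoh.D X) (hc : HasChart f m K U V) (g : Γ(X, U)) :
    HasChart f m K (X.basicOpen g) V := by
  obtain ⟨h, n, φ, hφ, hcφ⟩ := hc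
  obtain ⟨g', rfl⟩ := hφ.1 g
  exact ⟨(X.basicOpen_le _).trans h, n + 1, psiLoc φ g', isChart_psiLoc f hU h φ g' hφ,
    chartPC_psiLoc φ g' m K hcφ⟩

/-- every chart on an affine open passes the test as soon as the basic opens of a standard
covering admit charts passing the test -/
theorem chartPC_of_cover {U : X.Opens} (hU : IsAffineOpen U) {V : S.Opens} (h : U ≤ f ⁻¹ᵁ V)
    (m : ℤ) (K : DCoh.D X) {n : ℕ} (φ : MvPolynomial (Fin n) Γ(S, V) →+* Γ(X, U))
    (hφ : DerSch.IsChart f U V h φ)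
    (hloc : ∀ x : X, x ∈ U → ∃ g : Γ(X, U), x ∈ X.basicOpen g ∧
      HasChart f m K (X.basicOpen g) V) :
    DerSch.ChartPC m K U V φ := by
  apply chartPC_of_local f hU h φ hφ m K
  intro x hx
  obtain ⟨g, hxg, hg⟩ := hloc x hx
  obtain ⟨g', rfl⟩ := hφ.1 g
  exact ⟨g', hxg, hg⟩

theorem hasChart_of_cover {U : X.Opens} (hU : IsAffineOpen U) {V : S.Opens} (h : U ≤ f ⁻¹ᵁ V)
    (hft : (f.appLE V U h).hom.FiniteType) (m : ℤ) (K : DCoh.D X)
    (hloc : ∀ x : X, x ∈ U → ∃ g : Γ(X, U), x ∈ X.basicOpen g ∧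
      HasChart f m K (X.basicOpen g) V) :
    HasChart f m K U V := by
  obtain ⟨n, φ, hφ⟩ := exists_isChart f h hft
  exact ⟨h, n, φ, hφ, chartPC_of_cover f hU h m K φ hφ hloc⟩

/-- the statement on standard open coverings -/
theorem cover_iff (U : X.affineOpens) (V : S.affineOpens)
    (h : (U : X.Opens) ≤ f ⁻¹ᵁ (V : S.Opens))
    (hft : (f.appLE (V : S.Opens) (U : X.Opens) h).hom.FiniteType) (m : ℤ) (E : DCoh.D X)
    {k : ℕ} (g : Fin k → Γ(X, (U : X.Opens))) (hg : Ideal.span (Set.range g) = ⊤) :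
    (∀ j : Fin k, ∃ (n : ℕ)
        (φ : MvPolynomial (Fin n) Γ(S, (V : S.Opens)) →+* Γ(X, X.basicOpen (g j))),
        DerSch.IsChart f (X.basicOpen (g j)) (V : S.Opens) ((X.basicOpen_le (g j)).trans h) φ ∧
          DerSch.ChartPC m E (X.basicOpen (g j)) (V : S.Opens) φ) ↔
      ∃ (n : ℕ) (φ : MvPolynomial (Fin n) Γ(S, (V : S.Opens)) →+* Γ(X, (U : X.Opens))),
        DerSch.IsChart f (U : X.Opens) (V : S.Opens) h φ ∧
          DerSch.ChartPC m E (U : X.Opens) (V : S.Opens) φ := by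
  constructor
  · intro hj
    have := hasChart_of_cover f U.2 h hft m E (fun x hx => ?_)
    · obtain ⟨_, n, φ, hφ, hc⟩ := this
      exact ⟨n, φ, hφ, hc⟩
    · have hcov := AlgebraicGeometry.iSup_basicOpen_of_span_eq_top (U : X.Opens) (Set.range g) hg
      have hx' : x ∈ (⨆ i ∈ Set.range g, X.basicOpen i : X.Opens) := by rw [hcov]; exact hx
      simp only [TopologicalSpace.Opens.mem_iSup] at hx'
      obtain ⟨_, ⟨j, rfl⟩, hxj⟩ := hx'
      obtain ⟨n, φ, hφ, hc⟩ := hj j
      exact ⟨g j, hxj, _, n, φ, hφ, hc⟩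
  · rintro ⟨n, φ, hφ, hc⟩ j
    obtain ⟨_, n', ψ, hψ, hcψ⟩ := hasChart_basicOpen f U.2 m E ⟨h, n, φ, hφ, hc⟩ (g j)
    exact ⟨n', ψ, hψ, hcψ⟩

end

end Groth.Agent.Helper9.Chart5
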