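import Mathlib
import Groth.Prelude.Def_DualSh
import Groth.Prelude.Def_DerSch2
import Groth.Agent.Helper9.Chart5

/-! Relative pseudo-coherence in chart form: the test holds on every pair of affine opens. -/

set_option autoImplicit false
set_option linter.style.haveILetI false
set_option linter.unusedVariables false
set_option linter.unusedSectionVars false
universe u

namespace Groth.Agent.Helper9.Chart6

noncomputable section

open CategoryTheory CategoryTheory.Limits AlgebraicGeometry HomologicalComplex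
open Groth.Agent.Lead.PcLib Groth.Agent.Lead.PerfLib Groth.Agent.Helper9.Chart1
  Groth.Agent.Helper9.Chart2 Groth.Agent.Helper9.Chart3 Groth.Agent.Helper9.Chart4
  Groth.Agent.Helper9.Chart5 Scheme.Modules

attribute [local instance] HasDerivedCategory.standard

variable {X S : Scheme.{u}} (f : X ⟶ S)

theorem hasChart_shrink {U : X.Opens} {V : S.Opens} (hV : IsAffineOpen V) (r : Γ(S, V)) (m : ℤ)
    (K : DCoh.D X) (hc : HasChart f m K U V) (hUr : U ≤ f ⁻¹ᵁ S.basicOpen r) :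
    HasChart f m K U (S.basicOpen r) := by
  obtain ⟨h, n, φ, hφ, hcφ⟩ := hc
  exact ⟨hUr, n, phiShrink f r hUr φ, isChart_phiShrink f r h hUr φ hφ,
    chartPC_phiShrink f hV r h hUr φ hφ m K hcφ⟩

theorem hasChart_enlarge {U : X.Opens} {V : S.Opens} (hV : IsAffineOpen V) (r : Γ(S, V)) (m : ℤ)
    (K : DCoh.D X) (hc : HasChart f m K U (S.basicOpen r)) : HasChart f m K U V := by
  obtain ⟨h, n, φ, hφ, hcφ⟩ := hc
  obtain ⟨ψ, hψ, hcψ⟩ := exists_chart_enlarge f hV r h φ hφ m K hcφ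
  exact ⟨_, n + 1, ψ, hψ, hcψ⟩

/-- moving a chart from one pair of affine opens to another, near a point -/
theorem exists_hasChart_nhd {U U' : X.Opens} (hU : IsAffineOpen U) (hU' : IsAffineOpen U')
    {V V' : S.Opens} (hV : IsAffineOpen V) (hV' : IsAffineOpen V') (h : U ≤ f ⁻¹ᵁ V)
    (m : ℤ) (K : DCoh.D X) (hc : HasChart f m K U' V') (x : X) (hxU : x ∈ U) (hxU' : x ∈ U')
    : ∃ g : Γ(X, U), x ∈ X.basicOpen g ∧ HasChart f m K (X.basicOpen g) V := by
  have h' : U' ≤ f ⁻¹ᵁ V' := hc.1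
  have hfx : f.base x ∈ V ⊓ V' := ⟨h hxU, h' hxU'⟩
  obtain ⟨r, r', hrr', hxr⟩ := exists_basicOpen_le_affine_inter hV hV' (f.base x) hfx
  obtain ⟨g, g', hgg', hxg⟩ := exists_basicOpen_le_affine_inter hU hU' x ⟨hxU, hxU'⟩
  let s : Γ(X, U) := (f.appLE V U h).hom r
  let s' : Γ(X, U') := (f.appLE V' U' h').hom r'
  have hs : X.basicOpen s = U ⊓ f ⁻¹ᵁ S.basicOpen r := Scheme.basicOpen_appLE f U V h r
  have hs' : X.basicOpen s' = U' ⊓ f ⁻¹ᵁ S.basicOpen r' := Scheme.basicOpen_appLE f U' V' h' r'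
  have hG : X.basicOpen (g * s) = X.basicOpen (g' * s') := by
    rw [Scheme.basicOpen_mul, Scheme.basicOpen_mul, hs, hs', ← hrr', ← hgg']
    apply le_antisymm
    · refine le_inf inf_le_left (le_inf ?_ (inf_le_right.trans inf_le_right))
      rw [hgg']
      exact inf_le_left.trans (X.basicOpen_le g')
    · refine le_inf inf_le_left (le_inf ?_ (inf_le_right.trans inf_le_right))
      exact inf_le_left.trans (X.basicOpen_le g)
  have hxG : x ∈ X.basicOpen (g * s) := by
    rw [Scheme.basicOpen_mul, hs]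
    exact ⟨hxg, hxU, hxr⟩
  have hle : X.basicOpen (g' * s') ≤ f ⁻¹ᵁ S.basicOpen r' := by
    rw [Scheme.basicOpen_mul, hs']
    exact inf_le_right.trans inf_le_right
  refine ⟨g * s, hxG, ?_⟩
  have h1 : HasChart f m K (X.basicOpen (g' * s')) V' := hasChart_basicOpen f hU' m K hc _
  have h2 : HasChart f m K (X.basicOpen (g' * s')) (S.basicOpen r') :=
    hasChart_shrink f hV' r' m K h1 hle
  have h3 : HasChart f m K (X.basicOpen (g' * s')) (S.basicOpen r) := hrr' ▸ h2
  have h4 : HasChart f m K (X.basicOpen (g' * s')) V := hasChart_enlarge f hV r m K h3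
  exact hG ▸ h4

/-- **the chart test holds on all pairs of affine opens** -/
theorem rel_iff [LocallyOfFiniteType f] (m : ℤ) (E : DCoh.D X) :
    DerSch.IsPseudoCoherentRel f m E ↔
      ∀ (U : X.affineOpens) (V : S.affineOpens) (h : (U : X.Opens) ≤ f ⁻¹ᵁ (V : S.Opens)),
        ∃ (n : ℕ) (φ : MvPolynomial (Fin n) Γ(S, (V : S.Opens)) →+* Γ(X, (U : X.Opens))),
          DerSch.IsChart f (U : X.Opens) (V : S.Opens) h φ ∧
            DerSch.ChartPC m E (U : X.Opens) (V : S.Opens) φ := by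
  constructor
  · rintro ⟨_, 𝒱, h𝒱, H⟩ U V h
    have hft : (f.appLE (V : S.Opens) (U : X.Opens) h).hom.FiniteType :=
      HasRingHomProperty.appLE (P := @LocallyOfFiniteType) f inferInstance V U h
    have key := hasChart_of_cover f U.2 h hft m E (fun x hxU => ?_)
    · obtain ⟨_, n, φ, hφ, hc⟩ := key
      exact ⟨n, φ, hφ, hc⟩
    · have hfx : f.base x ∈ (⨆ V ∈ 𝒱, (V : S.Opens) : S.Opens) := by rw [h𝒱]; trivial
      simp only [TopologicalSpace.Opens.mem_iSup] at hfx
      obtain ⟨V', hV', hxV'⟩ := hfx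
      obtain ⟨𝒰, h𝒰, HU⟩ := H V' hV'
      have hx' : x ∈ (⨆ U ∈ 𝒰, (U : X.Opens) : X.Opens) := by rw [h𝒰]; exact hxV'
      simp only [TopologicalSpace.Opens.mem_iSup] at hx'
      obtain ⟨U', hU', hxU'⟩ := hx'
      have hle : (U' : X.Opens) ≤ f ⁻¹ᵁ (V' : S.Opens) := by
        rw [← h𝒰]
        exact le_iSup₂ (f := fun (U : X.affineOpens) (_ : U ∈ 𝒰) => (U : X.Opens)) U' hU'
      obtain ⟨n, φ, hφ, hc⟩ := HU U' hU' hle
      exact exists_hasChart_nhd f U.2 U'.2 V.2 V'.2 h m E ⟨hle, n, φ, hφ, hc⟩ x hxU hxU'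
  · intro H
    refine ⟨inferInstance, Set.univ, ?_, fun V _ => ⟨{U | (U : X.Opens) ≤ f ⁻¹ᵁ (V : S.Opens)},
      ?_, fun U _ h => H U V h⟩⟩
    · simp only [Set.mem_univ, iSup_pos]
      exact iSup_affineOpens_eq_top S
    · apply le_antisymm
      · exact iSup₂_le (fun U hU => hU)
      · intro x hx
        obtain ⟨_, ⟨U, hU, rfl⟩, hxU, hUV⟩ :=
          X.isBasis_affineOpens.exists_subset_of_mem_open hx (f ⁻¹ᵁ (V : S.Opens)).isOpen
        simp only [TopologicalSpace.Opens.mem_iSup]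
        exact ⟨⟨U, hU⟩, hUV, hxU⟩

end

end Groth.Agent.Helper9.Chart6
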