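import Mathlib
import Groth.Prelude.Def_DualSh
import Groth.Prelude.Def_DerSch2
import Groth.Agent.Helper9.Chart6

/-! Charts: the triangulated functor `D(O_X) ⥤ D(O_{Spec P})` attached to a chart on an affine
open, and distinguished triangles. -/

set_option autoImplicit false
set_option linter.style.haveILetI false
set_option linter.unusedVariables false
set_option linter.unusedSectionVars false
universe u

namespace Groth.Agent.Helper9.Chart7

noncomputable section

open CategoryTheory CategoryTheory.Limits AlgebraicGeometry HomologicalComplex Pretriangulated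
open Groth.Agent.Lead.PcLib Groth.Agent.Lead.PerfLib Groth.Agent.Helper9.Chart1
  Groth.Agent.Helper9.Chart2 Groth.Agent.Helper9.Chart3 Groth.Agent.Helper9.Chart4
  Groth.Agent.Helper9.Chart5 Groth.Agent.Helper9.Chart6 Groth.Agent.Helper9.CI5
  Groth.Agent.Helper9.ClImm1 Groth.Agent.Helper9.ClImmPF2 Scheme.Modules

attribute [local instance] HasDerivedCategory.standard

variable {X S : Scheme.{u}}

section Phi

variable {U : X.Opens} {P : Type u} [CommRing P] (ρ : P →+* Γ(X, U))
  [IsClosedImmersion (cMap U ρ)]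

/-- restriction to `U` followed by the direct image along the closed immersion `cMap U ρ` -/
def Phi : DCoh.D X ⥤ DCoh.D (Spec (CommRingCat.of P)) :=
  DCoh.restrictD U.ι ⋙ (pushforward (cMap U ρ)).mapDerivedCategory

instance : (Phi ρ).CommShift ℤ := by unfold Phi; infer_instance

instance : (Phi ρ).IsTriangulated := by unfold Phi; infer_instance

/-- the value of `Phi` on the class of a complex -/
def phiIso (G : CochainComplex X.Modules ℤ) :
    (Phi ρ).obj (DerivedCategory.Q.obj G) ≅
      DerivedCategory.Q.obj ((DerSch.pushCx (cMap U ρ)).obj ((DCoh.restrictCx U).obj G)) :=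
  (pushforward (cMap U ρ)).mapDerivedCategory.mapIso
      ((restrictFunctor U.ι).mapDerivedCategoryFactors.app G) ≪≫
    (pushforward (cMap U ρ)).mapDerivedCategoryFactors.app _

theorem pcvia_iff_phi (m : ℤ) (G : CochainComplex X.Modules ℤ) :
    PCvia U ρ m G ↔ DCoh.IsPseudoCoherentD m ((Phi ρ).obj (DerivedCategory.Q.obj G)) :=
  ⟨fun h => isPseudoCoherentD_of_iso (phiIso ρ G).symm h,
    fun h => isPseudoCoherentD_of_iso (phiIso ρ G) h⟩

end Phi

theorem chartPC_iff_phi {U : X.Opens} {V : S.Opens} {n : ℕ}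
    (φ : MvPolynomial (Fin n) Γ(S, V) →+* Γ(X, U)) [IsClosedImmersion (cMap U φ)] (m : ℤ)
    (K : DCoh.D X) :
    DerSch.ChartPC m K U V φ ↔ DCoh.IsPseudoCoherentD m ((Phi φ).obj K) := by
  constructor
  · intro h
    let F : CochainComplex X.Modules ℤ := DerivedCategory.Q.objPreimage K
    let e : DerivedCategory.Q.obj F ≅ K := DerivedCategory.Q.objObjPreimageIso K
    exact isPseudoCoherentD_of_iso ((Phi φ).mapIso e) ((pcvia_iff_phi φ m F).1 (h F ⟨e⟩))
  · intro h G ⟨e⟩
    exact (pcvia_iff_phi φ m G).2 (isPseudoCoherentD_of_iso ((Phi φ).mapIso e.symm) h)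

variable (f : X ⟶ S) [LocallyOfFiniteType f]

/-- on every pair of affine opens there is a chart which is a closed immersion, and relative
pseudo-coherence is tested by it -/
theorem rel_iff_phi (m : ℤ) (K : DCoh.D X) :
    DerSch.IsPseudoCoherentRel f m K ↔
      ∀ (U : X.affineOpens) (V : S.affineOpens) (h : (U : X.Opens) ≤ f ⁻¹ᵁ (V : S.Opens))
        (n : ℕ) (φ : MvPolynomial (Fin n) Γ(S, (V : S.Opens)) →+* Γ(X, (U : X.Opens)))
        (_ : DerSch.IsChart f (U : X.Opens) (V : S.Opens) h φ)
        (_ : IsClosedImmersion (cMap (U : X.Opens) φ)),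
        DCoh.IsPseudoCoherentD m ((Phi φ).obj K) := by
  rw [rel_iff]
  constructor
  · intro H U V h n φ hφ hcl
    obtain ⟨n', ψ, hψ, hc⟩ := H U V h
    exact (chartPC_iff_phi φ m K).1 (chartPC_of_chartPC f _ _ h m K ψ hψ hc φ hφ)
  · intro H U V h
    have hft : (f.appLE (V : S.Opens) (U : X.Opens) h).hom.FiniteType :=
      HasRingHomProperty.appLE (P := @LocallyOfFiniteType) f inferInstance V U h
    obtain ⟨n, φ, hφ⟩ := exists_isChart f h hft
    haveI : IsClosedImmersion (cMap (U : X.Opens) φ) :=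
      Groth.Agent.Helper9.ClImm3.isClosedImmersion_chartImm (U : X.Opens) U.2 φ hφ.1
    exact ⟨n, φ, hφ, (chartPC_iff_phi φ m K).2 (H U V h n φ hφ inferInstance)⟩

/-- **relative pseudo-coherence and distinguished triangles** -/
theorem rel_triangle (n : ℤ) (T : Triangle (DCoh.D X)) (hT : T ∈ distTriang _) :
    (DerSch.IsPseudoCoherentRel f (n + 1) T.obj₁ → DerSch.IsPseudoCoherentRel f n T.obj₂ →
        DerSch.IsPseudoCoherentRel f n T.obj₃) ∧
      (DerSch.IsPseudoCoherentRel f n T.obj₁ → DerSch.IsPseudoCoherentRel f n T.obj₃ →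
        DerSch.IsPseudoCoherentRel f n T.obj₂) ∧
      (DerSch.IsPseudoCoherentRel f n T.obj₂ → DerSch.IsPseudoCoherentRel f (n - 1) T.obj₃ →
        DerSch.IsPseudoCoherentRel f n T.obj₁) := by
  simp only [rel_iff_phi f]
  refine ⟨fun h1 h2 U V h k φ hφ hcl => ?_, fun h1 h3 U V h k φ hφ hcl => ?_,
    fun h2 h3 U V h k φ hφ hcl => ?_⟩
  · haveI := hcl
    exact (isPseudoCoherentD_triangle n _ ((Phi φ).map_distinguished T hT)).1
      (h1 U V h k φ hφ hcl) (h2 U V h k φ hφ hcl)
  · haveI := hcl
    exact (isPseudoCoherentD_triangle n _ ((Phi φ).map_distinguished T hT)).2.1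
      (h1 U V h k φ hφ hcl) (h3 U V h k φ hφ hcl)
  · haveI := hcl
    have key := (isPseudoCoherentD_triangle (n - 1) _ ((Phi φ).map_distinguished T hT)).2.2
    have e : n - 1 + 1 = n := by omega
    rw [e] at key
    exact key (h2 U V h k φ hφ hcl) (h3 U V h k φ hφ hcl)

end

end Groth.Agent.Helper9.Chart7
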