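import Mathlib
import Groth.Prelude.Def_DualSh
import Groth.Prelude.Def_DerSch2
import Groth.Agent.Helper9.Chart7
import Groth.Agent.Helper9.Peel1

/-! Relative pseudo-coherence: isomorphisms, shifts, vanishing cohomology, dévissage by cohomology
sheaves and by terms. -/

set_option autoImplicit false
set_option linter.style.haveILetI false
set_option linter.unusedVariables false
set_option linter.unusedSectionVars false
universe u

namespace Groth.Agent.Helper9.Chart12

noncomputable section

open CategoryTheory CategoryTheory.Limits AlgebraicGeometry HomologicalComplex Pretriangulated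
open Groth.Agent.Lead.PcLib Groth.Agent.Lead.PerfLib Groth.Agent.Helper9.Chart1
  Groth.Agent.Helper9.Chart2 Groth.Agent.Helper9.Chart3 Groth.Agent.Helper9.Chart4
  Groth.Agent.Helper9.Chart5 Groth.Agent.Helper9.Chart6 Groth.Agent.Helper9.Chart7
  Groth.Agent.Helper9.CI5
  Groth.Agent.Helper9.ClImm1 Groth.Agent.Helper9.ClImmPF2 Scheme.Modules

attribute [local instance] HasDerivedCategory.standard

variable {X S : Scheme.{u}}

section Phi

variable {U : X.Opens} {P : Type u} [CommRing P] (ρ : P →+* Γ(X, U))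
  [IsClosedImmersion (cMap U ρ)]

/-- cohomology sheaves of `Phi` -/
def phiHD (K : DCoh.D X) (i : ℤ) :
    DCoh.HD ((Phi ρ).obj K) i ≅
      (pushforward (cMap U ρ)).obj ((restrictFunctor U.ι).obj (DCoh.HD K i)) :=
  (mapDerivedCategoryHomologyIso (pushforward (cMap U ρ)) i).app _ ≪≫
    (pushforward (cMap U ρ)).mapIso
      ((mapDerivedCategoryHomologyIso (restrictFunctor U.ι) i).app K)

/-- `Phi` on a module placed in degree `0` -/
def phiInD (M : X.Modules) :
    (Phi ρ).obj (DCoh.inD X M) ≅
      DCoh.inD _ ((pushforward (cMap U ρ)).obj ((restrictFunctor U.ι).obj M)) :=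
  (pushforward (cMap U ρ)).mapDerivedCategory.mapIso
      (((restrictFunctor U.ι).mapDerivedCategorySingleFunctor 0).app M) ≪≫
    ((pushforward (cMap U ρ)).mapDerivedCategorySingleFunctor 0).app _

end Phi

variable (f : X ⟶ S) [LocallyOfFiniteType f]

theorem rel_of_iso {K K' : DCoh.D X} (e : K ≅ K') (m : ℤ)
    (h : DerSch.IsPseudoCoherentRel f m K) : DerSch.IsPseudoCoherentRel f m K' := by
  rw [rel_iff_phi f] at h ⊢
  intro U V hUV n φ hφ hcl
  haveI := hcl
  exact isPseudoCoherentD_of_iso ((Phi φ).mapIso e) (h U V hUV n φ hφ hcl)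

theorem rel_shift {K : DCoh.D X} {m : ℤ} (h : DerSch.IsPseudoCoherentRel f m K) (n m' : ℤ)
    (hm' : n + m' = m) : DerSch.IsPseudoCoherentRel f m' (K⟦n⟧) := by
  rw [rel_iff_phi f] at h ⊢
  intro U V hUV k φ hφ hcl
  haveI := hcl
  exact isPseudoCoherentD_of_iso (((Phi φ).commShiftIso n).app K).symm
    (isPseudoCoherentD_shift (h U V hUV k φ hφ hcl) n m' hm')

theorem rel_mono {K : DCoh.D X} {m m' : ℤ} (hm : m ≤ m')
    (h : DerSch.IsPseudoCoherentRel f m K) : DerSch.IsPseudoCoherentRel f m' K := by
  rw [rel_iff_phi f] at h ⊢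
  intro U V hUV k φ hφ hcl
  exact isPseudoCoherentD_mono hm (h U V hUV k φ hφ hcl)

theorem rel_of_isZero_HD (m : ℤ) (K : DCoh.D X) (h : ∀ i : ℤ, m ≤ i → IsZero (DCoh.HD K i)) :
    DerSch.IsPseudoCoherentRel f m K := by
  rw [rel_iff_phi f]
  intro U V hUV k φ hφ hcl
  haveI := hcl
  apply isPseudoCoherentD_of_isZero_HD
  intro i hi
  exact IsZero.of_iso (Functor.map_isZero _ (Functor.map_isZero _ (h i hi))) (phiHD φ K i)

theorem rel_of_isZero (m : ℤ) (K : DCoh.D X) (h : IsZero K) :
    DerSch.IsPseudoCoherentRel f m K :=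
  rel_of_isZero_HD f m K (fun i _ => Functor.map_isZero _ h)

/-- **dévissage by cohomology sheaves** -/
theorem rel_of_homology_aux (m : ℤ) :
    ∀ (n : ℕ) (E : DCoh.D X) (b : ℤ), E.IsLE b → b < m + n →
      (∀ i : ℤ, DerSch.IsPseudoCoherentRel f (m - i) (DCoh.inD X (DCoh.HD E i))) →
      DerSch.IsPseudoCoherentRel f m E := by
  intro n
  induction n with
  | zero =>
    intro E b hb hbm _
    haveI := hb
    exact rel_of_isZero_HD f m E (fun i hi => E.isZero_of_isLE b i (by simp at hbm; omega))
  | succ n ih =>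
    intro E b hb hbm hpc
    haveI := hb
    obtain ⟨T, hT, e, Y, h1le, ⟨eY⟩, hH, ⟨eH⟩⟩ := exists_trunc_triangle E b
    have h3 : DerSch.IsPseudoCoherentRel f m T.obj₃ := by
      refine rel_of_iso f eY.symm m ?_
      refine rel_of_iso f
        (((DerivedCategory.singleFunctors X.Modules).shiftIso (-b) b 0 (by omega)).app Y) m ?_
      refine rel_shift f (m := m - b) ?_ (-b) m (by omega)
      exact rel_of_iso f ((DerivedCategory.singleFunctor X.Modules 0).mapIso eH.symm) _ (hpc b)
    have h1 : DerSch.IsPseudoCoherentRel f m T.obj₁ := by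
      refine ih T.obj₁ (b - 1) h1le (by push_cast at hbm; omega) (fun i => ?_)
      by_cases hib : i ≤ b - 1
      · exact rel_of_iso f ((DerivedCategory.singleFunctor X.Modules 0).mapIso
          (hH i hib).some.symm) _ (hpc i)
      · haveI := h1le
        exact rel_of_isZero f _ _
          (Functor.map_isZero _ (T.obj₁.isZero_of_isLE (b - 1) i (by omega)))
    exact rel_of_iso f e m ((rel_triangle f m T hT).2.1 h1 h3)

theorem rel_of_homology (m : ℤ) (E : DCoh.D X) (b : ℤ) [E.IsLE b]
    (h : ∀ i : ℤ, DerSch.IsPseudoCoherentRel f (m - i) (DCoh.inD X (DCoh.HD E i))) :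
    DerSch.IsPseudoCoherentRel f m E :=
  rel_of_homology_aux f m (b - m + 1).toNat E b inferInstance (by omega) h

/-- **dévissage by terms** -/
theorem rel_of_termwise_aux (m : ℤ) :
    ∀ (n : ℕ) (F : CochainComplex X.Modules ℤ) (b : ℤ), b < m + n →
      (∀ i : ℤ, b < i → IsZero (F.X i)) →
      (∀ i : ℤ, DerSch.IsPseudoCoherentRel f (m - i) (DCoh.inD X (F.X i))) →
      DerSch.IsPseudoCoherentRel f m (DCoh.toD X F) := by
  intro n
  induction n with
  | zero =>
    intro F b hbm hb _
    apply rel_of_isZero_HD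
    intro i hi
    have hz : IsZero (F.X i) := hb i (by simp at hbm; omega)
    have h1 : IsZero (F.homology i) :=
      (HomologicalComplex.exactAt_iff_isZero_homology F i).1
        (HomologicalComplex.ExactAt.of_isZero hz)
    exact IsZero.of_iso h1 ((DerivedCategory.homologyFunctorFactors X.Modules i).app F)
  | succ n ih =>
    intro F b hbm hb h
    obtain ⟨K', π, ι, δ, v', hπ, hT⟩ := Groth.Agent.Helper9.Peel1.exists_peel_top F b hb
    have h' : ∀ i : ℤ, DerSch.IsPseudoCoherentRel f (m - i) (DCoh.inD X (K'.X i)) := by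
      intro i
      by_cases hib : i ≤ b - 1
      · have := hπ i hib
        exact rel_of_iso f
          ((DerivedCategory.singleFunctor X.Modules 0).mapIso (asIso (π.f i))) _ (h i)
      · exact rel_of_isZero f _ _ (Functor.map_isZero _ (v' i (by omega)))
    have hK' := ih K' (b - 1) (by push_cast at hbm; omega) v' h'
    have h1 : DerSch.IsPseudoCoherentRel f m
        ((DerivedCategory.singleFunctor X.Modules b).obj (F.X b)) := by
      refine rel_of_iso f
        (((DerivedCategory.singleFunctors X.Modules).shiftIso (-b) b 0 (by omega)).app (F.X b))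
        m ?_
      exact rel_shift f (m := m - b) (h b) (-b) m (by omega)
    exact (rel_triangle f m _ hT).2.1 h1 hK'

theorem rel_of_termwise (m : ℤ) (F : CochainComplex X.Modules ℤ) (b : ℤ)
    (hb : ∀ i : ℤ, b < i → IsZero (F.X i))
    (h : ∀ i : ℤ, DerSch.IsPseudoCoherentRel f (m - i) (DCoh.inD X (F.X i))) :
    DerSch.IsPseudoCoherentRel f m (DCoh.toD X F) :=
  rel_of_termwise_aux f m (b - m + 1).toNat F b (by omega) hb h

end

end Groth.Agent.Helper9.Chart12
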