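import Mathlib
import Groth.Prelude.Def_DRing4
import Groth.Prelude.Def_DualSh
import Groth.Agent.Helper6.RelPerfBC

/-!
# The base change isomorphism `R' ⊗_R (P|_R) ≅ (A' ⊗_A P)|_{R'}` for a pushout square of rings
(chain level; generalizes `Helper6.RelPerfBC.Θ` from the literal tensor product to any pushout)
-/

set_option autoImplicit false
set_option linter.style.haveILetI false
set_option linter.unusedSectionVars false
set_option linter.unusedVariables false

universe u
open CategoryTheory CategoryTheory.Limits TensorProduct

namespace Groth.Agent.Helper9.FlatPC1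
open Groth.Agent.Helper3.DRingLib Groth.Agent.Helper6.LBCCompute Groth.Agent.Helper6.RelPerfBC

noncomputable section

variable {R A R' A' : Type u} [CommRing R] [CommRing A] [CommRing R'] [CommRing A']
  [Algebra R A] [Algebra R R'] [Algebra R' A'] [Algebra A A'] [Algebra R A']
  [IsScalarTower R R' A'] [IsScalarTower R A A'] [Algebra.IsPushout R R' A A']

/-- second step: cancel the base change -/
def e2 (X : ModuleCat.{u} A) :
    R' ⊗[R] ↑((ModuleCat.restrictScalars (algebraMap R A)).obj X) ≃ₗ[R'] A' ⊗[A] ↑X :=
  letI := modA (R := R) X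
  haveI := towerA (R := R) X
  (Algebra.IsPushout.cancelBaseChange R R' A A'
    ↑((ModuleCat.restrictScalars (algebraMap R A)).obj X)).symm

lemma e2_tmul (X : ModuleCat.{u} A) (s : R')
    (m : ↑((ModuleCat.restrictScalars (algebraMap R A)).obj X)) :
    e2 (R := R) (R' := R') (A' := A') X (s ⊗ₜ[R] m) =
      (algebraMap R' A' s) ⊗ₜ[A] (show ↑X from m) := by
  letI := modA (R := R) X
  haveI := towerA (R := R) X
  exact Algebra.IsPushout.cancelBaseChange_symm_tmul R R' A A'
    ↑((ModuleCat.restrictScalars (algebraMap R A)).obj X) s m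

/-- third step: back to `extendScalars` -/
def e3 (X : ModuleCat.{u} A) :
    (A' ⊗[A] X) ≃ₗ[R']
      ↑((ModuleCat.restrictScalars (algebraMap R' A')).obj
        ((ModuleCat.extendScalars.{u, u, u} (algebraMap A A')).obj X)) :=
  { toFun := fun t => (extendScalarsEquiv (B := A') X).symm t
    invFun := fun y => extendScalarsEquiv (B := A') X y
    left_inv := fun t => (extendScalarsEquiv (B := A') X).apply_symm_apply t
    right_inv := fun y => (extendScalarsEquiv (B := A') X).symm_apply_apply y
    map_add' := fun s t => map_add (extendScalarsEquiv (B := A') X).symm s t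
    map_smul' := fun r t => by
      have h1 : r • t = (algebraMap R' A' r) • t :=
        (algebraMap_smul A' r t).symm
      rw [h1]
      exact (extendScalarsEquiv (B := A') X).symm.map_smul
        (algebraMap R' A' r) t }

/-- the base change isomorphism for modules -/
def bcEquiv (X : ModuleCat.{u} A) :
    ↑((ModuleCat.extendScalars.{u, u, u} (algebraMap R R')).obj
      ((ModuleCat.restrictScalars (algebraMap R A)).obj X)) ≃ₗ[R']
      ↑((ModuleCat.restrictScalars (algebraMap R' A')).obj
        ((ModuleCat.extendScalars.{u, u, u} (algebraMap A A')).obj X)) :=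
  (e1 X).trans ((e2 X).trans (e3 X))

lemma e2_naturality {X Y : ModuleCat.{u} A} (f : X ⟶ Y)
    (z : R' ⊗[R] ↑((ModuleCat.restrictScalars (algebraMap R A)).obj X)) :
    e2 (R := R) (R' := R') (A' := A') Y
        ((((ModuleCat.restrictScalars (algebraMap R A)).map f).hom.lTensor R') z) =
      (f.hom.lTensor A') (e2 (R := R) (R' := R') (A' := A') X z) := by
  induction z using TensorProduct.induction_on with
  | zero => simp only [map_zero]
  | tmul s m =>
    rw [LinearMap.lTensor_tmul, e2_tmul, e2_tmul, LinearMap.lTensor_tmul]
    rfl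
  | add a b ha hb => simp only [map_add, ha, hb]

lemma bcEquiv_apply (X : ModuleCat.{u} A)
    (t : ↑((ModuleCat.extendScalars.{u, u, u} (algebraMap R R')).obj
      ((ModuleCat.restrictScalars (algebraMap R A)).obj X))) :
    bcEquiv (R := R) (R' := R') (A' := A') X t = e3 X (e2 X (e1 X t)) := rfl

lemma e3_naturality {X Y : ModuleCat.{u} A} (f : X ⟶ Y) (w : A' ⊗[A] ↑X) :
    e3 (R' := R') (A' := A') Y ((f.hom.lTensor A') w) =
      ((ModuleCat.restrictScalars (algebraMap R' A')).map
        ((ModuleCat.extendScalars.{u, u, u} (algebraMap A A')).map f)).hom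
          (e3 (R' := R') (A' := A') X w) := by
  have n3 := Groth.Agent.Helper6.LBCFibre.extendScalarsEquiv_naturality A' f
    ((extendScalarsEquiv (B := A') X).symm w)
  rw [LinearEquiv.apply_symm_apply] at n3
  have h : (extendScalarsEquiv (B := A') Y).symm ((f.hom.lTensor A') w) =
      ((ModuleCat.extendScalars.{u, u, u} (algebraMap A A')).map f).hom
        ((extendScalarsEquiv (B := A') X).symm w) := by
    rw [LinearEquiv.symm_apply_eq]
    exact n3.symm
  exact h

lemma bcEquiv_naturality {X Y : ModuleCat.{u} A} (f : X ⟶ Y)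
    (t : ↑((ModuleCat.extendScalars.{u, u, u} (algebraMap R R')).obj
      ((ModuleCat.restrictScalars (algebraMap R A)).obj X))) :
    bcEquiv (R := R) (R' := R') (A' := A') Y
      (((ModuleCat.extendScalars.{u, u, u} (algebraMap R R')).map
      ((ModuleCat.restrictScalars (algebraMap R A)).map f)).hom t) =
      ((ModuleCat.restrictScalars (algebraMap R' A')).map
        ((ModuleCat.extendScalars.{u, u, u} (algebraMap A A')).map f)).hom
          (bcEquiv (R := R) (R' := R') (A' := A') X t) := by
  have n1 : e1 (R := R) (R' := R') Y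
      (((ModuleCat.extendScalars.{u, u, u} (algebraMap R R')).map
        ((ModuleCat.restrictScalars (algebraMap R A)).map f)).hom t) =
      (((ModuleCat.restrictScalars (algebraMap R A)).map f).hom.lTensor R')
        (e1 (R := R) (R' := R') X t) :=
    Groth.Agent.Helper6.LBCFibre.extendScalarsEquiv_naturality R'
      ((ModuleCat.restrictScalars (algebraMap R A)).map f) t
  rw [bcEquiv_apply, bcEquiv_apply, n1, e2_naturality, e3_naturality]

variable (R' A') in
/-- the base change isomorphism for complexes -/
def Θ (P : DRing.Cx A) :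
    (bcCxF (algebraMap R R')).obj ((rCx (algebraMap R A)).obj P) ≅
      (rCx (algebraMap R' A')).obj ((bcCxF (algebraMap A A')).obj P) :=
  HomologicalComplex.Hom.isoOfComponents
    (fun i => (bcEquiv (R := R) (R' := R') (A' := A') (P.X i)).toModuleIso)
    (fun i j _ => ModuleCat.hom_ext (LinearMap.ext fun t =>
      (bcEquiv_naturality (R := R) (R' := R') (A' := A') (P.d i j) t).symm))

/-- naturality of the base change isomorphism -/
lemma Θ_naturality {P Q : DRing.Cx A} (f : P ⟶ Q) :
    (bcCxF (algebraMap R R')).map ((rCx (algebraMap R A)).map f) ≫ (Θ R' A' Q).hom =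
      (Θ R' A' P).hom ≫ (rCx (algebraMap R' A')).map ((bcCxF (algebraMap A A')).map f) := by
  ext i : 1
  exact ModuleCat.hom_ext (LinearMap.ext fun t =>
    (bcEquiv_naturality (R := R) (R' := R') (A' := A') (f.f i) t))

end

end Groth.Agent.Helper9.FlatPC1
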