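import Mathlib
import Groth.Prelude.Def_DRing4
import Groth.Prelude.Def_DualSh
import Groth.Agent.Helper9.FlatPC1
import Groth.Agent.Helper6.LBCFlatCx
import Groth.Agent.Helper6.KProjQ
import Groth.Agent.Helper6.SingleTen

/-!
# Tor-independent base change of a resolution

For a pushout square of rings `R → A`, `R → R'`, `A' = R' ⊗_R A` with `A` flat over `R`: if
`E → M[0]` is a quasi-isomorphism from a bounded above complex of flat `A`-modules to an
`A`-module `M` which is flat over `R`, then `A' ⊗_A E → (A' ⊗_A M)[0]` is again a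
quasi-isomorphism.
-/

set_option autoImplicit false
set_option linter.style.haveILetI false
set_option linter.unusedSectionVars false
set_option linter.unusedVariables false

universe u
open CategoryTheory CategoryTheory.Limits TensorProduct

namespace Groth.Agent.Helper9.FlatPC2
open Groth.Agent.Helper3.DRingLib Groth.Agent.Helper6.LBCCompute Groth.Agent.Helper6.RelPerfBC
  Groth.Agent.Helper9.FlatPC1

attribute [local instance] HasDerivedCategory.standard

noncomputable section

/-- quasi-isomorphisms between bounded above complexes of `A`-modules which are termwise flat over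
`R` are preserved by the base change `A → A'` -/
theorem quasiIso_bcCxF_map {R A : Type u} (R' A' : Type u) [CommRing R] [CommRing A] [CommRing R']
    [CommRing A'] [Algebra R A] [Algebra R R'] [Algebra R' A'] [Algebra A A'] [Algebra R A']
    [IsScalarTower R R' A'] [IsScalarTower R A A'] [Algebra.IsPushout R R' A A']
    {E F : DRing.Cx A} (π : E ⟶ F) (b b' : ℤ)
    (hE : DRing.VanishesAbove E b) (hF : DRing.VanishesAbove F b')
    (fE : DRing.TermwiseFlat ((rCx (algebraMap R A)).obj E))
    (fF : DRing.TermwiseFlat ((rCx (algebraMap R A)).obj F)) (hπ : QuasiIso π) :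
    QuasiIso ((bcCxF (algebraMap A A')).map π) := by
  have hα : QuasiIso ((rCx (algebraMap R A)).map π) := inferInstance
  have h1 : QuasiIso ((bcCxF (algebraMap R R')).map ((rCx (algebraMap R A)).map π)) :=
    Groth.Agent.Helper6.LBCFlatCx.quasiIso_bcCxF_map (algebraMap R R') _ b b'
      (fun i hi => Functor.map_isZero (rF (algebraMap R A)) (hE i hi))
      (fun i hi => Functor.map_isZero (rF (algebraMap R A)) (hF i hi)) fE fF hα
  have h2 : (rCx (algebraMap R' A')).map ((bcCxF (algebraMap A A')).map π) =
      (Θ R' A' E).inv ≫ (bcCxF (algebraMap R R')).map ((rCx (algebraMap R A)).map π) ≫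
        (Θ R' A' F).hom := by
    rw [Θ_naturality, Iso.inv_hom_id_assoc]
  have h3 : QuasiIso ((rCx (algebraMap R' A')).map ((bcCxF (algebraMap A A')).map π)) := by
    rw [h2]
    infer_instance
  exact (HomologicalComplex.quasiIso_map_iff_of_preservesHomology _ (rF (algebraMap R' A'))).1 h3

variable {R A : Type u} [CommRing R] [CommRing A] [Algebra R A]

/-- a module `X` over `A` which is flat over `A` is flat over `R` after restriction, `A` being
flat over `R` -/
lemma flat_rF [Module.Flat R A] (X : ModuleCat.{u} A) [Module.Flat A X] :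
    Module.Flat R ↑((rF (algebraMap R A)).obj X) := by
  letI := modA (R := R) X
  haveI := towerA (R := R) X
  haveI : Module.Flat A ↑((ModuleCat.restrictScalars (algebraMap R A)).obj X) :=
    inferInstanceAs (Module.Flat A X)
  exact Module.Flat.trans R A _

/-- the restriction of a module with compatible `R`-structure -/
def rFOfEquiv (M : Type u) [AddCommGroup M] [Module A M] [Module R M] [IsScalarTower R A M] :
    M ≃ₗ[R] ↑((rF (algebraMap R A)).obj (ModuleCat.of A M)) :=
  { toFun := fun m => m
    invFun := fun m => m
    left_inv := fun _ => rfl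
    right_inv := fun _ => rfl
    map_add' := fun _ _ => rfl
    map_smul' := fun r m => (algebraMap_smul A r m).symm }

open Groth.Agent.Helper6.SingleTen in
lemma termwiseFlat_rCx_sN (M : Type u) [AddCommGroup M] [Module A M] [Module R M]
    [IsScalarTower R A M] [Module.Flat R M] :
    DRing.TermwiseFlat ((rCx (algebraMap R A)).obj (sN (ModuleCat.of A M))) := by
  intro i
  by_cases hi : i = 0
  · subst hi
    have e : ↑((rF (algebraMap R A)).obj (ModuleCat.of A M)) ≃ₗ[R]
        ↑(((rCx (algebraMap R A)).obj (sN (ModuleCat.of A M))).X 0) :=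
      ((rF (algebraMap R A)).mapIso (isoS (ModuleCat.of A M))).symm.toLinearEquiv
    exact Module.Flat.of_linearEquiv ((rFOfEquiv (R := R) (A := A) M).trans e).symm
  · have hz : IsZero (((rCx (algebraMap R A)).obj (sN (ModuleCat.of A M))).X i) :=
      Functor.map_isZero (rF (algebraMap R A))
        (HomologicalComplex.isZero_single_obj_X (ComplexShape.up ℤ) 0 _ i hi)
    haveI := ModuleCat.subsingleton_of_isZero hz
    infer_instance

open Groth.Agent.Helper6.SingleTen in
/-- **Tor-independent base change of a resolution**, derived category form -/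
theorem nonempty_toD_bcCxF_iso (R : Type u) {A : Type u} (R' A' : Type u) [CommRing R] [CommRing A]
    [CommRing R'] [CommRing A'] [Algebra R A] [Algebra R R'] [Algebra R' A'] [Algebra A A']
    [Algebra R A'] [IsScalarTower R R' A'] [IsScalarTower R A A'] [Algebra.IsPushout R R' A A']
    [Module.Flat R A] (E : DRing.Cx A) (b : ℤ)
    (hE : DRing.VanishesAbove E b) (pE : ∀ i, Module.Projective A (E.X i))
    (M : Type u) [AddCommGroup M] [Module A M] [Module R M] [IsScalarTower R A M]
    [Module.Flat R M] (e : DRing.toD E ≅ Dual.inD A M) :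
    Nonempty (DRing.toD ((bcCxF (algebraMap A A')).obj E) ≅ Dual.inD A' (A' ⊗[A] M)) := by
  haveI : E.IsKProjective := isKProjective_of_vanishesAbove E b hE pE
  let s : Dual.inD A M ≅ DerivedCategory.Q.obj (sN (ModuleCat.of A M)) :=
    (DerivedCategory.singleFunctorIsoCompQ (ModuleCat.{u} A) 0).app (ModuleCat.of A M)
  obtain ⟨π, hπ⟩ := Groth.Agent.Helper6.KProjQ.Q_map_surjective E (sN (ModuleCat.of A M))
    (e.hom ≫ s.hom)
  haveI : IsIso (DerivedCategory.Q.map π) := by rw [hπ]; infer_instance
  have hq : QuasiIso π := (DerivedCategory.isIso_Q_map_iff_quasiIso _ _).1 inferInstance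
  have fE : DRing.TermwiseFlat ((rCx (algebraMap R A)).obj E) := fun i => by
    haveI := pE i
    haveI : Module.Flat A (E.X i) := inferInstance
    exact flat_rF (R := R) (E.X i)
  have hq' := quasiIso_bcCxF_map R' A' π b 0 hE
    (fun i hi => HomologicalComplex.isZero_single_obj_X (ComplexShape.up ℤ) 0 _ i (by omega))
    fE (termwiseFlat_rCx_sN (R := R) M) hq
  haveI : IsIso (DerivedCategory.Q.map ((bcCxF (algebraMap A A')).map π)) :=
    (DerivedCategory.isIso_Q_map_iff_quasiIso _ _).2 hq'
  let t : (bcCxF (algebraMap A A')).obj (sN (ModuleCat.of A M)) ≅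
      sN ((ModuleCat.extendScalars.{u, u, u} (algebraMap A A')).obj (ModuleCat.of A M)) :=
    (HomologicalComplex.singleMapHomologicalComplex
      (ModuleCat.extendScalars.{u, u, u} (algebraMap A A')) (ComplexShape.up ℤ) 0).app
        (ModuleCat.of A M)
  exact ⟨asIso (DerivedCategory.Q.map ((bcCxF (algebraMap A A')).map π)) ≪≫
    DerivedCategory.Q.mapIso t ≪≫
    ((DerivedCategory.singleFunctorIsoCompQ (ModuleCat.{u} A') 0).app _).symm ≪≫
    (DerivedCategory.singleFunctor (ModuleCat.{u} A') 0).mapIso
      (extendScalarsEquiv (B := A') (ModuleCat.of A M)).toModuleIso⟩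

/-- **pseudo-coherence is preserved by Tor-independent base change** (module form) -/
theorem isPseudoCoherent'_baseChange (R : Type u) {A : Type u} (R' A' : Type u) [CommRing R]
    [CommRing A] [CommRing R'] [CommRing A'] [Algebra R A] [Algebra R R'] [Algebra R' A']
    [Algebra A A'] [Algebra R A'] [IsScalarTower R R' A'] [IsScalarTower R A A']
    [Algebra.IsPushout R R' A A'] [Module.Flat R A]
    (M : Type u) [AddCommGroup M] [Module A M] [Module R M] [IsScalarTower R A M]
    [Module.Flat R M] (h : DRing.IsPseudoCoherent' A (Dual.inD A M)) :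
    DRing.IsPseudoCoherent' A' (Dual.inD A' (A' ⊗[A] M)) := by
  obtain ⟨E, b, hv, hff, ⟨e⟩⟩ := h
  have pE : ∀ i, Module.Projective A (E.X i) := fun i => by
    have := (hff i).2
    infer_instance
  obtain ⟨i⟩ := nonempty_toD_bcCxF_iso R R' A' E b hv pE M e
  exact ⟨(bcCx A A').obj E, b, bcCx_vanishesAbove A' E b hv, bcCx_termwiseFiniteFree A' E hff, ⟨i⟩⟩

end

end Groth.Agent.Helper9.FlatPC2
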