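import Mathlib
import Groth.Prelude.Def_DRing4
import Groth.Prelude.Def_DualSh
import Groth.Prelude.Def_MoreMor
import Groth.Agent.Helper9.FlatPC2
import Groth.Agent.Helper3.PcHomB
import Groth.Agent.Helper3.DRingPC4
import Groth.Agent.Lead.FD18

/-!
# Flat ring maps of finite presentation are pseudo-coherent

Noetherian descent: a flat finitely presented `R`-algebra is the base change of a flat finite type
algebra over a Noetherian ring; over a Noetherian ring everything of finite type is
pseudo-coherent, and pseudo-coherence is preserved by the (Tor-independent) base change.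
-/

set_option autoImplicit false
set_option linter.style.haveILetI false
set_option linter.unusedSectionVars false
set_option linter.unusedVariables false

universe u
open CategoryTheory CategoryTheory.Limits TensorProduct

namespace Groth.Agent.Helper9.FlatPC3
open Groth.Agent.Helper3.DRingLib Groth.Agent.Helper3.PcHom

attribute [local instance] HasDerivedCategory.standard
attribute [local instance] MvPolynomial.algebraMvPolynomial

noncomputable section

/-- base change of a flat finite type algebra over a Noetherian ring is pseudo-coherent -/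
theorem pcHom_of_noetherian_model (R₁ A₁ R : Type u) [CommRing R₁] [IsNoetherianRing R₁]
    [CommRing A₁] [Algebra R₁ A₁] [Algebra.FiniteType R₁ A₁] [Module.Flat R₁ A₁] [CommRing R]
    [Algebra R₁ R] : MoreMor.IsPseudoCoherentHom R (R ⊗[R₁] A₁) := by
  obtain ⟨n, φ₁, hφ₁⟩ := Algebra.FiniteType.iff_quotient_mvPolynomial''.1
    (inferInstance : Algebra.FiniteType R₁ A₁)
  letI : Algebra (MvPolynomial (Fin n) R₁) A₁ := φ₁.toRingHom.toAlgebra
  haveI : IsScalarTower R₁ (MvPolynomial (Fin n) R₁) A₁ :=
    IsScalarTower.of_algebraMap_eq (fun r => (φ₁.commutes r).symm)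
  haveI : Module.Finite (MvPolynomial (Fin n) R₁) A₁ :=
    Module.Finite.of_surjective (Algebra.linearMap (MvPolynomial (Fin n) R₁) A₁) hφ₁
  have hpc : DRing.IsPseudoCoherent' (MvPolynomial (Fin n) R₁)
      (Dual.inD (MvPolynomial (Fin n) R₁) A₁) := by
    rw [isPseudoCoherent'_iff_forall]
    exact fun m => isPseudoCoherent_inD_of_finite_noetherian' A₁ m
  have h1 := Groth.Agent.Helper9.FlatPC2.isPseudoCoherent'_baseChange R₁ R
    (MvPolynomial (Fin n) R) A₁ hpc
  have hs : Function.Surjective (algebraMap (MvPolynomial (Fin n) R)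
      (MvPolynomial (Fin n) R ⊗[MvPolynomial (Fin n) R₁] A₁)) := by
    intro z
    induction z using TensorProduct.induction_on with
    | zero => exact ⟨0, map_zero _⟩
    | tmul p a =>
      obtain ⟨q, rfl⟩ := hφ₁ a
      refine ⟨p * algebraMap _ _ q, ?_⟩
      rw [Algebra.TensorProduct.algebraMap_apply, Algebra.algebraMap_self_apply]
      have : (φ₁ q : A₁) = q • (1 : A₁) := by
        rw [Algebra.smul_def, mul_one]; rfl
      rw [this, ← TensorProduct.smul_tmul, Algebra.smul_def, mul_comm]
    | add x y hx hy =>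
      obtain ⟨x', rfl⟩ := hx
      obtain ⟨y', rfl⟩ := hy
      exact ⟨x' + y', map_add _ _ _⟩
  have h2 : MoreMor.IsPseudoCoherentHom R
      (MvPolynomial (Fin n) R ⊗[MvPolynomial (Fin n) R₁] A₁) :=
    (pcHom_iff_module (A := R) (P := MvPolynomial (Fin n) R) (pcHom_mvPolynomial R n) hs).2 h1
  exact of_algEquiv (Algebra.IsPushout.cancelBaseChangeAlg R₁ R (MvPolynomial (Fin n) R₁)
    (MvPolynomial (Fin n) R) A₁) h2

/-- **Noetherian descent of flat finitely presented algebras** -/
theorem exists_noetherian_flat_model (R A : Type u) [CommRing R] [CommRing A] [Algebra R A]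
    [Module.Flat R A] [Algebra.FinitePresentation R A] :
    ∃ (C A₁ : Type u) (_ : CommRing C) (_ : CommRing A₁) (_ : Algebra C R) (_ : Algebra C A₁),
      IsNoetherianRing C ∧ Algebra.FiniteType C A₁ ∧ Module.Flat C A₁ ∧
        Nonempty (R ⊗[C] A₁ ≃ₐ[R] A) := by
  obtain ⟨n, m, ⟨P⟩⟩ := Algebra.Presentation.exists_presentation_fin R A
  let R₀ := P.Core
  let B₀ := P.ModelOfHasCoeffs R₀
  let e₀ : R ⊗[R₀] B₀ ≃ₐ[R] A := P.tensorModelOfHasCoeffsEquiv R₀
  haveI : Module.Flat R (R ⊗[R₀] B₀) := Module.Flat.of_linearEquiv e₀.toLinearEquiv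
  haveI : Algebra.FinitePresentation R₀ B₀ := inferInstance
  obtain ⟨C, _, _, hC, ψ, hflat⟩ :=
    Groth.Agent.Lead.FD18.exists_fp_flat_module (A₀ := R₀) B₀ B₀ R
  letI : Algebra C R := ψ.toRingHom.toAlgebra
  haveI : IsScalarTower R₀ C R := IsScalarTower.of_algebraMap_eq (fun r => (ψ.commutes r).symm)
  haveI : Algebra.FiniteType ℤ R₀ := inferInstance
  haveI : IsNoetherianRing R₀ := Algebra.FiniteType.isNoetherianRing ℤ R₀
  haveI : IsNoetherianRing C := Algebra.FiniteType.isNoetherianRing R₀ C
  refine ⟨C, C ⊗[R₀] B₀, inferInstance, inferInstance, inferInstance, inferInstance,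
    inferInstance, inferInstance, hflat, ⟨?_⟩⟩
  exact (Algebra.TensorProduct.cancelBaseChange R₀ C R R B₀).trans e₀

/-- **a flat ring map of finite presentation is pseudo-coherent** -/
theorem pcHom_of_flat_fp (R A : Type u) [CommRing R] [CommRing A] [Algebra R A]
    [Module.Flat R A] [Algebra.FinitePresentation R A] : MoreMor.IsPseudoCoherentHom R A := by
  obtain ⟨C, A₁, _, _, _, _, hN, hft, hfl, ⟨e⟩⟩ := exists_noetherian_flat_model R A
  exact of_algEquiv e (pcHom_of_noetherian_model C A₁ R)

end

end Groth.Agent.Helper9.FlatPC3
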