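import Mathlib
import Groth.Prelude.Def_DualSh
import Groth.Prelude.Def_DerSch2
import Groth.Agent.Helper9.Chart7
import Groth.Agent.Helper9.FlatPC3

/-! Relative versus absolute pseudo-coherence when the charts have pseudo-coherent structure
sheaf. -/

set_option autoImplicit false
set_option linter.style.haveILetI false
set_option linter.unusedVariables false
set_option linter.unusedSectionVars false
universe u

namespace Groth.Agent.Helper9.Chart8

noncomputable section

open CategoryTheory CategoryTheory.Limits AlgebraicGeometry HomologicalComplex Pretriangulated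
open Groth.Agent.Lead.PcLib Groth.Agent.Lead.PerfLib Groth.Agent.Helper9.Chart1
  Groth.Agent.Helper9.Chart2 Groth.Agent.Helper9.Chart3 Groth.Agent.Helper9.Chart4
  Groth.Agent.Helper9.Chart5 Groth.Agent.Helper9.Chart6 Groth.Agent.Helper9.Chart7
  Groth.Agent.Helper9.CI1 Groth.Agent.Helper9.CI2 Groth.Agent.Helper9.CI5
  Groth.Agent.Helper9.ClImm1 Groth.Agent.Helper9.ClImmPF2 Scheme.Modules

attribute [local instance] HasDerivedCategory.standard

section Iso

variable {Z Z' X : Scheme.{u}}

/-- the direct image along an isomorphism is the restriction along its inverse -/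
def pushforwardIsoRestrict (e : Z ≅ Z') : pushforward e.hom ≅ restrictFunctor e.inv :=
  (Functor.rightUnitor _).symm ≪≫
    Functor.isoWhiskerLeft _ (restrictFunctorId (X := Z')).symm ≪≫
    Groth.Agent.Helper9.OBC1.iso e.hom (𝟙 Z') e.inv (𝟙 Z') (by simp) (by
      rw [Scheme.Hom.opensRange_of_isIso, Scheme.Hom.opensRange_of_isIso]
      rfl) ≪≫
    Functor.isoWhiskerLeft _ (pushforwardId Z') ≪≫ Functor.rightUnitor _

/-- the direct image of the structure sheaf along an isomorphism -/
def pushforwardUnitIso (e : Z ≅ Z') :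
    (pushforward e.hom).obj (Coh.structureModule Z) ≅ Coh.structureModule Z' :=
  (pushforwardIsoRestrict e).app _ ≪≫ restrictUnitIso e.inv

theorem HO_comp_iso (e : Z ≅ Z') (i : Z' ⟶ X) [IsClosedImmersion i] (hO : HO i) :
    HO (e.hom ≫ i) := by
  intro m
  have e1 : (pushforward (e.hom ≫ i)).obj (Coh.structureModule Z) ≅
      (pushforward i).obj (Coh.structureModule Z') :=
    ((pushforwardComp e.hom i).app _).symm ≪≫ (pushforward i).mapIso (pushforwardUnitIso e)
  exact isPseudoCoherentD_of_iso ((DerivedCategory.singleFunctor _ 0).mapIso e1.symm) (hO m)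

end Iso

variable {X S : Scheme.{u}}

section AffinePair

variable {U : X.Opens} (hU : IsAffineOpen U) {P : Type u} [CommRing P] (ρ : P →+* Γ(X, U))
  (hρ : Function.Surjective ρ)

include hU hρ in
lemma isClosedImmersion_cMap : IsClosedImmersion (cMap U ρ) := by
  haveI : IsIso U.toSpecΓ := by
    rw [← hU.isoSpec_hom]
    infer_instance
  haveI : IsClosedImmersion (Spec.map (CommRingCat.ofHom ρ)) :=
    IsClosedImmersion.spec_of_surjective _ hρ
  unfold cMap
  infer_instance

include hU hρ in
/-- the chart has pseudo-coherent structure sheaf when the ring of sections is a pseudo-coherent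
module over the source of the presentation -/
theorem HO_cMap [IsClosedImmersion (cMap U ρ)]
    (h : letI := ρ.toAlgebra; DRing.IsPseudoCoherent' P (Dual.inD P Γ(X, U))) :
    HO (cMap U ρ) := by
  haveI : IsClosedImmersion (Spec.map (CommRingCat.ofHom ρ)) :=
    IsClosedImmersion.spec_of_surjective _ hρ
  have h1 : HO (Spec.map (CommRingCat.ofHom ρ)) := HO_spec (CommRingCat.ofHom ρ) h
  exact HO_comp_iso hU.isoSpec _ h1

/-- when the chart has pseudo-coherent structure sheaf, the test is absolute
pseudo-coherence of the restriction -/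
theorem pc_phi_iff [IsClosedImmersion (cMap U ρ)] (hO : HO (cMap U ρ)) (m : ℤ)
    (K : DCoh.D X) :
    DCoh.IsPseudoCoherentD m ((Phi ρ).obj K) ↔
      DCoh.IsPseudoCoherentD m ((DCoh.restrictD U.ι).obj K) :=
  (Groth.Agent.Helper9.CI4.main' (cMap U ρ) hO ((DCoh.restrictD U.ι).obj K) m).symm

end AffinePair

variable (f : X ⟶ S) [LocallyOfFiniteType f]

/-- if all charts have pseudo-coherent structure sheaf, relative and absolute pseudo-coherence
agree -/
theorem rel_iff_abs (hO : ∀ (U : X.affineOpens) (V : S.affineOpens)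
      (h : (U : X.Opens) ≤ f ⁻¹ᵁ (V : S.Opens))
      (n : ℕ) (φ : MvPolynomial (Fin n) Γ(S, (V : S.Opens)) →+* Γ(X, (U : X.Opens)))
      (_ : DerSch.IsChart f (U : X.Opens) (V : S.Opens) h φ)
      (_ : IsClosedImmersion (cMap (U : X.Opens) φ)), HO (cMap (U : X.Opens) φ))
    (m : ℤ) (K : DCoh.D X) :
    DerSch.IsPseudoCoherentRel f m K ↔ DCoh.IsPseudoCoherentD m K := by
  rw [rel_iff_phi f]
  constructor
  · intro H
    refine Groth.Agent.Helper9.FP1.isPseudoCoherentD_of_local m K (fun x => ?_)
    obtain ⟨_, ⟨V, hV, rfl⟩, hxV, -⟩ :=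
      S.isBasis_affineOpens.exists_subset_of_mem_open (Set.mem_univ (f.base x)) isOpen_univ
    obtain ⟨_, ⟨U, hU, rfl⟩, hxU, hUV⟩ :=
      X.isBasis_affineOpens.exists_subset_of_mem_open (show x ∈ f ⁻¹ᵁ V from hxV)
        (f ⁻¹ᵁ V).isOpen
    let U' : X.affineOpens := ⟨U, hU⟩
    let V' : S.affineOpens := ⟨V, hV⟩
    have hUV' : (U' : X.Opens) ≤ f ⁻¹ᵁ (V' : S.Opens) := hUV
    have hft : (f.appLE (V' : S.Opens) (U' : X.Opens) hUV').hom.FiniteType :=
      HasRingHomProperty.appLE (P := @LocallyOfFiniteType) f inferInstance V' U' hUV'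
    obtain ⟨n, φ, hφ⟩ := exists_isChart f hUV' hft
    haveI hcl : IsClosedImmersion (cMap (U' : X.Opens) φ) :=
      isClosedImmersion_cMap U'.2 φ hφ.1
    refine ⟨(U' : X.Opens), (U' : X.Opens).ι, inferInstance, ⟨⟨x, hxU⟩, rfl⟩, ?_⟩
    exact (pc_phi_iff φ (hO U' V' hUV' n φ hφ hcl) m K).1
      (H U' V' hUV' n φ hφ hcl)
  · intro H U V h n φ hφ hcl
    haveI := hcl
    exact (pc_phi_iff φ (hO U V h n φ hφ hcl) m K).2
      (Groth.Agent.Helper9.TT6.isPseudoCoherentD_restrictD _ m K H)

end

end Groth.Agent.Helper9.Chart8
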