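import Mathlib
import Groth.Prelude.Def_DualSh
import Groth.Prelude.Def_DerSch2
import Groth.Prelude.Def_DerCA
import Groth.Agent.Helper9.Chart12
import Groth.Agent.Helper9.QcLpull1
import Groth.Agent.Helper9.Chart8

/-! Relative pseudo-coherence on affine opens in terms of the ring-level notion. -/

set_option autoImplicit false
set_option linter.style.haveILetI false
set_option linter.unusedVariables false
set_option linter.unusedSectionVars false
universe u

namespace Groth.Agent.Helper9.Chart13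

noncomputable section

open CategoryTheory CategoryTheory.Limits AlgebraicGeometry HomologicalComplex Pretriangulated
open Groth.Agent.Lead.PcLib Groth.Agent.Lead.PerfLib Groth.Agent.Helper9.Chart1
  Groth.Agent.Helper9.Chart2 Groth.Agent.Helper9.Chart3 Groth.Agent.Helper9.Chart4
  Groth.Agent.Helper9.Chart5 Groth.Agent.Helper9.Chart6 Groth.Agent.Helper9.Chart7
  Groth.Agent.Helper9.CI5
  Groth.Agent.Helper9.ClImm1 Groth.Agent.Helper9.ClImmPF2 Scheme.Modules

attribute [local instance] HasDerivedCategory.standard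

section Affine

variable {T R : CommRingCat.{u}} (s : T ⟶ R) [IsClosedImmersion (Spec.map s)]
  [PreservesFiniteLimits (tilde.functor R)] [PreservesFiniteLimits (tilde.functor T)]

/-- termwise: direct image of `M~` is `(M_T)~` -/
def cxIso (M₀ : CochainComplex (ModuleCat.{u} R) ℤ) :
    (DerSch.pushCx (Spec.map s)).obj
      (((tilde.functor R).mapHomologicalComplex (ComplexShape.up ℤ)).obj M₀) ≅
    ((tilde.functor T).mapHomologicalComplex (ComplexShape.up ℤ)).obj
      (((ModuleCat.restrictScalars.{u} s.hom).mapHomologicalComplex (ComplexShape.up ℤ)).obj M₀) :=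
  HomologicalComplex.Hom.isoOfComponents
    (fun i => (Groth.Agent.Helper9.TilPush1.θ s).app (M₀.X i))
    (fun i j _ => ((Groth.Agent.Helper9.TilPush1.θ s).hom.naturality (M₀.d i j)).symm)

/-- the direct image along a closed immersion of affine schemes of the complex attached to an
object of `D(R)` -/
def pushTildeIso (H : CochainComplex (Spec R).Modules ℤ)
    (M : DerivedCategory (ModuleCat.{u} R))
    (e : (DCoh.tildeD R).obj M ≅ DerivedCategory.Q.obj H) :
    DerivedCategory.Q.obj ((DerSch.pushCx (Spec.map s)).obj H) ≅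
      (DCoh.tildeD T).obj ((DRing.restrictD s.hom).obj M) := by
  let M₀ : CochainComplex (ModuleCat.{u} R) ℤ := DerivedCategory.Q.objPreimage M
  let e₀ : DerivedCategory.Q.obj M₀ ≅ M := DerivedCategory.Q.objObjPreimageIso M
  exact ((pushforward (Spec.map s)).mapDerivedCategoryFactors.app H).symm ≪≫
    (pushforward (Spec.map s)).mapDerivedCategory.mapIso
      (e.symm ≪≫ (DCoh.tildeD R).mapIso e₀.symm ≪≫
        (tilde.functor R).mapDerivedCategoryFactors.app M₀) ≪≫
    (pushforward (Spec.map s)).mapDerivedCategoryFactors.app _ ≪≫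
    DerivedCategory.Q.mapIso (cxIso s M₀) ≪≫
    ((tilde.functor T).mapDerivedCategoryFactors.app _).symm ≪≫
    (DCoh.tildeD T).mapIso
      (((ModuleCat.restrictScalars.{u} s.hom).mapDerivedCategoryFactors.app M₀).symm ≪≫
        (DRing.restrictD s.hom).mapIso e₀)

theorem pc_push_iff (H : CochainComplex (Spec R).Modules ℤ)
    (M : DerivedCategory (ModuleCat.{u} R))
    (e : (DCoh.tildeD R).obj M ≅ DerivedCategory.Q.obj H) (m : ℤ) :
    DCoh.IsPseudoCoherentD m (DerivedCategory.Q.obj ((DerSch.pushCx (Spec.map s)).obj H)) ↔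
      DRing.IsPseudoCoherent T m ((DRing.restrictD s.hom).obj M) := by
  rw [← Groth.Agent.Helper9.TP3.isPseudoCoherentD_tildeD_iff T _ m]
  exact ⟨fun h => isPseudoCoherentD_of_iso (pushTildeIso s H M e) h,
    fun h => isPseudoCoherentD_of_iso (pushTildeIso s H M e).symm h⟩

end Affine

variable {X S : Scheme.{u}}

section AffineOpen

variable {U : X.Opens} (hU : IsAffineOpen U) {P : Type u} [CommRing P] (ρ : P →+* Γ(X, U))
  (hρ : Function.Surjective ρ) [PreservesFiniteLimits (tilde.functor Γ(X, U))]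

include hρ in
/-- the test along a chart on an affine open, in terms of the ring-level notion -/
theorem pcvia_iff_ring (m : ℤ) (G : CochainComplex X.Modules ℤ)
    (M : DerivedCategory (ModuleCat.{u} Γ(X, U)))
    (eM : (DCoh.tildeD Γ(X, U)).obj M ≅
      DCoh.toD _ ((DerSch.pushCx hU.isoSpec.hom).obj ((DCoh.restrictCx U).obj G))) :
    PCvia U ρ m G ↔ DRing.IsPseudoCoherent P m ((DRing.restrictD ρ).obj M) := by
  let s : CommRingCat.of P ⟶ Γ(X, U) := CommRingCat.ofHom ρ
  haveI : IsClosedImmersion (Spec.map s) := IsClosedImmersion.spec_of_surjective _ hρ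
  haveI : PreservesFiniteLimits (tilde.functor (CommRingCat.of P)) :=
    Groth.Agent.Helper4.TildeExact.preservesFiniteLimits_tilde _
  have key := pc_push_iff s _ M eM m
  refine Iff.trans ?_ key
  have e1 : (DerSch.pushCx (cMap U ρ)).obj ((DCoh.restrictCx U).obj G) ≅
      (DerSch.pushCx (Spec.map s)).obj
        ((DerSch.pushCx hU.isoSpec.hom).obj ((DCoh.restrictCx U).obj G)) :=
    (pushCxComp U.toSpecΓ (Spec.map s) _).symm
  exact ⟨fun h => isPseudoCoherentD_of_iso (DerivedCategory.Q.mapIso e1) h,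
    fun h => isPseudoCoherentD_of_iso (DerivedCategory.Q.mapIso e1.symm) h⟩

/-- the complex on `Spec Γ(X, U)` attached to an object with quasi-coherent cohomology comes from
`D(Γ(X, U))` -/
theorem exists_tildeD_iso (G : CochainComplex X.Modules ℤ)
    (hG : DCoh.IsQCohD (DCoh.toD X G)) :
    ∃ M : DerivedCategory (ModuleCat.{u} Γ(X, U)), Nonempty ((DCoh.tildeD Γ(X, U)).obj M ≅
      DCoh.toD _ ((DerSch.pushCx hU.isoSpec.hom).obj ((DCoh.restrictCx U).obj G))) := by
  apply Groth.Agent.Helper9.QcLpull1.exists_iso_tildeD Γ(X, U)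
  intro i
  haveI : IsClosedImmersion hU.isoSpec.hom := inferInstance
  have e1 : DCoh.HD (DCoh.toD _ ((DerSch.pushCx hU.isoSpec.hom).obj
      ((DCoh.restrictCx U).obj G))) i ≅
      (pushforward hU.isoSpec.hom).obj ((restrictFunctor U.ι).obj (DCoh.HD (DCoh.toD X G) i)) :=
    (DerivedCategory.homologyFunctorFactors _ i).app _ ≪≫
      (mapHomologyNatIso (pushforward hU.isoSpec.hom) i).app _ ≪≫
      (pushforward hU.isoSpec.hom).mapIso
        ((mapHomologyNatIso (restrictFunctor U.ι) i).app G ≪≫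
          (restrictFunctor U.ι).mapIso ((DerivedCategory.homologyFunctorFactors _ i).app G).symm)
  have e2 := (Groth.Agent.Helper9.Chart8.pushforwardIsoRestrict hU.isoSpec).app
    ((restrictFunctor U.ι).obj (DCoh.HD (DCoh.toD X G) i))
  haveI : (DCoh.HD (DCoh.toD X G) i).IsQuasicoherent := hG i
  exact (SheafOfModules.isQuasicoherent (Spec Γ(X, U)).ringCatSheaf).prop_of_iso (e1 ≪≫ e2).symm
    (inferInstanceAs ((restrictFunctor hU.isoSpec.inv).obj
      ((restrictFunctor U.ι).obj (DCoh.HD (DCoh.toD X G) i))).IsQuasicoherent)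

end AffineOpen

section Main

variable (f : X ⟶ S) [LocallyOfFiniteType f]
  [∀ U : X.affineOpens, PreservesFiniteLimits (tilde.functor Γ(X, (U : X.Opens)))]

/-- **relative pseudo-coherence in terms of sections over affine opens** -/
theorem rel_iff_sections (E : DCoh.D X) (hE : DCoh.IsQCohD E) (m : ℤ) :
    DerSch.IsPseudoCoherentRel f m E ↔
      ∀ (U : X.affineOpens) (V : S.affineOpens) (h : (U : X.Opens) ≤ f ⁻¹ᵁ (V : S.Opens))
        (G : CochainComplex X.Modules ℤ), Nonempty (DCoh.toD X G ≅ E) →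
        ∀ M : Dual.D Γ(X, (U : X.Opens)),
          Nonempty ((DCoh.tildeD Γ(X, (U : X.Opens))).obj M ≅
            DCoh.toD _ ((DerSch.pushCx U.2.isoSpec.hom).obj
              ((DCoh.restrictCx (U : X.Opens)).obj G))) →
          letI := (f.appLE (V : S.Opens) (U : X.Opens) h).hom.toAlgebra
          DerCA.IsRelPseudoCoherent Γ(S, (V : S.Opens)) Γ(X, (U : X.Opens)) m M := by
  rw [rel_iff f]
  constructor
  · intro H U V h G ⟨eG⟩ M ⟨eM⟩
    letI := (f.appLE (V : S.Opens) (U : X.Opens) h).hom.toAlgebra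
    obtain ⟨n, φ, hφ, hc⟩ := H U V h
    have h1 : PCvia (U : X.Opens) φ m G := hc G ⟨eG⟩
    have h2 := (pcvia_iff_ring U.2 φ hφ.1 m G M eM).1 h1
    let α : MvPolynomial (Fin n) Γ(S, (V : S.Opens)) →ₐ[Γ(S, (V : S.Opens))]
        Γ(X, (U : X.Opens)) :=
      { φ with commutes' := fun r => congrFun (congrArg DFunLike.coe hφ.2) r }
    exact ⟨n, α, hφ.1, h2⟩
  · intro H U V h
    letI := (f.appLE (V : S.Opens) (U : X.Opens) h).hom.toAlgebra
    let G₀ : CochainComplex X.Modules ℤ := DerivedCategory.Q.objPreimage E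
    let e₀ : DerivedCategory.Q.obj G₀ ≅ E := DerivedCategory.Q.objObjPreimageIso E
    obtain ⟨M, ⟨eM⟩⟩ := exists_tildeD_iso U.2 G₀
      (Groth.Agent.Helper9.QcLpull1.isQCohD_of_iso e₀.symm hE)
    obtain ⟨n, α, hα, hvia⟩ := H U V h G₀ ⟨e₀⟩ M ⟨eM⟩
    let φ : MvPolynomial (Fin n) Γ(S, (V : S.Opens)) →+* Γ(X, (U : X.Opens)) := α
    have hφ : DerSch.IsChart f (U : X.Opens) (V : S.Opens) h φ :=
      ⟨hα, RingHom.ext (fun r => α.commutes r)⟩
    haveI : IsClosedImmersion (cMap (U : X.Opens) φ) :=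
      Groth.Agent.Helper9.ClImm3.isClosedImmersion_chartImm (U : X.Opens) U.2 φ hφ.1
    have h1 : PCvia (U : X.Opens) φ m G₀ := (pcvia_iff_ring U.2 φ hφ.1 m G₀ M eM).2 hvia
    exact ⟨n, φ, hφ, (chartPC_iff_phi φ m E).2
      (isPseudoCoherentD_of_iso ((Phi φ).mapIso e₀) ((pcvia_iff_phi φ m G₀).1 h1))⟩

end Main

end

end Groth.Agent.Helper9.Chart13
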