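import Mathlib
import Groth.Prelude.Def_DualSh
import Groth.Prelude.Def_DerSch2
import Groth.Prelude.Def_DerCA
import Groth.Agent.Helper9.Chart13
import Groth.Agent.Helper4.FTTilde
import Groth.Agent.Helper4.FinLocFree

/-! Modules of finite type and relative `0`-pseudo-coherence. -/

set_option autoImplicit false
set_option linter.style.haveILetI false
set_option linter.unusedVariables false
set_option linter.unusedSectionVars false
universe u

namespace Groth.Agent.Helper9.Chart14

noncomputable section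

open CategoryTheory CategoryTheory.Limits AlgebraicGeometry HomologicalComplex Pretriangulated
open Groth.Agent.Lead.PcLib Groth.Agent.Lead.PerfLib Groth.Agent.Helper9.Chart1
  Groth.Agent.Helper9.Chart2 Groth.Agent.Helper9.Chart3 Groth.Agent.Helper9.Chart4
  Groth.Agent.Helper9.Chart5 Groth.Agent.Helper9.Chart6 Groth.Agent.Helper9.Chart7
  Groth.Agent.Helper9.Chart12 Groth.Agent.Helper9.Chart13
  Groth.Agent.Helper9.CI5 Groth.Agent.Helper8.TildeBC
  Groth.Agent.Helper9.ClImm1 Groth.Agent.Helper9.ClImmPF2 Scheme.Modules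

attribute [local instance] HasDerivedCategory.standard

section Abs

variable {Y : Scheme.{u}}

/-- a quotient of a free module of finite rank, placed in degree `0`, is `0`-pseudo-coherent -/
theorem pc_zero_of_gen (N : Y.Modules) (k : ℕ) (h : Gen N k) :
    DCoh.IsPseudoCoherentD 0 (DCoh.inD Y N) := by
  obtain ⟨p, hp⟩ := h
  let S : ShortComplex Y.Modules := ShortComplex.mk (kernel.ι p) p (kernel.condition p)
  have hS : S.ShortExact :=
    { exact := ShortComplex.exact_of_f_is_kernel _ (kernelIsKernel p)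
      mono_f := inferInstanceAs (Mono (kernel.ι p))
      epi_g := hp }
  have hT := hS.singleTriangle_distinguished
  have h1 : DCoh.IsPseudoCoherentD (0 + 1) hS.singleTriangle.obj₁ := by
    apply isPseudoCoherentD_of_isZero_HD
    intro i hi
    exact ((DerivedCategory.singleFunctor Y.Modules 0).obj (kernel p)).isZero_of_isLE 0 i
      (by omega)
  have h2 : DCoh.IsPseudoCoherentD 0 hS.singleTriangle.obj₂ :=
    Groth.Agent.Helper9.CI3.pcAll_inD_freeMod Y k 0
  exact (isPseudoCoherentD_triangle 0 _ hT).1 h1 h2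

/-- a module `N` with `N[0]` `0`-pseudo-coherent is of finite type -/
theorem isFT_of_pc_zero (N : Y.Modules) (h : DCoh.IsPseudoCoherentD 0 (DCoh.inD Y N)) :
    CohB1.IsFT N := by
  have h1 := (finiteType_top_cohomology_of_pseudoCoherent 0 _ h).1 (fun i hi =>
    ((DerivedCategory.singleFunctor Y.Modules 0).obj N).isZero_of_isLE 0 i hi)
  haveI := h1
  exact Groth.Agent.Helper4.FTRestrict.SoM.isFiniteType_of_iso (R := Y.ringCatSheaf)
    (M := DCoh.HD (DCoh.inD Y N) 0) (N := N)
    ((DerivedCategory.singleFunctorCompHomologyFunctorIso Y.Modules 0).app N)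

end Abs

section Alg

/-- a finite module over a quotient ring is finite over the ring -/
lemma finite_compHom {P R Q : Type u} [CommRing P] [CommRing R] (ρ : P →+* R)
    (hρ : Function.Surjective ρ) [AddCommGroup Q] [Module R Q] [Module.Finite R Q] :
    @Module.Finite P Q _ _ (Module.compHom Q ρ) := by
  letI := ρ.toAlgebra
  letI := Module.compHom Q ρ
  haveI : IsScalarTower P R Q := IsScalarTower.of_algebraMap_smul (fun _ _ => rfl)
  haveI : Module.Finite P R := Module.Finite.of_surjective (Algebra.linearMap P R) hρ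
  exact Module.Finite.trans R Q

/-- the sheaf attached to a finite module is a quotient of a free module of finite rank -/
theorem exists_gen_tilde (T : CommRingCat.{u}) (N : ModuleCat.{u} T) [Module.Finite T N] :
    ∃ k, Gen ((tilde.functor T).obj N) k := by
  obtain ⟨k, g, hg⟩ := Module.Finite.exists_fin' T N
  let g' : (Fin k →₀ T) →ₗ[T] N := g.comp (Finsupp.linearEquivFunOnFinite T T (Fin k)).toLinearMap
  have hg' : Function.Surjective g' :=
    hg.comp (Finsupp.linearEquivFunOnFinite T T (Fin k)).surjective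
  let q : ModuleCat.of T (Fin k →₀ T) ⟶ N := ModuleCat.ofHom (Y := N) g'
  haveI : Epi q := (ModuleCat.epi_iff_surjective q).2 hg'
  have h2 : Epi ((tilde.functor T).map q) := inferInstance
  exact ⟨k, (Groth.Agent.Helper4.FinLocFree.tildeFreeIso T k).inv ≫ (tilde.functor T).map q,
    @epi_comp _ _ _ _ _ (Groth.Agent.Helper4.FinLocFree.tildeFreeIso T k).inv inferInstance _ h2⟩

end Alg

variable {X S : Scheme.{u}}

section G1

variable {U : X.Opens} (hU : IsAffineOpen U) {P : Type u} [CommRing P] (ρ : P →+* Γ(X, U))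
  (hρ : Function.Surjective ρ)

include hU hρ in
/-- the direct image of a free module of finite rank along an affine chart is a quotient of a
free module of finite rank -/
theorem exists_gen_push_free (r : ℕ) :
    ∃ k, Gen ((pushforward (cMap U ρ)).obj (FlatMod.freeMod (U : Scheme.{u}) r)) k := by
  let R : CommRingCat.{u} := Γ(X, U)
  let s : CommRingCat.of P ⟶ R := CommRingCat.ofHom ρ
  let Q : ModuleCat.{u} R := ModuleCat.of R (Fin r →₀ R)
  let N' : ModuleCat.{u} (CommRingCat.of P) := (ModuleCat.restrictScalars s.hom).obj Q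
  have e : (pushforward (cMap U ρ)).obj (FlatMod.freeMod (U : Scheme.{u}) r) ≅
      (tilde.functor (CommRingCat.of P)).obj N' :=
    ((pushforwardComp U.toSpecΓ (Spec.map s)).app _).symm ≪≫
      (pushforward (Spec.map s)).mapIso
        ((Groth.Agent.Helper9.Chart8.pushforwardIsoRestrict hU.isoSpec).app _ ≪≫
          Groth.Agent.Helper4.FinLocFree.restrictFreeIso hU.isoSpec.inv r ≪≫
          (Groth.Agent.Helper4.FinLocFree.tildeFreeIso R r).symm) ≪≫
      (Groth.Agent.Helper9.TilPush1.θ s).app Q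
  haveI : Module.Finite (CommRingCat.of P) N' := finite_compHom ρ hρ (Q := (Fin r →₀ R))
  obtain ⟨k, hk⟩ := exists_gen_tilde (CommRingCat.of P) N'
  exact ⟨k, hk.of_iso e.symm⟩

include hU hρ in
theorem exists_gen_push [IsClosedImmersion (cMap U ρ)] (N : (U : Scheme.{u}).Modules) (r : ℕ)
    (h : Gen N r) : ∃ k, Gen ((pushforward (cMap U ρ)).obj N) k := by
  obtain ⟨p, hp⟩ := h
  obtain ⟨k, hk⟩ := exists_gen_push_free hU ρ hρ r
  haveI : Epi ((pushforward (cMap U ρ)).map p) := inferInstance
  exact ⟨k, hk.of_epi ((pushforward (cMap U ρ)).map p)⟩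

end G1

section FT

variable (f : X ⟶ S) [LocallyOfFiniteType f]

/-- **relative `0`-pseudo-coherence of a module is finite type** -/
theorem rel_zero_iff_isFT (M : X.Modules) :
    DerSch.IsPseudoCoherentRel f 0 (DCoh.inD X M) ↔ CohB1.IsFT M := by
  constructor
  · intro h
    rw [rel_iff_phi f] at h
    apply isFiniteType_of_locally_gen
    intro x
    obtain ⟨_, ⟨V₀, hV0, rfl⟩, hfxV, -⟩ :=
      S.isBasis_affineOpens.exists_subset_of_mem_open (Set.mem_univ (f x)) isOpen_univ
    obtain ⟨_, ⟨U₀, hU0, rfl⟩, hxU, hUV⟩ :=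
      X.isBasis_affineOpens.exists_subset_of_mem_open (show x ∈ (f ⁻¹ᵁ V₀ : Set X) from hfxV)
        (f ⁻¹ᵁ V₀).2
    let U : X.affineOpens := ⟨U₀, hU0⟩
    let V : S.affineOpens := ⟨V₀, hV0⟩
    have hle : (U : X.Opens) ≤ f ⁻¹ᵁ (V : S.Opens) := hUV
    have hxU' : x ∈ (U : X.Opens) := hxU
    have hft : (f.appLE (V : S.Opens) (U : X.Opens) hle).hom.FiniteType :=
      HasRingHomProperty.appLE (P := @LocallyOfFiniteType) f inferInstance V U hle
    obtain ⟨n, φ, hφ⟩ := exists_isChart f hle hft
    haveI : IsClosedImmersion (cMap (U : X.Opens) φ) :=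
      Groth.Agent.Helper9.ClImm3.isClosedImmersion_chartImm (U : X.Opens) U.2 φ hφ.1
    have h1 := h U V hle n φ hφ inferInstance
    have h2 : CohB1.IsFT ((pushforward (cMap (U : X.Opens) φ)).obj
        ((restrictFunctor (U : X.Opens).ι).obj M)) :=
      isFT_of_pc_zero _ (isPseudoCoherentD_of_iso (phiInD φ M) h1)
    have h3 : CohB1.IsFT ((restrictFunctor (U : X.Opens).ι).obj M) :=
      Groth.Agent.Helper9.CI3.isFT_of_pushforward (cMap (U : X.Opens) φ) _ h2
    obtain ⟨W, hxW, hW⟩ :=
      Groth.Agent.Helper4.FTLocal.exists_generatingSections_restrict _ h3 ⟨x, hxU'⟩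
    obtain ⟨σ, hσ⟩ := hW W le_rfl
    haveI := hσ
    obtain ⟨r, hr⟩ := Groth.Agent.Helper4.FTTilde.gen_of_generatingSections _ σ
    refine ⟨W, W.ι ≫ (U : X.Opens).ι, inferInstance, r, ⟨⟨⟨x, hxU'⟩, hxW⟩, rfl⟩, ?_⟩
    exact hr.of_iso ((restrictFunctorComp W.ι (U : X.Opens).ι).symm.app M)
  · intro hM
    refine ⟨inferInstance, Set.univ, ?_, fun V _ => ?_⟩
    · rw [← iSup_affineOpens_eq_top S]
      simp
    · refine ⟨{U : X.affineOpens | (U : X.Opens) ≤ f ⁻¹ᵁ (V : S.Opens) ∧
          ∃ r, Gen ((restrictFunctor (U : X.Opens).ι).obj M) r}, ?_, ?_⟩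
      · apply le_antisymm
        · exact iSup₂_le (fun U hU => hU.1)
        · intro x hx
          obtain ⟨W, hxW, hW⟩ :=
            Groth.Agent.Helper4.FTLocal.exists_generatingSections_restrict M hM x
          obtain ⟨_, ⟨U₀, hU0, rfl⟩, hxU, hUW⟩ :=
            X.isBasis_affineOpens.exists_subset_of_mem_open
              (show x ∈ ((W ⊓ f ⁻¹ᵁ (V : S.Opens) : X.Opens) : Set X) from ⟨hxW, hx⟩)
              (W ⊓ f ⁻¹ᵁ (V : S.Opens)).2
          let U : X.affineOpens := ⟨U₀, hU0⟩
          have hUW' : (U : X.Opens) ≤ W ⊓ f ⁻¹ᵁ (V : S.Opens) := hUW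
          obtain ⟨σ, hσ⟩ := hW (U : X.Opens) (hUW'.trans inf_le_left)
          haveI := hσ
          obtain ⟨r, hr⟩ := Groth.Agent.Helper4.FTTilde.gen_of_generatingSections _ σ
          simp only [TopologicalSpace.Opens.mem_iSup]
          exact ⟨U, ⟨hUW'.trans inf_le_right, r, hr⟩, hxU⟩
      · rintro U ⟨-, r, hr⟩ h
        have hft : (f.appLE (V : S.Opens) (U : X.Opens) h).hom.FiniteType :=
          HasRingHomProperty.appLE (P := @LocallyOfFiniteType) f inferInstance V U h
        obtain ⟨n, φ, hφ⟩ := exists_isChart f h hft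
        haveI : IsClosedImmersion (cMap (U : X.Opens) φ) :=
          Groth.Agent.Helper9.ClImm3.isClosedImmersion_chartImm (U : X.Opens) U.2 φ hφ.1
        obtain ⟨k, hk⟩ := exists_gen_push U.2 φ hφ.1 _ r hr
        exact ⟨n, φ, hφ, (chartPC_iff_phi φ 0 _).2
          (isPseudoCoherentD_of_iso (phiInD φ M).symm (pc_zero_of_gen _ k hk))⟩

end FT

end

end Groth.Agent.Helper9.Chart14
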