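import Mathlib
import Groth.Prelude.Def_DerSch2
import Groth.Agent.Helper9.ClImm3
import Groth.Agent.Helper4.QcohGlue
import Groth.Agent.Lead.PerfLib6

/-! Quasi-coherence descends along the direct image of a closed immersion; relative
pseudo-coherence (chart form, all degrees) implies quasi-coherent cohomology. -/

set_option autoImplicit false
set_option linter.style.haveILetI false
set_option linter.unusedVariables false
set_option linter.unusedSectionVars false
set_option linter.unusedSimpArgs false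
universe u

namespace Groth.Agent.Helper9.ClImm4

open CategoryTheory CategoryTheory.Limits AlgebraicGeometry Opposite TopologicalSpace
open Groth.Agent.Lead.PerfLib Groth.Agent.Lead.PcLib Groth.Agent.Helper9.ClImm1
  Groth.Agent.Helper4.QcqsMod Groth.Agent.Helper4.StalkDict

attribute [local instance] HasDerivedCategory.standard

variable {X S : Scheme.{u}}

/-- if `f_* F` is localizing on `V` and `f` is surjective on sections over `V`, then `F` is
localizing on `f⁻¹ V` -/
theorem isLocalizingOn_of_pushforward (f : X ⟶ S) (F : X.Modules) (V : S.Opens)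
    (hs : Function.Surjective (f.app V))
    (h : IsLocalizingOn ((Scheme.Modules.pushforward f).obj F) V) :
    IsLocalizingOn F (f ⁻¹ᵁ V) := by
  constructor
  · intro a' m hm
    obtain ⟨a, rfl⟩ := hs a'
    have hm0 : F.presheaf.map (homOfLE (f.preimage_mono (S.basicOpen_le a))).op m = 0 := by
      apply section_ext F (f ⁻¹ᵁ (S.basicOpen a))
      intro x hx
      have hx' : x ∈ X.basicOpen (f.app V a) := by rw [← preimage_basicOpen_eq]; exact hx
      have h1 := congrArg (F.presheaf.germ (X.basicOpen (f.app V a)) x hx') hm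
      rw [germ_res, map_zero] at h1
      rw [germ_res, map_zero]
      exact h1
    obtain ⟨n, hn⟩ := h.zero a m hm0
    refine ⟨n, ?_⟩
    have hn' : (f.app V (a ^ n)) • m = 0 := hn
    rw [map_pow] at hn'
    exact hn'
  · intro a' t
    obtain ⟨a, rfl⟩ := hs a'
    have hle : f ⁻¹ᵁ (S.basicOpen a) ≤ X.basicOpen (f.app V a) :=
      (preimage_basicOpen_eq f V a).le
    obtain ⟨n, m, hnm⟩ := h.surj a
      (show Γ((Scheme.Modules.pushforward f).obj F, S.basicOpen a) from
        F.presheaf.map (homOfLE hle).op t)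
    refine ⟨n, m, ?_⟩
    have hnat : f.app (S.basicOpen a) (S.presheaf.map (homOfLE (S.basicOpen_le a)).op (a ^ n)) =
        X.presheaf.map (homOfLE (f.preimage_mono (S.basicOpen_le a))).op (f.app V (a ^ n)) := by
      have := f.naturality (homOfLE (S.basicOpen_le a)).op
      exact congrArg (fun g => g.hom (a ^ n)) this
    have hnm' : (X.presheaf.map (homOfLE (f.preimage_mono (S.basicOpen_le a))).op
        (f.app V (a ^ n))) • F.presheaf.map (homOfLE hle).op t =
        F.presheaf.map (homOfLE (f.preimage_mono (S.basicOpen_le a))).op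
          (show Γ(F, f ⁻¹ᵁ V) from m) := by
      rw [← hnat]
      exact hnm
    apply section_ext F
    intro x hx
    have hx' : x ∈ f ⁻¹ᵁ (S.basicOpen a) := by rw [preimage_basicOpen_eq]; exact hx
    have h1 := congrArg (F.presheaf.germ (f ⁻¹ᵁ (S.basicOpen a)) x hx') hnm'
    rw [germ_smul, germ_resO, germ_res, germ_res] at h1
    rw [germ_smul, germ_resO, ← map_pow]
    exact h1.trans (germ_res F (X.basicOpen_le _) x hx (show Γ(F, f ⁻¹ᵁ V) from m)).symm

/-- a module whose direct image along a closed immersion is quasi-coherent is quasi-coherent -/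
theorem isQuasicoherent_of_pushforward (i : X ⟶ S) [IsClosedImmersion i] (M : X.Modules)
    (h : ((Scheme.Modules.pushforward i).obj M).IsQuasicoherent) : M.IsQuasicoherent := by
  apply Groth.Agent.Helper4.QcohGlue.isQuasicoherent_of_isLocalizingOn
  intro x
  obtain ⟨V, hV, hxV⟩ : ∃ V : S.Opens, IsAffineOpen V ∧ i.base x ∈ V := by
    obtain ⟨_, ⟨V, hV, rfl⟩, hxV, -⟩ := S.isBasis_affineOpens.exists_subset_of_mem_open
      (Set.mem_univ (i.base x)) isOpen_univ
    exact ⟨V, hV, hxV⟩
  refine ⟨i ⁻¹ᵁ V, hV.preimage i, hxV, ?_⟩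
  exact isLocalizingOn_of_pushforward i M V (i.app_surjective V hV)
    (isLocalizingOn_of_isAffineOpen _ hV)

variable {Y : Scheme.{u}}

/-- **relative pseudo-coherence in all degrees implies quasi-coherent cohomology sheaves** -/
theorem isQCohD_of_isPseudoCoherentRelAll (f : X ⟶ Y) (E : DCoh.D X)
    (hE : DerSch.IsPseudoCoherentRelAll f E) : DCoh.IsQCohD E := by
  intro j
  let F₀ : CochainComplex X.Modules ℤ := DerivedCategory.Q.objPreimage E
  let e₀ : DerivedCategory.Q.obj F₀ ≅ E := DerivedCategory.Q.objObjPreimageIso E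
  haveI hq : (F₀.homology j).IsQuasicoherent := by
    apply isQuasicoherent_of_locally
    intro x
    obtain ⟨hft, 𝒱, h𝒱, hV⟩ := hE (j - 1)
    have hfx : f.base x ∈ (⊤ : Y.Opens) := Opens.mem_top _
    rw [← h𝒱] at hfx
    simp only [Opens.mem_iSup] at hfx
    obtain ⟨V, hVm, hxV⟩ := hfx
    obtain ⟨𝒰, h𝒰, hU⟩ := hV V hVm
    have hx' : x ∈ f ⁻¹ᵁ (V : Y.Opens) := hxV
    rw [← h𝒰] at hx'
    simp only [Opens.mem_iSup] at hx'
    obtain ⟨U, hUm, hxU⟩ := hx'
    have hle : (U : X.Opens) ≤ f ⁻¹ᵁ (V : Y.Opens) := by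
      rw [← h𝒰]
      exact le_iSup₂ (f := fun (U : X.affineOpens) (_ : U ∈ 𝒰) => (U : X.Opens)) U hUm
    obtain ⟨k, φ, hc, hpc⟩ := hU U hUm hle
    have hpc' := hpc F₀ ⟨e₀⟩
    haveI : IsClosedImmersion (DerSch.chartImm (U : X.Opens) φ) :=
      Groth.Agent.Helper9.ClImm3.isClosedImmersion_chartImm (U : X.Opens) U.2 φ hc.1
    refine ⟨U, (U : X.Opens).ι, inferInstance, ⟨⟨x, hxU⟩, rfl⟩, ?_⟩
    haveI h1 : (DCoh.HD (DCoh.toD _ ((DerSch.pushCx (DerSch.chartImm (U : X.Opens) φ)).obj
        ((DCoh.restrictCx (U : X.Opens)).obj F₀))) j).IsQuasicoherent :=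
      (isQCoh_cohomology_of_pseudoCoherentD (j - 1) _ hpc').1 j (by omega)
    have h2 : ((Scheme.Modules.pushforward (DerSch.chartImm (U : X.Opens) φ)).obj
        (((DCoh.restrictCx (U : X.Opens)).obj F₀).homology j)).IsQuasicoherent :=
      @Groth.Agent.Helper4.QcohLimits.isQuasicoherent_of_iso _ _ _
        ((DerivedCategory.homologyFunctorFactors _ j).app _ ≪≫
          pushHomologyIso (DerSch.chartImm (U : X.Opens) φ) _ j) h1
    haveI h3 := isQuasicoherent_of_pushforward (DerSch.chartImm (U : X.Opens) φ) _ h2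
    exact Groth.Agent.Helper4.QcohLimits.isQuasicoherent_of_iso
      (homologyRestrictIso (U : X.Opens).ι F₀ j)
  exact Groth.Agent.Helper4.QcohLimits.isQuasicoherent_of_iso (hdIso e₀ j).symm

end Groth.Agent.Helper9.ClImm4
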