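import Mathlib
import Groth.Prelude.Def_DerSch2
import Groth.Agent.Helper9.ClImm4

/-! Relative `m`-pseudo-coherence (chart form) implies quasi-coherent cohomology above `m`. -/

set_option autoImplicit false
set_option linter.style.haveILetI false
set_option linter.unusedVariables false
set_option linter.unusedSectionVars false
set_option linter.unusedSimpArgs false
universe u

namespace Groth.Agent.Helper9.ClImm5

open CategoryTheory CategoryTheory.Limits AlgebraicGeometry Opposite TopologicalSpace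
open Groth.Agent.Lead.PerfLib Groth.Agent.Lead.PcLib Groth.Agent.Helper9.ClImm1
  Groth.Agent.Helper9.ClImm4
  Groth.Agent.Helper4.QcqsMod Groth.Agent.Helper4.StalkDict

attribute [local instance] HasDerivedCategory.standard

variable {X Y : Scheme.{u}}

theorem isQCoh_HD_of_isPseudoCoherentRel (f : X ⟶ Y) (m : ℤ) (E : DCoh.D X)
    (hE : DerSch.IsPseudoCoherentRel f m E) (j : ℤ) (hj : m < j) : Coh.IsQCoh (DCoh.HD E j) := by
  let F₀ : CochainComplex X.Modules ℤ := DerivedCategory.Q.objPreimage E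
  let e₀ : DerivedCategory.Q.obj F₀ ≅ E := DerivedCategory.Q.objObjPreimageIso E
  haveI hq : (F₀.homology j).IsQuasicoherent := by
    apply isQuasicoherent_of_locally
    intro x
    obtain ⟨hft, 𝒱, h𝒱, hV⟩ := hE
    have hfx : f.base x ∈ (⊤ : Y.Opens) := Opens.mem_top _
    rw [← h𝒱] at hfx
    simp only [Opens.mem_iSup] at hfx
    obtain ⟨V, hVm, hxV⟩ := hfx
    obtain ⟨𝒰, h𝒰, hU⟩ := hV V hVm
    have hx' : x ∈ f ⁻¹ᵁ (V : Y.Opens) := hxV
    rw [← h𝒰] at hx'
    simp only [Opens.mem_iSup] at hx'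
    obtain ⟨U, hUm, hxU⟩ := hx'
    have hle : (U : X.Opens) ≤ f ⁻¹ᵁ (V : Y.Opens) := by
      rw [← h𝒰]
      exact le_iSup₂ (f := fun (U : X.affineOpens) (_ : U ∈ 𝒰) => (U : X.Opens)) U hUm
    obtain ⟨k, φ, hc, hpc⟩ := hU U hUm hle
    have hpc' := hpc F₀ ⟨e₀⟩
    haveI : IsClosedImmersion (DerSch.chartImm (U : X.Opens) φ) :=
      Groth.Agent.Helper9.ClImm3.isClosedImmersion_chartImm (U : X.Opens) U.2 φ hc.1
    refine ⟨U, (U : X.Opens).ι, inferInstance, ⟨⟨x, hxU⟩, rfl⟩, ?_⟩
    haveI h1 : (DCoh.HD (DCoh.toD _ ((DerSch.pushCx (DerSch.chartImm (U : X.Opens) φ)).obj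
        ((DCoh.restrictCx (U : X.Opens)).obj F₀))) j).IsQuasicoherent :=
      (isQCoh_cohomology_of_pseudoCoherentD m _ hpc').1 j hj
    have h2 : ((Scheme.Modules.pushforward (DerSch.chartImm (U : X.Opens) φ)).obj
        (((DCoh.restrictCx (U : X.Opens)).obj F₀).homology j)).IsQuasicoherent :=
      @Groth.Agent.Helper4.QcohLimits.isQuasicoherent_of_iso _ _ _
        ((DerivedCategory.homologyFunctorFactors _ j).app _ ≪≫
          pushHomologyIso (DerSch.chartImm (U : X.Opens) φ) _ j) h1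
    haveI h3 := isQuasicoherent_of_pushforward (DerSch.chartImm (U : X.Opens) φ) _ h2
    exact Groth.Agent.Helper4.QcohLimits.isQuasicoherent_of_iso
      (homologyRestrictIso (U : X.Opens).ι F₀ j)
  exact Groth.Agent.Helper4.QcohLimits.isQuasicoherent_of_iso (hdIso e₀ j).symm

end Groth.Agent.Helper9.ClImm5
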