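import Mathlib
import Groth.Prelude.Def_DualSh
import Groth.Prelude.Def_DerSch2
import Groth.Prelude.Def_DerCA
import Groth.Agent.Helper9.Chart14
import Groth.Agent.Helper4.SecDict
import Groth.Agent.S7021
import Groth.Agent.Helper4.RpushQc
import Groth.Agent.Helper9.ClImm5
import Groth.Prelude.Def_Flatn

/-! Quasi-coherent modules on affine opens and charts: sections. -/

set_option autoImplicit false
set_option linter.style.haveILetI false
set_option linter.unusedVariables false
set_option linter.unusedSectionVars false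
universe u

namespace Groth.Agent.Helper9.Chart15

noncomputable section

open CategoryTheory CategoryTheory.Limits AlgebraicGeometry HomologicalComplex Pretriangulated
open Groth.Agent.Lead.PcLib Groth.Agent.Lead.PerfLib Groth.Agent.Helper9.Chart1
  Groth.Agent.Helper9.Chart2 Groth.Agent.Helper9.Chart3 Groth.Agent.Helper9.Chart4
  Groth.Agent.Helper9.Chart5 Groth.Agent.Helper9.Chart6 Groth.Agent.Helper9.Chart7
  Groth.Agent.Helper9.Chart12 Groth.Agent.Helper9.Chart13 Groth.Agent.Helper9.Chart14
  Groth.Agent.Helper9.CI5 Groth.Agent.Helper8.TildeBC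
  Groth.Agent.Helper9.ClImm1 Groth.Agent.Helper9.ClImmPF2 Scheme.Modules

attribute [local instance] HasDerivedCategory.standard

variable {X S : Scheme.{u}}

section QC

variable {U : X.Opens} (hU : IsAffineOpen U) (M : X.Modules) [M.IsQuasicoherent]

/-- a quasi-coherent module on an affine open is the sheaf attached to its module of sections -/
def qcSecIso :
    (pushforward hU.isoSpec.hom).obj ((restrictFunctor U.ι).obj M) ≅
      (tilde.functor Γ(X, U)).obj (ModuleCat.of Γ(X, U) Γ(M, U)) :=
  (Groth.Agent.Helper9.Chart8.pushforwardIsoRestrict hU.isoSpec).app _ ≪≫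
    (restrictFunctorComp hU.isoSpec.inv U.ι).symm.app M ≪≫
    (asIso (M.restrict hU.fromSpec).fromTildeΓ).symm ≪≫
    (tilde.functor Γ(X, U)).mapIso
      (Groth.Agent.Helper4.SecDict.sectionsEquiv hU M).symm.toModuleIso

variable [PreservesFiniteLimits (tilde.functor Γ(X, U))]

/-- the object of `D(Γ(X, U))` attached to a quasi-coherent module placed in degree `0` -/
def tildeDSingleIso :
    (DCoh.tildeD Γ(X, U)).obj (Dual.inD Γ(X, U) Γ(M, U)) ≅
      DCoh.toD _ ((DerSch.pushCx hU.isoSpec.hom).obj ((DCoh.restrictCx U).obj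
        ((HomologicalComplex.single X.Modules (ComplexShape.up ℤ) 0).obj M))) :=
  ((tilde.functor Γ(X, U)).mapDerivedCategorySingleFunctor 0).app _ ≪≫
    (DerivedCategory.singleFunctor _ 0).mapIso (qcSecIso hU M).symm ≪≫
    (DerivedCategory.singleFunctorIsoCompQ _ 0).app _ ≪≫
    DerivedCategory.Q.mapIso
      ((DerSch.pushCx hU.isoSpec.hom).mapIso
          ((HomologicalComplex.singleMapHomologicalComplex (restrictFunctor U.ι)
            (ComplexShape.up ℤ) 0).app M) ≪≫
        (HomologicalComplex.singleMapHomologicalComplex (pushforward hU.isoSpec.hom)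
          (ComplexShape.up ℤ) 0).app _).symm

end QC

section Ring

variable (f : X ⟶ S) (U : X.affineOpens) (V : S.affineOpens)
  (h : (U : X.Opens) ≤ f ⁻¹ᵁ (V : S.Opens))
  [PreservesFiniteLimits (tilde.functor Γ(X, (U : X.Opens)))]

/-- charts on a pair of affine opens and the ring-level notion -/
theorem exists_chart_iff_ring (m : ℤ) (E : DCoh.D X) (G : CochainComplex X.Modules ℤ)
    (eG : DCoh.toD X G ≅ E) (M' : Dual.D Γ(X, (U : X.Opens)))
    (eM : (DCoh.tildeD Γ(X, (U : X.Opens))).obj M' ≅
      DCoh.toD _ ((DerSch.pushCx U.2.isoSpec.hom).obj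
        ((DCoh.restrictCx (U : X.Opens)).obj G))) :
    (∃ (n : ℕ) (φ : MvPolynomial (Fin n) Γ(S, (V : S.Opens)) →+* Γ(X, (U : X.Opens))),
      DerSch.IsChart f (U : X.Opens) (V : S.Opens) h φ ∧
        DerSch.ChartPC m E (U : X.Opens) (V : S.Opens) φ) ↔
      (letI := (f.appLE (V : S.Opens) (U : X.Opens) h).hom.toAlgebra
       DerCA.IsRelPseudoCoherent Γ(S, (V : S.Opens)) Γ(X, (U : X.Opens)) m M') := by
  letI := (f.appLE (V : S.Opens) (U : X.Opens) h).hom.toAlgebra
  constructor
  · rintro ⟨n, φ, hφ, hc⟩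
    have h1 : PCvia (U : X.Opens) φ m G := hc G ⟨eG⟩
    have h2 := (pcvia_iff_ring U.2 φ hφ.1 m G M' eM).1 h1
    let α : MvPolynomial (Fin n) Γ(S, (V : S.Opens)) →ₐ[Γ(S, (V : S.Opens))]
        Γ(X, (U : X.Opens)) :=
      { φ with commutes' := fun r => congrFun (congrArg DFunLike.coe hφ.2) r }
    exact ⟨n, α, hφ.1, h2⟩
  · rintro ⟨n, α, hα, hvia⟩
    let φ : MvPolynomial (Fin n) Γ(S, (V : S.Opens)) →+* Γ(X, (U : X.Opens)) := α
    have hφ : DerSch.IsChart f (U : X.Opens) (V : S.Opens) h φ :=
      ⟨hα, RingHom.ext (fun r => α.commutes r)⟩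
    haveI : IsClosedImmersion (cMap (U : X.Opens) φ) :=
      Groth.Agent.Helper9.ClImm3.isClosedImmersion_chartImm (U : X.Opens) U.2 φ hφ.1
    have h1 : PCvia (U : X.Opens) φ m G := (pcvia_iff_ring U.2 φ hφ.1 m G M' eM).2 hvia
    exact ⟨n, φ, hφ, (chartPC_iff_phi φ m E).2
      (isPseudoCoherentD_of_iso ((Phi φ).mapIso eG) ((pcvia_iff_phi φ m G).1 h1))⟩

end Ring

section RingFP

variable {R A : Type u} [CommRing R] [CommRing A] [Algebra R A]

/-- relative `(-1)`-pseudo-coherence of a module is relative finite presentation -/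
theorem relPC_negOne_iff (N : Type u) [AddCommGroup N] [Module A N] :
    DerCA.IsRelPseudoCoherent R A (-1) (Dual.inD A N) ↔ FlatCA.RelFinitePresentation R A N := by
  constructor
  · rintro ⟨n, α, hα, hvia⟩
    haveI : Algebra.FiniteType R A := Algebra.FiniteType.of_surjective α hα
    exact ⟨n, α, hα, ((Groth.Agent.S7021.result α hα N).2).1 ⟨n, α, hα, hvia⟩⟩
  · rintro ⟨n, α, hα, hfp⟩
    haveI : Algebra.FiniteType R A := Algebra.FiniteType.of_surjective α hα
    exact ((Groth.Agent.S7021.result α hα N).2).2 hfp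

/-- relative finite presentation of the algebra itself is finite presentation of the algebra -/
theorem relFP_self_iff (N : Type u) [AddCommGroup N] [Module A N] (e : N ≃ₗ[A] A) :
    FlatCA.RelFinitePresentation R A N ↔ (algebraMap R A).FinitePresentation := by
  constructor
  · rintro ⟨n, α, hα, hfp⟩
    letI : Module (MvPolynomial (Fin n) R) N := Module.compHom N α.toRingHom
    letI : Module (MvPolynomial (Fin n) R) A := Module.compHom A α.toRingHom
    let e' : N ≃ₗ[MvPolynomial (Fin n) R] A :=
      { e with map_smul' := fun p x => e.map_smul (α p) x }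
    haveI : Module.FinitePresentation (MvPolynomial (Fin n) R) A :=
      Module.FinitePresentation.of_equiv e'
    let l : MvPolynomial (Fin n) R →ₗ[MvPolynomial (Fin n) R] A :=
      { toFun := fun p => α p
        map_add' := fun p q => map_add α p q
        map_smul' := fun p q => by
          change α (p * q) = α p * α q
          exact map_mul α p q }
    have hl : Function.Surjective l := hα
    have hker : (LinearMap.ker l).FG := Module.FinitePresentation.fg_ker l hl
    have hk2 : (RingHom.ker α.toRingHom).FG := by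
      have : RingHom.ker α.toRingHom = LinearMap.ker l := by
        ext x
        rfl
      rw [this]
      exact hker
    have h1 : Algebra.FinitePresentation R A := Algebra.FinitePresentation.of_surjective hα hk2
    have h2 : (algebraMap R A).FinitePresentation := by
      unfold RingHom.FinitePresentation
      convert h1
      exact Algebra.algebra_ext _ _ (fun r => rfl)
    exact h2
  · intro hfp
    have h1 : Algebra.FinitePresentation R A := by
      unfold RingHom.FinitePresentation at hfp
      convert hfp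
      exact Algebra.algebra_ext _ _ (fun r => rfl)
    haveI := h1
    haveI : Algebra.FiniteType R A := inferInstance
    obtain ⟨n, α, hα⟩ := Algebra.FiniteType.iff_quotient_mvPolynomial''.1 ‹Algebra.FiniteType R A›
    have hk2 : (RingHom.ker α.toRingHom).FG :=
      Algebra.FinitePresentation.ker_fG_of_surjective α hα
    refine ⟨n, α, hα, ?_⟩
    letI : Module (MvPolynomial (Fin n) R) N := Module.compHom N α.toRingHom
    letI : Module (MvPolynomial (Fin n) R) A := Module.compHom A α.toRingHom
    let e' : N ≃ₗ[MvPolynomial (Fin n) R] A :=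
      { e with map_smul' := fun p x => e.map_smul (α p) x }
    let l : MvPolynomial (Fin n) R →ₗ[MvPolynomial (Fin n) R] A :=
      { toFun := fun p => α p
        map_add' := fun p q => map_add α p q
        map_smul' := fun p q => by
          change α (p * q) = α p * α q
          exact map_mul α p q }
    have hl : Function.Surjective l := hα
    have hker : (LinearMap.ker l).FG := by
      have : RingHom.ker α.toRingHom = LinearMap.ker l := by
        ext x
        rfl
      rw [← this]
      exact hk2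
    haveI : Module.FinitePresentation (MvPolynomial (Fin n) R) A :=
      Module.finitePresentation_of_surjective l hl hker
    exact Module.FinitePresentation.of_equiv e'.symm

end RingFP

section Main

variable (f : X ⟶ S) [LocallyOfFiniteType f]

theorem chart_negOne_iff_relFPOn (M : X.Modules) [M.IsQuasicoherent] (U : X.affineOpens)
    (V : S.affineOpens) (h : (U : X.Opens) ≤ f ⁻¹ᵁ (V : S.Opens)) :
    (∃ (n : ℕ) (φ : MvPolynomial (Fin n) Γ(S, (V : S.Opens)) →+* Γ(X, (U : X.Opens))),
      DerSch.IsChart f (U : X.Opens) (V : S.Opens) h φ ∧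
        DerSch.ChartPC (-1) (DCoh.inD X M) (U : X.Opens) (V : S.Opens) φ) ↔
      Flatn.RelFPOn f M U V h := by
  haveI : PreservesFiniteLimits (tilde.functor Γ(X, (U : X.Opens))) :=
    Groth.Agent.Helper4.TildeExact.preservesFiniteLimits_tilde _
  rw [exists_chart_iff_ring f U V h (-1) (DCoh.inD X M)
    ((HomologicalComplex.single X.Modules (ComplexShape.up ℤ) 0).obj M)
    ((DerivedCategory.singleFunctorIsoCompQ X.Modules 0).app M).symm
    (Dual.inD Γ(X, (U : X.Opens)) Γ(M, (U : X.Opens))) (tildeDSingleIso U.2 M)]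
  letI := (f.appLE (V : S.Opens) (U : X.Opens) h).hom.toAlgebra
  exact relPC_negOne_iff (R := Γ(S, (V : S.Opens))) (A := Γ(X, (U : X.Opens)))
    Γ(M, (U : X.Opens))

/-- **relative `(-1)`-pseudo-coherence of a module** -/
theorem rel_negOne_iff (M : X.Modules) :
    DerSch.IsPseudoCoherentRel f (-1) (DCoh.inD X M) ↔ (Coh.IsQCoh M ∧ Flatn.IsRelFP f M) := by
  constructor
  · intro h
    have hq : Coh.IsQCoh M :=
      (SheafOfModules.isQuasicoherent X.ringCatSheaf).prop_of_iso
        ((DerivedCategory.singleFunctorCompHomologyFunctorIso X.Modules 0).app M)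
        (Groth.Agent.Helper9.ClImm5.isQCoh_HD_of_isPseudoCoherentRel f (-1) _ h 0 (by omega))
    haveI : M.IsQuasicoherent := hq
    obtain ⟨_, 𝒱, h𝒱, H⟩ := h
    refine ⟨hq, 𝒱, h𝒱, fun V hV => ?_⟩
    obtain ⟨𝒰, h𝒰, HU⟩ := H V hV
    exact ⟨𝒰, h𝒰, fun U hU hle => (chart_negOne_iff_relFPOn f M U V hle).1 (HU U hU hle)⟩
  · rintro ⟨hq, 𝒱, h𝒱, H⟩
    haveI : M.IsQuasicoherent := hq
    refine ⟨inferInstance, 𝒱, h𝒱, fun V hV => ?_⟩
    obtain ⟨𝒰, h𝒰, HU⟩ := H V hV
    exact ⟨𝒰, h𝒰, fun U hU hle => (chart_negOne_iff_relFPOn f M U V hle).2 (HU U hU hle)⟩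

theorem chartPC_of_iso {K K' : DCoh.D X} (e : K ≅ K') (m : ℤ) (U : X.Opens) (V : S.Opens) {n : ℕ}
    (φ : MvPolynomial (Fin n) Γ(S, V) →+* Γ(X, U)) (h : DerSch.ChartPC m K U V φ) :
    DerSch.ChartPC m K' U V φ :=
  fun G ⟨e'⟩ => h G ⟨e' ≪≫ e.symm⟩

theorem chart_negOne_unit_iff (U : X.affineOpens)
    (V : S.affineOpens) (h : (U : X.Opens) ≤ f ⁻¹ᵁ (V : S.Opens)) :
    (∃ (n : ℕ) (φ : MvPolynomial (Fin n) Γ(S, (V : S.Opens)) →+* Γ(X, (U : X.Opens))),
      DerSch.IsChart f (U : X.Opens) (V : S.Opens) h φ ∧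
        DerSch.ChartPC (-1) (DCoh.toD X (DerSch.unitCx X)) (U : X.Opens) (V : S.Opens) φ) ↔
      (f.appLE (V : S.Opens) (U : X.Opens) h).hom.FinitePresentation := by
  have e0 : DCoh.toD X (DerSch.unitCx X) ≅ DCoh.inD X (Coh.structureModule X) :=
    ((DerivedCategory.singleFunctorIsoCompQ X.Modules 0).app _).symm
  have h1 : (∃ (n : ℕ) (φ : MvPolynomial (Fin n) Γ(S, (V : S.Opens)) →+* Γ(X, (U : X.Opens))),
      DerSch.IsChart f (U : X.Opens) (V : S.Opens) h φ ∧
        DerSch.ChartPC (-1) (DCoh.toD X (DerSch.unitCx X)) (U : X.Opens) (V : S.Opens) φ) ↔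
      (∃ (n : ℕ) (φ : MvPolynomial (Fin n) Γ(S, (V : S.Opens)) →+* Γ(X, (U : X.Opens))),
      DerSch.IsChart f (U : X.Opens) (V : S.Opens) h φ ∧
        DerSch.ChartPC (-1) (DCoh.inD X (Coh.structureModule X)) (U : X.Opens)
          (V : S.Opens) φ) :=
    ⟨fun ⟨n, φ, hφ, hc⟩ => ⟨n, φ, hφ, chartPC_of_iso e0 _ _ _ φ hc⟩,
      fun ⟨n, φ, hφ, hc⟩ => ⟨n, φ, hφ, chartPC_of_iso e0.symm _ _ _ φ hc⟩⟩
  rw [h1, chart_negOne_iff_relFPOn f (Coh.structureModule X) U V h]
  letI := (f.appLE (V : S.Opens) (U : X.Opens) h).hom.toAlgebra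
  exact relFP_self_iff (R := Γ(S, (V : S.Opens))) (A := Γ(X, (U : X.Opens)))
    ((Coh.structureModule X).val.obj (Opposite.op (U : X.Opens))) (LinearEquiv.refl _ _)

/-- **a morphism locally of finite type is `(-1)`-pseudo-coherent iff it is locally of finite
presentation** -/
theorem negOne_iff_lfp :
    DerSch.IsNPseudoCoherent f (-1) ↔ LocallyOfFinitePresentation f := by
  unfold DerSch.IsNPseudoCoherent
  rw [rel_iff f, HasRingHomProperty.iff_appLE (P := @LocallyOfFinitePresentation)]
  constructor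
  · intro H V U e
    exact (chart_negOne_unit_iff f U V e).1 (H U V e)
  · intro H U V e
    exact (chart_negOne_unit_iff f U V e).2 (H V U e)

end Main

end

end Groth.Agent.Helper9.Chart15
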