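import Mathlib
import Groth.Prelude.Def_DRing4
import Groth.Prelude.Def_MoreMor
import Groth.Agent.Helper9.FlatPC3
import Groth.Agent.Helper3.PcFin
import Groth.Agent.Helper3.DRingTor7

/-!
# A finitely presented module over a polynomial ring which is flat over the base is pseudo-coherent
(via the trivial square zero extension and `FlatPC3.pcHom_of_flat_fp`)
-/

set_option autoImplicit false
set_option linter.style.haveILetI false
set_option linter.unusedVariables false
set_option linter.unusedSectionVars false
universe u

namespace Groth.Agent.Helper9.FlatPC5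

open CategoryTheory CategoryTheory.Limits TensorProduct
open Groth.Agent.Helper3.PcHom Groth.Agent.Helper3.DRingLib

attribute [local instance] HasDerivedCategory.standard

noncomputable section

/-- a product of flat modules is flat -/
lemma flat_prod (R M₁ M₂ : Type u) [CommRing R] [AddCommGroup M₁] [AddCommGroup M₂]
    [Module R M₁] [Module R M₂] [Module.Flat R M₁] [Module.Flat R M₂] :
    Module.Flat R (M₁ × M₂) := by
  rw [Module.Flat.iff_rTensor_preserves_injective_linearMap]
  intro N N' _ _ _ _ f hf
  have key : (TensorProduct.prodRight R R N' M₁ M₂).toLinearMap ∘ₗ (f.rTensor (M₁ × M₂)) =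
      ((f.rTensor M₁).prodMap (f.rTensor M₂)) ∘ₗ
        (TensorProduct.prodRight R R N M₁ M₂).toLinearMap := by
    apply TensorProduct.ext'
    intro x m
    simp
  have h1 : Function.Injective ((f.rTensor M₁).prodMap (f.rTensor M₂)) :=
    Function.Injective.prodMap (Module.Flat.rTensor_preserves_injective_linearMap f hf)
      (Module.Flat.rTensor_preserves_injective_linearMap f hf)
  have h2 : Function.Injective ((TensorProduct.prodRight R R N' M₁ M₂).toLinearMap ∘ₗ
      (f.rTensor (M₁ × M₂))) := by
    rw [key]
    exact h1.comp (TensorProduct.prodRight R R N M₁ M₂).injective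
  exact Function.Injective.of_comp h2

section

variable (P M : Type u) [CommRing P] [AddCommGroup M] [Module P M]

/-- the right action making `M` a central bimodule -/
@[reducible] def opModule : Module Pᵐᵒᵖ M :=
  Module.compHom M ((RingHom.id P).fromOpposite (fun x y => mul_comm _ _))

end

attribute [local instance] opModule

instance (P M : Type u) [CommRing P] [AddCommGroup M] [Module P M] : IsCentralScalar P M :=
  ⟨fun r m => rfl⟩

attribute [local instance] MvPolynomial.algebraMvPolynomial

/-- **a finitely presented module over a polynomial ring, flat over the base, is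
pseudo-coherent** -/
theorem pc_of_flat_fp_module (R : Type u) [CommRing R] (n : ℕ) (M : Type u) [AddCommGroup M]
    [Module (MvPolynomial (Fin n) R) M] [Module R M] [IsScalarTower R (MvPolynomial (Fin n) R) M]
    [Module.FinitePresentation (MvPolynomial (Fin n) R) M] [Module.Flat R M] :
    DRing.IsPseudoCoherent' (MvPolynomial (Fin n) R) (Dual.inD (MvPolynomial (Fin n) R) M) := by
  let P := MvPolynomial (Fin n) R
  let B := TrivSqZeroExt P M
  haveI : Module.FinitePresentation P B := inferInstanceAs (Module.FinitePresentation P (P × M))
  haveI : Module.Finite P B := inferInstance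
  haveI : Algebra.FinitePresentation P B := Algebra.FinitePresentation.of_finitePresentation P B
  haveI : Algebra.FinitePresentation R B := Algebra.FinitePresentation.trans R P B
  haveI : Module.Flat R B := by
    haveI : Module.Flat R (P × M) := flat_prod R P M
    exact inferInstanceAs (Module.Flat R (P × M))
  have h1 : MoreMor.IsPseudoCoherentHom R B := Groth.Agent.Helper9.FlatPC3.pcHom_of_flat_fp R B
  have h2 : MoreMor.IsPseudoCoherentHom R P := pcHom_mvPolynomial R n
  have h3 : MoreMor.IsPseudoCoherentHom P B := cancel h2 h1
  have h4 : DRing.IsPseudoCoherent' P (Dual.inD P B) :=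
    (Groth.Agent.Helper3.PcHom.pcHom_iff_of_finite).1 h3
  let i : Dual.inD P M ⟶ Dual.inD P B :=
    (DerivedCategory.singleFunctor (ModuleCat.{u} P) 0).map
      (ModuleCat.ofHom (TrivSqZeroExt.inrHom P M))
  let r : Dual.inD P B ⟶ Dual.inD P M :=
    (DerivedCategory.singleFunctor (ModuleCat.{u} P) 0).map
      (ModuleCat.ofHom (TrivSqZeroExt.sndHom P M))
  have hir : i ≫ r = 𝟙 _ := by
    dsimp only [i, r]
    rw [← Functor.map_comp, ← ModuleCat.ofHom_comp]
    have : (TrivSqZeroExt.sndHom P M).comp (TrivSqZeroExt.inrHom P M) = LinearMap.id := by
      ext m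
      simp
    rw [this]
    exact (DerivedCategory.singleFunctor (ModuleCat.{u} P) 0).map_id _
  exact isPseudoCoherent'_of_retract i r hir h4

end

end Groth.Agent.Helper9.FlatPC5
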