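import Mathlib
import Groth.Prelude.Def_DualSh
import Groth.Prelude.Def_DerSch2
import Groth.Prelude.Def_DerCA
import Groth.Agent.Helper9.Chart15
import Groth.Agent.Helper9.FlatPC5
import Groth.Agent.S9353

/-! Modules flat over the base and finitely presented relative to it are pseudo-coherent relative
to the morphism. -/

set_option autoImplicit false
set_option linter.style.haveILetI false
set_option linter.unusedVariables false
set_option linter.unusedSectionVars false
universe u

namespace Groth.Agent.Helper9.Chart16

noncomputable section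

open CategoryTheory CategoryTheory.Limits AlgebraicGeometry HomologicalComplex Pretriangulated
open Groth.Agent.Lead.PcLib Groth.Agent.Lead.PerfLib Groth.Agent.Helper9.Chart1
  Groth.Agent.Helper9.Chart2 Groth.Agent.Helper9.Chart3 Groth.Agent.Helper9.Chart4
  Groth.Agent.Helper9.Chart5 Groth.Agent.Helper9.Chart6 Groth.Agent.Helper9.Chart7
  Groth.Agent.Helper9.Chart12 Groth.Agent.Helper9.Chart13 Groth.Agent.Helper9.Chart14
  Groth.Agent.Helper9.Chart15
  Groth.Agent.Helper9.CI5 Groth.Agent.Helper8.TildeBC
  Groth.Agent.Helper9.ClImm1 Groth.Agent.Helper9.ClImmPF2 Scheme.Modules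

attribute [local instance] HasDerivedCategory.standard

section Ring

variable {R A : Type u} [CommRing R] [CommRing A] [Algebra R A]

/-- a module over a finite type algebra, flat over the base and finitely presented relative to
it, is pseudo-coherent relative to the base -/
theorem relPC_all_of_flat_relFP (N : Type u) [AddCommGroup N] [Module A N]
    (hfl : @Module.Flat R N _ _ (Module.compHom N (algebraMap R A)))
    (h : DerCA.IsRelPseudoCoherent R A (-1) (Dual.inD A N)) (m : ℤ) :
    DerCA.IsRelPseudoCoherent R A m (Dual.inD A N) := by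
  obtain ⟨n, α, hα, hvia⟩ := h
  haveI : Algebra.FiniteType R A := Algebra.FiniteType.of_surjective α hα
  have hfp := ((Groth.Agent.S7021.result α hα N).2).1 ⟨n, α, hα, hvia⟩
  letI : Module (MvPolynomial (Fin n) R) N := Module.compHom N α.toRingHom
  letI : Module R N := Module.compHom N (algebraMap R A)
  haveI : IsScalarTower R (MvPolynomial (Fin n) R) N :=
    IsScalarTower.of_algebraMap_smul (fun r x => by
      change α (algebraMap R _ r) • x = algebraMap R A r • x
      rw [α.commutes])
  haveI : Module.FinitePresentation (MvPolynomial (Fin n) R) N := hfp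
  haveI : Module.Flat R N := hfl
  have hpc := Groth.Agent.Helper9.FlatPC5.pc_of_flat_fp_module R n N
  have hpcm : DRing.IsPseudoCoherent (MvPolynomial (Fin n) R) m
      (Dual.inD (MvPolynomial (Fin n) R) N) :=
    (Groth.Agent.Helper3.DRingLib.isPseudoCoherent'_iff_forall _).1 hpc m
  refine ⟨n, α, hα, ?_⟩
  unfold DerCA.IsRelPseudoCoherentVia
  exact Groth.Agent.Helper3.DRingLib.isPseudoCoherent_of_iso
    (Groth.Agent.Helper3.DRingLib.rDSingle (α : MvPolynomial (Fin n) R →+* A) 0
      (ModuleCat.of A N)).symm hpcm

end Ring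

variable {X S : Scheme.{u}} (f : X ⟶ S) [LocallyOfFiniteType f]

/-- **a module flat over the base and finitely presented relative to the morphism is
pseudo-coherent relative to the morphism** -/
theorem rel_all_of_flat_relFP (M : X.Modules) (hfl : FlatMod.IsFlatOver f M)
    (h : DerSch.IsPseudoCoherentRel f (-1) (DCoh.inD X M)) (m : ℤ) :
    DerSch.IsPseudoCoherentRel f m (DCoh.inD X M) := by
  have hq : Coh.IsQCoh M := ((rel_negOne_iff f M).1 h).1
  haveI : M.IsQuasicoherent := hq
  rw [rel_iff f] at h ⊢
  intro U V hUV
  haveI : PreservesFiniteLimits (tilde.functor Γ(X, (U : X.Opens))) :=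
    Groth.Agent.Helper4.TildeExact.preservesFiniteLimits_tilde _
  have key := fun k => exists_chart_iff_ring f U V hUV k (DCoh.inD X M)
    ((HomologicalComplex.single X.Modules (ComplexShape.up ℤ) 0).obj M)
    ((DerivedCategory.singleFunctorIsoCompQ X.Modules 0).app M).symm
    (Dual.inD Γ(X, (U : X.Opens)) Γ(M, (U : X.Opens))) (tildeDSingleIso U.2 M)
  rw [key m]
  have h1 := (key (-1)).1 (h U V hUV)
  letI := (f.appLE (V : S.Opens) (U : X.Opens) hUV).hom.toAlgebra
  have hflat := (Groth.Agent.S9353.result f M hq).1 hfl (U : X.Opens) (V : S.Opens) hUV U.2 V.2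
  exact relPC_all_of_flat_relFP (R := Γ(S, (V : S.Opens))) (A := Γ(X, (U : X.Opens)))
    Γ(M, (U : X.Opens)) hflat h1 m

end

end Groth.Agent.Helper9.Chart16
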