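import Mathlib
import Groth.Prelude.Def_DualSh
import Groth.Prelude.Def_DerSch2
import Groth.Prelude.Def_DerCA
import Groth.Agent.Helper9.Chart16
import Groth.Agent.Helper9.RelTor1
import Groth.Agent.S9353

/-! Perfect amplitude `[0, 0]` of a module relative to a morphism. -/

set_option autoImplicit false
set_option linter.style.haveILetI false
set_option linter.unusedVariables false
set_option linter.unusedSectionVars false
universe u

namespace Groth.Agent.Helper9.Chart17

noncomputable section

open CategoryTheory CategoryTheory.Limits AlgebraicGeometry HomologicalComplex Pretriangulated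
open Groth.Agent.Helper9.Chart12 Groth.Agent.Helper9.Chart15 Groth.Agent.Helper9.Chart16

attribute [local instance] HasDerivedCategory.standard

section Conc

variable {C : Type*} [Category C] [Abelian C]

/-- the cohomology in degree `0` of a complex concentrated in degree `0` -/
def homologyIsoX (E : CochainComplex C ℤ) (h : ∀ i : ℤ, i ≠ 0 → IsZero (E.X i)) :
    E.homology 0 ≅ E.X 0 :=
  (ShortComplex.HomologyData.ofZeros (E.sc 0)
    ((h _ (by simp)).eq_of_src _ _) ((h _ (by simp)).eq_of_tgt _ _)).left.homologyIso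

end Conc

section Ring

variable {A : Type u} [CommRing A]

/-- a complex concentrated in degree `0` of tor amplitude `[0, 0]` has flat term -/
theorem flat_of_hasTorAmplitudeIn (K : DRing.Cx A) (hK : ∀ i : ℤ, i ≠ 0 → IsZero (K.X i))
    (h : DRing.HasTorAmplitudeIn A 0 0 (DRing.toD K)) : Module.Flat A (K.X 0) := by
  obtain ⟨E, hv, hfl, ⟨e⟩⟩ := h
  have hE : ∀ i : ℤ, i ≠ 0 → IsZero (E.X i) := fun i hi => hv i (by omega)
  have e1 : E.homology 0 ≅ K.homology 0 :=
    ((DerivedCategory.homologyFunctorFactors (ModuleCat.{u} A) 0).app E).symm ≪≫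
      (DerivedCategory.homologyFunctor (ModuleCat.{u} A) 0).mapIso e ≪≫
      (DerivedCategory.homologyFunctorFactors (ModuleCat.{u} A) 0).app K
  have e2 : E.X 0 ≅ K.X 0 := (homologyIsoX E hE).symm ≪≫ e1 ≪≫ homologyIsoX K hK
  haveI : Module.Flat A (E.X 0) := hfl 0
  exact Module.Flat.of_linearEquiv e2.symm.toLinearEquiv

end Ring

variable {X S : Scheme.{u}} (f : X ⟶ S) [LocallyOfFiniteType f]

theorem isFlatOver_of_hasTorAmplitude (M : X.Modules)
    (h : DerSch.HasTorAmplitude f 0 0
      ((HomologicalComplex.single X.Modules (ComplexShape.up ℤ) 0).obj M)) :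
    FlatMod.IsFlatOver f M := by
  intro x
  have h1 := flat_of_hasTorAmplitudeIn
    ((DerSch.stalkCxOver f x).obj ((HomologicalComplex.single X.Modules (ComplexShape.up ℤ) 0).obj M))
    (fun i hi => Functor.map_isZero (DerSch.stalkOver f x)
      (HomologicalComplex.isZero_single_obj_X (ComplexShape.up ℤ) 0 M i hi)) (h x)
  apply Groth.Agent.Helper9.RelTor1.isFlatOverAt_of_iso f
    (HomologicalComplex.singleObjXSelf (ComplexShape.up ℤ) 0 M)
  rw [Groth.Agent.Helper9.RelTor1.isFlatOverAt_iff]
  exact h1

/-- **perfect amplitude `[0, 0]` of a module** -/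
theorem perfAmp_zero_iff (M : X.Modules) :
    DerSch.HasPerfAmplitudeRel f 0 0
        ((HomologicalComplex.single X.Modules (ComplexShape.up ℤ) 0).obj M) ↔
      (FlatMod.IsFlatOver f M ∧ DerSch.IsPseudoCoherentRel f (-1)
        (DCoh.toD X ((HomologicalComplex.single X.Modules (ComplexShape.up ℤ) 0).obj M))) := by
  have e0 : DCoh.toD X ((HomologicalComplex.single X.Modules (ComplexShape.up ℤ) 0).obj M) ≅
      DCoh.inD X M := ((DerivedCategory.singleFunctorIsoCompQ X.Modules 0).app M).symm
  constructor
  · rintro ⟨hpc, htor⟩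
    exact ⟨isFlatOver_of_hasTorAmplitude f M htor, hpc (-1)⟩
  · rintro ⟨hfl, hpc⟩
    refine ⟨fun m => rel_of_iso f e0.symm m
      (rel_all_of_flat_relFP f M hfl (rel_of_iso f e0 (-1) hpc) m), ?_⟩
    refine Groth.Agent.Helper9.RelTor1.hasTorAmplitude_of_hasRelFlatAmplitudeIn f _ 0 0
      ⟨_, fun i hi => HomologicalComplex.isZero_single_obj_X (ComplexShape.up ℤ) 0 M i (by omega),
        fun i => ?_, ⟨Iso.refl _⟩⟩
    intro x
    by_cases hi : i = 0
    · subst hi
      exact Groth.Agent.Helper9.RelTor1.isFlatOverAt_of_iso f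
        (HomologicalComplex.singleObjXSelf (ComplexShape.up ℤ) 0 M).symm x (hfl x)
    · exact Groth.Agent.Helper9.RelTor1.isFlatOverAt_of_isZero f
        (HomologicalComplex.isZero_single_obj_X (ComplexShape.up ℤ) 0 M i hi) x

/-- flatness of the structure sheaf over the base is flatness of the morphism -/
theorem isFlatOver_unit_iff :
    FlatMod.IsFlatOver f (Coh.structureModule X) ↔ Flat f := by
  rw [Groth.Agent.S9353.result f (Coh.structureModule X) inferInstance,
    HasRingHomProperty.iff_appLE (P := @Flat)]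
  constructor
  · intro H V U e
    exact H U V e U.2 V.2
  · intro H U V e hU hV
    exact H ⟨V, hV⟩ ⟨U, hU⟩ e

/-- **perfect dimension `0`** -/
theorem perfDim_zero_iff :
    DerSch.HasPerfDimLE f 0 ↔ (Flat f ∧ LocallyOfFinitePresentation f) := by
  have h0 : DerSch.HasPerfDimLE f 0 ↔ DerSch.HasPerfAmplitudeRel f 0 0
      ((HomologicalComplex.single X.Modules (ComplexShape.up ℤ) 0).obj (Coh.structureModule X)) := by
    unfold DerSch.HasPerfDimLE
    simp only [Nat.cast_zero, neg_zero]
  rw [h0, perfAmp_zero_iff, isFlatOver_unit_iff, ← negOne_iff_lfp f]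

end

end Groth.Agent.Helper9.Chart17
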