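import Mathlib
import Groth.Prelude.Def_CAlg

/-! I-depth of kernels (elementary approach via regular elements). -/

set_option autoImplicit false
universe u v

namespace Groth.Agent.Helper9.DepthKer

open RingTheory.Sequence LocCoh
open scoped Pointwise

variable {A : Type u} [CommRing A] (I : Ideal A)

section basic

variable (M : Type v) [AddCommGroup M] [Module A M]

lemma exists_of_le_idealDepth (n : ℕ) (hn : 1 ≤ n) (h : (n : ℕ∞) ≤ idealDepth I M)
    (hne : I • (⊤ : Submodule A M) ≠ ⊤) :
    ∃ rs : List A, IsWeaklyRegular M rs ∧ (∀ r ∈ rs, r ∈ I) ∧ n ≤ rs.length := by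
  unfold idealDepth at h
  rw [if_neg hne] at h
  by_contra hcon
  push Not at hcon
  have : (⨆ (rs : List A) (_ : IsWeaklyRegular M rs ∧ ∀ r ∈ rs, r ∈ I), (rs.length : ℕ∞)) ≤
      ((n - 1 : ℕ) : ℕ∞) := by
    refine iSup₂_le fun rs hrs => ?_
    have := hcon rs hrs.1 hrs.2
    exact_mod_cast Nat.le_sub_one_of_lt this
  have h2 := h.trans this
  have h3 : n ≤ n - 1 := by exact_mod_cast h2
  omega

lemma le_idealDepth_of (rs : List A) (hreg : IsWeaklyRegular M rs) (hmem : ∀ r ∈ rs, r ∈ I) :
    (rs.length : ℕ∞) ≤ idealDepth I M := by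
  unfold idealDepth
  split_ifs
  · exact le_top
  · exact le_iSup₂_of_le rs ⟨hreg, hmem⟩ le_rfl

lemma idealDepth_eq_top (h : I • (⊤ : Submodule A M) = ⊤) : idealDepth I M = ⊤ := by
  unfold idealDepth
  rw [if_pos h]

end basic

section tools

variable {I}

lemma exists_killer (M : Type v) [AddCommGroup M] [Module A M] [Module.Finite A M]
    (h : I • (⊤ : Submodule A M) = ⊤) : ∃ r : A, r - 1 ∈ I ∧ ∀ m : M, r • m = 0 := by
  obtain ⟨r, hr1, hr2⟩ := Submodule.exists_sub_one_mem_and_smul_eq_zero_of_fg_of_le_smul I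
    (⊤ : Submodule A M) Module.Finite.fg_top (le_of_eq h.symm)
  exact ⟨r, hr1, fun m => hr2 m trivial⟩

lemma exists_regular_of_socle [IsNoetherianRing A] (M : Type v) [AddCommGroup M] [Module A M]
    [Module.Finite A M] (h : ∀ z : M, (∀ i ∈ I, i • z = 0) → z = 0) :
    ∃ y ∈ I, IsSMulRegular M y := by
  have hsub : Subsingleton ((A ⧸ I) →ₗ[A] M) := by
    refine subsingleton_of_forall_eq 0 fun f => ?_
    have hz : f (Ideal.Quotient.mk I 1) = 0 := by
      apply h
      intro i hi
      rw [← map_smul]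
      have : i • (Ideal.Quotient.mk I 1) = 0 := by
        rw [Algebra.smul_def, Ideal.Quotient.algebraMap_eq, ← map_mul, mul_one]
        exact Ideal.Quotient.eq_zero_iff_mem.mpr hi
      rw [this, map_zero]
    apply LinearMap.ext
    intro x
    obtain ⟨a, rfl⟩ := Ideal.Quotient.mk_surjective x
    have : Ideal.Quotient.mk I a = a • Ideal.Quotient.mk I 1 := by
      rw [Algebra.smul_def, Ideal.Quotient.algebraMap_eq, ← map_mul, mul_one]
    rw [this, map_smul, hz, smul_zero, LinearMap.zero_apply]
  obtain ⟨r, hr, hreg⟩ := IsSMulRegular.subsingleton_linearMap_iff.mp hsub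
  rw [Ideal.annihilator_quotient] at hr
  exact ⟨r, hr, hreg⟩

end tools

section ker

variable {I}
variable {E0 E1 : Type v} [AddCommGroup E0] [Module A E0]
  [AddCommGroup E1] [Module A E1] (u : E0 →ₗ[A] E1)

lemma smul_top_ker_eq_top [Module.Finite A E0] (h : I • (⊤ : Submodule A E0) = ⊤) :
    I • (⊤ : Submodule A (LinearMap.ker u)) = ⊤ := by
  obtain ⟨r, hr1, hr2⟩ := exists_killer E0 h
  rw [eq_top_iff]
  rintro g -
  have h1 : r • g = 0 := Subtype.ext (hr2 g)
  have h2 : g = (1 - r) • g := by rw [sub_smul, one_smul, h1, sub_zero]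
  rw [h2]
  refine Submodule.smul_mem_smul ?_ trivial
  have := I.neg_mem hr1
  rwa [neg_sub] at this

lemma regular_ker {a : A} (ha : IsSMulRegular E0 a) : IsSMulRegular (LinearMap.ker u) a := by
  intro x y hxy
  apply Subtype.ext
  apply ha
  exact congrArg Subtype.val hxy

theorem depth_ker_one [Module.Finite A E0] (h : 1 ≤ idealDepth I E0) : 1 ≤ idealDepth I (LinearMap.ker u) := by
  by_cases hG : I • (⊤ : Submodule A (LinearMap.ker u)) = ⊤
  · rw [idealDepth_eq_top I _ hG]; exact le_top
  · have hE : I • (⊤ : Submodule A E0) ≠ ⊤ := fun h' => hG (smul_top_ker_eq_top u h')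
    obtain ⟨rs, hreg, hmem, hlen⟩ := exists_of_le_idealDepth I E0 1 le_rfl (by exact_mod_cast h) hE
    match rs, hreg, hmem, hlen with
    | a :: rest, hreg, hmem, _ =>
      have ha : IsSMulRegular E0 a := ((isWeaklyRegular_cons_iff E0 a rest).mp hreg).1
      have h1 := le_idealDepth_of I (LinearMap.ker u) [a]
        ((isWeaklyRegular_cons_iff _ a []).mpr ⟨regular_ker u ha, IsWeaklyRegular.nil _ _⟩)
        (by intro r hr; rw [List.mem_singleton] at hr; subst hr; exact hmem _ (List.mem_cons_self))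
      simpa using h1

lemma quot_regular_iff {M : Type v} [AddCommGroup M] [Module A M] (a b : A) :
    IsSMulRegular (QuotSMulTop a M) b ↔ ∀ e : M, (∃ e', b • e = a • e') → ∃ e', e = a • e' := by
  constructor
  · intro h e ⟨e', he'⟩
    have h1 : b • (Submodule.Quotient.mk e : QuotSMulTop a M) = b • 0 := by
      rw [smul_zero, ← Submodule.Quotient.mk_smul, Submodule.Quotient.mk_eq_zero,
        Submodule.mem_smul_pointwise_iff_exists]
      exact ⟨e', trivial, he'.symm⟩
    have h2 := h h1
    rw [Submodule.Quotient.mk_eq_zero, Submodule.mem_smul_pointwise_iff_exists] at h2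
    obtain ⟨s, -, hs⟩ := h2
    exact ⟨s, hs.symm⟩
  · intro h x y hxy
    obtain ⟨x', rfl⟩ := Submodule.Quotient.mk_surjective _ x
    obtain ⟨y', rfl⟩ := Submodule.Quotient.mk_surjective _ y
    have h1 : b • (x' - y') ∈ a • (⊤ : Submodule A M) := by
      rw [← Submodule.Quotient.mk_eq_zero, Submodule.Quotient.mk_smul, Submodule.Quotient.mk_sub,
        smul_sub]
      exact sub_eq_zero.mpr hxy
    rw [Submodule.mem_smul_pointwise_iff_exists] at h1
    obtain ⟨s, -, hs⟩ := h1
    obtain ⟨e', he'⟩ := h (x' - y') ⟨s, hs.symm⟩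
    rw [← sub_eq_zero, ← Submodule.Quotient.mk_sub, Submodule.Quotient.mk_eq_zero,
      Submodule.mem_smul_pointwise_iff_exists]
    exact ⟨e', trivial, he'.symm⟩

/-- Lemma A: a socle element of `E/xE` vanishes, given a regular sequence `a, b` in `I`. -/
lemma socle_quot_of_regSeq {a b x : A} (haI : a ∈ I) (hbI : b ∈ I)
    (ha : IsSMulRegular E0 a) (hb : ∀ e : E0, (∃ e', b • e = a • e') → ∃ e', e = a • e')
    (hx : IsSMulRegular E0 x) (z : E0) (hz : ∀ i ∈ I, ∃ w, i • z = x • w) : ∃ w, z = x • w := by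
  obtain ⟨w, hw⟩ := hz a haI
  -- i • w ∈ a E0 for all i ∈ I
  have h1 : ∀ i ∈ I, ∃ e', i • w = a • e' := by
    intro i hi
    obtain ⟨wi, hwi⟩ := hz i hi
    refine ⟨wi, ?_⟩
    apply hx
    show x • (i • w) = x • (a • wi)
    rw [smul_comm x i w, ← hw, smul_comm x a wi, ← hwi, smul_comm]
  obtain ⟨w', hw'⟩ := hb w (h1 b hbI)
  refine ⟨w', ?_⟩
  apply ha
  show a • z = a • (x • w')
  rw [hw, hw', smul_comm]

theorem depth_ker_two [IsNoetherianRing A] [Module.Finite A E0] [Module.Finite A E1]
    (h0 : 2 ≤ idealDepth I E0) (h1 : 1 ≤ idealDepth I E1) :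
    2 ≤ idealDepth I (LinearMap.ker u) := by
  by_cases hG : I • (⊤ : Submodule A (LinearMap.ker u)) = ⊤
  · rw [idealDepth_eq_top I _ hG]; exact le_top
  have hE : I • (⊤ : Submodule A E0) ≠ ⊤ := fun h' => hG (smul_top_ker_eq_top u h')
  obtain ⟨rs, hreg, hmem, hlen⟩ := exists_of_le_idealDepth I E0 2 (by norm_num)
    (by exact_mod_cast h0) hE
  match rs, hreg, hmem, hlen with
  | a :: b :: rest, hreg, hmem, _ =>
    have hreg' := (isWeaklyRegular_cons_iff E0 a (b :: rest)).mp hreg
    have ha : IsSMulRegular E0 a := hreg'.1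
    have hb0 : IsSMulRegular (QuotSMulTop a E0) b :=
      ((isWeaklyRegular_cons_iff _ b rest).mp hreg'.2).1
    have hb := (quot_regular_iff a b).mp hb0
    have haI : a ∈ I := hmem a List.mem_cons_self
    have hbI : b ∈ I := hmem b (List.mem_cons_of_mem _ List.mem_cons_self)
    -- find x
    have hx : ∃ x ∈ I, IsSMulRegular E0 x ∧ ∀ z : E0, u z = 0 →
        (∀ i ∈ I, ∃ w, u w = 0 ∧ i • z = x • w) → ∃ w, u w = 0 ∧ z = x • w := by
      by_cases hE1 : I • (⊤ : Submodule A E1) = ⊤
      · obtain ⟨r, hr1, hr2⟩ := exists_killer E1 hE1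
        refine ⟨a, haI, ha, fun z hz hsoc => ?_⟩
        obtain ⟨wb, -, hwb⟩ := hsoc b hbI
        obtain ⟨e, he⟩ := hb z ⟨wb, hwb⟩
        have h1r : 1 - r ∈ I := by
          have := I.neg_mem hr1
          rwa [neg_sub] at this
        obtain ⟨w', hw'0, hw'⟩ := hsoc (1 - r) h1r
        refine ⟨r • e + w', ?_, ?_⟩
        · rw [map_add, map_smul, hr2, hw'0, add_zero]
        · have : z = r • z + (1 - r) • z := by rw [sub_smul, one_smul]; abel
          rw [this, hw', smul_add, he, smul_comm r a e]
      · obtain ⟨rs', hreg', hmem', hlen'⟩ := exists_of_le_idealDepth I E1 1 le_rfl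
          (by exact_mod_cast h1) hE1
        match rs', hreg', hmem', hlen' with
        | c :: rest', hreg', hmem', _ =>
          have hc : IsSMulRegular E1 c := ((isWeaklyRegular_cons_iff E1 c rest').mp hreg').1
          have hcI : c ∈ I := hmem' c List.mem_cons_self
          obtain ⟨x, hxI, hxreg⟩ := exists_regular_of_socle (I := I) (E0 × E1) (by
            rintro ⟨e0, e1⟩ hz
            have h1 := hz a haI
            have h2 := hz c hcI
            rw [Prod.smul_mk, Prod.mk_eq_zero] at h1 h2
            have he0 : e0 = 0 := ha (show a • e0 = a • 0 by rw [h1.1, smul_zero])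
            have he1 : e1 = 0 := hc (show c • e1 = c • 0 by rw [h2.2, smul_zero])
            rw [he0, he1]; rfl)
          have hx0 : IsSMulRegular E0 x := by
            intro e e' hee'
            have : x • ((e, 0) : E0 × E1) = x • ((e', 0) : E0 × E1) := by
              rw [Prod.smul_mk, Prod.smul_mk]
              exact Prod.ext hee' rfl
            exact (Prod.ext_iff.mp (hxreg this)).1
          have hx1 : IsSMulRegular E1 x := by
            intro e e' hee'
            have : x • ((0, e) : E0 × E1) = x • ((0, e') : E0 × E1) := by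
              rw [Prod.smul_mk, Prod.smul_mk]
              exact Prod.ext rfl hee'
            exact (Prod.ext_iff.mp (hxreg this)).2
          refine ⟨x, hxI, hx0, fun z hz hsoc => ?_⟩
          obtain ⟨e, he⟩ := socle_quot_of_regSeq haI hbI ha hb hx0 z
            (fun i hi => by obtain ⟨w, -, hw⟩ := hsoc i hi; exact ⟨w, hw⟩)
          refine ⟨e, ?_, he⟩
          apply hx1
          show x • u e = x • 0
          rw [smul_zero, ← map_smul, ← he, hz]
    obtain ⟨x, hxI, hxreg, hsoc⟩ := hx
    have hnoeth : IsNoetherian A E0 := isNoetherian_of_isNoetherianRing_of_finite A E0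
    have hGfin : Module.Finite A (LinearMap.ker u) := inferInstance
    obtain ⟨y, hyI, hyreg⟩ := exists_regular_of_socle (I := I) (QuotSMulTop x (LinearMap.ker u)) (by
      intro zbar hz
      obtain ⟨g, rfl⟩ := Submodule.Quotient.mk_surjective _ zbar
      rw [Submodule.Quotient.mk_eq_zero, Submodule.mem_smul_pointwise_iff_exists]
      have := hsoc (g : E0) g.2 (fun i hi => by
        have h2 := hz i hi
        rw [← Submodule.Quotient.mk_smul, Submodule.Quotient.mk_eq_zero,
          Submodule.mem_smul_pointwise_iff_exists] at h2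
        obtain ⟨w, -, hw⟩ := h2
        exact ⟨(w : E0), w.2, (congrArg Subtype.val hw).symm⟩)
      obtain ⟨w, hw0, hw⟩ := this
      exact ⟨⟨w, hw0⟩, trivial, Subtype.ext hw.symm⟩)
    have hfin := le_idealDepth_of I (LinearMap.ker u) [x, y]
      ((isWeaklyRegular_cons_iff _ x [y]).mpr ⟨regular_ker u hxreg,
        (isWeaklyRegular_cons_iff _ y []).mpr ⟨hyreg, IsWeaklyRegular.nil _ _⟩⟩)
      (by
        intro r hr
        rcases List.mem_cons.mp hr with rfl | hr
        · exact hxI
        · rw [List.mem_singleton] at hr; subst hr; exact hyI)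
    simpa using hfin

end ker

end Groth.Agent.Helper9.DepthKer
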