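import Mathlib
import Groth.Prelude.Def_CAlg
import Groth.Agent.Helper9.DepthKer

set_option autoImplicit false

namespace Groth.Agent.Helper9.ReflKer

open RingTheory.Sequence LocCoh Module Groth.Agent.Helper9.DepthKer
open scoped Pointwise

universe u v w

variable {A : Type u} [CommRing A] (I : Ideal A)

section congr

variable {M : Type v} {N : Type w} [AddCommGroup M] [Module A M] [AddCommGroup N] [Module A N]

lemma smul_top_eq_top_of_equiv (e : M ≃ₗ[A] N) (h : I • (⊤ : Submodule A M) = ⊤) :
    I • (⊤ : Submodule A N) = ⊤ := by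
  have h1 := congrArg (Submodule.map e.toLinearMap) h
  rw [Submodule.map_smul'', Submodule.map_top, LinearMap.range_eq_top.mpr e.surjective] at h1
  exact h1

lemma idealDepth_le_of_equiv (e : M ≃ₗ[A] N) : idealDepth I M ≤ idealDepth I N := by
  by_cases hN : I • (⊤ : Submodule A N) = ⊤
  · rw [idealDepth_eq_top I N hN]; exact le_top
  · have hM : I • (⊤ : Submodule A M) ≠ ⊤ := fun h => hN (smul_top_eq_top_of_equiv I e h)
    unfold idealDepth
    rw [if_neg hM, if_neg hN]
    exact iSup₂_le fun rs hrs =>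
      le_iSup₂_of_le rs ⟨(e.isWeaklyRegular_congr rs).mp hrs.1, hrs.2⟩ le_rfl

lemma idealDepth_congr (e : M ≃ₗ[A] N) : idealDepth I M = idealDepth I N :=
  le_antisymm (idealDepth_le_of_equiv I e) (idealDepth_le_of_equiv I e.symm)

end congr

section pi

variable (M₀ : Type v) [AddCommGroup M₀] [Module A M₀] (n : ℕ)

lemma smul_top_pi (h : I • (⊤ : Submodule A M₀) = ⊤) :
    I • (⊤ : Submodule A (Fin n → M₀)) = ⊤ := by
  rw [eq_top_iff]
  intro v _
  have hv : v = ∑ i, LinearMap.single A (fun _ : Fin n => M₀) i (v i) := by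
    ext j
    simp [Finset.sum_apply, Pi.single_apply]
  rw [hv]
  refine Submodule.sum_mem _ fun i _ => ?_
  have h1 : v i ∈ I • (⊤ : Submodule A M₀) := by rw [h]; trivial
  have h2 : Submodule.map (LinearMap.single A (fun _ : Fin n => M₀) i) (I • (⊤ : Submodule A M₀)) ≤
      I • (⊤ : Submodule A (Fin n → M₀)) := by
    rw [Submodule.map_smul'']
    exact Submodule.smul_mono le_rfl le_top
  exact h2 ⟨v i, h1, rfl⟩

lemma regular_pi {a : A} (ha : IsSMulRegular M₀ a) : IsSMulRegular (Fin n → M₀) a := by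
  intro v w h
  ext i
  exact ha (congrFun h i)

theorem one_le_idealDepth_pi (h : 1 ≤ idealDepth I M₀) : 1 ≤ idealDepth I (Fin n → M₀) := by
  by_cases hP : I • (⊤ : Submodule A (Fin n → M₀)) = ⊤
  · rw [idealDepth_eq_top I _ hP]; exact le_top
  have hM : I • (⊤ : Submodule A M₀) ≠ ⊤ := fun h' => hP (smul_top_pi I M₀ n h')
  obtain ⟨rs, hreg, hmem, hlen⟩ := exists_of_le_idealDepth I M₀ 1 le_rfl (by exact_mod_cast h) hM
  match rs, hreg, hmem, hlen with
  | a :: rest, hreg, hmem, _ =>
    have ha : IsSMulRegular M₀ a := ((isWeaklyRegular_cons_iff M₀ a rest).mp hreg).1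
    have h1 := le_idealDepth_of I (Fin n → M₀) [a]
      ((isWeaklyRegular_cons_iff _ a []).mpr ⟨regular_pi M₀ n ha, IsWeaklyRegular.nil _ _⟩)
      (by intro r hr; rw [List.mem_singleton] at hr; subst hr; exact hmem _ (List.mem_cons_self))
    simpa using h1

theorem two_le_idealDepth_pi (h : 2 ≤ idealDepth I M₀) : 2 ≤ idealDepth I (Fin n → M₀) := by
  by_cases hP : I • (⊤ : Submodule A (Fin n → M₀)) = ⊤
  · rw [idealDepth_eq_top I _ hP]; exact le_top
  have hM : I • (⊤ : Submodule A M₀) ≠ ⊤ := fun h' => hP (smul_top_pi I M₀ n h')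
  obtain ⟨rs, hreg, hmem, hlen⟩ := exists_of_le_idealDepth I M₀ 2 (by norm_num)
    (by exact_mod_cast h) hM
  match rs, hreg, hmem, hlen with
  | a :: b :: rest, hreg, hmem, _ =>
    have hreg' := (isWeaklyRegular_cons_iff M₀ a (b :: rest)).mp hreg
    have ha : IsSMulRegular M₀ a := hreg'.1
    have hb0 : IsSMulRegular (QuotSMulTop a M₀) b :=
      ((isWeaklyRegular_cons_iff _ b rest).mp hreg'.2).1
    have hb := (quot_regular_iff a b).mp hb0
    have hbP : IsSMulRegular (QuotSMulTop a (Fin n → M₀)) b := by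
      rw [quot_regular_iff]
      rintro e ⟨e', he'⟩
      have : ∀ i, ∃ w, e i = a • w := fun i => hb (e i) ⟨e' i, congrFun he' i⟩
      choose w hw using this
      exact ⟨w, funext hw⟩
    have h1 := le_idealDepth_of I (Fin n → M₀) [a, b]
      ((isWeaklyRegular_cons_iff _ a [b]).mpr ⟨regular_pi M₀ n ha,
        (isWeaklyRegular_cons_iff _ b []).mpr ⟨hbP, IsWeaklyRegular.nil _ _⟩⟩)
      (by
        intro r hr
        simp only [List.mem_cons, List.not_mem_nil, or_false] at hr
        rcases hr with rfl | rfl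
        · exact hmem _ List.mem_cons_self
        · exact hmem _ (List.mem_cons_of_mem _ List.mem_cons_self))
    simpa using h1

end pi


/-- A finite reflexive module over a Noetherian ring is the kernel of a map of finite free
modules. -/
theorem exists_ker_presentation [IsNoetherianRing A] (G : Type v) [AddCommGroup G] [Module A G]
    [Module.Finite A G] [Module.IsReflexive A G] :
    ∃ (n m : ℕ) (ι : G →ₗ[A] (Fin n → A)) (u : (Fin n → A) →ₗ[A] (Fin m → A)),
      Function.Injective ι ∧ Function.Exact ι u := by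
  classical
  have hfd : Module.Finite A (Dual A G) := by
    have : IsNoetherian A (G →ₗ[A] A) := isNoetherian_linearMap A A G
    infer_instance
  obtain ⟨n, π, hπ⟩ := Module.Finite.exists_fin' A (Dual A G)
  have : IsNoetherian A (Fin n → A) := inferInstance
  obtain ⟨m, ρ, hρ⟩ := Module.Finite.exists_fin' A (LinearMap.ker π)
  let ρ' : (Fin m → A) →ₗ[A] (Fin n → A) := (LinearMap.ker π).subtype ∘ₗ ρ
  have hρ'ker : ∀ d, π (ρ' d) = 0 := fun d => (ρ d).2
  have hρ'surj : ∀ c, π c = 0 → ∃ d, ρ' d = c := by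
    intro c hc
    obtain ⟨d, hd⟩ := hρ ⟨c, hc⟩
    exact ⟨d, congrArg Subtype.val hd⟩
  let φ : Fin n → Dual A G := fun i => π (Pi.single i 1)
  have hπc : ∀ c : Fin n → A, π c = ∑ i, c i • φ i := by
    intro c
    have : c = ∑ i, c i • (Pi.single i 1 : Fin n → A) := by
      ext j
      simp [Finset.sum_apply, Pi.single_apply]
    conv_lhs => rw [this]
    simp only [map_sum, map_smul, φ]
  let ι : G →ₗ[A] (Fin n → A) := LinearMap.pi fun i => φ i
  let u : (Fin n → A) →ₗ[A] (Fin m → A) :=
    LinearMap.pi fun j => ∑ i, (ρ' (Pi.single j 1) i) • (LinearMap.proj i : (Fin n → A) →ₗ[A] A)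
  have hu : ∀ v j, u v j = ∑ i, ρ' (Pi.single j 1) i * v i := by
    intro v j
    simp [u, LinearMap.pi_apply, LinearMap.sum_apply]
  have hρ'd : ∀ d : Fin m → A, ρ' d = ∑ j, d j • ρ' (Pi.single j 1) := by
    intro d
    have : d = ∑ j, d j • (Pi.single j 1 : Fin m → A) := by
      ext j
      simp [Finset.sum_apply, Pi.single_apply]
    conv_lhs => rw [this]
    simp only [map_sum, map_smul]
  refine ⟨n, m, ι, u, ?_, ?_⟩
  · rw [injective_iff_map_eq_zero]
    intro g hg
    apply (Module.bijective_dual_eval A G).1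
    rw [map_zero]
    ext ψ
    obtain ⟨c, rfl⟩ := hπ ψ
    rw [Dual.eval_apply, LinearMap.zero_apply, hπc, LinearMap.sum_apply]
    refine Finset.sum_eq_zero fun i _ => ?_
    rw [LinearMap.smul_apply]
    have : φ i g = 0 := congrFun hg i
    rw [this, smul_zero]
  · intro v
    constructor
    · intro hv
      let ℓ : (Fin n → A) →ₗ[A] A := ∑ i, v i • (LinearMap.proj i : (Fin n → A) →ₗ[A] A)
      have hℓ : ∀ c, ℓ c = ∑ i, v i * c i := by
        intro c
        simp [ℓ, LinearMap.sum_apply]
      have hker : LinearMap.ker π ≤ LinearMap.ker ℓ := by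
        intro c hc
        obtain ⟨d, rfl⟩ := hρ'surj c hc
        rw [LinearMap.mem_ker, hρ'd, map_sum]
        refine Finset.sum_eq_zero fun j _ => ?_
        rw [map_smul, hℓ]
        have := congrFun hv j
        rw [hu] at this
        rw [smul_eq_mul]
        have h2 : ∑ i, v i * ρ' (Pi.single j 1) i = ∑ i, ρ' (Pi.single j 1) i * v i :=
          Finset.sum_congr rfl fun i _ => mul_comm _ _
        rw [h2, this]
        simp
      let ξ : Dual A (Dual A G) :=
        ((LinearMap.ker π).liftQ ℓ hker) ∘ₗ (π.quotKerEquivOfSurjective hπ).symm.toLinearMap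
      have hξ : ∀ c, ξ (π c) = ℓ c := by
        intro c
        simp only [ξ, LinearMap.comp_apply, LinearEquiv.coe_coe]
        have : (π.quotKerEquivOfSurjective hπ).symm (π c) = Submodule.Quotient.mk c := by
          rw [LinearEquiv.symm_apply_eq]
          rfl
        rw [this, Submodule.liftQ_apply]
      obtain ⟨g, hg⟩ := (Module.bijective_dual_eval A G).2 ξ
      refine ⟨g, ?_⟩
      ext i
      show φ i g = v i
      have h1 : ξ (φ i) = ℓ (Pi.single i 1) := hξ _
      rw [← hg, Dual.eval_apply, hℓ] at h1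
      rw [h1]
      simp [Pi.single_apply]
    · rintro ⟨g, rfl⟩
      ext j
      rw [hu, Pi.zero_apply]
      have h1 := hρ'ker (Pi.single j 1)
      rw [hπc] at h1
      have h2 := LinearMap.congr_fun h1 g
      rw [LinearMap.sum_apply, LinearMap.zero_apply] at h2
      rw [← h2]
      refine Finset.sum_congr rfl fun i _ => ?_
      rw [LinearMap.smul_apply, smul_eq_mul]
      rfl


/-- Localizing a kernel presentation at a prime. -/
theorem exists_loc_ker_equiv {G : Type v} [AddCommGroup G] [Module A G] (p : Ideal A) [p.IsPrime]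
    {n m : ℕ} (ι : G →ₗ[A] (Fin n → A)) (u : (Fin n → A) →ₗ[A] (Fin m → A))
    (hι : Function.Injective ι) (hex : Function.Exact ι u) :
    ∃ u' : (Fin n → LocalizedModule p.primeCompl A) →ₗ[Localization.AtPrime p]
        (Fin m → LocalizedModule p.primeCompl A),
      Nonempty (LocalizedModule p.primeCompl G ≃ₗ[Localization.AtPrime p] LinearMap.ker u') := by
  let S := p.primeCompl
  let f₀ := LocalizedModule.mkLinearMap S G
  let f₁ : (Fin n → A) →ₗ[A] (Fin n → LocalizedModule S A) :=
    LinearMap.pi fun i => (LocalizedModule.mkLinearMap S A) ∘ₗ LinearMap.proj i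
  let f₂ : (Fin m → A) →ₗ[A] (Fin m → LocalizedModule S A) :=
    LinearMap.pi fun i => (LocalizedModule.mkLinearMap S A) ∘ₗ LinearMap.proj i
  have h₁ : IsLocalizedModule S f₁ :=
    IsLocalizedModule.pi S (fun _ : Fin n => LocalizedModule.mkLinearMap S A)
  have h₂ : IsLocalizedModule S f₂ :=
    IsLocalizedModule.pi S (fun _ : Fin m => LocalizedModule.mkLinearMap S A)
  let ι' : LocalizedModule S G →ₗ[Localization.AtPrime p] (Fin n → LocalizedModule S A) :=
    IsLocalizedModule.mapExtendScalars S f₀ f₁ (Localization.AtPrime p) ι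
  let u' : (Fin n → LocalizedModule S A) →ₗ[Localization.AtPrime p]
      (Fin m → LocalizedModule S A) :=
    IsLocalizedModule.mapExtendScalars S f₁ f₂ (Localization.AtPrime p) u
  have hinj : Function.Injective ι' := IsLocalizedModule.map_injective S f₀ f₁ ι hι
  have hex' : Function.Exact ι' u' := IsLocalizedModule.map_exact S f₀ f₁ f₂ ι u hex
  have hrange : LinearMap.range ι' = LinearMap.ker u' := (LinearMap.exact_iff.mp hex').symm
  exact ⟨u', ⟨(LinearEquiv.ofInjective ι' hinj).trans (LinearEquiv.ofEq _ _ hrange)⟩⟩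

end Groth.Agent.Helper9.ReflKer
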