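import Mathlib
import Groth.Prelude.Def_CAlg
import Groth.Agent.Helper9.DepthKer

/-! Depth and localization at primes. -/

set_option autoImplicit false
universe u v

namespace Groth.Agent.Helper9.DepthLoc

open RingTheory.Sequence LocCoh
open scoped Pointwise

variable {A : Type u} [CommRing A] [IsNoetherianRing A] (I : Ideal A)
variable (M : Type u) [AddCommGroup M] [Module A M] [Module.Finite A M]
variable (p : Ideal A) [hpp : p.IsPrime]

/-- If `p ⊇ I` is in the support of `M` then `I M ≠ M`. -/
lemma smul_top_ne_top_of_mem_support (hIp : I ≤ p)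
    (hp : (⟨p, hpp⟩ : PrimeSpectrum A) ∈ Module.support A M) :
    I • (⊤ : Submodule A M) ≠ ⊤ := by
  intro h
  obtain ⟨r, hr1, hr2⟩ := DepthKer.exists_killer (I := I) M h
  rw [Module.mem_support_iff_of_finite] at hp
  have hrp : r ∈ p := by
    apply hp
    rw [Module.mem_annihilator]
    exact hr2
  have : (1 : A) ∈ p := by
    have h2 : r - 1 ∈ p := hIp hr1
    have : (1 : A) = r - (r - 1) := by ring
    rw [this]
    exact sub_mem hrp h2
  exact hpp.ne_top ((Ideal.eq_top_iff_one p).mpr this)

/-- A weakly regular sequence in `I ⊆ p` on `M` has length at most `dim Supp M_p`. -/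
lemma length_le_supportDim (hIp : I ≤ p)
    (hp : (⟨p, hpp⟩ : PrimeSpectrum A) ∈ Module.support A M)
    (rs : List A) (hreg : IsWeaklyRegular M rs) (hmem : ∀ r ∈ rs, r ∈ I) :
    ((rs.length : ℕ∞) : WithBot ℕ∞) ≤
      Module.supportDim (Localization.AtPrime p) (LocalizedModule p.primeCompl M) := by
  haveI : Nontrivial (LocalizedModule p.primeCompl M) := by
    rw [Module.mem_support_iff] at hp
    exact hp
  have hR : IsRegular (LocalizedModule p.primeCompl M)
      (rs.map (algebraMap A (Localization.AtPrime p))) :=
    hreg.isRegular_of_isLocalizedModule_of_mem (Localization.AtPrime p) p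
      (LocalizedModule.mkLinearMap p.primeCompl M) (fun r hr => hIp (hmem r hr))
  have h := Module.supportDim_add_length_eq_supportDim_of_isRegular _ hR
  rw [List.length_map] at h
  rw [← h]
  have hq : Nontrivial ((LocalizedModule p.primeCompl M) ⧸
      Ideal.ofList (rs.map (algebraMap A (Localization.AtPrime p))) •
        (⊤ : Submodule (Localization.AtPrime p) (LocalizedModule p.primeCompl M))) :=
    Submodule.Quotient.nontrivial_iff.mpr hR.2.symm
  have h0 : (0 : WithBot ℕ∞) ≤ Module.supportDim (Localization.AtPrime p)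
      ((LocalizedModule p.primeCompl M) ⧸
        Ideal.ofList (rs.map (algebraMap A (Localization.AtPrime p))) •
          (⊤ : Submodule (Localization.AtPrime p) (LocalizedModule p.primeCompl M))) := by
    have hne := Module.supportDim_ne_bot_of_nontrivial (Localization.AtPrime p)
      ((LocalizedModule p.primeCompl M) ⧸
        Ideal.ofList (rs.map (algebraMap A (Localization.AtPrime p))) •
          (⊤ : Submodule (Localization.AtPrime p) (LocalizedModule p.primeCompl M)))
    obtain ⟨m, hm⟩ := WithBot.ne_bot_iff_exists.mp hne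
    rw [← hm]
    exact WithBot.coe_le_coe.mpr zero_le
  calc ((rs.length : ℕ∞) : WithBot ℕ∞) = 0 + ((rs.length : ℕ∞) : WithBot ℕ∞) := by rw [zero_add]
    _ ≤ _ := add_le_add_left h0 _

/-- `depth_I M ≤ dim Supp M_p` for `p ⊇ I` in the support. -/
theorem idealDepth_le_supportDim (hIp : I ≤ p)
    (hp : (⟨p, hpp⟩ : PrimeSpectrum A) ∈ Module.support A M) :
    ((idealDepth I M : ℕ∞) : WithBot ℕ∞) ≤
      Module.supportDim (Localization.AtPrime p) (LocalizedModule p.primeCompl M) := by
  have hne := smul_top_ne_top_of_mem_support I M p hIp hp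
  haveI : Nontrivial (LocalizedModule p.primeCompl M) := by
    rw [Module.mem_support_iff] at hp
    exact hp
  obtain ⟨n, hn⟩ := WithBot.ne_bot_iff_exists.mp
    (Module.supportDim_ne_bot_of_nontrivial (Localization.AtPrime p)
      (LocalizedModule p.primeCompl M))
  rw [← hn, WithBot.coe_le_coe]
  unfold idealDepth
  rw [if_neg hne]
  refine iSup_le fun rs => iSup_le fun hrs => ?_
  have := length_le_supportDim I M p hIp hp rs hrs.1 hrs.2
  rw [← hn, WithBot.coe_le_coe] at this
  exact this

end Groth.Agent.Helper9.DepthLoc
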