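import Mathlib
import Groth.Prelude.Def_CAlg
import Groth.Agent.Helper9.DepthKer
import Groth.Agent.Helper9.DepthLoc

/-! Depth ≥ 2 from local depths (elementary). -/

set_option autoImplicit false
universe u v

namespace Groth.Agent.Helper9.DepthS2

open RingTheory.Sequence LocCoh DepthKer
open scoped Pointwise

section loc

variable {R : Type u} [CommRing R] [IsLocalRing R]
variable (N : Type v) [AddCommGroup N] [Module R N] [Module.Finite R N]

lemma max_smul_top_ne_top [Nontrivial N] :
    IsLocalRing.maximalIdeal R • (⊤ : Submodule R N) ≠ ⊤ := by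
  intro h
  have := Submodule.eq_bot_of_le_smul_of_le_jacobson_bot (IsLocalRing.maximalIdeal R)
    (⊤ : Submodule R N) Module.Finite.fg_top (le_of_eq h.symm)
    (IsLocalRing.maximalIdeal_le_jacobson _)
  exact top_ne_bot this

variable {N}

lemma not_one_le_depth_of_socle (w : N) (hw : w ≠ 0)
    (h : ∀ r ∈ IsLocalRing.maximalIdeal R, r • w = 0) : ¬ (1 ≤ depth R N) := by
  intro h1
  haveI : Nontrivial N := ⟨w, 0, hw⟩
  obtain ⟨rs, hreg, hmem, hlen⟩ := exists_of_le_idealDepth (IsLocalRing.maximalIdeal R) N 1 le_rfl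
    (by exact_mod_cast h1) (max_smul_top_ne_top N)
  match rs, hreg, hmem, hlen with
  | a :: rest, hreg, hmem, _ =>
    have ha : IsSMulRegular N a := ((isWeaklyRegular_cons_iff N a rest).mp hreg).1
    apply hw
    apply ha
    show a • w = a • 0
    rw [h a (hmem a List.mem_cons_self), smul_zero]

lemma exists_regSeq_of_two_le_depth [Nontrivial N] (h : 2 ≤ depth R N) :
    ∃ a b : R, a ∈ IsLocalRing.maximalIdeal R ∧ b ∈ IsLocalRing.maximalIdeal R ∧
      IsSMulRegular N a ∧ ∀ e : N, (∃ e', b • e = a • e') → ∃ e', e = a • e' := by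
  obtain ⟨rs, hreg, hmem, hlen⟩ := exists_of_le_idealDepth (IsLocalRing.maximalIdeal R) N 2
    (by norm_num) (by exact_mod_cast h) (max_smul_top_ne_top N)
  match rs, hreg, hmem, hlen with
  | a :: b :: rest, hreg, hmem, _ =>
    have hreg' := (isWeaklyRegular_cons_iff N a (b :: rest)).mp hreg
    have hb0 : IsSMulRegular (QuotSMulTop a N) b :=
      ((isWeaklyRegular_cons_iff _ b rest).mp hreg'.2).1
    exact ⟨a, b, hmem a List.mem_cons_self, hmem b (List.mem_cons_of_mem _ List.mem_cons_self),
      hreg'.1, (quot_regular_iff a b).mp hb0⟩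

end loc

section glob

variable {A : Type u} [CommRing A] [IsNoetherianRing A] (I : Ideal A)

/-- From a nonzero element killed by `I`, find an element whose annihilator is a prime `⊇ I`. -/
lemma exists_prime_ann (N : Type v) [AddCommGroup N] [Module A N] (z : N) (hz : z ≠ 0)
    (hI : ∀ i ∈ I, i • z = 0) :
    ∃ (p : Ideal A) (_ : p.IsPrime) (y : N), I ≤ p ∧ ∀ a : A, a • y = 0 ↔ a ∈ p := by
  let S : Submodule A N := Submodule.span A {z}
  haveI : Nontrivial S := ⟨⟨z, Submodule.subset_span rfl⟩, 0, fun h => hz (congrArg Subtype.val h)⟩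
  obtain ⟨p, hp⟩ := associatedPrimes.nonempty A S
  obtain ⟨hpp, y, hy⟩ := Submodule.isAssociatedPrime_iff.mp hp
  have hya : ∀ a : A, a • (y : N) = 0 ↔ a ∈ p := by
    intro a
    rw [hy, Submodule.mem_colon_singleton, Submodule.mem_bot]
    constructor
    · intro h; exact Subtype.ext h
    · intro h; exact congrArg Subtype.val h
  refine ⟨p, hpp, y, fun i hi => ?_, hya⟩
  rw [← hya]
  obtain ⟨a, ha⟩ := Submodule.mem_span_singleton.mp y.2
  rw [← ha, smul_comm, hI i hi, smul_zero]

end glob


section locsocle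

variable {A : Type u} [CommRing A] (p : Ideal A) [hpp : p.IsPrime]
variable {G : Type u} [AddCommGroup G] [Module A G]

/-- Absolute socle: if `Ann y = p` then `y/1` is a nonzero socle element of `G_p`. -/
lemma loc_socle (y : G) (hy : ∀ a : A, a • y = 0 ↔ a ∈ p) :
    LocalizedModule.mk y (1 : p.primeCompl) ≠ 0 ∧
      ∀ r ∈ IsLocalRing.maximalIdeal (Localization.AtPrime p),
        r • LocalizedModule.mk y (1 : p.primeCompl) = 0 := by
  constructor
  · intro h
    rw [← LocalizedModule.zero_mk (1 : p.primeCompl), LocalizedModule.mk_eq] at h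
    obtain ⟨u, hu⟩ := h
    rw [one_smul, smul_zero, smul_zero] at hu
    have : (u : A) • y = 0 := hu
    exact u.2 ((hy _).mp this)
  · intro r hr
    obtain ⟨a, s, rfl⟩ := IsLocalization.exists_mk'_eq p.primeCompl r
    rw [IsLocalization.AtPrime.mk'_mem_maximal_iff (Localization.AtPrime p) p] at hr
    rw [← Localization.mk_eq_mk', LocalizedModule.mk_smul_mk, (hy a).mpr hr,
      LocalizedModule.zero_mk]

/-- Relative socle: if `{a | a • y ∈ x G} = p` then `y/1 ∉ x G_p` and `m_p (y/1) ⊆ x G_p`. -/
lemma loc_socle_rel (x : A) (y : G) (hy : ∀ a : A, (∃ g : G, a • y = x • g) ↔ a ∈ p) :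
    (¬ ∃ w' : LocalizedModule p.primeCompl G,
        LocalizedModule.mk y (1 : p.primeCompl) = algebraMap A (Localization.AtPrime p) x • w') ∧
      ∀ r ∈ IsLocalRing.maximalIdeal (Localization.AtPrime p),
        ∃ w' : LocalizedModule p.primeCompl G,
          r • LocalizedModule.mk y (1 : p.primeCompl) =
            algebraMap A (Localization.AtPrime p) x • w' := by
  constructor
  · rintro ⟨w', hw'⟩
    induction w' using LocalizedModule.induction_on with
    | h g s =>
      rw [algebraMap_smul, LocalizedModule.smul'_mk, LocalizedModule.mk_eq] at hw'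
      obtain ⟨u, hu⟩ := hw'
      rw [one_smul] at hu
      have h1 : ((u * s : p.primeCompl) : A) • y = x • ((u : A) • g) := by
        rw [Submonoid.coe_mul, mul_smul]
        have : (u : A) • (s : A) • y = (u : A) • x • g := hu
        rw [this, smul_comm]
      exact (u * s).2 ((hy _).mp ⟨_, h1⟩)
  · intro r hr
    obtain ⟨a, s, rfl⟩ := IsLocalization.exists_mk'_eq p.primeCompl r
    rw [IsLocalization.AtPrime.mk'_mem_maximal_iff (Localization.AtPrime p) p] at hr
    obtain ⟨g, hg⟩ := (hy a).mpr hr
    refine ⟨LocalizedModule.mk g s, ?_⟩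
    rw [← Localization.mk_eq_mk', LocalizedModule.mk_smul_mk, hg, algebraMap_smul,
      LocalizedModule.smul'_mk, mul_one]

end locsocle


section main

variable {A : Type u} [CommRing A] [IsNoetherianRing A] (I : Ideal A)
variable (G : Type u) [AddCommGroup G] [Module A G] [Module.Finite A G]

lemma regular_loc (p : Ideal A) [p.IsPrime] {x : A} (hx : IsSMulRegular G x) :
    IsSMulRegular (LocalizedModule p.primeCompl G) (algebraMap A (Localization.AtPrime p) x) := by
  have h1 : IsWeaklyRegular G [x] :=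
    (isWeaklyRegular_cons_iff G x []).mpr ⟨hx, IsWeaklyRegular.nil _ _⟩
  have h2 := h1.of_isLocalizedModule (Localization.AtPrime p) p.primeCompl
    (LocalizedModule.mkLinearMap p.primeCompl G)
  rw [List.map_cons, List.map_nil] at h2
  exact ((isWeaklyRegular_cons_iff _ _ []).mp h2).1

theorem exists_regular_of_local
    (hloc : ∀ (p : Ideal A) [p.IsPrime], I ≤ p → Nontrivial (LocalizedModule p.primeCompl G) →
      1 ≤ depth (Localization.AtPrime p) (LocalizedModule p.primeCompl G)) :
    ∃ x ∈ I, IsSMulRegular G x := by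
  apply exists_regular_of_socle G
  intro z hz
  by_contra hz0
  obtain ⟨p, hpp, y, hIp, hy⟩ := exists_prime_ann I G z hz0 hz
  obtain ⟨hw, hsoc⟩ := loc_socle p y hy
  have hnt : Nontrivial (LocalizedModule p.primeCompl G) := ⟨_, 0, hw⟩
  exact not_one_le_depth_of_socle _ hw hsoc (hloc p hIp hnt)

theorem two_le_idealDepth_of_local
    (hloc : ∀ (p : Ideal A) [p.IsPrime], I ≤ p → Nontrivial (LocalizedModule p.primeCompl G) →
      2 ≤ depth (Localization.AtPrime p) (LocalizedModule p.primeCompl G)) :
    2 ≤ idealDepth I G := by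
  obtain ⟨x, hxI, hx⟩ := exists_regular_of_local I G
    (fun p _ hIp hnt => le_trans (by norm_num) (hloc p hIp hnt))
  obtain ⟨y, hyI, hy⟩ : ∃ y ∈ I, IsSMulRegular (QuotSMulTop x G) y := by
    apply exists_regular_of_socle (QuotSMulTop x G)
    intro zb hzb
    by_contra hz0
    obtain ⟨p, hpp, yb, hIp, hyb⟩ := exists_prime_ann I (QuotSMulTop x G) zb hz0 hzb
    obtain ⟨y, rfl⟩ := Submodule.Quotient.mk_surjective _ yb
    have hy : ∀ a : A, (∃ g : G, a • y = x • g) ↔ a ∈ p := by
      intro a
      rw [← hyb a, ← Submodule.Quotient.mk_smul, Submodule.Quotient.mk_eq_zero,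
        Submodule.mem_smul_pointwise_iff_exists]
      constructor
      · rintro ⟨g, hg⟩; exact ⟨g, trivial, hg.symm⟩
      · rintro ⟨g, -, hg⟩; exact ⟨g, hg.symm⟩
    obtain ⟨hnot, hsoc⟩ := loc_socle_rel p x y hy
    have hnt : Nontrivial (LocalizedModule p.primeCompl G) := by
      by_contra h
      rw [not_nontrivial_iff_subsingleton] at h
      exact hnot ⟨0, Subsingleton.elim _ _⟩
    obtain ⟨a, b, ha, hb, hareg, hbreg⟩ := exists_regSeq_of_two_le_depth (hloc p hIp hnt)
    exact hnot (socle_quot_of_regSeq ha hb hareg hbreg (regular_loc G p hx) _ hsoc)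
  have := le_idealDepth_of I G [x, y]
    ((isWeaklyRegular_cons_iff G x [y]).mpr ⟨hx,
      (isWeaklyRegular_cons_iff _ y []).mpr ⟨hy, IsWeaklyRegular.nil _ _⟩⟩)
    (by
      intro r hr
      simp only [List.mem_cons, List.not_mem_nil, or_false] at hr
      rcases hr with rfl | rfl
      · exact hxI
      · exact hyI)
  simpa using this

end main


section more

variable {A : Type u} [CommRing A] [IsNoetherianRing A] (I : Ideal A)
variable (G : Type u) [AddCommGroup G] [Module A G] [Module.Finite A G]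

/-- Localizing the depth: `n ≤ depth_I G` gives `n ≤ depth G_q` for `q ⊇ I` in the support. -/
theorem le_depth_loc (n : ℕ) (h : (n : ℕ∞) ≤ idealDepth I G) (q : Ideal A) [hq : q.IsPrime]
    (hIq : I ≤ q) (hnt : Nontrivial (LocalizedModule q.primeCompl G)) :
    (n : ℕ∞) ≤ depth (Localization.AtPrime q) (LocalizedModule q.primeCompl G) := by
  rcases Nat.eq_zero_or_pos n with rfl | hn
  · simp
  have hsupp : (⟨q, hq⟩ : PrimeSpectrum A) ∈ Module.support A G := by
    rw [Module.mem_support_iff]; exact hnt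
  have hne := DepthLoc.smul_top_ne_top_of_mem_support I G q hIq hsupp
  obtain ⟨rs, hreg, hmem, hlen⟩ := exists_of_le_idealDepth I G n hn h hne
  have hR : IsRegular (LocalizedModule q.primeCompl G)
      (rs.map (algebraMap A (Localization.AtPrime q))) :=
    hreg.isRegular_of_isLocalizedModule_of_mem (Localization.AtPrime q) q
      (LocalizedModule.mkLinearMap q.primeCompl G) (fun r hr => hIq (hmem r hr))
  have h1 := le_idealDepth_of (IsLocalRing.maximalIdeal (Localization.AtPrime q))
    (LocalizedModule q.primeCompl G) (rs.map (algebraMap A (Localization.AtPrime q))) hR.1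
    (by
      intro r hr
      rw [List.mem_map] at hr
      obtain ⟨a, ha, rfl⟩ := hr
      rw [← Localization.AtPrime.map_eq_maximalIdeal]
      exact Ideal.mem_map_of_mem _ (hIq (hmem a ha)))
  rw [List.length_map] at h1
  refine le_trans ?_ h1
  exact_mod_cast hlen

/-- The depth of the zero module is `⊤`. -/
lemma depth_eq_top_of_subsingleton {R : Type u} [CommRing R] [IsLocalRing R] (N : Type v)
    [AddCommGroup N] [Module R N] [Subsingleton N] : depth R N = ⊤ :=
  idealDepth_eq_top _ _ (Subsingleton.elim _ _)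

/-- `A_q` as a localized module versus as a ring. -/
noncomputable def locSelfEquiv (q : Ideal A) [q.IsPrime] :
    LocalizedModule q.primeCompl A ≃ₗ[Localization.AtPrime q] Localization.AtPrime q :=
  (IsLocalizedModule.iso q.primeCompl
    (Algebra.linearMap A (Localization.AtPrime q))).extendScalarsOfIsLocalization
    q.primeCompl (Localization.AtPrime q)

lemma supportDim_locSelf (q : Ideal A) [q.IsPrime] :
    Module.supportDim (Localization.AtPrime q) (LocalizedModule q.primeCompl A) =
      ((q.height : ℕ∞) : WithBot ℕ∞) := by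
  rw [Module.supportDim_eq_of_equiv (locSelfEquiv q), Module.supportDim_self_eq_ringKrullDim,
    IsLocalization.AtPrime.ringKrullDim_eq_height q]

/-- Numerics for Serre's condition. -/
lemma hnum (k : ℕ) (hk : k = 1 ∨ k = 2) (d D : WithBot ℕ∞) (hdD : d ≤ D) (δ γ : ℕ∞)
    (h1 : 1 ≤ δ → 1 ≤ γ) (h2 : 2 ≤ δ → 2 ≤ γ) (h : min (k : WithBot ℕ∞) D ≤ (δ : WithBot ℕ∞)) :
    min (k : WithBot ℕ∞) d ≤ (γ : WithBot ℕ∞) := by
  have h3 : min (k : WithBot ℕ∞) d ≤ (δ : WithBot ℕ∞) := le_trans (min_le_min le_rfl hdD) h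
  induction d using WithBot.recBotCoe with
  | bot => simp
  | coe e' =>
    have h4 : min (k : WithBot ℕ∞) (e' : WithBot ℕ∞) = ((min (k : ℕ∞) e' : ℕ∞) : WithBot ℕ∞) := by
      rw [WithBot.coe_min]; rfl
    rw [h4] at h3 ⊢
    rw [WithBot.coe_le_coe] at h3 ⊢
    have h5 : min (k : ℕ∞) e' ≤ k := min_le_left _ _
    obtain ⟨j, hj⟩ : ∃ j : ℕ, min (k : ℕ∞) e' = j := by
      have : min (k : ℕ∞) e' ≠ ⊤ := ne_top_of_le_ne_top (ENat.natCast_ne_top k) h5
      exact ⟨(min (k : ℕ∞) e').toNat, (ENat.natCast_toNat this).symm⟩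
    rw [hj] at h3 h5 ⊢
    have hjk : j ≤ k := by exact_mod_cast h5
    have hj2 : j ≤ 2 := by rcases hk with rfl | rfl <;> omega
    interval_cases j
    · simp
    · exact_mod_cast h1 (by exact_mod_cast h3)
    · exact_mod_cast h2 (by exact_mod_cast h3)

end more

end Groth.Agent.Helper9.DepthS2
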