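import Mathlib

set_option autoImplicit false
universe u
open CategoryTheory AlgebraicGeometry Limits

namespace Groth.Agent.Helper9.IdealComap

/-- elementwise: `f^#` maps `J(U)` into `(J.comap f)(V)`. -/
theorem map_le_ideal_comap {X Y : Scheme.{u}} (f : X ⟶ Y) (J : Y.IdealSheafData)
    (U : Y.affineOpens) (V : X.affineOpens) (e : V.1 ≤ f ⁻¹ᵁ U.1) :
    Ideal.map (f.appLE U.1 V.1 e).hom (J.ideal U) ≤ (J.comap f).ideal V := by
  rw [Ideal.map_le_iff_le_comap]
  intro a ha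
  have h1 : J ≤ (J.comap f).map f := J.le_map_comap f
  have h2 := (Scheme.Hom.ideal_ker_le ((J.comap f).subschemeι ≫ f) U) (h1 U ha)
  rw [RingHom.mem_ker] at h2
  have h3 : (((J.comap f).subschemeι ≫ f).app U.1).hom a =
      ((J.comap f).subschemeι.app (f ⁻¹ᵁ U.1)).hom ((f.app U.1).hom a) := rfl
  rw [h3] at h2
  rw [Ideal.mem_comap, ← (J.comap f).ker_subschemeι_app V, RingHom.mem_ker]
  have h4 : (f.appLE U.1 V.1 e).hom a = (X.presheaf.map (homOfLE e).op).hom ((f.app U.1).hom a) :=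
    rfl
  rw [h4]
  have h5 := (J.comap f).subschemeι.naturality (homOfLE e).op
  have h6 := congr($(h5).hom ((f.app U.1).hom a))
  simp only [CommRingCat.hom_comp, RingHom.comp_apply] at h6
  rw [h6, h2]
  exact map_zero _

theorem ofIdealTop_ideal_top {X : Scheme.{u}} (I : Ideal Γ(X, ⊤)) (h : IsAffineOpen (⊤ : X.Opens)) :
    (Scheme.IdealSheafData.ofIdealTop I).ideal ⟨⊤, h⟩ = I := by
  rw [Scheme.IdealSheafData.ofIdealTop_ideal]
  have : (X.presheaf.map (homOfLE (le_top : (⊤ : X.Opens) ≤ ⊤)).op).hom = RingHom.id _ := by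
    have : (homOfLE (le_top : (⊤ : X.Opens) ≤ ⊤)) = 𝟙 _ := rfl
    rw [this, op_id, X.presheaf.map_id]
    rfl
  rw [this, Ideal.map_id]

theorem ideal_comap_top_of_isAffine {X Y : Scheme.{u}} [IsAffine X] [IsAffine Y] (f : X ⟶ Y)
    (J : Y.IdealSheafData) :
    (J.comap f).ideal ⟨⊤, isAffineOpen_top X⟩ =
      Ideal.map f.appTop.hom (J.ideal ⟨⊤, isAffineOpen_top Y⟩) := by
  apply le_antisymm
  · have h1 : J.comap f ≤ Scheme.IdealSheafData.ofIdealTop
        (Ideal.map f.appTop.hom (J.ideal ⟨⊤, isAffineOpen_top Y⟩)) := by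
      rw [← Scheme.IdealSheafData.le_map_iff_comap_le]
      apply Scheme.IdealSheafData.le_of_isAffine
      rw [Scheme.IdealSheafData.ideal_map_of_isAffineHom, Scheme.IdealSheafData.ofIdealTop_ideal]
      intro a ha
      rw [Ideal.mem_comap]
      have h2 : (f.app ⊤).hom a = (X.presheaf.map (homOfLE (le_top : f ⁻¹ᵁ ⊤ ≤ ⊤)).op).hom
          (f.appTop.hom a) := by
        have key : ∀ (W : X.Opens) (hW : W = ⊤) (i : W ⟶ ⊤) (s : Γ(X, ⊤)) (t : Γ(X, W)),
            HEq s t → t = (X.presheaf.map i.op).hom s := by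
          intro W hW i s t hst
          subst hW
          have : i = 𝟙 _ := Subsingleton.elim _ _
          rw [this, op_id, X.presheaf.map_id]
          exact (eq_of_heq hst).symm
        exact key _ rfl _ _ _ HEq.rfl
      rw [h2]
      exact Ideal.mem_map_of_mem _ (Ideal.mem_map_of_mem _ ha)
    have h3 := h1 ⟨⊤, isAffineOpen_top X⟩
    rwa [ofIdealTop_ideal_top] at h3
  · have h4 : f.appLE ⊤ ⊤ le_top = f.appTop := by
      change f.appLE ⊤ ⊤ le_top = f.app ⊤
      rw [Scheme.Hom.app_eq_appLE]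
      rfl
    have := map_le_ideal_comap f J ⟨⊤, isAffineOpen_top Y⟩ ⟨⊤, isAffineOpen_top X⟩ le_top
    rw [h4] at this
    exact this

theorem ideal_comap_ι {X : Scheme.{u}} (I : X.IdealSheafData) (V : X.affineOpens)
    (h : IsAffineOpen (⊤ : V.1.toScheme.Opens)) :
    (I.comap V.1.ι).ideal ⟨⊤, h⟩ = Ideal.map V.1.topIso.inv.hom (I.ideal V) := by
  rw [Scheme.IdealSheafData.ideal_comap_of_isOpenImmersion]
  have h1 : (V.1.ι.appIso ⊤).inv = 𝟙 _ := by rw [Scheme.Opens.ι_appIso]; rfl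
  rw [h1]
  have h2 : (⟨V.1.ι ''ᵁ ⊤, h.image_of_isOpenImmersion V.1.ι⟩ : X.affineOpens) ≤ V :=
    le_of_eq (Subtype.ext V.1.ι_image_top)
  rw [← I.map_ideal h2]
  exact Ideal.comap_id _

theorem ideal_comap {X Y : Scheme.{u}} (f : X ⟶ Y) (J : Y.IdealSheafData)
    (U : Y.affineOpens) (V : X.affineOpens) (e : V.1 ≤ f ⁻¹ᵁ U.1) :
    (J.comap f).ideal V = Ideal.map (f.appLE U.1 V.1 e).hom (J.ideal U) := by
  apply le_antisymm _ (map_le_ideal_comap f J U V e)
  have : IsAffine V.1.toScheme := V.2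
  have : IsAffine U.1.toScheme := U.2
  have h1 : (J.comap f).comap V.1.ι = (J.comap U.1.ι).comap (f.resLE U.1 V.1 e) := by
    rw [← Scheme.IdealSheafData.comap_comp, ← Scheme.IdealSheafData.comap_comp,
      Scheme.Hom.resLE_comp_ι]
  have h2 := ideal_comap_top_of_isAffine (f.resLE U.1 V.1 e) (J.comap U.1.ι)
  rw [← h1, ideal_comap_ι, ideal_comap_ι] at h2
  have h3 : (f.resLE U.1 V.1 e).appTop = U.1.topIso.hom ≫ f.appLE U.1 V.1 e ≫ V.1.topIso.inv :=
    Scheme.Hom.resLE_app_top f e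
  rw [h3, Ideal.map_map, ← CommRingCat.hom_comp, Iso.inv_hom_id_assoc, CommRingCat.hom_comp,
    ← Ideal.map_map] at h2
  have key : ∀ (𝔞 : Ideal Γ(X, V.1)),
      Ideal.map V.1.topIso.hom.hom (Ideal.map V.1.topIso.inv.hom 𝔞) = 𝔞 := by
    intro 𝔞
    rw [Ideal.map_map, ← CommRingCat.hom_comp, Iso.inv_hom_id, CommRingCat.hom_id, Ideal.map_id]
  have h4 := congrArg (Ideal.map V.1.topIso.hom.hom) h2
  rw [key, key] at h4
  exact h4.le

end Groth.Agent.Helper9.IdealComap
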