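import Mathlib

set_option autoImplicit false

/-!
# Pushforward of sheaves along a closed embedding
-/

namespace Groth.Agent.Helper9.ClosedEmb

open CategoryTheory TopologicalSpace Opposite Limits TopCat

universe u v w

variable {Z X : TopCat.{u}} (i : Z ⟶ X) (hi : Topology.IsClosedEmbedding i)

/-- the complement of the image -/
def Wc (hi : Topology.IsClosedEmbedding i) : Opens X :=
  ⟨(Set.range i)ᶜ, hi.isClosed_range.isOpen_compl⟩

include hi in
/-- the largest open of `X` with preimage `T` -/
def Vop (T : Opens Z) : Opens X :=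
  ⟨(i '' ((T : Set Z)ᶜ))ᶜ, (hi.isClosedMap _ T.2.isClosed_compl).isOpen_compl⟩

lemma mem_Vop (T : Opens Z) (x : X) : x ∈ Vop i hi T ↔ ∀ z, i z = x → z ∈ T := by
  show x ∈ (i '' ((T : Set Z)ᶜ))ᶜ ↔ _
  simp only [Set.mem_compl_iff, Set.mem_image, not_exists, not_and, SetLike.mem_coe]
  constructor
  · intro h z hz
    by_contra hzT
    exact h z hzT hz
  · intro h z hzT hz
    exact hzT (h z hz)

lemma map_Vop (T : Opens Z) : (Opens.map i).obj (Vop i hi T) = T := by
  ext z
  show i z ∈ Vop i hi T ↔ z ∈ T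
  rw [mem_Vop]
  constructor
  · intro h
    exact h z rfl
  · intro hz z' hz'
    rw [hi.injective hz']
    exact hz

lemma le_Vop_map (V : Opens X) : V ≤ Vop i hi ((Opens.map i).obj V) := by
  intro x hx
  rw [mem_Vop]
  rintro z rfl
  exact hx

lemma Vop_mono {T T' : Opens Z} (h : T ≤ T') : Vop i hi T ≤ Vop i hi T' := by
  intro x hx
  rw [mem_Vop] at hx ⊢
  exact fun z hz => h (hx z hz)

lemma Wc_le_Vop (T : Opens Z) : Wc i hi ≤ Vop i hi T := by
  intro x hx
  rw [mem_Vop]
  intro z hz
  exact (hx ⟨z, hz⟩).elim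

lemma Vop_map_eq (V : Opens X) : Vop i hi ((Opens.map i).obj V) = V ⊔ Wc i hi := by
  apply le_antisymm
  · intro x hx
    rw [mem_Vop] at hx
    by_cases hxr : x ∈ Set.range i
    · obtain ⟨z, rfl⟩ := hxr
      exact Or.inl (hx z rfl)
    · exact Or.inr hxr
  · exact sup_le (le_Vop_map i hi V) (Wc_le_Vop i hi _)

lemma map_le_bot_of_le_Wc (W : Opens X) (h : W ≤ Wc i hi) : (Opens.map i).obj W = ⊥ := by
  ext z
  simp only [Opens.coe_bot, Set.mem_empty_iff_false, iff_false]
  intro hz
  exact h hz ⟨z, rfl⟩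

/-- `Vop` as a functor -/
def VopF : Opens Z ⥤ Opens X where
  obj T := Vop i hi T
  map f := homOfLE (Vop_mono i hi f.le)


section FullyFaithful

variable {A : Type w} [Category.{v} A]

/-- the preimage of a morphism between pushforwards -/
def preimg {P P' : Z.Presheaf A}
    (φ : (TopCat.Presheaf.pushforward A i).obj P ⟶ (TopCat.Presheaf.pushforward A i).obj P') :
    P ⟶ P' where
  app T := P.map (homOfLE (map_Vop i hi T.unop).le).op ≫ φ.app (op (Vop i hi T.unop)) ≫
    P'.map (homOfLE (map_Vop i hi T.unop).ge).op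
  naturality T T' f := by
    let h : Vop i hi T'.unop ⟶ Vop i hi T.unop := homOfLE (Vop_mono i hi f.unop.le)
    have hφ : P.map ((Opens.map i).map h).op ≫ φ.app (op (Vop i hi T'.unop)) =
        φ.app (op (Vop i hi T.unop)) ≫ P'.map ((Opens.map i).map h).op := φ.naturality h.op
    have e1 : P.map f ≫ P.map (homOfLE (map_Vop i hi T'.unop).le).op =
        P.map (homOfLE (map_Vop i hi T.unop).le).op ≫ P.map ((Opens.map i).map h).op := by
      rw [← P.map_comp, ← P.map_comp]
      congr 1
    have e2 : P'.map ((Opens.map i).map h).op ≫ P'.map (homOfLE (map_Vop i hi T'.unop).ge).op =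
        P'.map (homOfLE (map_Vop i hi T.unop).ge).op ≫ P'.map f := by
      rw [← P'.map_comp, ← P'.map_comp]
      congr 1
    rw [reassoc_of% e1, reassoc_of% hφ, e2, Category.assoc, Category.assoc]

lemma pushforward_map_preimg {P P' : Z.Presheaf A}
    (φ : (TopCat.Presheaf.pushforward A i).obj P ⟶ (TopCat.Presheaf.pushforward A i).obj P') :
    (TopCat.Presheaf.pushforward A i).map (preimg i hi φ) = φ := by
  ext V
  let k : V ⟶ Vop i hi ((Opens.map i).obj V) := homOfLE (le_Vop_map i hi V)
  have hφ : P.map ((Opens.map i).map k).op ≫ φ.app (op V) =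
      φ.app (op (Vop i hi ((Opens.map i).obj V))) ≫ P'.map ((Opens.map i).map k).op :=
    φ.naturality k.op
  have e0 : ((TopCat.Presheaf.pushforward A i).map (preimg i hi φ)).app (op V) =
    P.map (homOfLE (map_Vop i hi ((Opens.map i).obj V)).le).op ≫
      φ.app (op (Vop i hi ((Opens.map i).obj V))) ≫
      P'.map (homOfLE (map_Vop i hi ((Opens.map i).obj V)).ge).op := rfl
  have e2 : P'.map (homOfLE (map_Vop i hi ((Opens.map i).obj V)).ge).op =
      P'.map ((Opens.map i).map k).op := by
    congr 1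
  rw [e0, e2, ← hφ, ← P.map_comp_assoc]
  have e3 : (homOfLE (map_Vop i hi ((Opens.map i).obj V)).le).op ≫
      ((Opens.map i).map k).op = 𝟙 _ := Subsingleton.elim _ _
  rw [e3, P.map_id, Category.id_comp]

lemma preimg_pushforward_map {P P' : Z.Presheaf A} (ψ : P ⟶ P') :
    preimg i hi ((TopCat.Presheaf.pushforward A i).map ψ) = ψ := by
  ext T
  have e0 : (preimg i hi ((TopCat.Presheaf.pushforward A i).map ψ)).app (op T) =
    P.map (homOfLE (map_Vop i hi T).le).op ≫ ψ.app (op ((Opens.map i).obj (Vop i hi T))) ≫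
      P'.map (homOfLE (map_Vop i hi T).ge).op := rfl
  rw [e0, ψ.naturality_assoc, ← P'.map_comp]
  have e3 : (homOfLE (map_Vop i hi T).le).op ≫
      (homOfLE (map_Vop i hi T).ge).op = 𝟙 _ := Subsingleton.elim _ _
  rw [e3, P'.map_id, Category.comp_id]

/-- pushforward of sheaves along a closed embedding is fully faithful -/
def fullyFaithful : (TopCat.Sheaf.pushforward A i).FullyFaithful where
  preimage {F F'} φ := ObjectProperty.homMk (preimg i hi φ.hom)
  map_preimage {F F'} φ := by
    apply CategoryTheory.Sheaf.hom_ext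
    exact pushforward_map_preimg i hi φ.hom
  preimage_map {F F'} ψ := by
    apply CategoryTheory.Sheaf.hom_ext
    exact preimg_pushforward_map i hi ψ.hom

end FullyFaithful


section SheafVop

variable {C : Type w} [Category.{v} C] {FC : C → C → Type*} {CC : C → Type u}
variable [∀ X Y, FunLike (FC X Y) (CC X) (CC Y)] [ConcreteCategory C FC]
variable [HasLimitsOfSize.{u, u} C] [(forget C).ReflectsIsomorphisms]
  [PreservesLimitsOfSize.{u, u} (forget C)]

omit [HasLimitsOfSize.{u, u} C] [(forget C).ReflectsIsomorphisms]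
  [PreservesLimitsOfSize.{u, u} (forget C)] in
lemma map_map_apply (P : X.Presheaf C) {U V W : Opens X} (f : V ⟶ U) (g : W ⟶ V) (h : W ⟶ U)
    (s : ToType (P.obj (op U))) : P.map g.op (P.map f.op s) = P.map h.op s := by
  rw [← ConcreteCategory.comp_apply, ← P.map_comp]
  rfl

omit [HasLimitsOfSize.{u, u} C] [(forget C).ReflectsIsomorphisms]
  [PreservesLimitsOfSize.{u, u} (forget C)] [∀ X Y, FunLike (FC X Y) (CC X) (CC Y)]
  [ConcreteCategory C FC] in
lemma map_comp_eq (P : X.Presheaf C) {U V V' W : (Opens X)ᵒᵖ} (a : U ⟶ V) (b : V ⟶ W)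
    (c : U ⟶ V') (d : V' ⟶ W) : P.map a ≫ P.map b = P.map c ≫ P.map d := by
  rw [← P.map_comp, ← P.map_comp]
  congr 1

/-- sections over opens not meeting `Z` are unique -/
def TrivOff (F : X.Presheaf C) : Prop :=
  ∀ W : Opens X, W ≤ Wc i hi → Nonempty (Unique (ToType (F.obj (op W))))

variable (F : X.Sheaf C) (hF : TrivOff i hi F.obj)

include hF in
lemma subsingleton_of_le {W : Opens X} (hW : W ≤ Wc i hi) (s t : ToType (F.obj.obj (op W))) :
    s = t := by
  obtain ⟨h⟩ := hF W hW
  exact (h.uniq s).trans (h.uniq t).symm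

/-- the presheaf `T ↦ F(Vop T)` on `Z` -/
def pre : Z.Presheaf C := (VopF i hi).op ⋙ F.obj

include hF in
theorem isSheaf_pre : (pre i hi F).IsSheaf := by
  rw [TopCat.Presheaf.isSheaf_iff_isSheafUniqueGluing]
  intro ι T sf hcompat
  let U' : Option ι → Opens X := fun o => o.elim (Wc i hi) (fun a => Vop i hi (T a))
  obtain ⟨hW⟩ := hF (Wc i hi) le_rfl
  let sf' : ∀ o : Option ι, ToType (F.obj.obj (op (U' o))) := fun o =>
    match o with
    | none => hW.default
    | some a => sf a
  have hle : ∀ o, U' o ≤ Vop i hi (iSup T) := by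
    intro o
    cases o with
    | none => exact Wc_le_Vop i hi _
    | some a => exact Vop_mono i hi (le_iSup T a)
  have hcov : Vop i hi (iSup T) ≤ iSup U' := by
    intro x hx
    by_cases hxr : x ∈ Set.range i
    · obtain ⟨z, rfl⟩ := hxr
      have hz : z ∈ iSup T := (mem_Vop i hi _ _).1 hx z rfl
      obtain ⟨a, ha⟩ := Opens.mem_iSup.1 hz
      refine Opens.mem_iSup.2 ⟨some a, ?_⟩
      show i z ∈ Vop i hi (T a)
      rw [mem_Vop]
      intro z' hz'
      rw [hi.injective hz']
      exact ha
    · exact Opens.mem_iSup.2 ⟨none, hxr⟩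
  have hcompat' : TopCat.Presheaf.IsCompatible F.obj U' sf' := by
    intro o o'
    cases o with
    | none => exact subsingleton_of_le i hi F hF (inf_le_left) _ _
    | some a =>
      cases o' with
      | none => exact subsingleton_of_le i hi F hF (inf_le_right) _ _
      | some b =>
        have hle2 : Vop i hi (T a) ⊓ Vop i hi (T b) ≤ Vop i hi (T a ⊓ T b) := by
          intro x hx
          rw [mem_Vop]
          intro z hz
          exact ⟨(mem_Vop i hi _ _).1 hx.1 z hz, (mem_Vop i hi _ _).1 hx.2 z hz⟩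
        have h1 := congrArg (F.obj.map (homOfLE hle2).op) (hcompat a b)
        have e1 : F.obj.map (homOfLE hle2).op ((pre i hi F).map (Opens.infLELeft (T a) (T b)).op (sf a)) =
            F.obj.map (Opens.infLELeft (Vop i hi (T a)) (Vop i hi (T b))).op (sf a) := by
          exact map_map_apply F.obj (homOfLE (Vop_mono i hi inf_le_left)) (homOfLE hle2) _ (sf a)
        have e2 : F.obj.map (homOfLE hle2).op ((pre i hi F).map (Opens.infLERight (T a) (T b)).op (sf b)) =
            F.obj.map (Opens.infLERight (Vop i hi (T a)) (Vop i hi (T b))).op (sf b) := by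
          exact map_map_apply F.obj (homOfLE (Vop_mono i hi inf_le_right)) (homOfLE hle2) _ (sf b)
        exact e1.symm.trans (h1.trans e2)
  obtain ⟨s, hs, hs'⟩ := TopCat.Sheaf.existsUnique_gluing' F U' (Vop i hi (iSup T))
    (fun o => homOfLE (hle o)) hcov sf' hcompat'
  refine ⟨s, fun a => hs (some a), fun s' hs'' => hs' s' ?_⟩
  intro o
  cases o with
  | none => exact subsingleton_of_le i hi F hF le_rfl _ _
  | some a => exact hs'' a

include hF in
lemma bijective_res (V : Opens X) :
    Function.Bijective (F.obj.map (homOfLE (le_Vop_map i hi V)).op) := by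
  have hle : Vop i hi ((Opens.map i).obj V) ≤ V ⊔ Wc i hi := (Vop_map_eq i hi V).le
  constructor
  · intro s t hst
    refine TopCat.Sheaf.eq_of_locally_eq₂ F (homOfLE (le_Vop_map i hi V))
      (homOfLE (Wc_le_Vop i hi _)) hle s t hst ?_
    exact subsingleton_of_le i hi F hF le_rfl _ _
  · intro t
    obtain ⟨hW⟩ := hF (Wc i hi) le_rfl
    let U' : Bool → Opens X := fun b => if b then V else Wc i hi
    let sf' : ∀ b : Bool, ToType (F.obj.obj (op (U' b))) := fun b =>
      match b with
      | true => t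
      | false => hW.default
    have hle' : ∀ b, U' b ≤ Vop i hi ((Opens.map i).obj V) := by
      intro b
      cases b
      · exact Wc_le_Vop i hi _
      · exact le_Vop_map i hi V
    have hcompat : TopCat.Presheaf.IsCompatible F.obj U' sf' := by
      intro b c
      cases b <;> cases c
      · rfl
      · exact subsingleton_of_le i hi F hF inf_le_left _ _
      · exact subsingleton_of_le i hi F hF inf_le_right _ _
      · rfl
    obtain ⟨s, hs, -⟩ := TopCat.Sheaf.existsUnique_gluing' F U' _ (fun b => homOfLE (hle' b))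
      (by
        intro x hx
        rcases hle hx with h | h
        · exact Opens.mem_iSup.2 ⟨true, h⟩
        · exact Opens.mem_iSup.2 ⟨false, h⟩) sf' hcompat
    exact ⟨s, hs true⟩

/-- the sheaf on `Z` whose pushforward is `F` -/
def preSheaf : Z.Sheaf C := ⟨pre i hi F, isSheaf_pre i hi F hF⟩

/-- `i_* (pre F) ≅ F` -/
noncomputable def pushPreIso : (TopCat.Sheaf.pushforward C i).obj (preSheaf i hi F hF) ≅ F := by
  refine (sheafToPresheaf _ _).preimageIso ?_
  refine NatIso.ofComponents (fun V => ?_) ?_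
  · exact @asIso _ _ _ _ (F.obj.map (homOfLE (le_Vop_map i hi V.unop)).op)
      ((ConcreteCategory.isIso_iff_bijective _).2 (bijective_res i hi F hF V.unop))
  · intro V V' f
    exact map_comp_eq F.obj _ _ _ _

include hF in
theorem mem_essImage : (TopCat.Sheaf.pushforward C i).essImage F :=
  ⟨preSheaf i hi F hF, ⟨pushPreIso i hi F hF⟩⟩

end SheafVop


section Stalks

variable {C : Type w} [Category.{u} C] {FC : C → C → Type*} {CC : C → Type u}
variable [∀ X Y, FunLike (FC X Y) (CC X) (CC Y)] [ConcreteCategory C FC]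
variable [HasLimits C] [(forget C).ReflectsIsomorphisms] [PreservesLimits (forget C)]
variable [HasColimits C] [PreservesFilteredColimits (forget C)]

/-- sections of a sheaf over the empty open are unique -/
lemma unique_of_eq_bot (G : Z.Sheaf C) (T : Opens Z) (hT : T = ⊥) :
    Nonempty (Unique (ToType (G.obj.obj (op T)))) := by
  obtain ⟨s, -, hs⟩ := TopCat.Sheaf.existsUnique_gluing' G (fun x : PEmpty.{1} => x.elim) T
    (fun x => x.elim) (by rw [hT]; exact bot_le) (fun x => x.elim) (fun x => x.elim)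
  exact ⟨⟨⟨s⟩, fun t => hs t (fun x => x.elim)⟩⟩

/-- pushforwards have trivial sections off `Z` -/
lemma trivOff_push (G : Z.Sheaf C) : TrivOff i hi ((TopCat.Sheaf.pushforward C i).obj G).obj := by
  intro W hW
  exact unique_of_eq_bot G _ (map_le_bot_of_le_Wc i hi W hW)

lemma trivOff_of_iso {F F' : X.Sheaf C} (e : F ≅ F') (h : TrivOff i hi F.obj) :
    TrivOff i hi F'.obj := by
  intro W hW
  obtain ⟨hu⟩ := h W hW
  have hb : Function.Bijective (e.hom.hom.app (op W)) := by
    have : IsIso (e.hom.hom.app (op W)) :=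
      inferInstanceAs (IsIso (((sheafToPresheaf _ _).mapIso e).hom.app (op W)))
    exact ConcreteCategory.bijective_of_isIso _
  refine ⟨⟨⟨e.hom.hom.app (op W) hu.default⟩, fun t => ?_⟩⟩
  obtain ⟨t', rfl⟩ := hb.2 t
  rw [hu.uniq t']
  rfl

/-- the essential image of the pushforward along a closed embedding -/
theorem essImage_iff_trivOff (F : X.Sheaf C) :
    (TopCat.Sheaf.pushforward C i).essImage F ↔ TrivOff i hi F.obj := by
  constructor
  · rintro ⟨G, ⟨e⟩⟩
    exact trivOff_of_iso i hi e (trivOff_push i hi G)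
  · intro h
    exact mem_essImage i hi F h

/-- trivial sections off `Z` in terms of stalks -/
theorem trivOff_iff_stalk (F : X.Sheaf C) :
    TrivOff i hi F.obj ↔
      ∀ x : X, x ∉ Set.range i → Nonempty (Unique (ToType (F.presheaf.stalk x))) := by
  constructor
  · intro h x hx
    obtain ⟨hW⟩ := h (Wc i hi) le_rfl
    refine ⟨⟨⟨F.presheaf.germ (Wc i hi) x hx hW.default⟩, fun t => ?_⟩⟩
    obtain ⟨U, hU, m, s, rfl⟩ := F.presheaf.exists_le_germ_eq t (V := Wc i hi) hx
    refine TopCat.Presheaf.germ_ext F.presheaf U m (𝟙 U) (homOfLE hU) ?_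
    exact subsingleton_of_le i hi F h hU _ _
  · intro h
    have hsub : ∀ (W : Opens X), W ≤ Wc i hi → ∀ s t : ToType (F.obj.obj (op W)), s = t := by
      intro W hW s t
      apply TopCat.Presheaf.section_ext F W
      intro x hx
      obtain ⟨hu⟩ := h x (hW hx)
      exact (hu.uniq _).trans (hu.uniq _).symm
    intro W hW
    have hex : ∀ x : W, ∃ (U : Opens X) (_ : U ≤ W) (_ : x.1 ∈ U),
        Nonempty (ToType (F.obj.obj (op U))) := by
      intro x
      obtain ⟨hu⟩ := h x.1 (hW x.2)
      obtain ⟨U, hU, m, s, -⟩ := F.presheaf.exists_le_germ_eq hu.default (V := W) x.2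
      exact ⟨U, hU, m, ⟨s⟩⟩
    choose U hUW hxU hne using hex
    let sf : ∀ x : W, ToType (F.obj.obj (op (U x))) := fun x => (hne x).some
    obtain ⟨s, -, -⟩ := TopCat.Sheaf.existsUnique_gluing' F U W (fun x => homOfLE (hUW x))
      (by
        intro x hx
        exact Opens.mem_iSup.2 ⟨⟨x, hx⟩, hxU ⟨x, hx⟩⟩) sf
      (by
        intro x y
        exact hsub _ (inf_le_left.trans ((hUW x).trans hW)) _ _)
    exact ⟨⟨⟨s⟩, fun t => hsub W hW _ _⟩⟩

end Stalks

end Groth.Agent.Helper9.ClosedEmb
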