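import Mathlib

/-! Formal properties of base change maps built from adjunctions: the mate formula and the
independence of the choice of adjunctions up to the choice of the identification `e`. -/

set_option autoImplicit false
set_option linter.unusedVariables false
set_option linter.unusedSectionVars false

namespace Groth.Agent.Helper9.FBFormal

open CategoryTheory

variable {A B A' B' : Type*} [Category A] [Category B] [Category A'] [Category B']
variable {Lf : B ⥤ A} {Rf : A ⥤ B} {Lg : B ⥤ B'} {Rg : B' ⥤ B} {Lf' : B' ⥤ A'}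
  {Rf' : A' ⥤ B'} {Lg' : A ⥤ A'} {Rg' : A' ⥤ A}

/-- the abstract base change map -/
def bc (adjg : Lg ⊣ Rg) (adjg' : Lg' ⊣ Rg') (e : Rg' ⋙ Rf ≅ Rf' ⋙ Rg) (E : A) :
    Lg.obj (Rf.obj E) ⟶ Rf'.obj (Lg'.obj E) :=
  (adjg.homEquiv _ _).symm (Rf.map (adjg'.unit.app E) ≫ e.hom.app (Lg'.obj E))

variable (adjf : Lf ⊣ Rf) (adjg : Lg ⊣ Rg) (adjf' : Lf' ⊣ Rf') (adjg' : Lg' ⊣ Rg')
variable (lam : Lg ⋙ Lf' ≅ Lf ⋙ Lg')

/-- the identification of composite right adjoints conjugate to `lam` -/
def eCan : Rg' ⋙ Rf ≅ Rf' ⋙ Rg :=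
  conjugateIsoEquiv (adjf.comp adjg') (adjg.comp adjf') lam

/-- the mate formula for the base change map -/
theorem mate_formula (E : A) :
    (adjf'.homEquiv _ _).symm (bc adjg adjg' (eCan adjf adjg adjf' adjg' lam) E) =
      lam.hom.app (Rf.obj E) ≫ Lg'.map (adjf.counit.app E) := by
  have h1 := conjugateEquiv_counit (adjf.comp adjg') (adjg.comp adjf') lam.hom (Lg'.obj E)
  simp only [Adjunction.comp_counit_app, Functor.comp_obj, Functor.comp_map] at h1
  have h2 := lam.hom.naturality (Rf.map (adjg'.unit.app E))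
  simp only [Functor.comp_obj, Functor.comp_map] at h2
  have h3 := adjf.counit.naturality (adjg'.unit.app E)
  simp only [Functor.comp_obj, Functor.comp_map, Functor.id_obj, Functor.id_map] at h3
  have h4 := adjg'.left_triangle_components E
  unfold bc eCan
  rw [Adjunction.homEquiv_counit, Adjunction.homEquiv_counit, conjugateIsoEquiv_apply_hom]
  simp only [Functor.map_comp, Category.assoc]
  rw [h1, reassoc_of% h2, ← Functor.map_comp_assoc, h3,
    Functor.map_comp_assoc, h4, Category.comp_id]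

/-- changing the adjunctions can be absorbed in the identification `e` -/
theorem exists_e (adjg₁ : Lg ⊣ Rg) (adjg'₁ : Lg' ⊣ Rg') (e : Rg' ⋙ Rf ≅ Rf' ⋙ Rg) :
    ∃ e₁ : Rg' ⋙ Rf ≅ Rf' ⋙ Rg, ∀ E : A, bc adjg₁ adjg'₁ e₁ E = bc adjg adjg' e E := by
  let α : Rg ≅ Rg := adjg.rightAdjointUniq adjg₁
  let α' : Rg' ≅ Rg' := adjg'.rightAdjointUniq adjg'₁
  refine ⟨Functor.isoWhiskerRight α'.symm Rf ≪≫ e ≪≫ Functor.isoWhiskerLeft Rf' α, fun E => ?_⟩
  have hη : adjg'₁.unit.app E = adjg'.unit.app E ≫ α'.hom.app (Lg'.obj E) := by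
    have := congrArg (fun t => t.app E) (Adjunction.unit_rightAdjointUniq_hom adjg' adjg'₁)
    exact this.symm
  have hε : ∀ Y : B', adjg₁.counit.app Y = Lg.map (α.inv.app Y) ≫ adjg.counit.app Y := by
    intro Y
    have h := congrArg (fun t => t.app Y) (Adjunction.rightAdjointUniq_hom_counit adjg adjg₁)
    simp only [NatTrans.comp_app, Functor.whiskerRight_app] at h
    rw [← h, ← Functor.map_comp_assoc, Iso.inv_hom_id_app]
    simp
  unfold bc
  rw [Adjunction.homEquiv_counit, Adjunction.homEquiv_counit, hε, hη]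
  simp only [Iso.trans_hom, Functor.isoWhiskerRight_hom, Functor.isoWhiskerLeft_hom,
    NatTrans.comp_app, Functor.whiskerRight_app, Functor.whiskerLeft_app, Iso.symm_hom,
    Functor.map_comp, Category.assoc]
  have k1 : Lg.map (Rf.map (α'.hom.app (Lg'.obj E))) ≫ Lg.map (Rf.map (α'.inv.app (Lg'.obj E))) =
      𝟙 _ := by
    rw [← Functor.map_comp, ← Functor.map_comp, Iso.hom_inv_id_app,
      CategoryTheory.Functor.map_id, CategoryTheory.Functor.map_id]
  have k2 : Lg.map (α.hom.app (Rf'.obj (Lg'.obj E))) ≫ Lg.map (α.inv.app (Rf'.obj (Lg'.obj E))) =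
      𝟙 _ := by
    rw [← Functor.map_comp, Iso.hom_inv_id_app, CategoryTheory.Functor.map_id]
  rw [reassoc_of% k1, reassoc_of% k2]

end Groth.Agent.Helper9.FBFormal
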