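import Mathlib
import Groth.Agent.Helper9.QP8

/-! Detecting isomorphisms in `D_QCoh` on the test objects `GU V [-q]`, `V` affine. -/

set_option autoImplicit false
set_option linter.style.haveILetI false
set_option linter.unusedVariables false
set_option linter.unusedSectionVars false
universe u

namespace Groth.Agent.Helper9.FBIso

open CategoryTheory Limits AlgebraicGeometry Opposite TopologicalSpace DerivedCategory
open Groth.Agent.Helper9 Groth.Agent.Helper9.LCAff1 Groth.Agent.Helper9.QP2
  Groth.Agent.Helper9.QP3 Groth.Agent.Helper9.LC3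

attribute [local instance] HasDerivedCategory.standard

variable {Y : Scheme.{u}}

theorem isIso_of_bijective_comp {K K' : DCoh.D Y} (hK : DCoh.IsQCohD K) (hK' : DCoh.IsQCohD K')
    (α : K ⟶ K')
    (h : ∀ y : Y, ∃ V : Y.Opens, IsAffineOpen V ∧ y ∈ V ∧
      ∀ q : ℤ, Function.Bijective (fun ψ : W (GU V) q ⟶ K => ψ ≫ α)) : IsIso α := by
  rw [DerivedCategory.isIso_iff]
  intro q
  haveI : ((homologyFunctor Y.Modules q).obj K).IsQuasicoherent := hK q
  haveI : ((homologyFunctor Y.Modules q).obj K').IsQuasicoherent := hK' q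
  apply Groth.Agent.Helper4.QcohLocal.isIso_of_app_bijective_of_affine_cover
  intro y
  obtain ⟨V, hV, hyV, hb⟩ := h y
  refine ⟨V, hV, hyV, ?_⟩
  have k1 := kk_bijective q K hK _ hV
  have k2 := kk_bijective q K' hK' _ hV
  have h3 : ⇑(ConcreteCategory.hom (((homologyFunctor Y.Modules q).map α).app V)) ∘
      kk q K V = kk q K' V ∘ (fun ψ : W (GU V) q ⟶ K => ψ ≫ α) := by
    funext ψ
    exact (QP8.kk_comp q α _ ψ).symm
  have h4 : Function.Bijective
      (⇑(ConcreteCategory.hom (((homologyFunctor Y.Modules q).map α).app V)) ∘ kk q K V) := by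
    rw [h3]
    exact k2.comp (hb q)
  exact (Function.Bijective.of_comp_iff _ k1).1 h4

end Groth.Agent.Helper9.FBIso
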