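import Mathlib
import Groth.Agent.Helper9.QP4b
import Groth.Agent.Helper4.Scalar

/-! Multiplication by sections on the free modules `GU U` of a scheme: a ring homomorphism
`Γ(X, U) →+* End (GU U)`, compatible with restriction and pullback. -/

set_option autoImplicit false
set_option backward.isDefEq.respectTransparency false
set_option linter.style.haveILetI false
set_option linter.unusedVariables false
set_option linter.unusedSectionVars false
universe u

namespace Groth.Agent.Helper9.FBMu

open CategoryTheory Limits AlgebraicGeometry Opposite TopologicalSpace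
open Groth.Agent.Helper9 Groth.Agent.Helper9.LCAff1 Groth.Agent.Helper9.QP2

variable {X Y : Scheme.{u}}

/-- multiplication by a section on `GU U` -/
noncomputable def mulGU (U : X.Opens) (s : Γ(X, U)) : GU U ⟶ GU U :=
  (secEquiv U (GU U)).symm (s • eU U)

lemma sec_mulGU (U : X.Opens) (s : Γ(X, U)) : sec U (GU U) (mulGU U s) = s • eU U :=
  Equiv.apply_symm_apply _ _

lemma sec_mulGU_comp (U : X.Opens) (s : Γ(X, U)) {F : X.Modules} (ψ : GU U ⟶ F) :
    sec U F (mulGU U s ≫ ψ) = s • sec U F ψ := by
  rw [sec_comp, sec_mulGU, Scheme.Modules.Hom.app_smul, ← sec_eq]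

/-- the ring action of sections on `GU U` -/
noncomputable def mulRing (U : X.Opens) : Γ(X, U) →+* End (GU U) where
  toFun s := mulGU U s
  map_one' := by
    apply sec_injective
    rw [sec_mulGU, one_smul]
    rfl
  map_mul' s t := by
    apply sec_injective
    show sec U (GU U) (mulGU U (s * t)) = sec U (GU U) (mulGU U t ≫ mulGU U s)
    rw [sec_mulGU_comp, sec_mulGU, sec_mulGU, mul_comm, mul_smul]
  map_zero' := by
    apply sec_injective
    rw [sec_mulGU, zero_smul]
    exact (sec_zero U (GU U)).symm
  map_add' s t := by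
    apply sec_injective
    show sec U (GU U) (mulGU U (s + t)) = sec U (GU U) (mulGU U s + mulGU U t)
    rw [sec_add, sec_mulGU, sec_mulGU, sec_mulGU, add_smul]

lemma mulRing_apply (U : X.Opens) (s : Γ(X, U)) : (mulRing U s : GU U ⟶ GU U) = mulGU U s := rfl

/-- compatibility with restriction -/
lemma GUmap_mulGU {V U : X.Opens} (h : V ≤ U) (s : Γ(X, U)) :
    GUmap h ≫ mulGU U s = mulGU V (X.presheaf.map (homOfLE h).op s) ≫ GUmap h := by
  apply sec_injective
  rw [sec_GUmap, sec_mulGU, sec_mulGU_comp, Scheme.Modules.map_smul]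
  congr 1
  have h1 := sec_GUmap h (GU U) (𝟙 _)
  rw [Category.comp_id] at h1
  exact h1.symm

/-- compatibility with pullback -/
lemma pullback_mulGU (f : X ⟶ Y) (V : Y.Opens) (s : Γ(Y, V)) :
    (Scheme.Modules.pullback f).map (mulGU V s) ≫ (QP4b.pullGU f V).hom =
      (QP4b.pullGU f V).hom ≫ mulGU (f ⁻¹ᵁ V) (f.app V s) := by
  apply (QP4b.pullEquiv f V _).injective
  apply sec_injective
  rw [QP4b.pullEquiv_hom, QP4b.sec_pullEquiv, Adjunction.homEquiv_naturality_left,
    sec_mulGU_comp, sec_mulGU]
  have h2 := QP4b.sec_pullEquiv f V _ ((QP4b.pullGU f V).hom ≫ 𝟙 _)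
  rw [QP4b.pullEquiv_hom, Category.comp_id] at h2
  rw [← h2]
  rfl

end Groth.Agent.Helper9.FBMu
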