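import Mathlib

/-! The distinguished triangle of a short exact sequence placed in an arbitrary degree `m`:
connecting morphism, naturality, and compatibility with exact functors. -/

set_option autoImplicit false
set_option backward.isDefEq.respectTransparency false
set_option linter.style.haveILetI false
set_option linter.unusedVariables false
set_option linter.unusedSectionVars false

namespace Groth.Agent.Helper9.FBDelta

open CategoryTheory CategoryTheory.Limits Pretriangulated DerivedCategory

universe w w' v v' u u'

variable {C : Type u} [Category.{v} C] [Abelian C] [HasDerivedCategory.{w} C]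

section One

variable {S : ShortComplex C} (hS : S.ShortExact) (m : ℤ)

/-- the connecting morphism in degree `m` -/
noncomputable def δm : (singleFunctor C m).obj S.X₃ ⟶ ((singleFunctor C m).obj S.X₁)⟦(1 : ℤ)⟧ :=
  triangleOfSESδ (hS.map_of_exact (HomologicalComplex.single C (ComplexShape.up ℤ) m))

lemma distinguished :
    Triangle.mk ((singleFunctor C m).map S.f) ((singleFunctor C m).map S.g) (δm hS m) ∈
      distTriang (DerivedCategory C) :=
  triangleOfSES_distinguished (hS.map_of_exact (HomologicalComplex.single C (ComplexShape.up ℤ) m))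

end One

section Nat

variable {S₁ S₂ : ShortComplex C} (h₁ : S₁.ShortExact) (h₂ : S₂.ShortExact) (f : S₁ ⟶ S₂) (m : ℤ)

lemma δm_naturality :
    δm h₁ m ≫ ((singleFunctor C m).map f.τ₁)⟦(1 : ℤ)⟧' = (singleFunctor C m).map f.τ₃ ≫ δm h₂ m :=
  triangleOfSESδ_naturality
    (h₁.map_of_exact (HomologicalComplex.single C (ComplexShape.up ℤ) m))
    (h₂.map_of_exact (HomologicalComplex.single C (ComplexShape.up ℤ) m))
    ((HomologicalComplex.single C (ComplexShape.up ℤ) m).mapShortComplex.map f)

end Nat

section Exact

variable {D : Type u'} [Category.{v'} D] [Abelian D] [HasDerivedCategory.{w'} D]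
  (F : C ⥤ D) [F.Additive] [PreservesFiniteLimits F] [PreservesFiniteColimits F]

lemma msf_hom_app (m : ℤ) (X : C) :
    (F.mapDerivedCategorySingleFunctor m).hom.app X =
      F.mapDerivedCategoryFactors.hom.app
          ((HomologicalComplex.single C (ComplexShape.up ℤ) m).obj X) ≫
        Q.map ((HomologicalComplex.singleMapHomologicalComplex F (ComplexShape.up ℤ) m).hom.app X) := by
  simp [Functor.mapDerivedCategorySingleFunctor, DerivedCategory.singleFunctorIsoCompQ]
  exact Category.id_comp _

lemma msf_inv_app (m : ℤ) (X : C) :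
    (F.mapDerivedCategorySingleFunctor m).inv.app X =
      Q.map ((HomologicalComplex.singleMapHomologicalComplex F (ComplexShape.up ℤ) m).inv.app X) ≫
        F.mapDerivedCategoryFactors.inv.app
          ((HomologicalComplex.single C (ComplexShape.up ℤ) m).obj X) := by
  simp [Functor.mapDerivedCategorySingleFunctor, DerivedCategory.singleFunctorIsoCompQ]
  rfl

variable {S : ShortComplex C} (hS : S.ShortExact) (m : ℤ)

/-- exact functors preserve the connecting morphism in degree `m` -/
lemma map_δm :
    F.mapDerivedCategory.map (δm hS m) =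
      (F.mapDerivedCategorySingleFunctor m).hom.app S.X₃ ≫ δm (hS.map_of_exact F) m ≫
        ((F.mapDerivedCategorySingleFunctor m).inv.app S.X₁)⟦(1 : ℤ)⟧' ≫
          (F.mapDerivedCategory.commShiftIso (1 : ℤ)).inv.app ((singleFunctor C m).obj S.X₁) := by
  let hSm := hS.map_of_exact (HomologicalComplex.single C (ComplexShape.up ℤ) m)
  let e : (S.map (HomologicalComplex.single C (ComplexShape.up ℤ) m)).map
        (F.mapHomologicalComplex (ComplexShape.up ℤ)) ⟶
      (S.map F).map (HomologicalComplex.single D (ComplexShape.up ℤ) m) :=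
    S.mapNatTrans (HomologicalComplex.singleMapHomologicalComplex F (ComplexShape.up ℤ) m).hom
  have hn := triangleOfSESδ_naturality
    (hSm.map_of_exact (F.mapHomologicalComplex (ComplexShape.up ℤ)))
    ((hS.map_of_exact F).map_of_exact (HomologicalComplex.single D (ComplexShape.up ℤ) m)) e
  have h1 := DerivedCategory.map_triangleOfSESδ F hSm
  have hτ₁ : e.τ₁ =
      (HomologicalComplex.singleMapHomologicalComplex F (ComplexShape.up ℤ) m).hom.app S.X₁ := rfl
  have hτ₃ : e.τ₃ =
      (HomologicalComplex.singleMapHomologicalComplex F (ComplexShape.up ℤ) m).hom.app S.X₃ := rfl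
  rw [hτ₁, hτ₃] at hn
  show F.mapDerivedCategory.map (triangleOfSESδ hSm) = _
  rw [h1, msf_hom_app, msf_inv_app, Category.assoc]
  congr 1
  show _ = DerivedCategory.Q.map _ ≫ triangleOfSESδ
    ((hS.map_of_exact F).map_of_exact (HomologicalComplex.single D (ComplexShape.up ℤ) m)) ≫ _
  rw [← reassoc_of% hn]
  congr 1
  have h2 : (shiftFunctor (DerivedCategory D) (1 : ℤ)).map
        (Q.map ((HomologicalComplex.singleMapHomologicalComplex F (ComplexShape.up ℤ) m).hom.app S.X₁)) ≫
      (shiftFunctor (DerivedCategory D) (1 : ℤ)).map
        (Q.map ((HomologicalComplex.singleMapHomologicalComplex F (ComplexShape.up ℤ) m).inv.app S.X₁)) =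
      𝟙 _ := by
    rw [← Functor.map_comp, ← Functor.map_comp, Iso.hom_inv_id_app]
    exact ((shiftFunctor (DerivedCategory D) (1 : ℤ)).congr_map (Q.map_id _)).trans
      ((shiftFunctor (DerivedCategory D) (1 : ℤ)).map_id _)
  rw [Functor.map_comp, Category.assoc, reassoc_of% h2]
  rfl

end Exact

end Groth.Agent.Helper9.FBDelta
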