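import Mathlib
import Groth.Agent.Lead.BCMap8

/-! Algebra for flat base change: a five lemma for `IsBaseChange` along a flat ring map, direct sums,
and transport along equivalences. -/

set_option autoImplicit false
open TensorProduct

namespace Groth.Agent.Helper9.FBAlg

open Groth.Agent.Lead.BCMap

section Five

variable {R : Type*} [CommRing R] (S : Type*) [CommRing S] [Algebra R S] [Module.Flat R S]
variable {M₁ M₂ M₃ M₄ M₅ N₁ N₂ N₃ N₄ N₅ : Type*}
  [AddCommGroup M₁] [AddCommGroup M₂] [AddCommGroup M₃] [AddCommGroup M₄] [AddCommGroup M₅]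
  [Module R M₁] [Module R M₂] [Module R M₃] [Module R M₄] [Module R M₅]
  [AddCommGroup N₁] [AddCommGroup N₂] [AddCommGroup N₃] [AddCommGroup N₄] [AddCommGroup N₅]
  [Module R N₁] [Module R N₂] [Module R N₃] [Module R N₄] [Module R N₅]
  [Module S N₁] [Module S N₂] [Module S N₃] [Module S N₄] [Module S N₅]
  [IsScalarTower R S N₁] [IsScalarTower R S N₂] [IsScalarTower R S N₃] [IsScalarTower R S N₄]
  [IsScalarTower R S N₅]
  (f₁ : M₁ →ₗ[R] M₂) (f₂ : M₂ →ₗ[R] M₃) (f₃ : M₃ →ₗ[R] M₄) (f₄ : M₄ →ₗ[R] M₅)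
  (g₁ : N₁ →ₗ[S] N₂) (g₂ : N₂ →ₗ[S] N₃) (g₃ : N₃ →ₗ[S] N₄) (g₄ : N₄ →ₗ[S] N₅)
  (γ₁ : M₁ →ₗ[R] N₁) (γ₂ : M₂ →ₗ[R] N₂) (γ₃ : M₃ →ₗ[R] N₃) (γ₄ : M₄ →ₗ[R] N₄)
  (γ₅ : M₅ →ₗ[R] N₅)

omit [Module.Flat R S] in
lemma bcLift_comm {M M' N N' : Type*} [AddCommGroup M] [AddCommGroup M'] [AddCommGroup N]
    [AddCommGroup N'] [Module R M] [Module R M'] [Module R N] [Module R N'] [Module S N]
    [Module S N'] [IsScalarTower R S N] [IsScalarTower R S N']
    (f : M →ₗ[R] M') (g : N →ₗ[S] N') (γ : M →ₗ[R] N) (γ' : M' →ₗ[R] N')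
    (hc : ∀ m, γ' (f m) = g (γ m)) :
    (g.restrictScalars R).comp (bcLift S γ) =
      (bcLift S γ').comp ((f.baseChange S).restrictScalars R) := by
  ext s m
  simp [hc]

theorem isBaseChange_five
    (hc₁ : ∀ m, γ₂ (f₁ m) = g₁ (γ₁ m)) (hc₂ : ∀ m, γ₃ (f₂ m) = g₂ (γ₂ m))
    (hc₃ : ∀ m, γ₄ (f₃ m) = g₃ (γ₃ m)) (hc₄ : ∀ m, γ₅ (f₄ m) = g₄ (γ₄ m))
    (hf₁ : Function.Exact f₁ f₂) (hf₂ : Function.Exact f₂ f₃) (hf₃ : Function.Exact f₃ f₄)
    (hg₁ : Function.Exact g₁ g₂) (hg₂ : Function.Exact g₂ g₃) (hg₃ : Function.Exact g₃ g₄)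
    (h₁ : IsBaseChange S γ₁) (h₂ : IsBaseChange S γ₂) (h₄ : IsBaseChange S γ₄)
    (h₅ : IsBaseChange S γ₅) : IsBaseChange S γ₃ := by
  rw [isBaseChange_iff_bijective] at h₁ h₂ h₄ h₅ ⊢
  exact LinearMap.bijective_of_surjective_of_bijective_of_bijective_of_injective
    ((f₁.baseChange S).restrictScalars R) ((f₂.baseChange S).restrictScalars R)
    ((f₃.baseChange S).restrictScalars R) ((f₄.baseChange S).restrictScalars R)
    (g₁.restrictScalars R) (g₂.restrictScalars R) (g₃.restrictScalars R) (g₄.restrictScalars R)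
    (bcLift S γ₁) (bcLift S γ₂) (bcLift S γ₃) (bcLift S γ₄) (bcLift S γ₅)
    (bcLift_comm S f₁ g₁ γ₁ γ₂ hc₁) (bcLift_comm S f₂ g₂ γ₂ γ₃ hc₂)
    (bcLift_comm S f₃ g₃ γ₃ γ₄ hc₃) (bcLift_comm S f₄ g₄ γ₄ γ₅ hc₄)
    (Module.Flat.lTensor_exact S hf₁) (Module.Flat.lTensor_exact S hf₂)
    (Module.Flat.lTensor_exact S hf₃) hg₁ hg₂ hg₃ h₁.2 h₂ h₄ h₅.1

end Five

section Transport

variable {R : Type*} [CommRing R] (S : Type*) [CommRing S] [Algebra R S]
variable {M M' N N' : Type*} [AddCommGroup M] [AddCommGroup M'] [AddCommGroup N]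
    [AddCommGroup N'] [Module R M] [Module R M'] [Module R N] [Module R N'] [Module S N]
    [Module S N'] [IsScalarTower R S N] [IsScalarTower R S N']

/-- transport of `IsBaseChange` along bijections commuting with the structure -/
theorem isBaseChange_of_bijective (γ : M →ₗ[R] N) (γ' : M' →ₗ[R] N')
    (a : M →ₗ[R] M') (b : N →ₗ[S] N') (ha : Function.Bijective a) (hb : Function.Bijective b)
    (hc : ∀ m, γ' (a m) = b (γ m)) (h : IsBaseChange S γ) : IsBaseChange S γ' := by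
  rw [isBaseChange_iff_bijective] at h ⊢
  have hcomm := bcLift_comm S a b γ γ' hc
  have h1 : Function.Bijective ((a.baseChange S).restrictScalars R) :=
    ((LinearEquiv.ofBijective a ha).baseChange R S M M').bijective
  have h2 : Function.Bijective ((bcLift S γ').comp ((a.baseChange S).restrictScalars R)) := by
    rw [← hcomm]
    exact hb.comp h
  have h3 : ⇑((bcLift S γ').comp ((a.baseChange S).restrictScalars R)) =
      ⇑(bcLift S γ') ∘ ⇑((a.baseChange S).restrictScalars R) := rfl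
  rw [h3] at h2
  exact (Function.Bijective.of_comp_iff _ h1).1 h2

/-- transport of `IsBaseChange` along bijections, reverse direction -/
theorem isBaseChange_of_bijective' (γ : M →ₗ[R] N) (γ' : M' →ₗ[R] N')
    (a : M' →ₗ[R] M) (b : N' →ₗ[S] N) (ha : Function.Bijective a) (hb : Function.Bijective b)
    (hc : ∀ m, γ (a m) = b (γ' m)) (h : IsBaseChange S γ) : IsBaseChange S γ' := by
  rw [isBaseChange_iff_bijective] at h ⊢
  have hcomm := bcLift_comm S a b γ' γ hc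
  have h1 : Function.Bijective ((a.baseChange S).restrictScalars R) :=
    ((LinearEquiv.ofBijective a ha).baseChange R S M' M).bijective
  have h2 : Function.Bijective ((b.restrictScalars R).comp (bcLift S γ')) := by
    rw [hcomm]
    exact h.comp h1
  have h3 : ⇑((b.restrictScalars R).comp (bcLift S γ')) = ⇑b ∘ ⇑(bcLift S γ') := rfl
  rw [h3] at h2
  exact (Function.Bijective.of_comp_iff' hb _).1 h2

end Transport

end Groth.Agent.Helper9.FBAlg
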