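import Mathlib
import Groth.Agent.Helper9.FBAlg

/-! Abstract calculus for flat base change of Hom groups: *test data* `(T, T', ι : T' ⟶ L T)` with
compatible ring actions, the comparison map `Hom(T, E) → Hom(T', L E)`, and the five lemma along
distinguished triangles. -/

set_option autoImplicit false
set_option backward.isDefEq.respectTransparency false
set_option linter.style.haveILetI false
set_option linter.unusedVariables false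
set_option linter.unusedSectionVars false

namespace Groth.Agent.Helper9.FBTri

open CategoryTheory CategoryTheory.Limits Pretriangulated

universe v v' u u'

variable (R R' : Type*) [CommRing R] [CommRing R'] [Algebra R R']
variable {C : Type u} [Category.{v} C] [Preadditive C]
variable {C' : Type u'} [Category.{v'} C'] [Preadditive C']
variable (L : C ⥤ C') [L.Additive]

/-- test data -/
structure TD where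
  T : C
  T' : C'
  ι : T' ⟶ L.obj T
  ρ : R →+* End T
  ρ' : R' →+* End T'
  comm : ∀ r : R, (ρ' (algebraMap R R' r) : T' ⟶ T') ≫ ι = ι ≫ L.map (ρ r : T ⟶ T)

variable {R R' L}

namespace TD

variable (τ : TD R R' L)

/-- maps out of `T` -/
def M (E : C) : Type v := τ.T ⟶ E

/-- maps out of `T'` -/
def N (E : C) : Type v' := τ.T' ⟶ L.obj E

instance (E : C) : AddCommGroup (τ.M E) := inferInstanceAs (AddCommGroup (τ.T ⟶ E))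
instance (E : C) : AddCommGroup (τ.N E) := inferInstanceAs (AddCommGroup (τ.T' ⟶ L.obj E))

/-- the underlying morphism -/
def M.hom {E : C} (ψ : τ.M E) : τ.T ⟶ E := ψ
/-- the underlying morphism -/
def N.hom {E : C} (ψ : τ.N E) : τ.T' ⟶ L.obj E := ψ
/-- constructor -/
def M.mk {E : C} (ψ : τ.T ⟶ E) : τ.M E := ψ
/-- constructor -/
def N.mk {E : C} (ψ : τ.T' ⟶ L.obj E) : τ.N E := ψ

instance (E : C) : Module R (τ.M E) where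
  smul r ψ := (τ.ρ r : τ.T ⟶ τ.T) ≫ (ψ : τ.T ⟶ E)
  one_smul ψ := by
    show (τ.ρ 1 : τ.T ⟶ τ.T) ≫ (ψ : τ.T ⟶ E) = ψ
    rw [map_one]
    exact Category.id_comp _
  mul_smul r s ψ := by
    show (τ.ρ (r * s) : τ.T ⟶ τ.T) ≫ (ψ : τ.T ⟶ E) =
      (τ.ρ r : τ.T ⟶ τ.T) ≫ (τ.ρ s : τ.T ⟶ τ.T) ≫ (ψ : τ.T ⟶ E)
    rw [mul_comm, map_mul, End.mul_def, Category.assoc]
  smul_zero r := by
    show (τ.ρ r : τ.T ⟶ τ.T) ≫ (0 : τ.T ⟶ E) = 0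
    exact comp_zero
  smul_add r ψ χ := by
    show (τ.ρ r : τ.T ⟶ τ.T) ≫ ((ψ : τ.T ⟶ E) + (χ : τ.T ⟶ E)) = _
    exact Preadditive.comp_add _ _ _ _ _ _
  add_smul r s ψ := by
    show (τ.ρ (r + s) : τ.T ⟶ τ.T) ≫ (ψ : τ.T ⟶ E) = _
    rw [map_add]
    exact Preadditive.add_comp _ _ _ _ _ _
  zero_smul ψ := by
    show (τ.ρ 0 : τ.T ⟶ τ.T) ≫ (ψ : τ.T ⟶ E) = 0
    rw [map_zero]
    exact zero_comp

instance (E : C) : Module R' (τ.N E) where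
  smul r ψ := (τ.ρ' r : τ.T' ⟶ τ.T') ≫ (ψ : τ.T' ⟶ L.obj E)
  one_smul ψ := by
    show (τ.ρ' 1 : τ.T' ⟶ τ.T') ≫ (ψ : τ.T' ⟶ L.obj E) = ψ
    rw [map_one]
    exact Category.id_comp _
  mul_smul r s ψ := by
    show (τ.ρ' (r * s) : τ.T' ⟶ τ.T') ≫ (ψ : τ.T' ⟶ L.obj E) =
      (τ.ρ' r : τ.T' ⟶ τ.T') ≫ (τ.ρ' s : τ.T' ⟶ τ.T') ≫ (ψ : τ.T' ⟶ L.obj E)
    rw [mul_comm, map_mul, End.mul_def, Category.assoc]
  smul_zero r := by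
    show (τ.ρ' r : τ.T' ⟶ τ.T') ≫ (0 : τ.T' ⟶ L.obj E) = 0
    exact comp_zero
  smul_add r ψ χ := by
    show (τ.ρ' r : τ.T' ⟶ τ.T') ≫ ((ψ : τ.T' ⟶ L.obj E) + (χ : τ.T' ⟶ L.obj E)) = _
    exact Preadditive.comp_add _ _ _ _ _ _
  add_smul r s ψ := by
    show (τ.ρ' (r + s) : τ.T' ⟶ τ.T') ≫ (ψ : τ.T' ⟶ L.obj E) = _
    rw [map_add]
    exact Preadditive.add_comp _ _ _ _ _ _
  zero_smul ψ := by
    show (τ.ρ' 0 : τ.T' ⟶ τ.T') ≫ (ψ : τ.T' ⟶ L.obj E) = 0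
    rw [map_zero]
    exact zero_comp

instance (E : C) : Module R (τ.N E) := Module.compHom _ (algebraMap R R')

instance (E : C) : IsScalarTower R R' (τ.N E) := IsScalarTower.of_compHom _ _ _

lemma M.smul_def {E : C} (r : R) (ψ : τ.M E) :
    r • ψ = M.mk τ ((τ.ρ r : τ.T ⟶ τ.T) ≫ M.hom τ ψ) := rfl

lemma N.smul_def {E : C} (r : R') (ψ : τ.N E) :
    r • ψ = N.mk τ ((τ.ρ' r : τ.T' ⟶ τ.T') ≫ N.hom τ ψ) := rfl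

lemma N.smul_def' {E : C} (r : R) (ψ : τ.N E) :
    r • ψ = N.mk τ ((τ.ρ' (algebraMap R R' r) : τ.T' ⟶ τ.T') ≫ N.hom τ ψ) := rfl

/-- the comparison map -/
def γ (E : C) : τ.M E →ₗ[R] τ.N E where
  toFun ψ := N.mk τ (τ.ι ≫ L.map (M.hom τ ψ))
  map_add' ψ χ := by
    show τ.ι ≫ L.map ((ψ : τ.T ⟶ E) + (χ : τ.T ⟶ E)) = τ.ι ≫ L.map _ + τ.ι ≫ L.map _
    rw [Functor.map_add, Preadditive.comp_add]
    rfl
  map_smul' r ψ := by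
    show τ.ι ≫ L.map ((τ.ρ r : τ.T ⟶ τ.T) ≫ (ψ : τ.T ⟶ E)) =
      (τ.ρ' (algebraMap R R' r) : τ.T' ⟶ τ.T') ≫ τ.ι ≫ L.map (ψ : τ.T ⟶ E)
    rw [Functor.map_comp, ← Category.assoc, ← τ.comm r, Category.assoc]

lemma γ_apply (E : C) (ψ : τ.M E) : τ.γ E ψ = N.mk τ (τ.ι ≫ L.map (M.hom τ ψ)) := rfl

/-- the base change property -/
def BC (E : C) : Prop := IsBaseChange R' (τ.γ E)

end TD

/-- morphisms of test data -/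
structure TDHom (τ₁ τ₂ : TD R R' L) where
  a : τ₁.T ⟶ τ₂.T
  a' : τ₁.T' ⟶ τ₂.T'
  ha : ∀ r : R, (τ₁.ρ r : τ₁.T ⟶ τ₁.T) ≫ a = a ≫ (τ₂.ρ r : τ₂.T ⟶ τ₂.T)
  ha' : ∀ r : R', (τ₁.ρ' r : τ₁.T' ⟶ τ₁.T') ≫ a' = a' ≫ (τ₂.ρ' r : τ₂.T' ⟶ τ₂.T')
  hι : a' ≫ τ₂.ι = τ₁.ι ≫ L.map a

namespace TDHom

variable {τ₁ τ₂ : TD R R' L} (φ : TDHom τ₁ τ₂)

/-- precomposition on `M` -/
def preM (E : C) : τ₂.M E →ₗ[R] τ₁.M E where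
  toFun ψ := TD.M.mk τ₁ (φ.a ≫ TD.M.hom τ₂ ψ)
  map_add' ψ χ := Preadditive.comp_add _ _ _ _ _ _
  map_smul' r ψ := by
    show φ.a ≫ (τ₂.ρ r : τ₂.T ⟶ τ₂.T) ≫ (ψ : τ₂.T ⟶ E) =
      (τ₁.ρ r : τ₁.T ⟶ τ₁.T) ≫ φ.a ≫ (ψ : τ₂.T ⟶ E)
    rw [← Category.assoc, ← φ.ha r, Category.assoc]

/-- precomposition on `N` -/
def preN (E : C) : τ₂.N E →ₗ[R'] τ₁.N E where
  toFun ψ := TD.N.mk τ₁ (φ.a' ≫ TD.N.hom τ₂ ψ)
  map_add' ψ χ := Preadditive.comp_add _ _ _ _ _ _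
  map_smul' r ψ := by
    show φ.a' ≫ (τ₂.ρ' r : τ₂.T' ⟶ τ₂.T') ≫ (ψ : τ₂.T' ⟶ L.obj E) =
      (τ₁.ρ' r : τ₁.T' ⟶ τ₁.T') ≫ φ.a' ≫ (ψ : τ₂.T' ⟶ L.obj E)
    rw [← Category.assoc, ← φ.ha' r, Category.assoc]

lemma comm (E : C) (ψ : τ₂.M E) : τ₁.γ E (φ.preM E ψ) = φ.preN E (τ₂.γ E ψ) := by
  show τ₁.ι ≫ L.map (φ.a ≫ (ψ : τ₂.T ⟶ E)) = φ.a' ≫ τ₂.ι ≫ L.map (ψ : τ₂.T ⟶ E)
  rw [Functor.map_comp, ← Category.assoc, ← φ.hι, Category.assoc]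

end TDHom

/-- invariance under isomorphisms of test data -/
theorem TD.BC.of_iso {τ₁ τ₂ : TD R R' L} (φ : TDHom τ₁ τ₂) [IsIso φ.a] [IsIso φ.a'] (E : C)
    (h : τ₂.BC E) : τ₁.BC E := by
  refine FBAlg.isBaseChange_of_bijective R' (τ₂.γ E) (τ₁.γ E) (φ.preM E) (φ.preN E) ?_ ?_
    (fun m => φ.comm E m) h
  · exact ⟨fun ψ χ h => (cancel_epi φ.a).1 h, fun ψ => ⟨inv φ.a ≫ ψ, IsIso.hom_inv_id_assoc _ _⟩⟩
  · exact ⟨fun ψ χ h => (cancel_epi φ.a').1 h, fun ψ => ⟨inv φ.a' ≫ ψ, IsIso.hom_inv_id_assoc _ _⟩⟩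


section Biprod

open Groth.Agent.Lead.BCMap TensorProduct

variable {τ₁ τ₂ τ : TD R R' L} (i₁ : TDHom τ₁ τ) (i₂ : TDHom τ₂ τ) (p₁ : TDHom τ τ₁)
  (p₂ : TDHom τ τ₂)

/-- direct sums of test data -/
theorem TD.BC.biprod (E : C) (h₁ : τ₁.BC E) (h₂ : τ₂.BC E)
    (hT : p₁.a ≫ i₁.a + p₂.a ≫ i₂.a = 𝟙 τ.T) (hT' : p₁.a' ≫ i₁.a' + p₂.a' ≫ i₂.a' = 𝟙 τ.T') :
    τ.BC E := by
  have hM : ∀ ψ : τ.M E, p₁.preM E (i₁.preM E ψ) + p₂.preM E (i₂.preM E ψ) = ψ := by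
    intro ψ
    show p₁.a ≫ i₁.a ≫ (ψ : τ.T ⟶ E) + p₂.a ≫ i₂.a ≫ (ψ : τ.T ⟶ E) = ψ
    rw [← Category.assoc, ← Category.assoc, ← Preadditive.add_comp, hT, Category.id_comp]
  have hN : ∀ ψ : τ.N E, p₁.preN E (i₁.preN E ψ) + p₂.preN E (i₂.preN E ψ) = ψ := by
    intro ψ
    show p₁.a' ≫ i₁.a' ≫ (ψ : τ.T' ⟶ L.obj E) + p₂.a' ≫ i₂.a' ≫ (ψ : τ.T' ⟶ L.obj E) = ψ
    rw [← Category.assoc, ← Category.assoc, ← Preadditive.add_comp, hT', Category.id_comp]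
  have c₁ := FBAlg.bcLift_comm R' (i₁.preM E) (i₁.preN E) (τ.γ E) (τ₁.γ E) (fun m => i₁.comm E m)
  have c₂ := FBAlg.bcLift_comm R' (i₂.preM E) (i₂.preN E) (τ.γ E) (τ₂.γ E) (fun m => i₂.comm E m)
  have d₁ := FBAlg.bcLift_comm R' (p₁.preM E) (p₁.preN E) (τ₁.γ E) (τ.γ E) (fun m => p₁.comm E m)
  have d₂ := FBAlg.bcLift_comm R' (p₂.preM E) (p₂.preN E) (τ₂.γ E) (τ.γ E) (fun m => p₂.comm E m)
  have hx : ∀ x : R' ⊗[R] τ.M E,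
      ((p₁.preM E).baseChange R') (((i₁.preM E).baseChange R') x) +
        ((p₂.preM E).baseChange R') (((i₂.preM E).baseChange R') x) = x := by
    intro x
    induction x using TensorProduct.induction_on with
    | zero => simp
    | tmul s m =>
      simp only [LinearMap.baseChange_tmul]
      rw [← TensorProduct.tmul_add, hM]
    | add x y hx hy =>
      simp only [map_add]
      rw [add_add_add_comm, hx, hy]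
  unfold TD.BC at h₁ h₂ ⊢
  rw [isBaseChange_iff_bijective] at h₁ h₂ ⊢
  constructor
  · rw [injective_iff_map_eq_zero]
    intro x hx0
    have e₁ : ((i₁.preM E).baseChange R') x = 0 := by
      apply h₁.1
      have := LinearMap.congr_fun c₁ x
      simp only [LinearMap.coe_comp, Function.comp_apply, LinearMap.coe_restrictScalars] at this
      rw [← this, hx0, map_zero, map_zero]
    have e₂ : ((i₂.preM E).baseChange R') x = 0 := by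
      apply h₂.1
      have := LinearMap.congr_fun c₂ x
      simp only [LinearMap.coe_comp, Function.comp_apply, LinearMap.coe_restrictScalars] at this
      rw [← this, hx0, map_zero, map_zero]
    rw [← hx x, e₁, e₂, map_zero, map_zero, add_zero]
  · intro y
    obtain ⟨x₁, hx₁⟩ := h₁.2 (i₁.preN E y)
    obtain ⟨x₂, hx₂⟩ := h₂.2 (i₂.preN E y)
    refine ⟨((p₁.preM E).baseChange R') x₁ + ((p₂.preM E).baseChange R') x₂, ?_⟩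
    have t₁ := LinearMap.congr_fun d₁ x₁
    have t₂ := LinearMap.congr_fun d₂ x₂
    simp only [LinearMap.coe_comp, Function.comp_apply, LinearMap.coe_restrictScalars] at t₁ t₂
    rw [map_add, ← t₁, ← t₂, hx₁, hx₂, hN]

end Biprod

section Shift

variable [HasShift C ℤ] [HasShift C' ℤ] [∀ n : ℤ, (shiftFunctor C n).Additive]
  [∀ n : ℤ, (shiftFunctor C' n).Additive] [L.CommShift ℤ]

/-- the shift as a ring homomorphism on endomorphisms -/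
def shEnd {D : Type*} [Category D] [Preadditive D] [HasShift D ℤ]
    [∀ n : ℤ, (shiftFunctor D n).Additive] (T : D) : End T →+* End (T⟦(1 : ℤ)⟧) where
  toFun f := (shiftFunctor D (1 : ℤ)).map f
  map_one' := (shiftFunctor D (1 : ℤ)).map_id T
  map_mul' f g := (shiftFunctor D (1 : ℤ)).map_comp g f
  map_zero' := Functor.map_zero _ _ _
  map_add' f g := Functor.map_add _

lemma shEnd_apply {D : Type*} [Category D] [Preadditive D] [HasShift D ℤ]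
    [∀ n : ℤ, (shiftFunctor D n).Additive] (T : D) (f : End T) :
    (shEnd T f : T⟦(1 : ℤ)⟧ ⟶ T⟦(1 : ℤ)⟧) = (shiftFunctor D (1 : ℤ)).map f := rfl

/-- the shift of test data -/
def TD.sh (τ : TD R R' L) : TD R R' L where
  T := τ.T⟦(1 : ℤ)⟧
  T' := τ.T'⟦(1 : ℤ)⟧
  ι := τ.ι⟦(1 : ℤ)⟧' ≫ (L.commShiftIso (1 : ℤ)).inv.app τ.T
  ρ := (shEnd τ.T).comp τ.ρ
  ρ' := (shEnd τ.T').comp τ.ρ'
  comm r := by
    show (shiftFunctor C' (1 : ℤ)).map (τ.ρ' (algebraMap R R' r) : τ.T' ⟶ τ.T') ≫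
        τ.ι⟦(1 : ℤ)⟧' ≫ (L.commShiftIso (1 : ℤ)).inv.app τ.T =
      (τ.ι⟦(1 : ℤ)⟧' ≫ (L.commShiftIso (1 : ℤ)).inv.app τ.T) ≫
        L.map ((shiftFunctor C (1 : ℤ)).map (τ.ρ r : τ.T ⟶ τ.T))
    have h := (L.commShiftIso (1 : ℤ)).inv.naturality (τ.ρ r : τ.T ⟶ τ.T)
    dsimp at h
    rw [Category.assoc, ← h, ← Category.assoc, ← Category.assoc, ← Functor.map_comp,
      ← Functor.map_comp, τ.comm r]

/-- the shift of a morphism of test data -/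
def TDHom.sh {τ₁ τ₂ : TD R R' L} (φ : TDHom τ₁ τ₂) : TDHom τ₁.sh τ₂.sh where
  a := φ.a⟦(1 : ℤ)⟧'
  a' := φ.a'⟦(1 : ℤ)⟧'
  ha r := by
    show (shiftFunctor C (1 : ℤ)).map (τ₁.ρ r : τ₁.T ⟶ τ₁.T) ≫ φ.a⟦(1 : ℤ)⟧' =
      φ.a⟦(1 : ℤ)⟧' ≫ (shiftFunctor C (1 : ℤ)).map (τ₂.ρ r : τ₂.T ⟶ τ₂.T)
    rw [← Functor.map_comp, ← Functor.map_comp, φ.ha r]
  ha' r := by
    show (shiftFunctor C' (1 : ℤ)).map (τ₁.ρ' r : τ₁.T' ⟶ τ₁.T') ≫ φ.a'⟦(1 : ℤ)⟧' =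
      φ.a'⟦(1 : ℤ)⟧' ≫ (shiftFunctor C' (1 : ℤ)).map (τ₂.ρ' r : τ₂.T' ⟶ τ₂.T')
    rw [← Functor.map_comp, ← Functor.map_comp, φ.ha' r]
  hι := by
    show φ.a'⟦(1 : ℤ)⟧' ≫ τ₂.ι⟦(1 : ℤ)⟧' ≫ (L.commShiftIso (1 : ℤ)).inv.app τ₂.T =
      (τ₁.ι⟦(1 : ℤ)⟧' ≫ (L.commShiftIso (1 : ℤ)).inv.app τ₁.T) ≫ L.map (φ.a⟦(1 : ℤ)⟧')
    have h := (L.commShiftIso (1 : ℤ)).inv.naturality φ.a
    dsimp at h
    rw [Category.assoc, ← h, ← Category.assoc, ← Category.assoc, ← Functor.map_comp,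
      ← Functor.map_comp, φ.hι]

/-- the base change property for the shifted test data follows from that for the shifted target -/
theorem TD.BC.sh (τ : TD R R' L) (E : C) (h : τ.BC (E⟦(-1 : ℤ)⟧)) : τ.sh.BC E := by
  let ε : (E⟦(-1 : ℤ)⟧)⟦(1 : ℤ)⟧ ≅ E := (shiftFunctorCompIsoId C (-1 : ℤ) 1 (by simp)).app E
  let a : τ.M (E⟦(-1 : ℤ)⟧) →ₗ[R] τ.sh.M E :=
    { toFun := fun χ => TD.M.mk τ.sh ((TD.M.hom τ χ)⟦(1 : ℤ)⟧' ≫ ε.hom)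
      map_add' := fun χ χ' => by
        show ((χ : τ.T ⟶ E⟦(-1 : ℤ)⟧) + (χ' : τ.T ⟶ E⟦(-1 : ℤ)⟧))⟦(1 : ℤ)⟧' ≫ ε.hom = _
        rw [Functor.map_add, Preadditive.add_comp]
        rfl
      map_smul' := fun r χ => by
        show ((τ.ρ r : τ.T ⟶ τ.T) ≫ (χ : τ.T ⟶ E⟦(-1 : ℤ)⟧))⟦(1 : ℤ)⟧' ≫ ε.hom =
          (shiftFunctor C (1 : ℤ)).map (τ.ρ r : τ.T ⟶ τ.T) ≫
            (χ : τ.T ⟶ E⟦(-1 : ℤ)⟧)⟦(1 : ℤ)⟧' ≫ ε.hom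
        rw [Functor.map_comp, Category.assoc] }
  let κ : (L.obj (E⟦(-1 : ℤ)⟧))⟦(1 : ℤ)⟧ ≅ L.obj E :=
    ((L.commShiftIso (1 : ℤ)).app (E⟦(-1 : ℤ)⟧)).symm ≪≫ L.mapIso ε
  let b : τ.N (E⟦(-1 : ℤ)⟧) →ₗ[R'] τ.sh.N E :=
    { toFun := fun χ => TD.N.mk τ.sh ((TD.N.hom τ χ)⟦(1 : ℤ)⟧' ≫ κ.hom)
      map_add' := fun χ χ' => by
        show ((χ : τ.T' ⟶ L.obj (E⟦(-1 : ℤ)⟧)) + (χ' : τ.T' ⟶ L.obj (E⟦(-1 : ℤ)⟧)))⟦(1 : ℤ)⟧' ≫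
          κ.hom = _
        rw [Functor.map_add, Preadditive.add_comp]
        rfl
      map_smul' := fun r χ => by
        show ((τ.ρ' r : τ.T' ⟶ τ.T') ≫ (χ : τ.T' ⟶ L.obj (E⟦(-1 : ℤ)⟧)))⟦(1 : ℤ)⟧' ≫ κ.hom =
          (shiftFunctor C' (1 : ℤ)).map (τ.ρ' r : τ.T' ⟶ τ.T') ≫
            (χ : τ.T' ⟶ L.obj (E⟦(-1 : ℤ)⟧))⟦(1 : ℤ)⟧' ≫ κ.hom
        rw [Functor.map_comp, Category.assoc] }
  have ha : Function.Bijective a := by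
    have h1 : Function.Bijective
        (fun χ : τ.T ⟶ E⟦(-1 : ℤ)⟧ => (shiftFunctor C (1 : ℤ)).map χ) :=
      (Functor.FullyFaithful.ofFullyFaithful (shiftFunctor C (1 : ℤ))).map_bijective _ _
    have h2 : Function.Bijective
        (fun ψ : τ.T⟦(1 : ℤ)⟧ ⟶ (E⟦(-1 : ℤ)⟧)⟦(1 : ℤ)⟧ => ψ ≫ ε.hom) :=
      ⟨fun f g hfg => (cancel_mono ε.hom).1 hfg, fun f => ⟨f ≫ ε.inv, by simp⟩⟩
    exact h2.comp h1
  have hb : Function.Bijective b := by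
    have h1 : Function.Bijective
        (fun χ : τ.T' ⟶ L.obj (E⟦(-1 : ℤ)⟧) => (shiftFunctor C' (1 : ℤ)).map χ) :=
      (Functor.FullyFaithful.ofFullyFaithful (shiftFunctor C' (1 : ℤ))).map_bijective _ _
    have h2 : Function.Bijective
        (fun ψ : τ.T'⟦(1 : ℤ)⟧ ⟶ (L.obj (E⟦(-1 : ℤ)⟧))⟦(1 : ℤ)⟧ => ψ ≫ κ.hom) :=
      ⟨fun f g hfg => (cancel_mono κ.hom).1 hfg, fun f => ⟨f ≫ κ.inv, by simp⟩⟩
    exact h2.comp h1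
  refine FBAlg.isBaseChange_of_bijective R' (τ.γ (E⟦(-1 : ℤ)⟧)) (τ.sh.γ E) a b ha hb ?_ h
  intro χ
  show (τ.ι⟦(1 : ℤ)⟧' ≫ (L.commShiftIso (1 : ℤ)).inv.app τ.T) ≫
      L.map ((χ : τ.T ⟶ E⟦(-1 : ℤ)⟧)⟦(1 : ℤ)⟧' ≫ ε.hom) =
    (τ.ι ≫ L.map (χ : τ.T ⟶ E⟦(-1 : ℤ)⟧))⟦(1 : ℤ)⟧' ≫
      (L.commShiftIso (1 : ℤ)).inv.app (E⟦(-1 : ℤ)⟧) ≫ L.map ε.hom
  have hn := (L.commShiftIso (1 : ℤ)).inv.naturality (χ : τ.T ⟶ E⟦(-1 : ℤ)⟧)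
  dsimp at hn
  rw [Functor.map_comp, Functor.map_comp, Category.assoc, Category.assoc, ← reassoc_of% hn]

end Shift

section Tri

variable [HasZeroObject C] [HasShift C ℤ] [∀ n : ℤ, (shiftFunctor C n).Additive] [Pretriangulated C]
  [HasZeroObject C'] [HasShift C' ℤ] [∀ n : ℤ, (shiftFunctor C' n).Additive] [Pretriangulated C']
  [L.CommShift ℤ] [Module.Flat R R']

/-- exactness of the contravariant Hom sequence of a distinguished triangle at the third term -/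
lemma exact₃ {D : Type*} [Category D] [Preadditive D] [HasZeroObject D] [HasShift D ℤ]
    [∀ n : ℤ, (shiftFunctor D n).Additive] [Pretriangulated D]
    {X₁ X₂ X₃ : D} (u : X₁ ⟶ X₂) (v : X₂ ⟶ X₃) (w : X₃ ⟶ X₁⟦(1 : ℤ)⟧)
    (h : Triangle.mk u v w ∈ distTriang D) {E : D} (ψ : X₃ ⟶ E) :
    v ≫ ψ = 0 ↔ ∃ χ : X₁⟦(1 : ℤ)⟧ ⟶ E, w ≫ χ = ψ := by
  constructor
  · intro hψ
    obtain ⟨χ, hχ⟩ := Triangle.yoneda_exact₃ _ h ψ hψ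
    exact ⟨χ, hχ.symm⟩
  · rintro ⟨χ, rfl⟩
    rw [← Category.assoc]
    have : v ≫ w = 0 := comp_distTriang_mor_zero₂₃ _ h
    rw [this, zero_comp]

lemma exact₂ {D : Type*} [Category D] [Preadditive D] [HasZeroObject D] [HasShift D ℤ]
    [∀ n : ℤ, (shiftFunctor D n).Additive] [Pretriangulated D]
    {X₁ X₂ X₃ : D} (u : X₁ ⟶ X₂) (v : X₂ ⟶ X₃) (w : X₃ ⟶ X₁⟦(1 : ℤ)⟧)
    (h : Triangle.mk u v w ∈ distTriang D) {E : D} (ψ : X₂ ⟶ E) :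
    u ≫ ψ = 0 ↔ ∃ χ : X₃ ⟶ E, v ≫ χ = ψ := by
  constructor
  · intro hψ
    obtain ⟨χ, hχ⟩ := Triangle.yoneda_exact₂ _ h ψ hψ
    exact ⟨χ, hχ.symm⟩
  · rintro ⟨χ, rfl⟩
    rw [← Category.assoc]
    have : u ≫ v = 0 := comp_distTriang_mor_zero₁₂ _ h
    rw [this, zero_comp]

lemma exact₁ {D : Type*} [Category D] [Preadditive D] [HasZeroObject D] [HasShift D ℤ]
    [∀ n : ℤ, (shiftFunctor D n).Additive] [Pretriangulated D]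
    {X₁ X₂ X₃ : D} (u : X₁ ⟶ X₂) (v : X₂ ⟶ X₃) (w : X₃ ⟶ X₁⟦(1 : ℤ)⟧)
    (h : Triangle.mk u v w ∈ distTriang D) {E : D} (ψ : X₁⟦(1 : ℤ)⟧ ⟶ E) :
    w ≫ ψ = 0 ↔ ∃ χ : X₂⟦(1 : ℤ)⟧ ⟶ E, u⟦(1 : ℤ)⟧' ≫ χ = ψ := by
  have hrot := rot_of_distTriang _ h
  constructor
  · intro hψ
    obtain ⟨χ, hχ⟩ := Triangle.yoneda_exact₃ _ hrot ψ hψ
    have hχ' : ψ = (-u⟦(1 : ℤ)⟧') ≫ (χ : X₂⟦(1 : ℤ)⟧ ⟶ E) := hχ
    refine ⟨-(χ : X₂⟦(1 : ℤ)⟧ ⟶ E), ?_⟩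
    rw [hχ', Preadditive.comp_neg, Preadditive.neg_comp]
  · rintro ⟨χ, rfl⟩
    rw [← Category.assoc]
    have : w ≫ u⟦(1 : ℤ)⟧' = 0 := comp_distTriang_mor_zero₃₁ _ h
    rw [this, zero_comp]

/-- the five lemma along distinguished triangles -/
theorem TD.BC.triangle {τ₁ τ₂ τ₃ : TD R R' L} (φ₁ : TDHom τ₁ τ₂) (φ₂ : TDHom τ₂ τ₃)
    (φ₃ : TDHom τ₃ τ₁.sh)
    (hΔ : Triangle.mk φ₁.a φ₂.a φ₃.a ∈ distTriang C)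
    (hΔ' : Triangle.mk φ₁.a' φ₂.a' φ₃.a' ∈ distTriang C') (E : C)
    (h₁ : τ₁.BC E) (h₂ : τ₂.BC E) (h₁s : τ₁.sh.BC E) (h₂s : τ₂.sh.BC E) : τ₃.BC E := by
  refine FBAlg.isBaseChange_five R' (φ₁.sh.preM E) (φ₃.preM E) (φ₂.preM E) (φ₁.preM E)
    (φ₁.sh.preN E) (φ₃.preN E) (φ₂.preN E) (φ₁.preN E)
    (τ₂.sh.γ E) (τ₁.sh.γ E) (τ₃.γ E) (τ₂.γ E) (τ₁.γ E)
    (fun m => φ₁.sh.comm E m) (fun m => φ₃.comm E m) (fun m => φ₂.comm E m)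
    (fun m => φ₁.comm E m) ?_ ?_ ?_ ?_ ?_ ?_ h₂s h₁s h₂ h₁
  · intro ψ
    exact exact₁ φ₁.a φ₂.a φ₃.a hΔ (ψ : τ₁.T⟦(1 : ℤ)⟧ ⟶ E)
  · intro ψ
    exact exact₃ φ₁.a φ₂.a φ₃.a hΔ (ψ : τ₃.T ⟶ E)
  · intro ψ
    exact exact₂ φ₁.a φ₂.a φ₃.a hΔ (ψ : τ₂.T ⟶ E)
  · intro ψ
    exact exact₁ φ₁.a' φ₂.a' φ₃.a' hΔ' (ψ : τ₁.T'⟦(1 : ℤ)⟧ ⟶ L.obj E)
  · intro ψ
    exact exact₃ φ₁.a' φ₂.a' φ₃.a' hΔ' (ψ : τ₃.T' ⟶ L.obj E)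
  · intro ψ
    exact exact₂ φ₁.a' φ₂.a' φ₃.a' hΔ' (ψ : τ₂.T' ⟶ L.obj E)

/-- the five lemma along distinguished triangles, for a shift-stable class of targets -/
theorem TD.BC.triangle' (P : C → Prop) (hP : ∀ E, P E → P (E⟦(-1 : ℤ)⟧))
    {τ₁ τ₂ τ₃ : TD R R' L} (φ₁ : TDHom τ₁ τ₂) (φ₂ : TDHom τ₂ τ₃)
    (φ₃ : TDHom τ₃ τ₁.sh)
    (hΔ : Triangle.mk φ₁.a φ₂.a φ₃.a ∈ distTriang C)
    (hΔ' : Triangle.mk φ₁.a' φ₂.a' φ₃.a' ∈ distTriang C')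
    (h₁ : ∀ E, P E → τ₁.BC E) (h₂ : ∀ E, P E → τ₂.BC E) : ∀ E, P E → τ₃.BC E :=
  fun E hE => TD.BC.triangle φ₁ φ₂ φ₃ hΔ hΔ' E (h₁ E hE) (h₂ E hE)
    (TD.BC.sh τ₁ E (h₁ _ (hP E hE))) (TD.BC.sh τ₂ E (h₂ _ (hP E hE)))

end Tri

end Groth.Agent.Helper9.FBTri
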