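import Mathlib
import Groth.Agent.Helper9.FBTri
import Groth.Agent.Helper9.FBDelta

/-! Sheaf-level test data for flat base change, their derived incarnations in every degree, and the
five lemma along short exact sequences. -/

set_option autoImplicit false
set_option backward.isDefEq.respectTransparency false
set_option linter.style.haveILetI false
set_option linter.unusedVariables false
set_option linter.unusedSectionVars false

namespace Groth.Agent.Helper9.FBSheaf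

open CategoryTheory CategoryTheory.Limits Pretriangulated DerivedCategory
open Groth.Agent.Helper9.FBTri Groth.Agent.Helper9.FBDelta

universe w w' v v' u u'

variable (R R' : Type*) [CommRing R] [CommRing R'] [Algebra R R']
variable {C₁ : Type u} [Category.{v} C₁] [Abelian C₁] [HasDerivedCategory.{w} C₁]
variable {C₂ : Type u'} [Category.{v'} C₂] [Abelian C₂] [HasDerivedCategory.{w'} C₂]
variable (F : C₁ ⥤ C₂) [F.Additive] [PreservesFiniteLimits F] [PreservesFiniteColimits F]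

/-- sheaf-level test data -/
structure SD where
  G : C₁
  G' : C₂
  ι : G' ⟶ F.obj G
  ρ : R →+* End G
  ρ' : R' →+* End G'
  comm : ∀ r : R, (ρ' (algebraMap R R' r) : G' ⟶ G') ≫ ι = ι ≫ F.map (ρ r : G ⟶ G)

variable {R R' F}

/-- morphisms of sheaf-level test data -/
structure SDHom (σ₁ σ₂ : SD R R' F) where
  a : σ₁.G ⟶ σ₂.G
  a' : σ₁.G' ⟶ σ₂.G'
  ha : ∀ r : R, (σ₁.ρ r : σ₁.G ⟶ σ₁.G) ≫ a = a ≫ (σ₂.ρ r : σ₂.G ⟶ σ₂.G)
  ha' : ∀ r : R', (σ₁.ρ' r : σ₁.G' ⟶ σ₁.G') ≫ a' = a' ≫ (σ₂.ρ' r : σ₂.G' ⟶ σ₂.G')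
  hι : a' ≫ σ₂.ι = σ₁.ι ≫ F.map a

/-- the single functor as a ring homomorphism on endomorphisms -/
noncomputable def singleEnd {C : Type*} [Category C] [Abelian C] [HasDerivedCategory.{w} C]
    (m : ℤ) (G : C) : End G →+* End ((singleFunctor C m).obj G) where
  toFun f := (singleFunctor C m).map f
  map_one' := (singleFunctor C m).map_id G
  map_mul' f g := (singleFunctor C m).map_comp g f
  map_zero' := Functor.map_zero _ _ _
  map_add' f g := Functor.map_add _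

/-- the derived test data in degree `m` -/
noncomputable def SD.toTD (σ : SD R R' F) (m : ℤ) : TD R R' F.mapDerivedCategory where
  T := (singleFunctor C₁ m).obj σ.G
  T' := (singleFunctor C₂ m).obj σ.G'
  ι := (singleFunctor C₂ m).map σ.ι ≫ (F.mapDerivedCategorySingleFunctor m).inv.app σ.G
  ρ := (singleEnd m σ.G).comp σ.ρ
  ρ' := (singleEnd m σ.G').comp σ.ρ'
  comm r := by
    show (singleFunctor C₂ m).map (σ.ρ' (algebraMap R R' r) : σ.G' ⟶ σ.G') ≫
        (singleFunctor C₂ m).map σ.ι ≫ (F.mapDerivedCategorySingleFunctor m).inv.app σ.G =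
      ((singleFunctor C₂ m).map σ.ι ≫ (F.mapDerivedCategorySingleFunctor m).inv.app σ.G) ≫
        F.mapDerivedCategory.map ((singleFunctor C₁ m).map (σ.ρ r : σ.G ⟶ σ.G))
    have h := (F.mapDerivedCategorySingleFunctor m).inv.naturality (σ.ρ r : σ.G ⟶ σ.G)
    dsimp at h
    rw [Category.assoc, ← h, ← Category.assoc, ← Category.assoc, ← Functor.map_comp,
      ← Functor.map_comp, σ.comm r]

/-- the derived morphism of test data in degree `m` -/
noncomputable def SDHom.toTDHom {σ₁ σ₂ : SD R R' F} (φ : SDHom σ₁ σ₂) (m : ℤ) :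
    TDHom (σ₁.toTD m) (σ₂.toTD m) where
  a := (singleFunctor C₁ m).map φ.a
  a' := (singleFunctor C₂ m).map φ.a'
  ha r := by
    show (singleFunctor C₁ m).map (σ₁.ρ r : σ₁.G ⟶ σ₁.G) ≫ (singleFunctor C₁ m).map φ.a =
      (singleFunctor C₁ m).map φ.a ≫ (singleFunctor C₁ m).map (σ₂.ρ r : σ₂.G ⟶ σ₂.G)
    rw [← Functor.map_comp, ← Functor.map_comp, φ.ha r]
  ha' r := by
    show (singleFunctor C₂ m).map (σ₁.ρ' r : σ₁.G' ⟶ σ₁.G') ≫ (singleFunctor C₂ m).map φ.a' =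
      (singleFunctor C₂ m).map φ.a' ≫ (singleFunctor C₂ m).map (σ₂.ρ' r : σ₂.G' ⟶ σ₂.G')
    rw [← Functor.map_comp, ← Functor.map_comp, φ.ha' r]
  hι := by
    show (singleFunctor C₂ m).map φ.a' ≫
        (singleFunctor C₂ m).map σ₂.ι ≫ (F.mapDerivedCategorySingleFunctor m).inv.app σ₂.G =
      ((singleFunctor C₂ m).map σ₁.ι ≫ (F.mapDerivedCategorySingleFunctor m).inv.app σ₁.G) ≫
        F.mapDerivedCategory.map ((singleFunctor C₁ m).map φ.a)
    have h := (F.mapDerivedCategorySingleFunctor m).inv.naturality φ.a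
    dsimp at h
    rw [Category.assoc, ← h, ← Category.assoc, ← Category.assoc, ← Functor.map_comp,
      ← Functor.map_comp, φ.hι]

section Delta

variable {σ₁ σ₂ σ₃ : SD R R' F} (φ₁ : SDHom σ₁ σ₂) (φ₂ : SDHom σ₂ σ₃)
  (w : φ₁.a ≫ φ₂.a = 0) (w' : φ₁.a' ≫ φ₂.a' = 0)
  (hS : (ShortComplex.mk φ₁.a φ₂.a w).ShortExact)
  (hS' : (ShortComplex.mk φ₁.a' φ₂.a' w').ShortExact) (m : ℤ)

/-- the connecting morphism of test data -/
noncomputable def δHom : TDHom (σ₃.toTD m) (σ₁.toTD m).sh where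
  a := δm hS m
  a' := δm hS' m
  ha r := by
    let f : ShortComplex.mk φ₁.a φ₂.a w ⟶ ShortComplex.mk φ₁.a φ₂.a w :=
      { τ₁ := (σ₁.ρ r : σ₁.G ⟶ σ₁.G)
        τ₂ := (σ₂.ρ r : σ₂.G ⟶ σ₂.G)
        τ₃ := (σ₃.ρ r : σ₃.G ⟶ σ₃.G)
        comm₁₂ := φ₁.ha r
        comm₂₃ := φ₂.ha r }
    exact (δm_naturality hS hS f m).symm
  ha' r := by
    let f : ShortComplex.mk φ₁.a' φ₂.a' w' ⟶ ShortComplex.mk φ₁.a' φ₂.a' w' :=
      { τ₁ := (σ₁.ρ' r : σ₁.G' ⟶ σ₁.G')
        τ₂ := (σ₂.ρ' r : σ₂.G' ⟶ σ₂.G')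
        τ₃ := (σ₃.ρ' r : σ₃.G' ⟶ σ₃.G')
        comm₁₂ := φ₁.ha' r
        comm₂₃ := φ₂.ha' r }
    exact (δm_naturality hS' hS' f m).symm
  hι := by
    let f : ShortComplex.mk φ₁.a' φ₂.a' w' ⟶ (ShortComplex.mk φ₁.a φ₂.a w).map F :=
      { τ₁ := σ₁.ι
        τ₂ := σ₂.ι
        τ₃ := σ₃.ι
        comm₁₂ := φ₁.hι.symm
        comm₂₃ := φ₂.hι.symm }
    have hn := δm_naturality hS' (hS.map_of_exact F) f m
    have he := map_δm F hS m
    show δm hS' m ≫ ((singleFunctor C₂ m).map σ₁.ι ≫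
          (F.mapDerivedCategorySingleFunctor m).inv.app σ₁.G)⟦(1 : ℤ)⟧' ≫
        (F.mapDerivedCategory.commShiftIso (1 : ℤ)).inv.app ((singleFunctor C₁ m).obj σ₁.G) =
      ((singleFunctor C₂ m).map σ₃.ι ≫ (F.mapDerivedCategorySingleFunctor m).inv.app σ₃.G) ≫
        F.mapDerivedCategory.map (δm hS m)
    rw [he, Category.assoc, Iso.inv_hom_id_app_assoc, Functor.map_comp, Category.assoc]
    exact (reassoc_of% hn) _

end Delta

section Tri

variable [Module.Flat R R']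

/-- the five lemma along a short exact sequence of sheaf-level test data -/
theorem SD.triangle (P : DerivedCategory C₁ → Prop) (hP : ∀ E, P E → P (E⟦(-1 : ℤ)⟧))
    {σ₁ σ₂ σ₃ : SD R R' F} (φ₁ : SDHom σ₁ σ₂) (φ₂ : SDHom σ₂ σ₃)
    (w : φ₁.a ≫ φ₂.a = 0) (w' : φ₁.a' ≫ φ₂.a' = 0)
    (hS : (ShortComplex.mk φ₁.a φ₂.a w).ShortExact)
    (hS' : (ShortComplex.mk φ₁.a' φ₂.a' w').ShortExact) (m : ℤ)
    (h₁ : ∀ E, P E → (σ₁.toTD m).BC E) (h₂ : ∀ E, P E → (σ₂.toTD m).BC E) :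
    ∀ E, P E → (σ₃.toTD m).BC E :=
  TD.BC.triangle' P hP (φ₁.toTDHom m) (φ₂.toTDHom m) (δHom φ₁ φ₂ w w' hS hS' m)
    (FBDelta.distinguished hS m) (FBDelta.distinguished hS' m) h₁ h₂

end Tri


section Sum

/-- `biprod.map` as a ring homomorphism -/
noncomputable def biprodEnd {C : Type*} [Category C] [Preadditive C] (G₁ G₂ : C)
    [HasBinaryBiproduct G₁ G₂] : End G₁ × End G₂ →+* End (G₁ ⊞ G₂) where
  toFun p := biprod.map p.1 p.2
  map_one' := by
    show biprod.map (𝟙 G₁) (𝟙 G₂) = 𝟙 _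
    ext <;> simp
  map_mul' p q := by
    show biprod.map (q.1 ≫ p.1) (q.2 ≫ p.2) = biprod.map q.1 q.2 ≫ biprod.map p.1 p.2
    ext <;> simp
  map_zero' := by
    show biprod.map (0 : G₁ ⟶ G₁) (0 : G₂ ⟶ G₂) = 0
    ext <;> simp
  map_add' p q := by
    show biprod.map (p.1 + q.1) (p.2 + q.2) = biprod.map p.1 p.2 + biprod.map q.1 q.2
    ext <;> simp

/-- the direct sum of sheaf-level test data -/
noncomputable def SD.sum (σ₁ σ₂ : SD R R' F) : SD R R' F where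
  G := σ₁.G ⊞ σ₂.G
  G' := σ₁.G' ⊞ σ₂.G'
  ι := biprod.desc (σ₁.ι ≫ F.map biprod.inl) (σ₂.ι ≫ F.map biprod.inr)
  ρ := (biprodEnd σ₁.G σ₂.G).comp (σ₁.ρ.prod σ₂.ρ)
  ρ' := (biprodEnd σ₁.G' σ₂.G').comp (σ₁.ρ'.prod σ₂.ρ')
  comm r := by
    show biprod.map (σ₁.ρ' (algebraMap R R' r) : σ₁.G' ⟶ σ₁.G')
        (σ₂.ρ' (algebraMap R R' r) : σ₂.G' ⟶ σ₂.G') ≫
        biprod.desc (σ₁.ι ≫ F.map biprod.inl) (σ₂.ι ≫ F.map biprod.inr) =
      biprod.desc (σ₁.ι ≫ F.map biprod.inl) (σ₂.ι ≫ F.map biprod.inr) ≫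
        F.map (biprod.map (σ₁.ρ r : σ₁.G ⟶ σ₁.G) (σ₂.ρ r : σ₂.G ⟶ σ₂.G))
    ext
    · simp only [biprod.inl_map_assoc, biprod.inl_desc, biprod.inl_desc_assoc, Category.assoc]
      rw [← Functor.map_comp, biprod.inl_map, Functor.map_comp, ← Category.assoc, ← Category.assoc,
        σ₁.comm r]
    · simp only [biprod.inr_map_assoc, biprod.inr_desc, biprod.inr_desc_assoc, Category.assoc]
      rw [← Functor.map_comp, biprod.inr_map, Functor.map_comp, ← Category.assoc, ← Category.assoc,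
        σ₂.comm r]

variable (σ₁ σ₂ : SD R R' F)

/-- first inclusion -/
noncomputable def SD.sumInl : SDHom σ₁ (σ₁.sum σ₂) where
  a := biprod.inl
  a' := biprod.inl
  ha r := (biprod.inl_map _ _).symm
  ha' r := (biprod.inl_map _ _).symm
  hι := biprod.inl_desc _ _

/-- second inclusion -/
noncomputable def SD.sumInr : SDHom σ₂ (σ₁.sum σ₂) where
  a := biprod.inr
  a' := biprod.inr
  ha r := (biprod.inr_map _ _).symm
  ha' r := (biprod.inr_map _ _).symm
  hι := biprod.inr_desc _ _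

/-- first projection -/
noncomputable def SD.sumFst : SDHom (σ₁.sum σ₂) σ₁ where
  a := biprod.fst
  a' := biprod.fst
  ha r := biprod.map_fst _ _
  ha' r := biprod.map_fst _ _
  hι := by
    show biprod.fst ≫ σ₁.ι =
      biprod.desc (σ₁.ι ≫ F.map biprod.inl) (σ₂.ι ≫ F.map biprod.inr) ≫ F.map biprod.fst
    ext
    · simp [← Functor.map_comp]
    · simp [← Functor.map_comp]

/-- second projection -/
noncomputable def SD.sumSnd : SDHom (σ₁.sum σ₂) σ₂ where
  a := biprod.snd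
  a' := biprod.snd
  ha r := biprod.map_snd _ _
  ha' r := biprod.map_snd _ _
  hι := by
    show biprod.snd ≫ σ₂.ι =
      biprod.desc (σ₁.ι ≫ F.map biprod.inl) (σ₂.ι ≫ F.map biprod.inr) ≫ F.map biprod.snd
    ext
    · simp [← Functor.map_comp]
    · simp [← Functor.map_comp]

/-- base change for a direct sum -/
theorem SD.sum_BC (m : ℤ) (E : DerivedCategory C₁) (h₁ : (σ₁.toTD m).BC E)
    (h₂ : (σ₂.toTD m).BC E) : ((σ₁.sum σ₂).toTD m).BC E := by
  refine TD.BC.biprod ((SD.sumInl σ₁ σ₂).toTDHom m) ((SD.sumInr σ₁ σ₂).toTDHom m)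
    ((SD.sumFst σ₁ σ₂).toTDHom m) ((SD.sumSnd σ₁ σ₂).toTDHom m) E h₁ h₂ ?_ ?_
  · show (singleFunctor C₁ m).map biprod.fst ≫ (singleFunctor C₁ m).map biprod.inl +
      (singleFunctor C₁ m).map biprod.snd ≫ (singleFunctor C₁ m).map biprod.inr = 𝟙 _
    rw [← Functor.map_comp, ← Functor.map_comp, ← Functor.map_add, biprod.total]
    exact (singleFunctor C₁ m).map_id _
  · show (singleFunctor C₂ m).map biprod.fst ≫ (singleFunctor C₂ m).map biprod.inl +
      (singleFunctor C₂ m).map biprod.snd ≫ (singleFunctor C₂ m).map biprod.inr = 𝟙 _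
    rw [← Functor.map_comp, ← Functor.map_comp, ← Functor.map_add, biprod.total]
    exact (singleFunctor C₂ m).map_id _

end Sum

/-- invariance under isomorphisms of sheaf-level test data -/
theorem SD.BC_of_iso {σ₁ σ₂ : SD R R' F} (φ : SDHom σ₁ σ₂) [IsIso φ.a] [IsIso φ.a'] (m : ℤ)
    (E : DerivedCategory C₁) (h : (σ₂.toTD m).BC E) : (σ₁.toTD m).BC E := by
  haveI : IsIso (φ.toTDHom m).a :=
    inferInstanceAs (IsIso ((singleFunctor C₁ m).map φ.a))
  haveI : IsIso (φ.toTDHom m).a' :=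
    inferInstanceAs (IsIso ((singleFunctor C₂ m).map φ.a'))
  exact TD.BC.of_iso (φ.toTDHom m) E h

end Groth.Agent.Helper9.FBSheaf
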