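import Mathlib
import Groth.Agent.Helper9.FBSheaf
import Groth.Agent.Helper9.FBMu
import Groth.Agent.Helper9.Amp1
import Groth.Agent.Helper3.FlatPullEx
import Groth.Agent.Lead.BCMap9

/-! Sheaf-level test data attached to opens `U ⊆ X`, `U' ⊆ g'⁻¹U` for a flat morphism
`g' : X' ⟶ X`, restriction maps, and the Mayer–Vietoris step. -/

set_option autoImplicit false
set_option backward.isDefEq.respectTransparency false
set_option linter.style.haveILetI false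
set_option linter.unusedVariables false
set_option linter.unusedSectionVars false
universe u

namespace Groth.Agent.Helper9.FBSch

open CategoryTheory Limits AlgebraicGeometry Opposite TopologicalSpace
open Groth.Agent.Helper9 Groth.Agent.Helper9.LCAff1 Groth.Agent.Helper9.QP2
  Groth.Agent.Helper9.FBMu Groth.Agent.Helper9.FBSheaf Groth.Agent.Helper9.FBTri
  Groth.Agent.Lead.BCMap

attribute [local instance] HasDerivedCategory.standard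

/-- flat pullback is left exact -/
theorem pfl {X Y : Scheme.{u}} (f : X ⟶ Y) [Flat f] :
    PreservesFiniteLimits (Scheme.Modules.pullback f) :=
  Groth.Agent.Helper3.FlatPullEx.preservesFiniteLimits_pullback f

/-- pullback is right exact -/
theorem pfc {X Y : Scheme.{u}} (f : X ⟶ Y) :
    PreservesFiniteColimits (Scheme.Modules.pullback f) :=
  haveI : PreservesColimitsOfSize.{0, 0} (Scheme.Modules.pullback f) :=
    (Scheme.Modules.pullbackPushforwardAdjunction f).leftAdjoint_preservesColimits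
  PreservesColimitsOfSize.preservesFiniteColimits _

attribute [local instance] pfl pfc

theorem isQCohD_shift {Z : Scheme.{u}} (L : DCoh.D Z) (hL : DCoh.IsQCohD L) (n : ℤ) :
    DCoh.IsQCohD (L⟦n⟧) := by
  intro i
  haveI : (DCoh.HD L (n + i)).IsQuasicoherent := hL (n + i)
  exact (SheafOfModules.isQuasicoherent Z.ringCatSheaf).prop_of_iso
    (Groth.Agent.Helper9.Amp1.homologyShiftIso L n i).symm inferInstance

variable {X' X : Scheme.{u}} (g' : X' ⟶ X)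

section Iota

/-- the comparison `GU U' ⟶ g'^* GU U` for `U' ≤ g'⁻¹U` -/
noncomputable def ι₀ (U : X.Opens) (U' : X'.Opens) (hUU' : U' ≤ g' ⁻¹ᵁ U) :
    GU U' ⟶ (Scheme.Modules.pullback g').obj (GU U) :=
  GUmap hUU' ≫ (QP4b.pullGU g' U).inv

lemma ι₀_mul (U : X.Opens) (U' : X'.Opens) (hUU' : U' ≤ g' ⁻¹ᵁ U) (s : Γ(X, U)) :
    mulGU U' (g'.appLE U U' hUU' s) ≫ ι₀ g' U U' hUU' =
      ι₀ g' U U' hUU' ≫ (Scheme.Modules.pullback g').map (mulGU U s) := by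
  unfold ι₀
  have h1 : (QP4b.pullGU g' U).inv ≫ (Scheme.Modules.pullback g').map (mulGU U s) =
      mulGU (g' ⁻¹ᵁ U) (g'.app U s) ≫ (QP4b.pullGU g' U).inv := by
    rw [Iso.inv_comp_eq, ← Category.assoc, Iso.eq_comp_inv]
    exact pullback_mulGU g' U s
  rw [Category.assoc, h1, ← Category.assoc, ← Category.assoc, GUmap_mulGU]
  rfl

lemma ι₀_nat {U₁ U₂ : X.Opens} {U₁' U₂' : X'.Opens} (h : U₁ ≤ U₂) (h' : U₁' ≤ U₂')
    (h₁ : U₁' ≤ g' ⁻¹ᵁ U₁) (h₂ : U₂' ≤ g' ⁻¹ᵁ U₂) :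
    GUmap h' ≫ ι₀ g' U₂ U₂' h₂ =
      ι₀ g' U₁ U₁' h₁ ≫ (Scheme.Modules.pullback g').map (GUmap h) := by
  unfold ι₀
  have h1 : (QP4b.pullGU g' U₁).inv ≫ (Scheme.Modules.pullback g').map (GUmap h) =
      GUmap (g'.preimage_mono h) ≫ (QP4b.pullGU g' U₂).inv := by
    rw [Iso.inv_comp_eq, ← Category.assoc, Iso.eq_comp_inv]
    exact QP4b.pullGU_nat g' h
  rw [Category.assoc, h1, ← Category.assoc, ← Category.assoc, GUmap_comp, GUmap_comp]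

end Iota

section SD

variable {R R' : Type u} [CommRing R] [CommRing R'] [Algebra R R']
variable {W₀ : X.Opens} {W₀' : X'.Opens} (hW : W₀' ≤ g' ⁻¹ᵁ W₀) (a : R →+* Γ(X, W₀))
  (a' : R' →+* Γ(X', W₀'))
  (haa' : ∀ r, g'.appLE W₀ W₀' hW (a r) = a' (algebraMap R R' r))

include haa' in
lemma appLE_strT {U : X.Opens} {U' : X'.Opens} (hU : U ≤ W₀) (hU' : U' ≤ W₀')
    (hUU' : U' ≤ g' ⁻¹ᵁ U) (r : R) :
    g'.appLE U U' hUU' (strT a U hU r) = strT a' U' hU' (algebraMap R R' r) := by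
  show g'.appLE U U' hUU' (X.presheaf.map (homOfLE hU).op (a r)) =
    X'.presheaf.map (homOfLE hU').op (a' (algebraMap R R' r))
  rw [← haa' r]
  have h1 : X.presheaf.map (homOfLE hU).op ≫ g'.appLE U U' hUU' =
      g'.appLE W₀ W₀' hW ≫ X'.presheaf.map (homOfLE hU').op := by
    rw [Scheme.Hom.map_appLE, Scheme.Hom.appLE_map]
  exact congrArg (fun φ => φ.hom (a r)) h1

variable [Flat g']

/-- the sheaf-level test data of a pair of opens -/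
noncomputable def sd (U : X.Opens) (U' : X'.Opens) (hU : U ≤ W₀) (hU' : U' ≤ W₀')
    (hUU' : U' ≤ g' ⁻¹ᵁ U) : SD R R' (Scheme.Modules.pullback g') where
  G := GU U
  G' := GU U'
  ι := ι₀ g' U U' hUU'
  ρ := (mulRing U).comp (strT a U hU)
  ρ' := (mulRing U').comp (strT a' U' hU')
  comm r := by
    show mulGU U' (strT a' U' hU' (algebraMap R R' r)) ≫ ι₀ g' U U' hUU' =
      ι₀ g' U U' hUU' ≫ (Scheme.Modules.pullback g').map (mulGU U (strT a U hU r))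
    rw [← appLE_strT g' hW a a' haa' hU hU' hUU' r]
    exact ι₀_mul g' U U' hUU' _

lemma strT_res {Z : Scheme.{u}} {T : Type u} [CommRing T] {Z₀ : Z.Opens} (φ₀ : T →+* Γ(Z, Z₀))
    {U₁ U₂ : Z.Opens} (h : U₁ ≤ U₂) (h₂ : U₂ ≤ Z₀) (t : T) :
    Z.presheaf.map (homOfLE h).op (strT φ₀ U₂ h₂ t) = strT φ₀ U₁ (h.trans h₂) t := by
  show (Z.presheaf.map (homOfLE h₂).op ≫ Z.presheaf.map (homOfLE h).op) (φ₀ t) = _
  rw [← Functor.map_comp]
  rfl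

/-- restriction as a morphism of test data -/
noncomputable def resHom {U₁ U₂ : X.Opens} {U₁' U₂' : X'.Opens} (h : U₁ ≤ U₂) (h' : U₁' ≤ U₂')
    (hU₂ : U₂ ≤ W₀) (hU₂' : U₂' ≤ W₀') (h₁ : U₁' ≤ g' ⁻¹ᵁ U₁) (h₂ : U₂' ≤ g' ⁻¹ᵁ U₂) :
    SDHom (sd g' hW a a' haa' U₁ U₁' (h.trans hU₂) (h'.trans hU₂') h₁)
      (sd g' hW a a' haa' U₂ U₂' hU₂ hU₂' h₂) where
  a := GUmap h
  a' := GUmap h'
  ha r := by
    show mulGU U₁ (strT a U₁ (h.trans hU₂) r) ≫ GUmap h = GUmap h ≫ mulGU U₂ (strT a U₂ hU₂ r)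
    rw [GUmap_mulGU, strT_res]
  ha' r := by
    show mulGU U₁' (strT a' U₁' (h'.trans hU₂') r) ≫ GUmap h' =
      GUmap h' ≫ mulGU U₂' (strT a' U₂' hU₂' r)
    rw [GUmap_mulGU, strT_res]
  hι := ι₀_nat g' h h' h₁ h₂

section MV

variable [Module.Flat R R']
variable {U₁ U₂ : X.Opens} {U₁' U₂' : X'.Opens} (hU₁ : U₁ ≤ W₀) (hU₂ : U₂ ≤ W₀)
  (hU₁' : U₁' ≤ W₀') (hU₂' : U₂' ≤ W₀') (h₁ : U₁' ≤ g' ⁻¹ᵁ U₁) (h₂ : U₂' ≤ g' ⁻¹ᵁ U₂)

omit [Flat g'] in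
include h₁ h₂ in
lemma inf_le_preimage : U₁' ⊓ U₂' ≤ g' ⁻¹ᵁ (U₁ ⊓ U₂) := fun x hx => ⟨h₁ hx.1, h₂ hx.2⟩

omit [Flat g'] in
include h₁ h₂ in
lemma sup_le_preimage : U₁' ⊔ U₂' ≤ g' ⁻¹ᵁ (U₁ ⊔ U₂) :=
  sup_le (h₁.trans (g'.preimage_mono le_sup_left)) (h₂.trans (g'.preimage_mono le_sup_right))

/-- the first Mayer–Vietoris morphism of test data -/
noncomputable def mvHom₁ :
    SDHom (sd g' hW a a' haa' (U₁ ⊓ U₂) (U₁' ⊓ U₂') (inf_le_left.trans hU₁)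
        (inf_le_left.trans hU₁') (inf_le_preimage g' h₁ h₂))
      ((sd g' hW a a' haa' U₁ U₁' hU₁ hU₁' h₁).sum (sd g' hW a a' haa' U₂ U₂' hU₂ hU₂' h₂)) where
  a := mvf U₁ U₂
  a' := mvf U₁' U₂'
  ha r := by
    have e₁ := (resHom g' hW a a' haa' (inf_le_left : U₁ ⊓ U₂ ≤ U₁)
      (inf_le_left : U₁' ⊓ U₂' ≤ U₁') hU₁ hU₁' (inf_le_preimage g' h₁ h₂) h₁).ha r
    have e₂ := (resHom g' hW a a' haa' (inf_le_right : U₁ ⊓ U₂ ≤ U₂)
      (inf_le_right : U₁' ⊓ U₂' ≤ U₂') hU₂ hU₂' (inf_le_preimage g' h₁ h₂) h₂).ha r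
    show mulGU (U₁ ⊓ U₂) (strT a (U₁ ⊓ U₂) _ r) ≫ mvf U₁ U₂ =
      mvf U₁ U₂ ≫ biprod.map (mulGU U₁ (strT a U₁ hU₁ r)) (mulGU U₂ (strT a U₂ hU₂ r))
    apply biprod.hom_ext
    · rw [Category.assoc, mvf_fst, Category.assoc, biprod.map_fst, ← Category.assoc, mvf_fst]
      exact e₁
    · rw [Category.assoc, mvf_snd, Category.assoc, biprod.map_snd, ← Category.assoc, mvf_snd,
        Preadditive.comp_neg, Preadditive.neg_comp]
      exact congrArg (fun t => -t) e₂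
  ha' r := by
    have e₁ := (resHom g' hW a a' haa' (inf_le_left : U₁ ⊓ U₂ ≤ U₁)
      (inf_le_left : U₁' ⊓ U₂' ≤ U₁') hU₁ hU₁' (inf_le_preimage g' h₁ h₂) h₁).ha' r
    have e₂ := (resHom g' hW a a' haa' (inf_le_right : U₁ ⊓ U₂ ≤ U₂)
      (inf_le_right : U₁' ⊓ U₂' ≤ U₂') hU₂ hU₂' (inf_le_preimage g' h₁ h₂) h₂).ha' r
    show mulGU (U₁' ⊓ U₂') (strT a' (U₁' ⊓ U₂') _ r) ≫ mvf U₁' U₂' =
      mvf U₁' U₂' ≫ biprod.map (mulGU U₁' (strT a' U₁' hU₁' r)) (mulGU U₂' (strT a' U₂' hU₂' r))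
    apply biprod.hom_ext
    · rw [Category.assoc, mvf_fst, Category.assoc, biprod.map_fst, ← Category.assoc, mvf_fst]
      exact e₁
    · rw [Category.assoc, mvf_snd, Category.assoc, biprod.map_snd, ← Category.assoc, mvf_snd,
        Preadditive.comp_neg, Preadditive.neg_comp]
      exact congrArg (fun t => -t) e₂
  hι := by
    have e₁ := ι₀_nat g' (inf_le_left : U₁ ⊓ U₂ ≤ U₁) (inf_le_left : U₁' ⊓ U₂' ≤ U₁')
      (inf_le_preimage g' h₁ h₂) h₁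
    have e₂ := ι₀_nat g' (inf_le_right : U₁ ⊓ U₂ ≤ U₂) (inf_le_right : U₁' ⊓ U₂' ≤ U₂')
      (inf_le_preimage g' h₁ h₂) h₂
    show mvf U₁' U₂' ≫ biprod.desc (ι₀ g' U₁ U₁' h₁ ≫ (Scheme.Modules.pullback g').map biprod.inl)
        (ι₀ g' U₂ U₂' h₂ ≫ (Scheme.Modules.pullback g').map biprod.inr) =
      ι₀ g' (U₁ ⊓ U₂) (U₁' ⊓ U₂') _ ≫ (Scheme.Modules.pullback g').map (mvf U₁ U₂)
    rw [mvf_eq U₁' U₂', mvf_eq U₁ U₂, Preadditive.sub_comp, Category.assoc, Category.assoc,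
      biprod.inl_desc, biprod.inr_desc, Functor.map_sub, Preadditive.comp_sub, Functor.map_comp,
      Functor.map_comp, ← Category.assoc, ← Category.assoc, ← Category.assoc, ← Category.assoc,
      e₁, e₂]

/-- the second Mayer–Vietoris morphism of test data -/
noncomputable def mvHom₂ :
    SDHom ((sd g' hW a a' haa' U₁ U₁' hU₁ hU₁' h₁).sum (sd g' hW a a' haa' U₂ U₂' hU₂ hU₂' h₂))
      (sd g' hW a a' haa' (U₁ ⊔ U₂) (U₁' ⊔ U₂') (sup_le hU₁ hU₂) (sup_le hU₁' hU₂')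
        (sup_le_preimage g' h₁ h₂)) where
  a := mvg U₁ U₂
  a' := mvg U₁' U₂'
  ha r := by
    have e₁ := (resHom g' hW a a' haa' (le_sup_left : U₁ ≤ U₁ ⊔ U₂)
      (le_sup_left : U₁' ≤ U₁' ⊔ U₂') (sup_le hU₁ hU₂) (sup_le hU₁' hU₂') h₁
      (sup_le_preimage g' h₁ h₂)).ha r
    have e₂ := (resHom g' hW a a' haa' (le_sup_right : U₂ ≤ U₁ ⊔ U₂)
      (le_sup_right : U₂' ≤ U₁' ⊔ U₂') (sup_le hU₁ hU₂) (sup_le hU₁' hU₂') h₂
      (sup_le_preimage g' h₁ h₂)).ha r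
    show biprod.map (mulGU U₁ (strT a U₁ hU₁ r)) (mulGU U₂ (strT a U₂ hU₂ r)) ≫ mvg U₁ U₂ =
      mvg U₁ U₂ ≫ mulGU (U₁ ⊔ U₂) (strT a (U₁ ⊔ U₂) _ r)
    apply biprod.hom_ext'
    · rw [← Category.assoc, biprod.inl_map, Category.assoc, inl_mvg, ← Category.assoc, inl_mvg]
      exact e₁
    · rw [← Category.assoc, biprod.inr_map, Category.assoc, inr_mvg, ← Category.assoc, inr_mvg]
      exact e₂
  ha' r := by
    have e₁ := (resHom g' hW a a' haa' (le_sup_left : U₁ ≤ U₁ ⊔ U₂)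
      (le_sup_left : U₁' ≤ U₁' ⊔ U₂') (sup_le hU₁ hU₂) (sup_le hU₁' hU₂') h₁
      (sup_le_preimage g' h₁ h₂)).ha' r
    have e₂ := (resHom g' hW a a' haa' (le_sup_right : U₂ ≤ U₁ ⊔ U₂)
      (le_sup_right : U₂' ≤ U₁' ⊔ U₂') (sup_le hU₁ hU₂) (sup_le hU₁' hU₂') h₂
      (sup_le_preimage g' h₁ h₂)).ha' r
    show biprod.map (mulGU U₁' (strT a' U₁' hU₁' r)) (mulGU U₂' (strT a' U₂' hU₂' r)) ≫
        mvg U₁' U₂' = mvg U₁' U₂' ≫ mulGU (U₁' ⊔ U₂') (strT a' (U₁' ⊔ U₂') _ r)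
    apply biprod.hom_ext'
    · rw [← Category.assoc, biprod.inl_map, Category.assoc, inl_mvg, ← Category.assoc, inl_mvg]
      exact e₁
    · rw [← Category.assoc, biprod.inr_map, Category.assoc, inr_mvg, ← Category.assoc, inr_mvg]
      exact e₂
  hι := by
    have e₁ := ι₀_nat g' (le_sup_left : U₁ ≤ U₁ ⊔ U₂) (le_sup_left : U₁' ≤ U₁' ⊔ U₂') h₁
      (sup_le_preimage g' h₁ h₂)
    have e₂ := ι₀_nat g' (le_sup_right : U₂ ≤ U₁ ⊔ U₂) (le_sup_right : U₂' ≤ U₁' ⊔ U₂') h₂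
      (sup_le_preimage g' h₁ h₂)
    show mvg U₁' U₂' ≫ ι₀ g' (U₁ ⊔ U₂) (U₁' ⊔ U₂') _ =
      biprod.desc (ι₀ g' U₁ U₁' h₁ ≫ (Scheme.Modules.pullback g').map biprod.inl)
        (ι₀ g' U₂ U₂' h₂ ≫ (Scheme.Modules.pullback g').map biprod.inr) ≫
          (Scheme.Modules.pullback g').map (mvg U₁ U₂)
    apply biprod.hom_ext'
    · rw [← Category.assoc, inl_mvg, biprod.inl_desc_assoc, Category.assoc, ← Functor.map_comp,
        inl_mvg]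
      exact e₁
    · rw [← Category.assoc, inr_mvg, biprod.inr_desc_assoc, Category.assoc, ← Functor.map_comp,
        inr_mvg]
      exact e₂

/-- the Mayer–Vietoris step -/
theorem mv_step (m : ℤ)
    (H₁ : ∀ E : DCoh.D X, DCoh.IsQCohD E →
      ((sd g' hW a a' haa' U₁ U₁' hU₁ hU₁' h₁).toTD m).BC E)
    (H₂ : ∀ E : DCoh.D X, DCoh.IsQCohD E →
      ((sd g' hW a a' haa' U₂ U₂' hU₂ hU₂' h₂).toTD m).BC E)
    (H₁₂ : ∀ E : DCoh.D X, DCoh.IsQCohD E →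
      ((sd g' hW a a' haa' (U₁ ⊓ U₂) (U₁' ⊓ U₂') (inf_le_left.trans hU₁)
        (inf_le_left.trans hU₁') (inf_le_preimage g' h₁ h₂)).toTD m).BC E) :
    ∀ E : DCoh.D X, DCoh.IsQCohD E →
      ((sd g' hW a a' haa' (U₁ ⊔ U₂) (U₁' ⊔ U₂') (sup_le hU₁ hU₂) (sup_le hU₁' hU₂')
        (sup_le_preimage g' h₁ h₂)).toTD m).BC E :=
  SD.triangle (fun E : DCoh.D X => DCoh.IsQCohD E) (fun E hE => isQCohD_shift E hE (-1))
    (mvHom₁ g' hW a a' haa' hU₁ hU₂ hU₁' hU₂' h₁ h₂)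
    (mvHom₂ g' hW a a' haa' hU₁ hU₂ hU₁' hU₂' h₁ h₂)
    (mvf_mvg U₁ U₂) (mvf_mvg U₁' U₂') (mvS_shortExact U₁ U₂) (mvS_shortExact U₁' U₂') m H₁₂
    (fun E hE => SD.sum_BC _ _ m E (H₁ E hE) (H₂ E hE))

end MV

end SD

end Groth.Agent.Helper9.FBSch
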