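import Mathlib
import Groth.Agent.Helper9.FBSch
import Groth.Agent.Helper9.QP3
import Groth.Agent.Lead.PcLib2
import Groth.Agent.Lead.BCMap10
import Groth.Agent.Lead.StalkPull

/-! The affine case of flat base change for Hom groups out of `GU U [-m]`. -/

set_option autoImplicit false
set_option backward.isDefEq.respectTransparency false
set_option linter.style.haveILetI false
set_option linter.unusedVariables false
set_option linter.unusedSectionVars false
universe u

namespace Groth.Agent.Helper9.FBAff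

open CategoryTheory Limits AlgebraicGeometry Opposite TopologicalSpace DerivedCategory
open Groth.Agent.Helper9 Groth.Agent.Helper9.LCAff1 Groth.Agent.Helper9.QP2
  Groth.Agent.Helper9.QP3 Groth.Agent.Helper9.LC3
  Groth.Agent.Helper9.FBMu Groth.Agent.Helper9.FBSheaf Groth.Agent.Helper9.FBTri
  Groth.Agent.Helper9.FBSch Groth.Agent.Lead.BCMap Groth.Agent.Lead.PcLib

attribute [local instance] HasDerivedCategory.standard
attribute [local instance] pfl pfc

variable {X' X : Scheme.{u}} (g' : X' ⟶ X)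

/-- the universal section of `ι₀` -/
lemma sec_ι₀ (U : X.Opens) (U' : X'.Opens) (hUU' : U' ≤ g' ⁻¹ᵁ U) :
    sec U' _ (ι₀ g' U U' hUU') = pbSec g' (GU U) U U' hUU' (eU U) := by
  unfold ι₀
  rw [sec_GUmap, pbSec_apply]
  congr 1
  have h1 := QP4b.pullEquiv_hom g' U (QP4b.pullGU g' U).inv
  rw [Iso.hom_inv_id] at h1
  rw [← h1, QP4b.sec_pullEquiv, Adjunction.homEquiv_unit, CategoryTheory.Functor.map_id]
  exact (congrArg (sec U _) (Category.comp_id _)).trans (sec_eq U _ _)

variable [Flat g']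

section Omega

variable (m : ℤ)

/-- the automorphism of `g'^*` comparing the two identifications of `H^m(g'^⋆ (G[-m]))` -/
noncomputable def Ω (G : X.Modules) :
    (Scheme.Modules.pullback g').obj G ≅ (Scheme.Modules.pullback g').obj G :=
  σ m ((Scheme.Modules.pullback g').obj G) ≪≫
    (homologyFunctor X'.Modules m).mapIso
      (((Scheme.Modules.pullback g').mapDerivedCategorySingleFunctor m).symm.app G) ≪≫
    (mapDerivedCategoryHomologyIso (Scheme.Modules.pullback g') m).app (W G m) ≪≫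
    (Scheme.Modules.pullback g').mapIso (σ m G).symm

lemma Ω_nat {G G' : X.Modules} (r : G ⟶ G') :
    (Scheme.Modules.pullback g').map r ≫ (Ω g' m G').hom =
      (Ω g' m G).hom ≫ (Scheme.Modules.pullback g').map r := by
  have e1 := σ_nat m ((Scheme.Modules.pullback g').map r)
  have e2 := ((Scheme.Modules.pullback g').mapDerivedCategorySingleFunctor m).inv.naturality r
  have e3 := (mapDerivedCategoryHomologyIso (Scheme.Modules.pullback g') m).hom.naturality
    ((singleFunctor X.Modules m).map r)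
  have e4 := σ_nat m r
  dsimp at e2 e3
  dsimp only [Ω, Iso.trans_hom, Functor.mapIso_hom, Iso.app_hom, Iso.symm_hom]
  have e4' : (Scheme.Modules.pullback g').map
      ((homologyFunctor X.Modules m).map ((singleFunctor X.Modules m).map r)) ≫
        (Scheme.Modules.pullback g').map (σ m G').inv =
      (Scheme.Modules.pullback g').map (σ m G).inv ≫ (Scheme.Modules.pullback g').map r := by
    rw [← Functor.map_comp, ← Functor.map_comp]
    congr 1
    rw [Iso.comp_inv_eq, Category.assoc, Iso.eq_inv_comp]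
    exact e4
  rw [← reassoc_of% e1, Category.assoc, Category.assoc, Category.assoc, ← e4', ← reassoc_of% e3,
    ← Functor.map_comp_assoc, e2, Functor.map_comp_assoc]

end Omega

section Main

variable {R R' : Type u} [CommRing R] [CommRing R'] [Algebra R R']
variable {W₀ : X.Opens} {W₀' : X'.Opens} (hW : W₀' ≤ g' ⁻¹ᵁ W₀) (a : R →+* Γ(X, W₀))
  (a' : R' →+* Γ(X', W₀'))
  (haa' : ∀ r, g'.appLE W₀ W₀' hW (a r) = a' (algebraMap R R' r))
variable {U : X.Opens} {U' : X'.Opens} (hU : U ≤ W₀) (hU' : U' ≤ W₀') (hUU' : U' ≤ g' ⁻¹ᵁ U)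

attribute [local instance] modRestr towerRestr

/-- pullback of sections as an `R`-linear map -/
noncomputable def cR (ℋ : X.Modules) :
    SecT ℋ a U hU →ₗ[R] SecT ((Scheme.Modules.pullback g').obj ℋ) a' U' hU' where
  toFun s := pbSec g' ℋ U U' hUU' (show Γ(ℋ, U) from s)
  map_add' s t := map_add _ _ _
  map_smul' r s := by
    change pbSec g' ℋ U U' hUU' ((strT a U hU r) • (show Γ(ℋ, U) from s)) =
      (strT a' U' hU' (algebraMap R R' r)) • pbSec g' ℋ U U' hUU' (show Γ(ℋ, U) from s)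
    rw [pbSec_smul, appLE_strT g' hW a a' haa' hU hU' hUU' r]

include haa' in
theorem cR_isBaseChange (hUa : IsAffineOpen U) (hU'a : IsAffineOpen U')
    (hpo : IsPushout (CommRingCat.ofHom (strT a U hU)) (CommRingCat.ofHom (algebraMap R R'))
      (g'.appLE U U' hUU') (CommRingCat.ofHom (strT a' U' hU')))
    (ℋ : X.Modules) [ℋ.IsQuasicoherent] :
    IsBaseChange R' (cR g' hW a a' haa' hU hU' hUU' ℋ) := by
  -- rings
  letI aRA : Algebra R Γ(X, U) := (strT a U hU).toAlgebra
  letI aAA' : Algebra Γ(X, U) Γ(X', U') := (g'.appLE U U' hUU').hom.toAlgebra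
  letI aR'A' : Algebra R' Γ(X', U') := (strT a' U' hU').toAlgebra
  letI aRA' : Algebra R Γ(X', U') :=
    ((g'.appLE U U' hUU').hom.comp (strT a U hU)).toAlgebra
  haveI tRAA' : IsScalarTower R Γ(X, U) Γ(X', U') :=
    IsScalarTower.of_algebraMap_eq (fun b => rfl)
  haveI tRR'A' : IsScalarTower R R' Γ(X', U') :=
    IsScalarTower.of_algebraMap_eq (fun b => appLE_strT g' hW a a' haa' hU hU' hUU' b)
  haveI hpush : Algebra.IsPushout R R' Γ(X, U) Γ(X', U') :=
    CommRingCat.isPushout_iff_isPushout.mp hpo.flip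
  -- modules
  letI mAN₂ : Module Γ(X, U) Γ((Scheme.Modules.pullback g').obj ℋ, U') :=
    Module.compHom _ (g'.appLE U U' hUU').hom
  haveI tN₂ : IsScalarTower Γ(X, U) Γ(X', U') Γ((Scheme.Modules.pullback g').obj ℋ, U') :=
    IsScalarTower.of_compHom _ _ _
  obtain ⟨ρ₂, hρ₂, h₂⟩ := exists_isBaseChange_pbSec g' ℋ hUa hU'a hUU'
  letI mAM : Module Γ(X, U) (SecT ℋ a U hU) :=
    (show Module Γ(X, U) Γ(ℋ, U) from inferInstance)
  haveI tM : IsScalarTower R Γ(X, U) (SecT ℋ a U hU) := ⟨fun r b m => by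
    change ((strT a U hU r) * b) • (show Γ(ℋ, U) from m) =
      (strT a U hU r) • (b • (show Γ(ℋ, U) from m))
    rw [mul_smul]⟩
  letI mAN₂' : Module Γ(X, U) (SecT ((Scheme.Modules.pullback g').obj ℋ) a' U' hU') := mAN₂
  letI mA'N₂' : Module Γ(X', U') (SecT ((Scheme.Modules.pullback g').obj ℋ) a' U' hU') :=
    (show Module Γ(X', U') Γ((Scheme.Modules.pullback g').obj ℋ, U') from inferInstance)
  haveI tN₂' : IsScalarTower Γ(X, U) Γ(X', U')
      (SecT ((Scheme.Modules.pullback g').obj ℋ) a' U' hU') := tN₂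
  haveI tN₂'' : IsScalarTower R' Γ(X', U')
      (SecT ((Scheme.Modules.pullback g').obj ℋ) a' U' hU') := ⟨fun r b m => by
    change ((strT a' U' hU' r) * b) •
        (show Γ((Scheme.Modules.pullback g').obj ℋ, U') from m) =
      (strT a' U' hU' r) • (b • (show Γ((Scheme.Modules.pullback g').obj ℋ, U') from m))
    rw [mul_smul]⟩
  exact isBaseChange_of_isPushout (R := R) (R' := R') (A := Γ(X, U))
    (A' := Γ(X', U')) (M := SecT ℋ a U hU)
    (N₂ := SecT ((Scheme.Modules.pullback g').obj ℋ) a' U' hU') ρ₂ h₂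
    (cR g' hW a a' haa' hU hU' hUU' ℋ) (fun m => (hρ₂ m).symm)

end Main

section KK

variable {Z : Scheme.{u}}

lemma kk_add (i : ℤ) (E : DCoh.D Z) (U : Z.Opens) (ψ ψ' : W (GU U) i ⟶ E) :
    kk i E U (ψ + ψ') = kk i E U ψ + kk i E U ψ' := by
  unfold kk
  rw [Functor.map_add, Preadditive.comp_add, sec_add]

lemma kk_mul (i : ℤ) (E : DCoh.D Z) (U : Z.Opens) (s : Γ(Z, U)) (ψ : W (GU U) i ⟶ E) :
    kk i E U ((singleFunctor Z.Modules i).map (mulGU U s) ≫ ψ) = s • kk i E U ψ := by
  unfold kk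
  rw [Functor.map_comp, ← Category.assoc, σ_nat, Category.assoc, sec_mulGU_comp]

/-- quasi-coherence of cohomology is preserved by flat pullback -/
theorem isQCohD_mapDerivedCategory {X' X : Scheme.{u}} (g' : X' ⟶ X) [Flat g'] (E : DCoh.D X)
    (hE : DCoh.IsQCohD E) :
    DCoh.IsQCohD ((Scheme.Modules.pullback g').mapDerivedCategory.obj E) := by
  intro i
  haveI : ((homologyFunctor X.Modules i).obj E).IsQuasicoherent := hE i
  haveI := Groth.Agent.Lead.StalkPull.isQuasicoherent_pullbackObj g'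
    ((homologyFunctor X.Modules i).obj E)
  exact @Groth.Agent.Helper4.QcohLimits.isQuasicoherent_of_iso _ _ _
    ((mapDerivedCategoryHomologyIso (Scheme.Modules.pullback g') i).app E).symm this

/-- an isomorphism of modules is bijective on sections -/
lemma app_bijective_of_iso {A B : Z.Modules} (e : A ≅ B) (U : Z.Opens) :
    Function.Bijective (e.hom.app U) := by
  let i : Γ(A, U) ≅ Γ(B, U) :=
    (Scheme.Modules.toPresheaf Z ⋙ (evaluation _ _).obj (op U)).mapIso e
  exact ConcreteCategory.bijective_of_isIso i.hom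

end KK

section Aff

variable {R R' : Type u} [CommRing R] [CommRing R'] [Algebra R R']
variable {W₀ : X.Opens} {W₀' : X'.Opens} (hW : W₀' ≤ g' ⁻¹ᵁ W₀) (a : R →+* Γ(X, W₀))
  (a' : R' →+* Γ(X', W₀'))
  (haa' : ∀ r, g'.appLE W₀ W₀' hW (a r) = a' (algebraMap R R' r))
variable {U : X.Opens} {U' : X'.Opens} (hU : U ≤ W₀) (hU' : U' ≤ W₀') (hUU' : U' ≤ g' ⁻¹ᵁ U)

attribute [local instance] modRestr towerRestr

/-- the affine case -/
theorem affine_BC (hUa : IsAffineOpen U) (hU'a : IsAffineOpen U')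
    (hpo : IsPushout (CommRingCat.ofHom (strT a U hU)) (CommRingCat.ofHom (algebraMap R R'))
      (g'.appLE U U' hUU') (CommRingCat.ofHom (strT a' U' hU')))
    (m : ℤ) (E : DCoh.D X) (hE : DCoh.IsQCohD E) :
    ((sd g' hW a a' haa' U U' hU hU' hUU').toTD m).BC E := by
  let F := Scheme.Modules.pullback g'
  let τ := (sd g' hW a a' haa' U U' hU hU' hUU').toTD m
  let ℋ := (homologyFunctor X.Modules m).obj E
  haveI : ℋ.IsQuasicoherent := hE m
  let E' : DCoh.D X' := F.mapDerivedCategory.obj E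
  have hE' : DCoh.IsQCohD E' := isQCohD_mapDerivedCategory g' E hE
  let Θ : (homologyFunctor X'.Modules m).obj E' ≅ F.obj ℋ :=
    (mapDerivedCategoryHomologyIso F m).app E
  let aM : τ.M E →ₗ[R] SecT ℋ a U hU :=
    { toFun := fun ψ => kk m E U (TD.M.hom τ ψ)
      map_add' := fun ψ ψ' => kk_add m E U _ _
      map_smul' := fun r ψ => kk_mul m E U (strT a U hU r) (TD.M.hom τ ψ) }
  let bN : τ.N E →ₗ[R'] SecT (F.obj ℋ) a' U' hU' :=
    { toFun := fun ψ' => (Ω g' m ℋ).inv.app U' (Θ.hom.app U' (kk m E' U' (TD.N.hom τ ψ')))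
      map_add' := fun ψ ψ' => by
        show (Ω g' m ℋ).inv.app U' (Θ.hom.app U' (kk m E' U' (TD.N.hom τ ψ + TD.N.hom τ ψ'))) = _
        rw [kk_add, map_add, map_add]
      map_smul' := fun r ψ' => by
        show (Ω g' m ℋ).inv.app U' (Θ.hom.app U' (kk m E' U'
            ((singleFunctor X'.Modules m).map (mulGU U' (strT a' U' hU' r)) ≫ TD.N.hom τ ψ'))) =
          (strT a' U' hU' r) • (Ω g' m ℋ).inv.app U' (Θ.hom.app U' (kk m E' U' (TD.N.hom τ ψ')))
        rw [kk_mul, Scheme.Modules.Hom.app_smul, Scheme.Modules.Hom.app_smul] }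
  refine FBAlg.isBaseChange_of_bijective' R' (cR g' hW a a' haa' hU hU' hUU' ℋ) (τ.γ E) aM bN ?_ ?_ ?_
    (cR_isBaseChange g' hW a a' haa' hU hU' hUU' hUa hU'a hpo ℋ)
  · exact kk_bijective m E hE U hUa
  · have h1 := kk_bijective m E' hE' U' hU'a
    have h2 := app_bijective_of_iso Θ U'
    have h3 := app_bijective_of_iso (Ω g' m ℋ).symm U'
    exact h3.comp (h2.comp h1)
  · intro ψ₀
    let ψ : W (GU U) m ⟶ E := TD.M.hom τ ψ₀
    let H' := homologyFunctor X'.Modules m
    let H := homologyFunctor X.Modules m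
    let sinv := (F.mapDerivedCategorySingleFunctor m).inv.app (GU U)
    let ψh : GU U ⟶ ℋ := (σ m (GU U)).hom ≫ H.map ψ
    have hΩ : (σ m (F.obj (GU U))).hom ≫ H'.map sinv ≫
        (mapDerivedCategoryHomologyIso F m).hom.app (W (GU U) m) =
        (Ω g' m (GU U)).hom ≫ F.map (σ m (GU U)).hom := by
      dsimp only [Ω, Iso.trans_hom, Functor.mapIso_hom, Iso.app_hom, Iso.symm_hom]
      simp only [Category.assoc]
      rw [← Functor.map_comp, Iso.inv_hom_id, CategoryTheory.Functor.map_id]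
      erw [Category.comp_id]
    have hΘ : H'.map (F.mapDerivedCategory.map ψ) ≫ Θ.hom =
        (mapDerivedCategoryHomologyIso F m).hom.app (W (GU U) m) ≫ F.map (H.map ψ) :=
      (mapDerivedCategoryHomologyIso F m).hom.naturality ψ
    have key : (σ m (GU U')).hom ≫
        H'.map (((singleFunctor X'.Modules m).map (ι₀ g' U U' hUU') ≫ sinv) ≫
          F.mapDerivedCategory.map ψ) ≫ Θ.hom ≫ (Ω g' m ℋ).inv =
        ι₀ g' U U' hUU' ≫ F.map ψh := by
      rw [Functor.map_comp, Functor.map_comp, Category.assoc, Category.assoc,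
        reassoc_of% (σ_nat m (ι₀ g' U U' hUU')), reassoc_of% hΘ, reassoc_of% hΩ,
        ← Functor.map_comp_assoc]
      show ι₀ g' U U' hUU' ≫ (Ω g' m (GU U)).hom ≫ F.map ψh ≫ (Ω g' m ℋ).inv = _
      rw [← reassoc_of% (Ω_nat g' m ψh), Iso.hom_inv_id, Category.comp_id]
    show pbSec g' ℋ U U' hUU' (kk m E U ψ) = (Ω g' m ℋ).inv.app U' (Θ.hom.app U'
      (kk m E' U' (((singleFunctor X'.Modules m).map (ι₀ g' U U' hUU') ≫ sinv) ≫
        F.mapDerivedCategory.map ψ)))
    have hL : kk m E U ψ = sec U ℋ ψh := rfl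
    have hR : (Ω g' m ℋ).inv.app U' (Θ.hom.app U'
        (kk m E' U' (((singleFunctor X'.Modules m).map (ι₀ g' U U' hUU') ≫ sinv) ≫
          F.mapDerivedCategory.map ψ))) =
        sec U' _ ((σ m (GU U')).hom ≫
          H'.map (((singleFunctor X'.Modules m).map (ι₀ g' U U' hUU') ≫ sinv) ≫
            F.mapDerivedCategory.map ψ) ≫ Θ.hom ≫ (Ω g' m ℋ).inv) := by
      unfold kk
      rw [← sec_comp, ← sec_comp, Category.assoc, Category.assoc]
    rw [hL, hR, key, sec_comp U' (ι₀ g' U U' hUU') (F.map ψh), sec_ι₀]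
    exact (congrArg (pbSec g' ℋ U U' hUU') (sec_eq U _ ψh)).trans
      (pbSec_naturality g' ψh U U' hUU' (eU U))

end Aff

end Groth.Agent.Helper9.FBAff
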