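import Mathlib
import Groth.Agent.Helper9.FBAff
import Groth.Agent.Helper9.QP3a

/-! Flat base change for the Hom groups out of `GU U [-m]` for quasi-compact quasi-separated
opens `U`, by Mayer–Vietoris induction. -/

set_option autoImplicit false
set_option backward.isDefEq.respectTransparency false
set_option linter.style.haveILetI false
set_option linter.unusedVariables false
set_option linter.unusedSectionVars false
universe u

namespace Groth.Agent.Helper9.FBMain1

open CategoryTheory Limits AlgebraicGeometry Opposite TopologicalSpace DerivedCategory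
open Groth.Agent.Helper9 Groth.Agent.Helper9.LCAff1 Groth.Agent.Helper9.QP2
  Groth.Agent.Helper9.QP3 Groth.Agent.Helper9.LC3
  Groth.Agent.Helper9.FBMu Groth.Agent.Helper9.FBSheaf Groth.Agent.Helper9.FBTri
  Groth.Agent.Helper9.FBSch Groth.Agent.Helper9.FBAff Groth.Agent.Lead.BCMap

attribute [local instance] HasDerivedCategory.standard
attribute [local instance] pfl pfc

variable {X' X : Scheme.{u}} (g' : X' ⟶ X)

/-- the restricted preimage -/
def pre (W₀' : X'.Opens) (U : X.Opens) : X'.Opens := g' ⁻¹ᵁ U ⊓ W₀'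

lemma pre_le (W₀' : X'.Opens) (U : X.Opens) : pre g' W₀' U ≤ W₀' := inf_le_right

lemma pre_le_preimage (W₀' : X'.Opens) (U : X.Opens) : pre g' W₀' U ≤ g' ⁻¹ᵁ U := inf_le_left

lemma pre_sup (W₀' : X'.Opens) (U₁ U₂ : X.Opens) :
    pre g' W₀' (U₁ ⊔ U₂) = pre g' W₀' U₁ ⊔ pre g' W₀' U₂ := by
  ext x
  simp only [pre, Opens.coe_inf, Opens.coe_sup, Scheme.Hom.coe_preimage, Set.preimage_union,
    Set.mem_inter_iff, Set.mem_union]
  tauto

lemma pre_inf (W₀' : X'.Opens) (U₁ U₂ : X.Opens) :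
    pre g' W₀' (U₁ ⊓ U₂) = pre g' W₀' U₁ ⊓ pre g' W₀' U₂ := by
  ext x
  simp only [pre, Opens.coe_inf, Scheme.Hom.coe_preimage, Set.preimage_inter,
    Set.mem_inter_iff]
  tauto

variable [Flat g']
variable {R R' : Type u} [CommRing R] [CommRing R'] [Algebra R R'] [Module.Flat R R']
variable {W₀ : X.Opens} {W₀' : X'.Opens} (hW : W₀' ≤ g' ⁻¹ᵁ W₀) (a : R →+* Γ(X, W₀))
  (a' : R' →+* Γ(X', W₀'))
  (haa' : ∀ r, g'.appLE W₀ W₀' hW (a r) = a' (algebraMap R R' r))

/-- flat base change for `Hom(GU U [-m], E)`, `U` quasi-compact quasi-separated -/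
theorem main
    (H : ∀ (U : X.Opens) (hU : U ≤ W₀), IsAffineOpen U →
      IsAffineOpen (pre g' W₀' U) ∧
        IsPushout (CommRingCat.ofHom (strT a U hU)) (CommRingCat.ofHom (algebraMap R R'))
          (g'.appLE U (pre g' W₀' U) (pre_le_preimage g' W₀' U))
          (CommRingCat.ofHom (strT a' (pre g' W₀' U) (pre_le g' W₀' U))))
    (U : X.Opens) (hU : U ≤ W₀) (hUc : IsCompact (U : Set X))
    (hUs : IsQuasiSeparated (U : Set X)) (m : ℤ) (E : DCoh.D X) (hE : DCoh.IsQCohD E) :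
    ((sd g' hW a a' haa' U (pre g' W₀' U) hU (pre_le g' W₀' U)
      (pre_le_preimage g' W₀' U)).toTD m).BC E := by
  let P : X.Opens → Prop := fun U => ∀ (hU : U ≤ W₀) (U' : X'.Opens) (hU' : U' = pre g' W₀' U)
    (m : ℤ) (E : DCoh.D X), DCoh.IsQCohD E →
      ((sd g' hW a a' haa' U U' hU (hU' ▸ pre_le g' W₀' U)
        (hU' ▸ pre_le_preimage g' W₀' U)).toTD m).BC E
  have hP : P U := by
    apply QP3a.mv_induction P ?_ ?_ U hUc hUs
    · intro V hV hVW V' hV' m E hE
      subst hV'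
      obtain ⟨h1, h2⟩ := H V hVW hV
      exact affine_BC g' hW a a' haa' hVW (pre_le g' W₀' V) (pre_le_preimage g' W₀' V) hV h1 h2
        m E hE
    · intro U₁ U₂ h₁ h₂ h₁₂ hUW U' hU' m E hE
      have e : U' = pre g' W₀' U₁ ⊔ pre g' W₀' U₂ := hU'.trans (pre_sup g' W₀' U₁ U₂)
      subst e
      have hU₁ : U₁ ≤ W₀ := le_sup_left.trans hUW
      have hU₂ : U₂ ≤ W₀ := le_sup_right.trans hUW
      exact mv_step g' hW a a' haa' hU₁ hU₂ (pre_le g' W₀' U₁) (pre_le g' W₀' U₂)
        (pre_le_preimage g' W₀' U₁) (pre_le_preimage g' W₀' U₂) m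
        (fun E hE => h₁ hU₁ _ rfl m E hE) (fun E hE => h₂ hU₂ _ rfl m E hE)
        (fun E hE => h₁₂ (inf_le_left.trans hU₁) _ (pre_inf g' W₀' U₁ U₂).symm m E hE) E hE
  exact hP hU _ rfl m E hE

end Groth.Agent.Helper9.FBMain1
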