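import Mathlib
import Groth.Agent.Helper9.FBSch
import Groth.Agent.Helper9.QP4b
import Groth.Agent.Helper4.SchAdj
import Groth.Agent.Helper4.HasRD

/-! For flat `g`, `Lg^*` is the functor induced by the exact functor `g^*`; compatibility with
the identifications `θ` on test objects. -/

set_option autoImplicit false
set_option backward.isDefEq.respectTransparency false
set_option linter.style.haveILetI false
set_option linter.unusedVariables false
set_option linter.unusedSectionVars false
universe u

namespace Groth.Agent.Helper9.FBNu

open CategoryTheory Limits AlgebraicGeometry Opposite TopologicalSpace DerivedCategory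
open Groth.Agent.Helper9 Groth.Agent.Helper9.LCAff1 Groth.Agent.Helper9.QP2
  Groth.Agent.Helper9.LC3 Groth.Agent.Helper9.FBSch Groth.Agent.Helper9.Lpull3

attribute [local instance] HasDerivedCategory.standard
attribute [local instance] pfl pfc

/-- `Lf^*` is additive -/
theorem additive_Lpull {Z X : Scheme.{u}} (f : Z ⟶ X) [DCoh.HasLpull f] :
    (DCoh.Lpull f).Additive :=
  haveI : DCoh.HasRpush f := Groth.Agent.Helper4.HasRD.hasRpush _
  have adj := Groth.Agent.Helper4.SchAdj.adj f
  haveI : (DCoh.Rpush f).IsRightAdjoint := adj.isRightAdjoint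
  haveI : PreservesLimitsOfSize.{0, 0} (DCoh.Rpush f) := adj.rightAdjoint_preservesLimits
  haveI : (DCoh.Rpush f).Additive := Functor.additive_of_preserves_binary_products _
  adj.left_adjoint_additive

variable {Z X : Scheme.{u}} (g : Z ⟶ X) [Flat g] [DCoh.HasLpull g]

/-- the comparison `g^* ⟶ Lg^*` for flat `g` -/
noncomputable def νhom : (Scheme.Modules.pullback g).mapDerivedCategory ⟶ DCoh.Lpull g :=
  (DCoh.Lpull g).leftDerivedLift (counit g)
    (HomotopyCategory.quasiIso X.Modules (ComplexShape.up ℤ)) _
    (Scheme.Modules.pullback g).mapDerivedCategoryFactorsh.hom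

lemma νhom_fac (P : HomotopyCategory X.Modules (ComplexShape.up ℤ)) :
    (νhom g).app (DerivedCategory.Qh.obj P) ≫ (counit g).app P =
      (Scheme.Modules.pullback g).mapDerivedCategoryFactorsh.hom.app P :=
  Functor.leftDerived_fac_app _ _ _ _ _ _

instance isIso_νhom : IsIso (νhom g) := by
  rw [NatTrans.isIso_iff_isIso_app]
  intro D
  obtain ⟨P, hP, ⟨e⟩⟩ := exists_kflat_rep D
  rw [← NatTrans.isIso_app_iff_of_iso (νhom g) e]
  have h := νhom_fac g ((HomotopyCategory.quotient _ _).obj P)
  haveI := isIso_counit_app g P hP
  have h2 : (νhom g).app (DerivedCategory.Qh.obj ((HomotopyCategory.quotient _ _).obj P)) =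
      (Scheme.Modules.pullback g).mapDerivedCategoryFactorsh.hom.app
          ((HomotopyCategory.quotient _ _).obj P) ≫
        inv ((counit g).app ((HomotopyCategory.quotient _ _).obj P)) := by
    rw [← h, Category.assoc, IsIso.hom_inv_id, Category.comp_id]
  show IsIso ((νhom g).app (DerivedCategory.Qh.obj ((HomotopyCategory.quotient _ _).obj P)))
  rw [h2]
  infer_instance

/-- `g^* ≅ Lg^*` on derived categories, `g` flat -/
noncomputable def ν : (Scheme.Modules.pullback g).mapDerivedCategory ≅ DCoh.Lpull g :=
  asIso (νhom g)

/-- the general-degree version of Mathlib's compatibility -/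
lemma msf_hom_app (n : ℤ) (G : X.Modules) :
    ((Scheme.Modules.pullback g).mapDerivedCategorySingleFunctor n).hom.app G =
      (Scheme.Modules.pullback g).mapDerivedCategoryFactorsh.hom.app
          ((HomotopyCategory.quotient _ _).obj
            ((HomologicalComplex.single X.Modules (ComplexShape.up ℤ) n).obj G)) ≫
        DerivedCategory.Q.map ((HomologicalComplex.singleMapHomologicalComplex
          (Scheme.Modules.pullback g) (ComplexShape.up ℤ) n).hom.app G) := by
  rw [Functor.mapDerivedCategoryFactorsh_hom_app]
  simp only [Functor.mapDerivedCategorySingleFunctor, DerivedCategory.singleFunctorIsoCompQ,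
    DerivedCategory.quotientCompQhIso, HomologicalComplexUpToQuasiIso.quotientCompQhIso,
    Functor.mapHomotopyCategoryFactors, Iso.trans_hom, Iso.symm_hom, Functor.isoWhiskerRight_hom,
    Functor.isoWhiskerLeft_hom, Functor.isoWhiskerLeft_inv, NatTrans.comp_app,
    Functor.whiskerRight_app, Functor.whiskerLeft_app, Functor.associator_hom_app,
    Functor.associator_inv_app, Iso.refl_hom, Iso.refl_inv, NatTrans.id_app,
    Quotient.lift.isLift_hom, Quotient.lift.isLift_inv, Category.id_comp, Category.comp_id,
    CategoryTheory.Functor.map_id, Functor.comp_obj]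
  erw [CategoryTheory.Functor.map_id, Category.id_comp, Category.comp_id, Category.comp_id]
  rfl

/-- compatibility of `ν` with `θ` -/
lemma ν_θ (V : X.Opens) (i : ℤ) :
    (ν g).hom.app (W (GU V) i) ≫ (QP4b.θ g V i).hom =
      ((Scheme.Modules.pullback g).mapDerivedCategorySingleFunctor i).hom.app (GU V) ≫
        (singleFunctor Z.Modules i).map (QP4b.pullGU g V).hom := by
  have h := νhom_fac g ((HomotopyCategory.quotient _ _).obj
    ((HomologicalComplex.single X.Modules (ComplexShape.up ℤ) i).obj (GU V)))
  rw [msf_hom_app, ← h]
  simp only [Category.assoc]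
  rfl

end Groth.Agent.Helper9.FBNu
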