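import Mathlib
import Groth.Agent.Helper9.FBMu
import Groth.Agent.Helper9.QP4b

/-! Functoriality properties of `θ f V i : Lf^*(GU V [-i]) ≅ GU (f⁻¹V) [-i]`: equivariance for
multiplication by sections, and the cocycle identity for composites. -/

set_option autoImplicit false
set_option backward.isDefEq.respectTransparency false
set_option linter.style.haveILetI false
set_option linter.unusedVariables false
set_option linter.unusedSectionVars false
universe u

namespace Groth.Agent.Helper9.FBTheta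

open CategoryTheory Limits AlgebraicGeometry Opposite TopologicalSpace DerivedCategory
open Groth.Agent.Helper9 Groth.Agent.Helper9.LCAff1 Groth.Agent.Helper9.QP2
  Groth.Agent.Helper9.LC3 Groth.Agent.Helper9.FBMu Groth.Agent.Helper9.Lpull3
  Groth.Agent.Helper9.QP4b

attribute [local instance] HasDerivedCategory.standard

section One

variable {X Y : Scheme.{u}} (f : X ⟶ Y) [DCoh.HasLpull f]

/-- naturality of `θ` for arbitrary morphisms of test modules -/
lemma θ_map {V' V : Y.Opens} (i : ℤ) (r : GU V' ⟶ GU V) (r' : GU (f ⁻¹ᵁ V') ⟶ GU (f ⁻¹ᵁ V))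
    (hr : (Scheme.Modules.pullback f).map r ≫ (pullGU f V).hom = (pullGU f V').hom ≫ r') :
    (DCoh.Lpull f).map ((singleFunctor Y.Modules i).map r) ≫ (θ f V i).hom =
      (θ f V' i).hom ≫ (singleFunctor X.Modules i).map r' := by
  let sg := HomologicalComplex.single Y.Modules (ComplexShape.up ℤ) i
  let sgX := HomologicalComplex.single X.Modules (ComplexShape.up ℤ) i
  let pHC := (Scheme.Modules.pullback f).mapHomologicalComplex (ComplexShape.up ℤ)
  let s := HomologicalComplex.singleMapHomologicalComplex (Scheme.Modules.pullback f)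
      (ComplexShape.up ℤ) i
  have e1 := lpullIso_nat f (sg.map r) (isKFlat_single_GU V' i) (isKFlat_single_GU V i)
  have e2 : pHC.map (sg.map r) ≫ s.hom.app (GU V) =
      s.hom.app (GU V') ≫ sgX.map ((Scheme.Modules.pullback f).map r) :=
    s.hom.naturality r
  have e3 : sgX.map ((Scheme.Modules.pullback f).map r) ≫ sgX.map (pullGU f V).hom =
      sgX.map (pullGU f V').hom ≫ sgX.map r' := by
    rw [← Functor.map_comp, ← Functor.map_comp, hr]
  have hθ : ∀ V : Y.Opens, (θ f V i).hom =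
      (Groth.Agent.Helper9.Lpull3.lpullIso f _ (isKFlat_single_GU V i)).hom ≫
        Q.map (s.hom.app (GU V)) ≫ Q.map (sgX.map (pullGU f V).hom) := fun V => rfl
  rw [hθ V, hθ V']
  show (DCoh.Lpull f).map (Q.map (sg.map r)) ≫
      (Groth.Agent.Helper9.Lpull3.lpullIso f _ (isKFlat_single_GU V i)).hom ≫
        Q.map (s.hom.app (GU V)) ≫ Q.map (sgX.map (pullGU f V).hom) =
    ((Groth.Agent.Helper9.Lpull3.lpullIso f _ (isKFlat_single_GU V' i)).hom ≫
        Q.map (s.hom.app (GU V')) ≫ Q.map (sgX.map (pullGU f V').hom)) ≫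
      Q.map (sgX.map r')
  rw [reassoc_of% e1, ← Functor.map_comp_assoc, e2, Functor.map_comp_assoc, ← Functor.map_comp,
    e3, Functor.map_comp, Category.assoc, Category.assoc]

/-- equivariance of `θ` for multiplication by sections -/
lemma θ_mul (V : Y.Opens) (i : ℤ) (s : Γ(Y, V)) :
    (DCoh.Lpull f).map ((singleFunctor Y.Modules i).map (mulGU V s)) ≫ (θ f V i).hom =
      (θ f V i).hom ≫ (singleFunctor X.Modules i).map (mulGU (f ⁻¹ᵁ V) (f.app V s)) :=
  θ_map f i (mulGU V s) (mulGU (f ⁻¹ᵁ V) (f.app V s)) (pullback_mulGU f V s)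

lemma θ_inv_mul (V : Y.Opens) (i : ℤ) (s : Γ(Y, V)) :
    (θ f V i).inv ≫ (DCoh.Lpull f).map ((singleFunctor Y.Modules i).map (mulGU V s)) =
      (singleFunctor X.Modules i).map (mulGU (f ⁻¹ᵁ V) (f.app V s)) ≫ (θ f V i).inv := by
  rw [Iso.inv_comp_eq, ← Category.assoc, Iso.eq_comp_inv]
  exact θ_mul f V i s

lemma θ_inv_nat {V' V : Y.Opens} (h : V' ≤ V) (i : ℤ) :
    (θ f V' i).inv ≫ (DCoh.Lpull f).map ((singleFunctor Y.Modules i).map (GUmap h)) =
      (singleFunctor X.Modules i).map (GUmap (f.preimage_mono h)) ≫ (θ f V i).inv := by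
  rw [Iso.inv_comp_eq, ← Category.assoc, Iso.eq_comp_inv]
  exact θ_nat f h i

end One

section Generic

/-- the hom-set form of the conjugation equations -/
lemma homEquiv_conj {C D : Type*} [Category C] [Category D] {L₁ L₂ : C ⥤ D} {R₁ R₂ : D ⥤ C}
    (adj₁ : L₁ ⊣ R₁) (adj₂ : L₂ ⊣ R₂) (α : L₂ ⟶ L₁) {A : C} {B : D} (h : L₁.obj A ⟶ B) :
    adj₂.homEquiv A B (α.app A ≫ h) =
      adj₁.homEquiv A B h ≫ (conjugateEquiv adj₁ adj₂ α).app B := by
  rw [Adjunction.homEquiv_unit, Adjunction.homEquiv_unit, Functor.map_comp, ← Category.assoc,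
    ← unit_conjugateEquiv adj₁ adj₂ α A, Category.assoc, Category.assoc]
  congr 1
  exact ((conjugateEquiv adj₁ adj₂ α).naturality h).symm

/-- `single` commutes with composition of functors -/
lemma single_comp {V W W' : Type*} [Category V] [Category W] [Category W'] [Preadditive V]
    [Preadditive W] [Preadditive W'] [HasZeroObject V] [HasZeroObject W] [HasZeroObject W']
    {ι : Type*} [DecidableEq ι] (c : ComplexShape ι)
    {F : V ⥤ W} {G : W ⥤ W'} {H : V ⥤ W'} (e : F ⋙ G ≅ H)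
    [F.Additive] [G.Additive] [H.Additive] (n : ι) (X : V) :
    (G.mapHomologicalComplex c).map
        ((HomologicalComplex.singleMapHomologicalComplex F c n).hom.app X) ≫
      (HomologicalComplex.singleMapHomologicalComplex G c n).hom.app (F.obj X) ≫
        (HomologicalComplex.single W' c n).map (e.hom.app X) =
    (Functor.mapHomologicalComplexCompIso e c).hom.app
        ((HomologicalComplex.single V c n).obj X) ≫
      (HomologicalComplex.singleMapHomologicalComplex H c n).hom.app X := by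
  apply HomologicalComplex.to_single_hom_ext
  simp only [HomologicalComplex.comp_f, Functor.mapHomologicalComplex_map_f,
    HomologicalComplex.singleMapHomologicalComplex_hom_app_self, Functor.map_comp,
    Functor.mapHomologicalComplexCompIso_hom_app_f, HomologicalComplex.single_map_f_self,
    Category.assoc, Iso.inv_hom_id_assoc]
  have h := e.hom.naturality (HomologicalComplex.singleObjXSelf c n X).hom
  dsimp at h
  rw [← reassoc_of% h]
  simp

end Generic

section Comp

variable {X Y Z : Scheme.{u}} (f : X ⟶ Y) (g : Y ⟶ Z)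

example (V : Z.Opens) : (f ≫ g) ⁻¹ᵁ V = f ⁻¹ᵁ (g ⁻¹ᵁ V) := rfl

/-- the cocycle identity for `pullGU` -/
lemma pullGU_comp (V : Z.Opens) :
    (Scheme.Modules.pullback f).map (pullGU g V).hom ≫ (pullGU f (g ⁻¹ᵁ V)).hom =
      (Scheme.Modules.pullbackComp f g).hom.app (GU V) ≫ (pullGU (f ≫ g) V).hom := by
  let adjf := Scheme.Modules.pullbackPushforwardAdjunction f
  let adjg := Scheme.Modules.pullbackPushforwardAdjunction g
  let adjfg := Scheme.Modules.pullbackPushforwardAdjunction (f ≫ g)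
  let F := GU (f ⁻¹ᵁ (g ⁻¹ᵁ V))
  apply (adjf.homEquiv _ _).injective
  apply (adjg.homEquiv _ _).injective
  apply sec_injective
  -- left-hand side
  have hL : sec V _ (adjg.homEquiv _ _ (adjf.homEquiv _ _
      ((Scheme.Modules.pullback f).map (pullGU g V).hom ≫ (pullGU f (g ⁻¹ᵁ V)).hom))) =
      eU (f ⁻¹ᵁ (g ⁻¹ᵁ V)) := by
    rw [Adjunction.homEquiv_naturality_left]
    have h1 := sec_pullEquiv g V _ ((pullGU g V).hom ≫ adjf.homEquiv _ _ (pullGU f (g ⁻¹ᵁ V)).hom)
    rw [pullEquiv_hom] at h1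
    have h2 := sec_pullEquiv f (g ⁻¹ᵁ V) _ ((pullGU f (g ⁻¹ᵁ V)).hom ≫ 𝟙 _)
    rw [pullEquiv_hom, Category.comp_id] at h2
    exact h1.symm.trans h2.symm
  -- right-hand side
  have hR : sec V _ (adjg.homEquiv _ _ (adjf.homEquiv _ _
      ((Scheme.Modules.pullbackComp f g).hom.app (GU V) ≫ (pullGU (f ≫ g) V).hom))) =
      eU (f ⁻¹ᵁ (g ⁻¹ᵁ V)) := by
    have hc := homEquiv_conj (adjg.comp adjf) adjfg (Scheme.Modules.pullbackComp f g).inv
      ((Scheme.Modules.pullbackComp f g).hom.app (GU V) ≫ (pullGU (f ≫ g) V).hom)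
    rw [Iso.inv_hom_id_app_assoc, Scheme.Modules.conjugateEquiv_pullbackComp_inv] at hc
    have h3 : adjg.homEquiv _ _ (adjf.homEquiv _ _
        ((Scheme.Modules.pullbackComp f g).hom.app (GU V) ≫ (pullGU (f ≫ g) V).hom)) =
        adjfg.homEquiv _ _ (pullGU (f ≫ g) V).hom ≫
          (Scheme.Modules.pushforwardComp f g).inv.app (GU ((f ≫ g) ⁻¹ᵁ V)) := by
      rw [hc, Category.assoc, Iso.hom_inv_id_app, Category.comp_id]
      rfl
    erw [h3, sec_comp]
    have h2 := sec_pullEquiv (f ≫ g) V _ ((pullGU (f ≫ g) V).hom ≫ 𝟙 _)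
    rw [pullEquiv_hom, Category.comp_id] at h2
    exact h2.symm
  exact hL.trans hR.symm

variable [DCoh.HasLpull f] [DCoh.HasLpull g] [DCoh.HasLpull (f ≫ g)]

/-- the cocycle identity for `θ` -/
lemma θ_comp (V : Z.Opens) (i : ℤ) :
    (DCoh.Lpull f).map (θ g V i).hom ≫ (θ f (g ⁻¹ᵁ V) i).hom =
      (lpullComp f g).hom.app (W (GU V) i) ≫ (θ (f ≫ g) V i).hom := by
  let sgZ := HomologicalComplex.single Z.Modules (ComplexShape.up ℤ) i
  let sgY := HomologicalComplex.single Y.Modules (ComplexShape.up ℤ) i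
  let sgX := HomologicalComplex.single X.Modules (ComplexShape.up ℤ) i
  let pf := (Scheme.Modules.pullback f).mapHomologicalComplex (ComplexShape.up ℤ)
  let pg := (Scheme.Modules.pullback g).mapHomologicalComplex (ComplexShape.up ℤ)
  let sf := HomologicalComplex.singleMapHomologicalComplex (Scheme.Modules.pullback f)
      (ComplexShape.up ℤ) i
  let sg := HomologicalComplex.singleMapHomologicalComplex (Scheme.Modules.pullback g)
      (ComplexShape.up ℤ) i
  let sfg := HomologicalComplex.singleMapHomologicalComplex (Scheme.Modules.pullback (f ≫ g))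
      (ComplexShape.up ℤ) i
  let P := sgZ.obj (GU V)
  have hP : DCoh.IsKFlat P := isKFlat_single_GU V i
  have hgP : DCoh.IsKFlat (pg.obj P) := Lpull2.isKFlat_pullback g P hP
  -- the right-hand side
  have hγ := γ_fac f g ((HomotopyCategory.quotient _ _).obj P)
  rw [β_app] at hγ
  have hcmp : DerivedCategory.Qh.map ((cmp f g).hom.app ((HomotopyCategory.quotient _ _).obj P)) =
      Q.map ((Functor.mapHomologicalComplexCompIso (Scheme.Modules.pullbackComp f g)
        (ComplexShape.up ℤ)).hom.app P) := rfl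
  -- the complex-level identities
  have e1 := single_comp (ComplexShape.up ℤ) (Scheme.Modules.pullbackComp f g) i (GU V)
  have e2 : pf.map (sgY.map (pullGU g V).hom) ≫ sf.hom.app (GU (g ⁻¹ᵁ V)) =
      sf.hom.app ((Scheme.Modules.pullback g).obj (GU V)) ≫
        sgX.map ((Scheme.Modules.pullback f).map (pullGU g V).hom) :=
    sf.hom.naturality (pullGU g V).hom
  have e3 := pullGU_comp f g V
  -- naturality of the counit of `f`
  have n1 := lpullIso_nat f (sg.hom.app (GU V) ≫ sgY.map (pullGU g V).hom) hgP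
    (isKFlat_single_GU (g ⁻¹ᵁ V) i)
  have hθg : (θ g V i).hom = (lpullIso g P hP).hom ≫
      Q.map (sg.hom.app (GU V) ≫ sgY.map (pullGU g V).hom) := by
    rw [Functor.map_comp]
    rfl
  have hθf : (θ f (g ⁻¹ᵁ V) i).hom = (lpullIso f _ (isKFlat_single_GU (g ⁻¹ᵁ V) i)).hom ≫
      Q.map (sf.hom.app (GU (g ⁻¹ᵁ V)) ≫ sgX.map (pullGU f (g ⁻¹ᵁ V)).hom) := by
    rw [Functor.map_comp]
    rfl
  have hθfg : (θ (f ≫ g) V i).hom = (lpullIso (f ≫ g) P hP).hom ≫
      Q.map (sfg.hom.app (GU V) ≫ sgX.map (pullGU (f ≫ g) V).hom) := by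
    rw [Functor.map_comp]
    rfl
  have hcx : pf.map (sg.hom.app (GU V) ≫ sgY.map (pullGU g V).hom) ≫
      sf.hom.app (GU (g ⁻¹ᵁ V)) ≫ sgX.map (pullGU f (g ⁻¹ᵁ V)).hom =
      (Functor.mapHomologicalComplexCompIso (Scheme.Modules.pullbackComp f g)
        (ComplexShape.up ℤ)).hom.app P ≫ sfg.hom.app (GU V) ≫
          sgX.map (pullGU (f ≫ g) V).hom := by
    rw [Functor.map_comp, Category.assoc, reassoc_of% e2, ← Functor.map_comp, e3,
      Functor.map_comp]
    have e1' := congrArg (fun t => t ≫ sgX.map (pullGU (f ≫ g) V).hom) e1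
    simp only [Category.assoc] at e1'
    exact e1'
  rw [hθg, hθf, hθfg, Functor.map_comp, Category.assoc, reassoc_of% n1, ← Functor.map_comp, hcx,
    Functor.map_comp, ← hcmp]
  have hγ' : (lpullComp f g).hom.app (W (GU V) i) ≫ (lpullIso (f ≫ g) P hP).hom =
      (DCoh.Lpull f).map (lpullIso g P hP).hom ≫ (lpullIso f (pg.obj P) hgP).hom ≫
        DerivedCategory.Qh.map ((cmp f g).hom.app ((HomotopyCategory.quotient _ _).obj P)) := hγ
  rw [reassoc_of% hγ']

end Comp

section Congr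

variable {X Y : Scheme.{u}}

/-- `Lφ^* ≅ Lφ'^*` for equal morphisms -/
noncomputable def lpullCongrIso {φ φ' : X ⟶ Y} (h : φ = φ') [DCoh.HasLpull φ] [DCoh.HasLpull φ'] :
    DCoh.Lpull φ ≅ DCoh.Lpull φ' :=
  eqToIso (by subst h; rfl)

lemma GUmap_refl (U : X.Opens) : GUmap (le_refl U) = 𝟙 (GU U) := by
  have h1 : yoneda.map (homOfLE (le_refl U)) = 𝟙 (yoneda.obj U) := by
    rw [← CategoryTheory.Functor.map_id]
    rfl
  show (ModFree.L X.ringCatSheaf).map (yoneda.map (homOfLE (le_refl U))) = _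
  rw [h1, CategoryTheory.Functor.map_id]
  rfl

lemma θ_congr {φ φ' : X ⟶ Y} (h : φ = φ') [DCoh.HasLpull φ] [DCoh.HasLpull φ'] (V : Y.Opens)
    (i : ℤ) (hV : φ ⁻¹ᵁ V ≤ φ' ⁻¹ᵁ V) :
    (θ φ V i).hom ≫ (singleFunctor X.Modules i).map (GUmap hV) =
      (lpullCongrIso h).hom.app (W (GU V) i) ≫ (θ φ' V i).hom := by
  subst h
  have : GUmap hV = 𝟙 _ := GUmap_refl _
  rw [this, CategoryTheory.Functor.map_id, Category.comp_id]
  simp [lpullCongrIso]

end Congr

section Square

variable {X S X' S' : Scheme.{u}} (f : X ⟶ S) (g : S' ⟶ S) (g' : X' ⟶ X) (f' : X' ⟶ S')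
  (w : g' ≫ f = f' ≫ g)
variable [DCoh.HasLpull f] [DCoh.HasLpull g] [DCoh.HasLpull f'] [DCoh.HasLpull g']
  [DCoh.HasLpull (f' ≫ g)] [DCoh.HasLpull (g' ≫ f)]

/-- the canonical isomorphism `Lf'^* Lg^* ≅ Lg'^* Lf^*` of a commutative square -/
noncomputable def lam : DCoh.Lpull g ⋙ DCoh.Lpull f' ≅ DCoh.Lpull f ⋙ DCoh.Lpull g' :=
  lpullComp f' g ≪≫ lpullCongrIso w.symm ≪≫ (lpullComp g' f).symm

include w in
lemma preimage_le (V : S.Opens) : f' ⁻¹ᵁ (g ⁻¹ᵁ V) ≤ g' ⁻¹ᵁ (f ⁻¹ᵁ V) := by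
  show (f' ≫ g) ⁻¹ᵁ V ≤ (g' ≫ f) ⁻¹ᵁ V
  rw [w]

lemma θ_square (V : S.Opens) (i : ℤ) :
    (DCoh.Lpull f').map (θ g V i).hom ≫ (θ f' (g ⁻¹ᵁ V) i).hom ≫
        (singleFunctor X'.Modules i).map (GUmap (preimage_le f g g' f' w V)) =
      (lam f g g' f' w).hom.app (W (GU V) i) ≫ (DCoh.Lpull g').map (θ f V i).hom ≫
        (θ g' (f ⁻¹ᵁ V) i).hom := by
  have h1 := θ_comp f' g V i
  have h2 := θ_comp g' f V i
  have h3 := θ_congr w.symm V i (preimage_le f g g' f' w V)
  rw [← Category.assoc, h1, h2, Category.assoc, h3]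
  simp [lam]

end Square

end Groth.Agent.Helper9.FBTheta
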