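import Mathlib
import Groth.Agent.Helper9.FBMain1
import Groth.Agent.Helper9.FBNu
import Groth.Agent.Helper9.FBTheta

/-! Transfer of the base change property from the exact functor `g'^*` on derived categories to
`Lg'^*`, and an algebraic comparison lemma. -/

set_option autoImplicit false
set_option backward.isDefEq.respectTransparency false
set_option linter.style.haveILetI false
set_option linter.unusedVariables false
set_option linter.unusedSectionVars false
universe u

namespace Groth.Agent.Helper9.FBTrans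

open CategoryTheory Limits AlgebraicGeometry Opposite TopologicalSpace DerivedCategory
open Groth.Agent.Helper9 Groth.Agent.Helper9.LCAff1 Groth.Agent.Helper9.QP2
  Groth.Agent.Helper9.QP3 Groth.Agent.Helper9.LC3
  Groth.Agent.Helper9.FBMu Groth.Agent.Helper9.FBSheaf Groth.Agent.Helper9.FBTri
  Groth.Agent.Helper9.FBSch Groth.Agent.Helper9.FBAff Groth.Agent.Lead.BCMap
  Groth.Agent.Helper9.FBNu Groth.Agent.Helper9.FBTheta

section Alg

open TensorProduct

variable {R : Type*} [CommRing R] (S : Type*) [CommRing S] [Algebra R S]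
variable {M M' N N' : Type*} [AddCommGroup M] [AddCommGroup M'] [AddCommGroup N]
    [AddCommGroup N'] [Module R M] [Module R M'] [Module R N] [Module R N'] [Module S N]
    [Module S N'] [IsScalarTower R S N] [IsScalarTower R S N']

/-- a map between two base changes lying over a bijection is bijective -/
theorem bijective_of_isBaseChange (γ : M →ₗ[R] N) (γ' : M' →ₗ[R] N')
    (a : M →ₗ[R] M') (b : N →ₗ[S] N') (ha : Function.Bijective a)
    (hc : ∀ m, γ' (a m) = b (γ m)) (h : IsBaseChange S γ) (h' : IsBaseChange S γ') :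
    Function.Bijective b := by
  rw [isBaseChange_iff_bijective] at h h'
  have hcomm := FBAlg.bcLift_comm S a b γ γ' hc
  have h1 : Function.Bijective ((a.baseChange S).restrictScalars R) :=
    ((LinearEquiv.ofBijective a ha).baseChange R S M M').bijective
  have h2 : Function.Bijective ((b.restrictScalars R).comp (bcLift S γ)) := by
    rw [hcomm]
    exact h'.comp h1
  have h3 : ⇑((b.restrictScalars R).comp (bcLift S γ)) = ⇑b ∘ ⇑(bcLift S γ) := rfl
  rw [h3] at h2
  exact (Function.Bijective.of_comp_iff _ h).1 h2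

end Alg

section Transfer

variable {R R' : Type*} [CommRing R] [CommRing R'] [Algebra R R']
variable {C : Type*} [Category C] [Preadditive C]
variable {C' : Type*} [Category C'] [Preadditive C']
variable {L L' : C ⥤ C'} [L.Additive] [L'.Additive] (ν : L ≅ L') (τ : TD R R' L)

/-- transfer of test data along a natural isomorphism -/
def transfer : TD R R' L' where
  T := τ.T
  T' := τ.T'
  ι := τ.ι ≫ ν.hom.app τ.T
  ρ := τ.ρ
  ρ' := τ.ρ'
  comm r := by
    rw [← Category.assoc, τ.comm r, Category.assoc, Category.assoc, ν.hom.naturality]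

theorem BC_transfer (E : C) (h : τ.BC E) : (transfer ν τ).BC E := by
  let a : τ.M E →ₗ[R] (transfer ν τ).M E :=
    { toFun := fun ψ => ψ
      map_add' := fun _ _ => rfl
      map_smul' := fun _ _ => rfl }
  let b : τ.N E →ₗ[R'] (transfer ν τ).N E :=
    { toFun := fun χ => TD.N.mk (transfer ν τ) (TD.N.hom τ χ ≫ ν.hom.app E)
      map_add' := fun χ χ' => Preadditive.add_comp _ _ _ _ _ _
      map_smul' := fun r χ => Category.assoc _ _ _ }
  refine FBAlg.isBaseChange_of_bijective R' (τ.γ E) ((transfer ν τ).γ E) a b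
    ⟨fun _ _ h => h, fun ψ => ⟨ψ, rfl⟩⟩ ?_ ?_ h
  · exact ⟨fun χ χ' h => (cancel_mono (ν.hom.app E)).1 h,
      fun χ => ⟨TD.N.mk τ (TD.N.hom (transfer ν τ) χ ≫ ν.inv.app E), by
        show (TD.N.hom (transfer ν τ) χ ≫ ν.inv.app E) ≫ ν.hom.app E = χ
        rw [Category.assoc, Iso.inv_hom_id_app, Category.comp_id]
        rfl⟩⟩
  · intro ψ
    show (τ.ι ≫ ν.hom.app τ.T) ≫ L'.map (ψ : τ.T ⟶ E) = (τ.ι ≫ L.map (ψ : τ.T ⟶ E)) ≫ ν.hom.app E
    rw [Category.assoc, Category.assoc, ν.hom.naturality]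

end Transfer

section Lp

attribute [local instance] HasDerivedCategory.standard
attribute [local instance] pfl pfc additive_Lpull

variable {X' X : Scheme.{u}} (g' : X' ⟶ X) [Flat g'] [DCoh.HasLpull g']
variable {R R' : Type u} [CommRing R] [CommRing R'] [Algebra R R']
variable {W₀ : X.Opens} {W₀' : X'.Opens} (hW : W₀' ≤ g' ⁻¹ᵁ W₀) (a : R →+* Γ(X, W₀))
  (a' : R' →+* Γ(X', W₀'))
  (haa' : ∀ r, g'.appLE W₀ W₀' hW (a r) = a' (algebraMap R R' r))
variable (U : X.Opens) (U' : X'.Opens) (hU : U ≤ W₀) (hU' : U' ≤ W₀') (hUU' : U' ≤ g' ⁻¹ᵁ U)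
  (m : ℤ)

/-- the test data for `Lg'^*` attached to a pair of opens -/
noncomputable def tdL : TD R R' (DCoh.Lpull g') :=
  transfer (ν g') ((sd g' hW a a' haa' U U' hU hU' hUU').toTD m)

lemma tdL_ι : (tdL g' hW a a' haa' U U' hU hU' hUU' m).ι =
    (singleFunctor X'.Modules m).map (GUmap hUU') ≫ (QP4b.θ g' U m).inv := by
  have h := ν_θ g' U m
  have h' : ((Scheme.Modules.pullback g').mapDerivedCategorySingleFunctor m).inv.app (GU U) ≫
      (ν g').hom.app (W (GU U) m) =
      (singleFunctor X'.Modules m).map (QP4b.pullGU g' U).hom ≫ (QP4b.θ g' U m).inv := by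
    rw [← Iso.app_inv, Iso.inv_comp_eq, ← Category.assoc, Iso.eq_comp_inv]
    exact h
  show ((singleFunctor X'.Modules m).map (GUmap hUU' ≫ (QP4b.pullGU g' U).inv) ≫
    ((Scheme.Modules.pullback g').mapDerivedCategorySingleFunctor m).inv.app (GU U)) ≫
      (ν g').hom.app (W (GU U) m) = _
  rw [Category.assoc, h', ← Functor.map_comp_assoc, Category.assoc, Iso.inv_hom_id,
    Category.comp_id]

lemma tdL_ρ (r : R) : ((tdL g' hW a a' haa' U U' hU hU' hUU' m).ρ r : W (GU U) m ⟶ W (GU U) m) =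
    (singleFunctor X.Modules m).map (mulGU U (strT a U hU r)) := rfl

lemma tdL_ρ' (r : R') :
    ((tdL g' hW a a' haa' U U' hU hU' hUU' m).ρ' r : W (GU U') m ⟶ W (GU U') m) =
      (singleFunctor X'.Modules m).map (mulGU U' (strT a' U' hU' r)) := rfl

include haa' in
/-- the affine case, for `Lg'^*` -/
theorem tdL_BC_affine {U : X.Opens} {U' : X'.Opens} (hU : U ≤ W₀) (hU' : U' ≤ W₀')
    (hUU' : U' ≤ g' ⁻¹ᵁ U) (hUa : IsAffineOpen U) (hU'a : IsAffineOpen U')
    (hpo : IsPushout (CommRingCat.ofHom (strT a U hU)) (CommRingCat.ofHom (algebraMap R R'))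
      (g'.appLE U U' hUU') (CommRingCat.ofHom (strT a' U' hU')))
    (m : ℤ) (E : DCoh.D X) (hE : DCoh.IsQCohD E) :
    (tdL g' hW a a' haa' U U' hU hU' hUU' m).BC E :=
  BC_transfer (ν g') _ E (affine_BC g' hW a a' haa' hU hU' hUU' hUa hU'a hpo m E hE)

include haa' in
/-- the quasi-compact quasi-separated case, for `Lg'^*` -/
theorem tdL_BC_main [Module.Flat R R']
    (H : ∀ (U : X.Opens) (hU : U ≤ W₀), IsAffineOpen U →
      IsAffineOpen (FBMain1.pre g' W₀' U) ∧
        IsPushout (CommRingCat.ofHom (strT a U hU)) (CommRingCat.ofHom (algebraMap R R'))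
          (g'.appLE U (FBMain1.pre g' W₀' U) (FBMain1.pre_le_preimage g' W₀' U))
          (CommRingCat.ofHom (strT a' (FBMain1.pre g' W₀' U) (FBMain1.pre_le g' W₀' U))))
    (U : X.Opens) (hU : U ≤ W₀) (hUc : IsCompact (U : Set X))
    (hUs : IsQuasiSeparated (U : Set X)) (m : ℤ) (E : DCoh.D X) (hE : DCoh.IsQCohD E) :
    (tdL g' hW a a' haa' U (FBMain1.pre g' W₀' U) hU (FBMain1.pre_le g' W₀' U)
      (FBMain1.pre_le_preimage g' W₀' U) m).BC E :=
  BC_transfer (ν g') _ E (FBMain1.main g' hW a a' haa' H U hU hUc hUs m E hE)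

end Lp

end Groth.Agent.Helper9.FBTrans
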