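import Mathlib
import Groth.Agent.Helper9.FBTrans
import Groth.Agent.Helper9.FBFormal
import Groth.Agent.Helper9.FBIso

/-! Assembly of flat base change for `Rf_*` on `D_QCoh`: the comparison of the two base change
properties (on the base and on the total space) through the adjunctions. -/

set_option autoImplicit false
set_option backward.isDefEq.respectTransparency false
set_option linter.style.haveILetI false
set_option linter.unusedVariables false
set_option linter.unusedSectionVars false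
universe u

namespace Groth.Agent.Helper9.FBSq

open CategoryTheory Limits AlgebraicGeometry Opposite TopologicalSpace DerivedCategory
open Groth.Agent.Helper9 Groth.Agent.Helper9.LCAff1 Groth.Agent.Helper9.QP2
  Groth.Agent.Helper9.QP3 Groth.Agent.Helper9.LC3
  Groth.Agent.Helper9.FBMu Groth.Agent.Helper9.FBSheaf Groth.Agent.Helper9.FBTri
  Groth.Agent.Helper9.FBSch Groth.Agent.Helper9.FBAff Groth.Agent.Lead.BCMap
  Groth.Agent.Helper9.FBNu Groth.Agent.Helper9.FBTheta Groth.Agent.Helper9.FBTrans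
  Groth.Agent.Helper9.FBFormal

attribute [local instance] HasDerivedCategory.standard
attribute [local instance] pfl pfc additive_Lpull

lemma strT_self {Z : Scheme.{u}} {T : Type u} [CommRing T] {Z₀ : Z.Opens} (φ₀ : T →+* Γ(Z, Z₀))
    (t : T) : strT φ₀ Z₀ le_rfl t = φ₀ t := by
  show (Z.presheaf.map (homOfLE (le_refl Z₀)).op) (φ₀ t) = φ₀ t
  have : (homOfLE (le_refl Z₀)).op = 𝟙 (op Z₀) := rfl
  rw [this, CategoryTheory.Functor.map_id]
  rfl

section Assemble

variable {X S X' S' : Scheme.{u}} (f : X ⟶ S) (g : S' ⟶ S) (g' : X' ⟶ X) (f' : X' ⟶ S')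
  (w : g' ≫ f = f' ≫ g) [Flat g] [Flat g']
  [DCoh.HasRpush f] [DCoh.HasRpush g] [DCoh.HasRpush f'] [DCoh.HasRpush g']
  [DCoh.HasLpull f] [DCoh.HasLpull g] [DCoh.HasLpull f'] [DCoh.HasLpull g']
  [DCoh.HasLpull (f' ≫ g)] [DCoh.HasLpull (g' ≫ f)]
variable {R R' : Type u} [CommRing R] [CommRing R'] [Algebra R R']
variable {V : S.Opens} {V' : S'.Opens} (e : V' ≤ g ⁻¹ᵁ V) (aS : R →+* Γ(S, V))
  (aS' : R' →+* Γ(S', V'))
  (haaS : ∀ r, g.appLE V V' e (aS r) = aS' (algebraMap R R' r))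

include w e in
lemma hW : f' ⁻¹ᵁ V' ≤ g' ⁻¹ᵁ (f ⁻¹ᵁ V) :=
  (f'.preimage_mono e).trans (preimage_le f g g' f' w V)

include haaS in
lemma haaX (r : R) :
    g'.appLE (f ⁻¹ᵁ V) (f' ⁻¹ᵁ V') (hW f g g' f' w e) (((f.app V).hom.comp aS) r) =
      ((f'.app V').hom.comp aS') (algebraMap R R' r) := by
  have h1 : f.app V ≫ g'.appLE (f ⁻¹ᵁ V) (f' ⁻¹ᵁ V') (hW f g g' f' w e) =
      g.appLE V V' e ≫ f'.app V' := by
    rw [← Scheme.Hom.appLE_eq_app, ← Scheme.Hom.appLE_eq_app (f := f'),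
      Scheme.Hom.appLE_comp_appLE, Scheme.Hom.appLE_comp_appLE]
    simp only [w]
  have h2 := congrArg (fun φ => φ.hom (aS r)) h1
  simp only [CommRingCat.hom_comp, RingHom.comp_apply] at h2
  rw [RingHom.comp_apply, RingHom.comp_apply, ← haaS r]
  exact h2

/-- the test data on the base -/
noncomputable def τI (m : ℤ) : TD R R' (DCoh.Lpull g) :=
  tdL g e aS aS' haaS V V' le_rfl le_rfl e m

/-- the test data on the total space -/
noncomputable def τII (m : ℤ) : TD R R' (DCoh.Lpull g') :=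
  tdL g' (hW f g g' f' w e) ((f.app V).hom.comp aS) ((f'.app V').hom.comp aS')
    (haaX f g g' f' w e aS aS' haaS) (f ⁻¹ᵁ V) (f' ⁻¹ᵁ V') le_rfl le_rfl (hW f g g' f' w e) m

open Groth.Agent.Helper4.SchAdj in
/-- the canonical base change map -/
noncomputable abbrev β (E : DCoh.D X) :
    (DCoh.Lpull g).obj ((DCoh.Rpush f).obj E) ⟶ (DCoh.Rpush f').obj ((DCoh.Lpull g').obj E) :=
  bc (adj g) (adj g') (eCan (adj f) (adj g) (adj f') (adj g') (lam f g g' f' w)) E

open Groth.Agent.Helper4.SchAdj in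
/-- the comparison on the `M` side -/
noncomputable def aMap (m : ℤ) (E : DCoh.D X) :
    (τI g e aS aS' haaS m).M ((DCoh.Rpush f).obj E) →ₗ[R]
      (τII f g g' f' w e aS aS' haaS m).M E where
  toFun ψ := TD.M.mk (τII f g g' f' w e aS aS' haaS m)
    ((QP4b.θ f V m).inv ≫ ((adj f).homEquiv _ _).symm (TD.M.hom (τI g e aS aS' haaS m) ψ))
  map_add' ψ ψ' := by
    show (QP4b.θ f V m).inv ≫ ((adj f).homEquiv _ _).symm
        (TD.M.hom (τI g e aS aS' haaS m) ψ + TD.M.hom (τI g e aS aS' haaS m) ψ') =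
      (QP4b.θ f V m).inv ≫ ((adj f).homEquiv _ _).symm (TD.M.hom (τI g e aS aS' haaS m) ψ) +
        (QP4b.θ f V m).inv ≫ ((adj f).homEquiv _ _).symm (TD.M.hom (τI g e aS aS' haaS m) ψ')
    rw [Adjunction.homEquiv_counit, Adjunction.homEquiv_counit, Adjunction.homEquiv_counit,
      Functor.map_add, Preadditive.add_comp, Preadditive.comp_add]
  map_smul' r ψ := by
    show (QP4b.θ f V m).inv ≫ ((adj f).homEquiv _ _).symm
        ((singleFunctor S.Modules m).map (mulGU V (strT aS V le_rfl r)) ≫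
          TD.M.hom (τI g e aS aS' haaS m) ψ) =
      (singleFunctor X.Modules m).map (mulGU (f ⁻¹ᵁ V)
          (strT ((f.app V).hom.comp aS) (f ⁻¹ᵁ V) le_rfl r)) ≫
        (QP4b.θ f V m).inv ≫ ((adj f).homEquiv _ _).symm (TD.M.hom (τI g e aS aS' haaS m) ψ)
    rw [Adjunction.homEquiv_naturality_left_symm, ← Category.assoc, θ_inv_mul, Category.assoc,
      strT_self, strT_self]
    rfl

open Groth.Agent.Helper4.SchAdj in
/-- the comparison on the `N` side -/
noncomputable def bMap (m : ℤ) (E : DCoh.D X) :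
    (τI g e aS aS' haaS m).N ((DCoh.Rpush f).obj E) →ₗ[R']
      (τII f g g' f' w e aS aS' haaS m).N E where
  toFun χ := TD.N.mk (τII f g g' f' w e aS aS' haaS m)
    ((QP4b.θ f' V' m).inv ≫ ((adj f').homEquiv _ _).symm
      (TD.N.hom (τI g e aS aS' haaS m) χ ≫ β f g g' f' w E))
  map_add' χ χ' := by
    show (QP4b.θ f' V' m).inv ≫ ((adj f').homEquiv _ _).symm
        ((TD.N.hom (τI g e aS aS' haaS m) χ + TD.N.hom (τI g e aS aS' haaS m) χ') ≫
          β f g g' f' w E) =
      (QP4b.θ f' V' m).inv ≫ ((adj f').homEquiv _ _).symm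
          (TD.N.hom (τI g e aS aS' haaS m) χ ≫ β f g g' f' w E) +
        (QP4b.θ f' V' m).inv ≫ ((adj f').homEquiv _ _).symm
          (TD.N.hom (τI g e aS aS' haaS m) χ' ≫ β f g g' f' w E)
    rw [Adjunction.homEquiv_counit, Adjunction.homEquiv_counit, Adjunction.homEquiv_counit,
      Preadditive.add_comp, Functor.map_add, Preadditive.add_comp, Preadditive.comp_add]
  map_smul' r χ := by
    show (QP4b.θ f' V' m).inv ≫ ((adj f').homEquiv _ _).symm
        (((singleFunctor S'.Modules m).map (mulGU V' (strT aS' V' le_rfl r)) ≫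
          TD.N.hom (τI g e aS aS' haaS m) χ) ≫ β f g g' f' w E) =
      (singleFunctor X'.Modules m).map (mulGU (f' ⁻¹ᵁ V')
          (strT ((f'.app V').hom.comp aS') (f' ⁻¹ᵁ V') le_rfl r)) ≫
        (QP4b.θ f' V' m).inv ≫ ((adj f').homEquiv _ _).symm
          (TD.N.hom (τI g e aS aS' haaS m) χ ≫ β f g g' f' w E)
    rw [Category.assoc, Adjunction.homEquiv_naturality_left_symm, ← Category.assoc, θ_inv_mul,
      Category.assoc, strT_self, strT_self]
    rfl

/-- the inverted form of `θ_square` -/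
lemma θ_square_inv (m : ℤ) :
    (QP4b.θ f' (g ⁻¹ᵁ V) m).inv ≫ (DCoh.Lpull f').map (QP4b.θ g V m).inv ≫
        (lam f g g' f' w).hom.app (W (GU V) m) =
      (singleFunctor X'.Modules m).map (GUmap (preimage_le f g g' f' w V)) ≫
        (QP4b.θ g' (f ⁻¹ᵁ V) m).inv ≫ (DCoh.Lpull g').map (QP4b.θ f V m).inv := by
  have h := θ_square f g g' f' w V m
  let iA := (DCoh.Lpull f').mapIso (QP4b.θ g V m)
  let iC := (DCoh.Lpull g').mapIso (QP4b.θ f V m)
  show (QP4b.θ f' (g ⁻¹ᵁ V) m).inv ≫ iA.inv ≫ (lam f g g' f' w).hom.app (W (GU V) m) =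
    (singleFunctor X'.Modules m).map (GUmap (preimage_le f g g' f' w V)) ≫
      (QP4b.θ g' (f ⁻¹ᵁ V) m).inv ≫ iC.inv
  rw [Iso.inv_comp_eq, Iso.inv_comp_eq, ← Category.assoc, ← Category.assoc, ← Category.assoc,
    Iso.eq_comp_inv, Iso.eq_comp_inv]
  simp only [Category.assoc]
  exact h.symm

open Groth.Agent.Helper4.SchAdj in
lemma comm_ab (m : ℤ) (E : DCoh.D X) (ψ : (τI g e aS aS' haaS m).M ((DCoh.Rpush f).obj E)) :
    (τII f g g' f' w e aS aS' haaS m).γ E (aMap f g g' f' w e aS aS' haaS m E ψ) =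
      bMap f g g' f' w e aS aS' haaS m E ((τI g e aS aS' haaS m).γ ((DCoh.Rpush f).obj E) ψ) := by
  let ψ₀ : W (GU V) m ⟶ (DCoh.Rpush f).obj E := TD.M.hom (τI g e aS aS' haaS m) ψ
  show (τII f g g' f' w e aS aS' haaS m).ι ≫ (DCoh.Lpull g').map
      ((QP4b.θ f V m).inv ≫ ((adj f).homEquiv _ _).symm ψ₀) =
    (QP4b.θ f' V' m).inv ≫ ((adj f').homEquiv _ _).symm
      (((τI g e aS aS' haaS m).ι ≫ (DCoh.Lpull g).map ψ₀) ≫ β f g g' f' w E)
  have hιI : (τI g e aS aS' haaS m).ι =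
      (singleFunctor S'.Modules m).map (GUmap e) ≫ (QP4b.θ g V m).inv := tdL_ι _ _ _ _ _ _ _ _ _ _ _
  have hιII : (τII f g g' f' w e aS aS' haaS m).ι =
      (singleFunctor X'.Modules m).map (GUmap (hW f g g' f' w e)) ≫
        (QP4b.θ g' (f ⁻¹ᵁ V) m).inv := tdL_ι _ _ _ _ _ _ _ _ _ _ _
  have hmate := mate_formula (adj f) (adj g) (adj f') (adj g') (lam f g g' f' w) E
  have hlam := (lam f g g' f' w).hom.naturality ψ₀
  simp only [Functor.comp_obj, Functor.comp_map] at hlam
  have hnat := θ_inv_nat f' e m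
  have hsq := θ_square_inv f g g' f' w (V := V) m
  rw [hιI, hιII, Category.assoc, Adjunction.homEquiv_naturality_left_symm, hmate]
  simp only [Functor.map_comp, Category.assoc]
  rw [reassoc_of% hlam, reassoc_of% hnat, reassoc_of% hsq, ← Functor.map_comp_assoc, GUmap_comp,
    Adjunction.homEquiv_counit, Functor.map_comp]

open Groth.Agent.Helper4.SchAdj in
/-- composition with the base change map is bijective on maps out of `GU V' [-m]` -/
theorem bijective_comp_β (m : ℤ) (E : DCoh.D X)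
    (hI : (τI g e aS aS' haaS m).BC ((DCoh.Rpush f).obj E))
    (hII : (τII f g g' f' w e aS aS' haaS m).BC E) :
    Function.Bijective (fun χ : W (GU V') m ⟶ (DCoh.Lpull g).obj ((DCoh.Rpush f).obj E) =>
      χ ≫ β f g g' f' w E) := by
  have ha : Function.Bijective (aMap f g g' f' w e aS aS' haaS m E) := by
    have h1 := LCTil2.bijective_precomp (QP4b.θ f V m).symm E
    have h2 := ((adj f).homEquiv (W (GU V) m) E).symm.bijective
    exact h1.comp h2
  have hb := bijective_of_isBaseChange R' ((τI g e aS aS' haaS m).γ ((DCoh.Rpush f).obj E))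
    ((τII f g g' f' w e aS aS' haaS m).γ E) (aMap f g g' f' w e aS aS' haaS m E)
    (bMap f g g' f' w e aS aS' haaS m E) ha (comm_ab f g g' f' w e aS aS' haaS m E) hI hII
  have h1 := LCTil2.bijective_precomp (QP4b.θ f' V' m).symm ((DCoh.Lpull g').obj E)
  have h2 := ((adj f').homEquiv (W (GU V') m) ((DCoh.Lpull g').obj E)).symm.bijective
  have h3 : ⇑(bMap f g g' f' w e aS aS' haaS m E) =
      ((fun s => (QP4b.θ f' V' m).symm.hom ≫ s) ∘
        ⇑((adj f').homEquiv (W (GU V') m) ((DCoh.Lpull g').obj E)).symm) ∘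
      (fun χ : W (GU V') m ⟶ (DCoh.Lpull g).obj ((DCoh.Rpush f).obj E) =>
        χ ≫ β f g g' f' w E) := rfl
  rw [h3] at hb
  exact (Function.Bijective.of_comp_iff' (h1.comp h2) _).1 hb

end Assemble

end Groth.Agent.Helper9.FBSq
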