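import Mathlib
import Groth.Agent.Helper9.FBSq
import Groth.Agent.Helper9.QP7
import Groth.Agent.Helper9.QcLpull1

/-! Flat base change for `Rf_*` on `D_QCoh`, `f` quasi-compact quasi-separated. -/

set_option autoImplicit false
set_option backward.isDefEq.respectTransparency false
set_option linter.style.haveILetI false
set_option linter.unusedVariables false
set_option linter.unusedSectionVars false
universe u

namespace Groth.Agent.Helper9.FBFinal

open CategoryTheory Limits AlgebraicGeometry Opposite TopologicalSpace DerivedCategory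
open Groth.Agent.Helper9 Groth.Agent.Helper9.LCAff1 Groth.Agent.Helper9.QP2
  Groth.Agent.Helper9.QP3 Groth.Agent.Helper9.LC3
  Groth.Agent.Helper9.FBMu Groth.Agent.Helper9.FBSheaf Groth.Agent.Helper9.FBTri
  Groth.Agent.Helper9.FBSch Groth.Agent.Helper9.FBAff Groth.Agent.Lead.BCMap
  Groth.Agent.Helper9.FBNu Groth.Agent.Helper9.FBTheta Groth.Agent.Helper9.FBTrans
  Groth.Agent.Helper9.FBFormal Groth.Agent.Helper9.FBSq

attribute [local instance] HasDerivedCategory.standard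
attribute [local instance] pfl pfc additive_Lpull

section Congr

variable {X' X : Scheme.{u}} (g' : X' ⟶ X) [Flat g'] [DCoh.HasLpull g']
variable {R R' : Type u} [CommRing R] [CommRing R'] [Algebra R R']
variable {W₀ : X.Opens} {W₀' : X'.Opens} (hW : W₀' ≤ g' ⁻¹ᵁ W₀) (a : R →+* Γ(X, W₀))
  (a' : R' →+* Γ(X', W₀'))
  (haa' : ∀ r, g'.appLE W₀ W₀' hW (a r) = a' (algebraMap R R' r))

lemma tdL_BC_congr {U : X.Opens} {U' U'' : X'.Opens} (hU : U ≤ W₀) (hU' : U' ≤ W₀')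
    (hUU' : U' ≤ g' ⁻¹ᵁ U) (hU'' : U'' ≤ W₀') (hUU'' : U'' ≤ g' ⁻¹ᵁ U) (heq : U' = U'') (m : ℤ)
    (E : DCoh.D X) (h : (tdL g' hW a a' haa' U U' hU hU' hUU' m).BC E) :
    (tdL g' hW a a' haa' U U'' hU hU'' hUU'' m).BC E := by
  subst heq
  exact h

end Congr

section Main

variable {X S X' S' : Scheme.{u}} (f : X ⟶ S) (g : S' ⟶ S) (g' : X' ⟶ X) (f' : X' ⟶ S')
  (h : IsPullback g' f' f g) [QuasiCompact f] [QuasiSeparated f] [Flat g]
  [DCoh.HasRpush f] [DCoh.HasRpush g] [DCoh.HasRpush f'] [DCoh.HasRpush g']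
  [DCoh.HasLpull f] [DCoh.HasLpull g] [DCoh.HasLpull f'] [DCoh.HasLpull g']
  [DCoh.HasLpull (f' ≫ g)] [DCoh.HasLpull (g' ≫ f)]

include h in
theorem flat_g' : Flat g' := MorphismProperty.of_isPullback h.flip inferInstance

include h in
theorem qc_f' : QuasiCompact f' := MorphismProperty.of_isPullback h inferInstance

include h in
theorem qs_f' : QuasiSeparated f' := MorphismProperty.of_isPullback h inferInstance

include h in
/-- the hypothesis (H) for the total space -/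
theorem hyp_H {V : S.Opens} {V' : S'.Opens} (e : V' ≤ g ⁻¹ᵁ V) (hV : IsAffineOpen V)
    (hV' : IsAffineOpen V') (U : X.Opens) (hU : U ≤ f ⁻¹ᵁ V) (hUa : IsAffineOpen U) :
    letI : Algebra Γ(S, V) Γ(S', V') := (g.appLE V V' e).hom.toAlgebra
    IsAffineOpen (FBMain1.pre g' (f' ⁻¹ᵁ V') U) ∧
      IsPushout (CommRingCat.ofHom (strT ((f.app V).hom.comp (RingHom.id Γ(S, V))) U hU))
        (CommRingCat.ofHom (algebraMap Γ(S, V) Γ(S', V')))
        (g'.appLE U (FBMain1.pre g' (f' ⁻¹ᵁ V') U) (FBMain1.pre_le_preimage g' (f' ⁻¹ᵁ V') U))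
        (CommRingCat.ofHom (strT ((f'.app V').hom.comp (RingHom.id Γ(S', V')))
          (FBMain1.pre g' (f' ⁻¹ᵁ V') U) (FBMain1.pre_le g' (f' ⁻¹ᵁ V') U))) := by
  have hU'eq : FBMain1.pre g' (f' ⁻¹ᵁ V') U = g' ⁻¹ᵁ U ⊓ f' ⁻¹ᵁ V' := rfl
  constructor
  · haveI : IsAffine (V : Scheme) := hV
    haveI : IsAffine (V' : Scheme) := hV'
    haveI : IsAffine (U : Scheme) := hUa
    exact .of_isIso (Scheme.Hom.isPullback_resLE h e hU hU'eq).isoPullback.hom
  · exact (isIso_pushoutSection_iff h e hU hU'eq).mp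
      (isIso_pushoutSection_of_isAffineOpen h e hU hU'eq hV hV' hUa)

include h in
/-- **flat base change**: the canonical base change map is an isomorphism on `D_QCoh` -/
theorem isIso_β (E : DCoh.D X) (hE : DCoh.IsQCohD E) : IsIso (β f g g' f' h.w E) := by
  haveI : Flat g' := flat_g' f g g' f' h
  haveI : QuasiCompact f' := qc_f' f g g' f' h
  haveI : QuasiSeparated f' := qs_f' f g g' f' h
  have hRf : DCoh.IsQCohD ((DCoh.Rpush f).obj E) := QP7.isQCohD_Rpush f E hE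
  have hK : DCoh.IsQCohD ((DCoh.Lpull g).obj ((DCoh.Rpush f).obj E)) :=
    QcLpull1.isQCohD_lpull g _ hRf
  have hK' : DCoh.IsQCohD ((DCoh.Rpush f').obj ((DCoh.Lpull g').obj E)) :=
    QP7.isQCohD_Rpush f' _ (QcLpull1.isQCohD_lpull g' E hE)
  apply FBIso.isIso_of_bijective_comp hK hK'
  intro y
  obtain ⟨_, ⟨V₀, hV0, rfl⟩, hyV, -⟩ :=
    S.isBasis_affineOpens.exists_subset_of_mem_open (Set.mem_univ (g y)) isOpen_univ
  obtain ⟨V, hVV⟩ : ∃ V : S.Opens, V = V₀ := ⟨V₀, rfl⟩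
  subst hVV
  have hV : IsAffineOpen V := hV0
  obtain ⟨_, ⟨V₀', hV0', rfl⟩, hyV', hV'V⟩ :=
    S'.isBasis_affineOpens.exists_subset_of_mem_open (show y ∈ (g ⁻¹ᵁ V : Set S') from hyV)
      (g ⁻¹ᵁ V).2
  obtain ⟨V', hVV'⟩ : ∃ V' : S'.Opens, V' = V₀' := ⟨V₀', rfl⟩
  subst hVV'
  have hV' : IsAffineOpen V' := hV0'
  have e : V' ≤ g ⁻¹ᵁ V := hV'V
  refine ⟨V', hV', hyV', fun q => ?_⟩
  letI alg : Algebra Γ(S, V) Γ(S', V') := (g.appLE V V' e).hom.toAlgebra
  haveI : Module.Flat Γ(S, V) Γ(S', V') :=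
    HasRingHomProperty.appLE (P := @Flat) g inferInstance ⟨V, hV⟩ ⟨V', hV'⟩ e
  have haaS : ∀ r : Γ(S, V), g.appLE V V' e (RingHom.id Γ(S, V) r) =
      RingHom.id Γ(S', V') (algebraMap Γ(S, V) Γ(S', V') r) := fun r => rfl
  refine bijective_comp_β f g g' f' h.w e (RingHom.id Γ(S, V)) (RingHom.id Γ(S', V')) haaS q E ?_ ?_
  · -- the base
    have hpo : IsPushout (CommRingCat.ofHom (strT (RingHom.id Γ(S, V)) V le_rfl))
        (CommRingCat.ofHom (algebraMap Γ(S, V) Γ(S', V'))) (g.appLE V V' e)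
        (CommRingCat.ofHom (strT (RingHom.id Γ(S', V')) V' le_rfl)) := by
      have h1 : CommRingCat.ofHom (strT (RingHom.id Γ(S, V)) V le_rfl) = 𝟙 _ := by
        ext r
        exact strT_self _ r
      have h2 : CommRingCat.ofHom (strT (RingHom.id Γ(S', V')) V' le_rfl) = 𝟙 _ := by
        ext r
        exact strT_self _ r
      rw [h1, h2]
      exact IsPushout.id_horiz (g.appLE V V' e)
    exact tdL_BC_affine g e (RingHom.id Γ(S, V)) (RingHom.id Γ(S', V')) haaS le_rfl le_rfl e hV hV'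
      hpo q _ hRf
  · -- the total space
    have hmain := tdL_BC_main g' (hW f g g' f' h.w e) ((f.app V).hom.comp (RingHom.id Γ(S, V)))
      ((f'.app V').hom.comp (RingHom.id Γ(S', V')))
      (haaX f g g' f' h.w e (RingHom.id Γ(S, V)) (RingHom.id Γ(S', V')) haaS)
      (fun U hU hUa => hyp_H f g g' f' h e hV hV' U hU hUa) (f ⁻¹ᵁ V) le_rfl
      (f.isCompact_preimage hV.isCompact) (f.isQuasiSeparated_preimage hV.isQuasiSeparated) q E hE
    have heq : FBMain1.pre g' (f' ⁻¹ᵁ V') (f ⁻¹ᵁ V) = f' ⁻¹ᵁ V' :=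
      inf_eq_right.mpr (hW f g g' f' h.w e)
    exact tdL_BC_congr g' _ _ _ _ le_rfl _ _ le_rfl (hW f g g' f' h.w e) heq q E hmain

end Main

section Statement

variable {X S X' S' : Scheme.{u}} (f : X ⟶ S) (g : S' ⟶ S) (g' : X' ⟶ X) (f' : X' ⟶ S')
  (h : IsPullback g' f' f g) [QuasiCompact f] [QuasiSeparated f] [Flat g]
  [DCoh.HasRpush f] [DCoh.HasRpush g] [DCoh.HasLpull g] [DCoh.HasRpush f'] [DCoh.HasRpush g']
  [DCoh.HasLpull g']

include h in
/-- flat base change for derived direct images, with arbitrary adjunction data -/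
theorem main (adjg : DCoh.Lpull g ⊣ DCoh.Rpush g) (adjg' : DCoh.Lpull g' ⊣ DCoh.Rpush g') :
    ∃ e : DCoh.Rpush g' ⋙ DCoh.Rpush f ≅ DCoh.Rpush f' ⋙ DCoh.Rpush g,
      ∀ E : DCoh.D X, DCoh.IsQCohD E → IsIso (DCoh.baseChangeApp adjg adjg' e E) := by
  haveI : DCoh.HasLpull f := Lpull1.hasLpull f
  haveI : DCoh.HasLpull f' := Lpull1.hasLpull f'
  haveI : DCoh.HasLpull (f' ≫ g) := Lpull1.hasLpull _
  haveI : DCoh.HasLpull (g' ≫ f) := Lpull1.hasLpull _
  obtain ⟨e₁, he₁⟩ := exists_e (Groth.Agent.Helper4.SchAdj.adj g) (Groth.Agent.Helper4.SchAdj.adj g')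
    adjg adjg' (eCan (Groth.Agent.Helper4.SchAdj.adj f) (Groth.Agent.Helper4.SchAdj.adj g)
      (Groth.Agent.Helper4.SchAdj.adj f') (Groth.Agent.Helper4.SchAdj.adj g')
      (lam f g g' f' h.w))
  refine ⟨e₁, fun E hE => ?_⟩
  have h1 : DCoh.baseChangeApp adjg adjg' e₁ E = bc adjg adjg' e₁ E := rfl
  rw [h1, he₁ E]
  exact isIso_β f g g' f' h E hE

end Statement

end Groth.Agent.Helper9.FBFinal
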