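import Mathlib
import Groth.Agent.Helper3.DRingBC3

/-! Joint faithfulness and joint finiteness for a finite flat family of algebras which is jointly
surjective on spectra. -/

set_option autoImplicit false
set_option linter.style.haveILetI false
set_option linter.unusedVariables false
set_option linter.unusedSectionVars false
universe u

namespace Groth.Agent.Helper9.FD1

open TensorProduct Groth.Agent.Helper3.DRingLib

variable {A : Type u} [CommRing A] {J : Type*} (B : J → Type u) [∀ j, CommRing (B j)]
  [∀ j, Algebra A (B j)] [∀ j, Module.Flat A (B j)]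

/-- the family is jointly surjective on prime spectra -/
def JointlySurjective : Prop :=
  ∀ p : PrimeSpectrum A, ∃ (j : J) (q : PrimeSpectrum (B j)), q.comap (algebraMap A (B j)) = p

variable {B}

theorem jointlyFaithful (hs : JointlySurjective (A := A) B) : JointlyFaithful A B := by
  intro M _ _ h
  refine ⟨fun x y => ?_⟩
  suffices hz : ∀ m : M, m = 0 by rw [hz x, hz y]
  intro m
  by_contra hm
  have hne : (Submodule.span A {m}).annihilator ≠ ⊤ := by
    intro htop
    apply hm
    have h1 : (1 : A) ∈ (Submodule.span A {m}).annihilator := by rw [htop]; trivial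
    have := (Submodule.mem_annihilator_span_singleton m 1).1 h1
    simpa using this
  obtain ⟨𝔪, h𝔪, hle⟩ := Ideal.exists_le_maximal _ hne
  obtain ⟨j, q, hq⟩ := hs ⟨𝔪, h𝔪.isPrime⟩
  -- the map `A → M, a ↦ a • m` has kernel `I = Ann(m)`; tensoring with `B j` stays injective
  let I : Ideal A := (Submodule.span A {m}).annihilator
  let ι : (A ⧸ I) →ₗ[A] M := Submodule.liftQ I (LinearMap.toSpanSingleton A M m) (by
    intro a ha
    rw [LinearMap.mem_ker, LinearMap.toSpanSingleton_apply]
    exact (Submodule.mem_annihilator_span_singleton m a).1 ha)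
  have hι : Function.Injective ι := by
    rw [← LinearMap.ker_eq_bot, Submodule.ker_liftQ_eq_bot']
    ext a
    rw [LinearMap.mem_ker, LinearMap.toSpanSingleton_apply]
    exact (Submodule.mem_annihilator_span_singleton m a)
  have hinj : Function.Injective (LinearMap.lTensor (B j) ι) :=
    Module.Flat.lTensor_preserves_injective_linearMap ι hι
  haveI := h j
  have hsub : Subsingleton (B j ⊗[A] (A ⧸ I)) := hinj.subsingleton
  -- but `B j ⊗ A/I = B j / I B j ≠ 0`
  have hsub2 : Subsingleton (B j ⧸ (I • ⊤ : Submodule A (B j))) :=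
    (TensorProduct.tensorQuotEquivQuotSMul (B j) I).symm.toEquiv.subsingleton
  have htop : (I • ⊤ : Submodule A (B j)) = ⊤ := Submodule.Quotient.subsingleton_iff.1 hsub2
  have hle2 : (I • ⊤ : Submodule A (B j)) ≤ q.asIdeal.restrictScalars A := by
    rw [Submodule.smul_le]
    intro a ha b _
    have ha' : a ∈ 𝔪 := hle ha
    have h2 : algebraMap A (B j) a ∈ q.asIdeal := by
      have h3 : a ∈ (q.comap (algebraMap A (B j))).asIdeal := by rw [hq]; exact ha'
      exact h3
    show a • b ∈ q.asIdeal
    rw [Algebra.smul_def]
    exact Ideal.mul_mem_right _ _ h2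
  have h3 : (1 : B j) ∈ q.asIdeal := hle2 (by rw [htop]; exact Submodule.mem_top)
  exact q.isPrime.ne_top ((Ideal.eq_top_iff_one _).2 h3)

/-- for finite families, joint faithfulness implies descent of finiteness (same argument as
`Module.Finite.of_finite_tensorProduct_of_faithfullyFlat`; cf. Helper3 `PcFam`) -/
theorem jointlyFinite [Finite J] (hB : JointlyFaithful A B) : JointlyFinite A B := by
  classical
  intro M _ _ h
  haveI := Fintype.ofFinite J
  choose n s hs using fun j => Module.Finite.exists_fin (R := B j) (M := B j ⊗[A] M)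
  choose k t m hm using fun (j : J) (i : Fin (n j)) => TensorProduct.exists_sum_tmul_eq (s j i)
  let N : Submodule A M := Submodule.span A
    (Set.range (fun x : Σ j, Σ i : Fin (n j), Fin (k j i) => m x.1 x.2.1 x.2.2))
  have hN : N.FG := Submodule.fg_span (Set.finite_range _)
  have hsub : Subsingleton (M ⧸ N) := by
    apply hB
    intro j
    let q : (B j ⊗[A] M) →ₗ[B j] (B j ⊗[A] (M ⧸ N)) :=
      AlgebraTensorModule.lTensor (B j) (B j) N.mkQ
    have hq : Function.Surjective q := by
      have : Function.Surjective (N.mkQ.lTensor (B j)) :=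
        LinearMap.lTensor_surjective _ N.mkQ_surjective
      exact this
    have hq0 : q = 0 := by
      apply LinearMap.ext_on_range (hs j)
      intro i
      rw [LinearMap.zero_apply, hm j i, map_sum]
      apply Finset.sum_eq_zero
      intro l _
      show (t j i l) ⊗ₜ[A] N.mkQ (m j i l) = 0
      have : N.mkQ (m j i l) = 0 := by
        rw [Submodule.mkQ_apply, Submodule.Quotient.mk_eq_zero]
        exact Submodule.subset_span ⟨⟨j, i, l⟩, rfl⟩
      rw [this, TensorProduct.tmul_zero]
    refine ⟨fun x y => ?_⟩
    obtain ⟨x', rfl⟩ := hq x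
    obtain ⟨y', rfl⟩ := hq y
    rw [hq0]; rfl
  have hNtop : N = ⊤ := Submodule.Quotient.subsingleton_iff.mp hsub
  rw [Module.finite_def, ← hNtop]
  exact hN

end Groth.Agent.Helper9.FD1
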