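import Mathlib
import Groth.Agent.Helper9.TP3
import Groth.Agent.Helper9.QcLpull1
import Groth.Agent.Helper9.Lpull6
import Groth.Agent.Helper9.FD1
import Groth.Agent.Lead.PcLib9

/-! Descent of `m`-pseudo-coherence along a finite jointly surjective family of flat ring maps,
for objects of `D_QCoh(Spec A)`. -/

set_option autoImplicit false
set_option linter.style.haveILetI false
set_option linter.unusedVariables false
set_option linter.unusedSectionVars false
universe u

namespace Groth.Agent.Helper9.FD2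

open CategoryTheory CategoryTheory.Limits AlgebraicGeometry Opposite TopologicalSpace
  HomologicalComplex
open Groth.Agent.Helper9.Lpull1 Groth.Agent.Helper9.Lpull2 Groth.Agent.Helper9.Lpull3
open Groth.Agent.Lead.PerfLib Groth.Agent.Lead.PcLib Groth.Agent.Helper3.DRingLib

attribute [local instance] HasDerivedCategory.standard

section Affine

variable {R S : CommRingCat.{u}} (φ : R ⟶ S) [DCoh.HasLpull (Spec.map φ)]

/-- `L(Spec φ)^*(P~) = (S ⊗ P)~` for K-flat `P` -/
noncomputable def lpullTildeIso (P : CochainComplex (ModuleCat.{u} R) ℤ)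
    (hPf : DRing.IsKFlat R P) :
    (DCoh.Lpull (Spec.map φ)).obj ((DCoh.tildeD R).obj (DerivedCategory.Q.obj P)) ≅
      (DCoh.tildeD S).obj (DerivedCategory.Q.obj
        (((ModuleCat.extendScalars.{u, u, u} φ.hom).mapHomologicalComplex
          (ComplexShape.up ℤ)).obj P)) :=
  (DCoh.Lpull (Spec.map φ)).mapIso ((tilde.functor R).mapDerivedCategoryFactors.app P) ≪≫
    lpullIso (Spec.map φ) _ (Groth.Agent.Helper9.Tilde2.isKFlat_tilde R P hPf) ≪≫
    DerivedCategory.Q.mapIso (QcLpull1.cxIso φ P) ≪≫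
    ((tilde.functor S).mapDerivedCategoryFactors.app _).symm

end Affine

section Family

variable {A : CommRingCat.{u}} {J : Type u} [Finite J] (B : J → CommRingCat.{u})
  (φ : ∀ j, A ⟶ B j) [∀ j, DCoh.HasLpull (Spec.map (φ j))]

theorem isPseudoCoherent_of_family (hflat : ∀ j, (φ j).hom.Flat)
    (hsurj : ∀ p : PrimeSpectrum A, ∃ (j : J) (q : PrimeSpectrum (B j)),
      q.comap (φ j).hom = p)
    (M : DerivedCategory (ModuleCat.{u} A)) (m : ℤ)
    (h : ∀ j, DCoh.IsPseudoCoherentD m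
      ((DCoh.Lpull (Spec.map (φ j))).obj ((DCoh.tildeD A).obj M))) :
    DRing.IsPseudoCoherent A m M := by
  obtain ⟨P, hP, hPf, ⟨e⟩⟩ := Groth.Agent.Helper6.LBCAdj.exists_kproj M
  let e0 : DerivedCategory.Q.obj P ≅ M := (DerivedCategory.quotientCompQhIso _).symm.app P ≪≫ e
  letI : ∀ j, Algebra A (B j) := fun j => (φ j).hom.toAlgebra
  haveI : ∀ j, Module.Flat A (B j) := fun j => hflat j
  have hs : FD1.JointlySurjective (A := A) (fun j => (B j : Type u)) := hsurj
  have hB := FD1.jointlyFaithful hs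
  have hF := FD1.jointlyFinite hB
  refine isPseudoCoherent_of_iso e0 ?_
  refine isPseudoCoherent_of_forall_bcCx hB hF m P (fun j => ?_)
  haveI : PreservesFiniteLimits (tilde.functor (B j)) :=
    Groth.Agent.Helper4.TildeExact.preservesFiniteLimits_tilde _
  refine (TP3.isPseudoCoherentD_tildeD_iff (B j) _ m).1 ?_
  exact isPseudoCoherentD_of_iso ((DCoh.Lpull (Spec.map (φ j))).mapIso
    ((DCoh.tildeD A).mapIso e0.symm) ≪≫ lpullTildeIso (φ j) P hPf) (h j)

end Family

section Local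

/-- pseudo-coherence can be checked after restriction to affine opens covering `X` -/
theorem isPseudoCoherentD_of_affine_cover {X : Scheme.{u}} (E : DCoh.D X) (m : ℤ)
    (h : ∀ x : X, ∃ (U : X.Opens) (hU : IsAffineOpen U), x ∈ U ∧
      DCoh.IsPseudoCoherentD m ((@DCoh.Lpull _ _ hU.fromSpec (hasLpull _)).obj E)) :
    DCoh.IsPseudoCoherentD m E := by
  obtain ⟨F, hF, ⟨eF⟩⟩ := exists_kflat_rep E
  rw [isPseudoCoherentD_iff_locPC m E F eF]
  intro x
  obtain ⟨U, hU, hxU, hpc⟩ := h x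
  letI : DCoh.HasLpull hU.fromSpec := hasLpull _
  let j := hU.fromSpec
  obtain ⟨w, hw⟩ : ∃ w : Spec Γ(X, U), j w = x := by
    have : x ∈ Set.range j := by
      rw [hU.range_fromSpec]
      exact hxU
    exact this
  have e1 := LocTriv1.lpullOpenIso j E F hF eF
  have h1 : DCoh.IsPseudoCoherentD m (DerivedCategory.Q.obj ((Rc j).obj F)) :=
    isPseudoCoherentD_of_iso e1 hpc
  have h2 := (isPseudoCoherentD_iff_locPC m _ ((Rc j).obj F) (Iso.refl _)).1 h1 w
  rw [← hw]
  exact h2.of_restrict j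

end Local

section Scheme

variable {X' X : Scheme.{u}} (f : X' ⟶ X) [Flat f] [Surjective f] [QuasiCompact f]
  [DCoh.HasLpull f]

theorem isPseudoCoherentD_lpull_fromSpec (E : DCoh.D X) (hE : DCoh.IsQCohD E) (m : ℤ)
    (h : DCoh.IsPseudoCoherentD m ((DCoh.Lpull f).obj E)) {U : X.Opens} (hU : IsAffineOpen U)
    [DCoh.HasLpull hU.fromSpec] :
    DCoh.IsPseudoCoherentD m ((DCoh.Lpull hU.fromSpec).obj E) := by
  have hc : IsCompact (f ⁻¹ᵁ U : Set X') := f.isCompact_preimage hU.isCompact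
  obtain ⟨s, hs, hsU⟩ :=
    (isCompact_and_isOpen_iff_finite_and_eq_biUnion_affineOpens).1 ⟨hc, (f ⁻¹ᵁ U).2⟩
  let J : Type u := s
  haveI : Finite J := hs
  let A : CommRingCat.{u} := Γ(X, U)
  let B : J → CommRingCat.{u} := fun V => Γ(X', V.1.1)
  have hle : ∀ V : J, V.1.1 ≤ f ⁻¹ᵁ U := by
    intro V x hx
    have : x ∈ (f ⁻¹ᵁ U : Set X') := by
      rw [hsU]
      exact Set.mem_biUnion V.2 hx
    exact this
  let φ : ∀ V : J, A ⟶ B V := fun V => f.appLE U V.1.1 (hle V)
  have hcomm : ∀ V : J, Spec.map (φ V) ≫ hU.fromSpec = V.1.2.fromSpec ≫ f := fun V =>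
    IsAffineOpen.SpecMap_appLE_fromSpec f hU V.1.2 (hle V)
  have hflat : ∀ V : J, (φ V).hom.Flat := fun V => f.flat_appLE hU V.1.2 (hle V)
  have hsurj : ∀ p : PrimeSpectrum A, ∃ (V : J) (q : PrimeSpectrum (B V)),
      q.comap (φ V).hom = p := by
    intro p
    let p' : Spec A := p
    have hy : hU.fromSpec p' ∈ U := by
      have : hU.fromSpec p' ∈ Set.range hU.fromSpec := ⟨p', rfl⟩
      rwa [hU.range_fromSpec] at this
    obtain ⟨x', hx'⟩ := f.surjective (hU.fromSpec p')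
    have hx'U : x' ∈ (f ⁻¹ᵁ U : Set X') := by
      show f x' ∈ U
      rw [hx']
      exact hy
    rw [hsU] at hx'U
    simp only [Set.mem_iUnion] at hx'U
    obtain ⟨V, hVs, hx'V⟩ := hx'U
    have hr : x' ∈ Set.range V.2.fromSpec := by
      rw [V.2.range_fromSpec]
      exact hx'V
    obtain ⟨q, hq⟩ := hr
    refine ⟨⟨V, hVs⟩, q, ?_⟩
    have h1 : hU.fromSpec ((Spec.map (φ ⟨V, hVs⟩)) q) = hU.fromSpec p' := by
      rw [← Scheme.Hom.comp_apply, hcomm ⟨V, hVs⟩, Scheme.Hom.comp_apply, hq, hx']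
    exact hU.fromSpec.isOpenEmbedding.injective h1
  have hK' : DCoh.IsQCohD ((DCoh.Lpull hU.fromSpec).obj E) :=
    QcLpull1.isQCohD_lpull_of_isOpenImmersion _ E hE
  obtain ⟨M, ⟨eM⟩⟩ := QcLpull1.exists_iso_tildeD A _ hK'
  haveI : ∀ V : J, DCoh.HasLpull (Spec.map (φ V)) := fun V => hasLpull _
  have hM : DRing.IsPseudoCoherent A m M := by
    refine isPseudoCoherent_of_family B φ hflat hsurj M m (fun V => ?_)
    haveI : DCoh.HasLpull V.1.2.fromSpec := hasLpull _
    haveI : DCoh.HasLpull (V.1.2.fromSpec ≫ f) := hasLpull _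
    haveI : DCoh.HasLpull (Spec.map (φ V) ≫ hU.fromSpec) := hasLpull _
    have h1 : DCoh.IsPseudoCoherentD m
        ((DCoh.Lpull V.1.2.fromSpec).obj ((DCoh.Lpull f).obj E)) :=
      Lpull6.isPseudoCoherentD_lpull _ m _ h
    let e2 := (lpullComp V.1.2.fromSpec f).app E
    obtain ⟨e3⟩ := QcLpull1.lpullCongr (hcomm V).symm E
    let e4 := (lpullComp (Spec.map (φ V)) hU.fromSpec).app E
    exact isPseudoCoherentD_of_iso
      (e2 ≪≫ e3 ≪≫ e4.symm ≪≫ (DCoh.Lpull (Spec.map (φ V))).mapIso eM.symm) h1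
  exact isPseudoCoherentD_of_iso eM ((TP3.isPseudoCoherentD_tildeD_iff A M m).2 hM)

/-- **fpqc descent of `m`-pseudo-coherence** for objects with quasi-coherent cohomology -/
theorem isPseudoCoherentD_of_lpull (E : DCoh.D X) (hE : DCoh.IsQCohD E) (m : ℤ)
    (h : DCoh.IsPseudoCoherentD m ((DCoh.Lpull f).obj E)) : DCoh.IsPseudoCoherentD m E := by
  apply isPseudoCoherentD_of_affine_cover
  intro x
  obtain ⟨_, ⟨U, hU0, rfl⟩, hxU, -⟩ :=
    X.isBasis_affineOpens.exists_subset_of_mem_open (Set.mem_univ x) isOpen_univ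
  have hU : IsAffineOpen U := hU0
  exact ⟨U, hU, hxU, @isPseudoCoherentD_lpull_fromSpec _ _ f _ _ _ _ E hE m h U hU (hasLpull _)⟩

end Scheme

end Groth.Agent.Helper9.FD2
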