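import Mathlib

/-! An abstract descent lemma: a property of objects of an abelian category which is closed under
kernels and finite products descends along a finite jointly faithful family of exact left adjoints
whose right adjoints respect the property. -/

set_option autoImplicit false
set_option linter.style.haveILetI false
set_option linter.unusedVariables false
set_option linter.unusedSectionVars false
universe v₁ v₂ u₁ u₂

namespace Groth.Agent.Helper9.QD1

open CategoryTheory CategoryTheory.Limits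

variable {𝒜 : Type u₁} [Category.{v₁} 𝒜] [Abelian 𝒜] {n : ℕ} {ℬ : Fin n → Type u₂}
  [∀ k, Category.{v₂} (ℬ k)] [∀ k, Abelian (ℬ k)]
  (L : ∀ k, 𝒜 ⥤ ℬ k) (R : ∀ k, ℬ k ⥤ 𝒜) (adj : ∀ k, L k ⊣ R k)

/-- the product of the units -/
noncomputable def η (G : 𝒜) : G ⟶ ∏ᶜ (fun k => (R k).obj ((L k).obj G)) :=
  Pi.lift (fun k => (adj k).unit.app G)

include adj in
theorem L_map_η (G : 𝒜) (k : Fin n) :
    (L k).map (η L R adj G) ≫ (L k).map (Pi.π _ k) ≫ (adj k).counit.app ((L k).obj G) = 𝟙 _ := by
  rw [← Functor.map_comp_assoc]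
  have : η L R adj G ≫ Pi.π (fun k => (R k).obj ((L k).obj G)) k = (adj k).unit.app G := by
    simp [η]
  rw [this]
  exact (adj k).left_triangle_components G

variable [∀ k, PreservesFiniteLimits (L k)] [∀ k, (L k).Additive]
  (hfaith : ∀ K : 𝒜, (∀ k, IsZero ((L k).obj K)) → IsZero K)

include hfaith in
theorem mono_η (G : 𝒜) : Mono (η L R adj G) := by
  rw [Preadditive.mono_iff_isZero_kernel]
  apply hfaith
  intro k
  -- `L k (kernel.ι)` is a mono which is zero
  haveI : Mono ((L k).map (kernel.ι (η L R adj G))) := inferInstance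
  have h0 : (L k).map (kernel.ι (η L R adj G)) = 0 := by
    have h1 : (L k).map (kernel.ι (η L R adj G)) =
        (L k).map (kernel.ι (η L R adj G)) ≫ (L k).map (η L R adj G) ≫
          (L k).map (Pi.π _ k) ≫ (adj k).counit.app ((L k).obj G) := by
      rw [L_map_η L R adj G k, Category.comp_id]
    rw [h1, ← Functor.map_comp_assoc, kernel.condition, Functor.map_zero, zero_comp]
  exact IsZero.of_mono_eq_zero _ h0

variable (P : ObjectProperty 𝒜) (Pk : ∀ k, ObjectProperty (ℬ k))
  [P.IsClosedUnderIsomorphisms] [∀ k, (Pk k).IsClosedUnderIsomorphisms]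
  (hker : ∀ {F G : 𝒜} (φ : F ⟶ G), P F → P G → P (kernel φ))
  (hprod : ∀ (G : Fin n → 𝒜), (∀ k, P (G k)) → P (∏ᶜ G))
  (hcoker : ∀ (k : Fin n) {F G : ℬ k} (φ : F ⟶ G), Pk k F → Pk k G → Pk k (cokernel φ))
  (hL : ∀ (k : Fin n) (F : 𝒜), P F → Pk k ((L k).obj F))
  (hR : ∀ (k : Fin n) (G : ℬ k), Pk k G → P ((R k).obj G))

include adj hfaith hker hprod hcoker hL hR in
theorem descent (F : 𝒜) (hF : ∀ k, Pk k ((L k).obj F)) : P F := by
  have hQ : ∀ G : 𝒜, (∀ k, Pk k ((L k).obj G)) → P (∏ᶜ (fun k => (R k).obj ((L k).obj G))) :=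
    fun G hG => hprod _ (fun k => hR k _ (hG k))
  have hQ0 := hQ F hF
  let C := cokernel (η L R adj F)
  have hC : ∀ k, Pk k ((L k).obj C) := by
    intro k
    haveI : PreservesColimitsOfSize.{0, 0} (L k) := (adj k).leftAdjoint_preservesColimits
    have e : (L k).obj C ≅ cokernel ((L k).map (η L R adj F)) :=
      PreservesCokernel.iso (L k) (η L R adj F)
    exact (Pk k).prop_of_iso e.symm (hcoker k _ (hF k) (hL k _ hQ0))
  have hQ1 := hQ C hC
  haveI := mono_η L R adj hfaith F
  haveI := mono_η L R adj hfaith C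
  let ψ := cokernel.π (η L R adj F) ≫ η L R adj C
  have hK : P (kernel ψ) := hker ψ hQ0 hQ1
  have e1 : kernel ψ ≅ kernel (cokernel.π (η L R adj F)) := kernelCompMono _ _
  have hlim := Abelian.monoIsKernelOfCokernel _ (cokernelIsCokernel (η L R adj F))
  have e2 : kernel (cokernel.π (η L R adj F)) ≅ F :=
    IsLimit.conePointUniqueUpToIso (kernelIsKernel _) hlim
  exact P.prop_of_iso (e1 ≪≫ e2) hK

end Groth.Agent.Helper9.QD1
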