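import Mathlib
import Groth.Agent.Helper9.QD1
import Groth.Agent.Helper3.FlatPullEx
import Groth.Agent.Helper3.DRingBC
import Groth.Agent.Helper4.QcohLimits
import Groth.Agent.Helper4.QcohGlue
import Groth.Agent.Lead.StalkPull

/-! Descent of quasi-coherence along flat, jointly surjective, quasi-compact quasi-separated
families; and along a flat surjective quasi-compact morphism. -/

set_option autoImplicit false
set_option linter.style.haveILetI false
set_option linter.unusedVariables false
set_option linter.unusedSectionVars false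
universe u

namespace Groth.Agent.Helper9.QD2

open CategoryTheory CategoryTheory.Limits AlgebraicGeometry Opposite TopologicalSpace TensorProduct
open Groth.Agent.Helper9.SkyMod4 Groth.Agent.Helper9.SkyMod5 Groth.Agent.Helper3.DRingLib

section Ring

variable {A B : Type u} [CommRing A] [CommRing B] (φ : A →+* B)

/-- extension of scalars along a flat local homomorphism of local rings reflects zero objects -/
theorem isZero_of_isZero_extendScalars [IsLocalRing A] [IsLocalRing B] [IsLocalHom φ]
    (hφ : φ.Flat) (M : ModuleCat.{u} A)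
    (h : IsZero ((ModuleCat.extendScalars.{u, u, u} φ).obj M)) : IsZero M := by
  letI := φ.toAlgebra
  haveI : Module.Flat A B := hφ
  haveI : IsLocalHom (algebraMap A B) := ‹IsLocalHom φ›
  haveI : Module.FaithfullyFlat A B := Module.FaithfullyFlat.of_flat_of_isLocalHom
  have h1 : Subsingleton ((ModuleCat.extendScalars.{u, u, u} (algebraMap A B)).obj M) :=
    ModuleCat.subsingleton_of_isZero h
  have h2 : Subsingleton (B ⊗[A] M) := (extendScalarsEquiv (B := B) M).symm.toEquiv.subsingleton
  have h3 : Subsingleton M := (Module.FaithfullyFlat.subsingleton_tensorProduct_iff_right A B).mp h2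
  exact ModuleCat.isZero_of_subsingleton _

end Ring

/-- quasi-coherence as an object property of `X.Modules` -/
def qc (X : Scheme.{u}) : ObjectProperty X.Modules := fun M => M.IsQuasicoherent

instance (X : Scheme.{u}) : (qc X).IsClosedUnderIsomorphisms :=
  ⟨fun e h => Groth.Agent.Helper4.QcohLimits.isQuasicoherent_of_iso e (hF := h)⟩

section Family

variable {X : Scheme.{u}} {n : ℕ} {Z : Fin n → Scheme.{u}} (g : ∀ k, Z k ⟶ X) [∀ k, Flat (g k)]
  (hsurj : ∀ x : X, ∃ (k : Fin n) (z : Z k), g k z = x)

include hsurj in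
theorem isZero_of_pullbacks (K : X.Modules)
    (h : ∀ k, IsZero ((Scheme.Modules.pullback (g k)).obj K)) : IsZero K := by
  apply isZero_of_stalks
  intro x
  obtain ⟨k, z, rfl⟩ := hsurj x
  have e := (pullStalkIso z (g k)).app K
  have h1 : IsZero ((ext z (g k)).obj ((St ((g k).base z)).obj K)) :=
    IsZero.of_iso ((St z).map_isZero (h k)) e.symm
  exact isZero_of_isZero_extendScalars ((g k).stalkMap z).hom (Flat.stalkMap (g k) z) _ h1

variable [∀ k, QuasiCompact (g k)] [∀ k, QuasiSeparated (g k)]

include hsurj in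
/-- descent of quasi-coherence along a finite jointly surjective family of flat qcqs morphisms -/
theorem isQuasicoherent_of_family (F : X.Modules)
    (h : ∀ k, ((Scheme.Modules.pullback (g k)).obj F).IsQuasicoherent) : F.IsQuasicoherent := by
  haveI : ∀ k, (Scheme.Modules.pullback (g k)).Additive := fun k =>
    (Scheme.Modules.pullbackPushforwardAdjunction (g k)).left_adjoint_additive
  haveI : ∀ k, PreservesFiniteLimits (Scheme.Modules.pullback (g k)) := fun k =>
    Groth.Agent.Helper3.FlatPullEx.preservesFiniteLimits_pullback (g k)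
  refine Groth.Agent.Helper9.QD1.descent (ℬ := fun k => (Z k).Modules)
    (L := fun k => Scheme.Modules.pullback (g k))
    (R := fun k => Scheme.Modules.pushforward (g k))
    (fun k => Scheme.Modules.pullbackPushforwardAdjunction (g k))
    (isZero_of_pullbacks g hsurj)
    (qc X) (fun k => qc (Z k))
    ?_ ?_ ?_ ?_ ?_ F h
  · intro F G φ hF hG
    haveI : F.IsQuasicoherent := hF
    haveI : G.IsQuasicoherent := hG
    exact Groth.Agent.Helper4.QcohLimits.isQuasicoherent_kernel φ
  · intro G hG
    exact Groth.Agent.Helper4.QcohLimits.isQuasicoherent_limit (Discrete.functor G)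
      (fun j => hG j.as)
  · intro k F G φ hF hG
    haveI : F.IsQuasicoherent := hF
    haveI : G.IsQuasicoherent := hG
    exact Groth.Agent.Helper4.QcohLimits.isQuasicoherent_cokernel φ
  · intro k F hF
    haveI : F.IsQuasicoherent := hF
    exact Groth.Agent.Lead.StalkPull.isQuasicoherent_pullbackObj (g k) F
  · intro k G hG
    haveI : G.IsQuasicoherent := hG
    exact Groth.Agent.Helper4.QcohGlue.isQuasicoherent_pushforward (g k) G

end Family

section Single

variable {X' X : Scheme.{u}} (f : X' ⟶ X) [Flat f] [Surjective f] [QuasiCompact f]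

/-- **fpqc descent of quasi-coherence** for an arbitrary `O_X`-module -/
theorem isQuasicoherent_of_pullback (F : X.Modules)
    (h : ((Scheme.Modules.pullback f).obj F).IsQuasicoherent) : F.IsQuasicoherent := by
  apply Groth.Agent.Helper4.QcohGlue.isQuasicoherent_of_affine_cover
  intro x
  obtain ⟨U, hU, hxU⟩ := Groth.Agent.Helper4.QcohLimits.exists_affine_nhd x
  refine ⟨U, hU, hxU, ?_⟩
  have hc : IsCompact (f ⁻¹ᵁ U : Set X') := f.isCompact_preimage hU.isCompact
  obtain ⟨s, hs, hsU⟩ :=
    (isCompact_and_isOpen_iff_finite_and_eq_biUnion_affineOpens).1 ⟨hc, (f ⁻¹ᵁ U).2⟩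
  haveI : Finite s := hs
  obtain ⟨n, ⟨e⟩⟩ := Finite.exists_equiv_fin s
  let V : Fin n → X'.affineOpens := fun k => (e.symm k).1
  have hVs : ∀ k, V k ∈ s := fun k => (e.symm k).2
  have hle : ∀ k, (V k).1 ≤ f ⁻¹ᵁ U := by
    intro k x hx
    have : x ∈ (f ⁻¹ᵁ U : Set X') := by
      rw [hsU]
      exact Set.mem_biUnion (hVs k) hx
    exact this
  let φ : ∀ k, Γ(X, U) ⟶ Γ(X', (V k).1) := fun k => f.appLE U (V k).1 (hle k)
  let g : ∀ k, Spec Γ(X', (V k).1) ⟶ Spec Γ(X, U) := fun k => Spec.map (φ k)
  have hcomm : ∀ k, g k ≫ hU.fromSpec = (V k).2.fromSpec ≫ f := fun k =>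
    IsAffineOpen.SpecMap_appLE_fromSpec f hU (V k).2 (hle k)
  haveI : ∀ k, Flat (g k) := fun k => Flat.SpecMap_iff.2 (f.flat_appLE hU (V k).2 (hle k))
  have hsurj : ∀ p : Spec Γ(X, U), ∃ (k : Fin n) (z : Spec Γ(X', (V k).1)), g k z = p := by
    intro p
    have hy : hU.fromSpec p ∈ U := by
      have : hU.fromSpec p ∈ Set.range hU.fromSpec := ⟨p, rfl⟩
      rwa [hU.range_fromSpec] at this
    obtain ⟨x', hx'⟩ := f.surjective (hU.fromSpec p)
    have hx'U : x' ∈ (f ⁻¹ᵁ U : Set X') := by
      show f x' ∈ U
      rw [hx']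
      exact hy
    rw [hsU] at hx'U
    simp only [Set.mem_iUnion] at hx'U
    obtain ⟨W, hWs, hx'W⟩ := hx'U
    obtain ⟨k, hk⟩ : ∃ k, V k = W := ⟨e ⟨W, hWs⟩, by simp [V]⟩
    subst hk
    have hr : x' ∈ Set.range (V k).2.fromSpec := by
      rw [(V k).2.range_fromSpec]
      exact hx'W
    obtain ⟨q, hq⟩ := hr
    refine ⟨k, q, ?_⟩
    have h1 : hU.fromSpec (g k q) = hU.fromSpec p := by
      rw [← Scheme.Hom.comp_apply, hcomm k, Scheme.Hom.comp_apply, hq, hx']
    exact hU.fromSpec.isOpenEmbedding.injective h1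
  apply isQuasicoherent_of_family g hsurj
  intro k
  haveI : ((Scheme.Modules.pullback f).obj F).IsQuasicoherent := h
  haveI h1 : ((Scheme.Modules.pullback (V k).2.fromSpec).obj
      ((Scheme.Modules.pullback f).obj F)).IsQuasicoherent :=
    Groth.Agent.Lead.StalkPull.isQuasicoherent_pullbackObj _ _
  let e1 : (Scheme.Modules.pullback (V k).2.fromSpec).obj ((Scheme.Modules.pullback f).obj F) ≅
      (Scheme.Modules.pullback (g k)).obj (F.restrict hU.fromSpec) :=
    (Scheme.Modules.pullbackComp (V k).2.fromSpec f).app F ≪≫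
      (Scheme.Modules.pullbackCongr (hcomm k).symm).app F ≪≫
      ((Scheme.Modules.pullbackComp (g k) hU.fromSpec).app F).symm ≪≫
      (Scheme.Modules.pullback (g k)).mapIso
        ((Scheme.Modules.restrictFunctorIsoPullback hU.fromSpec).app F).symm
  exact Groth.Agent.Helper4.QcohLimits.isQuasicoherent_of_iso e1

end Single

end Groth.Agent.Helper9.QD2
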