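import Mathlib
import Groth.Agent.Helper9.FBFinal
import Groth.Agent.Helper9.QD3
import Groth.Agent.Helper4.RpushCl
import Groth.Agent.Helper4.RpushQc
import Groth.Agent.Helper4.HasRD

/-! Flat base change for the higher direct images `R^i f_*` of quasi-coherent modules. -/

set_option autoImplicit false
set_option backward.isDefEq.respectTransparency false
set_option linter.style.haveILetI false
set_option linter.unusedVariables false
set_option linter.unusedSectionVars false
universe u

namespace Groth.Agent.Helper9.FBCor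

open CategoryTheory Limits AlgebraicGeometry Opposite TopologicalSpace DerivedCategory
open Groth.Agent.Helper9 Groth.Agent.Helper9.FBSch Groth.Agent.Helper9.FBNu
  Groth.Agent.Helper9.FBSq Groth.Agent.Helper9.FBFinal

attribute [local instance] HasDerivedCategory.standard
attribute [local instance] pfl pfc

variable {X S X' S' : Scheme.{u}} (f : X ⟶ S) (g : S' ⟶ S) (g' : X' ⟶ X) (f' : X' ⟶ S')
  (h : IsPullback g' f' f g) [QuasiCompact f] [QuasiSeparated f] [Flat g]
  [HasInjectiveResolutions X.Modules] [HasInjectiveResolutions X'.Modules]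

include h in
/-- flat base change for higher direct images -/
theorem nonempty_iso (M : X.Modules) [M.IsQuasicoherent] (i : ℕ) :
    Nonempty ((Scheme.Modules.pullback g).obj (((Scheme.Modules.pushforward f).rightDerived i).obj M) ≅
      ((Scheme.Modules.pushforward f').rightDerived i).obj ((Scheme.Modules.pullback g').obj M)) := by
  haveI : Flat g' := MorphismProperty.of_isPullback h.flip inferInstance
  haveI := Groth.Agent.Helper4.SchAdj.isGrothendieckAbelian_modules X
  haveI := Groth.Agent.Helper4.SchAdj.isGrothendieckAbelian_modules X'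
  haveI : DCoh.HasRpush f := Groth.Agent.Helper4.HasRD.hasRpush _
  haveI : DCoh.HasRpush g := Groth.Agent.Helper4.HasRD.hasRpush _
  haveI : DCoh.HasRpush f' := Groth.Agent.Helper4.HasRD.hasRpush _
  haveI : DCoh.HasRpush g' := Groth.Agent.Helper4.HasRD.hasRpush _
  haveI : DCoh.HasLpull f := Lpull1.hasLpull f
  haveI : DCoh.HasLpull g := Lpull1.hasLpull g
  haveI : DCoh.HasLpull f' := Lpull1.hasLpull f'
  haveI : DCoh.HasLpull g' := Lpull1.hasLpull g'
  haveI : DCoh.HasLpull (f' ≫ g) := Lpull1.hasLpull _
  haveI : DCoh.HasLpull (g' ≫ f) := Lpull1.hasLpull _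
  have hM : DCoh.IsQCohD (DCoh.inD X M) :=
    Groth.Agent.Helper4.RpushQc.isQCohD_inD M inferInstance
  haveI := isIso_β f g g' f' h (DCoh.inD X M) hM
  let eβ := asIso (β f g g' f' h.w (DCoh.inD X M))
  obtain ⟨e1⟩ := Groth.Agent.Helper4.RpushCl.nonempty_homology_iso (Scheme.Modules.pushforward f)
    (DCoh.Rpush f) ((DCoh.pushKh f).totalRightDerivedUnit DerivedCategory.Qh
      (HomotopyCategory.quasiIso X.Modules (ComplexShape.up ℤ))) M i
  obtain ⟨e2⟩ := QD3.nonempty_hdLpullIso g ((DCoh.Rpush f).obj (DCoh.inD X M)) (i : ℤ)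
  let e3 : (DCoh.Lpull g').obj (DCoh.inD X M) ≅ DCoh.inD X' ((Scheme.Modules.pullback g').obj M) :=
    (ν g').symm.app _ ≪≫ ((Scheme.Modules.pullback g').mapDerivedCategorySingleFunctor 0).app M
  obtain ⟨e4⟩ := Groth.Agent.Helper4.RpushCl.nonempty_homology_iso (Scheme.Modules.pushforward f')
    (DCoh.Rpush f') ((DCoh.pushKh f').totalRightDerivedUnit DerivedCategory.Qh
      (HomotopyCategory.quasiIso X'.Modules (ComplexShape.up ℤ)))
    ((Scheme.Modules.pullback g').obj M) i
  exact ⟨(Scheme.Modules.pullback g).mapIso e1.symm ≪≫ e2.symm ≪≫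
    (homologyFunctor S'.Modules (i : ℤ)).mapIso (eβ ≪≫ (DCoh.Rpush f').mapIso e3) ≪≫ e4⟩

end Groth.Agent.Helper9.FBCor
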