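import Mathlib
import Groth.Agent.Helper9.FBCor
import Groth.Agent.Helper1.SecLin2
import Groth.Agent.S0030
import Groth.Agent.Lead.StalkPull

/-! Flat base change for cohomology over an affine base. -/

set_option autoImplicit false
set_option backward.isDefEq.respectTransparency false
set_option linter.style.haveILetI false
set_option linter.unusedVariables false
set_option linter.unusedSectionVars false
universe u

namespace Groth.Agent.Helper9.FBCor2

open CategoryTheory Limits AlgebraicGeometry Opposite TopologicalSpace TensorProduct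
open Groth.Agent.Helper9 Groth.Agent.Helper9.FBSch Groth.Agent.Helper9.FBAff
  Groth.Agent.Helper9.FBSq Groth.Agent.Lead.BCMap

attribute [local instance] pfl pfc
attribute [local instance] modRestr towerRestr

theorem main (A B : Type u) [CommRing A] [CommRing B] [Algebra A B]
    [Module.Flat A B] (X X' : Scheme.{u}) [X.Over (Spec (CommRingCat.of A))]
    [X'.Over (Spec (CommRingCat.of B))] [CompactSpace X] [QuasiSeparatedSpace X] (g' : X' ⟶ X)
    (h : IsPullback g' (X' ↘ Spec (CommRingCat.of B)) (X ↘ Spec (CommRingCat.of A))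
      (Spec.map (CommRingCat.ofHom (algebraMap A B))))
    (M : X.Modules) [Coh.IsQCoh M] (i : ℕ) :
    Nonempty (TensorProduct A B (Coh.HH X M i) ≃ₗ[B]
      Coh.HH X' ((Scheme.Modules.pullback g').obj M) i) := by
  let S := Spec (CommRingCat.of A)
  let S' := Spec (CommRingCat.of B)
  let f : X ⟶ S := X ↘ S
  let f' : X' ⟶ S' := X' ↘ S'
  let g : S' ⟶ S := Spec.map (CommRingCat.ofHom (algebraMap A B))
  haveI : Flat g := Flat.SpecMap_iff.mpr (RingHom.flat_algebraMap_iff.mpr inferInstance)
  haveI : QuasiCompact f := inferInstance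
  haveI : QuasiSeparated f := inferInstance
  haveI : QuasiCompact f' := MorphismProperty.of_isPullback h inferInstance
  haveI : QuasiSeparated f' := MorphismProperty.of_isPullback h inferInstance
  haveI : Flat g' := MorphismProperty.of_isPullback h.flip inferInstance
  haveI := Groth.Agent.Helper4.SchAdj.isGrothendieckAbelian_modules X
  haveI := Groth.Agent.Helper4.SchAdj.isGrothendieckAbelian_modules X'
  let M' := (Scheme.Modules.pullback g').obj M
  haveI : M'.IsQuasicoherent := Groth.Agent.Lead.StalkPull.isQuasicoherent_pullbackObj g' M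
  let N := (Coh.Rpush f i).obj M
  haveI : N.IsQuasicoherent := Groth.Agent.S0030.result f M i
  let N' := (Coh.Rpush f' i).obj M'
  obtain ⟨j⟩ := FBCor.nonempty_iso f g g' f' h M i
  obtain ⟨ψ, hψ⟩ := Groth.Agent.Helper1.SecLin.exists_addEquiv_sections_Rpush f M i
  obtain ⟨ψ', hψ'⟩ := Groth.Agent.Helper1.SecLin.exists_addEquiv_sections_Rpush f' M' i
  -- ring maps
  let a : A →+* Γ(S, ⊤) := (Scheme.ΓSpecIso (CommRingCat.of A)).inv.hom
  let a' : B →+* Γ(S', ⊤) := (Scheme.ΓSpecIso (CommRingCat.of B)).inv.hom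
  have hW : (⊤ : S'.Opens) ≤ g ⁻¹ᵁ ⊤ := le_rfl
  have hnat : (Scheme.ΓSpecIso (CommRingCat.of A)).inv ≫ g.appLE ⊤ ⊤ hW =
      CommRingCat.ofHom (algebraMap A B) ≫ (Scheme.ΓSpecIso (CommRingCat.of B)).inv := by
    have h0 : g.appLE ⊤ ⊤ hW = g.appTop := by
      show g.app ⊤ ≫ S'.presheaf.map (𝟙 (op (g ⁻¹ᵁ ⊤))) = g.app ⊤
      rw [CategoryTheory.Functor.map_id]
      exact Category.comp_id _
    rw [h0]
    exact (Scheme.ΓSpecIso_inv_naturality (CommRingCat.ofHom (algebraMap A B))).symm
  have haa' : ∀ r, g.appLE ⊤ ⊤ hW (a r) = a' (algebraMap A B r) := fun r =>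
    congrArg (fun φ => φ.hom r) hnat
  have hpo : IsPushout (CommRingCat.ofHom (strT a ⊤ le_rfl))
      (CommRingCat.ofHom (algebraMap A B)) (g.appLE ⊤ ⊤ hW)
      (CommRingCat.ofHom (strT a' ⊤ le_rfl)) := by
    have h1 : CommRingCat.ofHom (strT a ⊤ le_rfl) = (Scheme.ΓSpecIso (CommRingCat.of A)).inv := by
      ext r
      exact strT_self _ r
    have h2 : CommRingCat.ofHom (strT a' ⊤ le_rfl) =
        (Scheme.ΓSpecIso (CommRingCat.of B)).inv := by
      ext r
      exact strT_self _ r
    rw [h1, h2]
    exact IsPushout.of_horiz_isIso ⟨hnat⟩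
  have hbc := cR_isBaseChange g hW a a' haa' le_rfl le_rfl hW (isAffineOpen_top S)
    (isAffineOpen_top S') hpo N
  -- module structures
  letI : Module A (Coh.HH X' M' i) := Module.compHom _ (algebraMap A B)
  haveI : IsScalarTower A B (Coh.HH X' M' i) := IsScalarTower.of_compHom _ _ _
  let aL : SecT N a ⊤ le_rfl →ₗ[A] Coh.HH X M i :=
    { toFun := fun s => ψ.symm s
      map_add' := fun s t => map_add ψ.symm s t
      map_smul' := fun r s => by
        apply ψ.injective
        rw [AddEquiv.apply_symm_apply]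
        have h1 := hψ (a r) (ψ.symm s)
        rw [AddEquiv.apply_symm_apply] at h1
        have h2 : (r • s : SecT N a ⊤ le_rfl) = (show Γ(N, ⊤) from (a r) • (show Γ(N, ⊤) from s)) := by
          rw [smulT_def, strT_self]
        rw [h2]
        exact h1.symm }
  let bL : SecT ((Scheme.Modules.pullback g).obj N) a' ⊤ le_rfl →ₗ[B] Coh.HH X' M' i :=
    { toFun := fun s => ψ'.symm (j.hom.app ⊤ s)
      map_add' := fun s t => by rw [map_add, map_add]
      map_smul' := fun r s => by
        apply ψ'.injective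
        rw [AddEquiv.apply_symm_apply]
        have h1 := hψ' (a' r) (ψ'.symm (j.hom.app ⊤ s))
        rw [AddEquiv.apply_symm_apply] at h1
        have h2 : (r • s : SecT ((Scheme.Modules.pullback g).obj N) a' ⊤ le_rfl) =
            (show Γ((Scheme.Modules.pullback g).obj N, ⊤) from
              (a' r) • (show Γ((Scheme.Modules.pullback g).obj N, ⊤) from s)) := by
          rw [smulT_def, strT_self]
        rw [h2, Scheme.Modules.Hom.app_smul]
        exact h1.symm }
  have haL : Function.Bijective aL := ψ.symm.bijective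
  have hbL : Function.Bijective bL :=
    ψ'.symm.bijective.comp (app_bijective_of_iso j ⊤)
  let aLe : SecT N a ⊤ le_rfl ≃ₗ[A] Coh.HH X M i := LinearEquiv.ofBijective aL haL
  let φ : Coh.HH X M i →ₗ[A] Coh.HH X' M' i :=
    (bL.restrictScalars A).comp ((cR g hW a a' haa' le_rfl le_rfl hW N).comp aLe.symm.toLinearMap)
  have hφ := FBAlg.isBaseChange_of_bijective B (cR g hW a a' haa' le_rfl le_rfl hW N) φ aL bL
    haL hbL (fun m => by
      show bL (cR g hW a a' haa' le_rfl le_rfl hW N (aLe.symm (aLe m))) = _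
      rw [LinearEquiv.symm_apply_apply]) hbc
  exact ⟨hφ.equiv⟩

end Groth.Agent.Helper9.FBCor2
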