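import Mathlib

/-!
# Transfer of right Kan extensions along a functor `q` such that `q ⋙ -` is faithful
-/

set_option autoImplicit false

namespace Groth.Agent.Helper9.LDeriv6

open CategoryTheory Category Functor

universe v₁ v₂ v₃ v₄ u₁ u₂ u₃ u₄

variable {C' : Type u₁} {C : Type u₂} {D : Type u₃} {H : Type u₄}
  [Category.{v₁} C'] [Category.{v₂} C] [Category.{v₃} D] [Category.{v₄} H]

/-- if `LF` is a right Kan extension of `F'` along `L'`, where `L' ≅ q ⋙ L` and `F' ≅ q ⋙ F`,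
and `α : L ⋙ LF ⟶ F` is compatible with the given `α'`, then `LF` is a right Kan extension
of `F` along `L`, provided that `q ⋙ -` is faithful (e.g. `q` is a localization functor). -/
theorem isRightKanExtension_of_precomp
    (q : C' ⥤ C) [((whiskeringLeft C' C H).obj q).Faithful]
    {L : C ⥤ D} {L' : C' ⥤ D} (eL : q ⋙ L ≅ L')
    {F : C ⥤ H} {F' : C' ⥤ H} (eF : q ⋙ F ≅ F')
    (LF : D ⥤ H) (α : L ⋙ LF ⟶ F) (α' : L' ⋙ LF ⟶ F')
    (hα : ∀ X, α.app (q.obj X) = LF.map (eL.hom.app X) ≫ α'.app X ≫ eF.inv.app X)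
    [LF.IsRightKanExtension α'] : LF.IsRightKanExtension α := by
  let β' : ∀ (G : D ⥤ H) (β : L ⋙ G ⟶ F), L' ⋙ G ⟶ F' := fun G β =>
    whiskerRight eL.inv G ≫ (Functor.associator q L G).hom ≫ whiskerLeft q β ≫ eF.hom
  have hβ' : ∀ (G : D ⥤ H) (β : L ⋙ G ⟶ F) (X : C'),
      (β' G β).app X = G.map (eL.inv.app X) ≫ β.app (q.obj X) ≫ eF.hom.app X := by
    intro G β X
    simp [β']
  let γ : ∀ (G : D ⥤ H) (β : L ⋙ G ⟶ F), G ⟶ LF := fun G β =>
    LF.liftOfIsRightKanExtension α' G (β' G β)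
  have hγ : ∀ (G : D ⥤ H) (β : L ⋙ G ⟶ F) (X : C'),
      (γ G β).app (L'.obj X) ≫ α'.app X =
        G.map (eL.inv.app X) ≫ β.app (q.obj X) ≫ eF.hom.app X := by
    intro G β X
    rw [← hβ']
    exact congr_app (LF.liftOfIsRightKanExtension_fac α' G (β' G β)) X
  have fac : ∀ (G : D ⥤ H) (β : L ⋙ G ⟶ F), whiskerLeft L (γ G β) ≫ α = β := by
    intro G β
    apply ((whiskeringLeft C' C H).obj q).map_injective
    ext X
    show (γ G β).app (L.obj (q.obj X)) ≫ α.app (q.obj X) = β.app (q.obj X)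
    rw [hα]
    have h1 : (γ G β).app (L.obj (q.obj X)) ≫ LF.map (eL.hom.app X) =
        G.map (eL.hom.app X) ≫ (γ G β).app (L'.obj X) := ((γ G β).naturality _).symm
    rw [← Category.assoc, h1, Category.assoc, ← Category.assoc ((γ G β).app (L'.obj X)), hγ]
    simp only [Category.assoc, Iso.hom_inv_id_app]
    rw [← G.map_comp_assoc, Iso.hom_inv_id_app, G.map_id, Category.id_comp]
    exact Category.comp_id _
  have uniq : ∀ (G : D ⥤ H) (β : L ⋙ G ⟶ F) (m : G ⟶ LF), whiskerLeft L m ≫ α = β →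
      m = γ G β := by
    intro G β m hm
    apply LF.hom_ext_of_isRightKanExtension α'
    ext X
    show m.app (L'.obj X) ≫ α'.app X = (γ G β).app (L'.obj X) ≫ α'.app X
    rw [hγ]
    have h0 : m.app (L.obj (q.obj X)) ≫ α.app (q.obj X) = β.app (q.obj X) :=
      congr_app hm (q.obj X)
    rw [hα] at h0
    have h1 : m.app (L.obj (q.obj X)) ≫ LF.map (eL.hom.app X) =
        G.map (eL.hom.app X) ≫ m.app (L'.obj X) := (m.naturality _).symm
    rw [← Category.assoc, h1, Category.assoc] at h0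
    have h2 : m.app (L'.obj X) ≫ α'.app X ≫ eF.inv.app X =
        G.map (eL.inv.app X) ≫ β.app (q.obj X) := by
      rw [← h0, ← G.map_comp_assoc, Iso.inv_hom_id_app, G.map_id, Category.id_comp]
    have h3 := congrArg (fun t => t ≫ eF.hom.app X) h2
    simpa using h3
  exact ⟨⟨Limits.IsTerminal.ofUniqueHom
    (fun Y => CostructuredArrow.homMk (γ Y.left Y.hom) (fac Y.left Y.hom))
    (fun Y m => by
      apply CostructuredArrow.hom_ext
      exact uniq Y.left Y.hom m.left (CostructuredArrow.w m))⟩⟩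

end Groth.Agent.Helper9.LDeriv6
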