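import Mathlib
import Groth.Prelude.Def_KFlatSite
import Groth.Agent.Helper9.KFlat18
import Groth.Agent.Helper9.LDeriv3
import Groth.Agent.Helper9.LDeriv6
import Groth.Agent.Helper9.LTCx1

/-!
# The counit of `- ⊗^L E` (any complex `E`) is an isomorphism at K-flat complexes
-/

set_option autoImplicit false
set_option linter.style.haveILetI false
set_option linter.unusedSectionVars false

namespace Groth.Agent.Helper9.LTCx5

open CategoryTheory Category Limits HomologicalComplex CochainComplex
  Groth.Agent.Helper9.KFlat3 Groth.Agent.Helper9.KFlat4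
  Groth.Agent.Helper9.KFlat5 Groth.Agent.Helper9.KFlat18 Groth.Agent.Helper9.LTCx1
  Groth.Agent.Helper9.LDeriv3

attribute [local instance] HasDerivedCategory.standard

universe u

variable {C : Type u} [SmallCategory C] {J : GrothendieckTopology C} {O : Sheaf J CommRingCat.{u}}

/-- tensoring a quasi-isomorphism of K-flat complexes with any complex on the right -/
theorem quasiIso_flip_map_of_isKFlat (E : CochainComplex (ModSite.Mod O) ℤ)
    {P P' : CochainComplex (ModSite.Mod O) ℤ} (hP : ModSite.IsKFlat P) (hP' : ModSite.IsKFlat P')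
    (f : P ⟶ P') (hf : QuasiIso f) :
    QuasiIso (((ModSite.tensorCx O).flip.obj E).map f) := by
  rw [(good_flip_obj (ModSite.tensorBi O) E).quasiIso_map_iff f]
  have hc : ModSite.IsKFlat (mappingCone f) := (isKFlat_cone f).1 hP hP'
  have hac : (mappingCone f).Acyclic := (quasiIso_iff_acyclic_mappingCone f).1 hf
  have h := acyclic_mapBifunctor_of_isKFlat hc hac E
  rw [acyclic_iff_isZero_homology] at h ⊢
  intro n
  exact (h n).of_iso ((HomologicalComplex.homologyFunctor _ _ n).mapIso
    (symCx (mappingCone f) E))

/-- `tensorCxQ E` inverts homotopy equivalences -/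
lemma inverts_homotopyEquivalences (E : CochainComplex (ModSite.Mod O) ℤ) :
    (HomologicalComplex.homotopyEquivalences (ModSite.Mod O) (ComplexShape.up ℤ)).IsInvertedBy
      (ModSite.tensorCxQ E) := by
  rintro K K' f ⟨e, rfl⟩
  have := (good_flip_obj (ModSite.tensorBi O) E).quasiIso_map_homotopyEquiv e
  show IsIso (DerivedCategory.Q.map (((ModSite.tensorCx O).flip.obj E).map e.hom))
  rw [DerivedCategory.isIso_Q_map_iff_quasiIso]
  exact this

/-- the functor induced by `- ⊗ E` on the homotopy category -/
noncomputable def tensH (E : CochainComplex (ModSite.Mod O) ℤ) :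
    Ho O ⥤ DCoh.DMod (ModSite.ringSh O) :=
  Localization.lift (ModSite.tensorCxQ E) (inverts_homotopyEquivalences E)
    (HomotopyCategory.quotient (ModSite.Mod O) (ComplexShape.up ℤ))

noncomputable def tensHFac (E : CochainComplex (ModSite.Mod O) ℤ) :
    HomotopyCategory.quotient (ModSite.Mod O) (ComplexShape.up ℤ) ⋙ tensH E ≅
      ModSite.tensorCxQ E :=
  Localization.fac _ _ _

variable (E : CochainComplex (ModSite.Mod O) ℤ) [ModSite.HasLTensorCx E]

noncomputable instance lifting₁ : Localization.Lifting
    (HomotopyCategory.quotient (ModSite.Mod O) (ComplexShape.up ℤ))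
    (HomologicalComplex.homotopyEquivalences (ModSite.Mod O) (ComplexShape.up ℤ))
    (DerivedCategory.Q ⋙ ModSite.LTensorCx E) (DerivedCategory.Qh ⋙ ModSite.LTensorCx E) :=
  ⟨(Functor.associator _ _ _).symm ≪≫
    Functor.isoWhiskerRight (DerivedCategory.quotientCompQhIso (ModSite.Mod O)) _⟩

noncomputable instance lifting₂ : Localization.Lifting
    (HomotopyCategory.quotient (ModSite.Mod O) (ComplexShape.up ℤ))
    (HomologicalComplex.homotopyEquivalences (ModSite.Mod O) (ComplexShape.up ℤ))
    (ModSite.tensorCxQ E) (tensH E) :=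
  ⟨tensHFac E⟩

/-- the counit at the level of the homotopy category -/
noncomputable def counitH : DerivedCategory.Qh ⋙ ModSite.LTensorCx E ⟶ tensH E :=
  Localization.liftNatTrans (HomotopyCategory.quotient (ModSite.Mod O) (ComplexShape.up ℤ))
    (HomologicalComplex.homotopyEquivalences (ModSite.Mod O) (ComplexShape.up ℤ))
    (DerivedCategory.Q ⋙ ModSite.LTensorCx E) (ModSite.tensorCxQ E)
    (DerivedCategory.Qh ⋙ ModSite.LTensorCx E) (tensH E) (counit E)

lemma counitH_app (K : CochainComplex (ModSite.Mod O) ℤ) :
    (counitH E).app ((HomotopyCategory.quotient _ _).obj K) =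
      (ModSite.LTensorCx E).map ((DerivedCategory.quotientCompQhIso (ModSite.Mod O)).hom.app K) ≫
        (counit E).app K ≫ (tensHFac E).inv.app K := by
  unfold counitH
  rw [Localization.liftNatTrans_app]
  congr 1
  show ((Functor.associator _ _ _).symm ≪≫
    Functor.isoWhiskerRight (DerivedCategory.quotientCompQhIso (ModSite.Mod O)) _).hom.app K = _
  simp

instance isLeftDerivedFunctor_counitH : (ModSite.LTensorCx E).IsLeftDerivedFunctor (counitH E)
    (HomotopyCategory.quasiIso (ModSite.Mod O) (ComplexShape.up ℤ)) := by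
  haveI : ((Functor.whiskeringLeft _ _ (DCoh.DMod (ModSite.ringSh O))).obj
      (HomotopyCategory.quotient (ModSite.Mod O) (ComplexShape.up ℤ))).Faithful :=
    Localization.faithful_whiskeringLeft _
      (HomologicalComplex.homotopyEquivalences (ModSite.Mod O) (ComplexShape.up ℤ)) _
  haveI : (ModSite.LTensorCx E).IsRightKanExtension (counit E) :=
    Functor.IsLeftDerivedFunctor.isRightKanExtension _ _ (W (O := O))
  exact ⟨Groth.Agent.Helper9.LDeriv6.isRightKanExtension_of_precomp
    (HomotopyCategory.quotient (ModSite.Mod O) (ComplexShape.up ℤ))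
    (DerivedCategory.quotientCompQhIso (ModSite.Mod O)) (tensHFac E)
    (ModSite.LTensorCx E) (counitH E) (counit E) (counitH_app E)⟩

/-- the counit `Q P ⊗^L E ⟶ Q (P ⊗ E)` is an isomorphism for K-flat `P` -/
theorem isIso_counit_app (P : CochainComplex (ModSite.Mod O) ℤ) (hP : ModSite.IsKFlat P) :
    IsIso ((counit E).app P) := by
  have h := isIso_counit_app_of_isKFlat O (tensH E) (fun {P P'} f hP hP' hf => by
      have h1 : (tensH E).map ((HomotopyCategory.quotient _ _).map f) =
          (tensHFac E).hom.app P ≫ (ModSite.tensorCxQ E).map f ≫ (tensHFac E).inv.app P' := by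
        have := (tensHFac E).hom.naturality f
        rw [← Category.assoc, ← this, Category.assoc, Iso.hom_inv_id_app, Category.comp_id]
        rfl
      rw [h1]
      haveI : IsIso ((ModSite.tensorCxQ E).map f) := by
        show IsIso (DerivedCategory.Q.map (((ModSite.tensorCx O).flip.obj E).map f))
        rw [DerivedCategory.isIso_Q_map_iff_quasiIso]
        exact quasiIso_flip_map_of_isKFlat E hP hP' f hf
      infer_instance)
    DerivedCategory.Qh (ModSite.LTensorCx E) (counitH E) P hP
  rw [counitH_app] at h
  haveI := h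
  have h2 : IsIso ((counit E).app P ≫ (tensHFac E).inv.app P) :=
    IsIso.of_isIso_comp_left ((ModSite.LTensorCx E).map
      ((DerivedCategory.quotientCompQhIso (ModSite.Mod O)).hom.app P)) _
  haveI := h2
  exact IsIso.of_isIso_comp_right _ ((tensHFac E).inv.app P)

end Groth.Agent.Helper9.LTCx5
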