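import Mathlib
import Groth.Prelude.Def_DerSch
import Groth.Prelude.Def_DCoh4
import Groth.Agent.Helper9.RingProj4
import Groth.Agent.Helper9.TorStalk1
import Groth.Agent.Helper9.Lpull3
import Groth.Agent.Helper9.LTCx5
import Groth.Agent.Helper9.StalkKFlat1
import Groth.Agent.Helper9.PullMon2

/-! Tor amplitude of `Lf^* G ⊗^L F` and of `Lf^* G` relative to a composite. -/

set_option autoImplicit false
set_option linter.style.haveILetI false
set_option linter.unusedVariables false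
set_option linter.unusedSectionVars false
set_option linter.unusedSimpArgs false
universe u

namespace Groth.Agent.Helper9.TorAmpSch2

open CategoryTheory CategoryTheory.Limits AlgebraicGeometry Opposite TopologicalSpace
  MonoidalCategory HomologicalComplex
open Groth.Agent.Helper9.SkyMod4 Groth.Agent.Helper9.StalkTensor9
  Groth.Agent.Helper9.RingProj1 Groth.Agent.Helper9.RingProj4

attribute [local instance] HasDerivedCategory.standard

variable {X Y Z : Scheme.{u}}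

/-- pullback of complexes -/
noncomputable abbrev pCx (f : X ⟶ Y) : CochainComplex Y.Modules ℤ ⥤ CochainComplex X.Modules ℤ :=
  (Scheme.Modules.pullback f).mapHomologicalComplex (ComplexShape.up ℤ)

/-- `Lf^* G ⊗^L F` is represented by `f^* P ⊗ F` for `P` a K-flat replacement of `G` -/
theorem exists_rep (f : X ⟶ Y) (F : CochainComplex X.Modules ℤ) (G : CochainComplex Y.Modules ℤ)
    [DCoh.HasLpull f] [DCoh.HasLTensorCx F] :
    ∃ (P : CochainComplex Y.Modules ℤ), DCoh.IsKFlat P ∧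
      Nonempty (DerivedCategory.Q.obj P ≅ DCoh.toD Y G) ∧
      Nonempty ((DCoh.LTensorCx F).obj ((DCoh.Lpull f).obj (DCoh.toD Y G)) ≅
        DCoh.toD X ((DCoh.tensorCx.obj ((pCx f).obj P)).obj F)) := by
  obtain ⟨P, hP, ⟨eP⟩⟩ := Groth.Agent.Helper9.Lpull3.exists_kflat_rep (DCoh.toD Y G)
  have hfP : DCoh.IsKFlat ((pCx f).obj P) := Groth.Agent.Helper9.Lpull2.isKFlat_pullback f P hP
  have i1 : @ModSite.HasLTensorCx _ _ _ X.sheaf F := ‹DCoh.HasLTensorCx F›
  have hiso := @Groth.Agent.Helper9.LTCx5.isIso_counit_app _ _ _ X.sheaf F i1 ((pCx f).obj P) hfP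
  refine ⟨P, hP, ⟨eP⟩, ⟨(DCoh.LTensorCx F).mapIso ((DCoh.Lpull f).mapIso eP.symm ≪≫
    Groth.Agent.Helper9.Lpull3.lpullIso f P hP) ≪≫ @asIso _ _ _ _ _ hiso⟩⟩

/-- the stalk of `f^* P ⊗ F` -/
noncomputable def stalkIso (f : X ⟶ Y) (F : CochainComplex X.Modules ℤ)
    (P : CochainComplex Y.Modules ℤ) (x : X) :
    (StCx x).obj ((DCoh.tensorCx.obj ((pCx f).obj P)).obj F) ≅
      (extCx (f.stalkMap x).hom).obj ((StCx (f.base x)).obj P) ⊗ (StCx x).obj F :=
  stalkTensorCxIso x _ _ ≪≫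
    whiskerRightIso (Groth.Agent.Helper9.Lpull1.pullStalkCxIso f x P) _

/-- tor amplitude of `Lf^* G ⊗^L F` -/
theorem hasTorAmplitudeD_ltensor_lpull (f : X ⟶ Y) (g : Y ⟶ Z)
    (F : CochainComplex X.Modules ℤ) (a b : ℤ)
    (hF : DerSch.HasTorAmplitude f a b F) (G : CochainComplex Y.Modules ℤ) (c d : ℤ)
    (hG : DerSch.HasTorAmplitude g c d G) [DCoh.HasLpull f] [DCoh.HasLTensorCx F] :
    DerSch.HasTorAmplitudeD (f ≫ g) (a + c) (b + d)
      ((DCoh.LTensorCx F).obj ((DCoh.Lpull f).obj (DCoh.toD Y G))) := by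
  rintro F'' ⟨e⟩ x
  obtain ⟨P, hP, ⟨eP⟩, ⟨e1⟩⟩ := exists_rep f F G
  have e3 := Groth.Agent.Helper9.TorStalk1.stalkDIso x (e ≪≫ e1)
  have hk : Groth.Agent.Helper6.TenCx.KFlat ((StCx (f.base x)).obj P) :=
    Groth.Agent.Helper9.StalkKFlat1.isKFlat_stalk P hP (f.base x)
  have hχ : ((f ≫ g).stalkMap x).hom =
      (f.stalkMap x).hom.comp (g.stalkMap (f.base x)).hom := by
    rw [Scheme.Hom.stalkMap_comp]; rfl
  have hE₀ : DRing.HasTorAmplitudeIn (Z.presheaf.stalk (g.base (f.base x))) c d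
      (DRing.toD ((rCx (g.stalkMap (f.base x)).hom).obj ((StCx (f.base x)).obj P))) :=
    Groth.Agent.Helper3.DRingLib.hasTorAmplitudeIn_of_iso
      (rCxDIso _ (Groth.Agent.Helper9.TorStalk1.stalkDIso (f.base x) eP).symm) _ _
      (hG (f.base x))
  have h := core3 (g.stalkMap (f.base x)).hom (f.stalkMap x).hom ((f ≫ g).stalkMap x).hom hχ
    ((StCx (f.base x)).obj P) ((StCx x).obj F) a b c d hk hE₀ (hF x)
  exact Groth.Agent.Helper3.DRingLib.hasTorAmplitudeIn_of_iso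
    (DerivedCategory.Q.mapIso ((rCx ((f ≫ g).stalkMap x).hom).mapIso (stalkIso f F P x).symm) ≪≫
      (rCxDIso _ e3).symm) _ _ h

/-- the complex of stalks of the structure sheaf is the tensor unit -/
noncomputable def stalkUnitIso (x : X) :
    (StCx x).obj (DerSch.unitCx X) ≅ 𝟙_ (DRing.Cx (X.presheaf.stalk x)) :=
  (HomologicalComplex.singleMapHomologicalComplex (St x) (ComplexShape.up ℤ) 0).app
      (Coh.structureModule X) ≪≫
    (HomologicalComplex.single _ _ 0).mapIso (Groth.Agent.Helper9.PullMon2.unitStalkIso x).symm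

/-- tor amplitude of `Lf^* G` -/
theorem hasTorAmplitudeD_lpull (f : X ⟶ Y) (g : Y ⟶ Z) (m : ℕ) (hf : DerSch.HasTorDimLE f m)
    [DCoh.HasLpull f] (G : CochainComplex Y.Modules ℤ) (c d : ℤ)
    (hG : DerSch.HasTorAmplitude g c d G) :
    DerSch.HasTorAmplitudeD (f ≫ g) (c - m) d ((DCoh.Lpull f).obj (DCoh.toD Y G)) := by
  rintro F'' ⟨e⟩ x
  obtain ⟨P, hP, ⟨eP⟩⟩ := Groth.Agent.Helper9.Lpull3.exists_kflat_rep (DCoh.toD Y G)
  have e1 : DCoh.toD X F'' ≅ DCoh.toD X ((pCx f).obj P) :=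
    e ≪≫ (DCoh.Lpull f).mapIso eP.symm ≪≫ Groth.Agent.Helper9.Lpull3.lpullIso f P hP
  have e3 := Groth.Agent.Helper9.TorStalk1.stalkDIso x e1
  have hk : Groth.Agent.Helper6.TenCx.KFlat ((StCx (f.base x)).obj P) :=
    Groth.Agent.Helper9.StalkKFlat1.isKFlat_stalk P hP (f.base x)
  have hχ : ((f ≫ g).stalkMap x).hom =
      (f.stalkMap x).hom.comp (g.stalkMap (f.base x)).hom := by
    rw [Scheme.Hom.stalkMap_comp]; rfl
  have hE₀ : DRing.HasTorAmplitudeIn (Z.presheaf.stalk (g.base (f.base x))) c d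
      (DRing.toD ((rCx (g.stalkMap (f.base x)).hom).obj ((StCx (f.base x)).obj P))) :=
    Groth.Agent.Helper3.DRingLib.hasTorAmplitudeIn_of_iso
      (rCxDIso _ (Groth.Agent.Helper9.TorStalk1.stalkDIso (f.base x) eP).symm) _ _
      (hG (f.base x))
  have hC : DRing.HasTorAmplitudeIn (Y.presheaf.stalk (f.base x)) (-(m : ℤ)) 0
      (DRing.toD ((rCx (f.stalkMap x).hom).obj (𝟙_ (DRing.Cx (X.presheaf.stalk x))))) :=
    Groth.Agent.Helper3.DRingLib.hasTorAmplitudeIn_of_iso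
      (DerivedCategory.Q.mapIso ((rCx (f.stalkMap x).hom).mapIso (stalkUnitIso x))) _ _ (hf x)
  have h := core4 (g.stalkMap (f.base x)).hom (f.stalkMap x).hom ((f ≫ g).stalkMap x).hom hχ
    ((StCx (f.base x)).obj P) m c d hk hE₀ hC
  exact Groth.Agent.Helper3.DRingLib.hasTorAmplitudeIn_of_iso
    (DerivedCategory.Q.mapIso ((rCx ((f ≫ g).stalkMap x).hom).mapIso
      (Groth.Agent.Helper9.Lpull1.pullStalkCxIso f x P).symm) ≪≫ (rCxDIso _ e3).symm) _ _ h

end Groth.Agent.Helper9.TorAmpSch2
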