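import Mathlib
import Groth.Agent.Helper9.TP2
import Groth.Agent.Helper9.Tilde2
import Groth.Agent.Helper9.SkyMod5
import Groth.Agent.Helper3.DRingBC3
import Groth.Agent.Helper3.DRingCone
import Groth.Prelude.Def_DTor2

/-! Tor amplitude of `M~` on `Spec R` versus tor amplitude of `M`. -/

set_option autoImplicit false
set_option linter.style.haveILetI false
set_option linter.unusedVariables false
set_option linter.unusedSectionVars false
universe u

namespace Groth.Agent.Helper9.TorT1

open CategoryTheory CategoryTheory.Limits AlgebraicGeometry Opposite TensorProduct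
open Scheme.Modules Groth.Agent.Helper9.TP1 Groth.Agent.Helper9.TP2
  Groth.Agent.Helper3.DRingLib Groth.Agent.Helper9.SkyMod4 Groth.Agent.Helper9.StalkTensor9
  Groth.Agent.Helper9.Tilde1 Groth.Agent.Helper9.Tilde2

attribute [local instance] HasDerivedCategory.standard

variable (R : CommRingCat.{u})

/-- the local ring at `p` as an `R`-algebra -/
@[instance_reducible]
noncomputable def stalkAlg (p : Spec R) : Algebra R ((Spec R).presheaf.stalk p) :=
  (ψ R p).toAlgebra

attribute [local instance] stalkAlg

lemma ψ_eq (p : Spec R) : ψ R p = (StructureSheaf.toStalk R p).hom := by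
  ext r
  rfl

/-- the prime ideal of a point -/
abbrev pr (p : Spec R) : Ideal R := PrimeSpectrum.asIdeal (show PrimeSpectrum R from p)

instance (p : Spec R) : (pr R p).IsPrime := PrimeSpectrum.isPrime (show PrimeSpectrum R from p)

theorem isLocalization_stalk (p : Spec R) :
    IsLocalization.AtPrime ((Spec R).presheaf.stalk p) (pr R p) := by
  have h := StructureSheaf.IsLocalization.to_stalk R (show PrimeSpectrum R from p)
  have e : stalkAlg R p = StructureSheaf.stalkAlgebra R (show PrimeSpectrum R from p) :=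
    Algebra.algebra_ext _ _ (fun r => rfl)
  show @IsLocalization.AtPrime R _ ((Spec R).presheaf.stalk p) _ (stalkAlg R p) (pr R p) _
  rw [e]
  exact h

instance flat_stalk (p : Spec R) : Module.Flat R ((Spec R).presheaf.stalk p) := by
  haveI := isLocalization_stalk R p
  exact IsLocalization.flat ((Spec R).presheaf.stalk p) (pr R p).primeCompl

theorem jointlyFaithful_stalks :
    JointlyFaithful R (fun p : Spec R => ((Spec R).presheaf.stalk p)) := by
  intro M _ _ h
  refine ⟨fun x y => ?_⟩
  suffices hz : ∀ m : M, m = 0 by rw [hz x, hz y]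
  intro m
  by_contra hm
  have hne : (Submodule.span R {m}).annihilator ≠ ⊤ := by
    intro htop
    apply hm
    have h1 : (1 : R) ∈ (Submodule.span R {m}).annihilator := by rw [htop]; trivial
    have := (Submodule.mem_annihilator_span_singleton m 1).1 h1
    simpa using this
  obtain ⟨𝔪, h𝔪, hle⟩ := Ideal.exists_le_maximal _ hne
  let p : Spec R := (⟨𝔪, h𝔪.isPrime⟩ : PrimeSpectrum R)
  haveI := isLocalization_stalk R p
  have h0 : TensorProduct.mk R ((Spec R).presheaf.stalk p) M 1 m = 0 := by
    have := h p
    exact Subsingleton.elim _ _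
  obtain ⟨⟨c, hc⟩, hcm⟩ := (IsLocalizedModule.eq_zero_iff (pr R p).primeCompl
    (TensorProduct.mk R ((Spec R).presheaf.stalk p) M 1)).mp h0
  have hcm' : c • m = 0 := hcm
  exact hc (hle ((Submodule.mem_annihilator_span_singleton m c).2 hcm'))

section Main

variable [PreservesFiniteLimits (tilde.functor R)]

/-- `(M~)_p` is flat when `M` is -/
theorem isFlat_tilde (N : ModuleCat.{u} R) (hN : Module.Flat R N) : FlatMod.IsFlat (tilde N) := by
  intro p
  let e : (St p).obj (tilde N) ≅ (ModuleCat.extendScalars (ψ R p)).obj N :=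
    (tildeStalkIso R p).app N
  haveI : Module.Flat ((Spec R).presheaf.stalk p)
      ((ModuleCat.extendScalars (algebraMap R ((Spec R).presheaf.stalk p))).obj N) :=
    Module.Flat.of_linearEquiv (extendScalarsEquiv (B := (Spec R).presheaf.stalk p) N)
  exact Module.Flat.of_linearEquiv e.toLinearEquiv

theorem hasFlatAmplitudeIn_tildeD_iff (M : DerivedCategory (ModuleCat.{u} R)) (a b : ℤ) :
    DCoh.HasFlatAmplitudeIn a b ((DCoh.tildeD R).obj M) ↔ DRing.HasTorAmplitudeIn R a b M := by
  constructor
  · rintro ⟨E, hv, hfl, ⟨e⟩⟩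
    let K : CochainComplex (ModuleCat.{u} R) ℤ := DerivedCategory.Q.objPreimage M
    let e' : DerivedCategory.Q.obj K ≅ M := DerivedCategory.Q.objObjPreimageIso M
    let ι : DerivedCategory.Q.obj E ≅ DerivedCategory.Q.obj ((tCx R).obj K) :=
      e ≪≫ (DCoh.tildeD R).mapIso e'.symm ≪≫ qIso R K
    refine hasTorAmplitudeIn_of_iso e' a b
      (hasTorAmplitudeIn_of_forall_bcCx (jointlyFaithful_stalks R) K a b (fun p => ?_))
    refine ⟨(StCx p).obj E, fun i hi => Functor.map_isZero (St p) (hv i hi), fun i => hfl i p, ⟨?_⟩⟩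
    exact ((St p).mapDerivedCategoryFactors.app E).symm ≪≫
      (St p).mapDerivedCategory.mapIso ι ≪≫
      (St p).mapDerivedCategoryFactors.app ((tCx R).obj K) ≪≫
      DerivedCategory.Q.mapIso (tildeStalkCxIso R p K)
  · rintro ⟨E, hv, hfl, ⟨e⟩⟩
    exact ⟨(tCx R).obj E, fun i hi => Functor.map_isZero (tilde.functor R) (hv i hi),
      fun i => isFlat_tilde R (E.X i) (hfl i), ⟨(qIso R E).symm ≪≫ (DCoh.tildeD R).mapIso e⟩⟩

end Main

end Groth.Agent.Helper9.TorT1
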