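import Mathlib
import Groth.Agent.Helper9.RLT3
import Groth.Agent.Helper9.TorT1
import Groth.Agent.Helper9.TorAmpSch2

/-! Relative tor amplitude of `M~` on `Spec A` over `Spec R` versus tor amplitude of `M` over
`R`. -/

set_option autoImplicit false
set_option linter.style.haveILetI false
set_option linter.unusedVariables false
set_option linter.unusedSectionVars false
universe u

namespace Groth.Agent.Helper9.RLT5

open CategoryTheory CategoryTheory.Limits AlgebraicGeometry MonoidalCategory HomologicalComplex
  TensorProduct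
open Groth.Agent.Helper6.TenCx Groth.Agent.Helper3.DRingLib Groth.Agent.Helper9.RingProj1
  Groth.Agent.Helper9.RingProj2 Groth.Agent.Helper9.RingProj4 Groth.Agent.Helper9.RLT1
  Groth.Agent.Helper9.RLT3
  Groth.Agent.Helper9.TP1 Groth.Agent.Helper9.TP2 Groth.Agent.Helper9.SkyMod4
  Groth.Agent.Helper9.Tilde1 Groth.Agent.Helper9.Tilde2 Groth.Agent.Helper9.TorT1
  Groth.Agent.Helper9.StalkTensor9

attribute [local instance] HasDerivedCategory.standard

section Loc

variable {A A' : Type u} [CommRing A] [CommRing A']

/-- over a localization, every module is extended from its restriction of scalars -/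
theorem nonempty_ext_rs_iso [Algebra A A'] (S : Submonoid A) [IsLocalization S A']
    (N : ModuleCat.{u} A') :
    Nonempty ((ext (algebraMap A A')).obj ((rs (algebraMap A A')).obj N) ≅ N) := by
  let M : ModuleCat.{u} A := (rs (algebraMap A A')).obj N
  letI : Module A' M := inferInstanceAs (Module A' N)
  haveI : IsScalarTower A A' M := ⟨fun a a' n => by
    show (a • a') • (n : N) = algebraMap A A' a • (a' • (n : N))
    rw [Algebra.smul_def, mul_smul]⟩
  haveI : IsLocalizedModule S (LinearMap.id : M →ₗ[A] M) := isLocalizedModule_id S M A'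
  have hbc : IsBaseChange A' (LinearMap.id : M →ₗ[A] M) :=
    (isLocalizedModule_iff_isBaseChange S A' _).1 inferInstance
  let e : A' ⊗[A] M ≃ₗ[A'] M := hbc.equiv
  let e' : (ext (algebraMap A A')).obj M ≃ₗ[A'] N :=
    (extendScalarsEquiv (B := A') M).trans e
  exact ⟨e'.toModuleIso⟩

end Loc

section Tilde

variable (R : CommRingCat.{u})

attribute [local instance] stalkAlg

lemma flat_ψ (p : Spec R) : (ψ R p).Flat := by
  show @Module.Flat R ((Spec R).presheaf.stalk p) _ _ (ψ R p).toAlgebra.toModule
  exact flat_stalk R p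

lemma nonempty_ext_rs_iso_ψ (p : Spec R) (N : ModuleCat.{u} ((Spec R).presheaf.stalk p)) :
    Nonempty ((ext (ψ R p)).obj ((rs (ψ R p)).obj N) ≅ N) := by
  haveI := isLocalization_stalk R p
  exact nonempty_ext_rs_iso (pr R p).primeCompl N

end Tilde

section Main

variable {R A : CommRingCat.{u}} (φ : R ⟶ A)

attribute [local instance] stalkAlg

/-- the square of local rings commutes -/
lemma square_comm (x : Spec A) :
    (ψ A x).comp φ.hom = ((Spec.map φ).stalkMap x).hom.comp (ψ R ((Spec.map φ).base x)) := by
  rw [ψ_eq, ψ_eq]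
  have h := AlgebraicGeometry.stalkMap_toStalk φ x
  ext r
  exact (congrArg (fun g => g.hom r) h).symm

variable [PreservesFiniteLimits (tilde.functor A)]

/-- the complex of stalks of a complex representing `K~` -/
noncomputable def stalkTildeDIso (K : DRing.Cx A) (F : CochainComplex (Spec A).Modules ℤ)
    (e : DCoh.toD (Spec A) F ≅ (DCoh.tildeD A).obj (DRing.toD K)) (x : Spec A) :
    DRing.toD ((StCx x).obj F) ≅ DRing.toD ((extCx (ψ A x)).obj K) :=
  Groth.Agent.Helper9.TorStalk1.stalkDIso x (e ≪≫ qIso A K) ≪≫
    DerivedCategory.Q.mapIso (tildeStalkCxIso A x K)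

theorem main (K : DRing.Cx A) (F : CochainComplex (Spec A).Modules ℤ)
    (e : DCoh.toD (Spec A) F ≅ (DCoh.tildeD A).obj (DRing.toD K)) (a b : ℤ) :
    DerSch.HasTorAmplitude (Spec.map φ) a b F ↔
      DRing.HasTorAmplitudeIn R a b (DRing.toD ((RingProj1.rCx φ.hom).obj K)) := by
  constructor
  · intro h
    refine up φ.hom (fun x : Spec A => (Spec A).presheaf.stalk x)
      (fun x : Spec A => (Spec R).presheaf.stalk ((Spec.map φ).base x))
      (fun x => ψ R ((Spec.map φ).base x)) (fun x => flat_ψ R _)
      (fun x => ((Spec.map φ).stalkMap x).hom) (fun x => square_comm φ x)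
      (jointlyFaithful_stalks A) K a b (fun x => ?_)
    exact hasTorAmplitudeIn_of_iso (rCxDIso _ (stalkTildeDIso K F e x)) _ _ (h x)
  · intro h x
    have h1 := down φ.hom (ψ A x) (ψ R ((Spec.map φ).base x)) ((Spec.map φ).stalkMap x).hom
      (flat_ψ A x) (flat_ψ R _) (nonempty_ext_rs_iso_ψ R _) (square_comm φ x) K a b h
    exact hasTorAmplitudeIn_of_iso (rCxDIso _ (stalkTildeDIso K F e x)).symm _ _ h1

end Main

end Groth.Agent.Helper9.RLT5
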