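import Mathlib
import Groth.Prelude.Def_DualSh
import Groth.Agent.Helper9.RelTor2
import Groth.Agent.Helper9.RLT5
import Groth.Agent.Helper9.TP3
import Groth.Agent.Helper3.DRingPC3

/-! `M~` is `S`-perfect iff `M` is `R`-perfect (affine case). -/

set_option autoImplicit false
set_option linter.style.haveILetI false
set_option linter.unusedVariables false
set_option linter.unusedSectionVars false
universe u

namespace Groth.Agent.Helper9.RelTor3

noncomputable section

open CategoryTheory CategoryTheory.Limits AlgebraicGeometry HomologicalComplex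
open Groth.Agent.Helper3.DRingLib Groth.Agent.Helper9.RelTor1 Groth.Agent.Helper9.RelTor2
  Groth.Agent.Helper9.TP1 Groth.Agent.Helper9.TP2

attribute [local instance] HasDerivedCategory.standard

/-- on a quasi-compact scheme, local finiteness of relative tor amplitude is global -/
theorem exists_hasTorAmplitude_of_locFinite {X S : Scheme.{u}} [CompactSpace X] (f : X ⟶ S)
    (F : CochainComplex X.Modules ℤ) (h : DerSch.LocFiniteTorAmplitude f F) :
    ∃ a b : ℤ, DerSch.HasTorAmplitude f a b F := by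
  choose V a b hxV hV using h
  obtain ⟨t, ht⟩ := CompactSpace.elim_nhds_subcover (fun x : X => ((V x : X.Opens) : Set X))
    (fun x => (V x).isOpen.mem_nhds (hxV x))
  obtain ⟨b₀, hb₀⟩ := (t.image b).exists_le
  obtain ⟨a₀, ha₀⟩ : ∃ a₀ : ℤ, ∀ i ∈ t.image a, a₀ ≤ i := by
    obtain ⟨c, hc⟩ := (t.image (fun y => - a y)).exists_le
    refine ⟨-c, fun i hi => ?_⟩
    obtain ⟨y, hy, rfl⟩ := Finset.mem_image.1 hi
    have := hc (- a y) (Finset.mem_image_of_mem (fun y => - a y) hy)
    omega
  refine ⟨a₀, b₀, fun x => ?_⟩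
  have hx : x ∈ ⋃ y ∈ t, ((V y : X.Opens) : Set X) := by rw [ht]; trivial
  simp only [Set.mem_iUnion] at hx
  obtain ⟨y, hyt, hxy⟩ := hx
  have h1 := hV y x hxy
  unfold DerSch.HasTorAmplitudeAt at h1 ⊢
  exact RelTor2.hasTorAmplitudeIn_mono (ha₀ _ (Finset.mem_image_of_mem a hyt))
    (hb₀ _ (Finset.mem_image_of_mem b hyt)) h1

theorem main (R A : Type u) [CommRing R] [CommRing A] [Algebra R A] [Module.Flat R A]
    [PreservesFiniteLimits (tilde.functor (CommRingCat.of A))] (M : Dual.D A) :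
    ((∀ m : ℤ, DCoh.IsPseudoCoherentD m ((DCoh.tildeD (CommRingCat.of A)).obj M)) ∧
      DCoh.LocHasFiniteRelTorDim (Spec.map (CommRingCat.ofHom (algebraMap R A)))
        ((DCoh.tildeD (CommRingCat.of A)).obj M)) ↔
    Dual2.IsRelPerfect R A M := by
  haveI : Flat (Spec.map (CommRingCat.ofHom (algebraMap R A))) := by
    rw [HasRingHomProperty.Spec_iff (P := @Flat)]
    exact RingHom.flat_algebraMap_iff.mpr inferInstance
  let K : DRing.Cx A := DerivedCategory.Q.objPreimage M
  let e₀ : DerivedCategory.Q.obj K ≅ M := DerivedCategory.Q.objObjPreimageIso M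
  let F₀ : CochainComplex (Spec (CommRingCat.of A)).Modules ℤ := (tCx (CommRingCat.of A)).obj K
  let eF : DCoh.toD _ F₀ ≅ (DCoh.tildeD (CommRingCat.of A)).obj M :=
    (qIso (CommRingCat.of A) K).symm ≪≫ (DCoh.tildeD (CommRingCat.of A)).mapIso e₀
  have eF' : DCoh.toD _ F₀ ≅ (DCoh.tildeD (CommRingCat.of A)).obj (DRing.toD K) :=
    (qIso (CommRingCat.of A) K).symm
  have e1 : (DRing.restrictD (algebraMap R A)).obj M ≅
      DRing.toD ((Groth.Agent.Helper9.RingProj1.rCx (algebraMap R A)).obj K) :=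
    (DRing.restrictD (algebraMap R A)).mapIso e₀.symm ≪≫ rDToD (algebraMap R A) K
  have hpc : (∀ m : ℤ, DCoh.IsPseudoCoherentD m ((DCoh.tildeD (CommRingCat.of A)).obj M)) ↔
      DRing.IsPseudoCoherent' A M := by
    rw [isPseudoCoherent'_iff_forall]
    exact forall_congr' (fun m =>
      Groth.Agent.Helper9.TP3.isPseudoCoherentD_tildeD_iff (CommRingCat.of A) M m)
  have hmain := fun a b => Groth.Agent.Helper9.RLT5.main
    (CommRingCat.ofHom (algebraMap R A)) K F₀ eF' a b
  have htor : DCoh.LocHasFiniteRelTorDim (Spec.map (CommRingCat.ofHom (algebraMap R A)))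
      ((DCoh.tildeD (CommRingCat.of A)).obj M) ↔
      DRing.HasFiniteTorDimCx R ((DRing.restrictD (algebraMap R A)).obj M) := by
    rw [locHasFiniteRelTorDim_iff _ _ F₀ eF]
    constructor
    · intro h
      obtain ⟨a, b, hab⟩ := exists_hasTorAmplitude_of_locFinite _ F₀ h
      exact ⟨a, b, hasTorAmplitudeIn_of_iso e1.symm _ _ ((hmain a b).1 hab)⟩
    · rintro ⟨a, b, hab⟩ x
      exact ⟨⊤, a, b, trivial, fun x' _ =>
        (hmain a b).2 (hasTorAmplitudeIn_of_iso e1 _ _ hab) x'⟩
  unfold Dual2.IsRelPerfect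
  rw [hpc, htor]

end

end Groth.Agent.Helper9.RelTor3
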