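import Mathlib
import Groth.Prelude.Def_DualSh
import Groth.Prelude.Def_DerSch2
import Groth.Agent.Helper9.Chart8

/-! Relative pseudo-coherence for flat morphisms of finite presentation and closed immersions
into them. -/

set_option autoImplicit false
set_option linter.style.haveILetI false
set_option linter.unusedVariables false
set_option linter.unusedSectionVars false
universe u

namespace Groth.Agent.Helper9.Chart9

noncomputable section

open CategoryTheory CategoryTheory.Limits AlgebraicGeometry HomologicalComplex Pretriangulated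
open Groth.Agent.Lead.PcLib Groth.Agent.Lead.PerfLib Groth.Agent.Helper9.Chart1
  Groth.Agent.Helper9.Chart2 Groth.Agent.Helper9.Chart3 Groth.Agent.Helper9.Chart4
  Groth.Agent.Helper9.Chart5 Groth.Agent.Helper9.Chart6 Groth.Agent.Helper9.Chart7
  Groth.Agent.Helper9.Chart8
  Groth.Agent.Helper9.CI1 Groth.Agent.Helper9.CI2 Groth.Agent.Helper9.CI5
  Groth.Agent.Helper9.ClImm1 Groth.Agent.Helper9.ClImmPF2 Scheme.Modules

attribute [local instance] HasDerivedCategory.standard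

variable {X P S : Scheme.{u}}

section FlatFP

variable (g : P ⟶ S)

/-- a chart on an affine pair has pseudo-coherent structure sheaf as soon as the ring map is
pseudo-coherent -/
theorem HO_of_pcHom (U : P.affineOpens) (V : S.affineOpens)
    (h : (U : P.Opens) ≤ g ⁻¹ᵁ (V : S.Opens))
    (hpc : letI := (g.appLE (V : S.Opens) (U : P.Opens) h).hom.toAlgebra
      MoreMor.IsPseudoCoherentHom Γ(S, (V : S.Opens)) Γ(P, (U : P.Opens)))
    (n : ℕ) (φ : MvPolynomial (Fin n) Γ(S, (V : S.Opens)) →+* Γ(P, (U : P.Opens)))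
    (hφ : DerSch.IsChart g (U : P.Opens) (V : S.Opens) h φ)
    (hcl : IsClosedImmersion (cMap (U : P.Opens) φ)) : HO (cMap (U : P.Opens) φ) := by
  letI := (g.appLE (V : S.Opens) (U : P.Opens) h).hom.toAlgebra
  letI : Algebra (MvPolynomial (Fin n) Γ(S, (V : S.Opens))) Γ(P, (U : P.Opens)) := φ.toAlgebra
  haveI : IsScalarTower Γ(S, (V : S.Opens)) (MvPolynomial (Fin n) Γ(S, (V : S.Opens)))
      Γ(P, (U : P.Opens)) := IsScalarTower.of_algebraMap_eq (fun a => by
    have := congrArg (fun t => t a) hφ.2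
    exact this.symm)
  have h1 := (Groth.Agent.Helper3.PcHom.pcHom_iff_module
    (A := Γ(S, (V : S.Opens))) (P := MvPolynomial (Fin n) Γ(S, (V : S.Opens)))
    (B := Γ(P, (U : P.Opens)))
    (Groth.Agent.Helper3.PcHom.pcHom_mvPolynomial _ n) hφ.1).1 hpc
  exact HO_cMap U.2 φ hφ.1 h1

variable [Flat g] [LocallyOfFinitePresentation g]

theorem pcHom_appLE (U : P.affineOpens) (V : S.affineOpens)
    (h : (U : P.Opens) ≤ g ⁻¹ᵁ (V : S.Opens)) :
    letI := (g.appLE (V : S.Opens) (U : P.Opens) h).hom.toAlgebra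
    MoreMor.IsPseudoCoherentHom Γ(S, (V : S.Opens)) Γ(P, (U : P.Opens)) := by
  letI := (g.appLE (V : S.Opens) (U : P.Opens) h).hom.toAlgebra
  have h1 : (g.appLE (V : S.Opens) (U : P.Opens) h).hom.Flat :=
    HasRingHomProperty.appLE (P := @Flat) g inferInstance V U h
  have h2 : (g.appLE (V : S.Opens) (U : P.Opens) h).hom.FinitePresentation :=
    HasRingHomProperty.appLE (P := @LocallyOfFinitePresentation) g inferInstance V U h
  haveI : Module.Flat Γ(S, (V : S.Opens)) Γ(P, (U : P.Opens)) := h1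
  haveI : Algebra.FinitePresentation Γ(S, (V : S.Opens)) Γ(P, (U : P.Opens)) := h2
  exact Groth.Agent.Helper9.FlatPC3.pcHom_of_flat_fp _ _

/-- for a flat morphism locally of finite presentation, relative and absolute pseudo-coherence
agree -/
theorem rel_iff_abs_of_flat_fp (m : ℤ) (K : DCoh.D P) :
    DerSch.IsPseudoCoherentRel g m K ↔ DCoh.IsPseudoCoherentD m K :=
  rel_iff_abs g (fun U V h n φ hφ hcl => HO_of_pcHom g U V h (pcHom_appLE g U V h) n φ hφ hcl)
    m K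

end FlatFP

section Link

variable (i : X ⟶ P) [IsClosedImmersion i] (g : P ⟶ S)

/-- the induced chart on the preimage of an affine open under a closed immersion -/
def psiOf {U : P.Opens} {V : S.Opens} {n : ℕ} (φ : MvPolynomial (Fin n) Γ(S, V) →+* Γ(P, U)) :
    MvPolynomial (Fin n) Γ(S, V) →+* Γ(X, i ⁻¹ᵁ U) :=
  (i.app U).hom.comp φ

lemma isChart_psiOf {U : P.Opens} (hU : IsAffineOpen U) {V : S.Opens} (h : U ≤ g ⁻¹ᵁ V) {n : ℕ}
    (φ : MvPolynomial (Fin n) Γ(S, V) →+* Γ(P, U)) (hφ : DerSch.IsChart g U V h φ) :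
    DerSch.IsChart (i ≫ g) (i ⁻¹ᵁ U) V (Scheme.Hom.preimage_mono i h) (psiOf i φ) := by
  refine ⟨(i.app_surjective U hU).comp hφ.1, ?_⟩
  dsimp only [psiOf]
  rw [RingHom.comp_assoc, hφ.2]
  have h1 := Scheme.Hom.appLE_comp_appLE i g V U (i ⁻¹ᵁ U) h le_rfl
  rw [← Scheme.Hom.app_eq_appLE] at h1
  rw [← h1]
  rfl

lemma cMap_psiOf {U : P.Opens} {V : S.Opens} {n : ℕ}
    (φ : MvPolynomial (Fin n) Γ(S, V) →+* Γ(P, U)) :
    cMap (i ⁻¹ᵁ U) (psiOf i φ) = (i ∣_ U) ≫ cMap U φ := by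
  dsimp only [cMap, psiOf]
  rw [← Scheme.Opens.toSpecΓ_naturality_assoc, ← Spec.map_comp]
  rfl

/-- the test for `F` on the induced chart is the test for the direct image of `F` -/
theorem pcvia_psiOf_iff {U : P.Opens} {V : S.Opens} {n : ℕ}
    (φ : MvPolynomial (Fin n) Γ(S, V) →+* Γ(P, U)) (m : ℤ) (F : CochainComplex X.Modules ℤ) :
    PCvia (i ⁻¹ᵁ U) (psiOf i φ) m F ↔ PCvia U φ m ((DerSch.pushCx i).obj F) := by
  have e : (DerSch.pushCx (cMap (i ⁻¹ᵁ U) (psiOf i φ))).obj ((DCoh.restrictCx (i ⁻¹ᵁ U)).obj F) ≅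
      (DerSch.pushCx (cMap U φ)).obj ((DCoh.restrictCx U).obj ((DerSch.pushCx i).obj F)) :=
    pushCxCongr (cMap_psiOf i φ) _ ≪≫ (pushCxComp (i ∣_ U) (cMap U φ) _).symm ≪≫
      (DerSch.pushCx (cMap U φ)).mapIso (rcPushIso i U F).symm
  exact ⟨fun h => isPseudoCoherentD_of_iso (DerivedCategory.Q.mapIso e) h,
    fun h => isPseudoCoherentD_of_iso (DerivedCategory.Q.mapIso e).symm h⟩

end Link

section Main

variable (i : X ⟶ P) [IsClosedImmersion i] (g : P ⟶ S) [Flat g] [LocallyOfFinitePresentation g]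

/-- on the preimage of an affine open of `P`, a chart passing the test exists iff the direct
image is pseudo-coherent on that affine open -/
theorem hasChart_preimage_iff (U : P.affineOpens) (V : S.affineOpens)
    (h : (U : P.Opens) ≤ g ⁻¹ᵁ (V : S.Opens)) (m : ℤ) (F : CochainComplex X.Modules ℤ) :
    HasChart (i ≫ g) m (DerivedCategory.Q.obj F) (i ⁻¹ᵁ (U : P.Opens)) (V : S.Opens) ↔
      DCoh.IsPseudoCoherentD m ((DCoh.restrictD (U : P.Opens).ι).obj
        (DerivedCategory.Q.obj ((DerSch.pushCx i).obj F))) := by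
  have hft : (g.appLE (V : S.Opens) (U : P.Opens) h).hom.FiniteType :=
    HasRingHomProperty.appLE (P := @LocallyOfFiniteType) g inferInstance V U h
  obtain ⟨n, φ, hφ⟩ := exists_isChart g h hft
  haveI hcl : IsClosedImmersion (cMap (U : P.Opens) φ) := isClosedImmersion_cMap U.2 φ hφ.1
  have hO : HO (cMap (U : P.Opens) φ) :=
    HO_of_pcHom g U V h (pcHom_appLE g U V h) n φ hφ hcl
  have hψ := isChart_psiOf i g U.2 h φ hφ
  have hU' : IsAffineOpen (i ⁻¹ᵁ (U : P.Opens)) := U.2.preimage i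
  haveI hcl' : IsClosedImmersion (cMap (i ⁻¹ᵁ (U : P.Opens)) (psiOf i φ)) :=
    isClosedImmersion_cMap hU' _ hψ.1
  have key : DerSch.ChartPC m (DerivedCategory.Q.obj F) (i ⁻¹ᵁ (U : P.Opens)) (V : S.Opens)
      (psiOf i φ) ↔ DCoh.IsPseudoCoherentD m ((DCoh.restrictD (U : P.Opens).ι).obj
        (DerivedCategory.Q.obj ((DerSch.pushCx i).obj F))) := by
    rw [chartPC_iff_phi, ← pcvia_iff_phi, pcvia_psiOf_iff, pcvia_iff_phi, pc_phi_iff φ hO]
  constructor
  · rintro ⟨h', n', ψ', hψ', hc'⟩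
    exact key.1 (chartPC_of_chartPC (i ≫ g) _ _ h' m _ ψ' hψ' hc' (psiOf i φ) hψ)
  · intro hpc
    exact ⟨_, n, psiOf i φ, hψ, key.2 hpc⟩

/-- **closed immersion into a flat morphism of finite presentation** -/
theorem rel_comp_iff (m : ℤ) (F : CochainComplex X.Modules ℤ) :
    DerSch.IsPseudoCoherentRel (i ≫ g) m (DerivedCategory.Q.obj F) ↔
      DCoh.IsPseudoCoherentD m (DerivedCategory.Q.obj ((DerSch.pushCx i).obj F)) := by
  haveI : LocallyOfFiniteType (i ≫ g) := inferInstance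
  constructor
  · intro hrel
    rw [rel_iff] at hrel
    refine Groth.Agent.Helper9.FP1.isPseudoCoherentD_of_local m _ (fun y => ?_)
    obtain ⟨_, ⟨V, hV, rfl⟩, hyV, -⟩ :=
      S.isBasis_affineOpens.exists_subset_of_mem_open (Set.mem_univ (g.base y)) isOpen_univ
    obtain ⟨_, ⟨U, hU, rfl⟩, hyU, hUV⟩ :=
      P.isBasis_affineOpens.exists_subset_of_mem_open (show y ∈ g ⁻¹ᵁ V from hyV)
        (g ⁻¹ᵁ V).isOpen
    let U' : P.affineOpens := ⟨U, hU⟩
    let V' : S.affineOpens := ⟨V, hV⟩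
    have hUV' : (U' : P.Opens) ≤ g ⁻¹ᵁ (V' : S.Opens) := hUV
    refine ⟨(U' : P.Opens), (U' : P.Opens).ι, inferInstance, ⟨⟨y, hyU⟩, rfl⟩, ?_⟩
    refine (hasChart_preimage_iff i g U' V' hUV' m F).1 ?_
    obtain ⟨n, ψ, hψ, hc⟩ := hrel ⟨i ⁻¹ᵁ (U' : P.Opens), U'.2.preimage i⟩ V'
      (Scheme.Hom.preimage_mono i hUV')
    exact ⟨_, n, ψ, hψ, hc⟩
  · intro hpc
    rw [rel_iff]
    intro U₀ V h₀
    have hft : ((i ≫ g).appLE (V : S.Opens) (U₀ : X.Opens) h₀).hom.FiniteType :=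
      HasRingHomProperty.appLE (P := @LocallyOfFiniteType) (i ≫ g) inferInstance V U₀ h₀
    have key := hasChart_of_cover (i ≫ g) U₀.2 h₀ hft m (DerivedCategory.Q.obj F)
      (fun x hx => ?_)
    · obtain ⟨_, n, φ, hφ, hc⟩ := key
      exact ⟨n, φ, hφ, hc⟩
    · have hy : i.base x ∈ g ⁻¹ᵁ (V : S.Opens) := h₀ hx
      obtain ⟨_, ⟨U, hU, rfl⟩, hyU, hUV⟩ :=
        P.isBasis_affineOpens.exists_subset_of_mem_open hy (g ⁻¹ᵁ (V : S.Opens)).isOpen
      let U' : P.affineOpens := ⟨U, hU⟩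
      have hUV' : (U' : P.Opens) ≤ g ⁻¹ᵁ (V : S.Opens) := hUV
      have h1 : HasChart (i ≫ g) m (DerivedCategory.Q.obj F) (i ⁻¹ᵁ (U' : P.Opens))
          (V : S.Opens) :=
        (hasChart_preimage_iff i g U' V hUV' m F).2
          (Groth.Agent.Helper9.TT6.isPseudoCoherentD_restrictD _ m _ hpc)
      exact exists_hasChart_nhd (i ≫ g) U₀.2 (U'.2.preimage i) V.2 V.2 h₀ m _ h1 x hx hyU

end Main

end

end Groth.Agent.Helper9.Chart9
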