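import Mathlib
import Groth.Agent.Helper9.TorD1
import Groth.Agent.Helper9.LocTriv1

/-! Flat amplitude is local on the base. -/

set_option autoImplicit false
set_option linter.style.haveILetI false
set_option linter.unusedVariables false
set_option linter.unusedSectionVars false
universe u

namespace Groth.Agent.Helper9.PA1

open CategoryTheory CategoryTheory.Limits AlgebraicGeometry Opposite TopologicalSpace
  HomologicalComplex
open Groth.Agent.Helper9.SkyMod4 Groth.Agent.Helper9.SkyMod5 Groth.Agent.Helper9.StalkTensor9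
  Groth.Agent.Helper9.Lpull1 Groth.Agent.Helper9.Lpull3 Groth.Agent.Helper3.DRingLib
  Groth.Agent.Helper9.TorStalk1 Groth.Agent.Helper9.TorD1

attribute [local instance] HasDerivedCategory.standard

variable {X : Scheme.{u}}

/-- tor amplitude of the stalk at `j z` from flat amplitude of the restriction along the open
immersion `j` -/
theorem hasTorAmplitudeIn_stalk_of_restrict {Z : Scheme.{u}} (j : Z ⟶ X) [IsOpenImmersion j]
    (P : CochainComplex X.Modules ℤ) (a b : ℤ) (z : Z)
    (h : DCoh.HasFlatAmplitudeIn a b (DerivedCategory.Q.obj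
      (((Scheme.Modules.restrictFunctor j).mapHomologicalComplex (ComplexShape.up ℤ)).obj P))) :
    DRing.HasTorAmplitudeIn (X.presheaf.stalk (j.base z)) a b
      (DRing.toD ((StCx (j.base z)).obj P)) := by
  let G := ((Scheme.Modules.pullback j).mapHomologicalComplex (ComplexShape.up ℤ)).obj P
  have eG : ((Scheme.Modules.restrictFunctor j).mapHomologicalComplex (ComplexShape.up ℤ)).obj P ≅ G :=
    (NatIso.mapHomologicalComplex (Scheme.Modules.restrictFunctorIsoPullback j)
      (ComplexShape.up ℤ)).app P
  have hG : DCoh.HasFlatAmplitudeIn a b (DCoh.toD Z G) :=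
    hasFlatAmplitudeIn_of_iso (DerivedCategory.Q.mapIso eG) a b h
  have h1 := hasTorAmplitudeIn_stalk_of_hasFlatAmplitudeIn G a b hG z
  have h2 : DRing.HasTorAmplitudeIn (Z.presheaf.stalk z) a b
      (DRing.toD ((DTen.extCx (j.stalkMap z).hom).obj ((StCx (j.base z)).obj P))) :=
    hasTorAmplitudeIn_of_iso (DerivedCategory.Q.mapIso (pullStalkCxIso j z P)) _ _ h1
  exact hasTorAmplitudeIn_of_ext (j.stalkMap z).hom (Flat.stalkMap j z) _ a b h2

/-- flat amplitude is local -/
theorem hasFlatAmplitudeIn_of_local (P : CochainComplex X.Modules ℤ) (a b : ℤ)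
    (h : ∀ x : X, ∃ (Z : Scheme.{u}) (j : Z ⟶ X) (_ : IsOpenImmersion j), x ∈ Set.range j.base ∧
      DCoh.HasFlatAmplitudeIn a b (DerivedCategory.Q.obj
        (((Scheme.Modules.restrictFunctor j).mapHomologicalComplex (ComplexShape.up ℤ)).obj P))) :
    DCoh.HasFlatAmplitudeIn a b (DCoh.toD X P) := by
  have hst : ∀ y : X, DRing.HasTorAmplitudeIn (X.presheaf.stalk y) a b
      (DRing.toD ((StCx y).obj P)) := by
    intro y
    obtain ⟨Z, j, hj, ⟨z, rfl⟩, hZ⟩ := h y
    exact hasTorAmplitudeIn_stalk_of_restrict j P a b z hZ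
  have hLE : P.IsLE b := by
    rw [CochainComplex.isLE_iff]
    intro i hi
    rw [HomologicalComplex.exactAt_iff_isZero_homology]
    apply isZero_of_stalks
    intro y
    obtain ⟨E', hE', _, ⟨e⟩⟩ := hst y
    refine IsZero.of_iso ?_ (Groth.Agent.Helper9.LocSplit3.stalkHomologyIso y P i).symm
    have hEz : IsZero (E'.homology i) := by
      rw [← HomologicalComplex.exactAt_iff_isZero_homology]
      exact exactAt_of_isZero_X E' i (hE' i (Or.inr hi))
    exact hEz.of_iso (((DerivedCategory.homologyFunctorFactors _ i).app _).symm ≪≫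
      (DerivedCategory.homologyFunctor _ i).mapIso e.symm ≪≫
      (DerivedCategory.homologyFunctorFactors _ i).app _)
  haveI : (DCoh.toD X P).IsLE b := (DerivedCategory.isLE_Q_obj_iff P b).2 hLE
  exact hasFlatAmplitudeIn_of_stalks P b a b hst

end Groth.Agent.Helper9.PA1
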