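import Mathlib
import Groth.Agent.Helper9.PerfCone

set_option autoImplicit false
universe w v u
open CategoryTheory CategoryTheory.Limits

namespace Groth.Agent.Helper9.PerfCone

variable {C : Type u} [Category.{v} C] [Abelian C]
variable (P : ObjectProperty C) [P.IsClosedUnderIsomorphisms] [P.ContainsZero]

lemma exactAt_succ_iff (K : CochainComplex C ℤ) (i : ℤ) :
    K.ExactAt (i + 1) ↔
      Epi (kernel.lift (K.d (i + 1) (i + 2)) (K.d i (i + 1)) (K.d_comp_d _ _ _)) := by
  rw [K.exactAt_iff' i (i + 1) (i + 2) (by simp) (by simp; ring)]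
  exact (K.sc' i (i + 1) (i + 2)).exact_iff_epi_kernel_lift

/-- kernels of the differentials of a bounded above complex with terms in `P`, exact in high
degrees, are in `P` -/
lemma prop_kernel_d (hst : ∀ (E F : C) (u : E ⟶ F), Epi u → P E → P F → P (kernel u))
    (K : CochainComplex C ℤ) (b c : ℤ)
    (hzero : ∀ i, c < i → IsZero (K.X i)) (hex : ∀ i, b < i → K.ExactAt i)
    (hP : ∀ i, b ≤ i → P (K.X i)) :
    ∀ (n : ℕ) (i : ℤ), b ≤ i → c - i ≤ n → P (kernel (K.d i (i + 1))) := by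
  intro n
  induction n with
  | zero =>
    intro i hbi hci
    have h0 : K.d i (i + 1) = 0 := (hzero (i + 1) (by omega)).eq_of_tgt _ _
    have e : kernel (K.d i (i + 1)) ≅ K.X i := by
      rw [h0]
      exact kernelZeroIsoSource
    exact P.prop_of_iso e.symm (hP i hbi)
  | succ n ih =>
    intro i hbi hci
    have h1 : P (kernel (K.d (i + 1) (i + 1 + 1))) := ih (i + 1) (by omega) (by push_cast at hci ⊢; omega)
    have h12 : i + 1 + 1 = i + 2 := by ring
    have h1' : P (kernel (K.d (i + 1) (i + 2))) := by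
      rw [← h12]
      exact h1
    have hepi := (exactAt_succ_iff K i).1 (hex (i + 1) (by omega))
    have h2 := hst _ _ _ hepi (hP i hbi) h1'
    have e1 : kernel (kernel.lift (K.d (i + 1) (i + 2)) (K.d i (i + 1)) (K.d_comp_d _ _ _) ≫
        kernel.ι (K.d (i + 1) (i + 2))) ≅
        kernel (kernel.lift (K.d (i + 1) (i + 2)) (K.d i (i + 1)) (K.d_comp_d _ _ _)) :=
      kernelCompMono _ _
    have e2 : kernel (K.d i (i + 1)) ≅
        kernel (kernel.lift (K.d (i + 1) (i + 2)) (K.d i (i + 1)) (K.d_comp_d _ _ _) ≫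
        kernel.ι (K.d (i + 1) (i + 2))) := kernelIsoOfEq (kernel.lift_ι _ _ _).symm
    exact P.prop_of_iso (e2 ≪≫ e1).symm h2

variable [HasDerivedCategory.{w} C]

theorem s5610 (hst : ∀ (E F : C) (u : E ⟶ F), Epi u → P E → P F → P (kernel u))
    (a b c : ℤ) (hab : a ≤ b) (hac : a ≤ c) (F : CochainComplex C ℤ)
    (hP : ∀ i : ℤ, P (F.X i)) (hvan : ∀ i : ℤ, i < a ∨ c < i → IsZero (F.X i))
    (hcoh : ∀ i : ℤ, b < i → IsZero (F.homology i)) :
    ∃ F' : CochainComplex C ℤ, (∀ i : ℤ, P (F'.X i)) ∧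
      (∀ i : ℤ, i < a ∨ min b c < i → IsZero (F'.X i)) ∧
      Nonempty (DerivedCategory.Q.obj F' ≅ DerivedCategory.Q.obj F) := by
  by_cases hbc : c ≤ b
  · refine ⟨F, hP, ?_, ⟨Iso.refl _⟩⟩
    intro i hi
    apply hvan
    rw [min_eq_right hbc] at hi
    exact hi
  · have hbc' : b < c := not_le.1 hbc
    have hex : ∀ i, b < i → F.ExactAt i := fun i hi =>
      (F.exactAt_iff_isZero_homology i).2 (hcoh i hi)
    haveI : F.IsLE b := (F.isLE_iff b).2 hex
    have hq : QuasiIso (F.ιTruncLE b) := (F.quasiIso_ιTruncLE_iff b).2 inferInstance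
    haveI : IsIso (DerivedCategory.Q.map (F.ιTruncLE b)) :=
      (DerivedCategory.isIso_Q_map_iff_quasiIso C (F.ιTruncLE b)).2 hq
    have hZ : P (kernel (F.d b (b + 1))) :=
      prop_kernel_d P hst F b c (fun i hi => hvan i (Or.inr hi)) hex (fun i _ => hP i)
        (c - b).toNat b le_rfl (by omega)
    have hcyc : P (F.cycles b) :=
      P.prop_of_iso ((F.cyclesIsKernel b (b + 1) (by simp)).conePointUniqueUpToIso
        (kernelIsKernel (F.d b (b + 1)))).symm hZ
    refine ⟨F.truncLE b, ?_, ?_, ⟨asIso (DerivedCategory.Q.map (F.ιTruncLE b))⟩⟩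
    · intro i
      rcases lt_trichotomy i b with h | h | h
      · exact P.prop_of_iso (F.truncLEXIso b i h).symm (hP i)
      · subst h
        exact P.prop_of_iso (F.truncLEXIsoCycles i).symm hcyc
      · exact P.prop_of_isZero ((F.truncLE b).isZero_of_isStrictlyLE b i h)
    · intro i hi
      rw [min_eq_left hbc'.le] at hi
      rcases hi with hi | hi
      · exact IsZero.of_iso (hvan i (Or.inl hi)) (F.truncLEXIso b i (by omega))
      · exact (F.truncLE b).isZero_of_isStrictlyLE b i hi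

omit [HasDerivedCategory C] in
lemma exactAt_iff_epi_lift (K : CochainComplex C ℤ) (i j k : ℤ) (hij : i + 1 = j) (hjk : j + 1 = k) :
    K.ExactAt j ↔ Epi (kernel.lift (K.d j k) (K.d i j) (K.d_comp_d _ _ _)) := by
  rw [K.exactAt_iff' i j k (by simp [← hij]) (by simp [← hjk])]
  exact (K.sc' i j k).exact_iff_epi_kernel_lift

omit [HasDerivedCategory C] in
lemma prop_kernel_d' (hst : ∀ (E F : C) (u : E ⟶ F), Epi u → P E → P F → P (kernel u))
    (K : CochainComplex C ℤ) (b c : ℤ)
    (hzero : ∀ i, c < i → IsZero (K.X i)) (hex : ∀ i, b < i → K.ExactAt i)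
    (hP : ∀ i, b ≤ i → P (K.X i)) (i k : ℤ) (hik : i + 1 = k) (hbi : b ≤ i) :
    P (kernel (K.d i k)) := by
  subst hik
  exact prop_kernel_d P hst K b c hzero hex hP (c - i).toNat i hbi (by omega)

/-- a split epimorphism with kernel and target in `P` has source in `P` -/
lemma prop_of_split_epi (hbi : ∀ X Y : C, P X → P Y → P (X ⊞ Y))
    {X Z : C} (u : X ⟶ Z) [Epi u] (hs : IsSplitEpi u) (hK : P (kernel u)) (hZ : P Z) : P X := by
  obtain ⟨⟨s, hs⟩⟩ := hs
  let S : ShortComplex C := ShortComplex.mk (kernel.ι u) u (kernel.condition u)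
  have hS : S.Exact := ShortComplex.exact_of_f_is_kernel S (kernelIsKernel u)
  have spl : S.Splitting := ShortComplex.Splitting.ofExactOfSection S hS s hs
    (inferInstanceAs (Mono (kernel.ι u)))
  exact P.prop_of_iso spl.isoBinaryBiproduct.symm (hbi _ _ hK hZ)

theorem s5621 (hsum : ∀ X Y : C, P X → P Y → P (X ⨯ Y))
    (hlift : ∀ (E F : C) (u : E ⟶ F), Epi u → P F → IsSplitEpi u)
    (hst : ∀ (E F : C) (u : E ⟶ F), Epi u → P E → P F → P (kernel u))
    (a b : ℤ) (F : CochainComplex C ℤ)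
    (hvan : ∀ i : ℤ, i < a ∨ b < i → IsZero (F.X i)) (hP : ∀ i : ℤ, a < i → P (F.X i))
    (hamp : (∃ E : CochainComplex C ℤ, (∀ i : ℤ, P (E.X i)) ∧
      (∀ i : ℤ, i < a ∨ b < i → IsZero (E.X i)) ∧
      Nonempty (DerivedCategory.Q.obj E ≅ DerivedCategory.Q.obj F))) :
    P (F.X a) := by
  obtain ⟨E, hPE, hzE, ⟨e⟩⟩ := hamp
  have hbi := prop_biprod P hsum
  haveI : ∀ n, Projective (E.X n) := fun n =>
    projective_of_split _ (fun E' u hu => hlift E' _ u hu (hPE n))
  haveI : E.IsStrictlyLE b := by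
    rw [CochainComplex.isStrictlyLE_iff]
    intro i hi
    exact hzE i (Or.inr hi)
  haveI : E.IsKProjective := CochainComplex.isKProjective_of_projective E b
  obtain ⟨φ, hφ⟩ := exists_map_eq_of_isKProjective E F e.hom
  haveI : IsIso (DerivedCategory.Q.map φ) := by
    rw [hφ]
    infer_instance
  -- the cone is acyclic
  have hT' : DerivedCategory.Q.mapTriangle.obj (CochainComplex.mappingCone.triangle φ) ∈
      distTriang (DerivedCategory C) := by
    rw [DerivedCategory.mem_distTriang_iff]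
    exact ⟨_, _, φ, ⟨Iso.refl _⟩⟩
  have hz : IsZero (DerivedCategory.Q.obj (CochainComplex.mappingCone φ)) :=
    (Pretriangulated.Triangle.isZero₃_iff_isIso₁ _ hT').2
      (inferInstanceAs (IsIso (DerivedCategory.Q.map φ)))
  let M := CochainComplex.mappingCone φ
  have hex : ∀ i : ℤ, M.ExactAt i := by
    intro i
    rw [HomologicalComplex.exactAt_iff_isZero_homology]
    exact IsZero.of_iso ((DerivedCategory.homologyFunctor C i).map_isZero hz)
      ((DerivedCategory.homologyFunctorFactors C i).app M).symm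
  have hMP : ∀ i, a + 1 ≤ i → P (M.X i) := fun i hi =>
    P.prop_of_iso (HomologicalComplex.homotopyCofiber.XIsoBiprod φ i (i + 1) rfl).symm
      (hbi _ _ (hPE _) (hP i (by omega)))
  have hMz : ∀ i, b < i → IsZero (M.X i) := fun i hi =>
    isZero_mappingCone φ i (hzE _ (Or.inr (by omega))) (hvan _ (Or.inr hi))
  -- cycles in degree a + 1
  have hZ1 : P (kernel (M.d (a + 1) (a + 2))) :=
    prop_kernel_d' P hst M (a + 1) b hMz (fun i _ => hex i) hMP (a + 1) (a + 2) (by ring) le_rfl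
  -- degree a - 1
  have hMa1 : P (M.X (a - 1)) :=
    P.prop_of_iso (HomologicalComplex.homotopyCofiber.XIsoBiprod φ (a - 1) (a - 1 + 1) rfl).symm
      (hbi _ _ (hPE _) (P.prop_of_isZero (hvan _ (Or.inl (by omega)))))
  have hMa2 : IsZero (M.X (a - 2)) :=
    isZero_mappingCone φ (a - 2) (hzE _ (Or.inl (by omega))) (hvan _ (Or.inl (by omega)))
  -- cycles in degree a
  have hmono : Mono (M.d (a - 1) a) := by
    have h1 := (M.exactAt_iff' (a - 2) (a - 1) a (by simp; ring) (by simp)).1 (hex (a - 1))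
    exact h1.mono_g (hMa2.eq_of_src _ _)
  have hepi0 := (exactAt_iff_epi_lift M (a - 1) a (a + 1) (by ring) rfl).1 (hex a)
  have hmono0 : Mono (kernel.lift (M.d a (a + 1)) (M.d (a - 1) a) (M.d_comp_d _ _ _)) := by
    have : kernel.lift (M.d a (a + 1)) (M.d (a - 1) a) (M.d_comp_d _ _ _) ≫ kernel.ι _ =
        M.d (a - 1) a := kernel.lift_ι _ _ _
    exact mono_of_mono_fac this
  haveI : IsIso (kernel.lift (M.d a (a + 1)) (M.d (a - 1) a) (M.d_comp_d _ _ _)) :=
    isIso_of_mono_of_epi _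
  have hZ0 : P (kernel (M.d a (a + 1))) :=
    P.prop_of_iso (asIso (kernel.lift (M.d a (a + 1)) (M.d (a - 1) a) (M.d_comp_d _ _ _))) hMa1
  -- degree a
  have hepi1 := (exactAt_iff_epi_lift M a (a + 1) (a + 2) rfl (by ring)).1 (hex (a + 1))
  have hK : P (kernel (kernel.lift (M.d (a + 1) (a + 2)) (M.d a (a + 1)) (M.d_comp_d _ _ _))) := by
    have e1 : kernel (kernel.lift (M.d (a + 1) (a + 2)) (M.d a (a + 1)) (M.d_comp_d _ _ _) ≫
        kernel.ι (M.d (a + 1) (a + 2))) ≅
        kernel (kernel.lift (M.d (a + 1) (a + 2)) (M.d a (a + 1)) (M.d_comp_d _ _ _)) :=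
      kernelCompMono _ _
    have e2 : kernel (M.d a (a + 1)) ≅
        kernel (kernel.lift (M.d (a + 1) (a + 2)) (M.d a (a + 1)) (M.d_comp_d _ _ _) ≫
        kernel.ι (M.d (a + 1) (a + 2))) := kernelIsoOfEq (kernel.lift_ι _ _ _).symm
    exact P.prop_of_iso (e2 ≪≫ e1) hZ0
  have hMa : P (M.X a) :=
    prop_of_split_epi P hbi _ (hlift _ _ _ hepi1 hZ1) hK hZ1
  -- extract F.X a
  have hB : P (E.X (a + 1) ⊞ F.X a) :=
    P.prop_of_iso (HomologicalComplex.homotopyCofiber.XIsoBiprod φ a (a + 1) rfl) hMa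
  have hker := hst _ _ (biprod.fst : E.X (a + 1) ⊞ F.X a ⟶ E.X (a + 1)) inferInstance hB (hPE _)
  exact P.prop_of_iso ((kernelIsKernel _).conePointUniqueUpToIso
    (biprod.isKernelFstKernelFork (E.X (a + 1)) (F.X a))) hker

end Groth.Agent.Helper9.PerfCone
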