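import Mathlib
import Groth.Prelude.Def_KSix
import Groth.Agent.Helper9.PA1
import Groth.Agent.Helper9.PerfCyc
import Groth.Agent.Lead.FlatLib4
import Groth.Agent.Lead.PerfLib7

/-! Perfect amplitude `[m, n]` iff `(m-1)`-pseudo-coherent with flat amplitude `[m, n]`. -/

set_option autoImplicit false
set_option linter.style.haveILetI false
set_option linter.unusedVariables false
set_option linter.unusedSectionVars false
universe u

namespace Groth.Agent.Helper9.PA2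

open CategoryTheory CategoryTheory.Limits AlgebraicGeometry ZeroObject
open Scheme.Modules Groth.Agent.Lead.LocLift Groth.Agent.Lead.PerfLib Groth.Agent.Lead.PcLib
  Groth.Agent.Lead.FlatLib

attribute [local instance] HasDerivedCategory.standard

/-- `F` is, near `y`, isomorphic in the derived category to a complex of finite locally free
modules placed in `[m, n]`. -/
def LocSPIn (m n : ℤ) {Y : Scheme.{u}} (F : CochainComplex Y.Modules ℤ) (y : Y) : Prop :=
  ∃ (Z : Scheme.{u}) (j : Z ⟶ Y) (_ : IsOpenImmersion j), y ∈ Set.range j ∧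
    ∃ E : CochainComplex Z.Modules ℤ, DCoh.VanishesOutside E m n ∧
      (∀ i : ℤ, FlatMod.IsFinLocFree (E.X i)) ∧
      Nonempty (DerivedCategory.Q.obj ((Rc j).obj F) ≅ DerivedCategory.Q.obj E)

theorem LocSPIn.of_restrict {m n : ℤ} {Y Z : Scheme.{u}} (j : Z ⟶ Y) [IsOpenImmersion j]
    {F : CochainComplex Y.Modules ℤ} {z : Z} (h : LocSPIn m n ((Rc j).obj F) z) :
    LocSPIn m n F (j z) := by
  obtain ⟨Z', j', hj', hz, E, hv, hE, ⟨ψ⟩⟩ := h
  haveI := hj'
  refine ⟨Z', j' ≫ j, inferInstance, ?_, E, hv, hE,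
    ⟨DerivedCategory.Q.mapIso (rcCompIso j j' (j' ≫ j) rfl F) ≪≫ ψ⟩⟩
  obtain ⟨z', rfl⟩ := hz
  exact ⟨z', rfl⟩

theorem hasPerfectAmplitudeIn_iff_locSPIn {X : Scheme.{u}} (m n : ℤ) (K : DCoh.D X)
    (F₀ : CochainComplex X.Modules ℤ) (e₀ : DerivedCategory.Q.obj F₀ ≅ K) :
    KSix.HasPerfectAmplitudeIn m n K ↔ ∀ x : X, LocSPIn m n F₀ x := by
  constructor
  · intro hK x
    obtain ⟨V, hxV, hV⟩ := hK x
    obtain ⟨E, hv, hE, hψ⟩ := hV F₀ ⟨e₀⟩
    exact ⟨V, V.ι, inferInstance, ⟨⟨x, hxV⟩, rfl⟩, E, hv, hE, hψ⟩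
  · intro h x
    obtain ⟨Z, j, hj, ⟨z, hz⟩, E, hv, hE, ⟨ψ⟩⟩ := h x
    haveI := hj
    let V : X.Opens := j.opensRange
    let k : (V : Scheme.{u}) ⟶ Z := j.isoOpensRange.inv
    have hk : V.ι = k ≫ j := (Scheme.Hom.isoOpensRange_inv_comp j).symm
    refine ⟨V, ⟨z, hz⟩, ?_⟩
    intro F ⟨e⟩
    refine ⟨(Rc k).obj E, fun i hi => Functor.map_isZero (restrictFunctor k) (hv i hi),
      fun i => isFinLocFree_restrict (hE i) k, ⟨?_⟩⟩
    exact qRestrictIso V.ι (e ≪≫ e₀.symm) ≪≫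
      DerivedCategory.Q.mapIso (rcCompIso j k V.ι hk F₀) ≪≫ qRestrictIso k ψ

instance {Y : Scheme.{u}} :
    ObjectProperty.IsClosedUnderIsomorphisms (fun M : Y.Modules => FlatMod.IsFinLocFree M) where
  of_iso e h := Groth.Agent.Helper4.FinLocFree2.isFinLocFree_of_iso e h

instance {Y : Scheme.{u}} :
    ObjectProperty.ContainsZero (fun M : Y.Modules => FlatMod.IsFinLocFree M) where
  exists_zero := ⟨(0 : Y.Modules), isZero_zero _, isFinLocFree_of_isZero (isZero_zero _)⟩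

open CochainComplex HomologicalComplex in
theorem exists_sp_of_flat' {Y : Scheme.{u}} {K Fl : CochainComplex Y.Modules ℤ} (β : K ⟶ Fl)
    (hK : DCoh.IsStrictlyPerfect K) (a b : ℤ) (hab : a ≤ b) (hv : DCoh.VanishesOutside Fl a b)
    (hfl : ∀ i : ℤ, FlatMod.IsFlat (Fl.X i)) (hβ : ∀ i : ℤ, a ≤ i → QuasiIsoAt β i) :
    ∃ K' : CochainComplex Y.Modules ℤ, DCoh.VanishesOutside K' a b ∧
      (∀ i : ℤ, FlatMod.IsFinLocFree (K'.X i)) ∧
      Nonempty (DerivedCategory.Q.obj Fl ≅ DerivedCategory.Q.obj K') := by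
  obtain ⟨⟨aK, bK, habK⟩, hf⟩ := hK
  have hflat : FlatMod.IsFlat (K.opcycles a) :=
    opcycles_mem (kerClosed_isFlat Y) β a (max bK b) (fun i => isFlat_of_isFinLocFree (hf i))
      (fun i hi => habK i (Or.inr (lt_of_le_of_lt (le_max_left _ _) hi))) hfl
      (fun i hi => hv i (Or.inl hi))
      (fun i hi => hv i (Or.inr (lt_of_le_of_lt (le_max_right _ _) hi))) hβ
  have hP : FlatMod.IsFinLocFree (K.opcycles a) :=
    isFinLocFree_of_cokernel_of_isFlat (K.d (a - 1) a)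
      ((cokernelIsCokernel _).coconePointUniqueUpToIso (K.opcyclesIsCokernel (a - 1) a (by simp)))
      (hf _) (hf _) hflat
  haveI : Fl.IsStrictlyGE a := (Fl.isStrictlyGE_iff a).mpr (fun i hi => hv i (Or.inl hi))
  haveI : QuasiIso (truncGEMap β a) := (CochainComplex.quasiIso_truncGEMap_iff β a).mpr hβ
  haveI : QuasiIso (truncGEMap β a ≫ inv (Fl.πTruncGE a)) := inferInstance
  let e₁ : DerivedCategory.Q.obj Fl ≅ DerivedCategory.Q.obj (K.truncGE a) :=
    (asIso (DerivedCategory.Q.map (truncGEMap β a ≫ inv (Fl.πTruncGE a)))).symm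
  have hK₁ : ∀ i : ℤ, FlatMod.IsFinLocFree ((K.truncGE a).X i) := by
    intro i
    rcases lt_trichotomy i a with hi | rfl | hi
    · exact isFinLocFree_of_isZero ((K.truncGE a).isZero_of_isStrictlyGE a i hi)
    · exact Groth.Agent.Helper4.FinLocFree2.isFinLocFree_of_iso (K.truncGEXIsoOpcycles i).symm hP
    · exact Groth.Agent.Helper4.FinLocFree2.isFinLocFree_of_iso (K.truncGEXIso a i hi).symm (hf i)
  have hv₁ : ∀ i : ℤ, i < a ∨ max a bK < i → IsZero ((K.truncGE a).X i) := by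
    rintro i (hi | hi)
    · exact (K.truncGE a).isZero_of_isStrictlyGE a i hi
    · have h1 : a < i := lt_of_le_of_lt (le_max_left _ _) hi
      have h2 : bK < i := lt_of_le_of_lt (le_max_right _ _) hi
      exact IsZero.of_iso (habK i (Or.inr h2)) (K.truncGEXIso a i h1)
  have hcoh : ∀ i : ℤ, b < i → IsZero ((K.truncGE a).homology i) := by
    intro i hi
    have hz : IsZero (Fl.homology i) := by
      rw [← HomologicalComplex.exactAt_iff_isZero_homology]
      exact HomologicalComplex.ExactAt.of_isZero (hv i (Or.inr hi))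
    exact hz.of_iso (((DerivedCategory.homologyFunctorFactors _ i).app _).symm ≪≫
      (DerivedCategory.homologyFunctor _ i).mapIso e₁.symm ≪≫
      (DerivedCategory.homologyFunctorFactors _ i).app _)
  obtain ⟨F', hF', hvF', ⟨e₂⟩⟩ := Groth.Agent.Helper9.PerfCone.s5610
    (fun M : Y.Modules => FlatMod.IsFinLocFree M)
    (fun E F u hu hE hF => by haveI := hu; exact isFinLocFree_kernel_of_epi u hE hF)
    a b (max a bK) hab (le_max_left _ _) (K.truncGE a) hK₁ hv₁ hcoh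
  refine ⟨F', ?_, hF', ⟨e₁ ≪≫ e₂.symm⟩⟩
  rintro i (hi | hi)
  · exact hvF' i (Or.inl hi)
  · exact hvF' i (Or.inr (lt_of_le_of_lt (min_le_left _ _) hi))

theorem locSPIn_of_flat_pc {Y : Scheme.{u}} {Fl : CochainComplex Y.Modules ℤ} (a b : ℤ)
    (hab : a ≤ b)
    (hv : DCoh.VanishesOutside Fl a b) (hfl : ∀ i : ℤ, FlatMod.IsFlat (Fl.X i)) (y : Y)
    (h : LocPC (a - 1) Fl y) : LocSPIn a b Fl y := by
  obtain ⟨Z, j, hj, ⟨z, rfl⟩, E', α, hE', hα⟩ := h
  haveI := hj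
  obtain ⟨W, hzW, β, hβ⟩ := exists_nhd_chain_map hE' α z
  have hQ : resD W.ι α = DerivedCategory.Q.map β := by
    unfold resD
    rw [hβ]
    simp
  have hβq : IsQisAbove (a - 1) (DerivedCategory.Q.map β) := hQ ▸ isQisAbove_resD W.ι hα
  obtain ⟨h1, _⟩ := (isQisAbove_Q_map_iff β).mp hβq
  obtain ⟨K', hvK', hK', ⟨e⟩⟩ := exists_sp_of_flat' β (isStrictlyPerfect_restrict _ hE') a b hab
    (fun i hi => (restrictFunctor W.ι).map_isZero ((restrictFunctor j).map_isZero (hv i hi)))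
    (fun i => isFlat_restrict W.ι (isFlat_restrict j (hfl i)))
    (fun i hi => (quasiIsoAt_iff_isIso_homologyMap β i).mpr (h1 i (by omega)))
  apply LocSPIn.of_restrict j
  exact ⟨W, W.ι, inferInstance, ⟨⟨z, hzW⟩, rfl⟩, K', hvK', hK', ⟨e⟩⟩

theorem main (X : Scheme.{u}) (E : DCoh.D X) (m n : ℤ) (hmn : m ≤ n) :
    KSix.HasPerfectAmplitudeIn m n E ↔
      DCoh.IsPseudoCoherentD (m - 1) E ∧ DCoh.HasFlatAmplitudeIn m n E := by
  let F₀ : CochainComplex X.Modules ℤ := DerivedCategory.Q.objPreimage E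
  let e₀ : DerivedCategory.Q.obj F₀ ≅ E := DerivedCategory.Q.objObjPreimageIso E
  constructor
  · intro h
    constructor
    · intro x
      obtain ⟨V, hxV, hV⟩ := h x
      refine ⟨V, hxV, fun F hF => ?_⟩
      obtain ⟨P, hv, hP, ⟨ψ⟩⟩ := hV F hF
      exact ⟨P, ψ.inv, ⟨⟨m, n, hv⟩, hP⟩, fun i _ => inferInstance, inferInstance⟩
    · refine Groth.Agent.Helper9.TorD1.hasFlatAmplitudeIn_of_iso e₀ m n
        (Groth.Agent.Helper9.PA1.hasFlatAmplitudeIn_of_local F₀ m n (fun x => ?_))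
      obtain ⟨V, hxV, hV⟩ := h x
      obtain ⟨P, hv, hP, ⟨ψ⟩⟩ := hV F₀ ⟨e₀⟩
      exact ⟨V, V.ι, inferInstance, ⟨⟨x, hxV⟩, rfl⟩, P, hv,
        fun i => isFlat_of_isFinLocFree (hP i), ⟨ψ.symm⟩⟩
  · rintro ⟨hpc, ⟨Fl, hv, hfl, ⟨e⟩⟩⟩
    rw [hasPerfectAmplitudeIn_iff_locSPIn m n E Fl e]
    rw [isPseudoCoherentD_iff_locPC (m - 1) E Fl e] at hpc
    exact fun x => locSPIn_of_flat_pc m n hmn hv hfl x (hpc x)

end Groth.Agent.Helper9.PA2
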