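import Mathlib
import Groth.Prelude.Def_DerSch
import Groth.Agent.Helper9.ClImm1
import Groth.Agent.Helper9.TorStalk1
import Groth.Agent.Helper6.TorAmpPd

/-! Tor amplitude relative to `i ≫ f'` from the flat amplitude of the direct image along a closed
immersion `i`, for `f'` flat. -/

set_option autoImplicit false
set_option linter.style.haveILetI false
set_option linter.unusedVariables false
set_option linter.unusedSectionVars false
set_option linter.unusedSimpArgs false
universe u

namespace Groth.Agent.Helper9.ClImm2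

open CategoryTheory CategoryTheory.Limits AlgebraicGeometry Opposite TopologicalSpace
open Groth.Agent.Helper9.SkyMod4 Groth.Agent.Helper9.SkyMod5 Groth.Agent.Helper9.StalkTensor9
  Groth.Agent.Helper9.ClImm1 Groth.Agent.Helper3.DRingLib

attribute [local instance] HasDerivedCategory.standard

variable {X X' Y : Scheme.{u}}

/-- the complex of stalks of the termwise direct image along an embedding -/
noncomputable def stalkCxPushIso (i : X ⟶ X') (hi : Topology.IsInducing i.base) (x : X)
    (F : CochainComplex X.Modules ℤ) :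
    (StCx (i.base x)).obj (((Scheme.Modules.pushforward i).mapHomologicalComplex
      (ComplexShape.up ℤ)).obj F) ≅ (rCx (i.stalkMap x).hom).obj ((StCx x).obj F) :=
  (NatIso.mapHomologicalComplex (pushStalkIso i hi x) (ComplexShape.up ℤ)).app F

section Ring

variable {A B : Type u} [CommRing A] [CommRing B]

theorem hasTorAmplitudeIn_of_ringHomFlat (φ : A →+* B) (hφ : φ.Flat) :
    DRing.HasTorAmplitudeIn A (-((0 : ℕ) : ℤ)) 0
      ((DerivedCategory.singleFunctor (ModuleCat.{u} A) 0).obj
        ((ModuleCat.restrictScalars φ).obj (ModuleCat.of B B))) := by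
  letI : Algebra A B := φ.toAlgebra
  haveI : Module.Flat A B := hφ
  have e0 : ((ModuleCat.restrictScalars φ).obj (ModuleCat.of B B)) ≃ₗ[A] B :=
    AddEquiv.toLinearEquiv
      (M := ↑((ModuleCat.restrictScalars φ).obj (ModuleCat.of B B)))
      (M₂ := B) (by rfl) (fun r x => rfl)
  have h := Groth.Agent.Helper6.TorAmpPd.hasTorAmplitudeIn_of_flat
    ((ModuleCat.restrictScalars φ).obj (ModuleCat.of B B))
    (Module.Flat.of_linearEquiv e0)
  simpa using h

end Ring

/-- flat amplitude of `i_* F` gives tor amplitude of `F` relative to `i ≫ f'`, for `f'` flat -/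
theorem hasTorAmplitude_of_pushforward (i : X ⟶ X') [IsClosedImmersion i] (f' : X' ⟶ Y)
    [Flat f'] (F : CochainComplex X.Modules ℤ) (a b : ℤ)
    (hF : DCoh.HasFlatAmplitudeIn a b (DCoh.toD X'
      (((Scheme.Modules.pushforward i).mapHomologicalComplex (ComplexShape.up ℤ)).obj F))) :
    DerSch.HasTorAmplitude (i ≫ f') a b F := by
  intro x
  have h1 := Groth.Agent.Helper9.TorStalk1.hasTorAmplitudeIn_stalk_of_hasFlatAmplitudeIn _ a b hF
    (i.base x)
  have h2 : DRing.HasTorAmplitudeIn (X'.presheaf.stalk (i.base x)) a b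
      (DRing.toD ((rCx (i.stalkMap x).hom).obj ((StCx x).obj F))) :=
    hasTorAmplitudeIn_of_iso
      (DerivedCategory.Q.mapIso (stalkCxPushIso i (isClosedEmbedding i).isInducing x F)) _ _ h1
  have h3 := Groth.Agent.Helper9.TorAmpSch1.key (f'.stalkMap (i.base x)).hom (i.stalkMap x).hom
    ((i ≫ f').stalkMap x).hom (by rw [Scheme.Hom.stalkMap_comp]; rfl)
    ((StCx x).obj F) 0 a b
    (hasTorAmplitudeIn_of_ringHomFlat _ ((Flat.iff_flat_stalkMap f').1 inferInstance (i.base x)))
    h2
  rw [Nat.cast_zero, sub_zero] at h3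
  exact h3

end Groth.Agent.Helper9.ClImm2
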