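import Mathlib

/-! The characteristic sequence `0 → B ⊗_A M → B ⊗_A M → M → 0` of a module over an algebra `B`
which is free over `A` on the powers of an element `t`. -/

set_option autoImplicit false
set_option linter.style.haveILetI false
set_option linter.unusedVariables false
set_option linter.unusedSectionVars false
set_option linter.unusedSimpArgs false
universe u

namespace Groth.Agent.Helper9.SmTor1

open TensorProduct

variable {A B : Type u} [CommRing A] [CommRing B] [Algebra A B]
variable (t : B) (bas : Module.Basis ℕ A B) (hbas : ∀ n, bas n = t ^ n)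
variable (M : Type u) [AddCommGroup M] [Module B M] [Module A M] [IsScalarTower A B M]

/-- multiplication by `t`, as an `A`-linear map -/
def mulT : M →ₗ[A] M where
  toFun m := t • m
  map_add' := smul_add t
  map_smul' a m := smul_comm t a m

@[simp] lemma mulT_apply (m : M) : mulT (A := A) t M m = t • m := rfl

lemma mulT_pow_apply (n : ℕ) (m : M) : ((mulT (A := A) t M) ^ n) m = t ^ n • m := by
  induction n generalizing m with
  | zero => simp
  | succ n ih =>
    rw [pow_succ, Module.End.mul_apply, mulT_apply, ih, pow_succ, mul_smul]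

/-- the counit `B ⊗_A M → M` -/
noncomputable def eps : B ⊗[A] M →ₗ[B] M :=
  LinearMap.liftBaseChange B (LinearMap.id (R := A) (M := M))

@[simp] lemma eps_tmul (b : B) (m : M) : eps (A := A) M (b ⊗ₜ[A] m) = b • m := by
  simp [eps]

/-- the map `t ⊗ 1 - 1 ⊗ t` -/
noncomputable def alpha : B ⊗[A] M →ₗ[B] B ⊗[A] M :=
  t • LinearMap.id - LinearMap.baseChange B (mulT (A := A) t M)

@[simp] lemma alpha_tmul (b : B) (m : M) :
    alpha (A := A) t M (b ⊗ₜ[A] m) = (t * b) ⊗ₜ[A] m - b ⊗ₜ[A] (t • m) := by
  simp [alpha, TensorProduct.smul_tmul']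

lemma eps_alpha (x : B ⊗[A] M) : eps (A := A) M (alpha (A := A) t M x) = 0 := by
  induction x using TensorProduct.induction_on with
  | zero => simp
  | tmul b m => simp [mul_smul, smul_comm t b m]
  | add x y hx hy => simp [hx, hy]

/-- the section `m ↦ 1 ⊗ m` -/
noncomputable def sigma : M →ₗ[A] B ⊗[A] M := TensorProduct.mk A B M 1

lemma eps_sigma (m : M) : eps (A := A) M (sigma (A := A) (B := B) M m) = m := by
  simp [sigma]

/-- the value of the contracting homotopy on `t ^ n ⊗ m` -/
noncomputable def rhoAux (n : ℕ) : M →ₗ[A] B ⊗[A] M :=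
  ∑ j ∈ Finset.range n, (TensorProduct.mk A B M (t ^ j)) ∘ₗ ((mulT (A := A) t M) ^ (n - 1 - j))

lemma rhoAux_apply (n : ℕ) (m : M) :
    rhoAux (A := A) t M n m = ∑ j ∈ Finset.range n, (t ^ j) ⊗ₜ[A] (t ^ (n - 1 - j) • m) := by
  simp [rhoAux, LinearMap.sum_apply, mulT_pow_apply]

/-- the contracting homotopy -/
noncomputable def rho : B ⊗[A] M →ₗ[A] B ⊗[A] M :=
  (Finsupp.lsum A (fun n => rhoAux (A := A) t M n)) ∘ₗ
    (TensorProduct.equivFinsuppOfBasisLeft bas).toLinearMap

include hbas in
lemma rho_tmul (n : ℕ) (m : M) :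
    rho (A := A) t bas M ((t ^ n) ⊗ₜ[A] m) =
      ∑ j ∈ Finset.range n, (t ^ j) ⊗ₜ[A] (t ^ (n - 1 - j) • m) := by
  have h1 : (TensorProduct.equivFinsuppOfBasisLeft bas) ((t ^ n) ⊗ₜ[A] m) =
      Finsupp.single n m := by
    rw [← hbas n]
    apply (TensorProduct.equivFinsuppOfBasisLeft bas).symm.injective
    simp [TensorProduct.equivFinsuppOfBasisLeft_symm_apply]
  simp only [rho, LinearMap.coe_comp, LinearEquiv.coe_coe, Function.comp_apply, h1]
  rw [Finsupp.lsum_single, rhoAux_apply]

include hbas in
/-- a linear map out of `B ⊗_A M` is determined by its values on the `t ^ n ⊗ m` -/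
lemma hom_ext {N : Type u} [AddCommGroup N] [Module A N] (f g : B ⊗[A] M →ₗ[A] N)
    (h : ∀ (n : ℕ) (m : M), f ((t ^ n) ⊗ₜ[A] m) = g ((t ^ n) ⊗ₜ[A] m)) : f = g := by
  have h2 : f ∘ₗ (TensorProduct.equivFinsuppOfBasisLeft bas (N := M)).symm.toLinearMap =
      g ∘ₗ (TensorProduct.equivFinsuppOfBasisLeft bas (N := M)).symm.toLinearMap := by
    apply Finsupp.lhom_ext
    intro n m
    simp only [LinearMap.coe_comp, LinearEquiv.coe_coe, Function.comp_apply,
      TensorProduct.equivFinsuppOfBasisLeft_symm_apply, Finsupp.sum_single_index,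
      TensorProduct.zero_tmul, tmul_zero]
    rw [hbas n]
    exact h n m
  refine LinearMap.ext fun x => ?_
  have := congrArg (fun L => L (TensorProduct.equivFinsuppOfBasisLeft bas x)) h2
  simpa using this

include hbas in
lemma rho_alpha (x : B ⊗[A] M) : rho (A := A) t bas M (alpha (A := A) t M x) = x := by
  have key : (rho (A := A) t bas M) ∘ₗ ((alpha (A := A) t M).restrictScalars A) =
      LinearMap.id := by
    apply hom_ext t bas hbas M
    intro n m
    simp only [LinearMap.coe_comp, LinearMap.coe_restrictScalars, Function.comp_apply,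
      alpha_tmul, LinearMap.id_coe, id_eq, map_sub]
    rw [← pow_succ', rho_tmul t bas hbas M (n + 1) m, rho_tmul t bas hbas M n (t • m),
      Finset.sum_range_succ]
    have h1 : ∑ j ∈ Finset.range n, (t ^ j) ⊗ₜ[A] (t ^ (n + 1 - 1 - j) • m) =
        ∑ j ∈ Finset.range n, (t ^ j) ⊗ₜ[A] (t ^ (n - 1 - j) • t • m) := by
      apply Finset.sum_congr rfl
      intro j hj
      rw [Finset.mem_range] at hj
      rw [← mul_smul, ← pow_succ]
      congr 3
      omega
    rw [h1, add_sub_cancel_left]
    simp
  exact congrArg (fun L => L x) key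

include hbas in
lemma alpha_rho (x : B ⊗[A] M) :
    alpha (A := A) t M (rho (A := A) t bas M x) + sigma (A := A) M (eps (A := A) M x) = x := by
  have key : ((alpha (A := A) t M).restrictScalars A) ∘ₗ (rho (A := A) t bas M) +
      (sigma (A := A) (B := B) M) ∘ₗ ((eps (A := A) M).restrictScalars A) = LinearMap.id := by
    apply hom_ext t bas hbas M
    intro n m
    simp only [LinearMap.add_apply, LinearMap.coe_comp, LinearMap.coe_restrictScalars,
      Function.comp_apply, LinearMap.id_coe, id_eq, eps_tmul]
    rw [rho_tmul t bas hbas M n m, map_sum]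
    have h1 : ∀ j ∈ Finset.range n, alpha (A := A) t M ((t ^ j) ⊗ₜ[A] (t ^ (n - 1 - j) • m)) =
        (fun k => (t ^ k) ⊗ₜ[A] (t ^ (n - k) • m)) (j + 1) -
          (fun k => (t ^ k) ⊗ₜ[A] (t ^ (n - k) • m)) j := by
      intro j hj
      rw [Finset.mem_range] at hj
      rw [alpha_tmul, ← pow_succ']
      dsimp only
      congr 2
      · congr 2
        omega
      · rw [← mul_smul, ← pow_succ']
        congr 2
        omega
    rw [Finset.sum_congr rfl h1,
      Finset.sum_range_sub (fun k => (t ^ k) ⊗ₜ[A] (t ^ (n - k) • m))]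
    simp [sigma]
  exact congrArg (fun L => L x) key

include hbas in
theorem alpha_injective : Function.Injective (alpha (A := A) t M) :=
  Function.LeftInverse.injective (g := rho (A := A) t bas M) (rho_alpha t bas hbas M)

include hbas in
theorem exact_alpha_eps : Function.Exact (alpha (A := A) t M) (eps (A := A) M) := by
  intro x
  constructor
  · intro hx
    refine ⟨rho (A := A) t bas M x, ?_⟩
    have := alpha_rho t bas hbas M x
    rw [hx, map_zero, add_zero] at this
    exact this
  · rintro ⟨y, rfl⟩
    exact eps_alpha t M y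

theorem eps_surjective : Function.Surjective (eps (A := A) (B := B) M) :=
  fun m => ⟨sigma (A := A) M m, eps_sigma M m⟩

end Groth.Agent.Helper9.SmTor1
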