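import Mathlib
import Groth.Agent.Helper9.SmTor1
import Groth.Agent.Helper3.DRingBC
import Groth.Agent.Helper3.DRingRestr
import Groth.Agent.Helper3.DRingTor4
import Groth.Agent.Helper3.DRingTor5

/-! The functor `M ↦ B ⊗_A M` on `B`-modules, in explicit form, and the characteristic triangle. -/

set_option autoImplicit false
set_option linter.style.haveILetI false
set_option linter.unusedVariables false
set_option linter.unusedSectionVars false
set_option linter.unusedSimpArgs false
universe u

namespace Groth.Agent.Helper9.SmTor2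

open CategoryTheory CategoryTheory.Limits TensorProduct Groth.Agent.Helper3.DRingLib
open scoped ChangeOfRings

attribute [local instance] HasDerivedCategory.standard

/-- the underlying type of a `B`-module, with its `A`- and `B`-module structures -/
def U (A B : Type u) [CommRing A] [CommRing B] [Algebra A B] (M : ModuleCat.{u} B) : Type u := M

variable (A B : Type u) [CommRing A] [CommRing B] [Algebra A B]

instance (M : ModuleCat.{u} B) : AddCommGroup (U A B M) := M.isAddCommGroup
instance (M : ModuleCat.{u} B) : Module B (U A B M) := M.isModule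
instance (M : ModuleCat.{u} B) : Module A (U A B M) := Module.compHom M (algebraMap A B)
instance (M : ModuleCat.{u} B) : IsScalarTower A B (U A B M) :=
  IsScalarTower.of_algebraMap_smul fun r m => rfl

variable {A B}

/-- a morphism of `B`-modules as a linear map of the underlying types -/
def homU {M M' : ModuleCat.{u} B} (g : M ⟶ M') : U A B M →ₗ[B] U A B M' := g.hom

variable (A B)

/-- the explicit form of `M ↦ B ⊗_A M` -/
noncomputable def G' : ModuleCat.{u} B ⥤ ModuleCat.{u} B where
  obj M := ModuleCat.of B (B ⊗[A] U A B M)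
  map g := ModuleCat.ofHom (LinearMap.baseChange B ((homU (A := A) g).restrictScalars A))
  map_id M := by
    apply ModuleCat.hom_ext
    apply TensorProduct.AlgebraTensorModule.curry_injective
    ext m
    rfl
  map_comp g h := by
    apply ModuleCat.hom_ext
    apply TensorProduct.AlgebraTensorModule.curry_injective
    ext m
    rfl

/-- `restrictScalars ⋙ extendScalars` -/
noncomputable abbrev G : ModuleCat.{u} B ⥤ ModuleCat.{u} B :=
  ModuleCat.restrictScalars.{u} (algebraMap A B) ⋙ bcF A B

/-- the comparison of the carriers -/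
noncomputable def theta (M : ModuleCat.{u} B) : (G A B).obj M ≃ₗ[B] B ⊗[A] U A B M :=
  extendScalarsEquiv (B := B) ((ModuleCat.restrictScalars.{u} (algebraMap A B)).obj M)

lemma theta_tmul (M : ModuleCat.{u} B) (s : B) (m : M) :
    theta A B M (s ⊗ₜ[A, algebraMap A B] m) = s ⊗ₜ[A] (show U A B M from m) := rfl

lemma theta_naturality {M M' : ModuleCat.{u} B} (g : M ⟶ M') (x : (G A B).obj M) :
    theta A B M' (((G A B).map g).hom x) =
      LinearMap.baseChange B ((homU (A := A) g).restrictScalars A) (theta A B M x) := by
  refine TensorProduct.induction_on (motive := fun x => theta A B M' (((G A B).map g).hom x) =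
      LinearMap.baseChange B ((homU (A := A) g).restrictScalars A) (theta A B M x)) x ?_ ?_ ?_
  · exact ((congrArg (theta A B M') (map_zero ((G A B).map g).hom)).trans
      (map_zero (theta A B M'))).trans
      (((congrArg _ (map_zero (theta A B M))).trans (map_zero _)).symm)
  · intro s m
    rfl
  · intro a b ha hb
    refine (congrArg (theta A B M') (map_add ((G A B).map g).hom a b)).trans ?_
    refine (map_add (theta A B M') _ _).trans ?_
    refine (congrArg₂ (· + ·) ha hb).trans ?_
    have h1 : theta A B M (show (G A B).obj M from a) + theta A B M (show (G A B).obj M from b) =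
        theta A B M (show (G A B).obj M from a + b) := (map_add (theta A B M) _ _).symm
    exact ((map_add (LinearMap.baseChange B ((homU (A := A) g).restrictScalars A)) _ _).symm).trans
      (congrArg _ h1)

/-- the natural isomorphism `G ≅ G'` -/
noncomputable def Theta : G A B ≅ G' A B :=
  NatIso.ofComponents (fun M => (theta A B M).toModuleIso) (by
    intro M M' g
    apply ModuleCat.hom_ext
    refine LinearMap.ext fun x => ?_
    exact theta_naturality A B g x)

variable {A B} in
lemma hom_ext' {M N : ModuleCat.{u} B} (f g : (G' A B).obj M ⟶ N)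
    (h : ∀ (b : B) (m : U A B M), f.hom (b ⊗ₜ[A] m) = g.hom (b ⊗ₜ[A] m)) : f = g := by
  apply ModuleCat.hom_ext
  refine LinearMap.ext fun x => ?_
  refine TensorProduct.induction_on (motive := fun x => f.hom x = g.hom x) x ?_ h ?_
  · exact (map_zero f.hom).trans (map_zero g.hom).symm
  · intro a b ha hb
    exact (map_add f.hom a b).trans ((congrArg₂ (· + ·) ha hb).trans (map_add g.hom a b).symm)

section Poly

variable {A B} (t : B)

/-- `t ⊗ 1 - 1 ⊗ t` on `G'` -/
noncomputable def alpha' : G' A B ⟶ G' A B where
  app M := ModuleCat.ofHom (SmTor1.alpha (A := A) t (U A B M))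
  naturality M M' g := by
    apply hom_ext'
    intro b m
    show SmTor1.alpha (A := A) t (U A B M')
        (LinearMap.baseChange B ((homU (A := A) g).restrictScalars A) (b ⊗ₜ[A] m)) =
      LinearMap.baseChange B ((homU (A := A) g).restrictScalars A)
        (SmTor1.alpha (A := A) t (U A B M) (b ⊗ₜ[A] m))
    rw [LinearMap.baseChange_tmul, SmTor1.alpha_tmul,
      SmTor1.alpha_tmul, map_sub, LinearMap.baseChange_tmul, LinearMap.baseChange_tmul]
    simp only [LinearMap.coe_restrictScalars]
    rw [map_smul]

/-- the counit on `G'` -/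
noncomputable def eps' : G' A B ⟶ 𝟭 (ModuleCat.{u} B) where
  app M := ModuleCat.ofHom (SmTor1.eps (A := A) (U A B M))
  naturality M M' g := by
    apply hom_ext'
    intro b m
    show SmTor1.eps (A := A) (U A B M')
        (LinearMap.baseChange B ((homU (A := A) g).restrictScalars A) (b ⊗ₜ[A] m)) =
      homU (A := A) g (SmTor1.eps (A := A) (U A B M) (b ⊗ₜ[A] m))
    rw [LinearMap.baseChange_tmul, SmTor1.eps_tmul, SmTor1.eps_tmul, map_smul]
    rfl

lemma alpha'_eps' : alpha' (A := A) t ≫ eps' (A := A) (B := B) = 0 := by
  ext M : 2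
  apply hom_ext'
  intro b m
  exact SmTor1.eps_alpha (A := A) t (U A B M) (b ⊗ₜ[A] m)

variable (bas : Module.Basis ℕ A B) (hbas : ∀ n, bas n = t ^ n)

include hbas in
lemma shortExact' (M : ModuleCat.{u} B) :
    (ShortComplex.mk ((alpha' (A := A) t).app M) ((eps' (A := A) (B := B)).app M)
      (by rw [← NatTrans.comp_app, alpha'_eps']; rfl)).ShortExact := by
  refine ShortComplex.ShortExact.mk' ?_ ?_ ?_
  · rw [ShortComplex.ShortExact.moduleCat_exact_iff_function_exact]
    exact SmTor1.exact_alpha_eps t bas hbas (U A B M)
  · rw [ModuleCat.mono_iff_injective]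
    exact SmTor1.alpha_injective t bas hbas (U A B M)
  · rw [ModuleCat.epi_iff_surjective]
    exact SmTor1.eps_surjective (A := A) (B := B) (U A B M)

/-- `t ⊗ 1 - 1 ⊗ t` on `G` -/
noncomputable def alpha : G A B ⟶ G A B := (Theta A B).hom ≫ alpha' (A := A) t ≫ (Theta A B).inv

/-- the counit on `G` -/
noncomputable def eps : G A B ⟶ 𝟭 (ModuleCat.{u} B) := (Theta A B).hom ≫ eps' (A := A) (B := B)

lemma alpha_eps : alpha (A := A) t ≫ eps (A := A) (B := B) = 0 := by
  simp only [alpha, eps, Category.assoc, Iso.inv_hom_id_assoc]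
  rw [alpha'_eps', comp_zero]

include hbas in
lemma shortExact (M : ModuleCat.{u} B) :
    (ShortComplex.mk ((alpha (A := A) t).app M) ((eps (A := A) (B := B)).app M)
      (by rw [← NatTrans.comp_app, alpha_eps]; rfl)).ShortExact := by
  have e : ShortComplex.mk ((alpha' (A := A) t).app M) ((eps' (A := A) (B := B)).app M)
      (by rw [← NatTrans.comp_app, alpha'_eps']; rfl) ≅
      ShortComplex.mk ((alpha (A := A) t).app M) ((eps (A := A) (B := B)).app M)
      (by rw [← NatTrans.comp_app, alpha_eps]; rfl) :=
    ShortComplex.isoMk ((Theta A B).app M).symm ((Theta A B).app M).symm (Iso.refl _)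
      (by simp [alpha]) (by simp [eps])
  exact ShortComplex.shortExact_of_iso e (shortExact' t bas hbas M)

section Cx

variable (K : DRing.Cx B)

/-- `B ⊗_A K` -/
noncomputable abbrev GK : DRing.Cx B :=
  (bcCx A B).obj ((DRing.restrictCx (algebraMap A B)).obj K)

/-- `t ⊗ 1 - 1 ⊗ t` on `B ⊗_A K` -/
noncomputable def alphaK : GK (A := A) K ⟶ GK (A := A) K where
  f i := (alpha (A := A) t).app (K.X i)
  comm' i j _ := ((alpha (A := A) t).naturality (K.d i j)).symm

/-- the counit `B ⊗_A K ⟶ K` -/
noncomputable def epsK : GK (A := A) K ⟶ K where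
  f i := (eps (A := A) (B := B)).app (K.X i)
  comm' i j _ := ((eps (A := A) (B := B)).naturality (K.d i j)).symm

lemma alphaK_epsK : alphaK (A := A) t K ≫ epsK (A := A) K = 0 := by
  refine HomologicalComplex.hom_ext _ _ (fun i => ?_)
  exact congrArg (fun τ => τ.app (K.X i)) (alpha_eps (A := A) t)

/-- the characteristic short complex of complexes -/
noncomputable def SK : ShortComplex (DRing.Cx B) :=
  ShortComplex.mk (alphaK (A := A) t K) (epsK (A := A) K) (alphaK_epsK t K)

include hbas in
lemma SK_shortExact : (SK (A := A) t K).ShortExact := by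
  apply HomologicalComplex.shortExact_of_degreewise_shortExact
  intro i
  exact shortExact t bas hbas (K.X i)

end Cx

lemma hasTorAmplitudeIn_mono {a b a' b' : ℤ} (ha : a' ≤ a) (hb : b ≤ b')
    {K : Dual.D B} (h : DRing.HasTorAmplitudeIn B a b K) : DRing.HasTorAmplitudeIn B a' b' K := by
  obtain ⟨E, hE, hfl, he⟩ := h
  exact ⟨E, fun i hi => hE i (by omega), hfl, he⟩

include hbas in
/-- **one polynomial variable**: if `K|_A` has tor amplitude in `[a, b]` then `K` has tor
amplitude in `[a - 1, b]` -/
theorem hasTorAmplitudeIn_of_restrictCx (K : DRing.Cx B) (a b : ℤ)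
    (h : DRing.HasTorAmplitudeIn A a b
      (DRing.toD ((DRing.restrictCx (algebraMap A B)).obj K))) :
    DRing.HasTorAmplitudeIn B (a - 1) b (DRing.toD K) := by
  haveI : Module.Free A B := Module.Free.of_basis bas
  haveI : Module.Flat A B := inferInstance
  have hG : DRing.HasTorAmplitudeIn B a b (DRing.toD (GK (A := A) K)) :=
    hasTorAmplitudeIn_of_iso (bcDToD B _) _ _ (bcD_hasTorAmplitudeIn B h)
  have hT := DerivedCategory.triangleOfSES_distinguished (SK_shortExact t bas hbas K)
  exact hasTorAmplitudeIn_obj₃ _ hT (a - 1) b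
    (hasTorAmplitudeIn_mono (by omega) (by omega) hG)
    (hasTorAmplitudeIn_mono (by omega) (by omega) hG)

end Poly

end Groth.Agent.Helper9.SmTor2
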