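import Mathlib
import Groth.Agent.Helper9.SmTor2

/-! Algebras with a separating idempotent: a `B`-module is naturally a retract of `B ⊗_A M`. -/

set_option autoImplicit false
set_option linter.style.haveILetI false
set_option linter.unusedVariables false
set_option linter.unusedSectionVars false
set_option linter.unusedSimpArgs false
universe u

namespace Groth.Agent.Helper9.SmTor3

open CategoryTheory CategoryTheory.Limits TensorProduct Groth.Agent.Helper3.DRingLib
  Groth.Agent.Helper9.SmTor2

attribute [local instance] HasDerivedCategory.standard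

section LA

variable {A B : Type u} [CommRing A] [CommRing B] [Algebra A B]
variable (M : Type u) [AddCommGroup M] [Module B M] [Module A M] [IsScalarTower A B M]

/-- `c ↦ c • m` -/
def tsm (m : M) : B →ₗ[A] M := (LinearMap.toSpanSingleton B M m).restrictScalars A

@[simp] lemma tsm_apply (m : M) (c : B) : tsm (A := A) M m c = c • m := rfl

/-- `b₁ ⊗ b₂ ↦ b₁ ⊗ b₂ m` -/
noncomputable def r (m : M) : B ⊗[A] B →ₗ[A] B ⊗[A] M := LinearMap.lTensor B (tsm (A := A) M m)

@[simp] lemma r_tmul (m : M) (b₁ b₂ : B) :
    r (A := A) M m (b₁ ⊗ₜ[A] b₂) = b₁ ⊗ₜ[A] (b₂ • m) := rfl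

lemma r_add (m m' : M) (x : B ⊗[A] B) :
    r (A := A) M (m + m') x = r (A := A) M m x + r (A := A) M m' x := by
  induction x using TensorProduct.induction_on with
  | zero => simp
  | tmul b₁ b₂ => simp [smul_add, tmul_add]
  | add x y hx hy => rw [map_add, hx, hy, map_add, map_add]; abel

lemma r_mul_right (m : M) (c : B) (x : B ⊗[A] B) :
    r (A := A) M (c • m) x = r (A := A) M m ((1 ⊗ₜ[A] c) * x) := by
  induction x using TensorProduct.induction_on with
  | zero => simp
  | tmul b₁ b₂ =>
    rw [Algebra.TensorProduct.tmul_mul_tmul, r_tmul, r_tmul, one_mul, mul_smul, smul_comm]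
  | add x y hx hy => rw [map_add, hx, hy, mul_add, map_add]

lemma r_mul_left (m : M) (c : B) (x : B ⊗[A] B) :
    c • r (A := A) M m x = r (A := A) M m ((c ⊗ₜ[A] 1) * x) := by
  induction x using TensorProduct.induction_on with
  | zero => simp
  | tmul b₁ b₂ =>
    rw [Algebra.TensorProduct.tmul_mul_tmul, r_tmul, r_tmul, one_mul, TensorProduct.smul_tmul',
      smul_eq_mul]
  | add x y hx hy => rw [map_add, smul_add, hx, hy, mul_add, map_add]

lemma eps_r (m : M) (x : B ⊗[A] B) :
    SmTor1.eps (A := A) M (r (A := A) M m x) = (Algebra.TensorProduct.lmul' A x) • m := by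
  induction x using TensorProduct.induction_on with
  | zero => simp
  | tmul b₁ b₂ => simp [mul_smul]
  | add x y hx hy => rw [map_add, map_add, hx, hy, map_add, add_smul]

lemma baseChange_r {M' : Type u} [AddCommGroup M'] [Module B M'] [Module A M']
    [IsScalarTower A B M'] (g : M →ₗ[B] M') (m : M) (x : B ⊗[A] B) :
    LinearMap.baseChange B (g.restrictScalars A) (r (A := A) M m x) = r (A := A) M' (g m) x := by
  induction x using TensorProduct.induction_on with
  | zero => simp
  | tmul b₁ b₂ => simp
  | add x y hx hy => rw [map_add, map_add, hx, hy, map_add]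

variable (e : B ⊗[A] B) (he1 : ∀ c : B, (1 ⊗ₜ[A] c) * e = (c ⊗ₜ[A] 1) * e)
  (he2 : Algebra.TensorProduct.lmul' A e = 1)

include he1 in
/-- the section `m ↦ e • (1 ⊗ m)` -/
noncomputable def sec : M →ₗ[B] B ⊗[A] M where
  toFun m := r (A := A) M m e
  map_add' m m' := r_add M m m' e
  map_smul' c m := by
    rw [RingHom.id_apply, r_mul_right, he1, r_mul_left]

include he2 in
lemma eps_sec (m : M) : SmTor1.eps (A := A) M (sec M e he1 m) = m := by
  show SmTor1.eps (A := A) M (r (A := A) M m e) = m
  rw [eps_r, he2, one_smul]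

end LA

section Cat

variable {A B : Type u} [CommRing A] [CommRing B] [Algebra A B]
variable (e : B ⊗[A] B) (he1 : ∀ c : B, (1 ⊗ₜ[A] c) * e = (c ⊗ₜ[A] 1) * e)
  (he2 : Algebra.TensorProduct.lmul' A e = 1)

/-- the section on `G'` -/
noncomputable def sec' : 𝟭 (ModuleCat.{u} B) ⟶ G' A B where
  app M := ModuleCat.ofHom (sec (A := A) (U A B M) e he1)
  naturality M M' g := by
    apply ModuleCat.hom_ext
    refine LinearMap.ext fun m => ?_
    exact (baseChange_r (A := A) (U A B M) (homU (A := A) g) m e).symm

include he2 in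
lemma sec'_eps' : sec' e he1 ≫ eps' (A := A) (B := B) = 𝟙 _ := by
  ext M : 2
  apply ModuleCat.hom_ext
  refine LinearMap.ext fun m => ?_
  exact eps_sec (A := A) (U A B M) e he1 he2 m

/-- the section on `G` -/
noncomputable def secG : 𝟭 (ModuleCat.{u} B) ⟶ G A B := sec' e he1 ≫ (Theta A B).inv

include he2 in
lemma secG_eps : secG e he1 ≫ eps (A := A) (B := B) = 𝟙 _ := by
  simp only [secG, eps, Category.assoc, Iso.inv_hom_id_assoc]
  exact sec'_eps' e he1 he2

variable (K : DRing.Cx B)

/-- the section `K ⟶ B ⊗_A K` -/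
noncomputable def secK : K ⟶ GK (A := A) K where
  f i := (secG e he1).app (K.X i)
  comm' i j _ := ((secG e he1).naturality (K.d i j)).symm

include he2 in
lemma secK_epsK : secK e he1 K ≫ epsK (A := A) K = 𝟙 K := by
  refine HomologicalComplex.hom_ext _ _ (fun i => ?_)
  exact congrArg (fun τ => τ.app (K.X i)) (secG_eps e he1 he2)

include he1 he2 in
/-- **algebras with a separating idempotent**: tor amplitude over `A` gives tor amplitude
over `B` -/
theorem hasTorAmplitudeIn_of_restrictCx [Module.Flat A B] (a b : ℤ)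
    (h : DRing.HasTorAmplitudeIn A a b
      (DRing.toD ((DRing.restrictCx (algebraMap A B)).obj K))) :
    DRing.HasTorAmplitudeIn B a b (DRing.toD K) := by
  have hG : DRing.HasTorAmplitudeIn B a b (DRing.toD (GK (A := A) K)) :=
    hasTorAmplitudeIn_of_iso (bcDToD B _) _ _ (bcD_hasTorAmplitudeIn B h)
  refine hasTorAmplitudeIn_of_retract (DerivedCategory.Q.map (secK e he1 K))
    (DerivedCategory.Q.map (epsK (A := A) K)) ?_ hG
  rw [← Functor.map_comp, secK_epsK e he1 he2, CategoryTheory.Functor.map_id]

end Cat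

end Groth.Agent.Helper9.SmTor3
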