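import Mathlib
import Groth.Agent.Helper9.SmTor3
import Groth.Agent.Helper9.TorAmpSch1
import Groth.Agent.Helper9.ClImm2
import Groth.Agent.Helper9.RingProj4

/-! Tor amplitude over a smooth algebra from tor amplitude over the base (ring level). -/

set_option autoImplicit false
set_option linter.style.haveILetI false
set_option linter.unusedVariables false
set_option linter.unusedSectionVars false
set_option linter.unusedSimpArgs false
universe u

namespace Groth.Agent.Helper9.SmTor4

open CategoryTheory CategoryTheory.Limits TensorProduct Groth.Agent.Helper3.DRingLib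

attribute [local instance] HasDerivedCategory.standard

section Basic

variable {A B C : Type u} [CommRing A] [CommRing B] [CommRing C]

/-- restriction of scalars along a composite -/
noncomputable def rCxCompIso (ψ : A →+* B) (φ : B →+* C) (χ : A →+* C) (hχ : χ = φ.comp ψ)
    (K : DRing.Cx C) : (rCx ψ).obj ((rCx φ).obj K) ≅ (rCx χ).obj K :=
  (Functor.mapHomologicalComplexCompIso (ModuleCat.restrictScalarsComp' ψ φ χ hχ).symm
    (ComplexShape.up ℤ)).app K

/-- one polynomial variable, for ring homomorphisms -/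
theorem poly_step (φ : A →+* B) (t : B)
    (bas : letI := φ.toAlgebra; Module.Basis ℕ A B) (hbas : ∀ n, bas n = t ^ n)
    (K : DRing.Cx B) (a b : ℤ)
    (h : DRing.HasTorAmplitudeIn A a b (DRing.toD ((rCx φ).obj K))) :
    DRing.HasTorAmplitudeIn B (a - 1) b (DRing.toD K) := by
  letI := φ.toAlgebra
  exact SmTor2.hasTorAmplitudeIn_of_restrictCx t bas hbas K a b h

/-- flat epimorphisms, for ring homomorphisms -/
theorem epi_step (φ : A →+* B) (hfl : φ.Flat)
    (hepi : letI := φ.toAlgebra; ∀ c : B, (1 : B) ⊗ₜ[A] c = c ⊗ₜ[A] (1 : B))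
    (K : DRing.Cx B) (a b : ℤ)
    (h : DRing.HasTorAmplitudeIn A a b (DRing.toD ((rCx φ).obj K))) :
    DRing.HasTorAmplitudeIn B a b (DRing.toD K) := by
  letI := φ.toAlgebra
  haveI : Module.Flat A B := hfl
  refine SmTor3.hasTorAmplitudeIn_of_restrictCx (A := A) (1 : B ⊗[A] B) (fun c => ?_) ?_ K a b h
  · rw [mul_one, mul_one]
    exact hepi c
  · exact map_one _

/-- étale maps -/
theorem etale_step (φ : A →+* B) (hφ : φ.Etale)
    (K : DRing.Cx B) (a b : ℤ)
    (h : DRing.HasTorAmplitudeIn A a b (DRing.toD ((rCx φ).obj K))) :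
    DRing.HasTorAmplitudeIn B a b (DRing.toD K) := by
  letI := φ.toAlgebra
  haveI : Algebra.Etale A B := hφ
  haveI : Module.Flat A B := inferInstance
  exact SmTor3.hasTorAmplitudeIn_of_restrictCx (A := A)
    (Algebra.FormallyUnramified.elem A B)
    (fun c => Algebra.FormallyUnramified.one_tmul_mul_elem c)
    Algebra.FormallyUnramified.lmul_elem K a b h

/-- restriction of scalars along a flat map -/
theorem flat_restrict (φ : A →+* B) (hφ : φ.Flat) (K : DRing.Cx B) (a b : ℤ)
    (h : DRing.HasTorAmplitudeIn B a b (DRing.toD K)) :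
    DRing.HasTorAmplitudeIn A a b (DRing.toD ((rCx φ).obj K)) := by
  have h1 : DRing.HasTorAmplitudeIn B a b (DRing.toD ((rCx (RingHom.id B)).obj K)) :=
    hasTorAmplitudeIn_of_iso (DerivedCategory.Q.mapIso
      (Groth.Agent.Helper9.TorStalk1.rCxIdIso (RingHom.id B) rfl K).symm) _ _ h
  have := Groth.Agent.Helper9.TorAmpSch1.key φ (RingHom.id B) φ (by simp) K 0 a b
    (Groth.Agent.Helper9.ClImm2.hasTorAmplitudeIn_of_ringHomFlat φ hφ) h1
  simpa using this

lemma one_tmul_eq_of_surjective (φ : A →+* B) (hφ : Function.Surjective φ) :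
    letI := φ.toAlgebra
    ∀ c : B, (1 : B) ⊗ₜ[A] c = c ⊗ₜ[A] (1 : B) := by
  letI := φ.toAlgebra
  intro c
  obtain ⟨r, rfl⟩ := hφ c
  have h1 : φ r = r • (1 : B) := by
    rw [Algebra.smul_def, mul_one]
    rfl
  rw [h1]
  exact (TensorProduct.smul_tmul (R := A) (R' := A) r (1 : B) (1 : B)).symm

/-- localizations are flat epimorphisms -/
lemma one_tmul_eq_of_isLocalization (S : Submonoid A) [Algebra A B] [IsLocalization S B] (c : B) :
    (1 : B) ⊗ₜ[A] c = c ⊗ₜ[A] (1 : B) := by
  obtain ⟨x, s, rfl⟩ := IsLocalization.exists_mk'_eq S c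
  set u : B := IsLocalization.mk' B (1 : A) s with hu
  have h1 : (s : A) • u = 1 := by
    rw [Algebra.smul_def, hu, IsLocalization.mk'_spec', map_one]
  have h2 : IsLocalization.mk' B x s = x • u := by
    rw [Algebra.smul_def, hu, ← IsLocalization.mk'_eq_mul_mk'_one]
  rw [h2]
  calc (1 : B) ⊗ₜ[A] (x • u) = ((s : A) • u) ⊗ₜ[A] (x • u) := by rw [h1]
    _ = u ⊗ₜ[A] ((s : A) • (x • u)) := by rw [TensorProduct.smul_tmul]
    _ = u ⊗ₜ[A] (x • ((s : A) • u)) := by rw [smul_comm]
    _ = u ⊗ₜ[A] (x • (1 : B)) := by rw [h1]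
    _ = (x • u) ⊗ₜ[A] (1 : B) := by rw [TensorProduct.smul_tmul]

end Basic

section MvPoly

open MvPolynomial

/-- polynomial rings in finitely many variables -/
theorem mvPoly_step (n : ℕ) : ∀ (R : Type u) [CommRing R] (L : DRing.Cx (MvPolynomial (Fin n) R))
    (a b : ℤ),
    DRing.HasTorAmplitudeIn R a b
      (DRing.toD ((rCx (C : R →+* MvPolynomial (Fin n) R)).obj L)) →
    DRing.HasTorAmplitudeIn (MvPolynomial (Fin n) R) (a - n) b (DRing.toD L) := by
  induction n with
  | zero =>
    intro R _ L a b h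
    have hsurj : Function.Surjective (C : R →+* MvPolynomial (Fin 0) R) :=
      MvPolynomial.C_surjective (Fin 0)
    have hfl : (C : R →+* MvPolynomial (Fin 0) R).Flat := by
      have : (algebraMap R (MvPolynomial (Fin 0) R)).Flat :=
        RingHom.flat_algebraMap_iff.mpr inferInstance
      rwa [MvPolynomial.algebraMap_eq] at this
    have := epi_step (C : R →+* MvPolynomial (Fin 0) R) hfl
      (one_tmul_eq_of_surjective _ hsurj) L a b h
    simpa using this
  | succ n ih =>
    intro R _ L a b h
    let e : MvPolynomial (Fin (n + 1)) R ≃+* Polynomial (MvPolynomial (Fin n) R) :=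
      (finSuccEquiv R n).toRingEquiv
    let ι : MvPolynomial (Fin n) R →+* MvPolynomial (Fin (n + 1)) R :=
      e.symm.toRingHom.comp Polynomial.C
    have hι : (C : R →+* MvPolynomial (Fin (n + 1)) R) = ι.comp C := by
      refine RingHom.ext fun r => ?_
      show C r = e.symm (Polynomial.C (C r))
      exact (congrArg (fun f => f r) (finSuccEquiv_comp_C_eq_C (R := R) n)).symm
    have h1 : DRing.HasTorAmplitudeIn R a b
        (DRing.toD ((rCx (C : R →+* MvPolynomial (Fin n) R)).obj ((rCx ι).obj L))) :=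
      hasTorAmplitudeIn_of_iso (DerivedCategory.Q.mapIso (rCxCompIso C ι C hι L).symm) _ _ h
    have h2 := ih R ((rCx ι).obj L) a b h1
    letI := ι.toAlgebra
    let eL : MvPolynomial (Fin (n + 1)) R ≃ₗ[MvPolynomial (Fin n) R]
        Polynomial (MvPolynomial (Fin n) R) :=
      { e with
        map_smul' := by
          intro p q
          show e (p • q) = p • e q
          rw [Algebra.smul_def, map_mul, Polynomial.smul_eq_C_mul]
          congr 1
          show e (e.symm (Polynomial.C p)) = _
          rw [RingEquiv.apply_symm_apply] }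
    let bas : Module.Basis ℕ (MvPolynomial (Fin n) R) (MvPolynomial (Fin (n + 1)) R) :=
      (Polynomial.basisMonomials (MvPolynomial (Fin n) R)).map eL.symm
    have hbas : ∀ k, bas k = (e.symm Polynomial.X) ^ k := by
      intro k
      show eL.symm (Polynomial.basisMonomials (MvPolynomial (Fin n) R) k) = _
      rw [Polynomial.coe_basisMonomials, ← map_pow]
      show e.symm (Polynomial.monomial k 1) = e.symm (Polynomial.X ^ k)
      rw [Polynomial.monomial_one_right_eq_X_pow]
    have h3 := poly_step ι (e.symm Polynomial.X) bas hbas L (a - n) b h2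
    have h4 : a - (n : ℤ) - 1 = a - ((n + 1 : ℕ) : ℤ) := by push_cast; ring
    rw [h4] at h3
    exact h3

end MvPoly

section Main

variable {R' B' R T : Type u} [CommRing R'] [CommRing B'] [CommRing R] [CommRing T]

/-- **tor amplitude over an essentially smooth algebra**: let `R' → B'` be standard smooth of
relative dimension `n`, `R' → R` flat, `B' → T` a localization and `R → T` a compatible ring
map. A complex of `T`-modules with tor amplitude in `[a, b]` over `R` has tor amplitude in
`[a - n, b]` over `T`. -/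
theorem main' (f : R' →+* B') (n : ℕ) (ψ : MvPolynomial (Fin n) R' →+* B')
    (hψC : ψ.comp MvPolynomial.C = f) (hψ : ψ.Etale)
    (l : R' →+* R) (hl : l.Flat) (k : B' →+* T) (S : Submonoid B')
    (hk : letI := k.toAlgebra; IsLocalization S T) (g : R →+* T) (hsq : g.comp l = k.comp f)
    (K : DRing.Cx T) (a b : ℤ)
    (h : DRing.HasTorAmplitudeIn R a b (DRing.toD ((rCx g).obj K))) :
    DRing.HasTorAmplitudeIn T (a - n) b (DRing.toD K) := by
  -- restrict to `R'`
  have h1 : DRing.HasTorAmplitudeIn R' a b (DRing.toD ((rCx l).obj ((rCx g).obj K))) :=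
    flat_restrict l hl _ a b h
  have h2 : DRing.HasTorAmplitudeIn R' a b (DRing.toD ((rCx (g.comp l)).obj K)) :=
    hasTorAmplitudeIn_of_iso (DerivedCategory.Q.mapIso (rCxCompIso l g _ rfl K)) _ _ h1
  have hcomp : g.comp l = ((k.comp ψ).comp (MvPolynomial.C : R' →+* MvPolynomial (Fin n) R')) := by
    rw [hsq, RingHom.comp_assoc, hψC]
  have h3 : DRing.HasTorAmplitudeIn R' a b
      (DRing.toD ((rCx (MvPolynomial.C : R' →+* MvPolynomial (Fin n) R')).obj
        ((rCx (k.comp ψ)).obj K))) :=
    hasTorAmplitudeIn_of_iso (DerivedCategory.Q.mapIso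
      (rCxCompIso MvPolynomial.C (k.comp ψ) _ hcomp K).symm) _ _ h2
  -- the polynomial ring
  have h4 := mvPoly_step n R' ((rCx (k.comp ψ)).obj K) a b h3
  have h5 : DRing.HasTorAmplitudeIn (MvPolynomial (Fin n) R') (a - n) b
      (DRing.toD ((rCx ψ).obj ((rCx k).obj K))) :=
    hasTorAmplitudeIn_of_iso (DerivedCategory.Q.mapIso (rCxCompIso ψ k _ rfl K).symm) _ _ h4
  -- the étale map
  have h6 := etale_step ψ hψ ((rCx k).obj K) (a - n) b h5
  -- the localization
  letI := k.toAlgebra
  haveI : IsLocalization S T := hk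
  have hkfl : k.Flat := by
    show Module.Flat B' T
    exact IsLocalization.flat T S
  exact epi_step k hkfl (fun c => one_tmul_eq_of_isLocalization S c) K (a - n) b h6

/-- the same, for a standard smooth map of relative dimension `n` -/
theorem main (f : R' →+* B') (n : ℕ) (hf : f.IsStandardSmoothOfRelativeDimension n)
    (l : R' →+* R) (hl : l.Flat) (k : B' →+* T) (S : Submonoid B')
    (hk : letI := k.toAlgebra; IsLocalization S T) (g : R →+* T) (hsq : g.comp l = k.comp f)
    (K : DRing.Cx T) (a b : ℤ)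
    (h : DRing.HasTorAmplitudeIn R a b (DRing.toD ((rCx g).obj K))) :
    DRing.HasTorAmplitudeIn T (a - n) b (DRing.toD K) := by
  obtain ⟨ψ, hψC, hψ⟩ := hf.exists_etale_mvPolynomial
  exact main' f n ψ hψC hψ l hl k S hk g hsq K a b h

end Main

end Groth.Agent.Helper9.SmTor4
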