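import Mathlib
import Groth.Prelude.Def_DerSch
import Groth.Agent.Helper9.SmTor4

/-! Tor amplitude relative to `φ : X ⟶ B` from tor amplitude relative to `φ ≫ h`, for `h` smooth
(stalkwise, scheme level). -/

set_option autoImplicit false
set_option linter.style.haveILetI false
set_option linter.unusedVariables false
set_option linter.unusedSectionVars false
set_option linter.unusedSimpArgs false
universe u

namespace Groth.Agent.Helper9.SmTor5

open CategoryTheory CategoryTheory.Limits AlgebraicGeometry Opposite TopologicalSpace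
open Groth.Agent.Helper9.SkyMod4 Groth.Agent.Helper3.DRingLib Groth.Agent.Helper9.StalkTensor9

attribute [local instance] HasDerivedCategory.standard

variable {X B S : Scheme.{u}}

/-- the germ maps are flat -/
lemma flat_germ {Y : Scheme.{u}} {V : Y.Opens} (hV : IsAffineOpen V) (y : Y) (hy : y ∈ V) :
    (Y.presheaf.germ V y hy).hom.Flat := by
  letI : Algebra Γ(Y, V) (Y.presheaf.stalk y) := (Y.presheaf.germ V y hy).hom.toAlgebra
  haveI : IsLocalization.AtPrime (Y.presheaf.stalk y) (hV.primeIdealOf ⟨y, hy⟩).asIdeal :=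
    hV.isLocalization_stalk ⟨y, hy⟩
  show Module.Flat Γ(Y, V) (Y.presheaf.stalk y)
  exact IsLocalization.flat (Y.presheaf.stalk y) (hV.primeIdealOf ⟨y, hy⟩).asIdeal.primeCompl

/-- the local statement, with an étale chart over an affine space -/
theorem hasTorAmplitudeAt_of_comp' (h : B ⟶ S) (φ : X ⟶ B) (F : CochainComplex X.Modules ℤ)
    (x : X) (n : ℕ) (a b : ℤ) {V : S.Opens} (hV : IsAffineOpen V) {U : B.Opens}
    (hU : IsAffineOpen U) (hxU : φ.base x ∈ U) (e : U ≤ h ⁻¹ᵁ V)
    (ψ : MvPolynomial (Fin n) Γ(S, V) →+* Γ(B, U))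
    (hψC : ψ.comp MvPolynomial.C = (h.appLE V U e).hom) (hψ : ψ.Etale)
    (hF : DerSch.HasTorAmplitudeAt (φ ≫ h) a b F x) :
    DerSch.HasTorAmplitudeAt φ (a - n) b F x := by
  have hyV : h.base (φ.base x) ∈ V := e hxU
  let K : DRing.Cx (B.presheaf.stalk (φ.base x)) := (rCx (φ.stalkMap x).hom).obj ((StCx x).obj F)
  have hχ : ((φ ≫ h).stalkMap x).hom = (φ.stalkMap x).hom.comp (h.stalkMap (φ.base x)).hom := by
    rw [Scheme.Hom.stalkMap_comp]
    rfl
  have h1 : DRing.HasTorAmplitudeIn (S.presheaf.stalk (h.base (φ.base x))) a b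
      (DRing.toD ((rCx (h.stalkMap (φ.base x)).hom).obj K)) :=
    hasTorAmplitudeIn_of_iso (DerivedCategory.Q.mapIso
      (SmTor4.rCxCompIso (h.stalkMap (φ.base x)).hom (φ.stalkMap x).hom
        ((φ ≫ h).stalkMap x).hom hχ ((StCx x).obj F)).symm) _ _ hF
  have hsq : (h.stalkMap (φ.base x)).hom.comp (S.presheaf.germ V (h.base (φ.base x)) hyV).hom =
      (B.presheaf.germ U (φ.base x) hxU).hom.comp (h.appLE V U e).hom := by
    rw [← CommRingCat.hom_comp, ← CommRingCat.hom_comp, Scheme.Hom.germ_stalkMap,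
      Scheme.Hom.appLE, Category.assoc, TopCat.Presheaf.germ_res]
  exact SmTor4.main' (h.appLE V U e).hom n ψ hψC hψ
    (S.presheaf.germ V (h.base (φ.base x)) hyV).hom
    (flat_germ hV _ hyV) (B.presheaf.germ U (φ.base x) hxU).hom
    (hU.primeIdealOf ⟨φ.base x, hxU⟩).asIdeal.primeCompl (hU.isLocalization_stalk ⟨φ.base x, hxU⟩)
    (h.stalkMap (φ.base x)).hom hsq K a b h1

/-- the local statement: at a point where `h` is standard smooth of relative dimension `n` on
affine neighbourhoods -/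
theorem hasTorAmplitudeAt_of_comp (h : B ⟶ S) (φ : X ⟶ B) (F : CochainComplex X.Modules ℤ)
    (x : X) (n : ℕ) (a b : ℤ) {V : S.Opens} (hV : IsAffineOpen V) {U : B.Opens}
    (hU : IsAffineOpen U) (hxU : φ.base x ∈ U) (e : U ≤ h ⁻¹ᵁ V)
    (hsm : (h.appLE V U e).hom.IsStandardSmoothOfRelativeDimension n)
    (hF : DerSch.HasTorAmplitudeAt (φ ≫ h) a b F x) :
    DerSch.HasTorAmplitudeAt φ (a - n) b F x := by
  obtain ⟨ψ, hψC, hψ⟩ := hsm.exists_etale_mvPolynomial
  exact hasTorAmplitudeAt_of_comp' h φ F x n a b hV hU hxU e ψ hψC hψ hF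

/-- standard smooth ring maps have a relative dimension -/
lemma exists_relDim {R T : Type u} [CommRing R] [CommRing T] {f : R →+* T}
    (hf : f.IsStandardSmooth) : ∃ n, f.IsStandardSmoothOfRelativeDimension n := by
  obtain ⟨_, _, _, _, ⟨P⟩⟩ := hf
  let := f.toAlgebra
  exact ⟨_, ⟨_, _, _, ‹_›, P, rfl⟩⟩

/-- for `h` smooth: finite tor amplitude relative to `φ ≫ h` gives finite tor amplitude relative
to `φ` -/
theorem exists_hasTorAmplitudeAt_of_comp (h : B ⟶ S) [Smooth h] (φ : X ⟶ B)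
    (F : CochainComplex X.Modules ℤ) (x : X) (a b : ℤ)
    (hF : DerSch.HasTorAmplitudeAt (φ ≫ h) a b F x) :
    ∃ n : ℕ, DerSch.HasTorAmplitudeAt φ (a - n) b F x := by
  obtain ⟨V, hV, U, hU, hxU, e, hsm⟩ := Smooth.exists_isStandardSmooth h (φ.base x)
  obtain ⟨n, hn⟩ := exists_relDim hsm
  exact ⟨n, hasTorAmplitudeAt_of_comp h φ F x n a b hV hU hxU e hn hF⟩

/-- for `h` smooth of relative dimension `n` -/
theorem hasTorAmplitudeAt_of_comp_of_relDim (h : B ⟶ S) (n : ℕ) [SmoothOfRelativeDimension n h]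
    (φ : X ⟶ B) (F : CochainComplex X.Modules ℤ) (x : X) (a b : ℤ)
    (hF : DerSch.HasTorAmplitudeAt (φ ≫ h) a b F x) :
    DerSch.HasTorAmplitudeAt φ (a - n) b F x := by
  obtain ⟨V, hV, U, hU, hxU, e, hsm⟩ :=
    SmoothOfRelativeDimension.exists_isStandardSmoothOfRelativeDimension (n := n) (f := h)
      (φ.base x)
  exact hasTorAmplitudeAt_of_comp h φ F x n a b hV hU hxU e hsm hF

end Groth.Agent.Helper9.SmTor5
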