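import Mathlib
import Groth.Prelude.Def_DerSch
import Groth.Agent.Helper9.SmTor5
import Groth.Agent.Helper9.ClImm2
import Groth.Agent.Helper9.RelTor1
import Groth.Agent.Helper9.TorStalk1

/-! Flat amplitude of the direct image along a closed immersion into a smooth scheme. -/

set_option autoImplicit false
set_option linter.style.haveILetI false
set_option linter.unusedVariables false
set_option linter.unusedSectionVars false
set_option linter.unusedSimpArgs false
universe u

namespace Groth.Agent.Helper9.SmTor6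

open CategoryTheory CategoryTheory.Limits AlgebraicGeometry Opposite TopologicalSpace
open Groth.Agent.Helper9.SkyMod4 Groth.Agent.Helper3.DRingLib Groth.Agent.Helper9.StalkTensor9

attribute [local instance] HasDerivedCategory.standard

variable {X X' B S Y : Scheme.{u}}

/-- local standard smooth charts from smoothness of relative dimension `n` on an open -/
lemma exists_stdSmooth_of_restrict (h : B ⟶ S) (W : B.Opens) (n : ℕ)
    [SmoothOfRelativeDimension n (W.ι ≫ h)] (y : B) (hy : y ∈ W) :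
    ∃ (V : S.Opens) (_ : IsAffineOpen V) (U : B.Opens) (_ : IsAffineOpen U) (_ : y ∈ U)
      (e : U ≤ h ⁻¹ᵁ V), (h.appLE V U e).hom.IsStandardSmoothOfRelativeDimension n := by
  obtain ⟨V, hV, U', hU', hyU', e', hsm⟩ :=
    SmoothOfRelativeDimension.exists_isStandardSmoothOfRelativeDimension (n := n)
      (f := W.ι ≫ h) (⟨y, hy⟩ : W.toScheme)
  have e : W.ι ''ᵁ U' ≤ h ⁻¹ᵁ V := by
    rintro _ ⟨z, hz, rfl⟩
    exact e' hz
  have heq : (W.ι ≫ h).appLE V U' e' = h.appLE V (W.ι ''ᵁ U') e := by
    rw [Scheme.Hom.comp_appLE]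
    erw [Scheme.Opens.ι_appLE]
    rfl
  refine ⟨V, hV, W.ι ''ᵁ U', hU'.image_of_isOpenImmersion W.ι, ⟨⟨y, hy⟩, hyU', rfl⟩, e, ?_⟩
  rw [← heq]
  exact hsm

/-- tor amplitude relative to `φ`, from smoothness of relative dimension at most `d` -/
theorem hasTorAmplitudeAt_of_comp_le (h : B ⟶ S) (d : ℕ)
    (hd : ∀ y : B, ∃ (n : ℕ) (V : B.Opens), n ≤ d ∧ y ∈ V ∧
      SmoothOfRelativeDimension n (V.ι ≫ h))
    (φ : X ⟶ B) (F : CochainComplex X.Modules ℤ) (x : X) (a b : ℤ)
    (hF : DerSch.HasTorAmplitudeAt (φ ≫ h) a b F x) :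
    DerSch.HasTorAmplitudeAt φ (a - d) b F x := by
  obtain ⟨n, W, hnd, hyW, hsm⟩ := hd (φ.base x)
  haveI := hsm
  obtain ⟨V, hV, U, hU, hyU, e, hstd⟩ := exists_stdSmooth_of_restrict h W n (φ.base x) hyW
  have h1 := SmTor5.hasTorAmplitudeAt_of_comp h φ F x n a b hV hU hyU e hstd hF
  exact SmTor2.hasTorAmplitudeIn_mono (by omega) le_rfl h1

/-- stalkwise tor amplitude of the direct image along a closed immersion -/
theorem hasTorAmplitudeIn_stalk_push (i : X ⟶ X') [IsClosedImmersion i]
    (F : CochainComplex X.Modules ℤ) (a b : ℤ) (hF : DerSch.HasTorAmplitude i a b F) (x' : X') :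
    DRing.HasTorAmplitudeIn (X'.presheaf.stalk x') a b
      (DRing.toD ((StCx x').obj (((Scheme.Modules.pushforward i).mapHomologicalComplex
        (ComplexShape.up ℤ)).obj F))) := by
  by_cases hx : x' ∈ Set.range i.base
  · obtain ⟨x, rfl⟩ := hx
    exact hasTorAmplitudeIn_of_iso (DerivedCategory.Q.mapIso
      (Groth.Agent.Helper9.ClImm2.stalkCxPushIso i i.isEmbedding.isInducing x F).symm) _ _ (hF x)
  · have hz : ∀ j : ℤ, IsZero (((StCx x').obj (((Scheme.Modules.pushforward i).mapHomologicalComplex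
        (ComplexShape.up ℤ)).obj F)).X j) := by
      intro j
      haveI : Subsingleton ↑(((StCx x').obj (((Scheme.Modules.pushforward i).mapHomologicalComplex
          (ComplexShape.up ℤ)).obj F)).X j) :=
        Groth.Agent.Helper9.ClImm1.subsingleton_stalk i i.isClosedEmbedding.isClosed_range
          (F.X j) x' hx
      exact ModuleCat.isZero_of_subsingleton _
    refine ⟨_, fun j _ => hz j, fun j => ?_, ⟨Iso.refl _⟩⟩
    haveI := ModuleCat.subsingleton_of_isZero (hz j)
    infer_instance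

/-- **flat amplitude of the direct image** -/
theorem hasFlatAmplitudeIn_push (i : X ⟶ X') [IsClosedImmersion i]
    (F : CochainComplex X.Modules ℤ) (a b : ℤ) (hF : DerSch.HasTorAmplitude i a b F) :
    DCoh.HasFlatAmplitudeIn a b (DCoh.toD X' (((Scheme.Modules.pushforward i).mapHomologicalComplex
      (ComplexShape.up ℤ)).obj F)) := by
  set G : CochainComplex X'.Modules ℤ :=
    ((Scheme.Modules.pushforward i).mapHomologicalComplex (ComplexShape.up ℤ)).obj F
  have hst := hasTorAmplitudeIn_stalk_push i F a b hF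
  have hex : ∀ j : ℤ, b < j → G.ExactAt j := fun j hj =>
    Groth.Agent.Helper9.RelTor1.exactAt_of_stalks G j (fun x' =>
      Groth.Agent.Helper9.RingProj2.exactAt_of_hasTorAmplitudeIn _ a b (hst x') j (Or.inr hj))
  haveI : G.IsLE b := (CochainComplex.isLE_iff G b).2 hex
  haveI : (DCoh.toD X' G).IsLE b := inferInstance
  exact Groth.Agent.Helper9.TorStalk1.hasFlatAmplitudeIn_of_stalks G b a b hst

/-- S6190 -/
theorem s6190 (i : X ⟶ X') [IsClosedImmersion i] (f' : X' ⟶ Y) (d : ℕ)
    (hd : ∀ x : X', ∃ (n : ℕ) (V : X'.Opens), n ≤ d ∧ x ∈ V ∧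
      SmoothOfRelativeDimension n (V.ι ≫ f'))
    (F : CochainComplex X.Modules ℤ) (a b : ℤ) (hF : DerSch.HasTorAmplitude (i ≫ f') a b F) :
    DCoh.HasFlatAmplitudeIn (a - d) b (DCoh.toD X'
      (((Scheme.Modules.pushforward i).mapHomologicalComplex (ComplexShape.up ℤ)).obj F)) :=
  hasFlatAmplitudeIn_push i F (a - d) b
    (fun x => hasTorAmplitudeAt_of_comp_le f' d hd i F x a b (hF x))

end Groth.Agent.Helper9.SmTor6
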