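import Mathlib
import Groth.Prelude.Def_DerSch2
import Groth.Prelude.Def_KSix
import Groth.Agent.Helper9.SmTor6
import Groth.Agent.Helper9.RelTor2
import Groth.Agent.Helper9.PA1
import Groth.Agent.Helper9.PA2
import Groth.Agent.Helper9.Chart9
import Groth.Agent.Lead.FlatLib4

/-! Local finiteness of tor dimension: stalkwise form, direct images along closed immersions into
smooth schemes, relative perfection. -/

set_option autoImplicit false
set_option linter.style.haveILetI false
set_option linter.unusedVariables false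
set_option linter.unusedSectionVars false
set_option linter.unusedSimpArgs false
universe u

namespace Groth.Agent.Helper9.SmTor7

open CategoryTheory CategoryTheory.Limits AlgebraicGeometry Opposite TopologicalSpace
open Groth.Agent.Helper9.SkyMod4 Groth.Agent.Helper3.DRingLib Groth.Agent.Helper9.StalkTensor9
  Groth.Agent.Lead.PerfLib

attribute [local instance] HasDerivedCategory.standard

variable {X X' Y : Scheme.{u}}

/-- flat amplitude from the stalks (no boundedness hypothesis) -/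
theorem hasFlatAmplitudeIn_of_stalks' (G : CochainComplex X.Modules ℤ) (a b : ℤ)
    (hst : ∀ x : X, DRing.HasTorAmplitudeIn (X.presheaf.stalk x) a b
      (DRing.toD ((StCx x).obj G))) : DCoh.HasFlatAmplitudeIn a b (DCoh.toD X G) := by
  have hex : ∀ j : ℤ, b < j → G.ExactAt j := fun j hj =>
    Groth.Agent.Helper9.RelTor1.exactAt_of_stalks G j (fun x' =>
      Groth.Agent.Helper9.RingProj2.exactAt_of_hasTorAmplitudeIn _ a b (hst x') j (Or.inr hj))
  haveI : CochainComplex.IsLE G b := (CochainComplex.isLE_iff G b).2 hex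
  haveI : (DCoh.toD X G).IsLE b := inferInstance
  exact Groth.Agent.Helper9.TorStalk1.hasFlatAmplitudeIn_of_stalks G b a b hst

/-- the stalks of a restriction to an open subscheme -/
theorem hasTorAmplitudeIn_stalk_restrict {U : Scheme.{u}} (j : U ⟶ X) [IsOpenImmersion j]
    (G : CochainComplex X.Modules ℤ) (a b : ℤ) (u : U)
    (h : DRing.HasTorAmplitudeIn (X.presheaf.stalk (j.base u)) a b
      (DRing.toD ((StCx (j.base u)).obj G))) :
    DRing.HasTorAmplitudeIn (U.presheaf.stalk u) a b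
      (DRing.toD ((StCx u).obj ((Rc j).obj G))) := by
  have h1 : DerSch.HasTorAmplitudeAt (𝟙 X) a b G (j.base u) :=
    (Groth.Agent.Helper9.TorStalk1.hasTorAmplitudeAt_id_iff G a b (j.base u)).2 h
  have h2 : DerSch.HasTorAmplitudeAt (j ≫ 𝟙 X) a b ((Rc j).obj G) u :=
    (Groth.Agent.Helper9.RelTor2.hasTorAmplitudeAt_restrict_iff (𝟙 X) j G a b u).2 h1
  have hbij : Function.Bijective ((j ≫ 𝟙 X).stalkMap u).hom :=
    ConcreteCategory.bijective_of_isIso ((j ≫ 𝟙 X).stalkMap u)
  exact SmTor4.epi_step ((j ≫ 𝟙 X).stalkMap u).hom (RingHom.Flat.of_bijective hbij)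
    (SmTor4.one_tmul_eq_of_surjective _ hbij.2) _ a b h2

/-- `DCoh.LocHasFiniteTorDim` in stalkwise form -/
theorem locHasFiniteTorDim_iff (G : CochainComplex X.Modules ℤ) :
    DCoh.LocHasFiniteTorDim (DCoh.toD X G) ↔
      ∀ x : X, ∃ (V : X.Opens) (a b : ℤ), x ∈ V ∧ ∀ x' : X, x' ∈ V →
        DRing.HasTorAmplitudeIn (X.presheaf.stalk x') a b (DRing.toD ((StCx x').obj G)) := by
  constructor
  · intro h x
    obtain ⟨V, a, b, hxV, hV⟩ := h x
    refine ⟨V, a, b, hxV, fun x' hx' => ?_⟩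
    exact Groth.Agent.Helper9.PA1.hasTorAmplitudeIn_stalk_of_restrict V.ι G a b ⟨x', hx'⟩
      (hV G ⟨Iso.refl _⟩)
  · intro h x
    obtain ⟨V, a, b, hxV, hV⟩ := h x
    refine ⟨V, a, b, hxV, fun F' ⟨e'⟩ => ?_⟩
    refine hasFlatAmplitudeIn_of_stalks' ((DCoh.restrictCx V).obj F') a b (fun u => ?_)
    refine hasTorAmplitudeIn_stalk_restrict V.ι F' a b u ?_
    exact hasTorAmplitudeIn_of_iso (Groth.Agent.Helper9.TorStalk1.stalkDIso (V.ι.base u) e').symm
      _ _ (hV _ u.2)

/-- the stalk of `i_* F` at a point, from the tor amplitude of `F` relative to `i` at the points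
above it -/
theorem hasTorAmplitudeIn_stalk_push' (i : X ⟶ X') [IsClosedImmersion i]
    (F : CochainComplex X.Modules ℤ) (a b : ℤ) (x' : X')
    (hF : ∀ x : X, i.base x = x' → DerSch.HasTorAmplitudeAt i a b F x) :
    DRing.HasTorAmplitudeIn (X'.presheaf.stalk x') a b
      (DRing.toD ((StCx x').obj (((Scheme.Modules.pushforward i).mapHomologicalComplex
        (ComplexShape.up ℤ)).obj F))) := by
  by_cases hx : x' ∈ Set.range i.base
  · obtain ⟨x, rfl⟩ := hx
    exact hasTorAmplitudeIn_of_iso (DerivedCategory.Q.mapIso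
      (Groth.Agent.Helper9.ClImm2.stalkCxPushIso i i.isEmbedding.isInducing x F).symm) _ _
      (hF x rfl)
  · have hz : ∀ j : ℤ, IsZero (((StCx x').obj (((Scheme.Modules.pushforward i).mapHomologicalComplex
        (ComplexShape.up ℤ)).obj F)).X j) := by
      intro j
      haveI : Subsingleton ↑(((StCx x').obj (((Scheme.Modules.pushforward i).mapHomologicalComplex
          (ComplexShape.up ℤ)).obj F)).X j) :=
        Groth.Agent.Helper9.ClImm1.subsingleton_stalk i i.isClosedEmbedding.isClosed_range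
          (F.X j) x' hx
      exact ModuleCat.isZero_of_subsingleton _
    refine ⟨_, fun j _ => hz j, fun j => ?_, ⟨Iso.refl _⟩⟩
    haveI := ModuleCat.subsingleton_of_isZero (hz j)
    infer_instance

/-- tor amplitude relative to `i ≫ f'` from tor amplitude relative to `i`, for `f'` flat -/
theorem hasTorAmplitudeAt_comp_of_flat (i : X ⟶ X') (f' : X' ⟶ Y) [Flat f']
    (F : CochainComplex X.Modules ℤ) (a b : ℤ) (x : X)
    (h : DerSch.HasTorAmplitudeAt i a b F x) : DerSch.HasTorAmplitudeAt (i ≫ f') a b F x := by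
  have h3 := Groth.Agent.Helper9.TorAmpSch1.key (f'.stalkMap (i.base x)).hom (i.stalkMap x).hom
    ((i ≫ f').stalkMap x).hom (by rw [Scheme.Hom.stalkMap_comp]; rfl)
    ((StCx x).obj F) 0 a b
    (Groth.Agent.Helper9.ClImm2.hasTorAmplitudeIn_of_ringHomFlat _
      ((Flat.iff_flat_stalkMap f').1 inferInstance (i.base x))) h
  rw [Nat.cast_zero, sub_zero] at h3
  exact h3

/-- S6197 -/
theorem s6197 (i : X ⟶ X') [IsClosedImmersion i] (f' : X' ⟶ Y) [Smooth f']
    (F : CochainComplex X.Modules ℤ) :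
    DerSch.LocFiniteTorAmplitude (i ≫ f') F ↔
      DCoh.LocHasFiniteTorDim (DCoh.toD X' (((Scheme.Modules.pushforward i).mapHomologicalComplex
        (ComplexShape.up ℤ)).obj F)) := by
  rw [locHasFiniteTorDim_iff]
  constructor
  · intro h x'
    by_cases hx : x' ∈ Set.range i.base
    · obtain ⟨x, rfl⟩ := hx
      obtain ⟨V₀, a, b, hxV₀, hV₀⟩ := h x
      obtain ⟨O, hO, hOV⟩ := i.isEmbedding.isInducing.isOpen_iff.mp V₀.isOpen
      let W' : X'.Opens := ⟨O, hO⟩
      have hW' : ∀ x₁ : X, i.base x₁ ∈ W' → x₁ ∈ V₀ := by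
        intro x₁ hx₁
        have : x₁ ∈ i.base ⁻¹' O := hx₁
        rw [hOV] at this
        exact this
      have hxW' : i.base x ∈ W' := by
        have : x ∈ i.base ⁻¹' O := by rw [hOV]; exact hxV₀
        exact this
      obtain ⟨V', hV', U', hU', hxU', e, hsm⟩ := Smooth.exists_isStandardSmooth f' (i.base x)
      obtain ⟨n, hn⟩ := SmTor5.exists_relDim hsm
      refine ⟨W' ⊓ U', a - n, b, ⟨hxW', hxU'⟩, fun x'' hx'' => ?_⟩
      refine hasTorAmplitudeIn_stalk_push' i F (a - n) b x'' (fun x₁ hx₁ => ?_)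
      subst hx₁
      exact SmTor5.hasTorAmplitudeAt_of_comp f' i F x₁ n a b hV' hU' hx''.2 e hn
        (hV₀ x₁ (hW' x₁ hx''.1))
    · have hcl : IsClosed (Set.range i.base) := i.isClosedEmbedding.isClosed_range
      refine ⟨⟨(Set.range i.base)ᶜ, hcl.isOpen_compl⟩, 0, 0, hx, fun x'' hx'' => ?_⟩
      refine hasTorAmplitudeIn_stalk_push' i F 0 0 x'' (fun x₁ hx₁ => ?_)
      exact absurd ⟨x₁, hx₁⟩ hx''
  · intro h x
    obtain ⟨V', a, b, hxV', hV'⟩ := h (i.base x)
    refine ⟨i ⁻¹ᵁ V', a, b, hxV', fun x₁ hx₁ => ?_⟩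
    haveI : Flat f' := inferInstance
    refine hasTorAmplitudeAt_comp_of_flat i f' F a b x₁ ?_
    exact hasTorAmplitudeIn_of_iso (DerivedCategory.Q.mapIso
      (Groth.Agent.Helper9.ClImm2.stalkCxPushIso i i.isEmbedding.isInducing x₁ F)) _ _
      (hV' _ hx₁)

/-- S6217 -/
theorem s6217 (i : X ⟶ X') [IsClosedImmersion i] (g : X' ⟶ Y) [Smooth g]
    (F : CochainComplex X.Modules ℤ) :
    DerSch.IsPerfectRel (i ≫ g) F ↔
      DCoh.IsPerfect (DCoh.toD X' (((Scheme.Modules.pushforward i).mapHomologicalComplex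
        (ComplexShape.up ℤ)).obj F)) := by
  rw [Groth.Agent.Lead.FlatLib.isPerfect_iff_pc_locFiniteTorDim, ← s6197 i g F]
  unfold DerSch.IsPerfectRel DerSch.IsPseudoCoherentRelAll
  refine and_congr_left fun _ => forall_congr' fun m => ?_
  exact Groth.Agent.Helper9.Chart9.rel_comp_iff i g m F

/-- perfect amplitude in an empty interval -/
theorem hasPerfectAmplitudeIn_of_lt (K : DCoh.D X) (m n : ℤ) (hlt : n < m)
    (h : DCoh.HasFlatAmplitudeIn m n K) : KSix.HasPerfectAmplitudeIn m n K := by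
  obtain ⟨E, hE, -, ⟨e⟩⟩ := h
  rw [Groth.Agent.Helper9.PA2.hasPerfectAmplitudeIn_iff_locSPIn m n K E e]
  intro x
  refine ⟨X, 𝟙 X, inferInstance, ⟨x, rfl⟩, (Rc (𝟙 X)).obj E, fun j hj => ?_, fun j => ?_,
    ⟨Iso.refl _⟩⟩
  · exact Functor.map_isZero (Scheme.Modules.restrictFunctor (𝟙 X)) (hE j hj)
  · exact isFinLocFree_of_isZero
      (Functor.map_isZero (Scheme.Modules.restrictFunctor (𝟙 X)) (hE j (by omega)))

/-- S6219 -/
theorem s6219 (i : X ⟶ X') [IsClosedImmersion i] (g : X' ⟶ Y) [Smooth g] (d : ℕ)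
    (hd : ∀ y : X', ∃ (n : ℕ) (V : X'.Opens), n ≤ d ∧ y ∈ V ∧
      SmoothOfRelativeDimension n (V.ι ≫ g))
    (a b : ℤ) (F : CochainComplex X.Modules ℤ) (hF : DerSch.HasPerfAmplitudeRel (i ≫ g) a b F) :
    KSix.HasPerfectAmplitudeIn (a - d) b (DCoh.toD X'
      (((Scheme.Modules.pushforward i).mapHomologicalComplex (ComplexShape.up ℤ)).obj F)) := by
  have hfl := SmTor6.s6190 i g d hd F a b hF.2
  by_cases hab : a - (d : ℤ) ≤ b
  · rw [Groth.Agent.Helper9.PA2.main _ _ _ _ hab]
    exact ⟨(Groth.Agent.Helper9.Chart9.rel_comp_iff i g _ F).1 (hF.1 _), hfl⟩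
  · exact hasPerfectAmplitudeIn_of_lt _ _ _ (by omega) hfl

end Groth.Agent.Helper9.SmTor7
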