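import Mathlib
import Groth.Prelude.Def_DualSh
import Groth.Prelude.Def_CxOX
import Groth.Prelude.Def_DCoh3
import Groth.Agent.Helper9.RelTor3
import Groth.Agent.Helper9.SmTor7
import Groth.Agent.Helper9.QP7
import Groth.Agent.Helper9.QcLpull1
import Groth.Agent.Lead.FlatLib4

/-! `S`-perfect objects: pointwise form, restriction to affine opens, and the affine-local
criterion. -/

set_option autoImplicit false
set_option linter.style.haveILetI false
set_option linter.unusedVariables false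
set_option linter.unusedSectionVars false
universe u

namespace Groth.Agent.Helper9.RPL1

noncomputable section

open CategoryTheory CategoryTheory.Limits AlgebraicGeometry HomologicalComplex
open Groth.Agent.Lead.PerfLib Groth.Agent.Lead.PcLib Groth.Agent.Lead.FlatLib
  Groth.Agent.Helper9.RelTor2

attribute [local instance] HasDerivedCategory.standard

variable {X S : Scheme.{u}} (f : X ⟶ S)

/-- `S`-perfectness of a complex at a point -/
def At (F₀ : CochainComplex X.Modules ℤ) (x : X) : Prop :=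
  (∀ m : ℤ, LocPC m F₀ x) ∧
    ∃ (W : X.Opens) (a b : ℤ), x ∈ W ∧ ∀ x' : X, x' ∈ W → DerSch.HasTorAmplitudeAt f a b F₀ x'

/-- the property of being `S`-perfect -/
def P (K : DCoh.D X) : Prop :=
  (∀ m : ℤ, DCoh.IsPseudoCoherentD m K) ∧ DCoh.LocHasFiniteRelTorDim f K

theorem P_iff_at [Flat f] (K : DCoh.D X) (F₀ : CochainComplex X.Modules ℤ)
    (e : DCoh.toD X F₀ ≅ K) : P f K ↔ ∀ x : X, At f F₀ x := by
  unfold P
  rw [locHasFiniteRelTorDim_iff f K F₀ e]
  constructor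
  · rintro ⟨h1, h2⟩ x
    exact ⟨fun m => (isPseudoCoherentD_iff_locPC m K F₀ e).1 (h1 m) x, h2 x⟩
  · intro h
    exact ⟨fun m => (isPseudoCoherentD_iff_locPC m K F₀ e).2 (fun x => (h x).1 m),
      fun x => (h x).2⟩

theorem P_of_iso [Flat f] {K K' : DCoh.D X} (e : K ≅ K') (h : P f K) : P f K' := by
  let F₀ : CochainComplex X.Modules ℤ := DerivedCategory.Q.objPreimage K
  let e₀ : DerivedCategory.Q.obj F₀ ≅ K := DerivedCategory.Q.objObjPreimageIso K
  rw [P_iff_at f K F₀ e₀] at h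
  rw [P_iff_at f K' F₀ (e₀ ≪≫ e)]
  exact h

theorem at_restrict_iff {Z : Scheme.{u}} (j : Z ⟶ X) [IsOpenImmersion j]
    (F₀ : CochainComplex X.Modules ℤ) (z : Z) :
    At (j ≫ f) ((Rc j).obj F₀) z ↔ At f F₀ (j z) := by
  constructor
  · rintro ⟨h1, W, a, b, hzW, hW⟩
    refine ⟨fun m => LocPC.of_restrict j (h1 m), j ''ᵁ W, a, b, ⟨z, hzW, rfl⟩, ?_⟩
    rintro x' ⟨z', hz', rfl⟩
    exact (hasTorAmplitudeAt_restrict_iff f j F₀ a b z').1 (hW z' hz')
  · rintro ⟨h1, W, a, b, hzW, hW⟩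
    refine ⟨fun m => LocPC.restrict j (h1 m), j ⁻¹ᵁ W, a, b, hzW, ?_⟩
    intro z' hz'
    exact (hasTorAmplitudeAt_restrict_iff f j F₀ a b z').2 (hW (j z') hz')

theorem hasTorAmplitudeAt_target_iff {Z W : Scheme.{u}} (g : Z ⟶ W) (k : W ⟶ S)
    [IsOpenImmersion k] (G : CochainComplex Z.Modules ℤ) (a b : ℤ) (z : Z) :
    DerSch.HasTorAmplitudeAt (g ≫ k) a b G z ↔ DerSch.HasTorAmplitudeAt g a b G z := by
  constructor
  · intro h
    have h1 := Groth.Agent.Helper9.SmTor6.hasTorAmplitudeAt_of_comp_le k 0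
      (fun y => ⟨0, ⊤, le_rfl, trivial, inferInstance⟩) g G z a b h
    rw [Nat.cast_zero, sub_zero] at h1
    exact h1
  · intro h
    exact Groth.Agent.Helper9.SmTor7.hasTorAmplitudeAt_comp_of_flat g k G a b z h

theorem at_target_iff {Z W : Scheme.{u}} (g : Z ⟶ W) (k : W ⟶ S) [IsOpenImmersion k]
    (G : CochainComplex Z.Modules ℤ) (z : Z) : At (g ≫ k) G z ↔ At g G z := by
  unfold At
  simp only [hasTorAmplitudeAt_target_iff]

theorem local_iff {U : X.Opens} (hU : IsAffineOpen U) {V : S.Opens} (hV : IsAffineOpen V)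
    (hUV : U ≤ f ⁻¹ᵁ V) (F₀ : CochainComplex X.Modules ℤ) (p : Spec Γ(X, U)) :
    At (Spec.map (f.appLE V U hUV)) ((Rc hU.fromSpec).obj F₀) p ↔ At f F₀ (hU.fromSpec p) := by
  rw [← at_target_iff (Spec.map (f.appLE V U hUV)) hV.fromSpec,
    IsAffineOpen.SpecMap_appLE_fromSpec f hV hU hUV]
  exact at_restrict_iff f hU.fromSpec F₀ p

/-- the restriction of `K` to `Spec Γ(X, U)` is represented by the restriction of a representing
complex -/
def restrictSpecIso {U : X.Opens} (hU : IsAffineOpen U) (K : DCoh.D X)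
    (F₀ : CochainComplex X.Modules ℤ) (e : DCoh.toD X F₀ ≅ K) :
    (DCoh.restrictD hU.isoSpec.inv).obj ((DCoh.restrictD U.ι).obj K) ≅
      DerivedCategory.Q.obj ((Rc hU.fromSpec).obj F₀) :=
  (DCoh.restrictD hU.isoSpec.inv).mapIso ((DCoh.restrictD U.ι).mapIso e.symm ≪≫
      (Scheme.Modules.restrictFunctor U.ι).mapDerivedCategoryFactors.app F₀) ≪≫
    (Scheme.Modules.restrictFunctor hU.isoSpec.inv).mapDerivedCategoryFactors.app _ ≪≫
    DerivedCategory.Q.mapIso (rcCompIso U.ι hU.isoSpec.inv hU.fromSpec hU.isoSpec_inv_ι.symm F₀).symm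

/-- the affine-local criterion on one pair of affine opens -/
theorem affine_iff [Flat f] {U : X.Opens} (hU : IsAffineOpen U) {V : S.Opens}
    (hV : IsAffineOpen V) (hUV : U ≤ f ⁻¹ᵁ V) (K : DCoh.D X) (F₀ : CochainComplex X.Modules ℤ)
    (e : DCoh.toD X F₀ ≅ K) [PreservesFiniteLimits (tilde.functor Γ(X, U))]
    (M : DerivedCategory (ModuleCat.{u} Γ(X, U)))
    (eM : (DCoh.restrictD hU.isoSpec.inv).obj ((DCoh.restrictD U.ι).obj K) ≅
      (DCoh.tildeD Γ(X, U)).obj M) :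
    (∀ p : Spec Γ(X, U), At f F₀ (hU.fromSpec p)) ↔
      @Dual2.IsRelPerfect Γ(S, V) Γ(X, U) _ _ (f.appLE V U hUV).hom.toAlgebra M := by
  letI alg : Algebra Γ(S, V) Γ(X, U) := (f.appLE V U hUV).hom.toAlgebra
  have hfl : (f.appLE V U hUV).hom.Flat :=
    HasRingHomProperty.appLE (P := @Flat) f inferInstance ⟨V, hV⟩ ⟨U, hU⟩ hUV
  haveI : Module.Flat Γ(S, V) Γ(X, U) := hfl
  haveI : Flat (Spec.map (f.appLE V U hUV)) := by
    rw [HasRingHomProperty.Spec_iff (P := @Flat)]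
    exact hfl
  have key := Groth.Agent.Helper9.RelTor3.main Γ(S, V) Γ(X, U) M
  rw [← key]
  have hP : P (Spec.map (f.appLE V U hUV)) ((DCoh.tildeD Γ(X, U)).obj M) ↔
      ∀ p : Spec Γ(X, U), At f F₀ (hU.fromSpec p) := by
    rw [P_iff_at (Spec.map (f.appLE V U hUV)) _ ((Rc hU.fromSpec).obj F₀)
      ((restrictSpecIso hU K F₀ e).symm ≪≫ eM)]
    exact forall_congr' (fun p => local_iff f hU hV hUV F₀ p)
  exact hP.symm

end

end Groth.Agent.Helper9.RPL1
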