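import Mathlib
import Groth.Prelude.Def_DualSh
import Groth.Prelude.Def_CxOX
import Groth.Prelude.Def_DCoh3
import Groth.Agent.Helper9.RPL1
import Groth.Agent.Helper9.Chart17
import Groth.Agent.Helper5.AffFlat3

/-! Flatness of a module over the base: restriction to opens, shrinking the target, affine
charts. -/

set_option autoImplicit false
set_option linter.style.haveILetI false
set_option linter.unusedVariables false
set_option linter.unusedSectionVars false
universe u

namespace Groth.Agent.Helper9.RPL3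

noncomputable section

open CategoryTheory CategoryTheory.Limits AlgebraicGeometry HomologicalComplex
open Groth.Agent.Lead.PerfLib Groth.Agent.Helper9.RelTor1 Groth.Agent.Helper9.RelTor2

attribute [local instance] HasDerivedCategory.standard

variable {Z S : Scheme.{u}}

/-- the complex with `M` in degree `0` -/
abbrev sg (M : Z.Modules) : CochainComplex Z.Modules ℤ :=
  (HomologicalComplex.single Z.Modules (ComplexShape.up ℤ) 0).obj M

/-- flatness over the base at a point is tor amplitude `[0, 0]` of the module in degree `0` -/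
theorem isFlatOverAt_iff_tor (g : Z ⟶ S) (M : Z.Modules) (z : Z) :
    FlatMod.IsFlatOverAt g M z ↔ DerSch.HasTorAmplitudeAt g 0 0 (sg M) z := by
  constructor
  · intro h
    refine ⟨(DerSch.stalkCxOver g z).obj (sg M), fun i hi =>
      Functor.map_isZero (DerSch.stalkOver g z)
        (HomologicalComplex.isZero_single_obj_X (ComplexShape.up ℤ) 0 M i (by omega)),
      fun i => ?_, ⟨Iso.refl _⟩⟩
    by_cases hi : i = 0
    · subst hi
      exact (isFlatOverAt_iff g _ z).1 (isFlatOverAt_of_iso g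
        (HomologicalComplex.singleObjXSelf (ComplexShape.up ℤ) 0 M).symm z h)
    · exact (isFlatOverAt_iff g _ z).1 (isFlatOverAt_of_isZero g
        (HomologicalComplex.isZero_single_obj_X (ComplexShape.up ℤ) 0 M i hi) z)
  · intro h
    have h1 := Groth.Agent.Helper9.Chart17.flat_of_hasTorAmplitudeIn
      ((DerSch.stalkCxOver g z).obj (sg M))
      (fun i hi => Functor.map_isZero (DerSch.stalkOver g z)
        (HomologicalComplex.isZero_single_obj_X (ComplexShape.up ℤ) 0 M i hi)) h
    apply isFlatOverAt_of_iso g (HomologicalComplex.singleObjXSelf (ComplexShape.up ℤ) 0 M)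
    rw [isFlatOverAt_iff]
    exact h1

/-- restriction of the module in degree `0` -/
def rcSgIso {U : Scheme.{u}} (j : U ⟶ Z) [IsOpenImmersion j] (M : Z.Modules) :
    (Rc j).obj (sg M) ≅ sg ((Scheme.Modules.restrictFunctor j).obj M) :=
  (HomologicalComplex.singleMapHomologicalComplex (Scheme.Modules.restrictFunctor j)
    (ComplexShape.up ℤ) 0).app M

/-- flatness over the base at a point of an open -/
theorem isFlatOverAt_restrict_iff (g : Z ⟶ S) {U : Scheme.{u}} (j : U ⟶ Z) [IsOpenImmersion j]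
    (M : Z.Modules) (u : U) :
    FlatMod.IsFlatOverAt (j ≫ g) ((Scheme.Modules.restrictFunctor j).obj M) u ↔
      FlatMod.IsFlatOverAt g M (j.base u) := by
  rw [isFlatOverAt_iff_tor, isFlatOverAt_iff_tor, ← hasTorAmplitudeAt_restrict_iff g j (sg M) 0 0 u]
  exact ⟨fun h => hasTorAmplitudeAt_of_iso (j ≫ g)
      (DerivedCategory.Q.mapIso (rcSgIso j M).symm) 0 0 u h,
    fun h => hasTorAmplitudeAt_of_iso (j ≫ g) (DerivedCategory.Q.mapIso (rcSgIso j M)) 0 0 u h⟩

/-- shrinking the target -/
theorem isFlatOverAt_target_iff {W : Scheme.{u}} (g : Z ⟶ W) (k : W ⟶ S) [IsOpenImmersion k]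
    (M : Z.Modules) (z : Z) :
    FlatMod.IsFlatOverAt (g ≫ k) M z ↔ FlatMod.IsFlatOverAt g M z := by
  rw [isFlatOverAt_iff_tor, isFlatOverAt_iff_tor]
  exact Groth.Agent.Helper9.RPL1.hasTorAmplitudeAt_target_iff g k (sg M) 0 0 z

variable {X : Scheme.{u}} (f : X ⟶ S)

/-- flatness over the base on an affine chart -/
theorem isFlatOverAt_chart_iff {U : X.Opens} (hU : IsAffineOpen U) {V : S.Opens}
    (hV : IsAffineOpen V) (hUV : U ≤ f ⁻¹ᵁ V) (M : X.Modules) (p : Spec Γ(X, U)) :
    FlatMod.IsFlatOverAt (Spec.map (f.appLE V U hUV))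
        ((Scheme.Modules.restrictFunctor hU.fromSpec).obj M) p ↔
      FlatMod.IsFlatOverAt f M (hU.fromSpec p) := by
  rw [← isFlatOverAt_target_iff (Spec.map (f.appLE V U hUV)) hV.fromSpec,
    IsAffineOpen.SpecMap_appLE_fromSpec f hV hU hUV]
  exact isFlatOverAt_restrict_iff f hU.fromSpec M p

/-- flatness over `Γ(S, V)` of a `Γ(X, U)`-module gives flatness over `S` of the associated
module on `U` -/
theorem isFlatOver_restrict_tilde {U : X.Opens} (hU : IsAffineOpen U) {V : S.Opens}
    (hV : IsAffineOpen V) (hUV : U ≤ f ⁻¹ᵁ V) (N : ModuleCat.{u} Γ(X, U))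
    (hN : Module.Flat Γ(S, V) ((ModuleCat.restrictScalars.{u} (f.appLE V U hUV).hom).obj N)) :
    FlatMod.IsFlatOver (U.ι ≫ f)
      ((Scheme.Modules.restrictFunctor hU.isoSpec.hom).obj (tilde N)) := by
  intro u
  have h1 : U.ι ≫ f = hU.isoSpec.hom ≫ (Spec.map (f.appLE V U hUV) ≫ hV.fromSpec) := by
    rw [IsAffineOpen.SpecMap_appLE_fromSpec f hV hU hUV, ← Category.assoc]
    congr 1
    rw [IsAffineOpen.fromSpec, ← Category.assoc, Iso.hom_inv_id, Category.id_comp]
  rw [h1, isFlatOverAt_restrict_iff, isFlatOverAt_target_iff]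
  letI : Algebra Γ(S, V) Γ(X, U) := (f.appLE V U hUV).hom.toAlgebra
  letI : Module Γ(S, V) N := Module.compHom N (f.appLE V U hUV).hom
  haveI : IsScalarTower Γ(S, V) Γ(X, U) N := IsScalarTower.of_algebraMap_smul (fun r m => rfl)
  haveI : Module.Flat Γ(S, V) N := hN
  exact (Groth.Agent.Helper5.AffFlat.s2394 Γ(S, V) Γ(X, U) N).2 hN _

/-- conversely on `Spec` -/
theorem flat_of_isFlatOver_tilde {U : X.Opens} (hU : IsAffineOpen U) {V : S.Opens}
    (hV : IsAffineOpen V) (hUV : U ≤ f ⁻¹ᵁ V) (N : ModuleCat.{u} Γ(X, U))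
    (h : FlatMod.IsFlatOver (Spec.map (f.appLE V U hUV)) (tilde N)) :
    Module.Flat Γ(S, V) ((ModuleCat.restrictScalars.{u} (f.appLE V U hUV).hom).obj N) := by
  letI : Algebra Γ(S, V) Γ(X, U) := (f.appLE V U hUV).hom.toAlgebra
  letI : Module Γ(S, V) N := Module.compHom N (f.appLE V U hUV).hom
  haveI : IsScalarTower Γ(S, V) Γ(X, U) N := IsScalarTower.of_algebraMap_smul (fun r m => rfl)
  exact (Groth.Agent.Helper5.AffFlat.s2394 Γ(S, V) Γ(X, U) N).1 h

end

end Groth.Agent.Helper9.RPL3
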