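import Mathlib
import Groth.Prelude.Def_CohCx
import Groth.Prelude.Def_CohSite
import Groth.Agent.Helper9.CechNerveCartan
import Groth.Agent.Helper9.ModCechExt
import Groth.Agent.Helper9.SieveAcyc
import Groth.Agent.Helper1.SiteAcyc

/-!
# Direct images along a morphism of topoi preserve totally acyclic abelian sheaves
-/

namespace Groth.Agent.Helper9.PushAcyc

open CategoryTheory Limits Opposite Abelian Groth.Agent.Helper9.CechNerveSet
  Groth.Agent.Helper9.CechNerveRes Groth.Agent.Helper9.CechNerveCartan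

universe u

variable {C D : Type u} [SmallCategory C] [SmallCategory D]
  {J : GrothendieckTopology C} {K : GrothendieckTopology D}

section Compare

variable (P : Sheaf K (Type u) ⥤ Sheaf J (Type u)) [PreservesFiniteLimits P]
  {M' M : Sheaf K (Type u)} (f : M' ⟶ M)

/-- the comparison morphism `P(M' ×_M ⋯ ×_M M') ⟶ PM' ×_{PM} ⋯ ×_{PM} PM'` -/
noncomputable def κhom (n : ℕ) : P.obj (WP f n) ⟶ WP (P.map f) n :=
  WidePullback.lift (P.map (WidePullback.base _)) (fun i => P.map (WidePullback.π _ i))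
    (by intro i; rw [← P.map_comp, WidePullback.π_arrow])

lemma κhom_base (n : ℕ) : κhom P f n ≫ WidePullback.base _ = P.map (WidePullback.base _) :=
  WidePullback.lift_base _ _ _ _

lemma κhom_π (n : ℕ) (i : Fin (n + 1)) :
    κhom P f n ≫ WidePullback.π _ i = P.map (WidePullback.π _ i) :=
  WidePullback.lift_π _ _ _ _ _

/-- the preserved limit cone -/
noncomputable def hl (n : ℕ) : IsLimit (P.mapCone (limit.cone
    (WidePullbackShape.wideCospan M (fun _ : Fin (n + 1) => M') (fun _ => f)))) :=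
  isLimitOfPreserves P (limit.isLimit _)

/-- the inverse comparison morphism -/
noncomputable def κinv (n : ℕ) : WP (P.map f) n ⟶ P.obj (WP f n) :=
  (hl P f n).lift (WidePullbackShape.mkCone
    (F := WidePullbackShape.wideCospan M (fun _ : Fin (n + 1) => M') (fun _ => f) ⋙ P)
    (WidePullback.base (fun _ : Fin (n + 1) => P.map f))
    (fun j => WidePullback.π (fun _ : Fin (n + 1) => P.map f) j)
    (fun j => WidePullback.π_arrow (fun _ : Fin (n + 1) => P.map f) j))

lemma κinv_base (n : ℕ) :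
    κinv P f n ≫ P.map (WidePullback.base (fun _ : Fin (n + 1) => f)) =
      WidePullback.base (fun _ : Fin (n + 1) => P.map f) :=
  (hl P f n).fac _ none

lemma κinv_π (n : ℕ) (i : Fin (n + 1)) :
    κinv P f n ≫ P.map (WidePullback.π (fun _ : Fin (n + 1) => f) i) =
      WidePullback.π (fun _ : Fin (n + 1) => P.map f) i :=
  (hl P f n).fac _ (some i)

lemma κhom_inv (n : ℕ) : κhom P f n ≫ κinv P f n = 𝟙 _ := by
  apply (hl P f n).hom_ext
  rintro (_ | i)
  · show (κhom P f n ≫ κinv P f n) ≫ P.map (WidePullback.base (fun _ : Fin (n + 1) => f)) =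
      𝟙 _ ≫ P.map (WidePullback.base (fun _ : Fin (n + 1) => f))
    rw [Category.assoc, κinv_base, κhom_base, Category.id_comp]
  · show (κhom P f n ≫ κinv P f n) ≫ P.map (WidePullback.π (fun _ : Fin (n + 1) => f) i) =
      𝟙 _ ≫ P.map (WidePullback.π (fun _ : Fin (n + 1) => f) i)
    rw [Category.assoc, κinv_π, κhom_π, Category.id_comp]

lemma κinv_hom (n : ℕ) : κinv P f n ≫ κhom P f n = 𝟙 _ := by
  apply WidePullback.hom_ext
  · intro i
    rw [Category.assoc, κhom_π, κinv_π, Category.id_comp]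
  · rw [Category.assoc, κhom_base, κinv_base, Category.id_comp]

/-- the comparison isomorphism -/
noncomputable def κ (n : ℕ) : P.obj (WP f n) ≅ WP (P.map f) n where
  hom := κhom P f n
  inv := κinv P f n
  hom_inv_id := κhom_inv P f n
  inv_hom_id := κinv_hom P f n

lemma κ_face (n : ℕ) (i : Fin (n + 2)) :
    P.map (face f n i) ≫ (κ P f n).hom = (κ P f (n + 1)).hom ≫ face (P.map f) n i := by
  apply WidePullback.hom_ext
  · intro k
    show (P.map (face f n i) ≫ κhom P f n) ≫ _ = (κhom P f (n + 1) ≫ face (P.map f) n i) ≫ _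
    rw [Category.assoc, Category.assoc, κhom_π]
    unfold face
    rw [WidePullback.lift_π, κhom_π, ← P.map_comp, WidePullback.lift_π]
  · show (P.map (face f n i) ≫ κhom P f n) ≫ _ = (κhom P f (n + 1) ≫ face (P.map f) n i) ≫ _
    rw [Category.assoc, Category.assoc, κhom_base]
    unfold face
    rw [WidePullback.lift_base, κhom_base, ← P.map_comp, WidePullback.lift_base]

end Compare

section Transport

variable (u : D ⥤ C) [u.IsContinuous K J]

/-- pullback of sheaves of sets -/
noncomputable abbrev PS : Sheaf K (Type u) ⥤ Sheaf J (Type u) := u.sheafPullback (Type u) K J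

/-- direct image of sheaves of sets -/
abbrev pushS : Sheaf J (Type u) ⥤ Sheaf K (Type u) :=
  u.sheafPushforwardContinuous (Type u) K J

/-- the adjunction for sheaves of sets -/
noncomputable abbrev adjS : PS (J := J) (K := K) u ⊣ pushS u :=
  u.sheafAdjunctionContinuous (Type u) K J

/-- pullback of abelian sheaves -/
noncomputable abbrev PA : Sheaf K AddCommGrpCat.{u} ⥤ Sheaf J AddCommGrpCat.{u} :=
  u.sheafPullback AddCommGrpCat.{u} K J

/-- direct image of abelian sheaves -/
noncomputable abbrev pushA : Sheaf J AddCommGrpCat.{u} ⥤ Sheaf K AddCommGrpCat.{u} :=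
  CohSite.push J K u

/-- the adjunction for abelian sheaves -/
noncomputable abbrev adjA : PA (J := J) (K := K) u ⊣ pushA u :=
  u.sheafAdjunctionContinuous AddCommGrpCat.{u} K J

/-- free / forgetful adjunction -/
noncomputable abbrev adjZ' (J : GrothendieckTopology C) :
    Φ J ⊣ sheafCompose J (forget AddCommGrpCat.{u}) :=
  Sheaf.adjunction J AddCommGrpCat.adj.{u}

/-- the two right adjoints agree -/
noncomputable def rightIso : pushA (J := J) (K := K) u ⋙ sheafCompose K (forget AddCommGrpCat.{u}) ≅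
    sheafCompose J (forget AddCommGrpCat.{u}) ⋙ pushS u :=
  NatIso.ofComponents (fun F => Iso.refl _) (by intro F G φ; rfl)

/-- pullback of a free abelian sheaf is the free abelian sheaf on the pullback -/
noncomputable def ρ : Φ K ⋙ PA (J := J) u ≅ PS (J := J) u ⋙ Φ J :=
  (conjugateIsoEquiv ((adjS (J := J) (K := K) u).comp (adjZ' J))
    ((adjZ' K).comp (adjA (J := J) (K := K) u))).symm (rightIso u).symm

instance : (PA (J := J) (K := K) u).Additive := (adjA u).left_adjoint_additive

/-- precomposition with an isomorphism -/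
def preAdd {A : Type*} [Category A] [Preadditive A] {X X' : A} (e : X ≅ X') (Z : A) :
    (X ⟶ Z) ≃+ (X' ⟶ Z) where
  toFun t := e.inv ≫ t
  invFun s := e.hom ≫ s
  left_inv t := by simp
  right_inv s := by simp
  map_add' := by intro a b; exact Preadditive.comp_add _ _ _ _ _ _

/-- `Hom(ℤ[M], u_* G) ≃ Hom(ℤ[u⁻¹ M], G)` -/
noncomputable def θ (M : Sheaf K (Type u)) (G : Sheaf J AddCommGrpCat.{u}) :
    ((Φ K).obj M ⟶ (pushA u).obj G) ≃+ ((Φ J).obj ((PS u).obj M) ⟶ G) :=
  ((adjA u).homAddEquiv ((Φ K).obj M) G).symm.trans (preAdd ((ρ u).app M) G)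

lemma θ_apply (M : Sheaf K (Type u)) (G : Sheaf J AddCommGrpCat.{u})
    (t : (Φ K).obj M ⟶ (pushA u).obj G) :
    θ u M G t = (ρ u).inv.app M ≫ ((adjA u).homEquiv _ G).symm t := rfl

lemma θ_nat {M' M : Sheaf K (Type u)} (m : M' ⟶ M) (G : Sheaf J AddCommGrpCat.{u})
    (t : (Φ K).obj M ⟶ (pushA u).obj G) :
    θ u M' G ((Φ K).map m ≫ t) = (Φ J).map ((PS u).map m) ≫ θ u M G t := by
  rw [θ_apply, θ_apply, Adjunction.homEquiv_naturality_left_symm, ← Category.assoc,
    ← Category.assoc]
  congr 1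
  exact ((ρ u).inv.naturality m).symm

variable [PreservesFiniteLimits (PS (J := J) (K := K) u)] {M' M : Sheaf K (Type u)} (f : M' ⟶ M)

/-- transport of Čech cochains -/
noncomputable def Ψc (n : ℕ) (G : Sheaf J AddCommGrpCat.{u}) :
    ((Φ K).obj (WP f n) ⟶ (pushA u).obj G) ≃+ ((Φ J).obj (WP ((PS u).map f) n) ⟶ G) :=
  (θ u (WP f n) G).trans (preAdd ((Φ J).mapIso (κ (PS u) f n)) G)

lemma Ψc_apply (n : ℕ) (G : Sheaf J AddCommGrpCat.{u})
    (t : (Φ K).obj (WP f n) ⟶ (pushA u).obj G) :
    Ψc u f n G t = (Φ J).map (κ (PS u) f n).inv ≫ θ u (WP f n) G t := rfl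

lemma Ψc_face (n : ℕ) (i : Fin (n + 2)) (G : Sheaf J AddCommGrpCat.{u})
    (t : (Φ K).obj (WP f n) ⟶ (pushA u).obj G) :
    Ψc u f (n + 1) G ((Φ K).map (face f n i) ≫ t) =
      (Φ J).map (face ((PS u).map f) n i) ≫ Ψc u f n G t := by
  rw [Ψc_apply, Ψc_apply, θ_nat, ← Category.assoc, ← Category.assoc, ← Functor.map_comp,
    ← Functor.map_comp]
  congr 2
  rw [Iso.inv_comp_eq, ← Category.assoc, Iso.eq_comp_inv]
  exact κ_face (PS u) f n i

lemma Ψc_d (n : ℕ) (G : Sheaf J AddCommGrpCat.{u})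
    (t : (Φ K).obj (WP f n) ⟶ (pushA u).obj G) :
    Ψc u f (n + 1) G (dΦ f n ≫ t) = dΦ ((PS u).map f) n ≫ Ψc u f n G t := by
  rw [ModCechExt.dΦ_eq, ModCechExt.dΦ_eq, Preadditive.sum_comp, Preadditive.sum_comp, map_sum]
  refine Finset.sum_congr rfl (fun i _ => ?_)
  rw [Preadditive.zsmul_comp, Preadditive.zsmul_comp, map_zsmul, Ψc_face]

theorem homAcyc_push (G : Sheaf J AddCommGrpCat.{u}) (hG : HomAcyc G) :
    HomAcyc ((pushA (K := K) u).obj G) := by
  intro M' M f hf q c hc
  haveI := hf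
  haveI : (PS (J := J) (K := K) u).PreservesEpimorphisms :=
    (PS (J := J) (K := K) u).preservesEpimorphisms_of_adjunction (adjS u)
  haveI : Epi ((PS (J := J) u).map f) := (PS (J := J) (K := K) u).map_epi f
  have h0 : dΦ ((PS (J := J) u).map f) (q + 1) ≫ Ψc u f (q + 1) G c = 0 := by
    rw [← Ψc_d, hc, map_zero]
  obtain ⟨b', hb'⟩ := hG _ _ ((PS (J := J) u).map f) inferInstance q (Ψc u f (q + 1) G c) h0
  refine ⟨(Ψc u f q G).symm b', ?_⟩
  apply (Ψc u f (q + 1) G).injective
  rw [Ψc_d, AddEquiv.apply_symm_apply, hb']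

theorem totallyAcyclic_push (G : Sheaf J AddCommGrpCat.{u}) (hG : CohCx.IsTotallyAcyclic G) :
    CohCx.IsTotallyAcyclic ((pushA (K := K) u).obj G) :=
  totallyAcyclic_of_homAcyc _ (homAcyc_push u G (homAcyc_of_totallyAcyclic G hG))

end Transport

section DimShift

open Groth.Agent.Helper9.SieveAcyc

variable (u : D ⥤ C) [u.IsContinuous K J] [PreservesFiniteLimits (PS (J := J) (K := K) u)]

instance : PreservesFiniteLimits (pushA (J := J) (K := K) u) :=
  ⟨fun _ _ _ => (adjA (J := J) (K := K) u).rightAdjoint_preservesLimits.1⟩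

/-- the direct image of `0 → F → I → I/F → 0` -/
noncomputable abbrev Sp (F : Sheaf J AddCommGrpCat.{u}) :
    ShortComplex (Sheaf K AddCommGrpCat.{u}) := (Ssh F).map (pushA (K := K) u)

lemma hSp (F : Sheaf J AddCommGrpCat.{u}) (hF : Acyc F) : (Sp (K := K) u F).ShortExact := by
  obtain ⟨hex, hmono⟩ := (Functor.preservesFiniteLimits_iff_forall_exact_map_and_mono
    (pushA (J := J) (K := K) u)).1 inferInstance (Ssh F) (hSsh F)
  haveI : Sheaf.IsLocallySurjective ((pushA (K := K) u).map (cokernel.π (Injective.ι F))) := by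
    apply Presheaf.isLocallySurjective_of_surjective
    intro V
    exact surjective_π_app F (u.obj V.unop) (hF (u.obj V.unop) 0)
  exact
    { exact := hex
      mono_f := hmono
      epi_g := inferInstanceAs (Epi ((pushA (K := K) u).map (cokernel.π (Injective.ι F)))) }

lemma totallyAcyclic_of_injective (I : Sheaf J AddCommGrpCat.{u}) [Injective I] :
    CohCx.IsTotallyAcyclic I :=
  fun _ _ => subsingleton_of_forall_eq 0 (fun x => Ext.eq_zero_of_injective x)

lemma subsingleton_HU_push_injective (I : Sheaf J AddCommGrpCat.{u}) [Injective I] (V : D)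
    (p : ℕ) : Subsingleton (Ext.{u} (CohCx.freeSheaf K V) ((pushA (K := K) u).obj I) (p + 1)) :=
  Groth.Agent.Helper1.SiteCoh.subsingleton_ext_freeY_of_isTotallyAcyclic
    (totallyAcyclic_push (K := K) u I (totallyAcyclic_of_injective I)) V p

set_option backward.isDefEq.respectTransparency false in
theorem subsingleton_HU_push : ∀ (q : ℕ) (F : Sheaf J AddCommGrpCat.{u}), Acyc F →
    ∀ V : D, Subsingleton (CohSite.HU ((pushA (K := K) u).obj F) (q + 1) V)
  | 0, F, hF, V => by
    refine subsingleton_of_forall_eq 0 ?_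
    intro (x : Ext.{u} (CohCx.freeSheaf K V) (Sp (K := K) u F).X₁ 1)
    haveI : Injective (Ssh F).X₂ := by dsimp [Ssh]; infer_instance
    haveI := subsingleton_HU_push_injective (K := K) u (Ssh F).X₂ V 0
    have hx : x.comp (Ext.mk₀ (Sp (K := K) u F).f) (add_zero 1) = 0 :=
      Subsingleton.elim (α := Ext.{u} (CohCx.freeSheaf K V) ((pushA (K := K) u).obj (Ssh F).X₂) 1)
        _ _
    obtain ⟨y, hy⟩ := Ext.covariant_sequence_exact₁ _ (hSp (K := K) u F hF) x hx (zero_add 1)
    obtain ⟨t, rfl⟩ := (sectH0 V (Sp (K := K) u F).X₃).surjective y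
    obtain ⟨s₀, hs₀⟩ := surjective_π_app F (u.obj V) (hF (u.obj V) 0) t
    let s : (Sp (K := K) u F).X₂.obj.obj (op V) := s₀
    have hs : (Sp (K := K) u F).g.hom.app (op V) s = t := hs₀
    have h1 : (sectH0 V (Sp (K := K) u F).X₂ s).comp (Ext.mk₀ (Sp (K := K) u F).g) (add_zero 0) =
        sectH0 V (Sp (K := K) u F).X₃ t := by
      rw [sectH0_naturality]
      exact congrArg (sectH0 V (Sp (K := K) u F).X₃) hs
    rw [← hy, ← h1, Ext.comp_assoc _ _ _ (add_zero 0) (zero_add 1) (by omega),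
      (hSp (K := K) u F hF).comp_extClass, Ext.comp_zero]
  | q + 1, F, hF, V => by
    refine subsingleton_of_forall_eq 0 ?_
    intro (x : Ext.{u} (CohCx.freeSheaf K V) (Sp (K := K) u F).X₁ (q + 1 + 1))
    haveI : Injective (Ssh F).X₂ := by dsimp [Ssh]; infer_instance
    haveI := subsingleton_HU_push_injective (K := K) u (Ssh F).X₂ V (q + 1)
    have hx : x.comp (Ext.mk₀ (Sp (K := K) u F).f) (add_zero (q + 1 + 1)) = 0 :=
      Subsingleton.elim
        (α := Ext.{u} (CohCx.freeSheaf K V) ((pushA (K := K) u).obj (Ssh F).X₂) (q + 1 + 1)) _ _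
    obtain ⟨y, hy⟩ := Ext.covariant_sequence_exact₁ _ (hSp (K := K) u F hF) x hx rfl
    have hy0 : y = 0 :=
      (subsingleton_HU_push q (Qsh F) (acyc_Qsh F hF) V).elim _ _
    rw [← hy, hy0, Ext.zero_comp]

end DimShift

end Groth.Agent.Helper9.PushAcyc
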