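import Mathlib
import Groth.Prelude.Def_ModSite
import Groth.Prelude.Def_CohCx
import Groth.Agent.Helper9.ModCechExt
import Groth.Agent.Helper9.TensorAdj
import Groth.Agent.Helper9.TensorFlat

/-!
# The internal Hom into an injective module is totally acyclic
-/

namespace Groth.Agent.Helper9.SheafHomAcyc

open CategoryTheory MonoidalCategory Opposite Limits Abelian
  Groth.Agent.Helper9.TensorSh Groth.Agent.Helper9.TensorAdj Groth.Agent.Helper9.TensorFlat
  Groth.Agent.Helper9.CechNerveSet Groth.Agent.Helper9.CechNerveRes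
  Groth.Agent.Helper9.ModCechRes Groth.Agent.Helper9.ModCechExt
  Groth.Agent.Helper9.CechNerveCartan

universe u

variable {C : Type u} [SmallCategory C]

section Psh

variable {Rc : Cᵒᵖ ⥤ CommRingCat.{u}}

lemma exact_of_app_pm {R₀ : Cᵒᵖ ⥤ RingCat.{u}} (S : ShortComplex (PresheafOfModules.{u} R₀))
    (h : ∀ (V : Cᵒᵖ) (x₂ : S.X₂.obj V), S.g.app V x₂ = 0 →
      ∃ x₁ : S.X₁.obj V, S.f.app V x₁ = x₂) : S.Exact := by
  rw [← ShortComplex.exact_map_iff_of_faithful S (PresheafOfModules.toPresheaf R₀)]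
  apply CechNerveRes.exact_of_app
  intro V x₂ hx₂
  exact h V x₂ hx₂

set_option backward.isDefEq.respectTransparency false in
lemma zero_whiskerRight_pm
    (A B N : PresheafOfModules.{u} (Rc ⋙ forget₂ CommRingCat.{u} RingCat.{u})) :
    (0 : A ⟶ B) ▷ N = 0 := by
  ext1 X
  exact MonoidalPreadditive.zero_whiskerRight (C := ModuleCat (Rc.obj X)) (X := N.obj X)

set_option backward.isDefEq.respectTransparency false in
/-- sectionwise split exact short complexes of presheaves of modules stay exact after tensoring -/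
lemma exact_whiskerRight_of_sectionwise_homotopy
    {A B D : PresheafOfModules.{u} (Rc ⋙ forget₂ CommRingCat.{u} RingCat.{u})}
    (p : A ⟶ B) (q : B ⟶ D) (w : p ≫ q = 0)
    (N : PresheafOfModules.{u} (Rc ⋙ forget₂ CommRingCat.{u} RingCat.{u}))
    (h : ∀ X : Cᵒᵖ, ∃ (h₁ : B.obj X ⟶ A.obj X) (h₂ : D.obj X ⟶ B.obj X),
      h₁ ≫ p.app X + q.app X ≫ h₂ = 𝟙 _) :
    (ShortComplex.mk (p ▷ N) (q ▷ N)
      (by rw [← comp_whiskerRight, w, zero_whiskerRight_pm])).Exact := by
  apply exact_of_app_pm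
  intro X x hx
  obtain ⟨h₁, h₂, hh⟩ := h X
  refine ⟨(h₁ ▷ N.obj X) x, ?_⟩
  have e : (h₁ ▷ N.obj X) ≫ (p.app X ▷ N.obj X) + (q.app X ▷ N.obj X) ≫ (h₂ ▷ N.obj X) =
      𝟙 _ := by
    rw [← comp_whiskerRight, ← comp_whiskerRight, ← MonoidalPreadditive.add_whiskerRight, hh,
      id_whiskerRight]
  have e' : (p.app X ▷ N.obj X) ((h₁ ▷ N.obj X) x) + (h₂ ▷ N.obj X) ((q.app X ▷ N.obj X) x) = x :=
    ConcreteCategory.congr_hom e x
  have hx' : (q.app X ▷ N.obj X) x = 0 := hx
  rw [hx', map_zero, add_zero] at e'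
  exact e'

end Psh

variable {J : GrothendieckTopology C} (O : Sheaf J CommRingCat.{u}) (F : ModSite.Mod O)
  {K' K : Sheaf J (Type u)} (f : K' ⟶ K)

/-- typed objects of the presheaf-level free Čech complex -/
noncomputable def PX (n : ℕ) : PM O := (Pm (ModSite.ringSh O) f).X n

/-- typed differentials of the presheaf-level free Čech complex -/
noncomputable def Pd (n : ℕ) : PX O f (n + 1) ⟶ PX O f n := (Pm (ModSite.ringSh O) f).d (n + 1) n

lemma Pd_comp (n : ℕ) : Pd O f (n + 1) ≫ Pd O f n = 0 :=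
  (Pm (ModSite.ringSh O) f).d_comp_d _ _ _

/-- the presheaf-level free Čech complex tensored with `F` is exact in positive degrees -/
lemma PmF_exact (n : ℕ) :
    (ShortComplex.mk (Pd O f (n + 1) ▷ (ι O).obj F) (Pd O f n ▷ (ι O).obj F)
      (by rw [← comp_whiskerRight, Pd_comp, zero_whiskerRight_pm])).Exact := by
  apply exact_whiskerRight_of_sectionwise_homotopy
  · exact Pd_comp O f n
  · intro X
    induction X using Opposite.rec with | _ U
    exact ⟨Hm (ModSite.ringSh O) f (n + 1) U, Hm (ModSite.ringSh O) f n U,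
      homotopy_succ (ModSite.ringSh O) f n U⟩

lemma Dsm_eq_a (n : ℕ) :
    Dsm (ModSite.ringSh O) f n = (a O).map (Pd O f n) := Cm_d (ModSite.ringSh O) f n

instance preservesFiniteLimits_a : PreservesFiniteLimits (a O) :=
  inferInstanceAs (PreservesFiniteLimits
    (PresheafOfModules.sheafification.{u} (𝟙 (ModSite.ringSh O).obj)))

instance preservesFiniteColimits_a : PreservesFiniteColimits (a O) :=
  inferInstanceAs (PreservesFiniteColimits (Sm (ModSite.ringSh O)))

instance additive_a : (a O).Additive :=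
  inferInstanceAs ((Sm (ModSite.ringSh O)).Additive)

/-- sectionwise split exact short complexes of presheaves stay exact after `a(-) ⊗ F` -/
lemma exact_TN_a {A B D : PM O} (p : A ⟶ B) (q : B ⟶ D) (w : p ≫ q = 0)
    (h : ∀ X : Cᵒᵖ, ∃ (h₁ : B.obj X ⟶ A.obj X) (h₂ : D.obj X ⟶ B.obj X),
      h₁ ≫ p.app X + q.app X ≫ h₂ = 𝟙 _) :
    (ShortComplex.mk ((TN F).map ((a O).map p)) ((TN F).map ((a O).map q))
      (by rw [← Functor.map_comp, ← Functor.map_comp, w, Functor.map_zero,
        Functor.map_zero])).Exact := by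
  have h1 := (exact_whiskerRight_of_sectionwise_homotopy p q w ((ι O).obj F) h).map (a O)
  refine ShortComplex.exact_of_iso ?_ h1
  exact ShortComplex.isoMk ((isoG F).app _) ((isoG F).app _) ((isoG F).app _)
    ((isoG F).hom.naturality p).symm ((isoG F).hom.naturality q).symm

/-- the free Čech resolution tensored with `F` is exact in positive degrees -/
lemma TNF_exact (n : ℕ) :
    (ShortComplex.mk ((TN F).map ((a O).map (Pd O f (n + 1)))) ((TN F).map ((a O).map (Pd O f n)))
      (by rw [← Functor.map_comp, ← Functor.map_comp, Pd_comp, Functor.map_zero,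
        Functor.map_zero])).Exact :=
  exact_TN_a O F (Pd O f (n + 1)) (Pd O f n) (Pd_comp O f n) (by
    intro X
    induction X using Opposite.rec with | _ U
    exact ⟨Hm (ModSite.ringSh O) f (n + 1) U, Hm (ModSite.ringSh O) f n U,
      homotopy_succ (ModSite.ringSh O) f n U⟩)

theorem homAcyc_sheafHom (G : ModSite.Mod O) [ModSite.HasSheafHom F] [Injective G] :
    HomAcyc (ModSite.toAb ((ModSite.sheafHom F).obj G)) := by
  intro K' K f hf q c hc
  let c' : (Φm (ModSite.ringSh O)).obj (WP f (q + 1)) ⟶ (ModSite.sheafHom F).obj G :=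
    (β (ModSite.ringSh O) (WP f (q + 1)) ((ModSite.sheafHom F).obj G)).symm c
  have hc' : β (ModSite.ringSh O) _ ((ModSite.sheafHom F).obj G) c' = c :=
    Equiv.apply_symm_apply _ _
  have h0 : Dsm (ModSite.ringSh O) f (q + 1) ≫ c' = 0 := by
    apply (β (ModSite.ringSh O) _ ((ModSite.sheafHom F).obj G)).injective
    rw [β_D, hc', hc]
    exact (map_zero (βA (ModSite.ringSh O) _ ((ModSite.sheafHom F).obj G))).symm
  let ca : (a O).obj (PX O f (q + 1)) ⟶ (ModSite.sheafHom F).obj G := c'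
  have h0a : (a O).map (Pd O f (q + 1)) ≫ ca = 0 := by
    rw [← Dsm_eq_a]
    exact h0
  let c'' : (TN F).obj ((a O).obj (PX O f (q + 1))) ⟶ G :=
    ((ModSite.sheafHomAdj F).homEquiv _ G).symm ca
  have h0' : (TN F).map ((a O).map (Pd O f (q + 1))) ≫ c'' = 0 := by
    rw [← Adjunction.homEquiv_naturality_left_symm, h0a, Adjunction.homEquiv_counit,
      Functor.map_zero, zero_comp]
  obtain ⟨b'', hb''⟩ := exists_desc _ (TNF_exact O F f q) G c'' h0'
  have hb2 : (TN F).map ((a O).map (Pd O f q)) ≫ b'' = c'' := hb''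
  let ba : (a O).obj (PX O f q) ⟶ (ModSite.sheafHom F).obj G :=
    (ModSite.sheafHomAdj F).homEquiv _ G b''
  have hba : (a O).map (Pd O f q) ≫ ba = ca := by
    rw [← Adjunction.homEquiv_naturality_left, hb2]
    exact Equiv.apply_symm_apply _ _
  let b' : (Φm (ModSite.ringSh O)).obj (WP f q) ⟶ (ModSite.sheafHom F).obj G := ba
  have hb' : Dsm (ModSite.ringSh O) f q ≫ b' = c' := by
    rw [Dsm_eq_a]
    exact hba
  refine ⟨β (ModSite.ringSh O) _ _ b', ?_⟩
  rw [← β_D, hb']
  exact hc'

theorem totallyAcyclic_sheafHom (G : ModSite.Mod O) [ModSite.HasSheafHom F] [Injective G] :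
    CohCx.IsTotallyAcyclic (ModSite.toAb ((ModSite.sheafHom F).obj G)) :=
  totallyAcyclic_of_homAcyc _ (homAcyc_sheafHom O F G)

end Groth.Agent.Helper9.SheafHomAcyc
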