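import Mathlib
import Groth.Prelude.Def_SpSeq

/-! Abstract lemma: the quotient of two images as an image. -/

set_option autoImplicit false
set_option linter.style.haveILetI false
set_option linter.unusedSectionVars false
universe v u

open CategoryTheory CategoryTheory.Limits

namespace Groth.Agent.Helper9.SpConvA

variable {C : Type u} [Category.{v} C] [Abelian C]

section

variable {A A' H B E : C} (a : A ⟶ H) (a' : A' ⟶ H) (u : A ⟶ A') (hu : u ≫ a' = a)
  (b : H ⟶ B) (w : a ≫ b = 0) (hex : (ShortComplex.mk a b w).Exact)
  (π : A' ⟶ E) [Epi π] (ι : E ⟶ B) [Mono ι] (fac : π ≫ ι = a' ≫ b)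

include hu in
lemma image_le : imageSubobject a ≤ imageSubobject a' := by
  subst hu
  exact imageSubobject_comp_le u a'

/-- the map `im a' ⟶ E` -/
noncomputable def ψ : (imageSubobject a' : C) ⟶ E :=
  Abelian.epiDesc (factorThruImageSubobject a') π (by
    have h1 : kernel.ι (factorThruImageSubobject a') ≫ a' = 0 :=
      calc kernel.ι (factorThruImageSubobject a') ≫ a'
          = kernel.ι (factorThruImageSubobject a') ≫
              (factorThruImageSubobject a' ≫ (imageSubobject a').arrow) := by
            rw [imageSubobject_arrow_comp]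
        _ = 0 := by rw [← Category.assoc, kernel.condition, zero_comp]
    rw [← cancel_mono ι, Category.assoc, fac, zero_comp, ← Category.assoc, h1, zero_comp])

lemma fac_ψ : factorThruImageSubobject a' ≫ ψ a' b π ι fac = π :=
  Abelian.comp_epiDesc _ _ _

lemma ψ_ι : ψ a' b π ι fac ≫ ι = (imageSubobject a').arrow ≫ b := by
  rw [← cancel_epi (factorThruImageSubobject a'), ← Category.assoc, fac_ψ, fac,
    ← Category.assoc, imageSubobject_arrow_comp]

instance : Epi (ψ a' b π ι fac) := by
  have h : Epi (factorThruImageSubobject a' ≫ ψ a' b π ι fac) := by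
    rw [fac_ψ]; infer_instance
  exact epi_of_epi (factorThruImageSubobject a') _

include w in
lemma arrow_b : (imageSubobject a).arrow ≫ b = 0 := by
  rw [← cancel_epi (factorThruImageSubobject a), ← Category.assoc, imageSubobject_arrow_comp, w,
    comp_zero]

include w hu in
lemma ofLE_ψ : (imageSubobject a).ofLE (imageSubobject a') (image_le a a' u hu) ≫
    ψ a' b π ι fac = 0 := by
  rw [← cancel_mono ι, Category.assoc, ψ_ι, zero_comp, ← Category.assoc, Subobject.ofLE_arrow,
    arrow_b a b w]

include hex in
lemma exact_arrow : (ShortComplex.mk (imageSubobject a).arrow b (arrow_b a b w)).Exact := by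
  let φ : ShortComplex.mk a b w ⟶ ShortComplex.mk (imageSubobject a).arrow b (arrow_b a b w) :=
    { τ₁ := factorThruImageSubobject a
      τ₂ := 𝟙 _
      τ₃ := 𝟙 _
      comm₁₂ := by simp
      comm₂₃ := by simp }
  haveI : Epi φ.τ₁ := by dsimp [φ]; infer_instance
  haveI : IsIso φ.τ₂ := by dsimp [φ]; infer_instance
  haveI : Mono φ.τ₃ := by dsimp [φ]; infer_instance
  exact (ShortComplex.exact_iff_of_epi_of_isIso_of_mono φ).1 hex

include hex in
lemma exact_ofLE_ψ : (ShortComplex.mk _ _ (ofLE_ψ a a' u hu b w π ι fac)).Exact := by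
  have hS' := exact_arrow a b w hex
  haveI : Mono (ShortComplex.mk (imageSubobject a).arrow b (arrow_b a b w)).f := by
    dsimp; infer_instance
  apply ShortComplex.exact_of_f_is_kernel
  refine KernelFork.IsLimit.ofι _ _
    (fun {T} t ht => hS'.lift (t ≫ (imageSubobject a').arrow) (by
      dsimp
      rw [Category.assoc, ← ψ_ι a' b π ι fac, ← Category.assoc]
      dsimp at ht
      rw [ht, zero_comp])) ?_ ?_
  · intro T t ht
    dsimp
    rw [← cancel_mono (imageSubobject a').arrow, Category.assoc, Subobject.ofLE_arrow]
    exact hS'.lift_f _ _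
  · intro T t ht m hm
    dsimp at hm ⊢
    rw [← cancel_mono ((imageSubobject a).ofLE (imageSubobject a') (image_le a a' u hu)), hm,
      ← cancel_mono (imageSubobject a').arrow, Category.assoc, Subobject.ofLE_arrow]
    exact (hS'.lift_f _ _).symm

include hex in
/-- `im a' / im a ≅ E` -/
noncomputable def grIso :
    cokernel ((imageSubobject a).ofLE (imageSubobject a') (image_le a a' u hu)) ≅ E :=
  IsColimit.coconePointUniqueUpToIso (cokernelIsCokernel _)
    (exact_ofLE_ψ a a' u hu b w hex π ι fac).gIsCokernel

end

end Groth.Agent.Helper9.SpConvA
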