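import Mathlib
import Groth.Prelude.Def_SpSeq
import Groth.Agent.Helper9.SpConvA

/-! The filtration on the abutment of a spectral object indexed by `EInt` and its graded pieces. -/

set_option autoImplicit false
set_option linter.style.haveILetI false
set_option linter.unusedSectionVars false
universe v u

open CategoryTheory CategoryTheory.Limits CategoryTheory.Abelian ComposableArrows

namespace Groth.Agent.Helper9.SpConvB

open Groth.Agent.Helper9.SpConvA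

variable {C : Type u} [Category.{v} C] [Abelian C] (Y : SpectralObject C EInt) (n : ℤ)

/-- the morphism between arrows of `EInt` -/
noncomputable def arr {i j i' j' : EInt} (hij : i ≤ j) (hij' : i' ≤ j') (hi : i ≤ i') (hj : j ≤ j') :
    mk₁ (homOfLE hij) ⟶ mk₁ (homOfLE hij') :=
  homMk₁ (homOfLE hi) (homOfLE hj) (Subsingleton.elim _ _)

lemma arr_ext {i j i' j' : EInt} {hij : i ≤ j} {hij' : i' ≤ j'}
    (α β : mk₁ (homOfLE hij) ⟶ mk₁ (homOfLE hij')) : α = β :=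
  hom_ext₁ (Subsingleton.elim _ _) (Subsingleton.elim _ _)

/-- the abutment -/
noncomputable abbrev Hn : C := (Y.H n).obj (mk₁ (homOfLE (bot_le : (⊥ : EInt) ≤ ⊤)))

/-- `H^n(⊥ ≤ j) ⟶ H^n(⊥ ≤ ⊤)` -/
noncomputable def aMap (j : EInt) :
    (Y.H n).obj (mk₁ (homOfLE (bot_le : (⊥ : EInt) ≤ j))) ⟶ Hn Y n :=
  (Y.H n).map (twoδ₂Toδ₁' ⊥ j ⊤ bot_le le_top)

/-- `H^n(⊥ ≤ ⊤) ⟶ H^n(j ≤ ⊤)` -/
noncomputable def bMap (j : EInt) :
    Hn Y n ⟶ (Y.H n).obj (mk₁ (homOfLE (le_top : j ≤ (⊤ : EInt)))) :=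
  (Y.H n).map (twoδ₁Toδ₀' ⊥ j ⊤ bot_le le_top)

lemma aMap_bMap (j : EInt) : aMap Y n j ≫ bMap Y n j = 0 :=
  Y.zero₂ (homOfLE bot_le) (homOfLE le_top) _ rfl n

lemma exact_aMap_bMap (j : EInt) : (ShortComplex.mk _ _ (aMap_bMap Y n j)).Exact :=
  Y.exact₂ (homOfLE bot_le) (homOfLE le_top) _ rfl n

/-- transition maps -/
noncomputable def uMap {j j' : EInt} (h : j ≤ j') :
    (Y.H n).obj (mk₁ (homOfLE (bot_le : (⊥ : EInt) ≤ j))) ⟶
      (Y.H n).obj (mk₁ (homOfLE (bot_le : (⊥ : EInt) ≤ j'))) :=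
  (Y.H n).map (twoδ₂Toδ₁' ⊥ j j' bot_le h)

lemma uMap_aMap {j j' : EInt} (h : j ≤ j') : uMap Y n h ≫ aMap Y n j' = aMap Y n j := by
  dsimp only [uMap, aMap]
  rw [← Functor.map_comp]
  congr 1

/-- the increasing filtration `G_j = im (H^n(⊥ ≤ j) ⟶ H^n)` -/
noncomputable def G (j : EInt) : Subobject (Hn Y n) := imageSubobject (aMap Y n j)

lemma G_mono {j j' : EInt} (h : j ≤ j') : G Y n j ≤ G Y n j' :=
  image_le _ _ (uMap Y n h) (uMap_aMap Y n h)

section Gr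

variable (j j' : EInt) (hj : j ≤ j')

/-- the limit term `E^n(⊥ ≤ j ≤ j' ≤ ⊤)` -/
noncomputable abbrev Einf : C :=
  Y.E (homOfLE (bot_le : (⊥ : EInt) ≤ j)) (homOfLE hj) (homOfLE (le_top : j' ≤ (⊤ : EInt)))
    (n - 1) n (n + 1)

/-- `H^n(⊥ ≤ j') ⟶ E` -/
noncomputable def πMap :
    (Y.H n).obj (mk₁ (homOfLE (bot_le : (⊥ : EInt) ≤ j'))) ⟶ Einf Y n j j' hj :=
  Y.toCycles (homOfLE (bot_le : (⊥ : EInt) ≤ j)) (homOfLE hj) (homOfLE bot_le) rfl n ≫
    Y.πE (homOfLE (bot_le : (⊥ : EInt) ≤ j)) (homOfLE hj) (homOfLE (le_top : j' ≤ (⊤ : EInt)))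
      (n - 1) n (n + 1)

/-- `E ⟶ H^n(j ≤ ⊤)` -/
noncomputable def ιMap :
    Einf Y n j j' hj ⟶ (Y.H n).obj (mk₁ (homOfLE (le_top : j ≤ (⊤ : EInt)))) :=
  Y.ιE (homOfLE (bot_le : (⊥ : EInt) ≤ j)) (homOfLE hj) (homOfLE (le_top : j' ≤ (⊤ : EInt)))
      (n - 1) n (n + 1) ≫
    Y.fromOpcycles (homOfLE hj) (homOfLE (le_top : j' ≤ (⊤ : EInt))) (homOfLE le_top) rfl n

instance : Epi (πMap Y n j j' hj) := by
  dsimp only [πMap]
  infer_instance

instance : Mono (ιMap Y n j j' hj) := by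
  dsimp only [ιMap]
  infer_instance

lemma πMap_ιMap : πMap Y n j j' hj ≫ ιMap Y n j j' hj = aMap Y n j' ≫ bMap Y n j := by
  dsimp only [πMap, ιMap, aMap, bMap]
  have h1 := Y.πE_ιE (homOfLE (bot_le : (⊥ : EInt) ≤ j)) (homOfLE hj)
    (homOfLE (le_top : j' ≤ (⊤ : EInt))) (n - 1) n (n + 1)
  have h2 := Y.toCycles_i (homOfLE (bot_le : (⊥ : EInt) ≤ j)) (homOfLE hj) (homOfLE bot_le) rfl n
  have h3 := Y.p_fromOpcycles (homOfLE hj) (homOfLE (le_top : j' ≤ (⊤ : EInt))) (homOfLE le_top)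
    rfl n
  rw [Category.assoc, reassoc_of% h1, reassoc_of% h2, h3, ← Functor.map_comp, ← Functor.map_comp]
  congr 1

/-- the graded piece `G_{j'} / G_j` is the limit term -/
noncomputable def grIsoE :
    cokernel ((G Y n j).ofLE (G Y n j') (G_mono Y n hj)) ≅ Einf Y n j j' hj :=
  grIso (aMap Y n j) (aMap Y n j') (uMap Y n hj) (uMap_aMap Y n hj) (bMap Y n j)
    (aMap_bMap Y n j) (exact_aMap_bMap Y n j) (πMap Y n j j' hj) (ιMap Y n j j' hj)
    (πMap_ιMap Y n j j' hj)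

end Gr


section Finite

lemma G_eq_bot (j : EInt)
    (h : IsZero ((Y.H n).obj (mk₁ (homOfLE (bot_le : (⊥ : EInt) ≤ j))))) : G Y n j = ⊥ := by
  have h0 : aMap Y n j = 0 := h.eq_of_src _ _
  have h1 : (G Y n j).arrow = 0 := by
    show (imageSubobject (aMap Y n j)).arrow = 0
    rw [← cancel_epi (factorThruImageSubobject (aMap Y n j)),
      imageSubobject_arrow_comp, comp_zero, h0]
  have h2 : IsZero ((G Y n j : Subobject (Hn Y n)) : C) := by
    rw [IsZero.iff_id_eq_zero, ← cancel_mono (G Y n j).arrow, h1, comp_zero, comp_zero]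
  rw [eq_bot_iff]
  exact Subobject.le_of_comm (h2.to_ _) (h2.eq_of_src _ _)

lemma G_eq_top (j : EInt)
    (h : IsZero ((Y.H n).obj (mk₁ (homOfLE (le_top : j ≤ (⊤ : EInt)))))) : G Y n j = ⊤ := by
  haveI : Epi (aMap Y n j) :=
    (exact_aMap_bMap Y n j).epi_f (h.eq_of_tgt _ _)
  haveI : Epi (imageSubobject (aMap Y n j)).arrow := by
    have h2 : Epi (factorThruImageSubobject (aMap Y n j) ≫ (imageSubobject (aMap Y n j)).arrow) := by
      rw [imageSubobject_arrow_comp]; infer_instance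
    exact epi_of_epi (factorThruImageSubobject (aMap Y n j)) _
  haveI : IsIso (imageSubobject (aMap Y n j)).arrow := isIso_of_mono_of_epi _
  exact Subobject.eq_top_of_isIso_arrow (imageSubobject (aMap Y n j))

end Finite

end Groth.Agent.Helper9.SpConvB
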