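import Mathlib
import Groth.Prelude.Def_SpSeq
import Groth.Agent.Helper9.SpConvB

/-! Convergence of the spectral sequence of a first quadrant spectral object indexed by `EInt`,
in the form of the prelude's `SpSeq.Abutment`. -/

set_option autoImplicit false
set_option linter.style.haveILetI false
set_option linter.unusedSectionVars false
universe v u

open CategoryTheory CategoryTheory.Limits CategoryTheory.Abelian ComposableArrows

namespace Groth.Agent.Helper9.SpConvC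

open Groth.Agent.Helper9.SpConvB

variable {C : Type u} [Category.{v} C] [Abelian C] (Y : SpectralObject C EInt)

/-- the decreasing filtration on the abutment -/
noncomputable def fil (n : ℤ) (p : ℤ) : Subobject (Hn Y n) := G Y n ((n - p + 1 : ℤ) : EInt)

lemma fil_anti (n : ℤ) : Antitone (fil Y n) := fun p p' h =>
  G_mono Y n (by
    rw [WithBotTop.coe_le_coe]
    lia)

/-- congruence for the limit terms -/
noncomputable def EinfCongr (n : ℤ) {j₁ j₁' j₂ j₂' : EInt} (h : j₁ = j₂) (h' : j₁' = j₂')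
    (hj₁ : j₁ ≤ j₁') (hj₂ : j₂ ≤ j₂') : Einf Y n j₁ j₁' hj₁ ≅ Einf Y n j₂ j₂' hj₂ :=
  eqToIso (by subst h h'; rfl)

/-- the page from which position `pq` is stationary -/
def rk (pq : ℤ × ℤ) : ℤ := max 2 (max (pq.2 + 2) (pq.1 + 1))

lemma two_le_rk (pq : ℤ × ℤ) : 2 ≤ rk pq := le_max_left _ _

lemma snd_le_rk (pq : ℤ × ℤ) : pq.2 + 2 ≤ rk pq :=
  (le_max_left _ _).trans (le_max_right _ _)

lemma fst_le_rk (pq : ℤ × ℤ) : pq.1 + 1 ≤ rk pq :=
  (le_max_right _ _).trans (le_max_right _ _)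

variable [Y.IsFirstQuadrant]

lemma isZero_page_of_fst_neg (r : ℤ) (hr : 2 ≤ r) (pq : ℤ × ℤ) (hp : pq.1 < 0) :
    IsZero ((Y.E₂SpectralSequence.page r hr).X pq) :=
  SpectralObject.isZero_spectralSequence_page_X_of_isZero_H' _ _ _ hr _
    (Y.isZero₂_of_isFirstQuadrant _ _ _ _ (by simp; lia))

lemma isZero_page_of_snd_neg (r : ℤ) (hr : 2 ≤ r) (pq : ℤ × ℤ) (hq : pq.2 < 0) :
    IsZero ((Y.E₂SpectralSequence.page r hr).X pq) :=
  SpectralObject.isZero_spectralSequence_page_X_of_isZero_H' _ _ _ hr _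
    (Y.isZero₁_of_isFirstQuadrant _ _ _ (by simp; lia) _)

lemma stat (pq : ℤ × ℤ) : SpSeq.StationaryAt Y.E₂SpectralSequence pq (rk pq) := by
  refine ⟨two_le_rk pq, fun r' h₀ hr' => ⟨?_, ?_⟩⟩
  · apply (isZero_page_of_fst_neg Y r' h₀ _ _).eq_of_src
    have := fst_le_rk pq
    simp only [Prod.fst_sub]
    lia
  · apply (isZero_page_of_snd_neg Y r' h₀ _ _).eq_of_tgt
    have := snd_le_rk pq
    simp only [Prod.snd_add]
    lia


/-- the limit term at `pq` -/
noncomputable abbrev EinfPQ (pq : ℤ × ℤ) : C :=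
  Einf Y (pq.1 + pq.2) ((pq.2 : ℤ) : EInt) ((pq.2 + 1 : ℤ) : EInt)
    (by rw [WithBotTop.coe_le_coe]; lia)

/-- the page `r` at `pq` is the limit term for `r ≥ rk pq` -/
noncomputable def pageIsoEinf (pq : ℤ × ℤ) (r : ℤ) (hr : rk pq ≤ r) :
    (Y.E₂SpectralSequence.page r ((two_le_rk pq).trans hr)).X pq ≅ EinfPQ Y pq :=
  Y.spectralSequencePageXIso SpectralObject.coreE₂Cohomological r ((two_le_rk pq).trans hr) pq
      ((pq.2 - r + 2 : ℤ) : EInt) ((pq.2 : ℤ) : EInt) ((pq.2 + 1 : ℤ) : EInt)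
      ((pq.2 + r - 1 : ℤ) : EInt) rfl rfl rfl rfl
      (pq.1 + pq.2 - 1) (pq.1 + pq.2) (pq.1 + pq.2 + 1) rfl ≪≫
    (Y.isoMapFourδ₁Toδ₀' ⊥ ((pq.2 - r + 2 : ℤ) : EInt) ((pq.2 : ℤ) : EInt)
      ((pq.2 + 1 : ℤ) : EInt) ((pq.2 + r - 1 : ℤ) : EInt) bot_le
      (by rw [WithBotTop.coe_le_coe]; have := two_le_rk pq; lia)
      (by rw [WithBotTop.coe_le_coe]; lia)
      (by rw [WithBotTop.coe_le_coe]; have := two_le_rk pq; lia)
      (pq.1 + pq.2 - 1) (pq.1 + pq.2) (pq.1 + pq.2 + 1)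
      (Y.isZero₁_of_isFirstQuadrant _ _ _
        (by rw [WithBotTop.coe_le_coe]; have := snd_le_rk pq; lia) _)).symm ≪≫
    Y.isoMapFourδ₄Toδ₃' ⊥ ((pq.2 : ℤ) : EInt)
      ((pq.2 + 1 : ℤ) : EInt) ((pq.2 + r - 1 : ℤ) : EInt) ⊤ bot_le
      (by rw [WithBotTop.coe_le_coe]; lia)
      (by rw [WithBotTop.coe_le_coe]; have := two_le_rk pq; lia) le_top
      (pq.1 + pq.2 - 1) (pq.1 + pq.2) (pq.1 + pq.2 + 1)
      (Y.isZero₂_of_isFirstQuadrant _ _ _ _
        (by rw [WithBotTop.coe_lt_coe]; have := fst_le_rk pq; lia))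

/-- the graded pieces of the filtration are the limit terms -/
noncomputable def grIsoEinf (pq : ℤ × ℤ) :
    SpSeq.grPiece (fil Y (pq.1 + pq.2)) (fil_anti Y (pq.1 + pq.2)) pq.1 ≅ EinfPQ Y pq :=
  grIsoE Y (pq.1 + pq.2) ((pq.1 + pq.2 - (pq.1 + 1) + 1 : ℤ) : EInt)
      ((pq.1 + pq.2 - pq.1 + 1 : ℤ) : EInt) (by rw [WithBotTop.coe_le_coe]; lia) ≪≫
    EinfCongr Y (pq.1 + pq.2) (by congr 1; lia) (by congr 1; lia) _ _

/-- the abutment -/
noncomputable def abut : SpSeq.Abutment Y.E₂SpectralSequence (fun n => Hn Y n) where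
  fil n := fil Y n
  anti n := fil_anti Y n
  rk := rk
  stat := stat Y
  β pq := pageIsoEinf Y pq (rk pq) le_rfl ≪≫ (grIsoEinf Y pq).symm


lemma abut_isFinite (n : ℤ) : (abut Y).IsFinite n := by
  refine ⟨⟨0, ?_⟩, ⟨n + 1, ?_⟩⟩
  · show G Y n ((n - 0 + 1 : ℤ) : EInt) = ⊤
    exact G_eq_top Y n _ (Y.isZero₂_of_isFirstQuadrant _ _ _ _
      (by rw [WithBotTop.coe_lt_coe]; lia))
  · show G Y n ((n - (n + 1) + 1 : ℤ) : EInt) = ⊥
    exact G_eq_bot Y n _ (Y.isZero₁_of_isFirstQuadrant _ _ _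
      (by rw [WithBotTop.coe_le_coe]; lia) _)

lemma isBounded : SpSeq.IsBounded Y.E₂SpectralSequence := by
  intro n
  refine (Set.finite_Icc (0 : ℤ) n).subset ?_
  intro p hp
  simp only [Set.mem_ofPred_eq] at hp
  rw [Set.mem_Icc]
  by_contra hcon
  apply hp
  by_cases h0 : 0 ≤ p
  · exact isZero_page_of_snd_neg Y 2 le_rfl (p, n - p) (by dsimp only; lia)
  · exact isZero_page_of_fst_neg Y 2 le_rfl (p, n - p) (by dsimp only; lia)

/-- the second page -/
noncomputable def pageTwoIso (pq : ℤ × ℤ) :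
    (Y.E₂SpectralSequence.page 2 le_rfl).X pq ≅
      (Y.H (pq.1 + pq.2)).obj (mk₁ (homOfLE (show ((pq.2 : ℤ) : EInt) ≤ ((pq.2 + 1 : ℤ) : EInt) by
        rw [WithBotTop.coe_le_coe]; lia))) :=
  Y.spectralSequenceFirstPageXIso SpectralObject.coreE₂Cohomological pq _ _ rfl rfl _ rfl


section Transport

variable {r₀ : ℤ} {E : CohomologicalSpectralSequence C r₀} {H H' : ℤ → C}

/-- transport of a subobject along an isomorphism -/
noncomputable def subMap {X X' : C} (e : X ≅ X') (S : Subobject X) : Subobject X' :=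
  Subobject.mk (S.arrow ≫ e.hom)

lemma subMap_mono {X X' : C} (e : X ≅ X') {S T : Subobject X} (h : S ≤ T) :
    subMap e S ≤ subMap e T :=
  Subobject.mk_le_mk_of_comm (S.ofLE T h) (by rw [← Category.assoc, Subobject.ofLE_arrow])

lemma subMap_top {X X' : C} (e : X ≅ X') : subMap e (⊤ : Subobject X) = ⊤ := by
  dsimp only [subMap]
  exact Subobject.mk_eq_top_of_isIso _

lemma subMap_bot {X X' : C} (e : X ≅ X') : subMap e (⊥ : Subobject X) = ⊥ := by
  dsimp only [subMap]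
  rw [Subobject.mk_eq_bot_iff_zero, Subobject.bot_arrow, zero_comp]

/-- the isomorphism on underlying objects -/
noncomputable def subMapIso {X X' : C} (e : X ≅ X') (S : Subobject X) :
    (S : C) ≅ (subMap e S : C) :=
  (Subobject.underlyingIso (S.arrow ≫ e.hom)).symm

lemma subMapIso_hom_arrow {X X' : C} (e : X ≅ X') (S : Subobject X) :
    (subMapIso e S).hom ≫ (subMap e S).arrow = S.arrow ≫ e.hom :=
  Subobject.underlyingIso_arrow _

/-- graded pieces along an isomorphism -/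
noncomputable def cokerIso {X X' : C} (e : X ≅ X') {S T : Subobject X} (h : S ≤ T) :
    cokernel (S.ofLE T h) ≅ cokernel ((subMap e S).ofLE (subMap e T) (subMap_mono e h)) :=
  cokernel.mapIso _ _ (subMapIso e S) (subMapIso e T) (by
    rw [← cancel_mono (subMap e T).arrow, Category.assoc, Category.assoc, Subobject.ofLE_arrow,
      subMapIso_hom_arrow, subMapIso_hom_arrow, ← Category.assoc, Subobject.ofLE_arrow])

/-- transport of an abutment along isomorphisms -/
noncomputable def transport (e : ∀ n, H n ≅ H' n) (a : SpSeq.Abutment E H) :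
    SpSeq.Abutment E H' where
  fil n p := subMap (e n) (a.fil n p)
  anti n := fun _ _ h => subMap_mono (e n) (a.anti n h)
  rk := a.rk
  stat := a.stat
  β pq := a.β pq ≪≫ cokerIso (e (pq.1 + pq.2)) _

lemma transport_isFinite (e : ∀ n, H n ≅ H' n) (a : SpSeq.Abutment E H) (n : ℤ)
    (h : a.IsFinite n) : (transport e a).IsFinite n := by
  obtain ⟨⟨p, hp⟩, ⟨q, hq⟩⟩ := h
  refine ⟨⟨p, ?_⟩, ⟨q, ?_⟩⟩
  · show subMap (e n) (a.fil n p) = ⊤
    have hp' : a.fil n p = ⊤ := hp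
    rw [hp', subMap_top]
  · show subMap (e n) (a.fil n q) = ⊥
    have hq' : a.fil n q = ⊥ := hq
    rw [hq', subMap_bot]

end Transport

/-- The main convergence statement in the form used by the statements. -/
theorem exists_abutment (H' : ℤ → C) (e : ∀ n, Hn Y n ≅ H' n) :
    ∃ (a : SpSeq.Abutment Y.E₂SpectralSequence H'), (∀ n, a.IsFinite n) :=
  ⟨transport e (abut Y), fun n => transport_isFinite e _ n (abut_isFinite Y n)⟩

end Groth.Agent.Helper9.SpConvC
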