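import Mathlib

/-! Truncations in the bounded below derived category:
`τ_{≥ q} τ_{< q+1} K ≅ (H^q K)[-q]`. -/

set_option autoImplicit false
set_option linter.style.haveILetI false
set_option linter.unusedSectionVars false
universe w v u

open CategoryTheory CategoryTheory.Limits CategoryTheory.Pretriangulated

namespace Groth.Agent.Helper9.SpDP

open DerivedCategory

variable {ℬ : Type u} [Category.{v} ℬ] [Abelian ℬ] [HasDerivedCategory.{w} ℬ]

variable (ℬ) in
/-- the t-structure on `D⁺` -/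
noncomputable abbrev tP : Triangulated.TStructure (DerivedCategory.Plus ℬ) :=
  DerivedCategory.Plus.TStructure.t

section Tri

variable (T : Triangle (DerivedCategory.Plus ℬ)) (hT : T ∈ distTriang _) (i : ℤ)

include hT in
lemma isIso_homology_map_mor₂ (h0 : IsZero ((Plus.homologyFunctor ℬ i).obj T.obj₁))
    (h1 : IsZero ((Plus.homologyFunctor ℬ (i + 1)).obj T.obj₁)) :
    IsIso ((Plus.homologyFunctor ℬ i).map T.mor₂) := by
  haveI : Mono ((Plus.homologyFunctor ℬ i).map T.mor₂) :=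
    ((Plus.homologyFunctor ℬ 0).homologySequence_mono_shift_map_mor₂_iff T hT i).2
      (h0.eq_of_src _ _)
  haveI : Epi ((Plus.homologyFunctor ℬ i).map T.mor₂) :=
    ((Plus.homologyFunctor ℬ 0).homologySequence_epi_shift_map_mor₂_iff T hT i (i + 1) rfl).2
      (h1.eq_of_tgt _ _)
  exact isIso_of_mono_of_epi _

include hT in
lemma isIso_homology_map_mor₁ (h0 : IsZero ((Plus.homologyFunctor ℬ i).obj T.obj₃))
    (h1 : IsZero ((Plus.homologyFunctor ℬ (i - 1)).obj T.obj₃)) :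
    IsIso ((Plus.homologyFunctor ℬ i).map T.mor₁) := by
  haveI : Epi ((Plus.homologyFunctor ℬ i).map T.mor₁) :=
    ((Plus.homologyFunctor ℬ 0).homologySequence_epi_shift_map_mor₁_iff T hT i).2
      (h0.eq_of_tgt _ _)
  haveI : Mono ((Plus.homologyFunctor ℬ i).map T.mor₁) :=
    ((Plus.homologyFunctor ℬ 0).homologySequence_mono_shift_map_mor₁_iff T hT (i - 1) i
      (by lia)).2 (h1.eq_of_src _ _)
  exact isIso_of_mono_of_epi _

end Tri

/-- `H^q (τ_{<q+1} K) ≅ H^q K` -/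
noncomputable def homologyTruncLTIso (K : DerivedCategory.Plus ℬ) (q : ℤ) :
    (Plus.homologyFunctor ℬ q).obj (((tP ℬ).truncLT (q + 1)).obj K) ≅
      (Plus.homologyFunctor ℬ q).obj K :=
  haveI : IsIso ((Plus.homologyFunctor ℬ q).map (((tP ℬ).truncLTι (q + 1)).app K)) :=
    isIso_homology_map_mor₁ _ ((tP ℬ).triangleLTGE_distinguished (q + 1) K) q
      (Plus.isZero_homology_of_isGE _ (q + 1) q (by lia))
      (Plus.isZero_homology_of_isGE _ (q + 1) (q - 1) (by lia))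
  asIso ((Plus.homologyFunctor ℬ q).map (((tP ℬ).truncLTι (q + 1)).app K))

/-- `H^q N ≅ H^q (τ_{≥ q} N)` -/
noncomputable def homologyTruncGEIso (N : DerivedCategory.Plus ℬ) (q : ℤ) :
    (Plus.homologyFunctor ℬ q).obj N ≅
      (Plus.homologyFunctor ℬ q).obj (((tP ℬ).truncGE q).obj N) :=
  haveI : IsIso ((Plus.homologyFunctor ℬ q).map (((tP ℬ).truncGEπ q).app N)) :=
    isIso_homology_map_mor₂ _ ((tP ℬ).triangleLTGE_distinguished q N) q
      (Plus.isZero_homology_of_isLE _ (q - 1) q (by lia))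
      (Plus.isZero_homology_of_isLE _ (q - 1) (q + 1) (by lia))
  asIso ((Plus.homologyFunctor ℬ q).map (((tP ℬ).truncGEπ q).app N))

/-- an object concentrated in degree `q` is a single object -/
lemma nonempty_iso_single (X : DerivedCategory.Plus ℬ) (q : ℤ) [(tP ℬ).IsGE X q] [(tP ℬ).IsLE X q] :
    Nonempty (X ≅ (Plus.singleFunctor ℬ q).obj ((Plus.homologyFunctor ℬ q).obj X)) := by
  obtain ⟨A, ⟨e⟩⟩ := exists_iso_singleFunctor_obj_of_isGE_of_isLE (Plus.ι.obj X) q
  let a : A ≅ (Plus.homologyFunctor ℬ q).obj X :=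
    ((singleFunctorCompHomologyFunctorIso ℬ q).app A).symm ≪≫
      (homologyFunctor ℬ q).mapIso e.symm
  let e' : Plus.ι.obj X ≅ Plus.ι.obj ((Plus.singleFunctor ℬ q).obj A) :=
    e ≪≫ ((Plus.singleFunctorιIso ℬ q).app A).symm
  exact ⟨Plus.ι.preimageIso e' ≪≫ (Plus.singleFunctor ℬ q).mapIso a⟩

/-- `τ_{≥ q} τ_{< q+1} K ≅ (H^q K)[-q]` -/
lemma nonempty_truncIso (K : DerivedCategory.Plus ℬ) (q : ℤ) :
    Nonempty (((tP ℬ).truncGE q).obj (((tP ℬ).truncLT (q + 1)).obj K) ≅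
      (Plus.singleFunctor ℬ q).obj ((Plus.homologyFunctor ℬ q).obj K)) := by
  haveI : (tP ℬ).IsLE (((tP ℬ).truncLT (q + 1)).obj K) q :=
    (tP ℬ).isLE_of_le _ (q + 1 - 1) q (by lia)
  obtain ⟨e⟩ := nonempty_iso_single (((tP ℬ).truncGE q).obj (((tP ℬ).truncLT (q + 1)).obj K)) q
  exact ⟨e ≪≫ (Plus.singleFunctor ℬ q).mapIso
    ((homologyTruncGEIso (((tP ℬ).truncLT (q + 1)).obj K) q).symm ≪≫ homologyTruncLTIso K q)⟩

end Groth.Agent.Helper9.SpDP
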