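import Mathlib
import Groth.Prelude.Def_SpSeq
import Groth.Agent.Helper9.SpConvC

/-! Putting a first quadrant spectral sequence with abutment in the form used by the statements. -/

set_option autoImplicit false
set_option linter.style.haveILetI false
set_option linter.unusedSectionVars false

namespace Groth.Agent.Helper9.SpFinal

open CategoryTheory Limits
open Groth.Agent.Helper9

universe v u

variable {C : Type u} [Category.{v} C] [Abelian C]

theorem exists_final (E : E₂CohomologicalSpectralSequence C) (H₀ : ℤ → C)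
    (a : SpSeq.Abutment E H₀) (ha : ∀ n, a.IsFinite n) (hb : SpSeq.IsBounded E)
    (T : ℕ → ℕ → C)
    (hE : ∀ (p' q' : ℕ), Nonempty ((E.page 2 le_rfl).X ((p' : ℤ), (q' : ℤ)) ≅ T p' q'))
    (hz : ∀ (p q : ℤ), (p < 0 ∨ q < 0) → IsZero ((E.page 2 le_rfl).X (p, q)))
    (Hab : ℕ → C) (Z Z' : C) (hZ : IsZero Z) (hZ' : IsZero Z')
    (hab : ∀ n' : ℕ, Nonempty (H₀ (n' : ℤ) ≅ Hab n'))
    (hneg : ∀ n : ℤ, n < 0 → IsZero (H₀ n)) :
    ∃ (a' : SpSeq.Abutment E (fun n : ℤ => if 0 ≤ n then Hab n.toNat else Z)),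
      (∀ n, a'.IsFinite n) ∧ SpSeq.IsBounded E ∧
      ∀ p q : ℤ, Nonempty ((E.page 2 le_rfl).X (p, q) ≅
        (if 0 ≤ p ∧ 0 ≤ q then T p.toNat q.toNat else Z')) := by
  have e : ∀ n : ℤ, Nonempty (H₀ n ≅ (if 0 ≤ n then Hab n.toNat else Z)) := by
    intro n
    by_cases hn : 0 ≤ n
    · obtain ⟨n', rfl⟩ := Int.eq_ofNat_of_zero_le hn
      rw [if_pos hn, Int.toNat_natCast]
      exact hab n'
    · rw [if_neg hn]
      exact ⟨(hneg n (by lia)).iso hZ⟩
  refine ⟨SpConvC.transport (fun n => (e n).some) a,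
    fun n => SpConvC.transport_isFinite _ a n (ha n), hb, fun p q => ?_⟩
  by_cases hpq : 0 ≤ p ∧ 0 ≤ q
  · obtain ⟨p', rfl⟩ := Int.eq_ofNat_of_zero_le hpq.1
    obtain ⟨q', rfl⟩ := Int.eq_ofNat_of_zero_le hpq.2
    rw [if_pos hpq, Int.toNat_natCast, Int.toNat_natCast]
    exact hE p' q'
  · rw [if_neg hpq]
    exact ⟨(hz p q (by lia)).iso hZ'⟩

end Groth.Agent.Helper9.SpFinal
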