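import Mathlib

/-!
# Explicit description of `CohomologyClass (X[0]) K n` and transport along adjunction-like
bijections
-/

set_option autoImplicit false
set_option linter.style.haveILetI false
set_option linter.unusedSectionVars false

namespace Groth.Agent.Helper9.SpCoh

open CategoryTheory Limits CochainComplex HomComplex

universe v v' u u'

section Abstract

variable {Z Z' H H' : Type*} [AddCommGroup Z] [AddCommGroup Z'] [AddCommGroup H] [AddCommGroup H']

/-- an isomorphism of quotients from an isomorphism of presentations -/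
noncomputable def equivOfEquiv (π : Z →+ H) (π' : Z' →+ H') (hπ : Function.Surjective π)
    (hπ' : Function.Surjective π') (e : Z ≃+ Z') (h : ∀ z, π z = 0 ↔ π' (e z) = 0) : H ≃+ H' :=
  (QuotientAddGroup.quotientKerEquivOfSurjective π hπ).symm.trans <|
    (QuotientAddGroup.congr π.ker π'.ker e (by
      ext z'
      simp only [AddSubgroup.mem_map, AddMonoidHom.mem_ker]
      constructor
      · rintro ⟨z, hz, rfl⟩
        exact (h z).1 hz
      · intro hz'
        refine ⟨e.symm z', (h _).2 (by simpa using hz'), by simp⟩)).trans <|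
    QuotientAddGroup.quotientKerEquivOfSurjective π' hπ'

end Abstract

variable {ℬ : Type u} [Category.{v} ℬ] [Abelian ℬ] (X : ℬ) (K : CochainComplex ℬ ℤ) (n : ℤ)

/-- postcomposition with the differential -/
def dHom : (X ⟶ K.X n) →+ (X ⟶ K.X (n + 1)) where
  toFun f := f ≫ K.d n (n + 1)
  map_zero' := zero_comp
  map_add' f g := Preadditive.add_comp _ _ _ f g _

/-- cocycles `X ⟶ K^n` -/
abbrev Zc : AddSubgroup (X ⟶ K.X n) := (dHom X K n).ker

lemma Zc_prop (f : Zc X K n) : f.1 ≫ K.d n (n + 1) = 0 := f.2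

/-- the class of a cocycle -/
noncomputable def toClass : Zc X K n →+ CohomologyClass ((singleFunctor ℬ 0).obj X) K n where
  toFun f := CohomologyClass.mk (Cocycle.fromSingleMk f.1 (zero_add n) (n + 1) rfl (Zc_prop X K n f))
  map_zero' := by
    rw [← CohomologyClass.mk_zero]
    congr 1
    exact Cocycle.fromSingleMk_zero X K (zero_add n) (n + 1) rfl
  map_add' f g := by
    rw [← CohomologyClass.mk_add]
    congr 1
    exact Cocycle.fromSingleMk_add f.1 g.1 (zero_add n) (n + 1) rfl (Zc_prop X K n f)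
      (Zc_prop X K n g)

lemma toClass_surjective : Function.Surjective (toClass X K n) := by
  intro x
  obtain ⟨y, rfl⟩ := x.mk_surjective
  obtain ⟨f, hf, rfl⟩ := Cocycle.fromSingleMk_surjective y n (zero_add n) (n + 1) rfl
  exact ⟨⟨f, hf⟩, rfl⟩

lemma toClass_eq_zero_iff (f : Zc X K n) :
    toClass X K n f = 0 ↔ ∃ g : X ⟶ K.X (n - 1), g ≫ K.d (n - 1) n = f.1 := by
  show CohomologyClass.mk _ = 0 ↔ _
  rw [CohomologyClass.mk_eq_zero_iff,
    Cocycle.fromSingleMk_mem_coboundaries_iff _ _ _ _ _ (n - 1) (by lia)]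

end Groth.Agent.Helper9.SpCoh

namespace Groth.Agent.Helper9.SpCoh

open CategoryTheory Limits CochainComplex HomComplex

universe v v' u u'

section Vanish

variable {ℬ : Type u} [Category.{v} ℬ] [Abelian ℬ] (X : ℬ) (K : CochainComplex ℬ ℤ) (n : ℤ)

lemma subsingleton_of_isZero (h : IsZero (K.X n)) :
    Subsingleton (CohomologyClass ((singleFunctor ℬ 0).obj X) K n) := by
  refine subsingleton_of_forall_eq 0 (fun x => ?_)
  obtain ⟨f, rfl⟩ := toClass_surjective X K n x
  have : f = 0 := Subtype.ext (h.eq_of_tgt _ _)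
  rw [this, map_zero]

end Vanish

section Transport

variable {𝒜 : Type u} [Category.{v} 𝒜] [Abelian 𝒜] {ℬ : Type u'} [Category.{v'} ℬ] [Abelian ℬ]
  (F : 𝒜 ⥤ ℬ) [F.Additive] (X : ℬ) (X' : 𝒜)
  (θ : ∀ G : 𝒜, (X ⟶ F.obj G) ≃+ (X' ⟶ G))
  (hθ : ∀ {G G' : 𝒜} (g : G ⟶ G') (φ : X ⟶ F.obj G), θ G' (φ ≫ F.map g) = θ G φ ≫ g)
  (R : CochainComplex 𝒜 ℤ) (n : ℤ)

include hθ in
lemma hθ_symm {G G' : 𝒜} (g : G ⟶ G') (ψ : X' ⟶ G) :
    (θ G').symm (ψ ≫ g) = (θ G).symm ψ ≫ F.map g := by
  apply (θ G').injective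
  rw [hθ, AddEquiv.apply_symm_apply, AddEquiv.apply_symm_apply]

/-- the induced equivalence on cocycles -/
noncomputable def zcEquiv :
    Zc X ((F.mapHomologicalComplex (ComplexShape.up ℤ)).obj R) n ≃+ Zc X' R n where
  toFun f := ⟨θ (R.X n) f.1, by
    have h : (f.1 : X ⟶ F.obj (R.X n)) ≫ F.map (R.d n (n + 1)) = 0 :=
      Zc_prop X ((F.mapHomologicalComplex (ComplexShape.up ℤ)).obj R) n f
    show θ (R.X n) f.1 ≫ R.d n (n + 1) = 0
    exact (hθ (R.d n (n + 1)) f.1).symm.trans ((congrArg (θ _) h).trans (map_zero _))⟩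
  invFun f := ⟨(θ (R.X n)).symm f.1, by
    show (θ (R.X n)).symm f.1 ≫ F.map (R.d n (n + 1)) = 0
    exact (hθ_symm F X X' θ hθ (R.d n (n + 1)) f.1).symm.trans
      ((congrArg (θ _).symm (Zc_prop X' R n f)).trans (map_zero _))⟩
  left_inv f := Subtype.ext ((θ _).symm_apply_apply _)
  right_inv f := Subtype.ext ((θ _).apply_symm_apply _)
  map_add' f g := Subtype.ext ((θ _).map_add _ _)

/-- transport of cohomology classes along an adjunction-like family of bijections -/
noncomputable def cohomologyClassEquiv :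
    CohomologyClass ((singleFunctor ℬ 0).obj X)
        ((F.mapHomologicalComplex (ComplexShape.up ℤ)).obj R) n ≃+
      CohomologyClass ((singleFunctor 𝒜 0).obj X') R n :=
  equivOfEquiv (toClass X _ n) (toClass X' R n) (toClass_surjective X _ n)
    (toClass_surjective X' R n) (zcEquiv F X X' θ hθ R n) (by
      intro f
      rw [toClass_eq_zero_iff, toClass_eq_zero_iff]
      constructor
      · rintro ⟨g, hg⟩
        refine ⟨θ (R.X (n - 1)) g, ?_⟩
        have hg2 : (g : X ⟶ F.obj (R.X (n - 1))) ≫ F.map (R.d (n - 1) n) = f.1 := hg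
        show θ (R.X (n - 1)) g ≫ R.d (n - 1) n = θ (R.X n) f.1
        exact (hθ (R.d (n - 1) n) g).symm.trans (congrArg (θ _) hg2)
      · rintro ⟨g', hg'⟩
        refine ⟨(θ (R.X (n - 1))).symm g', ?_⟩
        have hg2 : g' ≫ R.d (n - 1) n = θ (R.X n) f.1 := hg'
        show (θ (R.X (n - 1))).symm g' ≫ F.map (R.d (n - 1) n) = f.1
        exact (hθ_symm F X X' θ hθ (R.d (n - 1) n) g').symm.trans
          ((congrArg (θ _).symm hg2).trans ((θ _).symm_apply_apply _)))

end Transport

end Groth.Agent.Helper9.SpCoh
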