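import Mathlib

/-! `F.mapHomologicalComplex` commutes with `extend`. -/

set_option autoImplicit false
set_option linter.style.haveILetI false
set_option linter.unusedSectionVars false

namespace Groth.Agent.Helper9.SpExtend

open CategoryTheory Limits HomologicalComplex

universe v v' u u'

variable {C : Type u} [Category.{v} C] [Preadditive C] [HasZeroObject C]
  {D : Type u'} [Category.{v'} D] [Preadditive D] [HasZeroObject D]
  (F : C ⥤ D) [F.Additive]
  {ι ι' : Type*} {c : ComplexShape ι} {c' : ComplexShape ι'}
  (K : HomologicalComplex C c) (e : c.Embedding c')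

/-- the components -/
noncomputable def mapExtendXIso (i' : ι') :
    F.obj ((K.extend e).X i') ≅ (((F.mapHomologicalComplex c).obj K).extend e).X i' :=
  match h : e.r i' with
  | none => (F.map_isZero (K.isZero_extend_X' e i' h)).iso
      (((F.mapHomologicalComplex c).obj K).isZero_extend_X' e i' h)
  | some _ => F.mapIso (K.extendXIso e (e.f_eq_of_r_eq_some h)) ≪≫
      (((F.mapHomologicalComplex c).obj K).extendXIso e (e.f_eq_of_r_eq_some h)).symm

lemma mapExtendXIso_eq {i : ι} {i' : ι'} (h : e.f i = i') :
    mapExtendXIso F K e i' = F.mapIso (K.extendXIso e h) ≪≫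
      (((F.mapHomologicalComplex c).obj K).extendXIso e h).symm := by
  subst h
  have hr : e.r (e.f i) = some i := e.r_eq_some rfl
  unfold mapExtendXIso
  split
  · rename_i h'
    rw [hr] at h'
    exact (Option.some_ne_none _ h').elim
  · rename_i j h'
    have hj : j = i := by
      rw [hr] at h'
      exact (Option.some.inj h').symm
    subst hj
    rfl

lemma aux {D : Type*} [Category D] {A A' B B' E E' : D} (fa : A ⟶ A') (y : A' ⟶ E) (z : E ⟶ A')
    (hyz : y ≫ z = 𝟙 _) (d : A' ⟶ B') (x : B' ⟶ E') (fd : A ⟶ B) (fb : B ⟶ B')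
    (h : fd ≫ fb = fa ≫ d) : (fa ≫ y) ≫ z ≫ d ≫ x = fd ≫ fb ≫ x := by
  rw [Category.assoc, reassoc_of% hyz, ← Category.assoc, ← h, Category.assoc]

/-- `F.mapHomologicalComplex` commutes with `extend` -/
noncomputable def mapExtendIso :
    (F.mapHomologicalComplex c').obj (K.extend e) ≅
      ((F.mapHomologicalComplex c).obj K).extend e :=
  Hom.isoOfComponents (fun i' => mapExtendXIso F K e i') (by
    intro i' j' _
    obtain hi' | ⟨i, hi⟩ := (e.r i').eq_none_or_eq_some
    · exact (F.map_isZero (K.isZero_extend_X' e i' hi')).eq_of_src _ _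
    · obtain hj' | ⟨j, hj⟩ := (e.r j').eq_none_or_eq_some
      · exact (((F.mapHomologicalComplex c).obj K).isZero_extend_X' e j' hj').eq_of_tgt _ _
      · have hi2 := e.f_eq_of_r_eq_some hi
        have hj2 := e.f_eq_of_r_eq_some hj
        rw [mapExtendXIso_eq F K e hi2, mapExtendXIso_eq F K e hj2]
        show (F.map (K.extendXIso e hi2).hom ≫
            (((F.mapHomologicalComplex c).obj K).extendXIso e hi2).inv) ≫
            (((F.mapHomologicalComplex c).obj K).extend e).d i' j' =
          F.map ((K.extend e).d i' j') ≫ F.map (K.extendXIso e hj2).hom ≫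
            (((F.mapHomologicalComplex c).obj K).extendXIso e hj2).inv
        rw [((F.mapHomologicalComplex c).obj K).extend_d_eq e hi2 hj2]
        refine aux (F.map (K.extendXIso e hi2).hom) _ _ (Iso.inv_hom_id _) (F.map (K.d i j)) _
          (F.map ((K.extend e).d i' j')) (F.map (K.extendXIso e hj2).hom) ?_
        rw [← F.map_comp, ← F.map_comp, K.extend_d_eq e hi2 hj2, Category.assoc, Category.assoc,
          Iso.inv_hom_id, Category.comp_id])

end Groth.Agent.Helper9.SpExtend
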