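import Mathlib

/-!
# Bounded below exact complexes of `Hom(X₀, -)`-acyclic objects stay exact after `Hom(X₀, -)`

(covariant dimension shifting along the kernels `Z^n = ker (N^n ⟶ N^{n+1})`)
-/

set_option autoImplicit false
set_option linter.style.haveILetI false
set_option linter.unusedSectionVars false

namespace Groth.Agent.Helper9.SpAcyc

open CategoryTheory Limits Abelian

universe w v u

variable {ℬ : Type u} [Category.{v} ℬ] [Abelian ℬ] [HasExt.{w} ℬ] (X₀ : ℬ)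

/-- `A` is acyclic for `Hom(X₀, -)` -/
def Acyc (A : ℬ) : Prop := ∀ q : ℕ, Subsingleton (Ext.{w} X₀ A (q + 1))

lemma acyc_of_injective (A : ℬ) [Injective A] : Acyc X₀ A :=
  fun q => Ext.subsingleton_of_injective X₀ A q

lemma acyc_of_isZero (A : ℬ) (h : IsZero A) : Acyc X₀ A := by
  haveI : Injective A := h.injective
  exact acyc_of_injective X₀ A

lemma acyc_of_iso {A B : ℬ} (e : A ≅ B) (h : Acyc X₀ A) : Acyc X₀ B := by
  intro q
  refine subsingleton_of_forall_eq 0 (fun x => ?_)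
  have h1 : x.comp (Ext.mk₀ e.inv) (add_zero _) = 0 := (h q).elim _ _
  have h2 := congrArg (fun y => y.comp (Ext.mk₀ e.hom) (add_zero _)) h1
  simpa [Ext.comp_assoc_of_third_deg_zero] using h2

variable {X₀}

lemma acyc_X₃ {S : ShortComplex ℬ} (hS : S.ShortExact) (h₁ : Acyc X₀ S.X₁) (h₂ : Acyc X₀ S.X₂) :
    Acyc X₀ S.X₃ := by
  intro q
  refine subsingleton_of_forall_eq 0 (fun x => ?_)
  obtain ⟨x₂, hx₂⟩ := Ext.covariant_sequence_exact₃ X₀ hS x (rfl : q + 1 + 1 = q + 2)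
    ((h₁ (q + 1)).elim _ _)
  rw [← hx₂, (h₂ q).elim x₂ 0, Ext.zero_comp]

lemma exists_lift {S : ShortComplex ℬ} (hS : S.ShortExact) (h₁ : Acyc X₀ S.X₁)
    (g : X₀ ⟶ S.X₃) : ∃ h : X₀ ⟶ S.X₂, h ≫ S.g = g := by
  obtain ⟨x₂, hx₂⟩ := Ext.covariant_sequence_exact₃ X₀ hS (Ext.mk₀ g) (rfl : 0 + 1 = 1)
    ((h₁ 0).elim _ _)
  obtain ⟨h, rfl⟩ := (Ext.mk₀_bijective _ _).2 x₂
  refine ⟨h, ?_⟩
  apply (Ext.mk₀_bijective _ _).1
  rw [← hx₂, Ext.mk₀_comp_mk₀]

lemma acyc_biprod {A B : ℬ} (hA : Acyc X₀ A) (hB : Acyc X₀ B) : Acyc X₀ (A ⊞ B) := by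
  let S : ShortComplex ℬ := ShortComplex.mk (biprod.inl : A ⟶ A ⊞ B) biprod.snd (by simp)
  have hS : S.ShortExact :=
    { exact := (ShortComplex.Splitting.ofHasBinaryBiproduct A B).exact
      mono_f := by dsimp [S]; infer_instance
      epi_g := by dsimp [S]; infer_instance }
  intro q
  refine subsingleton_of_forall_eq 0 (fun x => ?_)
  obtain ⟨x₁, hx₁⟩ := Ext.covariant_sequence_exact₂ X₀ hS x ((hB q).elim _ _)
  rw [← hx₁, (hA q).elim x₁ 0, Ext.zero_comp]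

section Complex

variable (N : CochainComplex ℬ ℤ)

/-- `Z^n = ker (N^n ⟶ N^{n+1})` -/
noncomputable abbrev Z (n : ℤ) : ℬ := kernel (N.d n (n + 1))

/-- `N^n ⟶ Z^{n+1}` -/
noncomputable abbrev π (n : ℤ) : N.X n ⟶ Z N (n + 1) :=
  kernel.lift (N.d (n + 1) (n + 1 + 1)) (N.d n (n + 1)) (N.d_comp_d _ _ _)

/-- the short complex `Z^n ⟶ N^n ⟶ Z^{n+1}` -/
noncomputable def sc (n : ℤ) : ShortComplex ℬ :=
  ShortComplex.mk (kernel.ι (N.d n (n + 1))) (π N n) (by
    rw [← cancel_mono (kernel.ι (N.d (n + 1) (n + 1 + 1))), Category.assoc, kernel.lift_ι,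
      kernel.condition, zero_comp])

lemma sc_shortExact (n : ℤ) (h : (N.sc' n (n + 1) (n + 1 + 1)).Exact) : (sc N n).ShortExact := by
  have he : Epi (π N n) := (ShortComplex.exact_iff_epi_kernel_lift _).1 h
  have hex : (sc N n).Exact := by
    let S₁ : ShortComplex ℬ := ShortComplex.mk (kernel.ι (N.d n (n + 1))) (N.d n (n + 1))
      (kernel.condition _)
    have h₁ : S₁.Exact := ShortComplex.exact_of_f_is_kernel _ (kernelIsKernel _)
    let φ : sc N n ⟶ S₁ :=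
      { τ₁ := 𝟙 _
        τ₂ := 𝟙 _
        τ₃ := kernel.ι (N.d (n + 1) (n + 1 + 1))
        comm₁₂ := by simp [sc, S₁]
        comm₂₃ := by simp [sc, S₁] }
    haveI : Epi φ.τ₁ := inferInstanceAs (Epi (𝟙 _))
    haveI : IsIso φ.τ₂ := inferInstanceAs (IsIso (𝟙 _))
    haveI : Mono φ.τ₃ := inferInstanceAs (Mono (kernel.ι (N.d (n + 1) (n + 1 + 1))))
    exact (ShortComplex.exact_iff_of_epi_of_isIso_of_mono φ).2 h₁
  exact { exact := hex, mono_f := by dsimp [sc]; infer_instance, epi_g := he }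

variable (a : ℤ) (hNa : ∀ n, n < a → IsZero (N.X n))
  (hN : ∀ n, (N.sc' n (n + 1) (n + 1 + 1)).Exact)
  (hacyc : ∀ n, Acyc X₀ (N.X n))

include hNa hN hacyc in
lemma acyc_Z (n : ℤ) : Acyc X₀ (Z N n) := by
  by_cases hn : n < a
  · apply acyc_of_isZero
    rw [IsZero.iff_id_eq_zero, ← cancel_mono (kernel.ι (N.d n (n + 1)))]
    exact (hNa n hn).eq_of_tgt _ _
  · have hn' : a - 1 ≤ n := by lia
    induction n, hn' using Int.leInduction with
    | base =>
      apply acyc_of_isZero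
      rw [IsZero.iff_id_eq_zero, ← cancel_mono (kernel.ι (N.d (a - 1) (a - 1 + 1)))]
      exact (hNa (a - 1) (by lia)).eq_of_tgt _ _
    | succ m hm ih =>
      by_cases hm' : m < a
      · have hz : IsZero (Z N m) := by
          rw [IsZero.iff_id_eq_zero, ← cancel_mono (kernel.ι (N.d m (m + 1)))]
          exact (hNa m hm').eq_of_tgt _ _
        exact acyc_X₃ (sc_shortExact N m (hN m)) (acyc_of_isZero _ _ hz) (hacyc m)
      · exact acyc_X₃ (sc_shortExact N m (hN m)) (ih hm') (hacyc m)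

include hNa hN hacyc in
/-- every cocycle of `Hom(X₀, N)` is a coboundary -/
theorem exists_of_cocycle (n : ℤ) (f : X₀ ⟶ N.X (n + 1)) (hf : f ≫ N.d (n + 1) (n + 1 + 1) = 0) :
    ∃ g : X₀ ⟶ N.X n, g ≫ N.d n (n + 1) = f := by
  obtain ⟨h, hh⟩ := exists_lift (sc_shortExact N n (hN n)) (acyc_Z N a hNa hN hacyc n)
    (kernel.lift _ f hf)
  let h' : X₀ ⟶ N.X n := h
  refine ⟨h', ?_⟩
  have h1 : N.d n (n + 1) = π N n ≫ kernel.ι (N.d (n + 1) (n + 1 + 1)) :=
    (kernel.lift_ι _ _ _).symm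
  have h2 : h' ≫ π N n = kernel.lift _ f hf := hh
  rw [h1, ← Category.assoc, h2, kernel.lift_ι]

end Complex


section Complex'

variable (N : CochainComplex ℬ ℤ) (a : ℤ) (hNa : ∀ n, n < a → IsZero (N.X n))
  (hN : N.Acyclic) (hacyc : ∀ n, Acyc X₀ (N.X n))

include hNa hN hacyc in
/-- every cocycle of `Hom(X₀, N)` is a coboundary (general indices) -/
theorem exists_of_cocycle' (i j k : ℤ) (hij : i + 1 = j) (hjk : j + 1 = k) (f : X₀ ⟶ N.X j)
    (hf : f ≫ N.d j k = 0) : ∃ g : X₀ ⟶ N.X i, g ≫ N.d i j = f := by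
  subst hij hjk
  refine exists_of_cocycle N a hNa (fun n => ?_) hacyc i f hf
  exact (N.exactAt_iff' n (n + 1) (n + 1 + 1) (by simp) (by simp)).1 (hN (n + 1))

end Complex'

end Groth.Agent.Helper9.SpAcyc
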