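import Mathlib

/-! Truncations in the derived category: `τ_{≥ q} τ_{< q+1} K ≅ (H^q K)[-q]`. -/

set_option autoImplicit false
set_option linter.style.haveILetI false
set_option linter.unusedSectionVars false
universe w v u

open CategoryTheory CategoryTheory.Limits CategoryTheory.Pretriangulated

namespace Groth.Agent.Helper9.SpD

open DerivedCategory

variable {ℬ : Type u} [Category.{v} ℬ] [Abelian ℬ] [HasDerivedCategory.{w} ℬ]

section Tri

variable (T : Triangle (DerivedCategory ℬ)) (hT : T ∈ distTriang _) (i : ℤ)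

include hT in
lemma isIso_homology_map_mor₂ (h0 : IsZero ((homologyFunctor ℬ i).obj T.obj₁))
    (h1 : IsZero ((homologyFunctor ℬ (i + 1)).obj T.obj₁)) :
    IsIso ((homologyFunctor ℬ i).map T.mor₂) := by
  haveI : Mono ((homologyFunctor ℬ i).map T.mor₂) :=
    ((homologyFunctor ℬ 0).homologySequence_mono_shift_map_mor₂_iff T hT i).2
      (h0.eq_of_src _ _)
  haveI : Epi ((homologyFunctor ℬ i).map T.mor₂) :=
    ((homologyFunctor ℬ 0).homologySequence_epi_shift_map_mor₂_iff T hT i (i + 1) rfl).2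
      (h1.eq_of_tgt _ _)
  exact isIso_of_mono_of_epi _

include hT in
lemma isIso_homology_map_mor₁ (h0 : IsZero ((homologyFunctor ℬ i).obj T.obj₃))
    (h1 : IsZero ((homologyFunctor ℬ (i - 1)).obj T.obj₃)) :
    IsIso ((homologyFunctor ℬ i).map T.mor₁) := by
  haveI : Epi ((homologyFunctor ℬ i).map T.mor₁) :=
    ((homologyFunctor ℬ 0).homologySequence_epi_shift_map_mor₁_iff T hT i).2
      (h0.eq_of_tgt _ _)
  haveI : Mono ((homologyFunctor ℬ i).map T.mor₁) :=
    ((homologyFunctor ℬ 0).homologySequence_mono_shift_map_mor₁_iff T hT (i - 1) i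
      (by lia)).2 (h1.eq_of_src _ _)
  exact isIso_of_mono_of_epi _

end Tri

/-- `H^q (τ_{<q+1} K) ≅ H^q K` -/
noncomputable def homologyTruncLTIso (K : DerivedCategory ℬ) (q : ℤ) :
    (homologyFunctor ℬ q).obj ((TStructure.t.truncLT (q + 1)).obj K) ≅
      (homologyFunctor ℬ q).obj K :=
  haveI : IsIso ((homologyFunctor ℬ q).map ((TStructure.t.truncLTι (q + 1)).app K)) :=
    isIso_homology_map_mor₁ _ (TStructure.t.triangleLTGE_distinguished (q + 1) K) q
      (isZero_of_isGE _ (q + 1) q (by lia)) (isZero_of_isGE _ (q + 1) (q - 1) (by lia))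
  asIso ((homologyFunctor ℬ q).map ((TStructure.t.truncLTι (q + 1)).app K))

/-- `H^q N ≅ H^q (τ_{≥ q} N)` -/
noncomputable def homologyTruncGEIso (N : DerivedCategory ℬ) (q : ℤ) :
    (homologyFunctor ℬ q).obj N ≅
      (homologyFunctor ℬ q).obj ((TStructure.t.truncGE q).obj N) :=
  haveI : IsIso ((homologyFunctor ℬ q).map ((TStructure.t.truncGEπ q).app N)) :=
    isIso_homology_map_mor₂ _ (TStructure.t.triangleLTGE_distinguished q N) q
      (isZero_of_isLE _ (q - 1) q (by lia)) (isZero_of_isLE _ (q - 1) (q + 1) (by lia))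
  asIso ((homologyFunctor ℬ q).map ((TStructure.t.truncGEπ q).app N))


/-- `τ_{≥ q} τ_{< q+1} K ≅ (H^q K)[-q]` -/
lemma nonempty_truncIso (K : DerivedCategory ℬ) (q : ℤ) :
    Nonempty ((TStructure.t.truncGE q).obj ((TStructure.t.truncLT (q + 1)).obj K) ≅
      (singleFunctor ℬ q).obj ((homologyFunctor ℬ q).obj K)) := by
  haveI : TStructure.t.IsLE ((TStructure.t.truncLT (q + 1)).obj K) q :=
    TStructure.t.isLE_of_le _ (q + 1 - 1) q (by lia)
  obtain ⟨A, ⟨e⟩⟩ := exists_iso_singleFunctor_obj_of_isGE_of_isLE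
    ((TStructure.t.truncGE q).obj ((TStructure.t.truncLT (q + 1)).obj K)) q
  let a : A ≅ (homologyFunctor ℬ q).obj K :=
    ((singleFunctorCompHomologyFunctorIso ℬ q).app A).symm ≪≫
      (homologyFunctor ℬ q).mapIso e.symm ≪≫
      (homologyTruncGEIso ((TStructure.t.truncLT (q + 1)).obj K) q).symm ≪≫
      homologyTruncLTIso K q
  exact ⟨e ≪≫ (singleFunctor ℬ q).mapIso a⟩


/-- `(A[-q])⟦p + q⟧ ≅ (A[0])⟦p⟧` -/
noncomputable def shiftSingleIso (A : ℬ) (p q : ℤ) :
    ((singleFunctor ℬ q).obj A)⟦p + q⟧ ≅ ((singleFunctor ℬ 0).obj A)⟦p⟧ :=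
  (shiftFunctorAdd' (DerivedCategory ℬ) q p (p + q) (by lia)).app _ ≪≫
    (shiftFunctor (DerivedCategory ℬ) p).mapIso
      (((singleFunctors ℬ).shiftIso q 0 q (by lia)).app A)

/-- postcomposition with an isomorphism, as an additive equivalence -/
def postcompAddEquiv {T : Type*} [Category T] [Preadditive T] (S : T) {X Y : T} (e : X ≅ Y) :
    (S ⟶ X) ≃+ (S ⟶ Y) where
  toFun f := f ≫ e.hom
  invFun g := g ≫ e.inv
  left_inv f := by simp
  right_inv g := by simp
  map_add' f f' := Preadditive.add_comp _ _ _ f f' e.hom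

section Small

variable [EnoughInjectives ℬ]

lemma small_hom_Q_obj (S₀ I : CochainComplex ℬ ℤ) [I.IsKInjective] :
    Small.{v} (Q.obj S₀ ⟶ Q.obj I) := by
  let φ : (S₀ ⟶ I) → (Q.obj S₀ ⟶ Q.obj I) := fun f => Q.map f
  have hφ : Function.Surjective φ := by
    intro g
    obtain ⟨g', hg'⟩ := (CochainComplex.IsKInjective.Qh_map_bijective
      ((HomotopyCategory.quotient _ _).obj S₀) I).2
      ((quotientCompQhIso ℬ).hom.app S₀ ≫ g ≫ (quotientCompQhIso ℬ).inv.app I)
    obtain ⟨f, rfl⟩ := (HomotopyCategory.quotient _ _).map_surjective g'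
    refine ⟨f, ?_⟩
    have h1 := (quotientCompQhIso ℬ).hom.naturality f
    dsimp at h1
    dsimp only [φ]
    rw [← cancel_epi ((quotientCompQhIso ℬ).hom.app S₀), ← h1, hg']
    simp
  exact small_of_surjective hφ

lemma small_hom_of_isGE (S₀ : CochainComplex ℬ ℤ) (N : DerivedCategory ℬ) (m : ℤ) [N.IsGE m] :
    Small.{v} (Q.obj S₀ ⟶ N) := by
  obtain ⟨L, _, ⟨e⟩⟩ := exists_iso_Q_obj_of_isGE N m
  obtain ⟨M, _, i, hi⟩ :=
    CochainComplex.Plus.exists_quasiIso_injective ⟨L, ⟨m, inferInstance⟩⟩ m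
  haveI : QuasiIso i.hom := hi
  haveI : IsIso (Q.map i.hom) := by
    rw [isIso_Q_map_iff_quasiIso]; exact hi
  let e' := e ≪≫ asIso (Q.map i.hom)
  haveI : CochainComplex.IsKInjective ((InjectiveObject.ι ℬ).mapCochainComplexPlus.obj M).obj :=
    inferInstanceAs (CochainComplex.IsKInjective
      (((InjectiveObject.ι ℬ).mapHomologicalComplex (.up ℤ)).obj M.obj))
  haveI := small_hom_Q_obj S₀ ((InjectiveObject.ι ℬ).mapCochainComplexPlus.obj M).obj
  exact small_map (postcompAddEquiv (Q.obj S₀) e').toEquiv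

end Small

end Groth.Agent.Helper9.SpD
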