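import Mathlib
import Groth.Agent.Helper9.SpAcyc
import Groth.Agent.Helper9.SpD

/-!
# Hypercohomology of a bounded below complex of `Hom(X₀, -)`-acyclic objects

`Hom_D(X₀[0], L⟦n⟧) ≃+ CohomologyClass (X₀[0]) L n`.
-/

set_option autoImplicit false
set_option linter.style.haveILetI false
set_option linter.unusedSectionVars false

namespace Groth.Agent.Helper9.SpHyper

open CategoryTheory Limits Abelian Opposite CategoryTheory.Pretriangulated
open CochainComplex HomComplex
open Groth.Agent.Helper9.SpAcyc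

universe w' w v u

variable {ℬ : Type u} [Category.{v} ℬ] [Abelian ℬ] [HasExt.{w'} ℬ] (X₀ : ℬ)

/-- the complex `X₀[0]` -/
noncomputable abbrev S₀ : CochainComplex ℬ ℤ := (CochainComplex.singleFunctor ℬ 0).obj X₀

section Vanish

variable (N : CochainComplex ℬ ℤ)
  (hN : N.Acyclic) (hacyc : ∀ n, Acyc X₀ (N.X n))

include hN hacyc in
lemma cohomologyClass_eq_zero (a : ℤ) [N.IsStrictlyGE a] (n : ℤ) (x : CohomologyClass (S₀ X₀) N n) : x = 0 := by
  obtain ⟨y, rfl⟩ := x.mk_surjective
  obtain ⟨f, hf, rfl⟩ := Cocycle.fromSingleMk_surjective y n (zero_add n) (n + 1) rfl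
  rw [CohomologyClass.mk_eq_zero_iff,
    Cocycle.fromSingleMk_mem_coboundaries_iff _ _ _ _ _ (n - 1) (by lia)]
  exact exists_of_cocycle' N a (fun i hi => N.isZero_of_isStrictlyGE a i hi) hN hacyc
    (n - 1) n (n + 1) (by lia) rfl f hf

include hN hacyc in
lemma hom_quotient_eq_zero (a : ℤ) [N.IsStrictlyGE a] (n : ℤ)
    (g : (HomotopyCategory.quotient ℬ (.up ℤ)).obj (S₀ X₀) ⟶
      ((HomotopyCategory.quotient ℬ (.up ℤ)).obj N)⟦n⟧) : g = 0 := by
  let e := ((HomotopyCategory.quotient ℬ (.up ℤ)).commShiftIso n).app N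
  have h1 : g ≫ e.inv = 0 := by
    obtain ⟨x, hx⟩ := (CohomologyClass.homAddEquiv (K := S₀ X₀) (L := N) (n := n)).surjective
      (g ≫ e.inv)
    rw [← hx, cohomologyClass_eq_zero X₀ N hN hacyc a n x, map_zero]
  rw [← cancel_mono e.inv, h1, zero_comp]

end Vanish


section Cone

variable {L I : CochainComplex ℬ ℤ} (φ : L ⟶ I) [QuasiIso φ]

lemma acyclic_mappingCone : (mappingCone φ).Acyclic := by
  rw [← HomotopyCategory.quotient_obj_mem_subcategoryAcyclic_iff_acyclic]
  have h1 := (HomotopyCategory.subcategoryAcyclic ℬ).trW_iff_of_distinguished _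
    (HomotopyCategory.mappingCone_triangleh_distinguished φ)
  refine h1.1 ?_
  rw [← HomotopyCategory.quasiIso_eq_trW_subcategoryAcyclic]
  exact (HomotopyCategory.quotient_map_mem_quasiIso_iff φ).2
    ((HomologicalComplex.mem_quasiIso_iff φ).2 inferInstance)

variable (hL : ∀ n, Acyc X₀ (L.X n)) (hI : ∀ n, Acyc X₀ (I.X n))

include hL hI in
lemma acyc_mappingCone_X (n : ℤ) : Acyc X₀ ((mappingCone φ).X n) :=
  acyc_of_iso X₀ (HomologicalComplex.homotopyCofiber.XIsoBiprod φ n (n + 1) (by simp)).symm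
    (acyc_biprod (hL (n + 1)) (hI n))

include hL hI in
lemma bijective_postcomp (a : ℤ) [L.IsStrictlyGE a] [I.IsStrictlyGE a] (n : ℤ) :
    Function.Bijective
      (fun (g : (HomotopyCategory.quotient ℬ (.up ℤ)).obj (S₀ X₀) ⟶
        ((HomotopyCategory.quotient ℬ (.up ℤ)).obj L)⟦n⟧) =>
        g ≫ ((HomotopyCategory.quotient ℬ (.up ℤ)).map φ)⟦n⟧') := by
  haveI : (mappingCone φ).IsStrictlyGE (a - 1) := isStrictlyGE_mappingCone φ a a (a - 1)
  have hz : ∀ (m : ℤ) (g : (HomotopyCategory.quotient ℬ (.up ℤ)).obj (S₀ X₀) ⟶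
      ((HomotopyCategory.quotient ℬ (.up ℤ)).obj (mappingCone φ))⟦m⟧), g = 0 := fun m g =>
    hom_quotient_eq_zero X₀ (mappingCone φ) (acyclic_mappingCone φ)
      (acyc_mappingCone_X X₀ φ hL hI) (a - 1) m g
  let F := preadditiveCoyoneda.obj (op ((HomotopyCategory.quotient ℬ (.up ℤ)).obj (S₀ X₀)))
  have hT := HomotopyCategory.mappingCone_triangleh_distinguished φ
  have hmono : Mono ((F.shift n).map (mappingCone.triangleh φ).mor₁) := by
    rw [F.homologySequence_mono_shift_map_mor₁_iff _ hT (n - 1) n (by lia)]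
    ext g
    have hg : g = 0 := hz (n - 1) g
    rw [hg, map_zero, map_zero]
  have hepi : Epi ((F.shift n).map (mappingCone.triangleh φ).mor₁) := by
    rw [F.homologySequence_epi_shift_map_mor₁_iff _ hT n]
    ext g
    exact hz n _
  exact ⟨(AddCommGrpCat.mono_iff_injective _).1 hmono,
    (AddCommGrpCat.epi_iff_surjective _).1 hepi⟩

end Cone


section Main

open DerivedCategory Groth.Agent.Helper9.SpD

/-- precomposition with an isomorphism, as an additive equivalence -/
def precompAddEquiv {T : Type*} [Category T] [Preadditive T] {S S' : T} (e : S ≅ S') (X : T) :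
    (S' ⟶ X) ≃+ (S ⟶ X) where
  toFun f := e.hom ≫ f
  invFun g := e.inv ≫ g
  left_inv f := by simp
  right_inv g := by simp
  map_add' f f' := Preadditive.comp_add _ _ _ e.hom f f'

variable [HasDerivedCategory.{w} ℬ]

/-- the K-injective case -/
noncomputable def equivOfIsKInjective (S I : CochainComplex ℬ ℤ) [I.IsKInjective] (n : ℤ) :
    CohomologyClass S I n ≃+ (Q.obj S ⟶ (Q.obj I)⟦n⟧) :=
  (CohomologyClass.homAddEquiv (K := S) (L := I) (n := n)).trans <|
    (AddEquiv.ofBijective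
      ((Qh (C := ℬ)).mapAddHom (X := (HomotopyCategory.quotient ℬ (.up ℤ)).obj S)
        (Y := (HomotopyCategory.quotient ℬ (.up ℤ)).obj (I⟦n⟧)))
      (CochainComplex.IsKInjective.Qh_map_bijective _ (I⟦n⟧))).trans <|
    (precompAddEquiv ((quotientCompQhIso ℬ).symm.app S) _).trans <|
    (postcompAddEquiv _ ((quotientCompQhIso ℬ).app (I⟦n⟧))).trans <|
    postcompAddEquiv _ ((Q.commShiftIso n).app I)

variable [EnoughInjectives ℬ]

theorem nonempty_addEquiv (L : CochainComplex ℬ ℤ) (a : ℤ) [L.IsStrictlyGE a]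
    (hL : ∀ n, Acyc X₀ (L.X n)) (n : ℤ) :
    Nonempty (CohomologyClass (S₀ X₀) L n ≃+ (Q.obj (S₀ X₀) ⟶ (Q.obj L)⟦n⟧)) := by
  obtain ⟨I, φ, _, _, _⟩ :=
    CochainComplex.Plus.modelCategoryQuillen.exists_quasiIso_injective L a
  haveI : I.IsKInjective := isKInjective_of_injective I a
  have hI : ∀ n, Acyc X₀ (I.X n) := fun n => acyc_of_injective X₀ _
  let q := HomotopyCategory.quotient ℬ (.up ℤ)
  -- step in the homotopy category
  let ψ : (q.obj (S₀ X₀) ⟶ (q.obj L)⟦n⟧) →+ (q.obj (S₀ X₀) ⟶ (q.obj I)⟦n⟧) :=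
    { toFun := fun g => g ≫ (q.map φ)⟦n⟧'
      map_zero' := zero_comp
      map_add' := fun g g' => Preadditive.add_comp _ _ _ g g' _ }
  have hψ : Function.Bijective ψ := bijective_postcomp X₀ φ hL hI a n
  haveI : IsIso (Q.map φ) := by
    rw [isIso_Q_map_iff_quasiIso]; infer_instance
  exact ⟨(CohomologyClass.homAddEquiv (K := S₀ X₀) (L := L) (n := n)).trans <|
    (postcompAddEquiv _ ((q.commShiftIso n).app L)).trans <|
    (AddEquiv.ofBijective ψ hψ).trans <|
    (postcompAddEquiv _ ((q.commShiftIso n).symm.app I)).trans <|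
    (CohomologyClass.homAddEquiv (K := S₀ X₀) (L := I) (n := n)).symm.trans <|
    (equivOfIsKInjective (S₀ X₀) I n).trans <|
    postcompAddEquiv _ ((CategoryTheory.shiftFunctor (DerivedCategory ℬ) n).mapIso (asIso (Q.map φ))).symm⟩

end Main

end Groth.Agent.Helper9.SpHyper
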