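import Mathlib

/-! Shrinking an abelian spectral object of abelian groups to a smaller universe. -/

set_option autoImplicit false
set_option linter.style.haveILetI false
set_option linter.unusedSectionVars false
universe v w u₂ v₂

open CategoryTheory CategoryTheory.Limits ComposableArrows

namespace Groth.Agent.Helper9.SpShrink

section Ab

/-- shrink an abelian group -/
noncomputable def sObj (A : AddCommGrpCat.{w}) [Small.{v} A] : AddCommGrpCat.{v} :=
  AddCommGrpCat.of (Shrink.{v} A)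

/-- the additive equivalence -/
noncomputable def sEquiv (A : AddCommGrpCat.{w}) [Small.{v} A] : sObj.{v} A ≃+ A :=
  Shrink.addEquiv

/-- shrink a morphism -/
noncomputable def sMap {A B : AddCommGrpCat.{w}} [Small.{v} A] [Small.{v} B] (f : A ⟶ B) :
    sObj.{v} A ⟶ sObj.{v} B :=
  AddCommGrpCat.ofHom ((sEquiv B).symm.toAddMonoidHom.comp
    (f.hom.comp (sEquiv A).toAddMonoidHom))

lemma sEquiv_sMap {A B : AddCommGrpCat.{w}} [Small.{v} A] [Small.{v} B] (f : A ⟶ B)
    (x : sObj.{v} A) : sEquiv B (sMap f x) = f (sEquiv A x) :=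
  (sEquiv B).apply_symm_apply _

lemma sMap_id (A : AddCommGrpCat.{w}) [Small.{v} A] : sMap (𝟙 A) = 𝟙 (sObj.{v} A) := by
  ext x
  apply (sEquiv A).injective
  rw [sEquiv_sMap]
  rfl

lemma sMap_comp {A B C : AddCommGrpCat.{w}} [Small.{v} A] [Small.{v} B] [Small.{v} C]
    (f : A ⟶ B) (g : B ⟶ C) : sMap (f ≫ g) = sMap.{v} f ≫ sMap g := by
  ext x
  apply (sEquiv C).injective
  rw [sEquiv_sMap]
  change _ = sEquiv C (sMap g (sMap f x))
  rw [sEquiv_sMap, sEquiv_sMap]
  rfl

lemma sMap_zero {A B : AddCommGrpCat.{w}} [Small.{v} A] [Small.{v} B] :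
    sMap (0 : A ⟶ B) = (0 : sObj.{v} A ⟶ sObj.{v} B) := by
  ext x
  apply (sEquiv B).injective
  rw [sEquiv_sMap]
  simp

lemma exact_sMap {A B C : AddCommGrpCat.{w}} [Small.{v} A] [Small.{v} B] [Small.{v} C]
    (f : A ⟶ B) (g : B ⟶ C) (h : (mk₂ f g).Exact) : (mk₂ (sMap.{v} f) (sMap g)).Exact := by
  have hz : f ≫ g = 0 := h.zero 0
  have hz' : sMap.{v} f ≫ sMap g = 0 := by rw [← sMap_comp, hz, sMap_zero]
  have he : (ShortComplex.mk f g hz).Exact := h.exact 0
  rw [ShortComplex.ab_exact_iff] at he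
  refine (ShortComplex.Exact.exact_toComposableArrows (S := ShortComplex.mk _ _ hz') ?_)
  rw [ShortComplex.ab_exact_iff]
  intro x₂ hx₂
  dsimp at x₂ hx₂ ⊢
  obtain ⟨x₁, hx₁⟩ := he (sEquiv B x₂) (by
    dsimp
    rw [← sEquiv_sMap, hx₂, map_zero])
  refine ⟨(sEquiv A).symm x₁, ?_⟩
  apply (sEquiv B).injective
  rw [sEquiv_sMap, AddEquiv.apply_symm_apply]
  exact hx₁

lemma isZero_sObj (A : AddCommGrpCat.{w}) [Small.{v} A] (h : IsZero A) : IsZero (sObj.{v} A) := by
  haveI : Subsingleton A := AddCommGrpCat.subsingleton_of_isZero h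
  haveI : Subsingleton (sObj.{v} A) := (sEquiv A).toEquiv.subsingleton
  exact AddCommGrpCat.isZero_of_subsingleton _

end Ab

variable {ι : Type u₂} [Category.{v₂} ι] (Y : Abelian.SpectralObject AddCommGrpCat.{w} ι)
  [hY : ∀ (n : ℤ) (D : ComposableArrows ι 1), Small.{v} ((Y.H n).obj D)]

/-- the shrunk functors -/
noncomputable def sH (n : ℤ) : ComposableArrows ι 1 ⥤ AddCommGrpCat.{v} where
  obj D := sObj.{v} ((Y.H n).obj D)
  map φ := sMap ((Y.H n).map φ)
  map_id D := by rw [(Y.H n).map_id, sMap_id]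
  map_comp φ ψ := by rw [(Y.H n).map_comp, sMap_comp]

/-- the shrunk spectral object -/
noncomputable def shrink : Abelian.SpectralObject AddCommGrpCat.{v} ι where
  H n := sH.{v} Y n
  δ' n₀ n₁ h :=
    { app := fun D => sMap ((Y.δ' n₀ n₁ h).app D)
      naturality := fun D D' φ => by
        dsimp [sH]
        rw [← sMap_comp, ← sMap_comp]
        congr 1
        exact (Y.δ' n₀ n₁ h).naturality φ }
  exact₁' n₀ n₁ h D := exact_sMap _ _ (Y.exact₁' n₀ n₁ h D)
  exact₂' n D := exact_sMap _ _ (Y.exact₂' n D)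
  exact₃' n₀ n₁ h D := exact_sMap _ _ (Y.exact₃' n₀ n₁ h D)

lemma shrink_H_obj (n : ℤ) (D : ComposableArrows ι 1) :
    ((shrink.{v} Y).H n).obj D = sObj.{v} ((Y.H n).obj D) := rfl

end Groth.Agent.Helper9.SpShrink
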