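import Mathlib

/-! The abelian spectral object obtained from a triangulated spectral object and a homological
functor. -/

set_option autoImplicit false
set_option linter.style.haveILetI false
set_option linter.unusedSectionVars false
universe v₁ v₂ v₃ u₁ u₂ u₃

open CategoryTheory CategoryTheory.Limits CategoryTheory.Pretriangulated ComposableArrows

namespace Groth.Agent.Helper9.SpMapHom

variable {C : Type u₁} [Category.{v₁} C] {ι : Type u₂} [Category.{v₂} ι] [HasZeroObject C]
  [HasShift C ℤ] [Preadditive C] [∀ n : ℤ, (shiftFunctor C n).Additive] [Pretriangulated C]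
  {A : Type u₃} [Category.{v₃} A] [Abelian A]
  (X : Triangulated.SpectralObject C ι) (F : C ⥤ A) [F.IsHomological] [F.ShiftSequence ℤ]

/-- The abelian spectral object attached to a triangulated spectral object and a homological
functor. -/
noncomputable def mapHomological : Abelian.SpectralObject A ι where
  H n := X.ω₁ ⋙ F.shift n
  δ' n₀ n₁ h :=
    { app := fun D => F.homologySequenceδ (X.ω₂.obj D) n₀ n₁ h
      naturality := fun D D' φ =>
        F.homologySequenceδ_naturality _ _ (X.ω₂.map φ) n₀ n₁ h }
  exact₁' n₀ n₁ h D :=
    (F.homologySequence_exact₁ _ (X.ω₂_obj_distinguished D) n₀ n₁ h).exact_toComposableArrows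
  exact₂' n D :=
    (F.homologySequence_exact₂ _ (X.ω₂_obj_distinguished D) n).exact_toComposableArrows
  exact₃' n₀ n₁ h D :=
    (F.homologySequence_exact₃ _ (X.ω₂_obj_distinguished D) n₀ n₁ h).exact_toComposableArrows

@[simp]
lemma mapHomological_H (n : ℤ) : (mapHomological X F).H n = X.ω₁ ⋙ F.shift n := rfl

end Groth.Agent.Helper9.SpMapHom
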