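import Mathlib
import Groth.Agent.Helper9.SpMapHom

/-! The first quadrant spectral object `Hom(S, τ_{[a,b)} K ⟦n⟧)` attached to a t-structure. -/

set_option autoImplicit false
set_option linter.style.haveILetI false
set_option linter.unusedSectionVars false
universe v u

open CategoryTheory CategoryTheory.Limits CategoryTheory.Pretriangulated ComposableArrows Opposite

namespace Groth.Agent.Helper9.SpT

open Groth.Agent.Helper9.SpMapHom

variable {T : Type u} [Category.{v} T] [Preadditive T] [HasZeroObject T] [HasShift T ℤ]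
  [∀ n : ℤ, (shiftFunctor T n).Additive] [Pretriangulated T] [IsTriangulated T]
  (t : Triangulated.TStructure T) (S K : T)

/-- The abelian spectral object `H^n(a ≤ b) = Hom(S, (τ_{≥ a} τ_{< b} K)⟦n⟧)`. -/
noncomputable def Y : Abelian.SpectralObject AddCommGrpCat.{v} EInt :=
  mapHomological (t.spectralObject K) (preadditiveCoyoneda.obj (op S))

/-- The value of `H^n` -/
lemma Y_H_obj (n : ℤ) (D : ComposableArrows EInt 1) :
    ((Y t S K).H n).obj D = AddCommGrpCat.of (S ⟶ ((t.ω₁.obj D).obj K)⟦n⟧) := rfl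

lemma isZero_of_isZero (n : ℤ) (D : ComposableArrows EInt 1)
    (h : IsZero ((t.ω₁.obj D).obj K)) : IsZero (((Y t S K).H n).obj D) := by
  rw [Y_H_obj]
  have h2 : IsZero (((t.ω₁.obj D).obj K)⟦n⟧) := (shiftFunctor T n).map_isZero h
  haveI : Subsingleton (S ⟶ ((t.ω₁.obj D).obj K)⟦n⟧) :=
    ⟨fun a b => h2.eq_of_tgt a b⟩
  exact AddCommGrpCat.isZero_of_subsingleton _

instance [t.IsLE S 0] [t.IsGE K 0] : (Y t S K).IsFirstQuadrant where
  isZero₁ i j hij hj n := by
    apply isZero_of_isZero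
    show IsZero ((t.eTruncGE.obj i).obj ((t.eTruncLT.obj j).obj K))
    exact (t.eTruncGE.obj i).map_isZero (t.isZero_eTruncLT_obj_obj K 0 j hj)
  isZero₂ i j hij n hi := by
    rw [Y_H_obj]
    haveI : t.IsGE ((t.ω₁.obj (mk₁ (homOfLE hij))).obj K) (n + 1) := by
      show t.IsGE ((t.eTruncGE.obj i).obj ((t.eTruncLT.obj j).obj K)) (n + 1)
      refine t.isGE_eTruncGE_obj_obj (n + 1) i ?_ _
      induction i using WithBotTop.rec with
      | bot => simp at hi
      | coe i =>
        rw [WithBotTop.coe_lt_coe] at hi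
        rw [WithBotTop.coe_le_coe]
        lia
      | top => exact le_top
    haveI : t.IsGE (((t.ω₁.obj (mk₁ (homOfLE hij))).obj K)⟦n⟧) 1 :=
      t.isGE_shift _ (n + 1) n 1
    haveI : Subsingleton (S ⟶ ((t.ω₁.obj (mk₁ (homOfLE hij))).obj K)⟦n⟧) :=
      ⟨fun a b => (t.zero a 0 1).trans (t.zero b 0 1).symm⟩
    exact AddCommGrpCat.isZero_of_subsingleton _

end Groth.Agent.Helper9.SpT
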