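import Mathlib
import Groth.Prelude.Def_SpSeq
import Groth.Agent.Helper9.SpConvC
import Groth.Agent.Helper9.SpT
import Groth.Agent.Helper9.SpShrink
import Groth.Agent.Helper9.SpHyper

/-!
# The Grothendieck spectral sequence for `Hom(X₀, -)` and a bounded below complex of acyclics

`E₂^{p,q} = Ext^p(X₀, H^q(L)) ⇒ H^{p+q}(Hom(X₀, L))`.
-/

set_option autoImplicit false
set_option linter.style.haveILetI false
set_option linter.unusedSectionVars false

namespace Groth.Agent.Helper9.SpGroth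

open CategoryTheory Limits Abelian Opposite CategoryTheory.Pretriangulated ComposableArrows
open CochainComplex HomComplex DerivedCategory
open Groth.Agent.Helper9

universe v u

variable {ℬ : Type u} [Category.{v} ℬ] [Abelian ℬ] [EnoughInjectives ℬ] [HasExt.{v} ℬ]
  (X₀ : ℬ) (L : CochainComplex ℬ ℤ) [L.IsStrictlyGE 0]

attribute [local instance] HasDerivedCategory.standard

/-- the object `X₀[0]` of the derived category -/
noncomputable abbrev S : DerivedCategory ℬ := Q.obj (SpHyper.S₀ X₀)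

/-- the big spectral object -/
noncomputable abbrev Ybig : SpectralObject AddCommGrpCat.{max u v} EInt :=
  SpT.Y TStructure.t (S X₀) (Q.obj L)

instance : TStructure.t.IsLE (S X₀) 0 :=
  inferInstanceAs ((Q.obj ((CochainComplex.singleFunctor ℬ 0).obj X₀)).IsLE 0)

instance : TStructure.t.IsGE (Q.obj L) 0 := inferInstanceAs ((Q.obj L).IsGE 0)

instance (n : ℤ) (D : ComposableArrows EInt 1) : Small.{v} (((Ybig X₀ L).H n).obj D) := by
  rw [SpT.Y_H_obj]
  haveI : TStructure.t.IsGE ((TStructure.t.ω₁.obj D).obj (Q.obj L)) 0 := by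
    dsimp [Triangulated.TStructure.ω₁]
    infer_instance
  haveI : TStructure.t.IsGE (((TStructure.t.ω₁.obj D).obj (Q.obj L))⟦n⟧) (-n) :=
    TStructure.t.isGE_shift _ 0 n (-n)
  exact SpD.small_hom_of_isGE (SpHyper.S₀ X₀) _ (-n)


/-- the small spectral object -/
noncomputable abbrev Ysm : SpectralObject AddCommGrpCat.{v} EInt :=
  SpShrink.shrink.{v} (Ybig X₀ L)

instance : (Ysm X₀ L).IsFirstQuadrant where
  isZero₁ i j hij hj n :=
    SpShrink.isZero_sObj _ ((Ybig X₀ L).isZero₁_of_isFirstQuadrant i j hij hj n)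
  isZero₂ i j hij n hi :=
    SpShrink.isZero_sObj _ ((Ybig X₀ L).isZero₂_of_isFirstQuadrant i j hij n hi)

section Abut

variable (hL : ∀ n, SpAcyc.Acyc X₀ (L.X n))

include hL in
lemma nonempty_abutIso (n : ℤ) :
    Nonempty (SpConvB.Hn (Ysm X₀ L) n ≅
      AddCommGrpCat.of (CohomologyClass (SpHyper.S₀ X₀) L n)) := by
  obtain ⟨e⟩ := SpHyper.nonempty_addEquiv X₀ L 0 hL n
  let A : AddCommGrpCat.{v} := SpConvB.Hn (Ysm X₀ L) n
  let e1 : A ≃+ (S X₀ ⟶ (Q.obj L)⟦n⟧) :=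
    SpShrink.sEquiv (((Ybig X₀ L).H n).obj (mk₁ (homOfLE (bot_le : (⊥ : EInt) ≤ ⊤))))
  exact ⟨(e1.trans e.symm).toAddCommGrpIso⟩

end Abut


section E2

lemma nonempty_E2Iso (p' : ℕ) (q : ℤ) :
    Nonempty (((Ysm X₀ L).E₂SpectralSequence.page 2 le_rfl).X ((p' : ℤ), q) ≅
      AddCommGrpCat.of (Ext.{v} X₀ (L.homology q) p')) := by
  obtain ⟨eT⟩ := SpD.nonempty_truncIso (Q.obj L) q
  let K := Q.obj L
  let M := (TStructure.t.truncGE q).obj ((TStructure.t.truncLT (q + 1)).obj K)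
  let A : AddCommGrpCat.{v} := ((Ysm X₀ L).H ((p' : ℤ) + q)).obj
    (mk₁ (homOfLE (show ((q : ℤ) : EInt) ≤ ((q + 1 : ℤ) : EInt) by
      rw [WithBotTop.coe_le_coe]; lia)))
  let e1 : A ≃+ (S X₀ ⟶ M⟦(p' : ℤ) + q⟧) :=
    SpShrink.sEquiv (((Ybig X₀ L).H ((p' : ℤ) + q)).obj _)
  let e2 := SpD.postcompAddEquiv (S X₀)
    ((CategoryTheory.shiftFunctor (DerivedCategory ℬ) ((p' : ℤ) + q)).mapIso eT)
  let e3 := SpD.postcompAddEquiv (S X₀)
    (SpD.shiftSingleIso ((homologyFunctor ℬ q).obj K) (p' : ℤ) q)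
  let e4 := SpD.postcompAddEquiv (S X₀)
    ((CategoryTheory.shiftFunctor (DerivedCategory ℬ) (p' : ℤ)).mapIso
      ((DerivedCategory.singleFunctor ℬ 0).mapIso ((homologyFunctorFactors ℬ q).app L)))
  let e5 := SpHyper.precompAddEquiv ((singleFunctorIsoCompQ ℬ 0).app X₀)
    (((DerivedCategory.singleFunctor ℬ 0).obj (L.homology q))⟦(p' : ℤ)⟧)
  let e6 := (Ext.homAddEquiv (X := X₀) (Y := L.homology q) (n := p')).symm
  exact ⟨SpConvC.pageTwoIso (Ysm X₀ L) ((p' : ℤ), q) ≪≫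
    (e1.trans (e2.trans (e3.trans (e4.trans (e5.trans e6))))).toAddCommGrpIso⟩

end E2


/-- **The Grothendieck spectral sequence for `Hom(X₀, -)`**: for a complex `L` in degrees `≥ 0`
whose terms are `Hom(X₀, -)`-acyclic, there is a bounded first quadrant `E₂`-spectral sequence of
abelian groups with `E₂^{p,q} ≅ Ext^p(X₀, H^q(L))` converging (with finite filtrations) to the
cohomology classes of degree `n` from `X₀[0]` to `L`. -/
theorem exists_spectralSequence (hL : ∀ n, SpAcyc.Acyc X₀ (L.X n)) :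
    ∃ (E : E₂CohomologicalSpectralSequence AddCommGrpCat.{v})
      (a : SpSeq.Abutment E (fun n : ℤ =>
        AddCommGrpCat.of (CohomologyClass ((CochainComplex.singleFunctor ℬ 0).obj X₀) L n))),
      (∀ n, a.IsFinite n) ∧ SpSeq.IsBounded E ∧
      (∀ (p' : ℕ) (q : ℤ), Nonempty ((E.page 2 le_rfl).X ((p' : ℤ), q) ≅
        AddCommGrpCat.of (Ext.{v} X₀ (L.homology q) p'))) ∧
      (∀ (p q : ℤ), (p < 0 ∨ q < 0) → IsZero ((E.page 2 le_rfl).X (p, q))) := by
  obtain ⟨a, ha⟩ := SpConvC.exists_abutment (Ysm X₀ L)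
    (fun n : ℤ => AddCommGrpCat.of (CohomologyClass (SpHyper.S₀ X₀) L n))
    (fun n => (nonempty_abutIso X₀ L hL n).some)
  refine ⟨(Ysm X₀ L).E₂SpectralSequence, a, ha, SpConvC.isBounded _,
    nonempty_E2Iso X₀ L, ?_⟩
  rintro p q (hp | hq)
  · exact SpConvC.isZero_page_of_fst_neg _ 2 le_rfl (p, q) hp
  · exact SpConvC.isZero_page_of_snd_neg _ 2 le_rfl (p, q) hq

end Groth.Agent.Helper9.SpGroth
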