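import Mathlib
import Groth.Prelude.Def_SpSeq
import Groth.Agent.Helper9.SpGroth
import Groth.Agent.Helper9.SpExtend
import Groth.Agent.Helper9.SpCoh

/-!
# The Grothendieck spectral sequence of a composite `Hom(X₀, F -)`

`E₂^{p,q} = Ext^p(X₀, R^q F(A)) ⇒ H^{p+q}(Hom(X₀, F(I^•)))` when `F` sends injectives to
`Hom(X₀, -)`-acyclic objects.
-/

set_option autoImplicit false
set_option linter.style.haveILetI false
set_option linter.unusedSectionVars false

namespace Groth.Agent.Helper9.SpGroth2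

open CategoryTheory Limits Abelian CochainComplex HomComplex
open Groth.Agent.Helper9

universe v v' u u'

variable {𝒜 : Type u'} [Category.{v'} 𝒜] [Abelian 𝒜]
  {ℬ : Type u} [Category.{v} ℬ] [Abelian ℬ]
  (F : 𝒜 ⥤ ℬ) [F.Additive] {A : 𝒜} (I : InjectiveResolution A)

/-- the complex `F(I^•)`, indexed by `ℤ` -/
noncomputable abbrev FI : CochainComplex ℬ ℤ :=
  (F.mapHomologicalComplex (ComplexShape.up ℤ)).obj I.cochainComplex

instance : (FI F I).IsStrictlyGE 0 := by
  dsimp only [FI]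
  infer_instance

/-- the cohomology of `F(I^•)` is given by the right derived functors -/
noncomputable def homologyIso [HasInjectiveResolutions 𝒜] (q' : ℕ) :
    (FI F I).homology (q' : ℤ) ≅ (F.rightDerived q').obj A :=
  (HomologicalComplex.homologyFunctor ℬ _ (q' : ℤ)).mapIso
      (SpExtend.mapExtendIso F I.cocomplex ComplexShape.embeddingUpNat) ≪≫
    (((F.mapHomologicalComplex (ComplexShape.up ℕ)).obj I.cocomplex).extendHomologyIso
      ComplexShape.embeddingUpNat (j := q') (j' := (q' : ℤ)) rfl) ≪≫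
    (I.isoRightDerivedObj F q').symm


/-- isomorphic objects have isomorphic `Ext` groups -/
noncomputable def extCongr [HasExt.{v} ℬ] (X₀ : ℬ) {B B' : ℬ} (e : B ≅ B') (n : ℕ) :
    Ext.{v} X₀ B n ≃+ Ext.{v} X₀ B' n where
  toFun x := x.comp (Ext.mk₀ e.hom) (add_zero n)
  invFun y := y.comp (Ext.mk₀ e.inv) (add_zero n)
  left_inv x := by
    simp only [Ext.comp_assoc_of_third_deg_zero, Ext.mk₀_comp_mk₀, Iso.hom_inv_id,
      Ext.comp_mk₀_id]
  right_inv y := by
    simp only [Ext.comp_assoc_of_third_deg_zero, Ext.mk₀_comp_mk₀, Iso.inv_hom_id,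
      Ext.comp_mk₀_id]
  map_add' x y := Ext.add_comp _ _ _ _

/-- **The Grothendieck spectral sequence for `Hom(X₀, F -)`**. -/
theorem exists_spectralSequence [HasInjectiveResolutions 𝒜] [EnoughInjectives ℬ] [HasExt.{v} ℬ]
    (X₀ : ℬ) (hF : ∀ n : ℤ, SpAcyc.Acyc X₀ (F.obj (I.cochainComplex.X n))) :
    ∃ (E : E₂CohomologicalSpectralSequence AddCommGrpCat.{v})
      (a : SpSeq.Abutment E (fun n : ℤ =>
        AddCommGrpCat.of (CohomologyClass ((CochainComplex.singleFunctor ℬ 0).obj X₀) (FI F I) n))),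
      (∀ n, a.IsFinite n) ∧ SpSeq.IsBounded E ∧
      (∀ (p' q' : ℕ), Nonempty ((E.page 2 le_rfl).X ((p' : ℤ), (q' : ℤ)) ≅
        AddCommGrpCat.of (Ext.{v} X₀ ((F.rightDerived q').obj A) p'))) ∧
      (∀ (p q : ℤ), (p < 0 ∨ q < 0) → IsZero ((E.page 2 le_rfl).X (p, q))) := by
  obtain ⟨E, a, ha, hb, hE, hz⟩ := SpGroth.exists_spectralSequence X₀ (FI F I) hF
  refine ⟨E, a, ha, hb, fun p' q' => ?_, hz⟩
  obtain ⟨e⟩ := hE p' (q' : ℤ)
  exact ⟨e ≪≫ (extCongr X₀ (homologyIso F I q') p').toAddCommGrpIso⟩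

end Groth.Agent.Helper9.SpGroth2
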