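import Mathlib

/-!
# A triangulated model of `RS : D⁺(C) ⥤ K(D)` and the homological functor `H⁰ ∘ RS`
-/

set_option autoImplicit false
set_option linter.style.haveILetI false
set_option linter.unusedSectionVars false

namespace Groth.Agent.Helper9.SpRS

open CategoryTheory Limits DerivedCategory

universe w v v' u u'

variable (C : Type u) [Category.{v} C] [Abelian C] [HasDerivedCategory.{w} C] [EnoughInjectives C]

/-- the comparison functor `K⁺(Inj C) ⥤ D⁺(C)` -/
noncomputable abbrev E : HomotopyCategory.Plus (InjectiveObject C) ⥤ DerivedCategory.Plus C :=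
  (InjectiveObject.ι C).mapHomotopyCategoryPlus ⋙ DerivedCategory.Plus.Qh

noncomputable instance : (E C).CommShift ℤ := inferInstance
instance : (E C).IsTriangulated := inferInstance

variable {C} in
lemma isKInjective (L : HomotopyCategory.Plus (InjectiveObject C)) :
    CochainComplex.IsKInjective
      (((InjectiveObject.ι C).mapHomotopyCategoryPlus.obj L).1.as) := by
  obtain ⟨n, hn⟩ := (HomotopyCategory.plus_quotient_obj_iff L.obj.as).1 L.property
  haveI : CochainComplex.IsStrictlyGE
      (((InjectiveObject.ι C).mapHomotopyCategoryPlus.obj L).1.as) n :=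
    inferInstanceAs (CochainComplex.IsStrictlyGE
      (((InjectiveObject.ι C).mapHomologicalComplex _).obj L.obj.as) n)
  exact CochainComplex.isKInjective_of_injective _ n

lemma E_map_bijective (K L : HomotopyCategory.Plus (InjectiveObject C)) :
    Function.Bijective ((E C).map : (K ⟶ L) → _) := by
  have h1 : Function.Bijective
      ((InjectiveObject.ι C).mapHomotopyCategoryPlus.map : (K ⟶ L) → _) :=
    (Functor.FullyFaithful.ofFullyFaithful
      (InjectiveObject.ι C).mapHomotopyCategoryPlus).map_bijective K L
  exact (DerivedCategory.Plus.Qh_map_bijective_of_isKInjective _ _ (isKInjective L)).comp h1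

instance : (E C).Full := ⟨fun {K L} => (E_map_bijective C K L).2⟩
instance : (E C).Faithful := ⟨fun {K L} => (E_map_bijective C K L).1⟩
instance : (E C).IsEquivalence where

/-- the equivalence `K⁺(Inj C) ≌ D⁺(C)` -/
noncomputable def eqv : HomotopyCategory.Plus (InjectiveObject C) ≌ DerivedCategory.Plus C :=
  (E C).asEquivalence

noncomputable instance : (eqv C).functor.CommShift ℤ := inferInstanceAs ((E C).CommShift ℤ)
instance : (eqv C).functor.IsTriangulated := inferInstanceAs ((E C).IsTriangulated)
noncomputable instance : (eqv C).inverse.CommShift ℤ := (eqv C).commShiftInverse ℤ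
instance : (eqv C).CommShift ℤ := (eqv C).commShift_of_functor ℤ
instance : (eqv C).IsTriangulated := Equivalence.IsTriangulated.mk' _ inferInstance
instance : (eqv C).inverse.IsTriangulated := inferInstance

variable {C} {D : Type u'} [Category.{v'} D] [Abelian D] (S : C ⥤ D) [S.Additive]

/-- a triangulated model of the right derived functor `D⁺(C) ⥤ K(D)` -/
noncomputable def RS : DerivedCategory.Plus C ⥤ HomotopyCategory D (ComplexShape.up ℤ) :=
  (eqv C).inverse ⋙ (InjectiveObject.ι C).mapHomotopyCategoryPlus ⋙
    S.mapHomotopyCategoryPlus ⋙ HomotopyCategory.Plus.ι D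

noncomputable instance : (RS S).CommShift ℤ := by
  dsimp only [RS]
  infer_instance

instance : (RS S).IsTriangulated := by
  dsimp only [RS]
  infer_instance

/-- the homological functor `H⁰ ∘ RS` -/
noncomputable def Φ : DerivedCategory.Plus C ⥤ D :=
  RS S ⋙ HomotopyCategory.homologyFunctor D (ComplexShape.up ℤ) 0

instance : (Φ S).IsHomological := by
  dsimp only [Φ]
  infer_instance

noncomputable instance : (Φ S).ShiftSequence ℤ := by
  dsimp only [Φ]
  infer_instance

lemma Φ_shift (n : ℤ) :
    (Φ S).shift n = RS S ⋙ HomotopyCategory.homologyFunctor D (ComplexShape.up ℤ) n := rfl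

/-- the value of `Hⁿ ∘ RS` on the image of an object of `K⁺(Inj C)` -/
noncomputable def shiftObjIso (n : ℤ) (L' : HomotopyCategory.Plus (InjectiveObject C)) :
    ((Φ S).shift n).obj ((E C).obj L') ≅
      (HomotopyCategory.homologyFunctor D (ComplexShape.up ℤ) n).obj
        ((HomotopyCategory.Plus.ι D).obj (S.mapHomotopyCategoryPlus.obj
          ((InjectiveObject.ι C).mapHomotopyCategoryPlus.obj L'))) :=
  (HomotopyCategory.homologyFunctor D _ n).mapIso ((HomotopyCategory.Plus.ι D).mapIso
    (S.mapHomotopyCategoryPlus.mapIso ((InjectiveObject.ι C).mapHomotopyCategoryPlus.mapIso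
      ((eqv C).unitIso.symm.app L'))))

/-- the value of `Hⁿ ∘ RS` on a bounded below complex of injective objects -/
noncomputable def shiftQIso (n : ℤ) (L : CochainComplex.Plus (InjectiveObject C)) :
    ((Φ S).shift n).obj (DerivedCategory.Plus.Q.obj
        ((InjectiveObject.ι C).mapCochainComplexPlus.obj L)) ≅
      ((S.mapHomologicalComplex (ComplexShape.up ℤ)).obj
        ((InjectiveObject.ι C).mapCochainComplexPlus.obj L).obj).homology n :=
  shiftObjIso S n ((HomotopyCategory.Plus.quotient (InjectiveObject C)).obj L) ≪≫
    (HomotopyCategory.homologyFunctorFactors D (ComplexShape.up ℤ) n).app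
      ((S.mapHomologicalComplex (ComplexShape.up ℤ)).obj
        ((InjectiveObject.ι C).mapCochainComplexPlus.obj L).obj)

/-- lift of a bounded below complex with injective terms -/
noncomputable def liftInj (J : CochainComplex.Plus C) (hJ : ∀ n, Injective (J.obj.X n)) :
    CochainComplex.Plus (InjectiveObject C) :=
  ⟨HomologicalComplex.liftObjectProperty _ J.obj hJ, by
    obtain ⟨n, hn⟩ := J.property
    refine ⟨n, ?_⟩
    rwa [← CochainComplex.isStrictlyGE_mapHomologicalComplex_obj_iff _ (InjectiveObject.ι _)]⟩

/-- a bounded below complex with injective terms comes from `C⁺(Inj C)` -/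
noncomputable def liftInjIso (J : CochainComplex.Plus C) (hJ : ∀ n, Injective (J.obj.X n)) :
    J ≅ (InjectiveObject.ι C).mapCochainComplexPlus.obj (liftInj J hJ) :=
  (CochainComplex.Plus.fullyFaithfulι C).preimageIso
    (HomologicalComplex.Hom.isoOfComponents (fun n => Iso.refl _) (by
      intro i j _
      exact (Category.id_comp _).trans (Category.comp_id _).symm))

/-- the value of `Hⁿ ∘ RS` on a bounded below complex with injective terms -/
noncomputable def shiftQIso' (n : ℤ) (J : CochainComplex.Plus C)
    (hJ : ∀ n, Injective (J.obj.X n)) :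
    ((Φ S).shift n).obj (DerivedCategory.Plus.Q.obj J) ≅
      ((S.mapHomologicalComplex (ComplexShape.up ℤ)).obj J.obj).homology n :=
  ((Φ S).shift n).mapIso (DerivedCategory.Plus.Q.mapIso (liftInjIso J hJ)) ≪≫
    shiftQIso S n (liftInj J hJ) ≪≫
    (HomologicalComplex.homologyFunctor D _ n).mapIso
      ((S.mapHomologicalComplex (ComplexShape.up ℤ)).mapIso
        ((CochainComplex.Plus.ι C).mapIso (liftInjIso J hJ).symm))

end Groth.Agent.Helper9.SpRS
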