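import Mathlib
import Groth.Prelude.Def_SpSeq
import Groth.Agent.Helper1.Leray
import Groth.Agent.Helper1.RAcyc
import Groth.Agent.Helper9.SpConvC
import Groth.Agent.Helper9.SpMapHom
import Groth.Agent.Helper9.SpGroth2
import Groth.Agent.Helper9.SpFinal
import Groth.Agent.Helper9.SpRS
import Groth.Agent.Helper9.SpDP

/-!
# The Grothendieck spectral sequence of a composite of functors
-/

set_option autoImplicit false
set_option linter.style.haveILetI false
set_option linter.unusedSectionVars false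

namespace Groth.Agent.Helper9.SpGS

open CategoryTheory Limits Abelian Opposite CategoryTheory.Pretriangulated ComposableArrows
open DerivedCategory
open Groth.Agent.Helper9 Groth.Agent.Helper1

universe v u

variable {ℬ : Type u} [Category.{v} ℬ] [Abelian ℬ] [EnoughInjectives ℬ]
  {𝒞 : Type u} [Category.{v} 𝒞] [Abelian 𝒞]
  (S : ℬ ⥤ 𝒞) [S.Additive]

attribute [local instance] HasDerivedCategory.standard

section General

variable (K : DerivedCategory.Plus ℬ)

/-- the spectral object `H^n(a ≤ b) = Hⁿ(RS(τ_{≥ a} τ_{< b} K))` -/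
noncomputable def Y : Abelian.SpectralObject 𝒞 EInt :=
  SpMapHom.mapHomological ((SpDP.tP ℬ).spectralObject K) (SpRS.Φ S)

lemma Y_H_obj (n : ℤ) (D : ComposableArrows EInt 1) :
    ((Y S K).H n).obj D = ((SpRS.Φ S).shift n).obj (((SpDP.tP ℬ).ω₁.obj D).obj K) := rfl

/-- `Hⁿ(RS X) = 0` if `X` is concentrated in degrees `> n` -/
lemma isZero_shift_obj (X : DerivedCategory.Plus ℬ) (n m : ℤ) (hnm : n < m)
    [(SpDP.tP ℬ).IsGE X m] : IsZero (((SpRS.Φ S).shift n).obj X) := by
  obtain ⟨L, hL, ⟨e⟩⟩ := DerivedCategory.Plus.exists_injective_nonempty_iso X m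
  refine IsZero.of_iso ?_ (((SpRS.Φ S).shift n).mapIso e.symm ≪≫ SpRS.shiftQIso S n L)
  rw [← HomologicalComplex.exactAt_iff_isZero_homology]
  apply ShortComplex.exact_of_isZero_X₂
  haveI : CochainComplex.IsStrictlyGE ((InjectiveObject.ι ℬ).mapCochainComplexPlus.obj L).obj m :=
    inferInstanceAs (CochainComplex.IsStrictlyGE
      (((InjectiveObject.ι ℬ).mapHomologicalComplex (.up ℤ)).obj L.obj) m)
  exact S.map_isZero (CochainComplex.isZero_of_isStrictlyGE _ m n hnm)

instance [(SpDP.tP ℬ).IsGE K 0] : (Y S K).IsFirstQuadrant where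
  isZero₁ i j hij hj n := by
    rw [Y_H_obj]
    apply Functor.map_isZero
    show IsZero (((SpDP.tP ℬ).eTruncGE.obj i).obj (((SpDP.tP ℬ).eTruncLT.obj j).obj K))
    exact ((SpDP.tP ℬ).eTruncGE.obj i).map_isZero ((SpDP.tP ℬ).isZero_eTruncLT_obj_obj K 0 j hj)
  isZero₂ i j hij n hi := by
    rw [Y_H_obj]
    haveI : (SpDP.tP ℬ).IsGE (((SpDP.tP ℬ).ω₁.obj (mk₁ (homOfLE hij))).obj K) (n + 1) := by
      show (SpDP.tP ℬ).IsGE (((SpDP.tP ℬ).eTruncGE.obj i).obj
        (((SpDP.tP ℬ).eTruncLT.obj j).obj K)) (n + 1)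
      refine (SpDP.tP ℬ).isGE_eTruncGE_obj_obj (n + 1) i ?_ _
      induction i using WithBotTop.rec with
      | bot => simp at hi
      | coe i =>
        rw [WithBotTop.coe_lt_coe] at hi
        rw [WithBotTop.coe_le_coe]
        lia
      | top => exact le_top
    exact isZero_shift_obj S _ n (n + 1) (by lia)

/-- `Hⁿ(RS(-))` on an object with a given injective resolution -/
noncomputable def shiftIsoOfQuasiIso (n : ℤ) {K₀ J : CochainComplex.Plus ℬ}
    (hJ : ∀ n, Injective (J.obj.X n)) (r : K₀ ⟶ J) [QuasiIso r.hom] :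
    ((SpRS.Φ S).shift n).obj (DerivedCategory.Plus.Q.obj K₀) ≅
      ((S.mapHomologicalComplex (ComplexShape.up ℤ)).obj J.obj).homology n :=
  haveI : IsIso (DerivedCategory.Plus.Q.map r) := RFLes.isIso_P_map r
  ((SpRS.Φ S).shift n).mapIso (asIso (DerivedCategory.Plus.Q.map r)) ≪≫ SpRS.shiftQIso' S n J hJ

omit [EnoughInjectives ℬ] in
/-- `A[0]` in `D⁺` is the image of the single complex -/
noncomputable def singleObjIso (H : ℬ) :
    (DerivedCategory.Plus.singleFunctor ℬ 0).obj H ≅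
      DerivedCategory.Plus.Q.obj (Acyc.singleP H) :=
  DerivedCategory.Plus.ι.preimageIso
    ((DerivedCategory.Plus.singleFunctorιIso ℬ 0).app H ≪≫
      (DerivedCategory.singleFunctorIsoCompQ ℬ 0).app H ≪≫
      (RFLes.ιPIso (Acyc.singleP H)).symm)

/-- `Hᵖ(RS(A[0])) ≅ RᵖS(A)` -/
noncomputable def shiftSingleIso [HasInjectiveResolutions ℬ] (p' : ℕ) (H : ℬ) :
    ((SpRS.Φ S).shift (p' : ℤ)).obj ((DerivedCategory.Plus.singleFunctor ℬ 0).obj H) ≅
      (S.rightDerived p').obj H :=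
  let IH : InjectiveResolution H := Classical.choice (HasInjectiveResolution.out)
  haveI : QuasiIso (Acyc.resMap IH).hom := inferInstanceAs (QuasiIso IH.ι')
  ((SpRS.Φ S).shift (p' : ℤ)).mapIso (singleObjIso H) ≪≫
  shiftIsoOfQuasiIso S (p' : ℤ) (J := Acyc.resP IH)
    (fun n => inferInstanceAs (Injective (IH.cochainComplex.X n))) (Acyc.resMap IH) ≪≫
    SpGroth2.homologyIso S IH p'

lemma nonempty_E2Iso [HasInjectiveResolutions ℬ] [(SpDP.tP ℬ).IsGE K 0] (p' : ℕ) (q : ℤ) :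
    Nonempty (((Y S K).E₂SpectralSequence.page 2 le_rfl).X ((p' : ℤ), q) ≅
      (S.rightDerived p').obj ((DerivedCategory.Plus.homologyFunctor ℬ q).obj K)) := by
  obtain ⟨eT⟩ := SpDP.nonempty_truncIso K q
  let Hq := (DerivedCategory.Plus.homologyFunctor ℬ q).obj K
  let e1 := ((SpRS.Φ S).shift ((p' : ℤ) + q)).mapIso eT
  let e2 := ((SpRS.Φ S).shift ((p' : ℤ) + q)).mapIso
    (((DerivedCategory.Plus.singleFunctors ℬ).shiftIso (-q) q 0 (by lia)).app Hq).symm
  let e3 := ((SpRS.Φ S).shiftIso (-q) ((p' : ℤ) + q) (p' : ℤ) (by lia)).app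
    ((DerivedCategory.Plus.singleFunctor ℬ 0).obj Hq)
  exact ⟨SpConvC.pageTwoIso (Y S K) ((p' : ℤ), q) ≪≫ e1 ≪≫ e2 ≪≫ e3 ≪≫ shiftSingleIso S p' Hq⟩

end General

section Abut

variable {𝒜 : Type u} [Category.{v} 𝒜] [Abelian 𝒜] [HasInjectiveResolutions 𝒜]
  [HasInjectiveResolutions ℬ] [PreservesFiniteLimits S]
  (T : 𝒜 ⥤ ℬ) [T.Additive] {A : 𝒜} (I : InjectiveResolution A)

/-- the complex `T(I^•)` as a bounded below complex -/
noncomputable abbrev Lp : CochainComplex.Plus ℬ := ⟨SpGroth2.FI T I, 0, inferInstance⟩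

/-- the object `RT(A)` of `D⁺(ℬ)` -/
noncomputable abbrev KT : DerivedCategory.Plus ℬ := DerivedCategory.Plus.Q.obj (Lp T I)

instance : (SpDP.tP ℬ).IsGE (KT T I) 0 := by
  refine (DerivedCategory.Plus.isGE_ι_obj_iff (KT T I) 0).1 ?_
  exact (DerivedCategory.TStructure.t).isGE_of_iso (RFLes.ιPIso (Lp T I)).symm 0

/-- the cohomology of `RT(A)` -/
noncomputable def homologyKTIso (q' : ℕ) :
    (DerivedCategory.Plus.homologyFunctor ℬ (q' : ℤ)).obj (KT T I) ≅ (T.rightDerived q').obj A :=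
  (DerivedCategory.homologyFunctor ℬ (q' : ℤ)).mapIso (RFLes.ιPIso (Lp T I)) ≪≫
    (DerivedCategory.homologyFunctorFactors ℬ (q' : ℤ)).app (SpGroth2.FI T I) ≪≫
    SpGroth2.homologyIso T I q'

lemma nonempty_abutIso (hT : ∀ n, RAcyc.RA S (T.obj (I.cochainComplex.X n))) (n' : ℕ) :
    Nonempty (SpConvB.Hn (Y S (KT T I)) (n' : ℤ) ≅ ((T ⋙ S).rightDerived n').obj A) := by
  obtain ⟨L, hL, r, hr⟩ := CochainComplex.Plus.exists_quasiIso_injective (Lp T I) 0
  haveI : QuasiIso r.hom := hr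
  have hJ : ∀ n, Injective (((InjectiveObject.ι ℬ).mapCochainComplexPlus.obj L).obj.X n) :=
    fun n => inferInstanceAs (Injective (L.obj.X n).obj)
  haveI hq : QuasiIso ((S.mapHomologicalComplex (ComplexShape.up ℤ)).map r.hom) :=
    (Acyc.unit_iso_iff_quasiIso S hJ r).1
      (Leray.leray S (Lp T I) (fun n => (RAcyc.RA_iff S _).1 (hT n)))
  let e1 : SpConvB.Hn (Y S (KT T I)) (n' : ℤ) ≅
      ((S.mapHomologicalComplex (ComplexShape.up ℤ)).obj
        ((InjectiveObject.ι ℬ).mapCochainComplexPlus.obj L).obj).homology (n' : ℤ) :=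
    shiftIsoOfQuasiIso S (n' : ℤ) hJ r
  let e2 := asIso (HomologicalComplex.homologyMap
    ((S.mapHomologicalComplex (ComplexShape.up ℤ)).map r.hom) (n' : ℤ))
  let e3 : ((S.mapHomologicalComplex (ComplexShape.up ℤ)).obj (SpGroth2.FI T I)).homology (n' : ℤ) ≅
      (SpGroth2.FI (T ⋙ S) I).homology (n' : ℤ) := Iso.refl _
  exact ⟨e1 ≪≫ e2.symm ≪≫ e3 ≪≫ SpGroth2.homologyIso (T ⋙ S) I n'⟩

lemma isZero_abut_of_neg (n : ℤ) (hn : n < 0) : IsZero (SpConvB.Hn (Y S (KT T I)) n) :=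
  isZero_shift_obj S (KT T I) n 0 hn

end Abut

end Groth.Agent.Helper9.SpGS

namespace Groth.Agent.Helper9.SpGS

open CategoryTheory Limits ZeroObject
open Groth.Agent.Helper9 Groth.Agent.Helper1

universe v u

lemma enoughInjectives_of_hasInjectiveResolutions {ℬ : Type u} [Category.{v} ℬ] [Abelian ℬ]
    [HasInjectiveResolutions ℬ] : EnoughInjectives ℬ where
  presentation X := by
    let I : InjectiveResolution X := Classical.choice (HasInjectiveResolution.out)
    have h : Mono (I.ι.f 0) := inferInstance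
    exact ⟨⟨I.cocomplex.X 0, inferInstance, I.ι.f 0, h⟩⟩

/-- **The Grothendieck spectral sequence** (existence form). -/
theorem grothendieck {C C' C'' : Type u} [Category.{v} C] [Category.{v} C'] [Category.{v} C'']
    [Abelian C] [Abelian C'] [Abelian C''] [HasInjectiveResolutions C] [HasInjectiveResolutions C']
    (T : C ⥤ C') [T.Additive] (S : C' ⥤ C'') [S.Additive] [PreservesFiniteLimits S]
    (hT : ∀ Q : C, Injective Q → ∀ q : ℕ, 0 < q → IsZero ((S.rightDerived q).obj (T.obj Q)))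
    (A : C) :
    ∃ (E : E₂CohomologicalSpectralSequence C'')
      (a : SpSeq.Abutment E (fun n : ℤ =>
        if 0 ≤ n then ((T ⋙ S).rightDerived n.toNat).obj A else 0)),
      (∀ n, a.IsFinite n) ∧ SpSeq.IsBounded E ∧
      ∀ p q : ℤ, Nonempty ((E.page 2 le_rfl).X (p, q) ≅
        (if 0 ≤ p ∧ 0 ≤ q then (S.rightDerived p.toNat).obj ((T.rightDerived q.toNat).obj A)
          else 0)) := by
  haveI : EnoughInjectives C' := enoughInjectives_of_hasInjectiveResolutions
  let I : InjectiveResolution A := Classical.choice (HasInjectiveResolution.out)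
  obtain ⟨a, ha⟩ := SpConvC.exists_abutment (Y S (KT T I))
    (fun n : ℤ => SpConvB.Hn (Y S (KT T I)) n) (fun n => Iso.refl _)
  refine ⟨(Y S (KT T I)).E₂SpectralSequence, SpFinal.exists_final _ _ a ha (SpConvC.isBounded _)
    (fun p' q' => (S.rightDerived p').obj ((T.rightDerived q').obj A)) ?_ ?_
    (fun n' => ((T ⋙ S).rightDerived n').obj A) 0 0 (isZero_zero _) (isZero_zero _)
    (fun n' => nonempty_abutIso S T I (fun n => hT _ inferInstance) n')
    (fun n hn => isZero_abut_of_neg S T I n hn)⟩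
  · intro p' q'
    obtain ⟨e⟩ := nonempty_E2Iso S (KT T I) p' (q' : ℤ)
    exact ⟨e ≪≫ (S.rightDerived p').mapIso (homologyKTIso T I q')⟩
  · rintro p q (hp | hq)
    · exact SpConvC.isZero_page_of_fst_neg _ 2 le_rfl (p, q) hp
    · exact SpConvC.isZero_page_of_snd_neg _ 2 le_rfl (p, q) hq

end Groth.Agent.Helper9.SpGS
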