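import Mathlib
import Groth.Prelude.Def_SpSeq
import Groth.Prelude.Def_ModSite2
import Groth.Prelude.Def_Coh
import Groth.Agent.Helper9.SheafHomAcyc
import Groth.Agent.Helper9.RpushCmp
import Groth.Agent.Helper9.PushAcyc
import Groth.Agent.Helper9.SpGS
import Groth.Agent.Helper1.DeltaComp

/-!
# The spectral sequence `R^a g_* (ℰxt^b_f(F, G)) ⇒ ℰxt^{a+b}_{gf}(F, G)` of relative Ext sheaves
-/

set_option autoImplicit false
set_option linter.style.haveILetI false
set_option linter.unusedSectionVars false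

namespace Groth.Agent.Helper9.SpRelExt

open CategoryTheory Limits Abelian Opposite AlgebraicGeometry TopologicalSpace ZeroObject
open Groth.Agent.Helper9 Groth.Agent.Helper1

universe u

variable {X Y Z : Scheme.{u}} (f : X ⟶ Y) (g : Y ⟶ Z)

instance (f : X ⟶ Y) :
    PreservesFiniteLimits ((Opens.map f.base).sheafPullback (Type u)
      (Opens.grothendieckTopology Y) (Opens.grothendieckTopology X)) :=
  ModSite.RMor.exact_of_flat (Opens.map f.base)

lemma isZero_of_isZero_tA {W : Z.Modules} (h : IsZero ((RpushCmp.tA Z).obj W)) : IsZero W := by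
  haveI : (RpushCmp.tA Z).Faithful :=
    inferInstanceAs ((SheafOfModules.toSheaf.{u} Z.ringCatSheaf).Faithful)
  rw [IsZero.iff_id_eq_zero]
  apply (RpushCmp.tA Z).map_injective
  exact h.eq_of_src _ _

variable [HasInjectiveResolutions Y.Modules]

/-- direct images of internal homs into injectives are acyclic for direct images -/
theorem isZero_Rpush (F Q : ModSite.Mod X.sheaf) [ModSite.HasSheafHom F] [Injective Q]
    (q : ℕ) (hq : 0 < q) :
    IsZero ((Coh.Rpush g q).obj ((Coh.push f).obj ((ModSite.sheafHom F).obj Q))) := by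
  obtain ⟨q, rfl⟩ : ∃ q' : ℕ, q = q' + 1 := ⟨q - 1, by lia⟩
  apply isZero_of_isZero_tA
  obtain ⟨e⟩ := RpushCmp.nonempty_iso g (q + 1)
    ((Coh.push f).obj ((ModSite.sheafHom F).obj Q))
  refine IsZero.of_iso ?_ e
  have h1 : CohCx.IsTotallyAcyclic ((RpushCmp.tA X).obj ((ModSite.sheafHom F).obj Q)) :=
    SheafHomAcyc.totallyAcyclic_sheafHom X.sheaf F Q
  have h2 := PushAcyc.totallyAcyclic_push (K := Opens.grothendieckTopology Y)
    (Opens.map f.base) _ h1
  exact SiteCoh.isZero_Rpush_of_isTotallyAcyclic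
    (Opens.grothendieckTopology Y) (Opens.grothendieckTopology Z) (Opens.map g.base) h2 q

/-- **The spectral sequence of relative Ext sheaves for a composite** (existence form). -/
theorem main (F G : X.Modules)
    [ModSite.HasSheafHom (O := X.sheaf) F] [HasInjectiveResolutions (ModSite.Mod X.sheaf)]
    [(ModSite.sheafHom (O := X.sheaf) F ⋙ Scheme.Modules.pushforward f).Additive]
    [(ModSite.sheafHom (O := X.sheaf) F ⋙ Scheme.Modules.pushforward (f ≫ g)).Additive] :
    ∃ (E : E₂CohomologicalSpectralSequence Z.Modules)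
      (a : SpSeq.Abutment E (fun n : ℤ =>
        if 0 ≤ n then ((ModSite.sheafHom (O := X.sheaf) F ⋙
          Scheme.Modules.pushforward (f ≫ g)).rightDerived n.toNat).obj G else (0 : Z.Modules))),
      (∀ n : ℤ, a.IsFinite n) ∧ SpSeq.IsBounded E ∧
      ∀ p q : ℤ, Nonempty ((E.page 2 le_rfl).X (p, q) ≅
        (if 0 ≤ p ∧ 0 ≤ q then (Coh.Rpush g p.toNat).obj (((ModSite.sheafHom (O := X.sheaf) F ⋙
          Scheme.Modules.pushforward f).rightDerived q.toNat).obj G)
          else (0 : Z.Modules))) := by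
  obtain ⟨E, a, ha, hb, hE⟩ := SpGS.grothendieck (C := ModSite.Mod X.sheaf) (C' := Y.Modules)
    (C'' := Z.Modules)
    (ModSite.sheafHom (O := X.sheaf) F ⋙ Scheme.Modules.pushforward f)
    (Scheme.Modules.pushforward g)
    (fun Q hQ q hq => isZero_Rpush f g F Q q hq) G
  let i : (ModSite.sheafHom (O := X.sheaf) F ⋙ Scheme.Modules.pushforward f) ⋙
      Scheme.Modules.pushforward g ≅
      ModSite.sheafHom (O := X.sheaf) F ⋙ Scheme.Modules.pushforward (f ≫ g) :=
    Functor.associator _ _ _ ≪≫
      Functor.isoWhiskerLeft _ (Scheme.Modules.pushforwardComp f g)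
  let e : ∀ n : ℤ, (if 0 ≤ n then
      (((ModSite.sheafHom (O := X.sheaf) F ⋙ Scheme.Modules.pushforward f) ⋙
        Scheme.Modules.pushforward g).rightDerived n.toNat).obj G else 0) ≅
      (if 0 ≤ n then ((ModSite.sheafHom (O := X.sheaf) F ⋙
          Scheme.Modules.pushforward (f ≫ g)).rightDerived n.toNat).obj G else (0 : Z.Modules)) :=
    fun n =>
    if hn : 0 ≤ n then
      eqToIso (if_pos hn) ≪≫ (DeltaFun.rightDerivedIso i n.toNat).app G ≪≫
        eqToIso (if_pos hn).symm
    else eqToIso (if_neg hn) ≪≫ eqToIso (if_neg hn).symm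
  exact ⟨E, SpConvC.transport e a, fun n => SpConvC.transport_isFinite e a n (ha n), hb, hE⟩

end Groth.Agent.Helper9.SpRelExt
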