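import Mathlib
import Groth.Prelude.Def_ModSite
import Groth.Agent.Helper9.TensorAdj
import Groth.Agent.Helper9.TensorFlat

/-!
# The associator of the tensor product of sheaves of modules, as an isomorphism of trifunctors
-/

set_option autoImplicit false
set_option linter.style.haveILetI false
set_option linter.unusedSectionVars false

namespace Groth.Agent.Helper9.TensorAssoc3

open CategoryTheory MonoidalCategory Opposite Limits
  Groth.Agent.Helper9.TensorSh Groth.Agent.Helper9.TensorAdj Groth.Agent.Helper9.TensorFlat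

universe u

variable {C : Type u} [SmallCategory C] {J : GrothendieckTopology C} {O : Sheaf J CommRingCat.{u}}

/-- the presheaf underlying the sheafification -/
noncomputable abbrev sh (P : PM O) : PM O := (ι O).obj ((a O).obj P)

lemma η_naturality {P P' : PM O} (f : P ⟶ P') :
    f ≫ η O P' = η O P ≫ (ι O).map ((a O).map f) :=
  (adj O).unit.naturality f

/-- the first leg -/
noncomputable abbrev legA (P Q R : PM O) :
    (a O).obj ((P ⊗ Q) ⊗ R) ⟶ (a O).obj (sh (P ⊗ Q) ⊗ R) :=
  (a O).map (η O (P ⊗ Q) ▷ R)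

/-- the last leg -/
noncomputable abbrev legC (P Q R : PM O) :
    (a O).obj (P ⊗ (Q ⊗ R)) ⟶ (a O).obj (P ⊗ sh (Q ⊗ R)) :=
  (a O).map (P ◁ η O (Q ⊗ R))

instance (P Q R : PM O) : IsIso (legA P Q R) := isIso_a_map_whiskerRight _ _

instance (P Q R : PM O) : IsIso (legC P Q R) := isIso_a_map_whiskerLeft _ _

/-- the associator on objects -/
noncomputable def assocP (P Q R : PM O) :
    (a O).obj (sh (P ⊗ Q) ⊗ R) ≅ (a O).obj (P ⊗ sh (Q ⊗ R)) :=
  (asIso (legA P Q R)).symm ≪≫ (a O).mapIso (α_ P Q R) ≪≫ asIso (legC P Q R)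

lemma legA_assocP_hom (P Q R : PM O) :
    legA P Q R ≫ (assocP P Q R).hom = (a O).map (α_ P Q R).hom ≫ legC P Q R := by
  simp [assocP]

/-- naturality in the third variable -/
lemma nat3P (P Q : PM O) {R R' : PM O} (γ : R ⟶ R') :
    (a O).map (sh (P ⊗ Q) ◁ γ) ≫ (assocP P Q R').hom =
      (assocP P Q R).hom ≫ (a O).map (P ◁ (ι O).map ((a O).map (Q ◁ γ))) := by
  rw [← cancel_epi (legA P Q R)]
  have h1 : legA P Q R ≫ (a O).map (sh (P ⊗ Q) ◁ γ) =
      (a O).map ((P ⊗ Q) ◁ γ) ≫ legA P Q R' := by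
    rw [← Functor.map_comp, ← Functor.map_comp, whisker_exchange]
  rw [← Category.assoc, h1, Category.assoc, legA_assocP_hom, ← Category.assoc (legA P Q R),
    legA_assocP_hom, Category.assoc]
  rw [← Functor.map_comp, ← Functor.map_comp, ← Functor.map_comp, ← Functor.map_comp]
  congr 1
  rw [← Category.assoc, associator_naturality_right, Category.assoc, ← whiskerLeft_comp,
    ← whiskerLeft_comp, η_naturality]

/-- naturality in the second variable -/
lemma nat2P (P : PM O) {Q Q' : PM O} (β : Q ⟶ Q') (R : PM O) :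
    (a O).map ((ι O).map ((a O).map (P ◁ β)) ▷ R) ≫ (assocP P Q' R).hom =
      (assocP P Q R).hom ≫ (a O).map (P ◁ (ι O).map ((a O).map (β ▷ R))) := by
  rw [← cancel_epi (legA P Q R)]
  have h1 : legA P Q R ≫ (a O).map ((ι O).map ((a O).map (P ◁ β)) ▷ R) =
      (a O).map ((P ◁ β) ▷ R) ≫ legA P Q' R := by
    rw [← Functor.map_comp, ← Functor.map_comp, ← comp_whiskerRight, ← comp_whiskerRight,
      η_naturality]
  rw [← Category.assoc, h1, Category.assoc, legA_assocP_hom, ← Category.assoc (legA P Q R),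
    legA_assocP_hom, Category.assoc]
  rw [← Functor.map_comp, ← Functor.map_comp, ← Functor.map_comp, ← Functor.map_comp]
  congr 1
  rw [← Category.assoc, associator_naturality_middle, Category.assoc, ← whiskerLeft_comp,
    ← whiskerLeft_comp, η_naturality]

/-- naturality in the first variable -/
lemma nat1P {P P' : PM O} (α : P ⟶ P') (Q R : PM O) :
    (a O).map ((ι O).map ((a O).map (α ▷ Q)) ▷ R) ≫ (assocP P' Q R).hom =
      (assocP P Q R).hom ≫ (a O).map (α ▷ sh (Q ⊗ R)) := by
  rw [← cancel_epi (legA P Q R)]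
  have h1 : legA P Q R ≫ (a O).map ((ι O).map ((a O).map (α ▷ Q)) ▷ R) =
      (a O).map ((α ▷ Q) ▷ R) ≫ legA P' Q R := by
    rw [← Functor.map_comp, ← Functor.map_comp, ← comp_whiskerRight, ← comp_whiskerRight,
      η_naturality]
  rw [← Category.assoc, h1, Category.assoc, legA_assocP_hom, ← Category.assoc (legA P Q R),
    legA_assocP_hom, Category.assoc]
  rw [← Functor.map_comp, ← Functor.map_comp, ← Functor.map_comp, ← Functor.map_comp]
  congr 1
  rw [← Category.assoc, associator_naturality_left, Category.assoc, whisker_exchange]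

variable (O)

/-- the tensor bifunctor -/
noncomputable abbrev T : ModSite.Mod O ⥤ ModSite.Mod O ⥤ ModSite.Mod O := ModSite.tensorBi O

variable {O}

/-- the associator on objects -/
noncomputable def assocObj (X₁ X₂ X₃ : ModSite.Mod O) :
    ((T O).obj (((T O).obj X₁).obj X₂)).obj X₃ ≅ ((T O).obj X₁).obj (((T O).obj X₂).obj X₃) :=
  assocP ((ι O).obj X₁) ((ι O).obj X₂) ((ι O).obj X₃)

/-- the associator as an isomorphism of trifunctors -/
noncomputable def assoc3 : bifunctorComp₁₂ (T O) (T O) ≅ bifunctorComp₂₃ (T O) (T O) :=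
  NatIso.ofComponents (fun X₁ => NatIso.ofComponents (fun X₂ =>
      NatIso.ofComponents (fun X₃ => assocObj X₁ X₂ X₃)
        (fun g => nat3P ((ι O).obj X₁) ((ι O).obj X₂) ((ι O).map g)))
      (fun g => by
        refine NatTrans.ext (funext fun X₃ => ?_)
        exact nat2P ((ι O).obj X₁) ((ι O).map g) ((ι O).obj X₃)))
    (fun g => by
      refine NatTrans.ext (funext fun X₂ => ?_)
      refine NatTrans.ext (funext fun X₃ => ?_)
      exact nat1P ((ι O).map g) ((ι O).obj X₂) ((ι O).obj X₃))

lemma assoc3_hom_app (X₁ X₂ X₃ : ModSite.Mod O) :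
    (((assoc3 (O := O)).hom.app X₁).app X₂).app X₃ = (assocObj X₁ X₂ X₃).hom := rfl

end Groth.Agent.Helper9.TensorAssoc3
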