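import Mathlib
import Groth.Agent.Helper1.ExtLES

/-! `Ext^n(L A, F) ≅ Ext^n(A, R F)` for an adjunction `L ⊣ R` of abelian categories with `R` exact
and preserving injectives. -/

set_option autoImplicit false
universe w v₁ v₂ u₁ u₂

open CategoryTheory CategoryTheory.Limits Abelian

namespace Groth.Agent.Helper9.ExtAdj

open Groth.Agent.Helper1.DeltaCmp

variable {𝒜 : Type u₁} [Category.{v₁} 𝒜] [Abelian 𝒜] {ℬ : Type u₂} [Category.{v₂} ℬ] [Abelian ℬ]
  [HasExt.{w} 𝒜] [HasExt.{w} ℬ] {L : 𝒜 ⥤ ℬ} {R : ℬ ⥤ 𝒜} (adj : L ⊣ R) [L.Additive] [R.Additive]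

/-- `F ↦ Ext^n(L A, F)` -/
noncomputable abbrev T (A : 𝒜) (n : ℕ) : ℬ ⥤ AddCommGrpCat.{w} := extSeq (𝟭 ℬ) (L.obj A) n

/-- `F ↦ Ext^n(A, R F)` -/
noncomputable abbrev T' (A : 𝒜) (n : ℕ) : ℬ ⥤ AddCommGrpCat.{w} := extSeq R A n

/-- degree zero -/
noncomputable def e₀ (A : 𝒜) : T (L := L) A 0 ≅ T' (R := R) A 0 :=
  NatIso.ofComponents
    (fun F => ((Ext.addEquiv₀.trans (adj.homAddEquiv A F)).trans Ext.addEquiv₀.symm).toAddCommGrpIso)
    (by
      intro F G φ
      apply AddCommGrpCat.hom_ext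
      apply AddMonoidHom.ext
      intro x
      show Ext.addEquiv₀.symm (adj.homEquiv A G (Ext.addEquiv₀ (x.comp (Ext.mk₀ φ) (add_zero 0)))) =
        (Ext.addEquiv₀.symm (adj.homEquiv A F (Ext.addEquiv₀ x))).comp (Ext.mk₀ (R.map φ)) (add_zero 0)
      obtain ⟨f, rfl⟩ := (Ext.mk₀_bijective _ _).2 x
      rw [Ext.mk₀_comp_mk₀]
      have h1 : ∀ {X Y : ℬ} (g : X ⟶ Y), Ext.addEquiv₀ (Ext.mk₀ g) = g := by
        intro X Y g
        apply (Ext.mk₀_bijective _ _).1
        rw [Ext.mk₀_addEquiv₀_apply]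
      have h2 : ∀ {X Y : 𝒜} (g : X ⟶ Y), Ext.addEquiv₀.symm g = Ext.mk₀ g := by
        intro X Y g
        apply Ext.addEquiv₀.injective
        rw [AddEquiv.apply_symm_apply]
        apply (Ext.mk₀_bijective _ _).1
        rw [Ext.mk₀_addEquiv₀_apply]
      rw [h1, h1, h2, h2, Ext.mk₀_comp_mk₀, Adjunction.homEquiv_naturality_right]
      rfl)

include adj in
theorem nonempty_iso [EnoughInjectives ℬ] [PreservesFiniteLimits R] [PreservesFiniteColimits R]
    (hR : ∀ I : ℬ, Injective I → Injective (R.obj I)) (A : 𝒜) (n : ℕ) (F : ℬ) :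
    Nonempty ((T (L := L) A n).obj F ≅ (T' (R := R) A n).obj F) := by
  refine Groth.Agent.Helper1.DeltaCmp.nonempty_iso (T := T (L := L) A) (T' := T' (R := R) A)
    (fun _ => True) (e₀ adj A) ?_ n F trivial
  intro F _
  let S : ShortComplex ℬ :=
    ShortComplex.mk (Injective.ι F) (cokernel.π (Injective.ι F)) (cokernel.condition _)
  have hS : S.ShortExact :=
    { exact := ShortComplex.exact_cokernel _
      mono_f := by dsimp [S]; infer_instance
      epi_g := by dsimp [S]; infer_instance }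
  haveI : Injective S.X₂ := by dsimp [S]; infer_instance
  haveI : Injective (R.obj S.X₂) := hR _ inferInstance
  refine ⟨{ S := S, iso := rfl, mem := trivial, zero := ?_, zero' := ?_,
            les := hasLES_extSeq _ _ S hS, les' := hasLES_extSeq _ _ S hS }⟩
  · intro n
    have : Subsingleton ((T (L := L) A (n + 1)).obj S.X₂) :=
      subsingleton_of_forall_eq 0 fun (x : Ext.{w} (L.obj A) S.X₂ (n + 1)) =>
        Ext.eq_zero_of_injective x
    exact AddCommGrpCat.isZero_of_subsingleton _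
  · intro n
    have : Subsingleton ((T' (R := R) A (n + 1)).obj S.X₂) :=
      subsingleton_of_forall_eq 0
        fun (x : Ext.{w} A (R.obj S.X₂) (n + 1)) => Ext.eq_zero_of_injective x
    exact AddCommGrpCat.isZero_of_subsingleton _

include adj in
theorem subsingleton_iff [EnoughInjectives ℬ] [PreservesFiniteLimits R] [PreservesFiniteColimits R]
    (hR : ∀ I : ℬ, Injective I → Injective (R.obj I)) (A : 𝒜) (n : ℕ) (F : ℬ) :
    Subsingleton (Ext.{w} (L.obj A) F n) ↔ Subsingleton (Ext.{w} A (R.obj F) n) := by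
  obtain ⟨i⟩ := nonempty_iso adj hR A n F
  exact i.addCommGroupIsoToAddEquiv.toEquiv.subsingleton_congr

end Groth.Agent.Helper9.ExtAdj
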