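import Mathlib
import Groth.Prelude.Def_CohCx
import Groth.Agent.Helper9.ModCechExt

/-!
# `Ext_O(O, M) ≅ H(C, M_ab)`
-/

namespace Groth.Agent.Helper9.ModUnitExt

open CategoryTheory Limits Opposite Abelian Groth.Agent.Helper9.CechNerveRes
  Groth.Agent.Helper9.ModCechRes

universe u w

section General

variable {A : Type*} [Category A] [Abelian A] [HasExt.{w} A]

/-- `Ext` groups only depend on the isomorphism class of the first variable -/
noncomputable def extPrecompIso {X X' : A} (e : X ≅ X') (Y : A) (n : ℕ) :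
    Ext.{w} X' Y n ≃+ Ext.{w} X Y n where
  toFun x := (Ext.mk₀ e.hom).comp x (zero_add n)
  invFun x := (Ext.mk₀ e.inv).comp x (zero_add n)
  left_inv x := by
    dsimp only
    rw [← Ext.comp_assoc _ _ _ (add_zero 0) (zero_add n) (by omega), Ext.mk₀_comp_mk₀,
      e.inv_hom_id, Ext.mk₀_id_comp]
  right_inv x := by
    dsimp only
    rw [← Ext.comp_assoc _ _ _ (add_zero 0) (zero_add n) (by omega), Ext.mk₀_comp_mk₀,
      e.hom_inv_id, Ext.mk₀_id_comp]
  map_add' x y := Ext.comp_add _ _ _ _

end General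

variable {C : Type u} [SmallCategory C] (J : GrothendieckTopology C) (R : Sheaf J RingCat.{u})

/-- the terminal sheaf of sets -/
abbrev Kt : Sheaf J (Type u) := Sheaf.terminal J Types.isTerminalPUnit

/-- the free abelian group on a point -/
noncomputable def eZ : AddCommGrpCat.of (ULift.{u} ℤ) ≅ AddCommGrpCat.free.obj PUnit.{u + 1} :=
  (AddEquiv.ulift.trans (FreeAbelianGroup.uniqueEquiv PUnit.{u + 1}).symm).toAddCommGrpIso

/-- the constant sheaf `ℤ` is the free abelian sheaf on the terminal sheaf of sets -/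
noncomputable def isoZ :
    (constantSheaf J AddCommGrpCat.{u}).obj (AddCommGrpCat.of (ULift ℤ)) ≅ (Φ J).obj (Kt J) :=
  (presheafToSheaf J AddCommGrpCat.{u}).mapIso
    (((Functor.const _).mapIso eZ) ≪≫ (Functor.constComp _ _ _).symm)

/-- the section `1` of the structure sheaf -/
noncomputable def one : (Kt J).obj ⟶ (ModFree.G R).obj (SheafOfModules.unit R) where
  app U := TypeCat.ofHom (fun _ => (1 : R.obj.obj U))
  naturality U V g := by
    ext x
    exact (map_one (R.obj.map g).hom).symm

/-- `O[pt]^# ⟶ O` -/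
noncomputable def a : (Φm R).obj (Kt J) ⟶ SheafOfModules.unit R :=
  ((ModFree.adjL R).homEquiv _ _).symm (one J R)

/-- the tautological section of `O[pt]^#` -/
noncomputable def sec : ((Φm R).obj (Kt J)).sections :=
  (Functor.sectionsEquivHom _ PUnit.{u + 1}).symm ((ModFree.adjL R).unit.app (Kt J).obj)

/-- `O ⟶ O[pt]^#` -/
noncomputable def b : SheafOfModules.unit R ⟶ (Φm R).obj (Kt J) :=
  (SheafOfModules.unitHomEquiv _).symm (sec J R)

lemma b_a : b J R ≫ a J R = 𝟙 _ := by
  apply (SheafOfModules.unitHomEquiv _).injective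
  rw [SheafOfModules.unitHomEquiv_comp_apply]
  unfold b
  rw [Equiv.apply_symm_apply]
  ext U
  have h : (ModFree.adjL R).homEquiv _ _ (a J R) = one J R := Equiv.apply_symm_apply _ _
  rw [Adjunction.homEquiv_unit] at h
  have h' := congrArg (fun t => t.app U PUnit.unit) h
  exact h'

lemma a_b : a J R ≫ b J R = 𝟙 _ := by
  apply ((ModFree.adjL R).homEquiv _ _).injective
  rw [Adjunction.homEquiv_naturality_right]
  have h : (ModFree.adjL R).homEquiv _ _ (a J R) = one J R := Equiv.apply_symm_apply _ _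
  have hid : (ModFree.G R).map (𝟙 ((Φm R).obj (Kt J))) = 𝟙 _ := (ModFree.G R).map_id _
  rw [h, Adjunction.homEquiv_unit, hid]
  refine Eq.trans ?_ (Category.comp_id _).symm
  ext U x
  have h1 : SheafOfModules.unitHomEquiv _ (b J R) = sec J R := Equiv.apply_symm_apply _ _
  have h2 := congrArg (fun t => t.val U) h1
  exact h2

/-- `O ≅ O[pt]^#` -/
noncomputable def isoU : SheafOfModules.unit R ≅ (Φm R).obj (Kt J) where
  hom := b J R
  inv := a J R
  hom_inv_id := b_a J R
  inv_hom_id := a_b J R

theorem nonempty_addEquiv [HasExt.{u} (SheafOfModules.{u} R)] (M : SheafOfModules.{u} R) (n : ℕ) :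
    Nonempty (Ext.{u} (SheafOfModules.unit R) M n ≃+
      Sheaf.H.{u} ((SheafOfModules.toSheaf R).obj M) n) := by
  obtain ⟨e⟩ := ModCechExt.nonempty_addEquiv R (Kt J) M n
  exact ⟨((extPrecompIso (isoU J R).symm M n).trans e).trans
    (extPrecompIso (isoZ J) ((SheafOfModules.toSheaf R).obj M) n)⟩

end Groth.Agent.Helper9.ModUnitExt
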