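import Mathlib
import Groth.Prelude.Def_ModSite
import Groth.Agent.Helper9.ShriekSh
import Groth.Agent.Helper3.SheafModLib

/-!
# Restriction to `C/X` is exact and preserves injectives
-/

namespace Groth.Agent.Helper9.RestrExact

open CategoryTheory Opposite Limits Groth.Agent.Helper9.ShriekSh

universe u

variable {C : Type u} [SmallCategory C] {J : GrothendieckTopology C} (O : Sheaf J CommRingCat.{u})
  (X : C)

instance additive_restr : (ModSite.restr O X).Additive where

instance preservesFiniteLimits_restr : PreservesFiniteLimits (ModSite.restr O X) := by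
  haveI : PreservesLimitsOfSize.{0, 0} (ModSite.restr O X) :=
    (ModSite.extZeroAdj O X).rightAdjoint_preservesLimits
  exact PreservesLimitsOfSize.preservesFiniteLimits _

lemma epi_restr_map {M N : ModSite.Mod O} (f : M ⟶ N) [Epi f] :
    Epi ((ModSite.restr O X).map f) := by
  haveI : PreservesFiniteColimits (SheafOfModules.toSheaf.{u} (ModSite.ringSh O)) := by
    haveI := Groth.Agent.Helper3.SheafModLib.toSheaf_preservesColimits (ModSite.ringSh O)
    exact PreservesColimitsOfSize.preservesFiniteColimits _
  haveI : Epi ((SheafOfModules.toSheaf.{u} (ModSite.ringSh O)).map f) := inferInstance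
  haveI hls : Sheaf.IsLocallySurjective ((SheafOfModules.toSheaf.{u} (ModSite.ringSh O)).map f) :=
    (Sheaf.isLocallySurjective_iff_epi'
      (φ := (SheafOfModules.toSheaf.{u} (ModSite.ringSh O)).map f)).2 inferInstance
  haveI : Sheaf.IsLocallySurjective
      ((SheafOfModules.toSheaf.{u} (ModSite.ringSh (O.over X))).map
        ((ModSite.restr O X).map f)) := by
    constructor
    intro Y s
    have h := Presheaf.imageSieve_mem J
      ((SheafOfModules.toSheaf.{u} (ModSite.ringSh O)).map f).hom (U := op Y.left) s
    have hcov := J.overEquiv_symm_mem_over Y _ h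
    refine (J.over X).superset_covering ?_ hcov
    intro Y' k hk
    have hk' := (Sieve.overEquiv_symm_iff _ k).1 hk
    obtain ⟨t, ht⟩ := hk'
    exact ⟨t, ht⟩
  haveI : Epi ((SheafOfModules.toSheaf.{u} (ModSite.ringSh (O.over X))).map
      ((ModSite.restr O X).map f)) :=
    (Sheaf.isLocallySurjective_iff_epi' (φ := (SheafOfModules.toSheaf.{u}
      (ModSite.ringSh (O.over X))).map ((ModSite.restr O X).map f))).1 inferInstance
  exact (SheafOfModules.toSheaf.{u} (ModSite.ringSh (O.over X))).epi_of_epi_map
    (inferInstanceAs (Epi ((SheafOfModules.toSheaf.{u} (ModSite.ringSh (O.over X))).map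
      ((ModSite.restr O X).map f))))


instance preservesFiniteColimits_restr : PreservesFiniteColimits (ModSite.restr O X) := by
  refine ((Functor.preservesFiniteColimits_tfae (ModSite.restr O X)).out 0 3).1 ?_
  intro S hS
  haveI := hS.epi_g
  refine ⟨?_, epi_restr_map O X S.g⟩
  have h3 : PreservesFiniteLimits (ModSite.restr O X) := inferInstance
  have hc : ∀ (S : ShortComplex (ModSite.Mod O)), S.ShortExact →
      (S.map (ModSite.restr O X)).Exact ∧ Mono ((ModSite.restr O X).map S.f) :=
    ((Functor.preservesFiniteLimits_tfae (ModSite.restr O X)).out 3 0).1 h3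
  exact (hc S hS).1

/-- restriction preserves injectives -/
theorem injective_restr (I : ModSite.Mod O) [Injective I] :
    Injective ((ModSite.restr O X).obj I) := by
  haveI := preservesFiniteLimits_extZero O X
  haveI : (ModSite.extZero O X).PreservesMonomorphisms := inferInstance
  exact Injective.injective_of_adjoint (ModSite.extZeroAdj O X) I

end Groth.Agent.Helper9.RestrExact
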