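import Mathlib
import Groth.Prelude.Def_ModSite
import Groth.Agent.Helper9.ShriekSh

/-!
# Extension by zero is faithful and reflects exactness
-/

namespace Groth.Agent.Helper9.ShriekFaithful

open CategoryTheory MonoidalCategory Opposite Limits DirectSum
  Groth.Agent.Helper9.TensorLoc
  Groth.Agent.Helper9.TensorSh Groth.Agent.Helper9.FreeTensor Groth.Agent.Helper9.Shriek
  Groth.Agent.Helper9.ShriekSh

universe u

set_option backward.isDefEq.respectTransparency false

open scoped Classical

variable {C : Type u} [SmallCategory C] {J : GrothendieckTopology C} (O : Sheaf J CommRingCat.{u})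
  (X : C)

lemma inc_injective (G : PMod (SX O.obj X)) {V : C} (a : V ⟶ X) :
    Function.Injective (inc G a) :=
  DirectSum.of_injective (β := fun b : V ⟶ X => Cmp G b) a

lemma eq_zero_of_η_inc_eq_zero (G : ModSite.Mod (O.over X)) {V : C} (a : V ⟶ X)
    (y : Cmp ((ιX O X).obj G) a)
    (h : (η O (sh ((ιX O X).obj G))).app (op V) (inc _ a y) = 0) : y = 0 := by
  obtain ⟨S, hS, hS'⟩ := locInj_η (sh ((ιX O X).obj G)) V (inc _ a y) h
  have hsh : Presieve.IsSheaf (J.over X) (G.val.presheaf ⋙ forget AddCommGrpCat) :=
    (isSheaf_iff_isSheaf_of_type (J.over X) _).1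
      ((Presheaf.isSheaf_iff_isSheaf_forget (J.over X) G.val.presheaf
        (forget AddCommGrpCat)).1 G.isSheaf)
  have hcov : (Sieve.overEquiv (Over.mk a)).symm S ∈ (J.over X) (Over.mk a) :=
    J.overEquiv_symm_mem_over (Over.mk a) S hS
  refine (hsh.isSeparated _ hcov).ext (t₁ := (y : G.val.obj (op (Over.mk a))))
    (t₂ := (0 : G.val.obj (op (Over.mk a)))) ?_
  intro Y' k hk
  have hk' : S k.left := (Sieve.overEquiv_symm_iff S k).1 hk
  have h1 := hS' k.left hk'
  rw [sh_res, rmap_inc] at h1
  have h2 := inc_res_eq ((ιX O X).obj G) (b := Y'.hom) (b' := k.left ≫ a) k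
    (Over.homMk k.left : Over.mk (k.left ≫ a) ⟶ Over.mk a) rfl y
  have h3 : inc ((ιX O X).obj G) Y'.hom (res ((ιX O X).obj G) k.op y) = 0 := h2.trans h1
  have h4 : res ((ιX O X).obj G) k.op y = 0 :=
    inc_injective O X _ Y'.hom (h3.trans (map_zero _).symm)
  exact h4.trans (map_zero (res ((ιX O X).obj G) k.op)).symm


lemma η_naturality {P P' : PM O} (f : P ⟶ P') (V : C) (x : P.obj (op V)) :
    (η O P').app (op V) (f.app (op V) x) =
      ((ι O).map ((a O).map f)).app (op V) ((η O P).app (op V) x) := by
  have h := (adj O).unit.naturality f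
  have h' := congrArg (fun φ => (PresheafOfModules.Hom.app φ (op V)).hom x) h
  exact h'

lemma η_inc_map {G G' : ModSite.Mod (O.over X)} (f : G ⟶ G') {V : C} (a : V ⟶ X)
    (x : Cmp ((ιX O X).obj G) a) :
    (η O (sh ((ιX O X).obj G'))).app (op V)
        (inc _ a (((ιX O X).map f).app (op (Over.mk a)) x)) =
      ((ι O).map ((ext O X).map f)).app (op V)
        ((η O (sh ((ιX O X).obj G))).app (op V) (inc _ a x)) := by
  rw [← shF_map_inc]
  exact η_naturality O ((shF O.obj X).map ((ιX O X).map f)) V (inc _ a x)

instance faithful_ext : (ext O X).Faithful where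
  map_injective {G G'} f f' h := by
    apply SheafOfModules.Hom.ext
    apply PresheafOfModules.Hom.ext
    funext Y
    induction Y using Opposite.rec with | _ Y
    apply ModuleCat.hom_ext
    apply LinearMap.ext
    intro x
    have e1 := η_inc_map O X f Y.hom x
    have e2 := η_inc_map O X f' Y.hom x
    rw [h] at e1
    have e3 := e1.trans e2.symm
    have key : ∀ u v : Cmp ((ιX O X).obj G') Y.hom,
        (η O (sh ((ιX O X).obj G'))).app (op Y.left) (inc _ Y.hom u) =
          (η O (sh ((ιX O X).obj G'))).app (op Y.left) (inc _ Y.hom v) → u = v := by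
      intro u v huv
      have h0 : (η O (sh ((ιX O X).obj G'))).app (op Y.left) (inc _ Y.hom (u - v)) = 0 := by
        rw [map_sub, map_sub, huv, sub_self]
      exact sub_eq_zero.1 (eq_zero_of_η_inc_eq_zero O X G' Y.hom _ h0)
    exact key _ _ e3

instance additive_restr' : (ModSite.restr O X).Additive where

instance faithful_extZero : (ModSite.extZero O X).Faithful :=
  Functor.Faithful.of_iso (extZeroIso O X).symm

/-- `j_!` reflects exactness -/
theorem exact_of_exact_map (S : ShortComplex (ModSite.Mod (O.over X)))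
    (h : (S.map (ModSite.extZero O X)).Exact) : S.Exact := by
  haveI := preservesFiniteLimits_extZero O X
  haveI : (ModSite.extZero O X).Additive :=
    (ModSite.extZeroAdj O X).left_adjoint_additive
  haveI : PreservesColimitsOfSize.{0, 0} (ModSite.extZero O X) :=
    (ModSite.extZeroAdj O X).leftAdjoint_preservesColimits
  haveI : PreservesFiniteColimits (ModSite.extZero O X) :=
    PreservesColimitsOfSize.preservesFiniteColimits _
  exact (ShortComplex.exact_map_iff_of_faithful S (ModSite.extZero O X)).1 h

end Groth.Agent.Helper9.ShriekFaithful
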