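import Mathlib
import Groth.Agent.Helper9.Shriek

/-!
# The projection formula for extension by zero of presheaves of modules
-/

namespace Groth.Agent.Helper9.ShriekProj

open CategoryTheory MonoidalCategory Opposite Limits DirectSum TensorProduct
  Groth.Agent.Helper9.TensorLoc Groth.Agent.Helper9.FreeTensor Groth.Agent.Helper9.Shriek

universe u

set_option backward.isDefEq.respectTransparency false

open scoped Classical

variable {C : Type u} [SmallCategory C] {R : Cᵒᵖ ⥤ CommRingCat.{u}} {X : C}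
  (G : PMod (SX R X)) (Q : PMod R)

/-- `x ⊗ q ↦ [x]_a ⊗ q` -/
noncomputable def θApp (Y : Over X) :
    (G ⊗ (pf R X).obj Q).obj (op Y) →ₗ[R.obj (op Y.left)] (sh G ⊗ Q).obj (op Y.left) :=
  LinearMap.rTensor (Q.obj (op Y.left)) (inc G Y.hom)

lemma θApp_tmul (Y : Over X) (x : G.obj (op Y)) (q : Q.obj (op Y.left)) :
    θApp G Q Y (x ⊗ₜ q) = (inc G Y.hom x ⊗ₜ q : (sh G ⊗ Q).obj (op Y.left)) := rfl


lemma θApp_res {Y Y' : Over X} (k : Y' ⟶ Y) (z : (G ⊗ (pf R X).obj Q).obj (op Y)) :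
    θApp G Q Y' (res (G ⊗ (pf R X).obj Q) k.op z) =
      res (sh G ⊗ Q) k.left.op (θApp G Q Y z) := by
  induction z using TensorProduct.induction_on with
  | zero => simp only [map_zero]
  | add s t hs ht => simp only [map_add, hs, ht]
  | tmul x q =>
    rw [res_tmul, θApp_tmul, θApp_tmul, res_tmul, sh_res, rmap_inc]
    have h := inc_res_eq G (b := Y'.hom) (b' := k.left ≫ Y.hom) k
      (Over.homMk k.left : Over.mk (k.left ≫ Y.hom) ⟶ Over.mk Y.hom) rfl x
    have h' : rs G k.left Y.hom x = res G (Over.homMk k.left :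
      Over.mk (k.left ≫ Y.hom) ⟶ Over.mk Y.hom).op x := rfl
    rw [h']
    exact congrArg (fun s : Sec G Y'.left =>
      (s ⊗ₜ (res Q k.left.op q) : (sh G ⊗ Q).obj (op Y'.left))) h

/-- the morphism `G ⊗ Q|_X ⟶ (j_! G ⊗ Q)|_X` -/
noncomputable def θ : G ⊗ (pf R X).obj Q ⟶ (pf R X).obj (sh G ⊗ Q) where
  app Y := ModuleCat.ofHom (X := (G ⊗ (pf R X).obj Q).obj Y)
    (Y := ((pf R X).obj (sh G ⊗ Q)).obj Y)
    { toFun := fun z => θApp G Q Y.unop z
      map_add' := fun z z' => map_add (θApp G Q Y.unop) z z'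
      map_smul' := fun (r : R.obj (op Y.unop.left)) z => map_smul (θApp G Q Y.unop) r z }
  naturality {Y Y'} k := by
    apply ModuleCat.hom_ext
    apply LinearMap.ext
    intro z
    exact θApp_res G Q k.unop z

/-- the comparison morphism of the projection formula -/
noncomputable def ψ : sh (G ⊗ (pf R X).obj Q) ⟶ sh G ⊗ Q := bwd (θ G Q)


/-- the sectionwise inverse -/
noncomputable def L (V : C) :
    Sec (G ⊗ (pf R X).obj Q) V ≃ₗ[R.obj (op V)] (sh G ⊗ Q).obj (op V) :=
  (TensorProduct.directSumLeft (R.obj (op V)) (R.obj (op V)) (fun a : V ⟶ X => Cmp G a)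
    (Q.obj (op V))).symm

lemma ψ_app_eq (V : C) (s : Sec (G ⊗ (pf R X).obj Q) V) :
    (ψ G Q).app (op V) s = L G Q V s := by
  induction s using sec_induction with
  | zero => simp only [map_zero]
  | add s t hs ht => simp only [map_add, hs, ht]
  | single a z =>
    show bwdApp (θ G Q) V (inc _ a z) = _
    rw [bwdApp_inc]
    exact (TensorProduct.directSumLeft_symm_of (R := R.obj (op V)) (S := R.obj (op V))
      (M₁ := fun a : V ⟶ X => Cmp G a) (M₂' := Q.obj (op V)) (i := a) z).symm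


instance isIso_ψ : IsIso (ψ G Q) := by
  haveI : Mono (ψ G Q) := by
    apply PresheafOfModules.mono_of_injective
    intro V
    induction V using Opposite.rec with | _ V
    intro s t h
    apply (L G Q V).injective
    rw [← ψ_app_eq, ← ψ_app_eq]
    exact h
  haveI : Epi (ψ G Q) := by
    apply PresheafOfModules.epi_of_surjective
    intro V
    induction V using Opposite.rec with | _ V
    intro t
    obtain ⟨s, hs⟩ := (L G Q V).surjective t
    exact ⟨s, (ψ_app_eq G Q V s).trans hs⟩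
  exact isIso_of_mono_of_epi _

/-- a generator of `j_!(G ⊗ Q|_X)` -/
noncomputable def gen₂ {V : C} (a : V ⟶ X) (x : G.obj (op (Over.mk a))) (q : Q.obj (op V)) :
    (sh (G ⊗ (pf R X).obj Q)).obj (op V) :=
  inc (G ⊗ (pf R X).obj Q) a (x ⊗ₜ q : (G ⊗ (pf R X).obj Q).obj (op (Over.mk a)))

lemma ψ_gen₂ {V : C} (a : V ⟶ X) (x : G.obj (op (Over.mk a))) (q : Q.obj (op V)) :
    (ψ G Q).app (op V) (gen₂ G Q a x q) = (inc G a x ⊗ₜ q : (sh G ⊗ Q).obj (op V)) := by
  show bwdApp (θ G Q) V (inc _ a _) = _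
  rw [bwdApp_inc]
  rfl

variable {G Q} in
lemma hom_ext_gen₂ {T : PMod R} (u v : sh (G ⊗ (pf R X).obj Q) ⟶ T)
    (h : ∀ (V : C) (a : V ⟶ X) (x : G.obj (op (Over.mk a))) (q : Q.obj (op V)),
      u.app (op V) (gen₂ G Q a x q) = v.app (op V) (gen₂ G Q a x q)) : u = v := by
  apply PresheafOfModules.Hom.ext
  funext V
  induction V using Opposite.rec with | _ V
  apply ModuleCat.hom_ext
  apply LinearMap.ext
  intro s
  induction s using sec_induction with
  | zero => simp only [map_zero]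
  | add s t hs ht => simp only [map_add, hs, ht]
  | single a z =>
    induction z using TensorProduct.induction_on with
    | zero => simp only [map_zero]
    | add z z' hz hz' => simp only [map_add, hz, hz']
    | tmul x q => exact h V a x q


lemma whiskerLeft_app_tmul {D : Type u} [SmallCategory D] {S : Dᵒᵖ ⥤ CommRingCat.{u}}
    (N : PMod S) {P P' : PMod S} (φ : P ⟶ P') (Y : Dᵒᵖ) (n : N.obj Y) (p : P.obj Y) :
    (N ◁ φ).app Y (n ⊗ₜ p) = n ⊗ₜ φ.app Y p := rfl

lemma shF_map_gen₂_left {G G' : PMod (SX R X)} (f : G ⟶ G') (Q : PMod R) {V : C} (a : V ⟶ X)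
    (x : G.obj (op (Over.mk a))) (q : Q.obj (op V)) :
    ((shF R X).map (f ▷ (pf R X).obj Q)).app (op V) (gen₂ G Q a x q) =
      gen₂ G' Q a (f.app (op (Over.mk a)) x) q := by
  unfold gen₂
  rw [shF_map_inc]
  rfl

lemma shF_map_gen₂_right (G : PMod (SX R X)) {Q Q' : PMod R} (β : Q ⟶ Q') {V : C} (a : V ⟶ X)
    (x : G.obj (op (Over.mk a))) (q : Q.obj (op V)) :
    ((shF R X).map (G ◁ (pf R X).map β)).app (op V) (gen₂ G Q a x q) =
      gen₂ G Q' a x (β.app (op V) q) := by
  unfold gen₂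
  rw [shF_map_inc]
  rfl

lemma ψ_naturality_left {G G' : PMod (SX R X)} (f : G ⟶ G') (Q : PMod R) :
    (shF R X).map (f ▷ (pf R X).obj Q) ≫ ψ G' Q = ψ G Q ≫ ((shF R X).map f ▷ Q) := by
  apply hom_ext_gen₂
  intro V a x q
  show (ψ G' Q).app (op V) (((shF R X).map (f ▷ (pf R X).obj Q)).app (op V) (gen₂ G Q a x q)) =
    ((shF R X).map f ▷ Q).app (op V) ((ψ G Q).app (op V) (gen₂ G Q a x q))
  rw [shF_map_gen₂_left, ψ_gen₂, ψ_gen₂, whiskerRight_app_tmul, shF_map_inc]

lemma ψ_naturality_right (G : PMod (SX R X)) {Q Q' : PMod R} (β : Q ⟶ Q') :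
    (shF R X).map (G ◁ (pf R X).map β) ≫ ψ G Q' = ψ G Q ≫ (sh G ◁ β) := by
  apply hom_ext_gen₂
  intro V a x q
  show (ψ G Q').app (op V) (((shF R X).map (G ◁ (pf R X).map β)).app (op V) (gen₂ G Q a x q)) =
    (sh G ◁ β).app (op V) ((ψ G Q).app (op V) (gen₂ G Q a x q))
  rw [shF_map_gen₂_right, ψ_gen₂, ψ_gen₂, whiskerLeft_app_tmul]


variable (R X) in
/-- the projection formula, natural in the module on `C/X` -/
noncomputable def projA (Q : PMod R) :
    tensorRight ((pf R X).obj Q) ⋙ shF R X ≅ shF R X ⋙ tensorRight Q :=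
  NatIso.ofComponents (fun G => asIso (ψ G Q)) (fun f => ψ_naturality_left f Q)

/-- the projection formula, natural in the module on `C` -/
noncomputable def projB (G : PMod (SX R X)) :
    pf R X ⋙ tensorLeft G ⋙ shF R X ≅ tensorLeft (sh G) :=
  NatIso.ofComponents (fun Q => asIso (ψ G Q)) (fun β => ψ_naturality_right G β)

end Groth.Agent.Helper9.ShriekProj
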