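import Mathlib
import Groth.Prelude.Def_ModSite
import Groth.Agent.Helper9.ShriekProj
import Groth.Agent.Helper9.ShriekFaithful
import Groth.Agent.Helper9.TensorAdj
import Groth.Agent.Helper9.TensorFlat
import Groth.Agent.Helper9.TensorFree

/-!
# The projection formula for extension by zero of sheaves of modules
-/

namespace Groth.Agent.Helper9.ShriekProjSh

open CategoryTheory MonoidalCategory Opposite Limits
  Groth.Agent.Helper9.TensorSh Groth.Agent.Helper9.TensorAdj Groth.Agent.Helper9.TensorFlat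
  Groth.Agent.Helper9.FreeTensor Groth.Agent.Helper9.Shriek
  Groth.Agent.Helper9.ShriekSh Groth.Agent.Helper9.ShriekProj Groth.Agent.Helper9.ShriekFaithful

universe u

variable {C : Type u} [SmallCategory C] {J : GrothendieckTopology C} (O : Sheaf J CommRingCat.{u})
  (X : C)

/-- the right adjoints agree -/
noncomputable def commR : ModSite.restr O X ⋙ ι' (O.over X) ≅ ι' O ⋙ pf O.obj X :=
  NatIso.ofComponents (fun N => Iso.refl _) (by
    intro N N' f
    rfl)

/-- sheafifying on `C/X` then extending by zero is extending by zero then sheafifying -/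
noncomputable def cmpIso : a (O.over X) ⋙ ext O X ≅ shF O.obj X ⋙ a O :=
  ((adj (O.over X)).comp (extAdj O X)).leftAdjointUniq
    (((shAdj O.obj X).comp (adj O)).ofNatIsoRight (commR O X).symm)

/-- `- ⊗ N` in terms of presheaves -/
noncomputable def TNIso (N : ModSite.Mod O) : TN N ≅ ι O ⋙ tensorRight ((ι O).obj N) ⋙ a O :=
  NatIso.ofComponents (fun M => Iso.refl _) (by
    intro M M' f
    rw [TN_map]
    exact (Category.comp_id _).trans (Category.id_comp _).symm)


/-- the explicit form of the projection formula, natural in the module on `C/X` -/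
noncomputable def projExtA (N : ModSite.Mod O) :
    TN ((ModSite.restr O X).obj N) ⋙ ext O X ≅ ext O X ⋙ TN N :=
  let e1 : TN ((ModSite.restr O X).obj N) ⋙ ext O X ≅
      (ιX O X ⋙ tensorRight ((pf O.obj X).obj ((ι O).obj N))) ⋙ (a (O.over X) ⋙ ext O X) :=
    Functor.isoWhiskerRight (TNIso (O.over X) ((ModSite.restr O X).obj N)) (ext O X)
  let e2 : (ιX O X ⋙ tensorRight ((pf O.obj X).obj ((ι O).obj N))) ⋙ (a (O.over X) ⋙ ext O X) ≅
      (ιX O X ⋙ tensorRight ((pf O.obj X).obj ((ι O).obj N))) ⋙ (shF O.obj X ⋙ a O) :=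
    Functor.isoWhiskerLeft _ (cmpIso O X)
  let e3 : (ιX O X ⋙ tensorRight ((pf O.obj X).obj ((ι O).obj N))) ⋙ (shF O.obj X ⋙ a O) ≅
      ιX O X ⋙ (shF O.obj X ⋙ tensorRight ((ι O).obj N)) ⋙ a O :=
    Functor.isoWhiskerLeft (ιX O X)
      (Functor.isoWhiskerRight (projA O.obj X ((ι O).obj N)) (a O))
  let e4 : ιX O X ⋙ (shF O.obj X ⋙ tensorRight ((ι O).obj N)) ⋙ a O ≅
      (ιX O X ⋙ shF O.obj X) ⋙ (a O ⋙ TN N) :=
    Functor.isoWhiskerLeft (ιX O X ⋙ shF O.obj X) (isoG N)
  e1 ≪≫ e2 ≪≫ e3 ≪≫ e4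

/-- the projection formula, natural in the module on `C/X` -/
noncomputable def projShA (N : ModSite.Mod O) :
    TN ((ModSite.restr O X).obj N) ⋙ ModSite.extZero O X ≅ ModSite.extZero O X ⋙ TN N :=
  Functor.isoWhiskerLeft _ (extZeroIso O X) ≪≫ projExtA O X N ≪≫
    Functor.isoWhiskerRight (extZeroIso O X).symm (TN N)

/-- the projection formula `j_!(P ⊗ j^*N) ≅ j_!P ⊗ N` -/
theorem nonempty_proj_iso (P : ModSite.Mod (O.over X)) (N : ModSite.Mod O) :
    Nonempty ((ModSite.extZero O X).obj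
        (((ModSite.tensorBi (O.over X)).obj P).obj ((ModSite.restr O X).obj N)) ≅
      ((ModSite.tensorBi O).obj ((ModSite.extZero O X).obj P)).obj N) :=
  ⟨(projShA O X N).app P⟩

end Groth.Agent.Helper9.ShriekProjSh
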