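import Mathlib
import Groth.Prelude.Def_ModSite
import Groth.Agent.Helper9.ShriekProjSh

/-!
# Restriction commutes with the internal Hom
-/

namespace Groth.Agent.Helper9.ShriekHom

open CategoryTheory MonoidalCategory Opposite Limits
  Groth.Agent.Helper9.TensorSh Groth.Agent.Helper9.TensorAdj Groth.Agent.Helper9.TensorFlat
  Groth.Agent.Helper9.ShriekProjSh

universe u

section Yoneda

variable {A : Type*} [Category A] {P Q : A}

/-- an isomorphism from a natural bijection of the represented functors -/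
def isoOfNatEquiv' (e : ∀ G : A, (G ⟶ P) ≃ (G ⟶ Q))
    (nat : ∀ {G G' : A} (g : G' ⟶ G) (h : G ⟶ P), e G' (g ≫ h) = g ≫ e G h) : P ≅ Q where
  hom := e P (𝟙 P)
  inv := (e Q).symm (𝟙 Q)
  hom_inv_id := by
    apply (e P).injective
    rw [nat, Equiv.apply_symm_apply, Category.comp_id]
  inv_hom_id := by
    rw [← nat, Category.comp_id, Equiv.apply_symm_apply]

end Yoneda

variable {C : Type u} [SmallCategory C] {J : GrothendieckTopology C} (O : Sheaf J CommRingCat.{u})
  (X : C) (M N : ModSite.Mod O) [ModSite.HasSheafHom M]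
  [ModSite.HasSheafHom ((ModSite.restr O X).obj M)]

/-- `Hom(G, j^* Hom(M, N)) ≃ Hom(G, Hom(j^*M, j^*N))` -/
noncomputable def E (G : ModSite.Mod (O.over X)) :
    (G ⟶ (ModSite.restr O X).obj ((ModSite.sheafHom M).obj N)) ≃
      (G ⟶ (ModSite.sheafHom ((ModSite.restr O X).obj M)).obj ((ModSite.restr O X).obj N)) :=
  (((ModSite.extZeroAdj O X).homEquiv G ((ModSite.sheafHom M).obj N)).symm.trans
    (((ModSite.sheafHomAdj M).homEquiv ((ModSite.extZero O X).obj G) N).symm.trans
      (((projShA O X M).app G).symm.homFromEquiv))).trans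
    (((ModSite.extZeroAdj O X).homEquiv _ N).trans
      ((ModSite.sheafHomAdj ((ModSite.restr O X).obj M)).homEquiv G ((ModSite.restr O X).obj N)))

lemma E_nat {G G' : ModSite.Mod (O.over X)} (g : G' ⟶ G)
    (h : G ⟶ (ModSite.restr O X).obj ((ModSite.sheafHom M).obj N)) :
    E O X M N G' (g ≫ h) = g ≫ E O X M N G h := by
  unfold E
  simp only [Equiv.trans_apply, Iso.homFromEquiv_apply]
  rw [Adjunction.homEquiv_naturality_left_symm, Adjunction.homEquiv_naturality_left_symm]
  have h1 := (projShA O X M).hom.naturality g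
  simp only [Iso.symm_inv, Iso.app_hom]
  rw [← Category.assoc]
  erw [← h1]
  rw [Category.assoc]
  erw [Adjunction.homEquiv_naturality_left, Adjunction.homEquiv_naturality_left]

theorem nonempty_restr_sheafHom_iso :
    Nonempty ((ModSite.restr O X).obj ((ModSite.sheafHom M).obj N) ≅
      (ModSite.sheafHom ((ModSite.restr O X).obj M)).obj ((ModSite.restr O X).obj N)) :=
  ⟨isoOfNatEquiv' (E O X M N) (E_nat O X M N)⟩

end Groth.Agent.Helper9.ShriekHom
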