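import Mathlib
import Groth.Prelude.Def_ModSite
import Groth.Prelude.Def_ModSite2
import Groth.Agent.Helper9.ShriekHom
import Groth.Agent.Helper9.RestrExact
import Groth.Agent.Helper9.ModCechExt
import Groth.Agent.Helper1.DeltaComp

/-!
# Restriction commutes with the internal Hom (naturally) and with the local Ext sheaves
-/

namespace Groth.Agent.Helper9.ShriekHomNat

open CategoryTheory MonoidalCategory Opposite Limits
  Groth.Agent.Helper9.ShriekProjSh Groth.Agent.Helper9.ShriekHom Groth.Agent.Helper9.RestrExact

universe u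

variable {C : Type u} [SmallCategory C] {J : GrothendieckTopology C} (O : Sheaf J CommRingCat.{u})
  (X : C) (M : ModSite.Mod O) [ModSite.HasSheafHom M]
  [ModSite.HasSheafHom ((ModSite.restr O X).obj M)]

lemma E_nat_right {N N' : ModSite.Mod O} (β : N ⟶ N') (G : ModSite.Mod (O.over X))
    (h : G ⟶ (ModSite.restr O X).obj ((ModSite.sheafHom M).obj N)) :
    E O X M N' G (h ≫ (ModSite.restr O X).map ((ModSite.sheafHom M).map β)) =
      E O X M N G h ≫ (ModSite.sheafHom ((ModSite.restr O X).obj M)).map
        ((ModSite.restr O X).map β) := by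
  unfold E
  simp only [Equiv.trans_apply, Iso.homFromEquiv_apply]
  rw [Adjunction.homEquiv_naturality_right_symm, Adjunction.homEquiv_naturality_right_symm,
    ← Category.assoc, Adjunction.homEquiv_naturality_right, Adjunction.homEquiv_naturality_right]

/-- `j^* Hom(M, -) ≅ Hom(j^*M, j^* -)` -/
noncomputable def restrSheafHomIso :
    ModSite.sheafHom M ⋙ ModSite.restr O X ≅
      ModSite.restr O X ⋙ ModSite.sheafHom ((ModSite.restr O X).obj M) :=
  NatIso.ofComponents (fun N => isoOfNatEquiv' (E O X M N) (E_nat O X M N)) (by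
    intro N N' β
    show (ModSite.restr O X).map ((ModSite.sheafHom M).map β) ≫ E O X M N' _ (𝟙 _) =
      E O X M N _ (𝟙 _) ≫ (ModSite.sheafHom ((ModSite.restr O X).obj M)).map
        ((ModSite.restr O X).map β)
    rw [← E_nat_right, ← E_nat, Category.id_comp, Category.comp_id])


open Groth.Agent.Helper1.DeltaFun

theorem nonempty_extSh_restr_iso [HasInjectiveResolutions (ModSite.Mod O)]
    [HasInjectiveResolutions (ModSite.Mod (O.over X))] (q : ℕ) :
    Nonempty (ModSite.extSh M q ⋙ ModSite.restr O X ≅
      ModSite.restr O X ⋙ ModSite.extSh ((ModSite.restr O X).obj M) q) := by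
  haveI : EnoughInjectives (ModSite.Mod O) :=
    Groth.Agent.Helper9.ModCechExt.enoughInjectives_mod (ModSite.ringSh O)
  haveI : PreservesFiniteLimits (ModSite.sheafHom M) := by
    haveI : PreservesLimitsOfSize.{0, 0} (ModSite.sheafHom M) :=
      (ModSite.sheafHomAdj M).rightAdjoint_preservesLimits
    exact PreservesLimitsOfSize.preservesFiniteLimits _
  haveI : PreservesFiniteLimits (ModSite.sheafHom ((ModSite.restr O X).obj M)) := by
    haveI : PreservesLimitsOfSize.{0, 0} (ModSite.sheafHom ((ModSite.restr O X).obj M)) :=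
      (ModSite.sheafHomAdj ((ModSite.restr O X).obj M)).rightAdjoint_preservesLimits
    exact PreservesLimitsOfSize.preservesFiniteLimits _
  -- step 1
  let T : DeltaFunctor (ModSite.Mod O) (ModSite.Mod (O.over X)) :=
    (rightDerivedDelta (ModSite.sheafHom M)).postcomp (ModSite.restr O X)
  have hT : T.Effaceable := fun I _ n =>
    Functor.map_isZero (ModSite.restr O X)
      (Functor.isZero_rightDerived_obj_injective_succ (ModSite.sheafHom M) n I)
  haveI : PreservesFiniteLimits (ModSite.sheafHom M ⋙ ModSite.restr O X) :=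
    comp_preservesFiniteLimits _ _
  have e0 : T.T 0 ≅ (rightDerivedDelta (ModSite.sheafHom M ⋙ ModSite.restr O X)).T 0 :=
    Functor.isoWhiskerRight (ModSite.sheafHom M).rightDerivedZeroIsoSelf (ModSite.restr O X) ≪≫
      (ModSite.sheafHom M ⋙ ModSite.restr O X).rightDerivedZeroIsoSelf.symm
  obtain ⟨i1⟩ := nonempty_iso_of_effaceable T
    (rightDerivedDelta (ModSite.sheafHom M ⋙ ModSite.restr O X)) hT
    (rightDerivedDelta_effaceable _) e0 q
  -- step 2
  have i2 := rightDerivedIso (restrSheafHomIso O X M) q
  -- step 3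
  haveI : PreservesFiniteLimits
      (ModSite.restr O X ⋙ ModSite.sheafHom ((ModSite.restr O X).obj M)) :=
    comp_preservesFiniteLimits _ _
  obtain ⟨i3⟩ := nonempty_iso_rightDerived_comp (ModSite.restr O X)
    (fun S hS => hS.map_of_exact (ModSite.restr O X))
    (ModSite.sheafHom ((ModSite.restr O X).obj M))
    (ModSite.restr O X ⋙ ModSite.sheafHom ((ModSite.restr O X).obj M)) (Iso.refl _)
    (fun I _ n => by
      haveI := injective_restr O X I
      exact Functor.isZero_rightDerived_obj_injective_succ _ n _) q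
  exact ⟨i1 ≪≫ i2 ≪≫ i3⟩

end Groth.Agent.Helper9.ShriekHomNat
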