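import Mathlib
import Groth.Prelude.Def_SGA6

/-! The resolution theorem for `K₀`: the level filtration and the Euler characteristic. -/

set_option autoImplicit false
universe v u

open CategoryTheory CategoryTheory.Limits

namespace Groth.Agent.Helper9.ResThm

variable {C : Type u} [Category.{v} C] [Abelian C]

section basics

/-- the relation in `K0sub`. -/
lemma clSub_add (P : ObjectProperty C) (S : ShortComplex C) (hS : S.ShortExact)
    (h₁ : P S.X₁) (h₂ : P S.X₂) (h₃ : P S.X₃) :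
    KZero.clSub P S.X₂ = KZero.clSub P S.X₁ + KZero.clSub P S.X₃ := by
  classical
  rw [KZero.clSub, KZero.clSub, KZero.clSub, dif_pos h₁, dif_pos h₂, dif_pos h₃]
  have hmem : FreeAbelianGroup.of (⟨S.X₂, h₂⟩ : Subtype P) -
      FreeAbelianGroup.of ⟨S.X₁, h₁⟩ - FreeAbelianGroup.of ⟨S.X₃, h₃⟩ ∈ KZero.relSub P :=
    AddSubgroup.subset_closure ⟨S, h₁, h₂, h₃, hS, rfl⟩
  have := (QuotientAddGroup.eq_zero_iff _).mpr hmem
  rw [QuotientAddGroup.mk_sub, QuotientAddGroup.mk_sub, sub_sub, sub_eq_zero] at this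
  exact this

/-- the sequence `0 → ker f → ker (f ≫ g) → ker g → 0`. -/
noncomputable def kerSeq {X Y Z : C} (f : X ⟶ Y) (g : Y ⟶ Z) : ShortComplex C :=
  ShortComplex.mk (kernel.map f (f ≫ g) (𝟙 _) g (by simp))
    (kernel.map (f ≫ g) g f (𝟙 _) (by simp)) (by
      rw [← cancel_mono (kernel.ι g)]
      simp)

/-- the short exact sequence `0 → ker f → ker (f ≫ g) → ker g → 0` for `f` epi. -/
lemma shortExact_kerSeq {X Y Z : C} (f : X ⟶ Y) (g : Y ⟶ Z) [Epi f] :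
    (kerSeq f g).ShortExact := by
  have hex : (kerSeq f g).Exact := (kernelCokernelCompSequence.snakeInput f g).L₀_exact
  have hmono : Mono (kerSeq f g).f := by
    dsimp [kerSeq]
    infer_instance
  have hepi : Epi (kerSeq f g).g := by
    dsimp [kerSeq]
    rw [epi_iff_surjective_up_to_refinements]
    intro T y
    obtain ⟨T', π, hπ, x₀, hx₀⟩ := surjective_up_to_refinements_of_epi f (y ≫ kernel.ι g)
    refine ⟨T', π, hπ, kernel.lift (f ≫ g) x₀ ?_, ?_⟩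
    · rw [← Category.assoc, ← hx₀]
      simp
    · rw [← cancel_mono (kernel.ι g)]
      simp [hx₀]
  exact ShortComplex.ShortExact.mk' hex hmono hepi

/-- for a short exact sequence `S` and an epi `p` onto its middle term, a short exact sequence
`0 → ker p → ker (p ≫ S.g) → S.X₁ → 0`. -/
lemma exists_shortExact_kernel {L : C} (S : ShortComplex C) (hS : S.ShortExact) (p : L ⟶ S.X₂)
    [Epi p] :
    ∃ (i : kernel p ⟶ kernel (p ≫ S.g)) (q : kernel (p ≫ S.g) ⟶ S.X₁) (w : i ≫ q = 0),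
      (ShortComplex.mk i q w).ShortExact := by
  have h := shortExact_kerSeq p S.g
  let e : kernel S.g ≅ S.X₁ :=
    IsLimit.conePointUniqueUpToIso (kernelIsKernel S.g) hS.fIsKernel
  have w : (kerSeq p S.g).f ≫ (kerSeq p S.g).g ≫ e.hom = 0 :=
    ((kerSeq p S.g).zero_assoc e.hom).trans zero_comp
  refine ⟨(kerSeq p S.g).f, (kerSeq p S.g).g ≫ e.hom, w, ?_⟩
  refine ShortComplex.shortExact_of_iso
    (ShortComplex.isoMk (S₁ := kerSeq p S.g)
      (S₂ := ShortComplex.mk (kerSeq p S.g).f ((kerSeq p S.g).g ≫ e.hom) w)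
      (Iso.refl _) (Iso.refl _) e ?_ ?_) h
  · simp
  · simp

end basics


/-- the standing hypotheses of the resolution theorem (without the finiteness condition). -/
structure Hyp (P₀ P₁ : ObjectProperty C) : Prop where
  iso₀ : P₀.IsClosedUnderIsomorphisms
  iso₁ : P₁.IsClosedUnderIsomorphisms
  hle : ∀ X, P₀ X → P₁ X
  hext₀ : ∀ S : ShortComplex C, S.ShortExact → P₀ S.X₁ → P₀ S.X₃ → P₀ S.X₂
  hext₁ : ∀ S : ShortComplex C, S.ShortExact → P₁ S.X₁ → P₁ S.X₃ → P₁ S.X₂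
  h1₀ : ∀ S : ShortComplex C, S.ShortExact → P₀ S.X₂ → P₀ S.X₃ → P₀ S.X₁
  h1₁ : ∀ S : ShortComplex C, S.ShortExact → P₁ S.X₂ → P₁ S.X₃ → P₁ S.X₁
  h2 : ∀ (A B D : C) (u : A ⟶ B) (v : D ⟶ B), Epi u → P₁ A → P₁ B → P₁ D →
      ∃ (L : C) (u' : L ⟶ D) (v' : L ⟶ A), P₀ L ∧ Epi u' ∧ u' ≫ v = v' ≫ u

variable {P₀ P₁ : ObjectProperty C}

namespace Hyp

variable (H : Hyp P₀ P₁)
include H

/-- every object of `P₁` is a quotient of an object of `P₀`. -/
lemma cover (A : C) (hA : P₁ A) : ∃ (L : C) (p : L ⟶ A), Epi p ∧ P₀ L := by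
  obtain ⟨L, u', _, hL, hu', _⟩ := H.h2 A A A (𝟙 A) (𝟙 A) inferInstance hA hA hA
  exact ⟨L, u', hu', hL⟩

/-- the kernel of an epimorphism between objects of `P₀` is in `P₀`. -/
lemma kernel₀ {L A : C} (p : L ⟶ A) [Epi p] (hL : P₀ L) (hA : P₀ A) : P₀ (kernel p) :=
  H.h1₀ (ShortComplex.mk (kernel.ι p) p (kernel.condition p))
    (ShortComplex.ShortExact.mk' (ShortComplex.exact_kernel p) inferInstance inferInstance) hL hA

lemma kernel₁ {L A : C} (p : L ⟶ A) [Epi p] (hL : P₁ L) (hA : P₁ A) : P₁ (kernel p) :=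
  H.h1₁ (ShortComplex.mk (kernel.ι p) p (kernel.condition p))
    (ShortComplex.ShortExact.mk' (ShortComplex.exact_kernel p) inferInstance inferInstance) hL hA

/-- two covers have a common refinement. -/
lemma refine {A L L' : C} (hA : P₁ A) (p : L ⟶ A) (p' : L' ⟶ A) [Epi p] [Epi p']
    (hL : P₀ L) (hL' : P₀ L') :
    ∃ (L'' : C) (f : L'' ⟶ L) (f' : L'' ⟶ L'), P₀ L'' ∧ Epi f ∧ Epi f' ∧ f ≫ p = f' ≫ p' := by
  obtain ⟨L₁, u₁, v₁, hL₁, hu₁, e₁⟩ :=
    H.h2 L A L' p p' inferInstance (H.hle _ hL) hA (H.hle _ hL')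
  obtain ⟨L₂, u₂, v₂, hL₂, hu₂, e₂⟩ :=
    H.h2 L' A L p' p inferInstance (H.hle _ hL') hA (H.hle _ hL)
  refine ⟨L₁ ⊞ L₂, biprod.desc v₁ u₂, biprod.desc u₁ v₂, ?_, ?_, ?_, ?_⟩
  · exact H.hext₀ _ (ShortComplex.Splitting.ofHasBinaryBiproduct L₁ L₂).shortExact hL₁ hL₂
  · exact epi_of_epi_fac (biprod.inr_desc v₁ u₂)
  · exact epi_of_epi_fac (biprod.inl_desc u₁ v₂)
  · ext
    · simp [e₁]
    · simp [e₂]

end Hyp

/-- the level filtration: `Lvl n A` says that every `n`-th syzygy of `A` lies in `P₀`. -/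
def Lvl (P₀ P₁ : ObjectProperty C) : ℕ → C → Prop
  | 0, A => P₀ A
  | n + 1, A => P₁ A ∧ ∀ (L : C) (p : L ⟶ A), Epi p → P₀ L → Lvl P₀ P₁ n (kernel p)

namespace Hyp

variable (H : Hyp P₀ P₁)
include H

lemma lvl_p₁ : ∀ (n : ℕ) (A : C), Lvl P₀ P₁ n A → P₁ A
  | 0, A, h => H.hle A h
  | _ + 1, _, h => h.1

lemma lvl_succ : ∀ (n : ℕ) (A : C), Lvl P₀ P₁ n A → Lvl P₀ P₁ (n + 1) A
  | 0, A, h => ⟨H.hle A h, fun L p hp hL => by
      haveI := hp
      exact H.kernel₀ p hL h⟩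
  | n + 1, A, h => ⟨h.1, fun L p hp hL => lvl_succ n _ (h.2 L p hp hL)⟩

lemma lvl_mono {m n : ℕ} (hmn : m ≤ n) (A : C) (h : Lvl P₀ P₁ m A) : Lvl P₀ P₁ n A := by
  induction hmn with
  | refl => exact h
  | step _ ih => exact H.lvl_succ _ _ ih

lemma lvl_of_p₀ (n : ℕ) (A : C) (h : P₀ A) : Lvl P₀ P₁ n A :=
  H.lvl_mono (Nat.zero_le n) A h

end Hyp

open Classical in
/-- the Euler characteristic computed at level `n`. -/
noncomputable def chi (P₀ : ObjectProperty C) : ℕ → C → KZero.K0sub P₀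
  | 0, A => KZero.clSub P₀ A
  | n + 1, A =>
    if h : ∃ (L : C) (p : L ⟶ A), Epi p ∧ P₀ L then
      KZero.clSub P₀ h.choose - chi P₀ n (kernel h.choose_spec.choose)
    else 0

/-- additivity at level `n`. -/
def AddAt (P₀ P₁ : ObjectProperty C) (n : ℕ) : Prop :=
  ∀ S : ShortComplex C, S.ShortExact → Lvl P₀ P₁ n S.X₁ → Lvl P₀ P₁ n S.X₂ → Lvl P₀ P₁ n S.X₃ →
    chi P₀ n S.X₂ = chi P₀ n S.X₁ + chi P₀ n S.X₃

/-- normalisation at level `n`. -/
def NormAt (P₀ : ObjectProperty C) (n : ℕ) : Prop :=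
  ∀ L : C, P₀ L → chi P₀ n L = KZero.clSub P₀ L

/-- independence of the cover at level `n + 1`. -/
def IndepAt (P₀ P₁ : ObjectProperty C) (n : ℕ) : Prop :=
  ∀ (A L : C) (p : L ⟶ A), Lvl P₀ P₁ (n + 1) A → Epi p → P₀ L →
    chi P₀ (n + 1) A = KZero.clSub P₀ L - chi P₀ n (kernel p)

/-- stability: level `n + 1` agrees with level `n` on objects of level `n`. -/
def StabAt (P₀ P₁ : ObjectProperty C) (n : ℕ) : Prop :=
  ∀ A : C, Lvl P₀ P₁ n A → chi P₀ (n + 1) A = chi P₀ n A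

namespace Hyp

variable (H : Hyp P₀ P₁)
include H

/-- comparison of a cover with a refinement of it. -/
lemma compare (n : ℕ) (hB : AddAt P₀ P₁ n) (hD : NormAt P₀ n) {A L L'' : C}
    (hA : Lvl P₀ P₁ (n + 1) A) (p : L ⟶ A) (f : L'' ⟶ L) [Epi p] [Epi f] (hL : P₀ L)
    (hL'' : P₀ L'') :
    KZero.clSub P₀ L'' - chi P₀ n (kernel (f ≫ p)) = KZero.clSub P₀ L - chi P₀ n (kernel p) := by
  have hK : P₀ (kernel f) := H.kernel₀ f hL'' hL
  have h1 := hB (kerSeq f p) (shortExact_kerSeq f p) (H.lvl_of_p₀ n _ hK)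
    (hA.2 L'' (f ≫ p) inferInstance hL'') (hA.2 L p inferInstance hL)
  have h2 := clSub_add P₀ (ShortComplex.mk (kernel.ι f) f (kernel.condition f))
    (ShortComplex.ShortExact.mk' (ShortComplex.exact_kernel f) inferInstance inferInstance)
    hK hL'' hL
  have h3 := hD _ hK
  change chi P₀ n (kernel (f ≫ p)) = chi P₀ n (kernel f) + chi P₀ n (kernel p) at h1
  change KZero.clSub P₀ L'' = KZero.clSub P₀ (kernel f) + KZero.clSub P₀ L at h2
  rw [h1, h2, h3]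
  abel

lemma indepAt (n : ℕ) (hB : AddAt P₀ P₁ n) (hD : NormAt P₀ n) : IndepAt P₀ P₁ n := by
  intro A L p hA hp hL
  haveI := hp
  have hex : ∃ (L : C) (p : L ⟶ A), Epi p ∧ P₀ L := ⟨L, p, hp, hL⟩
  have hdef : chi P₀ (n + 1) A =
      KZero.clSub P₀ hex.choose - chi P₀ n (kernel hex.choose_spec.choose) := by
    rw [chi, dif_pos hex]
  rw [hdef]
  obtain ⟨hp₀, hL₀⟩ := hex.choose_spec.choose_spec
  generalize hex.choose_spec.choose = p₀ at hp₀ hL₀ ⊢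
  generalize hex.choose = L₀ at p₀ hp₀ hL₀ ⊢
  haveI := hp₀
  obtain ⟨L'', f, f₀, hL'', hf, hf₀, e⟩ := H.refine hA.1 p p₀ hL hL₀
  haveI := hf
  haveI := hf₀
  rw [← H.compare n hB hD hA p f hL hL'', ← H.compare n hB hD hA p₀ f₀ hL₀ hL'', e]

/-- the flexible form of independence. -/
lemma flex (n : ℕ) (hB : AddAt P₀ P₁ n) (hD : NormAt P₀ n) (hC : StabAt P₀ P₁ n)
    (S : ShortComplex C) (hS : S.ShortExact) (h₁ : Lvl P₀ P₁ n S.X₁) (h₂ : Lvl P₀ P₁ n S.X₂)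
    (h₃ : Lvl P₀ P₁ (n + 1) S.X₃) :
    chi P₀ (n + 1) S.X₃ = chi P₀ n S.X₂ - chi P₀ n S.X₁ := by
  have ha := H.indepAt n hB hD
  obtain ⟨L, p, hp, hL⟩ := H.cover S.X₂ (H.lvl_p₁ n _ h₂)
  haveI := hp
  haveI := hS.epi_g
  have h₂' := H.lvl_succ n _ h₂
  obtain ⟨i, q, w, hex⟩ := exists_shortExact_kernel S hS p
  have e1 := hB _ hex (h₂'.2 L p hp hL) (h₃.2 L (p ≫ S.g) inferInstance hL) h₁
  have e2 := ha S.X₃ L (p ≫ S.g) h₃ inferInstance hL
  have e3 := ha S.X₂ L p h₂' hp hL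
  have e4 := hC S.X₂ h₂
  change chi P₀ n (kernel (p ≫ S.g)) = chi P₀ n (kernel p) + chi P₀ n S.X₁ at e1
  rw [e2, e1, ← e4, e3]
  abel

lemma addAt_succ (n : ℕ) (hB : AddAt P₀ P₁ n) (hD : NormAt P₀ n) (hC : StabAt P₀ P₁ n) :
    AddAt P₀ P₁ (n + 1) := by
  intro S hS h₁ h₂ h₃
  have ha := H.indepAt n hB hD
  obtain ⟨L, p, hp, hL⟩ := H.cover S.X₂ h₂.1
  haveI := hp
  haveI := hS.epi_g
  obtain ⟨i, q, w, hex⟩ := exists_shortExact_kernel S hS p
  have e1 := H.flex n hB hD hC _ hex (h₂.2 L p hp hL) (h₃.2 L (p ≫ S.g) inferInstance hL) h₁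
  have e2 := ha S.X₃ L (p ≫ S.g) h₃ inferInstance hL
  have e3 := ha S.X₂ L p h₂ hp hL
  change chi P₀ (n + 1) S.X₁ = chi P₀ n (kernel (p ≫ S.g)) - chi P₀ n (kernel p) at e1
  rw [e1, e2, e3]
  abel

lemma normAt_succ (n : ℕ) (hD : NormAt P₀ n) (hC : StabAt P₀ P₁ n) : NormAt P₀ (n + 1) := by
  intro L hL
  rw [hC L (H.lvl_of_p₀ n L hL), hD L hL]

lemma stabAt_succ (n : ℕ) (hB : AddAt P₀ P₁ n) (hD : NormAt P₀ n) (hC : StabAt P₀ P₁ n) :
    StabAt P₀ P₁ (n + 1) := by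
  intro A hA
  have ha := H.indepAt n hB hD
  have ha' := H.indepAt (n + 1) (H.addAt_succ n hB hD hC) (H.normAt_succ n hD hC)
  obtain ⟨L, p, hp, hL⟩ := H.cover A hA.1
  rw [ha' A L p (H.lvl_succ _ _ hA) hp hL, ha A L p hA hp hL, hC _ (hA.2 L p hp hL)]

lemma all_at : ∀ n : ℕ, AddAt P₀ P₁ n ∧ NormAt P₀ n ∧ StabAt P₀ P₁ n
  | 0 => by
    have hB : AddAt P₀ P₁ 0 := fun S hS h₁ h₂ h₃ => clSub_add P₀ S hS h₁ h₂ h₃
    have hD : NormAt P₀ 0 := fun L _ => rfl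
    refine ⟨hB, hD, fun A hA => ?_⟩
    have ha := H.indepAt 0 hB hD
    obtain ⟨L, p, hp, hL⟩ := H.cover A (H.hle A hA)
    haveI := hp
    rw [ha A L p (H.lvl_succ 0 A hA) hp hL]
    have h2 := clSub_add P₀ (ShortComplex.mk (kernel.ι p) p (kernel.condition p))
      (ShortComplex.ShortExact.mk' (ShortComplex.exact_kernel p) inferInstance inferInstance)
      (H.kernel₀ p hL hA) hL hA
    change KZero.clSub P₀ L = KZero.clSub P₀ (kernel p) + KZero.clSub P₀ A at h2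
    change KZero.clSub P₀ L - KZero.clSub P₀ (kernel p) = KZero.clSub P₀ A
    rw [h2]
    abel
  | n + 1 => by
    obtain ⟨hB, hD, hC⟩ := all_at n
    exact ⟨H.addAt_succ n hB hD hC, H.normAt_succ n hD hC, H.stabAt_succ n hB hD hC⟩

lemma chi_stable {m n : ℕ} (hmn : m ≤ n) (A : C) (hA : Lvl P₀ P₁ m A) :
    chi P₀ n A = chi P₀ m A := by
  induction hmn with
  | refl => rfl
  | step h ih => rw [(H.all_at _).2.2 A (H.lvl_mono h A hA), ih]

end Hyp


section assembly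

variable (H : Hyp P₀ P₁) (hlvl : ∀ A, P₁ A → ∃ n, Lvl P₀ P₁ n A)

/-- the chosen level of an object of `P₁`. -/
noncomputable def lvlOf (X : Subtype P₁) : ℕ := (hlvl X.1 X.2).choose

lemma lvlOf_spec (X : Subtype P₁) : Lvl P₀ P₁ (lvlOf hlvl X) X.1 := (hlvl X.1 X.2).choose_spec

/-- the Euler characteristic on the free group. -/
noncomputable def chiFree : FreeAbelianGroup (Subtype P₁) →+ KZero.K0sub P₀ :=
  FreeAbelianGroup.lift fun X => chi P₀ (lvlOf hlvl X) X.1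

include H in
lemma relSub_le_ker : KZero.relSub P₁ ≤ (chiFree hlvl).ker := by
  rw [KZero.relSub, AddSubgroup.closure_le]
  rintro z ⟨S, h₁, h₂, h₃, hS, rfl⟩
  rw [SetLike.mem_coe, AddMonoidHom.mem_ker]
  simp only [chiFree, map_sub, FreeAbelianGroup.lift_apply_of]
  set n₁ := lvlOf hlvl ⟨S.X₁, h₁⟩
  set n₂ := lvlOf hlvl ⟨S.X₂, h₂⟩
  set n₃ := lvlOf hlvl ⟨S.X₃, h₃⟩
  have l₁ : Lvl P₀ P₁ n₁ S.X₁ := lvlOf_spec hlvl ⟨S.X₁, h₁⟩
  have l₂ : Lvl P₀ P₁ n₂ S.X₂ := lvlOf_spec hlvl ⟨S.X₂, h₂⟩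
  have l₃ : Lvl P₀ P₁ n₃ S.X₃ := lvlOf_spec hlvl ⟨S.X₃, h₃⟩
  let n := max n₁ (max n₂ n₃)
  have hn₁ : n₁ ≤ n := le_max_left _ _
  have hn₂ : n₂ ≤ n := (le_max_left _ _).trans (le_max_right _ _)
  have hn₃ : n₃ ≤ n := (le_max_right _ _).trans (le_max_right _ _)
  rw [← H.chi_stable hn₁ _ l₁, ← H.chi_stable hn₂ _ l₂, ← H.chi_stable hn₃ _ l₃,
    (H.all_at n).1 S hS (H.lvl_mono hn₁ _ l₁) (H.lvl_mono hn₂ _ l₂) (H.lvl_mono hn₃ _ l₃)]
  abel

/-- the Euler characteristic `K₀(P₁) → K₀(P₀)`. -/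
noncomputable def chiInf : KZero.K0sub P₁ →+ KZero.K0sub P₀ :=
  QuotientAddGroup.lift (KZero.relSub P₁) (chiFree hlvl) (relSub_le_ker H hlvl)

lemma chiInf_comp :
    (chiInf H hlvl).comp (SGA6.mapSub (𝟭 C) P₀ P₁ H.hle) = AddMonoidHom.id _ := by
  classical
  refine QuotientAddGroup.addMonoidHom_ext _ (FreeAbelianGroup.lift_ext _ _ fun X => ?_)
  obtain ⟨L, hL⟩ := X
  have h1 : SGA6.mapSub (𝟭 C) P₀ P₁ H.hle (QuotientAddGroup.mk (FreeAbelianGroup.of ⟨L, hL⟩)) =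
      QuotientAddGroup.mk (FreeAbelianGroup.of ⟨L, H.hle L hL⟩) := by
    simp [SGA6.mapSub, SGA6.objMap, FreeAbelianGroup.map_of_apply]
  change chiInf H hlvl (SGA6.mapSub (𝟭 C) P₀ P₁ H.hle
    (QuotientAddGroup.mk (FreeAbelianGroup.of ⟨L, hL⟩))) =
      QuotientAddGroup.mk (FreeAbelianGroup.of ⟨L, hL⟩)
  rw [h1]
  change chiFree hlvl (FreeAbelianGroup.of ⟨L, H.hle L hL⟩) = _
  rw [chiFree, FreeAbelianGroup.lift_apply_of]
  have h2 := H.chi_stable (Nat.zero_le (lvlOf hlvl ⟨L, H.hle L hL⟩)) L hL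
  rw [h2]
  change KZero.clSub P₀ L = _
  rw [KZero.clSub, dif_pos hL]

include H in
lemma mem_range : ∀ (n : ℕ) (A : C) (hA : P₁ A), Lvl P₀ P₁ n A →
    (QuotientAddGroup.mk (FreeAbelianGroup.of ⟨A, hA⟩) : KZero.K0sub P₁) ∈
      (SGA6.mapSub (𝟭 C) P₀ P₁ H.hle).range
  | 0, A, hA, h => by
    refine ⟨QuotientAddGroup.mk (FreeAbelianGroup.of ⟨A, h⟩), ?_⟩
    simp [SGA6.mapSub, SGA6.objMap, FreeAbelianGroup.map_of_apply]
  | n + 1, A, hA, h => by
    classical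
    obtain ⟨L, p, hp, hL⟩ := H.cover A hA
    haveI := hp
    have hK : P₁ (kernel p) := H.kernel₁ p (H.hle L hL) hA
    have h1 := mem_range n (kernel p) hK (h.2 L p hp hL)
    have h2 := mem_range 0 L (H.hle L hL) hL
    have h3 := clSub_add P₁ (ShortComplex.mk (kernel.ι p) p (kernel.condition p))
      (ShortComplex.ShortExact.mk' (ShortComplex.exact_kernel p) inferInstance inferInstance)
      hK (H.hle L hL) hA
    change KZero.clSub P₁ L = KZero.clSub P₁ (kernel p) + KZero.clSub P₁ A at h3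
    rw [KZero.clSub, KZero.clSub, KZero.clSub, dif_pos hK, dif_pos hA, dif_pos (H.hle L hL)] at h3
    have h4 : (QuotientAddGroup.mk (FreeAbelianGroup.of ⟨A, hA⟩) : KZero.K0sub P₁) =
        QuotientAddGroup.mk (FreeAbelianGroup.of ⟨L, H.hle L hL⟩) -
          QuotientAddGroup.mk (FreeAbelianGroup.of ⟨kernel p, hK⟩) := by
      rw [h3]; abel
    rw [h4]
    exact AddSubgroup.sub_mem _ h2 h1

include hlvl in
theorem bijective : Function.Bijective (SGA6.mapSub (𝟭 C) P₀ P₁ H.hle) := by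
  constructor
  · intro a b hab
    have := congrArg (chiInf H hlvl) hab
    have h := chiInf_comp H hlvl
    have ha := DFunLike.congr_fun h a
    have hb := DFunLike.congr_fun h b
    simp only [AddMonoidHom.comp_apply, AddMonoidHom.id_apply] at ha hb
    rw [← ha, ← hb]
    exact this
  · intro z
    rw [← AddMonoidHom.mem_range]
    induction z using QuotientAddGroup.induction_on with
    | H z =>
      induction z using FreeAbelianGroup.induction_on with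
      | zero => exact AddSubgroup.zero_mem _
      | of X =>
        obtain ⟨A, hA⟩ := X
        obtain ⟨n, hn⟩ := hlvl A hA
        exact mem_range H n A hA hn
      | neg X ih =>
        rw [QuotientAddGroup.mk_neg]
        exact AddSubgroup.neg_mem _ ih
      | add a b iha ihb =>
        rw [QuotientAddGroup.mk_add]
        exact AddSubgroup.add_mem _ iha ihb

end assembly

end Groth.Agent.Helper9.ResThm
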