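import Mathlib
import Groth.Prelude.Def_KFlatSite
import Groth.Agent.Helper9.KFlat18
import Groth.Agent.Helper9.TensorAssoc3

/-!
# The associator of the tensor product of complexes of sheaves of modules
-/

set_option autoImplicit false
set_option linter.style.haveILetI false
set_option linter.unusedSectionVars false

namespace Groth.Agent.Helper9.CxAssoc1

open CategoryTheory Category Limits HomologicalComplex CochainComplex
  Groth.Agent.Helper9.KFlat3 Groth.Agent.Helper9.KFlat4
  Groth.Agent.Helper9.KFlat5 Groth.Agent.Helper9.KFlat18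
  Groth.Agent.Helper9.TensorAdj Groth.Agent.Helper9.TensorFlat Groth.Agent.Helper9.TensorAssoc3

universe u

variable {C : Type u} [SmallCategory C] {J : GrothendieckTopology C} {O : Sheaf J CommRingCat.{u}}

instance preservesColimitsOfShape_TN₀ (I : Type) [SmallCategory I] (N : ModSite.Mod O) :
    PreservesColimitsOfShape I ((ModSite.tensorBi O).flip.obj N) := by
  haveI : PreservesColimitsOfSize.{u, u} ((ModSite.tensorBi O).flip.obj N) := preservesColimits_TN N
  haveI : PreservesColimitsOfSize.{0, 0} ((ModSite.tensorBi O).flip.obj N) :=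
    preservesColimitsOfSize_shrink.{0, u, 0, u} _
  infer_instance

instance preservesColimitsOfShape_TL₀ (I : Type) [SmallCategory I] (N : ModSite.Mod O) :
    PreservesColimitsOfShape I ((ModSite.tensorBi O).obj N) :=
  Groth.Agent.Helper9.KFlat10.preservesColimitsOfShape_tensorBi_obj O I N

variable (K₁ K₂ K₃ : CochainComplex (ModSite.Mod O) ℤ)

instance : HasGoodTrifunctor₁₂Obj (ModSite.tensorBi O) (ModSite.tensorBi O) K₁ K₂ K₃
    (ComplexShape.up ℤ) (ComplexShape.up ℤ) :=
  fun _ _ => inferInstance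

instance : HasGoodTrifunctor₂₃Obj (ModSite.tensorBi O) (ModSite.tensorBi O) K₁ K₂ K₃
    (ComplexShape.up ℤ) (ComplexShape.up ℤ) (ComplexShape.up ℤ) :=
  fun _ _ => inferInstance

/-- the associator `(K₁ ⊗ K₂) ⊗ K₃ ≅ K₁ ⊗ (K₂ ⊗ K₃)` -/
noncomputable def assocCx :
    mapBifunctor (mapBifunctor K₁ K₂ (ModSite.tensorBi O) (ComplexShape.up ℤ)) K₃
      (ModSite.tensorBi O) (ComplexShape.up ℤ) ≅
    mapBifunctor K₁ (mapBifunctor K₂ K₃ (ModSite.tensorBi O) (ComplexShape.up ℤ))
      (ModSite.tensorBi O) (ComplexShape.up ℤ) :=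
  mapBifunctorAssociator (assoc3 (O := O)) K₁ K₂ K₃ (ComplexShape.up ℤ) (ComplexShape.up ℤ)
    (ComplexShape.up ℤ)

/-- S9055: the tensor product of two K-flat complexes is K-flat -/
theorem isKFlat_tensorCx {K L : CochainComplex (ModSite.Mod O) ℤ} (hK : ModSite.IsKFlat K)
    (hL : ModSite.IsKFlat L) :
    ModSite.IsKFlat (((ModSite.tensorCx O).obj K).obj L) := by
  intro A hA i
  have h1 : ∀ i : ℤ, IsZero ((((ModSite.tensorCx O).obj A).obj K).homology i) := hK A hA
  have h2 := hL _ h1 i
  exact h2.of_iso ((HomologicalComplex.homologyFunctor _ _ i).mapIso (assocCx A K L).symm)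

end Groth.Agent.Helper9.CxAssoc1
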