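import Mathlib
import Groth.Prelude.Def_DCoh2
import Groth.Agent.Lead.PerfLib7
import Groth.Agent.Lead.LocLift6

/-! Finite (bi)products and finitely supported coproducts of finite locally free modules. -/

set_option autoImplicit false
set_option linter.style.haveILetI false
set_option linter.unusedVariables false
set_option linter.unusedSectionVars false
universe u

namespace Groth.Agent.Helper9.FlfSum1

open CategoryTheory CategoryTheory.Limits AlgebraicGeometry

section Gen

variable {C : Type*} [Category C] [Preadditive C] [HasFiniteBiproducts C] [HasBinaryBiproducts C]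

/-- `⨁_{Option J} f` is a retract of `f none ⊞ ⨁_J f ∘ some` -/
lemma option_retract {J : Type} [Finite J] (f : Option J → C) :
    biprod.lift (biproduct.π f none) (biproduct.lift (fun j : J => biproduct.π f (some j))) ≫
      biprod.desc (biproduct.ι f none) (biproduct.desc (fun j : J => biproduct.ι f (some j))) =
        𝟙 (⨁ f) := by
  classical
  haveI := Fintype.ofFinite J
  rw [biprod.lift_desc, biproduct.lift_desc, ← biproduct.total (f := f), Fintype.sum_option]

end Gen

variable {X : Scheme.{u}}

attribute [local instance] Abelian.hasFiniteBiproducts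

/-- finite biproducts of finite locally free modules are finite locally free -/
theorem isFinLocFree_biproduct (J : Type) [hJ : Finite J] (f : J → X.Modules)
    (hf : ∀ j, FlatMod.IsFinLocFree (f j)) : FlatMod.IsFinLocFree (⨁ f) := by
  classical
  suffices h : ∀ (hJ' : Finite J) (f : J → X.Modules), (∀ j, FlatMod.IsFinLocFree (f j)) →
      FlatMod.IsFinLocFree (⨁ f) from h hJ f hf
  clear hf f
  refine Finite.induction_empty_option
    (P := fun J => ∀ (hJ' : Finite J) (f : J → X.Modules), (∀ j, FlatMod.IsFinLocFree (f j)) →
      FlatMod.IsFinLocFree (⨁ f)) ?_ ?_ ?_ J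
  · intro α β e ih hβ f hf
    haveI : Finite α := Finite.of_equiv β e.symm
    exact Groth.Agent.Helper4.FinLocFree2.isFinLocFree_of_iso
      (biproduct.whiskerEquiv e (fun j => Iso.refl _))
      (ih inferInstance (fun j => f (e j)) (fun j => hf _))
  · intro _ f hf
    apply Groth.Agent.Lead.PerfLib.isFinLocFree_of_isZero
    rw [IsZero.iff_id_eq_zero]
    apply biproduct.hom_ext
    intro j
    exact j.elim
  · intro α _ ih _ f hf
    exact Groth.Agent.Lead.PerfLib.isFinLocFree_of_retract
      (Groth.Agent.Lead.LocLift.isFinLocFree_biprod (hf none)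
        (ih inferInstance _ (fun j => hf (some j))))
      _ _ (option_retract f)

/-- a coproduct of finite locally free modules, all but finitely many of which vanish, is finite
locally free -/
theorem isFinLocFree_cofan {I : Type} (A : I → X.Modules) (hA : ∀ i, FlatMod.IsFinLocFree (A i))
    (T : Set I) (hT : T.Finite) (hz : ∀ i, i ∉ T → IsZero (A i))
    (c : Cofan A) (hc : IsColimit c) : FlatMod.IsFinLocFree c.pt := by
  classical
  let S : Finset I := hT.toFinset
  let B : S → X.Modules := fun j => A j.1
  have hB : FlatMod.IsFinLocFree (⨁ B) := isFinLocFree_biproduct S B (fun j => hA _)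
  refine Groth.Agent.Lead.PerfLib.isFinLocFree_of_retract hB
    (Cofan.IsColimit.desc hc (fun i => if h : i ∈ S then biproduct.ι B ⟨i, h⟩ else 0))
    (biproduct.desc (fun j => c.inj j.1)) ?_
  apply Cofan.IsColimit.hom_ext hc
  intro i
  rw [Cofan.IsColimit.fac_assoc]
  by_cases h : i ∈ S
  · rw [dif_pos h, biproduct.ι_desc, Category.comp_id]
  · apply (hz i _).eq_of_src
    intro hi
    exact h (hT.mem_toFinset.mpr hi)

end Groth.Agent.Helper9.FlfSum1
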