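import Mathlib
import Groth.Prelude.Def_DCoh4
import Groth.Agent.Helper9.FlfSum1
import Groth.Agent.Helper9.CxAssoc1
import Groth.Agent.Helper9.Unitor1
import Groth.Agent.Helper4.TensorRes
import Groth.Agent.Lead.LocLift3

/-! The tensor product of finite locally free modules is finite locally free. -/

set_option autoImplicit false
set_option linter.style.haveILetI false
set_option linter.unusedVariables false
set_option linter.unusedSectionVars false
universe u

namespace Groth.Agent.Helper9.FlfTensor1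

open CategoryTheory CategoryTheory.Limits AlgebraicGeometry

variable {X : Scheme.{u}}

/-- `A ⊗ O^n` is finite locally free if `A` is -/
theorem isFinLocFree_tensor_free (A : X.Modules) (hA : FlatMod.IsFinLocFree A) (n : ℕ) :
    FlatMod.IsFinLocFree ((DCoh.tensorBi.obj A).obj (FlatMod.freeMod X n)) := by
  haveI : PreservesColimitsOfShape (Discrete (Fin n)) (DCoh.tensorBi.obj A) :=
    @Groth.Agent.Helper9.CxAssoc1.preservesColimitsOfShape_TL₀ _ _ _ X.sheaf (Discrete (Fin n)) _ A
  let F : Fin n → X.Modules := fun _ => Coh.structureModule X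
  have e : (DCoh.tensorBi.obj A).obj (∐ F) ≅ ∐ (fun i => (DCoh.tensorBi.obj A).obj (F i)) :=
    PreservesCoproduct.iso (DCoh.tensorBi.obj A) F
  refine Groth.Agent.Helper4.FinLocFree2.isFinLocFree_of_iso e.symm ?_
  refine Groth.Agent.Helper9.FlfSum1.isFinLocFree_cofan _ (fun i => ?_) Set.univ Set.finite_univ
    (fun i hi => absurd (Set.mem_univ i) hi) _ (coproductIsCoproduct _)
  exact Groth.Agent.Helper4.FinLocFree2.isFinLocFree_of_iso
    (@Groth.Agent.Helper9.Unitor1.rUnitor _ _ _ X.sheaf A).symm hA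

/-- the tensor product of finite locally free modules is finite locally free -/
theorem isFinLocFree_tensor (A B : X.Modules) (hA : FlatMod.IsFinLocFree A)
    (hB : FlatMod.IsFinLocFree B) : FlatMod.IsFinLocFree ((DCoh.tensorBi.obj A).obj B) := by
  apply Groth.Agent.Lead.PerfLib.isFinLocFree_of_locally
  intro x
  obtain ⟨U, n, hxU, ⟨c⟩⟩ := hB x
  refine ⟨U, U.ι, inferInstance, ⟨⟨x, hxU⟩, rfl⟩, ?_⟩
  have h1 : FlatMod.IsFinLocFree
      ((DCoh.tensorBi.obj (A.restrict U.ι)).obj (FlatMod.freeMod (↑U) n)) :=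
    isFinLocFree_tensor_free _ (Groth.Agent.Lead.LocLift.isFinLocFree_restrict hA U.ι) n
  have h2 : FlatMod.IsFinLocFree
      ((DCoh.tensorBi.obj (A.restrict U.ι)).obj (B.restrict U.ι)) :=
    Groth.Agent.Helper4.FinLocFree2.isFinLocFree_of_iso
      ((DCoh.tensorBi.obj (A.restrict U.ι)).mapIso c.symm) h1
  exact Groth.Agent.Helper4.FinLocFree2.isFinLocFree_of_iso
    (Groth.Agent.Helper4.TensorRes.resIso U.ι A B) h2

end Groth.Agent.Helper9.FlfTensor1
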