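import Mathlib
import Groth.Prelude.Def_SGA6
import Groth.Agent.Helper9.ResThm

/-! The resolution theorem for `K₀`: from the condition on resolutions (chain complexes) to the
level filtration. -/

set_option autoImplicit false
universe v u

open CategoryTheory CategoryTheory.Limits

namespace Groth.Agent.Helper9.ResThm

variable {C : Type u} [Category.{v} C] [Abelian C]

section exactness

lemma exact_of_eq {X Y Z : C} {f f' : X ⟶ Y} {g g' : Y ⟶ Z} (hf : f = f') (hg : g = g')
    (w : f ≫ g = 0) (w' : f' ≫ g' = 0) (h : (ShortComplex.mk f g w).Exact) :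
    (ShortComplex.mk f' g' w').Exact := by
  subst hf hg
  exact h

lemma exact_comp_mono {X Y Z Z' : C} {f : X ⟶ Y} {g : Y ⟶ Z} (w : f ≫ g = 0)
    (h : (ShortComplex.mk f g w).Exact) (j : Z ⟶ Z') [Mono j] :
    (ShortComplex.mk f (g ≫ j) (by rw [← Category.assoc, w, zero_comp])).Exact := by
  let φ : ShortComplex.mk f g w ⟶
      ShortComplex.mk f (g ≫ j) (by rw [← Category.assoc, w, zero_comp]) :=
    { τ₁ := 𝟙 _
      τ₂ := 𝟙 _
      τ₃ := j }
  haveI : Epi φ.τ₁ := by dsimp [φ]; infer_instance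
  haveI : IsIso φ.τ₂ := by dsimp [φ]; infer_instance
  haveI : Mono φ.τ₃ := by dsimp [φ]; infer_instance
  exact (ShortComplex.exact_iff_of_epi_of_isIso_of_mono φ).mp h

lemma exact_epi_comp {X' X Y Z : C} {f : X ⟶ Y} {g : Y ⟶ Z} (w : f ≫ g = 0)
    (h : (ShortComplex.mk f g w).Exact) (q : X' ⟶ X) [Epi q] :
    (ShortComplex.mk (q ≫ f) g (by rw [Category.assoc, w, comp_zero])).Exact := by
  let φ : ShortComplex.mk (q ≫ f) g (by rw [Category.assoc, w, comp_zero]) ⟶
      ShortComplex.mk f g w :=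
    { τ₁ := q
      τ₂ := 𝟙 _
      τ₃ := 𝟙 _ }
  haveI : Epi φ.τ₁ := by dsimp [φ]; infer_instance
  haveI : IsIso φ.τ₂ := by dsimp [φ]; infer_instance
  haveI : Mono φ.τ₃ := by dsimp [φ]; infer_instance
  exact (ShortComplex.exact_iff_of_epi_of_isIso_of_mono φ).mpr h

end exactness

variable (P₀ : ObjectProperty C)

/-- a resolution of `A` by objects of `P₀`, with its augmentation. -/
structure Res (A : C) where
  L : ChainComplex C ℕ
  hP : ∀ i, P₀ (L.X i)
  hex : ∀ i, (L.sc' (i + 2) (i + 1) i).Exact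
  ε : L.X 0 ⟶ A
  epi : Epi ε
  w : L.d 1 0 ≫ ε = 0
  ex0 : (ShortComplex.mk (L.d 1 0) ε w).Exact

namespace Res

variable {P₀} {A : C} (R : Res P₀ A)

lemma exactAt (i : ℕ) (hi : 1 ≤ i) : R.L.ExactAt i := by
  obtain ⟨i, rfl⟩ := Nat.exists_eq_add_of_le' hi
  rw [R.L.exactAt_iff' (i + 2) (i + 1) i (by simp) (by simp)]
  exact R.hex i

lemma homologyIso : Nonempty (R.L.homology 0 ≅ A) := by
  haveI := R.epi
  have h1 : IsColimit (CokernelCofork.ofπ R.ε R.w) := R.ex0.gIsCokernel
  have h2 := R.L.opcyclesIsCokernel 1 0 (by simp)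
  exact ⟨R.L.isoHomologyι₀ ≪≫ IsColimit.coconePointUniqueUpToIso h2 h1⟩

/-- the cycles in positive degree are a kernel of the differential. -/
noncomputable def cyclesIso (i : ℕ) : R.L.cycles (i + 1) ≅ kernel (R.L.d (i + 1) i) :=
  IsLimit.conePointUniqueUpToIso (R.L.cyclesIsKernel (i + 1) i (by simp)) (limit.isLimit _)


/-- splicing a cover `p : L₀ ⟶ A` with a resolution of its kernel. -/
noncomputable def splice {L₀ : C} (p : L₀ ⟶ A) [Epi p] (hL₀ : P₀ L₀) (R' : Res P₀ (kernel p)) :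
    Res P₀ A where
  L := R'.L.augment (R'.ε ≫ kernel.ι p) (by rw [← Category.assoc, R'.w, zero_comp])
  hP := fun i => by
    cases i with
    | zero => exact hL₀
    | succ i => exact R'.hP i
  hex := fun i => by
    cases i with
    | zero => exact exact_comp_mono R'.w R'.ex0 (kernel.ι p)
    | succ i => exact R'.hex i
  ε := p
  epi := ‹Epi p›
  w := by
    change (R'.ε ≫ kernel.ι p) ≫ p = 0
    rw [Category.assoc, kernel.condition, comp_zero]
  ex0 := by
    haveI := R'.epi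
    exact exact_epi_comp (kernel.condition p) (ShortComplex.exact_kernel p) R'.ε

/-- cycles of a spliced resolution in degrees `≥ 2`. -/
noncomputable def spliceCyclesSucc {L₀ : C} (p : L₀ ⟶ A) [Epi p] (hL₀ : P₀ L₀)
    (R' : Res P₀ (kernel p)) (i : ℕ) :
    (splice p hL₀ R').L.cycles (i + 2) ≅ R'.L.cycles (i + 1) :=
  (splice p hL₀ R').cyclesIso (i + 1) ≪≫ (R'.cyclesIso i).symm

/-- cycles of a spliced resolution in degree `1`. -/
noncomputable def spliceCyclesOne {L₀ : C} (p : L₀ ⟶ A) [Epi p] (hL₀ : P₀ L₀)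
    (R' : Res P₀ (kernel p)) :
    (splice p hL₀ R').L.cycles 1 ≅ kernel R'.ε :=
  (splice p hL₀ R').cyclesIso 0 ≪≫ kernelCompMono R'.ε (kernel.ι p)

/-- a resolution from a sequence of short exact sequences `0 → K (n+1) → Lo n → K n → 0`. -/
noncomputable def ofData (K Lo : ℕ → C) (p : ∀ n, Lo n ⟶ K n) (j : ∀ n, K (n + 1) ⟶ Lo n)
    (w : ∀ n, j n ≫ p n = 0) (hex : ∀ n, (ShortComplex.mk (j n) (p n) (w n)).Exact)
    (hm : ∀ n, Mono (j n)) (he : ∀ n, Epi (p n)) (hP : ∀ n, P₀ (Lo n)) : Res P₀ (K 0) where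
  L := ChainComplex.of Lo (fun n => p (n + 1) ≫ j n) (fun n => by
    rw [Category.assoc, reassoc_of% (w (n + 1)), zero_comp, comp_zero])
  hP := hP
  hex := fun i => by
    haveI := hm i
    haveI := he (i + 2)
    have h1 := exact_comp_mono (w (i + 1)) (hex (i + 1)) (j i)
    have h2 := exact_epi_comp _ h1 (p (i + 2))
    refine exact_of_eq ?_ ?_ _ _ h2
    · exact (ChainComplex.of_d Lo (fun n => p (n + 1) ≫ j n) (i + 1)).symm
    · exact (ChainComplex.of_d Lo (fun n => p (n + 1) ≫ j n) i).symm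
  ε := p 0
  epi := he 0
  w := by
    have : (ChainComplex.of Lo (fun n => p (n + 1) ≫ j n) (fun n => by
      rw [Category.assoc, reassoc_of% (w (n + 1)), zero_comp, comp_zero])).d 1 0 = p 1 ≫ j 0 :=
      ChainComplex.of_d Lo (fun n => p (n + 1) ≫ j n) 0
    rw [this, Category.assoc, w 0, comp_zero]
  ex0 := by
    haveI := he 1
    have h2 := exact_epi_comp (w 0) (hex 0) (p 1)
    refine exact_of_eq ?_ rfl _ _ h2
    exact (ChainComplex.of_d Lo (fun n => p (n + 1) ≫ j n) 0).symm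

end Res

section infinite

variable {P₀} {P₁ : ObjectProperty C} (H : Hyp P₀ P₁)

/-- a chosen cover of an object of `P₁`. -/
noncomputable def covObj (X : Subtype P₁) : C := (H.cover X.1 X.2).choose

/-- the chosen covering map. -/
noncomputable def covMap (X : Subtype P₁) : covObj H X ⟶ X.1 :=
  (H.cover X.1 X.2).choose_spec.choose

instance covEpi (X : Subtype P₁) : Epi (covMap H X) :=
  (H.cover X.1 X.2).choose_spec.choose_spec.1

lemma covP₀ (X : Subtype P₁) : P₀ (covObj H X) :=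
  (H.cover X.1 X.2).choose_spec.choose_spec.2

/-- the kernel of the chosen cover. -/
noncomputable def next (X : Subtype P₁) : Subtype P₁ :=
  ⟨kernel (covMap H X), H.kernel₁ _ (H.hle _ (covP₀ H X)) X.2⟩

/-- the iterated syzygies. -/
noncomputable def syz (X : Subtype P₁) : ℕ → Subtype P₁
  | 0 => X
  | n + 1 => next H (syz X n)

/-- the chosen resolution of an object of `P₁`. -/
noncomputable def chosenRes (X : Subtype P₁) : Res P₀ X.1 :=
  Res.ofData (fun n => (syz H X n).1) (fun n => covObj H (syz H X n))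
    (fun n => covMap H (syz H X n)) (fun n => kernel.ι (covMap H (syz H X n)))
    (fun n => kernel.condition _) (fun n => ShortComplex.exact_kernel _)
    (fun n => by
      change Mono (kernel.ι (covMap H (syz H X n)))
      infer_instance)
    (fun n => covEpi H _) (fun n => covP₀ H _)

end infinite

section levels

variable {P₀} {P₁ : ObjectProperty C} (H : Hyp P₀ P₁)
include H

/-- if the `(n+1)`-st cycles of every resolution of `A` are in `P₀` then `A` has level `n + 2`. -/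
lemma lvl_of_cycles : ∀ (n : ℕ) (A : C), P₁ A → (∀ R : Res P₀ A, P₀ (R.L.cycles (n + 1))) →
    Lvl P₀ P₁ (n + 2) A
  | 0, A, hA, h => by
    haveI := H.iso₀
    refine ⟨hA, fun L₀ p₀ hp₀ hL₀ => ?_⟩
    haveI := hp₀
    have hK₀ : P₁ (kernel p₀) := H.kernel₁ p₀ (H.hle _ hL₀) hA
    refine ⟨hK₀, fun L₁ p₁ hp₁ hL₁ => ?_⟩
    haveI := hp₁
    have hK₁ : P₁ (kernel p₁) := H.kernel₁ p₁ (H.hle _ hL₁) hK₀
    let R'' : Res P₀ (kernel p₁) := chosenRes H ⟨kernel p₁, hK₁⟩
    let R' : Res P₀ (kernel p₀) := Res.splice p₁ hL₁ R''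
    let R : Res P₀ A := Res.splice p₀ hL₀ R'
    exact ObjectProperty.prop_of_iso P₀ (Res.spliceCyclesOne p₀ hL₀ R') (h R)
  | n + 1, A, hA, h => by
    haveI := H.iso₀
    refine ⟨hA, fun L₀ p₀ hp₀ hL₀ => ?_⟩
    haveI := hp₀
    have hK₀ : P₁ (kernel p₀) := H.kernel₁ p₀ (H.hle _ hL₀) hA
    refine lvl_of_cycles n (kernel p₀) hK₀ fun R' => ?_
    exact ObjectProperty.prop_of_iso P₀ (Res.spliceCyclesSucc p₀ hL₀ R' n)
      (h (Res.splice p₀ hL₀ R'))

/-- the finiteness condition on resolutions gives a level for every object of `P₁`. -/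
theorem exists_lvl
    (h3 : ∀ A : C, P₁ A → ∃ d : ℕ, ∀ L : ChainComplex C ℕ, (∀ i, P₀ (L.X i)) →
      (∀ i, 1 ≤ i → L.ExactAt i) → Nonempty (L.homology 0 ≅ A) → P₀ (L.cycles (d + 1)))
    (A : C) (hA : P₁ A) : ∃ n, Lvl P₀ P₁ n A := by
  obtain ⟨d, hd⟩ := h3 A hA
  exact ⟨d + 2, lvl_of_cycles H d A hA fun R => hd R.L R.hP R.exactAt R.homologyIso⟩

end levels

end Groth.Agent.Helper9.ResThm
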