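import Mathlib
import Groth.Agent.Helper1.DeltaFunctor
import Groth.Agent.Helper1.DeltaComp

/-! `Ext^n(A, -)` as an effaceable δ-functor, for a fixed object `A` of an abelian category; hence
`Ext^n(A, -)` are the right derived functors of any additive functor isomorphic to `Ext^0(A, -)`. -/

set_option autoImplicit false
universe w v u

open CategoryTheory CategoryTheory.Limits Opposite Abelian

namespace Groth.Agent.Helper9.ExtObjDelta

open Groth.Agent.Helper1.DeltaFun Groth.Agent.Helper1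

variable {𝒜 : Type u} [Category.{v} 𝒜] [Abelian 𝒜] [HasExt.{w} 𝒜] (A : 𝒜)

/-- `F ↦ Ext^n(A, F)` -/
noncomputable abbrev T (n : ℕ) : 𝒜 ⥤ AddCommGrpCat.{w} :=
  (extFunctor n).obj (op A)

/-- the connecting morphisms -/
noncomputable def δ {S : ShortComplex 𝒜} (hS : S.ShortExact) (n : ℕ) :
    (T A n).obj S.X₃ ⟶ (T A (n + 1)).obj S.X₁ :=
  AddCommGrpCat.ofHom (hS.extClass.postcomp A rfl)

lemma δ_nat {S S' : ShortComplex 𝒜} (φ : S ⟶ S') (hS : S.ShortExact)
    (hS' : S'.ShortExact) (n : ℕ) :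
    δ A hS n ≫ (T A (n + 1)).map φ.τ₁ = (T A n).map φ.τ₃ ≫ δ A hS' n := by
  apply AddCommGrpCat.hom_ext
  apply AddMonoidHom.ext
  intro (x : Ext.{w} A S.X₃ n)
  show (x.comp hS.extClass rfl).comp (Ext.mk₀ φ.τ₁) (add_zero _) =
    (x.comp (Ext.mk₀ φ.τ₃) (add_zero _)).comp hS'.extClass rfl
  rw [Ext.comp_assoc_of_third_deg_zero, ShortComplex.ShortExact.extClass_naturality hS hS' φ,
    Ext.comp_assoc_of_second_deg_zero]

lemma w₃ (S : ShortComplex 𝒜) (hS : S.ShortExact) (n : ℕ) :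
    (T A n).map S.g ≫ δ A hS n = 0 := by
  apply AddCommGrpCat.hom_ext
  apply AddMonoidHom.ext
  intro (x : Ext.{w} A S.X₂ n)
  show (x.comp (Ext.mk₀ S.g) (add_zero _)).comp hS.extClass rfl = 0
  rw [Ext.comp_assoc_of_second_deg_zero, ShortComplex.ShortExact.comp_extClass, Ext.comp_zero]

lemma w₁ (S : ShortComplex 𝒜) (hS : S.ShortExact) (n : ℕ) :
    δ A hS n ≫ (T A (n + 1)).map S.f = 0 := by
  apply AddCommGrpCat.hom_ext
  apply AddMonoidHom.ext
  intro (x : Ext.{w} A S.X₃ n)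
  show (x.comp hS.extClass rfl).comp (Ext.mk₀ S.f) (add_zero _) = 0
  rw [Ext.comp_assoc_of_third_deg_zero, ShortComplex.ShortExact.extClass_comp, Ext.comp_zero]

lemma exact₃ (S : ShortComplex 𝒜) (hS : S.ShortExact) (n : ℕ) :
    (ShortComplex.mk _ _ (w₃ A S hS n)).Exact :=
  Ext.covariant_sequence_exact₃' A hS n (n + 1) rfl

lemma exact₁ (S : ShortComplex 𝒜) (hS : S.ShortExact) (n : ℕ) :
    (ShortComplex.mk _ _ (w₁ A S hS n)).Exact :=
  Ext.covariant_sequence_exact₁' A hS n (n + 1) rfl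

/-- the δ-functor `F ↦ Ext^•(A, F)` -/
noncomputable def delta : DeltaFunctor 𝒜 AddCommGrpCat.{w} :=
  DeltaFunctor.mk (fun n => T A n) (fun _ hS n => δ A hS n)
    (fun φ hS hS' n => δ_nat A φ hS hS' n) (w₃ A) (w₁ A) (exact₃ A) (exact₁ A)

lemma delta_effaceable : (delta.{w} A).Effaceable := by
  intro I _ n
  show IsZero ((T A (n + 1)).obj I)
  have : Subsingleton ((T A (n + 1)).obj I) :=
    subsingleton_of_forall_eq 0 fun (x : Ext.{w} A I (n + 1)) =>
      Ext.eq_zero_of_injective x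
  exact AddCommGrpCat.isZero_of_subsingleton _

instance (n : ℕ) : (T.{w} A n).Additive :=
  inferInstanceAs (extFunctorObj A n).Additive

instance : PreservesFiniteLimits (T.{w} A 0) := by
  rw [Functor.preservesFiniteLimits_iff_forall_exact_map_and_mono]
  intro S hS
  refine ⟨Ext.covariant_sequence_exact₂' A hS 0, ?_⟩
  rw [AddCommGrpCat.mono_iff_injective]
  have := hS.mono_f
  intro (x : Ext.{w} A S.X₁ 0) (y : Ext.{w} A S.X₁ 0)
    (h : x.comp (Ext.mk₀ S.f) (add_zero 0) = y.comp (Ext.mk₀ S.f) (add_zero 0))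
  obtain ⟨a, rfl⟩ := (Ext.mk₀_bijective A S.X₁).2 x
  obtain ⟨b, rfl⟩ := (Ext.mk₀_bijective A S.X₁).2 y
  rw [Ext.mk₀_comp_mk₀, Ext.mk₀_comp_mk₀] at h
  have h' := (Ext.mk₀_bijective A S.X₂).1 h
  rw [cancel_mono] at h'
  rw [h']

/-- `Ext^n(A, -)` is the `n`-th right derived functor of any additive functor isomorphic to
`Ext^0(A, -)`. -/
theorem nonempty_iso_rightDerived [EnoughInjectives 𝒜] (G : 𝒜 ⥤ AddCommGrpCat.{w}) [G.Additive]
    (e : T.{w} A 0 ≅ G) (n : ℕ) :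
    Nonempty (G.rightDerived n ≅ T.{w} A n) := by
  have : ((delta.{w} A).T 0).Additive := inferInstanceAs (T.{w} A 0).Additive
  have : PreservesFiniteLimits ((delta.{w} A).T 0) :=
    inferInstanceAs (PreservesFiniteLimits (T.{w} A 0))
  obtain ⟨i⟩ := Groth.Agent.Helper1.DeltaFun.nonempty_iso_rightDerived (delta.{w} A)
    (delta_effaceable A) n
  exact ⟨(rightDerivedIso (F := T.{w} A 0) (G := G) e n).symm ≪≫ i.symm⟩

end Groth.Agent.Helper9.ExtObjDelta
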