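import Mathlib
import Groth.Prelude.Def_ModSite2

/-! The adjunction `F ↦ F/F_U ⊣ Γ_Z` on sheaves of modules on a ringed site. -/

set_option autoImplicit false
universe u

open CategoryTheory CategoryTheory.Limits Opposite

namespace Groth.Agent.Helper9.QuotSectAdj

section Abstract

variable {A B : Type*} [Category A] [Category B] [HasZeroMorphisms A] [HasZeroMorphisms B]
  {L : B ⥤ A} {R : A ⥤ B} {S : B ⥤ A} (adj1 : L ⊣ R) (adj2 : R ⊣ S) [R.PreservesZeroMorphisms]

include adj1 in
lemma counit_comp_eq_zero_iff {K N : A} (h : K ⟶ N) :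
    adj1.counit.app K ≫ h = 0 ↔ R.map h = 0 := by
  constructor
  · intro h0
    have : R.map h = adj1.unit.app (R.obj K) ≫ R.map (adj1.counit.app K ≫ h) := by
      simp
    rw [this, h0, Functor.map_zero, comp_zero]
  · intro h0
    apply (adj1.homEquiv _ _).injective
    rw [Adjunction.homEquiv_unit, Adjunction.homEquiv_unit, Functor.map_comp, h0,
      Functor.map_zero, comp_zero, comp_zero]

include adj2 in
lemma comp_unit_eq_zero_iff {K N : A} (h : K ⟶ N) :
    h ≫ adj2.unit.app N = 0 ↔ R.map h = 0 := by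
  constructor
  · intro h0
    have : R.map h = R.map (h ≫ adj2.unit.app N) ≫ adj2.counit.app (R.obj N) := by
      simp
    rw [this, h0, Functor.map_zero, zero_comp]
  · intro h0
    apply (adj2.homEquiv _ _).symm.injective
    rw [Adjunction.homEquiv_counit, Adjunction.homEquiv_counit, Functor.map_comp, h0,
      Functor.map_zero, zero_comp, zero_comp]

end Abstract

variable {C : Type u} [SmallCategory C] {J : GrothendieckTopology C} (O : Sheaf J CommRingCat.{u})
  (U : C)

instance : (ModSite.restr O U).PreservesZeroMorphisms := by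
  haveI : (ModSite.restr O U).IsRightAdjoint := inferInstance
  infer_instance

lemma counit_comp_iff {K N : ModSite.Mod O} (h : K ⟶ N) :
    (ModSite.extZeroAdj O U).counit.app K ≫ h = 0 ↔ (ModSite.restr O U).map h = 0 :=
  counit_comp_eq_zero_iff (ModSite.extZeroAdj O U) h

variable [ModSite.HasPushOver O U]

lemma comp_unit_iff {K N : ModSite.Mod O} (h : K ⟶ N) :
    h ≫ (ModSite.restrPushOverAdj O U).unit.app N = 0 ↔ (ModSite.restr O U).map h = 0 :=
  comp_unit_eq_zero_iff (ModSite.restrPushOverAdj O U) h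

lemma restr_map_quotOnπ (K : ModSite.Mod O) :
    (ModSite.restr O U).map ((ModSite.quotOnπ O U).app K) = 0 :=
  (counit_comp_iff O U _).1 (cokernel.condition _)

lemma restr_map_sectOnι (N : ModSite.Mod O) :
    (ModSite.restr O U).map ((ModSite.sectOnι O U).app N) = 0 :=
  (comp_unit_iff O U _).1 (kernel.condition _)

instance (K : ModSite.Mod O) : Epi ((ModSite.quotOnπ O U).app K) := by
  change Epi (cokernel.π _)
  infer_instance

instance (N : ModSite.Mod O) : Mono ((ModSite.sectOnι O U).app N) := by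
  change Mono (kernel.ι _)
  infer_instance

/-- `Hom(K/K_U, N) → Hom(K, Γ_Z N)` -/
noncomputable def fwd {K N : ModSite.Mod O} (g : (ModSite.quotOn O U).obj K ⟶ N) :
    K ⟶ (ModSite.sectOn O U).obj N :=
  kernel.lift _ ((ModSite.quotOnπ O U).app K ≫ g) ((comp_unit_iff O U _).2 (by
    rw [Functor.map_comp, restr_map_quotOnπ, zero_comp]))

/-- `Hom(K, Γ_Z N) → Hom(K/K_U, N)` -/
noncomputable def bwd {K N : ModSite.Mod O} (f : K ⟶ (ModSite.sectOn O U).obj N) :
    (ModSite.quotOn O U).obj K ⟶ N :=
  cokernel.desc _ (f ≫ (ModSite.sectOnι O U).app N) ((counit_comp_iff O U _).2 (by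
    rw [Functor.map_comp, restr_map_sectOnι, comp_zero]))

lemma fwd_ι {K N : ModSite.Mod O} (g : (ModSite.quotOn O U).obj K ⟶ N) :
    fwd O U g ≫ (ModSite.sectOnι O U).app N = (ModSite.quotOnπ O U).app K ≫ g :=
  kernel.lift_ι _ _ _

lemma π_bwd {K N : ModSite.Mod O} (f : K ⟶ (ModSite.sectOn O U).obj N) :
    (ModSite.quotOnπ O U).app K ≫ bwd O U f = f ≫ (ModSite.sectOnι O U).app N :=
  cokernel.π_desc _ _ _

/-- `Hom(K/K_U, N) ≃ Hom(K, Γ_Z N)` -/
noncomputable def homEquiv (K N : ModSite.Mod O) :
    ((ModSite.quotOn O U).obj K ⟶ N) ≃ (K ⟶ (ModSite.sectOn O U).obj N) where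
  toFun g := fwd O U g
  invFun f := bwd O U f
  left_inv g := by
    rw [← cancel_epi ((ModSite.quotOnπ O U).app K), π_bwd, fwd_ι]
  right_inv f := by
    rw [← cancel_mono ((ModSite.sectOnι O U).app N), fwd_ι, π_bwd]

/-- the adjunction `F ↦ F/F_U ⊣ Γ_Z` -/
noncomputable def adj : ModSite.quotOn O U ⊣ ModSite.sectOn O U :=
  Adjunction.mkOfHomEquiv
    { homEquiv := homEquiv O U
      homEquiv_naturality_left_symm := by
        intro K' K N f g
        change bwd O U (f ≫ g) = (ModSite.quotOn O U).map f ≫ bwd O U g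
        rw [← cancel_epi ((ModSite.quotOnπ O U).app K'), π_bwd]
        have h := (ModSite.quotOnπ O U).naturality f
        rw [Functor.id_map] at h
        rw [← Category.assoc, ← h, Category.assoc, Category.assoc, π_bwd]
      homEquiv_naturality_right := by
        intro K N N' f g
        change fwd O U (f ≫ g) = fwd O U f ≫ (ModSite.sectOn O U).map g
        rw [← cancel_mono ((ModSite.sectOnι O U).app N'), fwd_ι]
        have h := (ModSite.sectOnι O U).naturality g
        rw [Functor.id_map] at h
        rw [Category.assoc, h, ← Category.assoc, ← Category.assoc, fwd_ι] }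

end Groth.Agent.Helper9.QuotSectAdj
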