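import Mathlib
import Groth.Prelude.Def_ModSite
import Groth.Agent.Helper9.ShriekProjSh

/-!
# Restriction to `C/X` commutes with sheafification and with tensor products
-/

namespace Groth.Agent.Helper9.RestrSheafify

open CategoryTheory MonoidalCategory Opposite Limits
  Groth.Agent.Helper9.TensorLoc
  Groth.Agent.Helper9.TensorSh Groth.Agent.Helper9.TensorAdj Groth.Agent.Helper9.TensorFlat
  Groth.Agent.Helper9.FreeTensor Groth.Agent.Helper9.Shriek
  Groth.Agent.Helper9.ShriekSh Groth.Agent.Helper9.ShriekProjSh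

universe u

set_option backward.isDefEq.respectTransparency false

section Psh

variable {C : Type u} [SmallCategory C] (J : GrothendieckTopology C) {R : Cᵒᵖ ⥤ CommRingCat.{u}}
  (X : C) {P Q : PMod R} (φ : P ⟶ Q)

lemma locSurj_pf (h : LocSurj J φ) : LocSurj (J.over X) ((pf R X).map φ) := by
  intro Y s
  obtain ⟨S, hS, hS'⟩ := h Y.left s
  refine ⟨(Sieve.overEquiv Y).symm S, J.overEquiv_symm_mem_over Y S hS, fun Y' k hk => ?_⟩
  have hk' : S k.left := (Sieve.overEquiv_symm_iff S k).1 hk
  obtain ⟨t, ht⟩ := hS' k.left hk'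
  exact ⟨t, ht⟩

lemma locInj_pf (h : LocInj J φ) : LocInj (J.over X) ((pf R X).map φ) := by
  intro Y x hx
  obtain ⟨S, hS, hS'⟩ := h Y.left x hx
  refine ⟨(Sieve.overEquiv Y).symm S, J.overEquiv_symm_mem_over Y S hS, fun Y' k hk => ?_⟩
  have hk' : S k.left := (Sieve.overEquiv_symm_iff S k).1 hk
  exact hS' k.left hk'

end Psh


variable {C : Type u} [SmallCategory C] {J : GrothendieckTopology C} (O : Sheaf J CommRingCat.{u})
  (X : C)

/-- the comparison morphism `a_X(P|_X) ⟶ (aP)|_X` -/
noncomputable def cmp (P : PM O) :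
    (a (O.over X)).obj ((pf O.obj X).obj P) ⟶ (ModSite.restr O X).obj ((a O).obj P) :=
  ((adj (O.over X)).homEquiv ((pf O.obj X).obj P)
    ((ModSite.restr O X).obj ((a O).obj P))).symm ((pf O.obj X).map (η O P))

lemma cmp_eq (P : PM O) :
    cmp O X P = (a (O.over X)).map ((pf O.obj X).map (η O P)) ≫
      (adj (O.over X)).counit.app ((ModSite.restr O X).obj ((a O).obj P)) :=
  Adjunction.homEquiv_counit _ _ _ _

instance isIso_cmp (P : PM O) : IsIso (cmp O X P) := by
  rw [cmp_eq]
  haveI : IsIso ((a (O.over X)).map ((pf O.obj X).map (η O P))) :=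
    isIso_a_map _ (locInj_pf J X _ (locInj_η P)) (locSurj_pf J X _ (locSurj_η P))
  haveI hci : IsIso (adj (O.over X)).counit :=
    inferInstanceAs (IsIso (PresheafOfModules.sheafificationAdjunction
      (𝟙 (ModSite.ringSh (O.over X)).obj)).counit)
  infer_instance

lemma cmp_naturality {P P' : PM O} (f : P ⟶ P') :
    (a (O.over X)).map ((pf O.obj X).map f) ≫ cmp O X P' =
      cmp O X P ≫ (ModSite.restr O X).map ((a O).map f) := by
  apply ((adj (O.over X)).homEquiv _ _).injective
  rw [Adjunction.homEquiv_naturality_left, Adjunction.homEquiv_naturality_right]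
  unfold cmp
  rw [Equiv.apply_symm_apply, Equiv.apply_symm_apply]
  have h := (adj O).unit.naturality f
  have h' := congrArg (fun g => (pf O.obj X).map g) h
  simp only [Functor.map_comp] at h'
  exact h'

/-- restriction commutes with sheafification -/
noncomputable def restrSheafifyIso :
    pf O.obj X ⋙ a (O.over X) ≅ a O ⋙ ModSite.restr O X :=
  NatIso.ofComponents (fun P => asIso (cmp O X P)) (fun f => cmp_naturality O X f)


section Mu

variable {C : Type u} [SmallCategory C] {R : Cᵒᵖ ⥤ CommRingCat.{u}} (X : C) (P Q : PMod R)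

/-- restriction of presheaves commutes with tensor products -/
noncomputable def μ : (pf R X).obj (P ⊗ Q) ≅ (pf R X).obj P ⊗ (pf R X).obj Q :=
  PresheafOfModules.isoMk (fun Y => Iso.refl _) (fun Y Y' f =>
    ModuleCat.MonoidalCategory.tensor_ext (fun _ _ => rfl))

end Mu

theorem nonempty_restr_tensor_iso (M N : ModSite.Mod O) :
    Nonempty ((ModSite.restr O X).obj (((ModSite.tensorBi O).obj M).obj N) ≅
      ((ModSite.tensorBi (O.over X)).obj ((ModSite.restr O X).obj M)).obj
        ((ModSite.restr O X).obj N)) :=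
  ⟨((restrSheafifyIso O X).app ((ι O).obj M ⊗ (ι O).obj N)).symm ≪≫
    (a (O.over X)).mapIso (μ X ((ι O).obj M) ((ι O).obj N))⟩

end Groth.Agent.Helper9.RestrSheafify
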