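import Mathlib
import Groth.Prelude.Def_ModSite
import Groth.Agent.Helper9.ShriekProjSh

/-!
# Flatness, restriction and extension by zero
-/

namespace Groth.Agent.Helper9.ShriekFlat

open CategoryTheory MonoidalCategory Opposite Limits
  Groth.Agent.Helper9.TensorSh Groth.Agent.Helper9.TensorAdj Groth.Agent.Helper9.TensorFlat
  Groth.Agent.Helper9.FreeTensor Groth.Agent.Helper9.Shriek
  Groth.Agent.Helper9.ShriekSh Groth.Agent.Helper9.ShriekProj Groth.Agent.Helper9.ShriekFaithful
  Groth.Agent.Helper9.ShriekProjSh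

universe u

variable {C : Type u} [SmallCategory C] {J : GrothendieckTopology C} (O : Sheaf J CommRingCat.{u})
  (X : C)

lemma mono_map_of_natIso {A B : Type*} [Category A] [Category B] {F G : A ⥤ B} (e : F ≅ G)
    {x y : A} (f : x ⟶ y) [Mono (G.map f)] : Mono (F.map f) := by
  rw [← NatIso.naturality_2 e f]
  infer_instance

/-- the restriction of a flat module is flat -/
theorem isFlat_restr (M : ModSite.Mod O) (hM : ModSite.IsFlat M) :
    ModSite.IsFlat ((ModSite.restr O X).obj M) := by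
  apply isFlat_of_mono
  intro G' G f hf
  haveI := preservesFiniteLimits_extZero O X
  haveI : Mono ((ModSite.extZero O X).map f) := inferInstance
  haveI : Mono ((TN M).map ((ModSite.extZero O X).map f)) := mono_of_isFlat M hM _
  haveI : Mono ((ModSite.extZero O X ⋙ TN M).map f) :=
    inferInstanceAs (Mono ((TN M).map ((ModSite.extZero O X).map f)))
  haveI : Mono ((TN ((ModSite.restr O X).obj M) ⋙ ModSite.extZero O X).map f) :=
    mono_map_of_natIso (projShA O X M) f
  exact (ModSite.extZero O X).mono_of_mono_map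
    (inferInstanceAs (Mono ((TN ((ModSite.restr O X).obj M) ⋙ ModSite.extZero O X).map f)))


/-- restriction commutes with the forgetful functors -/
noncomputable def commι : ι O ⋙ pf O.obj X ≅ ModSite.restr O X ⋙ ιX O X :=
  NatIso.ofComponents (fun N => Iso.refl _) (by
    intro N N' f
    rfl)

/-- `T ⊗ j_!M ≅ j_!(j^*T ⊗ M)`, naturally in `T` (explicit extension by zero) -/
noncomputable def tnExtIso (M : ModSite.Mod (O.over X)) :
    TN ((ext O X).obj M) ≅ ModSite.restr O X ⋙ TN M ⋙ ext O X :=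
  let G : PMod (SX O.obj X) := (ιX O X).obj M
  let e1 : TN ((ext O X).obj M) ≅ ι O ⋙ tensorRight (sh G) ⋙ a O :=
    (TensorFree.isoTNa (sh G)).symm
  let e2 : ι O ⋙ tensorRight (sh G) ⋙ a O ≅ ι O ⋙ tensorLeft (sh G) ⋙ a O :=
    Functor.isoWhiskerLeft (ι O) (Functor.isoWhiskerRight
      (BraidedCategory.tensorLeftIsoTensorRight (sh G)).symm (a O))
  let e3 : ι O ⋙ tensorLeft (sh G) ⋙ a O ≅
      ι O ⋙ (pf O.obj X ⋙ tensorLeft G ⋙ shF O.obj X) ⋙ a O :=
    Functor.isoWhiskerLeft (ι O) (Functor.isoWhiskerRight (projB G).symm (a O))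
  let e4 : ι O ⋙ (pf O.obj X ⋙ tensorLeft G ⋙ shF O.obj X) ⋙ a O ≅
      ι O ⋙ (pf O.obj X ⋙ tensorRight G ⋙ shF O.obj X) ⋙ a O :=
    Functor.isoWhiskerLeft (ι O) (Functor.isoWhiskerRight
      (Functor.isoWhiskerLeft (pf O.obj X) (Functor.isoWhiskerRight
        (BraidedCategory.tensorLeftIsoTensorRight G) (shF O.obj X))) (a O))
  let e5 : ι O ⋙ (pf O.obj X ⋙ tensorRight G ⋙ shF O.obj X) ⋙ a O ≅
      (ModSite.restr O X ⋙ ιX O X) ⋙ tensorRight G ⋙ shF O.obj X ⋙ a O :=
    Functor.isoWhiskerRight (commι O X) (tensorRight G ⋙ shF O.obj X ⋙ a O)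
  let e6 : (ModSite.restr O X ⋙ ιX O X) ⋙ tensorRight G ⋙ shF O.obj X ⋙ a O ≅
      (ModSite.restr O X ⋙ ιX O X ⋙ tensorRight G) ⋙ a (O.over X) ⋙ ext O X :=
    Functor.isoWhiskerLeft (ModSite.restr O X ⋙ ιX O X ⋙ tensorRight G) (cmpIso O X).symm
  let e7 : (ModSite.restr O X ⋙ ιX O X ⋙ tensorRight G) ⋙ a (O.over X) ⋙ ext O X ≅
      ModSite.restr O X ⋙ TN M ⋙ ext O X :=
    Functor.isoWhiskerLeft (ModSite.restr O X)
      (Functor.isoWhiskerRight (TNIso (O.over X) M).symm (ext O X))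
  e1 ≪≫ e2 ≪≫ e3 ≪≫ e4 ≪≫ e5 ≪≫ e6 ≪≫ e7

/-- extension by zero preserves flatness -/
theorem isFlat_extZero (M : ModSite.Mod (O.over X)) (hM : ModSite.IsFlat M) :
    ModSite.IsFlat ((ModSite.extZero O X).obj M) := by
  have e : (ModSite.extZero O X).obj M ≅ (ext O X).obj M := (extZeroIso O X).app M
  have e' : TN ((ModSite.extZero O X).obj M) ≅ ModSite.restr O X ⋙ TN M ⋙ ext O X :=
    (ModSite.tensorBi O).flip.mapIso e ≪≫ tnExtIso O X M
  apply isFlat_of_mono
  intro T' T f hf
  haveI : PreservesFiniteLimits (ModSite.restr O X) := by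
    haveI : PreservesLimitsOfSize.{0, 0} (ModSite.restr O X) :=
      (ModSite.extZeroAdj O X).rightAdjoint_preservesLimits
    exact PreservesLimitsOfSize.preservesFiniteLimits _
  haveI : Mono ((ModSite.restr O X).map f) := inferInstance
  haveI : Mono ((TN M).map ((ModSite.restr O X).map f)) := mono_of_isFlat M hM _
  haveI : Mono ((ext O X).map ((TN M).map ((ModSite.restr O X).map f))) := inferInstance
  haveI : Mono ((ModSite.restr O X ⋙ TN M ⋙ ext O X).map f) :=
    inferInstanceAs (Mono ((ext O X).map ((TN M).map ((ModSite.restr O X).map f))))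
  exact mono_map_of_natIso e' f

end Groth.Agent.Helper9.ShriekFlat
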