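import Mathlib
import Groth.Prelude.Def_ModSite2
import Groth.Agent.Helper9.QuotSectAdj
import Groth.Agent.Helper9.ShriekFlat
import Groth.Agent.Helper9.RestrSheafify
import Groth.Agent.Helper9.RestrExact
import Groth.Agent.Helper9.TensorSES

/-! `Γ_Z ℋom(M, -) ≅ ℋom(M, Γ_Z -) ≅ ℋom(M_Z, -)` on a ringed site. -/

set_option autoImplicit false
universe u

open CategoryTheory CategoryTheory.Limits Opposite

namespace Groth.Agent.Helper9.QuotSectTensor

open Groth.Agent.Helper9.TensorAdj Groth.Agent.Helper9.TensorFlat Groth.Agent.Helper9.ShriekSh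
  Groth.Agent.Helper9.ShriekProjSh Groth.Agent.Helper9.ShriekFlat Groth.Agent.Helper9.QuotSectAdj

section Abstract

variable {A B : Type*} [Category A] [Category B]

/-- two quotients of a functor, each factoring through the other, are isomorphic -/
def isoOfEpi {F G1 G2 : A ⥤ B} (p1 : F ⟶ G1) (p2 : F ⟶ G2)
    (h1 : ∀ K, Epi (p1.app K)) (h2 : ∀ K, Epi (p2.app K))
    (u : ∀ K, G1.obj K ⟶ G2.obj K) (hu : ∀ K, p1.app K ≫ u K = p2.app K)
    (v : ∀ K, G2.obj K ⟶ G1.obj K) (hv : ∀ K, p2.app K ≫ v K = p1.app K) : G1 ≅ G2 :=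
  NatIso.ofComponents (fun K =>
    { hom := u K
      inv := v K
      hom_inv_id := by
        haveI := h1 K
        rw [← cancel_epi (p1.app K), ← Category.assoc, hu, hv, Category.comp_id]
      inv_hom_id := by
        haveI := h2 K
        rw [← cancel_epi (p2.app K), ← Category.assoc, hv, hu, Category.comp_id] })
    (by
      intro K K' f
      haveI := h1 K
      dsimp only
      rw [← cancel_epi (p1.app K), ← Category.assoc, ← p1.naturality, Category.assoc, hu,
        p2.naturality, ← Category.assoc, hu])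

lemma nonempty_iso_of_epi {F G1 G2 : A ⥤ B} (p1 : F ⟶ G1) (p2 : F ⟶ G2)
    (h1 : ∀ K, Epi (p1.app K)) (h2 : ∀ K, Epi (p2.app K))
    (hu : ∀ K, ∃ u : G1.obj K ⟶ G2.obj K, p1.app K ≫ u = p2.app K)
    (hv : ∀ K, ∃ v : G2.obj K ⟶ G1.obj K, p2.app K ≫ v = p1.app K) : Nonempty (G1 ≅ G2) := by
  choose u hu using hu
  choose v hv using hv
  exact ⟨isoOfEpi p1 p2 h1 h2 u hu v hv⟩

variable [HasZeroMorphisms A] [HasZeroMorphisms B]

lemma exists_desc_map (F : A ⥤ B) [F.PreservesZeroMorphisms] {X Y : A} (f : X ⟶ Y)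
    [HasCokernel f] [PreservesColimit (parallelPair f 0) F] {T : B} (k : F.obj Y ⟶ T)
    (hk : F.map f ≫ k = 0) : ∃ l : F.obj (cokernel f) ⟶ T, F.map (cokernel.π f) ≫ l = k := by
  have hc := CokernelCofork.mapIsColimit _ (cokernelIsCokernel f) F
  exact ⟨hc.desc (CokernelCofork.ofπ k hk), hc.fac (CokernelCofork.ofπ k hk) WalkingParallelPair.one⟩

end Abstract

variable {C : Type u} [SmallCategory C] {J : GrothendieckTopology C} (O : Sheaf J CommRingCat.{u})
  (U : C)

/-- modules of the form `j_! Q` have zero quotient `(-)_Z` -/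
lemma isZero_quotOn_of_iso {A : ModSite.Mod O} {Q : ModSite.Mod (O.over U)}
    (e : A ≅ (ModSite.extZero O U).obj Q) : IsZero ((ModSite.quotOn O U).obj A) := by
  have h1 : IsSplitEpi ((ModSite.extZeroAdj O U).counit.app ((ModSite.extZero O U).obj Q)) :=
    IsSplitEpi.mk' ⟨(ModSite.extZero O U).map ((ModSite.extZeroAdj O U).unit.app Q),
      (ModSite.extZeroAdj O U).left_triangle_components Q⟩
  have h2 : (ModSite.extZeroAdj O U).counit.app A =
      (ModSite.extZero O U).map ((ModSite.restr O U).map e.hom) ≫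
        (ModSite.extZeroAdj O U).counit.app ((ModSite.extZero O U).obj Q) ≫ e.inv := by
    have := (ModSite.extZeroAdj O U).counit.naturality e.hom
    simp only [Functor.comp_map, Functor.id_map] at this
    rw [← Category.assoc, this, Category.assoc, e.hom_inv_id]
    exact (Category.comp_id _).symm
  have h3 : Epi ((ModSite.extZeroAdj O U).counit.app A) := by
    rw [h2]
    infer_instance
  exact isZero_cokernel_of_epi _

lemma isZero_restr_quotOn (K : ModSite.Mod O) :
    IsZero ((ModSite.restr O U).obj ((ModSite.quotOn O U).obj K)) := by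
  haveI : Epi ((ModSite.restr O U).map ((ModSite.quotOnπ O U).app K)) := inferInstance
  exact IsZero.of_epi_eq_zero _ (by
    have := (counit_comp_iff O U ((ModSite.quotOnπ O U).app K)).1 (cokernel.condition _)
    exact this)

lemma isZero_restr_tensor_left (K' M : ModSite.Mod O) (h : IsZero ((ModSite.restr O U).obj K')) :
    IsZero ((ModSite.restr O U).obj ((TN M).obj K')) := by
  obtain ⟨e⟩ := Groth.Agent.Helper9.RestrSheafify.nonempty_restr_tensor_iso O U K' M
  exact IsZero.of_iso ((TN ((ModSite.restr O U).obj M)).map_isZero h) e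

lemma isZero_restr_tensor_right (K M' : ModSite.Mod O) (h : IsZero ((ModSite.restr O U).obj M')) :
    IsZero ((ModSite.restr O U).obj ((TL K).obj M')) := by
  obtain ⟨e⟩ := Groth.Agent.Helper9.RestrSheafify.nonempty_restr_tensor_iso O U K M'
  refine IsZero.of_iso ?_ e
  exact IsZero.of_iso ((TN ((ModSite.restr O U).obj K)).map_isZero h)
    ((symIso ((ModSite.restr O U).obj K)).app _)

/-- the projection `K ⟶ K_Z` -/
noncomputable abbrev π (K : ModSite.Mod O) : K ⟶ (ModSite.quotOn O U).obj K :=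
  (ModSite.quotOnπ O U).app K

/-- the counit `j_! j^* K ⟶ K` -/
noncomputable abbrev ε (K : ModSite.Mod O) :
    (ModSite.extZero O U).obj ((ModSite.restr O U).obj K) ⟶ K :=
  (ModSite.extZeroAdj O U).counit.app K

variable (M : ModSite.Mod O)

/-- (k1) -/
lemma k1 (K : ModSite.Mod O) :
    (TN M).map (ε O U K) ≫
      π O U ((TN M).obj K) = 0 := by
  have hz : IsZero ((ModSite.quotOn O U).obj
      ((TN M).obj ((ModSite.extZero O U).obj ((ModSite.restr O U).obj K)))) :=
    isZero_quotOn_of_iso O U ((projShA O U M).app ((ModSite.restr O U).obj K)).symm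
  have := (ModSite.quotOnπ O U).naturality ((TN M).map (ε O U K))
  rw [Functor.id_map] at this
  exact this.trans ((congrArg (· ≫ _) (hz.eq_of_tgt _ 0)).trans zero_comp)

/-- (k2) -/
lemma k2 (K : ModSite.Mod O) :
    ε O U ((TN M).obj K) ≫
      (TN M).map (π O U K) = 0 := by
  have hz : IsZero ((ModSite.restr O U).obj ((TN M).obj ((ModSite.quotOn O U).obj K))) :=
    isZero_restr_tensor_left O U ((ModSite.quotOn O U).obj K) M (isZero_restr_quotOn O U K)
  have h0 : (ModSite.restr O U).map ((TN M).map (π O U K)) = 0 :=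
    hz.eq_of_tgt _ _
  exact (counit_comp_iff O U ((TN M).map (π O U K))).2 h0

/-- `K ⊗ j_!P ≅ j_!(j^*K ⊗ P)` -/
lemma nonempty_tl_extZero_iso (K : ModSite.Mod O) (P : ModSite.Mod (O.over U)) :
    Nonempty ((TL K).obj ((ModSite.extZero O U).obj P) ≅
      (ModSite.extZero O U).obj ((TN P).obj ((ModSite.restr O U).obj K))) := by
  have e : (ModSite.extZero O U).obj P ≅ (ext O U).obj P := (extZeroIso O U).app P
  have e' : TN ((ModSite.extZero O U).obj P) ≅ ModSite.restr O U ⋙ TN P ⋙ ext O U :=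
    (ModSite.tensorBi O).flip.mapIso e ≪≫ tnExtIso O U P
  exact ⟨e'.app K ≪≫ ((extZeroIso O U).app _).symm⟩

/-- (k3) -/
lemma k3 (K : ModSite.Mod O) :
    (TL K).map (ε O U M) ≫
      π O U ((TL K).obj M) = 0 := by
  obtain ⟨e⟩ := nonempty_tl_extZero_iso O U K ((ModSite.restr O U).obj M)
  have hz : IsZero ((ModSite.quotOn O U).obj
      ((TL K).obj ((ModSite.extZero O U).obj ((ModSite.restr O U).obj M)))) :=
    isZero_quotOn_of_iso O U e
  have := (ModSite.quotOnπ O U).naturality ((TL K).map (ε O U M))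
  rw [Functor.id_map] at this
  exact this.trans ((congrArg (· ≫ _) (hz.eq_of_tgt _ 0)).trans zero_comp)

/-- (k4) -/
lemma k4 (K : ModSite.Mod O) :
    ε O U ((TL K).obj M) ≫
      (TL K).map (π O U M) = 0 := by
  have hz : IsZero ((ModSite.restr O U).obj ((TL K).obj ((ModSite.quotOn O U).obj M))) :=
    isZero_restr_tensor_right O U K ((ModSite.quotOn O U).obj M) (isZero_restr_quotOn O U M)
  have h0 : (ModSite.restr O U).map ((TL K).map (π O U M)) = 0 :=
    hz.eq_of_tgt _ _
  exact (counit_comp_iff O U ((TL K).map (π O U M))).2 h0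

instance preservesZeroMorphisms_TL (K : ModSite.Mod O) : (TL K).PreservesZeroMorphisms := by
  haveI : PreservesColimitsOfShape (Discrete PEmpty.{1}) (TL K) :=
    PreservesFiniteColimits.preservesFiniteColimits _
  haveI : PreservesColimit (Functor.empty.{0} (ModSite.Mod O)) (TL K) := inferInstance
  exact Functor.preservesZeroMorphisms_of_preserves_initial_object

section AbstractT

variable (T : ModSite.Mod O ⥤ ModSite.Mod O) [T.PreservesZeroMorphisms]
  [PreservesFiniteColimits T]

/-- `T K ⟶ T (K_Z)` -/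
noncomputable def p1 : T ⟶ ModSite.quotOn O U ⋙ T where
  app K := T.map (π O U K)
  naturality K K' f := by
    show T.map f ≫ T.map (π O U K') = T.map (π O U K) ≫ T.map ((ModSite.quotOn O U).map f)
    rw [← Functor.map_comp, ← Functor.map_comp]
    congr 1
    exact (ModSite.quotOnπ O U).naturality f

omit [T.PreservesZeroMorphisms] [PreservesFiniteColimits T] in
/-- `T K ⟶ (T K)_Z` -/
noncomputable def p2 : T ⟶ T ⋙ ModSite.quotOn O U where
  app K := π O U (T.obj K)
  naturality _ _ f := (ModSite.quotOnπ O U).naturality (T.map f)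

lemma epi_p1 (K : ModSite.Mod O) : Epi ((p1 O U T).app K) := by
  change Epi (T.map (π O U K))
  infer_instance

omit [T.PreservesZeroMorphisms] [PreservesFiniteColimits T] in
lemma epi_p2 (K : ModSite.Mod O) : Epi ((p2 O U T).app K) := by
  change Epi ((ModSite.quotOnπ O U).app _)
  infer_instance

theorem nonempty_iso12 (h1 : ∀ K, T.map (ε O U K) ≫ π O U (T.obj K) = 0)
    (h2 : ∀ K, ε O U (T.obj K) ≫ T.map (π O U K) = 0) :
    Nonempty (ModSite.quotOn O U ⋙ T ≅ T ⋙ ModSite.quotOn O U) := by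
  refine nonempty_iso_of_epi (p1 O U T) (p2 O U T) (epi_p1 O U T) (epi_p2 O U T) ?_ ?_
  · intro K
    exact exists_desc_map T (ε O U K) (π O U (T.obj K)) (h1 K)
  · intro K
    exact ⟨cokernel.desc (ε O U (T.obj K)) (T.map (π O U K)) (h2 K), cokernel.π_desc _ _ _⟩

end AbstractT

section AbstractB

variable (B : ModSite.Mod O ⥤ ModSite.Mod O ⥤ ModSite.Mod O)
  [∀ K, (B.obj K).PreservesZeroMorphisms] [∀ K, PreservesFiniteColimits (B.obj K)]

/-- `B K M ⟶ B K M_Z` -/
noncomputable def p3 : B.flip.obj M ⟶ B.flip.obj ((ModSite.quotOn O U).obj M) :=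
  B.flip.map (π O U M)

lemma epi_p3 (K : ModSite.Mod O) : Epi ((p3 O U M B).app K) := by
  change Epi ((B.obj K).map (π O U M))
  infer_instance

theorem nonempty_iso32 (h3 : ∀ K, (B.obj K).map (ε O U M) ≫ π O U ((B.obj K).obj M) = 0)
    (h4 : ∀ K, ε O U ((B.obj K).obj M) ≫ (B.obj K).map (π O U M) = 0) :
    Nonempty (B.flip.obj ((ModSite.quotOn O U).obj M) ≅ B.flip.obj M ⋙ ModSite.quotOn O U) := by
  refine nonempty_iso_of_epi (p3 O U M B) (p2 O U (B.flip.obj M)) (epi_p3 O U M B)
    (epi_p2 O U (B.flip.obj M)) ?_ ?_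
  · intro K
    exact exists_desc_map (B.obj K) (ε O U M) (π O U ((B.obj K).obj M)) (h3 K)
  · intro K
    exact ⟨cokernel.desc (ε O U ((B.obj K).obj M)) ((B.obj K).map (π O U M)) (h4 K),
      cokernel.π_desc _ _ _⟩

end AbstractB

theorem main [ModSite.HasPushOver O U] [ModSite.HasSheafHom M]
    [ModSite.HasSheafHom ((ModSite.quotOn O U).obj M)] :
    Nonempty (ModSite.sheafHom M ⋙ ModSite.sectOn O U ≅
        ModSite.sectOn O U ⋙ ModSite.sheafHom M) ∧
      Nonempty (ModSite.sheafHom M ⋙ ModSite.sectOn O U ≅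
        ModSite.sheafHom ((ModSite.quotOn O U).obj M)) := by
  obtain ⟨i12⟩ := nonempty_iso12 O U (TN M) (k1 O U M) (k2 O U M)
  obtain ⟨i32⟩ := nonempty_iso32 O U M (ModSite.tensorBi O) (k3 O U M) (k4 O U M)
  let adjA : ModSite.quotOn O U ⋙ TN M ⊣ ModSite.sheafHom M ⋙ ModSite.sectOn O U :=
    (Groth.Agent.Helper9.QuotSectAdj.adj O U).comp (ModSite.sheafHomAdj M)
  let adjB : TN M ⋙ ModSite.quotOn O U ⊣ ModSite.sectOn O U ⋙ ModSite.sheafHom M :=
    (ModSite.sheafHomAdj M).comp (Groth.Agent.Helper9.QuotSectAdj.adj O U)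
  exact ⟨⟨(adjA.ofNatIsoLeft i12).rightAdjointUniq adjB⟩,
    ⟨(adjA.ofNatIsoLeft (i12 ≪≫ i32.symm)).rightAdjointUniq
      (ModSite.sheafHomAdj ((ModSite.quotOn O U).obj M))⟩⟩

end Groth.Agent.Helper9.QuotSectTensor
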