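import Mathlib
import Groth.Prelude.Def_ExtSupp
import Groth.Agent.Helper9.QuotSectTensor
import Groth.Agent.Helper9.ExtObjDelta
import Groth.Agent.Helper9.ModCechExt

/-! `R^q(Γ(Γ_Z ℋom(M, -))) ≅ Ext^q(M_Z, -)` on a ringed site. -/

set_option autoImplicit false
universe u

open CategoryTheory CategoryTheory.Limits Opposite MonoidalCategory Abelian

namespace Groth.Agent.Helper9.ExtZRQuot

open Groth.Agent.Helper9.TensorSh Groth.Agent.Helper9.TensorAdj Groth.Agent.Helper9.TensorFlat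

section General

variable {𝒜 : Type*} [Category 𝒜] [Preadditive 𝒜]

/-- precomposition with an isomorphism, additively -/
def preAddEquiv {X X' : 𝒜} (e : X ≅ X') (Y : 𝒜) : (X ⟶ Y) ≃+ (X' ⟶ Y) where
  toFun f := e.inv ≫ f
  invFun g := e.hom ≫ g
  left_inv f := by simp
  right_inv g := by simp
  map_add' f g := Preadditive.comp_add _ _ _ _ _ _

end General

section ExtZero

variable {𝒜 : Type (u + 1)} [Category.{u} 𝒜] [Abelian 𝒜] [HasExt.{u} 𝒜] (A : 𝒜)

lemma addEquiv₀_mk₀ {A B : 𝒜} (a : A ⟶ B) : Ext.addEquiv₀ (Ext.mk₀ a) = a := by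
  rw [← Ext.addEquiv₀_symm_apply, AddEquiv.apply_symm_apply]

/-- `Ext^0(A, -) ≅ Hom(A, -)` -/
noncomputable def ext0Iso :
    Groth.Agent.Helper9.ExtObjDelta.T.{u} A 0 ≅ preadditiveCoyoneda.obj (op A) :=
  NatIso.ofComponents (fun N => (Ext.addEquiv₀ (X := A) (Y := N)).toAddCommGrpIso) (by
    intro N N' g
    apply AddCommGrpCat.hom_ext
    apply AddMonoidHom.ext
    intro (x : Ext.{u} A N 0)
    obtain ⟨a, rfl⟩ := (Ext.mk₀_bijective _ _).2 x
    show Ext.addEquiv₀ ((Ext.mk₀ a).comp (Ext.mk₀ g) (add_zero 0)) = Ext.addEquiv₀ (Ext.mk₀ a) ≫ g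
    rw [Ext.mk₀_comp_mk₀, addEquiv₀_mk₀, addEquiv₀_mk₀])

end ExtZero

variable {C : Type u} [SmallCategory C] {J : GrothendieckTopology C} (O : Sheaf J CommRingCat.{u})

instance isIso_counit : IsIso (adj O).counit :=
  inferInstanceAs (IsIso (PresheafOfModules.sheafificationAdjunction
    (𝟙 (ModSite.ringSh O).obj)).counit)

/-- `O ⊗ A ≅ A` -/
noncomputable def unitIso (A : ModSite.Mod O) : (TN A).obj (ModSite.unit O) ≅ A :=
  (a O).mapIso (λ_ ((ι O).obj A)) ≪≫ (asIso (adj O).counit).app A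

/-- `Γ(ℋom(A, -)) ≅ Hom(A, -)` -/
noncomputable def coyonedaIso (A : ModSite.Mod O) [ModSite.HasSheafHom A] :
    ModSite.sheafHom A ⋙ preadditiveCoyoneda.obj (op (ModSite.unit O)) ≅
      preadditiveCoyoneda.obj (op A) :=
  NatIso.ofComponents (fun N =>
    ((((ModSite.sheafHomAdj A).homAddEquiv (ModSite.unit O) N).symm).trans
      (preAddEquiv (unitIso O A) N)).toAddCommGrpIso) (by
    intro N N' g
    apply AddCommGrpCat.hom_ext
    apply AddMonoidHom.ext
    intro (x : ModSite.unit O ⟶ (ModSite.sheafHom A).obj N)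
    show (unitIso O A).inv ≫ ((ModSite.sheafHomAdj A).homEquiv _ _).symm
        (x ≫ (ModSite.sheafHom A).map g) =
      ((unitIso O A).inv ≫ ((ModSite.sheafHomAdj A).homEquiv _ _).symm x) ≫ g
    rw [Adjunction.homEquiv_naturality_right_symm, Category.assoc])

theorem main [HasExt.{u} (ModSite.Mod O)] (U : C) [ModSite.HasPushOver O U] (M : ModSite.Mod O)
    [ModSite.HasSheafHom M] [HasInjectiveResolutions (ModSite.Mod O)] (q : ℕ) :
    Nonempty (ExtSupp.ExtZR U M q ≅ Abelian.extFunctorObj ((ModSite.quotOn O U).obj M) q) := by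
  haveI : EnoughInjectives (ModSite.Mod O) :=
    Groth.Agent.Helper9.ModCechExt.enoughInjectives_mod (ModSite.ringSh O)
  haveI : ModSite.HasSheafHom ((ModSite.quotOn O U).obj M) :=
    Groth.Agent.Helper9.TensorAdj.hasSheafHom _
  obtain ⟨i⟩ := (Groth.Agent.Helper9.QuotSectTensor.main O U M).2
  let e : Groth.Agent.Helper9.ExtObjDelta.T.{u} ((ModSite.quotOn O U).obj M) 0 ≅
      ExtSupp.gammaZHom U M :=
    ext0Iso ((ModSite.quotOn O U).obj M) ≪≫ (coyonedaIso O ((ModSite.quotOn O U).obj M)).symm ≪≫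
      Functor.isoWhiskerRight i.symm _ ≪≫ Functor.associator _ _ _
  exact Groth.Agent.Helper9.ExtObjDelta.nonempty_iso_rightDerived
    ((ModSite.quotOn O U).obj M) (ExtSupp.gammaZHom U M) e q

end Groth.Agent.Helper9.ExtZRQuot
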