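import Mathlib
import Groth.Prelude.Def_DerSch
import Groth.Agent.Helper9.ClImmPF2
import Groth.Agent.S0484

/-! The direct image along a closed immersion preserves all small colimits and has a right
adjoint. -/

set_option autoImplicit false
set_option linter.style.haveILetI false
set_option linter.unusedVariables false
set_option linter.unusedSectionVars false
set_option linter.unusedSimpArgs false
universe u

namespace Groth.Agent.Helper9.ClImmPF4

open CategoryTheory CategoryTheory.Limits AlgebraicGeometry Opposite TopologicalSpace
open Groth.Agent.Helper9.SkyMod2 Groth.Agent.Helper9.SkyMod4 Groth.Agent.Helper9.SkyMod5 Groth.Agent.Helper9.ClImm1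

variable {X Y : Scheme.{u}}

section Colim

variable {J : Type u} [SmallCategory J]

lemma isZero_colimit_of_isZero {C : Type*} [Category C] [HasZeroMorphisms C] (D : J ⥤ C)
    [HasColimit D] (h : ∀ j, IsZero (D.obj j)) : IsZero (colimit D) := by
  rw [IsZero.iff_id_eq_zero]
  apply colimit.hom_ext
  intro j
  exact (h j).eq_of_src _ _

variable (f : X ⟶ Y) [IsClosedImmersion f]

instance (x : X) : PreservesColimitsOfSize.{u, u} (St x) :=
  (adj x).leftAdjoint_preservesColimits

instance (x : X) : PreservesColimitsOfSize.{u, u}
    (ModuleCat.restrictScalars.{u} (f.stalkMap x).hom) :=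
  (ModuleCat.restrictCoextendScalarsAdj.{u} (f.stalkMap x).hom).leftAdjoint_preservesColimits

/-- the direct image along a closed immersion commutes with colimits -/
theorem isIso_post (K : J ⥤ X.Modules) :
    IsIso (colimit.post K (Scheme.Modules.pushforward f)) := by
  apply Groth.Agent.Helper9.PullMon4.isIso_of_stalks
  intro y
  have h1 := colimit.post_post K (Scheme.Modules.pushforward f) (St y)
  haveI i1 : IsIso (colimit.post (K ⋙ Scheme.Modules.pushforward f) (St y)) := inferInstance
  by_cases hy : y ∈ Set.range f.base
  · obtain ⟨x, rfl⟩ := hy
    haveI : PreservesColimit K (Scheme.Modules.pushforward f ⋙ St (f.base x)) :=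
      preservesColimit_of_natIso K (pushStalkIso f (isClosedEmbedding f).isInducing x).symm
    haveI i2 : IsIso (colimit.post K (Scheme.Modules.pushforward f ⋙ St (f.base x))) :=
      inferInstance
    rw [← h1] at i2
    exact IsIso.of_isIso_comp_left
      (colimit.post (K ⋙ Scheme.Modules.pushforward f) (St (f.base x))) _
  · have hcl : IsClosed (Set.range f.base) := (isClosedEmbedding f).isClosed_range
    have hz : ∀ M : X.Modules, IsZero ((St y).obj ((Scheme.Modules.pushforward f).obj M)) :=
      fun M => @ModuleCat.isZero_of_subsingleton _ _ _ (subsingleton_stalk f hcl M y hy)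
    have hz1 : IsZero ((St y).obj (colimit (K ⋙ Scheme.Modules.pushforward f))) :=
      (isZero_colimit_of_isZero ((K ⋙ Scheme.Modules.pushforward f) ⋙ St y)
        (fun j => hz (K.obj j))).of_iso
        (asIso (colimit.post (K ⋙ Scheme.Modules.pushforward f) (St y))).symm
    exact ⟨⟨0, hz1.eq_of_src _ _, (hz _).eq_of_src _ _⟩⟩

instance preservesColimits_pushforward :
    PreservesColimitsOfSize.{u, u} (Scheme.Modules.pushforward f) where
  preservesColimitsOfShape {J} _ :=
    { preservesColimit := fun {K} => by
        haveI := isIso_post f K
        exact preservesColimit_of_isIso_post (Scheme.Modules.pushforward f) K }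

end Colim

/-- the direct image along a closed immersion has a right adjoint -/
theorem isLeftAdjoint_pushforward (f : X ⟶ Y) [IsClosedImmersion f] :
    (Scheme.Modules.pushforward f).IsLeftAdjoint := by
  haveI : IsGrothendieckAbelian.{u} X.Modules := Groth.Agent.S0484.result _ _
  exact isLeftAdjoint_of_preservesColimits_of_isSeparating (isSeparator_separator X.Modules) _

end Groth.Agent.Helper9.ClImmPF4
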