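import Mathlib
set_option autoImplicit false
universe u v w w'
open TensorProduct MulOpposite

namespace Groth.Agent.Helper9.AzuBC

section trace
variable (R : Type u) [CommRing R]
    (A : Type w) [AddCommGroup A] [Module R A] [Module.Finite R A] [Module.Projective R A]
    [FaithfulSMul R A]

lemma trace_top : Ideal.span {r : R | ∃ (φ : Module.Dual R A) (a : A), φ a = r} = ⊤ := by
  set T : Ideal R := Ideal.span {r : R | ∃ (φ : Module.Dual R A) (a : A), φ a = r} with hT
  obtain ⟨s, hs⟩ := (Module.projective_def'.mp (inferInstance : Module.Projective R A))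
  have hle : (⊤ : Submodule R A) ≤ T • (⊤ : Submodule R A) := by
    intro x _
    have hx : x = Finsupp.linearCombination R id (s x) := by
      have := LinearMap.congr_fun hs x
      simpa using this.symm
    rw [hx, Finsupp.linearCombination_apply]
    refine Submodule.sum_mem _ ?_
    intro a _
    refine Submodule.smul_mem_smul ?_ trivial
    exact Ideal.subset_span ⟨(Finsupp.lapply a) ∘ₗ s, x, rfl⟩
  obtain ⟨r, hr1, hr2⟩ := Submodule.exists_sub_one_mem_and_smul_eq_zero_of_fg_of_le_smul T
    (⊤ : Submodule R A) (Module.Finite.fg_top) hle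
  have hr0 : r = 0 := by
    apply FaithfulSMul.eq_of_smul_eq_smul (α := A)
    intro a
    rw [hr2 a trivial, zero_smul]
  rw [hr0, zero_sub] at hr1
  rw [Ideal.eq_top_iff_one]
  simpa using T.neg_mem hr1

variable (S : Type v) [CommRing S] [Algebra R S]

lemma faithful_baseChange : FaithfulSMul S (S ⊗[R] A) := by
  constructor
  intro s s' h
  let I' : Ideal R :=
    { carrier := {r | algebraMap R S r * s = algebraMap R S r * s'}
      add_mem' := by
        intro a b ha hb
        simp only [Set.mem_ofPred_eq] at ha hb ⊢
        rw [map_add, add_mul, add_mul, ha, hb]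
      zero_mem' := by simp
      smul_mem' := by
        intro c x hx
        simp only [Set.mem_ofPred_eq] at hx ⊢
        rw [smul_eq_mul, map_mul, mul_assoc, mul_assoc, hx] }
  have hle : Ideal.span {r : R | ∃ (φ : Module.Dual R A) (a : A), φ a = r} ≤ I' := by
    rw [Ideal.span_le]
    rintro _ ⟨φ, a, rfl⟩
    have h1 := h ((1 : S) ⊗ₜ[R] a)
    have h2 := congrArg (fun z => TensorProduct.rid R S (φ.lTensor S z)) h1
    simp only [TensorProduct.smul_tmul', smul_eq_mul, mul_one, LinearMap.lTensor_tmul,
      TensorProduct.rid_tmul] at h2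
    show algebraMap R S (φ a) * s = algebraMap R S (φ a) * s'
    rw [Algebra.smul_def, Algebra.smul_def] at h2
    exact h2
  rw [trace_top R A] at hle
  have : (1 : R) ∈ I' := hle trivial
  simpa [I'] using this

end trace

section bc
variable (R : Type u) [CommRing R] (S : Type v) [CommRing S] [Algebra R S]
    (M : Type w) [AddCommGroup M] [Module R M]

/-- the comparison map `S ⊗ End_R M → End_S (S ⊗ M)` -/
noncomputable def theta : S ⊗[R] (Module.End R M) →ₗ[S] Module.End S (S ⊗[R] M) :=
  LinearMap.liftBaseChange S (LinearMap.baseChangeHom R S M M)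

lemma theta_tmul (s : S) (x : Module.End R M) :
    theta R S M (s ⊗ₜ x) = s • x.baseChange S := by
  simp [theta]

variable {M} {F : Type w'} [AddCommGroup F] [Module R F]

/-- transport of endomorphisms along `i : M → F`, `p : F → M` -/
def sandwich (i : M →ₗ[R] F) (p : F →ₗ[R] M) : Module.End R M →ₗ[R] Module.End R F where
  toFun x := i ∘ₗ x ∘ₗ p
  map_add' x y := by
    apply LinearMap.ext; intro z; simp
  map_smul' r x := by
    apply LinearMap.ext; intro z; simp

lemma theta_sandwich (i : M →ₗ[R] F) (p : F →ₗ[R] M) (z : S ⊗[R] (Module.End R M)) :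
    theta R S F ((sandwich R i p).baseChange S z) =
      (i.baseChange S) ∘ₗ (theta R S M z) ∘ₗ (p.baseChange S) := by
  induction z using TensorProduct.induction_on with
  | zero => simp
  | add x y hx hy =>
    simp only [map_add, hx, hy, LinearMap.add_comp, LinearMap.comp_add]
  | tmul s x =>
    simp only [LinearMap.baseChange_tmul, theta_tmul, sandwich, LinearMap.coe_mk, AddHom.coe_mk,
      LinearMap.baseChange_comp, LinearMap.smul_comp, LinearMap.comp_smul]

lemma sandwich_sandwich (i : M →ₗ[R] F) (p : F →ₗ[R] M) (hpi : p ∘ₗ i = LinearMap.id)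
    (z : S ⊗[R] (Module.End R M)) :
    (sandwich R p i).baseChange S ((sandwich R i p).baseChange S z) = z := by
  induction z using TensorProduct.induction_on with
  | zero => simp
  | add x y hx hy => simp only [map_add, hx, hy]
  | tmul s x =>
    simp only [LinearMap.baseChange_tmul, sandwich, LinearMap.coe_mk, AddHom.coe_mk]
    congr 1
    have h1 : ∀ m, p (i m) = m := fun m => LinearMap.congr_fun hpi m
    apply LinearMap.ext; intro m
    simp [h1]

lemma theta_bijective_of_retract (i : M →ₗ[R] F) (p : F →ₗ[R] M) (hpi : p ∘ₗ i = LinearMap.id)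
    (hF : Function.Bijective (theta R S F)) : Function.Bijective (theta R S M) := by
  have hpi' : (p.baseChange S) ∘ₗ (i.baseChange S) = LinearMap.id := by
    rw [← LinearMap.baseChange_comp, hpi, LinearMap.baseChange_id]
  have h1 : ∀ m, (p.baseChange S) ((i.baseChange S) m) = m :=
    fun m => LinearMap.congr_fun hpi' m
  constructor
  · rw [injective_iff_map_eq_zero]
    intro z hz
    have := theta_sandwich R S i p z
    rw [hz] at this
    have h0 : (sandwich R i p).baseChange S z = 0 := by
      apply hF.1
      rw [this, map_zero]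
      simp
    rw [← sandwich_sandwich R S i p hpi z, h0, map_zero]
  · intro y
    obtain ⟨z', hz'⟩ := hF.2 ((i.baseChange S) ∘ₗ y ∘ₗ (p.baseChange S))
    refine ⟨(sandwich R p i).baseChange S z', ?_⟩
    rw [theta_sandwich, hz']
    apply LinearMap.ext; intro m
    simp [h1]

lemma theta_bijective_free (n : ℕ) : Function.Bijective (theta R S (Fin n → R)) := by
  have h := Module.isBaseChange_map_of_finite_free (R := R) (Fin n → R) S (Fin n)
  have : (theta R S (Fin n → R)) = h.equiv.toLinearMap := by
    apply TensorProduct.AlgebraTensorModule.ext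
    intro s x
    rw [theta_tmul]
    simp [IsBaseChange.equiv_tmul]
  rw [this]
  exact h.equiv.bijective

variable (M) in
lemma theta_bijective [Module.Finite R M] [Module.Projective R M] :
    Function.Bijective (theta R S M) := by
  obtain ⟨n, f, g, -, -, hfg⟩ := Module.Finite.exists_comp_eq_id_of_projective R M
  exact theta_bijective_of_retract R S g f hfg (theta_bijective_free R S n)

end bc

section main
variable (R : Type u) [CommRing R] (S : Type v) [CommRing S] [Algebra R S]
    (A : Type w) [Ring A] [Algebra R A]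

noncomputable def rho :
    S ⊗[R] (A ⊗[R] Aᵐᵒᵖ) ≃ₗ[S] (S ⊗[R] A) ⊗[S] (S ⊗[R] A)ᵐᵒᵖ :=
  TensorProduct.AlgebraTensorModule.distribBaseChange R S A Aᵐᵒᵖ ≪≫ₗ
    TensorProduct.congr (LinearEquiv.refl S (S ⊗[R] A))
      (TensorProduct.AlgebraTensorModule.congr (LinearEquiv.refl S S) (opLinearEquiv R).symm ≪≫ₗ
        opLinearEquiv S)

lemma rho_tmul (s : S) (a : A) (a' : Aᵐᵒᵖ) :
    rho R S A (s ⊗ₜ (a ⊗ₜ a')) = (s ⊗ₜ a) ⊗ₜ op ((1 : S) ⊗ₜ a'.unop) := by
  simp [rho]

lemma key :
    (AlgHom.mulLeftRight S (S ⊗[R] A)).toLinearMap ∘ₗ (rho R S A).toLinearMap =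
      theta R S A ∘ₗ (AlgHom.mulLeftRight R A).toLinearMap.baseChange S := by
  apply TensorProduct.AlgebraTensorModule.ext
  intro s y
  induction y using TensorProduct.induction_on with
  | zero => simp
  | add y z hy hz => simp only [TensorProduct.tmul_add, map_add, hy, hz]
  | tmul a a' =>
    apply TensorProduct.AlgebraTensorModule.ext
    intro t x
    simp [rho_tmul, theta_tmul, TensorProduct.smul_tmul']

theorem baseChange [IsAzumaya R A] : IsAzumaya S (S ⊗[R] A) where
  eq_of_smul_eq_smul := (faithful_baseChange R A S).eq_of_smul_eq_smul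
  bij := by
    have hk := key R S A
    have hb : Function.Bijective (theta R S A ∘ₗ
        (AlgHom.mulLeftRight R A).toLinearMap.baseChange S) := by
      let e1 : (A ⊗[R] Aᵐᵒᵖ) ≃ₗ[R] Module.End R A :=
        LinearEquiv.ofBijective (AlgHom.mulLeftRight R A).toLinearMap IsAzumaya.bij
      have : (AlgHom.mulLeftRight R A).toLinearMap.baseChange S =
          (e1.baseChange R S).toLinearMap := rfl
      rw [this, LinearMap.coe_comp]
      exact (theta_bijective R S A).comp (LinearEquiv.bijective _)
    rw [← hk] at hb
    have h2 : Function.Bijective ((AlgHom.mulLeftRight S (S ⊗[R] A)) ∘ (rho R S A)) := by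
      simpa [LinearMap.coe_comp] using hb
    exact (Function.Bijective.of_comp_iff _ (rho R S A).bijective).mp h2

end main

end Groth.Agent.Helper9.AzuBC
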