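import Mathlib
import Groth.Agent.Lead.TildeTensor
import Groth.Prelude.Def_KoszTw
import Groth.Prelude.Def_DCoh4
import Groth.Agent.Helper9.TotFun1
import Groth.Agent.Helper9.TotFun2
import Groth.Agent.Helper9.KFlat18

/-! `tilde (P ⊗ N) ≅ tilde P ⊗ tilde N` for complexes of modules. -/

set_option autoImplicit false
set_option linter.style.haveILetI false
set_option linter.unusedVariables false
set_option linter.unusedSectionVars false
universe u

namespace Groth.Agent.Helper9.TildeTen1

open TensorProduct CategoryTheory CategoryTheory.Limits AlgebraicGeometry Opposite TopologicalSpace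
  MonoidalCategory HomologicalComplex
open Groth.Agent.Lead.TildeTensor Groth.Agent.Helper4.TensorLift StructureSheaf

variable {R : CommRingCat.{u}} {M M' N N' : ModuleCat.{u} R}

set_option backward.isDefEq.respectTransparency false in
theorem map_app_apply (f : M ⟶ M') (V : (Spec R).Opens) (s : Γ(tilde M, V)) (x : V) :
    ((tilde.map f).app V s).1 x =
      StructureSheaf.Localizations.comapFun (σ := RingHom.id R) f.hom x.1 (s.1 x) := rfl

/-- `f ⊗ g` -/
noncomputable abbrev tmapHom (f : M ⟶ M') (g : N ⟶ N') :
    ModuleCat.of R (M ⊗[R] N) ⟶ ModuleCat.of R (M' ⊗[R] N') :=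
  ModuleCat.ofHom (TensorProduct.map f.hom g.hom)

section Alg

variable {A : Type u} [CommRing A] {X X' Y Y' : Type u} [AddCommGroup X] [Module A X]
  [AddCommGroup X'] [Module A X'] [AddCommGroup Y] [Module A Y] [AddCommGroup Y'] [Module A Y']

lemma comap_mk' (f : X →ₗ[A] X') (x : PrimeSpectrum A) (m : X) (s : x.asIdeal.primeCompl) :
    StructureSheaf.Localizations.comapFun (σ := RingHom.id A) f x (LocalizedModule.mk m s) =
      LocalizedModule.mk (f m) s :=
  StructureSheaf.Localizations.comapFun_mk (σ := RingHom.id A) f x m s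

lemma mu_comap (f : X →ₗ[A] X') (g : Y →ₗ[A] Y') (x : PrimeSpectrum A)
    (a : LocalizedModule x.asIdeal.primeCompl X) (b : LocalizedModule x.asIdeal.primeCompl Y) :
    mu x.asIdeal.primeCompl X' Y'
        (StructureSheaf.Localizations.comapFun (σ := RingHom.id A) f x a)
        (StructureSheaf.Localizations.comapFun (σ := RingHom.id A) g x b) =
      StructureSheaf.Localizations.comapFun (σ := RingHom.id A) (TensorProduct.map f g) x
        (mu x.asIdeal.primeCompl X Y a b) := by
  induction a with | _ m s
  induction b with | _ n t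
  rw [mu_mk]
  have h1 := comap_mk' f x m s
  have h2 := comap_mk' g x n t
  have h3 := comap_mk' (TensorProduct.map f g) x (m ⊗ₜ[A] n) (s * t)
  refine Eq.trans ?_ h3.symm
  refine (congrArg₂ (fun a b => mu x.asIdeal.primeCompl X' Y' a b) h1 h2).trans ?_
  rw [mu_mk, TensorProduct.map_tmul]

end Alg

set_option backward.isDefEq.respectTransparency false in
theorem betaFun_natural (f : M ⟶ M') (g : N ⟶ N') (V : (Spec R).Opens) (s : Γ(tilde M, V))
    (t : Γ(tilde N, V)) :
    betaFun M' N' V ((tilde.map f).app V s) ((tilde.map g).app V t) =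
      (tilde.map (tmapHom f g)).app V (betaFun M N V s t) := by
  apply Subtype.ext
  funext x
  exact mu_comap f.hom g.hom x.1 (s.1 x) (t.1 x)

theorem lift_natural (f : M ⟶ M') (g : N ⟶ N') :
    KoszTw.tensorMap (tilde.map f) (tilde.map g) ≫ (beta M' N').lift =
      (beta M N).lift ≫ tilde.map (tmapHom f g) := by
  apply Groth.Agent.Helper4.TensorLift.hom_ext
  intro V s t
  have e1 : (KoszTw.tensorMap (tilde.map f) (tilde.map g) ≫ (beta M' N').lift).app V
      (SecTwist.tmul (tilde M) (tilde N) V s t) =
      betaFun M' N' V ((tilde.map f).app V s) ((tilde.map g).app V t) := by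
    show (beta M' N').lift.app V ((KoszTw.tensorMap (tilde.map f) (tilde.map g)).app V
      (SecTwist.tmul (tilde M) (tilde N) V s t)) = _
    rw [KoszTw.tensorMap_tmul]
    exact (beta M' N').lift_tmul V _ _
  have e2 : ((beta M N).lift ≫ tilde.map (tmapHom f g)).app V
      (SecTwist.tmul (tilde M) (tilde N) V s t) =
      (tilde.map (tmapHom f g)).app V (betaFun M N V s t) := by
    show (tilde.map (tmapHom f g)).app V ((beta M N).lift.app V
      (SecTwist.tmul (tilde M) (tilde N) V s t)) = _
    rw [(beta M N).lift_tmul V s t]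
    rfl
  rw [e1, e2]
  exact betaFun_natural f g V s t

section Bifunctor

variable (R)

/-- the bifunctor `(M, N) ↦ tilde M ⊗ tilde N` -/
noncomputable abbrev biL : ModuleCat.{u} R ⥤ ModuleCat.{u} R ⥤ (Spec (CommRingCat.of R)).Modules :=
  Groth.Agent.Helper9.TotFun2.GF (tilde.functor R) (tilde.functor R)
    (DCoh.tensorBi (X := Spec (CommRingCat.of R)))

/-- the bifunctor `(M, N) ↦ tilde (M ⊗ N)` -/
noncomputable abbrev biR : ModuleCat.{u} R ⥤ ModuleCat.{u} R ⥤ (Spec (CommRingCat.of R)).Modules :=
  Groth.Agent.Helper9.TotFun1.FG (curriedTensor (ModuleCat.{u} R)) (tilde.functor R)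

variable {R}

set_option backward.isDefEq.respectTransparency false in
/-- the isomorphism on objects -/
noncomputable def ttIso (M N : ModuleCat.{u} R) :
    ((biL R).obj M).obj N ≅ ((biR R).obj M).obj N :=
  tensorTildeIso M N

set_option backward.isDefEq.respectTransparency false in
lemma ttIso_hom (M N : ModuleCat.{u} R) : (ttIso M N).hom = (beta M N).lift := rfl

set_option backward.isDefEq.respectTransparency false in
lemma ttIso_natural_right (M : ModuleCat.{u} R) {N N' : ModuleCat.{u} R} (g : N ⟶ N') :
    ((biL R).obj M).map g ≫ (ttIso M N').hom = (ttIso M N).hom ≫ ((biR R).obj M).map g := by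
  have h := lift_natural (𝟙 M) g
  rw [tilde.map_id] at h
  rw [ttIso_hom, ttIso_hom]
  have h1 : ((biL R).obj M).map g = KoszTw.tensorMap (𝟙 (tilde M)) (tilde.map g) :=
    KoszTw.tensorBi_obj_map (tilde M) (tilde.map g)
  rw [h1]
  exact h

set_option backward.isDefEq.respectTransparency false in
lemma ttIso_natural_left {M M' : ModuleCat.{u} R} (f : M ⟶ M') (N : ModuleCat.{u} R) :
    ((biL R).map f).app N ≫ (ttIso M' N).hom = (ttIso M N).hom ≫ ((biR R).map f).app N := by
  have h := lift_natural f (𝟙 N)
  rw [tilde.map_id] at h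
  rw [ttIso_hom, ttIso_hom]
  have h1 : ((biL R).map f).app N = KoszTw.tensorMap (tilde.map f) (𝟙 (tilde N)) :=
    KoszTw.tensorBi_map_app (tilde.map f) (tilde N)
  rw [h1]
  exact h

/-- `tilde` is monoidal, as an isomorphism of bifunctors -/
noncomputable def biIso : biL R ≅ biR R :=
  NatIso.ofComponents
    (fun M => NatIso.ofComponents (fun N => ttIso M N)
      (fun {N N'} g => ttIso_natural_right M g))
    (fun {M M'} f => by
      apply NatTrans.ext
      funext N
      exact ttIso_natural_left f N)

end Bifunctor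

section Complexes

variable (R)

/-- termwise `tilde` of complexes -/
noncomputable abbrev tCx :
    CochainComplex (ModuleCat.{u} R) ℤ ⥤ CochainComplex (Spec (CommRingCat.of R)).Modules ℤ :=
  (tilde.functor R).mapHomologicalComplex (ComplexShape.up ℤ)

variable {R}

variable (P N : CochainComplex (ModuleCat.{u} R) ℤ)

instance : HasMapBifunctor P N (biR R) (ComplexShape.up ℤ) := fun _ => inferInstance
instance : HasMapBifunctor P N (biL R) (ComplexShape.up ℤ) := fun _ => inferInstance

/-- `tilde` commutes with the tensor product of complexes -/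
noncomputable def tildeTensorCxIso :
    (tCx R).obj (P ⊗ N) ≅ (DCoh.tensorCx.obj ((tCx R).obj P)).obj ((tCx R).obj N) :=
  (Groth.Agent.Helper9.TotFun1.comparisonIso (curriedTensor (ModuleCat.{u} R)) (tilde.functor R)
      (ComplexShape.up ℤ) P N).symm ≪≫
    Groth.Agent.Helper9.KFlat18.mapBifunctorNatIso (ComplexShape.up ℤ) (biIso (R := R)).symm P N ≪≫
    Groth.Agent.Helper9.TotFun2.precompIso (tilde.functor R) (tilde.functor R)
      (DCoh.tensorBi (X := Spec (CommRingCat.of R))) P N (ComplexShape.up ℤ)

end Complexes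

end Groth.Agent.Helper9.TildeTen1
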