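import Mathlib

set_option autoImplicit false
universe u

namespace Groth.Agent.Helper9.Segre

open TensorProduct

variable {k R S : Type u} [Field k] [CommRing R] [Algebra k R] [CommRing S] [Algebra k S]
  (𝒜 : ℤ → Submodule k R) [GradedAlgebra 𝒜] (ℬ : ℤ → Submodule k S) [GradedAlgebra ℬ]

noncomputable def diagBil : R →ₗ[k] S →ₗ[k] R ⊗[k] S :=
  (DirectSum.toModule k ℤ (S →ₗ[k] R ⊗[k] S)
    (fun n => (LinearMap.lcomp k (R ⊗[k] S) (GradedAlgebra.proj ℬ n)) ∘ₗ (TensorProduct.mk k R S) ∘ₗ (𝒜 n).subtype))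
    ∘ₗ (DirectSum.decomposeLinearEquiv 𝒜).toLinearMap

noncomputable def diagProj : R ⊗[k] S →ₗ[k] R ⊗[k] S := TensorProduct.lift (diagBil 𝒜 ℬ)

theorem diagProj_homog {i j : ℤ} {a : R} (ha : a ∈ 𝒜 i) {b : S} (hb : b ∈ ℬ j) :
    diagProj 𝒜 ℬ (a ⊗ₜ b) = if i = j then a ⊗ₜ b else 0 := by
  unfold diagProj diagBil
  rw [TensorProduct.lift.tmul]
  simp only [LinearMap.coe_comp, LinearEquiv.coe_coe, Function.comp_apply,
    DirectSum.decomposeLinearEquiv_apply]
  rw [DirectSum.decompose_of_mem 𝒜 ha, ← DirectSum.lof_eq_of k, DirectSum.toModule_lof]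
  simp only [LinearMap.coe_comp, Function.comp_apply, Submodule.subtype_apply, LinearMap.lcomp_apply,
    TensorProduct.mk_apply, GradedAlgebra.proj_apply]
  split_ifs with h
  · subst h
    rw [DirectSum.decompose_of_mem_same ℬ hb]
  · rw [DirectSum.decompose_of_mem_ne ℬ hb (Ne.symm h), tmul_zero]

/-- homogeneous pure tensors span -/
theorem span_homog :
    Submodule.span k {x : R ⊗[k] S | ∃ (i j : ℤ) (a : R) (b : S), a ∈ 𝒜 i ∧ b ∈ ℬ j ∧ x = a ⊗ₜ b} = ⊤ := by
  classical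
  rw [eq_top_iff]
  rintro x -
  induction x using TensorProduct.induction_on with
  | zero => exact Submodule.zero_mem _
  | add x y hx hy => exact Submodule.add_mem _ hx hy
  | tmul a b =>
    rw [← DirectSum.sum_support_decompose 𝒜 a, TensorProduct.sum_tmul]
    refine Submodule.sum_mem _ fun i _ => ?_
    rw [← DirectSum.sum_support_decompose ℬ b, TensorProduct.tmul_sum]
    refine Submodule.sum_mem _ fun j _ => ?_
    exact Submodule.subset_span ⟨i, j, _, _, SetLike.coe_mem _, SetLike.coe_mem _, rfl⟩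

/-- the diagonal part -/
def diagSet : Set (R ⊗[k] S) := {x | ∃ (n : ℤ) (a : R) (b : S), a ∈ 𝒜 n ∧ b ∈ ℬ n ∧ x = a ⊗ₜ b}

theorem diagProj_mem (x : R ⊗[k] S) : diagProj 𝒜 ℬ x ∈ Submodule.span k (diagSet 𝒜 ℬ) := by
  have hx : x ∈ Submodule.span k {x : R ⊗[k] S | ∃ (i j : ℤ) (a : R) (b : S), a ∈ 𝒜 i ∧ b ∈ ℬ j ∧ x = a ⊗ₜ b} := by
    rw [span_homog]; trivial
  induction hx using Submodule.span_induction with
  | mem y hy =>
    obtain ⟨i, j, a, b, ha, hb, rfl⟩ := hy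
    rw [diagProj_homog 𝒜 ℬ ha hb]
    split_ifs with h
    · subst h
      exact Submodule.subset_span ⟨i, a, b, ha, hb, rfl⟩
    · exact Submodule.zero_mem _
  | zero => rw [map_zero]; exact Submodule.zero_mem _
  | add y z _ _ hy hz => rw [map_add]; exact Submodule.add_mem _ hy hz
  | smul c y _ hy => rw [map_smul]; exact Submodule.smul_mem _ _ hy

theorem diagProj_mul (y : R ⊗[k] S) (hy : y ∈ Submodule.span k (diagSet 𝒜 ℬ)) (x : R ⊗[k] S) :
    diagProj 𝒜 ℬ (y * x) = y * diagProj 𝒜 ℬ x := by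
  induction hy using Submodule.span_induction with
  | mem y hy =>
    obtain ⟨n, a, b, ha, hb, rfl⟩ := hy
    have hx : x ∈ Submodule.span k {x : R ⊗[k] S | ∃ (i j : ℤ) (a : R) (b : S), a ∈ 𝒜 i ∧ b ∈ ℬ j ∧ x = a ⊗ₜ b} := by
      rw [span_homog]; trivial
    induction hx using Submodule.span_induction with
    | mem z hz =>
      obtain ⟨i, j, a', b', ha', hb', rfl⟩ := hz
      rw [Algebra.TensorProduct.tmul_mul_tmul,
        diagProj_homog 𝒜 ℬ (SetLike.mul_mem_graded ha ha') (SetLike.mul_mem_graded hb hb'),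
        diagProj_homog 𝒜 ℬ ha' hb']
      by_cases h : i = j
      · subst h
        simp
      · have : ¬ (n + i = n + j) := fun h' => h (add_left_cancel h')
        simp [h, this]
    | zero => simp
    | add z w _ _ hz hw => rw [mul_add, map_add, map_add, hz, hw, mul_add]
    | smul c z _ hz => rw [mul_smul_comm, map_smul, map_smul, hz, mul_smul_comm]
  | zero => simp
  | add y z _ _ hy hz => rw [add_mul, map_add, hy, hz, add_mul]
  | smul c y _ hy => rw [smul_mul_assoc, map_smul, hy, smul_mul_assoc]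

theorem diagProj_one : diagProj 𝒜 ℬ 1 = 1 := by
  rw [Algebra.TensorProduct.one_def, diagProj_homog 𝒜 ℬ (SetLike.one_mem_graded 𝒜) (SetLike.one_mem_graded ℬ)]
  simp

theorem diagProj_fix (y : R ⊗[k] S) (hy : y ∈ Submodule.span k (diagSet 𝒜 ℬ)) : diagProj 𝒜 ℬ y = y := by
  have := diagProj_mul 𝒜 ℬ y hy 1
  rwa [mul_one, diagProj_one, mul_one] at this

variable {T : Type u} [CommRing T] [Algebra k T] (𝒯 : ℤ → Submodule k T) [GradedAlgebra 𝒯]
  (ψ : T →ₐ[k] R ⊗[k] S)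
  (hdegT : ∀ n : ℤ, (𝒯 n).map ψ.toLinearMap = Submodule.span k {x : R ⊗[k] S | ∃ a ∈ 𝒜 n, ∃ b ∈ ℬ n, x = a ⊗ₜ[k] b})

include hdegT in
theorem range_eq : LinearMap.range ψ.toLinearMap = Submodule.span k (diagSet 𝒜 ℬ) := by
  classical
  apply le_antisymm
  · rintro _ ⟨t, rfl⟩
    rw [← DirectSum.sum_support_decompose 𝒯 t, map_sum]
    refine Submodule.sum_mem _ fun n _ => ?_
    have h1 : ψ.toLinearMap ((DirectSum.decompose 𝒯 t n : T)) ∈ (𝒯 n).map ψ.toLinearMap :=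
      Submodule.mem_map_of_mem (SetLike.coe_mem _)
    rw [hdegT n] at h1
    refine Submodule.span_mono ?_ h1
    rintro x ⟨a, ha, b, hb, rfl⟩
    exact ⟨n, a, b, ha, hb, rfl⟩
  · rw [Submodule.span_le]
    rintro x ⟨n, a, b, ha, hb, rfl⟩
    have h1 : a ⊗ₜ[k] b ∈ (𝒯 n).map ψ.toLinearMap := by
      rw [hdegT n]
      exact Submodule.subset_span ⟨a, ha, b, hb, rfl⟩
    obtain ⟨t, _, ht⟩ := h1
    exact ⟨t, ht⟩

include hdegT in
theorem comap_map (hψ : Function.Injective ψ) (I : Ideal T) :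
    Ideal.comap ψ (Ideal.map ψ I) = I := by
  apply le_antisymm _ Ideal.le_comap_map
  intro t ht
  rw [Ideal.mem_comap] at ht
  have hr := range_eq 𝒜 ℬ 𝒯 ψ hdegT
  have Q : ∀ y ∈ Ideal.map ψ I, ∀ b : R ⊗[k] S, ∃ s ∈ I, ψ s = diagProj 𝒜 ℬ (b * y) := by
    intro y hy
    unfold Ideal.map at hy
    induction hy using Submodule.span_induction with
    | mem y hy =>
      obtain ⟨a, ha, rfl⟩ := hy
      intro b
      have h1 : ψ a ∈ Submodule.span k (diagSet 𝒜 ℬ) := by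
        rw [← hr]; exact ⟨a, rfl⟩
      have h2 : diagProj 𝒜 ℬ b ∈ LinearMap.range ψ.toLinearMap := by
        rw [hr]; exact diagProj_mem 𝒜 ℬ b
      obtain ⟨tb, htb⟩ := h2
      refine ⟨a * tb, I.mul_mem_right _ ha, ?_⟩
      rw [mul_comm b, diagProj_mul 𝒜 ℬ _ h1, map_mul]
      congr 1
    | zero => intro b; exact ⟨0, I.zero_mem, by simp⟩
    | add y z _ _ hy hz =>
      intro b
      obtain ⟨s, hs, hs'⟩ := hy b
      obtain ⟨s', hs2, hs2'⟩ := hz b
      exact ⟨s + s', I.add_mem hs hs2, by rw [map_add, mul_add, map_add, hs', hs2']⟩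
    | smul c y _ hy =>
      intro b
      obtain ⟨s, hs, hs'⟩ := hy (b * c)
      exact ⟨s, hs, by rw [hs', smul_eq_mul, mul_assoc]⟩
  obtain ⟨s, hs, hs'⟩ := Q _ ht 1
  rw [one_mul, diagProj_fix 𝒜 ℬ _ (by rw [← hr]; exact ⟨t, rfl⟩)] at hs'
  rw [← hψ hs']
  exact hs

include hdegT in
theorem noeth [IsNoetherianRing (R ⊗[k] S)] (hψ : Function.Injective ψ) : IsNoetherianRing T := by
  rw [isNoetherianRing_iff, isNoetherian_iff']
  let f : Ideal T ↪o Ideal (R ⊗[k] S) := OrderEmbedding.ofMapLEIff (Ideal.map ψ) (by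
    intro I J
    constructor
    · intro h
      rw [← comap_map 𝒜 ℬ 𝒯 ψ hdegT hψ I, ← comap_map 𝒜 ℬ 𝒯 ψ hdegT hψ J]
      exact Ideal.comap_mono h
    · exact fun h => Ideal.map_mono h)
  have : WellFoundedGT (Ideal (R ⊗[k] S)) := by
    rw [← isNoetherian_iff', ← isNoetherianRing_iff]; infer_instance
  exact f.wellFoundedGT

end Groth.Agent.Helper9.Segre

namespace Groth.Agent.Helper9.Segre
open TensorProduct

theorem main (k : Type u) [Field k] (R : Type u) [CommRing R] [Algebra k R] (𝒜 : ℤ → Submodule k R) [GradedAlgebra 𝒜]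
    [Algebra.FiniteType k R] (S : Type u) [CommRing S] [Algebra k S] (ℬ : ℤ → Submodule k S) [GradedAlgebra ℬ]
    [Algebra.FiniteType k S] (T : Type u) [CommRing T] [Algebra k T] (𝒯 : ℤ → Submodule k T) [GradedAlgebra 𝒯]
    (ψ : T →ₐ[k] TensorProduct k R S) (hψ : Function.Injective ψ)
    (hdegT : ∀ n : ℤ, (𝒯 n).map ψ.toLinearMap = Submodule.span k {x : TensorProduct k R S | ∃ a ∈ 𝒜 n, ∃ b ∈ ℬ n, x = a ⊗ₜ[k] b}) :
    IsNoetherianRing T := by
  have h1 : Algebra.FiniteType R (R ⊗[k] S) := inferInstance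
  have h2 : Algebra.FiniteType k (R ⊗[k] S) := Algebra.FiniteType.trans (inferInstance : Algebra.FiniteType k R) h1
  have : IsNoetherianRing (R ⊗[k] S) := Algebra.FiniteType.isNoetherianRing k _
  exact noeth 𝒜 ℬ 𝒯 ψ hdegT hψ

end Groth.Agent.Helper9.Segre
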