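import Mathlib
import Groth.Prelude.Def_GrSeg
import Groth.Agent.Helper9.Segre

set_option autoImplicit false
set_option linter.unusedSectionVars false
universe u

namespace Groth.Agent.Helper9.SegreMod

open TensorProduct

section Proj

variable {k R : Type u} [Field k] [CommRing R] [Algebra k R]
  (𝒜 : ℤ → Submodule k R) [GradedAlgebra 𝒜]
  {M : Type u} [AddCommGroup M] [Module R M] [Module k M] [IsScalarTower k R M]
  (ℳ : ℤ → AddSubgroup M) [DirectSum.Decomposition ℳ] [SetLike.GradedSMul 𝒜 ℳ]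

theorem proj_smul (c : ℤ) (F : R) (hF : F ∈ 𝒜 c) (x : M) (j : ℤ) :
    ((DirectSum.decompose ℳ (F • x)) j : M) = F • ((DirectSum.decompose ℳ x) (j - c) : M) := by
  induction x using DirectSum.Decomposition.inductionOn ℳ with
  | zero => simp
  | @homogeneous m x =>
    have hFx : F • (x : M) ∈ ℳ (c + m) := SetLike.GradedSMul.smul_mem hF x.2
    by_cases h : c + m = j
    · subst h
      rw [DirectSum.decompose_of_mem_same ℳ hFx]
      have : c + m - c = m := by ring
      rw [this, DirectSum.decompose_of_mem_same ℳ x.2]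
    · rw [DirectSum.decompose_of_mem_ne ℳ hFx h]
      have h' : m ≠ j - c := fun h2 => h (by rw [h2]; ring)
      rw [DirectSum.decompose_of_mem_ne ℳ x.2 h', smul_zero]
  | add x y hx hy =>
    rw [smul_add, DirectSum.decompose_add, DirectSum.decompose_add, DirectSum.add_apply,
      DirectSum.add_apply, AddSubgroup.coe_add, AddSubgroup.coe_add, hx, hy, smul_add]

include 𝒜 in
theorem ksmul_mem (c : k) {n : ℤ} {x : M} (hx : x ∈ ℳ n) : c • x ∈ ℳ n := by
  rw [← algebraMap_smul R c x]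
  have h := SetLike.GradedSMul.smul_mem (A := 𝒜) (B := ℳ) (SetLike.algebraMap_mem_graded 𝒜 c) hx
  rwa [vadd_eq_add, zero_add] at h

/-- the `k`-linear projection to the degree `n` part -/
noncomputable def proj (n : ℤ) : M →ₗ[k] M where
  toFun x := (DirectSum.decompose ℳ x n : M)
  map_add' x y := by
    rw [DirectSum.decompose_add, DirectSum.add_apply, AddSubgroup.coe_add]
  map_smul' c x := by
    rw [RingHom.id_apply, ← algebraMap_smul R c x,
      proj_smul 𝒜 ℳ 0 _ (SetLike.algebraMap_mem_graded 𝒜 c) x n, sub_zero, algebraMap_smul]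

theorem proj_apply (n : ℤ) (x : M) : proj 𝒜 ℳ n x = (DirectSum.decompose ℳ x n : M) := rfl

theorem proj_of_mem {i : ℤ} (n : ℤ) {x : M} (hx : x ∈ ℳ i) :
    proj 𝒜 ℳ n x = if i = n then x else 0 := by
  rw [proj_apply]
  split_ifs with h
  · subst h
    exact DirectSum.decompose_of_mem_same ℳ hx
  · exact DirectSum.decompose_of_mem_ne ℳ hx h

end Proj


section Diag

variable {k R S : Type u} [Field k] [CommRing R] [Algebra k R] [CommRing S] [Algebra k S]
  (𝒜 : ℤ → Submodule k R) [GradedAlgebra 𝒜] (ℬ : ℤ → Submodule k S) [GradedAlgebra ℬ]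
  {M : Type u} [AddCommGroup M] [Module R M] [Module k M] [IsScalarTower k R M]
  (ℳ : ℤ → AddSubgroup M) [DirectSum.Decomposition ℳ] [SetLike.GradedSMul 𝒜 ℳ]
  {N : Type u} [AddCommGroup N] [Module S N] [Module k N] [IsScalarTower k S N]
  (𝒩 : ℤ → AddSubgroup N) [DirectSum.Decomposition 𝒩] [SetLike.GradedSMul ℬ 𝒩]

/-- auxiliary additive map -/
noncomputable def bil₀ : (DirectSum ℤ fun n => ℳ n) →+ (N →ₗ[k] M ⊗[k] N) :=
  DirectSum.toAddMonoid (fun n =>
    { toFun := fun x : ℳ n => (TensorProduct.mk k M N (x : M)) ∘ₗ proj ℬ 𝒩 n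
      map_zero' := by
        ext y
        simp
      map_add' := fun x y => by
        ext z
        simp })

noncomputable def bil₁ : M →+ (N →ₗ[k] M ⊗[k] N) :=
  (bil₀ ℬ ℳ 𝒩).comp (DirectSum.decomposeAddEquiv ℳ).toAddMonoidHom

theorem bil₁_of_mem {n : ℤ} {x : M} (hx : x ∈ ℳ n) (y : N) :
    bil₁ ℬ ℳ 𝒩 x y = x ⊗ₜ[k] proj ℬ 𝒩 n y := by
  unfold bil₁ bil₀
  rw [AddMonoidHom.comp_apply]
  have : (DirectSum.decomposeAddEquiv ℳ).toAddMonoidHom x = DirectSum.of (fun n => ℳ n) n ⟨x, hx⟩ :=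
    DirectSum.decompose_of_mem ℳ hx
  rw [this, DirectSum.toAddMonoid_of]
  rfl

include 𝒜 in
theorem bil₁_smul (c : k) (x : M) : bil₁ ℬ ℳ 𝒩 (c • x) = c • bil₁ ℬ ℳ 𝒩 x := by
  induction x using DirectSum.Decomposition.inductionOn ℳ with
  | zero => simp
  | @homogeneous n x =>
    ext y
    rw [bil₁_of_mem ℬ ℳ 𝒩 (ksmul_mem 𝒜 ℳ c x.2), LinearMap.smul_apply, bil₁_of_mem ℬ ℳ 𝒩 x.2,
      TensorProduct.smul_tmul']
  | add x y hx hy => rw [smul_add, map_add, hx, hy, map_add, smul_add]

/-- the diagonal bilinear map -/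
noncomputable def bil : M →ₗ[k] N →ₗ[k] M ⊗[k] N where
  toFun := bil₁ ℬ ℳ 𝒩
  map_add' := (bil₁ ℬ ℳ 𝒩).map_add
  map_smul' c x := bil₁_smul 𝒜 ℬ ℳ 𝒩 c x

/-- the diagonal projection of `M ⊗ N` -/
noncomputable def D : M ⊗[k] N →ₗ[k] M ⊗[k] N := TensorProduct.lift (bil 𝒜 ℬ ℳ 𝒩)

theorem D_homog {i j : ℤ} {x : M} (hx : x ∈ ℳ i) {y : N} (hy : y ∈ 𝒩 j) :
    D 𝒜 ℬ ℳ 𝒩 (x ⊗ₜ[k] y) = if i = j then x ⊗ₜ[k] y else 0 := by
  unfold D
  rw [TensorProduct.lift.tmul]
  show bil₁ ℬ ℳ 𝒩 x y = _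
  rw [bil₁_of_mem ℬ ℳ 𝒩 hx, proj_of_mem ℬ 𝒩 i hy]
  split_ifs with h1 h2 h2
  · rfl
  · exact absurd h1.symm h2
  · exact absurd h2.symm h1
  · rw [tmul_zero]

theorem span_homog :
    Submodule.span k {v : M ⊗[k] N | ∃ (i j : ℤ) (x : M) (y : N), x ∈ ℳ i ∧ y ∈ 𝒩 j ∧ v = x ⊗ₜ y}
      = ⊤ := by
  classical
  rw [eq_top_iff]
  rintro v -
  induction v using TensorProduct.induction_on with
  | zero => exact Submodule.zero_mem _
  | add x y hx hy => exact Submodule.add_mem _ hx hy
  | tmul a b =>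
    rw [← DirectSum.sum_support_decompose ℳ a, TensorProduct.sum_tmul]
    refine Submodule.sum_mem _ fun i _ => ?_
    rw [← DirectSum.sum_support_decompose 𝒩 b, TensorProduct.tmul_sum]
    refine Submodule.sum_mem _ fun j _ => ?_
    exact Submodule.subset_span ⟨i, j, _, _, SetLike.coe_mem _, SetLike.coe_mem _, rfl⟩

end Diag


section Act

variable {k R S : Type u} [Field k] [CommRing R] [Algebra k R] [CommRing S] [Algebra k S]
  {M : Type u} [AddCommGroup M] [Module R M] [Module k M] [IsScalarTower k R M]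
  {N : Type u} [AddCommGroup N] [Module S N] [Module k N] [IsScalarTower k S N]

theorem act_one (v : M ⊗[k] N) : GrSeg.act k R S M N 1 v = v := by
  rw [Algebra.TensorProduct.one_def]
  induction v using TensorProduct.induction_on with
  | zero => simp
  | tmul m n => rw [GrSeg.act_tmul, one_smul, one_smul]
  | add v w hv hw => rw [map_add, hv, hw]

theorem act_mul (τ σ : R ⊗[k] S) (v : M ⊗[k] N) :
    GrSeg.act k R S M N (τ * σ) v = GrSeg.act k R S M N τ (GrSeg.act k R S M N σ v) := by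
  induction τ using TensorProduct.induction_on with
  | zero => simp
  | add τ τ' h1 h2 => rw [add_mul, map_add, LinearMap.add_apply, h1, h2, map_add, LinearMap.add_apply]
  | tmul a b =>
    induction σ using TensorProduct.induction_on with
    | zero => simp
    | add σ σ' h1 h2 =>
      rw [mul_add, map_add, LinearMap.add_apply, h1, h2, map_add, LinearMap.add_apply, map_add]
    | tmul a' b' =>
      induction v using TensorProduct.induction_on with
      | zero => simp
      | add v w hv hw => simp only [map_add, hv, hw]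
      | tmul m n =>
        rw [Algebra.TensorProduct.tmul_mul_tmul, GrSeg.act_tmul, GrSeg.act_tmul, GrSeg.act_tmul,
          mul_smul, mul_smul]

/-- the action as a ring hom -/
noncomputable def actRingHom : R ⊗[k] S →+* Module.End k (M ⊗[k] N) where
  toFun τ := GrSeg.act k R S M N τ
  map_one' := LinearMap.ext act_one
  map_mul' τ σ := LinearMap.ext (act_mul τ σ)
  map_zero' := map_zero _
  map_add' := map_add _

/-- the module structure of `M ⊗ N` over `R ⊗ S` -/
@[reducible] noncomputable def tensorModule : Module (R ⊗[k] S) (M ⊗[k] N) :=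
  Module.compHom (M ⊗[k] N) (actRingHom (k := k) (R := R) (S := S) (M := M) (N := N))

attribute [local instance] tensorModule

theorem smul_def (τ : R ⊗[k] S) (v : M ⊗[k] N) : τ • v = GrSeg.act k R S M N τ v := rfl

theorem finite_tensor [Module.Finite R M] [Module.Finite S N] :
    Module.Finite (R ⊗[k] S) (M ⊗[k] N) := by
  classical
  obtain ⟨sM, hsM⟩ := (Module.Finite.fg_top : (⊤ : Submodule R M).FG)
  obtain ⟨sN, hsN⟩ := (Module.Finite.fg_top : (⊤ : Submodule S N).FG)
  refine ⟨⟨Finset.image₂ (fun m n => m ⊗ₜ[k] n) sM sN, ?_⟩⟩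
  rw [eq_top_iff]
  rintro v -
  have key : ∀ m ∈ Submodule.span R (sM : Set M), ∀ n ∈ Submodule.span S (sN : Set N),
      m ⊗ₜ[k] n ∈ Submodule.span (R ⊗[k] S)
        ((Finset.image₂ (fun m n => m ⊗ₜ[k] n) sM sN : Finset (M ⊗[k] N)) : Set (M ⊗[k] N)) := by
    intro m hm
    induction hm using Submodule.span_induction with
    | mem m hm =>
      intro n hn
      induction hn using Submodule.span_induction with
      | mem n hn =>
        apply Submodule.subset_span
        rw [Finset.coe_image₂]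
        exact ⟨m, hm, n, hn, rfl⟩
      | zero => rw [tmul_zero]; exact Submodule.zero_mem _
      | add n n' _ _ h1 h2 => rw [tmul_add]; exact Submodule.add_mem _ h1 h2
      | smul b n _ h1 =>
        have : m ⊗ₜ[k] (b • n) = ((1 : R) ⊗ₜ[k] b) • (m ⊗ₜ[k] n) := by
          rw [smul_def, GrSeg.act_tmul, one_smul]
        rw [this]
        exact Submodule.smul_mem _ _ h1
    | zero => intro n _; rw [zero_tmul]; exact Submodule.zero_mem _
    | add m m' _ _ h1 h2 => intro n hn; rw [add_tmul]; exact Submodule.add_mem _ (h1 n hn) (h2 n hn)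
    | smul a m _ h1 =>
      intro n hn
      have : (a • m) ⊗ₜ[k] n = (a ⊗ₜ[k] (1 : S)) • (m ⊗ₜ[k] n) := by
        rw [smul_def, GrSeg.act_tmul, one_smul]
      rw [this]
      exact Submodule.smul_mem _ _ (h1 n hn)
  induction v using TensorProduct.induction_on with
  | zero => exact Submodule.zero_mem _
  | add v w hv hw => exact Submodule.add_mem _ hv hw
  | tmul m n => exact key m (by rw [hsM]; trivial) n (by rw [hsN]; trivial)

end Act


section Main

attribute [local instance] tensorModule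

open Groth.Agent.Helper9.Segre in
theorem main (k : Type u) [Field k] (R : Type u) [CommRing R] [Algebra k R]
    (𝒜 : ℤ → Submodule k R) [GradedAlgebra 𝒜] [Algebra.FiniteType k R]
    (S : Type u) [CommRing S] [Algebra k S] (ℬ : ℤ → Submodule k S) [GradedAlgebra ℬ]
    [Algebra.FiniteType k S] (T : Type u) [CommRing T] [Algebra k T] (𝒯 : ℤ → Submodule k T)
    [GradedAlgebra 𝒯] (ψ : T →ₐ[k] TensorProduct k R S) (hT : GrSeg.IsSegreRing 𝒜 ℬ 𝒯 ψ)
    (M : Type u) [AddCommGroup M] [Module R M] [Module k M] [IsScalarTower k R M]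
    (ℳ : ℤ → AddSubgroup M) [DirectSum.Decomposition ℳ] [SetLike.GradedSMul 𝒜 ℳ]
    [Module.Finite R M] (N : Type u) [AddCommGroup N] [Module S N] [Module k N]
    [IsScalarTower k S N] (𝒩 : ℤ → AddSubgroup N) [DirectSum.Decomposition 𝒩]
    [SetLike.GradedSMul ℬ 𝒩] [Module.Finite S N] (P : Type u) [AddCommGroup P] [Module T P]
    [Module k P] [IsScalarTower k T P] (𝒬 : ℤ → AddSubgroup P) [DirectSum.Decomposition 𝒬]
    (φ : P →ₗ[k] TensorProduct k M N) (hP : GrSeg.IsSegreMod ψ ℳ 𝒩 𝒬 φ) : Module.Finite T P := by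
  classical
  have hdegT : ∀ n : ℤ, (𝒯 n).map ψ.toLinearMap =
      Submodule.span k {x : R ⊗[k] S | ∃ a ∈ 𝒜 n, ∃ b ∈ ℬ n, x = a ⊗ₜ[k] b} := hT.2
  have hr := range_eq 𝒜 ℬ 𝒯 ψ hdegT
  -- the diagonal part of M ⊗ N
  obtain ⟨diagM, hdiagM⟩ : ∃ W : Submodule k (M ⊗[k] N), W = Submodule.span k
      {v : M ⊗[k] N | ∃ (n : ℤ) (x : M) (y : N), x ∈ ℳ n ∧ y ∈ 𝒩 n ∧ v = x ⊗ₜ[k] y} := ⟨_, rfl⟩
  have hrange : ∀ p : P, φ p ∈ diagM := by
    intro p
    rw [← DirectSum.sum_support_decompose 𝒬 p, map_sum]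
    refine Submodule.sum_mem _ fun n _ => ?_
    have h1 : φ ((DirectSum.decompose 𝒬 p n : P)) ∈ φ '' ((𝒬 n : AddSubgroup P) : Set P) :=
      ⟨_, (DirectSum.decompose 𝒬 p n).2, rfl⟩
    rw [hP.image_piece n] at h1
    rw [hdiagM]
    refine Submodule.span_mono ?_ h1
    rintro v ⟨x, hx, y, hy, rfl⟩
    exact ⟨n, x, y, hx, hy, rfl⟩
  have hDfix : ∀ v ∈ diagM, D 𝒜 ℬ ℳ 𝒩 v = v := by
    intro v hv
    rw [hdiagM] at hv
    induction hv using Submodule.span_induction with
    | mem v hv =>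
      obtain ⟨n, x, y, hx, hy, rfl⟩ := hv
      rw [D_homog 𝒜 ℬ ℳ 𝒩 hx hy, if_pos rfl]
    | zero => rw [map_zero]
    | add v w _ _ hv hw => rw [map_add, hv, hw]
    | smul c v _ hv => rw [map_smul, hv]
  have hDact : ∀ (τ : R ⊗[k] S), ∀ v ∈ diagM,
      D 𝒜 ℬ ℳ 𝒩 (GrSeg.act k R S M N τ v) = GrSeg.act k R S M N (diagProj 𝒜 ℬ τ) v := by
    intro τ v hv
    have hτ : τ ∈ Submodule.span k {x : R ⊗[k] S | ∃ (i j : ℤ) (a : R) (b : S),
        a ∈ 𝒜 i ∧ b ∈ ℬ j ∧ x = a ⊗ₜ b} := by
      rw [Groth.Agent.Helper9.Segre.span_homog]; trivial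
    induction hτ using Submodule.span_induction with
    | mem τ hτ =>
      obtain ⟨i, j, a, b, ha, hb, rfl⟩ := hτ
      rw [hdiagM] at hv
      induction hv using Submodule.span_induction with
      | mem v hv =>
        obtain ⟨n, x, y, hx, hy, rfl⟩ := hv
        have hax : a • x ∈ ℳ (i + n) := SetLike.GradedSMul.smul_mem ha hx
        have hby : b • y ∈ 𝒩 (j + n) := SetLike.GradedSMul.smul_mem hb hy
        rw [GrSeg.act_tmul, D_homog 𝒜 ℬ ℳ 𝒩 hax hby, diagProj_homog 𝒜 ℬ ha hb]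
        by_cases h : i = j
        · subst h
          rw [if_pos rfl, if_pos rfl, GrSeg.act_tmul]
        · have : ¬ (i + n = j + n) := fun h' => h (add_right_cancel h')
          rw [if_neg h, if_neg this, map_zero, LinearMap.zero_apply]
      | zero => simp
      | add v w _ _ hv hw => simp only [map_add, hv, hw]
      | smul c v _ hv => simp only [map_smul, hv]
    | zero => simp
    | add τ σ _ _ h1 h2 => simp only [map_add, LinearMap.add_apply, h1, h2]
    | smul c τ _ h1 => simp only [map_smul, LinearMap.smul_apply, h1]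
  -- Noetherianity upstairs
  have h1 : Algebra.FiniteType R (R ⊗[k] S) := inferInstance
  have h2 : Algebra.FiniteType k (R ⊗[k] S) :=
    Algebra.FiniteType.trans (inferInstance : Algebra.FiniteType k R) h1
  have hnoeth : IsNoetherianRing (R ⊗[k] S) := Algebra.FiniteType.isNoetherianRing k _
  have hfin : Module.Finite (R ⊗[k] S) (M ⊗[k] N) := finite_tensor
  have hnoethM : IsNoetherian (R ⊗[k] S) (M ⊗[k] N) := isNoetherian_of_isNoetherianRing_of_finite _ _
  -- key
  have key : ∀ (Q : Submodule T P), ∀ w ∈ Submodule.span (R ⊗[k] S) (φ '' (Q : Set P)),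
      ∀ τ : R ⊗[k] S, ∃ q ∈ Q, φ q = D 𝒜 ℬ ℳ 𝒩 (τ • w) := by
    intro Q w hw
    induction hw using Submodule.span_induction with
    | mem w hw =>
      obtain ⟨q₀, hq₀, rfl⟩ := hw
      intro τ
      have h3 : diagProj 𝒜 ℬ τ ∈ LinearMap.range ψ.toLinearMap := by
        rw [hr]; exact diagProj_mem 𝒜 ℬ τ
      obtain ⟨t, ht⟩ := h3
      refine ⟨t • q₀, Q.smul_mem _ hq₀, ?_⟩
      have ht' : ψ t = diagProj 𝒜 ℬ τ := ht
      rw [smul_def, hDact τ _ (hrange q₀), hP.map_smul, ht']
    | zero =>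
      intro τ
      exact ⟨0, Q.zero_mem, by rw [smul_zero, map_zero, map_zero]⟩
    | add v w _ _ hv hw =>
      intro τ
      obtain ⟨q, hq, e⟩ := hv τ
      obtain ⟨q', hq', e'⟩ := hw τ
      exact ⟨q + q', Q.add_mem hq hq', by rw [smul_add, map_add, map_add, e, e']⟩
    | smul σ w _ hw =>
      intro τ
      obtain ⟨q, hq, e⟩ := hw (τ * σ)
      exact ⟨q, hq, by rw [e, mul_smul]⟩
  have hmem : ∀ (Q : Submodule T P) (p : P),
      φ p ∈ Submodule.span (R ⊗[k] S) (φ '' (Q : Set P)) → p ∈ Q := by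
    intro Q p hp
    obtain ⟨q, hq, e⟩ := key Q _ hp 1
    rw [one_smul, hDfix _ (hrange p)] at e
    rw [← hP.injective e]
    exact hq
  let f : Submodule T P ↪o Submodule (R ⊗[k] S) (M ⊗[k] N) :=
    OrderEmbedding.ofMapLEIff (fun Q => Submodule.span (R ⊗[k] S) (φ '' (Q : Set P))) (by
      intro Q Q'
      constructor
      · intro h p hp
        apply hmem Q' p
        apply h
        exact Submodule.subset_span ⟨p, hp, rfl⟩
      · intro h
        exact Submodule.span_mono (Set.image_mono h))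
  have hwf : WellFoundedGT (Submodule (R ⊗[k] S) (M ⊗[k] N)) := by
    rw [← isNoetherian_iff']
    exact hnoethM
  have : WellFoundedGT (Submodule T P) := f.wellFoundedGT
  have : IsNoetherian T P := by
    rw [isNoetherian_iff']
    exact this
  infer_instance

end Main

end Groth.Agent.Helper9.SegreMod
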