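import Mathlib
import Groth.Prelude.Def_GrSeg

set_option autoImplicit false
set_option linter.unusedSectionVars false
universe u

namespace Groth.Agent.Helper9.SegreNu

open TensorProduct DirectSum

section Std

variable {k R : Type u} [Field k] [CommRing R] [Algebra k R]
  (𝒜 : ℤ → Submodule k R) [GradedAlgebra 𝒜]

/-- products of an element of degree `m` with one of degree `n` -/
def prodSet (m n : ℤ) : Set R := {z | ∃ x ∈ 𝒜 m, ∃ y ∈ 𝒜 n, z = x * y}

theorem succ_le
    (hstd : Ideal.span (⋃ n ∈ Set.Ioi (0 : ℤ), (𝒜 n : Set R)) =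
      Ideal.span ((𝒜 1 : Submodule k R) : Set R))
    (n : ℤ) (hn : 0 ≤ n) : 𝒜 (n + 1) ≤ Submodule.span k (prodSet 𝒜 n 1) := by
  intro x hx
  have hx' : x ∈ Ideal.span ((𝒜 1 : Submodule k R) : Set R) := by
    rw [← hstd]
    apply Ideal.subset_span
    simp only [Set.mem_iUnion]
    exact ⟨n + 1, by simp only [Set.mem_Ioi]; omega, hx⟩
  have key : ∀ z ∈ Ideal.span ((𝒜 1 : Submodule k R) : Set R), ∀ r : R,
      (decompose 𝒜 (r * z) (n + 1) : R) ∈ Submodule.span k (prodSet 𝒜 n 1) := by
    intro z hz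
    induction hz using Submodule.span_induction with
    | mem z hz =>
      intro r
      rw [coe_decompose_mul_add_of_right_mem 𝒜 hz]
      exact Submodule.subset_span ⟨_, (decompose 𝒜 r n).2, z, hz, rfl⟩
    | zero =>
      intro r
      rw [mul_zero, decompose_zero]
      simp
    | add a b _ _ ha hb =>
      intro r
      rw [mul_add, decompose_add, DirectSum.add_apply, Submodule.coe_add]
      exact Submodule.add_mem _ (ha r) (hb r)
    | smul s z _ hz =>
      intro r
      rw [smul_eq_mul, ← mul_assoc]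
      exact hz (r * s)
  have := key x hx' 1
  rwa [one_mul, decompose_of_mem_same 𝒜 hx] at this

theorem add_le
    (hstd : Ideal.span (⋃ n ∈ Set.Ioi (0 : ℤ), (𝒜 n : Set R)) =
      Ideal.span ((𝒜 1 : Submodule k R) : Set R))
    (s : ℤ) (hs : 0 ≤ s) (t : ℕ) : 𝒜 (s + t) ≤ Submodule.span k (prodSet 𝒜 s t) := by
  induction t with
  | zero =>
    intro x hx
    rw [Nat.cast_zero, add_zero] at hx
    have h1 : (1 : R) ∈ 𝒜 ((0 : ℕ) : ℤ) := by
      rw [Nat.cast_zero]; exact SetLike.GradedOne.one_mem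
    exact Submodule.subset_span ⟨x, hx, 1, h1, (mul_one x).symm⟩
  | succ t ih =>
    intro x hx
    have hx1 : x ∈ 𝒜 ((s + t) + 1) := by
      have : s + ((t + 1 : ℕ) : ℤ) = (s + t) + 1 := by push_cast; ring
      rwa [this] at hx
    have hx2 := succ_le 𝒜 hstd (s + t) (by positivity) hx1
    refine Submodule.span_le.mpr ?_ hx2
    rintro z ⟨u, hu, y, hy, rfl⟩
    have hu' := ih hu
    have : ∀ w ∈ Submodule.span k (prodSet 𝒜 s t),
        w * y ∈ Submodule.span k (prodSet 𝒜 s ((t + 1 : ℕ) : ℤ)) := by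
      intro w hw
      induction hw using Submodule.span_induction with
      | mem w hw =>
        obtain ⟨a, ha, b, hb, rfl⟩ := hw
        refine Submodule.subset_span ⟨a, ha, b * y, ?_, by ring⟩
        have : ((t + 1 : ℕ) : ℤ) = (t : ℤ) + 1 := by push_cast; ring
        rw [this]
        exact SetLike.GradedMul.mul_mem hb hy
      | zero => rw [zero_mul]; exact Submodule.zero_mem _
      | add a b _ _ ha hb => rw [add_mul]; exact Submodule.add_mem _ ha hb
      | smul c a _ ha => rw [smul_mul_assoc]; exact Submodule.smul_mem _ _ ha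
    exact this u hu'

end Std


theorem main (k : Type u) [Field k] (R : Type u) [CommRing R] [Algebra k R]
    (𝒜 : ℤ → Submodule k R) [GradedAlgebra 𝒜]
    (S : Type u) [CommRing S] [Algebra k S] (ℬ : ℤ → Submodule k S) [GradedAlgebra ℬ]
    (hposS : ∀ n : ℤ, n < 0 → ℬ n = ⊥) (h0S : ℬ 0 = Submodule.span k {(1 : S)})
    (T : Type u) [CommRing T] [Algebra k T] (𝒯 : ℤ → Submodule k T) [GradedAlgebra 𝒯]
    (ψ : T →ₐ[k] TensorProduct k R S) (hT : GrSeg.IsSegreRing 𝒜 ℬ 𝒯 ψ)
    (hstdR : Ideal.span (⋃ n ∈ Set.Ioi (0 : ℤ), (𝒜 n : Set R)) =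
      Ideal.span ((𝒜 1 : Submodule k R) : Set R))
    (hs1 : 1 ≤ ringKrullDim S)
    (mT : HomogeneousIdeal 𝒯)
    (hmT : mT.toIdeal = Ideal.span (⋃ n ∈ Set.Ioi (0 : ℤ), (𝒯 n : Set T)))
    (a b : ℤ) (hab : b ≤ a) (P : Type u) [AddCommGroup P] [Module T P] [Module k P]
    [IsScalarTower k T P] (𝒬 : ℤ → AddSubgroup P) [DirectSum.Decomposition 𝒬]
    (φ : P →ₗ[k] TensorProduct k R S)
    (hP : GrSeg.IsSegreMod ψ (fun n : ℤ => 𝒜 (n + a)) (fun n : ℤ => ℬ (n + b)) 𝒬 φ) :
    Module.finrank k (P ⧸ (mT.toIdeal • (⊤ : Submodule T P))) = Module.finrank k (𝒜 (a - b)) := by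
  classical
  have hSnt : Nontrivial S := by
    by_contra h
    rw [not_nontrivial_iff_subsingleton] at h
    rw [ringKrullDim_eq_bot_of_subsingleton] at hs1
    simp at hs1
  have hinc : Function.Injective (fun x : R => x ⊗ₜ[k] (1 : S)) :=
    Algebra.TensorProduct.includeLeft_injective (S := k) (algebraMap k S).injective
  -- membership in pieces
  have hpiece : ∀ (n : ℤ) (p : P), p ∈ 𝒬 n ↔
      φ p ∈ GrSeg.segrePiece k (fun n : ℤ => 𝒜 (n + a)) (fun n : ℤ => ℬ (n + b)) n := by
    intro n p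
    constructor
    · intro hp
      have : φ p ∈ φ '' ((𝒬 n : AddSubgroup P) : Set P) := ⟨p, hp, rfl⟩
      rw [hP.image_piece n] at this
      exact this
    · intro hp
      have : φ p ∈ ((GrSeg.segrePiece k (fun n : ℤ => 𝒜 (n + a)) (fun n : ℤ => ℬ (n + b)) n :
          Submodule k _) : Set _) := hp
      rw [← hP.image_piece n] at this
      obtain ⟨q, hq, hqe⟩ := this
      rwa [← hP.injective hqe]
  -- graded action
  have hact : ∀ (i n : ℤ) (τ : R ⊗[k] S), τ ∈ GrSeg.segrePiece k 𝒜 ℬ i →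
      ∀ v ∈ GrSeg.segrePiece k (fun n : ℤ => 𝒜 (n + a)) (fun n : ℤ => ℬ (n + b)) n,
      GrSeg.act k R S R S τ v ∈
        GrSeg.segrePiece k (fun n : ℤ => 𝒜 (n + a)) (fun n : ℤ => ℬ (n + b)) (i + n) := by
    intro i n τ hτ
    unfold GrSeg.segrePiece at hτ
    induction hτ using Submodule.span_induction with
    | mem τ hτ =>
      obtain ⟨u, hu, w, hw, rfl⟩ := hτ
      intro v hv
      unfold GrSeg.segrePiece at hv
      induction hv using Submodule.span_induction with
      | mem v hv =>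
        obtain ⟨x, hx, y, hy, rfl⟩ := hv
        rw [GrSeg.act_tmul]
        refine Submodule.subset_span ⟨u • x, ?_, w • y, ?_, rfl⟩
        · show u * x ∈ 𝒜 (i + n + a)
          rw [add_assoc]
          exact SetLike.GradedMul.mul_mem hu hx
        · show w * y ∈ ℬ (i + n + b)
          rw [add_assoc]
          exact SetLike.GradedMul.mul_mem hw hy
      | zero => rw [map_zero]; exact Submodule.zero_mem _
      | add v v' _ _ h1 h2 => rw [map_add]; exact Submodule.add_mem _ h1 h2
      | smul c v _ h1 => rw [map_smul]; exact Submodule.smul_mem _ _ h1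
    | zero => intro v _; rw [map_zero, LinearMap.zero_apply]; exact Submodule.zero_mem _
    | add τ σ _ _ h1 h2 =>
      intro v hv
      rw [map_add, LinearMap.add_apply]
      exact Submodule.add_mem _ (h1 v hv) (h2 v hv)
    | smul c τ _ h1 =>
      intro v hv
      rw [map_smul, LinearMap.smul_apply]
      exact Submodule.smul_mem _ _ (h1 v hv)
  have hsm : ∀ (i n : ℤ) (t : T) (p : P), t ∈ 𝒯 i → p ∈ 𝒬 n → t • p ∈ 𝒬 (i + n) := by
    intro i n t p ht hp
    rw [hpiece, hP.map_smul]
    apply hact i n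
    · rw [← hT.2 i]
      exact ⟨t, ht, rfl⟩
    · exact (hpiece n p).mp hp
  -- vanishing in low degrees
  have hlow : ∀ n : ℤ, n < -b → ∀ p ∈ 𝒬 n, p = 0 := by
    intro n hn p hp
    have h1 := (hpiece n p).mp hp
    have h2 : GrSeg.segrePiece k (fun n : ℤ => 𝒜 (n + a)) (fun n : ℤ => ℬ (n + b)) n = ⊥ := by
      unfold GrSeg.segrePiece
      rw [Submodule.span_eq_bot]
      rintro v ⟨x, _, y, hy, rfl⟩
      have : y ∈ ℬ (n + b) := hy
      rw [hposS (n + b) (by omega), Submodule.mem_bot] at this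
      rw [this, tmul_zero]
    rw [h2, Submodule.mem_bot] at h1
    apply hP.injective
    rw [h1, map_zero]
  -- Claim B: elements of `W` have no component in degree `-b`
  have hB0 : ∀ r ∈ Ideal.span (⋃ n ∈ Set.Ioi (0 : ℤ), (𝒯 n : Set T)), ∀ p : P,
      ((DirectSum.decompose 𝒬 (r • p)) (-b) : P) = 0 := by
    intro r hr
    induction hr using Submodule.span_induction with
    | mem r hr =>
      simp only [Set.mem_iUnion] at hr
      obtain ⟨j, hj, hrj⟩ := hr
      have hj0 : 0 < j := hj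
      intro p
      induction p using DirectSum.Decomposition.inductionOn 𝒬 with
      | zero => simp
      | @homogeneous n p =>
        by_cases hn : n < -b
        · rw [hlow n hn p p.2, smul_zero, DirectSum.decompose_zero]
          rfl
        · have h1 := hsm j n r p hrj p.2
          exact DirectSum.decompose_of_mem_ne 𝒬 h1 (by omega)
      | add p p' h1 h2 =>
        rw [smul_add, DirectSum.decompose_add, DirectSum.add_apply, AddSubgroup.coe_add, h1, h2,
          add_zero]
    | zero => intro p; rw [zero_smul, DirectSum.decompose_zero]; rfl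
    | add r r' _ _ h1 h2 =>
      intro p
      rw [add_smul, DirectSum.decompose_add, DirectSum.add_apply, AddSubgroup.coe_add, h1 p, h2 p,
        add_zero]
    | smul s r _ h1 =>
      intro p
      rw [smul_eq_mul, mul_comm, mul_smul]
      exact h1 (s • p)
  have hB : ∀ w ∈ mT.toIdeal • (⊤ : Submodule T P), ((DirectSum.decompose 𝒬 w) (-b) : P) = 0 := by
    intro w hw
    refine Submodule.smul_induction_on hw ?_ ?_
    · intro r hr p _
      rw [hmT] at hr
      exact hB0 r hr p
    · intro x y hx hy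
      rw [DirectSum.decompose_add, DirectSum.add_apply, AddSubgroup.coe_add, hx, hy, add_zero]
  -- the elements `x ⊗ 1`
  have hx1 : ∀ x ∈ 𝒜 (a - b), (x ⊗ₜ[k] (1 : S)) ∈
      GrSeg.segrePiece k (fun n : ℤ => 𝒜 (n + a)) (fun n : ℤ => ℬ (n + b)) (-b) := by
    intro x hx
    refine Submodule.subset_span ⟨x, ?_, 1, ?_, rfl⟩
    · show x ∈ 𝒜 (-b + a)
      rwa [show -b + a = a - b by ring]
    · show (1 : S) ∈ ℬ (-b + b)
      rw [show -b + b = 0 by ring]
      exact SetLike.GradedOne.one_mem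
  -- Claim A: pieces of degree `> -b` lie in `W`
  have hA : ∀ n : ℤ, -b < n → ∀ p ∈ 𝒬 n, p ∈ mT.toIdeal • (⊤ : Submodule T P) := by
    intro n hn p hp
    have h1 := (hpiece n p).mp hp
    obtain ⟨t, ht⟩ : ∃ t : ℕ, (t : ℤ) = n + b := ⟨(n + b).toNat, by omega⟩
    have ht0 : (0 : ℤ) < t := by omega
    have key : ∀ v ∈ GrSeg.segrePiece k (fun n : ℤ => 𝒜 (n + a)) (fun n : ℤ => ℬ (n + b)) n,
        ∃ q ∈ mT.toIdeal • (⊤ : Submodule T P), φ q = v := by
      intro v hv
      unfold GrSeg.segrePiece at hv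
      induction hv using Submodule.span_induction with
      | mem v hv =>
        obtain ⟨x, hx, y, hy, rfl⟩ := hv
        have hx' : x ∈ 𝒜 ((a - b) + t) := by
          have : x ∈ 𝒜 (n + a) := hx
          rwa [show n + a = (a - b) + t by rw [ht]; ring] at this
        have hy' : y ∈ ℬ (t : ℤ) := by
          have : y ∈ ℬ (n + b) := hy
          rwa [← ht] at this
        have hx2 := add_le 𝒜 hstdR (a - b) (by omega) t hx'
        have aux : ∀ z ∈ Submodule.span k (prodSet 𝒜 (a - b) t),
            ∃ q ∈ mT.toIdeal • (⊤ : Submodule T P), φ q = z ⊗ₜ[k] y := by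
          intro z hz
          induction hz using Submodule.span_induction with
          | mem z hz =>
            obtain ⟨x', hx', u, hu, rfl⟩ := hz
            have h2 : u ⊗ₜ[k] y ∈ GrSeg.segrePiece k 𝒜 ℬ (t : ℤ) :=
              Submodule.subset_span ⟨u, hu, y, hy', rfl⟩
            rw [← hT.2 (t : ℤ)] at h2
            obtain ⟨τ, hτ, hτe⟩ := h2
            have hτe' : ψ τ = u ⊗ₜ[k] y := hτe
            have h3 : (x' ⊗ₜ[k] (1 : S)) ∈
                ((GrSeg.segrePiece k (fun n : ℤ => 𝒜 (n + a)) (fun n : ℤ => ℬ (n + b)) (-b) :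
                  Submodule k _) : Set _) := hx1 x' hx'
            rw [← hP.image_piece (-b)] at h3
            obtain ⟨q₀, _, hq₀⟩ := h3
            refine ⟨τ • q₀, Submodule.smul_mem_smul ?_ Submodule.mem_top, ?_⟩
            · rw [hmT]
              apply Ideal.subset_span
              simp only [Set.mem_iUnion]
              exact ⟨(t : ℤ), ht0, hτ⟩
            · rw [hP.map_smul, hτe', hq₀, GrSeg.act_tmul, smul_eq_mul, smul_eq_mul, mul_one,
                mul_comm]
          | zero => exact ⟨0, Submodule.zero_mem _, by rw [map_zero, zero_tmul]⟩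
          | add x x' _ _ h1 h2 =>
            obtain ⟨q, hq, e⟩ := h1
            obtain ⟨q', hq', e'⟩ := h2
            exact ⟨q + q', Submodule.add_mem _ hq hq', by rw [map_add, e, e', add_tmul]⟩
          | smul c x _ h1 =>
            obtain ⟨q, hq, e⟩ := h1
            refine ⟨c • q, ?_, by rw [map_smul, e, smul_tmul']⟩
            rw [← algebraMap_smul T c q]
            exact Submodule.smul_mem _ _ hq
        exact aux x hx2
      | zero => exact ⟨0, Submodule.zero_mem _, map_zero _⟩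
      | add v v' _ _ h1 h2 =>
        obtain ⟨q, hq, e⟩ := h1
        obtain ⟨q', hq', e'⟩ := h2
        exact ⟨q + q', Submodule.add_mem _ hq hq', by rw [map_add, e, e']⟩
      | smul c v _ h1 =>
        obtain ⟨q, hq, e⟩ := h1
        refine ⟨c • q, ?_, by rw [map_smul, e]⟩
        rw [← algebraMap_smul T c q]
        exact Submodule.smul_mem _ _ hq
    obtain ⟨q, hq, e⟩ := key _ h1
    rwa [← hP.injective e]
  -- the degree `-b` piece consists of the `x ⊗ 1`
  have hC : ∀ v ∈ GrSeg.segrePiece k (fun n : ℤ => 𝒜 (n + a)) (fun n : ℤ => ℬ (n + b)) (-b),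
      ∃ x ∈ 𝒜 (a - b), v = x ⊗ₜ[k] (1 : S) := by
    intro v hv
    unfold GrSeg.segrePiece at hv
    induction hv using Submodule.span_induction with
    | mem v hv =>
      obtain ⟨x, hx, y, hy, rfl⟩ := hv
      have hx' : x ∈ 𝒜 (a - b) := by
        have : x ∈ 𝒜 (-b + a) := hx
        rwa [show -b + a = a - b by ring] at this
      have hy' : y ∈ Submodule.span k {(1 : S)} := by
        have : y ∈ ℬ (-b + b) := hy
        rwa [show -b + b = 0 by ring, h0S] at this
      obtain ⟨c, rfl⟩ := Submodule.mem_span_singleton.mp hy'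
      exact ⟨c • x, Submodule.smul_mem _ _ hx', by rw [tmul_smul, smul_tmul']⟩
    | zero => exact ⟨0, Submodule.zero_mem _, by rw [zero_tmul]⟩
    | add v v' _ _ h1 h2 =>
      obtain ⟨x, hx, rfl⟩ := h1
      obtain ⟨x', hx', rfl⟩ := h2
      exact ⟨x + x', Submodule.add_mem _ hx hx', by rw [add_tmul]⟩
    | smul c v _ h1 =>
      obtain ⟨x, hx, rfl⟩ := h1
      exact ⟨c • x, Submodule.smul_mem _ _ hx, by rw [smul_tmul']⟩
  -- the map
  have hxr : ∀ x : 𝒜 (a - b), ((TensorProduct.mk k R S).flip 1 ∘ₗ (𝒜 (a - b)).subtype) x ∈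
      LinearMap.range φ := by
    intro x
    have h3 : ((x : R) ⊗ₜ[k] (1 : S)) ∈
        ((GrSeg.segrePiece k (fun n : ℤ => 𝒜 (n + a)) (fun n : ℤ => ℬ (n + b)) (-b) :
          Submodule k _) : Set _) := hx1 x x.2
    rw [← hP.image_piece (-b)] at h3
    obtain ⟨q₀, _, hq₀⟩ := h3
    exact ⟨q₀, hq₀⟩
  let E : P ≃ₗ[k] LinearMap.range φ := LinearEquiv.ofInjective φ hP.injective
  let g : 𝒜 (a - b) →ₗ[k] LinearMap.range φ :=
    LinearMap.codRestrict (LinearMap.range φ)
      ((TensorProduct.mk k R S).flip 1 ∘ₗ (𝒜 (a - b)).subtype) hxr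
  let Ψ : 𝒜 (a - b) →ₗ[k] P := E.symm.toLinearMap ∘ₗ g
  have hΨ : ∀ x : 𝒜 (a - b), φ (Ψ x) = (x : R) ⊗ₜ[k] (1 : S) := by
    intro x
    have : φ (E.symm (g x)) = ((g x : LinearMap.range φ) : R ⊗[k] S) :=
      LinearEquiv.ofInjective_symm_apply (f := φ) (h := hP.injective) (g x)
    exact this
  have hΨmem : ∀ x : 𝒜 (a - b), Ψ x ∈ 𝒬 (-b) := by
    intro x
    rw [hpiece, hΨ]
    exact hx1 x x.2
  let Φ : 𝒜 (a - b) →ₗ[k] (P ⧸ (mT.toIdeal • (⊤ : Submodule T P))) :=
    ((mT.toIdeal • (⊤ : Submodule T P)).mkQ.restrictScalars k) ∘ₗ Ψ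
  have hΦ : ∀ x, Φ x = Submodule.Quotient.mk (Ψ x) := fun x => rfl
  have hinj : Function.Injective Φ := by
    rw [← LinearMap.ker_eq_bot, LinearMap.ker_eq_bot']
    intro x hx
    rw [hΦ, Submodule.Quotient.mk_eq_zero] at hx
    have h1 := hB _ hx
    rw [DirectSum.decompose_of_mem_same 𝒬 (hΨmem x)] at h1
    have h2 := hΨ x
    rw [h1, map_zero] at h2
    have h3 : (x : R) = 0 := hinc (by
      show (x : R) ⊗ₜ[k] (1 : S) = (0 : R) ⊗ₜ[k] (1 : S)
      rw [← h2, zero_tmul])
    exact Subtype.ext h3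
  have hsurj : Function.Surjective Φ := by
    intro z
    obtain ⟨p, rfl⟩ := Submodule.Quotient.mk_surjective _ z
    -- reduce to the component of degree -b
    have h1 : (Submodule.Quotient.mk p : P ⧸ (mT.toIdeal • (⊤ : Submodule T P))) =
        Submodule.Quotient.mk ((DirectSum.decompose 𝒬 p (-b) : P)) := by
      rw [Submodule.Quotient.eq]
      have h2 : p - (DirectSum.decompose 𝒬 p (-b) : P) =
          ∑ n ∈ (DirectSum.decompose 𝒬 p).support.erase (-b), (DirectSum.decompose 𝒬 p n : P) := by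
        by_cases hmem : -b ∈ (DirectSum.decompose 𝒬 p).support
        · rw [sub_eq_iff_eq_add, Finset.sum_erase_add _ _ hmem, DirectSum.sum_support_decompose]
        · rw [Finset.erase_eq_of_notMem hmem, DirectSum.sum_support_decompose]
          have : (DirectSum.decompose 𝒬 p (-b)) = 0 := by
            rw [DFinsupp.mem_support_toFun] at hmem
            push Not at hmem
            exact hmem
          rw [this]
          simp
      rw [h2]
      refine Submodule.sum_mem _ fun n hn => ?_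
      have hne : n ≠ -b := Finset.ne_of_mem_erase hn
      rcases lt_or_gt_of_ne hne with h | h
      · rw [hlow n h _ (DirectSum.decompose 𝒬 p n).2]
        exact Submodule.zero_mem _
      · exact hA n h _ (DirectSum.decompose 𝒬 p n).2
    obtain ⟨x, hx, hxe⟩ := hC _ ((hpiece (-b) _).mp (DirectSum.decompose 𝒬 p (-b)).2)
    refine ⟨⟨x, hx⟩, ?_⟩
    rw [hΦ, h1]
    congr 1
    apply hP.injective
    rw [hΨ, hxe]
  exact (LinearEquiv.ofBijective Φ ⟨hinj, hsurj⟩).finrank_eq.symm

end Groth.Agent.Helper9.SegreNu
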