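import Mathlib

set_option autoImplicit false

namespace Groth.Agent.Helper9.RSQuot

open CategoryTheory TopologicalSpace Opposite AlgebraicGeometry Topology

universe u w

/-- lifting a ring hom through an injective ring hom whose range contains the image -/
theorem exists_ringHom_lift {A B C : Type u} [CommRing A] [CommRing B] [CommRing C]
    (ι : B →+* C) (hι : Function.Injective ι) (φ : A →+* C) (h : ∀ a, φ a ∈ Set.range ι) :
    ∃ ψ : A →+* B, ι.comp ψ = φ := by
  let e : B ≃+* ι.range := RingEquiv.ofBijective ι.rangeRestrict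
    ⟨fun x y hxy => hι (congrArg Subtype.val hxy), ι.rangeRestrict_surjective⟩
  refine ⟨(e.symm : ι.range →+* B).comp (φ.codRestrict ι.range h), ?_⟩
  ext a
  change ι (e.symm ⟨φ a, h a⟩) = φ a
  have : e (e.symm ⟨φ a, h a⟩) = ⟨φ a, h a⟩ := e.apply_symm_apply _
  exact congrArg Subtype.val this

variable {X Y Z : PresheafedSpace.{u, u+1, w} CommRingCat.{u}}

theorem map_self_apply {T : TopCat.{w}} (F : TopCat.Presheaf CommRingCat.{u} T)
    (U : Opens T) (i : op U ⟶ op U) (t : F.obj (op U)) : F.map i t = t := by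
  have : i = 𝟙 _ := Subsingleton.elim _ _
  rw [this, F.map_id]; rfl

/-- the sheaf part of the descended morphism -/
theorem exists_c (π : X ⟶ Y) (g : (Y : TopCat) ⟶ (Z : TopCat))
    (fc : Z.presheaf ⟶ (π.base ≫ g) _* X.presheaf)
    (hinj : ∀ V : Opens Y, Function.Injective (π.c.app (op V)))
    (hrange : ∀ (W : Opens Z) (s : Z.presheaf.obj (op W)),
      fc.app (op W) s ∈ Set.range (π.c.app (op ((Opens.map g).obj W)))) :
    ∃ gc : Z.presheaf ⟶ g _* Y.presheaf,
      gc ≫ (TopCat.Presheaf.pushforward _ g).map π.c = fc := by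
  have hmono : ∀ V : Opens Y, Mono (π.c.app (op V)) := fun V =>
    ConcreteCategory.mono_of_injective _ (hinj V)
  have hex : ∀ W : (Opens Z)ᵒᵖ, ∃ ψ : Z.presheaf.obj W ⟶ Y.presheaf.obj (op ((Opens.map g).obj W.unop)),
      ψ ≫ π.c.app (op ((Opens.map g).obj W.unop)) = fc.app W := by
    intro W
    obtain ⟨ψ, hψ⟩ := exists_ringHom_lift (π.c.app (op ((Opens.map g).obj W.unop))).hom
      (hinj _) (fc.app W).hom (hrange W.unop)
    refine ⟨CommRingCat.ofHom ψ, ?_⟩
    ext a
    exact congrArg (fun k : _ →+* _ => k a) hψ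
  choose ψ hψ using hex
  refine ⟨{ app := ψ, naturality := ?_ }, ?_⟩
  · intro W W' i
    haveI := hmono ((Opens.map g).obj W'.unop)
    rw [← cancel_mono (π.c.app (op ((Opens.map g).obj W'.unop)))]
    have n1 := fc.naturality i
    have n2 := π.c.naturality ((Opens.map g).op.map i)
    have e1 : fc.app W = ψ W ≫ π.c.app (op ((Opens.map g).obj W.unop)) := (hψ W).symm
    have e2 : fc.app W' = ψ W' ≫ π.c.app (op ((Opens.map g).obj W'.unop)) := (hψ W').symm
    refine (Category.assoc _ _ _).trans ?_
    refine (congrArg (Z.presheaf.map i ≫ ·) e2.symm).trans ?_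
    refine n1.trans ?_
    have e3 : fc.app W ≫ ((π.base ≫ g) _* X.presheaf).map i =
        (ψ W ≫ π.c.app (op ((Opens.map g).obj W.unop))) ≫
          (π.base _* X.presheaf).map ((Opens.map g).op.map i) := by
      rw [e1]; rfl
    refine e3.trans ?_
    refine (Category.assoc _ _ _).trans ?_
    refine (congrArg (ψ W ≫ ·) n2.symm).trans ?_
    exact (Category.assoc _ _ _).symm
  · apply NatTrans.ext
    funext W
    exact hψ W

theorem map_congr_apply {T : TopCat.{w}} (F : TopCat.Presheaf CommRingCat.{u} T)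
    {U U' : (Opens T)ᵒᵖ} (i j : U ⟶ U') (t : F.obj U) : F.map i t = F.map j t := by
  have : i = j := Subsingleton.elim _ _
  rw [this]

/-- Lemma B: sections pulled back from `Z` along a `σ`-invariant morphism are `σ`-invariant. -/
theorem invariant_of_comp_eq (σ : X ⟶ X) (f : X ⟶ Z) (hσ : σ ≫ f = f) (W : Opens Z)
    (U : Opens X) (e : U = (Opens.map f.base).obj W) (s : Z.presheaf.obj (op W))
    (j : op U ⟶ op ((Opens.map σ.base).obj U)) :
    σ.c.app (op U) (X.presheaf.map (eqToHom e).op (f.c.app (op W) s)) =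
      X.presheaf.map j (X.presheaf.map (eqToHom e).op (f.c.app (op W) s)) := by
  subst e
  rw [map_self_apply]
  have h1 := PresheafedSpace.congr_app hσ (op W)
  rw [PresheafedSpace.comp_c_app] at h1
  have h2 : σ.c.app (op ((Opens.map f.base).obj W)) (f.c.app (op W) s) =
      X.presheaf.map _ (f.c.app (op W) s) := congrArg (fun k => k s) h1
  refine h2.trans ?_
  exact map_congr_apply X.presheaf _ _ _

/-- Lemma A: descent of a morphism of presheafed spaces along a "quotient" morphism. -/
theorem existsUnique_desc (π : X ⟶ Y) (f : X ⟶ Z)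
    (hq : IsQuotientMap π.base)
    (hconst : ∀ x x' : X, π.base x = π.base x' → f.base x = f.base x')
    (hinj : ∀ V : Opens Y, Function.Injective (π.c.app (op V)))
    (hrange : ∀ (W : Opens Z) (V : Opens Y)
      (e : (Opens.map π.base).obj V = (Opens.map f.base).obj W) (s : Z.presheaf.obj (op W)),
      X.presheaf.map (eqToHom e).op (f.c.app (op W) s) ∈ Set.range (π.c.app (op V))) :
    ∃! fbar : Y ⟶ Z, π ≫ fbar = f := by
  obtain ⟨g, hg⟩ : ∃ g : (Y : TopCat) ⟶ (Z : TopCat), π.base ≫ g = f.base := by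
    have hq' : IsQuotientMap (π.base.hom : C(↑↑X, ↑↑Y)) := hq
    have hft : Function.FactorsThrough f.base.hom π.base.hom := fun a b h => hconst a b h
    refine ⟨TopCat.ofHom (hq'.lift f.base.hom hft), ?_⟩
    ext x
    exact ContinuousMap.congr_fun (hq'.lift_comp f.base.hom hft) x
  obtain ⟨fb, fc⟩ := f
  change π.base ≫ g = fb at hg
  subst hg
  have hr : ∀ (W : Opens Z) (s : Z.presheaf.obj (op W)),
      fc.app (op W) s ∈ Set.range (π.c.app (op ((Opens.map g).obj W))) := by
    intro W s
    obtain ⟨y, hy⟩ := hrange W ((Opens.map g).obj W) rfl s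
    exact ⟨y, hy.trans (map_self_apply X.presheaf _ _ _)⟩
  obtain ⟨gc, hgc⟩ := exists_c π g fc hinj hr
  have hmono : ∀ V : Opens Y, Mono (π.c.app (op V)) := fun V =>
    ConcreteCategory.mono_of_injective _ (hinj V)
  refine ⟨⟨g, gc⟩, ?_, ?_⟩
  · exact PresheafedSpace.hext _ _ rfl (heq_of_eq hgc)
  · rintro ⟨g', gc'⟩ h
    have hb : π.base ≫ g' = π.base ≫ g := congrArg PresheafedSpace.Hom.base h
    have hepi : Epi π.base := (TopCat.epi_iff_surjective _).mpr hq.surjective
    have hb' : g' = g := (cancel_epi π.base).mp hb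
    subst hb'
    have hc : gc' ≫ (TopCat.Presheaf.pushforward _ g').map π.c = fc :=
      eq_of_heq (PresheafedSpace.Hom.mk.inj h).2
    have : gc' = gc := by
      apply NatTrans.ext
      funext W
      haveI := hmono ((Opens.map g').obj W.unop)
      rw [← cancel_mono (π.c.app (op ((Opens.map g').obj W.unop)))]
      exact (congrArg (fun k => k.app W) (hc.trans hgc.symm))
    subst this
    rfl

end Groth.Agent.Helper9.RSQuot
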