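import Mathlib
import Groth.Prelude.Def_SGA1
import Groth.Agent.Helper9.RSQuot

set_option autoImplicit false

namespace Groth.Agent.Helper9.EffEpiQ

open CategoryTheory CategoryTheory.Limits TopologicalSpace Opposite AlgebraicGeometry Topology

universe u

/-- Lemma C: locality of stalk maps descends along a composition. -/
theorem isLocalHom_stalkMap_of_comp {X Y Z : PresheafedSpace.{u, u+1, u} CommRingCat.{u}}
    (π : X ⟶ Y) (fbar : Y ⟶ Z) (x : X)
    (h : IsLocalHom ((π ≫ fbar).stalkMap x).hom) :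
    IsLocalHom (fbar.stalkMap (π.base x)).hom := by
  have h' : IsLocalHom (fbar.stalkMap (π.base x) ≫ π.stalkMap x).hom :=
    (PresheafedSpace.stalkMap.comp π fbar x) ▸ h
  have h'' : IsLocalHom ((π.stalkMap x).hom.comp (fbar.stalkMap (π.base x)).hom) := h'
  exact isLocalHom_of_comp _ (π.stalkMap x).hom

variable {S' S W : Scheme.{u}}

theorem appLE_congr_hom {P : Scheme.{u}} (a b : P ⟶ W) (hab : a = b) (U : W.Opens) (O : P.Opens)
    (h1 : O ≤ a ⁻¹ᵁ U) (h2 : O ≤ b ⁻¹ᵁ U) : a.appLE U O h1 = b.appLE U O h2 := by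
  subst hab; rfl

theorem existsUnique_desc (g : S' ⟶ S) (hq : IsQuotientMap g.base)
    (hinj : ∀ U : S.Opens, Function.Injective (g.app U).hom)
    (heq : ∀ (U : S.Opens) (s' : Γ(S', g ⁻¹ᵁ U)),
      (SGA1.overlapFstApp g U).hom s' = (SGA1.overlapSndApp g U).hom s' →
      s' ∈ Set.range (g.app U).hom)
    (e : S' ⟶ W) (he : pullback.fst g g ≫ e = pullback.snd g g ≫ e) :
    ∃! m : S ⟶ W, g ≫ m = e := by
  have hconst : ∀ x x' : S', g.base x = g.base x' → e.base x = e.base x' := by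
    intro x x' hx
    obtain ⟨z, rfl, rfl⟩ := Scheme.Pullback.exists_preimage_pullback (f := g) (g := g) x x' hx
    exact congrArg (fun k : pullback g g ⟶ W => k.base z) he
  have hrange : ∀ (W₀ : Opens W) (V : Opens S)
      (eq : (Opens.map g.base).obj V = (Opens.map e.base).obj W₀) (s : Γ(W, W₀)),
      S'.presheaf.map (eqToHom eq).op (e.c.app (op W₀) s) ∈ Set.range (g.c.app (op V)) := by
    intro W₀ V eq s
    have ht : S'.presheaf.map (eqToHom eq).op (e.c.app (op W₀) s) =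
        e.appLE W₀ (g ⁻¹ᵁ V) eq.le s := rfl
    rw [ht]
    apply heq V
    unfold SGA1.overlapFstApp SGA1.overlapSndApp
    rw [Scheme.Hom.app_eq_appLE]
    have h1 := Scheme.Hom.appLE_comp_appLE (pullback.fst g g) e W₀ (g ⁻¹ᵁ V)
      ((pullback.fst g g) ⁻¹ᵁ (g ⁻¹ᵁ V)) eq.le le_rfl
    have h2 := Scheme.Hom.appLE_comp_appLE (pullback.snd g g) e W₀ (g ⁻¹ᵁ V)
      ((pullback.fst g g) ⁻¹ᵁ (g ⁻¹ᵁ V)) eq.le (SGA1.fst_preimage_eq_snd_preimage g V).le
    have h3 := appLE_congr_hom _ _ he W₀ ((pullback.fst g g) ⁻¹ᵁ (g ⁻¹ᵁ V))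
      (by rw [Scheme.Hom.comp_preimage]; exact (Scheme.Hom.preimage_mono _ eq.le))
      (by rw [Scheme.Hom.comp_preimage, ← eq]; exact (SGA1.fst_preimage_eq_snd_preimage g V).le)
    have := (h1.trans h3).trans h2.symm
    exact congrArg (fun k => k.hom s) this
  obtain ⟨fb, hfb, huniq⟩ := Groth.Agent.Helper9.RSQuot.existsUnique_desc
    g.toLRSHom'.toHom e.toLRSHom'.toHom hq hconst hinj hrange
  have hloc : ∀ y : S, IsLocalHom (fb.stalkMap y).hom := by
    intro y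
    obtain ⟨x, rfl⟩ := hq.surjective y
    apply isLocalHom_stalkMap_of_comp g.toLRSHom'.toHom fb x
    rw [hfb]
    exact e.toLRSHom'.prop x
  refine ⟨⟨⟨fb, hloc⟩⟩, ?_, ?_⟩
  · apply Scheme.Hom.ext'
    apply LocallyRingedSpace.Hom.ext'
    exact hfb
  · intro m' hm'
    apply Scheme.Hom.ext'
    apply LocallyRingedSpace.Hom.ext'
    apply huniq
    exact congrArg (fun k : S' ⟶ W => k.toLRSHom'.toHom) hm'

/-- Lemma D: descent of a scheme morphism along a "quotient" morphism. -/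
theorem existsUnique_desc_general (g : S' ⟶ S) (hq : IsQuotientMap g.base)
    (hinj : ∀ U : S.Opens, Function.Injective (g.app U).hom)
    (e : S' ⟶ W)
    (hconst : ∀ x x' : S', g.base x = g.base x' → e.base x = e.base x')
    (hrange : ∀ (W₀ : W.Opens) (V : S.Opens) (eq : g ⁻¹ᵁ V = e ⁻¹ᵁ W₀) (s : Γ(W, W₀)),
      (e.appLE W₀ (g ⁻¹ᵁ V) eq.le).hom s ∈ Set.range (g.app V).hom) :
    ∃! m : S ⟶ W, g ≫ m = e := by
  have hrange' : ∀ (W₀ : Opens W) (V : Opens S)
      (eq : (Opens.map g.base).obj V = (Opens.map e.base).obj W₀) (s : Γ(W, W₀)),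
      S'.presheaf.map (eqToHom eq).op (e.c.app (op W₀) s) ∈ Set.range (g.c.app (op V)) :=
    fun W₀ V eq s => hrange W₀ V eq s
  obtain ⟨fb, hfb, huniq⟩ := Groth.Agent.Helper9.RSQuot.existsUnique_desc
    g.toLRSHom'.toHom e.toLRSHom'.toHom hq hconst hinj hrange'
  have hloc : ∀ y : S, IsLocalHom (fb.stalkMap y).hom := by
    intro y
    obtain ⟨x, rfl⟩ := hq.surjective y
    apply isLocalHom_stalkMap_of_comp g.toLRSHom'.toHom fb x
    rw [hfb]
    exact e.toLRSHom'.prop x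
  refine ⟨⟨⟨fb, hloc⟩⟩, ?_, ?_⟩
  · apply Scheme.Hom.ext'
    apply LocallyRingedSpace.Hom.ext'
    exact hfb
  · intro m' hm'
    apply Scheme.Hom.ext'
    apply LocallyRingedSpace.Hom.ext'
    apply huniq
    exact congrArg (fun k : S' ⟶ W => k.toLRSHom'.toHom) hm'

/-- Lemma E: a surjective morphism which is injective on sections is an epimorphism of schemes. -/
theorem eq_of_comp_eq (g : S' ⟶ S) (hs : Function.Surjective g.base)
    (hinj : ∀ U : S.Opens, Function.Injective (g.app U).hom)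
    (m₁ m₂ : S ⟶ W) (h : g ≫ m₁ = g ≫ m₂) : m₁ = m₂ := by
  have hepi : Epi g.base := (TopCat.epi_iff_surjective _).mpr hs
  have hb : m₁.base = m₂.base :=
    (cancel_epi g.base).mp (congrArg (fun k : S' ⟶ W => k.base) h)
  refine Scheme.Hom.ext hb (fun U => ?_)
  have hU : m₂ ⁻¹ᵁ U ≤ m₁ ⁻¹ᵁ U := by
    intro y hy
    change m₁.base y ∈ U
    rw [hb]; exact hy
  have h1 : m₁.app U ≫ S.presheaf.map (eqToHom congr((Opens.map $hb.symm).obj U)).op =
      m₁.appLE U (m₂ ⁻¹ᵁ U) hU := rfl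
  rw [h1]
  haveI : Mono (g.app (m₂ ⁻¹ᵁ U)) := ConcreteCategory.mono_of_injective _ (hinj _)
  rw [← cancel_mono (g.app (m₂ ⁻¹ᵁ U))]
  rw [Scheme.Hom.app_eq_appLE, Scheme.Hom.app_eq_appLE, Scheme.Hom.appLE_comp_appLE,
    Scheme.Hom.appLE_comp_appLE]
  exact appLE_congr_hom _ _ h _ _ _ _

end Groth.Agent.Helper9.EffEpiQ
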