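import Mathlib
import Groth.Agent.Helper9.IdealComap

set_option autoImplicit false
universe u
open CategoryTheory AlgebraicGeometry Limits MonoidalCategory CartesianMonoidalCategory

namespace Groth.Agent.Helper9.Thicken

/-- Pullback of a nilpotent ideal sheaf is nilpotent. -/
theorem comap_pow_eq_bot {X Y : Scheme.{u}} (f : X ⟶ Y) (J : Y.IdealSheafData) (n : ℕ)
    (hJ : J ^ n = ⊥) : (J.comap f) ^ n = ⊥ := by
  let ι := { V : X.affineOpens // ∃ U : Y.affineOpens, V.1 ≤ f ⁻¹ᵁ U.1 }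
  refine Scheme.IdealSheafData.ext_of_iSup_eq_top (ι := ι) (fun V => V.1) ?_ ?_
  · rw [eq_top_iff]
    rintro x -
    obtain ⟨_, ⟨U, hU, rfl⟩, hxU, -⟩ :=
      Y.isBasis_affineOpens.exists_subset_of_mem_open (Set.mem_univ (f x)) isOpen_univ
    obtain ⟨_, ⟨V, hV, rfl⟩, hxV, hVU : V ≤ f ⁻¹ᵁ U⟩ :=
      X.isBasis_affineOpens.exists_subset_of_mem_open hxU (f ⁻¹ᵁ U).isOpen
    exact TopologicalSpace.Opens.mem_iSup.mpr ⟨⟨⟨V, hV⟩, ⟨U, hU⟩, hVU⟩, hxV⟩
  · rintro ⟨V, U, hVU⟩
    change ((J.comap f) ^ n).ideal V = (⊥ : X.IdealSheafData).ideal V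
    rw [Scheme.IdealSheafData.ideal_pow, Pi.pow_apply,
      Groth.Agent.Helper9.IdealComap.ideal_comap f J U V hVU, ← Ideal.map_pow]
    have h1 : (J.ideal U) ^ n = (J ^ n).ideal U := by
      rw [Scheme.IdealSheafData.ideal_pow, Pi.pow_apply]
    rw [h1, hJ]
    simp

/-- A base change of a nilpotent closed immersion is a nilpotent closed immersion. -/
theorem ker_pow_eq_bot_of_isPullback {P Z X Y : Scheme.{u}} {i' : P ⟶ X} {s : P ⟶ Z} {q : X ⟶ Y}
    {t : Z ⟶ Y} (h : IsPullback i' s q t) [IsClosedImmersion t] (n : ℕ) (ht : t.ker ^ n = ⊥) :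
    IsClosedImmersion i' ∧ i'.ker ^ n = ⊥ := by
  have h1 : i' = h.isoPullback.hom ≫ pullback.fst q t := (h.isoPullback_hom_fst).symm
  constructor
  · rw [h1]; infer_instance
  · rw [h1, Scheme.Hom.ker_comp_of_isIso, Scheme.IdealSheafData.ker_fst_of_isClosedImmersion]
    exact comap_pow_eq_bot q t.ker n ht

/-- `Spec` of a surjection with nilpotent kernel has nilpotent kernel ideal sheaf. -/
theorem ker_specMap_pow_eq_bot {R S : CommRingCat.{u}} (φ : R ⟶ S) (n : ℕ)
    (h : RingHom.ker φ.hom ^ n = ⊥) : (Spec.map φ).ker ^ n = ⊥ := by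
  refine Scheme.IdealSheafData.ext_of_iSup_eq_top (ι := Unit)
    (fun _ => ⟨⊤, isAffineOpen_top (Spec R)⟩) (by simp) ?_
  rintro ⟨⟩
  change ((Spec.map φ).ker ^ n).ideal ⟨⊤, isAffineOpen_top (Spec R)⟩ =
    (⊥ : (Spec R).IdealSheafData).ideal ⟨⊤, isAffineOpen_top (Spec R)⟩
  rw [Scheme.IdealSheafData.ideal_pow, Pi.pow_apply, Scheme.Hom.ker_apply]
  simp only [Scheme.IdealSheafData.ideal_bot, Pi.bot_apply]
  rw [eq_bot_iff]
  have h2 : RingHom.ker ((Spec.map φ).app ⊤).hom =
      Ideal.map (Scheme.ΓSpecIso R).inv.hom (RingHom.ker φ.hom) := by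
    ext a
    rw [RingHom.mem_ker]
    have hnat := Scheme.ΓSpecIso_inv_naturality φ
    constructor
    · intro ha
      have ha' : a = (Scheme.ΓSpecIso R).inv.hom ((Scheme.ΓSpecIso R).hom.hom a) := by
        rw [← CommRingCat.comp_apply, Iso.hom_inv_id]; rfl
      rw [ha']
      apply Ideal.mem_map_of_mem
      rw [RingHom.mem_ker]
      have h3 : (Scheme.ΓSpecIso S).inv.hom (φ.hom ((Scheme.ΓSpecIso R).hom.hom a)) = 0 := by
        have := congr($(hnat).hom ((Scheme.ΓSpecIso R).hom.hom a))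
        simp only [CommRingCat.hom_comp, RingHom.comp_apply] at this
        rw [this, ← ha']
        exact ha
      have hinj : Function.Injective (Scheme.ΓSpecIso S).inv.hom :=
        ((ConcreteCategory.isIso_iff_bijective (Scheme.ΓSpecIso S).inv).mp inferInstance).1
      exact hinj (h3.trans (map_zero _).symm)
    · intro ha
      refine Submodule.span_induction ?_ (map_zero _) (fun x y _ _ hx hy => ?_)
        (fun c x _ hx => ?_) ha
      · rintro _ ⟨b, hb, rfl⟩
        have := congr($(hnat).hom b)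
        simp only [CommRingCat.hom_comp, RingHom.comp_apply] at this
        change ((Spec.map φ).appTop).hom ((Scheme.ΓSpecIso R).inv.hom b) = 0
        rw [← this, (RingHom.mem_ker).mp hb, map_zero]
      · rw [map_add, hx, hy, add_zero]
      · rw [smul_eq_mul, map_mul, hx, mul_zero]
  rw [h2, ← Ideal.map_pow, h]
  simp

/-- The square `B ⊗ Y → B ⊗ X`, `snd`, `snd`, `f` is a pullback (on underlying schemes). -/
theorem isPullback_whiskerLeft_snd {S : Scheme.{u}} (B : Over S) {Y X : Over S} (f : Y ⟶ X) :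
    IsPullback (B ◁ f).left (CartesianMonoidalCategory.snd B Y).left
      (CartesianMonoidalCategory.snd B X).left f.left := by
  have hr : IsPullback (Limits.pullback.fst B.hom X.hom) (Limits.pullback.snd B.hom X.hom) B.hom X.hom :=
    IsPullback.of_hasPullback _ _
  have ho : IsPullback ((B ◁ f).left ≫ Limits.pullback.fst B.hom X.hom) (Limits.pullback.snd B.hom Y.hom)
      B.hom (f.left ≫ X.hom) := by
    have h1 : (B ◁ f).left ≫ Limits.pullback.fst B.hom X.hom = Limits.pullback.fst B.hom Y.hom :=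
      Over.whiskerLeft_left_fst f
    have h2 : f.left ≫ X.hom = Y.hom := Over.w f
    rw [h1, h2]
    exact IsPullback.of_hasPullback _ _
  exact IsPullback.of_right ho (Over.whiskerLeft_left_snd f) hr

/-- Uniqueness of lifts along `B ◁ t` for a nilpotent closed immersion `t`, against a formally
unramified morphism. -/
theorem hom_ext_whiskerLeft {S : Scheme.{u}} (B : Over S) {T T' X Y : Over S} (t : T ⟶ T')
    [IsClosedImmersion t.left] (n : ℕ) (ht : t.left.ker ^ n = ⊥) (f : X ⟶ Y)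
    [FormallyUnramified f.left] {l₁ l₂ : B ⊗ T' ⟶ X}
    (h1 : (B ◁ t) ≫ l₁ = (B ◁ t) ≫ l₂) (h2 : l₁ ≫ f = l₂ ≫ f) : l₁ = l₂ := by
  obtain ⟨hcl, hk⟩ := ker_pow_eq_bot_of_isPullback (isPullback_whiskerLeft_snd B t) n ht
  apply Over.OverMorphism.ext
  refine FormallyUnramified.hom_ext (B ◁ t).left ⟨n, hk⟩ f.left ?_ ?_
  · rw [← Over.comp_left, ← Over.comp_left, h1]
  · rw [← Over.comp_left, ← Over.comp_left, h2]

end Groth.Agent.Helper9.Thicken
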