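import Mathlib
import Groth.Prelude.Def_ClSub2
import Groth.Agent.Lead.ProperOver
import Groth.Agent.Lead.SchDescent

/-! More on closed subsets proper over a base: empty set, closed subsets, unions, and descent along
flat open coverings of the base. -/

set_option autoImplicit false
universe u

open AlgebraicGeometry CategoryTheory Limits MorphismProperty

namespace Groth.Agent.Helper9.ProperOverB

section basic

variable {X S : Scheme.{u}} (f : X ⟶ S)

/-- the reduced closed subscheme on a closed subset -/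
noncomputable abbrev red (Z : Set X) (h : IsClosed Z) : Scheme.{u} :=
  (Scheme.IdealSheafData.vanishingIdeal ⟨Z, h⟩).subscheme

/-- its closed immersion -/
noncomputable abbrev redι (Z : Set X) (h : IsClosed Z) : red Z h ⟶ X :=
  (Scheme.IdealSheafData.vanishingIdeal ⟨Z, h⟩).subschemeι

theorem range_redι (Z : Set X) (h : IsClosed Z) : Set.range (redι Z h) = Z := by
  rw [Scheme.IdealSheafData.range_subschemeι, Scheme.IdealSheafData.coe_support_vanishingIdeal]
  rfl

theorem redι_mem (Z : Set X) (h : IsClosed Z) (z : red Z h) : redι Z h z ∈ Z :=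
  (Set.ext_iff.1 (range_redι Z h) _).1 ⟨z, rfl⟩

theorem exists_redι_eq (Z : Set X) (h : IsClosed Z) {x : X} (hx : x ∈ Z) :
    ∃ z : red Z h, redι Z h z = x :=
  (Set.ext_iff.1 (range_redι Z h) _).2 hx

theorem isProperOver_empty : ClSub.IsProperOver f (∅ : Set X) := by
  refine ⟨isClosed_empty, ?_⟩
  have : IsEmpty (red (∅ : Set X) isClosed_empty) := by
    constructor
    intro z
    exact redι_mem (∅ : Set X) isClosed_empty z
  infer_instance

/-- the closed immersion between the reduced structures of nested closed subsets -/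
theorem exists_lift {Z₁ Z₂ : Set X} (h₁ : IsClosed Z₁) (h₂ : IsClosed Z₂) (h : Z₁ ⊆ Z₂) :
    ∃ a : red Z₁ h₁ ⟶ red Z₂ h₂, IsClosedImmersion a ∧ a ≫ redι Z₂ h₂ = redι Z₁ h₁ := by
  have hker : (redι Z₂ h₂).ker ≤ (redι Z₁ h₁).ker := by
    rw [Scheme.IdealSheafData.ker_subschemeι, Scheme.IdealSheafData.ker_subschemeι]
    exact Scheme.IdealSheafData.vanishingIdeal_antimono h
  refine ⟨IsClosedImmersion.lift (redι Z₂ h₂) (redι Z₁ h₁) hker, ?_,
    IsClosedImmersion.lift_fac _ _ _⟩
  have : IsClosedImmersion (IsClosedImmersion.lift (redι Z₂ h₂) (redι Z₁ h₁) hker ≫ redι Z₂ h₂) := by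
    rw [IsClosedImmersion.lift_fac]; infer_instance
  exact IsClosedImmersion.of_comp _ (redι Z₂ h₂)

theorem isProperOver_of_closed_subset {Z₁ Z₂ : Set X} (h₁ : IsClosed Z₁) (h : Z₁ ⊆ Z₂)
    (hZ : ClSub.IsProperOver f Z₂) : ClSub.IsProperOver f Z₁ := by
  obtain ⟨h₂, hp⟩ := hZ
  obtain ⟨a, ha, hfac⟩ := exists_lift h₁ h₂ h
  refine ⟨h₁, ?_⟩
  have : IsProper (redι Z₂ h₂ ≫ f) := hp
  show IsProper (redι Z₁ h₁ ≫ f)
  rw [← hfac, Category.assoc]
  infer_instance

theorem isProperOver_union [LocallyOfFiniteType f] {Z₁ Z₂ : Set X}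
    (hZ₁ : ClSub.IsProperOver f Z₁) (hZ₂ : ClSub.IsProperOver f Z₂) :
    ClSub.IsProperOver f (Z₁ ∪ Z₂) := by
  obtain ⟨h₁, hp₁⟩ := hZ₁
  obtain ⟨h₂, hp₂⟩ := hZ₂
  have h₃ : IsClosed (Z₁ ∪ Z₂) := h₁.union h₂
  obtain ⟨a₁, ha₁, hfac₁⟩ := exists_lift h₁ h₃ Set.subset_union_left
  obtain ⟨a₂, ha₂, hfac₂⟩ := exists_lift h₂ h₃ Set.subset_union_right
  refine ⟨h₃, ?_⟩
  let Xs : Bool → Scheme.{u} := fun b => if b then red Z₁ h₁ else red Z₂ h₂
  let hs : ∀ b, Xs b ⟶ red (Z₁ ∪ Z₂) h₃ := fun b => match b with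
    | true => a₁
    | false => a₂
  refine Groth.Agent.Lead.ProperOver.isProper_of_jointly_surjective Xs hs
    (redι (Z₁ ∪ Z₂) h₃ ≫ f) ?_ ?_ ?_
  · intro y
    have hy : redι (Z₁ ∪ Z₂) h₃ y ∈ Z₁ ∪ Z₂ := redι_mem _ h₃ y
    rcases hy with hy | hy
    · obtain ⟨x, hx⟩ := exists_redι_eq Z₁ h₁ hy
      refine ⟨true, x, ?_⟩
      apply (redι (Z₁ ∪ Z₂) h₃).isClosedEmbedding.injective
      show (redι (Z₁ ∪ Z₂) h₃) (a₁ x) = _
      rw [← Scheme.Hom.comp_apply, hfac₁]
      exact hx
    · obtain ⟨x, hx⟩ := exists_redι_eq Z₂ h₂ hy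
      refine ⟨false, x, ?_⟩
      apply (redι (Z₁ ∪ Z₂) h₃).isClosedEmbedding.injective
      show (redι (Z₁ ∪ Z₂) h₃) (a₂ x) = _
      rw [← Scheme.Hom.comp_apply, hfac₂]
      exact hx
  · rintro (_ | _)
    · show UniversallyClosed a₂
      infer_instance
    · show UniversallyClosed a₁
      infer_instance
  · rintro (_ | _)
    · show IsProper (a₂ ≫ redι (Z₁ ∪ Z₂) h₃ ≫ f)
      rw [← Category.assoc, hfac₂]
      exact hp₂
    · show IsProper (a₁ ≫ redι (Z₁ ∪ Z₂) h₃ ≫ f)
      rw [← Category.assoc, hfac₁]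
      exact hp₁

end basic

section descent

variable {V : Scheme.{u}} [IsAffine V] {ι : Type u} [Finite ι] (W : ι → Scheme.{u})
  (c : ∀ j, W j ⟶ V) [∀ j, IsAffine (W j)] [∀ j, Flat (c j)]

/-- the total covering morphism (after `Helper5.FpqcTop`) -/
noncomputable def cov : (∐ W) ⟶ V := Sigma.desc c

set_option backward.isDefEq.respectTransparency.types false in
instance : Flat (cov W c) := IsZariskiLocalAtSource.sigmaDesc (P := @Flat) (fun j => inferInstance)

instance : QuasiCompact (cov W c) := inferInstance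

theorem cov_surjective (hcs : ∀ z : V, ∃ j, z ∈ Set.range (c j)) : Surjective (cov W c) := by
  constructor
  intro z
  obtain ⟨j, w, rfl⟩ := hcs z
  refine ⟨Sigma.ι W j w, ?_⟩
  rw [← Scheme.Hom.comp_apply]
  simp [cov]

set_option backward.isDefEq.respectTransparency.types false in
/-- scheme-level descent along a finite flat affine jointly surjective family
(after `Helper5.FpqcLocP.descend_scheme`) -/
theorem descend_scheme (P : MorphismProperty Scheme.{u}) [IsZariskiLocalAtTarget P]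
    [P.DescendsAlong (@Surjective ⊓ @Flat ⊓ @QuasiCompact)]
    (hcs : ∀ z : V, ∃ j, z ∈ Set.range (c j)) {U : Scheme.{u}} (g : U ⟶ V)
    (h : ∀ j, ∃ (Uj : Scheme.{u}) (p1 : Uj ⟶ U) (p2 : Uj ⟶ W j), IsPullback p1 p2 g (c j) ∧ P p2) :
    P g := by
  have hs := cov_surjective W c hcs
  have hQ : (@Surjective ⊓ @Flat ⊓ @QuasiCompact : MorphismProperty Scheme.{u}) (cov W c) :=
    ⟨⟨hs, inferInstance⟩, inferInstance⟩
  have sq0 : IsPullback (pullback.snd g (cov W c)) (pullback.fst g (cov W c)) (cov W c) g :=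
    (IsPullback.of_hasPullback g (cov W c)).flip
  refine MorphismProperty.of_isPullback_of_descendsAlong sq0 hQ ?_
  rw [IsZariskiLocalAtTarget.iff_of_openCover (P := P) (sigmaOpenCover W)]
  intro j
  obtain ⟨Uj, p1, p2, sqj, hp2⟩ := h j
  have sq1 : IsPullback (pullback.fst (pullback.snd g (cov W c)) ((sigmaOpenCover W).f j))
      (pullback.snd (pullback.snd g (cov W c)) ((sigmaOpenCover W).f j))
      (pullback.snd g (cov W c)) ((sigmaOpenCover W).f j) := IsPullback.of_hasPullback _ _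
  have sq2 : IsPullback (pullback.fst (pullback.snd g (cov W c)) ((sigmaOpenCover W).f j) ≫
      pullback.fst g (cov W c))
      (pullback.snd (pullback.snd g (cov W c)) ((sigmaOpenCover W).f j)) g
      ((sigmaOpenCover W).f j ≫ cov W c) := sq1.paste_horiz (IsPullback.of_hasPullback g (cov W c))
  have hc : (sigmaOpenCover W).f j ≫ cov W c = c j := by
    show Sigma.ι W j ≫ Sigma.desc c = c j
    simp
  rw [hc] at sq2
  let e := sq2.isoIsPullback _ _ sqj
  have he : e.hom ≫ p2 = pullback.snd (pullback.snd g (cov W c)) ((sigmaOpenCover W).f j) :=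
    IsPullback.isoIsPullback_hom_snd _ _ sq2 sqj
  show P (pullback.snd (pullback.snd g (cov W c)) ((sigmaOpenCover W).f j))
  rw [← he]
  exact (MorphismProperty.cancel_left_of_respectsIso P e.hom p2).2 hp2

end descent

section local_

set_option backward.isDefEq.respectTransparency.types false in
/-- properness is local on the base for coverings by flat open maps -/
theorem isProper_of_flat_open_local {T B : Scheme.{u}} (h : T ⟶ B)
    (H : ∀ b : B, ∃ (W : Scheme.{u}) (c : W ⟶ B) (w : W), Flat c ∧ IsOpenMap c ∧ c w = b ∧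
      ∃ (Tc : Scheme.{u}) (p1 : Tc ⟶ T) (p2 : Tc ⟶ W), IsPullback p1 p2 h c ∧ IsProper p2) :
    IsProper h := by
  apply IsZariskiLocalAtTarget.of_forall_exists_morphismRestrict (P := @IsProper)
  intro b
  obtain ⟨A, hA, hbA, -⟩ := exists_isAffineOpen_mem_and_subset (x := b) (U := ⊤) trivial
  refine ⟨A, hbA, ?_⟩
  haveI : IsAffine A.toScheme := hA
  have key : ∀ a : A.toScheme, ∃ (W' : Scheme.{u}) (c' : W' ⟶ A.toScheme), IsAffine W' ∧ Flat c' ∧
      IsOpen (Set.range c') ∧ a ∈ Set.range c' ∧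
      ∃ (Uj : Scheme.{u}) (p1 : Uj ⟶ (h ⁻¹ᵁ A).toScheme) (p2 : Uj ⟶ W'),
        IsPullback p1 p2 (h ∣_ A) c' ∧ IsProper p2 := by
    intro a
    obtain ⟨W, c, w, hflat, hopen, hw, Tc, p1, p2, sq, hp2⟩ := H (A.ι a)
    have hwA : w ∈ c ⁻¹ᵁ A := by
      show c w ∈ A
      rw [hw]
      exact a.2
    obtain ⟨W', hW', hwW', hW'sub⟩ := exists_isAffineOpen_mem_and_subset hwA
    have hrange : Set.range (W'.ι ≫ c) ⊆ Set.range A.ι := by
      rw [Scheme.Opens.range_ι]
      rintro _ ⟨x, rfl⟩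
      exact hW'sub x.2
    let c' : W'.toScheme ⟶ A.toScheme := IsOpenImmersion.lift A.ι (W'.ι ≫ c) hrange
    have hc' : c' ≫ A.ι = W'.ι ≫ c := IsOpenImmersion.lift_fac _ _ _
    have hc'app : ∀ x, A.ι (c' x) = c (W'.ι x) := by
      intro x
      rw [← Scheme.Hom.comp_apply, hc', Scheme.Hom.comp_apply]
    have hflat' : Flat c' := by
      have : Flat (c' ≫ A.ι) := by rw [hc']; infer_instance
      exact MorphismProperty.of_postcomp (W := @Flat) (W' := @IsOpenImmersion) c' A.ι
        inferInstance this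
    have hAinj : Function.Injective A.ι := A.ι.isOpenEmbedding.injective
    have hrc' : Set.range c' = A.ι ⁻¹' (c '' (W' : Set W)) := by
      ext y
      constructor
      · rintro ⟨x, rfl⟩
        exact ⟨W'.ι x, x.2, (hc'app x).symm⟩
      · rintro ⟨x, hx, hxy⟩
        refine ⟨⟨x, hx⟩, hAinj ?_⟩
        rw [hc'app]
        exact hxy
    refine ⟨W'.toScheme, c', hW', hflat', ?_, ?_, pullback (h ∣_ A) c', pullback.fst _ _,
      pullback.snd _ _, IsPullback.of_hasPullback _ _, ?_⟩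
    · rw [hrc']
      exact (hopen _ W'.2).preimage A.ι.continuous
    · refine ⟨⟨w, hwW'⟩, hAinj ?_⟩
      rw [hc'app]
      exact hw
    · have sqA : IsPullback (h ⁻¹ᵁ A).ι (h ∣_ A) h A.ι := (isPullback_morphismRestrict h A).flip
      have sq1 : IsPullback (pullback.fst (h ∣_ A) c' ≫ (h ⁻¹ᵁ A).ι) (pullback.snd (h ∣_ A) c') h
          (W'.ι ≫ c) := by
        have := (IsPullback.of_hasPullback (h ∣_ A) c').paste_horiz sqA
        rwa [hc'] at this
      have sq2 := IsPullback.of_right' sq1 sq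
      exact MorphismProperty.of_isPullback (P := @IsProper) sq2 hp2
  choose W' c' h1 h2 h3 h4 h5 using key
  obtain ⟨t, ht⟩ := isCompact_univ.elim_finite_subcover (fun a => Set.range (c' a)) h3
    (fun a _ => Set.mem_iUnion.2 ⟨a, h4 a⟩)
  haveI : ∀ j : t, IsAffine (W' j.1) := fun j => h1 j.1
  haveI : ∀ j : t, Flat (c' j.1) := fun j => h2 j.1
  refine descend_scheme (fun j : t => W' j.1) (fun j : t => c' j.1) @IsProper ?_ (h ∣_ A)
    (fun j => h5 j.1)
  intro z
  have hz := ht (Set.mem_univ z)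
  simp only [Set.mem_iUnion] at hz
  obtain ⟨a, ha, hza⟩ := hz
  exact ⟨⟨a, ha⟩, hza⟩

set_option backward.isDefEq.respectTransparency.types false in
/-- being proper over the base is local on the base for coverings by flat open maps -/
theorem isProperOver_of_flat_open_local {P B : Scheme.{u}} (g : P ⟶ B) [LocallyOfFiniteType g]
    (Z : Set P) (hZ : IsClosed Z)
    (H : ∀ b : B, ∃ (W : Scheme.{u}) (c : W ⟶ B) (w : W), Flat c ∧ IsOpenMap c ∧ c w = b ∧
      ∃ (Pc : Scheme.{u}) (p1 : Pc ⟶ P) (p2 : Pc ⟶ W), IsPullback p1 p2 g c ∧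
        ClSub.IsProperOver p2 (p1 ⁻¹' Z)) :
    ClSub.IsProperOver g Z := by
  refine ⟨hZ, isProper_of_flat_open_local (redι Z hZ ≫ g) ?_⟩
  intro b
  obtain ⟨W, c, w, hflat, hopen, hw, Pc, p1, p2, sq, hp⟩ := H b
  refine ⟨W, c, w, hflat, hopen, hw, pullback (redι Z hZ) p1, pullback.fst _ _,
    pullback.snd _ _ ≫ p2, (IsPullback.of_hasPullback (redι Z hZ) p1).paste_vert sq, ?_⟩
  haveI : LocallyOfFiniteType p2 :=
    MorphismProperty.of_isPullback (P := @LocallyOfFiniteType) sq inferInstance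
  have hr : Set.range (pullback.snd (redι Z hZ) p1) = p1 ⁻¹' Z := by
    rw [Scheme.Pullback.range_snd, range_redι]
  exact (Groth.Agent.Lead.ProperOver.isProperOver_iff_of_range_eq p2
    (pullback.snd (redι Z hZ) p1) _ hr).1 hp

end local_

end Groth.Agent.Helper9.ProperOverB
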