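import Mathlib
import Groth.Prelude.Def_ClSub2
import Groth.Agent.Lead.ProperOver
import Groth.Agent.Lead.ProperOver2
import Groth.Agent.Lead.SuppProper
import Groth.Agent.Helper9.ProperOverB

/-! Closed subsets proper over a base: composition, cancellation and images. -/

set_option autoImplicit false
universe u

open AlgebraicGeometry CategoryTheory Limits MorphismProperty

namespace Groth.Agent.Helper9.ProperOverC

open Groth.Agent.Helper9.ProperOverB

variable {A B C : Scheme.{u}} (p : A ⟶ B) (q : B ⟶ C)

/-- a morphism from a reduced scheme whose range lies in a closed subset factors through the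
reduced induced structure -/
theorem exists_lift_red {T : Scheme.{u}} [IsReduced T] (a : T ⟶ B) (Z : Set B) (hZ : IsClosed Z)
    (h : Set.range a ⊆ Z) : ∃ l : T ⟶ red Z hZ, l ≫ redι Z hZ = a := by
  have hker : (redι Z hZ).ker ≤ a.ker := by
    rw [Scheme.IdealSheafData.ker_subschemeι, Groth.Agent.Lead.SuppProper.ker_eq_vanishingIdeal]
    apply Scheme.IdealSheafData.vanishingIdeal_antimono
    exact closure_minimal h hZ
  exact ⟨IsClosedImmersion.lift (redι Z hZ) a hker, IsClosedImmersion.lift_fac _ _ _⟩

instance isReduced_red (Z : Set B) (hZ : IsClosed Z) : IsReduced (red Z hZ) :=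
  Groth.Agent.Lead.SuppProper.isReduced_vanishingIdeal_subscheme _

/-- cancellation: proper over `C` implies proper over `B` when `B → C` is separated -/
theorem isProperOver_of_comp [IsSeparated q] (Z : Set A)
    (h : ClSub.IsProperOver (p ≫ q) Z) : ClSub.IsProperOver p Z := by
  obtain ⟨hcl, hp⟩ := h
  refine ⟨hcl, ?_⟩
  have hp' : IsProper ((redι Z hcl ≫ p) ≫ q) := by
    rw [Category.assoc]; exact hp
  exact MorphismProperty.of_postcomp (W := @IsProper) (W' := @IsSeparated) (redι Z hcl ≫ p) q
    inferInstance hp'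

/-- the image of a closed subset proper over `C` is proper over `C` -/
theorem isProperOver_image_of_comp [IsSeparated q] [LocallyOfFiniteType q] (Z : Set A)
    (h : ClSub.IsProperOver (p ≫ q) Z) : ClSub.IsProperOver q (p '' Z) := by
  obtain ⟨hcl', hp'⟩ := isProperOver_of_comp p q Z h
  obtain ⟨hcl, hp⟩ := h
  haveI : IsProper (redι Z hcl ≫ p) := hp'
  exact Groth.Agent.Lead.ProperOver.isProperOver_image (p ≫ q) q p rfl Z hcl hp inferInstance

/-- composition -/
theorem isProperOver_comp [LocallyOfFiniteType q] (Z : Set A) (h₁ : ClSub.IsProperOver p Z)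
    (h₂ : ClSub.IsProperOver q (p '' Z)) : ClSub.IsProperOver (p ≫ q) Z := by
  obtain ⟨hcl, hp⟩ := h₁
  obtain ⟨hcl₂, hp₂⟩ := h₂
  refine ⟨hcl, ?_⟩
  have hr : Set.range (redι Z hcl ≫ p) ⊆ p '' Z := by
    rintro _ ⟨z, rfl⟩
    exact ⟨redι Z hcl z, redι_mem Z hcl z, rfl⟩
  obtain ⟨l, hl⟩ := exists_lift_red (redι Z hcl ≫ p) (p '' Z) hcl₂ hr
  haveI : IsProper (redι (p '' Z) hcl₂ ≫ q) := hp₂
  haveI : IsProper (l ≫ redι (p '' Z) hcl₂) := by rw [hl]; exact hp
  haveI : IsProper l :=
    MorphismProperty.of_postcomp (W := @IsProper) (W' := @IsSeparated) l (redι (p '' Z) hcl₂)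
      inferInstance inferInstance
  show IsProper (redι Z hcl ≫ p ≫ q)
  rw [← Category.assoc, ← hl, Category.assoc]
  infer_instance

/-- a closed subset proper over the base has closed image -/
theorem isClosed_image (Z : Set A) (h : ClSub.IsProperOver p Z) : IsClosed (p '' Z) := by
  obtain ⟨hcl, hp⟩ := h
  have : p '' Z = Set.range (redι Z hcl ≫ p) := by
    rw [Scheme.Hom.comp_base, TopCat.coe_comp, Set.range_comp, range_redι]
  rw [this]
  exact (redι Z hcl ≫ p).isClosedMap.isClosed_range

end Groth.Agent.Helper9.ProperOverC
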