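import Mathlib
import Groth.Agent.Helper9.Amp1
import Groth.Agent.Helper4.RDerAdd
import Groth.Agent.Helper4.WSerreLib
import Groth.Agent.Helper1.DerInd

/-! Dévissage for total right derived functors `RF` on `D(B)`, `B` Grothendieck abelian (no
triangulated structure on `RF` is assumed, only the universal property): properties of `RF(Y)` for
bounded / bounded below `Y` from the case of single objects. -/

set_option autoImplicit false
set_option linter.unusedSectionVars false
set_option linter.unusedVariables false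
set_option linter.style.haveILetI false
universe w w' v v' u u'

namespace Groth.Agent.Helper9.DevRF

open CategoryTheory Limits Pretriangulated Triangulated DerivedCategory
open Groth.Agent.Helper1 Groth.Agent.Helper1.DerTrunc Groth.Agent.Helper1.WayOut
  Groth.Agent.Helper4

variable {A : Type u} [Category.{v} A] [Abelian A] [HasDerivedCategory.{w} A]
  {B : Type u'} [Category.{v'} B] [Abelian B] [IsGrothendieckAbelian.{v'} B]
  [HasDerivedCategory.{w'} B]
  (F : B ⥤ A) [F.Additive] (RF : DerivedCategory B ⥤ DerivedCategory A)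
  (β : F.mapHomotopyCategory (ComplexShape.up ℤ) ⋙ DerivedCategory.Qh ⟶ DerivedCategory.Qh ⋙ RF)
  [RF.IsRightDerivedFunctor β (HomotopyCategory.quasiIso B (ComplexShape.up ℤ))]

include β in
/-- dévissage, bounded case -/
theorem dev_bounded (P' : ObjectProperty (DerivedCategory A)) [P'.IsClosedUnderIsomorphisms]
    (h0 : ∀ Y, IsZero Y → P' Y)
    (hext : ∀ T : Triangle (DerivedCategory A), T ∈ distTriang _ → P' T.obj₁ → P' T.obj₃ →
      P' T.obj₂)
    (Y : DerivedCategory B) (a b : ℤ) [Y.IsGE a] [Y.IsLE b]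
    (hY : ∀ j : ℤ, P' (RF.obj ((singleFunctor B j).obj ((homologyFunctor B j).obj Y)))) :
    P' (RF.obj Y) := by
  let Z : ObjectProperty (DerivedCategory B) := fun W => P' (RF.obj W)
  haveI : Z.IsClosedUnderIsomorphisms := ⟨fun e h => P'.prop_of_iso (RF.mapIso e) h⟩
  refine DerInd.bounded_induction Z (fun W hW => h0 _ (RDerAdd.isZero_obj F RF β W hW))
    (fun T hT h₁ h₃ => ?_) Y a b hY
  obtain ⟨c, hc⟩ := RDerTri.exists_distinguished_map F RF β T hT
  exact hext _ hc h₁ h₃

include β in
/-- `RF` is left t-exact -/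
theorem isGE_obj (Y : DerivedCategory B) (n : ℤ) [Y.IsGE n] : (RF.obj Y).IsGE n := by
  obtain ⟨L, _, ⟨e⟩⟩ := DerivedCategory.exists_iso_Q_obj_of_isGE Y n
  obtain ⟨I, j, hj, hI, hge⟩ :=
    CochainComplex.Plus.modelCategoryQuillen.exists_quasiIso_injective L n
  haveI := hj
  haveI := hge
  haveI : I.IsKInjective := CochainComplex.isKInjective_of_injective I n
  obtain ⟨e1⟩ := RpushCl.nonempty_iso_of_isKInjective F RF β I
  have e2 : RF.obj Y ≅ Q.obj ((F.mapHomologicalComplex (ComplexShape.up ℤ)).obj I) :=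
    RF.mapIso (e ≪≫ asIso (Q.map j)) ≪≫ e1
  haveI : CochainComplex.IsStrictlyGE ((F.mapHomologicalComplex (ComplexShape.up ℤ)).obj I) n := by
    rw [CochainComplex.isStrictlyGE_iff]
    intro m hm
    exact Functor.map_isZero F (I.isZero_of_isStrictlyGE n m hm)
  haveI : (Q.obj ((F.mapHomologicalComplex (ComplexShape.up ℤ)).obj I)).IsGE n := by
    rw [DerivedCategory.isGE_Q_obj_iff]
    infer_instance
  rw [DerivedCategory.isGE_iff]
  intro i hi
  exact (isZero_of_isGE (Q.obj ((F.mapHomologicalComplex (ComplexShape.up ℤ)).obj I)) n i hi).of_iso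
    ((homologyFunctor A i).mapIso e2)

include β in
/-- `Hⁱ(RF(M[-j])) ≅ H^{i-j}(RF(M[0]))` -/
theorem nonempty_homology_single_iso (M : B) (j i : ℤ) :
    Nonempty ((homologyFunctor A i).obj (RF.obj ((singleFunctor B j).obj M)) ≅
      (homologyFunctor A (-j + i)).obj (RF.obj ((singleFunctor B 0).obj M))) := by
  let e1 : ((singleFunctor B 0).obj M)⟦-j⟧ ≅ (singleFunctor B j).obj M :=
    ((DerivedCategory.singleFunctors B).shiftIso (-j) j 0 (by simp)).app M
  obtain ⟨e2⟩ := Amp1.nonempty_shift_iso F RF β ((singleFunctor B 0).obj M) (-j)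
  let e3 := Amp1.homologyShiftIso (RF.obj ((singleFunctor B 0).obj M)) (-j) i
  exact ⟨(homologyFunctor A i).mapIso (RF.mapIso e1.symm ≪≫ e2) ≪≫ e3⟩

variable [HasInjectiveResolutions B]

include β in
/-- the cohomology of `RF` of a single object in terms of the classical derived functors -/
theorem prop_homology_single (Q' : ObjectProperty A) [Q'.IsClosedUnderIsomorphisms]
    (hQ0 : ∀ Z, IsZero Z → Q' Z) (M : B) (hM : ∀ p : ℕ, Q' ((F.rightDerived p).obj M))
    (j i : ℤ) : Q' ((homologyFunctor A i).obj (RF.obj ((singleFunctor B j).obj M))) := by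
  obtain ⟨e⟩ := nonempty_homology_single_iso F RF β M j i
  refine Q'.prop_of_iso e.symm ?_
  by_cases hneg : -j + i < 0
  · exact hQ0 _ (Amp1.isZero_homology_single_neg F RF β M _ hneg)
  · obtain ⟨p, hp⟩ := Int.eq_ofNat_of_zero_le (not_lt.mp hneg)
    rw [hp]
    obtain ⟨e4⟩ := RpushCl.nonempty_homology_iso F RF β M p
    exact Q'.prop_of_iso e4.symm (hM p)

include β in
/-- cohomology of `RF(Y)` in a weak Serre subcategory, bounded case -/
theorem cohIn_of_bounded (P' : ObjectProperty A) [WSerre.IsWeakSerre P']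
    (Y : DerivedCategory B) (a b : ℤ) [Y.IsGE a] [Y.IsLE b]
    (hY : ∀ (j : ℤ), IsZero ((homologyFunctor B j).obj Y) ∨
      ∀ (p : ℕ), P' ((F.rightDerived p).obj ((homologyFunctor B j).obj Y))) :
    WSerre.cohIn P' (RF.obj Y) := by
  let PD : ObjectProperty (DerivedCategory A) := fun Z => WSerre.cohIn P' Z
  haveI : PD.IsClosedUnderIsomorphisms := ⟨fun e h => WSerreLib.cohIn_of_iso P' e h⟩
  refine dev_bounded F RF β PD (fun Z hZ => WSerreLib.cohIn_of_isZero P' hZ)
    (fun T hT h₁ h₃ => WSerreLib.cohIn_ext P' T hT h₁ h₃) Y a b (fun j => ?_)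
  rcases hY j with hz | hp
  · exact WSerreLib.cohIn_of_isZero P'
      (RDerAdd.isZero_obj F RF β _ (Functor.map_isZero (singleFunctor B j) hz))
  · intro i
    exact prop_homology_single F RF β P' (WSerreLib.prop_of_isZero P') _ hp j i

include β in
/-- cohomology of `RF(Y)` in a weak Serre subcategory, bounded below case -/
theorem cohIn_of_isGE (P' : ObjectProperty A) [WSerre.IsWeakSerre P']
    (X : DerivedCategory B) (a : ℤ) [X.IsGE a]
    (hX : ∀ (j : ℤ) (p : ℕ), P' ((F.rightDerived p).obj ((homologyFunctor B j).obj X))) :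
    WSerre.cohIn P' (RF.obj X) := by
  intro i
  obtain ⟨m, hm⟩ : ∃ m : ℤ, m = i + 2 := ⟨_, rfl⟩
  have hT := (tD B).triangleLTGE_distinguished m X
  obtain ⟨c, hT'⟩ := RDerTri.exists_distinguished_map F RF β _ hT
  have hY : (((tD B).truncGE m).obj X).IsGE m := inferInstance
  haveI : (((tD B).truncGE m).obj X).IsGE (i + 1) := (tD B).isGE_of_ge _ (i + 1) m (by omega)
  have hYR : (RF.obj (((tD B).truncGE m).obj X)).IsGE (i + 1) := isGE_obj F RF β _ (i + 1)
  have h1 : Mono ((homologyFunctor A i).map (RF.map (((tD B).truncLTι m).app X))) :=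
    (HomologySequence.mono_homologyMap_mor₁_iff _ hT' (i - 1) i (by omega)).2
      (IsZero.eq_of_src (isZero_of_isGE (RF.obj (((tD B).truncGE m).obj X)) (i + 1) (i - 1)
        (by omega)) _ _)
  have h2 : Epi ((homologyFunctor A i).map (RF.map (((tD B).truncLTι m).app X))) :=
    (HomologySequence.epi_homologyMap_mor₁_iff _ hT' i).2
      (IsZero.eq_of_tgt (isZero_of_isGE (RF.obj (((tD B).truncGE m).obj X)) (i + 1) i
        (by omega)) _ _)
  have h3 : IsIso ((homologyFunctor A i).map (RF.map (((tD B).truncLTι m).app X))) :=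
    isIso_of_mono_of_epi _
  haveI h4 : (((tD B).truncLT m).obj X).IsGE a := inferInstance
  haveI h5 : (((tD B).truncLT m).obj X).IsLE (m - 1) := inferInstance
  have hb := cohIn_of_bounded F RF β P' (((tD B).truncLT m).obj X) a (m - 1) (fun j => ?_)
  · exact P'.prop_of_iso (asIso ((homologyFunctor A i).map (RF.map (((tD B).truncLTι m).app X))))
      (hb i)
  · by_cases hj : j < m
    · have := isIso_homologyMap_truncLTι X m j hj
      exact Or.inr (fun p => P'.prop_of_iso ((F.rightDerived p).mapIso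
        (asIso ((homologyFunctor B j).map (((tD B).truncLTι m).app X))).symm) (hX j p))
    · exact Or.inl (isZero_of_isLE (((tD B).truncLT m).obj X) (m - 1) j (by omega))

end Groth.Agent.Helper9.DevRF
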