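import Mathlib
import Groth.Agent.Helper9.DevRF
import Groth.Agent.Helper9.Van1
import Groth.Agent.Helper1.RpClImm
import Groth.Agent.Helper2.CohQ1
import Groth.Agent.Helper4.QcohWSerre
import Groth.Agent.Helper4.HasRD
import Groth.Agent.S0792
import Groth.Agent.S0795

/-! `Rf_*` of bounded (below) complexes with coherent cohomology with proper support, over a
Noetherian base: coherence and boundedness, by dévissage from the case of a single sheaf. -/

set_option autoImplicit false
set_option linter.style.haveILetI false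
set_option linter.unusedVariables false
set_option linter.unusedSectionVars false
universe u

namespace Groth.Agent.Helper9.CohPS2

open CategoryTheory Limits AlgebraicGeometry Opposite TopologicalSpace DerivedCategory Pretriangulated
open Groth.Agent.Helper4 ZeroObject

attribute [local instance] HasDerivedCategory.standard

variable {X S : Scheme.{u}}

/-- the property of being coherent -/
abbrev coh (S : Scheme.{u}) : ObjectProperty S.Modules := fun M => Coh.IsCoh M

instance [IsLocallyNoetherian S] : WSerre.IsWeakSerre (coh S) where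
  exists_zero := ⟨0, isZero_zero _, by
    have hq : Coh.IsQCoh (0 : S.Modules) := RpushQc.isQuasicoherent_of_isZero (isZero_zero _)
    have h0 : Coh.IsCoh (0 : S.Modules) := by
      have hs : Coh.IsCoh (Coh.structureModule S) := Groth.Agent.Helper1.Dev.isCoh_structureModule S
      exact Groth.Agent.Helper2.CohQ1.isCoh_of_epi (0 : Coh.structureModule S ⟶ 0) hs hq
    exact h0⟩
  kernels_le := by
    rintro _ ⟨f, k, hk, ⟨hX, hY⟩⟩
    have hX' : Coh.IsCoh _ := hX
    have hY' : Coh.IsCoh _ := hY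
    have hq := @QcohLimits.isQuasicoherent_kernel _ _ _ f hX'.1 hY'.1
    have h1 : Coh.IsCoh (kernel f) :=
      Groth.Agent.Helper2.CohQ1.isCoh_of_mono (kernel.ι f) hq hX'
    exact Groth.Agent.Helper2.CohQ1.isCoh_of_iso
      (IsLimit.conePointUniqueUpToIso (kernelIsKernel f) hk) h1
  cokernels_le := by
    rintro _ ⟨f, k, hk, ⟨hX, hY⟩⟩
    have hX' : Coh.IsCoh _ := hX
    have hY' : Coh.IsCoh _ := hY
    have hq := @QcohLimits.isQuasicoherent_cokernel _ _ _ f hX'.1 hY'.1
    have h1 : Coh.IsCoh (cokernel f) :=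
      Groth.Agent.Helper2.CohQ1.isCoh_of_epi (cokernel.π f) hY' hq
    exact Groth.Agent.Helper2.CohQ1.isCoh_of_iso
      (IsColimit.coconePointUniqueUpToIso (cokernelIsCokernel f) hk) h1
  prop_X₂_of_shortExact {T} hT h₁ h₃ := by
    have h₁' : Coh.IsCoh T.X₁ := h₁
    have h₃' : Coh.IsCoh T.X₃ := h₃
    haveI : T.X₁.IsQuasicoherent := h₁'.1
    haveI : T.X₃.IsQuasicoherent := h₃'.1
    exact Groth.Agent.Helper2.CohQ1.isCoh_of_shortExact T hT h₁'
      (QcohExt.isQuasicoherent_of_shortExact T hT) h₃'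

variable (f : X ⟶ S) [LocallyOfFiniteType f] [DCoh.HasRpush f]

/-- higher direct images of a coherent module with proper support vanish in large degrees -/
theorem exists_vanishing [IsNoetherian S] [HasInjectiveResolutions X.Modules] (M : X.Modules)
    (hM : Coh.IsCoh M) (hs : ClSub.IsProperOver f (CohB1.support M)) :
    ∃ N : ℕ, ∀ p : ℕ, N ≤ p → IsZero ((Coh.Rpush f p).obj M) := by
  obtain ⟨Z, i, hi, hprop, G, hq, hft, ⟨e⟩⟩ := (Groth.Agent.S0792.result f M hM.1 hM.2).1 hs
  haveI := hi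
  haveI := hprop
  haveI := SchAdj.isGrothendieckAbelian_modules Z
  haveI : HasInjectiveResolutions Z.Modules := inferInstance
  haveI : DCoh.HasRpush (i ≫ f) := HasRD.hasRpush _
  obtain ⟨N, hN⟩ := Van1.rpush_vanishing (i ≫ f)
  refine ⟨N.toNat, fun p hp => ?_⟩
  obtain ⟨j⟩ := Groth.Agent.Helper1.RpClImm.nonempty_iso i f p
  obtain ⟨e4⟩ := RpushCl.nonempty_homology_iso (Scheme.Modules.pushforward (i ≫ f))
    (DCoh.Rpush (i ≫ f)) ((DCoh.pushKh (i ≫ f)).totalRightDerivedUnit DerivedCategory.Qh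
      (HomotopyCategory.quasiIso Z.Modules (ComplexShape.up ℤ))) G p
  have hz : IsZero (DCoh.HD ((DCoh.Rpush (i ≫ f)).obj (DCoh.inD Z G)) (p : ℤ)) :=
    hN (DCoh.inD Z G) (RpushQc.isQCohD_inD G hq) inferInstance p (by
      have := Int.self_le_toNat N
      omega)
  exact hz.of_iso ((Coh.Rpush f p).mapIso e.symm ≪≫ (j.app G).symm ≪≫ e4.symm)

variable [IsNoetherian S]

/-- **bounded below case** -/
theorem isCohD_Rpush_of_isGE (E : DCoh.D X) (a : ℤ) [E.IsGE a] (hE : DCoh.IsCohD E)
    (hsupp : ∀ i : ℤ, ClSub.IsProperOver f (CohB1.support (DCoh.HD E i))) :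
    DCoh.IsCohD ((DCoh.Rpush f).obj E) ∧ ((DCoh.Rpush f).obj E).IsGE a := by
  haveI := SchAdj.isGrothendieckAbelian_modules X
  haveI : HasInjectiveResolutions X.Modules := inferInstance
  let Φ := Scheme.Modules.pushforward f
  let RF := DCoh.Rpush f
  let β := (DCoh.pushKh f).totalRightDerivedUnit DerivedCategory.Qh
        (HomotopyCategory.quasiIso X.Modules (ComplexShape.up ℤ))
  refine ⟨?_, DevRF.isGE_obj Φ RF β E a⟩
  exact DevRF.cohIn_of_isGE Φ RF β (coh S) E a
    (fun j p => Groth.Agent.S0795.result f (DCoh.HD E j) (hE j) (hsupp j) p)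

/-- **bounded case** -/
theorem isCohD_Rpush_of_bounded (E : DCoh.D X) (a b : ℤ) [E.IsGE a] [E.IsLE b]
    (hE : DCoh.IsCohD E)
    (hsupp : ∀ i : ℤ, ClSub.IsProperOver f (CohB1.support (DCoh.HD E i))) :
    DCoh.IsCohD ((DCoh.Rpush f).obj E) ∧ ((DCoh.Rpush f).obj E).IsGE a ∧
      ∃ b' : ℤ, ((DCoh.Rpush f).obj E).IsLE b' := by
  haveI := SchAdj.isGrothendieckAbelian_modules X
  haveI : HasInjectiveResolutions X.Modules := inferInstance
  let Φ := Scheme.Modules.pushforward f
  let RF := DCoh.Rpush f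
  let β := (DCoh.pushKh f).totalRightDerivedUnit DerivedCategory.Qh
        (HomotopyCategory.quasiIso X.Modules (ComplexShape.up ℤ))
  obtain ⟨h1, h2⟩ := isCohD_Rpush_of_isGE f E a hE hsupp
  refine ⟨h1, h2, ?_⟩
  let P' : ObjectProperty (DCoh.D S) := fun Z => ∃ b' : ℤ, Z.IsLE b'
  haveI : P'.IsClosedUnderIsomorphisms := ⟨fun e h => by
    obtain ⟨b', hb'⟩ := h
    exact ⟨b', TStructure.t.isLE_of_iso e b'⟩⟩
  refine DevRF.dev_bounded Φ RF β P' (fun Y hY => ⟨0, TStructure.t.isLE_of_isZero hY 0⟩)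
    (fun T hT h₁ h₃ => ?_) E a b (fun j => ?_)
  · obtain ⟨b₁, hb₁⟩ := h₁
    obtain ⟨b₃, hb₃⟩ := h₃
    exact ⟨max b₁ b₃, TStructure.t.isLE₂ T hT _ (TStructure.t.isLE_of_le _ _ _ (le_max_left b₁ b₃))
      (TStructure.t.isLE_of_le _ _ _ (le_max_right b₁ b₃))⟩
  · obtain ⟨N, hN⟩ := exists_vanishing f (DCoh.HD E j) (hE j) (hsupp j)
    refine ⟨j + N - 1, ?_⟩
    rw [DerivedCategory.isLE_iff]
    intro i hi
    exact Amp1.isZero_homology_single Φ RF β (DCoh.HD E j) N hN j i (Or.inr hi)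

end Groth.Agent.Helper9.CohPS2
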