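import Mathlib
import Groth.Prelude.Def_KFlatSite
import Groth.Agent.Helper9.LTCx5

/-!
# `- ⊗^L E` only depends on the quasi-isomorphism class of `E`
-/

set_option autoImplicit false
set_option linter.style.haveILetI false
set_option linter.unusedSectionVars false

namespace Groth.Agent.Helper9.LTCx6

open CategoryTheory Category Limits HomologicalComplex CochainComplex
  Groth.Agent.Helper9.KFlat3 Groth.Agent.Helper9.KFlat4
  Groth.Agent.Helper9.KFlat5 Groth.Agent.Helper9.KFlat18 Groth.Agent.Helper9.LTCx1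
  Groth.Agent.Helper9.LTCx5

attribute [local instance] HasDerivedCategory.standard

universe u

variable {C : Type u} [SmallCategory C] {J : GrothendieckTopology C} {O : Sheaf J CommRingCat.{u}}

/-- every object of `D(O)` is represented by a K-flat complex -/
lemma exists_kflat_rep (D : DCoh.DMod (ModSite.ringSh O)) :
    ∃ (P : CochainComplex (ModSite.Mod O) ℤ), ModSite.IsKFlat P ∧
      Nonempty (DerivedCategory.Q.obj P ≅ D) := by
  obtain ⟨K, ⟨e⟩⟩ : ∃ K, Nonempty (DerivedCategory.Q.obj K ≅ D) :=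
    ⟨_, ⟨DerivedCategory.Q.objObjPreimageIso D⟩⟩
  obtain ⟨P, q, hP, -, hq, -⟩ := exists_kflat_resolution K
  haveI : IsIso (DerivedCategory.Q.map q) := by
    rw [DerivedCategory.isIso_Q_map_iff_quasiIso]; exact hq
  exact ⟨P, hP, ⟨asIso (DerivedCategory.Q.map q) ≪≫ e⟩⟩

/-- tensoring a K-flat complex (on the left) with a quasi-isomorphism -/
theorem quasiIso_obj_map_of_isKFlat {P : CochainComplex (ModSite.Mod O) ℤ} (hP : ModSite.IsKFlat P)
    {E' E : CochainComplex (ModSite.Mod O) ℤ} (q : E' ⟶ E) (hq : QuasiIso q) :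
    QuasiIso (((ModSite.tensorCx O).obj P).map q) := by
  rw [(good_obj (ModSite.tensorBi O) P).quasiIso_map_iff q]
  exact isKFlatL_of_isKFlat hP _ ((quasiIso_iff_acyclic_mappingCone q).1 hq)

variable {E' E : CochainComplex (ModSite.Mod O) ℤ} (q : E' ⟶ E)
  [ModSite.HasLTensorCx E'] [ModSite.HasLTensorCx E]

/-- the natural transformation `- ⊗ E' ⟶ - ⊗ E` followed by `Q` -/
noncomputable def τ : ModSite.tensorCxQ E' ⟶ ModSite.tensorCxQ E :=
  Functor.whiskerRight ((ModSite.tensorCx O).flip.map q) DerivedCategory.Q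

lemma τ_app (K : CochainComplex (ModSite.Mod O) ℤ) :
    (τ q).app K = DerivedCategory.Q.map (((ModSite.tensorCx O).obj K).map q) := rfl

/-- the induced map on derived tensor products -/
noncomputable def ltensorMap : ModSite.LTensorCx E' ⟶ ModSite.LTensorCx E :=
  Functor.leftDerivedNatTrans (ModSite.LTensorCx E') (ModSite.LTensorCx E) (counit E') (counit E)
    (W (O := O)) (τ q)

@[reassoc]
lemma ltensorMap_app (K : CochainComplex (ModSite.Mod O) ℤ) :
    (ltensorMap q).app (DerivedCategory.Q.obj K) ≫ (counit E).app K =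
      (counit E').app K ≫ (τ q).app K :=
  Functor.leftDerivedNatTrans_app _ _ _ _ _ _ _

theorem isIso_ltensorMap (hq : QuasiIso q) : IsIso (ltensorMap q) := by
  rw [NatTrans.isIso_iff_isIso_app]
  intro D
  obtain ⟨P, hP, ⟨e⟩⟩ := exists_kflat_rep D
  rw [← NatTrans.isIso_app_iff_of_iso (ltensorMap q) e]
  haveI := isIso_counit_app E P hP
  haveI := isIso_counit_app E' P hP
  haveI : IsIso ((τ q).app P) := by
    rw [τ_app, DerivedCategory.isIso_Q_map_iff_quasiIso]
    exact quasiIso_obj_map_of_isKFlat hP q hq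
  have h := ltensorMap_app q P
  have h2 : IsIso ((ltensorMap q).app (DerivedCategory.Q.obj P) ≫ (counit E).app P) := by
    rw [h]; infer_instance
  exact IsIso.of_isIso_comp_right _ ((counit E).app P)

/-- `- ⊗^L E' ≅ - ⊗^L E` for a quasi-isomorphism `E' ⟶ E` -/
noncomputable def ltensorIso (hq : QuasiIso q) : ModSite.LTensorCx E' ≅ ModSite.LTensorCx E :=
  @asIso _ _ _ _ (ltensorMap q) (isIso_ltensorMap q hq)

end Groth.Agent.Helper9.LTCx6
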