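import Mathlib
import Groth.Prelude.Def_ModSite
import Groth.Agent.Helper9.TensorAdj
import Groth.Agent.Helper9.TensorFlat

/-!
# Associativity of the tensor product of sheaves of modules, as a natural iso of functors
-/

namespace Groth.Agent.Helper9.TensorAssoc

open CategoryTheory MonoidalCategory Opposite Limits
  Groth.Agent.Helper9.TensorSh Groth.Agent.Helper9.TensorAdj Groth.Agent.Helper9.TensorFlat

universe u

variable {C : Type u} [SmallCategory C] {J : GrothendieckTopology C} {O : Sheaf J CommRingCat.{u}}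
  (G F : ModSite.Mod O)

/-- `a(X ⊗ (G ⊗_p F)) ≅ X ⊗ (G ⊗ F)` -/
noncomputable def iso12 :
    ι O ⋙ tensorRight ((ι O).obj G ⊗ (ι O).obj F) ⋙ a O ≅ TN (((ModSite.tensorBi O).obj G).obj F) :=
  NatIso.ofComponents (fun X => @asIso _ _ _ _
      ((a O).map ((ι O).obj X ◁ η O ((ι O).obj G ⊗ (ι O).obj F)))
      (isIso_a_map_whiskerLeft _ _))
    (by
      intro X X' g
      show (a O).map ((ι O).map g ▷ _) ≫ (a O).map (_ ◁ η O _) =
        (a O).map (_ ◁ η O _) ≫ (a O).map ((ι O).map g ▷ _)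
      rw [← Functor.map_comp, ← Functor.map_comp, whisker_exchange])

/-- `a((X ⊗_p G) ⊗_p F) ≅ (X ⊗ G) ⊗ F` -/
noncomputable def iso34 :
    ι O ⋙ (tensorRight ((ι O).obj G) ⋙ tensorRight ((ι O).obj F)) ⋙ a O ≅ TN G ⋙ TN F :=
  NatIso.ofComponents (fun X => (isoG F).app ((ι O).obj X ⊗ (ι O).obj G))
    (by
      intro X X' g
      exact (isoG F).hom.naturality ((ι O).map g ▷ (ι O).obj G))

/-- associativity `X ⊗ (G ⊗ F) ≅ (X ⊗ G) ⊗ F`, naturally in `X` -/
noncomputable def assocIso : TN (((ModSite.tensorBi O).obj G).obj F) ≅ TN G ⋙ TN F :=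
  (iso12 G F).symm ≪≫
    Functor.isoWhiskerLeft (ι O) (Functor.isoWhiskerRight (tensorRightTensor _ _) (a O)) ≪≫
    iso34 G F

theorem isFlat_tensor (hG : ModSite.IsFlat G) (hF : ModSite.IsFlat F) :
    ModSite.IsFlat (((ModSite.tensorBi O).obj G).obj F) := by
  refine ⟨?_, inferInstance⟩
  haveI := hG.1
  haveI := hF.1
  exact preservesFiniteLimits_of_natIso (assocIso G F).symm

end Groth.Agent.Helper9.TensorAssoc
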