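import Mathlib
import Groth.Prelude.Def_KFlatSite
import Groth.Agent.Helper9.KFlat18
import Groth.Agent.Helper9.KFlat12
import Groth.Agent.Helper9.TensorAssoc
import Groth.Agent.Helper9.FlatCx
import Groth.Agent.Helper9.LTCx1

/-!
# Flat amplitudes add under the derived tensor product (ringed sites)
-/

set_option autoImplicit false
set_option linter.style.haveILetI false
set_option linter.unusedSectionVars false

namespace Groth.Agent.Helper9.LTCx2

open CategoryTheory Category Limits HomologicalComplex CochainComplex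
  Groth.Agent.Helper9.KFlat2 Groth.Agent.Helper9.KFlat3 Groth.Agent.Helper9.KFlat4
  Groth.Agent.Helper9.KFlat5 Groth.Agent.Helper9.KFlat18
  Groth.Agent.Helper9.TensorAdj Groth.Agent.Helper9.TensorFlat

attribute [local instance] HasDerivedCategory.standard

universe u

variable {C : Type u} [SmallCategory C] {J : GrothendieckTopology C} {O : Sheaf J CommRingCat.{u}}

section Colim

variable {I : Type} [SmallCategory I] [HasExactColimitsOfShape I (ModSite.Mod O)]
  (D : I ⥤ ModSite.Mod O) (hD : ∀ i, ModSite.IsFlat (D.obj i)) (c : Cocone D) (hc : IsColimit c)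

include hD hc in
/-- a colimit (indexed in universe `0`, of an exact shape) of flat modules is flat -/
theorem isFlat_of_isColimit₀' : ModSite.IsFlat c.pt := by
  apply isFlat_of_mono
  intro M' M f hf
  haveI : PreservesColimitsOfShape I (TL M') :=
    Groth.Agent.Helper9.KFlat10.preservesColimitsOfShape_tensorBi_obj O I M'
  haveI : PreservesColimitsOfShape I (TL M) :=
    Groth.Agent.Helper9.KFlat10.preservesColimitsOfShape_tensorBi_obj O I M
  have hM' : IsColimit ((TL M').mapCocone c) := isColimitOfPreserves (TL M') hc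
  have hM : IsColimit ((TL M).mapCocone c) := isColimitOfPreserves (TL M) hc
  let α : D ⋙ TL M' ⟶ D ⋙ TL M := Functor.whiskerLeft D ((ModSite.tensorBi O).map f)
  haveI : ∀ i, Mono (α.app i) := fun i => mono_of_isFlat (D.obj i) (hD i) f
  haveI : Mono α := NatTrans.mono_of_mono_app α
  haveI : Mono (colim.map α) := inferInstance
  let e' := (colimit.isColimit (D ⋙ TL M')).coconePointUniqueUpToIso hM'
  let e := (colimit.isColimit (D ⋙ TL M)).coconePointUniqueUpToIso hM
  have key : (TN c.pt).map f = e'.inv ≫ colim.map α ≫ e.hom := by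
    rw [Iso.eq_inv_comp]
    apply colimit.hom_ext
    intro i
    have h1 : colimit.ι (D ⋙ TL M') i ≫ e'.hom = (TL M').map (c.ι.app i) :=
      IsColimit.comp_coconePointUniqueUpToIso_hom _ hM' i
    have h2 : colimit.ι (D ⋙ TL M) i ≫ e.hom = (TL M).map (c.ι.app i) :=
      IsColimit.comp_coconePointUniqueUpToIso_hom _ hM i
    have h3 : colimit.ι (D ⋙ TL M') i ≫ colim.map α = α.app i ≫ colimit.ι (D ⋙ TL M) i :=
      ι_colimMap α i
    rw [← Category.assoc, h1, ← Category.assoc, h3, Category.assoc, h2]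
    exact ((ModSite.tensorBi O).map f).naturality (c.ι.app i)
  rw [key]
  infer_instance

end Colim

/-- a coproduct indexed by a type in universe `0` of flat modules is flat -/
theorem isFlat_of_isColimit_cofan₀ {κ : Type} (F : κ → ModSite.Mod O)
    (hF : ∀ i, ModSite.IsFlat (F i)) (c : Cofan F) (hc : IsColimit c) : ModSite.IsFlat c.pt :=
  isFlat_of_isColimit₀' (Discrete.functor F) (fun i => hF i.as) c hc

/-- the terms of the tensor product of two complexes with flat terms are flat -/
theorem isFlat_mapBifunctor_X (P F : CochainComplex (ModSite.Mod O) ℤ)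
    (hP : ∀ i, ModSite.IsFlat (P.X i)) (hF : ∀ i, ModSite.IsFlat (F.X i)) (n : ℤ) :
    ModSite.IsFlat ((mapBifunctor P F (ModSite.tensorBi O) (ComplexShape.up ℤ)).X n) :=
  isFlat_of_isColimit_cofan₀
    (fun i : κ n => ((ModSite.tensorBi O).obj (P.X i.1.1)).obj (F.X i.1.2))
    (fun i => Groth.Agent.Helper9.TensorAssoc.isFlat_tensor _ _ (hP i.1.1) (hF i.1.2))
    (cof (ModSite.tensorBi O) P F n) (isColimitCof (ModSite.tensorBi O) P F n)

lemma isZero_tensor_left {M : ModSite.Mod O} (hM : IsZero M) (N : ModSite.Mod O) :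
    IsZero (((ModSite.tensorBi O).obj M).obj N) :=
  (TN N).map_isZero hM

lemma isZero_tensor_right (M : ModSite.Mod O) {N : ModSite.Mod O} (hN : IsZero N) :
    IsZero (((ModSite.tensorBi O).obj M).obj N) :=
  (TL M).map_isZero hN

/-- vanishing of the terms of the tensor product outside the sum of the amplitudes -/
theorem isZero_mapBifunctor_X (P F : CochainComplex (ModSite.Mod O) ℤ) (n : ℤ)
    (h : ∀ i j : ℤ, i + j = n → IsZero (P.X i) ∨ IsZero (F.X j)) :
    IsZero ((mapBifunctor P F (ModSite.tensorBi O) (ComplexShape.up ℤ)).X n) := by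
  rw [IsZero.iff_id_eq_zero]
  apply mapBifunctor.hom_ext
  intro p q hpq
  have hz : IsZero (((ModSite.tensorBi O).obj (P.X p)).obj (F.X q)) := by
    rcases h p q hpq with h1 | h2
    · exact isZero_tensor_left h1 _
    · exact isZero_tensor_right _ h2
  exact hz.eq_of_src _ _

/-- S6247 -/
theorem exists_flatModel (E P : CochainComplex (ModSite.Mod O) ℤ)
    (m n : ℤ) (hP : ∀ i : ℤ, ModSite.IsFlat (P.X i)) (hPb : ∀ i : ℤ, i < m ∨ n < i → IsZero (P.X i))
    (eP : DerivedCategory.Q.obj P ≅ DerivedCategory.Q.obj E) (F : CochainComplex (ModSite.Mod O) ℤ)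
    (m' n' : ℤ) (hF : ∀ i : ℤ, ModSite.IsFlat (F.X i))
    (hFb : ∀ i : ℤ, i < m' ∨ n' < i → IsZero (F.X i))
    [ModSite.HasLTensorCx F] :
    ∃ G : CochainComplex (ModSite.Mod O) ℤ, (∀ i : ℤ, ModSite.IsFlat (G.X i)) ∧
      (∀ i : ℤ, i < m + m' ∨ n + n' < i → IsZero (G.X i)) ∧
      Nonempty (DerivedCategory.Q.obj G ≅ (ModSite.LTensorCx F).obj (DerivedCategory.Q.obj E)) := by
  have hFle : F.IsStrictlyLE n' := by
    rw [CochainComplex.isStrictlyLE_iff]
    exact fun i hi => hFb i (Or.inr hi)
  have hFk : ModSite.IsKFlat F := Groth.Agent.Helper9.KFlat12.isKFlat_of_bounded_above F n' hFle hF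
  refine ⟨mapBifunctor P F (ModSite.tensorBi O) (ComplexShape.up ℤ),
    isFlat_mapBifunctor_X P F hP hF, ?_, ⟨?_⟩⟩
  · intro k hk
    apply isZero_mapBifunctor_X
    intro i j hij
    by_cases hi : i < m ∨ n < i
    · exact Or.inl (hPb i hi)
    · right
      apply hFb
      push Not at hi
      omega
  · exact (Groth.Agent.Helper9.LTCx1.ltIso F hFk P).symm ≪≫ (ModSite.LTensorCx F).mapIso eP

end Groth.Agent.Helper9.LTCx2
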