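import Mathlib
import Groth.Agent.Helper9.KFlat3

/-!
# Functors on cochain complexes which commute with cones: a graded statement

For a `Good` functor `T` (see `KFlat3`): if `T (cone φ)` has no cohomology in degrees `≥ m`, then
`T φ` is an isomorphism on `H^i` for `i > m` and an epimorphism on `H^m`.
-/

set_option autoImplicit false
set_option linter.style.haveILetI false
set_option linter.unusedSectionVars false
set_option linter.unusedVariables false

namespace Groth.Agent.Helper9.PcTensor1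

open CategoryTheory Limits HomologicalComplex CochainComplex Groth.Agent.Helper9.KFlat1
  Groth.Agent.Helper9.KFlat3

universe v u v' u'

variable {A : Type u} [Category.{v} A] [Abelian A] {B : Type u'} [Category.{v'} B] [Abelian B]

lemma epi_map_iff_of_natIso {C D : Type*} [Category C] [Category D] {F G : C ⥤ D} (e : F ≅ G)
    {X Y : C} (φ : X ⟶ Y) : Epi (F.map φ) ↔ Epi (G.map φ) := by
  constructor
  · intro h
    have h1 : G.map φ = e.inv.app X ≫ F.map φ ≫ e.hom.app Y := (NatIso.naturality_1 e φ).symm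
    rw [h1]
    infer_instance
  · intro h
    have h1 : F.map φ = e.hom.app X ≫ G.map φ ≫ e.inv.app Y := (NatIso.naturality_2 e φ).symm
    rw [h1]
    infer_instance

lemma epi_homologyMap_shift_iff {K L : CochainComplex B ℤ} (φ : K ⟶ L) (n i j : ℤ)
    (h : n + i = j) : Epi (homologyMap (φ⟦n⟧') i) ↔ Epi (homologyMap φ j) :=
  epi_map_iff_of_natIso ((homologyFunctor B (ComplexShape.up ℤ) 0).shiftIso n i j h) φ

lemma isIso_homologyMap_shift_iff {K L : CochainComplex B ℤ} (φ : K ⟶ L) (n i j : ℤ)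
    (h : n + i = j) : IsIso (homologyMap (φ⟦n⟧') i) ↔ IsIso (homologyMap φ j) :=
  NatIso.isIso_map_iff ((homologyFunctor B (ComplexShape.up ℤ) 0).shiftIso n i j h) φ

lemma isIso_neg {C : Type*} [Category C] [Preadditive C] {X Y : C} (f : X ⟶ Y) [IsIso f] :
    IsIso (-f) := by
  have h1 : -f = f ≫ (-𝟙 Y) := by simp
  rw [h1]
  haveI : IsIso (-𝟙 Y) := ⟨⟨-𝟙 _, by simp, by simp⟩⟩
  infer_instance

lemma epi_neg {C : Type*} [Category C] [Preadditive C] {X Y : C} (f : X ⟶ Y) [Epi f] :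
    Epi (-f) := by
  have h1 : -f = f ≫ (-𝟙 Y) := by simp
  rw [h1]
  haveI : IsIso (-𝟙 Y) := ⟨⟨-𝟙 _, by simp, by simp⟩⟩
  exact epi_comp _ _

variable {T : CochainComplex A ℤ ⥤ CochainComplex B ℤ} (hT : Good T)

include hT

/-- if `T (cone φ)` has no cohomology in degrees `≥ m` then `T φ` is an `m`-quasi-isomorphism -/
theorem Good.goodC_map {X Y : CochainComplex A ℤ} (φ : X ⟶ Y) (m : ℤ)
    (h : ∀ i : ℤ, m ≤ i → IsZero ((T.obj (mappingCone φ)).homology i)) :
    (∀ i : ℤ, m < i → IsIso (homologyMap (T.map φ) i)) ∧ Epi (homologyMap (T.map φ) m) := by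
  haveI := hT.additive
  have hS : ((mappingCone.triangleRotateShortComplex (mappingCone.inr φ)).map T).ShortExact :=
    hT.split _ (fun n => ⟨mappingCone.triangleRotateShortComplexSplitting (mappingCone.inr φ) n⟩)
  let g : mappingCone (mappingCone.inr φ) ⟶ Y⟦(1 : ℤ)⟧ :=
    (mappingCone.triangle (mappingCone.inr φ)).mor₃
  have hmono : ∀ i : ℤ, m ≤ i → Mono (homologyMap (T.map g) i) := by
    intro i hi
    have h2 := hS.homology_exact₂ i
    exact h2.mono_g ((h i hi).eq_of_src _ _)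
  have hepi : ∀ i : ℤ, m ≤ i + 1 → Epi (homologyMap (T.map g) i) := by
    intro i hi
    have h3 := hS.homology_exact₃ i (i + 1) rfl
    exact h3.epi_f ((h (i + 1) hi).eq_of_tgt _ _)
  let e := mappingCone.rotateHomotopyEquiv φ
  haveI he : QuasiIso (T.map e.hom) := hT.quasiIso_map_homotopyEquiv e
  have hcomm : T.map e.hom ≫ T.map g = -T.map (φ⟦(1 : ℤ)⟧') := by
    rw [← T.map_comp, ← T.map_neg]
    congr 1
    exact mappingCone.rotateHomotopyEquiv_comm₃ φ
  have hcomm' : ∀ i : ℤ, homologyMap (T.map (φ⟦(1 : ℤ)⟧')) i =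
      -(homologyMap (T.map e.hom) i ≫ homologyMap (T.map g) i) := by
    intro i
    rw [← homologyMap_comp, hcomm, homologyMap_neg, neg_neg]
  haveI hei : ∀ i : ℤ, IsIso (homologyMap (T.map e.hom) i) := fun i =>
    (quasiIsoAt_iff_isIso_homologyMap (T.map e.hom) i).1 inferInstance
  -- the shift
  obtain ⟨es⟩ := hT.shift
  have harrow : Arrow.mk (T.map (φ⟦(1 : ℤ)⟧')) ≅ Arrow.mk ((T.map φ)⟦(1 : ℤ)⟧') :=
    Arrow.isoMk (es.app X) (es.app Y) (es.hom.naturality φ).symm
  have hIso1 : ∀ i : ℤ, m ≤ i → IsIso (homologyMap (T.map (φ⟦(1 : ℤ)⟧')) i) := by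
    intro i hi
    haveI := hmono i hi
    haveI := hepi i (by omega)
    haveI : IsIso (homologyMap (T.map g) i) := isIso_of_mono_of_epi _
    rw [hcomm']
    exact isIso_neg _
  have hEpi1 : ∀ i : ℤ, m ≤ i + 1 → Epi (homologyMap (T.map (φ⟦(1 : ℤ)⟧')) i) := by
    intro i hi
    haveI := hepi i hi
    rw [hcomm']
    haveI : Epi (homologyMap (T.map e.hom) i ≫ homologyMap (T.map g) i) := epi_comp _ _
    exact epi_neg _
  have hIso2 : ∀ i : ℤ, m ≤ i → IsIso (homologyMap ((T.map φ)⟦(1 : ℤ)⟧') i) := by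
    intro i hi
    have := hIso1 i hi
    exact ((MorphismProperty.isomorphisms B).arrow_mk_iso_iff
      ((homologyFunctor B (ComplexShape.up ℤ) i).mapArrow.mapIso harrow)).1 this
  have hEpi2 : ∀ i : ℤ, m ≤ i + 1 → Epi (homologyMap ((T.map φ)⟦(1 : ℤ)⟧') i) := by
    intro i hi
    have := hEpi1 i hi
    exact ((MorphismProperty.epimorphisms B).arrow_mk_iso_iff
      ((homologyFunctor B (ComplexShape.up ℤ) i).mapArrow.mapIso harrow)).1 this
  refine ⟨fun i hi => ?_, ?_⟩
  · exact (isIso_homologyMap_shift_iff (T.map φ) 1 (i - 1) i (by omega)).1 (hIso2 (i - 1) (by omega))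
  · exact (epi_homologyMap_shift_iff (T.map φ) 1 (m - 1) m (by omega)).1 (hEpi2 (m - 1) (by omega))

end Groth.Agent.Helper9.PcTensor1
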