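import Mathlib
import Groth.Prelude.Def_KFlatSite
import Groth.Agent.Helper9.PcTensor1
import Groth.Agent.Helper9.KFlat18
import Groth.Agent.Helper9.KFlatB2
import Groth.Agent.Helper9.LTCx1
import Groth.Agent.Helper9.LTCx2

/-!
# Cohomological bounds for tensor products of complexes of sheaves of modules
-/

set_option autoImplicit false
set_option linter.style.haveILetI false
set_option linter.unusedSectionVars false
set_option linter.unusedVariables false

namespace Groth.Agent.Helper9.PcTensor2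

open CategoryTheory Limits HomologicalComplex CochainComplex
  Groth.Agent.Helper9.KFlat3 Groth.Agent.Helper9.KFlat4 Groth.Agent.Helper9.KFlat5
  Groth.Agent.Helper9.KFlat18

universe u

variable {C : Type u} [SmallCategory C] {J : GrothendieckTopology C} {O : Sheaf J CommRingCat.{u}}

/-- if `H^i(K) = 0` for `i ≥ m` and `H^i(E) = 0` for `i > b` with `E` K-flat, then
`H^i(K ⊗ E) = 0` for `i ≥ m + b` -/
theorem isZero_homology_tensor (K E : CochainComplex (ModSite.Mod O) ℤ) (hE : ModSite.IsKFlat E)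
    (m b : ℤ) (hK : ∀ i : ℤ, m ≤ i → IsZero (K.homology i))
    (hEb : ∀ i : ℤ, b < i → IsZero (E.homology i)) (i : ℤ) (hi : m + b ≤ i) :
    IsZero ((mapBifunctor K E (ModSite.tensorBi O) (ComplexShape.up ℤ)).homology i) := by
  haveI hKLE : K.IsLE (m - 1) := by
    rw [CochainComplex.isLE_iff]
    intro j hj
    rw [HomologicalComplex.exactAt_iff_isZero_homology]
    exact hK j (by omega)
  haveI hELE : E.IsLE b := by
    rw [CochainComplex.isLE_iff]
    intro j hj
    rw [HomologicalComplex.exactAt_iff_isZero_homology]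
    exact hEb j hj
  haveI : QuasiIso (K.ιTruncLE (m - 1)) := (K.quasiIso_ιTruncLE_iff (m - 1)).2 hKLE
  haveI : QuasiIso (E.ιTruncLE b) := (E.quasiIso_ιTruncLE_iff b).2 hELE
  obtain ⟨P, q, hq, hP, -, hPle⟩ :=
    Groth.Agent.Helper9.KFlatB2.exists_flat_resolution_le (E.truncLE b) b inferInstance
  haveI := hq
  haveI hqi : QuasiIso (q ≫ E.ιTruncLE b) := inferInstance
  -- first replace `K` by its truncation
  haveI h1 : QuasiIso (mapBifunctorMap (K.ιTruncLE (m - 1)) (𝟙 E) (ModSite.tensorBi O)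
      (ComplexShape.up ℤ)) := quasiIso_of_isKFlat hE _
  -- then replace `E` by `P`
  haveI h2 : QuasiIso (mapBifunctorMap (𝟙 (K.truncLE (m - 1))) (q ≫ E.ιTruncLE b)
      (ModSite.tensorBi O) (ComplexShape.up ℤ)) :=
    quasiIso_map_of_isKFlat hP hE (q ≫ E.ιTruncLE b) (K.truncLE (m - 1))
  have hz : IsZero ((mapBifunctor (K.truncLE (m - 1)) P (ModSite.tensorBi O)
      (ComplexShape.up ℤ)).homology i) := by
    have h0 : IsZero ((mapBifunctor (K.truncLE (m - 1)) P (ModSite.tensorBi O)
        (ComplexShape.up ℤ)).X i) := by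
      apply Groth.Agent.Helper9.LTCx2.isZero_mapBifunctor_X
      intro p q' hpq
      by_cases hp : m - 1 < p
      · exact Or.inl ((K.truncLE (m - 1)).isZero_of_isStrictlyLE (m - 1) p hp)
      · exact Or.inr (P.isZero_of_isStrictlyLE b q' (by omega))
    exact (HomologicalComplex.ExactAt.of_isZero h0).isZero_homology
  have e1 := @asIso _ _ _ _ (HomologicalComplex.homologyMap
    (mapBifunctorMap (𝟙 (K.truncLE (m - 1))) (q ≫ E.ιTruncLE b)
      (ModSite.tensorBi O) (ComplexShape.up ℤ)) i)
    ((quasiIsoAt_iff_isIso_homologyMap _ i).1 (h2.quasiIsoAt i))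
  have e2 := @asIso _ _ _ _ (HomologicalComplex.homologyMap
    (mapBifunctorMap (K.ιTruncLE (m - 1)) (𝟙 E) (ModSite.tensorBi O) (ComplexShape.up ℤ)) i)
    ((quasiIsoAt_iff_isIso_homologyMap _ i).1 (h1.quasiIsoAt i))
  exact hz.of_iso (e1 ≪≫ e2).symm

/-- tensoring an `m`-quasi-isomorphism with a K-flat complex without cohomology in degrees `> b`
gives an `(m + b)`-quasi-isomorphism -/
theorem goodC_tensor {K K' : CochainComplex (ModSite.Mod O) ℤ} (a : K ⟶ K')
    (E : CochainComplex (ModSite.Mod O) ℤ) (hE : ModSite.IsKFlat E) (m b : ℤ)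
    (hcone : ∀ i : ℤ, m ≤ i → IsZero ((mappingCone a).homology i))
    (hEb : ∀ i : ℤ, b < i → IsZero (E.homology i)) :
    (∀ i : ℤ, m + b < i → IsIso (homologyMap
      (mapBifunctorMap a (𝟙 E) (ModSite.tensorBi O) (ComplexShape.up ℤ)) i)) ∧
    Epi (homologyMap (mapBifunctorMap a (𝟙 E) (ModSite.tensorBi O) (ComplexShape.up ℤ))
      (m + b)) :=
  Groth.Agent.Helper9.PcTensor1.Good.goodC_map (good_flip_obj (ModSite.tensorBi O) E) a (m + b)
    (fun i hi => isZero_homology_tensor (mappingCone a) E hE m b hcone hEb i hi)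

end Groth.Agent.Helper9.PcTensor2
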