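import Mathlib
import Groth.Prelude.Def_KFlatSite
import Groth.Agent.Helper9.PcTensor2
import Groth.Agent.Helper9.Lpull6
import Groth.Agent.Lead.PcLib3

/-!
# The derived tensor product with a bounded above K-flat complex and `m`-quasi-isomorphisms
-/

set_option autoImplicit false
set_option linter.style.haveILetI false
set_option linter.unusedSectionVars false
set_option linter.unusedVariables false

namespace Groth.Agent.Helper9.PcTensor3

open CategoryTheory Limits HomologicalComplex CochainComplex
  Groth.Agent.Lead.PcLib Groth.Agent.Helper9.Lpull6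

attribute [local instance] HasDerivedCategory.standard

universe u

variable {C : Type u} [SmallCategory C] {J : GrothendieckTopology C} {O : Sheaf J CommRingCat.{u}}

/-- `- ⊗^L E` sends `m`-quasi-isomorphisms to `(m + b)`-quasi-isomorphisms, for `E` K-flat without
cohomology in degrees `> b`. -/
theorem isQisAbove_ltensor (E : CochainComplex (ModSite.Mod O) ℤ) (hE : ModSite.IsKFlat E)
    [ModSite.HasLTensorCx E] (b : ℤ) (hEb : ∀ i : ℤ, b < i → IsZero (E.homology i))
    {A B : DerivedCategory (ModSite.Mod O)} (α : A ⟶ B) (m : ℤ) (h : IsQisAbove m α) :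
    IsQisAbove (m + b) ((ModSite.LTensorCx E).map α) := by
  let PA : CochainComplex (ModSite.Mod O) ℤ := DerivedCategory.Q.objPreimage A
  let eA : DerivedCategory.Q.obj PA ≅ A := DerivedCategory.Q.objObjPreimageIso A
  let PB : CochainComplex (ModSite.Mod O) ℤ := DerivedCategory.Q.objPreimage B
  let eB : DerivedCategory.Q.obj PB ≅ B := DerivedCategory.Q.objObjPreimageIso B
  let α' : DerivedCategory.Q.obj PA ⟶ DerivedCategory.Q.obj PB := eA.hom ≫ α ≫ eB.inv
  have hα' : IsQisAbove m α' :=
    (IsQisAbove.of_isIso m eA.hom).comp (h.comp (IsQisAbove.of_isIso m eB.inv))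
  obtain ⟨X', s, hs, b', hφ⟩ := DerivedCategory.right_fac α'
  haveI := hs
  have h1 : DerivedCategory.Q.map s ≫ α' = DerivedCategory.Q.map b' := by
    rw [hφ, IsIso.hom_inv_id_assoc]
  have hb' : IsQisAbove m (DerivedCategory.Q.map b') := by
    rw [← h1]
    exact (IsQisAbove.of_isIso m _).comp hα'
  have hb'' : GoodC m b' := (isQisAbove_Q_map_iff b').1 hb'
  have hcone := coneLE_of_goodC m b' hb''
  have hten := Groth.Agent.Helper9.PcTensor2.goodC_tensor b' E hE m b hcone hEb
  have h2 : IsQisAbove (m + b) (DerivedCategory.Q.map (((ModSite.tensorCx O).map b').app E)) :=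
    (isQisAbove_Q_map_iff _).2 hten
  have h3 : (ModSite.LTensorCx E).map (DerivedCategory.Q.map b') =
      (Groth.Agent.Helper9.LTCx1.ltIso E hE X').hom ≫
        DerivedCategory.Q.map (((ModSite.tensorCx O).map b').app E) ≫
        (Groth.Agent.Helper9.LTCx1.ltIso E hE PB).inv := by
    rw [← Category.assoc, Iso.eq_comp_inv]
    exact Groth.Agent.Helper9.LTCx1.ltIso_hom_naturality E hE b'
  have h4 : IsQisAbove (m + b) ((ModSite.LTensorCx E).map (DerivedCategory.Q.map b')) := by
    rw [h3]
    exact (IsQisAbove.of_isIso _ _).comp (h2.comp (IsQisAbove.of_isIso _ _))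
  have h5 : (ModSite.LTensorCx E).map α' =
      inv ((ModSite.LTensorCx E).map (DerivedCategory.Q.map s)) ≫
        (ModSite.LTensorCx E).map (DerivedCategory.Q.map b') := by
    rw [IsIso.eq_inv_comp, ← Functor.map_comp, h1]
  have h6 : (ModSite.LTensorCx E).map α = (ModSite.LTensorCx E).map eA.inv ≫
      (ModSite.LTensorCx E).map α' ≫ (ModSite.LTensorCx E).map eB.hom := by
    rw [← Functor.map_comp, ← Functor.map_comp]
    congr 1
    simp [α']
  rw [h6, h5]
  exact (IsQisAbove.of_isIso _ _).comp
    (((IsQisAbove.of_isIso _ _).comp h4).comp (IsQisAbove.of_isIso _ _))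

end Groth.Agent.Helper9.PcTensor3
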