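import Mathlib
import Groth.Prelude.Def_DCoh4
import Groth.Agent.Helper9.FlfTensor1
import Groth.Agent.Helper9.LTCx2

/-! The tensor product of strictly perfect complexes is strictly perfect. -/

set_option autoImplicit false
set_option linter.style.haveILetI false
set_option linter.unusedVariables false
set_option linter.unusedSectionVars false
universe u

namespace Groth.Agent.Helper9.FlfTensor2

open CategoryTheory CategoryTheory.Limits AlgebraicGeometry HomologicalComplex
open Groth.Agent.Helper9.KFlat2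

variable {X : Scheme.{u}}

lemma κ_sum (n : ℤ) (i : κ n) : i.1.1 + i.1.2 = n := i.2

/-- the tensor product of strictly perfect complexes is strictly perfect -/
theorem isStrictlyPerfect_tensorCx (E₁ E₂ : CochainComplex X.Modules ℤ)
    (h₁ : DCoh.IsStrictlyPerfect E₁) (h₂ : DCoh.IsStrictlyPerfect E₂) :
    DCoh.IsStrictlyPerfect ((DCoh.tensorCx.obj E₁).obj E₂) := by
  obtain ⟨⟨a₁, b₁, hab₁⟩, hf₁⟩ := h₁
  obtain ⟨⟨a₂, b₂, hab₂⟩, hf₂⟩ := h₂
  refine ⟨⟨a₁ + a₂, b₁ + b₂, fun n hn => ?_⟩, fun n => ?_⟩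
  · refine @Groth.Agent.Helper9.LTCx2.isZero_mapBifunctor_X _ _ _ X.sheaf E₁ E₂ n ?_
    intro i j hij
    by_cases h : i < a₁ ∨ b₁ < i
    · exact Or.inl (hab₁ i h)
    · refine Or.inr (hab₂ j ?_)
      push Not at h
      rcases hn with hn | hn
      · left; omega
      · right; omega
  · let T : Set (κ n) := (fun i : κ n => i.1.1) ⁻¹' Set.Icc a₁ b₁
    have hT : T.Finite := by
      refine Set.Finite.preimage ?_ (Set.finite_Icc a₁ b₁)
      intro i _ j _ hij
      have hi := κ_sum n i
      have hj := κ_sum n j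
      apply Subtype.ext
      apply Prod.ext
      · exact hij
      · have hij' : i.1.1 = j.1.1 := hij
        omega
    refine Groth.Agent.Helper9.FlfSum1.isFinLocFree_cofan
      (fun i : κ n => (DCoh.tensorBi.obj (E₁.X i.1.1)).obj (E₂.X i.1.2))
      (fun i => Groth.Agent.Helper9.FlfTensor1.isFinLocFree_tensor _ _ (hf₁ _) (hf₂ _)) T hT
      (fun i hi => ?_) (cof (DCoh.tensorBi (X := X)) E₁ E₂ n)
      (isColimitCof (DCoh.tensorBi (X := X)) E₁ E₂ n)
    refine @Groth.Agent.Helper9.LTCx2.isZero_tensor_left _ _ _ X.sheaf _ (hab₁ _ ?_) _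
    by_contra hcon
    push Not at hcon
    exact hi ⟨hcon.1, hcon.2⟩

end Groth.Agent.Helper9.FlfTensor2
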