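import Mathlib
import Groth.Prelude.Def_KFlatSite
import Groth.Agent.Helper9.KFlat12
import Groth.Agent.Helper9.LTCx4
import Groth.Agent.Helper9.LTCx6

/-!
# Right exactness of `M ↦ H^p(M ⊗^L E)` (ringed sites): S6249 and S6254
-/

set_option autoImplicit false
set_option linter.style.haveILetI false
set_option linter.unusedSectionVars false

namespace Groth.Agent.Helper9.LTCx7

open CategoryTheory Category Limits HomologicalComplex CochainComplex
  Groth.Agent.Helper9.KFlat18 Groth.Agent.Helper9.LTCx1
  Groth.Agent.Helper9.LTCx4 Groth.Agent.Helper9.LTCx6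

attribute [local instance] HasDerivedCategory.standard

universe u

variable {C : Type u} [SmallCategory C] {J : GrothendieckTopology C} {O : Sheaf J CommRingCat.{u}}

/-- the derived tensor product with a K-flat complex exists -/
theorem hasLTensorCx_of_isKFlat {P : CochainComplex (ModSite.Mod O) ℤ} (hP : ModSite.IsKFlat P) :
    ModSite.HasLTensorCx P := by
  haveI := Functor.hasPointwiseLeftDerivedFunctor_of_inverts (ModSite.tensorCxQ P)
    (isInvertedBy_tensorCxQ hP)
  unfold ModSite.HasLTensorCx
  infer_instance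

variable (E : CochainComplex (ModSite.Mod O) ℤ) [ModSite.HasLTensorCx E]

lemma preservesFiniteColimits_Φ_iff (hE : ModSite.IsKFlat E) (p : ℤ) :
    PreservesFiniteColimits (Φ E p) ↔ PreservesFiniteColimits (Ψ E p) :=
  ⟨fun _ => preservesFiniteColimits_of_natIso (phiIso E hE p),
    fun _ => preservesFiniteColimits_of_natIso (phiIso E hE p).symm⟩

lemma preservesFiniteLimits_Φ_iff (hE : ModSite.IsKFlat E) (p : ℤ) :
    PreservesFiniteLimits (Φ E p) ↔ PreservesFiniteLimits (Ψ E p) :=
  ⟨fun _ => preservesFiniteLimits_of_natIso (phiIso E hE p),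
    fun _ => preservesFiniteLimits_of_natIso (phiIso E hE p).symm⟩

/-- S6254 -/
theorem rightExact_iff_isFlat_cokernel (e : ℤ) (hEb : ∀ i : ℤ, e < i → IsZero (E.X i))
    (hEf : ∀ i : ℤ, ModSite.IsFlat (E.X i)) (p : ℤ) :
    PreservesFiniteColimits (Φ E p) ↔ ModSite.IsFlat (cokernel (E.d p (p + 1))) := by
  have hle : E.IsStrictlyLE e := by
    rw [CochainComplex.isStrictlyLE_iff]
    exact hEb
  have hE : ModSite.IsKFlat E := Groth.Agent.Helper9.KFlat12.isKFlat_of_bounded_above E e hle hEf
  rw [preservesFiniteColimits_Φ_iff E hE, rightExact_iff_leftExact_succ E hEf,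
    leftExact_iff_isFlat_cokernel E hEf p (p + 1) rfl]

/-- S6249 -/
theorem rightExact_iff_leftExact_succ' (p : ℤ) :
    PreservesFiniteColimits (Φ E p) ↔ PreservesFiniteLimits (Φ E (p + 1)) := by
  obtain ⟨P, q, hP, hPf, hq, -⟩ := exists_kflat_resolution E
  haveI : ModSite.HasLTensorCx P := hasLTensorCx_of_isKFlat hP
  have e : ∀ n : ℤ, Φ P n ≅ Φ E n := fun n =>
    Functor.isoWhiskerLeft (DerivedCategory.singleFunctor (ModSite.Mod O) 0)
      (Functor.isoWhiskerRight (ltensorIso q hq)
        (DerivedCategory.homologyFunctor (ModSite.Mod O) n))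
  have h1 : PreservesFiniteColimits (Φ E p) ↔ PreservesFiniteColimits (Φ P p) :=
    ⟨fun _ => preservesFiniteColimits_of_natIso (e p).symm,
      fun _ => preservesFiniteColimits_of_natIso (e p)⟩
  have h2 : PreservesFiniteLimits (Φ E (p + 1)) ↔ PreservesFiniteLimits (Φ P (p + 1)) :=
    ⟨fun _ => preservesFiniteLimits_of_natIso (e (p + 1)).symm,
      fun _ => preservesFiniteLimits_of_natIso (e (p + 1))⟩
  rw [h1, h2, preservesFiniteColimits_Φ_iff P hP, preservesFiniteLimits_Φ_iff P hP]
  exact rightExact_iff_leftExact_succ P hPf p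

end Groth.Agent.Helper9.LTCx7
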