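import Mathlib
import Groth.Prelude.Def_DCoh4
import Groth.Prelude.Def_DDual2
import Groth.Agent.Helper9.FlfTensor2
import Groth.Agent.Helper9.PullMon5
import Groth.Agent.Helper9.Lpull5
import Groth.Agent.Helper9.LTCx1
import Groth.Agent.Helper9.LTCx7
import Groth.Agent.Helper9.KFlat18
import Groth.Agent.Lead.PerfLib4

/-! The derived tensor product of perfect complexes is perfect. -/

set_option autoImplicit false
set_option linter.style.haveILetI false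
set_option linter.unusedVariables false
set_option linter.unusedSectionVars false
universe u

namespace Groth.Agent.Helper9.PerfTensor1

open CategoryTheory CategoryTheory.Limits AlgebraicGeometry HomologicalComplex

attribute [local instance] HasDerivedCategory.standard

section Site

variable {C : Type u} [SmallCategory C] {J : GrothendieckTopology C} {O : Sheaf J CommRingCat.{u}}

/-- `Q(F₁ ⊗ G) ≅ Q(F₂ ⊗ G)` for K-flat `G` and `Q F₁ ≅ Q F₂` -/
noncomputable def qTensorIsoL {F₁ F₂ G : CochainComplex (ModSite.Mod O) ℤ} (hG : ModSite.IsKFlat G)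
    (eF : DerivedCategory.Q.obj F₁ ≅ DerivedCategory.Q.obj F₂) :
    DerivedCategory.Q.obj (((ModSite.tensorCx O).obj F₁).obj G) ≅
      DerivedCategory.Q.obj (((ModSite.tensorCx O).obj F₂).obj G) :=
  haveI := Groth.Agent.Helper9.LTCx7.hasLTensorCx_of_isKFlat hG
  (Groth.Agent.Helper9.LTCx1.ltIso G hG F₁).symm ≪≫ (ModSite.LTensorCx G).mapIso eF ≪≫
    Groth.Agent.Helper9.LTCx1.ltIso G hG F₂

/-- `Q(F₁ ⊗ G₁) ≅ Q(F₂ ⊗ G₂)` if `G₁`, `F₂` are K-flat, `Q F₁ ≅ Q F₂` and `Q G₁ ≅ Q G₂` -/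
noncomputable def qTensorIso {F₁ F₂ G₁ G₂ : CochainComplex (ModSite.Mod O) ℤ}
    (hG₁ : ModSite.IsKFlat G₁) (hF₂ : ModSite.IsKFlat F₂)
    (eF : DerivedCategory.Q.obj F₁ ≅ DerivedCategory.Q.obj F₂)
    (eG : DerivedCategory.Q.obj G₁ ≅ DerivedCategory.Q.obj G₂) :
    DerivedCategory.Q.obj (((ModSite.tensorCx O).obj F₁).obj G₁) ≅
      DerivedCategory.Q.obj (((ModSite.tensorCx O).obj F₂).obj G₂) :=
  qTensorIsoL hG₁ eF ≪≫ DerivedCategory.Q.mapIso (Groth.Agent.Helper9.KFlat18.symCx F₂ G₁) ≪≫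
    qTensorIsoL hF₂ eG ≪≫ DerivedCategory.Q.mapIso (Groth.Agent.Helper9.KFlat18.symCx G₂ F₂)

end Site

open Groth.Agent.Lead.PerfLib Groth.Agent.Lead.LocLift

variable {X : Scheme.{u}}

/-- restriction to an open commutes with the tensor product of complexes -/
noncomputable def resTensorCxIso {Z : Scheme.{u}} (j : Z ⟶ X) [IsOpenImmersion j]
    (F L : CochainComplex X.Modules ℤ) :
    (Rc j).obj ((DCoh.tensorCx.obj F).obj L) ≅
      (DCoh.tensorCx.obj ((Rc j).obj F)).obj ((Rc j).obj L) :=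
  let e : Rc j ≅ Groth.Agent.Helper9.PullMon5.pCx j :=
    NatIso.mapHomologicalComplex (Scheme.Modules.restrictFunctorIsoPullback j) (ComplexShape.up ℤ)
  e.app _ ≪≫ Groth.Agent.Helper9.PullMon5.pullTensorCxIso j F L ≪≫
    (DCoh.tensorCx.mapIso (e.app F).symm).app _ ≪≫
    (DCoh.tensorCx.obj ((Rc j).obj F)).mapIso (e.app L).symm

lemma locSP_of_isStrictlyPerfect {Z : Scheme.{u}} (E : CochainComplex Z.Modules ℤ)
    (hE : DCoh.IsStrictlyPerfect E) (z : Z) : LocSP E z :=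
  ⟨Z, 𝟙 Z, inferInstance, ⟨z, rfl⟩, (Rc (𝟙 Z)).obj E, isStrictlyPerfect_restrict _ hE,
    ⟨Iso.refl _⟩⟩

/-- S0962 -/
theorem isPerfect_ltensor (L : CochainComplex X.Modules ℤ) (hL : DCoh.IsKFlat L)
    (hLp : DCoh.IsPerfect (DerivedCategory.Q.obj L)) [DCoh.HasLTensorCx L] (K : DCoh.D X)
    (hK : DCoh.IsPerfect K) : DCoh.IsPerfect ((DCoh.LTensorCx L).obj K) := by
  have i1 : @ModSite.HasLTensorCx _ _ _ X.sheaf L := ‹DCoh.HasLTensorCx L›
  let F₀ : CochainComplex X.Modules ℤ := DerivedCategory.Q.objPreimage K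
  let e₀ : DerivedCategory.Q.obj F₀ ≅ K := DerivedCategory.Q.objObjPreimageIso K
  have a1 : (DCoh.LTensorCx L).obj K ≅ DerivedCategory.Q.obj ((DCoh.tensorCx.obj F₀).obj L) :=
    (DCoh.LTensorCx L).mapIso e₀.symm ≪≫
      (@Groth.Agent.Helper9.LTCx1.ltIso _ _ _ X.sheaf L i1 hL F₀)
  rw [isPerfect_iff_locSP _ ((DCoh.tensorCx.obj F₀).obj L) a1.symm]
  rw [isPerfect_iff_locSP K F₀ e₀] at hK
  rw [isPerfect_iff_locSP _ L (Iso.refl _)] at hLp
  intro x
  obtain ⟨Z, j, hj, z, rfl, E₁, E₂, hE₁, hE₂, ⟨ψ₁⟩, ⟨ψ₂⟩⟩ := LocSP.common (hK x) (hLp x)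
  haveI := hj
  apply LocSP.of_restrict j
  refine LocSP.of_iso (DerivedCategory.Q.mapIso (resTensorCxIso j F₀ L).symm) ?_
  have hL' : DCoh.IsKFlat ((Rc j).obj L) := Groth.Agent.Helper9.Lpull5.isKFlat_restrict j L hL
  have hE₁' : DCoh.IsKFlat E₁ := Groth.Agent.Helper9.Lpull5.isKFlat_of_isStrictlyPerfect E₁ hE₁
  have e := @qTensorIso _ _ _ Z.sheaf ((Rc j).obj F₀) E₁ ((Rc j).obj L) E₂ hL' hE₁' ψ₁ ψ₂
  refine LocSP.of_iso e.symm ?_
  exact locSP_of_isStrictlyPerfect _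
    (Groth.Agent.Helper9.FlfTensor2.isStrictlyPerfect_tensorCx E₁ E₂ hE₁ hE₂) z

end Groth.Agent.Helper9.PerfTensor1
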