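import Mathlib
import Groth.Prelude.Def_DCoh4
import Groth.Prelude.Def_DDual2
import Groth.Agent.Helper9.PcTensor3
import Groth.Agent.Helper9.PerfTensor1
import Groth.Agent.Helper9.LTCx6
import Groth.Agent.Helper9.LTM3
import Groth.Agent.Lead.PcLib7
import Groth.Agent.Lead.PerfLib5

/-! The derived tensor product of pseudo-coherent complexes is pseudo-coherent. -/

set_option autoImplicit false
set_option linter.style.haveILetI false
set_option linter.unusedVariables false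
set_option linter.unusedSectionVars false
universe u

namespace Groth.Agent.Helper9.PcTensor4

open CategoryTheory CategoryTheory.Limits AlgebraicGeometry HomologicalComplex
open Groth.Agent.Lead.PerfLib Groth.Agent.Lead.LocLift Groth.Agent.Lead.PcLib
open Groth.Agent.Helper9.PerfTensor1

attribute [local instance] HasDerivedCategory.standard

section Abstract

variable {C : Type*} [Category C] [Abelian C] [HasDerivedCategory C]

lemma isQisAbove_hom (t : ℤ) {A B : DerivedCategory C} (e : A ≅ B) : IsQisAbove t e.hom :=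
  IsQisAbove.of_isIso t e.hom

lemma isQisAbove_inv (t : ℤ) {A B : DerivedCategory C} (e : A ≅ B) : IsQisAbove t e.inv :=
  IsQisAbove.of_isIso t e.inv

end Abstract

variable {Z : Scheme.{u}}

lemma locPC_of_data {F E' : CochainComplex Z.Modules ℤ}
    (β : DerivedCategory.Q.obj E' ⟶ DerivedCategory.Q.obj F) (hE' : DCoh.IsStrictlyPerfect E')
    (t : ℤ) (hβ : IsQisAbove t β) (z : Z) : LocPC t F z :=
  ⟨Z, 𝟙 Z, inferInstance, ⟨z, rfl⟩, (Rc (𝟙 Z)).obj E', resD (𝟙 Z) β,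
    isStrictlyPerfect_restrict _ hE', isQisAbove_resD _ hβ⟩

/-- the local statement -/
theorem exists_qisAbove_tensor (F G E₁ E₂ : CochainComplex Z.Modules ℤ) (hG : DCoh.IsKFlat G)
    (b : ℤ) (hGb : ∀ i : ℤ, b < i → IsZero (G.homology i))
    (hE₁ : DCoh.IsStrictlyPerfect E₁) (hE₂ : DCoh.IsStrictlyPerfect E₂)
    (a₁ : ℤ) (ha₁ : ∀ i : ℤ, a₁ < i → IsZero (E₁.X i)) (m n : ℤ)
    (α₁ : DerivedCategory.Q.obj E₁ ⟶ DerivedCategory.Q.obj F) (hα₁ : IsQisAbove m α₁)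
    (α₂ : DerivedCategory.Q.obj E₂ ⟶ DerivedCategory.Q.obj G) (hα₂ : IsQisAbove n α₂)
    (t : ℤ) (ht₁ : m + b ≤ t) (ht₂ : n + a₁ ≤ t) :
    ∃ β : DerivedCategory.Q.obj ((DCoh.tensorCx.obj E₂).obj E₁) ⟶
      DerivedCategory.Q.obj ((DCoh.tensorCx.obj F).obj G), IsQisAbove t β := by
  have hE₁k : DCoh.IsKFlat E₁ := Groth.Agent.Helper9.Lpull5.isKFlat_of_isStrictlyPerfect E₁ hE₁
  have i1 : @ModSite.HasLTensorCx _ _ _ Z.sheaf E₁ :=
    @Groth.Agent.Helper9.LTCx7.hasLTensorCx_of_isKFlat _ _ _ Z.sheaf E₁ hE₁k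
  have i2 : @ModSite.HasLTensorCx _ _ _ Z.sheaf G :=
    @Groth.Agent.Helper9.LTCx7.hasLTensorCx_of_isKFlat _ _ _ Z.sheaf G hG
  have hE₁b : ∀ i : ℤ, a₁ < i → IsZero (E₁.homology i) := fun i hi =>
    (HomologicalComplex.ExactAt.of_isZero (ha₁ i hi)).isZero_homology
  -- first step
  have s1 := @Groth.Agent.Helper9.PcTensor3.isQisAbove_ltensor _ _ _ Z.sheaf E₁ hE₁k i1 a₁ hE₁b
    _ _ α₂ n hα₂
  have s2 := @Groth.Agent.Helper9.PcTensor3.isQisAbove_ltensor _ _ _ Z.sheaf G hG i2 b hGb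
    _ _ α₁ m hα₁
  let u1 := @Groth.Agent.Helper9.LTCx1.ltIso _ _ _ Z.sheaf E₁ i1 hE₁k E₂
  let u2 := @Groth.Agent.Helper9.LTCx1.ltIso _ _ _ Z.sheaf E₁ i1 hE₁k G
  let u3 : DerivedCategory.Q.obj ((DCoh.tensorCx.obj G).obj E₁) ≅
      DerivedCategory.Q.obj ((DCoh.tensorCx.obj E₁).obj G) :=
    DerivedCategory.Q.mapIso (@Groth.Agent.Helper9.KFlat18.symCx _ _ _ Z.sheaf G E₁)
  let u4 := @Groth.Agent.Helper9.LTCx1.ltIso _ _ _ Z.sheaf G i2 hG E₁
  let u5 := @Groth.Agent.Helper9.LTCx1.ltIso _ _ _ Z.sheaf G i2 hG F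
  refine ⟨u1.inv ≫ (@ModSite.LTensorCx _ _ _ Z.sheaf E₁ i1).map α₂ ≫ u2.hom ≫ u3.hom ≫ u4.inv ≫
    (@ModSite.LTensorCx _ _ _ Z.sheaf G i2).map α₁ ≫ u5.hom, ?_⟩
  exact (isQisAbove_inv t u1).comp ((s1.mono ht₂).comp ((isQisAbove_hom t u2).comp
    ((isQisAbove_hom t u3).comp ((isQisAbove_inv t u4).comp
      ((s2.mono ht₁).comp (isQisAbove_hom t u5))))))

variable {X : Scheme.{u}}

/-- K-flat case -/
theorem isPseudoCoherentD_ltensor_of_isKFlat (E : CochainComplex X.Modules ℤ) (hEk : DCoh.IsKFlat E)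
    [DCoh.HasLTensorCx E] (hE : ∀ n : ℤ, DCoh.IsPseudoCoherentD n (DerivedCategory.Q.obj E))
    (b : ℤ) (hEb : ∀ i : ℤ, b < i → IsZero (E.homology i))
    (K : DCoh.D X) (hK : ∀ m : ℤ, DCoh.IsPseudoCoherentD m K) (t : ℤ) :
    DCoh.IsPseudoCoherentD t ((DCoh.LTensorCx E).obj K) := by
  have i1 : @ModSite.HasLTensorCx _ _ _ X.sheaf E := ‹DCoh.HasLTensorCx E›
  let F₀ : CochainComplex X.Modules ℤ := DerivedCategory.Q.objPreimage K
  let e₀ : DerivedCategory.Q.obj F₀ ≅ K := DerivedCategory.Q.objObjPreimageIso K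
  have a1 : (DCoh.LTensorCx E).obj K ≅ DerivedCategory.Q.obj ((DCoh.tensorCx.obj F₀).obj E) :=
    (DCoh.LTensorCx E).mapIso e₀.symm ≪≫
      (@Groth.Agent.Helper9.LTCx1.ltIso _ _ _ X.sheaf E i1 hEk F₀)
  rw [isPseudoCoherentD_iff_locPC t _ ((DCoh.tensorCx.obj F₀).obj E) a1.symm]
  intro x
  have h1 := (isPseudoCoherentD_iff_locPC (t - b) K F₀ e₀).1 (hK (t - b)) x
  obtain ⟨Z₁, j₁, hj₁, ⟨z₁, hz₁⟩, E₁, α₁, hE₁, hα₁⟩ := h1
  obtain ⟨⟨a₀, a₁, ha⟩, hf⟩ := id hE₁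
  have h2 := (isPseudoCoherentD_iff_locPC (t - a₁) _ E (Iso.refl _)).1 (hE (t - a₁)) x
  obtain ⟨Z₂, j₂, hj₂, ⟨z₂, hz₂⟩, E₂, α₂, hE₂, hα₂⟩ := h2
  haveI := hj₁
  haveI := hj₂
  obtain ⟨z, hz1, hz2⟩ := Scheme.Pullback.exists_preimage_pullback z₁ z₂ (hz₁.trans hz₂.symm)
  let p₁ := pullback.fst j₁ j₂
  let p₂ := pullback.snd j₁ j₂
  let j : pullback j₁ j₂ ⟶ X := p₁ ≫ j₁
  have hjz : j z = x := by
    rw [← hz₁, ← hz1]
    rfl
  rw [← hjz]
  apply LocPC.of_restrict j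
  refine LocPC.of_iso (DerivedCategory.Q.mapIso (resTensorCxIso j F₀ E).symm) ?_
  -- the data on the pullback
  let α₁' : DerivedCategory.Q.obj ((Rc p₁).obj E₁) ⟶ DerivedCategory.Q.obj ((Rc j).obj F₀) :=
    resD p₁ α₁ ≫ (DerivedCategory.Q.mapIso (rcCompIso j₁ p₁ j rfl F₀)).inv
  have hα₁' : IsQisAbove (t - b) α₁' := (isQisAbove_resD p₁ hα₁).comp (IsQisAbove.of_isIso _ _)
  let α₂' : DerivedCategory.Q.obj ((Rc p₂).obj E₂) ⟶ DerivedCategory.Q.obj ((Rc j).obj E) :=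
    resD p₂ α₂ ≫ (DerivedCategory.Q.mapIso (rcCompIso j₂ p₂ j pullback.condition E)).inv
  have hα₂' : IsQisAbove (t - a₁) α₂' := (isQisAbove_resD p₂ hα₂).comp (IsQisAbove.of_isIso _ _)
  have hG : DCoh.IsKFlat ((Rc j).obj E) := Groth.Agent.Helper9.Lpull5.isKFlat_restrict j E hEk
  have hGb : ∀ i : ℤ, b < i → IsZero (((Rc j).obj E).homology i) := fun i hi =>
    ((Scheme.Modules.restrictFunctor j).map_isZero (hEb i hi)).of_iso (homologyRestrictIso j E i)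
  have hE₁' := isStrictlyPerfect_restrict p₁ hE₁
  have hE₂' := isStrictlyPerfect_restrict p₂ hE₂
  have ha₁' : ∀ i : ℤ, a₁ < i → IsZero (((Rc p₁).obj E₁).X i) := fun i hi =>
    (Scheme.Modules.restrictFunctor p₁).map_isZero (ha i (Or.inr hi))
  obtain ⟨β, hβ⟩ := exists_qisAbove_tensor ((Rc j).obj F₀) ((Rc j).obj E) ((Rc p₁).obj E₁)
    ((Rc p₂).obj E₂) hG b hGb hE₁' hE₂' a₁ ha₁' (t - b) (t - a₁) α₁' hα₁' α₂' hα₂' t
    (by omega) (by omega)
  exact locPC_of_data β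
    (Groth.Agent.Helper9.FlfTensor2.isStrictlyPerfect_tensorCx _ _ hE₂' hE₁') t hβ z

/-- the derived tensor product of pseudo-coherent complexes is pseudo-coherent -/
theorem isPseudoCoherentD_ltensor (E : CochainComplex X.Modules ℤ)
    [DCoh.HasLTensorCx E] (hE : ∀ n : ℤ, DCoh.IsPseudoCoherentD n (DerivedCategory.Q.obj E))
    (b : ℤ) (hEb : ∀ i : ℤ, b < i → IsZero (E.homology i))
    (K : DCoh.D X) (hK : ∀ m : ℤ, DCoh.IsPseudoCoherentD m K) (t : ℤ) :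
    DCoh.IsPseudoCoherentD t ((DCoh.LTensorCx E).obj K) := by
  have i1 : @ModSite.HasLTensorCx _ _ _ X.sheaf E := ‹DCoh.HasLTensorCx E›
  obtain ⟨P, q, hP, -, hq, -⟩ := Groth.Agent.Helper9.LTM3.exists_kflat_resolution E
  haveI := hq
  have i2 : @ModSite.HasLTensorCx _ _ _ X.sheaf P :=
    @Groth.Agent.Helper9.LTCx7.hasLTensorCx_of_isKFlat _ _ _ X.sheaf P hP
  haveI : DCoh.HasLTensorCx P := i2
  haveI : IsIso (DerivedCategory.Q.map q) := by
    rw [DerivedCategory.isIso_Q_map_iff_quasiIso]; exact hq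
  have eQ : DerivedCategory.Q.obj P ≅ DerivedCategory.Q.obj E := asIso (DerivedCategory.Q.map q)
  have e : DCoh.LTensorCx P ≅ DCoh.LTensorCx E :=
    @Groth.Agent.Helper9.LTCx6.ltensorIso _ _ _ X.sheaf P E q i2 i1 hq
  refine isPseudoCoherentD_of_iso (e.app K) ?_
  refine isPseudoCoherentD_ltensor_of_isKFlat P hP
    (fun n => isPseudoCoherentD_of_iso eQ.symm (hE n)) b (fun i hi => ?_) K hK t
  exact (hEb i hi).of_iso (@asIso _ _ _ _ (HomologicalComplex.homologyMap q i)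
    ((quasiIsoAt_iff_isIso_homologyMap q i).1 (hq.quasiIsoAt i)))

end Groth.Agent.Helper9.PcTensor4
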