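import Mathlib
import Groth.Prelude.Def_DCoh4
import Groth.Prelude.Def_DDual2
import Groth.Agent.Helper9.PcTensor4
import Groth.Agent.Lead.PcLib9
import Groth.Agent.Lead.PerfLib9

/-! `D^-_Coh ⊗^L D^-_Coh ⊆ D^-_Coh` on a locally Noetherian scheme. -/

set_option autoImplicit false
set_option linter.style.haveILetI false
set_option linter.unusedVariables false
set_option linter.unusedSectionVars false
universe u

namespace Groth.Agent.Helper9.CohTensor1

open CategoryTheory CategoryTheory.Limits AlgebraicGeometry HomologicalComplex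
open Groth.Agent.Lead.PerfLib Groth.Agent.Lead.LocLift Groth.Agent.Lead.PcLib

attribute [local instance] HasDerivedCategory.standard

variable {X : Scheme.{u}}

/-- the cohomology sheaves in degrees `> m` of an `m`-pseudo-coherent object on a locally Noetherian
scheme are coherent -/
theorem isCoh_HD_of_isPseudoCoherentD [IsLocallyNoetherian X] (K : DCoh.D X) (m : ℤ)
    (h : DCoh.IsPseudoCoherentD m K) (i : ℤ) (hi : m < i) : Coh.IsCoh (DCoh.HD K i) := by
  let F₀ : CochainComplex X.Modules ℤ := DerivedCategory.Q.objPreimage K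
  let e₀ : DerivedCategory.Q.obj F₀ ≅ K := DerivedCategory.Q.objObjPreimageIso K
  choose V hxV P α hP hiso hepi using exists_local_data_of_pseudoCoherent m K h F₀ e₀
  have hPcoh : ∀ (x : X) (i : ℤ), Coh.IsCoh ((P x).homology i) := fun x i =>
    isCoh_homology (P x) (fun k => isCoh_of_isFinLocFree ((hP x).2 k)) i
  refine isCoh_of_iso (hdIso e₀ i).symm ?_
  apply isCoh_of_locally
  intro x
  haveI := hiso x i hi
  exact ⟨V x, (V x).ι, inferInstance, ⟨⟨x, hxV x⟩, rfl⟩,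
    isCoh_of_iso (asIso (homologyMapOfQ (α x) i) ≪≫ homologyRestrictIso (V x).ι F₀ i)
      (hPcoh x i)⟩

/-- objects of `D^-_Coh` on a locally Noetherian scheme are pseudo-coherent -/
theorem isPseudoCoherentD_of_isCohD [IsLocallyNoetherian X] (K : DCoh.D X) (hK : DCoh.IsCohD K)
    (a : ℤ) (ha : ∀ i : ℤ, a < i → IsZero (DCoh.HD K i)) (m : ℤ) :
    DCoh.IsPseudoCoherentD m K := by
  have hLE : K.IsLE a := by
    rw [DerivedCategory.isLE_iff]
    exact ha
  exact isPseudoCoherentD_of_coh_bounded X m (a - m + 1).toNat K a hLE (by omega)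
    (fun i _ => hK i)

/-- S6498 -/
theorem isCohD_ltensor [IsLocallyNoetherian X] (E : CochainComplex X.Modules ℤ)
    [DCoh.HasLTensorCx E] (L : DCoh.D X) (hL : DCoh.IsCohD L)
    (hLb : ∃ a : ℤ, ∀ i, a < i → IsZero (DCoh.HD L i)) (hE : DCoh.IsCohD (DCoh.toD X E))
    (hEb : ∃ b : ℤ, ∀ i, b < i → IsZero (DCoh.HD (DCoh.toD X E) i)) :
    DCoh.IsCohD ((DCoh.LTensorCx E).obj L) ∧
      ∃ n : ℤ, ∀ i, n < i → IsZero (DCoh.HD ((DCoh.LTensorCx E).obj L) i) := by
  obtain ⟨a, ha⟩ := hLb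
  obtain ⟨b, hb⟩ := hEb
  have hEb' : ∀ i : ℤ, b < i → IsZero (E.homology i) := fun i hi =>
    (hb i hi).of_iso (hdIso (Iso.refl (DerivedCategory.Q.obj E)) i).symm
  have hpcL := isPseudoCoherentD_of_isCohD L hL a ha
  have hpcE := isPseudoCoherentD_of_isCohD (DCoh.toD X E) hE b hb
  have hpc := Groth.Agent.Helper9.PcTensor4.isPseudoCoherentD_ltensor E hpcE b hEb' L hpcL
  refine ⟨fun i => isCoh_HD_of_isPseudoCoherentD _ (i - 1) (hpc (i - 1)) i (by omega), ?_⟩
  -- boundedness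
  have i1 : @ModSite.HasLTensorCx _ _ _ X.sheaf E := ‹DCoh.HasLTensorCx E›
  obtain ⟨P, q, hP, -, hq, -⟩ := Groth.Agent.Helper9.LTM3.exists_kflat_resolution E
  haveI := hq
  have i2 : @ModSite.HasLTensorCx _ _ _ X.sheaf P :=
    @Groth.Agent.Helper9.LTCx7.hasLTensorCx_of_isKFlat _ _ _ X.sheaf P hP
  haveI : DCoh.HasLTensorCx P := i2
  have e : DCoh.LTensorCx P ≅ DCoh.LTensorCx E :=
    @Groth.Agent.Helper9.LTCx6.ltensorIso _ _ _ X.sheaf P E q i2 i1 hq
  have hPb : ∀ i : ℤ, b < i → IsZero (P.homology i) := fun i hi =>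
    (hEb' i hi).of_iso (@asIso _ _ _ _ (HomologicalComplex.homologyMap q i)
      ((quasiIsoAt_iff_isIso_homologyMap q i).1 (hq.quasiIsoAt i)))
  let F₀ : CochainComplex X.Modules ℤ := DerivedCategory.Q.objPreimage L
  let e₀ : DerivedCategory.Q.obj F₀ ≅ L := DerivedCategory.Q.objObjPreimageIso L
  have a1 : DerivedCategory.Q.obj ((DCoh.tensorCx.obj F₀).obj P) ≅ (DCoh.LTensorCx E).obj L :=
    (@Groth.Agent.Helper9.LTCx1.ltIso _ _ _ X.sheaf P i2 hP F₀).symm ≪≫
      (DCoh.LTensorCx P).mapIso e₀ ≪≫ e.app L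
  have hF₀ : ∀ i : ℤ, a + 1 ≤ i → IsZero (F₀.homology i) := fun i hi =>
    (ha i (by omega)).of_iso (hdIso e₀ i).symm
  refine ⟨a + b, fun i hi => ?_⟩
  refine IsZero.of_iso ?_ (hdIso a1 i)
  exact @Groth.Agent.Helper9.PcTensor2.isZero_homology_tensor _ _ _ X.sheaf F₀ P hP (a + 1) b hF₀ hPb
    i (by omega)

end Groth.Agent.Helper9.CohTensor1
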