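import Mathlib
import Groth.Agent.Helper9.Van1
import Groth.Agent.Helper9.Amp1
import Groth.Agent.Helper4.QcohWSerre

/-! The right adjoint of `Rf_* : D_QCoh(X) ⥤ D_QCoh(Y)` is bounded below (uniformly). -/

set_option autoImplicit false
set_option linter.style.haveILetI false
set_option linter.unusedVariables false
set_option linter.unusedSectionVars false
universe u

namespace Groth.Agent.Helper9.Shriek1

open CategoryTheory Limits AlgebraicGeometry Opposite TopologicalSpace DerivedCategory Pretriangulated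

attribute [local instance] HasDerivedCategory.standard

variable {X Y : Scheme.{u}}

/-- `Rf_*` sends `D_QCoh^{≤ n}` into `D^{≤ n + N - 1}` -/
theorem isZero_HD_Rpush_of_isLE (f : X ⟶ Y) [DCoh.HasRpush f] (N : ℤ)
    (hN : ∀ (E : DCoh.D X), DCoh.IsQCohD E → E.IsLE 0 → ∀ m : ℤ, N ≤ m →
      IsZero (DCoh.HD ((DCoh.Rpush f).obj E) m))
    (E : DCoh.D X) (hE : DCoh.IsQCohD E) (n : ℤ) [E.IsLE n] (j : ℤ) (hj : N + n ≤ j) :
    IsZero (DCoh.HD ((DCoh.Rpush f).obj E) j) := by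
  haveI := Groth.Agent.Helper4.SchAdj.isGrothendieckAbelian_modules X
  haveI : (E⟦n⟧).IsLE 0 := TStructure.t.isLE_shift E n n 0 (by omega)
  have h1 := hN (E⟦n⟧) (Groth.Agent.Helper4.QcohWSerre.isQCohD_shift E n hE) inferInstance
    (j - n) (by omega)
  obtain ⟨e⟩ := Amp1.nonempty_shift_iso (Scheme.Modules.pushforward f) (DCoh.Rpush f)
    ((DCoh.pushKh f).totalRightDerivedUnit DerivedCategory.Qh
      (HomotopyCategory.quasiIso X.Modules (ComplexShape.up ℤ))) E n
  have e2 := Amp1.homologyShiftIso ((DCoh.Rpush f).obj E) n (j - n)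
  have h2 : IsZero ((homologyFunctor Y.Modules (n + (j - n))).obj ((DCoh.Rpush f).obj E)) :=
    h1.of_iso (e2.symm ≪≫ (homologyFunctor Y.Modules (j - n)).mapIso e.symm)
  have h3 : n + (j - n) = j := by omega
  rw [h3] at h2
  exact h2

theorem rightAdjoint_bounded_below [CompactSpace X] [QuasiSeparatedSpace X] [CompactSpace Y]
    [QuasiSeparatedSpace Y] (f : X ⟶ Y) [DCoh.HasRpush f]
    (h : ∀ K : DCoh.D X, DCoh.IsQCohD K → DCoh.IsQCohD ((DCoh.Rpush f).obj K))
    (a : DCoh.DQCoh Y ⥤ DCoh.DQCoh X)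
    (adj : (ObjectProperty.lift DCoh.IsQCohD (ObjectProperty.ι DCoh.IsQCohD ⋙ DCoh.Rpush f)
      (fun K => h K.obj K.property)) ⊣ a) :
    ∃ N : ℕ, ∀ (K : DCoh.DQCoh Y) (c : ℤ), (∀ i : ℤ, i ≤ c → IsZero (DCoh.HD K.obj i)) →
      ∀ i : ℤ, i ≤ c - N → IsZero (DCoh.HD (a.obj K).obj i) := by
  obtain ⟨N₀, hN₀⟩ := Van1.rpush_vanishing f
  refine ⟨(max N₀ 1).toNat, fun K c hK i hi => ?_⟩
  have hNN : N₀ ≤ ((max N₀ 1).toNat : ℤ) := by
    have := Int.self_le_toNat (max N₀ 1)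
    have := le_max_left N₀ 1
    omega
  set N : ℤ := ((max N₀ 1).toNat : ℤ) with hNdef
  let A : DCoh.D X := (a.obj K).obj
  have hA : DCoh.IsQCohD A := (a.obj K).property
  obtain ⟨X₁, Y₁, f₁, g₁, h₁, hT, hX0, hY0, hf, hg⟩ := Amp1.exists_trunc_triangle A (c - N + 1)
  -- `X₁` is in `D_QCoh` and `≤ c - N`
  have hX₁ : DCoh.IsQCohD X₁ := by
    intro q
    by_cases hq : q < c - N + 1
    · haveI := hf q hq
      exact (SheafOfModules.isQuasicoherent X.ringCatSheaf).prop_of_iso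
        (asIso ((homologyFunctor X.Modules q).map f₁)).symm (hA q)
    · exact Groth.Agent.Helper4.RpushQc.isQuasicoherent_of_isZero (hX0 q (by omega))
  haveI : X₁.IsLE (c - N) := (isLE_iff X₁ (c - N)).2 (fun q hq => hX0 q (by omega))
  -- `Rf_* X₁` is `≤ c`
  haveI : ((DCoh.Rpush f).obj X₁).IsLE c := (isLE_iff _ c).2 (fun j hj =>
    isZero_HD_Rpush_of_isLE f N₀ hN₀ X₁ hX₁ (c - N) j (by omega))
  haveI : (K.obj).IsGE (c + 1) := (isGE_iff _ (c + 1)).2 (fun j hj => hK j (by omega))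
  -- all maps `Rf_* X₁ ⟶ K` vanish
  let X₁' : DCoh.DQCoh X := ⟨X₁, hX₁⟩
  let F := ObjectProperty.lift DCoh.IsQCohD (ObjectProperty.ι DCoh.IsQCohD ⋙ DCoh.Rpush f)
    (fun K => h K.obj K.property)
  have hsub : ∀ p q : F.obj X₁' ⟶ K, p = q := by
    intro p q
    apply ObjectProperty.hom_ext
    have hp : p.hom = 0 := TStructure.t.zero (X := (DCoh.Rpush f).obj X₁) (Y := K.obj) p.hom c (c + 1)
    have hq : q.hom = 0 := TStructure.t.zero (X := (DCoh.Rpush f).obj X₁) (Y := K.obj) q.hom c (c + 1)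
    rw [hp, hq]
  have hf₁ : f₁ = 0 := by
    have h1 : (ObjectProperty.homMk f₁ : X₁' ⟶ a.obj K) = ObjectProperty.homMk 0 :=
      (adj.homEquiv X₁' K).symm.injective (hsub _ _)
    exact congrArg (fun φ => φ.hom) h1
  haveI := hf i (by omega)
  have h0 : (homologyFunctor X.Modules i).map f₁ = 0 := by rw [hf₁, Functor.map_zero]
  let e := asIso ((homologyFunctor X.Modules i).map f₁)
  have he : e.hom = 0 := h0
  have hz : IsZero ((homologyFunctor X.Modules i).obj X₁) := by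
    rw [IsZero.iff_id_eq_zero, ← e.hom_inv_id, he, zero_comp]
  exact hz.of_iso e.symm

end Groth.Agent.Helper9.Shriek1
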