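import Mathlib
import Groth.Agent.Helper9.Shriek1
import Groth.Agent.Helper9.ClImm3
import Groth.Agent.Lead.PcLib9
import Groth.Agent.Lead.PerfLib6
import Groth.Agent.Helper4.RDerTri

/-! `Rf_*` of pseudo-coherent objects, given a uniform bound on bounded objects. -/

set_option autoImplicit false
set_option linter.style.haveILetI false
set_option linter.unusedVariables false
set_option linter.unusedSectionVars false
universe u

namespace Groth.Agent.Helper9.RpPc1

open CategoryTheory Limits AlgebraicGeometry Opposite TopologicalSpace DerivedCategory Pretriangulated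
open Groth.Agent.Lead.PerfLib Groth.Agent.Lead.PcLib

attribute [local instance] HasDerivedCategory.standard

variable {X Y : Scheme.{u}}

/-- pseudo-coherent objects have quasi-coherent cohomology sheaves -/
theorem isQCohD_of_isPseudoCoherentD (F : DCoh.D X) (hF : ∀ m : ℤ, DCoh.IsPseudoCoherentD m F) :
    DCoh.IsQCohD F := fun i =>
  (isQCoh_cohomology_of_pseudoCoherentD (i - 1) F (hF (i - 1))).1 i (by omega)

theorem main (f : X ⟶ Y) [QuasiCompact f] [QuasiSeparated f] [CompactSpace Y] [DCoh.HasRpush f]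
    (k : ℤ)
    (hK : ∀ (F : DCoh.D X) (n a b : ℤ), F.IsGE a → F.IsLE b → DCoh.IsPseudoCoherentD n F →
      DCoh.IsPseudoCoherentD (n + k) ((DCoh.Rpush f).obj F))
    (F : DCoh.D X) (hF : ∀ m : ℤ, DCoh.IsPseudoCoherentD m F) (m : ℤ) :
    DCoh.IsPseudoCoherentD m ((DCoh.Rpush f).obj F) := by
  haveI := Groth.Agent.Helper4.SchAdj.isGrothendieckAbelian_modules X
  haveI : CompactSpace X := QuasiCompact.compactSpace_of_compactSpace f
  have hq : DCoh.IsQCohD F := isQCohD_of_isPseudoCoherentD F hF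
  obtain ⟨b, hb⟩ := Groth.Agent.Helper9.ClImm3.exists_isLE_of_isPseudoCoherentD F 0 (hF 0)
  obtain ⟨N, hN⟩ := Groth.Agent.Helper9.Van1.rpush_vanishing f
  -- the truncation level
  let a : ℤ := min (m - k) (m - N)
  have ha1 : a + k ≤ m := by
    have := min_le_left (m - k) (m - N)
    omega
  have ha2 : N + a ≤ m := by
    have := min_le_right (m - k) (m - N)
    omega
  obtain ⟨X₁, Y₁, f₁, g₁, h₁, hT, hX0, hY0, hf, hg⟩ :=
    Groth.Agent.Helper9.Amp1.exists_trunc_triangle F (a + 1)
  -- `X₁ = τ_{≤ a} F`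
  have hX₁q : DCoh.IsQCohD X₁ := by
    intro q
    by_cases hq' : q < a + 1
    · haveI := hf q hq'
      exact (SheafOfModules.isQuasicoherent X.ringCatSheaf).prop_of_iso
        (asIso ((homologyFunctor X.Modules q).map f₁)).symm (hq q)
    · exact Groth.Agent.Helper4.RpushQc.isQuasicoherent_of_isZero (hX0 q (by omega))
  haveI : X₁.IsLE a := (isLE_iff X₁ a).2 (fun q hq' => hX0 q (by omega))
  have hX₁pc : DCoh.IsPseudoCoherentD (a + 1) X₁ :=
    isPseudoCoherentD_of_isZero_HD (a + 1) X₁ (fun i hi => hX0 i hi)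
  -- `Y₁ = τ_{≥ a+1} F` is `a`-pseudo-coherent and bounded
  have hY₁pc : DCoh.IsPseudoCoherentD a Y₁ :=
    isPseudoCoherentD_obj₃ a _ hT hX₁pc (hF a)
  have hY₁ge : Y₁.IsGE (a + 1) := (isGE_iff Y₁ (a + 1)).2 (fun q hq' => hY0 q hq')
  have hY₁le : Y₁.IsLE (max b (a + 1)) := by
    rw [isLE_iff]
    intro q hq'
    haveI := hg q (by
      have := le_max_right b (a + 1)
      omega)
    haveI := hb
    have hz : IsZero ((homologyFunctor X.Modules q).obj F) :=
      F.isZero_of_isLE b q (by
        have := le_max_left b (a + 1)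
        omega)
    exact hz.of_iso (asIso ((homologyFunctor X.Modules q).map g₁)).symm
  have hRY : DCoh.IsPseudoCoherentD m ((DCoh.Rpush f).obj Y₁) :=
    isPseudoCoherentD_mono ha1 (hK Y₁ a (a + 1) (max b (a + 1)) hY₁ge hY₁le hY₁pc)
  have hRX : DCoh.IsPseudoCoherentD m ((DCoh.Rpush f).obj X₁) :=
    isPseudoCoherentD_of_isZero_HD m _ (fun i hi =>
      Groth.Agent.Helper9.Shriek1.isZero_HD_Rpush_of_isLE f N hN X₁ hX₁q a i (by omega))
  obtain ⟨c, hc⟩ := Groth.Agent.Helper4.RDerTri.exists_distinguished_map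
    (Scheme.Modules.pushforward f) (DCoh.Rpush f)
    ((DCoh.pushKh f).totalRightDerivedUnit DerivedCategory.Qh
      (HomotopyCategory.quasiIso X.Modules (ComplexShape.up ℤ))) _ hT
  exact (isPseudoCoherentD_triangle m _ hc).2.1 hRX hRY

end Groth.Agent.Helper9.RpPc1
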