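import Mathlib
import Groth.Agent.Helper9.CohPS2
import Groth.Agent.Helper9.Chart8
import Groth.Agent.Helper9.CohTensor1
import Groth.Agent.Helper9.FP1
import Groth.Agent.Helper9.TT6
import Groth.Agent.Helper9.RpPc1
import Groth.Agent.Lead.PcLib9
import Groth.Agent.Helper1.Dev6
import Groth.Agent.Helper1.Dev4
import Groth.Agent.S6508
import Groth.Agent.S0020

/-! Over a locally Noetherian base relative pseudo-coherence is absolute pseudo-coherence, and the
derived direct image along a proper morphism preserves it (for bounded below objects). -/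

set_option autoImplicit false
set_option linter.style.haveILetI false
set_option linter.unusedVariables false
set_option linter.unusedSectionVars false
universe u

namespace Groth.Agent.Helper9.RelCoh1

open CategoryTheory Limits AlgebraicGeometry Opposite TopologicalSpace DerivedCategory
open Groth.Agent.Helper4 Groth.Agent.Helper9.Chart1 Groth.Agent.Helper9.CI2

attribute [local instance] HasDerivedCategory.standard

variable {X Y S : Scheme.{u}}

/-- over a locally Noetherian base, relative and absolute pseudo-coherence agree -/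
theorem rel_iff_abs_of_isLocallyNoetherian [IsLocallyNoetherian S] (g : X ⟶ S)
    [LocallyOfFiniteType g] (m : ℤ) (K : DCoh.D X) :
    DerSch.IsPseudoCoherentRel g m K ↔ DCoh.IsPseudoCoherentD m K := by
  refine Chart8.rel_iff_abs g (fun U V h n φ hφ hcl => ?_) m K
  haveI := hcl
  haveI : IsNoetherianRing Γ(S, (V : S.Opens)) := IsLocallyNoetherian.component_noetherian V
  haveI : IsNoetherianRing (MvPolynomial (Fin n) Γ(S, (V : S.Opens))) := inferInstance
  haveI : IsLocallyNoetherian (Spec (CommRingCat.of (MvPolynomial (Fin n) Γ(S, (V : S.Opens))))) :=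
    inferInstance
  intro k
  exact Groth.Agent.Lead.PcLib.isPseudoCoherentD_inD_of_coh _ _
    (Groth.Agent.Helper1.Dev.isCoh_push (cMap (U : X.Opens) φ) _
      (Groth.Agent.Helper1.Dev.isCoh_structureModule _)) k

/-- restriction to an open preserves `D^{≥ n}` -/
lemma isGE_restrictD {Z : Scheme.{u}} (j : Z ⟶ X) [IsOpenImmersion j] (E : DCoh.D X) (n : ℤ)
    [E.IsGE n] : ((DCoh.restrictD j).obj E).IsGE n := by
  rw [isGE_iff]
  intro i hi
  exact IsZero.of_iso (Functor.map_isZero (Scheme.Modules.restrictFunctor j)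
    (E.isZero_of_isGE n i hi)) (Groth.Agent.Helper4.SuppLib.HDRestrictIso j E i)

/-- every closed subset is proper over the base of a proper morphism -/
lemma isProperOver_of_isProper (f : X ⟶ Y) [IsProper f] (Z : Set X) (hZ : IsClosed Z) :
    ClSub.IsProperOver f Z :=
  ⟨hZ, inferInstance⟩

/-- **`Rf_*` preserves `D^b_Coh` for `f` proper over a Noetherian base** -/
theorem isCohD_Rpush_of_isProper [IsNoetherian Y] (f : X ⟶ Y) [IsProper f] [DCoh.HasRpush f]
    (E : DCoh.D X) (a b : ℤ) [E.IsGE a] [E.IsLE b] (hE : DCoh.IsCohD E) :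
    DCoh.IsCohD ((DCoh.Rpush f).obj E) ∧ ((DCoh.Rpush f).obj E).IsGE a ∧
      ∃ b' : ℤ, ((DCoh.Rpush f).obj E).IsLE b' :=
  CohPS2.isCohD_Rpush_of_bounded f E a b hE (fun i =>
    isProperOver_of_isProper f _ (Groth.Agent.S0020.result _ _ (hE i).2))

/-- **`Rf_*` preserves pseudo-coherence of bounded below objects, `f` proper over a locally
Noetherian base** -/
theorem isPseudoCoherentD_Rpush_of_isProper [IsLocallyNoetherian Y] (f : X ⟶ Y) [IsProper f]
    [DCoh.HasRpush f] (E : DCoh.D X) (a : ℤ) [E.IsGE a]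
    (hE : ∀ m : ℤ, DCoh.IsPseudoCoherentD m E) (m : ℤ) :
    DCoh.IsPseudoCoherentD m ((DCoh.Rpush f).obj E) := by
  refine FP1.isPseudoCoherentD_of_local m _ (fun y => ?_)
  obtain ⟨_, ⟨U, hU, rfl⟩, hyU, -⟩ :=
    (Y.isBasis_affineOpens).exists_subset_of_mem_open (Set.mem_univ y) isOpen_univ
  refine ⟨U, Scheme.Opens.ι U, inferInstance, ⟨⟨y, hyU⟩, rfl⟩, ?_⟩
  haveI : DCoh.HasRpush (f ∣_ U) := HasRD.hasRpush _
  obtain ⟨e1⟩ := Groth.Agent.S6508.result f U
  -- the restricted situation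
  haveI : IsAffine ((U : Y.Opens) : Scheme.{u}) := hU
  haveI : IsLocallyNoetherian ((U : Y.Opens) : Scheme.{u}) :=
    isLocallyNoetherian_of_isOpenImmersion (Scheme.Opens.ι U)
  haveI : IsNoetherian ((U : Y.Opens) : Scheme.{u}) := {}
  haveI : IsProper (f ∣_ U) := IsZariskiLocalAtTarget.restrict ‹IsProper f› U
  haveI : IsLocallyNoetherian ((f ⁻¹ᵁ U : X.Opens) : Scheme.{u}) :=
    LocallyOfFiniteType.isLocallyNoetherian (f ∣_ U)
  haveI : CompactSpace ((f ⁻¹ᵁ U : X.Opens) : Scheme.{u}) :=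
    QuasiCompact.compactSpace_of_compactSpace (f ∣_ U)
  haveI : IsNoetherian ((f ⁻¹ᵁ U : X.Opens) : Scheme.{u}) := {}
  let E₁ := (DCoh.restrictD (Scheme.Opens.ι (f ⁻¹ᵁ U))).obj E
  have hE₁ : ∀ k : ℤ, DCoh.IsPseudoCoherentD k E₁ := fun k =>
    TT6.isPseudoCoherentD_restrictD _ k E (hE k)
  have hq : DCoh.IsQCohD E₁ := RpPc1.isQCohD_of_isPseudoCoherentD E₁ hE₁
  haveI : E₁.IsGE a := isGE_restrictD _ E a
  have hcoh : DCoh.IsCohD E₁ := fun i =>
    (Groth.Agent.Lead.PcLib.coh_bounded_of_isPseudoCoherentD _ E₁ hq i (hE₁ i)).1 i le_rfl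
  obtain ⟨b, hb⟩ := (Groth.Agent.Lead.PcLib.coh_bounded_of_isPseudoCoherentD _ E₁ hq 0 (hE₁ 0)).2
  haveI := hb
  obtain ⟨h1, h2, b', hb'⟩ := isCohD_Rpush_of_isProper (f ∣_ U) E₁ a b hcoh
  have h3 : DCoh.IsPseudoCoherentD m ((DCoh.Rpush (f ∣_ U)).obj E₁) :=
    CohTensor1.isPseudoCoherentD_of_isCohD _ h1 b'
      (fun i hi => DerivedCategory.isZero_of_isLE _ b' i hi) m
  exact Groth.Agent.Lead.PcLib.isPseudoCoherentD_of_iso (e1.app E).symm h3

/-- S6220 -/
theorem relAll_Rpush_of_isProper [IsLocallyNoetherian S] (p : X ⟶ S) (q : Y ⟶ S)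
    [LocallyOfFiniteType p] [LocallyOfFiniteType q] (f : X ⟶ Y) [IsProper f] (w : f ≫ q = p)
    [DCoh.HasRpush f] (E : DCoh.D X) (a : ℤ) [E.IsGE a]
    (hE : DerSch.IsPseudoCoherentRelAll p E) :
    DerSch.IsPseudoCoherentRelAll q ((DCoh.Rpush f).obj E) := by
  haveI : IsLocallyNoetherian Y := LocallyOfFiniteType.isLocallyNoetherian q
  intro m
  rw [rel_iff_abs_of_isLocallyNoetherian q]
  exact isPseudoCoherentD_Rpush_of_isProper f E a
    (fun k => (rel_iff_abs_of_isLocallyNoetherian p k E).1 (hE k)) m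

/-- S6222 -/
theorem bounded_relAll_Rpush_of_isProper [IsNoetherian S] (p : X ⟶ S) (q : Y ⟶ S)
    [LocallyOfFiniteType p] [QuasiCompact p] [LocallyOfFiniteType q] [QuasiCompact q]
    (f : X ⟶ Y) [IsProper f] (w : f ≫ q = p) [DCoh.HasRpush f] (E : DCoh.D X) (a b : ℤ)
    [E.IsGE a] [E.IsLE b] (hE : DerSch.IsPseudoCoherentRelAll p E) :
    (∃ c : ℤ, ((DCoh.Rpush f).obj E).IsLE c) ∧ ((DCoh.Rpush f).obj E).IsGE a ∧
      DerSch.IsPseudoCoherentRelAll q ((DCoh.Rpush f).obj E) := by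
  haveI : IsLocallyNoetherian Y := LocallyOfFiniteType.isLocallyNoetherian q
  haveI : CompactSpace Y := QuasiCompact.compactSpace_of_compactSpace q
  haveI : IsNoetherian Y := {}
  haveI : IsLocallyNoetherian X := LocallyOfFiniteType.isLocallyNoetherian p
  haveI : CompactSpace X := QuasiCompact.compactSpace_of_compactSpace p
  haveI : IsNoetherian X := {}
  have hpc : ∀ k : ℤ, DCoh.IsPseudoCoherentD k E := fun k =>
    (rel_iff_abs_of_isLocallyNoetherian p k E).1 (hE k)
  have hq : DCoh.IsQCohD E := RpPc1.isQCohD_of_isPseudoCoherentD E hpc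
  have hcoh : DCoh.IsCohD E := fun i =>
    (Groth.Agent.Lead.PcLib.coh_bounded_of_isPseudoCoherentD _ E hq i (hpc i)).1 i le_rfl
  obtain ⟨h1, h2, b', hb'⟩ := isCohD_Rpush_of_isProper f E a b hcoh
  exact ⟨⟨b', hb'⟩, h2, relAll_Rpush_of_isProper p q f w E a hE⟩

end Groth.Agent.Helper9.RelCoh1
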