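import Mathlib
set_option autoImplicit false

namespace Groth.Agent.Helper9.RadPrime

universe u

variable {A : Type u} [CommRing A] [IsDomain A] [IsNoetherianRing A] [IsIntegrallyClosed A]

/-- localization of a normal noetherian domain at a nonzero prime of height ≤ 1 is a DVR -/
theorem dvr_of_height_le_one (p : Ideal A) [hp : p.IsPrime] (hp0 : p ≠ ⊥) (hht : p.height ≤ 1) :
    IsDiscreteValuationRing (Localization.AtPrime p) := by
  set S := Localization.AtPrime p
  have hle : p.primeCompl ≤ nonZeroDivisors A := by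
    intro x hx
    rw [mem_nonZeroDivisors_iff_ne_zero]
    rintro rfl
    exact hx (Ideal.zero_mem p)
  have hinj : Function.Injective (algebraMap A S) := IsLocalization.injective S hle
  have hic : IsIntegrallyClosed S := isIntegrallyClosed_of_isLocalization S p.primeCompl hle
  have hnoeth : IsNoetherianRing S := IsLocalization.isNoetherianRing p.primeCompl S inferInstance
  have hmax : IsLocalRing.maximalIdeal S = p.map (algebraMap A S) :=
    (IsLocalization.AtPrime.map_eq_maximalIdeal p S).symm
  have hmax0 : IsLocalRing.maximalIdeal S ≠ ⊥ := by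
    rw [hmax]
    intro h
    obtain ⟨x, hx, hx0⟩ := Submodule.exists_mem_ne_zero_of_ne_bot hp0
    have : algebraMap A S x ∈ p.map (algebraMap A S) := Ideal.mem_map_of_mem _ hx
    rw [h, Ideal.mem_bot] at this
    exact hx0 (hinj (by rw [this, map_zero]))
  have hnf : ¬ IsField S := fun h => hmax0 (IsLocalRing.isField_iff_maximalIdeal_eq.mp h)
  have uniq : ∀ Q : Ideal S, Q ≠ ⊥ → Q.IsPrime → Q = IsLocalRing.maximalIdeal S := by
    intro Q hQ0 hQp
    have hQmap : (Q.comap (algebraMap A S)).map (algebraMap A S) = Q :=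
      IsLocalization.map_under p.primeCompl S Q
    set q := Q.comap (algebraMap A S) with hq
    have hqp : q.IsPrime := Ideal.IsPrime.comap _
    have hq0 : q ≠ ⊥ := by
      intro h
      rw [h, Ideal.map_bot] at hQmap
      exact hQ0 hQmap.symm
    have hqle : q ≤ p := by
      have h1 : Q ≤ IsLocalRing.maximalIdeal S := IsLocalRing.le_maximalIdeal hQp.ne_top
      have h2 := Ideal.comap_mono (f := algebraMap A S) h1
      have h3 : Ideal.comap (algebraMap A S) (IsLocalRing.maximalIdeal S) = p :=
        IsLocalization.AtPrime.under_maximalIdeal S p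
      rw [h3] at h2
      exact h2
    have hqeq : q = p := by
      by_contra hne
      have hlt : q < p := lt_of_le_of_ne hqle hne
      have h1 := Ideal.height_add_one_le_of_lt_of_isPrime hlt
      have h2 : q.height = 0 := by
        have : q.height + 1 ≤ 1 := h1.trans hht
        have h3 : q.height ≤ 0 := by
          by_contra hcon
          push Not at hcon
          have : (1 : ℕ∞) ≤ q.height := Order.one_le_iff_pos.mpr hcon
          have h4 : (1 : ℕ∞) + 1 ≤ 1 := (add_le_add_left this 1).trans ‹q.height + 1 ≤ 1›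
          exact absurd h4 (by decide)
        exact le_antisymm h3 zero_le
      exact hq0 (Ideal.height_eq_zero_iff_eq_bot.mp h2)
    rw [← hQmap, hqeq, hmax]
  have key : IsIntegrallyClosed S ∧ ∃! P : Ideal S, P ≠ ⊥ ∧ P.IsPrime := by
    refine ⟨hic, IsLocalRing.maximalIdeal S, ⟨hmax0, inferInstance⟩, ?_⟩
    rintro Q ⟨hQ0, hQp⟩
    exact uniq Q hQ0 hQp
  exact ((IsDiscreteValuationRing.TFAE S hnf).out 0 3).mpr key

theorem main (z : A) (hz : (Ideal.span {z}).radical.IsPrime) :
    ∃ (w t : A) (r : ℕ), w ∉ (Ideal.span {z}).radical ∧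
      Ideal.span {algebraMap A (Localization.Away w) z} =
        Ideal.span {algebraMap A (Localization.Away w) t ^ r} ∧
      (Ideal.span {algebraMap A (Localization.Away w) t}).IsPrime := by
  by_cases hz0 : z = 0
  · subst hz0
    refine ⟨1, 0, 1, ?_, ?_, ?_⟩
    · intro h
      exact hz.ne_top ((Ideal.eq_top_iff_one _).mpr h)
    · simp
    · have hdom : IsDomain (Localization.Away (1 : A)) :=
        IsLocalization.isDomain_localization (M := Submonoid.powers (1 : A)) (by
          intro x hx
          obtain ⟨n, rfl⟩ := hx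
          simp)
      rw [map_zero]
      have : (Ideal.span {(0 : Localization.Away (1 : A))}) = ⊥ := by simp
      rw [this]
      exact Ideal.isPrime_bot
  set p := (Ideal.span {z}).radical with hpdef
  have hzp : z ∈ p := Ideal.le_radical (Ideal.mem_span_singleton_self z)
  have hp0 : p ≠ ⊥ := by
    intro h
    rw [h, Ideal.mem_bot] at hzp
    exact hz0 hzp
  have hmin : p ∈ (Ideal.span {z}).minimalPrimes := by
    refine ⟨⟨hz, Ideal.le_radical⟩, fun q hq _ => ?_⟩
    obtain ⟨hqp, hzq⟩ := hq
    exact hqp.radical_le_iff.mpr hzq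
  have hht : p.height ≤ 1 := Ideal.height_le_one_of_isPrincipal_of_mem_minimalPrimes _ p hmin
  have hdvr := dvr_of_height_le_one p hp0 hht
  set S := Localization.AtPrime p
  have hle : p.primeCompl ≤ nonZeroDivisors A := by
    intro x hx
    rw [mem_nonZeroDivisors_iff_ne_zero]
    rintro rfl
    exact hx (Ideal.zero_mem p)
  have hinj : Function.Injective (algebraMap A S) := IsLocalization.injective S hle
  -- a uniformizer coming from A
  obtain ⟨ϖ, hϖ⟩ := IsDiscreteValuationRing.exists_irreducible S
  obtain ⟨x, s, rfl⟩ := IsLocalization.exists_mk'_eq p.primeCompl ϖ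
  have hsunit : ∀ s : p.primeCompl, IsUnit (algebraMap A S s) := fun s => IsLocalization.map_units S s
  have hπ : Irreducible (algebraMap A S x) := by
    have : algebraMap A S x = IsLocalization.mk' S x s * algebraMap A S s :=
      (IsLocalization.mk'_spec S x s).symm
    rw [this]
    exact (associated_mul_unit_right (IsLocalization.mk' S x s) _ (hsunit s)).irreducible hϖ
  have hmaxπ : IsLocalRing.maximalIdeal S = Ideal.span {algebraMap A S x} :=
    (IsDiscreteValuationRing.irreducible_iff_uniformizer _).mp hπ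
  have hxp : x ∈ p := by
    rw [← IsLocalization.AtPrime.to_map_mem_maximal_iff S p x, hmaxπ]
    exact Ideal.mem_span_singleton_self _
  have hz0' : algebraMap A S z ≠ 0 := fun h => hz0 (hinj (by rw [h, map_zero]))
  obtain ⟨r, u, hu⟩ := IsDiscreteValuationRing.associated_pow_irreducible hz0' hπ
  -- clear denominators
  obtain ⟨b, s₁, hb⟩ := IsLocalization.exists_mk'_eq p.primeCompl (u : S)
  obtain ⟨b', s₂, hb'⟩ := IsLocalization.exists_mk'_eq p.primeCompl ((u⁻¹ : Sˣ) : S)
  have e1 : z * b = x ^ r * s₁ := by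
    apply hinj
    rw [map_mul, map_mul, map_pow, ← hu, ← hb, mul_assoc, IsLocalization.mk'_spec]
  have e2 : z * s₂ = x ^ r * b' := by
    apply hinj
    have h1 : algebraMap A S z = algebraMap A S x ^ r * ((u⁻¹ : Sˣ) : S) := by
      rw [← hu, mul_assoc, Units.mul_inv, mul_one]
    rw [map_mul, map_mul, map_pow, h1, ← hb', mul_assoc, IsLocalization.mk'_spec]
  obtain ⟨T, hT⟩ : p.FG := IsNoetherian.noetherian p
  have hgen : ∀ g ∈ T, ∃ a sg : A, sg ∉ p ∧ g * sg = x * a := by
    intro g hg
    have hgp : g ∈ p := hT ▸ Ideal.subset_span hg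
    have h1 : algebraMap A S g ∈ Ideal.span {algebraMap A S x} := by
      rw [← hmaxπ, IsLocalization.AtPrime.to_map_mem_maximal_iff S p g]
      exact hgp
    obtain ⟨c, hc⟩ := Ideal.mem_span_singleton'.mp h1
    obtain ⟨a, sg, rfl⟩ := IsLocalization.exists_mk'_eq p.primeCompl c
    refine ⟨a, sg, sg.2, ?_⟩
    apply hinj
    rw [map_mul, map_mul, ← hc, mul_comm (IsLocalization.mk' S a sg), mul_assoc,
      IsLocalization.mk'_spec]
  choose! a sg hsg hga using hgen
  let w : A := s₁ * s₂ * ∏ g ∈ T, sg g
  have hwp : w ∉ p := by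
    intro h
    rcases hz.mem_or_mem h with h | h
    · rcases hz.mem_or_mem h with h | h
      · exact s₁.2 h
      · exact s₂.2 h
    · obtain ⟨g, hg, hgp⟩ := (hz.prod_mem_iff).mp h
      exact hsg g hg hgp
  let f := algebraMap A (Localization.Away w)
  have hwunit : IsUnit (f w) := IsLocalization.Away.algebraMap_isUnit w
  have hdvd : ∀ d : A, d ∣ w → IsUnit (f d) := fun d hd => isUnit_of_dvd_unit (map_dvd f hd) hwunit
  have hs₁ : IsUnit (f s₁) := hdvd _ (Dvd.dvd.mul_right (Dvd.intro _ rfl) _)
  have hs₂ : IsUnit (f s₂) := hdvd _ (Dvd.dvd.mul_right (Dvd.intro_left _ rfl) _)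
  have hsgu : ∀ g ∈ T, IsUnit (f (sg g)) := fun g hg =>
    hdvd _ (Dvd.dvd.mul_left (Finset.dvd_prod_of_mem _ hg) _)
  refine ⟨w, x, r, hwp, ?_, ?_⟩
  · apply le_antisymm
    · rw [Ideal.span_singleton_le_span_singleton]
      obtain ⟨v, hv⟩ := hs₂
      refine ⟨f b' * ↑v⁻¹, ?_⟩
      have := congrArg f e2
      rw [map_mul, map_mul, map_pow, ← hv] at this
      rw [← mul_assoc, ← this, mul_assoc, Units.mul_inv, mul_one]
    · rw [Ideal.span_singleton_le_span_singleton]
      obtain ⟨v, hv⟩ := hs₁
      refine ⟨f b * ↑v⁻¹, ?_⟩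
      have := congrArg f e1
      rw [map_mul, map_mul, map_pow, ← hv] at this
      rw [← mul_assoc, this, mul_assoc, Units.mul_inv, mul_one]
  · have hmap : Ideal.map f p = Ideal.span {f x} := by
      apply le_antisymm
      · rw [← hT, Ideal.map_span, Ideal.span_le]
        rintro _ ⟨g, hg, rfl⟩
        obtain ⟨v, hv⟩ := hsgu g hg
        have := congrArg f (hga g hg)
        rw [map_mul, map_mul, ← hv] at this
        rw [SetLike.mem_coe, Ideal.mem_span_singleton]
        refine ⟨f (a g) * ↑v⁻¹, ?_⟩
        rw [← mul_assoc, ← this, mul_assoc, Units.mul_inv, mul_one]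
      · rw [Ideal.span_le, Set.singleton_subset_iff]
        exact Ideal.mem_map_of_mem _ hxp
    rw [← hmap]
    exact IsLocalization.isPrime_of_isPrime_disjoint (Submonoid.powers w) _ p hz
      ((Ideal.disjoint_powers_iff_notMem_of_isPrime w).mpr hwp)

end Groth.Agent.Helper9.RadPrime
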