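import Groth.Agent.Helper9.LocFin
import Groth.Prelude.Def_ComodSub
set_option autoImplicit false

namespace Groth.Agent.Helper9

open TensorProduct

universe u v w

section

variable {k : Type u} [Field k] {C : Type v} [AddCommGroup C] [Module k C] [Coalgebra k C]
variable {V : Type w} [AddCommGroup V] [Module k V] [c : HopfRep.Comod k C V]

theorem isCompl_iff_mem' {R M : Type*} [Semiring R] [AddCommMonoid M] [Module R M]
    (p q : Submodule R M) :
    IsCompl p q ↔ (∀ x, x ∈ p → x ∈ q → x = 0) ∧ (∀ x : M, ∃ y ∈ p, ∃ z ∈ q, y + z = x) := by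
  rw [isCompl_iff, Submodule.disjoint_def, codisjoint_iff, Submodule.eq_top_iff']
  simp only [Submodule.mem_sup]

set_option synthInstance.maxHeartbeats 400000 in
/-- a finite-dimensional subcomodule is a semisimple module over the operator algebra, if all
finite-dimensional comodules are semisimple -/
theorem semisimple_toSub
    (hLR : ∀ (V' : Type w) [AddCommGroup V'] [Module k V'] [HopfRep.Comod k C V'],
      Module.Finite k V' → HopfRep.IsSemisimpleComod k C V')
    (W : Submodule k V) (hW : HopfRep.IsSubcomod (k := k) (A := C) W) [Module.Finite k W] :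
    IsSemisimpleModule (actAlg k C V) (toSub W hW) := by
  rw [isSemisimpleModule_iff]
  refine ⟨fun P => ?_⟩
  let cW : HopfRep.Comod k C ↥W := ComodSub.Comod.restr c W hW
  have hsub : Hoch.IsComodHom C W.subtype := ComodSub.isComodHom_subtype c W hW
  have hss : HopfRep.IsSemisimpleComod k C ↥W := hLR ↥W inferInstance
  -- the identification
  let idWN : ↥W →ₗ[k] ↥(toSub W hW) :=
    LinearMap.codRestrict ((toSub W hW).restrictScalars k) W.subtype (fun w => w.2)
  -- action compatibility
  have hact : ∀ (φ : C →ₗ[k] k) (w : ↥W), ((act k C ↥W φ w : ↥W) : V) = act k C V φ (w : V) := by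
    intro φ w
    rw [act_apply, act_apply]
    show W.subtype _ = TensorProduct.rid k V (φ.lTensor V
      (HopfRep.Comod.coact (k := k) (A := C) (W.subtype w)))
    rw [IsComodHom.apply hsub, rid_lTensor_rTensor]
  let U : Submodule k ↥W := (P.restrictScalars k).comap idWN
  have hU : HopfRep.IsSubcomod (k := k) (A := C) U := by
    rw [isSubcomod_iff_act]
    intro φ w hw
    show idWN (act k C ↥W φ w) ∈ P
    have h1 : idWN (act k C ↥W φ w) = (⟨act k C V φ, act_mem_actAlg φ⟩ : actAlg k C V) • idWN w := by
      apply Subtype.ext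
      exact hact φ w
    rw [h1]
    exact P.smul_mem _ hw
  obtain ⟨U', hU', hc⟩ := hss U hU
  have hQ' : HopfRep.IsSubcomod (k := k) (A := C) (U'.map W.subtype) := isSubcomod_map hsub hU'
  refine ⟨(toSub (U'.map W.subtype) hQ').comap (toSub W hW).subtype, ?_⟩
  rw [isCompl_iff_mem] at hc
  obtain ⟨hc1, hc2⟩ := hc
  refine (isCompl_iff_mem' P ((toSub (U'.map W.subtype) hQ').comap (toSub W hW).subtype)).mpr ?_
  constructor
  · intro x hxP hxQ
    obtain ⟨u', hu', hux⟩ := hxQ
    have h1 : idWN u' = x := Subtype.ext hux
    have h2 : u' ∈ U := by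
      show idWN u' ∈ P
      rw [h1]; exact hxP
    have h3 := hc1 u' h2 hu'
    rw [← h1, h3, map_zero]
  · intro x
    obtain ⟨u, hu, u', hu', huu⟩ := hc2 ⟨x.1, x.2⟩
    refine ⟨idWN u, hu, idWN u', ⟨u', hu', rfl⟩, ?_⟩
    apply Subtype.ext
    have := congrArg Subtype.val huu
    exact this

/-- all comodules are semisimple if the finite-dimensional ones are -/
theorem semisimple_of_finite
    (hLR : ∀ (V' : Type w) [AddCommGroup V'] [Module k V'] [HopfRep.Comod k C V'],
      Module.Finite k V' → HopfRep.IsSemisimpleComod k C V') :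
    HopfRep.IsSemisimpleComod k C V := by
  rw [isSemisimpleComod_iff]
  apply isSemisimpleModule_of_isSemisimpleModule_submodule'
    (p := fun v : V => toSub (gen k C v) (isSubcomod_gen v))
  · intro v
    have : Module.Finite k (gen k C v) := finite_gen v
    exact semisimple_toSub hLR _ _
  · rw [eq_top_iff]
    intro v _
    exact Submodule.mem_iSup_of_mem v (mem_gen v)

end

end Groth.Agent.Helper9
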