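import Groth.Agent.Helper9.Reynolds
import Groth.Prelude.Def_GLin
set_option autoImplicit false

namespace Groth.Agent.Helper9

open TensorProduct

universe u v w w'

section

variable {k : Type u} [Field k] {A : Type v} [CommRing A] [Bialgebra k A]
variable {V : Type w} [AddCommGroup V] [Module k V] [HopfRep.Comod k A V]
variable {W : Type w'} [AddCommGroup W] [Module k W] [HopfRep.Comod k A W]

theorem isSubcomod_fixedPts : HopfRep.IsSubcomod (k := k) (A := A) (HopfRep.fixedPts k A V) := by
  rw [isSubcomod_iff_act]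
  intro φ w hw
  rw [(mem_fixedPts_iff_act w).mp hw φ]
  exact Submodule.smul_mem _ _ hw

/-- Reynolds operators commute with comodule maps (semisimple source) -/
theorem reynolds_comm (hss : HopfRep.IsSemisimpleComod k A V)
    (E : V →ₗ[k] V) (hE₁ : Hoch.IsComodHom A E) (hE₂ : ∀ x, E (E x) = E x)
    (hE₃ : ∀ x : V, E x = x ↔ x ∈ HopfRep.fixedPts k A V)
    (E' : W →ₗ[k] W) (hE'₁ : Hoch.IsComodHom A E') (hE'₂ : ∀ y, E' (E' y) = E' y)
    (hE'₃ : ∀ y : W, E' y = y ↔ y ∈ HopfRep.fixedPts k A W)
    (u : V →ₗ[k] W) (hu : Hoch.IsComodHom A u) (v : V) :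
    E' (u v) = u (E v) := by
  have hg : Hoch.IsComodHom A (E' ∘ₗ u) := IsComodHom.comp hE'₁ hu
  have hE'f : ∀ y : W, E' y ∈ HopfRep.fixedPts k A W := fun y => (hE'₃ _).mp (hE'₂ y)
  have hEf : ∀ x : V, E x ∈ HopfRep.fixedPts k A V := fun x => (hE₃ _).mp (hE₂ x)
  have h1 : (E' ∘ₗ u) (v - E v) = 0 := by
    apply reynolds_kills hss E hE₁ (fun x hx => (hE₃ x).mpr hx) (E' ∘ₗ u) hg (fun w => hE'f _)
    rw [map_sub, hE₂, sub_self]
  have h2 : E' (u (E v)) = u (E v) := (hE'₃ _).mpr (map_mem_fixedPts hu (hEf v))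
  rw [map_sub, sub_eq_zero] at h1
  simp only [LinearMap.comp_apply] at h1
  rw [h1, h2]

/-- existence of a Reynolds operator on a semisimple comodule -/
theorem exists_reynolds (hss : HopfRep.IsSemisimpleComod k A V) :
    ∃ E : V →ₗ[k] V, Hoch.IsComodHom A E ∧ (∀ x, E (E x) = E x) ∧
      (∀ x : V, E x = x ↔ x ∈ HopfRep.fixedPts k A V) := by
  obtain ⟨T, hT, hc⟩ := hss _ (isSubcomod_fixedPts (k := k) (A := A) (V := V))
  refine ⟨(HopfRep.fixedPts k A V).projection T hc,
    isComodHom_projection isSubcomod_fixedPts hT hc, ?_, ?_⟩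
  · intro x
    exact Submodule.projection_apply_of_mem_left hc (Submodule.projection_apply_mem hc x)
  · intro x
    constructor
    · intro h
      rw [← h]
      exact Submodule.projection_apply_mem hc x
    · intro h
      exact Submodule.projection_apply_of_mem_left hc h

end

section Alg

variable {k : Type u} [Field k] {A : Type v} [CommRing A] [Bialgebra k A]
variable {R : Type w} [CommRing R] [Algebra k R] [HopfRep.Comod k A R] [GLin.IsCoactAlg k A R]

theorem mem_invariants_iff (f : R) : f ∈ GLin.invariants k A R ↔ f ∈ HopfRep.fixedPts k A R :=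
  Iff.rfl

/-- multiplication by an invariant is a comodule map -/
theorem isComodHom_mul_invariant (i : R) (hi : i ∈ GLin.invariants k A R) :
    Hoch.IsComodHom A (LinearMap.mulLeft k i) := by
  apply LinearMap.ext
  intro r
  have h : HopfRep.Comod.coact (k := k) (A := A) i = i ⊗ₜ[k] (1 : A) := hi
  simp only [LinearMap.comp_apply, LinearMap.mulLeft_apply]
  rw [GLin.IsCoactAlg.coact_mul, h]
  generalize HopfRep.Comod.coact (k := k) (A := A) r = z
  induction z using TensorProduct.induction_on with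
  | zero => simp
  | tmul a b => simp
  | add x y hx hy => rw [mul_add, hx, hy, map_add]

/-- a Reynolds operator on a comodule algebra is linear over the invariants -/
theorem reynolds_mul (hss : HopfRep.IsSemisimpleComod k A R)
    (E : R →ₗ[k] R) (hE₁ : Hoch.IsComodHom A E) (hE₂ : ∀ x, E (E x) = E x)
    (hE₃ : ∀ x : R, E x = x ↔ x ∈ HopfRep.fixedPts k A R)
    (i : R) (hi : i ∈ GLin.invariants k A R) (r : R) : E (i * r) = i * E r :=
  reynolds_comm hss E hE₁ hE₂ hE₃ E hE₁ hE₂ hE₃ (LinearMap.mulLeft k i)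
    (isComodHom_mul_invariant i hi) r

end Alg

end Groth.Agent.Helper9
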