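import Groth.Prelude.Def_Hoch
import Mathlib

/-! Helper lemmas on comodules over a coalgebra over a field (helper9). -/

set_option autoImplicit false

namespace Groth.Agent.Helper9

open TensorProduct

universe u v v' w w' w''

section Basic

variable {k : Type u} [Field k] {C : Type v} [AddCommGroup C] [Module k C]
variable {V : Type w} [AddCommGroup V] [Module k V]

theorem mem_range_rTensor_subtype_iff (W : Submodule k V) (x : V ⊗[k] C) :
    x ∈ LinearMap.range (W.subtype.rTensor C) ↔ W.mkQ.rTensor C x = 0 := by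
  have h : Function.Exact (W.subtype.rTensor C) (W.mkQ.rTensor C) :=
    rTensor_exact C (LinearMap.exact_subtype_mkQ W) (Submodule.mkQ_surjective W)
  exact (h x).symm

theorem mem_range_rTensor_ker_iff {W' : Type w'} [AddCommGroup W'] [Module k W']
    (f : V →ₗ[k] W') (x : V ⊗[k] C) :
    x ∈ LinearMap.range ((LinearMap.ker f).subtype.rTensor C) ↔ f.rTensor C x = 0 := by
  have h : Function.Exact ((LinearMap.ker f).subtype.rTensor C) (f.rTensor C) :=
    Module.Flat.rTensor_exact C (LinearMap.exact_subtype_ker_map f)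
  exact (h x).symm

theorem rTensor_injective {W' : Type w'} [AddCommGroup W'] [Module k W']
    (f : V →ₗ[k] W') (hf : Function.Injective f) : Function.Injective (f.rTensor C) :=
  Module.Flat.rTensor_preserves_injective_linearMap f hf

/-- An element of `M ⊗ C` killed by all functionals on the second factor is zero. -/
theorem eq_zero_of_forall_functional (y : V ⊗[k] C)
    (h : ∀ φ : C →ₗ[k] k, TensorProduct.rid k V (φ.lTensor V y) = 0) : y = 0 := by
  classical
  let b := Module.Basis.ofVectorSpace k C
  apply (TensorProduct.equivFinsuppOfBasisRight b).injective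
  rw [map_zero]
  ext i
  rw [TensorProduct.equivFinsuppOfBasisRight_apply, h]
  rfl

/-- Naturality of slicing with respect to a linear map on the first factor. -/
theorem rid_lTensor_rTensor {W' : Type w'} [AddCommGroup W'] [Module k W'] (f : V →ₗ[k] W')
    (φ : C →ₗ[k] k) (z : V ⊗[k] C) :
    TensorProduct.rid k W' (φ.lTensor W' (f.rTensor C z)) =
      f (TensorProduct.rid k V (φ.lTensor V z)) := by
  induction z using TensorProduct.induction_on with
  | zero => simp
  | tmul v c => simp
  | add z₁ z₂ h₁ h₂ => simp only [map_add, h₁, h₂]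

/-- An element of `M ⊗ D` all of whose slices by functionals vanishing on `i(C)` are zero
lies in the image of `M ⊗ C`. -/
theorem mem_range_lTensor_of_forall_functional {D : Type v'} [AddCommGroup D] [Module k D]
    (i : C →ₗ[k] D) (x : V ⊗[k] D)
    (h : ∀ ψ : D →ₗ[k] k, ψ ∘ₗ i = 0 → TensorProduct.rid k V (ψ.lTensor V x) = 0) :
    x ∈ LinearMap.range (i.lTensor V) := by
  have hex : Function.Exact (i.lTensor V) ((LinearMap.range i).mkQ.lTensor V) :=
    lTensor_exact V (LinearMap.exact_map_mkQ_range i) (Submodule.mkQ_surjective _)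
  rw [LinearMap.mem_range]
  apply (hex x).mp
  apply eq_zero_of_forall_functional
  intro φ
  rw [← LinearMap.lTensor_comp_apply]
  apply h
  apply LinearMap.ext
  intro c
  simp only [LinearMap.comp_apply, Submodule.mkQ_apply, LinearMap.zero_apply]
  rw [(Submodule.Quotient.mk_eq_zero _).mpr (LinearMap.mem_range_self i c), map_zero]

/-- If all "slices" of `x ∈ V ⊗ C` lie in `K`, then `x` lies in the image of `K ⊗ C`. -/
theorem mem_range_rTensor_subtype_of_forall_functional (K : Submodule k V) (x : V ⊗[k] C)
    (h : ∀ φ : C →ₗ[k] k, TensorProduct.rid k V (φ.lTensor V x) ∈ K) :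
    x ∈ LinearMap.range (K.subtype.rTensor C) := by
  rw [mem_range_rTensor_subtype_iff]
  apply eq_zero_of_forall_functional
  intro φ
  have nat : ∀ z : V ⊗[k] C, TensorProduct.rid k (V ⧸ K) (φ.lTensor (V ⧸ K) (K.mkQ.rTensor C z)) =
      K.mkQ (TensorProduct.rid k V (φ.lTensor V z)) := by
    intro z
    induction z using TensorProduct.induction_on with
    | zero => simp
    | tmul v c => simp
    | add z₁ z₂ h₁ h₂ => simp only [map_add, h₁, h₂]
  rw [nat, Submodule.mkQ_apply, Submodule.Quotient.mk_eq_zero]
  exact h φ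

theorem lTensor_injective {D : Type v'} [AddCommGroup D] [Module k D]
    (i : C →ₗ[k] D) (hi : Function.Injective i) : Function.Injective (i.lTensor V) :=
  Module.Flat.lTensor_preserves_injective_linearMap i hi

theorem range_rTensor_subtype_mono {W₁ W₂ : Submodule k V} (h : W₁ ≤ W₂) :
    LinearMap.range (W₁.subtype.rTensor C) ≤ LinearMap.range (W₂.subtype.rTensor C) := by
  rintro _ ⟨y, rfl⟩
  refine ⟨(Submodule.inclusion h).rTensor C y, ?_⟩
  rw [← LinearMap.comp_apply, ← LinearMap.rTensor_comp]
  rfl

end Basic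

section Comod

variable {k : Type u} [Field k] {C : Type v} [AddCommGroup C] [Module k C] [Coalgebra k C]
variable {V : Type w} [AddCommGroup V] [Module k V] [HopfRep.Comod k C V]
variable {W : Type w'} [AddCommGroup W] [Module k W] [HopfRep.Comod k C W]

theorem IsComodHom.apply {f : V →ₗ[k] W} (hf : Hoch.IsComodHom C f) (v : V) :
    HopfRep.Comod.coact (k := k) (A := C) (f v) =
      f.rTensor C (HopfRep.Comod.coact (k := k) (A := C) v) :=
  LinearMap.congr_fun hf v

theorem IsComodHom.comp {X : Type w''} [AddCommGroup X] [Module k X] [HopfRep.Comod k C X]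
    {g : W →ₗ[k] X} {f : V →ₗ[k] W} (hg : Hoch.IsComodHom C g) (hf : Hoch.IsComodHom C f) :
    Hoch.IsComodHom C (g ∘ₗ f) := by
  apply LinearMap.ext
  intro v
  simp only [LinearMap.comp_apply]
  rw [IsComodHom.apply hg, IsComodHom.apply hf, LinearMap.rTensor_comp_apply]

/-- The kernel of a comodule map is a subcomodule. -/
theorem isSubcomod_ker {f : V →ₗ[k] W} (hf : Hoch.IsComodHom C f) :
    HopfRep.IsSubcomod (k := k) (A := C) (LinearMap.ker f) := by
  intro v hv
  rw [mem_range_rTensor_ker_iff, ← IsComodHom.apply hf, LinearMap.mem_ker.mp hv, map_zero]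

/-- The range of a comodule map is a subcomodule. -/
theorem isSubcomod_range {f : V →ₗ[k] W} (hf : Hoch.IsComodHom C f) :
    HopfRep.IsSubcomod (k := k) (A := C) (LinearMap.range f) := by
  rintro _ ⟨v, rfl⟩
  rw [IsComodHom.apply hf]
  refine ⟨f.rangeRestrict.rTensor C (HopfRep.Comod.coact (k := k) (A := C) v), ?_⟩
  rw [← LinearMap.comp_apply, ← LinearMap.rTensor_comp]
  rfl

/-- The preimage of a subcomodule under a comodule map is a subcomodule. -/
theorem isSubcomod_comap {f : V →ₗ[k] W} (hf : Hoch.IsComodHom C f) {U : Submodule k W}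
    (hU : HopfRep.IsSubcomod (k := k) (A := C) U) :
    HopfRep.IsSubcomod (k := k) (A := C) (U.comap f) := by
  intro v hv
  -- comap f U = ker (U.mkQ ∘ f)
  have e : U.comap f = LinearMap.ker (U.mkQ ∘ₗ f) := by
    ext x; simp [LinearMap.mem_ker, Submodule.Quotient.mk_eq_zero]
  rw [e, mem_range_rTensor_ker_iff, LinearMap.rTensor_comp, LinearMap.comp_apply,
    ← IsComodHom.apply hf, ← mem_range_rTensor_subtype_iff]
  exact hU _ hv

/-- The image of a subcomodule under a comodule map is a subcomodule. -/
theorem isSubcomod_map {f : V →ₗ[k] W} (hf : Hoch.IsComodHom C f) {U : Submodule k V}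
    (hU : HopfRep.IsSubcomod (k := k) (A := C) U) :
    HopfRep.IsSubcomod (k := k) (A := C) (U.map f) := by
  rintro _ ⟨u, hu, rfl⟩
  obtain ⟨y, hy⟩ := hU u hu
  rw [IsComodHom.apply hf, ← hy]
  let g : U →ₗ[k] U.map f :=
    (f.domRestrict U).codRestrict (U.map f) (fun u => ⟨u, u.2, rfl⟩)
  refine ⟨g.rTensor C y, ?_⟩
  rw [← LinearMap.rTensor_comp_apply, ← LinearMap.rTensor_comp_apply]
  rfl

theorem isSubcomod_bot : HopfRep.IsSubcomod (k := k) (A := C) (⊥ : Submodule k V) := by
  intro v hv
  rw [(Submodule.mem_bot k).mp hv, map_zero]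
  exact zero_mem _

theorem isSubcomod_top : HopfRep.IsSubcomod (k := k) (A := C) (⊤ : Submodule k V) := by
  intro v _
  rw [mem_range_rTensor_subtype_iff]
  have : (⊤ : Submodule k V).mkQ = 0 := by
    ext x; simp
  rw [this, LinearMap.rTensor_zero, LinearMap.zero_apply]

theorem isSubcomod_sup {U₁ U₂ : Submodule k V} (h₁ : HopfRep.IsSubcomod (k := k) (A := C) U₁)
    (h₂ : HopfRep.IsSubcomod (k := k) (A := C) U₂) :
    HopfRep.IsSubcomod (k := k) (A := C) (U₁ ⊔ U₂) := by
  intro v hv
  obtain ⟨a, ha, b, hb, rfl⟩ := Submodule.mem_sup.mp hv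
  rw [map_add]
  exact add_mem (range_rTensor_subtype_mono le_sup_left (h₁ a ha))
    (range_rTensor_subtype_mono le_sup_right (h₂ b hb))

theorem isSubcomod_iSup {ι : Sort*} {U : ι → Submodule k V}
    (h : ∀ i, HopfRep.IsSubcomod (k := k) (A := C) (U i)) :
    HopfRep.IsSubcomod (k := k) (A := C) (⨆ i, U i) := by
  intro v hv
  induction hv using Submodule.iSup_induction' with
  | mem i x hx => exact range_rTensor_subtype_mono (le_iSup U i) (h i x hx)
  | zero => rw [map_zero]; exact zero_mem _
  | add x y _ _ hx hy => rw [map_add]; exact add_mem hx hy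

/-- A bijective comodule map gives a comodule isomorphism; the inverse direction is not needed. -/
theorem exists_iso_of_range_le_iSup
    {n : ℕ} (K : Fin n → Type w'') [∀ i, AddCommGroup (K i)] [∀ i, Module k (K i)]
    [∀ i, HopfRep.Comod k C (K i)]
    (hK : ∀ i, HopfRep.IsSimpleComod k C (K i)) (g : ∀ i, K i →ₗ[k] V)
    (hg : ∀ i, Hoch.IsComodHom C (g i))
    (S : Type w') [AddCommGroup S] [Module k S] [HopfRep.Comod k C S]
    (hS : HopfRep.IsSimpleComod k C S)
    (f : S →ₗ[k] V) (hf : Hoch.IsComodHom C f) (hf0 : f ≠ 0)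
    (hle : LinearMap.range f ≤ ⨆ i, LinearMap.range (g i)) :
    ∃ (i : Fin n) (e : S ≃ₗ[k] K i), Hoch.IsComodHom C (e : S →ₗ[k] K i) := by
  classical
  let U : ℕ → Submodule k V := fun m => ⨆ i : {i : Fin n // i.val < m}, LinearMap.range (g i.1)
  have hU : ∀ m, HopfRep.IsSubcomod (k := k) (A := C) (U m) := fun m =>
    isSubcomod_iSup fun i => isSubcomod_range (hg i.1)
  have hUn : LinearMap.range f ≤ U n :=
    hle.trans (iSup_le fun i =>
      le_iSup (fun j : {i : Fin n // i.val < n} => LinearMap.range (g j.1)) ⟨i, i.2⟩)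
  have key : ∀ m, m ≤ n → LinearMap.range f ≤ U m →
      ∃ (i : Fin n) (e : S ≃ₗ[k] K i), Hoch.IsComodHom C (e : S →ₗ[k] K i) := by
    intro m
    induction m with
    | zero =>
      intro _ h0
      exfalso
      apply hf0
      have : U 0 = ⊥ := by
        haveI : IsEmpty {i : Fin n // i.val < 0} := ⟨fun i => Nat.not_lt_zero _ i.2⟩
        exact iSup_of_empty _
      rw [this] at h0
      exact LinearMap.range_eq_bot.mp (le_bot_iff.mp h0)
    | succ m ih =>
      intro hmn hfm
      by_cases hfm' : LinearMap.range f ≤ U m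
      · exact ih (Nat.le_of_succ_le hmn) hfm'
      · let i₀ : Fin n := ⟨m, hmn⟩
        have hUsucc : U (m + 1) ≤ U m ⊔ LinearMap.range (g i₀) := by
          refine iSup_le fun i => ?_
          rcases Nat.lt_succ_iff_lt_or_eq.mp i.2 with h | h
          · exact le_trans
              (le_iSup (fun j : {i : Fin n // i.val < m} => LinearMap.range (g j.1)) ⟨i.1, h⟩)
              le_sup_left
          · have : i.1 = i₀ := Fin.ext h
            rw [this]
            exact le_sup_right
        -- the two comap subcomodules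
        have hcf : (U m).comap f = ⊥ := by
          rcases hS.2 _ (isSubcomod_comap hf (hU m)) with h | h
          · exact h
          · exfalso
            apply hfm'
            rintro _ ⟨s, rfl⟩
            have : s ∈ (U m).comap f := by rw [h]; trivial
            exact this
        have hcg : (U m).comap (g i₀) = ⊥ := by
          rcases (hK i₀).2 _ (isSubcomod_comap (hg i₀) (hU m)) with h | h
          · exact h
          · exfalso
            apply hfm'
            have hr : LinearMap.range (g i₀) ≤ U m := by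
              rintro _ ⟨x, rfl⟩
              have : x ∈ (U m).comap (g i₀) := by rw [h]; trivial
              exact this
            exact hfm.trans (hUsucc.trans (sup_le le_rfl hr))
        let π : V →ₗ[k] V ⧸ U m := (U m).mkQ
        have hπg_inj : Function.Injective (π ∘ₗ g i₀) := by
          rw [← LinearMap.ker_eq_bot, ← hcg]
          ext x
          simp [π, LinearMap.mem_ker, Submodule.Quotient.mk_eq_zero]
        have hrange : ∀ s, (π ∘ₗ f) s ∈ LinearMap.range (π ∘ₗ g i₀) := by
          intro s
          have : f s ∈ U m ⊔ LinearMap.range (g i₀) := hUsucc (hfm ⟨s, rfl⟩)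
          obtain ⟨y, hy, _, ⟨x, rfl⟩, hyx⟩ := Submodule.mem_sup.mp this
          refine ⟨x, ?_⟩
          simp only [LinearMap.comp_apply, π, Submodule.mkQ_apply]
          rw [← hyx, Submodule.Quotient.mk_add, (Submodule.Quotient.mk_eq_zero _).mpr hy, zero_add]
        let e₀ : S →ₗ[k] K i₀ :=
          (LinearEquiv.ofInjective (π ∘ₗ g i₀) hπg_inj).symm.toLinearMap ∘ₗ
            LinearMap.codRestrict (LinearMap.range (π ∘ₗ g i₀)) (π ∘ₗ f) hrange
        have he₀ : ∀ s, π (g i₀ (e₀ s)) = π (f s) := by
          intro s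
          have := LinearEquiv.apply_symm_apply (LinearEquiv.ofInjective (π ∘ₗ g i₀) hπg_inj)
            (LinearMap.codRestrict (LinearMap.range (π ∘ₗ g i₀)) (π ∘ₗ f) hrange s)
          have h2 := congrArg Subtype.val this
          rw [LinearEquiv.ofInjective_apply] at h2
          exact h2
        have hdiff : ∀ s, g i₀ (e₀ s) - f s ∈ U m := by
          intro s
          have := he₀ s
          rw [← sub_eq_zero, ← map_sub] at this
          exact (Submodule.Quotient.mk_eq_zero _).mp this
        have he₀_inj : Function.Injective e₀ := by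
          rw [← LinearMap.ker_eq_bot, eq_bot_iff]
          intro s hs
          rw [LinearMap.mem_ker] at hs
          have h1 := hdiff s
          rw [hs, map_zero, zero_sub, neg_mem_iff] at h1
          have : s ∈ (U m).comap f := h1
          rw [hcf] at this
          exact this
        have he₀_comod : Hoch.IsComodHom C e₀ := by
          apply LinearMap.ext
          intro s
          have hinj : Function.Injective ((π ∘ₗ g i₀).rTensor C) :=
            rTensor_injective _ hπg_inj
          apply hinj
          simp only [LinearMap.comp_apply]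
          have e1 : ((π ∘ₗ g i₀).rTensor C) (HopfRep.Comod.coact (k := k) (A := C) (e₀ s)) =
              (π.rTensor C) (HopfRep.Comod.coact (k := k) (A := C) (g i₀ (e₀ s))) := by
            rw [LinearMap.rTensor_comp, LinearMap.comp_apply, ← IsComodHom.apply (hg i₀)]
          have e2 : ((π ∘ₗ g i₀).rTensor C) ((e₀.rTensor C)
              (HopfRep.Comod.coact (k := k) (A := C) s)) =
              (π.rTensor C) (HopfRep.Comod.coact (k := k) (A := C) (f s)) := by
            have hc : (π ∘ₗ g i₀) ∘ₗ e₀ = π ∘ₗ f := by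
              apply LinearMap.ext
              intro t
              exact he₀ t
            rw [IsComodHom.apply hf, ← LinearMap.rTensor_comp_apply, ← LinearMap.rTensor_comp_apply,
              hc]
          rw [e1, e2, ← sub_eq_zero, ← map_sub, ← map_sub, ← mem_range_rTensor_subtype_iff]
          exact hU m _ (hdiff s)
        have he₀_surj : Function.Surjective e₀ := by
          rw [← LinearMap.range_eq_top]
          rcases (hK i₀).2 _ (isSubcomod_range he₀_comod) with h | h
          · exfalso
            have h0 : e₀ = 0 := LinearMap.range_eq_bot.mp h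
            haveI := hS.1
            obtain ⟨s, hs⟩ := exists_ne (0 : S)
            apply hs
            apply he₀_inj
            rw [h0, LinearMap.zero_apply, LinearMap.zero_apply]
          · exact h
        exact ⟨i₀, LinearEquiv.ofBijective e₀ ⟨he₀_inj, he₀_surj⟩, he₀_comod⟩
  exact key n le_rfl hUn

/-- Version of `exists_iso_of_range_le_iSup` for an arbitrary index type. -/
theorem exists_iso_of_range_le_iSup'
    {β : Type*} (K : β → Type w'') [∀ i, AddCommGroup (K i)] [∀ i, Module k (K i)]
    [∀ i, HopfRep.Comod k C (K i)]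
    (hK : ∀ i, HopfRep.IsSimpleComod k C (K i)) (g : ∀ i, K i →ₗ[k] V)
    (hg : ∀ i, Hoch.IsComodHom C (g i))
    (S : Type w') [AddCommGroup S] [Module k S] [HopfRep.Comod k C S]
    (hS : HopfRep.IsSimpleComod k C S)
    (f : S →ₗ[k] V) (hf : Hoch.IsComodHom C f) (hf0 : f ≠ 0)
    (hle : LinearMap.range f ≤ ⨆ i, LinearMap.range (g i)) :
    ∃ (i : β) (e : S ≃ₗ[k] K i), Hoch.IsComodHom C (e : S →ₗ[k] K i) := by
  classical
  obtain ⟨s, hs⟩ : ∃ s, f s ≠ 0 := by
    by_contra hcon
    push Not at hcon
    exact hf0 (LinearMap.ext hcon)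
  have hs0 : s ≠ 0 := by
    rintro rfl
    exact hs (map_zero f)
  obtain ⟨T, hT⟩ := (Submodule.mem_iSup_iff_exists_finset).mp (hle ⟨s, rfl⟩)
  have hUT : HopfRep.IsSubcomod (k := k) (A := C) (⨆ i ∈ T, LinearMap.range (g i)) :=
    isSubcomod_iSup fun i => isSubcomod_iSup fun _ => isSubcomod_range (hg i)
  have htop : (⨆ i ∈ T, LinearMap.range (g i)).comap f = ⊤ := by
    rcases hS.2 _ (isSubcomod_comap hf hUT) with h | h
    · exfalso
      have : s ∈ (⨆ i ∈ T, LinearMap.range (g i)).comap f := hT
      rw [h] at this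
      exact hs0 this
    · exact h
  have hle' : LinearMap.range f ≤
      ⨆ a : Fin T.card, LinearMap.range (g (T.equivFin.symm a).1) := by
    rintro _ ⟨t, rfl⟩
    have ht : t ∈ (⨆ i ∈ T, LinearMap.range (g i)).comap f := by rw [htop]; trivial
    refine (iSup₂_le (fun b hb => ?_) : (⨆ i ∈ T, LinearMap.range (g i)) ≤ _) ht
    have hc : ∀ c : {x // x ∈ T}, LinearMap.range (g c.1) ≤
        ⨆ a : Fin T.card, LinearMap.range (g (T.equivFin.symm a).1) := by
      intro c
      obtain ⟨a, rfl⟩ := T.equivFin.symm.surjective c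
      exact le_iSup (fun a : Fin T.card => LinearMap.range (g (T.equivFin.symm a).1)) a
    exact hc ⟨b, hb⟩
  obtain ⟨a, e, he⟩ := exists_iso_of_range_le_iSup (fun a : Fin T.card => K (T.equivFin.symm a).1)
    (fun a => hK _) (fun a => g _) (fun a => hg _) S hS f hf hf0 hle'
  exact ⟨_, e, he⟩

/-- Core step for independence of isotypic components. -/
theorem sup_range_inf_eq_bot {P Q : Submodule k V}
    (hP : HopfRep.IsSubcomod (k := k) (A := C) P) (hQ : HopfRep.IsSubcomod (k := k) (A := C) Q)
    (hPQ : P ⊓ Q = ⊥)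
    (S : Type w') [AddCommGroup S] [Module k S] [HopfRep.Comod k C S]
    (hS : HopfRep.IsSimpleComod k C S)
    (f : S →ₗ[k] V) (hf : Hoch.IsComodHom C f)
    (hno : ∀ h : S →ₗ[k] V, Hoch.IsComodHom C h → LinearMap.range h ≤ Q → h = 0) :
    (P ⊔ LinearMap.range f) ⊓ Q = ⊥ := by
  classical
  rw [eq_bot_iff]
  rintro x ⟨hx1, hx2⟩
  obtain ⟨p, hp, _, ⟨s, rfl⟩, rfl⟩ := Submodule.mem_sup.mp hx1
  rw [Submodule.mem_bot]
  have hPQsub : HopfRep.IsSubcomod (k := k) (A := C) (P ⊔ Q) := isSubcomod_sup hP hQ
  have hsN : s ∈ (P ⊔ Q).comap f := by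
    show f s ∈ P ⊔ Q
    have : f s = (p + f s) - p := by abel
    rw [this]
    exact sub_mem (Submodule.mem_sup_right hx2) (Submodule.mem_sup_left hp)
  have hfin : f s ∈ P → p + f s = 0 := by
    intro hfs
    have : p + f s ∈ P ⊓ Q := ⟨add_mem hp hfs, hx2⟩
    rw [hPQ] at this
    exact this
  rcases hS.2 _ (isSubcomod_comap hf hPQsub) with hN | hN
  · rw [hN] at hsN
    have hs0 : s = 0 := hsN
    apply hfin
    rw [hs0, map_zero]
    exact zero_mem _
  · -- range f ≤ P ⊔ Q
    let π : V →ₗ[k] V ⧸ P := P.mkQ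
    have hπQ_inj : Function.Injective (π ∘ₗ Q.subtype) := by
      rw [← LinearMap.ker_eq_bot, eq_bot_iff]
      intro q hq
      rw [LinearMap.mem_ker] at hq
      simp only [LinearMap.comp_apply, π, Submodule.mkQ_apply, Submodule.subtype_apply,
        Submodule.Quotient.mk_eq_zero] at hq
      have : (q : V) ∈ P ⊓ Q := ⟨hq, q.2⟩
      rw [hPQ] at this
      rw [Submodule.mem_bot]
      exact Subtype.ext this
    have hrange : ∀ t, (π ∘ₗ f) t ∈ LinearMap.range (π ∘ₗ Q.subtype) := by
      intro t
      have ht : t ∈ (P ⊔ Q).comap f := by rw [hN]; trivial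
      obtain ⟨y, hy, q, hq, hyq⟩ := Submodule.mem_sup.mp ht
      refine ⟨⟨q, hq⟩, ?_⟩
      simp only [LinearMap.comp_apply, π, Submodule.mkQ_apply, Submodule.subtype_apply]
      rw [← hyq, Submodule.Quotient.mk_add, (Submodule.Quotient.mk_eq_zero _).mpr hy, zero_add]
    let h₀ : S →ₗ[k] Q :=
      (LinearEquiv.ofInjective (π ∘ₗ Q.subtype) hπQ_inj).symm.toLinearMap ∘ₗ
        LinearMap.codRestrict (LinearMap.range (π ∘ₗ Q.subtype)) (π ∘ₗ f) hrange
    let h : S →ₗ[k] V := Q.subtype ∘ₗ h₀
    have hh : ∀ t, π (h t) = π (f t) := by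
      intro t
      have := LinearEquiv.apply_symm_apply (LinearEquiv.ofInjective (π ∘ₗ Q.subtype) hπQ_inj)
        (LinearMap.codRestrict (LinearMap.range (π ∘ₗ Q.subtype)) (π ∘ₗ f) hrange t)
      have h2 := congrArg Subtype.val this
      rw [LinearEquiv.ofInjective_apply] at h2
      exact h2
    have hdiff : ∀ t, h t - f t ∈ P := by
      intro t
      have := hh t
      rw [← sub_eq_zero, ← map_sub] at this
      exact (Submodule.Quotient.mk_eq_zero _).mp this
    have hhQ : LinearMap.range h ≤ Q := by
      rintro _ ⟨t, rfl⟩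
      exact (h₀ t).2
    have hh_comod : Hoch.IsComodHom C h := by
      apply LinearMap.ext
      intro t
      simp only [LinearMap.comp_apply]
      obtain ⟨y₁, hy₁⟩ := hQ (h t) (hhQ ⟨t, rfl⟩)
      have hy₂ : (Q.subtype.rTensor C) ((h₀.rTensor C)
          (HopfRep.Comod.coact (k := k) (A := C) t)) =
          (h.rTensor C) (HopfRep.Comod.coact (k := k) (A := C) t) := by
        rw [← LinearMap.rTensor_comp_apply]
      rw [← hy₁, ← hy₂]
      congr 1
      have hinj : Function.Injective ((π ∘ₗ Q.subtype).rTensor C) :=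
        rTensor_injective _ hπQ_inj
      apply hinj
      rw [LinearMap.rTensor_comp_apply, LinearMap.rTensor_comp_apply, hy₁, hy₂,
        ← LinearMap.rTensor_comp_apply]
      have hc : π ∘ₗ h = π ∘ₗ f := by
        apply LinearMap.ext
        intro t'
        exact hh t'
      rw [hc, LinearMap.rTensor_comp_apply, ← IsComodHom.apply hf, ← sub_eq_zero, ← map_sub,
        ← map_sub, ← mem_range_rTensor_subtype_iff]
      exact hP _ (hdiff t)
    have h0 : h = 0 := hno h hh_comod hhQ
    apply hfin
    have := hdiff s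
    rw [h0, LinearMap.zero_apply, zero_sub, neg_mem_iff] at this
    exact this

end Comod

end Groth.Agent.Helper9
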