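import Groth.Prelude.Def_Hoch
import Groth.Agent.Helper9.Comod
import Mathlib
set_option autoImplicit false
universe u v w
open TensorProduct

namespace Groth.Agent.Helper9.Integral

variable {k : Type u} [Field k] {A : Type v} [CommRing A] [HopfAlgebra k A]
variable {V : Type w} [AddCommGroup V] [Module k V] [HopfRep.Comod k A V]

local notation "ρ" => (HopfRep.Comod.coact (k := k) (A := A) (V := V))
local notation "Δ" => (Coalgebra.comul (R := k) (A := A))
local notation "ε" => (Coalgebra.counit (R := k) (A := A))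
local notation "μ" => (LinearMap.mul' k A)
local notation "𝑺" => (HopfAlgebra.antipode k (A := A))
local notation "mR" => (LinearMap.mulRight k (A := A))

variable (k A V) in
/-- `v ⊗ a ↦ Σ v₀ ⊗ v₁ a`. -/
noncomputable def theta : V ⊗[k] A →ₗ[k] V ⊗[k] A :=
  (μ).lTensor V ∘ₗ (TensorProduct.assoc k V A A).toLinearMap ∘ₗ (ρ).rTensor A

variable (k A V) in
/-- `v ⊗ a ↦ Σ v₀ ⊗ S(v₁) a`. -/
noncomputable def theta' : V ⊗[k] A →ₗ[k] V ⊗[k] A :=
  (μ).lTensor V ∘ₗ ((𝑺).rTensor A).lTensor V ∘ₗ (TensorProduct.assoc k V A A).toLinearMap ∘ₗ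
    (ρ).rTensor A

lemma coassoc_apply (v : V) :
    (ρ).rTensor A (ρ v) = (TensorProduct.assoc k V A A).symm ((Δ).lTensor V (ρ v)) := by
  have := LinearMap.congr_fun (HopfRep.Comod.coassoc (k := k) (A := A) (V := V)) v
  simp only [LinearMap.comp_apply, LinearEquiv.coe_coe] at this
  rw [← this, LinearEquiv.symm_apply_apply]

lemma counit_apply (v : V) : (ε).lTensor V (ρ v) = v ⊗ₜ[k] (1 : k) := by
  have := LinearMap.congr_fun (HopfRep.Comod.counit_comp (k := k) (A := A) (V := V)) v
  simpa using this

lemma theta_gen (a : A) (z : V ⊗[k] A) :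
    (μ).lTensor V ((TensorProduct.assoc k V A A) (z ⊗ₜ[k] a)) = (mR a).lTensor V z := by
  induction z using TensorProduct.induction_on with
  | zero => simp
  | add x y hx hy => simp only [TensorProduct.add_tmul, map_add, hx, hy]
  | tmul w b => simp

lemma theta_tmul (v : V) (a : A) : theta k A V (v ⊗ₜ a) = (mR a).lTensor V (ρ v) := by
  simp only [theta, LinearMap.comp_apply, LinearMap.rTensor_tmul, LinearEquiv.coe_coe]
  exact theta_gen a (ρ v)

lemma theta'_gen (a : A) (z : V ⊗[k] A) :
    (μ).lTensor V (((𝑺).rTensor A).lTensor V ((TensorProduct.assoc k V A A) (z ⊗ₜ[k] a))) =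
      (mR a ∘ₗ 𝑺).lTensor V z := by
  induction z using TensorProduct.induction_on with
  | zero => simp
  | add x y hx hy => simp only [TensorProduct.add_tmul, map_add, hx, hy]
  | tmul w b => simp

lemma theta'_tmul (v : V) (a : A) :
    theta' k A V (v ⊗ₜ a) = (mR a ∘ₗ 𝑺).lTensor V (ρ v) := by
  simp only [theta', LinearMap.comp_apply, LinearMap.rTensor_tmul, LinearEquiv.coe_coe]
  exact theta'_gen a (ρ v)

/-! ### `θ ∘ θ' = id` -/

lemma A_step1 (a : A) (z : V ⊗[k] A) :
    theta k A V ((mR a ∘ₗ 𝑺).lTensor V z) =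
      (μ).lTensor V ((TensorProduct.assoc k V A A)
        ((mR a ∘ₗ 𝑺).lTensor (V ⊗[k] A) ((ρ).rTensor A z))) := by
  induction z using TensorProduct.induction_on with
  | zero => simp
  | add x y hx hy => simp only [map_add, hx, hy]
  | tmul w b => simp [theta]

omit [HopfRep.Comod k A V] in
lemma A_step2 (f : A →ₗ[k] A) (y : V ⊗[k] (A ⊗[k] A)) :
    (μ).lTensor V ((TensorProduct.assoc k V A A)
        (f.lTensor (V ⊗[k] A) ((TensorProduct.assoc k V A A).symm y))) =
      ((μ) ∘ₗ f.lTensor A).lTensor V y := by
  induction y using TensorProduct.induction_on with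
  | zero => simp
  | add x y hx hy => simp only [map_add, hx, hy]
  | tmul w t =>
    induction t using TensorProduct.induction_on with
    | zero => simp
    | add x y hx hy => simp only [TensorProduct.tmul_add, map_add, hx, hy]
    | tmul b b' => simp

lemma A_step3_gen (a : A) (t : A ⊗[k] A) :
    (μ) ((mR a ∘ₗ 𝑺).lTensor A t) = (μ) ((𝑺).lTensor A t) * a := by
  induction t using TensorProduct.induction_on with
  | zero => simp
  | add x y hx hy => simp only [map_add, hx, hy, add_mul]
  | tmul b b' => simp [mul_assoc]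

lemma A_step3 (a : A) (c : A) :
    (μ) ((mR a ∘ₗ 𝑺).lTensor A (Δ c)) = (ε c) • a := by
  rw [A_step3_gen, HopfAlgebra.mul_antipode_lTensor_comul_apply, Algebra.smul_def]

lemma A_step4 (a : A) :
    ((μ) ∘ₗ (mR a ∘ₗ 𝑺).lTensor A ∘ₗ (Δ)) = (LinearMap.toSpanSingleton k A a) ∘ₗ (ε) := by
  apply LinearMap.ext
  intro c
  simp only [LinearMap.comp_apply, LinearMap.toSpanSingleton_apply]
  exact A_step3 a c

theorem theta_theta' (x : V ⊗[k] A) : theta k A V (theta' k A V x) = x := by
  induction x using TensorProduct.induction_on with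
  | zero => simp
  | add x y hx hy => simp only [map_add, hx, hy]
  | tmul v a =>
    rw [theta'_tmul, A_step1, coassoc_apply, A_step2, ← LinearMap.lTensor_comp_apply,
      LinearMap.comp_assoc, A_step4, LinearMap.lTensor_comp_apply, counit_apply]
    simp

/-! ### `θ' ∘ θ = id` -/

lemma A'_step1 (a : A) (z : V ⊗[k] A) :
    theta' k A V ((mR a).lTensor V z) =
      (μ).lTensor V (((𝑺).rTensor A).lTensor V ((TensorProduct.assoc k V A A)
        ((mR a).lTensor (V ⊗[k] A) ((ρ).rTensor A z)))) := by
  induction z using TensorProduct.induction_on with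
  | zero => simp
  | add x y hx hy => simp only [map_add, hx, hy]
  | tmul w b => simp [theta']

omit [HopfRep.Comod k A V] in
lemma A'_step2 (f : A →ₗ[k] A) (y : V ⊗[k] (A ⊗[k] A)) :
    (μ).lTensor V (((𝑺).rTensor A).lTensor V ((TensorProduct.assoc k V A A)
        (f.lTensor (V ⊗[k] A) ((TensorProduct.assoc k V A A).symm y)))) =
      ((μ) ∘ₗ (𝑺).rTensor A ∘ₗ f.lTensor A).lTensor V y := by
  induction y using TensorProduct.induction_on with
  | zero => simp
  | add x y hx hy => simp only [map_add, hx, hy]
  | tmul w t =>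
    induction t using TensorProduct.induction_on with
    | zero => simp
    | add x y hx hy => simp only [TensorProduct.tmul_add, map_add, hx, hy]
    | tmul b b' => simp

lemma A'_step3_gen (a : A) (t : A ⊗[k] A) :
    (μ) ((𝑺).rTensor A ((mR a).lTensor A t)) = (μ) ((𝑺).rTensor A t) * a := by
  induction t using TensorProduct.induction_on with
  | zero => simp
  | add x y hx hy => simp only [map_add, hx, hy, add_mul]
  | tmul b b' => simp [mul_assoc]

lemma A'_step4 (a : A) :
    ((μ) ∘ₗ (𝑺).rTensor A ∘ₗ (mR a).lTensor A ∘ₗ (Δ)) =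
      (LinearMap.toSpanSingleton k A a) ∘ₗ (ε) := by
  apply LinearMap.ext
  intro c
  simp only [LinearMap.comp_apply, LinearMap.toSpanSingleton_apply]
  rw [A'_step3_gen, HopfAlgebra.mul_antipode_rTensor_comul_apply, Algebra.smul_def]

theorem theta'_theta (x : V ⊗[k] A) : theta' k A V (theta k A V x) = x := by
  induction x using TensorProduct.induction_on with
  | zero => simp
  | add x y hx hy => simp only [map_add, hx, hy]
  | tmul v a =>
    rw [theta_tmul, A'_step1, coassoc_apply, A'_step2, ← LinearMap.lTensor_comp_apply,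
      LinearMap.comp_assoc, LinearMap.comp_assoc, A'_step4, LinearMap.lTensor_comp_apply,
      counit_apply]
    simp

/-! ### module structures -/

variable (k A V) in
/-- `a ↦ (x ↦ x · a)` on `V ⊗ A` -/
noncomputable def actRL : A →ₗ[k] Module.End k (V ⊗[k] A) :=
  (LinearMap.lTensorHom V) ∘ₗ (LinearMap.mul k A).flip

omit [HopfRep.Comod k A V] in
lemma actRL_apply (a : A) : actRL k A V a = (mR a).lTensor V := by
  apply TensorProduct.ext'
  intro v b
  simp [actRL, mul_comm]

variable (k A V) in
/-- `a' ⊗ a'' ↦ ((w ⊗ b) ⊗ b' ↦ (w ⊗ b a') ⊗ b' a'')` -/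
noncomputable def act2 : A ⊗[k] A →ₗ[k] Module.End k ((V ⊗[k] A) ⊗[k] A) :=
  TensorProduct.homTensorHomMap (.id k) (V ⊗[k] A) A (V ⊗[k] A) A ∘ₗ
    TensorProduct.map (actRL k A V) (LinearMap.mul k A).flip

omit [HopfRep.Comod k A V] in
lemma act2_tmul (a' a'' : A) (x : V ⊗[k] A) (b : A) :
    act2 k A V (a' ⊗ₜ a'') (x ⊗ₜ b) = ((mR a').lTensor V x) ⊗ₜ (b * a'') := by
  simp [act2, actRL_apply, mul_comm]

lemma M1 (a : A) (x : V ⊗[k] A) :
    theta k A V ((mR a).lTensor V x) = (mR a).lTensor V (theta k A V x) := by
  induction x using TensorProduct.induction_on with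
  | zero => simp
  | add x y hx hy => simp only [map_add, hx, hy]
  | tmul w b =>
    simp only [LinearMap.lTensor_tmul, LinearMap.mulRight_apply, theta_tmul]
    rw [← LinearMap.lTensor_comp_apply]
    congr 2
    apply LinearMap.ext
    intro c
    simp [mul_assoc]

omit [HopfRep.Comod k A V] in
lemma M2_gen (w : V) (s t : A ⊗[k] A) :
    (TensorProduct.assoc k V A A).symm (w ⊗ₜ (s * t)) =
      act2 k A V t ((TensorProduct.assoc k V A A).symm (w ⊗ₜ s)) := by
  induction s using TensorProduct.induction_on with
  | zero => simp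
  | add x y hx hy => simp only [add_mul, TensorProduct.tmul_add, map_add, hx, hy]
  | tmul b b' =>
    induction t using TensorProduct.induction_on with
    | zero => simp
    | add x y hx hy => simp only [mul_add, TensorProduct.tmul_add, map_add, hx, hy,
        LinearMap.add_apply]
    | tmul a' a'' =>
      simp [act2_tmul]

omit [HopfRep.Comod k A V] in
lemma M2 (a : A) (z : V ⊗[k] A) :
    (TensorProduct.assoc k V A A).symm ((Δ).lTensor V ((mR a).lTensor V z)) =
      act2 k A V (Δ a) ((TensorProduct.assoc k V A A).symm ((Δ).lTensor V z)) := by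
  induction z using TensorProduct.induction_on with
  | zero => simp
  | add x y hx hy => simp only [map_add, hx, hy]
  | tmul w b =>
    simp only [LinearMap.lTensor_tmul, LinearMap.mulRight_apply, Bialgebra.comul_mul]
    exact M2_gen w _ _

lemma M3 (t : A ⊗[k] A) (y : (V ⊗[k] A) ⊗[k] A) :
    (theta k A V).rTensor A (act2 k A V t y) = act2 k A V t ((theta k A V).rTensor A y) := by
  induction t using TensorProduct.induction_on with
  | zero => simp
  | add x y hx hy => simp only [map_add, hx, hy, LinearMap.add_apply]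
  | tmul a' a'' =>
    induction y using TensorProduct.induction_on with
    | zero => simp
    | add x y hx hy => simp only [map_add, hx, hy]
    | tmul x b =>
      simp only [act2_tmul, LinearMap.rTensor_tmul, M1]

/-! ### the retraction -/

variable (k A V) in
/-- `w ↦ w ⊗ 1` -/
noncomputable def iota1 : V →ₗ[k] V ⊗[k] A := (TensorProduct.mk k V A).flip 1

lemma theta_iota1 (v : V) : theta k A V (iota1 k A V v) = ρ v := by
  simp only [iota1, LinearMap.flip_apply, TensorProduct.mk_apply, theta_tmul]
  have : mR (1 : A) = LinearMap.id := by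
    apply LinearMap.ext; intro c; simp
  rw [this, LinearMap.lTensor_id, LinearMap.id_apply]

lemma F3 (v : V) (a : A) :
    (TensorProduct.assoc k V A A).symm ((Δ).lTensor V (theta k A V (v ⊗ₜ a))) =
      (theta k A V).rTensor A (act2 k A V (Δ a) ((iota1 k A V).rTensor A (ρ v))) := by
  rw [theta_tmul, M2, ← coassoc_apply, M3, ← LinearMap.rTensor_comp_apply]
  have : theta k A V ∘ₗ iota1 k A V = ρ := by
    apply LinearMap.ext
    intro w
    simp only [LinearMap.comp_apply, theta_iota1]
  rw [this]

variable (α : A →ₗ[k] k)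

variable (V) in
/-- `w ⊗ b ↦ α(b) w` -/
noncomputable def rAlpha : V ⊗[k] A →ₗ[k] V :=
  (TensorProduct.rid k V).toLinearMap ∘ₗ α.lTensor V

omit [HopfRep.Comod k A V] in
lemma F4_gen (t : A ⊗[k] A) (z : V ⊗[k] A) :
    (rAlpha V α).rTensor A (act2 k A V t ((iota1 k A V).rTensor A z)) =
      (mR (TensorProduct.lid k A (α.rTensor A t))).lTensor V z := by
  induction t using TensorProduct.induction_on with
  | zero => simp
  | add x y hx hy =>
    simp only [map_add, LinearMap.add_apply, hx, hy]
    have : mR ((TensorProduct.lid k A) ((LinearMap.rTensor A α) x) +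
        (TensorProduct.lid k A) ((LinearMap.rTensor A α) y)) =
        mR ((TensorProduct.lid k A) ((LinearMap.rTensor A α) x)) +
        mR ((TensorProduct.lid k A) ((LinearMap.rTensor A α) y)) := by
      apply LinearMap.ext; intro c; simp [mul_add]
    rw [this, LinearMap.lTensor_add, LinearMap.add_apply]
  | tmul a' a'' =>
    induction z using TensorProduct.induction_on with
    | zero => simp
    | add x y hx hy => simp only [map_add, hx, hy]
    | tmul w b =>
      simp [act2_tmul, iota1, rAlpha, TensorProduct.smul_tmul]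

variable (hα : @Hoch.IsComodHom k _ A _ _ _ A _ _ _ k _ _ (HopfRep.Comod.trivial k A k) α)

include hα in
lemma alpha_inv (a : A) : TensorProduct.lid k A (α.rTensor A (Δ a)) = α a • (1 : A) := by
  have := LinearMap.congr_fun hα a
  simp only [LinearMap.comp_apply] at this
  have h2 : (HopfRep.Comod.coact (k := k) (A := A) (V := A)) = Δ := rfl
  rw [h2] at this
  rw [← this]
  show TensorProduct.lid k A ((TensorProduct.mk k k A).flip 1 (α a)) = _
  simp

include hα in
lemma F4 (v : V) (a : A) :
    (rAlpha V α).rTensor A (act2 k A V (Δ a) ((iota1 k A V).rTensor A (ρ v))) = α a • ρ v := by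
  rw [F4_gen, alpha_inv α hα]
  have : mR (α a • (1 : A)) = α a • LinearMap.id := by
    apply LinearMap.ext; intro c; simp
  rw [this, LinearMap.lTensor_smul, LinearMap.lTensor_id]
  simp

variable (V) in
/-- the retraction `r : V ⊗ A → V`, `v ⊗ a ↦ Σ v₀ α(S(v₁) a)` -/
noncomputable def retr : V ⊗[k] A →ₗ[k] V := rAlpha V α ∘ₗ theta' k A V

lemma retr_theta (y : V ⊗[k] A) : retr V α (theta k A V y) = rAlpha V α y := by
  simp only [retr, LinearMap.comp_apply, theta'_theta]

include hα in
/-- `r` is a comodule map from the cofree comodule. -/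
theorem retr_comod (x : V ⊗[k] A) :
    ρ (retr V α x) =
      (retr V α).rTensor A ((TensorProduct.assoc k V A A).symm ((Δ).lTensor V x)) := by
  rw [← theta_theta' x]
  generalize theta' k A V x = y
  induction y using TensorProduct.induction_on with
  | zero => simp
  | add x y hx hy => simp only [map_add, hx, hy]
  | tmul v a =>
    have h3 : retr V α ∘ₗ theta k A V = rAlpha V α := by
      apply LinearMap.ext
      intro y
      rw [LinearMap.comp_apply, retr_theta]
    have h4 : rAlpha V α (v ⊗ₜ[k] a) = α a • v := by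
      simp [rAlpha]
    rw [retr_theta, F3, ← LinearMap.rTensor_comp_apply, h3, F4 α hα, h4, map_smul]

theorem retr_coact (h1 : α 1 = 1) (v : V) : retr V α (ρ v) = v := by
  rw [← theta_iota1, retr_theta]
  simp [rAlpha, iota1, h1]

/-! ### semisimplicity -/

omit [HopfRep.Comod k A V] in
lemma assoc_symm_nat (P : V →ₗ[k] V) (y : V ⊗[k] (A ⊗[k] A)) :
    (TensorProduct.assoc k V A A).symm (P.rTensor (A ⊗[k] A) y) =
      (P.rTensor A).rTensor A ((TensorProduct.assoc k V A A).symm y) := by
  induction y using TensorProduct.induction_on with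
  | zero => simp
  | add x y hx hy => simp only [map_add, hx, hy]
  | tmul w t =>
    induction t using TensorProduct.induction_on with
    | zero => simp
    | add x y hx hy => simp only [TensorProduct.tmul_add, map_add, hx, hy]
    | tmul b b' => simp

omit [HopfRep.Comod k A V] in
lemma rAlpha_mem (W : Submodule k V) (f : A →ₗ[k] A) (y : W ⊗[k] A) :
    rAlpha V α (f.lTensor V (W.subtype.rTensor A y)) ∈ W := by
  induction y using TensorProduct.induction_on with
  | zero => simp
  | add x y hx hy =>
    simp only [map_add]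
    exact W.add_mem hx hy
  | tmul w b =>
    simp only [LinearMap.rTensor_tmul, Submodule.subtype_apply, LinearMap.lTensor_tmul, rAlpha,
      LinearMap.comp_apply, LinearEquiv.coe_coe, TensorProduct.rid_tmul]
    exact W.smul_mem _ w.2

lemma retr_mem (W : Submodule k V) (hW : HopfRep.IsSubcomod (k := k) (A := A) W)
    (y : W ⊗[k] A) : retr V α (W.subtype.rTensor A y) ∈ W := by
  induction y using TensorProduct.induction_on with
  | zero => simp
  | add x y hx hy =>
    simp only [map_add]
    exact W.add_mem hx hy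
  | tmul w b =>
    obtain ⟨y', hy'⟩ := hW w.1 w.2
    simp only [LinearMap.rTensor_tmul, Submodule.subtype_apply, retr, LinearMap.comp_apply,
      theta'_tmul]
    rw [← hy']
    exact rAlpha_mem α W _ y'

include hα in
theorem semisimple (h1 : α 1 = 1) : HopfRep.IsSemisimpleComod k A V := by
  intro W hW
  obtain ⟨W₀, hW₀⟩ := Submodule.exists_isCompl W
  let p : V →ₗ[k] W := Submodule.projectionOnto W W₀ hW₀
  let P : V →ₗ[k] V := W.subtype ∘ₗ p
  let pt : V →ₗ[k] V := retr V α ∘ₗ P.rTensor A ∘ₗ ρ
  have hPι : P ∘ₗ W.subtype = W.subtype := by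
    apply LinearMap.ext
    intro w
    simp only [LinearMap.comp_apply, Submodule.subtype_apply, P, p]
    rw [Submodule.projectionOnto_apply_left]
  -- (a) comodule map
  have ha : Hoch.IsComodHom A pt := by
    apply LinearMap.ext
    intro v
    simp only [LinearMap.comp_apply, pt]
    rw [retr_comod α hα, ← LinearMap.comp_apply ((Δ).lTensor V) (P.rTensor A),
      LinearMap.lTensor_comp_rTensor, ← LinearMap.rTensor_comp_lTensor, LinearMap.comp_apply,
      assoc_symm_nat, ← coassoc_apply, ← LinearMap.rTensor_comp_apply,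
      ← LinearMap.rTensor_comp_apply]
    rfl
  -- (b) range in W
  have hb : ∀ v, pt v ∈ W := by
    intro v
    simp only [LinearMap.comp_apply, pt, P]
    rw [LinearMap.rTensor_comp_apply]
    exact retr_mem α W hW _
  -- (c) identity on W
  have hc : ∀ w : W, pt w.1 = w.1 := by
    intro w
    obtain ⟨y', hy'⟩ := hW w.1 w.2
    simp only [LinearMap.comp_apply, pt]
    rw [← hy', ← LinearMap.rTensor_comp_apply, hPι, hy', retr_coact α h1]
  refine ⟨LinearMap.ker pt, isSubcomod_ker ha, ?_⟩
  let f : V →ₗ[k] W := pt.codRestrict W hb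
  have hf : ∀ w : W, f w = w := fun w => Subtype.ext (hc w)
  have := LinearMap.isCompl_of_proj hf
  rwa [LinearMap.ker_codRestrict] at this

end Groth.Agent.Helper9.Integral
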