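import Groth.Prelude.Def_Hoch
import Groth.Agent.Helper9.Integral
import Mathlib
set_option autoImplicit false
universe u v
open TensorProduct

namespace Groth.Agent.Helper9.IntegralBC

variable {k : Type u} {K : Type u} {A : Type u} [Field k] [Field K] [Algebra k K] [CommRing A]
  [HopfAlgebra k A]

/-- a total integral: a comodule map `A → k` (trivial comodule) with `α 1 = 1` -/
def IsTotalIntegral (k : Type u) (A : Type v) [Field k] [CommRing A] [HopfAlgebra k A]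
    (α : A →ₗ[k] k) : Prop :=
  @Hoch.IsComodHom k _ A _ _ _ A _ _ _ k _ _ (HopfRep.Comod.trivial k A k) α ∧ α 1 = 1

lemma isTotalIntegral_iff {k : Type u} {A : Type v} [Field k] [CommRing A] [HopfAlgebra k A]
    (α : A →ₗ[k] k) :
    IsTotalIntegral k A α ↔ (∀ a : A, α.rTensor A (Coalgebra.comul (R := k) a) =
      α a ⊗ₜ[k] (1 : A)) ∧ α 1 = 1 := by
  unfold IsTotalIntegral Hoch.IsComodHom
  constructor
  · rintro ⟨h, h1⟩
    refine ⟨fun a => ?_, h1⟩
    have := LinearMap.congr_fun h a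
    exact this.symm
  · rintro ⟨h, h1⟩
    refine ⟨?_, h1⟩
    apply LinearMap.ext
    intro a
    exact (h a).symm

/-- `a ⊗ b ↦ (1 ⊗ a) ⊗ (1 ⊗ b)` -/
noncomputable def J : A ⊗[k] A →ₗ[k] (K ⊗[k] A) ⊗[K] (K ⊗[k] A) :=
  ((AlgebraTensorModule.tensorTensorTensorComm k K k K K K A A).toLinearMap.restrictScalars k) ∘ₗ
    (TensorProduct.mk k (K ⊗[K] K) (A ⊗[k] A) ((1 : K) ⊗ₜ[K] (1 : K)))

lemma J_tmul (a b : A) : J (K := K) (a ⊗ₜ[k] b) = ((1 : K) ⊗ₜ[k] a) ⊗ₜ[K] ((1 : K) ⊗ₜ[k] b) := rfl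

lemma comul_one_tmul (a : A) :
    Coalgebra.comul (R := K) (A := K ⊗[k] A) ((1 : K) ⊗ₜ[k] a) =
      J (K := K) (Coalgebra.comul (R := k) a) := rfl

theorem descend (β : K ⊗[k] A →ₗ[K] K) (hβ : IsTotalIntegral K (K ⊗[k] A) β) :
    ∃ α : A →ₗ[k] k, IsTotalIntegral k A α := by
  rw [isTotalIntegral_iff] at hβ
  obtain ⟨hβ, h1⟩ := hβ
  obtain ⟨σ, hσ⟩ := LinearMap.exists_leftInverse_of_injective (Algebra.linearMap k K)
    (LinearMap.ker_eq_bot.mpr (algebraMap k K).injective)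
  have hσ1 : σ 1 = 1 := by
    have := LinearMap.congr_fun hσ 1
    simpa using this
  let ι : A →ₗ[k] K ⊗[k] A := TensorProduct.mk k K A 1
  let α : A →ₗ[k] k := σ ∘ₗ (β.restrictScalars k) ∘ₗ ι
  refine ⟨α, ?_⟩
  rw [isTotalIntegral_iff]
  refine ⟨fun a => ?_, ?_⟩
  · let T : K ⊗[K] (K ⊗[k] A) →ₗ[k] k ⊗[k] A :=
      (σ.rTensor A) ∘ₗ (TensorProduct.lid K (K ⊗[k] A)).toLinearMap.restrictScalars k
    have key : T ∘ₗ ((β.rTensor (K ⊗[k] A)).restrictScalars k) ∘ₗ J (K := K) = α.rTensor A := by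
      apply TensorProduct.ext'
      intro a b
      simp [T, J_tmul, α, ι, TensorProduct.smul_tmul']
    have h2 := hβ ((1 : K) ⊗ₜ[k] a)
    rw [comul_one_tmul] at h2
    have h3 := congrArg T h2
    rw [← key]
    simp only [LinearMap.comp_apply]
    refine h3.trans ?_
    simp [T, α, ι, Algebra.TensorProduct.one_def, TensorProduct.smul_tmul']
  · show σ (β ((1 : K) ⊗ₜ[k] (1 : A))) = 1
    rw [← Algebra.TensorProduct.one_def, h1, hσ1]

end Groth.Agent.Helper9.IntegralBC
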