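import Groth.Agent.Helper9.LRss
import Groth.Agent.Helper9.IntegralBC
set_option autoImplicit false

namespace Groth.Agent.Helper9

open TensorProduct

universe u v w w'

section

variable {k : Type u} [Field k] {C : Type v} [AddCommGroup C] [Module k C] [Coalgebra k C]
variable {V : Type w} [AddCommGroup V] [Module k V] [HopfRep.Comod k C V]
variable {W : Type w'} [AddCommGroup W] [Module k W] [HopfRep.Comod k C W]

/-- a linear map commuting with all slice operators is a comodule map -/
theorem isComodHom_of_act (f : V →ₗ[k] W)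
    (h : ∀ (φ : C →ₗ[k] k) (v : V), f (act k C V φ v) = act k C W φ (f v)) :
    Hoch.IsComodHom C f := by
  apply LinearMap.ext
  intro v
  rw [← sub_eq_zero]
  apply eq_zero_of_forall_functional
  intro φ
  simp only [LinearMap.comp_apply, map_sub]
  rw [rid_lTensor_rTensor, sub_eq_zero]
  exact (h φ v).symm

theorem act_of_isComodHom {f : V →ₗ[k] W} (hf : Hoch.IsComodHom C f) (φ : C →ₗ[k] k) (v : V) :
    f (act k C V φ v) = act k C W φ (f v) := by
  rw [act_apply, act_apply, IsComodHom.apply hf, rid_lTensor_rTensor]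

/-- the projection onto a subcomodule along a complementary subcomodule commutes with slices -/
theorem projection_act {W₁ W₂ : Submodule k V}
    (h₁ : HopfRep.IsSubcomod (k := k) (A := C) W₁) (h₂ : HopfRep.IsSubcomod (k := k) (A := C) W₂)
    (hc : IsCompl W₁ W₂) (φ : C →ₗ[k] k) (v : V) :
    W₁.projection W₂ hc (act k C V φ v) = act k C V φ (W₁.projection W₂ hc v) := by
  have hv := Submodule.projection_add_projection_eq_self hc v
  have e1 : act k C V φ (W₁.projection W₂ hc v) ∈ W₁ :=
    (isSubcomod_iff_act W₁).mp h₁ φ _ (Submodule.projection_apply_mem hc v)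
  have e2 : act k C V φ (W₂.projection W₁ hc.symm v) ∈ W₂ :=
    (isSubcomod_iff_act W₂).mp h₂ φ _ (Submodule.projection_apply_mem hc.symm v)
  conv_lhs => rw [← hv, map_add, map_add]
  rw [Submodule.projection_apply_of_mem_left hc e1, Submodule.projection_apply_of_mem_right hc e2,
    add_zero]

theorem isComodHom_projection {W₁ W₂ : Submodule k V}
    (h₁ : HopfRep.IsSubcomod (k := k) (A := C) W₁) (h₂ : HopfRep.IsSubcomod (k := k) (A := C) W₂)
    (hc : IsCompl W₁ W₂) : Hoch.IsComodHom C (W₁.projection W₂ hc) :=
  isComodHom_of_act _ (projection_act h₁ h₂ hc)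

end

section

open IntegralBC

variable {k : Type u} [Field k] {A : Type v} [CommRing A] [HopfAlgebra k A]

theorem act_one (φ : A →ₗ[k] k) : act k A A φ 1 = φ 1 • (1 : A) := by
  rw [act_apply]
  show TensorProduct.rid k A (φ.lTensor A (Coalgebra.comul (R := k) (1 : A))) = _
  rw [Bialgebra.comul_one]
  simp [Algebra.TensorProduct.one_def]

theorem exists_integral (h : HopfRep.IsLinearlyReductive k A) :
    ∃ α : A →ₗ[k] k, IsTotalIntegral k A α := by
  have hss : HopfRep.IsSemisimpleComod k A A :=
    semisimple_of_finite (fun V' _ _ _ hf => h V' hf)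
  let W₁ : Submodule k A := Submodule.span k {1}
  have hW₁ : HopfRep.IsSubcomod (k := k) (A := A) W₁ := by
    rw [isSubcomod_iff_act]
    intro φ w hw
    obtain ⟨c, rfl⟩ := Submodule.mem_span_singleton.mp hw
    rw [map_smul, act_one]
    exact Submodule.smul_mem _ _ (Submodule.smul_mem _ _ (Submodule.mem_span_singleton_self 1))
  obtain ⟨W₂, hW₂, hc⟩ := hss W₁ hW₁
  let p := W₁.projection W₂ hc
  have hp : ∀ (φ : A →ₗ[k] k) (a : A), p (act k A A φ a) = act k A A φ (p a) :=
    projection_act hW₁ hW₂ hc
  let α : A →ₗ[k] k := (Coalgebra.counit (R := k) (A := A)) ∘ₗ p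
  have hpα : ∀ a, p a = α a • (1 : A) := by
    intro a
    obtain ⟨c, hc'⟩ := Submodule.mem_span_singleton.mp (Submodule.projection_apply_mem hc a)
    have : α a = c := by
      show Coalgebra.counit (R := k) (A := A) (p a) = c
      show Coalgebra.counit (R := k) (A := A) (W₁.projection W₂ hc a) = c
      rw [← hc', map_smul, Bialgebra.counit_one, smul_eq_mul, mul_one]
    rw [this]
    exact hc'.symm
  have hα1 : α 1 = 1 := by
    show Coalgebra.counit (R := k) (A := A) (W₁.projection W₂ hc 1) = 1
    rw [Submodule.projection_apply_of_mem_left hc (Submodule.mem_span_singleton_self 1),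
      Bialgebra.counit_one]
  refine ⟨α, ?_⟩
  rw [isTotalIntegral_iff]
  refine ⟨fun a => ?_, hα1⟩
  rw [← sub_eq_zero]
  apply eq_zero_of_forall_functional
  intro φ
  rw [map_sub, map_sub, rid_lTensor_rTensor, sub_eq_zero]
  have e1 : TensorProduct.rid k A (φ.lTensor A (Coalgebra.comul (R := k) a)) = act k A A φ a := rfl
  rw [e1]
  show Coalgebra.counit (R := k) (A := A) (p (act k A A φ a)) = _
  rw [hp, hpα a, map_smul, act_one, map_smul, map_smul, Bialgebra.counit_one]
  simp [mul_comm]

end

end Groth.Agent.Helper9
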