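import Mathlib

namespace Groth.Agent.Helper9.ReflLoc

open Module

variable {A : Type*} [CommRing A] (S : Submonoid A)
variable {Aₛ : Type*} [CommRing Aₛ] [Algebra A Aₛ] [IsLocalization S Aₛ]
variable {G : Type*} [AddCommGroup G] [Module A G] [Module.FinitePresentation A G]
variable {Gₛ : Type*} [AddCommGroup Gₛ] [Module A Gₛ] [Module Aₛ Gₛ] [IsScalarTower A Aₛ Gₛ]
variable (loc : G →ₗ[A] Gₛ) [IsLocalizedModule S loc]

/-- The localization map on duals. -/
noncomputable abbrev dualLoc : Dual A G →ₗ[A] Dual Aₛ Gₛ :=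
  IsLocalizedModule.mapExtendScalars S loc (Algebra.linearMap A Aₛ) Aₛ

omit [Module.FinitePresentation A G] in
lemma dualLoc_apply (φ : Dual A G) (g : G) :
    dualLoc S (Aₛ := Aₛ) loc φ (loc g) = algebraMap A Aₛ (φ g) := by
  rw [dualLoc, IsLocalizedModule.mapExtendScalars_apply_apply, IsLocalizedModule.map_apply]
  rfl

include S in
/-- If the localization is torsionless, elements killed by the evaluation map die in the
localization. -/
lemma loc_eq_zero_of_eval_eq_zero (hinj : Function.Injective (Dual.eval Aₛ Gₛ)) (k : G)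
    (hk : Dual.eval A G k = 0) : loc k = 0 := by
  apply hinj
  rw [map_zero]
  ext φ'
  rw [Dual.eval_apply, LinearMap.zero_apply]
  obtain ⟨⟨φ, s⟩, h⟩ := IsLocalizedModule.surj S (dualLoc S (Aₛ := Aₛ) loc) φ'
  have h1 : (s • φ') (loc k) = algebraMap A Aₛ (φ k) := by
    rw [h, dualLoc_apply]
  have h2 : φ k = 0 := by
    have := LinearMap.congr_fun hk φ
    simpa using this
  rw [h2, map_zero, LinearMap.smul_apply] at h1
  have h3 := IsLocalizedModule.smul_injective (Algebra.linearMap A Aₛ) s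
  exact h3 (h1.trans (smul_zero _).symm)

include loc in
/-- If the localization has surjective evaluation map, every element of the double dual is, up to
an element of `S`, in the image of the evaluation map. -/
lemma exists_smul_eq_eval (hsurj : Function.Surjective (Dual.eval Aₛ Gₛ))
    [Module.Finite A (Dual A G)] (ξ : Dual A (Dual A G)) :
    ∃ s ∈ S, ∃ g : G, s • ξ = Dual.eval A G g := by
  let Ξ : Dual Aₛ (Dual Aₛ Gₛ) :=
    IsLocalizedModule.mapExtendScalars S (dualLoc S (Aₛ := Aₛ) loc) (Algebra.linearMap A Aₛ) Aₛ ξ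
  have hΞ : ∀ φ : Dual A G, Ξ (dualLoc S (Aₛ := Aₛ) loc φ) = algebraMap A Aₛ (ξ φ) := by
    intro φ
    simp only [Ξ]
    rw [IsLocalizedModule.mapExtendScalars_apply_apply, IsLocalizedModule.map_apply]
    rfl
  obtain ⟨γ, hγ⟩ := hsurj Ξ
  obtain ⟨⟨g, t⟩, hgt⟩ := IsLocalizedModule.surj S loc γ
  have hcomp : (Algebra.linearMap A Aₛ).comp ((t : A) • ξ) =
      (Algebra.linearMap A Aₛ).comp (Dual.eval A G g) := by
    ext φ
    simp only [LinearMap.comp_apply, LinearMap.smul_apply, Algebra.linearMap_apply,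
      Dual.eval_apply]
    rw [← dualLoc_apply S (Aₛ := Aₛ) loc φ g, ← hgt, smul_eq_mul, map_mul, ← hΞ φ, ← hγ,
      Dual.eval_apply]
    have : (t • γ : Gₛ) = (algebraMap A Aₛ (t : A)) • γ := (algebraMap_smul Aₛ (t : A) γ).symm
    rw [this, map_smul, smul_eq_mul]
  obtain ⟨s, hs⟩ := Module.Finite.exists_smul_of_comp_eq_of_isLocalizedModule S
    (Algebra.linearMap A Aₛ) ((t : A) • ξ) (Dual.eval A G g) hcomp
  refine ⟨(s : A) * (t : A), S.mul_mem s.2 t.2, (s : A) • g, ?_⟩
  rw [mul_smul, map_smul]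
  exact hs

end Groth.Agent.Helper9.ReflLoc
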