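import Mathlib

/-! Binary products of étale algebras are étale (via `Bool`-indexed `Pi`-types). -/

set_option autoImplicit false
set_option linter.style.haveILetI false
universe u

namespace Groth.Agent.Helper9.EtRetrA

/-- the two-element family -/
def Fam (B C : Type u) : Bool → Type u
  | true => B
  | false => C

variable (A : Type u) [CommRing A] (B C : Type u) [CommRing B] [CommRing C] [Algebra A B]
  [Algebra A C]

instance instCommRingFam : ∀ b, CommRing (Fam B C b)
  | true => inferInstanceAs (CommRing B)
  | false => inferInstanceAs (CommRing C)

instance instAlgebraFam : ∀ b, Algebra A (Fam B C b)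
  | true => inferInstanceAs (Algebra A B)
  | false => inferInstanceAs (Algebra A C)

instance instEtaleFam [Algebra.Etale A B] [Algebra.Etale A C] : ∀ b, Algebra.Etale A (Fam B C b)
  | true => inferInstanceAs (Algebra.Etale A B)
  | false => inferInstanceAs (Algebra.Etale A C)

/-- the product algebra as a `Pi`-type -/
abbrev Prd : Type u := ∀ b, Fam B C b

instance [Algebra.Etale A B] [Algebra.Etale A C] : Algebra.Etale A (Prd B C) :=
  inferInstance

/-- comparison with the binary product -/
def prdEquiv : Prd B C ≃ₐ[A] (B × C) where
  toFun p := (p true, p false)
  invFun q := fun b => match b with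
    | true => q.1
    | false => q.2
  left_inv p := by
    funext b
    cases b <;> rfl
  right_inv q := rfl
  map_mul' p q := rfl
  map_add' p q := rfl
  commutes' a := rfl

instance etale_prod [Algebra.Etale A B] [Algebra.Etale A C] : Algebra.Etale A (B × C) :=
  Algebra.Etale.of_equiv (prdEquiv A B C)

end Groth.Agent.Helper9.EtRetrA
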