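import Mathlib

/-! A retraction of `B × A_n` with `n ∈ m` induces an `A`-algebra map `B → A_m`. -/

set_option autoImplicit false
set_option linter.style.haveILetI false
universe u

namespace Groth.Agent.Helper9.EtRetrB

theorem exists_algHom_of_retraction {A : Type u} [CommRing A] (m : Ideal A) [m.IsMaximal]
    (L : Type u) [CommRing L] [Algebra A L] [IsLocalization.AtPrime L m]
    (B : Type u) [CommRing B] [Algebra A B] (n : A) (hn : n ∈ m)
    (σ : (B × Localization.Away n) →ₐ[A] A) : Nonempty (B →ₐ[A] L) := by
  haveI : IsLocalRing L := IsLocalization.AtPrime.isLocalRing L m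
  let C := Localization.Away n
  let l : A →+* L := algebraMap A L
  let e₀ : A := σ (1, 0)
  let e₁ : A := σ (0, 1)
  let t : A := σ (0, IsLocalization.Away.invSelf (S := C) n)
  have hC : algebraMap A C n * IsLocalization.Away.invSelf (S := C) n = 1 :=
    IsLocalization.Away.mul_invSelf n
  have h1 : e₁ = n * e₁ * t := by
    have : ((0, 1) : B × C) = (n • ((0, 1) : B × C)) * (0, IsLocalization.Away.invSelf (S := C) n) := by
      ext
      · simp
      · simp only [Prod.smul_mk, smul_zero, Prod.mk_mul_mk, mul_zero]
        rw [Algebra.smul_def, mul_one, hC]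
    show σ (0, 1) = n * σ (0, 1) * σ (0, IsLocalization.Away.invSelf (S := C) n)
    conv_lhs => rw [this]
    rw [map_mul, map_smul, smul_eq_mul]
  have h2 : l e₁ = 0 := by
    have h3 : l e₁ * (1 - l n * l t) = 0 := by
      have := congrArg l h1
      rw [map_mul, map_mul] at this
      linear_combination this
    have hmem : l n * l t ∈ IsLocalRing.maximalIdeal L :=
      Ideal.mul_mem_right _ _ ((IsLocalization.AtPrime.to_map_mem_maximal_iff L m n).2 hn)
    have hu : IsUnit (1 - l n * l t) := by
      by_contra hnu
      have h4 : (1 - l n * l t) ∈ IsLocalRing.maximalIdeal L :=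
        (IsLocalRing.mem_maximalIdeal _).2 hnu
      have h5 : (1 : L) ∈ IsLocalRing.maximalIdeal L := by
        have := Ideal.add_mem _ h4 hmem
        rwa [sub_add_cancel] at this
      exact (Ideal.ne_top_iff_one _).1 (IsLocalRing.maximalIdeal.isMaximal L).ne_top h5
    exact hu.mul_left_eq_zero.1 h3
  have h0 : l e₀ = 1 := by
    have h6 : e₀ + e₁ = 1 := by
      show σ (1, 0) + σ (0, 1) = 1
      rw [← map_add, Prod.mk_add_mk, add_zero, zero_add]
      exact map_one σ
    have := congrArg l h6
    rw [map_add, h2, add_zero, map_one] at this
    exact this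
  refine ⟨{ toFun := fun b => l (σ (b, 0))
            map_one' := h0
            map_mul' := fun b b' => by
              show l (σ (b * b', 0)) = l (σ (b, 0)) * l (σ (b', 0))
              rw [← map_mul, ← map_mul, Prod.mk_mul_mk, mul_zero]
            map_zero' := by
              show l (σ (0, 0)) = 0
              have : ((0, 0) : B × C) = 0 := rfl
              rw [this, map_zero, map_zero]
            map_add' := fun b b' => by
              show l (σ (b + b', 0)) = l (σ (b, 0)) + l (σ (b', 0))
              rw [← map_add, ← map_add, Prod.mk_add_mk, add_zero]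
            commutes' := fun a => by
              show l (σ (algebraMap A B a, 0)) = algebraMap A L a
              have : ((algebraMap A B a, 0) : B × C) = a • ((1, 0) : B × C) := by
                ext
                · simp [Algebra.smul_def]
                · simp
              rw [this, map_smul, smul_eq_mul, map_mul, h0, mul_one] }⟩

end Groth.Agent.Helper9.EtRetrB
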