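import Mathlib
import Groth.Agent.Helper9.EtRetrA
import Groth.Agent.Helper9.EtRetrB

/-! An étale algebra with a prime over the maximal ideal `m` can be completed to a faithfully flat
étale algebra by a factor `A_n`, `n ∈ m`. -/

set_option autoImplicit false
set_option linter.style.haveILetI false
universe u

namespace Groth.Agent.Helper9.EtRetrC

open PrimeSpectrum

theorem exists_faithfullyFlat {A : Type u} [CommRing A] (m : Ideal A) [hm : m.IsMaximal]
    (B : Type u) [CommRing B] [Algebra A B] [Algebra.Etale A B]
    (q : PrimeSpectrum B) (hq : comap (algebraMap A B) q = ⟨m, hm.isPrime⟩) :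
    ∃ n ∈ m, Module.FaithfullyFlat A (B × Localization.Away n) := by
  have hopen : IsOpen (Set.range (comap (algebraMap A B))) :=
    (isOpenMap_comap_of_hasGoingDown_of_finitePresentation (R := A) (S := B)).isOpen_range
  have hmU : (⟨m, hm.isPrime⟩ : PrimeSpectrum A) ∈ Set.range (comap (algebraMap A B)) :=
    ⟨q, hq⟩
  obtain ⟨_, ⟨_, ⟨i, rfl⟩, rfl⟩, hmi, hiU⟩ :=
    isBasis_basic_opens.exists_subset_of_mem_open hmU hopen
  have him : i ∉ m := hmi
  obtain ⟨y, n, hn, hyn⟩ := hm.exists_inv him
  refine ⟨n, hn, ?_⟩
  haveI : Algebra.Etale A (B × Localization.Away n) :=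
    Groth.Agent.Helper9.EtRetrA.etale_prod A B (Localization.Away n)
  haveI : Module.Flat A (B × Localization.Away n) := inferInstance
  apply Module.FaithfullyFlat.of_comap_surjective
  intro p
  by_cases hnp : n ∈ p.asIdeal
  · have hip : i ∉ p.asIdeal := by
      intro hi
      have : (1 : A) ∈ p.asIdeal := by
        rw [← hyn]
        exact Ideal.add_mem _ (Ideal.mul_mem_left _ _ hi) hnp
      exact p.2.ne_top ((Ideal.eq_top_iff_one _).2 this)
    obtain ⟨qB, hqB⟩ := hiU (show p ∈ (basicOpen i : Set (PrimeSpectrum A)) from hip)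
    refine ⟨comap (RingHom.fst B (Localization.Away n)) qB, ?_⟩
    rw [← hqB]
    rfl
  · have hp : p ∈ Set.range (comap (algebraMap A (Localization.Away n))) := by
      rw [localization_away_comap_range (Localization.Away n) n]
      exact hnp
    obtain ⟨qC, hqC⟩ := hp
    refine ⟨comap (RingHom.snd B (Localization.Away n)) qC, ?_⟩
    rw [← hqC]
    rfl

end Groth.Agent.Helper9.EtRetrC
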