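import Mathlib
import Groth.Prelude.Def_ProEtW
import Groth.Agent.Helper9.EtRetrC

/-! Rings with retractions of faithfully flat étale algebras: simple roots modulo a maximal ideal
lift to the localization. -/

set_option autoImplicit false
set_option linter.style.haveILetI false
universe u

namespace Groth.Agent.Helper9.EtRetrD

open Polynomial PrimeSpectrum

theorem key (A : Type u) [CommRing A] (h : ProEtW.HasEtaleRetractions A) (m : Ideal A)
    [hm : m.IsMaximal] (P : A[X]) (hP : P.Monic) (a₀ : m.ResidueField)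
    (h1 : aeval a₀ P = 0) (h2 : aeval a₀ (derivative P) ≠ 0) :
    ∃ a : Localization.AtPrime m, aeval a P = 0 ∧ IsLocalRing.residue _ a = a₀ := by
  classical
  let κ := m.ResidueField
  let ρ : A →+* κ := algebraMap A κ
  have hρ : Function.Surjective ρ := m.algebraMap_residueField_surjective
  let Pb : κ[X] := P.map ρ
  have evalPb : ∀ (p : A[X]) (x : κ), (p.map ρ).eval x = aeval x p := by
    intro p x
    rw [eval_map, aeval_def]
  have hroot : Pb.IsRoot a₀ := by
    show Pb.eval a₀ = 0
    rw [evalPb]; exact h1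
  obtain ⟨Qb, hQb⟩ : (X - C a₀) ∣ Pb := dvd_iff_isRoot.2 hroot
  have hQa : Qb.eval a₀ ≠ 0 := by
    have hd : (derivative Pb).eval a₀ = Qb.eval a₀ := by
      rw [hQb, derivative_mul]
      simp
    rw [← hd, derivative_map, evalPb]
    exact h2
  obtain ⟨G, hG⟩ := Polynomial.map_surjective ρ hρ Qb
  let Pair : StandardEtalePair A := ⟨P, hP, derivative P * G, ⟨G, 0, 1, by ring⟩⟩
  have hGa : ∀ x : κ, aeval x G = Qb.eval x := by
    intro x
    rw [← evalPb, hG]
  have hmap : Pair.HasMap a₀ := by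
    refine ⟨h1, ?_⟩
    show IsUnit (aeval a₀ (derivative P * G))
    rw [map_mul, hGa]
    exact (isUnit_iff_ne_zero.2 h2).mul (isUnit_iff_ne_zero.2 hQa)
  let χ : Pair.Ring →ₐ[A] κ := Pair.lift a₀ hmap
  let q : PrimeSpectrum Pair.Ring := ⟨RingHom.ker χ.toRingHom, RingHom.ker_isPrime _⟩
  have hq : comap (algebraMap A Pair.Ring) q = ⟨m, hm.isPrime⟩ := by
    apply PrimeSpectrum.ext
    ext a
    show algebraMap A Pair.Ring a ∈ RingHom.ker χ.toRingHom ↔ a ∈ m
    rw [RingHom.mem_ker]
    show χ (algebraMap A Pair.Ring a) = 0 ↔ a ∈ m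
    rw [AlgHom.commutes]
    exact Ideal.algebraMap_residueField_eq_zero
  obtain ⟨n, hn, hff⟩ := Groth.Agent.Helper9.EtRetrC.exists_faithfullyFlat m Pair.Ring q hq
  obtain ⟨σ⟩ := h (Pair.Ring × Localization.Away n) hff
    (Groth.Agent.Helper9.EtRetrA.etale_prod A Pair.Ring (Localization.Away n))
  obtain ⟨ψ⟩ := Groth.Agent.Helper9.EtRetrB.exists_algHom_of_retraction m
    (Localization.AtPrime m) Pair.Ring n hn σ
  let a := ψ Pair.X
  have ha : Pair.HasMap a := StandardEtalePair.hasMap_X.map ψ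
  refine ⟨a, ha.1, ?_⟩
  let res : Localization.AtPrime m →ₐ[A] κ :=
    IsScalarTower.toAlgHom A (Localization.AtPrime m) κ
  have hres : ∀ x, res x = IsLocalRing.residue _ x := fun x => rfl
  have ha' : Pair.HasMap (res a) := ha.map res
  have e1 : Pb.eval (res a) = 0 := by
    rw [evalPb]; exact ha'.1
  have e2 : Qb.eval (res a) ≠ 0 := by
    have hu : IsUnit (aeval (res a) (derivative P * G)) := ha'.2
    rw [map_mul, hGa] at hu
    exact (isUnit_iff_ne_zero.1 (isUnit_of_mul_isUnit_right hu))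
  rw [hQb, eval_mul] at e1
  have e3 : (X - C a₀ : κ[X]).eval (res a) = 0 := by
    rcases mul_eq_zero.1 e1 with h3 | h3
    · exact h3
    · exact absurd h3 e2
  simp only [eval_sub, eval_X, eval_C] at e3
  rw [← hres]
  exact sub_eq_zero.1 e3

end Groth.Agent.Helper9.EtRetrD
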