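import Mathlib
import Groth.Prelude.Def_ProEtW
import Groth.Agent.Helper9.EtRetrD

/-! Rings with retractions of faithfully flat étale algebras: the localizations at maximal ideals
have separably closed residue fields. -/

set_option autoImplicit false
set_option linter.style.haveILetI false
universe u

namespace Groth.Agent.Helper9.EtRetrE

open Polynomial PrimeSpectrum

/-- an étale algebra with a prime over `m` maps to the localization at `m` -/
theorem exists_algHom (A : Type u) [CommRing A] (h : ProEtW.HasEtaleRetractions A) (m : Ideal A)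
    [hm : m.IsMaximal] (B : Type u) [CommRing B] [Algebra A B] [Algebra.Etale A B]
    (q : PrimeSpectrum B) (hq : comap (algebraMap A B) q = ⟨m, hm.isPrime⟩) :
    Nonempty (B →ₐ[A] Localization.AtPrime m) := by
  obtain ⟨n, hn, hff⟩ := Groth.Agent.Helper9.EtRetrC.exists_faithfullyFlat m B q hq
  obtain ⟨σ⟩ := h (B × Localization.Away n) hff
    (Groth.Agent.Helper9.EtRetrA.etale_prod A B (Localization.Away n))
  exact Groth.Agent.Helper9.EtRetrB.exists_algHom_of_retraction m
    (Localization.AtPrime m) B n hn σ

theorem isSepClosed (A : Type u) [CommRing A] (h : ProEtW.HasEtaleRetractions A) (m : Ideal A)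
    [hm : m.IsMaximal] : IsSepClosed (IsLocalRing.ResidueField (Localization.AtPrime m)) := by
  classical
  let κ := m.ResidueField
  let ρ : A →+* κ := algebraMap A κ
  have hρ : Function.Surjective ρ := m.algebraMap_residueField_surjective
  refine IsSepClosed.of_exists_root κ (fun p hpm hpi hps => ?_)
  haveI : Fact (Irreducible p) := ⟨hpi⟩
  obtain ⟨P, hPp, -, hPm⟩ := lifts_and_natDegree_eq_and_monic
    (mem_lifts_of_surjective (f := ρ) hρ p) hpm
  let K' := AdjoinRoot p
  let r : K' := AdjoinRoot.root p
  have hr : aeval r p = 0 := AdjoinRoot.aeval_eq p ▸ AdjoinRoot.mk_self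
  have evalK : ∀ (t : A[X]) (x : K'), aeval x t = aeval x (t.map ρ) := by
    intro t x
    rw [aeval_def, aeval_def, eval₂_map, ← IsScalarTower.algebraMap_eq]
  let Pair : StandardEtalePair A := ⟨P, hPm, derivative P, ⟨1, 0, 1, by ring⟩⟩
  have hmap : Pair.HasMap r := by
    refine ⟨?_, ?_⟩
    · show aeval r P = 0
      rw [evalK, hPp]; exact hr
    · show IsUnit (aeval r (derivative P))
      rw [evalK, ← derivative_map, hPp]
      exact isUnit_iff_ne_zero.2 (hps.aeval_derivative_ne_zero hr)
  let χ : Pair.Ring →ₐ[A] K' := Pair.lift r hmap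
  let q : PrimeSpectrum Pair.Ring := ⟨RingHom.ker χ.toRingHom, RingHom.ker_isPrime _⟩
  have hq : comap (algebraMap A Pair.Ring) q = ⟨m, hm.isPrime⟩ := by
    apply PrimeSpectrum.ext
    ext a
    show algebraMap A Pair.Ring a ∈ RingHom.ker χ.toRingHom ↔ a ∈ m
    rw [RingHom.mem_ker]
    show χ (algebraMap A Pair.Ring a) = 0 ↔ a ∈ m
    rw [AlgHom.commutes, IsScalarTower.algebraMap_apply A κ K',
      map_eq_zero_iff _ (algebraMap κ K').injective]
    exact Ideal.algebraMap_residueField_eq_zero
  obtain ⟨ψ⟩ := exists_algHom A h m Pair.Ring q hq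
  let a := ψ Pair.X
  have ha : Pair.HasMap a := StandardEtalePair.hasMap_X.map ψ
  let res : Localization.AtPrime m →ₐ[A] κ :=
    IsScalarTower.toAlgHom A (Localization.AtPrime m) κ
  have ha' : Pair.HasMap (res a) := ha.map res
  refine ⟨res a, ?_⟩
  have := ha'.1
  rw [← hPp, eval_map, ← aeval_def]
  exact this

end Groth.Agent.Helper9.EtRetrE
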