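import Mathlib
import Groth.Prelude.Def_ProEtW
import Groth.Prelude.Def_EtBase
import Groth.Agent.Helper9.EtRetrD
import Groth.Agent.Helper9.EtRetrE

/-! Rings with retractions of faithfully flat étale algebras: the localizations at maximal ideals
are strictly henselian. -/

set_option autoImplicit false
set_option linter.style.haveILetI false
universe u

namespace Groth.Agent.Helper9.EtRetrF

open Polynomial

theorem henselian (A : Type u) [CommRing A] (h : ProEtW.HasEtaleRetractions A) (m : Ideal A)
    [hm : m.IsMaximal] : HenselianLocalRing (Localization.AtPrime m) := by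
  classical
  refine ((HenselianLocalRing.TFAE (Localization.AtPrime m)).out 0 1).mpr ?_
  intro f hf a₀ h1 h2
  let L := Localization.AtPrime m
  let κ := IsLocalRing.ResidueField L
  let res : L →+* κ := algebraMap L κ
  obtain ⟨⟨s, hs⟩, hsf⟩ := IsLocalization.exist_integer_multiples m.primeCompl f.support
    (fun i => f.coeff i)
  let sL : L := algebraMap A L s
  have hsu : IsUnit sL := IsLocalization.map_units L (⟨s, hs⟩ : m.primeCompl)
  let g := scaleRoots f sL
  have hgm : g.Monic := (monic_scaleRoots_iff sL).2 hf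
  have hgl : g ∈ lifts (algebraMap A L) := by
    rw [lifts_iff_coeff_lifts]
    intro i
    rw [coeff_scaleRoots]
    by_cases hi : i ∈ f.support
    · have hle : i ≤ f.natDegree := le_natDegree_of_mem_supp i hi
      rcases hle.eq_or_lt with heq | hlt
      · subst heq
        refine ⟨1, ?_⟩
        rw [map_one, Nat.sub_self, pow_zero, mul_one]
        exact hf.coeff_natDegree.symm
      · obtain ⟨c, hc⟩ := hsf i hi
        refine ⟨c * s ^ (f.natDegree - i - 1), ?_⟩
        have hd : f.natDegree - i = (f.natDegree - i - 1) + 1 := by omega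
        rw [map_mul, hc, map_pow, hd, pow_succ, Algebra.smul_def]
        show sL * f.coeff i * sL ^ (f.natDegree - i - 1) =
          f.coeff i * (sL ^ (f.natDegree - i - 1) * sL)
        ring
    · refine ⟨0, ?_⟩
      rw [map_zero, notMem_support_iff.1 hi, zero_mul]
  obtain ⟨P, hPg, -, hPm⟩ := lifts_and_natDegree_eq_and_monic hgl hgm
  -- reductions
  let fb : κ[X] := f.map res
  let sb : κ := res sL
  have hsb : sb ≠ 0 := (hsu.map res).ne_zero
  have hfb0 : fb ≠ 0 := (hf.map res).ne_zero
  let gb : κ[X] := scaleRoots fb sb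
  have hgb : g.map res = gb := by
    apply map_scaleRoots
    rw [hf.leadingCoeff, map_one]
    exact one_ne_zero
  have hPκ : P.map (algebraMap A κ) = gb := by
    rw [IsScalarTower.algebraMap_eq A L κ, ← map_map, hPg]
    exact hgb
  have hfb_root : fb.IsRoot a₀ := by
    show fb.eval a₀ = 0
    rw [eval_map, ← aeval_def]; exact h1
  have hfb_der : ¬ (derivative fb).IsRoot a₀ := by
    show ¬ (derivative fb).eval a₀ = 0
    rw [derivative_map, eval_map, ← aeval_def]; exact h2
  have hmult : ¬ 1 < fb.rootMultiplicity a₀ := by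
    rw [one_lt_rootMultiplicity_iff_isRoot hfb0]
    exact fun hh => hfb_der hh.2
  have hgb0 : gb ≠ 0 := scaleRoots_ne_zero hfb0 sb
  have hgb_root : gb.IsRoot (sb * a₀) := by
    show gb.eval (sb * a₀) = 0
    rw [scaleRoots_eval_mul, hfb_root, mul_zero]
  have hgb_der : ¬ (derivative gb).IsRoot (sb * a₀) := by
    intro hh
    apply hmult
    rw [← rootMultiplicity_scaleRoots fb (IsRegular.of_ne_zero hsb).left,
      one_lt_rootMultiplicity_iff_isRoot hgb0]
    exact ⟨hgb_root, hh⟩
  have k1 : aeval (sb * a₀) P = 0 := by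
    rw [aeval_def, ← eval_map, hPκ]; exact hgb_root
  have k2 : aeval (sb * a₀) (derivative P) ≠ 0 := by
    rw [aeval_def, ← eval_map, ← derivative_map, hPκ]; exact hgb_der
  obtain ⟨b, hb1, hb2⟩ := Groth.Agent.Helper9.EtRetrD.key A h m P hPm (sb * a₀) k1 k2
  refine ⟨b * ↑hsu.unit⁻¹, ?_, ?_⟩
  · show f.eval (b * ↑hsu.unit⁻¹) = 0
    have hgb' : g.eval b = 0 := by
      rw [← hPg, eval_map, ← aeval_def]; exact hb1
    have hbb : b = sL * (b * ↑hsu.unit⁻¹) := by
      rw [mul_comm b, ← mul_assoc, IsUnit.mul_val_inv, one_mul]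
    rw [hbb, scaleRoots_eval_mul] at hgb'
    exact (hsu.pow f.natDegree).mul_right_eq_zero.1 hgb'
  · have : IsLocalRing.residue L (b * ↑hsu.unit⁻¹) =
        IsLocalRing.residue L b * IsLocalRing.residue L ↑hsu.unit⁻¹ := map_mul _ _ _
    rw [this, hb2]
    have hinv : sb * IsLocalRing.residue L ↑hsu.unit⁻¹ = 1 := by
      show IsLocalRing.residue L sL * IsLocalRing.residue L ↑hsu.unit⁻¹ = 1
      rw [← map_mul, IsUnit.mul_val_inv, map_one]
    calc sb * a₀ * IsLocalRing.residue L ↑hsu.unit⁻¹
        = a₀ * (sb * IsLocalRing.residue L ↑hsu.unit⁻¹) := by ring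
      _ = a₀ := by rw [hinv, mul_one]

theorem main (A : Type u) [CommRing A] (h : ProEtW.HasEtaleRetractions A) (m : Ideal A)
    [m.IsMaximal] : EtCoh.IsStrictlyHenselianLocalRing (Localization.AtPrime m) :=
  ⟨henselian A h m, Groth.Agent.Helper9.EtRetrE.isSepClosed A h m⟩

end Groth.Agent.Helper9.EtRetrF
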