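import Mathlib
set_option autoImplicit false

namespace Groth.Agent.Helper9

universe u v

theorem exists_point_of_ne_top {k : Type u} [Field k] [IsAlgClosed k] {R : Type v} [CommRing R]
    [Algebra k R] [Algebra.FiniteType k R] (J : Ideal R) (hJ : J ≠ ⊤) :
    ∃ z : R →ₐ[k] k, J ≤ RingHom.ker z := by
  obtain ⟨m, hm, hJm⟩ := Ideal.exists_le_maximal J hJ
  letI : Field (R ⧸ m) := Ideal.Quotient.field m
  have hfin : Module.Finite k (R ⧸ m) := finite_of_finite_type_of_isJacobsonRing k (R ⧸ m)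
  have hbij := IsAlgClosed.algebraMap_bijective_of_isIntegral (k := k) (K := R ⧸ m)
  let e : k ≃ₐ[k] (R ⧸ m) := AlgEquiv.ofBijective (Algebra.ofId k (R ⧸ m)) hbij
  refine ⟨(e.symm : (R ⧸ m) →ₐ[k] k).comp (Ideal.Quotient.mkₐ k m), ?_⟩
  intro x hx
  rw [RingHom.mem_ker]
  have : Ideal.Quotient.mk m x = 0 := Ideal.Quotient.eq_zero_iff_mem.mpr (hJm hx)
  simp [this]

end Groth.Agent.Helper9
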