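import Groth.Agent.Helper9.Reynolds2
import Groth.Agent.Helper9.Null
set_option autoImplicit false

namespace Groth.Agent.Helper9

open TensorProduct

universe u v w

section

variable {k : Type u} [Field k] {A : Type v} [CommRing A] [Bialgebra k A]
variable {R : Type w} [CommRing R] [Algebra k R] [HopfRep.Comod k A R] [GLin.IsCoactAlg k A R]

theorem apply_orbitHom (x : R →ₐ[k] k) (φ : A →ₗ[k] k) (f : R) :
    φ (GLin.orbitHom k A x f) = x (act k A R φ f) := by
  rw [act_apply]
  show φ (TensorProduct.lid k A (TensorProduct.map x.toLinearMap LinearMap.id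
    (HopfRep.Comod.coact (k := k) (A := A) f))) = _
  generalize HopfRep.Comod.coact (k := k) (A := A) f = y
  induction y using TensorProduct.induction_on with
  | zero => simp
  | tmul r a => simp [mul_comm]
  | add y₁ y₂ h₁ h₂ => simp only [map_add, h₁, h₂]

theorem orbitHom_eq_zero_iff (x : R →ₐ[k] k) (f : R) :
    GLin.orbitHom k A x f = 0 ↔ ∀ φ : A →ₗ[k] k, x (act k A R φ f) = 0 := by
  constructor
  · intro h φ
    rw [← apply_orbitHom, h, map_zero]
  · intro h
    rw [← Module.forall_dual_apply_eq_zero_iff k]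
    intro φ
    rw [apply_orbitHom]
    exact h φ

/-- the ideal of the orbit closure is a subcomodule -/
theorem isSubcomod_ker_orbitHom (x : R →ₐ[k] k) :
    HopfRep.IsSubcomod (k := k) (A := A)
      ((RingHom.ker (GLin.orbitHom k A x)).restrictScalars k) := by
  rw [isSubcomod_iff_act]
  intro ψ f hf
  have hf' : GLin.orbitHom k A x f = 0 := hf
  show GLin.orbitHom k A x (act k A R ψ f) = 0
  rw [orbitHom_eq_zero_iff] at hf' ⊢
  intro φ
  rw [act_comp]
  exact hf' _

theorem orbitHom_invariant (x : R →ₐ[k] k) (f : R) (hf : f ∈ GLin.invariants k A R) :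
    GLin.orbitHom k A x f = algebraMap k A (x f) := by
  have h : HopfRep.Comod.coact (k := k) (A := A) f = f ⊗ₜ[k] (1 : A) := hf
  show TensorProduct.lid k A (TensorProduct.map x.toLinearMap LinearMap.id
    (HopfRep.Comod.coact (k := k) (A := A) f)) = _
  rw [h]
  simp [Algebra.algebraMap_eq_smul_one]

/-- a Reynolds operator preserves subcomodules -/
theorem reynolds_mem {V : Type w} [AddCommGroup V] [Module k V] [HopfRep.Comod k A V]
    (hss : HopfRep.IsSemisimpleComod k A V)
    (E : V →ₗ[k] V) (hE₁ : Hoch.IsComodHom A E) (hE₂ : ∀ x, E (E x) = E x)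
    (hE₃ : ∀ x : V, E x = x ↔ x ∈ HopfRep.fixedPts k A V)
    (W : Submodule k V) (hW : HopfRep.IsSubcomod (k := k) (A := A) W) (w : V) (hw : w ∈ W) :
    E w ∈ W := by
  obtain ⟨W', hW', hc⟩ := hss W hW
  have h := reynolds_comm hss E hE₁ hE₂ hE₃ E hE₁ hE₂ hE₃ (W.projection W' hc)
    (isComodHom_projection hW hW' hc) w
  rw [Submodule.projection_apply_of_mem_left hc hw] at h
  rw [h]
  exact Submodule.projection_apply_mem hc _

end

end Groth.Agent.Helper9
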