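import Groth.Agent.Helper9.FM2
import Mathlib

/-!
# Freyd–Mitchell toolkit: kernels, cokernels, descent along epis
-/

set_option autoImplicit false

namespace Groth.Agent.Helper9.FM

open CategoryTheory CategoryTheory.Limits

universe v u

variable {C : Type u} [Category.{v} C] [Abelian C]

theorem cokernel_π_surjective {X Y : C} (f : X ⟶ Y) : Function.Surjective (m (cokernel.π f)) :=
  (epi_iff _).1 inferInstance

theorem cokernel_π_eq_zero_iff {X Y : C} (f : X ⟶ Y) (y : (F C).obj Y) :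
    m (cokernel.π f) y = 0 ↔ ∃ x, m f x = y := by
  constructor
  · intro h
    exact (exact_iff _).1 (ShortComplex.exact_of_g_is_cokernel
      (ShortComplex.mk f (cokernel.π f) (cokernel.condition f)) (cokernelIsCokernel f)) y h
  · rintro ⟨x, rfl⟩
    rw [← m_comp_apply, cokernel.condition]; simp

theorem cokernel_π_eq_iff {X Y : C} (f : X ⟶ Y) (y y' : (F C).obj Y) :
    m (cokernel.π f) y = m (cokernel.π f) y' ↔ ∃ x, m f x = y - y' := by
  rw [← sub_eq_zero, ← map_sub, cokernel_π_eq_zero_iff]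

theorem kernel_ι_injective {X Y : C} (f : X ⟶ Y) : Function.Injective (m (kernel.ι f)) :=
  (mono_iff _).1 inferInstance

theorem kernel_ι_apply {X Y : C} (f : X ⟶ Y) (k : (F C).obj (kernel f)) :
    m f (m (kernel.ι f) k) = 0 := by
  rw [← m_comp_apply, kernel.condition]; simp

theorem exists_kernel_ι_eq {X Y : C} (f : X ⟶ Y) (x : (F C).obj X) (hx : m f x = 0) :
    ∃ k, m (kernel.ι f) k = x :=
  (exact_iff _).1 (ShortComplex.exact_of_f_is_kernel
    (ShortComplex.mk (kernel.ι f) f (kernel.condition f)) (kernelIsKernel f)) x hx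

/-- descending along an epi from a kernel inclusion -/
theorem exists_desc_of_ker_le {X Y T : C} (p : X ⟶ Y) [Epi p] (k : X ⟶ T)
    (h : LinearMap.ker (m p) ≤ LinearMap.ker (m k)) : ∃ l : Y ⟶ T, p ≫ l = k := by
  have hz : kernel.ι p ≫ k = 0 := by
    rw [comp_eq_zero_iff]
    intro x
    exact h (kernel_ι_apply p x)
  exact ⟨Abelian.epiDesc p k hz, Abelian.comp_epiDesc p k hz⟩

theorem biprod_elem_eq_zero {X Y : C} (z : (F C).obj (X ⊞ Y))
    (h1 : m (biprod.fst : X ⊞ Y ⟶ X) z = 0) (h2 : m (biprod.snd : X ⊞ Y ⟶ Y) z = 0) : z = 0 := by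
  have h : m (𝟙 (X ⊞ Y)) z = z := by rw [m_id]; rfl
  rw [← h, ← biprod.total, m_add, LinearMap.add_apply, m_comp_apply, m_comp_apply, h1, h2,
    map_zero, map_zero, add_zero]

theorem biprod_lift_fst_apply {T X Y : C} (f : T ⟶ X) (g : T ⟶ Y) (t : (F C).obj T) :
    m (biprod.fst : X ⊞ Y ⟶ X) (m (biprod.lift f g) t) = m f t := by
  rw [← m_comp_apply, biprod.lift_fst]

theorem biprod_lift_snd_apply {T X Y : C} (f : T ⟶ X) (g : T ⟶ Y) (t : (F C).obj T) :
    m (biprod.snd : X ⊞ Y ⟶ Y) (m (biprod.lift f g) t) = m g t := by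
  rw [← m_comp_apply, biprod.lift_snd]

end Groth.Agent.Helper9.FM
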