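import Groth.Agent.Helper9.PCohA
import Mathlib

set_option autoImplicit false

namespace Groth.Agent.Helper9.PCohB

open CategoryTheory CategoryTheory.Limits PCoh
open Groth.Agent.Helper9.FM

universe v u

variable {C : Type u} [Category.{v} C] [Abelian C]

section Aug

variable (E : CochainComplex C ℤ) (n : ℤ)

/-- the terms of the augmented truncation `0 → Z^n → E^n → E^{n+1} → ⋯` -/
noncomputable def X : ℕ → C
  | 0 => kernel (E.d (n + ((0 : ℕ) : ℤ)) (n + ((1 : ℕ) : ℤ)))
  | (i + 1) => E.X (n + (i : ℤ))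

noncomputable def d : ∀ i : ℕ, X E n i ⟶ X E n (i + 1)
  | 0 => kernel.ι _
  | (i + 1) => E.d (n + (i : ℤ)) (n + ((i + 1 : ℕ) : ℤ))

theorem sq : ∀ i : ℕ, d E n i ≫ d E n (i + 1) = 0
  | 0 => kernel.condition _
  | (i + 1) => E.d_comp_d _ _ _

noncomputable def K : CochainComplex C ℕ := CochainComplex.of (X E n) (d E n) (sq E n)

theorem K_d (i : ℕ) : (K E n).d i (i + 1) = d E n i := CochainComplex.of_d _ _ _

theorem exactAt_zero : (K E n).ExactAt 0 := by
  rw [HomologicalComplex.exactAt_iff' _ 0 0 1 (by simp) (by simp)]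
  apply (ShortComplex.exact_iff_mono _ _).2
  · change Mono ((K E n).d 0 1)
    rw [K_d]
    exact (inferInstance : Mono (kernel.ι (E.d (n + ((0 : ℕ) : ℤ)) (n + ((1 : ℕ) : ℤ)))))
  · exact (K E n).shape 0 0 (by simp)

theorem exactAt_one : (K E n).ExactAt 1 := by
  rw [HomologicalComplex.exactAt_iff' _ 0 1 2 (by simp) (by simp)]
  rw [exact_iff]
  intro y hy
  change m ((K E n).d 1 (1 + 1)) y = 0 at hy
  rw [K_d] at hy
  change ∃ x, m ((K E n).d 0 (0 + 1)) x = y
  rw [K_d]
  exact exists_kernel_ι_eq _ y hy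

theorem exactAt_succ_succ (i : ℕ) (h : E.ExactAt (n + ((i + 1 : ℕ) : ℤ))) :
    (K E n).ExactAt (i + 2) := by
  rw [HomologicalComplex.exactAt_iff' _ (i + 1) (i + 2) (i + 3) (by simp) (by simp)]
  rw [HomologicalComplex.exactAt_iff' _ (n + (i : ℤ)) _ (n + ((i + 2 : ℕ) : ℤ))
    (by simp; ring) (by simp; ring)] at h
  rw [exact_iff] at h ⊢
  intro y hy
  change m ((K E n).d (i + 1 + 1) (i + 1 + 1 + 1)) y = 0 at hy
  rw [K_d] at hy
  change ∃ x, m ((K E n).d (i + 1) (i + 1 + 1)) x = y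
  rw [K_d]
  exact h y hy

end Aug

theorem ft_homology_of_ft_kernel (P : ObjectProperty C) (E : CochainComplex C ℤ) (n a b : ℤ)
    (ha : a = n) (hb : b = n + 1) (h : IsOfFiniteType P (kernel (E.d a b))) :
    IsOfFiniteType P (E.homology n) := by
  subst ha hb
  have hz : kernel.ι (E.d a (a + 1)) ≫ E.d a (a + 1) = 0 := kernel.condition _
  let t : kernel (E.d a (a + 1)) ⟶ E.cycles a := E.liftCycles (kernel.ι _) (a + 1) (by simp) hz
  have ht : t ≫ E.iCycles a = kernel.ι _ := E.liftCycles_i _ _ _ _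
  have : Epi (t ≫ E.homologyπ a) := by
    haveI : Epi t := by
      rw [epi_iff]
      intro z
      have h0 : m (E.d a (a + 1)) (m (E.iCycles a) z) = 0 := by
        rw [← m_comp_apply, E.iCycles_d]; simp
      obtain ⟨k, hk⟩ := exists_kernel_ι_eq _ _ h0
      refine ⟨k, ?_⟩
      apply (mono_iff (E.iCycles a)).1 inferInstance
      rw [← m_comp_apply, ht, hk]
    exact epi_comp _ _
  exact PCohA.isOfFiniteType_of_epi P (t ≫ E.homologyπ a) h

theorem S5602 (P : ObjectProperty C) (hqs : PCoh.IsQuasiStableUnderKernels P)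
    (n : ℤ) (E : CochainComplex C ℤ) (hE : PCoh.IsStrictPC P n E)
    (hac : ∀ i : ℤ, n < i → IsZero (E.homology i)) :
    PCoh.IsOfFiniteType P (E.homology n) := by
  obtain ⟨⟨b, hb⟩, hP⟩ := hE
  have h1 : IsOfFiniteType P ((K E n).X 0) := by
    apply hqs (K E n)
    · intro i
      match i with
      | 0 => exact exactAt_zero E n
      | 1 => exact exactAt_one E n
      | (i + 2) =>
        apply exactAt_succ_succ
        rw [HomologicalComplex.exactAt_iff_isZero_homology]
        exact hac _ (by push_cast; omega)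
    · refine ⟨(b - n).toNat + 1, fun i hi => ?_⟩
      obtain ⟨j, rfl⟩ : ∃ j, i = j + 1 := ⟨i - 1, by omega⟩
      exact hb _ (by omega)
    · intro i hi
      obtain ⟨j, rfl⟩ : ∃ j, i = j + 1 := ⟨i - 1, by omega⟩
      exact hP _ (by omega)
  exact ft_homology_of_ft_kernel P E n _ _ (by simp) (by simp) h1

end Groth.Agent.Helper9.PCohB
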