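import Mathlib
import Groth.Prelude.Def_QuotSh

set_option autoImplicit false
set_option linter.unusedSectionVars false

namespace Groth.Agent.Helper9.RepEpi

open CategoryTheory CategoryTheory.Limits AlgebraicGeometry Opposite

universe u

variable (K : Precoverage Scheme.{u}) [K.IsStableUnderComposition] [K.IsStableUnderBaseChange]
  [K.HasPullbacks] [K.HasIsos] {S : Scheme.{u}}

/-- the map of representable sheaves induced by `g` is an epimorphism iff every point of the target
lifts along `g` over the members of a `K`-covering family -/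
theorem epi_repMap_iff {V W : Over S} (g : V ⟶ W) :
    Epi (QuotSh.repMap K g) ↔ ∀ (T : Over S) (w : T ⟶ W), ∃ R ∈ K T.left,
      ∀ ⦃U : Scheme.{u}⦄ (t : U ⟶ T.left), R t → ∃ v : U ⟶ V.left, v ≫ g.left = t ≫ w.left := by
  rw [← Sheaf.isLocallySurjective_iff_epi, QuotSh.repMap,
    Presheaf.isLocallySurjective_presheafToSheaf_map_iff]
  constructor
  · intro h T w
    have h1 := h.imageSieve_mem (U := T) (ULift.up w)
    rw [GrothendieckTopology.mem_over_iff,
      Precoverage.mem_toGrothendieck_iff_of_isStableUnderComposition] at h1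
    obtain ⟨R, hR, hle⟩ := h1
    refine ⟨R, hR, fun U t ht => ?_⟩
    have h2 := hle _ _ ht
    rw [Sieve.overEquiv_iff] at h2
    obtain ⟨v, hv⟩ := h2
    have hv' : v.down ≫ g = (Over.homMk t : Over.mk (t ≫ T.hom) ⟶ T) ≫ w :=
      congrArg ULift.down hv
    exact ⟨v.down.left, congrArg CommaMorphism.left hv'⟩
  · intro h
    refine ⟨fun {T} w => ?_⟩
    obtain ⟨R, hR, hlift⟩ := h T w.down
    rw [GrothendieckTopology.mem_over_iff,
      Precoverage.mem_toGrothendieck_iff_of_isStableUnderComposition]
    refine ⟨R, hR, fun U t ht => ?_⟩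
    rw [Sieve.overEquiv_iff]
    obtain ⟨v, hv⟩ := hlift t ht
    let v' : Over.mk (t ≫ T.hom) ⟶ V := Over.homMk v (by
      change v ≫ V.hom = t ≫ T.hom
      rw [← Over.w g, ← Category.assoc, hv, Category.assoc, Over.w])
    refine ⟨ULift.up v', ?_⟩
    apply ULift.ext
    change v' ≫ g = (Over.homMk t : Over.mk (t ≫ T.hom) ⟶ T) ≫ w.down
    ext
    exact hv

end Groth.Agent.Helper9.RepEpi
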