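import Mathlib

/-! Roots in a localization away from an element of an integrally closed domain (helper9). -/

set_option autoImplicit false

namespace Groth.Agent.Helper9

/-- If `A` is an integrally closed domain, `B = A[1/π]` with `π ≠ 0`, and `z ^ N` comes from `A`
for some `N ≠ 0`, then `z` comes from `A`. -/
theorem mem_range_of_pow_mem_range {A B : Type*} [CommRing A] [IsDomain A] [IsIntegrallyClosed A]
    [CommRing B] [Algebra A B] (π : A) (hπ : π ≠ 0) [IsLocalization.Away π B]
    (z : B) (N : ℕ) (hN : N ≠ 0) (hz : z ^ N ∈ (algebraMap A B).range) :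
    z ∈ (algebraMap A B).range := by
  have hinj : Function.Injective (algebraMap A B) :=
    IsLocalization.injective B (powers_le_nonZeroDivisors_of_noZeroDivisors hπ)
  obtain ⟨k, a, hka⟩ := IsLocalization.Away.surj π z
  obtain ⟨a', ha'⟩ := hz
  have h1 : a' * (π ^ k) ^ N = a ^ N := by
    apply hinj
    rw [map_mul, map_pow, map_pow, map_pow, ha', ← hka, mul_pow]
  have h2 : (π ^ k) ^ N ∣ a ^ N := ⟨a', by rw [← h1, mul_comm]⟩
  have h3 : π ^ k ∣ a := (IsIntegrallyClosed.pow_dvd_pow_iff hN).mp h2
  obtain ⟨a'', rfl⟩ := h3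
  refine ⟨a'', ?_⟩
  have hu : IsUnit (algebraMap A B π ^ k) :=
    (IsLocalization.Away.algebraMap_isUnit π).pow k
  apply hu.mul_left_injective
  show algebraMap A B a'' * algebraMap A B π ^ k = z * algebraMap A B π ^ k
  rw [hka, map_mul, map_pow, mul_comm]

end Groth.Agent.Helper9
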