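import Groth.Agent.Helper9.WittHomog
import Groth.Agent.Helper9.AwayRoot
import Groth.Prelude.Def_W4c6katofiltaWFil

/-! Auxiliary lemmas for the filtered pieces of truncated Witt vectors (helper9). -/

set_option autoImplicit false

namespace Groth.Agent.Helper9

open MvPolynomial

section

variable {A B : Type*} [CommRing A] [CommRing B] [Algebra A B] (p : ℕ) [Fact p.Prime] [CharP B p]
variable {ι : Type*} [AddCommMonoid ι]

/-- The graded family: `z` with `z ^ p ^ k * E t` in the image of `A`. -/
def filSub (E : Multiplicative ι →* B) (k : ℕ) (t : ι) : AddSubgroup B where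
  carrier := {z | z ^ p ^ k * E (Multiplicative.ofAdd t) ∈ (algebraMap A B).range}
  zero_mem' := by
    show (0 : B) ^ p ^ k * E (Multiplicative.ofAdd t) ∈ (algebraMap A B).range
    rw [zero_pow (pow_ne_zero _ (Fact.out : p.Prime).ne_zero), zero_mul]
    exact zero_mem _
  add_mem' := by
    intro a b ha hb
    show (a + b) ^ p ^ k * E (Multiplicative.ofAdd t) ∈ (algebraMap A B).range
    rw [add_pow_char_pow, add_mul]
    exact add_mem ha hb
  neg_mem' := by
    intro a ha
    show (-a) ^ p ^ k * E (Multiplicative.ofAdd t) ∈ (algebraMap A B).range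
    rw [neg_pow, neg_one_pow_char_pow, neg_one_mul, neg_mul]
    exact neg_mem ha

theorem mem_filSub {E : Multiplicative ι →* B} {k : ℕ} {t : ι} {z : B} :
    z ∈ filSub (A := A) p E k t ↔
      z ^ p ^ k * E (Multiplicative.ofAdd t) ∈ (algebraMap A B).range := Iff.rfl

instance filSub_gradedMonoid (E : Multiplicative ι →* B) (k : ℕ) :
    SetLike.GradedMonoid (fun t : ι => filSub (A := A) p E k t) where
  one_mem := by
    show (1 : B) ^ p ^ k * E (Multiplicative.ofAdd 0) ∈ (algebraMap A B).range
    rw [one_pow, ofAdd_zero, map_one, one_mul]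
    exact one_mem _
  mul_mem := by
    intro s t a b ha hb
    show (a * b) ^ p ^ k * E (Multiplicative.ofAdd (s + t)) ∈ (algebraMap A B).range
    have : (a * b) ^ p ^ k * E (Multiplicative.ofAdd (s + t)) =
        (a ^ p ^ k * E (Multiplicative.ofAdd s)) * (b ^ p ^ k * E (Multiplicative.ofAdd t)) := by
      rw [ofAdd_add, map_mul, mul_pow]; ring
    rw [this]
    exact mul_mem ha hb

/-- Main auxiliary statement: coefficients of a Witt structure polynomial evaluated on two
vectors of the graded family lie in the expected filtered piece. -/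
theorem peval_wittStructureInt_mem
    (hroot : ∀ (z : B) (N : ℕ), N ≠ 0 → z ^ N ∈ (algebraMap A B).range →
      z ∈ (algebraMap A B).range)
    (Φ : MvPolynomial (Fin 2) ℤ) (w : Fin 2 × ℕ → ι) (D : ι)
    (hΦ : ∀ n, IsWeightedHomogeneous w (wittStructureInt p Φ n) (p ^ n • D))
    (E : Multiplicative ι →* B) (m : ℕ) (x y : WittVector p B)
    (hx : ∀ i, x.coeff i ∈ filSub (A := A) p E (m - 1) (w (0, i)))
    (hy : ∀ i, y.coeff i ∈ filSub (A := A) p E (m - 1) (w (1, i)))
    (j : ℕ) (hj : j < m) :
    (WittVector.peval (wittStructureInt p Φ j) ![x.coeff, y.coeff]) ^ p ^ (m - 1 - j) *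
      E (Multiplicative.ofAdd D) ∈ (algebraMap A B).range := by
  have hmem : WittVector.peval (wittStructureInt p Φ j) ![x.coeff, y.coeff] ∈
      filSub (A := A) p E (m - 1) (p ^ j • D) := by
    unfold WittVector.peval
    haveI := filSub_gradedMonoid (A := A) p E (m - 1)
    have hg : ∀ s : Fin 2 × ℕ, Function.uncurry ![x.coeff, y.coeff] s ∈
        (fun t : ι => filSub (A := A) p E (m - 1) t) (w s) := by
      rintro ⟨b, i⟩
      fin_cases b
      · exact hx i
      · exact hy i
    exact aeval_mem_graded (fun t : ι => filSub (A := A) p E (m - 1) t) w _ _ (hΦ j) _ hg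
  rw [mem_filSub] at hmem
  apply hroot _ (p ^ j) (pow_ne_zero _ (Fact.out : p.Prime).ne_zero)
  have e : (WittVector.peval (wittStructureInt p Φ j) ![x.coeff, y.coeff] ^ p ^ (m - 1 - j) *
      E (Multiplicative.ofAdd D)) ^ p ^ j =
      WittVector.peval (wittStructureInt p Φ j) ![x.coeff, y.coeff] ^ p ^ (m - 1) *
      E (Multiplicative.ofAdd (p ^ j • D)) := by
    rw [mul_pow, ← pow_mul, ← pow_add, ofAdd_nsmul, map_pow]
    congr 3
    omega
  rw [e]
  exact hmem

end

end Groth.Agent.Helper9
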