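import Mathlib

/-! Weighted homogeneity of Witt structure polynomials (helper9). -/

set_option autoImplicit false

open MvPolynomial

namespace Groth.Agent.Helper9

theorem wittStructureInt_isWeightedHomogeneous (p : ℕ) [Fact p.Prime] {idx : Type*}
    (Φ : MvPolynomial idx ℤ) (w : idx × ℕ → ℕ) (D : ℕ)
    (hR : ∀ n, IsWeightedHomogeneous w
      (bind₁ (fun b => rename (Prod.mk b) (wittPolynomial p ℤ n)) Φ) (D * p ^ n)) (n : ℕ) :
    IsWeightedHomogeneous w (wittStructureInt p Φ n) (D * p ^ n) := by
  induction n using Nat.strong_induction_on with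
  | _ n ih =>
    have hp : (p : ℤ) ≠ 0 := by exact_mod_cast (Fact.out : p.Prime).ne_zero
    have key := wittStructureInt_prop p Φ n
    have hL : bind₁ (wittStructureInt p Φ) (wittPolynomial p ℤ n) =
        ∑ i ∈ Finset.range (n + 1), C ((p : ℤ) ^ i) * wittStructureInt p Φ i ^ p ^ (n - i) := by
      rw [wittPolynomial_eq_sum_C_mul_X_pow, map_sum]
      apply Finset.sum_congr rfl
      intro i _
      rw [map_mul, bind₁_C_right]
      congr 1
      rw [map_pow, bind₁_X_right]
    rw [hL, Finset.sum_range_succ, Nat.sub_self, pow_zero, pow_one] at key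
    have hsum : IsWeightedHomogeneous w
        (∑ i ∈ Finset.range n, C ((p : ℤ) ^ i) * wittStructureInt p Φ i ^ p ^ (n - i))
        (D * p ^ n) := by
      apply IsWeightedHomogeneous.sum
      intro i hi
      rw [Finset.mem_range] at hi
      apply IsWeightedHomogeneous.C_mul
      have := (ih i hi).pow (p ^ (n - i))
      have e : p ^ (n - i) • (D * p ^ i) = D * p ^ n := by
        rw [smul_eq_mul, mul_left_comm, ← pow_add]
        congr 2
        omega
      rw [e] at this
      exact this
    have h2 : IsWeightedHomogeneous w (C ((p : ℤ) ^ n) * wittStructureInt p Φ n) (D * p ^ n) := by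
      have : C ((p : ℤ) ^ n) * wittStructureInt p Φ n =
          bind₁ (fun b => rename (Prod.mk b) (wittPolynomial p ℤ n)) Φ -
          ∑ i ∈ Finset.range n, C ((p : ℤ) ^ i) * wittStructureInt p Φ i ^ p ^ (n - i) := by
        rw [← key]; ring
      rw [this]
      exact (hR n).sub hsum
    intro d hd
    apply h2
    rw [coeff_C_mul]
    exact mul_ne_zero (pow_ne_zero _ hp) hd

theorem rename_wittPolynomial_isWeightedHomogeneous (p : ℕ) {idx : Type*} (w : idx × ℕ → ℕ)
    (b : idx) (c : ℕ) (hw : ∀ i, w (b, i) = c * p ^ i) (n : ℕ) :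
    IsWeightedHomogeneous w (rename (Prod.mk b) (wittPolynomial p ℤ n)) (c * p ^ n) := by
  rw [wittPolynomial_eq_sum_C_mul_X_pow, map_sum]
  apply IsWeightedHomogeneous.sum
  intro i hi
  rw [Finset.mem_range] at hi
  rw [map_mul, rename_C]
  have e0 : (rename (Prod.mk b)) ((X i : MvPolynomial ℕ ℤ) ^ p ^ (n - i)) = (X (b, i)) ^ p ^ (n - i) := by
    rw [map_pow, rename_X]
  rw [e0]
  apply IsWeightedHomogeneous.C_mul
  have := (isWeightedHomogeneous_X ℤ w (b, i)).pow (p ^ (n - i))
  have e : p ^ (n - i) • w (b, i) = c * p ^ n := by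
    rw [hw, smul_eq_mul, mul_left_comm, ← pow_add]
    congr 2
    omega
  rw [e] at this
  exact this

end Groth.Agent.Helper9

namespace Groth.Agent.Helper9

/-- Evaluation of a weighted homogeneous integer polynomial in a multiplicative filtration. -/
theorem aeval_mem_of_isWeightedHomogeneous {A K : Type*} [CommRing A] [CommRing K] [Algebra A K]
    (M : ℕ → Submodule A K)
    (hmul : ∀ (i j : ℕ) (a b : K), a ∈ M i → b ∈ M j → a * b ∈ M (i + j))
    {σ : Type*} (w : σ → ℕ) (F : MvPolynomial σ ℤ) (m : ℕ) (hm : m ≠ 0)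
    (hF : IsWeightedHomogeneous w F m) (g : σ → K)
    (hg : ∀ s, (w s = 0 → g s ∈ Set.range (algebraMap A K)) ∧ (w s ≠ 0 → g s ∈ M (w s))) :
    aeval g F ∈ M m := by
  classical
  let M' : ℕ → Submodule A K := fun i =>
    if i = 0 then LinearMap.range (Algebra.linearMap A K) else M i
  have hM'0 : M' 0 = LinearMap.range (Algebra.linearMap A K) := if_pos rfl
  have hM'pos : ∀ i, i ≠ 0 → M' i = M i := fun i hi => if_neg hi
  haveI : SetLike.GradedMonoid M' :=
    { one_mem := by
        rw [hM'0]
        exact ⟨1, by simp⟩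
      mul_mem := by
        intro i j a b ha hb
        by_cases hi : i = 0
        · subst hi
          rw [hM'0] at ha
          obtain ⟨a', rfl⟩ := ha
          rw [zero_add, Algebra.linearMap_apply, ← Algebra.smul_def]
          exact Submodule.smul_mem _ _ hb
        · by_cases hj : j = 0
          · subst hj
            rw [hM'0] at hb
            obtain ⟨b', rfl⟩ := hb
            rw [add_zero, Algebra.linearMap_apply, mul_comm, ← Algebra.smul_def]
            exact Submodule.smul_mem _ _ ha
          · rw [hM'pos i hi] at ha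
            rw [hM'pos j hj] at hb
            rw [hM'pos (i + j) (by omega)]
            exact hmul i j a b ha hb }
  have hg' : ∀ s, g s ∈ M' (w s) := by
    intro s
    by_cases hs : w s = 0
    · rw [hs, hM'0]
      obtain ⟨a, ha⟩ := (hg s).1 hs
      exact ⟨a, ha⟩
    · rw [hM'pos _ hs]
      exact (hg s).2 hs
  rw [← hM'pos m hm, aeval_def, eval₂_eq]
  refine Submodule.sum_mem _ fun d hd => ?_
  have hd' : coeff d F ≠ 0 := by simpa using hd
  have hw := hF hd'
  have hprod : ∏ s ∈ d.support, g s ^ d s ∈ M' (∑ s ∈ d.support, d s • w s) :=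
    SetLike.prod_pow_mem_graded M' w g (fun s => d s) (fun s _ => hg' s)
  have e : ∑ s ∈ d.support, d s • w s = m := by
    rw [← hw, Finsupp.weight_apply]
    rfl
  rw [e] at hprod
  rw [eq_intCast, ← zsmul_eq_mul]
  exact zsmul_mem hprod _

end Groth.Agent.Helper9

namespace Groth.Agent.Helper9

/-- Version of `wittStructureInt_isWeightedHomogeneous` with weights in any additive monoid. -/
theorem wittStructureInt_isWeightedHomogeneous' (p : ℕ) [Fact p.Prime] {idx ι : Type*}
    [AddCommMonoid ι]
    (Φ : MvPolynomial idx ℤ) (w : idx × ℕ → ι) (D : ι)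
    (hR : ∀ n, IsWeightedHomogeneous w
      (bind₁ (fun b => rename (Prod.mk b) (wittPolynomial p ℤ n)) Φ) (p ^ n • D)) (n : ℕ) :
    IsWeightedHomogeneous w (wittStructureInt p Φ n) (p ^ n • D) := by
  induction n using Nat.strong_induction_on with
  | _ n ih =>
    have hp : (p : ℤ) ≠ 0 := by exact_mod_cast (Fact.out : p.Prime).ne_zero
    have key := wittStructureInt_prop p Φ n
    have hL : bind₁ (wittStructureInt p Φ) (wittPolynomial p ℤ n) =
        ∑ i ∈ Finset.range (n + 1), C ((p : ℤ) ^ i) * wittStructureInt p Φ i ^ p ^ (n - i) := by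
      rw [wittPolynomial_eq_sum_C_mul_X_pow, map_sum]
      apply Finset.sum_congr rfl
      intro i _
      rw [map_mul, bind₁_C_right]
      congr 1
      rw [map_pow, bind₁_X_right]
    rw [hL, Finset.sum_range_succ, Nat.sub_self, pow_zero, pow_one] at key
    have hsum : IsWeightedHomogeneous w
        (∑ i ∈ Finset.range n, C ((p : ℤ) ^ i) * wittStructureInt p Φ i ^ p ^ (n - i))
        (p ^ n • D) := by
      apply IsWeightedHomogeneous.sum
      intro i hi
      rw [Finset.mem_range] at hi
      apply IsWeightedHomogeneous.C_mul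
      have := (ih i hi).pow (p ^ (n - i))
      have e : p ^ (n - i) • (p ^ i • D) = p ^ n • D := by
        rw [smul_smul, ← pow_add]
        congr 2
        omega
      rw [e] at this
      exact this
    have h2 : IsWeightedHomogeneous w (C ((p : ℤ) ^ n) * wittStructureInt p Φ n) (p ^ n • D) := by
      have : C ((p : ℤ) ^ n) * wittStructureInt p Φ n =
          bind₁ (fun b => rename (Prod.mk b) (wittPolynomial p ℤ n)) Φ -
          ∑ i ∈ Finset.range n, C ((p : ℤ) ^ i) * wittStructureInt p Φ i ^ p ^ (n - i) := by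
        rw [← key]; ring
      rw [this]
      exact (hR n).sub hsum
    intro d hd
    apply h2
    rw [coeff_C_mul]
    exact mul_ne_zero (pow_ne_zero _ hp) hd

theorem rename_wittPolynomial_isWeightedHomogeneous' (p : ℕ) {idx ι : Type*} [AddCommMonoid ι]
    (w : idx × ℕ → ι)
    (b : idx) (c : ι) (hw : ∀ i, w (b, i) = p ^ i • c) (n : ℕ) :
    IsWeightedHomogeneous w (rename (Prod.mk b) (wittPolynomial p ℤ n)) (p ^ n • c) := by
  rw [wittPolynomial_eq_sum_C_mul_X_pow, map_sum]
  apply IsWeightedHomogeneous.sum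
  intro i hi
  rw [Finset.mem_range] at hi
  rw [map_mul, rename_C]
  have e0 : (rename (Prod.mk b)) ((X i : MvPolynomial ℕ ℤ) ^ p ^ (n - i)) =
      (X (b, i)) ^ p ^ (n - i) := by
    rw [map_pow, rename_X]
  rw [e0]
  apply IsWeightedHomogeneous.C_mul
  have := (isWeightedHomogeneous_X ℤ w (b, i)).pow (p ^ (n - i))
  have e : p ^ (n - i) • w (b, i) = p ^ n • c := by
    rw [hw, smul_smul, ← pow_add]
    congr 2
    omega
  rw [e] at this
  exact this

/-- Evaluation of a weighted homogeneous integer polynomial in a graded family of additive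
subgroups. -/
theorem aeval_mem_graded {K ι S : Type*} [CommRing K] [AddCommMonoid ι] [SetLike S K]
    [AddSubgroupClass S K] (M : ι → S) [SetLike.GradedMonoid M]
    {σ : Type*} (w : σ → ι) (F : MvPolynomial σ ℤ) (m : ι)
    (hF : IsWeightedHomogeneous w F m) (g : σ → K) (hg : ∀ s, g s ∈ M (w s)) :
    aeval g F ∈ M m := by
  classical
  rw [aeval_def, eval₂_eq]
  refine sum_mem fun d hd => ?_
  have hd' : coeff d F ≠ 0 := by simpa using hd
  have hw := hF hd'
  have hprod : ∏ s ∈ d.support, g s ^ d s ∈ M (∑ s ∈ d.support, d s • w s) :=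
    SetLike.prod_pow_mem_graded M w g (fun s => d s) (fun s _ => hg s)
  have e : ∑ s ∈ d.support, d s • w s = m := by
    rw [← hw, Finsupp.weight_apply]
    rfl
  rw [e] at hprod
  rw [eq_intCast, ← zsmul_eq_mul]
  exact zsmul_mem hprod _

end Groth.Agent.Helper9
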