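import Mathlib

/-! Coefficients of a product with a Teichmüller representative (helper9). -/

set_option autoImplicit false

namespace Groth.Agent.Helper9

open WittVector MvPolynomial

variable (p : ℕ) [hp : Fact p.Prime]

private theorem teich_mul_aux₁ {σ : Type*} (t : MvPolynomial σ ℚ) (x : WittVector p (MvPolynomial σ ℚ)) :
    teichmuller p t * x = WittVector.mk p (fun n => t ^ p ^ n * x.coeff n) := by
  apply (ghostMap.bijective_of_invertible p (MvPolynomial σ ℚ)).1
  rw [map_mul]
  ext1 n
  simp only [Pi.mul_apply, ghostMap_apply, ghostComponent_teichmuller]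
  rw [ghostComponent_apply, ghostComponent_apply, aeval_wittPolynomial, aeval_wittPolynomial,
    Finset.mul_sum]
  apply Finset.sum_congr rfl
  intro i hi
  rw [Finset.mem_range] at hi
  simp only [coeff_mk]
  have e : p ^ n = p ^ i * p ^ (n - i) := by
    rw [← pow_add]; congr 1; omega
  rw [mul_pow, ← pow_mul, ← e]
  ring

private theorem map_mk {R S : Type*} [CommRing R] [CommRing S] (f : R →+* S) (g : ℕ → R) :
    WittVector.map f (WittVector.mk p g) = WittVector.mk p (fun n => f (g n)) := by
  ext n
  simp [map_coeff]

private theorem teich_mul_aux₂ {σ : Type*} (t : MvPolynomial σ ℤ) (x : WittVector p (MvPolynomial σ ℤ)) :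
    teichmuller p t * x = WittVector.mk p (fun n => t ^ p ^ n * x.coeff n) := by
  refine map_injective (MvPolynomial.map (Int.castRingHom ℚ))
    (MvPolynomial.map_injective _ Int.cast_injective) ?_
  rw [map_mul, map_teichmuller, teich_mul_aux₁, map_mk]
  congr 1
  funext n
  simp [map_coeff]

theorem teichmuller_mul_eq_mk {R : Type*} [CommRing R] (t : R) (x : WittVector p R) :
    teichmuller p t * x = WittVector.mk p (fun n => t ^ p ^ n * x.coeff n) := by
  obtain ⟨t', rfl⟩ := counit_surjective R t
  obtain ⟨x', rfl⟩ := map_surjective _ (counit_surjective R) x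
  rw [← map_teichmuller, ← map_mul, teich_mul_aux₂, map_mk]
  congr 1
  funext n
  simp [map_coeff]

theorem teichmuller_mul_coeff {R : Type*} [CommRing R] (t : R) (x : WittVector p R) (n : ℕ) :
    (teichmuller p t * x).coeff n = t ^ p ^ n * x.coeff n := by
  rw [teichmuller_mul_eq_mk, coeff_mk]

theorem mul_teichmuller_coeff {R : Type*} [CommRing R] (t : R) (x : WittVector p R) (n : ℕ) :
    (x * teichmuller p t).coeff n = x.coeff n * t ^ p ^ n := by
  rw [mul_comm, teichmuller_mul_coeff, mul_comm]

end Groth.Agent.Helper9
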