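import Mathlib
import Groth.Prelude.Def_RegImm

set_option autoImplicit false
universe u

namespace Groth.Agent.Helper9.SyntFin

open TensorProduct

/-- a finite-dimensional algebra over a field, given by `n` generators and `n` relations, is a
global complete intersection in the sense of the prelude, also after the trivial localization -/
theorem isGlobalCI_away_one (κ : Type u) [Field κ] (F : Type u) [CommRing F] [Algebra κ F]
    [Module.Finite κ F] (n : ℕ) (Q : Algebra.Presentation κ F (Fin n) (Fin n)) :
    Synt.IsGlobalCI κ (Localization.Away (1 : F)) := by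
  let e : F ≃ₐ[F] Localization.Away (1 : F) := IsLocalization.atOne F (Localization.Away (1 : F))
  by_cases hF : Subsingleton F
  · left
    exact e.symm.toEquiv.subsingleton
  · right
    rw [not_subsingleton_iff_nontrivial] at hF
    let e' : F ≃ₐ[κ] Localization.Away (1 : F) := e.restrictScalars κ
    refine ⟨n, n, le_rfl, e'.toAlgHom.comp (MvPolynomial.aeval Q.val), Q.relation, ?_, ?_, ?_⟩
    · apply e'.surjective.comp
      intro x
      obtain ⟨y, hy⟩ := Q.algebraMap_surjective x
      exact ⟨y, by rw [← hy, Q.algebraMap_apply]; rfl⟩
    · rw [Q.span_range_relation_eq_ker, Q.ker_eq_ker_aeval_val]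
      ext x
      simp only [RingHom.mem_ker, AlgHom.toRingHom_eq_coe, RingHom.coe_coe, AlgHom.comp_apply]
      constructor
      · intro h
        exact e'.injective (by rw [map_zero]; exact h)
      · intro h
        rw [h]
        exact map_zero _
    · rw [Nat.sub_self, ringKrullDim_eq_of_ringEquiv e.symm.toRingEquiv]
      haveI : IsArtinianRing F := IsArtinianRing.of_finite κ F
      have h1 : ringKrullDim F ≤ 0 := by
        have := (isArtinianRing_iff_krullDimLE_zero (R := F)).mp inferInstance
        exact_mod_cast Ring.krullDimLE_iff.mp this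
      exact le_antisymm h1 ringKrullDim_nonneg_of_nontrivial

/-- fibres of a finite algebra with `n` generators and `n` relations are local complete
intersections -/
theorem isLCIOver_fiber {R S : Type u} [CommRing R] [CommRing S] [Algebra R S] [Module.Finite R S]
    (n : ℕ) (P : Algebra.Presentation R S (Fin n) (Fin n)) (q : PrimeSpectrum R) :
    Synt.IsLCIOver q.asIdeal.ResidueField (q.asIdeal.Fiber S) := by
  refine ⟨inferInstance, fun p => ⟨1, ?_, ?_⟩⟩
  · exact (Ideal.ne_top_iff_one _).mp p.isPrime.ne_top
  · exact isGlobalCI_away_one q.asIdeal.ResidueField (q.asIdeal.Fiber S) n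
      (P.baseChange q.asIdeal.ResidueField)

theorem isSyntomic_of_free_presentation {R S : Type u} [CommRing R] [CommRing S] [Algebra R S]
    [Module.Finite R S] [Module.Flat R S]
    (n : ℕ) (P : Algebra.Presentation R S (Fin n) (Fin n)) : Synt.IsSyntomic R S :=
  ⟨inferInstance, P.finitePresentation_of_isFinite, fun q => isLCIOver_fiber n P q⟩

end Groth.Agent.Helper9.SyntFin
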