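import Mathlib
import Groth.Prelude.Def_RegImm
import Groth.Agent.Helper9.SyntFin

set_option autoImplicit false
universe u

namespace Groth.Agent.Helper9.SyntRoot

open Polynomial

theorem faithfullyFlat_of_basis {R M ι : Type*} [CommRing R] [AddCommGroup M] [Module R M]
    [Nonempty ι] (b : Module.Basis ι R M) : Module.FaithfullyFlat R M := by
  haveI : Module.Free R M := Module.Free.of_basis b
  by_cases h : Nontrivial R
  · haveI : Nontrivial M := ⟨⟨b (Classical.arbitrary ι), 0, b.ne_zero _⟩⟩
    infer_instance
  · rw [not_nontrivial_iff_subsingleton] at h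
    exact ⟨fun m hm => absurd (Subsingleton.elim m ⊤) hm.ne_top⟩

/-- the presentation of `A[X]/(f)` with one generator and one relation -/
noncomputable def presAdjoinRoot {A : Type u} [CommRing A] (f : A[X]) :
    Algebra.Presentation A (AdjoinRoot f) (Fin 1) (Fin 1) := by
  have hkey : ∀ g : MvPolynomial (Fin 1) A,
      MvPolynomial.aeval (fun _ : Fin 1 => AdjoinRoot.root f) g =
        AdjoinRoot.mk f (MvPolynomial.uniqueAlgEquiv A (Fin 1) g) := by
    intro g
    have : (MvPolynomial.aeval (fun _ : Fin 1 => AdjoinRoot.root f) :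
        MvPolynomial (Fin 1) A →ₐ[A] AdjoinRoot f) =
        (AdjoinRoot.mkₐ f).comp (MvPolynomial.uniqueAlgEquiv A (Fin 1)).toAlgHom := by
      apply MvPolynomial.algHom_ext
      intro i
      rw [MvPolynomial.aeval_X, AlgHom.comp_apply]
      show AdjoinRoot.root f = AdjoinRoot.mk f (MvPolynomial.uniqueAlgEquiv A (Fin 1) (MvPolynomial.X i))
      rw [MvPolynomial.uniqueAlgEquiv_apply, MvPolynomial.eval₂_X]
      rfl
    exact DFunLike.congr_fun this g
  have hsurj : Function.Surjective
      (MvPolynomial.aeval (R := A) (fun _ : Fin 1 => AdjoinRoot.root f)) := by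
    intro x
    obtain ⟨g, rfl⟩ := AdjoinRoot.mk_surjective x
    exact ⟨(MvPolynomial.uniqueAlgEquiv A (Fin 1)).symm g, by rw [hkey, AlgEquiv.apply_symm_apply]⟩
  exact
    { toGenerators := Algebra.Generators.ofSurjective (fun _ => AdjoinRoot.root f) hsurj
      relation := fun _ => (MvPolynomial.uniqueAlgEquiv A (Fin 1)).symm f
      span_range_relation_eq_ker := by
        rw [Algebra.Generators.ker_eq_ker_aeval_val, Set.range_const]
        ext g
        rw [Ideal.mem_span_singleton, RingHom.mem_ker]
        show _ ↔ MvPolynomial.aeval (fun _ : Fin 1 => AdjoinRoot.root f) g = 0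
        rw [hkey, AdjoinRoot.mk_eq_zero]
        constructor
        · intro h
          have := map_dvd (MvPolynomial.uniqueAlgEquiv A (Fin 1)) h
          rwa [AlgEquiv.apply_symm_apply] at this
        · intro h
          have := map_dvd (MvPolynomial.uniqueAlgEquiv A (Fin 1)).symm h
          rwa [AlgEquiv.symm_apply_apply] at this }

end Groth.Agent.Helper9.SyntRoot
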