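import Mathlib

set_option autoImplicit false

namespace Groth.Agent.Helper9.FpqcLocal

open CategoryTheory CategoryTheory.Limits AlgebraicGeometry MorphismProperty

universe u

/-- base change of `g` along a composite `s ≫ t`, knowing `P` for the base change along `t`, when
`s` is an open immersion -/
theorem of_comp_openImm (P : MorphismProperty Scheme.{u}) [IsZariskiLocalAtTarget P]
    {X S U W : Scheme.{u}} (g : X ⟶ S) (t : U ⟶ S) (s : W ⟶ U) [IsOpenImmersion s]
    (h : P (pullback.snd g t)) : P (pullback.snd g (s ≫ t)) := by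
  have sq1 : IsPullback (pullback.fst g t) (pullback.snd g t) g t := IsPullback.of_hasPullback _ _
  have sq2 : IsPullback (pullback.fst (pullback.snd g t) s) (pullback.snd (pullback.snd g t) s)
      (pullback.snd g t) s := IsPullback.of_hasPullback _ _
  have h2 : P (pullback.snd (pullback.snd g t) s) :=
    IsZariskiLocalAtTarget.of_isPullback sq2 h
  have sq3 := sq2.paste_horiz sq1
  rw [← sq3.isoPullback_hom_snd, P.cancel_left_of_respectsIso] at h2
  exact h2

theorem of_isPullback_iff (P : MorphismProperty Scheme.{u}) [P.RespectsIso]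
    {X S U A : Scheme.{u}} {g : X ⟶ S} {t : U ⟶ S} {a : A ⟶ X} {b : A ⟶ U}
    (sq : IsPullback a b g t) : P b ↔ P (pullback.snd g t) := by
  rw [← sq.isoPullback_hom_snd, P.cancel_left_of_respectsIso]

set_option backward.isDefEq.respectTransparency false in
/-- A Zariski-local property that descends along single fpqc morphisms can be checked on the
members of an fpqc covering family of the target. -/
theorem of_fpqc_cover (P : MorphismProperty Scheme.{u}) [IsZariskiLocalAtTarget P]
    [P.DescendsAlong (@Surjective ⊓ @Flat ⊓ @QuasiCompact)]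
    {X S : Scheme.{u}} (g : X ⟶ S) (R : Presieve S) (hR : R ∈ Scheme.fpqcPrecoverage S)
    (h : ∀ ⦃U : Scheme.{u}⦄ (t : U ⟶ S), R t → P (pullback.snd g t)) : P g := by
  obtain ⟨I, U, k, rfl⟩ := R.exists_eq_ofArrows
  obtain ⟨hqc, -, hflat⟩ := hR
  let E : PreZeroHypercover.{u + 1} S := ⟨I, U, k⟩
  have hE : E.presieve₀ = Presieve.ofArrows U k := rfl
  rw [← hE, Scheme.presieve₀_mem_qcPrecoverage_iff] at hqc
  haveI := hqc
  have hfl : ∀ i, Flat (k i) := fun i => hflat (Presieve.ofArrows.mk i)
  rw [IsZariskiLocalAtTarget.iff_of_openCover (P := P) S.affineCover]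
  intro a
  set V := S.affineCover.X a with hV
  set ι := S.affineCover.f a with hι
  change P (pullback.snd g ι)
  haveI : IsAffine V := by rw [hV]; infer_instance
  have hcomp : IsCompact ((Scheme.Hom.opensRange ι : S.Opens) : Set S) :=
    (isAffineOpen_opensRange ι).isCompact
  obtain ⟨n, f, W, hW, hun⟩ := QuasiCompactCover.exists_isAffineOpen_of_isCompact E hcomp
  have hsub : ∀ j, Set.range ((W j).ι ≫ k (f j)) ⊆ Set.range ι := by
    intro j
    rintro _ ⟨x, rfl⟩
    have h1 : (k (f j)) ((W j).ι x) ∈ ⋃ i, E.f (f i) '' (W i) := by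
      refine Set.mem_iUnion.mpr ⟨j, (W j).ι x, ?_, rfl⟩
      exact x.2
    rw [hun] at h1
    simpa using h1
  let c : ∀ j, (W j).toScheme ⟶ V := fun j => IsOpenImmersion.lift ι ((W j).ι ≫ k (f j)) (hsub j)
  have hc : ∀ j, c j ≫ ι = (W j).ι ≫ k (f j) := fun j => IsOpenImmersion.lift_fac _ _ _
  haveI : ∀ j, IsAffine (W j).toScheme := fun j => hW j
  haveI : ∀ j, Flat (c j) := by
    intro j
    have h1 : Flat (c j ≫ ι) := by
      rw [hc]
      infer_instance
    exact MorphismProperty.of_postcomp (W := @Flat) (W' := monomorphisms _) (c j) ι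
      (inferInstanceAs (Mono ι)) h1
  let p : ∐ (fun j => (W j).toScheme) ⟶ V := Sigma.desc c
  have hιp : ∀ j, Sigma.ι (fun j => (W j).toScheme) j ≫ p = c j := fun j => Sigma.ι_desc _ _
  have hp : (@Surjective ⊓ @Flat ⊓ @QuasiCompact : MorphismProperty Scheme.{u}) p := by
    refine ⟨⟨⟨fun y => ?_⟩, ?_⟩, ?_⟩
    · have h1 : ι y ∈ ((Scheme.Hom.opensRange ι : S.Opens) : Set S) := ⟨y, rfl⟩
      rw [← hun] at h1
      obtain ⟨j, x, hx, hxy⟩ := Set.mem_iUnion.mp h1
      refine ⟨Sigma.ι (fun j => (W j).toScheme) j ⟨x, hx⟩, ?_⟩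
      rw [← Scheme.Hom.comp_apply, hιp]
      apply ι.isOpenEmbedding.injective
      rw [← Scheme.Hom.comp_apply, hc]
      exact hxy
    · rw [IsZariskiLocalAtSource.iff_of_openCover (P := @Flat)
        (sigmaOpenCover (fun j => (W j).toScheme))]
      intro j
      change Flat (Sigma.ι (fun j => (W j).toScheme) j ≫ p)
      rw [hιp]
      infer_instance
    · change QuasiCompact p
      infer_instance
  apply MorphismProperty.of_pullback_snd_of_descendsAlong
    (Q := @Surjective ⊓ @Flat ⊓ @QuasiCompact) hp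
  rw [IsZariskiLocalAtTarget.iff_of_openCover (P := P) (sigmaOpenCover (fun j => (W j).toScheme))]
  intro (j : Fin n)
  change P (pullback.snd (pullback.snd (pullback.snd g ι) p) (Sigma.ι (fun j => (W j).toScheme) j))
  have sq0 : IsPullback (pullback.fst g ι) (pullback.snd g ι) g ι := IsPullback.of_hasPullback _ _
  have sq1 : IsPullback (pullback.fst (pullback.snd g ι) p) (pullback.snd (pullback.snd g ι) p)
      (pullback.snd g ι) p := IsPullback.of_hasPullback _ _
  have sq2 : IsPullback
      (pullback.fst (pullback.snd (pullback.snd g ι) p) (Sigma.ι (fun j => (W j).toScheme) j))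
      (pullback.snd (pullback.snd (pullback.snd g ι) p) (Sigma.ι (fun j => (W j).toScheme) j))
      (pullback.snd (pullback.snd g ι) p) (Sigma.ι (fun j => (W j).toScheme) j) :=
    IsPullback.of_hasPullback _ _
  have sq3 := sq2.paste_horiz (sq1.paste_horiz sq0)
  have e : Sigma.ι (fun j => (W j).toScheme) j ≫ p ≫ ι = (W j).ι ≫ k (f j) := by
    rw [← Category.assoc, hιp, hc]
  rw [e] at sq3
  rw [of_isPullback_iff P sq3]
  exact of_comp_openImm P g (k (f j)) (W j).ι (h (k (f j)) (Presieve.ofArrows.mk (f j)))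

end Groth.Agent.Helper9.FpqcLocal
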