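import Mathlib
import Groth.Prelude.Def_NonAbH2
import Groth.Prelude.Def_ChGrp
import Groth.Agent.Helper9.FpqcLocal

set_option autoImplicit false
set_option linter.unusedSectionVars false

namespace Groth.Agent.Helper9.TorsorTriv

open CategoryTheory CategoryTheory.Limits MonoidalCategory CartesianMonoidalCategory MonObj
  AlgebraicGeometry

universe u

section

variable {S : Scheme.{u}} {G X : Over S} [GrpObj G] (a : AlgGrp.Action G X)
  (hps : IsIso (lift a.act (snd G X)))

/-- the division map `(x, y) ↦ g` with `x = g • y` of a pseudo-torsor -/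
noncomputable def dv : X ⊗ X ⟶ G :=
  @CategoryTheory.inv _ _ _ _ (lift a.act (snd G X)) hps ≫ fst G X

theorem dv_act {T : Over S} (g : T ⟶ G) (y : T ⟶ X) :
    lift (lift g y ≫ a.act) y ≫ dv a hps = g := by
  haveI : IsIso (lift a.act (snd G X)) := hps
  have e0 : lift (lift g y ≫ a.act) y = lift g y ≫ lift a.act (snd G X) := by
    rw [comp_lift, lift_snd]
  rw [e0, dv, Category.assoc, IsIso.hom_inv_id_assoc, lift_fst]

theorem act_dv {T : Over S} (x y : T ⟶ X) :
    lift (lift x y ≫ dv a hps) y ≫ a.act = x := by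
  haveI : IsIso (lift a.act (snd G X)) := hps
  set w := lift x y ≫ inv (lift a.act (snd G X)) with hw
  have h1 : w ≫ lift a.act (snd G X) = lift x y := by
    rw [hw, Category.assoc, IsIso.inv_hom_id, Category.comp_id]
  have h2 : w ≫ a.act = x := by
    have := congrArg (fun f => f ≫ fst X X) h1
    simpa using this
  have h3 : w ≫ snd G X = y := by
    have := congrArg (fun f => f ≫ snd X X) h1
    simpa using this
  have h4 : lift x y ≫ dv a hps = w ≫ fst G X := by
    rw [dv, ← Category.assoc]
  rw [h4]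
  conv_rhs => rw [← h2]
  congr 1
  rw [← h3, ← comp_lift, lift_fst_snd, Category.comp_id]

theorem phi_pt {T T' : Over S} (s : T ⟶ X) (g : T' ⟶ G) (t : T' ⟶ T) :
    lift g t ≫ lift ((G ◁ s) ≫ a.act) (snd G T) = lift (lift g (t ≫ s) ≫ a.act) t := by
  rw [comp_lift, lift_snd, lift_whiskerLeft_assoc]

theorem psi_pt {T T' : Over S} (s : T ⟶ X) (x : T' ⟶ X) (t : T' ⟶ T) :
    lift x t ≫ lift (lift (fst X T) (snd X T ≫ s) ≫ dv a hps) (snd X T) =
      lift (lift x (t ≫ s) ≫ dv a hps) t := by
  rw [comp_lift, lift_snd, ← Category.assoc, comp_lift, lift_fst, lift_snd_assoc]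

include hps in
/-- a section trivialises a pseudo-torsor -/
theorem triv_isIso {T : Over S} (s : T ⟶ X) :
    IsIso (lift ((G ◁ s) ≫ a.act) (snd G T)) := by
  refine ⟨⟨lift (lift (fst X T) (snd X T ≫ s) ≫ dv a hps) (snd X T), ?_, ?_⟩⟩
  · apply AlgGrp.Action.hom_ext_lift₂
    intro T' g t
    rw [Category.comp_id, ← Category.assoc, phi_pt, psi_pt, dv_act]
  · apply AlgGrp.Action.hom_ext_lift₂
    intro T' x t
    rw [Category.comp_id, ← Category.assoc, psi_pt, phi_pt, act_dv]

include hps in
/-- descent of properties of the group to a torsor -/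
theorem descend (P : MorphismProperty Scheme.{u}) [IsZariskiLocalAtTarget P]
    [P.IsStableUnderBaseChange]
    [P.DescendsAlong (@Surjective ⊓ @Flat ⊓ @QuasiCompact)]
    (hloc : NonAbH1.IsLocallyTrivialFor Scheme.fpqcPrecoverage X) (hG : P G.hom) : P X.hom := by
  obtain ⟨R, hR, hsec⟩ := hloc
  apply FpqcLocal.of_fpqc_cover P X.hom R hR
  intro U t ht
  obtain ⟨s, hs⟩ := hsec t ht
  let T : Over S := Over.mk t
  let s' : T ⟶ X := Over.homMk s hs
  haveI := triv_isIso a hps s'
  set φ := lift ((G ◁ s') ≫ a.act) (snd G T) with hφ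
  have h1 : φ ≫ snd X T = snd G T := lift_snd _ _
  have h2 : snd X T = inv φ ≫ snd G T := by
    rw [← h1, IsIso.inv_hom_id_assoc]
  have h3 : (snd X T).left = (inv φ).left ≫ (snd G T).left := by
    rw [← Over.comp_left, ← h2]
  haveI : IsIso (inv φ).left := (Over.forget S).map_isIso (inv φ)
  change P (snd X T).left
  rw [h3, P.cancel_left_of_respectsIso]
  change P (pullback.snd G.hom t)
  exact P.pullback_snd _ _ hG

end

end Groth.Agent.Helper9.TorsorTriv
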