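import Mathlib

set_option autoImplicit false

namespace Groth.Agent.Helper9.SubGrpObj

open CategoryTheory MonoidalCategory CartesianMonoidalCategory MonObj GrpObj

universe v u

variable {C : Type u} [Category.{v} C] [CartesianMonoidalCategory C]

/-- a subobject of a group object stable under the operations is a group object -/
@[reducible] noncomputable def grpObjOfMono {G H : C} [GrpObj G] (j : H ⟶ G) [Mono j]
    (e : 𝟙_ C ⟶ H) (m : H ⊗ H ⟶ H) (ι' : H ⟶ H)
    (he : e ≫ j = η[G]) (hm : m ≫ j = (j ⊗ₘ j) ≫ μ[G]) (hι : ι' ≫ j = j ≫ ι[G]) : GrpObj H where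
  one := e
  mul := m
  inv := ι'
  one_mul := by
    rw [← cancel_mono j]
    simp only [Category.assoc, hm]
    rw [← tensorHom_id, tensorHom_comp_tensorHom_assoc, he, Category.id_comp,
      MonoidalCategory.tensorHom_def', Category.assoc, MonObj.one_mul, leftUnitor_naturality]
  mul_one := by
    rw [← cancel_mono j]
    simp only [Category.assoc, hm]
    rw [← id_tensorHom, tensorHom_comp_tensorHom_assoc, he, Category.id_comp,
      MonoidalCategory.tensorHom_def, Category.assoc, MonObj.mul_one, rightUnitor_naturality]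
  mul_assoc := by
    rw [← cancel_mono j]
    simp only [Category.assoc, hm]
    rw [← tensorHom_id, tensorHom_comp_tensorHom_assoc, hm, Category.id_comp,
      ← id_tensorHom, tensorHom_comp_tensorHom_assoc, hm, Category.id_comp]
    have h1 : ((j ⊗ₘ j) ≫ μ[G]) ⊗ₘ j = ((j ⊗ₘ j) ⊗ₘ j) ≫ (μ[G] ▷ G) := by
      rw [← tensorHom_id, tensorHom_comp_tensorHom, Category.comp_id]
    have h2 : j ⊗ₘ ((j ⊗ₘ j) ≫ μ[G]) = (j ⊗ₘ (j ⊗ₘ j)) ≫ (G ◁ μ[G]) := by
      rw [← id_tensorHom, tensorHom_comp_tensorHom, Category.comp_id]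
    rw [h1, h2, Category.assoc, MonObj.mul_assoc, associator_naturality_assoc, Category.assoc]
  left_inv := by
    rw [← cancel_mono j]
    simp only [Category.assoc, hm]
    rw [lift_map_assoc, hι, Category.id_comp, he]
    have : lift (j ≫ ι[G]) j = j ≫ lift ι[G] (𝟙 G) := by simp
    rw [this, Category.assoc, GrpObj.left_inv, ← Category.assoc]
    congr 1
    exact toUnit_unique _ _
  right_inv := by
    rw [← cancel_mono j]
    simp only [Category.assoc, hm]
    rw [lift_map_assoc, hι, Category.id_comp, he]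
    have : lift j (j ≫ ι[G]) = j ≫ lift (𝟙 G) ι[G] := by simp
    rw [this, Category.assoc, GrpObj.right_inv, ← Category.assoc]
    congr 1
    exact toUnit_unique _ _

theorem isMonHom_of_grpObjOfMono {G H : C} [GrpObj G] (j : H ⟶ G) [Mono j]
    (e : 𝟙_ C ⟶ H) (m : H ⊗ H ⟶ H) (ι' : H ⟶ H)
    (he : e ≫ j = η[G]) (hm : m ≫ j = (j ⊗ₘ j) ≫ μ[G]) (hι : ι' ≫ j = j ≫ ι[G]) :
    letI := grpObjOfMono j e m ι' he hm hι
    IsMonHom j := by
  letI := grpObjOfMono j e m ι' he hm hι
  exact ⟨he, hm⟩

end Groth.Agent.Helper9.SubGrpObj
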