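import Mathlib

/-!
# VP1: homogeneous components of vectors of polynomials, and the "homogeneous part" of a submodule.
-/

set_option autoImplicit false
universe u v
open MvPolynomial

namespace Groth.Agent.Helper9.VP1

section Poly

variable {τ : Type*} {R : Type*} [CommSemiring R]

lemma homogeneousComponent_X_mul_succ (j : τ) (d : ℕ) (p : MvPolynomial τ R) :
    homogeneousComponent (d + 1) (X j * p) = X j * homogeneousComponent d p := by
  classical
  ext a
  rw [coeff_homogeneousComponent, coeff_X_mul', coeff_X_mul']
  by_cases hj : j ∈ a.support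
  · rw [if_pos hj, if_pos hj, coeff_homogeneousComponent]
    have hdeg : a.degree = (a - Finsupp.single j 1).degree + 1 := by
      have h1 : Finsupp.single j 1 ≤ a := by
        rw [Finsupp.single_le_iff]
        exact Nat.one_le_iff_ne_zero.2 (Finsupp.mem_support_iff.1 hj)
      conv_lhs => rw [← tsub_add_cancel_of_le h1]
      rw [map_add, Finsupp.degree_single]
    rw [hdeg]
    simp only [add_left_inj]
  · rw [if_neg hj, if_neg hj]
    simp

lemma homogeneousComponent_X_mul_zero (j : τ) (p : MvPolynomial τ R) :
    homogeneousComponent 0 (X j * p) = 0 := by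
  classical
  ext a
  rw [coeff_homogeneousComponent, coeff_X_mul', coeff_zero]
  by_cases hj : j ∈ a.support
  · rw [if_neg]
    intro h0
    have : a = 0 := (Finsupp.degree_eq_zero_iff a).1 h0
    rw [this] at hj
    simp at hj
  · rw [if_neg hj]
    simp

lemma map_homogeneousComponent {S : Type*} [CommSemiring S] (f : R →+* S) (d : ℕ)
    (p : MvPolynomial τ R) :
    map f (homogeneousComponent d p) = homogeneousComponent d (map f p) := by
  ext a
  rw [coeff_map, coeff_homogeneousComponent, coeff_homogeneousComponent, coeff_map]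
  split_ifs <;> simp

end Poly

section Vec

variable {τ : Type v} {R : Type u} [CommRing R] {r : ℕ}

/-- componentwise homogeneous component -/
noncomputable def hc (d : ℕ) : (Fin r → MvPolynomial τ R) →ₗ[R] (Fin r → MvPolynomial τ R) :=
  LinearMap.pi (fun i => (homogeneousComponent d).comp (LinearMap.proj i))

@[simp] lemma hc_apply (d : ℕ) (h : Fin r → MvPolynomial τ R) (i : Fin r) :
    hc d h i = homogeneousComponent d (h i) := rfl

lemma hc_C_smul (d : ℕ) (c : R) (h : Fin r → MvPolynomial τ R) :
    hc d ((C c : MvPolynomial τ R) • h) = (C c : MvPolynomial τ R) • hc d h := by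
  ext1 i
  simp only [hc_apply, Pi.smul_apply, smul_eq_mul, homogeneousComponent_C_mul]

lemma hc_X_smul_succ (j : τ) (d : ℕ) (h : Fin r → MvPolynomial τ R) :
    hc (d + 1) ((X j : MvPolynomial τ R) • h) = (X j : MvPolynomial τ R) • hc d h := by
  ext1 i
  simp only [hc_apply, Pi.smul_apply, smul_eq_mul, homogeneousComponent_X_mul_succ]

lemma hc_X_smul_zero (j : τ) (h : Fin r → MvPolynomial τ R) :
    hc 0 ((X j : MvPolynomial τ R) • h) = 0 := by
  ext1 i
  simp only [hc_apply, Pi.smul_apply, smul_eq_mul, homogeneousComponent_X_mul_zero, Pi.zero_apply]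

lemma hc_hc (e d : ℕ) (h : Fin r → MvPolynomial τ R) :
    hc e (hc d h) = if e = d then hc d h else 0 := by
  ext1 i
  rw [hc_apply, hc_apply, homogeneousComponent_of_mem (homogeneousComponent_mem d (h i))]
  split_ifs <;> simp

/-- the vectors all of whose components are homogeneous of degree `d` -/
noncomputable def H (τ : Type v) (R : Type u) [CommRing R] (r : ℕ) (d : ℕ) :
    Submodule R (Fin r → MvPolynomial τ R) :=
  Submodule.pi Set.univ (fun _ => homogeneousSubmodule τ R d)

lemma mem_H {d : ℕ} {h : Fin r → MvPolynomial τ R} :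
    h ∈ H τ R r d ↔ ∀ i, (h i).IsHomogeneous d := by
  simp [H, Submodule.mem_pi]

lemma hc_mem_H (d : ℕ) (h : Fin r → MvPolynomial τ R) : hc d h ∈ H τ R r d :=
  mem_H.2 fun i => homogeneousComponent_isHomogeneous d (h i)

lemma hc_of_mem_H {d : ℕ} {h : Fin r → MvPolynomial τ R} (hh : h ∈ H τ R r d) (e : ℕ) :
    hc e h = if e = d then h else 0 := by
  ext1 i
  rw [hc_apply, homogeneousComponent_of_mem (mem_H.1 hh i)]
  split_ifs <;> simp

lemma H_fg [Finite τ] (d : ℕ) : (H τ R r d).FG :=
  Submodule.fg_pi (fun _ => homogeneousSubmodule_fg (σ := τ) (R := R) d)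

lemma sum_hc (h : Fin r → MvPolynomial τ R) :
    ∃ D : ℕ, ∑ d ∈ Finset.range (D + 1), hc d h = h := by
  refine ⟨Finset.univ.sup (fun i => (h i).totalDegree), ?_⟩
  ext1 i
  rw [Finset.sum_apply]
  simp only [hc_apply]
  have hle : (h i).totalDegree ≤ Finset.univ.sup (fun i => (h i).totalDegree) :=
    Finset.le_sup (f := fun i => (h i).totalDegree) (Finset.mem_univ i)
  rw [← Finset.sum_subset (Finset.range_subset_range.2 (Nat.succ_le_succ hle))]
  · exact sum_homogeneousComponent (h i)
  · intro e _ he
    apply homogeneousComponent_eq_zero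
    rw [Finset.mem_range] at he
    omega

/-- the homogeneous part of a submodule: vectors all of whose homogeneous components lie in `L` -/
noncomputable def homPart (L : Submodule (MvPolynomial τ R) (Fin r → MvPolynomial τ R)) :
    Submodule (MvPolynomial τ R) (Fin r → MvPolynomial τ R) where
  carrier := {h | ∀ d, hc d h ∈ L}
  add_mem' := by
    intro a b ha hb d
    rw [map_add]
    exact L.add_mem (ha d) (hb d)
  zero_mem' := by
    intro d
    rw [map_zero]
    exact L.zero_mem
  smul_mem' := by
    intro q h hh
    induction q using MvPolynomial.induction_on generalizing h with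
    | C c =>
      intro d
      rw [hc_C_smul]
      exact L.smul_mem _ (hh d)
    | add p q hp hq =>
      intro d
      rw [add_smul, map_add]
      exact L.add_mem (hp hh d) (hq hh d)
    | mul_X p j hp =>
      rw [mul_smul]
      apply hp
      intro d
      cases d with
      | zero =>
        rw [hc_X_smul_zero]
        exact L.zero_mem
      | succ d =>
        rw [hc_X_smul_succ]
        exact L.smul_mem _ (hh d)

lemma mem_homPart {L : Submodule (MvPolynomial τ R) (Fin r → MvPolynomial τ R)}
    {h : Fin r → MvPolynomial τ R} : h ∈ homPart L ↔ ∀ d, hc d h ∈ L := Iff.rfl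

lemma homPart_le (L : Submodule (MvPolynomial τ R) (Fin r → MvPolynomial τ R)) :
    homPart L ≤ L := by
  intro h hh
  obtain ⟨D, hD⟩ := sum_hc h
  rw [← hD]
  exact L.sum_mem fun d _ => hh d

lemma hc_mem_homPart {L : Submodule (MvPolynomial τ R) (Fin r → MvPolynomial τ R)}
    {h : Fin r → MvPolynomial τ R} (hh : h ∈ homPart L) (d : ℕ) : hc d h ∈ homPart L := by
  intro e
  rw [hc_hc]
  split_ifs
  · exact hh d
  · exact L.zero_mem

lemma mem_homPart_of_mem_H {L : Submodule (MvPolynomial τ R) (Fin r → MvPolynomial τ R)}
    {h : Fin r → MvPolynomial τ R} {d : ℕ} (hH : h ∈ H τ R r d) (hL : h ∈ L) : h ∈ homPart L := by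
  intro e
  rw [hc_of_mem_H hH]
  split_ifs
  · exact hL
  · exact L.zero_mem

/-- a submodule spanned by elements of `homPart L` which lie in `L'`... : if all generators have all
their components in `L'`, then `span ≤ homPart L'`. -/
lemma span_le_homPart {L' : Submodule (MvPolynomial τ R) (Fin r → MvPolynomial τ R)}
    {S : Set (Fin r → MvPolynomial τ R)} (hS : ∀ s ∈ S, ∀ d, hc d s ∈ L') :
    Submodule.span (MvPolynomial τ R) S ≤ homPart L' :=
  Submodule.span_le.2 fun s hs => hS s hs

end Vec

end Groth.Agent.Helper9.VP1
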