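import Mathlib
import Groth.Agent.Helper9.VP1

/-!
# VP2: over a valuation ring `V`, the homogeneous part of a `V`-saturated submodule of
`V[y]^r` is finitely generated.
-/

set_option autoImplicit false
universe u v
open MvPolynomial

namespace Groth.Agent.Helper9.VP2

open Groth.Agent.Helper9.VP1

section

variable {V : Type u} [CommRing V] [IsDomain V] [ValuationRing V]

/-- over a valuation ring, elements of `I • T` are single multiples -/
lemma exists_smul_of_mem_smul {H : Type*} [AddCommGroup H] [Module V H] (I : Ideal V)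
    (T : Submodule V H) {z : H} (hz : z ∈ I • T) : ∃ c ∈ I, ∃ z' ∈ T, z = c • z' := by
  refine Submodule.smul_induction_on hz (fun c hc n hn => ⟨c, hc, n, hn, rfl⟩) ?_
  rintro x y ⟨c₁, hc₁, x', hx', rfl⟩ ⟨c₂, hc₂, y', hy', rfl⟩
  rcases ValuationRing.dvd_total c₁ c₂ with ⟨t, rfl⟩ | ⟨t, rfl⟩
  · exact ⟨c₁, hc₁, x' + t • y', T.add_mem hx' (T.smul_mem _ hy'), by
      rw [smul_add, mul_smul]⟩
  · exact ⟨c₂, hc₂, t • x' + y', T.add_mem (T.smul_mem _ hx') hy', by
      rw [smul_add, mul_smul]⟩

variable {τ : Type v} {r : ℕ}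

/-- reduction modulo the maximal ideal, componentwise -/
noncomputable def redr (V : Type u) [CommRing V] [IsLocalRing V] (τ : Type v) (r : ℕ) :
    (Fin r → MvPolynomial τ V) →ₛₗ[MvPolynomial.map (σ := τ) (IsLocalRing.residue V)]
      (Fin r → MvPolynomial τ (IsLocalRing.ResidueField V)) where
  toFun h i := MvPolynomial.map (IsLocalRing.residue V) (h i)
  map_add' a b := by
    ext1 i
    simp
  map_smul' q h := by
    ext1 i
    simp

@[simp] lemma redr_apply (h : Fin r → MvPolynomial τ V) (i : Fin r) :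
    redr V τ r h i = MvPolynomial.map (IsLocalRing.residue V) (h i) := rfl

lemma redr_hc (d : ℕ) (h : Fin r → MvPolynomial τ V) :
    redr V τ r (hc d h) = hc d (redr V τ r h) := by
  ext1 i
  simp only [redr_apply, hc_apply, map_homogeneousComponent]

/-- a homogeneous vector reducing to zero lies in `𝔪 • H d` -/
lemma mem_smul_H_of_redr_eq_zero {d : ℕ} {w : Fin r → MvPolynomial τ V}
    (hw : w ∈ H τ V r d) (h0 : redr V τ r w = 0) :
    w ∈ IsLocalRing.maximalIdeal V • H τ V r d := by
  classical
  have hsum : w = ∑ i, Pi.single i (w i) := by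
    ext1 j
    simp [Finset.sum_apply, Pi.single_apply]
  rw [hsum]
  refine Submodule.sum_mem _ fun i _ => ?_
  rw [← support_sum_monomial_coeff (w i)]
  have : (Pi.single i (∑ v ∈ (w i).support, (monomial v) (coeff v (w i))) :
      Fin r → MvPolynomial τ V) =
      ∑ v ∈ (w i).support, Pi.single i ((monomial v) (coeff v (w i))) := by
    ext1 j
    by_cases hj : j = i
    · subst hj
      simp [Finset.sum_apply]
    · simp [Finset.sum_apply, hj]
  rw [this]
  refine Submodule.sum_mem _ fun a ha => ?_
  have hcoef : coeff a (w i) ∈ IsLocalRing.maximalIdeal V := by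
    have h1 : MvPolynomial.map (IsLocalRing.residue V) (w i) = 0 := by
      have := congrFun h0 i
      simpa using this
    have h2 : IsLocalRing.residue V (coeff a (w i)) = 0 := by
      rw [← coeff_map, h1, coeff_zero]
    exact (IsLocalRing.residue_eq_zero_iff _).1 h2
  have hmon : (Pi.single i ((monomial a) (coeff a (w i))) : Fin r → MvPolynomial τ V) =
      coeff a (w i) • (Pi.single i ((monomial a) (1 : V)) : Fin r → MvPolynomial τ V) := by
    ext1 j
    by_cases hj : j = i
    · subst hj
      simp [smul_monomial]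
    · simp [hj]
  rw [hmon]
  refine Submodule.smul_mem_smul hcoef ?_
  rw [mem_H]
  intro j
  by_cases hj : j = i
  · subst hj
    rw [Pi.single_eq_same]
    refine isHomogeneous_monomial 1 ?_
    have hhom := (mem_H.1 hw) j
    have := hhom (mem_support_iff.1 ha)
    rw [Finsupp.degree_eq_weight_one]
    exact this
  · rw [Pi.single_eq_of_ne hj]
    exact isHomogeneous_zero _ _ _

end

section Main

variable {V : Type u} [CommRing V] [IsDomain V] [ValuationRing V]
variable {τ : Type v} [Finite τ] {r : ℕ}

omit [IsDomain V] [ValuationRing V] [Finite τ] in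
/-- the `V`-scalar action agrees with multiplication by constants -/
lemma smul_eq_C_smul (c : V) (h : Fin r → MvPolynomial τ V) :
    c • h = (C c : MvPolynomial τ V) • h := by
  ext1 i
  simp [MvPolynomial.smul_eq_C_mul]

/-- finite generation of the graded pieces -/
lemma graded_piece_fg (N : Submodule (MvPolynomial τ V) (Fin r → MvPolynomial τ V))
    (htf : ∀ c : V, c ≠ 0 → ∀ h, c • h ∈ N → h ∈ N) (d : ℕ) :
    (N.restrictScalars V ⊓ H τ V r d).FG := by
  classical
  let NV : Submodule V (Fin r → MvPolynomial τ V) := N.restrictScalars V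
  let ψ : ↥(H τ V r d) →ₗ[V] ((Fin r → MvPolynomial τ V) ⧸ NV) :=
    NV.mkQ.comp (H τ V r d).subtype
  have : Module.Finite V ↥(H τ V r d) := Module.Finite.iff_fg.2 (H_fg d)
  let T : Submodule V ((Fin r → MvPolynomial τ V) ⧸ NV) := LinearMap.range ψ
  have hTfin : Module.Finite V T := Module.Finite.range ψ
  have hTtf : Module.IsTorsionFree V T := by
    refine ⟨fun a ha => ?_⟩
    have ha0 : a ≠ 0 := ha.ne_zero
    intro t₁ t₂ h12
    have h12' : a • (t₁ - t₂) = 0 := by
      rw [smul_sub]
      exact sub_eq_zero.2 h12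
    suffices h : t₁ - t₂ = 0 from sub_eq_zero.1 h
    obtain ⟨x, hx⟩ := NV.mkQ_surjective (t₁ - t₂ : T).1
    have h3 : NV.mkQ (a • x) = 0 := by
      rw [map_smul, hx]
      have := congrArg Subtype.val h12'
      simpa using this
    rw [Submodule.mkQ_apply, Submodule.Quotient.mk_eq_zero] at h3
    have hxN : x ∈ N := htf a ha0 x h3
    apply Subtype.ext
    rw [← hx]
    exact (Submodule.Quotient.mk_eq_zero NV).2 hxN
  have hTflat : Module.Flat V T :=
    Module.Flat.flat_iff_torsion_eq_bot_of_isBezout.2
      (Submodule.isTorsionFree_iff_torsion_eq_bot.1 hTtf)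
  have hTfree : Module.Free V T := Module.free_of_flat_of_isLocalRing
  have hTfp : Module.FinitePresentation V T := Module.finitePresentation_of_projective V T
  have hker : (LinearMap.ker ψ.rangeRestrict).FG :=
    Module.FinitePresentation.fg_ker ψ.rangeRestrict ψ.surjective_rangeRestrict
  have hmap := hker.map (H τ V r d).subtype
  convert hmap using 1
  ext x
  simp only [Submodule.mem_inf, Submodule.mem_map, LinearMap.mem_ker, Submodule.subtype_apply,
    Subtype.exists, exists_and_right, exists_eq_right]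
  constructor
  · rintro ⟨hxN, hxH⟩
    refine ⟨hxH, ?_⟩
    apply Subtype.ext
    show NV.mkQ x = 0
    exact (Submodule.Quotient.mk_eq_zero NV).2 hxN
  · rintro ⟨hxH, hx⟩
    refine ⟨?_, hxH⟩
    have := congrArg Subtype.val hx
    exact (Submodule.Quotient.mk_eq_zero NV).1 this

/-- **Graded finiteness**: the homogeneous part of a `V`-saturated submodule is finitely
generated. -/
theorem homPart_fg (L : Submodule (MvPolynomial τ V) (Fin r → MvPolynomial τ V))
    (htfL : ∀ c : V, c ≠ 0 → ∀ h, c • h ∈ L → h ∈ L) : (homPart L).FG := by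
  classical
  set N := homPart L with hNdef
  -- `N` is saturated as well
  have htf : ∀ c : V, c ≠ 0 → ∀ h, c • h ∈ N → h ∈ N := by
    intro c hc h hch d
    have := hch d
    rw [map_smul] at this
    exact htfL c hc _ this
  have hsurj : Function.Surjective (MvPolynomial.map (σ := τ) (IsLocalRing.residue V)) :=
    MvPolynomial.map_surjective _ IsLocalRing.residue_surjective
  have : RingHomSurjective (MvPolynomial.map (σ := τ) (IsLocalRing.residue V)) := ⟨hsurj⟩
  let Nb : Submodule (MvPolynomial τ (IsLocalRing.ResidueField V))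
      (Fin r → MvPolynomial τ (IsLocalRing.ResidueField V)) := N.map (redr V τ r)
  have hNbfg : Nb.FG := IsNoetherian.noetherian Nb
  obtain ⟨S, hS⟩ := hNbfg
  have hg : ∀ s ∈ S, ∃ g ∈ N, redr V τ r g = s := by
    intro s hs
    have : s ∈ Nb := hS ▸ Submodule.subset_span hs
    exact this
  choose! g hgN hgs using hg
  have hD : ∀ s, ∃ D : ℕ, ∑ d ∈ Finset.range (D + 1), hc d (g s) = g s := fun s => sum_hc (g s)
  choose D hDs using hD
  set G : Set (Fin r → MvPolynomial τ V) :=
    ⋃ s ∈ S, ⋃ d ∈ Finset.range (D s + 1), {hc d (g s)} with hGdef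
  have hGfin : G.Finite :=
    Set.Finite.biUnion S.finite_toSet fun s _ =>
      Set.Finite.biUnion (Finset.finite_toSet _) fun d _ => Set.finite_singleton _
  set N' : Submodule (MvPolynomial τ V) (Fin r → MvPolynomial τ V) :=
    Submodule.span (MvPolynomial τ V) G with hN'def
  have hmemG : ∀ s ∈ S, ∀ d ∈ Finset.range (D s + 1), hc d (g s) ∈ G := by
    intro s hs d hd
    rw [hGdef]
    exact Set.mem_biUnion hs (Set.mem_biUnion hd (Set.mem_singleton _))
  have hN'N : N' ≤ N := by
    rw [hN'def, Submodule.span_le]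
    intro x hx
    rw [hGdef, Set.mem_iUnion₂] at hx
    obtain ⟨s, hs, hx⟩ := hx
    rw [Set.mem_iUnion₂] at hx
    obtain ⟨d, _, hx⟩ := hx
    rw [Set.mem_singleton_iff] at hx
    rw [hx]
    exact hc_mem_homPart (hgN s hs) d
  have hN'hom : N' ≤ homPart N' := by
    rw [hN'def]
    refine span_le_homPart ?_
    intro x hx e
    rw [hGdef, Set.mem_iUnion₂] at hx
    obtain ⟨s, hs, hx⟩ := hx
    rw [Set.mem_iUnion₂] at hx
    obtain ⟨d, hd, hx⟩ := hx
    rw [Set.mem_singleton_iff] at hx
    rw [hx, hc_hc]
    split_ifs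
    · exact Submodule.subset_span (hmemG s hs d hd)
    · exact Submodule.zero_mem _
  have hgN' : ∀ s ∈ S, g s ∈ N' := by
    intro s hs
    rw [← hDs s]
    exact Submodule.sum_mem _ fun d hd => Submodule.subset_span (hmemG s hs d hd)
  -- degree by degree
  have hdeg : ∀ d : ℕ, N.restrictScalars V ⊓ H τ V r d ≤ N'.restrictScalars V ⊓ H τ V r d := by
    intro d
    refine Submodule.le_of_le_smul_of_le_jacobson_bot (I := IsLocalRing.maximalIdeal V)
      (graded_piece_fg N htf d) (IsLocalRing.jacobson_eq_maximalIdeal ⊥ bot_ne_top).ge ?_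
    intro z hz
    obtain ⟨hzN, hzH⟩ := hz
    have hzNb : redr V τ r z ∈ Nb := Submodule.mem_map_of_mem hzN
    rw [← hS, Submodule.mem_span_finset] at hzNb
    obtain ⟨fb, _, hfb⟩ := hzNb
    have hlift : ∀ s, ∃ q : MvPolynomial τ V,
        MvPolynomial.map (IsLocalRing.residue V) q = fb s := fun s => hsurj (fb s)
    choose f hf using hlift
    set h' : Fin r → MvPolynomial τ V := ∑ s ∈ S, f s • g s with hh'
    have hh'N' : h' ∈ N' := Submodule.sum_mem _ fun s hs => Submodule.smul_mem _ _ (hgN' s hs)
    have hredh' : redr V τ r h' = redr V τ r z := by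
      rw [hh', map_sum, ← hfb]
      refine Finset.sum_congr rfl fun s hs => ?_
      rw [LinearMap.map_smulₛₗ, hf, hgs s hs]
    set w : Fin r → MvPolynomial τ V := z - hc d h' with hw
    have hwH : w ∈ H τ V r d := Submodule.sub_mem _ hzH (hc_mem_H d h')
    have hwN : w ∈ N := by
      refine Submodule.sub_mem _ hzN ?_
      exact hc_mem_homPart (hN'N hh'N') d
    have hw0 : redr V τ r w = 0 := by
      rw [hw, map_sub, redr_hc, hredh', ← redr_hc, hc_of_mem_H hzH, if_pos rfl, sub_self]
    have hwsm : w ∈ IsLocalRing.maximalIdeal V • (N.restrictScalars V ⊓ H τ V r d) := by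
      obtain ⟨c, hc𝔪, w', hw'H, hww'⟩ :=
        exists_smul_of_mem_smul _ _ (mem_smul_H_of_redr_eq_zero hwH hw0)
      by_cases hc0 : c = 0
      · rw [hww', hc0, zero_smul]
        exact Submodule.zero_mem _
      · rw [hww']
        refine Submodule.smul_mem_smul hc𝔪 ⟨?_, hw'H⟩
        exact htf c hc0 w' (hww' ▸ hwN)
    have hz_eq : z = hc d h' + w := by
      rw [hw]
      abel
    rw [hz_eq]
    refine Submodule.add_mem_sup ⟨?_, hc_mem_H d h'⟩ hwsm
    exact hN'hom hh'N' d
  -- conclusion
  have hNN' : N ≤ N' := by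
    intro h hh
    obtain ⟨Dh, hDh⟩ := sum_hc h
    rw [← hDh]
    refine Submodule.sum_mem _ fun d _ => ?_
    exact (hdeg d ⟨hc_mem_homPart hh d, hc_mem_H d h⟩).1
  rw [le_antisymm hNN' hN'N]
  exact Submodule.fg_span hGfin

end Main

end Groth.Agent.Helper9.VP2
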