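import Mathlib
import Groth.Agent.Helper9.VP2

/-!
# VP3: over a valuation ring `V`, a `V`-saturated submodule of `V[x_1..x_n]^r` is finitely
generated; finite `V[x]`-modules without `V`-torsion are finitely presented.
-/

set_option autoImplicit false
universe u
open MvPolynomial

namespace Groth.Agent.Helper9.VP3

open Groth.Agent.Helper9.VP1 Groth.Agent.Helper9.VP2

section Dehom

variable (V : Type u) [CommRing V] (n : ℕ)

/-- dehomogenization `y_0 ↦ 1`, `y_{i+1} ↦ x_i` -/
noncomputable def dhA : MvPolynomial (Fin (n + 1)) V →ₐ[V] MvPolynomial (Fin n) V :=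
  aeval (Fin.cases (1 : MvPolynomial (Fin n) V) X)

/-- the shift of variables -/
def sh : Fin n → Fin (n + 1) := Fin.succ

variable {V n}

lemma dhA_rename (p : MvPolynomial (Fin n) V) : dhA V n (rename (sh n) p) = p := by
  rw [dhA, aeval_rename]
  have : ((Fin.cases (1 : MvPolynomial (Fin n) V) X : Fin (n + 1) → MvPolynomial (Fin n) V)
      ∘ sh n) = X := by
    funext i
    simp [sh]
  rw [this, aeval_X_left]
  rfl

lemma dhA_X_zero : dhA V n (X 0) = 1 := by
  rw [dhA, aeval_X]
  rfl

lemma dhA_surjective : Function.Surjective (dhA V n) := fun p => ⟨_, dhA_rename p⟩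

lemma exists_homogenization (p : MvPolynomial (Fin n) V) (D : ℕ)
    (hD : p.totalDegree ≤ D) :
    ∃ q : MvPolynomial (Fin (n + 1)) V, q.IsHomogeneous D ∧ dhA V n q = p := by
  classical
  refine ⟨∑ a ∈ p.support, X 0 ^ (D - a.degree) *
    rename (sh n) (monomial a (coeff a p)), ?_, ?_⟩
  · refine IsHomogeneous.sum _ _ _ fun a ha => ?_
    have hle : a.degree ≤ D := by
      refine le_trans ?_ hD
      have := le_totalDegree ha
      simpa [Finsupp.degree, Finsupp.sum] using this
    have h1 := (isHomogeneous_X_pow (R := V) (0 : Fin (n + 1))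
      (D - a.degree)).mul
      ((isHomogeneous_monomial (coeff a p) (rfl : a.degree = a.degree)).rename_isHomogeneous
        (f := sh n))
    rwa [Nat.sub_add_cancel hle] at h1
  · rw [map_sum]
    conv_rhs => rw [← support_sum_monomial_coeff p]
    refine Finset.sum_congr rfl fun a _ => ?_
    rw [map_mul, map_pow, dhA_X_zero, one_pow, one_mul, dhA_rename]

end Dehom

section Main

variable {V : Type u} [CommRing V] {n r : ℕ}

/-- componentwise dehomogenization, semilinear -/
noncomputable def dhr (V : Type u) [CommRing V] (n r : ℕ) :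
    (Fin r → MvPolynomial (Fin (n + 1)) V) →ₛₗ[(dhA V n).toRingHom]
      (Fin r → MvPolynomial (Fin n) V) where
  toFun h i := dhA V n (h i)
  map_add' a b := by
    ext1 i
    simp
  map_smul' q h := by
    ext1 i
    simp

@[simp] lemma dhr_apply (h : Fin r → MvPolynomial (Fin (n + 1)) V) (i : Fin r) :
    dhr V n r h i = dhA V n (h i) := rfl

lemma dhr_smul (c : V) (h : Fin r → MvPolynomial (Fin (n + 1)) V) :
    dhr V n r (c • h) = c • dhr V n r h := by
  ext1 i
  rw [dhr_apply, Pi.smul_apply, Pi.smul_apply, dhr_apply, map_smul]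

variable [IsDomain V] [ValuationRing V]

/-- **Affine finiteness**: a `V`-saturated submodule of `V[x_1..x_n]^r` is finitely generated. -/
theorem fg_of_saturated
    (N : Submodule (MvPolynomial (Fin n) V) (Fin r → MvPolynomial (Fin n) V))
    (htf : ∀ c : V, c ≠ 0 → ∀ u, c • u ∈ N → u ∈ N) : N.FG := by
  classical
  have : RingHomSurjective (dhA V n).toRingHom := ⟨dhA_surjective⟩
  set L : Submodule (MvPolynomial (Fin (n + 1)) V)
      (Fin r → MvPolynomial (Fin (n + 1)) V) := N.comap (dhr V n r) with hL
  have htfL : ∀ c : V, c ≠ 0 → ∀ h, c • h ∈ L → h ∈ L := by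
    intro c hc h hch
    rw [hL, Submodule.mem_comap] at hch ⊢
    rw [dhr_smul] at hch
    exact htf c hc _ hch
  have hfg := homPart_fg L htfL
  have hN : N = (homPart L).map (dhr V n r) := by
    apply le_antisymm
    · intro u hu
      set D : ℕ := Finset.univ.sup (fun i => (u i).totalDegree) with hD
      have hex : ∀ i, ∃ q : MvPolynomial (Fin (n + 1)) V,
          q.IsHomogeneous D ∧ dhA V n q = u i := fun i =>
        exists_homogenization (u i) D
          (Finset.le_sup (f := fun i => (u i).totalDegree) (Finset.mem_univ i))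
      choose h hh1 hh2 using hex
      refine ⟨h, ?_, ?_⟩
      · refine mem_homPart_of_mem_H (d := D) (mem_H.2 hh1) ?_
        rw [hL, Submodule.mem_comap]
        convert hu using 1
        ext1 i
        rw [dhr_apply, hh2]
      · ext1 i
        rw [dhr_apply, hh2]
    · rintro _ ⟨h, hh, rfl⟩
      exact homPart_le L hh
  rw [hN]
  exact hfg.map _

/-- **Finite presentation**: a finite `V[x_1..x_n]`-module without `V`-torsion is finitely
presented. -/
theorem finitePresentation_of_torsionFree
    {M : Type u} [AddCommGroup M] [Module (MvPolynomial (Fin n) V) M] [Module V M]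
    [IsScalarTower V (MvPolynomial (Fin n) V) M]
    [Module.Finite (MvPolynomial (Fin n) V) M]
    (htf : ∀ c : V, c ≠ 0 → ∀ m : M, c • m = 0 → m = 0) :
    Module.FinitePresentation (MvPolynomial (Fin n) V) M := by
  obtain ⟨r, π, hπ⟩ := Module.Finite.exists_fin' (MvPolynomial (Fin n) V) M
  refine Module.finitePresentation_of_surjective π hπ ?_
  refine fg_of_saturated (LinearMap.ker π) ?_
  intro c hc u hu
  rw [LinearMap.mem_ker] at hu ⊢
  apply htf c hc
  rw [← hu, ← algebraMap_smul (MvPolynomial (Fin n) V) c u, map_smul, algebraMap_smul]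

end Main

end Groth.Agent.Helper9.VP3
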