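import Mathlib
import Groth.Agent.Helper9.VP3

/-!
# VP4: finite modules without torsion over localizations of polynomial rings over a valuation
ring are finitely presented; passage to quotients.
-/

set_option autoImplicit false
universe u
open MvPolynomial TensorProduct

namespace Groth.Agent.Helper9.VP4

open Groth.Agent.Helper9.VP3

section C1

variable {P : Type*} [CommRing P] (S : Submonoid P) (Pq : Type*) [CommRing Pq] [Algebra P Pq]
  [IsLocalization S Pq]
  {M : Type*} [AddCommGroup M] [Module P M] [Module Pq M] [IsScalarTower P Pq M]

/-- a finite module over a localization is the localization of a finitely generated submodule -/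
theorem exists_submodule_isLocalizedModule [Module.Finite Pq M] :
    ∃ M₀ : Submodule P M, M₀.FG ∧ IsLocalizedModule S M₀.subtype := by
  classical
  obtain ⟨T, hT⟩ := Module.Finite.fg_top (R := Pq) (M := M)
  refine ⟨Submodule.span P (T : Set M), Submodule.fg_span T.finite_toSet, ?_⟩
  have hid := isLocalizedModule_id S M Pq
  refine ⟨hid.map_units, ?_, ?_⟩
  · -- surjectivity up to denominators
    let Y : Submodule Pq M :=
      { carrier := {y | ∃ s : S, (s : P) • y ∈ Submodule.span P (T : Set M)}
        add_mem' := by
          rintro a b ⟨s, hs⟩ ⟨t, ht⟩
          refine ⟨s * t, ?_⟩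
          rw [Submonoid.coe_mul, smul_add]
          refine Submodule.add_mem _ ?_ ?_
          · rw [mul_comm, mul_smul]
            exact Submodule.smul_mem _ _ hs
          · rw [mul_smul]
            exact Submodule.smul_mem _ _ ht
        zero_mem' := ⟨1, by rw [smul_zero]; exact Submodule.zero_mem _⟩
        smul_mem' := by
          rintro c y ⟨s, hs⟩
          obtain ⟨⟨p, t⟩, hpt⟩ := IsLocalization.surj S c
          refine ⟨t * s, ?_⟩
          have : ((t * s : S) : P) • c • y = p • ((s : P) • y) := by
            rw [Submonoid.coe_mul, mul_smul, smul_comm (s : P) c y,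
              ← algebraMap_smul Pq (t : P) (c • (s : P) • y), ← mul_smul, mul_comm,
              hpt, algebraMap_smul]
          rw [this]
          exact Submodule.smul_mem _ _ hs }
    have hY : Y = ⊤ := by
      rw [eq_top_iff, ← hT, Submodule.span_le]
      intro t ht
      exact ⟨1, by rw [Submonoid.coe_one, one_smul]; exact Submodule.subset_span ht⟩
    intro y
    have hy : y ∈ Y := hY ▸ Submodule.mem_top
    obtain ⟨s, hs⟩ := hy
    exact ⟨(⟨(s : P) • y, hs⟩, s), rfl⟩
  · intro x₁ x₂ h
    refine ⟨1, ?_⟩
    rw [one_smul, one_smul]
    exact Subtype.ext h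

end C1

section C

variable {A : Type u} [CommRing A] [IsDomain A] [ValuationRing A] {n : ℕ}
  (q : Ideal (MvPolynomial (Fin n) A)) [q.IsPrime]
  {M : Type u} [AddCommGroup M] [Module (Localization.AtPrime q) M]
  [Module (MvPolynomial (Fin n) A) M] [Module A M]
  [IsScalarTower (MvPolynomial (Fin n) A) (Localization.AtPrime q) M]
  [IsScalarTower A (MvPolynomial (Fin n) A) M]
  [Module.Finite (Localization.AtPrime q) M]

/-- finite torsion-free modules over `A[x]_q` are finitely presented -/
theorem finitePresentation_localization
    (htf : ∀ c : A, c ≠ 0 → ∀ m : M, c • m = 0 → m = 0) :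
    Module.FinitePresentation (Localization.AtPrime q) M := by
  obtain ⟨M₀, hfg, hloc⟩ := exists_submodule_isLocalizedModule q.primeCompl
    (Localization.AtPrime q) (M := M)
  have : Module.Finite (MvPolynomial (Fin n) A) M₀ := Module.Finite.iff_fg.2 hfg
  have hfp : Module.FinitePresentation (MvPolynomial (Fin n) A) M₀ := by
    refine finitePresentation_of_torsionFree ?_
    intro c hc m hm
    apply Subtype.ext
    apply htf c hc
    have := congrArg Subtype.val hm
    simpa using this
  have hbc : IsBaseChange (Localization.AtPrime q) M₀.subtype :=
    (isLocalizedModule_iff_isBaseChange q.primeCompl (Localization.AtPrime q) M₀.subtype).1 hloc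
  exact FinitePresentation.of_isBaseChange M₀.subtype hbc

end C

section C2

variable {R S : Type*} [CommRing R] [CommRing S] [Algebra R S]
  {M : Type*} [AddCommGroup M] [Module R M] [Module S M] [IsScalarTower R S M]

/-- finite presentation passes to a quotient ring acting on the module -/
theorem finitePresentation_of_surjective_algebraMap
    (h : Function.Surjective (algebraMap R S)) [Module.FinitePresentation R M] :
    Module.FinitePresentation S M := by
  have h1 : TensorProduct.CompatibleSMul R S S M :=
    TensorProduct.CompatibleSMul.of_algebraMap_surjective S M h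
  exact Module.FinitePresentation.of_equiv (TensorProduct.lidOfCompatibleSMul R S M)

end C2

end Groth.Agent.Helper9.VP4
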