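import Mathlib
import Groth.Agent.Helper8.EssLoc
import Groth.Agent.Helper9.VP4

/-!
# VP5: finite torsion-free modules over a local algebra essentially of finite type over a
valuation ring are finitely presented (no local-homomorphism hypothesis).
-/

set_option autoImplicit false
universe u

namespace Groth.Agent.Helper9.VP5

variable {V : Type u} [CommRing V] [IsDomain V] [ValuationRing V]
  {A : Type u} [CommRing A] [IsLocalRing A] [Algebra V A] [Algebra.EssFiniteType V A]
  {N : Type u} [AddCommGroup N] [Module A N] [Module V N] [IsScalarTower V A N]

theorem finitePresentation_of_torsionFree [Module.Finite A N]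
    (htf : ∀ c : V, c ≠ 0 → ∀ m : N, c • m = 0 → m = 0) : Module.FinitePresentation A N := by
  classical
  obtain ⟨n, q, hq, φ, hφ⟩ := Groth.Agent.Helper8.EssLoc.main (A := V) (B := A)
  let _ : Algebra (Localization.AtPrime q) A := φ.toRingHom.toAlgebra
  let _ : Module (Localization.AtPrime q) N := Module.compHom N φ.toRingHom
  have hst1 : IsScalarTower (Localization.AtPrime q) A N := ⟨fun r b m => by
    show (φ r * b) • m = φ r • (b • m)
    exact mul_smul _ _ _⟩
  let _ : Module (MvPolynomial (Fin n) V) N :=
    Module.compHom N (φ.toRingHom.comp
      (algebraMap (MvPolynomial (Fin n) V) (Localization.AtPrime q)))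
  have hst2 : IsScalarTower (MvPolynomial (Fin n) V) (Localization.AtPrime q) N :=
    ⟨fun p r m => by
      show φ (p • r) • m = φ (algebraMap _ _ p) • (φ r • m)
      rw [Algebra.smul_def, map_mul, mul_smul]⟩
  have hst3 : IsScalarTower V (MvPolynomial (Fin n) V) N := ⟨fun a p m => by
    show φ (algebraMap _ _ (a • p)) • m = a • (φ (algebraMap _ _ p) • m)
    rw [Algebra.smul_def, map_mul, map_mul, mul_smul,
      ← IsScalarTower.algebraMap_apply V (MvPolynomial (Fin n) V) (Localization.AtPrime q),
      φ.commutes, algebraMap_smul]⟩
  have hfinB : Module.Finite (Localization.AtPrime q) A :=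
    Module.Finite.of_surjective (Algebra.linearMap (Localization.AtPrime q) A) hφ
  have hfin : Module.Finite (Localization.AtPrime q) N :=
    Module.Finite.trans A N
  have hfp : Module.FinitePresentation (Localization.AtPrime q) N :=
    Groth.Agent.Helper9.VP4.finitePresentation_localization q htf
  exact Groth.Agent.Helper9.VP4.finitePresentation_of_surjective_algebraMap
    (R := Localization.AtPrime q) (S := A) hφ

/-- finitely generated submodules of torsion-free modules are finitely presented -/
theorem finitePresentation_submodule
    (htf : ∀ c : V, c ≠ 0 → ∀ m : N, c • m = 0 → m = 0) (K : Submodule A N) (hK : K.FG) :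
    Module.FinitePresentation A K := by
  have : Module.Finite A K := Module.Finite.iff_fg.2 hK
  refine finitePresentation_of_torsionFree (V := V) ?_
  intro c hc m hm
  apply Subtype.ext
  apply htf c hc
  have := congrArg Subtype.val hm
  simpa using this

end Groth.Agent.Helper9.VP5
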