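import Mathlib
import Groth.Agent.Helper1.TorCrit
import Groth.Agent.Helper9.VP5

/-!
# VP6: projective dimension over a local algebra essentially of finite type over a valuation ring
is controlled by the projective dimension of the fibre.
-/

set_option autoImplicit false
universe u
open CategoryTheory TensorProduct

namespace Groth.Agent.Helper9.VP6

open Groth.Agent.Helper1.TorLib

section Tensor

variable {A : Type u} [CommRing A] (I : Ideal A) {N : Type u} [AddCommGroup N] [Module A N]

lemma exists_one_tmul (t : (A ⧸ I) ⊗[A] N) : ∃ x : N, t = (1 : A ⧸ I) ⊗ₜ[A] x := by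
  induction t using TensorProduct.induction_on with
  | zero => exact ⟨0, (tmul_zero _ _).symm⟩
  | tmul a y =>
    obtain ⟨a, rfl⟩ := Ideal.Quotient.mk_surjective a
    refine ⟨a • y, ?_⟩
    rw [← smul_tmul]
    congr 1
    rw [Algebra.smul_def, mul_one]
    rfl
  | add t₁ t₂ h₁ h₂ =>
    obtain ⟨x₁, rfl⟩ := h₁
    obtain ⟨x₂, rfl⟩ := h₂
    exact ⟨x₁ + x₂, (tmul_add _ _ _).symm⟩

lemma one_tmul_eq_zero_iff (x : N) :
    (1 : A ⧸ I) ⊗ₜ[A] x = 0 ↔ x ∈ I • (⊤ : Submodule A N) := by
  rw [← (quotTensorEquivQuotSMul N I).map_eq_zero_iff, quotTensorEquivQuotSMul_mk_one_tmul,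
    Submodule.Quotient.mk_eq_zero]

lemma mk_smul_one_tmul (a : A) (x : N) :
    (Ideal.Quotient.mk I a) • ((1 : A ⧸ I) ⊗ₜ[A] x) = (1 : A ⧸ I) ⊗ₜ[A] (a • x) := by
  rw [TensorProduct.smul_tmul', smul_eq_mul, mul_one, ← smul_tmul]
  congr 1
  rw [Algebra.smul_def, mul_one]
  rfl

end Tensor

section Core

variable {V : Type u} [CommRing V] [IsDomain V] [ValuationRing V]
  {A : Type u} [CommRing A] [Algebra V A] (p : Ideal V)

/-- elements of `pA` are single multiples -/
lemma exists_smul_of_mem_map {a : A} (ha : a ∈ Ideal.map (algebraMap V A) p) :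
    ∃ c ∈ p, ∃ y : A, a = c • y := by
  rw [Ideal.map] at ha
  induction ha using Submodule.span_induction with
  | mem x hx =>
    obtain ⟨c, hc, rfl⟩ := hx
    exact ⟨c, hc, 1, by rw [Algebra.smul_def, mul_one]⟩
  | zero => exact ⟨0, p.zero_mem, 0, by rw [smul_zero]⟩
  | add x y _ _ hx hy =>
    obtain ⟨c₁, hc₁, x', rfl⟩ := hx
    obtain ⟨c₂, hc₂, y', rfl⟩ := hy
    rcases ValuationRing.dvd_total c₁ c₂ with ⟨t, rfl⟩ | ⟨t, rfl⟩
    · exact ⟨c₁, hc₁, x' + t • y', by rw [smul_add, mul_smul]⟩
    · exact ⟨c₂, hc₂, t • x' + y', by rw [smul_add, mul_smul]⟩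
  | smul a x _ hx =>
    obtain ⟨c, hc, x', rfl⟩ := hx
    exact ⟨c, hc, a * x', by rw [smul_eq_mul, Algebra.mul_smul_comm]⟩

/-- vectors with entries in `pA` are single multiples -/
lemma exists_smul_of_forall_mem_map {k : ℕ} (x : Fin k → A)
    (hx : ∀ i, x i ∈ Ideal.map (algebraMap V A) p) :
    ∃ c ∈ p, ∃ y : Fin k → A, x = c • y := by
  classical
  have hmem : x ∈ p • (⊤ : Submodule V (Fin k → A)) := by
    have hsum : x = ∑ i, Pi.single i (x i) := by
      ext1 j
      simp [Finset.sum_apply, Pi.single_apply]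
    rw [hsum]
    refine Submodule.sum_mem _ fun i _ => ?_
    obtain ⟨c, hc, y, hy⟩ := exists_smul_of_mem_map p (hx i)
    have : (Pi.single i (x i) : Fin k → A) = c • (Pi.single i y : Fin k → A) := by
      rw [hy]
      ext1 j
      by_cases hj : j = i
      · subst hj
        simp
      · simp [hj]
    rw [this]
    exact Submodule.smul_mem_smul hc Submodule.mem_top
  obtain ⟨c, hc, y, _, hxy⟩ := Groth.Agent.Helper9.VP2.exists_smul_of_mem_smul _ _ hmem
  exact ⟨c, hc, y, hxy⟩

lemma forall_mem_of_mem_smul_top {k : ℕ} (I : Ideal A) (x : Fin k → A)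
    (hx : x ∈ I • (⊤ : Submodule A (Fin k → A))) : ∀ i, x i ∈ I := by
  refine Submodule.smul_induction_on hx ?_ ?_
  · intro a ha y _ i
    rw [Pi.smul_apply, smul_eq_mul]
    exact I.mul_mem_right _ ha
  · intro y z hy hz i
    rw [Pi.add_apply]
    exact I.add_mem (hy i) (hz i)

variable {Z : Type u} [AddCommGroup Z] [Module A Z] [Module V Z] [IsScalarTower V A Z]

/-- key purity statement -/
lemma mem_smul_ker {k : ℕ} (π : (Fin k → A) →ₗ[A] Z)
    (htf : ∀ c : V, c ≠ 0 → ∀ z : Z, c • z = 0 → z = 0) (x : Fin k → A) (hx : x ∈ LinearMap.ker π)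
    (hxI : ∀ i, x i ∈ Ideal.map (algebraMap V A) p) :
    x ∈ Ideal.map (algebraMap V A) p • LinearMap.ker π := by
  obtain ⟨c, hc, y, rfl⟩ := exists_smul_of_forall_mem_map p x hxI
  by_cases hc0 : c = 0
  · rw [hc0, zero_smul]
    exact Submodule.zero_mem _
  · have hy : y ∈ LinearMap.ker π := by
      rw [LinearMap.mem_ker] at hx ⊢
      apply htf c hc0
      rw [← hx, LinearMap.map_smul_of_tower]
    rw [← algebraMap_smul A c y]
    exact Submodule.smul_mem_smul (Ideal.mem_map_of_mem _ hc) hy

end Core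

section Main

variable {V : Type u} [CommRing V] [IsDomain V] [ValuationRing V]
  {A : Type u} [CommRing A] [IsLocalRing A] [Algebra V A] [Algebra.EssFiniteType V A]
  (p : Ideal V)

omit [Algebra.EssFiniteType V A] in
/-- base case: if the fibre is projective, the module is free -/
theorem free_of_projective_fibre
    (hI : Ideal.map (algebraMap V A) p ≤ IsLocalRing.maximalIdeal A)
    (M : Type u) [AddCommGroup M] [Module A M] [Module V M] [IsScalarTower V A M]
    [Module.FinitePresentation A M]
    (htf : ∀ c : V, c ≠ 0 → ∀ m : M, c • m = 0 → m = 0)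
    (hproj : Module.Projective (A ⧸ Ideal.map (algebraMap V A) p)
      ((A ⧸ Ideal.map (algebraMap V A) p) ⊗[A] M)) :
    Module.Free A M := by
  classical
  set I : Ideal A := Ideal.map (algebraMap V A) p with hIdef
  have hIne : I ≠ ⊤ := fun h => (IsLocalRing.maximalIdeal.isMaximal A).ne_top
    (top_le_iff.1 (h ▸ hI))
  have : Nontrivial (A ⧸ I) := Ideal.Quotient.nontrivial_iff.2 hIne
  have : IsLocalRing (A ⧸ I) :=
    IsLocalRing.of_surjective' (Ideal.Quotient.mk I) Ideal.Quotient.mk_surjective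
  have hfree : Module.Free (A ⧸ I) ((A ⧸ I) ⊗[A] M) := Module.free_of_flat_of_isLocalRing
  let b := Module.finBasis (A ⧸ I) ((A ⧸ I) ⊗[A] M)
  set k := Module.finrank (A ⧸ I) ((A ⧸ I) ⊗[A] M) with hk
  have hv : ∀ i : Fin k, ∃ m : M, b i = (1 : A ⧸ I) ⊗ₜ[A] m := fun i => exists_one_tmul I (b i)
  choose v hvb using hv
  let π : (Fin k → A) →ₗ[A] M := Fintype.linearCombination A v
  have hπapp : ∀ x : Fin k → A, π x = ∑ i, x i • v i := fun x =>
    Fintype.linearCombination_apply A v x
  have hjac : I ≤ (⊥ : Ideal A).jacobson := by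
    rw [IsLocalRing.jacobson_eq_maximalIdeal ⊥ bot_ne_top]
    exact hI
  have hone : ∀ x : Fin k → A, (1 : A ⧸ I) ⊗ₜ[A] (π x) =
      ∑ i, (Ideal.Quotient.mk I (x i)) • b i := by
    intro x
    rw [hπapp, tmul_sum]
    refine Finset.sum_congr rfl fun i _ => ?_
    rw [hvb i, mk_smul_one_tmul]
  -- surjectivity
  have hsurj : Function.Surjective π := by
    rw [← LinearMap.range_eq_top, eq_top_iff]
    refine Submodule.le_of_le_smul_of_le_jacobson_bot (I := I) Module.Finite.fg_top hjac ?_
    intro m _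
    have hrep := b.sum_repr ((1 : A ⧸ I) ⊗ₜ[A] m)
    have hlift : ∀ i, ∃ a : A, Ideal.Quotient.mk I a = b.repr ((1 : A ⧸ I) ⊗ₜ[A] m) i :=
      fun i => Ideal.Quotient.mk_surjective _
    choose a ha using hlift
    have h1 : (1 : A ⧸ I) ⊗ₜ[A] (m - π a) = 0 := by
      rw [tmul_sub, hone, ← hrep, sub_eq_zero]
      refine Finset.sum_congr rfl fun i _ => ?_
      rw [ha]
    rw [one_tmul_eq_zero_iff] at h1
    have : m = π a + (m - π a) := by abel
    rw [this]
    exact Submodule.add_mem_sup (LinearMap.mem_range_self π a) h1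
  -- injectivity
  have hKfg : (LinearMap.ker π).FG := Module.FinitePresentation.fg_ker π hsurj
  have hKle : LinearMap.ker π ≤ I • LinearMap.ker π := by
    intro x hx
    refine mem_smul_ker p π htf x hx ?_
    have h0 : ∑ i, (Ideal.Quotient.mk I (x i)) • b i = 0 := by
      rw [← hone, LinearMap.mem_ker.1 hx, tmul_zero]
    have hli := Fintype.linearIndependent_iff.1 b.linearIndependent _ h0
    intro i
    exact Ideal.Quotient.eq_zero_iff_mem.1 (hli i)
  have hKbot : LinearMap.ker π = ⊥ :=
    Submodule.eq_bot_of_le_smul_of_le_jacobson_bot I _ hKfg hKle hjac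
  exact Module.Free.of_equiv (LinearEquiv.ofBijective π ⟨LinearMap.ker_eq_bot.1 hKbot, hsurj⟩)

omit [IsLocalRing A] [Algebra.EssFiniteType V A] in
/-- the reduction of `0 → ker π → A^k → M → 0` modulo `pA` stays short exact -/
theorem fibre_shortExact {k : ℕ}
    (M : Type u) [AddCommGroup M] [Module A M] [Module V M] [IsScalarTower V A M]
    (htf : ∀ c : V, c ≠ 0 → ∀ m : M, c • m = 0 → m = 0)
    (π : (Fin k → A) →ₗ[A] M) (hπ : Function.Surjective π) :
    Function.Injective ((LinearMap.ker π).subtype.baseChange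
        (A ⧸ Ideal.map (algebraMap V A) p)) ∧
      Function.Surjective (π.baseChange (A ⧸ Ideal.map (algebraMap V A) p)) ∧
      Function.Exact ((LinearMap.ker π).subtype.baseChange (A ⧸ Ideal.map (algebraMap V A) p))
        (π.baseChange (A ⧸ Ideal.map (algebraMap V A) p)) := by
  set I : Ideal A := Ideal.map (algebraMap V A) p with hIdef
  refine ⟨?_, ?_, ?_⟩
  · rw [injective_iff_map_eq_zero]
    intro t ht
    obtain ⟨x, rfl⟩ := exists_one_tmul I t
    rw [LinearMap.baseChange_tmul, one_tmul_eq_zero_iff] at ht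
    rw [one_tmul_eq_zero_iff]
    have h1 : ((LinearMap.ker π).subtype x) ∈ I • LinearMap.ker π :=
      mem_smul_ker p π htf _ x.2 (forall_mem_of_mem_smul_top I _ ht)
    have h2 : I • LinearMap.ker π =
        (I • (⊤ : Submodule A (LinearMap.ker π))).map (LinearMap.ker π).subtype := by
      rw [Submodule.map_smul'', Submodule.map_subtype_top]
    rw [h2] at h1
    obtain ⟨x', hx', hxx'⟩ := h1
    have : x' = x := (LinearMap.ker π).injective_subtype hxx'
    rw [← this]
    exact hx'
  · intro t
    obtain ⟨m, rfl⟩ := exists_one_tmul I t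
    obtain ⟨x, rfl⟩ := hπ m
    exact ⟨(1 : A ⧸ I) ⊗ₜ[A] x, LinearMap.baseChange_tmul _ _ _⟩
  · have hex : Function.Exact (LinearMap.ker π).subtype π := fun y => by
      simp
    have := lTensor_exact (A ⧸ I) hex hπ
    intro y
    exact this y

/-- **Core induction**: projective dimension of a finitely presented torsion-free module is
bounded by that of its fibre. -/
theorem pd_of_fibre (hI : Ideal.map (algebraMap V A) p ≤ IsLocalRing.maximalIdeal A)
    (hA : ∀ c : V, c ≠ 0 → ∀ a : A, c • a = 0 → a = 0) (j : ℕ) :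
    ∀ (M : Type u) [AddCommGroup M] [Module A M] [Module V M] [IsScalarTower V A M]
      [Module.FinitePresentation A M],
      (∀ c : V, c ≠ 0 → ∀ m : M, c • m = 0 → m = 0) →
      HasProjectiveDimensionLT (ModuleCat.of (A ⧸ Ideal.map (algebraMap V A) p)
        ((A ⧸ Ideal.map (algebraMap V A) p) ⊗[A] M)) (j + 1) →
      HasProjectiveDimensionLT (ModuleCat.of A M) (j + 1) := by
  induction j with
  | zero =>
    intro M _ _ _ _ _ htf hpd
    rw [zero_add, ← projective_iff_hasProjectiveDimensionLT_one,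
      ← IsProjective.iff_projective] at hpd
    have := free_of_projective_fibre p hI M htf hpd
    rw [zero_add, ← projective_iff_hasProjectiveDimensionLT_one, ← IsProjective.iff_projective]
    infer_instance
  | succ j ih =>
    intro M _ _ _ _ _ htf hpd
    obtain ⟨k, π, hπ⟩ := Module.Finite.exists_fin' A M
    have hKfg : (LinearMap.ker π).FG := Module.FinitePresentation.fg_ker π hπ
    have hFtf : ∀ c : V, c ≠ 0 → ∀ m : Fin k → A, c • m = 0 → m = 0 := by
      intro c hc m hm
      ext1 i
      exact hA c hc (m i) (congrFun hm i)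
    have hKfp : Module.FinitePresentation A (LinearMap.ker π) :=
      Groth.Agent.Helper9.VP5.finitePresentation_submodule hFtf _ hKfg
    have hKtf : ∀ c : V, c ≠ 0 → ∀ m : LinearMap.ker π, c • m = 0 → m = 0 := by
      intro c hc m hm
      apply Subtype.ext
      apply hFtf c hc
      have := congrArg Subtype.val hm
      simpa using this
    obtain ⟨hinj, hsurj, hex⟩ := fibre_shortExact p M htf π hπ
    -- the fibre sequence
    have hSb := scOfLinear_shortExact _ _ hinj hsurj hex
    have hprojb : Projective (ModuleCat.of (A ⧸ Ideal.map (algebraMap V A) p)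
        ((A ⧸ Ideal.map (algebraMap V A) p) ⊗[A] (Fin k → A))) :=
      (IsProjective.iff_projective _).1 inferInstance
    have h2b : HasProjectiveDimensionLT (ModuleCat.of (A ⧸ Ideal.map (algebraMap V A) p)
        ((A ⧸ Ideal.map (algebraMap V A) p) ⊗[A] (Fin k → A))) (j + 1) :=
      hasProjectiveDimensionLT_of_ge _ 1 (j + 1) (by omega)
    have hKb := hSb.hasProjectiveDimensionLT_X₁ (j + 1) h2b hpd
    have hK := ih (LinearMap.ker π) hKtf hKb
    -- the sequence over `A`
    have hex' : Function.Exact (LinearMap.ker π).subtype π := fun y => by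
      simp
    have hS := scOfLinear_shortExact _ _ (LinearMap.ker π).injective_subtype hπ hex'
    have hproj : Projective (ModuleCat.of A (Fin k → A)) :=
      (IsProjective.iff_projective _).1 inferInstance
    have h2 : HasProjectiveDimensionLT (ModuleCat.of A (Fin k → A)) (j + 1 + 1) :=
      hasProjectiveDimensionLT_of_ge _ 1 (j + 1 + 1) (by omega)
    exact hS.hasProjectiveDimensionLT_X₃ (j + 1) hK h2

end Main

end Groth.Agent.Helper9.VP6
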