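import Mathlib
import Groth.Prelude.Def_CAlg
import Groth.Prelude.Def_EGA4b
import Groth.Agent.S4694
import Groth.Agent.Helper6.ComplDim

/-! Depth of localizations of the `I`-adic completion at minimal primes over `pA'`:
tools for the bootstrap lemmas on local cohomology and completion. -/

set_option autoImplicit false
universe u

namespace Groth.Agent.Helper9.LF11

open IsLocalRing

/-- depth is invariant under linear equivalences -/
theorem depth_congr {B : Type u} [CommRing B] [IsLocalRing B] {N N' : Type u} [AddCommGroup N]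
    [Module B N] [AddCommGroup N'] [Module B N'] (e : N ≃ₗ[B] N') :
    LocCoh.depth B N = LocCoh.depth B N' := by
  classical
  unfold LocCoh.depth LocCoh.idealDepth
  have h1 : (maximalIdeal B • (⊤ : Submodule B N) = ⊤) ↔
      (maximalIdeal B • (⊤ : Submodule B N') = ⊤) := by
    have hmap : (maximalIdeal B • (⊤ : Submodule B N)).map e.toLinearMap =
        maximalIdeal B • (⊤ : Submodule B N') := by
      rw [Submodule.map_smul'', Submodule.map_top, LinearMap.range_eq_top.mpr e.surjective]
    constructor
    · intro h
      rw [← hmap, h, Submodule.map_top, LinearMap.range_eq_top.mpr e.surjective]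
    · intro h
      rw [← hmap] at h
      have := congrArg (Submodule.comap e.toLinearMap) h
      rwa [Submodule.comap_map_eq_of_injective e.injective, Submodule.comap_top] at this
  by_cases h : maximalIdeal B • (⊤ : Submodule B N) = ⊤
  · rw [if_pos h, if_pos (h1.mp h)]
  · rw [if_neg h, if_neg (fun h' => h (h1.mpr h'))]
    refine iSup_congr fun rs => ?_
    exact iSup_congr_Prop (by rw [e.isWeaklyRegular_congr]) (fun _ => rfl)

/-- A minimal prime over the extension of a prime along a flat ring map contracts to that prime. -/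
theorem comap_eq_of_mem_minimalPrimes_map {R S : Type*} [CommRing R] [CommRing S] [Algebra R S]
    [Module.Flat R S] (P : Ideal R) [P.IsPrime] (p' : Ideal S)
    (hp' : p' ∈ (P.map (algebraMap R S)).minimalPrimes) :
    p'.comap (algebraMap R S) = P := by
  have : p'.IsPrime := hp'.1.1
  have hle : P ≤ p'.comap (algebraMap R S) := Ideal.map_le_iff_le_comap.mp hp'.1.2
  have : (p'.comap (algebraMap R S)).IsPrime := Ideal.comap_isPrime _ _
  have : p'.LiesOver (p'.comap (algebraMap R S)) := ⟨rfl⟩
  obtain ⟨P'', hP''le, hP''prime, hP''over⟩ :=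
    Ideal.exists_ideal_le_liesOver_of_le (p := P) (q := p'.comap (algebraMap R S)) p' hle
  have h1 : P.map (algebraMap R S) ≤ P'' := by
    rw [Ideal.map_le_iff_le_comap]
    exact (hP''over.over).le
  have h2 : p' ≤ P'' := hp'.2 ⟨hP''prime, h1⟩ hP''le
  have h3 : P'' = p' := le_antisymm hP''le h2
  subst h3
  exact (hP''over.over).symm


open TensorProduct in
/-- Two base changes of `M` to `B` (one through `Ap`, one through `A'`) give isomorphic modules. -/
theorem nonempty_equiv_of_isBaseChange
    {A Ap A' B : Type u} [CommRing A] [CommRing Ap] [CommRing A'] [CommRing B]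
    [Algebra A Ap] [Algebra A A'] [Algebra Ap B] [Algebra A' B] [Algebra A B]
    [IsScalarTower A Ap B] [IsScalarTower A A' B]
    {M Mp Mh N' : Type u} [AddCommGroup M] [Module A M]
    [AddCommGroup Mp] [Module A Mp] [Module Ap Mp] [IsScalarTower A Ap Mp]
    [AddCommGroup Mh] [Module A Mh] [Module A' Mh] [IsScalarTower A A' Mh]
    [AddCommGroup N'] [Module A' N'] [Module B N'] [IsScalarTower A' B N']
    (f1 : M →ₗ[A] Mp) (hf1 : IsBaseChange Ap f1)
    (g : M →ₗ[A] Mh) (hg : IsBaseChange A' g)
    (g3 : Mh →ₗ[A'] N') (hg3 : IsBaseChange B g3) :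
    Nonempty (B ⊗[Ap] Mp ≃ₗ[B] N') := by
  let modA : Module A N' := Module.compHom N' (algebraMap A B)
  let modAp : Module Ap N' := Module.compHom N' (algebraMap Ap B)
  have tAB : IsScalarTower A B N' := IsScalarTower.of_algebraMap_smul fun _ _ => rfl
  have tApB : IsScalarTower Ap B N' := IsScalarTower.of_algebraMap_smul fun _ _ => rfl
  have tAAp : IsScalarTower A Ap N' := IsScalarTower.of_algebraMap_smul fun a n => by
    change algebraMap Ap B (algebraMap A Ap a) • n = algebraMap A B a • n
    rw [← IsScalarTower.algebraMap_apply A Ap B]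
  have tAA' : IsScalarTower A A' N' := IsScalarTower.of_algebraMap_smul fun a n => by
    change algebraMap A A' a • n = algebraMap A B a • n
    rw [IsScalarTower.algebraMap_apply A A' B]
    exact (algebraMap_smul B (algebraMap A A' a) n).symm
  have h2 : IsBaseChange B ((g3.restrictScalars A).comp g) := IsBaseChange.comp hg hg3
  let φ : Mp →ₗ[Ap] N' := hf1.lift ((g3.restrictScalars A).comp g)
  have hφ : (φ.restrictScalars A).comp f1 = (g3.restrictScalars A).comp g :=
    hf1.lift_comp _
  have h3 : IsBaseChange B φ := by
    rw [← IsBaseChange.comp_iff hf1, hφ]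
    exact h2
  exact ⟨h3.equiv⟩


/-- A Noetherian local ring `B` modulo an ideal contained only in the maximal ideal has finite
length. -/
theorem isFiniteLength_quot {B : Type u} [CommRing B] [IsNoetherianRing B] [IsLocalRing B]
    (b : Ideal B) (hb : ∀ P : Ideal B, P.IsPrime → b ≤ P → P = maximalIdeal B) :
    IsFiniteLength B (B ⧸ (b • (⊤ : Submodule B B))) := by
  have hbt : (b • (⊤ : Submodule B B)) = b := by
    simp
  rw [isFiniteLength_iff_isNoetherian_isArtinian]
  refine ⟨inferInstance, ?_⟩
  rw [hbt]
  have hdim : Ring.KrullDimLE 0 (B ⧸ b) := by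
    rw [Ring.krullDimLE_zero_iff]
    intro Q hQ
    have hQ' : (Q.comap (Ideal.Quotient.mk b)).IsPrime := Ideal.comap_isPrime _ _
    have h1 : b ≤ Q.comap (Ideal.Quotient.mk b) := by
      intro x hx
      rw [Ideal.mem_comap, Ideal.Quotient.eq_zero_iff_mem.mpr hx]
      exact Q.zero_mem
    have h2 := hb _ hQ' h1
    have hmax : (Q.comap (Ideal.Quotient.mk b)).IsMaximal := h2 ▸ maximalIdeal.isMaximal B
    have : Q = (Q.comap (Ideal.Quotient.mk b)).map (Ideal.Quotient.mk b) :=
      (Ideal.map_comap_of_surjective _ Ideal.Quotient.mk_surjective Q).symm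
    rw [this]
    exact Ideal.IsMaximal.map_of_surjective_of_ker_le Ideal.Quotient.mk_surjective
      (by rw [Ideal.mk_ker]; exact h1)
  have hart : IsArtinianRing (B ⧸ b) :=
    isArtinianRing_iff_isNoetherianRing_krullDimLE_zero.mpr ⟨inferInstance, hdim⟩
  exact isArtinian_of_surjective_algebraMap (S := B) (R := B ⧸ b) (M := B ⧸ b)
    Ideal.Quotient.mk_surjective


section Main

variable (A : Type u) [CommRing A] [IsNoetherianRing A] (I : Ideal A)
  (M : Type u) [AddCommGroup M] [Module A M] [Module.Finite A M]
  (p q : Ideal A) [hpP : p.IsPrime] [hqP : q.IsPrime]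

/-- the local ring at `q` -/
abbrev Rq := Localization.AtPrime q
/-- the extension of `I` to the local ring at `q` -/
abbrev Jq : Ideal (Rq A q) := I.map (algebraMap A (Rq A q))
/-- the `I`-adic completion of the local ring at `q` -/
abbrev Ah := AdicCompletion (Jq A I q) (Rq A q)

instance towerAh : IsScalarTower A (Rq A q) (Ah A I q) :=
  IsScalarTower.of_algebraMap_eq fun _ => rfl

omit [IsNoetherianRing A] in
theorem Jq_ne_top (hIq : I ≤ q) : Jq A I q ≠ ⊤ := by
  intro h
  have h1 : Jq A I q ≤ maximalIdeal (Rq A q) := by
    rw [Ideal.map_le_iff_le_comap]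
    have := IsLocalization.AtPrime.under_maximalIdeal (Rq A q) q
    rw [Ideal.under_def] at this
    rw [this]
    exact hIq
  exact (maximalIdeal.isMaximal (Rq A q)).ne_top (top_le_iff.mp (h ▸ h1))

omit [IsNoetherianRing A] in
/-- the contraction of a proper ideal of the local ring at `q` lies in `q` -/
theorem comap_le_of_ne_top (r : Ideal (Rq A q)) (hr : r ≠ ⊤) :
    r.comap (algebraMap A (Rq A q)) ≤ q := by
  have h1 : r ≤ maximalIdeal (Rq A q) := le_maximalIdeal hr
  have h2 := Ideal.comap_mono (f := algebraMap A (Rq A q)) h1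
  have := IsLocalization.AtPrime.under_maximalIdeal (Rq A q) q
  rw [Ideal.under_def] at this
  rwa [this] at h2

theorem exists_prime_aux (hpq : p ≤ q) (hIq : I ≤ q)
    (hmin : q ∈ (p ⊔ I).minimalPrimes) :
    ∃ p' : Ideal (Ah A I q), p'.IsPrime ∧ p'.comap (algebraMap A (Ah A I q)) = p ∧
      p' ∈ ((p.map (algebraMap A (Rq A q))).map (algebraMap (Rq A q) (Ah A I q))).minimalPrimes ∧
      (∀ q' : Ideal (Ah A I q), q'.IsPrime → p' ≤ q' →
        I.map (algebraMap A (Ah A I q)) ≤ q' → q'.IsMaximal) := by
  have hJ := Jq_ne_top A I q hIq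
  have := Helper6.ComplDim.isLocalRing_adicCompletion (Rq A q) (Jq A I q) hJ
  have hmaxeq := Helper6.ComplDim.maximalIdeal_eq_map (Rq A q) (Jq A I q) hJ
  have hdisj : Disjoint (q.primeCompl : Set A) (p : Set A) := by
    rw [Set.disjoint_left]
    intro x hx hxp
    exact hx (hpq hxp)
  have hPprime : (p.map (algebraMap A (Rq A q))).IsPrime :=
    IsLocalization.isPrime_of_isPrime_disjoint q.primeCompl (Rq A q) p hpP hdisj
  have hPcomap : (p.map (algebraMap A (Rq A q))).comap (algebraMap A (Rq A q)) = p :=
    IsLocalization.under_map_of_isPrime_disjoint q.primeCompl (Rq A q) hpP hdisj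
  have hPle : (p.map (algebraMap A (Rq A q))).map (algebraMap (Rq A q) (Ah A I q)) ≤
      maximalIdeal (Ah A I q) := by
    rw [hmaxeq]
    exact Ideal.map_mono (le_maximalIdeal hPprime.ne_top)
  obtain ⟨p', hp'min, -⟩ := Ideal.exists_minimalPrimes_le hPle
  have hp'prime : p'.IsPrime := hp'min.1.1
  have hc1 : p'.comap (algebraMap (Rq A q) (Ah A I q)) = p.map (algebraMap A (Rq A q)) :=
    comap_eq_of_mem_minimalPrimes_map _ p' hp'min
  have hc2 : p'.comap (algebraMap A (Ah A I q)) = p := by
    rw [IsScalarTower.algebraMap_eq A (Rq A q) (Ah A I q), ← Ideal.comap_comap, hc1, hPcomap]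
  refine ⟨p', hp'prime, hc2, hp'min, ?_⟩
  intro q' hq'prime hle hIq'
  -- the contraction of q' to A is q
  have hQprime : (q'.comap (algebraMap A (Ah A I q))).IsPrime := Ideal.comap_isPrime _ _
  have hQ1 : p ⊔ I ≤ q'.comap (algebraMap A (Ah A I q)) := by
    refine sup_le ?_ ?_
    · rw [← hc2]
      exact Ideal.comap_mono hle
    · exact Ideal.map_le_iff_le_comap.mp hIq'
  have hQ2 : q'.comap (algebraMap A (Ah A I q)) ≤ q := by
    rw [IsScalarTower.algebraMap_eq A (Rq A q) (Ah A I q), ← Ideal.comap_comap]
    refine comap_le_of_ne_top A q _ ?_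
    exact (Ideal.comap_isPrime (algebraMap (Rq A q) (Ah A I q)) q').ne_top
  have hQ3 : q ≤ q'.comap (algebraMap A (Ah A I q)) := hmin.2 ⟨hQprime, hQ1⟩ hQ2
  -- hence q' contains the maximal ideal
  have h4 : maximalIdeal (Ah A I q) ≤ q' := by
    rw [hmaxeq, ← IsLocalization.AtPrime.map_eq_maximalIdeal q (Rq A q), Ideal.map_map,
      ← IsScalarTower.algebraMap_eq A (Rq A q) (Ah A I q), Ideal.map_le_iff_le_comap]
    exact hQ3
  have h5 : q' = maximalIdeal (Ah A I q) :=
    le_antisymm (le_maximalIdeal hq'prime.ne_top) h4
  rw [h5]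
  exact maximalIdeal.isMaximal _

/-- the `A`-action and the `Ah`-action on the completion of the localized module are compatible -/
instance towerMh : IsScalarTower A (Ah A I q)
    (AdicCompletion (Jq A I q) (LocalizedModule q.primeCompl M)) :=
  IsScalarTower.of_algebraMap_smul fun a y => by
    rw [IsScalarTower.algebraMap_apply A (Rq A q) (Ah A I q), algebraMap_smul, algebraMap_smul]

theorem isBaseChange_of :
    IsBaseChange (Ah A I q)
      (AdicCompletion.of (Jq A I q) (LocalizedModule q.primeCompl M)) :=
  IsBaseChange.of_equiv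
    (AdicCompletion.ofTensorProductEquivOfFiniteNoetherian (Jq A I q)
      (LocalizedModule q.primeCompl M)) (fun x => by simp)

theorem isBaseChange_comp :
    IsBaseChange (Ah A I q)
      (((AdicCompletion.of (Jq A I q) (LocalizedModule q.primeCompl M)).restrictScalars A).comp
        (LocalizedModule.mkLinearMap q.primeCompl M)) :=
  IsBaseChange.comp (LocalizedModule.isBaseChange q.primeCompl M) (isBaseChange_of A I M q)

/-- the contraction of a proper ideal of a localization at a prime lies in that prime -/
theorem comap_le_of_ne_top' {S : Type u} [CommRing S] (P : Ideal S) [P.IsPrime]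
    (r : Ideal (Localization.AtPrime P)) (hr : r ≠ ⊤) :
    r.comap (algebraMap S (Localization.AtPrime P)) ≤ P := by
  have h1 : r ≤ maximalIdeal (Localization.AtPrime P) := le_maximalIdeal hr
  have h2 := Ideal.comap_mono (f := algebraMap S (Localization.AtPrime P)) h1
  have := IsLocalization.AtPrime.under_maximalIdeal (Localization.AtPrime P) P
  rw [Ideal.under_def] at this
  rwa [this] at h2

open TensorProduct in
theorem depth_eq (hIq : I ≤ q) (p' : Ideal (Ah A I q)) [hp' : p'.IsPrime]
    (hc : p'.comap (algebraMap A (Ah A I q)) = p)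
    (hmin : p' ∈ ((p.map (algebraMap A (Rq A q))).map
      (algebraMap (Rq A q) (Ah A I q))).minimalPrimes) :
    LocCoh.depth (Localization.AtPrime p')
      (LocalizedModule p'.primeCompl
        (AdicCompletion (Jq A I q) (LocalizedModule q.primeCompl M))) =
    LocCoh.depth (Localization.AtPrime p) (LocalizedModule p.primeCompl M) := by
  have hJ := Jq_ne_top A I q hIq
  let f : Localization.AtPrime p →+* Localization.AtPrime p' :=
    Localization.localRingHom p p' (algebraMap A (Ah A I q)) hc.symm
  let algB : Algebra (Localization.AtPrime p) (Localization.AtPrime p') := f.toAlgebra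
  have hloc : IsLocalHom (algebraMap (Localization.AtPrime p) (Localization.AtPrime p')) :=
    Localization.isLocalHom_localRingHom p p' (algebraMap A (Ah A I q)) hc.symm
  have tower : IsScalarTower A (Localization.AtPrime p) (Localization.AtPrime p') :=
    IsScalarTower.of_algebraMap_eq fun x => by
      rw [IsScalarTower.algebraMap_apply A (Ah A I q) (Localization.AtPrime p')]
      exact (Localization.localRingHom_to_map p p' (algebraMap A (Ah A I q)) hc.symm x).symm
  have flatA : Module.Flat A (Ah A I q) := Module.Flat.trans A (Rq A q) (Ah A I q)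
  have flat : Module.Flat (Localization.AtPrime p) (Localization.AtPrime p') :=
    RingHom.Flat.localRingHom (f := algebraMap A (Ah A I q))
      (RingHom.flat_algebraMap_iff.mpr flatA) p' p hc.symm
  -- the closed fibre has finite length
  have hfl : IsFiniteLength (Localization.AtPrime p')
      (EGA4.FibMod (Localization.AtPrime p) (Localization.AtPrime p')
        (Localization.AtPrime p')) := by
    refine isFiniteLength_quot _ ?_
    intro P hP hle
    have hP' : (P.comap (algebraMap (Ah A I q) (Localization.AtPrime p'))).IsPrime :=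
      Ideal.comap_isPrime _ _
    have h1 : P.comap (algebraMap (Ah A I q) (Localization.AtPrime p')) ≤ p' :=
      comap_le_of_ne_top' p' P hP.ne_top
    have h2 : (p.map (algebraMap A (Rq A q))).map (algebraMap (Rq A q) (Ah A I q)) ≤
        P.comap (algebraMap (Ah A I q) (Localization.AtPrime p')) := by
      rw [Ideal.map_map, ← IsScalarTower.algebraMap_eq A (Rq A q) (Ah A I q),
        ← Ideal.map_le_iff_le_comap, Ideal.map_map,
        ← IsScalarTower.algebraMap_eq A (Ah A I q) (Localization.AtPrime p'),
        IsScalarTower.algebraMap_eq A (Localization.AtPrime p) (Localization.AtPrime p'),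
        ← Ideal.map_map, IsLocalization.AtPrime.map_eq_maximalIdeal p (Localization.AtPrime p)]
      exact hle
    have h3 : p' ≤ P.comap (algebraMap (Ah A I q) (Localization.AtPrime p')) :=
      hmin.2 ⟨hP', h2⟩ h1
    have h4 : P.comap (algebraMap (Ah A I q) (Localization.AtPrime p')) = p' :=
      le_antisymm h1 h3
    rw [← IsLocalization.map_under p'.primeCompl (Localization.AtPrime p') P, Ideal.under_def, h4,
      IsLocalization.AtPrime.map_eq_maximalIdeal p' (Localization.AtPrime p')]
  have key := Groth.Agent.S4694.result (A := Localization.AtPrime p)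
    (B := Localization.AtPrime p') (M := LocalizedModule p.primeCompl M)
    (N := Localization.AtPrime p') hfl
  rw [← key]
  obtain ⟨e⟩ := nonempty_equiv_of_isBaseChange (A := A) (Ap := Localization.AtPrime p)
    (A' := Ah A I q) (B := Localization.AtPrime p')
    (LocalizedModule.mkLinearMap p.primeCompl M) (LocalizedModule.isBaseChange p.primeCompl M)
    _ (isBaseChange_comp A I M q)
    (LocalizedModule.mkLinearMap p'.primeCompl
      (AdicCompletion (Jq A I q) (LocalizedModule q.primeCompl M)))
    (LocalizedModule.isBaseChange p'.primeCompl _)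
  exact (depth_congr e).symm

end Main

end Groth.Agent.Helper9.LF11
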