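import Mathlib

/-! An endomorphism of an object of the derived category with cohomology in `[a, a+n]` that is
zero on all cohomology objects satisfies `f^(n+1) = 0` (helper9). -/

namespace Groth.Agent.Helper9.DerNilp

open CategoryTheory Limits Triangulated Pretriangulated DerivedCategory

universe w v u

variable {A : Type u} [Category.{v} A] [Abelian A] [HasDerivedCategory.{w} A]

/-- amplitude `[a,a]` case -/
theorem eq_zero_of_isGE_of_isLE (X : DerivedCategory A) (a : ℤ) [X.IsGE a] [X.IsLE a]
    (f : X ⟶ X) (hf : (homologyFunctor A a).map f = 0) : f = 0 := by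
  obtain ⟨Y, ⟨e⟩⟩ := exists_iso_singleFunctor_obj_of_isGE_of_isLE X a
  obtain ⟨h, hh⟩ := (singleFunctor A a).map_surjective (e.inv ≫ f ≫ e.hom)
  have h0 : (singleFunctor A a ⋙ homologyFunctor A a).map h = 0 := by
    rw [Functor.comp_map, hh, Functor.map_comp, Functor.map_comp, hf, zero_comp, comp_zero]
  have hnat := (singleFunctorCompHomologyFunctorIso A a).hom.naturality h
  rw [h0, zero_comp] at hnat
  have hh0 : h = 0 := by
    have : (singleFunctorCompHomologyFunctorIso A a).hom.app Y ≫ (𝟭 A).map h = 0 := hnat.symm
    rw [Functor.id_map] at this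
    exact (cancel_epi ((singleFunctorCompHomologyFunctorIso A a).hom.app Y)).mp
      (this.trans comp_zero.symm)
  rw [hh0, Functor.map_zero] at hh
  have : f = e.hom ≫ (e.inv ≫ f ≫ e.hom) ≫ e.inv := by simp
  rw [this, ← hh, zero_comp, comp_zero]

theorem main (n : ℕ) : ∀ (a : ℤ) (X : DerivedCategory A) [X.IsGE a] [X.IsLE (a + n)]
    (f : CategoryTheory.End X), (∀ i : ℤ, (homologyFunctor A i).map f = 0) → f ^ (n + 1) = 0 := by
  induction n with
  | zero =>
    intro a X _ hLE f hf
    have : X.IsLE a := by simpa using hLE
    rw [zero_add, pow_one]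
    exact eq_zero_of_isGE_of_isLE X a f (hf a)
  | succ n ih =>
    intro a X _ hLE f hf
    have hT := (TStructure.t (C := A)).triangleLEGT_distinguished a X
    -- truncation above
    have : ((TStructure.t (C := A)).truncGT a).obj X |>.IsLE (a + 1 + n) := by
      have : a + ((n + 1 : ℕ) : ℤ) = a + 1 + n := by push_cast; ring
      rw [← this]
      infer_instance
    have hF : ∀ i : ℤ, (homologyFunctor A i).map (((TStructure.t (C := A)).truncGT a).map f) = 0 := by
      intro i
      by_cases hi : i < a + 1
      · exact (isZero_of_isGE (((TStructure.t (C := A)).truncGT a).obj X) (a + 1) i hi).eq_of_src _ _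
      · have hepi : Epi ((homologyFunctor A i).map
            (((TStructure.t (C := A)).truncGTπ a).app X)) := by
          have := (HomologySequence.epi_homologyMap_mor₂_iff _ hT i (i + 1) rfl).mpr
            ((isZero_of_isLE (((TStructure.t (C := A)).truncLE a).obj X) a (i + 1)
              (by omega)).eq_of_tgt _ _)
          exact this
        have hnat := ((TStructure.t (C := A)).truncGTπ a).naturality f
        have h1 : (homologyFunctor A i).map (((TStructure.t (C := A)).truncGTπ a).app X) ≫
            (homologyFunctor A i).map (((TStructure.t (C := A)).truncGT a).map f) = 0 := by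
          rw [← Functor.map_comp, ← hnat, Functor.id_map, Functor.map_comp, hf i, zero_comp]
        exact (cancel_epi ((homologyFunctor A i).map
          (((TStructure.t (C := A)).truncGTπ a).app X))).mp (h1.trans comp_zero.symm)
    have hFpow := ih (a + 1) (((TStructure.t (C := A)).truncGT a).obj X)
      (((TStructure.t (C := A)).truncGT a).map f) hF
    have hFpow' : ((TStructure.t (C := A)).truncGT a).map (f ^ (n + 1)) = 0 := by
      have := map_pow (((TStructure.t (C := A)).truncGT a).mapEnd X) f (n + 1)
      rw [show ((TStructure.t (C := A)).truncGT a).map (f ^ (n + 1)) =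
        (((TStructure.t (C := A)).truncGT a).mapEnd X) (f ^ (n + 1)) from rfl, this]
      exact hFpow
    -- f^(n+1) factors through the truncation below
    have hcomp : (f ^ (n + 1) : X ⟶ X) ≫ ((TStructure.t (C := A)).triangleLEGT a |>.obj X).mor₂ = 0 := by
      have hnat := ((TStructure.t (C := A)).truncGTπ a).naturality (f ^ (n + 1) : X ⟶ X)
      rw [Functor.id_map] at hnat
      show (f ^ (n + 1) : X ⟶ X) ≫ ((TStructure.t (C := A)).truncGTπ a).app X = 0
      rw [hnat, hFpow', comp_zero]
    obtain ⟨g, hg⟩ : ∃ g : X ⟶ ((TStructure.t (C := A)).truncLE a).obj X,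
        (f ^ (n + 1) : X ⟶ X) = g ≫ ((TStructure.t (C := A)).truncLEι a).app X :=
      Triangle.coyoneda_exact₂ _ hT (f ^ (n + 1) : X ⟶ X) hcomp
    -- truncation below is killed
    have hG : ((TStructure.t (C := A)).truncLE a).map f = 0 := by
      apply eq_zero_of_isGE_of_isLE (((TStructure.t (C := A)).truncLE a).obj X) a
      have hmono : Mono ((homologyFunctor A a).map
          (((TStructure.t (C := A)).truncLEι a).app X)) := by
        have := (HomologySequence.mono_homologyMap_mor₁_iff _ hT (a - 1) a (by ring)).mpr
          ((isZero_of_isGE (((TStructure.t (C := A)).truncGT a).obj X) (a + 1) (a - 1)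
            (by omega)).eq_of_src _ _)
        exact this
      have hnat := ((TStructure.t (C := A)).truncLEι a).naturality f
      have h1 : (homologyFunctor A a).map (((TStructure.t (C := A)).truncLE a).map f) ≫
          (homologyFunctor A a).map (((TStructure.t (C := A)).truncLEι a).app X) = 0 := by
        rw [← Functor.map_comp, hnat, Functor.id_map, Functor.map_comp, hf a, comp_zero]
      exact (cancel_mono ((homologyFunctor A a).map
        (((TStructure.t (C := A)).truncLEι a).app X))).mp (h1.trans zero_comp.symm)
    have hnat := ((TStructure.t (C := A)).truncLEι a).naturality f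
    rw [Functor.id_map, hG, zero_comp] at hnat
    rw [pow_succ', End.mul_def, hg]
    show (g ≫ ((TStructure.t (C := A)).truncLEι a).app X) ≫ f = 0
    rw [Category.assoc, ← hnat, comp_zero]

end Groth.Agent.Helper9.DerNilp
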