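import Mathlib
import Groth.Prelude.Def_DRing3
import Groth.Prelude.Def_Wider
import Groth.Agent.Helper1.LocFun
import Groth.Agent.Helper1.LocCohSup
import Groth.Agent.Helper1.GammaInj
import Groth.Agent.Helper6.BiD1

/-!
# `Γ_I` on complexes of injective modules over a Noetherian ring

For a complex `J` of injective modules over a Noetherian ring whose cohomology modules are
`I`-power torsion, the inclusion `Γ_I(J) ⟶ J` is a quasi-isomorphism.
-/

set_option autoImplicit false
set_option linter.style.haveILetI false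
set_option linter.unusedSectionVars false

namespace Groth.Agent.Helper9.LCT1

open CategoryTheory Limits HomologicalComplex

universe u

variable {A : Type u} [CommRing A]

section Homology

variable (J : DRing.Cx A) (q : ℤ)

/-- the homology of a complex of modules as cycles modulo boundaries -/
noncomputable def homIso :
    J.homology q ≅ (J.sc' (q - 1) q (q + 1)).moduleCatLeftHomologyData.H :=
  ShortComplex.homologyMapIso (J.isoSc' (q - 1) q (q + 1) (by simp) (by simp)) ≪≫
    (J.sc' (q - 1) q (q + 1)).moduleCatLeftHomologyData.homologyIso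

variable {J q}

/-- elementwise form of power torsion of the cohomology -/
lemma exists_bdry_of_isPowerTorsion' (I : Ideal A) (hT : LocCoh.IsPowerTorsion I (J.homology q))
    (z : J.X q) (hz : (J.d q (q + 1)).hom z = 0) :
    ∃ n : ℕ, ∀ a ∈ I ^ n, ∃ w : J.X (q - 1), (J.d (q - 1) q).hom w = a • z := by
  let S := J.sc' (q - 1) q (q + 1)
  let h := S.moduleCatLeftHomologyData
  let z' : h.K := ⟨z, hz⟩
  let x : J.homology q := (homIso J q).inv.hom (h.π.hom z')
  obtain ⟨n, hn⟩ := hT x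
  refine ⟨n, fun a ha => ?_⟩
  have h1 : a • x = 0 := hn a ha
  have h2 : (homIso J q).hom.hom (a • x) = 0 := by rw [h1, map_zero]
  rw [map_smul] at h2
  have h3 : (homIso J q).hom.hom x = h.π.hom z' := by
    show ((homIso J q).inv ≫ (homIso J q).hom).hom (h.π.hom z') = _
    rw [Iso.inv_hom_id]
    rfl
  rw [h3, ← map_smul] at h2
  have h4 : a • z' ∈ LinearMap.range S.moduleCatToCycles :=
    (Submodule.Quotient.mk_eq_zero _).mp h2
  obtain ⟨w, hw⟩ := h4
  exact ⟨w, congrArg Subtype.val hw⟩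

lemma exists_bdry_of_isPowerTorsion (I : Ideal A) (hT : LocCoh.IsPowerTorsion I (J.homology q))
    (p r : ℤ) (hp : p + 1 = q) (hr : q + 1 = r)
    (z : J.X q) (hz : (J.d q r).hom z = 0) :
    ∃ n : ℕ, ∀ a ∈ I ^ n, ∃ w : J.X p, (J.d p q).hom w = a • z := by
  obtain rfl : p = q - 1 := by lia
  subst hr
  exact exists_bdry_of_isPowerTorsion' I hT z hz

lemma d_d_apply (J : DRing.Cx A) (i j k : ℤ) (x : J.X i) :
    (J.d j k).hom ((J.d i j).hom x) = 0 := by
  rw [← LinearMap.comp_apply, ← ModuleCat.hom_comp, J.d_comp_d]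
  rfl

/-- the cohomology of a complex of `I`-power torsion modules is `I`-power torsion -/
lemma isPowerTorsion_homology (I : Ideal A) (hJ : LocCoh.IsPowerTorsion I (J.X q)) :
    LocCoh.IsPowerTorsion I (J.homology q) := by
  let S := J.sc' (q - 1) q (q + 1)
  let h := S.moduleCatLeftHomologyData
  intro x
  obtain ⟨z, hz⟩ : ∃ z : h.K, h.π.hom z = (homIso J q).hom.hom x :=
    Submodule.mkQ_surjective _ _
  obtain ⟨n, hn⟩ := hJ z.1
  refine ⟨n, fun a ha => ?_⟩
  have h1 : a • z = 0 := Subtype.ext (hn a ha)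
  have h2 : (homIso J q).hom.hom (a • x) = 0 := by
    rw [map_smul, ← hz, ← map_smul, h1, map_zero]
  have h3 : a • x = (homIso J q).inv.hom ((homIso J q).hom.hom (a • x)) := by
    show a • x = ((homIso J q).hom ≫ (homIso J q).inv).hom (a • x)
    rw [Iso.hom_inv_id]
    rfl
  rw [h3, h2, map_zero]

end Homology

lemma isPowerTorsion_of_iso {I : Ideal A} {M N : ModuleCat.{u} A} (e : M ≅ N)
    (h : LocCoh.IsPowerTorsion I M) : LocCoh.IsPowerTorsion I N := by
  intro x
  obtain ⟨n, hn⟩ := h (e.inv.hom x)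
  refine ⟨n, fun a ha => ?_⟩
  have h1 : e.inv.hom (a • x) = 0 := by rw [map_smul, hn a ha]
  have h2 : a • x = e.hom.hom (e.inv.hom (a • x)) := by
    show a • x = (e.inv ≫ e.hom).hom (a • x)
    rw [Iso.inv_hom_id]
    rfl
  rw [h2, h1, map_zero]

lemma isPowerTorsion_mono {I I' : Ideal A} (h : I' ≤ I) {M : Type u} [AddCommGroup M]
    [Module A M] (hM : LocCoh.IsPowerTorsion I M) : LocCoh.IsPowerTorsion I' M := by
  intro x
  obtain ⟨n, hn⟩ := hM x
  exact ⟨n, fun a ha => hn a (Ideal.pow_right_mono h n ha)⟩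

section Gam

variable (I : Ideal A)

/-- `Γ_I` on complexes -/
noncomputable abbrev gamCx : DRing.Cx A ⥤ DRing.Cx A :=
  (DRing.gammaI I).mapHomologicalComplex (ComplexShape.up ℤ)

/-- the inclusion `Γ_I(J) ⟶ J` -/
noncomputable def gamι (J : DRing.Cx A) : (gamCx I).obj J ⟶ J where
  f n := (DRing.gammaIι I).app (J.X n)
  comm' i j _ := ((DRing.gammaIι I).naturality (J.d i j)).symm

@[reassoc]
lemma gamι_naturality {J J' : DRing.Cx A} (φ : J ⟶ J') :
    (gamCx I).map φ ≫ gamι I J' = gamι I J ≫ φ := by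
  ext n : 1
  exact (DRing.gammaIι I).naturality (φ.f n)

lemma gamι_f_apply (J : DRing.Cx A) (n : ℤ) (x : ((gamCx I).obj J).X n) :
    ((gamι I J).f n).hom x = x.1 := rfl

lemma gamCx_d_apply (J : DRing.Cx A) (i j : ℤ) (x : ((gamCx I).obj J).X i) :
    ((((gamCx I).obj J).d i j).hom x).1 = (J.d i j).hom x.1 := rfl

lemma isPowerTorsion_gamCx_X (J : DRing.Cx A) (n : ℤ) :
    LocCoh.IsPowerTorsion I (((gamCx I).obj J).X n) := by
  intro x
  obtain ⟨k, hk⟩ := x.2
  exact ⟨k, fun a ha => Subtype.ext (hk a ha)⟩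

end Gam

section Principal

variable [IsNoetherianRing A] (f : A)

lemma mem_torsionSub_span_singleton {M : Type u} [AddCommGroup M] [Module A M] (x : M) :
    x ∈ DRing.torsionSub (Ideal.span {f}) M ↔ ∃ n : ℕ, f ^ n • x = 0 := by
  constructor
  · rintro ⟨n, hn⟩
    exact ⟨n, hn _ (Ideal.pow_mem_pow (Ideal.mem_span_singleton_self f) n)⟩
  · rintro ⟨n, hn⟩
    refine ⟨n, fun a ha => ?_⟩
    rw [Ideal.span_singleton_pow, Ideal.mem_span_singleton'] at ha
    obtain ⟨c, rfl⟩ := ha
    rw [mul_smul, hn, smul_zero]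

/-- for an injective module `E` over a Noetherian ring, `E = f^n E + Γ_f(E)` -/
lemma exists_decomp (E : Type u) [AddCommGroup E] [Module A E] [Module.Injective A E] (x : E)
    (n : ℕ) : ∃ (y : E) (m : ℕ), f ^ m • (x - f ^ n • y) = 0 := by
  obtain ⟨y, hy⟩ := Groth.Agent.Helper1.LocFun.mk_surjective_of_injective f E
    (LocalizedModule.mk x ⟨f ^ n, n, rfl⟩)
  rw [LocalizedModule.mkLinearMap_apply, LocalizedModule.mk_eq] at hy
  obtain ⟨⟨_, m, rfl⟩, hu⟩ := hy
  refine ⟨y, m, ?_⟩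
  have h1 : f ^ m • (f ^ n • y) = f ^ m • x := by
    simpa [Submonoid.smul_def] using hu
  rw [smul_sub, h1, sub_self]

variable (J : DRing.Cx A) (hJ : ∀ n, Injective (J.X n))

include hJ in
/-- the principal case -/
theorem quasiIso_gamι_span_singleton
    (hT : ∀ q, LocCoh.IsPowerTorsion (Ideal.span {f}) (J.homology q)) :
    QuasiIso (gamι (Ideal.span {f}) J) := by
  have hinjm : ∀ n, Module.Injective A (J.X n) := fun n =>
    haveI := hJ n
    Module.injective_module_of_injective_object A (J.X n)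
  have hTf : ∀ (p q r : ℤ) (_ : p + 1 = q) (_ : q + 1 = r) (z : J.X q), (J.d q r).hom z = 0 →
      ∃ (n : ℕ) (w : J.X p), (J.d p q).hom w = f ^ n • z := by
    intro p q r hp hr z hz
    obtain ⟨n, hn⟩ := exists_bdry_of_isPowerTorsion _ (hT q) p r hp hr z hz
    obtain ⟨w, hw⟩ := hn _ (Ideal.pow_mem_pow (Ideal.mem_span_singleton_self f) n)
    exact ⟨n, w, hw⟩
  rw [quasiIso_iff]
  intro q
  apply Groth.Agent.Helper6.BiD.quasiIsoAt_of_elementwise
  · -- injectivity
    intro x hx hy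
    obtain ⟨w, hw⟩ := hy
    rw [gamι_f_apply] at hw
    obtain ⟨n, hn⟩ := (mem_torsionSub_span_singleton f x.1).1 x.2
    have hz : (J.d (q - 1) q).hom (f ^ n • w) = 0 := by
      rw [map_smul, hw, hn]
    obtain ⟨m, v, hv⟩ := hTf (q - 1 - 1) (q - 1) q (by lia) (by lia) (f ^ n • w) hz
    haveI := hinjm (q - 1 - 1)
    obtain ⟨v', k, hk⟩ := exists_decomp f (J.X (q - 1 - 1)) v (m + n)
    let y₀ : J.X (q - 1) := w - (J.d (q - 1 - 1) (q - 1)).hom v'
    have hy₀ : f ^ (k + (m + n)) • y₀ = 0 := by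
      have h1 : f ^ (m + n) • w = (J.d (q - 1 - 1) (q - 1)).hom v := by
        rw [hv, pow_add, mul_smul]
      have h2 : f ^ k • (J.d (q - 1 - 1) (q - 1)).hom (v - f ^ (m + n) • v') = 0 := by
        rw [← map_smul, hk, map_zero]
      rw [pow_add, mul_smul]
      show f ^ k • f ^ (m + n) • (w - (J.d (q - 1 - 1) (q - 1)).hom v') = 0
      rw [smul_sub, h1, ← map_smul (J.d (q - 1 - 1) (q - 1)).hom (f ^ (m + n)) v', ← map_sub]
      exact h2
    let y₁ : ((gamCx (Ideal.span {f})).obj J).X (q - 1) :=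
      ⟨y₀, (mem_torsionSub_span_singleton f y₀).2 ⟨_, hy₀⟩⟩
    refine ⟨y₁, ?_⟩
    apply Subtype.ext
    rw [gamCx_d_apply]
    show (J.d (q - 1) q).hom (w - (J.d (q - 1 - 1) (q - 1)).hom v') = x.1
    rw [map_sub, hw, d_d_apply, sub_zero]
  · -- surjectivity
    intro y hy
    obtain ⟨n, w₀, hw₀⟩ := hTf (q - 1) q (q + 1) (by lia) rfl y hy
    haveI := hinjm (q - 1)
    obtain ⟨w', k, hk⟩ := exists_decomp f (J.X (q - 1)) w₀ n
    let x₀ : J.X q := y - (J.d (q - 1) q).hom w'
    have hx₀ : f ^ (k + n) • x₀ = 0 := by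
      have h2 : f ^ k • (J.d (q - 1) q).hom (w₀ - f ^ n • w') = 0 := by
        rw [← map_smul, hk, map_zero]
      rw [pow_add, mul_smul]
      show f ^ k • f ^ n • (y - (J.d (q - 1) q).hom w') = 0
      rw [smul_sub, ← hw₀, ← map_smul (J.d (q - 1) q).hom (f ^ n) w', ← map_sub]
      exact h2
    have hdx₀ : (J.d q (q + 1)).hom x₀ = 0 := by
      show (J.d q (q + 1)).hom (y - (J.d (q - 1) q).hom w') = 0
      rw [map_sub, hy, d_d_apply, sub_zero]
    let x₁ : ((gamCx (Ideal.span {f})).obj J).X q :=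
      ⟨x₀, (mem_torsionSub_span_singleton f x₀).2 ⟨_, hx₀⟩⟩
    refine ⟨x₁, ?_, w', ?_⟩
    · apply Subtype.ext
      rw [gamCx_d_apply]
      exact hdx₀
    · rw [gamι_f_apply]
      show (J.d (q - 1) q).hom w' = y - (y - (J.d (q - 1) q).hom w')
      abel

end Principal

section General

variable [IsNoetherianRing A]

/-- `Γ_{I₁}(Γ_{I₂}(J)) ≅ Γ_{I₁ + I₂}(J)` -/
noncomputable def gamCompIso (I₁ I₂ : Ideal A) (J : DRing.Cx A) :
    (gamCx I₁).obj ((gamCx I₂).obj J) ≅ (gamCx (I₁ ⊔ I₂)).obj J :=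
  HomologicalComplex.Hom.isoOfComponents
    (fun n => (Groth.Agent.Helper1.LocCohSup.gammaCompIso I₁ I₂).app (J.X n))
    (fun i j _ => ((Groth.Agent.Helper1.LocCohSup.gammaCompIso I₁ I₂).hom.naturality
      (J.d i j)).symm)

lemma gamCompIso_hom_gamι (I₁ I₂ : Ideal A) (J : DRing.Cx A) :
    (gamCompIso I₁ I₂ J).hom ≫ gamι (I₁ ⊔ I₂) J = gamι I₁ ((gamCx I₂).obj J) ≫ gamι I₂ J := by
  ext n x
  rfl

/-- **Main lemma**: for a complex `J` of injective modules over a Noetherian ring with `I`-power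
torsion cohomology, `Γ_I(J) ⟶ J` is a quasi-isomorphism. -/
theorem quasiIso_gamι (I : Ideal A) : ∀ (J : DRing.Cx A), (∀ n, Injective (J.X n)) →
    (∀ q, LocCoh.IsPowerTorsion I (J.homology q)) → QuasiIso (gamι I J) := by
  refine Submodule.fg_induction (R := A) (M := A) (motive := fun (I : Ideal A) _ =>
    ∀ (J : DRing.Cx A), (∀ n, Injective (J.X n)) →
      (∀ q, LocCoh.IsPowerTorsion I (J.homology q)) → QuasiIso (gamι I J)) ?_ ?_ I
    (IsNoetherian.noetherian I)
  · intro f J hJ hT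
    exact quasiIso_gamι_span_singleton f J hJ hT
  · intro I₁ I₂ _ _ h₁ h₂ J hJ hT
    haveI hq2 := h₂ J hJ (fun q => isPowerTorsion_mono le_sup_right (hT q))
    let J' := (gamCx I₂).obj J
    have hJ' : ∀ n, Injective (J'.X n) := fun n =>
      haveI := hJ n
      Groth.Agent.Helper1.GammaInj.injective_gammaI_obj I₂ (J.X n)
    have hT' : ∀ q, LocCoh.IsPowerTorsion I₁ (J'.homology q) := fun q =>
      isPowerTorsion_of_iso (asIso (homologyMap (gamι I₂ J) q)).symm
        (isPowerTorsion_mono le_sup_left (hT q))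
    haveI hq1 := h₁ J' hJ' hT'
    have h : gamι (I₁ ⊔ I₂) J = (gamCompIso I₁ I₂ J).inv ≫ gamι I₁ J' ≫ gamι I₂ J := by
      rw [Iso.eq_inv_comp, gamCompIso_hom_gamι]
    rw [h]
    infer_instance

/-- in particular `Γ_I` preserves acyclicity of complexes of injective modules -/
theorem acyclic_gamCx (I : Ideal A) (J : DRing.Cx A) (hJ : ∀ n, Injective (J.X n))
    (hacyc : ∀ q, IsZero (J.homology q)) (q : ℤ) : IsZero (((gamCx I).obj J).homology q) := by
  haveI := quasiIso_gamι I J hJ (fun q x => ⟨0, fun a _ =>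
    (ModuleCat.isZero_iff_subsingleton.1 (hacyc q)).elim _ _⟩)
  exact (hacyc q).of_iso (asIso (homologyMap (gamι I J) q))

end General

end Groth.Agent.Helper9.LCT1
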