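import Mathlib
import Groth.Prelude.Def_DRing3
import Groth.Prelude.Def_Wider
import Groth.Agent.Helper9.LCT1
import Groth.Agent.Helper9.KFlat3
import Groth.Agent.Helper4.KDerAdj
import Groth.Agent.Helper4.KInjRes

/-!
# `RΓ_I` over a Noetherian ring through complexes of injective modules
-/

set_option autoImplicit false
set_option linter.style.haveILetI false
set_option linter.unusedSectionVars false

namespace Groth.Agent.Helper9.LCT2

open CategoryTheory Limits HomologicalComplex DerivedCategory
open Groth.Agent.Helper9.LCT1 Groth.Agent.Helper1 Groth.Agent.Helper4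

attribute [local instance] HasDerivedCategory.standard

universe u

variable {A : Type u} [CommRing A] (I : Ideal A)

/-- the total right derived functor of `Γ_I` exists -/
theorem hasRgammaI : DRing.HasRgammaI I := by
  have := (KDerAdj.derives (DRing.gammaIKh I)).hasPointwiseRightDerivedFunctor
  infer_instance

variable [DRing.HasRgammaI I]

/-- the unit of the total right derived functor -/
noncomputable abbrev β : DRing.gammaIKh I ⟶ DerivedCategory.Qh ⋙ DRing.RgammaI I :=
  (DRing.gammaIKh I).totalRightDerivedUnit DerivedCategory.Qh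
    (HomotopyCategory.quasiIso (ModuleCat.{u} A) (ComplexShape.up ℤ))

/-- the unit on a complex -/
noncomputable def βQ (J : DRing.Cx A) :
    Q.obj ((gamCx I).obj J) ⟶ (DRing.RgammaI I).obj (Q.obj J) :=
  (β I).app ((HomotopyCategory.quotient _ _).obj J)

lemma βQ_naturality {J J' : DRing.Cx A} (φ : J ⟶ J') :
    Q.map ((gamCx I).map φ) ≫ βQ I J' = βQ I J ≫ (DRing.RgammaI I).map (Q.map φ) :=
  (β I).naturality ((HomotopyCategory.quotient _ _).map φ)

lemma gammaIτ_app (J : DRing.Cx A) :
    (DRing.gammaIτ I).app ((HomotopyCategory.quotient _ _).obj J) = Q.map (gamι I J) := by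
  have h1 : (DRing.gammaIτ I).app ((HomotopyCategory.quotient _ _).obj J) =
      (DRing.gammaIτ0 I).app J := Quotient.natTransLift_app _ _ _ (DRing.gammaIτ0 I) J
  rw [h1]
  unfold DRing.gammaIτ0
  simp only [Functor.comp_obj, NatTrans.comp_app, Functor.associator_inv_app,
    Functor.whiskerRight_app, Functor.associator_hom_app, Functor.comp_map, Functor.id_obj,
    Functor.leftUnitor_hom_app, Category.id_comp, Category.comp_id]
  have h2 : ((DRing.gammaI I).mapHomotopyCategoryFactors (ComplexShape.up ℤ)).hom.app J = 𝟙 _ :=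
    rfl
  have h3 : (NatTrans.mapHomologicalComplex (DRing.gammaIι I) (ComplexShape.up ℤ)).app J ≫
      (Functor.mapHomologicalComplexIdIso (ModuleCat.{u} A) (ComplexShape.up ℤ)).hom.app J =
      gamι I J := by
    ext n : 1
    simp only [gamι, Functor.mapHomologicalComplexIdIso, comp_f,
      NatTrans.mapHomologicalComplex_app_f, NatIso.ofComponents_hom_app]
    exact Category.comp_id _
  rw [h2]
  erw [CategoryTheory.Functor.map_id, Category.id_comp]
  rw [← Functor.map_comp, ← Functor.map_comp, h3]
  rfl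

/-- compatibility of the unit with the canonical map `RΓ_I ⟶ 𝟭` -/
lemma βQ_ε (J : DRing.Cx A) :
    βQ I J ≫ (DRing.RgammaIε I).app (Q.obj J) = Q.map (gamι I J) := by
  have h := (DRing.RgammaI I).rightDerived_fac (β I)
    (HomotopyCategory.quasiIso (ModuleCat.{u} A) (ComplexShape.up ℤ)) (𝟭 (Dual.D A))
    (DRing.gammaIτ I ≫ (Functor.rightUnitor _).inv)
  have h' := congrArg (fun t => t.app ((HomotopyCategory.quotient _ _).obj J)) h
  simp only [NatTrans.comp_app, Functor.whiskerLeft_app, Functor.rightUnitor_inv_app,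
    Category.comp_id] at h'
  rw [gammaIτ_app] at h'
  exact h'

/-- the unit is an isomorphism on K-injective complexes -/
lemma isIso_βQ_of_isKInjective (J : DRing.Cx A) [J.IsKInjective] : IsIso (βQ I J) := by
  let XJ : (KInjDer.P (ModuleCat.{u} A)).FullSubcategory :=
    ⟨(HomotopyCategory.quotient _ _).obj J, CochainComplex.IsKInjective.rightOrthogonal J⟩
  exact KDerAdj.isIso_β_app (DRing.RgammaI I) (β I) XJ


section Noeth

variable [IsNoetherianRing A]

open CochainComplex in
/-- **Theorem A**: the unit is an isomorphism on complexes of injective modules -/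
theorem isIso_βQ (J : DRing.Cx A) (hJ : ∀ n, Injective (J.X n)) : IsIso (βQ I J) := by
  obtain ⟨J', u, hK, hu, -, hJ'⟩ := KInjRes.exists_resolution J
  haveI := hK
  haveI := hu
  have hcone : ∀ n, Injective ((mappingCone u).X n) := by
    intro n
    haveI := hJ (n + 1)
    haveI := hJ' n
    exact Injective.of_iso (HomologicalComplex.homotopyCofiber.XIsoBiprod u n (n + 1) rfl).symm
      inferInstance
  have hacyc : (mappingCone u).Acyclic := (KFlat3.quasiIso_iff_acyclic_mappingCone u).1 hu
  have h1 : ∀ q, IsZero (((gamCx I).obj (mappingCone u)).homology q) :=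
    acyclic_gamCx I _ hcone ((KFlat3.acyclic_iff_isZero_homology _).1 hacyc)
  have h2 : (mappingCone ((gamCx I).map u)).Acyclic := by
    rw [KFlat3.acyclic_iff_isZero_homology]
    intro q
    exact (h1 q).of_iso ((HomologicalComplex.homologyFunctor _ _ q).mapIso
      (mappingCone.mapHomologicalComplexIso u (DRing.gammaI I)).symm)
  haveI hqis : QuasiIso ((gamCx I).map u) := (KFlat3.quasiIso_iff_acyclic_mappingCone _).2 h2
  have hnat := βQ_naturality I u
  haveI := isIso_βQ_of_isKInjective I J'
  have h3 : βQ I J = Q.map ((gamCx I).map u) ≫ βQ I J' ≫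
      inv ((DRing.RgammaI I).map (Q.map u)) := by
    rw [← Category.assoc, hnat, Category.assoc, IsIso.hom_inv_id, Category.comp_id]
  rw [h3]
  infer_instance

end Noeth

/-- every object of `D(A)` is represented by a K-injective complex with injective terms -/
lemma exists_rep (K : Dual.D A) : ∃ (J : DRing.Cx A) (_ : K ≅ Q.obj J), J.IsKInjective ∧
    ∀ n, Injective (J.X n) := by
  obtain ⟨J, u, hK, hu, -, hJ⟩ := KInjRes.exists_resolution (Q.objPreimage K)
  haveI := hu
  exact ⟨J, (Q.objObjPreimageIso K).symm ≪≫ asIso (Q.map u), hK, hJ⟩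

/-- the cohomology of `Q.obj J` -/
noncomputable def hdIso (J : DRing.Cx A) (q : ℤ) :
    (DerivedCategory.homologyFunctor (ModuleCat.{u} A) q).obj (Q.obj J) ≅ J.homology q :=
  (homologyFunctorFactors (ModuleCat.{u} A) q).app J

/-- the cohomology modules of `RΓ_I(K)` are `I`-power torsion -/
theorem isPowerTorsion_RgammaI (K : Dual.D A) (q : ℤ) :
    LocCoh.IsPowerTorsion I (Dual.HD A ((DRing.RgammaI I).obj K) q) := by
  obtain ⟨J, e, hK, -⟩ := exists_rep K
  haveI := hK
  haveI := isIso_βQ_of_isKInjective I J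
  let e' : (DRing.RgammaI I).obj K ≅ Q.obj ((gamCx I).obj J) :=
    (DRing.RgammaI I).mapIso e ≪≫ (asIso (βQ I J)).symm
  have h : LocCoh.IsPowerTorsion I (((gamCx I).obj J).homology q) :=
    isPowerTorsion_homology I (isPowerTorsion_gamCx_X I J q)
  exact isPowerTorsion_of_iso
    ((hdIso _ q).symm ≪≫ (DerivedCategory.homologyFunctor (ModuleCat.{u} A) q).mapIso e'.symm) h

section Noeth2

variable [IsNoetherianRing A]

/-- **Theorem B**: `RΓ_I(K) ⟶ K` is an isomorphism when the cohomology modules of `K` are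
`I`-power torsion -/
theorem isIso_ε (K : Dual.D A) (hK : ∀ i : ℤ, LocCoh.IsPowerTorsion I (Dual.HD A K i)) :
    IsIso ((DRing.RgammaIε I).app K) := by
  obtain ⟨J, e, hKi, hJ⟩ := exists_rep K
  haveI := hKi
  rw [NatTrans.isIso_app_iff_of_iso (DRing.RgammaIε I) e]
  have hT : ∀ q, LocCoh.IsPowerTorsion I (J.homology q) := fun q =>
    isPowerTorsion_of_iso
      ((DerivedCategory.homologyFunctor (ModuleCat.{u} A) q).mapIso e ≪≫ hdIso J q) (hK q)
  haveI := quasiIso_gamι I J hJ hT
  haveI := isIso_βQ_of_isKInjective I J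
  have h1 := βQ_ε I J
  haveI : IsIso (βQ I J ≫ (DRing.RgammaIε I).app (Q.obj J)) := by
    rw [h1]
    infer_instance
  exact IsIso.of_isIso_comp_left (βQ I J) _

/-- `Γ_I(Γ_I(J)) ⟶ Γ_I(J)` is an isomorphism -/
lemma isIso_gamCx_map_gamι (J : DRing.Cx A) : IsIso ((gamCx I).map (gamι I J)) := by
  have : ∀ n, IsIso (((gamCx I).map (gamι I J)).f n) := by
    intro n
    rw [ConcreteCategory.isIso_iff_bijective]
    constructor
    · intro x y hxy
      have h1 : (x.1.1 : J.X n) = (y.1.1 : J.X n) := congrArg Subtype.val hxy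
      exact Subtype.ext (Subtype.ext h1)
    · intro y
      refine ⟨⟨y, ?_⟩, rfl⟩
      obtain ⟨k, hk⟩ := y.2
      exact ⟨k, fun a ha => Subtype.ext (hk a ha)⟩
  exact HomologicalComplex.Hom.isIso_of_components _

/-- `RΓ_I` applied to `RΓ_I(K) ⟶ K` is an isomorphism -/
theorem isIso_map_ε (K : Dual.D A) :
    IsIso ((DRing.RgammaI I).map ((DRing.RgammaIε I).app K)) := by
  obtain ⟨J, e, hKi, hJ⟩ := exists_rep K
  haveI := hKi
  -- reduce to `Q.obj J`
  have hnat := (DRing.RgammaIε I).naturality e.hom
  have h0 : (DRing.RgammaIε I).app K =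
      (DRing.RgammaI I).map e.hom ≫ (DRing.RgammaIε I).app (Q.obj J) ≫ e.inv := by
    rw [← Category.assoc, hnat]
    simp
  suffices h : IsIso ((DRing.RgammaI I).map ((DRing.RgammaIε I).app (Q.obj J))) by
    rw [h0, Functor.map_comp, Functor.map_comp]
    infer_instance
  haveI := isIso_βQ_of_isKInjective I J
  have h1 : (DRing.RgammaIε I).app (Q.obj J) = inv (βQ I J) ≫ Q.map (gamι I J) := by
    rw [IsIso.eq_inv_comp, βQ_ε]
  have hΓJ : ∀ n, Injective (((gamCx I).obj J).X n) := fun n =>
    haveI := hJ n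
    GammaInj.injective_gammaI_obj I (J.X n)
  haveI := isIso_βQ I ((gamCx I).obj J) hΓJ
  haveI := isIso_gamCx_map_gamι I J
  have h2 := βQ_naturality I (gamι I J)
  haveI : IsIso ((DRing.RgammaI I).map (Q.map (gamι I J))) := by
    have h3 : (DRing.RgammaI I).map (Q.map (gamι I J)) =
        inv (βQ I ((gamCx I).obj J)) ≫ Q.map ((gamCx I).map (gamι I J)) ≫ βQ I J := by
      rw [IsIso.eq_inv_comp, h2]
    rw [h3]
    infer_instance
  rw [h1, Functor.map_comp]
  infer_instance

end Noeth2

end Groth.Agent.Helper9.LCT2
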