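import Mathlib
import Groth.Prelude.Def_DRing3
import Groth.Prelude.Def_Wider
import Groth.Agent.Helper9.LCT2

/-!
# `RΓ_I` is right adjoint to the inclusion of objects with `I`-power torsion cohomology;
`RΓ_J ∘ RΓ_I ≅ RΓ_{I+J}` (Noetherian rings)
-/

set_option autoImplicit false
set_option linter.style.haveILetI false
set_option linter.unusedSectionVars false

namespace Groth.Agent.Helper9.LCT3

open CategoryTheory Limits HomologicalComplex DerivedCategory
open Groth.Agent.Helper9.LCT1 Groth.Agent.Helper9.LCT2 Groth.Agent.Helper1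

attribute [local instance] HasDerivedCategory.standard

universe u

variable {A : Type u} [CommRing A] [IsNoetherianRing A]

section Adj

variable (I : Ideal A) [DRing.HasRgammaI I]

/-- objects with `I`-power torsion cohomology -/
abbrev Tors : ObjectProperty (Dual.D A) :=
  fun L : Dual.D A => ∀ i : ℤ, LocCoh.IsPowerTorsion I (Dual.HD A L i)

variable (h : ∀ K : Dual.D A, Tors I ((DRing.RgammaI I).obj K))

/-- composition with `RΓ_I(K) ⟶ K` -/
noncomputable def Φ (L : (Tors I).FullSubcategory) (K : Dual.D A) :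
    (L ⟶ ((Tors I).lift (DRing.RgammaI I) h).obj K) → ((Tors I).ι.obj L ⟶ K) :=
  fun g => g.hom ≫ (DRing.RgammaIε I).app K

lemma Φ_bijective (L : (Tors I).FullSubcategory) (K : Dual.D A) :
    Function.Bijective (Φ I h L K) := by
  haveI : IsIso ((DRing.RgammaIε I).app L.obj) := isIso_ε I L.obj L.property
  haveI := isIso_map_ε I K
  constructor
  · intro g g' hgg'
    have h1 : g.hom ≫ (DRing.RgammaIε I).app K = g'.hom ≫ (DRing.RgammaIε I).app K := hgg'
    have h2 : (DRing.RgammaI I).map g.hom = (DRing.RgammaI I).map g'.hom := by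
      rw [← cancel_mono ((DRing.RgammaI I).map ((DRing.RgammaIε I).app K)), ← Functor.map_comp,
        ← Functor.map_comp, h1]
    have h3 := (DRing.RgammaIε I).naturality g.hom
    have h4 := (DRing.RgammaIε I).naturality g'.hom
    apply ObjectProperty.hom_ext
    rw [← cancel_epi ((DRing.RgammaIε I).app L.obj)]
    exact h3.symm.trans ((congrArg (· ≫ _) h2).trans h4)
  · intro f
    refine ⟨ObjectProperty.homMk (inv ((DRing.RgammaIε I).app L.obj) ≫
      (DRing.RgammaI I).map f), ?_⟩
    have h3 := (DRing.RgammaIε I).naturality f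
    show (inv ((DRing.RgammaIε I).app L.obj) ≫ (DRing.RgammaI I).map f) ≫
      (DRing.RgammaIε I).app K = f
    rw [Category.assoc, h3]
    exact IsIso.inv_hom_id_assoc ((DRing.RgammaIε I).app L.obj) f

/-- the adjunction -/
noncomputable def adj : (Tors I).ι ⊣ (Tors I).lift (DRing.RgammaI I) h :=
  Adjunction.mkOfHomEquiv
    { homEquiv := fun L K => (Equiv.ofBijective (Φ I h L K) (Φ_bijective I h L K)).symm
      homEquiv_naturality_left_symm := by
        intro L' L K f g
        simp only [Equiv.symm_symm, Equiv.ofBijective_apply]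
        show (f ≫ g).hom ≫ _ = f.hom ≫ g.hom ≫ _
        rw [ObjectProperty.FullSubcategory.comp_hom, Category.assoc]
      homEquiv_naturality_right := by
        intro L K K' f g
        apply (Equiv.ofBijective (Φ I h L K') (Φ_bijective I h L K')).injective
        rw [Equiv.apply_symm_apply]
        show f ≫ g = (((Equiv.ofBijective (Φ I h L K) (Φ_bijective I h L K)).symm f) ≫
          ((Tors I).lift (DRing.RgammaI I) h).map g).hom ≫ (DRing.RgammaIε I).app K'
        rw [ObjectProperty.FullSubcategory.comp_hom, Category.assoc]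
        have h3 := (DRing.RgammaIε I).naturality g
        have h4 : (((Tors I).lift (DRing.RgammaI I) h).map g).hom = (DRing.RgammaI I).map g :=
          rfl
        rw [h4, h3, ← Category.assoc]
        have h5 : ((Equiv.ofBijective (Φ I h L K) (Φ_bijective I h L K)).symm f).hom ≫
            (DRing.RgammaIε I).app K = f :=
          (Equiv.ofBijective (Φ I h L K) (Φ_bijective I h L K)).apply_symm_apply f
        rw [h5]
        rfl }

end Adj

section Comp

variable (I J : Ideal A) [DRing.HasRgammaI I] [DRing.HasRgammaI J] [DRing.HasRgammaI (I ⊔ J)]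

/-- `RΓ_J(RΓ_I(K)) ≅ RΓ_{I+J}(K)` -/
theorem nonempty_comp_iso (K : Dual.D A) :
    Nonempty ((DRing.RgammaI J).obj ((DRing.RgammaI I).obj K) ≅
      (DRing.RgammaI (I ⊔ J)).obj K) := by
  obtain ⟨E, e, hKi, hE⟩ := exists_rep K
  haveI := hKi
  haveI := isIso_βQ_of_isKInjective I E
  haveI := isIso_βQ_of_isKInjective (I ⊔ J) E
  have hΓE : ∀ n, Injective (((gamCx I).obj E).X n) := fun n =>
    haveI := hE n
    GammaInj.injective_gammaI_obj I (E.X n)
  haveI := isIso_βQ J ((gamCx I).obj E) hΓE
  let e1 : (DRing.RgammaI I).obj K ≅ Q.obj ((gamCx I).obj E) :=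
    (DRing.RgammaI I).mapIso e ≪≫ (asIso (βQ I E)).symm
  let e2 : (DRing.RgammaI J).obj (Q.obj ((gamCx I).obj E)) ≅
      Q.obj ((gamCx J).obj ((gamCx I).obj E)) := (asIso (βQ J ((gamCx I).obj E))).symm
  let e3 : (gamCx J).obj ((gamCx I).obj E) ≅ (gamCx (I ⊔ J)).obj E :=
    gamCompIso J I E ≪≫ eqToIso (by rw [sup_comm])
  let e4 : Q.obj ((gamCx (I ⊔ J)).obj E) ≅ (DRing.RgammaI (I ⊔ J)).obj K :=
    asIso (βQ (I ⊔ J) E) ≪≫ ((DRing.RgammaI (I ⊔ J)).mapIso e).symm
  exact ⟨(DRing.RgammaI J).mapIso e1 ≪≫ e2 ≪≫ Q.mapIso e3 ≪≫ e4⟩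

end Comp

end Groth.Agent.Helper9.LCT3
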