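import Mathlib
import Groth.Prelude.Def_DRing3
import Groth.Prelude.Def_Wider
import Groth.Agent.Helper9.LCT3
import Groth.Agent.Helper6.DComplG
import Groth.Agent.Helper6.DComplAmp

/-!
# Greenlees–May duality, part 1: maps from `RΓ_I(K) ⟶ K` into derived complete objects

For a Noetherian ring `A`, an ideal `I`, an object `K` of `D(A)` and a derived `I`-complete object
`C`, composition with `RΓ_I(K) ⟶ K` is a bijection `Hom(K, C) ≃ Hom(RΓ_I(K), C)`.
-/

set_option autoImplicit false
set_option linter.style.haveILetI false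
set_option linter.unusedSectionVars false

namespace Groth.Agent.Helper9.GM1

open CategoryTheory Limits HomologicalComplex DerivedCategory Pretriangulated
open Groth.Agent.Helper9.LCT1 Groth.Agent.Helper9.LCT2 Groth.Agent.Helper1
open Groth.Agent.Helper3.DRingLib Groth.Agent.Helper6.DComplTri

universe u

attribute [local instance] HasDerivedCategory.standard

variable {A : Type u} [CommRing A]

section General

/-- precomposition with an isomorphism is bijective -/
lemma bijective_precomp_of_isIso {C : Type*} [Category C] {X Y : C} (a : X ⟶ Y) [IsIso a] (Z : C) :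
    Function.Bijective (fun φ : Y ⟶ Z => a ≫ φ) :=
  ⟨fun _ _ h => (cancel_epi a).mp h, fun ψ => ⟨inv a ≫ ψ, by simp⟩⟩

/-- postcomposition with an isomorphism is bijective -/
lemma bijective_postcomp_of_isIso {C : Type*} [Category C] {X Y : C} (a : X ⟶ Y) [IsIso a] (Z : C) :
    Function.Bijective (fun φ : Z ⟶ X => φ ≫ a) :=
  ⟨fun _ _ h => (cancel_mono a).mp h, fun ψ => ⟨ψ ≫ inv a, by simp⟩⟩

/-- if the cone of `u` is `f`-local, then maps into a derived `f`-complete object extend uniquely
along `u` -/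
lemma bijective_precomp_of_isLocal (f : A) (T : Triangle (Dual.D A)) (hT : T ∈ distTriang _)
    (hloc : IsLocal f T.obj₃) (C : Dual.D A) (hC : DCf f C) :
    Function.Bijective (fun φ : T.obj₂ ⟶ C => T.mor₁ ≫ φ) := by
  constructor
  · intro φ₁ φ₂ h
    dsimp only at h
    have h0 : T.mor₁ ≫ (φ₁ - φ₂) = 0 := by
      rw [Preadditive.comp_sub, h, sub_self]
    obtain ⟨ψ, hψ⟩ := Triangle.yoneda_exact₂ _ hT (φ₁ - φ₂) h0
    have : ψ = 0 := hom_eq_zero_of_isLocal f _ hloc C hC ψ
    rw [this, comp_zero] at hψ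
    exact sub_eq_zero.mp hψ
  · intro ψ
    have hT' := inv_rot_of_distTriang _ hT
    have h0 : T.invRotate.mor₁ ≫ ψ = 0 :=
      hom_eq_zero_of_isLocal f _ (isLocal_shift f _ (-1) hloc) C hC _
    obtain ⟨φ, hφ⟩ := Triangle.yoneda_exact₂ _ hT' ψ h0
    exact ⟨φ, hφ.symm⟩

/-- if `X` has no nonzero maps to the shifts `T.obj₃[n]`, `n = -1, 0`, then maps from `X` lift
uniquely along `T.mor₁` -/
lemma bijective_postcomp_of_orth (X : Dual.D A) (T : Triangle (Dual.D A))
    (hT : T ∈ distTriang _) (h0 : ∀ φ : X ⟶ T.obj₃, φ = 0)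
    (h1 : ∀ φ : X ⟶ T.obj₃⟦(-1 : ℤ)⟧, φ = 0) :
    Function.Bijective (fun φ : X ⟶ T.obj₁ => φ ≫ T.mor₁) := by
  constructor
  · intro φ₁ φ₂ h
    dsimp only at h
    have h' : (φ₁ - φ₂) ≫ T.mor₁ = 0 := by
      rw [Preadditive.sub_comp, h, sub_self]
    have hT' := inv_rot_of_distTriang _ hT
    obtain ⟨ψ, hψ⟩ := Triangle.coyoneda_exact₂ _ hT' (φ₁ - φ₂) h'
    have : ψ = 0 := h1 ψ
    rw [this, zero_comp] at hψ
    exact sub_eq_zero.mp hψ
  · intro ψ
    have h' : ψ ≫ T.mor₂ = 0 := h0 _
    obtain ⟨φ, hφ⟩ := Triangle.coyoneda_exact₂ _ hT ψ h'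
    exact ⟨φ, hφ.symm⟩

end General

section Principal

variable [IsNoetherianRing A] (f : A) (J : DRing.Cx A)

/-- the short complex `0 → Γ_f(J) → J → J/Γ_f(J) → 0` -/
noncomputable def coSC : ShortComplex (DRing.Cx A) :=
  ShortComplex.mk (gamι (Ideal.span {f}) J) (cokernel.π (gamι (Ideal.span {f}) J))
    (cokernel.condition _)

instance mono_gamι (I : Ideal A) : Mono (gamι I J) := by
  have h : ∀ n, Mono ((gamι I J).f n) := fun n => by
    rw [ModuleCat.mono_iff_injective]
    exact Subtype.val_injective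
  exact HomologicalComplex.mono_of_mono_f _ h

lemma coSC_exact : (coSC f J).Exact :=
  ShortComplex.exact_of_g_is_cokernel _ (cokernelIsCokernel _)

lemma coSC_shortExact : (coSC f J).ShortExact :=
  { exact := coSC_exact f J
    mono_f := inferInstanceAs (Mono (gamι (Ideal.span {f}) J))
    epi_g := inferInstanceAs (Epi (cokernel.π (gamι (Ideal.span {f}) J))) }

/-- the quotient complex -/
noncomputable abbrev quo : DRing.Cx A := cokernel (gamι (Ideal.span {f}) J)

/-- the projection -/
noncomputable abbrev pr : J ⟶ quo f J := cokernel.π (gamι (Ideal.span {f}) J)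

lemma pr_surjective (n : ℤ) : Function.Surjective ((pr f J).f n).hom := by
  haveI : Epi ((pr f J).f n) :=
    inferInstanceAs (Epi ((eval _ (ComplexShape.up ℤ) n).map (pr f J)))
  exact (ModuleCat.epi_iff_surjective _).1 inferInstance

lemma pr_eq_zero_iff (n : ℤ) (x : J.X n) :
    ((pr f J).f n).hom x = 0 ↔ ∃ m : ℕ, f ^ m • x = 0 := by
  have h1 : ((coSC f J).map (eval _ (ComplexShape.up ℤ) n)).Exact :=
    (HomologicalComplex.exact_iff_degreewise_exact _).1 (coSC_exact f J) n
  rw [ShortComplex.moduleCat_exact_iff] at h1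
  constructor
  · intro h
    obtain ⟨t, ht⟩ := h1 x h
    have ht' : (t : ((gamCx (Ideal.span {f})).obj J).X n).1 = x := ht
    rw [← ht']
    exact (mem_torsionSub_span_singleton f _).1 t.2
  · intro h
    have hx : x ∈ DRing.torsionSub (Ideal.span {f}) (J.X n) :=
      (mem_torsionSub_span_singleton f _).2 h
    have h2 := congrArg (fun t => (t.f n).hom ⟨x, hx⟩) (coSC f J).zero
    exact h2

lemma smul_bijective_quo (hJ : ∀ n, Injective (J.X n)) (n : ℤ) :
    Function.Bijective (fun x : (quo f J).X n => f • x) := by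
  haveI : Module.Injective A (J.X n) :=
    haveI := hJ n
    Module.injective_module_of_injective_object A (J.X n)
  constructor
  · intro a b hab
    have h0 : f • (a - b) = 0 := by
      rw [smul_sub]
      exact sub_eq_zero.mpr hab
    obtain ⟨x, hx⟩ := pr_surjective f J n (a - b)
    have h1 : ((pr f J).f n).hom (f • x) = 0 := by
      rw [map_smul, hx, h0]
    obtain ⟨m, hm⟩ := (pr_eq_zero_iff f J n _).1 h1
    have h2 : ((pr f J).f n).hom x = 0 := by
      rw [pr_eq_zero_iff]
      refine ⟨m + 1, ?_⟩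
      rw [pow_succ, mul_smul]
      exact hm
    rw [hx] at h2
    exact sub_eq_zero.mp h2
  · intro b
    obtain ⟨x, rfl⟩ := pr_surjective f J n b
    obtain ⟨y, m, hm⟩ := exists_decomp f (J.X n) x 1
    refine ⟨((pr f J).f n).hom y, ?_⟩
    have h1 : ((pr f J).f n).hom (x - f ^ 1 • y) = 0 := (pr_eq_zero_iff f J n _).2 ⟨m, hm⟩
    rw [map_sub, map_smul, pow_one] at h1
    exact (sub_eq_zero.mp h1).symm

lemma isLocal_quo (hJ : ∀ n, Injective (J.X n)) : IsLocal f (Q.obj (quo f J)) := by
  unfold IsLocal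
  haveI hfY : IsIso (f • 𝟙 (quo f J)) := by
    haveI : ∀ i, IsIso ((f • 𝟙 (quo f J)).f i) := by
      intro i
      rw [ConcreteCategory.isIso_iff_bijective]
      exact smul_bijective_quo f J hJ i
    exact HomologicalComplex.Hom.isIso_of_components _
  have : f • 𝟙 (Q.obj (quo f J)) = Q.map (f • 𝟙 (quo f J)) := by
    rw [Functor.map_smul, CategoryTheory.Functor.map_id]
  rw [this]
  infer_instance

/-- the principal case -/
lemma comp_gamι_bijective_span_singleton (hJ : ∀ n, Injective (J.X n)) (C : Dual.D A)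
    (hC : DCf f C) :
    Function.Bijective (fun φ : Q.obj J ⟶ C => Q.map (gamι (Ideal.span {f}) J) ≫ φ) := by
  have hT := DerivedCategory.triangleOfSES_distinguished (coSC_shortExact f J)
  exact bijective_precomp_of_isLocal f _ hT (isLocal_quo f J hJ) C hC

end Principal

section Main

variable [IsNoetherianRing A]

/-- **Key lemma**: for a complex `J` of injective modules over a Noetherian ring and a derived
`I`-complete object `C`, every map `Γ_I(J) ⟶ C` in `D(A)` extends uniquely to `J`. -/
theorem comp_gamι_bijective (I : Ideal A) : ∀ (J : DRing.Cx A), (∀ n, Injective (J.X n)) →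
    ∀ (C : Dual.D A), DRing.IsDerivedComplete I C →
      Function.Bijective (fun φ : Q.obj J ⟶ C => Q.map (gamι I J) ≫ φ) := by
  refine Submodule.fg_induction (R := A) (M := A) (motive := fun (I : Ideal A) _ =>
    ∀ (J : DRing.Cx A), (∀ n, Injective (J.X n)) →
      ∀ (C : Dual.D A), DRing.IsDerivedComplete I C →
        Function.Bijective (fun φ : Q.obj J ⟶ C => Q.map (gamι I J) ≫ φ)) ?_ ?_ I
    (IsNoetherian.noetherian I)
  · intro f J hJ C hC
    exact comp_gamι_bijective_span_singleton f J hJ C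
      ((isDerivedComplete_iff_dcf _ C).1 hC f (Ideal.mem_span_singleton_self f))
  · intro I₁ I₂ _ _ h₁ h₂ J hJ C hC
    have hC₁ : DRing.IsDerivedComplete I₁ C := fun g hg n => hC g (le_sup_left (a := I₁) hg) n
    have hC₂ : DRing.IsDerivedComplete I₂ C := fun g hg n => hC g (le_sup_right (b := I₂) hg) n
    let J' := (gamCx I₂).obj J
    have hJ' : ∀ n, Injective (J'.X n) := fun n =>
      haveI := hJ n
      Groth.Agent.Helper1.GammaInj.injective_gammaI_obj I₂ (J.X n)
    have h : gamι (I₁ ⊔ I₂) J = (gamCompIso I₁ I₂ J).inv ≫ gamι I₁ J' ≫ gamι I₂ J := by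
      rw [Iso.eq_inv_comp, gamCompIso_hom_gamι]
    have hb2 := h₂ J hJ C hC₂
    have hb1 := h₁ J' hJ' C hC₁
    have hb0 := bijective_precomp_of_isIso (Q.map (gamCompIso I₁ I₂ J).inv) C
    have := hb0.comp (hb1.comp hb2)
    convert this using 1
    funext φ
    simp only [Function.comp_apply]
    rw [h, Functor.map_comp, Functor.map_comp, Category.assoc, Category.assoc]

variable (I : Ideal A) [DRing.HasRgammaI I]

/-- **Greenlees–May, key bijection**: for `C` derived `I`-complete, `Hom(K, C) ≃ Hom(RΓ_I K, C)` by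
composition with `RΓ_I(K) ⟶ K`. -/
theorem precomp_ε_bijective (K C : Dual.D A) (hC : DRing.IsDerivedComplete I C) :
    Function.Bijective (fun φ : K ⟶ C => (DRing.RgammaIε I).app K ≫ φ) := by
  obtain ⟨J, e, hKi, hJ⟩ := exists_rep K
  haveI := hKi
  haveI := isIso_βQ_of_isKInjective I J
  have hnat := (DRing.RgammaIε I).naturality e.hom
  have h0 : (DRing.RgammaIε I).app K =
      ((DRing.RgammaI I).map e.hom ≫ inv (βQ I J)) ≫ Q.map (gamι I J) ≫ e.inv := by
    rw [← βQ_ε I J]
    simp only [Category.assoc, IsIso.inv_hom_id_assoc]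
    rw [← Category.assoc, hnat]
    simp
  have hb1 := bijective_precomp_of_isIso e.inv C
  have hb2 := comp_gamι_bijective I J hJ C hC
  have hb3 := bijective_precomp_of_isIso ((DRing.RgammaI I).map e.hom ≫ inv (βQ I J)) C
  have := hb3.comp (hb2.comp hb1)
  convert this using 1
  funext φ
  simp only [Function.comp_apply]
  rw [h0]
  simp only [Category.assoc]

end Main

end Groth.Agent.Helper9.GM1
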