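import Mathlib
import Groth.Prelude.Def_DRing3
import Groth.Prelude.Def_Wider
import Groth.Agent.Helper9.GM1
import Groth.Agent.Helper6.DComplAdj
import Groth.Agent.Helper6.DerNak

/-!
# Greenlees–May duality over a Noetherian ring

`RΓ_I(K^) ≅ RΓ_I(K)` and `(RΓ_I K)^ ≅ K^`.
-/

set_option autoImplicit false
set_option linter.style.haveILetI false
set_option linter.unusedSectionVars false

namespace Groth.Agent.Helper9.GM2

open CategoryTheory Limits HomologicalComplex DerivedCategory Pretriangulated
open Groth.Agent.Helper9.LCT1 Groth.Agent.Helper9.LCT2 Groth.Agent.Helper9.LCT3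
open Groth.Agent.Helper9.GM1 Groth.Agent.Helper1
open Groth.Agent.Helper3.DRingLib Groth.Agent.Helper6.DComplTri Groth.Agent.Helper6.DComplG
open Groth.Agent.Helper6.DComplF

universe u

attribute [local instance] HasDerivedCategory.standard

variable {A : Type u} [CommRing A]

section Vanish

variable [IsNoetherianRing A] (I : Ideal A) [DRing.HasRgammaI I]

/-- `RΓ_I` kills `f`-local objects, `f ∈ I` -/
theorem isZero_RgammaI_of_isLocal (f : A) (hf : f ∈ I) (Y : Dual.D A) (hY : IsLocal f Y) :
    IsZero ((DRing.RgammaI I).obj Y) := by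
  obtain ⟨J, e, hKi, hJ⟩ := exists_rep Y
  haveI := hKi
  haveI hβ := isIso_βQ_of_isKInjective I J
  let μJ : J ⟶ J := f • 𝟙 J
  haveI hμ : IsIso (Q.map μJ) := by
    have : Q.map μJ = f • 𝟙 (Q.obj J) := by
      rw [Functor.map_smul, CategoryTheory.Functor.map_id]
    rw [this]
    exact isLocal_of_iso f e hY
  have hnat := βQ_naturality I μJ
  have h3 : IsIso (Q.map ((gamCx I).map μJ)) := by
    haveI : IsIso (Q.map ((gamCx I).map μJ) ≫ βQ I J) := by
      rw [hnat]
      infer_instance
    exact IsIso.of_isIso_comp_right _ (βQ I J)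
  obtain ⟨G, hG⟩ : ∃ G : DRing.Cx A, G = (gamCx I).obj J := ⟨_, rfl⟩
  obtain ⟨φ, hφ⟩ : ∃ φ : (gamCx I).obj J ⟶ (gamCx I).obj J, φ = (gamCx I).map μJ := ⟨_, rfl⟩
  rw [← hφ] at h3
  have hq : QuasiIso φ := (DerivedCategory.isIso_Q_map_iff_quasiIso _ φ).1 h3
  have hφf : ∀ (q : ℤ) (y : ((gamCx I).obj J).X q), (φ.f q).hom y = f • y := by
    intro q y
    rw [hφ]
    exact Subtype.ext rfl
  have hacyc : ∀ q, IsZero (((gamCx I).obj J).homology q) := by
    intro q
    have hiso : IsIso (HomologicalComplex.homologyMap φ q) := inferInstance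
    have hinj : Function.Injective (HomologicalComplex.homologyMap φ q).hom :=
      ((ConcreteCategory.isIso_iff_bijective _).1 hiso).1
    have hsurj : Function.Surjective (((gamCx I).obj J).homologyπ q).hom :=
      (ModuleCat.epi_iff_surjective _).1 inferInstance
    have hmono : Function.Injective (((gamCx I).obj J).iCycles q).hom :=
      (ModuleCat.mono_iff_injective _).1 inferInstance
    have e1 : ∀ (m : ℕ) (z : ((gamCx I).obj J).cycles q),
        (HomologicalComplex.homologyMap φ q).hom^[m] ((((gamCx I).obj J).homologyπ q).hom z) =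
          (((gamCx I).obj J).homologyπ q).hom ((HomologicalComplex.cyclesMap φ q).hom^[m] z) := by
      intro m
      induction m with
      | zero => intro z; rfl
      | succ m ih =>
        intro z
        rw [Function.iterate_succ_apply', Function.iterate_succ_apply', ih]
        have := congrArg (fun t => t.hom ((HomologicalComplex.cyclesMap φ q).hom^[m] z))
          (HomologicalComplex.homologyπ_naturality φ q)
        simp only [ModuleCat.hom_comp, LinearMap.comp_apply] at this
        exact this
    have e2 : ∀ (m : ℕ) (z : ((gamCx I).obj J).cycles q),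
        (((gamCx I).obj J).iCycles q).hom ((HomologicalComplex.cyclesMap φ q).hom^[m] z) =
          f ^ m • (((gamCx I).obj J).iCycles q).hom z := by
      intro m
      induction m with
      | zero => intro z; simp
      | succ m ih =>
        intro z
        rw [Function.iterate_succ_apply']
        have := congrArg (fun t => t.hom ((HomologicalComplex.cyclesMap φ q).hom^[m] z))
          (HomologicalComplex.cyclesMap_i φ q)
        simp only [ModuleCat.hom_comp, LinearMap.comp_apply] at this
        rw [this, ih, hφf, pow_succ', mul_smul]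
    rw [ModuleCat.isZero_iff_subsingleton]
    refine ⟨fun x y => ?_⟩
    suffices h0 : ∀ x : ((gamCx I).obj J).homology q, x = 0 by rw [h0 x, h0 y]
    intro x
    obtain ⟨z, rfl⟩ := hsurj x
    obtain ⟨n, hn⟩ := ((((gamCx I).obj J).iCycles q).hom z).2
    have hz : (HomologicalComplex.cyclesMap φ q).hom^[n] z = 0 := by
      apply hmono
      rw [e2, map_zero]
      apply Subtype.ext
      exact hn (f ^ n) (Ideal.pow_mem_pow hf n)
    have h0 : (HomologicalComplex.homologyMap φ q).hom^[n]
        ((((gamCx I).obj J).homologyπ q).hom z) = 0 := by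
      rw [e1, hz, map_zero]
    have hinjn : Function.Injective ((HomologicalComplex.homologyMap φ q).hom^[n]) :=
      hinj.iterate n
    have hz0 : ∀ n : ℕ, (HomologicalComplex.homologyMap φ q).hom^[n] 0 = 0 := by
      intro n
      induction n with
      | zero => rfl
      | succ n ih => rw [Function.iterate_succ_apply', ih, map_zero]
    apply hinjn
    rw [h0, hz0]
  have hGz : IsZero (Q.obj ((gamCx I).obj J)) := by
    have hq0 : QuasiIso (0 : (gamCx I).obj J ⟶ (gamCx I).obj J) := by
      rw [quasiIso_iff]
      intro q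
      rw [quasiIsoAt_iff_isIso_homologyMap]
      exact ⟨⟨0, (hacyc q).eq_of_src _ _, (hacyc q).eq_of_tgt _ _⟩⟩
    have : IsIso (Q.map (0 : (gamCx I).obj J ⟶ (gamCx I).obj J)) := by
      rw [DerivedCategory.isIso_Q_map_iff_quasiIso]
      exact hq0
    exact IsZero.of_mono_eq_zero (Q.map (0 : (gamCx I).obj J ⟶ (gamCx I).obj J))
      (Functor.map_zero _ _ _)
  exact hGz.of_iso ((DRing.RgammaI I).mapIso e ≪≫ (asIso (βQ I J)).symm)

/-- objects with `I`-power torsion cohomology have no nonzero maps to `f`-local objects, `f ∈ I` -/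
theorem hom_eq_zero_of_tors_of_isLocal (T : Dual.D A) (hT : Tors I T) (f : A) (hf : f ∈ I)
    (Y : Dual.D A) (hY : IsLocal f Y) (φ : T ⟶ Y) : φ = 0 := by
  have h : ∀ K : Dual.D A, Tors I ((DRing.RgammaI I).obj K) := fun K i =>
    isPowerTorsion_RgammaI I K i
  obtain ⟨g, hg⟩ := (Φ_bijective I h ⟨T, hT⟩ Y).2 φ
  have hz := isZero_RgammaI_of_isLocal I f hf Y hY
  have h1 : g.hom = 0 := hz.eq_of_tgt _ _
  rw [← hg]
  show g.hom ≫ _ = 0
  rw [h1, zero_comp]

end Vanish

section Completion

/-- the one-element completion, with control of maps from objects orthogonal to `f`-local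
objects -/
theorem exists_completion_one' (f : A) (K : Dual.D A) :
    ∃ (K' : Dual.D A) (η : K ⟶ K'), DCf f K' ∧ (∀ g : A, DCf g K → DCf g K') ∧
      (∀ Z : Dual.D A, DCf f Z → Function.Bijective (fun φ : K' ⟶ Z => η ≫ φ)) ∧
      (∀ X : Dual.D A, (∀ Y : Dual.D A, IsLocal f Y → ∀ φ : X ⟶ Y, φ = 0) →
        Function.Bijective (fun φ : X ⟶ K => φ ≫ η)) := by
  let L : DRing.Cx A := DerivedCategory.Q.objPreimage K
  let e : DerivedCategory.Q.obj L ≅ K := DerivedCategory.Q.objObjPreimageIso K
  obtain ⟨C, η, g, hT⟩ := exists_compl_triangle L f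
  refine ⟨C, e.inv ≫ η, dcf_compl hT, ?_, ?_, ?_⟩
  · intro g' hg'
    rw [dcf_iff_orth]
    apply orth_compl hT
    rw [← dcf_iff_orth]
    exact Groth.Agent.Helper6.DCHom.dcf_of_iso g' e.symm hg'
  · intro Z hZ
    have hb := compl_bijective hT Z hZ
    have he := bijective_precomp_of_isIso e.inv Z
    have := he.comp hb
    convert this using 1
    funext φ
    simp
  · intro X hX
    have hb : Function.Bijective (fun φ : X ⟶ Q.obj L => φ ≫ η) :=
      bijective_postcomp_of_orth X _ hT (hX _ (isLocal_Cp L f))
        (hX _ (isLocal_shift f _ (-1) (isLocal_Cp L f)))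
    have he := bijective_postcomp_of_isIso e.inv X
    have := hb.comp he
    convert this using 1
    funext φ
    simp

/-- the completion with respect to a finite list of elements, with control of maps from objects
orthogonal to local objects -/
theorem exists_completion_list' (fs : List A) (K : Dual.D A) :
    ∃ (K' : Dual.D A) (η : K ⟶ K'), (∀ f ∈ fs, DCf f K') ∧ (∀ g : A, DCf g K → DCf g K') ∧
      (∀ Z : Dual.D A, (∀ f ∈ fs, DCf f Z) → Function.Bijective (fun φ : K' ⟶ Z => η ≫ φ)) ∧
      (∀ X : Dual.D A, (∀ f ∈ fs, ∀ Y : Dual.D A, IsLocal f Y → ∀ φ : X ⟶ Y, φ = 0) →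
        Function.Bijective (fun φ : X ⟶ K => φ ≫ η)) := by
  induction fs with
  | nil =>
    refine ⟨K, 𝟙 K, by simp, fun g hg => hg, fun Z _ => ?_, fun X _ => ?_⟩
    · simp only [Category.id_comp]
      exact Function.bijective_id
    · simp only [Category.comp_id]
      exact Function.bijective_id
  | cons f fs ih =>
    obtain ⟨K₁, η₁, h1, h2, h3, h4⟩ := ih
    obtain ⟨K₂, η₂, k1, k2, k3, k4⟩ := exists_completion_one' f K₁
    refine ⟨K₂, η₁ ≫ η₂, ?_, fun g hg => k2 g (h2 g hg), ?_, ?_⟩
    · intro f' hf'
      rcases List.mem_cons.mp hf' with rfl | hf'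
      · exact k1
      · exact k2 f' (h1 f' hf')
    · intro Z hZ
      have hb1 := h3 Z (fun f' hf' => hZ f' (List.mem_cons_of_mem _ hf'))
      have hb2 := k3 Z (hZ f List.mem_cons_self)
      have := hb1.comp hb2
      convert this using 1
      funext φ
      simp
    · intro X hX
      have hb1 := h4 X (fun f' hf' => hX f' (List.mem_cons_of_mem _ hf'))
      have hb2 := k4 X (hX f List.mem_cons_self)
      have := hb2.comp hb1
      convert this using 1
      funext φ
      simp

end Completion

section Main

variable [IsNoetherianRing A] (I : Ideal A) [DRing.HasRgammaI I] [DRing.HasDerivedCompletion I]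

/-- maps from an object with `I`-power torsion cohomology to `K` and to `K^` agree -/
theorem postcomp_toDerivedCompletion_bijective (T : Dual.D A) (hT : Tors I T) (K : Dual.D A) :
    Function.Bijective (fun φ : T ⟶ K => φ ≫ DRing.toDerivedCompletion I K) := by
  obtain ⟨fs, hfs⟩ := Groth.Agent.Helper6.DerNak.exists_list_of_fg I (IsNoetherian.noetherian I)
  obtain ⟨K', η', h1, -, h3, h4⟩ := exists_completion_list' fs K
  have hK' : DRing.IsDerivedComplete I K' := by
    rw [hfs]
    exact (Groth.Agent.Helper6.DComplAdj.isDerivedComplete_span_iff fs K').mpr h1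
  obtain ⟨e, he⟩ := Groth.Agent.Helper6.DComplAmp.completion_unique I K K' η' hK' (by
    intro Z hZ
    apply h3
    rw [hfs] at hZ
    exact (Groth.Agent.Helper6.DComplAdj.isDerivedComplete_span_iff fs Z).mp hZ)
  have hη : DRing.toDerivedCompletion I K = η' ≫ e.inv := by
    rw [← he, Category.assoc, e.hom_inv_id, Category.comp_id]
  have hb1 := h4 T (fun f hf Y hY φ => hom_eq_zero_of_tors_of_isLocal I T hT f (by
    rw [hfs]
    exact Ideal.subset_span hf) Y hY φ)
  have hb2 := bijective_postcomp_of_isIso e.inv T
  have := hb2.comp hb1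
  convert this using 1
  funext φ
  simp only [Function.comp_apply]
  rw [hη, Category.assoc]

/-- **Greenlees–May (1)**: `RΓ_I(K) ⟶ RΓ_I(K^)` is an isomorphism -/
theorem isIso_RgammaI_map_toDerivedCompletion (K : Dual.D A) :
    IsIso ((DRing.RgammaI I).map (DRing.toDerivedCompletion I K)) := by
  have h : ∀ K : Dual.D A, Tors I ((DRing.RgammaI I).obj K) := fun K i =>
    isPowerTorsion_RgammaI I K i
  let G := (Tors I).lift (DRing.RgammaI I) h
  haveI : IsIso (G.map (DRing.toDerivedCompletion I K)) := by
    apply isIso_of_yoneda_map_bijective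
    intro T
    have hb := postcomp_toDerivedCompletion_bijective I T.obj T.property K
    have e1 := ((adj I h).homEquiv T K).symm.bijective
    have e2 := ((adj I h).homEquiv T ((DRing.derivedCompletion I).obj K).obj).bijective
    have := e2.comp (hb.comp e1)
    convert this using 1
    funext x
    simp only [Function.comp_apply]
    rw [Adjunction.homEquiv_naturality_right, Equiv.apply_symm_apply]
  exact inferInstanceAs (IsIso ((Tors I).ι.map (G.map (DRing.toDerivedCompletion I K))))

/-- **Greenlees–May (2)**: `(RΓ_I K)^ ⟶ K^` is an isomorphism -/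
theorem isIso_derivedCompletion_map_ε (K : Dual.D A) :
    IsIso ((DRing.derivedCompletion I).map ((DRing.RgammaIε I).app K)) := by
  apply isIso_of_coyoneda_map_bijective
  intro Z
  have hb := precomp_ε_bijective I K Z.obj Z.property
  have e1 := ((DRing.derivedCompletionAdj I).homEquiv K Z).bijective
  have e2 := ((DRing.derivedCompletionAdj I).homEquiv ((DRing.RgammaI I).obj K) Z).symm.bijective
  have := e2.comp (hb.comp e1)
  convert this using 1
  funext x
  simp only [Function.comp_apply]
  rw [Equiv.eq_symm_apply]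
  exact Adjunction.homEquiv_naturality_left _ _ _

theorem greenlees_may (K : Dual.D A) :
    Nonempty ((DRing.RgammaI I).obj ((DRing.derivedCompletion I).obj K).obj ≅
      (DRing.RgammaI I).obj K) ∧
    Nonempty ((DRing.derivedCompletion I).obj ((DRing.RgammaI I).obj K) ≅
      (DRing.derivedCompletion I).obj K) := by
  haveI := isIso_RgammaI_map_toDerivedCompletion I K
  haveI := isIso_derivedCompletion_map_ε I K
  exact ⟨⟨(asIso ((DRing.RgammaI I).map (DRing.toDerivedCompletion I K))).symm⟩,
    ⟨asIso ((DRing.derivedCompletion I).map ((DRing.RgammaIε I).app K))⟩⟩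

end Main

end Groth.Agent.Helper9.GM2
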