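import Mathlib
import Groth.Prelude.Def_DualLC

/-!
# Elementwise access to `Dual2.HDT` (local cohomology of complexes with supports in a
specialization-stable set), functoriality and exactness
-/

set_option autoImplicit false
set_option linter.style.haveILetI false
set_option linter.unusedSectionVars false
set_option linter.unusedVariables false

universe u
open CategoryTheory CategoryTheory.Limits Opposite DerivedCategory Pretriangulated
attribute [local instance] HasDerivedCategory.standard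

namespace Groth.Agent.Helper9.LT1

variable {A : Type u} [CommRing A] (T : Set (PrimeSpectrum A))

/-- the index set: ideals with zero locus in `T`, ordered by reverse inclusion -/
structure Idx where
  /-- the ideal -/
  J : Ideal A
  /-- its zero locus lies in `T` -/
  h : PrimeSpectrum.zeroLocus (J : Set A) ⊆ T

instance : Preorder (Idx T) where
  le a b := b.J ≤ a.J
  le_refl a := le_refl a.J
  le_trans a b c h1 h2 := le_trans h2 h1

lemma Idx.le_def (a b : Idx T) : a ≤ b ↔ b.J ≤ a.J := Iff.rfl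

/-- the intersection of two indices -/
def Idx.inf (a b : Idx T) : Idx T :=
  ⟨a.J ⊓ b.J, by
    rw [PrimeSpectrum.zeroLocus_inf]
    exact Set.union_subset a.h b.h⟩

/-- the product of two indices -/
def Idx.mul (a b : Idx T) : Idx T :=
  ⟨a.J * b.J, by
    rw [PrimeSpectrum.zeroLocus_mul]
    exact Set.union_subset a.h b.h⟩

lemma Idx.le_inf_left (a b : Idx T) : a ≤ a.inf T b := inf_le_left (a := a.J) (b := b.J)
lemma Idx.le_inf_right (a b : Idx T) : b ≤ a.inf T b := inf_le_right (a := a.J) (b := b.J)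

instance : IsDirected (Idx T) (· ≤ ·) :=
  ⟨fun a b => ⟨a.inf T b, a.le_inf_left T b, a.le_inf_right T b⟩⟩

/-- the unit ideal -/
def Idx.top : Idx T := ⟨⊤, by simp⟩

instance : Nonempty (Idx T) := ⟨Idx.top T⟩

/-- the surjections `A/J_b → A/J_a` for `a ≤ b` -/
noncomputable def π (a b : Idx T) (h : a ≤ b) : (A ⧸ b.J) →ₗ[A] (A ⧸ a.J) :=
  Submodule.mapQ b.J a.J LinearMap.id h

lemma π_trans (a b c : Idx T) (h : a ≤ b) (h' : b ≤ c) :
    π T a b h ∘ₗ π T b c h' = π T a c (h.trans h') := by
  apply LinearMap.ext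
  intro x
  obtain ⟨y, rfl⟩ := Submodule.Quotient.mk_surjective _ x
  rfl

lemma π_refl (a : Idx T) : π T a a le_rfl = LinearMap.id := by
  apply LinearMap.ext
  intro x
  obtain ⟨y, rfl⟩ := Submodule.Quotient.mk_surjective _ x
  rfl

variable (X : Dual.D A)

/-- local cohomology with supports in `T` of a (shifted) object: the colimit of `Hom(A/J, X)` -/
noncomputable abbrev HX : ModuleCat.{u + 1} A :=
  Limits.colimit ((localCohomology.ringModIdeals (Dual2.idealsInDiagram T) ⋙
      DerivedCategory.singleFunctor (ModuleCat.{u} A) 0).op ⋙ (linearYoneda A (Dual.D A)).obj X)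

lemma hdt_eq (K : Dual.D A) (i : ℤ) : Dual2.HDT A T K i = HX T (K⟦i⟧) := rfl

/-- the diagram -/
noncomputable abbrev hxDiag : (Dual2.IdealsIn T)ᵒᵖ ⥤ ModuleCat.{u + 1} A :=
  (localCohomology.ringModIdeals (Dual2.idealsInDiagram T) ⋙
      DerivedCategory.singleFunctor (ModuleCat.{u} A) 0).op ⋙ (linearYoneda A (Dual.D A)).obj X

/-- indices as objects of the diagram category -/
def toObj (a : Idx T) : (Dual2.IdealsIn T)ᵒᵖ := op ⟨a.J, a.h⟩

/-- objects of the diagram category as indices -/
def ofObj (j : (Dual2.IdealsIn T)ᵒᵖ) : Idx T := ⟨j.unop.obj, j.unop.property⟩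

/-- the modules of the system -/
abbrev GH (a : Idx T) : Type (u + 1) := Dual.inD A (A ⧸ a.J) ⟶ X

/-- the transition maps -/
noncomputable def gmap (a b : Idx T) (h : a ≤ b) : GH T X a →ₗ[A] GH T X b :=
  Linear.leftComp A X ((singleFunctor (ModuleCat.{u} A) 0).map (ModuleCat.ofHom (π T a b h)))

lemma gmap_apply (a b : Idx T) (h : a ≤ b) (y : GH T X a) :
    gmap T X a b h y =
      (singleFunctor (ModuleCat.{u} A) 0).map (ModuleCat.ofHom (π T a b h)) ≫ y := rfl

lemma gmap_trans (a b c : Idx T) (h : a ≤ b) (h' : b ≤ c) (y : GH T X a) :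
    gmap T X b c h' (gmap T X a b h y) = gmap T X a c (h.trans h') y := by
  rw [gmap_apply, gmap_apply, gmap_apply, ← Category.assoc, ← Functor.map_comp,
    ← ModuleCat.ofHom_comp, π_trans]

lemma gmap_refl (a : Idx T) (y : GH T X a) : gmap T X a a le_rfl y = y := by
  rw [gmap_apply, π_refl, ModuleCat.ofHom_id, CategoryTheory.Functor.map_id, Category.id_comp]

instance : DirectedSystem (GH T X) (fun a b h => gmap T X a b h) where
  map_self a y := gmap_refl T X a y
  map_map k j l hij hjk y := gmap_trans T X l j k hij hjk y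

/-- the morphism of the diagram category attached to `a ≤ b` -/
def homOf (a b : Idx T) (h : a ≤ b) : toObj T a ⟶ toObj T b :=
  (ObjectProperty.homMk (homOfLE h) : (⟨b.J, b.h⟩ : Dual2.IdealsIn T) ⟶ ⟨a.J, a.h⟩).op

lemma hxDiag_map (a b : Idx T) (h : a ≤ b) :
    (hxDiag T X).map (homOf T a b h) = ModuleCat.ofHom (gmap T X a b h) := rfl

lemma hom_eq (j j' : (Dual2.IdealsIn T)ᵒᵖ) (f : j ⟶ j') :
    ∃ h : ofObj T j ≤ ofObj T j', f = homOf T (ofObj T j) (ofObj T j') h := by
  refine ⟨leOfHom f.unop.hom, ?_⟩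
  apply Quiver.Hom.unop_inj
  apply ObjectProperty.hom_ext
  exact Subsingleton.elim _ _

/-- the legs of the colimit -/
noncomputable def hxι (a : Idx T) : GH T X a →ₗ[A] HX T X :=
  (colimit.ι (hxDiag T X) (toObj T a)).hom

lemma hxι_compat (a b : Idx T) (h : a ≤ b) (y : GH T X a) :
    hxι T X b (gmap T X a b h y) = hxι T X a y := by
  have h1 := colimit.w (hxDiag T X) (homOf T a b h)
  rw [hxDiag_map] at h1
  exact LinearMap.congr_fun (congrArg ModuleCat.Hom.hom h1) y

/-- the induced map out of `HX` -/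
noncomputable def hxDesc {M : Type (u + 1)} [AddCommGroup M] [Module A M]
    (ψ : ∀ a : Idx T, GH T X a →ₗ[A] M)
    (hψ : ∀ (a b : Idx T) (h : a ≤ b) (y : GH T X a), ψ b (gmap T X a b h y) = ψ a y) :
    HX T X →ₗ[A] M :=
  (colimit.desc (hxDiag T X)
    { pt := ModuleCat.of A M
      ι :=
        { app := fun j => ModuleCat.ofHom (ψ (ofObj T j))
          naturality := fun j j' f => by
            obtain ⟨hle, rfl⟩ := hom_eq T j j' f
            ext y
            exact hψ _ _ hle y } }).hom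

lemma hxDesc_ι {M : Type (u + 1)} [AddCommGroup M] [Module A M]
    (ψ : ∀ a : Idx T, GH T X a →ₗ[A] M)
    (hψ : ∀ (a b : Idx T) (h : a ≤ b) (y : GH T X a), ψ b (gmap T X a b h y) = ψ a y)
    (a : Idx T) (y : GH T X a) :
    hxDesc T X ψ hψ (hxι T X a y) = ψ a y := by
  have h1 := colimit.ι_desc (F := hxDiag T X)
    { pt := ModuleCat.of A M
      ι :=
        { app := fun j => ModuleCat.ofHom (ψ (ofObj T j))
          naturality := fun j j' f => by
            obtain ⟨hle, rfl⟩ := hom_eq T j j' f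
            ext y
            exact hψ _ _ hle y } } (toObj T a)
  exact LinearMap.congr_fun (congrArg ModuleCat.Hom.hom h1) y

theorem hx_eq_zero (a : Idx T) (y : GH T X a) (hy : hxι T X a y = 0) :
    ∃ (b : Idx T) (h : a ≤ b), gmap T X a b h y = 0 := by
  classical
  have h1 := hxDesc_ι T X
    (fun a => Module.DirectLimit.of A (Idx T) (GH T X) (gmap T X) a)
    (fun a b h y => Module.DirectLimit.of_f) a y
  rw [hy, map_zero] at h1
  exact Module.DirectLimit.of.zero_exact h1.symm

/-- the elements represented at a finite stage -/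
noncomputable def repSub : Submodule A (HX T X) where
  carrier := {x | ∃ (a : Idx T) (y : GH T X a), hxι T X a y = x}
  add_mem' := by
    rintro _ _ ⟨a, y, rfl⟩ ⟨b, y', rfl⟩
    refine ⟨a.inf T b, gmap T X a _ (a.le_inf_left T b) y + gmap T X b _ (a.le_inf_right T b) y',
      ?_⟩
    rw [map_add, hxι_compat, hxι_compat]
  zero_mem' := ⟨Idx.top T, 0, map_zero _⟩
  smul_mem' := by
    rintro c _ ⟨a, y, rfl⟩
    exact ⟨a, c • y, map_smul _ _ _⟩

theorem hx_exists_rep (x : HX T X) : ∃ (a : Idx T) (y : GH T X a), hxι T X a y = x := by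
  have h1 : ModuleCat.ofHom (repSub T X).mkQ = (0 : HX T X ⟶
      ModuleCat.of A (HX T X ⧸ repSub T X)) := by
    apply colimit.hom_ext
    intro j
    ext y
    show (repSub T X).mkQ ((colimit.ι (hxDiag T X) j).hom y) = 0
    rw [Submodule.mkQ_apply, Submodule.Quotient.mk_eq_zero]
    exact ⟨ofObj T j, y, rfl⟩
  have h2 : (repSub T X).mkQ x = 0 := LinearMap.congr_fun (congrArg ModuleCat.Hom.hom h1) x
  rw [Submodule.mkQ_apply, Submodule.Quotient.mk_eq_zero] at h2
  exact h2

/-- two representatives at the same stage with the same class agree at a later stage -/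
theorem hx_eq_iff (a : Idx T) (y y' : GH T X a) (h : hxι T X a y = hxι T X a y') :
    ∃ (b : Idx T) (hab : a ≤ b), gmap T X a b hab y = gmap T X a b hab y' := by
  have h0 : hxι T X a (y - y') = 0 := by rw [map_sub, h, sub_self]
  obtain ⟨b, hab, hb⟩ := hx_eq_zero T X a (y - y') h0
  exact ⟨b, hab, by rwa [map_sub, sub_eq_zero] at hb⟩

section functoriality

variable {X} {Y Z : Dual.D A}

/-- functoriality in the object -/
noncomputable def hxMap (f : X ⟶ Y) : HX T X →ₗ[A] HX T Y :=
  hxDesc T X (fun a => (hxι T Y a).comp (Linear.rightComp A _ f))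
    (fun a b h y => by
      show hxι T Y b (gmap T X a b h y ≫ f) = hxι T Y a (y ≫ f)
      rw [gmap_apply, Category.assoc, ← gmap_apply, hxι_compat])

lemma hxMap_ι (f : X ⟶ Y) (a : Idx T) (y : GH T X a) :
    hxMap T f (hxι T X a y) = hxι T Y a (y ≫ f) :=
  hxDesc_ι T X _ _ a y

lemma hxMap_id (x : HX T X) : hxMap T (𝟙 X) x = x := by
  obtain ⟨a, y, rfl⟩ := hx_exists_rep T X x
  rw [hxMap_ι, Category.comp_id]

lemma hxMap_comp (f : X ⟶ Y) (g : Y ⟶ Z) (x : HX T X) :
    hxMap T (f ≫ g) x = hxMap T g (hxMap T f x) := by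
  obtain ⟨a, y, rfl⟩ := hx_exists_rep T X x
  rw [hxMap_ι, hxMap_ι, hxMap_ι, Category.assoc]

lemma hxMap_smul (c : A) (f : X ⟶ Y) (x : HX T X) : hxMap T (c • f) x = c • hxMap T f x := by
  obtain ⟨a, y, rfl⟩ := hx_exists_rep T X x
  rw [hxMap_ι, hxMap_ι, Linear.comp_smul, map_smul]

lemma hxMap_zero (x : HX T X) : hxMap T (0 : X ⟶ Y) x = 0 := by
  obtain ⟨a, y, rfl⟩ := hx_exists_rep T X x
  rw [hxMap_ι, comp_zero, map_zero]

/-- isomorphic objects have isomorphic local cohomology -/
noncomputable def hxCongr (e : X ≅ Y) : HX T X ≃ₗ[A] HX T Y :=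
  LinearEquiv.ofLinearMap (hxMap T e.hom) (hxMap T e.inv)
    (by
      apply LinearMap.ext
      intro x
      show hxMap T e.hom (hxMap T e.inv x) = x
      rw [← hxMap_comp, e.inv_hom_id, hxMap_id])
    (by
      apply LinearMap.ext
      intro x
      show hxMap T e.inv (hxMap T e.hom x) = x
      rw [← hxMap_comp, e.hom_inv_id, hxMap_id])

/-- exactness in the middle -/
theorem hx_exact (f : X ⟶ Y) (g : Y ⟶ Z)
    (hfg : ∀ (W : Dual.D A) (k : W ⟶ Y), k ≫ g = 0 → ∃ k' : W ⟶ X, k' ≫ f = k)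
    (y : HX T Y) (hy : hxMap T g y = 0) : ∃ x : HX T X, hxMap T f x = y := by
  obtain ⟨a, k, rfl⟩ := hx_exists_rep T Y y
  rw [hxMap_ι] at hy
  obtain ⟨b, hab, hb⟩ := hx_eq_zero T Z a _ hy
  rw [gmap_apply, ← Category.assoc, ← gmap_apply] at hb
  obtain ⟨k', hk'⟩ := hfg _ _ hb
  refine ⟨hxι T X b k', ?_⟩
  rw [hxMap_ι, hk', hxι_compat]

end functoriality

end Groth.Agent.Helper9.LT1
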