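import Mathlib

/-!
# The homology functors of the derived category of modules are linear
-/

set_option autoImplicit false
set_option linter.unusedSectionVars false
set_option linter.unusedVariables false
set_option linter.style.haveILetI false
set_option warn.classDefReducibility false

universe u
open CategoryTheory CategoryTheory.Limits DerivedCategory
attribute [local instance] HasDerivedCategory.standard

namespace Groth.Agent.Helper9.LT0

variable {A : Type u} [CommRing A]

lemma scMap_smul (n : ℤ) {X Y : HomologicalComplex (ModuleCat.{u} A) (ComplexShape.up ℤ)}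
    (f : X ⟶ Y) (r : A) :
    (HomologicalComplex.shortComplexFunctor (ModuleCat.{u} A) (ComplexShape.up ℤ) n).map (r • f) =
      r • (HomologicalComplex.shortComplexFunctor (ModuleCat.{u} A) (ComplexShape.up ℤ) n).map f :=
  rfl

instance hcHomologyFunctor_linear (n : ℤ) :
    (HomologicalComplex.homologyFunctor (ModuleCat.{u} A) (ComplexShape.up ℤ) n).Linear A where
  map_smul {X Y} f r := by
    have h1 : HomologicalComplex.homologyMap (r • f) n =
        ShortComplex.homologyMap ((HomologicalComplex.shortComplexFunctor (ModuleCat.{u} A)
          (ComplexShape.up ℤ) n).map (r • f)) := rfl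
    have h2 : HomologicalComplex.homologyMap f n =
        ShortComplex.homologyMap ((HomologicalComplex.shortComplexFunctor (ModuleCat.{u} A)
          (ComplexShape.up ℤ) n).map f) := rfl
    show HomologicalComplex.homologyMap (r • f) n = r • HomologicalComplex.homologyMap f n
    rw [h1, h2, scMap_smul, ShortComplex.homologyMap_smul]
    rfl

/-- the lifting structure -/
noncomputable def liftInst (n : ℤ) :
    Localization.Lifting (Q (C := ModuleCat.{u} A))
      (HomologicalComplex.quasiIso (ModuleCat.{u} A) (ComplexShape.up ℤ))
      (HomologicalComplex.homologyFunctor (ModuleCat.{u} A) (ComplexShape.up ℤ) n)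
      (homologyFunctor (ModuleCat.{u} A) n) :=
  ⟨homologyFunctorFactors (ModuleCat.{u} A) n⟩

instance homologyFunctor_linear (n : ℤ) : (homologyFunctor (ModuleCat.{u} A) n).Linear A := by
  letI := liftInst (A := A) n
  exact (Localization.functor_linear_iff (Q (C := ModuleCat.{u} A))
    (HomologicalComplex.quasiIso (ModuleCat.{u} A) (ComplexShape.up ℤ)) A
    (HomologicalComplex.homologyFunctor (ModuleCat.{u} A) (ComplexShape.up ℤ) n)
    (homologyFunctor (ModuleCat.{u} A) n)).1 inferInstance

end Groth.Agent.Helper9.LT0
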