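import Mathlib
import Groth.Prelude.Def_DualLC
import Groth.Agent.Helper9.LT0
import Groth.Agent.Helper9.LT1
import Groth.Agent.Helper1.DerTrunc

/-!
# Annihilation and finiteness predicates for `HX`, behaviour in distinguished triangles,
vanishing and finiteness in the bottom degree
-/

set_option autoImplicit false
set_option linter.style.haveILetI false
set_option linter.unusedSectionVars false
set_option linter.unusedVariables false

universe u
open CategoryTheory CategoryTheory.Limits Opposite DerivedCategory Pretriangulated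
attribute [local instance] HasDerivedCategory.standard

namespace Groth.Agent.Helper9.LT2
open Groth.Agent.Helper9.LT1 Groth.Agent.Helper9.LT0

variable {A : Type u} [CommRing A] (T : Set (PrimeSpectrum A))

/-- the ideal `J` annihilates `HX T X` -/
def Ann (J : Ideal A) (X : Dual.D A) : Prop := ∀ x ∈ J, ∀ y : HX T X, x • y = 0

/-- `HX T X` is a finite module -/
def Fin (X : Dual.D A) : Prop := Module.Finite A (HX T X)

variable {T}
variable {X Y Z : Dual.D A}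

lemma Ann.mono {J J' : Ideal A} (h : J' ≤ J) (hJ : Ann T J X) : Ann T J' X :=
  fun x hx y => hJ x (h hx) y

lemma Ann.of_surj {J : Ideal A} (f : X ⟶ Y) (hf : Function.Surjective (hxMap T f))
    (hJ : Ann T J X) : Ann T J Y := by
  intro x hx y
  obtain ⟨z, rfl⟩ := hf y
  rw [← map_smul, hJ x hx z, map_zero]

lemma Ann.of_iso {J : Ideal A} (e : X ≅ Y) (hJ : Ann T J X) : Ann T J Y :=
  Ann.of_surj e.hom (hxCongr T e).surjective hJ

lemma Fin.of_surj (f : X ⟶ Y) (hf : Function.Surjective (hxMap T f)) (h : Fin T X) : Fin T Y := by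
  haveI : Module.Finite A (HX T X) := h
  exact Module.Finite.of_surjective (hxMap T f) hf

lemma Fin.of_iso (e : X ≅ Y) (h : Fin T X) : Fin T Y :=
  Fin.of_surj e.hom (hxCongr T e).surjective h

lemma Ann.of_subsingleton {J : Ideal A} (h : Subsingleton (HX T X)) : Ann T J X :=
  fun x hx y => Subsingleton.elim _ _

lemma Fin.of_subsingleton (h : Subsingleton (HX T X)) : Fin T X :=
  Module.Finite.of_surjective (0 : A →ₗ[A] HX T X) (fun y => ⟨0, Subsingleton.elim _ _⟩)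

lemma subsingleton_of_iso (e : X ≅ Y) (h : Subsingleton (HX T X)) : Subsingleton (HX T Y) :=
  (hxCongr T e).symm.toEquiv.subsingleton

/-- exactness in the middle for a distinguished triangle -/
theorem hx_exact_tri (Tr : Triangle (Dual.D A)) (hTr : Tr ∈ distTriang _)
    (y : HX T Tr.obj₂) (hy : hxMap T Tr.mor₂ y = 0) : ∃ x : HX T Tr.obj₁, hxMap T Tr.mor₁ x = y :=
  hx_exact T Tr.mor₁ Tr.mor₂
    (fun W k hk => by
      obtain ⟨k', hk'⟩ := Triangle.coyoneda_exact₂ _ hTr k hk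
      exact ⟨k', hk'.symm⟩) y hy

lemma hx_comp_tri (Tr : Triangle (Dual.D A)) (hTr : Tr ∈ distTriang _) (x : HX T Tr.obj₁) :
    hxMap T Tr.mor₂ (hxMap T Tr.mor₁ x) = 0 := by
  rw [← hxMap_comp, comp_distTriang_mor_zero₁₂ _ hTr, hxMap_zero]

/-- annihilators in a triangle -/
theorem Ann.mid {J₁ J₃ : Ideal A} (Tr : Triangle (Dual.D A)) (hTr : Tr ∈ distTriang _)
    (h1 : Ann T J₁ Tr.obj₁) (h3 : Ann T J₃ Tr.obj₃) : Ann T (J₁ * J₃) Tr.obj₂ := by
  intro x hx y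
  refine Submodule.mul_induction_on hx ?_ ?_
  · intro a ha b hb
    have h : hxMap T Tr.mor₂ (b • y) = 0 := by rw [map_smul, h3 b hb]
    obtain ⟨z, hz⟩ := hx_exact_tri Tr hTr (b • y) h
    rw [mul_smul, ← hz, ← map_smul, h1 a ha, map_zero]
  · intro a b ha hb
    rw [add_smul, ha, hb, add_zero]

/-- surjectivity onto the middle term when the third term vanishes -/
lemma surj_of_subsingleton₃ (Tr : Triangle (Dual.D A)) (hTr : Tr ∈ distTriang _)
    (h3 : Subsingleton (HX T Tr.obj₃)) : Function.Surjective (hxMap T Tr.mor₁) :=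
  fun y => hx_exact_tri Tr hTr y (Subsingleton.elim _ _)

section Noeth

variable [IsNoetherianRing A]

lemma finite_mid {M₁ M₂ M₃ : Type (u + 1)} [AddCommGroup M₁] [AddCommGroup M₂] [AddCommGroup M₃]
    [Module A M₁] [Module A M₂] [Module A M₃] (f : M₁ →ₗ[A] M₂) (g : M₂ →ₗ[A] M₃)
    (hfg : ∀ y, g (f y) = 0) (hex : ∀ x, g x = 0 → ∃ y, f y = x)
    (h1 : Module.Finite A M₁) (h3 : Module.Finite A M₃) : Module.Finite A M₂ := by
  haveI : IsNoetherian A M₁ := isNoetherian_of_isNoetherianRing_of_finite A M₁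
  haveI : IsNoetherian A M₃ := isNoetherian_of_isNoetherianRing_of_finite A M₃
  have : IsNoetherian A M₂ := by
    apply isNoetherian_of_range_eq_ker f g
    ext x
    constructor
    · rintro ⟨y, rfl⟩
      exact hfg y
    · intro hx
      exact hex x hx
  exact Module.IsNoetherian.finite A M₂

/-- finiteness in a triangle -/
theorem Fin.mid (Tr : Triangle (Dual.D A)) (hTr : Tr ∈ distTriang _)
    (h1 : Fin T Tr.obj₁) (h3 : Fin T Tr.obj₃) : Fin T Tr.obj₂ :=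
  finite_mid (hxMap T Tr.mor₁) (hxMap T Tr.mor₂) (hx_comp_tri Tr hTr) (hx_exact_tri Tr hTr) h1 h3

end Noeth

/-! ### shifted and rotated triangles -/

/-- the shifted triangle -/
lemma shift_dist (Tr : Triangle (Dual.D A)) (hTr : Tr ∈ distTriang _) (n : ℤ) :
    (Triangle.shiftFunctor (Dual.D A) n).obj Tr ∈ distTriang _ :=
  Triangle.shift_distinguished Tr hTr n

theorem Ann.mid₂ {J₁ J₃ : Ideal A} (Tr : Triangle (Dual.D A)) (hTr : Tr ∈ distTriang _) (n : ℤ)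
    (h1 : Ann T J₁ (Tr.obj₁⟦n⟧)) (h3 : Ann T J₃ (Tr.obj₃⟦n⟧)) : Ann T (J₁ * J₃) (Tr.obj₂⟦n⟧) :=
  Ann.mid _ (shift_dist Tr hTr n) h1 h3

theorem Ann.mid₃ {J₁ J₃ : Ideal A} (Tr : Triangle (Dual.D A)) (hTr : Tr ∈ distTriang _) (n : ℤ)
    (h1 : Ann T J₁ (Tr.obj₂⟦n⟧)) (h3 : Ann T J₃ ((Tr.obj₁⟦(1 : ℤ)⟧)⟦n⟧)) :
    Ann T (J₁ * J₃) (Tr.obj₃⟦n⟧) :=
  Ann.mid _ (shift_dist _ (rot_of_distTriang _ hTr) n) h1 h3

theorem Ann.mid₁ {J₁ J₃ : Ideal A} (Tr : Triangle (Dual.D A)) (hTr : Tr ∈ distTriang _) (n : ℤ)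
    (h1 : Ann T J₁ (Tr.obj₃⟦n⟧)) (h3 : Ann T J₃ ((Tr.obj₂⟦(1 : ℤ)⟧)⟦n⟧)) :
    Ann T (J₁ * J₃) ((Tr.obj₁⟦(1 : ℤ)⟧)⟦n⟧) :=
  Ann.mid _ (shift_dist _ (rot_of_distTriang _ (rot_of_distTriang _ hTr)) n) h1 h3

section Noeth

variable [IsNoetherianRing A]

theorem Fin.mid₂ (Tr : Triangle (Dual.D A)) (hTr : Tr ∈ distTriang _) (n : ℤ)
    (h1 : Fin T (Tr.obj₁⟦n⟧)) (h3 : Fin T (Tr.obj₃⟦n⟧)) : Fin T (Tr.obj₂⟦n⟧) :=
  Fin.mid _ (shift_dist Tr hTr n) h1 h3

theorem Fin.mid₃ (Tr : Triangle (Dual.D A)) (hTr : Tr ∈ distTriang _) (n : ℤ)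
    (h1 : Fin T (Tr.obj₂⟦n⟧)) (h3 : Fin T ((Tr.obj₁⟦(1 : ℤ)⟧)⟦n⟧)) : Fin T (Tr.obj₃⟦n⟧) :=
  Fin.mid _ (shift_dist _ (rot_of_distTriang _ hTr) n) h1 h3

theorem Fin.mid₁ (Tr : Triangle (Dual.D A)) (hTr : Tr ∈ distTriang _) (n : ℤ)
    (h1 : Fin T (Tr.obj₃⟦n⟧)) (h3 : Fin T ((Tr.obj₂⟦(1 : ℤ)⟧)⟦n⟧)) :
    Fin T ((Tr.obj₁⟦(1 : ℤ)⟧)⟦n⟧) :=
  Fin.mid _ (shift_dist _ (rot_of_distTriang _ (rot_of_distTriang _ hTr)) n) h1 h3

end Noeth

lemma hxMap_neg (f : X ⟶ Y) (x : HX T X) : hxMap T (-f) x = -hxMap T f x := by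
  rw [← neg_one_smul A f, hxMap_smul, neg_one_smul]

/-- exactness in the middle for the shift of a distinguished triangle -/
theorem hx_exact_shift (Tr : Triangle (Dual.D A)) (hTr : Tr ∈ distTriang _) (n : ℤ)
    (y : HX T (Tr.obj₂⟦n⟧)) (hy : hxMap T (Tr.mor₂⟦n⟧') y = 0) :
    ∃ x : HX T (Tr.obj₁⟦n⟧), hxMap T (Tr.mor₁⟦n⟧') x = y := by
  have hd := shift_dist Tr hTr n
  rcases Int.units_eq_one_or n.negOnePow with h | h
  · have hy' : hxMap T ((Triangle.shiftFunctor (Dual.D A) n).obj Tr).mor₂ y = 0 := by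
      show hxMap T (n.negOnePow • Tr.mor₂⟦n⟧') y = 0
      rw [h, one_smul]
      exact hy
    obtain ⟨x, hx'⟩ : ∃ x : HX T (Tr.obj₁⟦n⟧), hxMap T (n.negOnePow • Tr.mor₁⟦n⟧') x = y :=
      hx_exact_tri _ hd y hy'
    refine ⟨x, ?_⟩
    rw [h, one_smul] at hx'
    exact hx'
  · have hy' : hxMap T ((Triangle.shiftFunctor (Dual.D A) n).obj Tr).mor₂ y = 0 := by
      show hxMap T (n.negOnePow • Tr.mor₂⟦n⟧') y = 0
      rw [h, Units.neg_smul, one_smul, hxMap_neg, hy, neg_zero]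
    obtain ⟨x, hx'⟩ : ∃ x : HX T (Tr.obj₁⟦n⟧), hxMap T (n.negOnePow • Tr.mor₁⟦n⟧') x = y :=
      hx_exact_tri _ hd y hy'
    refine ⟨-x, ?_⟩
    rw [h, Units.neg_smul, one_smul, hxMap_neg] at hx'
    rw [map_neg]
    exact hx'

/-- surjectivity `HX(Y⟦n⟧) → HX(Z⟦n⟧)` when `HX(X⟦1⟧⟦n⟧)` vanishes -/
lemma surj_mor₂ (Tr : Triangle (Dual.D A)) (hTr : Tr ∈ distTriang _) (n : ℤ)
    (h : Subsingleton (HX T ((Tr.obj₁⟦(1 : ℤ)⟧)⟦n⟧))) :
    Function.Surjective (hxMap T (Tr.mor₂⟦n⟧')) :=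
  fun y => hx_exact_shift _ (rot_of_distTriang _ hTr) n y (@Subsingleton.elim _ h _ _)

/-- surjectivity `HX(X⟦n⟧) → HX(Y⟦n⟧)` when `HX(Z⟦n⟧)` vanishes -/
lemma surj_mor₁ (Tr : Triangle (Dual.D A)) (hTr : Tr ∈ distTriang _) (n : ℤ)
    (h : Subsingleton (HX T (Tr.obj₃⟦n⟧))) :
    Function.Surjective (hxMap T (Tr.mor₁⟦n⟧')) :=
  fun y => hx_exact_shift _ hTr n y (@Subsingleton.elim _ h _ _)

/-- surjectivity `HX(Z⟦n⟧) → HX(X⟦1⟧⟦n⟧)` when the scalar `x` kills `HX(X⟦1⟧⟦n⟧)` and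
`Tr.mor₁ = x • 𝟙` -/
lemma surj_mor₃ (K C : Dual.D A) (x : A) (g : K ⟶ C) (h : C ⟶ K⟦(1 : ℤ)⟧)
    (hTr : Triangle.mk (x • 𝟙 K) g h ∈ distTriang _) (n : ℤ)
    (hx : ∀ y : HX T ((K⟦(1 : ℤ)⟧)⟦n⟧), x • y = 0) :
    Function.Surjective (hxMap T (h⟦n⟧')) := by
  intro y
  refine hx_exact_shift _ (rot_of_distTriang _ (rot_of_distTriang _ hTr)) n y ?_
  show hxMap T ((-(x • 𝟙 K)⟦(1 : ℤ)⟧')⟦n⟧') y = 0
  have h1 : (-(x • 𝟙 K)⟦(1 : ℤ)⟧')⟦n⟧' = (-x) • 𝟙 ((K⟦(1 : ℤ)⟧)⟦n⟧) := by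
    rw [Functor.map_smul, CategoryTheory.Functor.map_id, Functor.map_neg, Functor.map_smul,
      CategoryTheory.Functor.map_id, neg_smul]
  rw [h1, hxMap_smul, hxMap_id, neg_smul, hx y, neg_zero]

/-! ### vanishing -/

/-- `HX T X = 0` for `X ∈ D^{≥1}` -/
theorem subsingleton_of_isGE (X : Dual.D A) [X.IsGE 1] : Subsingleton (HX T X) := by
  refine ⟨fun x y => ?_⟩
  obtain ⟨a, g, rfl⟩ := hx_exists_rep T X x
  obtain ⟨b, g', rfl⟩ := hx_exists_rep T X y
  have h1 : g = 0 := DerivedCategory.TStructure.t.zero g 0 1 (by omega)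
  have h2 : g' = 0 := DerivedCategory.TStructure.t.zero g' 0 1 (by omega)
  rw [h1, h2, map_zero, map_zero]

/-! ### the bottom degree -/

/-- the generator of `H^0(A/J[0])` -/
noncomputable def gen (J : Ideal A) :
    (homologyFunctor (ModuleCat.{u} A) 0).obj (Dual.inD A (A ⧸ J)) :=
  ((singleFunctorCompHomologyFunctorIso (ModuleCat.{u} A) 0).app
    (ModuleCat.of A (A ⧸ J))).inv.hom (Submodule.Quotient.mk (1 : A))

lemma gen_map {J J' : Ideal A} (f : (A ⧸ J) →ₗ[A] (A ⧸ J'))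
    (hf : f (Submodule.Quotient.mk (1 : A)) = Submodule.Quotient.mk (1 : A)) :
    ((homologyFunctor (ModuleCat.{u} A) 0).map
      ((singleFunctor (ModuleCat.{u} A) 0).map (ModuleCat.ofHom f))).hom (gen J) = gen J' := by
  have h := (singleFunctorCompHomologyFunctorIso (ModuleCat.{u} A) 0).inv.naturality
    (ModuleCat.ofHom f)
  have h2 := congrArg (fun φ => φ.hom (Submodule.Quotient.mk (1 : A))) h
  simp only [Functor.id_map, Functor.comp_map, ModuleCat.hom_comp, LinearMap.comp_apply,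
    ModuleCat.hom_ofHom] at h2
  rw [hf] at h2
  exact h2.symm

lemma gen_spans (J : Ideal A)
    (v : (homologyFunctor (ModuleCat.{u} A) 0).obj (Dual.inD A (A ⧸ J))) :
    ∃ r : A, v = r • gen J := by
  let θ := (singleFunctorCompHomologyFunctorIso (ModuleCat.{u} A) 0).app (ModuleCat.of A (A ⧸ J))
  obtain ⟨r, hr⟩ := Submodule.Quotient.mk_surjective J (θ.hom.hom v)
  refine ⟨r, ?_⟩
  have h1 : v = θ.inv.hom (θ.hom.hom v) := by
    show v = (θ.hom ≫ θ.inv).hom v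
    rw [Iso.hom_inv_id]
    rfl
  rw [h1, ← hr]
  show θ.inv.hom (Submodule.Quotient.mk r) = r • θ.inv.hom (Submodule.Quotient.mk (1 : A))
  rw [← map_smul, ← Submodule.Quotient.mk_smul, smul_eq_mul, mul_one]

variable (T)

/-- evaluation of `H^0` at the generator -/
noncomputable def evGen (X : Dual.D A) (a : Idx T) : GH T X a →ₗ[A] ULift.{u + 1} (Dual.HD A X 0) where
  toFun g := ULift.up (((homologyFunctor (ModuleCat.{u} A) 0).map g).hom (gen a.J))
  map_add' g g' := by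
    rw [Functor.map_add, ModuleCat.hom_add, LinearMap.add_apply]
    rfl
  map_smul' c g := by
    rw [Functor.map_smul, ModuleCat.hom_smul, LinearMap.smul_apply]
    rfl

lemma evGen_compat (X : Dual.D A) (a b : Idx T) (h : a ≤ b) (g : GH T X a) :
    evGen T X b (gmap T X a b h g) = evGen T X a g := by
  show ULift.up _ = ULift.up _
  congr 1
  rw [gmap_apply, Functor.map_comp, ModuleCat.hom_comp, LinearMap.comp_apply, gen_map]
  rfl

/-- the comparison map `HX T X → H^0(X)` -/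
noncomputable def toH0 (X : Dual.D A) : HX T X →ₗ[A] ULift.{u + 1} (Dual.HD A X 0) :=
  hxDesc T X (evGen T X) (evGen_compat T X)

lemma toH0_ι (X : Dual.D A) (a : Idx T) (g : GH T X a) :
    toH0 T X (hxι T X a g) = ULift.up (((homologyFunctor (ModuleCat.{u} A) 0).map g).hom (gen a.J)) :=
  hxDesc_ι T X _ _ a g

theorem toH0_injective (X : Dual.D A) [X.IsGE 0] : Function.Injective (toH0 T X) := by
  rw [← LinearMap.ker_eq_bot, Submodule.eq_bot_iff]
  intro x hx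
  rw [LinearMap.mem_ker] at hx
  obtain ⟨a, g, rfl⟩ := hx_exists_rep T X x
  rw [toH0_ι] at hx
  have h0 : ((homologyFunctor (ModuleCat.{u} A) 0).map g).hom (gen a.J) = 0 :=
    congrArg ULift.down hx
  have h1 : (homologyFunctor (ModuleCat.{u} A) 0).map g = 0 := by
    ext v
    obtain ⟨r, rfl⟩ := gen_spans a.J v
    rw [map_smul, h0, smul_zero]
    rfl
  have h2 : g = 0 := Groth.Agent.Helper1.DerTrunc.eq_zero_of_single_of_isGE 0 g h1
  rw [h2, map_zero]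

/-- **bottom finiteness** -/
theorem fin_of_isGE [IsNoetherianRing A] (X : Dual.D A) [X.IsGE 0]
    (h : Module.Finite A (Dual.HD A X 0)) : Fin T X := by
  haveI : Module.Finite A (ULift.{u + 1} (Dual.HD A X 0)) :=
    Module.Finite.equiv ULift.moduleEquiv.symm
  haveI : IsNoetherian A (ULift.{u + 1} (Dual.HD A X 0)) :=
    isNoetherian_of_isNoetherianRing_of_finite A _
  exact Module.Finite.of_injective (toH0 T X) (toH0_injective T X)

end Groth.Agent.Helper9.LT2
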