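import Mathlib
import Groth.Prelude.Def_DualLC
import Groth.Agent.Helper9.LT1
import Groth.Agent.Helper9.LT2
import Groth.Agent.Helper9.LCT2
import Groth.Agent.Helper6.LcD13

/-!
# Vanishing of the higher local cohomology (supports in `T`) of a module killed by an ideal
with zero locus in `T`
-/

set_option autoImplicit false
set_option linter.style.haveILetI false
set_option linter.unusedSectionVars false
set_option linter.unusedVariables false

universe u
open CategoryTheory CategoryTheory.Limits Opposite DerivedCategory Pretriangulated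
attribute [local instance] HasDerivedCategory.standard

namespace Groth.Agent.Helper9.LT3
open Groth.Agent.Helper9.LT1 Groth.Agent.Helper9.LT2

variable {A : Type u} [CommRing A] (T : Set (PrimeSpectrum A))

/-- powers of an index -/
abbrev Idx.pow (a : Idx T) (n : ℕ) : Idx T :=
  ⟨a.J ^ n, by
    rcases Nat.eq_zero_or_pos n with h | h
    · subst h
      simp
    · rw [PrimeSpectrum.zeroLocus_pow _ (by omega)]
      exact a.h⟩

/-- the cohomology of a module in degree zero -/
lemma isPowerTorsion_HD_inD (I : Ideal A) (N : Type u) [AddCommGroup N] [Module A N]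
    (hN : ∀ x ∈ I, ∀ m : N, x • m = 0) (i : ℤ) :
    LocCoh.IsPowerTorsion I (Dual.HD A (Dual.inD A N) i) := by
  by_cases hi : i = 0
  · subst hi
    have h0 : LocCoh.IsPowerTorsion I (ModuleCat.of A N) := fun m =>
      ⟨1, fun a ha => hN a (by simpa using ha) m⟩
    exact Groth.Agent.Helper9.LCT1.isPowerTorsion_of_iso
      ((singleFunctorCompHomologyFunctorIso (ModuleCat.{u} A) 0).app (ModuleCat.of A N)).symm h0
  · have hz : IsZero ((homologyFunctor (ModuleCat.{u} A) i).obj (Dual.inD A N)) := by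
      rcases lt_or_gt_of_ne hi with h | h
      · exact (Dual.inD A N).isZero_of_isGE 0 i h
      · exact (Dual.inD A N).isZero_of_isLE 0 i h
    intro m
    refine ⟨0, fun a _ => ?_⟩
    have hs : Subsingleton ((homologyFunctor (ModuleCat.{u} A) i).obj (Dual.inD A N)) :=
      ModuleCat.subsingleton_of_isZero hz
    exact Subsingleton.elim _ _

variable [IsNoetherianRing A]

/-- `H^q_I` of a module killed by `I` vanishes for `q ≠ 0` -/
lemma subsingleton_HDI (I : Ideal A) (N : Type u) [AddCommGroup N] [Module A N]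
    (hN : ∀ x ∈ I, ∀ m : N, x • m = 0) (q : ℤ) (hq : q ≠ 0) :
    Subsingleton (Dual2.HDI A I (Dual.inD A N) q) := by
  haveI := Groth.Agent.Helper9.LCT2.hasRgammaI I
  haveI hε := Groth.Agent.Helper9.LCT2.isIso_ε I (Dual.inD A N) (isPowerTorsion_HD_inD I N hN)
  obtain ⟨e⟩ := Groth.Agent.Helper6.LcD.hd_rgamma I q (Dual.inD A N)
  have hz : IsZero ((homologyFunctor (ModuleCat.{u} A) q).obj (Dual.inD A N)) := by
    rcases lt_or_gt_of_ne hq with h | h
    · exact (Dual.inD A N).isZero_of_isGE 0 q h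
    · exact (Dual.inD A N).isZero_of_isLE 0 q h
  have hz' : IsZero ((homologyFunctor (ModuleCat.{u} A) q).obj
      ((DRing.RgammaI I).obj (Dual.inD A N))) :=
    hz.of_iso ((homologyFunctor (ModuleCat.{u} A) q).mapIso
      (asIso ((DRing.RgammaIε I).app (Dual.inD A N))))
  have hs : Subsingleton (Dual.HD A ((DRing.RgammaI I).obj (Dual.inD A N)) q) :=
    ModuleCat.subsingleton_of_isZero hz'
  exact e.symm.toEquiv.subsingleton

/-- **vanishing**: the local cohomology with supports in `T` of a module killed by an ideal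
whose zero locus lies in `T` vanishes in nonzero degrees -/
theorem subsingleton_torsion (N : Type u) [AddCommGroup N] [Module A N] (J₀ : Ideal A)
    (hJ₀ : PrimeSpectrum.zeroLocus (J₀ : Set A) ⊆ T) (hN : ∀ x ∈ J₀, ∀ m : N, x • m = 0)
    (q : ℤ) (hq : q ≠ 0) : Subsingleton (HX T ((Dual.inD A N)⟦q⟧)) := by
  refine ⟨fun x y => ?_⟩
  suffices h : ∀ z : HX T ((Dual.inD A N)⟦q⟧), z = 0 by rw [h x, h y]
  intro z
  obtain ⟨a, g, rfl⟩ := hx_exists_rep T _ z
  let c : Idx T := a.mul T ⟨J₀, hJ₀⟩
  have hc : ∀ x ∈ c.J, ∀ m : N, x • m = 0 := fun x hx m => hN x ((Ideal.mul_le_right : a.J * J₀ ≤ J₀) hx) m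
  haveI := subsingleton_HDI c.J N hc q hq
  -- the restriction of `g` to `A/c^1`
  have hle : c.J ^ 1 ≤ a.J := by
    rw [pow_one]
    exact (Ideal.mul_le_left : a.J * J₀ ≤ a.J)
  let q₁ : (A ⧸ c.J ^ 1) →ₗ[A] (A ⧸ a.J) := Submodule.mapQ (c.J ^ 1) a.J LinearMap.id hle
  let y : Groth.Agent.Helper6.LcD.GH c.J (Dual.inD A N) q 1 :=
    (singleFunctor (ModuleCat.{u} A) 0).map (ModuleCat.ofHom q₁) ≫ g
  have hy : Groth.Agent.Helper6.LcD.hdiι c.J (Dual.inD A N) q 1 y = 0 := Subsingleton.elim _ _
  obtain ⟨n', hn', hz⟩ := Groth.Agent.Helper6.LcD.hdi_eq_zero c.J (Dual.inD A N) q 1 y hy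
  rw [Groth.Agent.Helper6.LcD.gmap_apply] at hz
  have hab : a ≤ Idx.pow T c n' := by
    show c.J ^ n' ≤ a.J
    exact (Ideal.pow_le_pow_right hn').trans hle
  have key : ModuleCat.ofHom (π T a (Idx.pow T c n') hab) =
      ModuleCat.ofHom (Groth.Agent.Helper6.LcD.πJ c.J 1 n' hn') ≫ ModuleCat.ofHom q₁ := by
    apply ModuleCat.hom_ext
    apply LinearMap.ext
    intro x
    obtain ⟨r, rfl⟩ := Submodule.Quotient.mk_surjective _ x
    rfl
  have h0 : gmap T _ a (Idx.pow T c n') hab g = 0 := by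
    rw [gmap_apply, key, Functor.map_comp, Category.assoc]
    exact hz
  rw [← hxι_compat T _ a (Idx.pow T c n') hab g, h0, map_zero]

end Groth.Agent.Helper9.LT3
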