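import Mathlib
import Groth.Prelude.Def_DRing3
import Groth.Prelude.Def_Wider
import Groth.Prelude.Def_DerCA
import Groth.Agent.Helper9.LCT3

/-!
# The principal triangle `RΓ_f(K) ⟶ K ⟶ K_f ⟶`

For a Noetherian ring `A`, an element `f` and a complex `L` of `A`-modules, there is a
distinguished triangle `RΓ_{(f)}(Q L) ⟶ Q L ⟶ Q (L_f) ⟶` in `D(A)`, whose first map is the
canonical one and whose second map is induced by the termwise localisation map.
-/

set_option autoImplicit false
set_option linter.style.haveILetI false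
set_option linter.unusedSectionVars false

namespace Groth.Agent.Helper9.LCR1

open CategoryTheory Limits HomologicalComplex DerivedCategory Pretriangulated
open Groth.Agent.Helper9.LCT1 Groth.Agent.Helper9.LCT2 Groth.Agent.Helper1

universe u

attribute [local instance] HasDerivedCategory.standard

section General

variable {C : Type*} [Category C] [HasZeroObject C] [HasShift C ℤ] [Preadditive C]
  [∀ n : ℤ, (shiftFunctor C n).Additive] [Pretriangulated C]

/-- two distinguished triangles with isomorphic second maps have isomorphic first vertices -/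
lemma nonempty_iso_obj₁ (T₁ T₂ : Triangle C) (hT₁ : T₁ ∈ distTriang C) (hT₂ : T₂ ∈ distTriang C)
    (e₂ : T₁.obj₂ ≅ T₂.obj₂) (e₃ : T₁.obj₃ ≅ T₂.obj₃)
    (comm : T₁.mor₂ ≫ e₃.hom = e₂.hom ≫ T₂.mor₂) : Nonempty (T₁.obj₁ ≅ T₂.obj₁) := by
  obtain ⟨a, ha1, ha2⟩ := complete_distinguished_triangle_morphism₁ T₁ T₂ hT₁ hT₂ e₂.hom e₃.hom comm
  let φ : T₁ ⟶ T₂ :=
    { hom₁ := a
      hom₂ := e₂.hom
      hom₃ := e₃.hom
      comm₁ := ha1
      comm₂ := comm
      comm₃ := ha2 }
  haveI : IsIso φ.hom₁ := isIso₁_of_isIso₂₃ φ hT₁ hT₂ (inferInstanceAs (IsIso e₂.hom))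
    (inferInstanceAs (IsIso e₃.hom))
  exact ⟨asIso φ.hom₁⟩

end General

variable {A : Type u} [CommRing A] [IsNoetherianRing A]

section SES

variable (f : A) (J : DRing.Cx A)

lemma gamι_locCxUnit : gamι (Ideal.span {f}) J ≫ DerCA.locCxUnit (Submonoid.powers f) J = 0 := by
  ext n x
  have hx := x.2
  rw [LocFun.mem_torsionSub_span_singleton] at hx
  exact (LocFun.mk_eq_zero_iff f _).2 hx

/-- the short complex `0 → Γ_f(J) → J → J_f → 0` -/
noncomputable def locSC : ShortComplex (DRing.Cx A) :=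
  ShortComplex.mk (gamι (Ideal.span {f}) J) (DerCA.locCxUnit (Submonoid.powers f) J)
    (gamι_locCxUnit f J)

lemma locSC_shortExact (hJ : ∀ n, Injective (J.X n)) : (locSC f J).ShortExact := by
  have hmono : Mono (gamι (Ideal.span {f}) J) := by
    have h : ∀ n, Mono ((gamι (Ideal.span {f}) J).f n) := fun n => by
      rw [ModuleCat.mono_iff_injective]
      exact Subtype.val_injective
    exact HomologicalComplex.mono_of_mono_f _ h
  have hepi : Epi (DerCA.locCxUnit (Submonoid.powers f) J) := by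
    have h : ∀ n, Epi ((DerCA.locCxUnit (Submonoid.powers f) J).f n) := fun n => by
      haveI : Module.Injective A (J.X n) :=
        haveI := hJ n
        Module.injective_module_of_injective_object A (J.X n)
      rw [ModuleCat.epi_iff_surjective]
      exact LocFun.mk_surjective_of_injective f (J.X n)
    exact HomologicalComplex.epi_of_epi_f _ h
  refine { exact := ?_, mono_f := hmono, epi_g := hepi }
  rw [HomologicalComplex.exact_iff_degreewise_exact]
  intro n
  rw [ShortComplex.moduleCat_exact_iff]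
  intro x hx
  have hx' : LocalizedModule.mkLinearMap (Submonoid.powers f) (J.X n) x = 0 := hx
  have hx'' := (LocFun.mk_eq_zero_iff f (M := J.X n) x).1 hx'
  exact ⟨⟨x, (LocFun.mem_torsionSub_span_singleton f (M := J.X n) x).2 hx''⟩, rfl⟩

end SES

lemma locCxUnit_naturality (S : Submonoid A) {K K' : DRing.Cx A} (a : K ⟶ K') :
    DerCA.locCxUnit S K ≫ (DerCA.locCx S).map a = a ≫ DerCA.locCxUnit S K' := by
  refine HomologicalComplex.hom_ext _ _ (fun n => ?_)
  exact ((DerCA.locUnit S).naturality (a.f n)).symm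

section Triangle

variable (f : A) [DRing.HasRgammaI (Ideal.span {f})] (L : DRing.Cx A)

/-- **The principal triangle** -/
theorem exists_principal_triangle :
    ∃ c : Q.obj ((DerCA.locCx (Submonoid.powers f)).obj L) ⟶
        ((DRing.RgammaI (Ideal.span {f})).obj (Q.obj L))⟦(1 : ℤ)⟧,
      Triangle.mk ((DRing.RgammaIε (Ideal.span {f})).app (Q.obj L))
        (Q.map (DerCA.locCxUnit (Submonoid.powers f) L)) c ∈ distTriang (Dual.D A) := by
  obtain ⟨J, u, hK, hu, -, hJ⟩ := Groth.Agent.Helper4.KInjRes.exists_resolution L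
  haveI := hK
  haveI := hu
  haveI := isIso_βQ_of_isKInjective (Ideal.span {f}) J
  haveI : IsIso (Q.map u) := by
    rw [DerivedCategory.isIso_Q_map_iff_quasiIso]
    infer_instance
  haveI : IsIso (Q.map ((DerCA.locCx (Submonoid.powers f)).map u)) := by
    rw [DerivedCategory.isIso_Q_map_iff_quasiIso]
    infer_instance
  have hS := locSC_shortExact f J hJ
  have hT := DerivedCategory.triangleOfSES_distinguished hS
  obtain ⟨δ, hδ⟩ : ∃ δ : Q.obj ((DerCA.locCx (Submonoid.powers f)).obj J) ⟶
      (Q.obj ((gamCx (Ideal.span {f})).obj J))⟦(1 : ℤ)⟧,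
      δ = DerivedCategory.triangleOfSESδ hS := ⟨_, rfl⟩
  have hT' : Triangle.mk (Q.map (gamι (Ideal.span {f}) J))
      (Q.map (DerCA.locCxUnit (Submonoid.powers f) J)) δ ∈ distTriang (Dual.D A) := by
    rw [hδ]
    exact hT
  let e₁ : (DRing.RgammaI (Ideal.span {f})).obj (Q.obj L) ≅
      Q.obj ((gamCx (Ideal.span {f})).obj J) :=
    (DRing.RgammaI (Ideal.span {f})).mapIso (asIso (Q.map u)) ≪≫
      (asIso (βQ (Ideal.span {f}) J)).symm
  let e₂ : Q.obj L ≅ Q.obj J := asIso (Q.map u)
  let e₃ : Q.obj ((DerCA.locCx (Submonoid.powers f)).obj L) ≅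
      Q.obj ((DerCA.locCx (Submonoid.powers f)).obj J) :=
    asIso (Q.map ((DerCA.locCx (Submonoid.powers f)).map u))
  refine ⟨e₃.hom ≫ δ ≫ (shiftFunctor (Dual.D A) (1 : ℤ)).map e₁.inv, ?_⟩
  refine isomorphic_distinguished _ hT' _ (Triangle.isoMk _ _ e₁ e₂ e₃ ?_ ?_ ?_)
  · -- first square
    have hnat := (DRing.RgammaIε (Ideal.span {f})).naturality (Q.map u)
    have hβ := βQ_ε (Ideal.span {f}) J
    show (DRing.RgammaIε (Ideal.span {f})).app (Q.obj L) ≫ Q.map u =
      ((DRing.RgammaI (Ideal.span {f})).map (Q.map u) ≫ inv (βQ (Ideal.span {f}) J)) ≫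
        Q.map (gamι (Ideal.span {f}) J)
    rw [← hβ, Category.assoc, IsIso.inv_hom_id_assoc]
    exact hnat.symm
  · -- second square
    show Q.map (DerCA.locCxUnit (Submonoid.powers f) L) ≫
        Q.map ((DerCA.locCx (Submonoid.powers f)).map u) =
      Q.map u ≫ Q.map (DerCA.locCxUnit (Submonoid.powers f) J)
    rw [← Functor.map_comp, ← Functor.map_comp, locCxUnit_naturality]
  · -- third square
    show (e₃.hom ≫ δ ≫ (shiftFunctor (Dual.D A) (1 : ℤ)).map e₁.inv) ≫
        (shiftFunctor (Dual.D A) (1 : ℤ)).map e₁.hom = e₃.hom ≫ δ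
    simp only [Category.assoc]
    rw [← Functor.map_comp, Iso.inv_hom_id, CategoryTheory.Functor.map_id, Category.comp_id]

end Triangle

end Groth.Agent.Helper9.LCR1
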