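import Mathlib
import Groth.Prelude.Def_DRing3
import Groth.Prelude.Def_DDual2
import Groth.Prelude.Def_DerCA
import Groth.Agent.Helper9.GM2
import Groth.Agent.Helper9.LCR1

/-!
# A characterisation of `RΓ_(f)(K)` and consequences

If `T ⟶ K ⟶ N ⟶ T[1]` is a distinguished triangle in `D(A)` (`A` Noetherian) with `T` having
`f`-power torsion cohomology and `N` being `f`-local, then `T ≅ RΓ_(f)(K)`.
-/

set_option autoImplicit false
set_option linter.style.haveILetI false
set_option linter.unusedSectionVars false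

namespace Groth.Agent.Helper9.LCB1

open CategoryTheory Limits HomologicalComplex DerivedCategory Pretriangulated
open Groth.Agent.Helper9.LCT1 Groth.Agent.Helper9.LCT2 Groth.Agent.Helper9.LCT3
open Groth.Agent.Helper9.GM1 Groth.Agent.Helper9.GM2 Groth.Agent.Helper9.LCR1
open Groth.Agent.Helper6.DComplTri

universe u

attribute [local instance] HasDerivedCategory.standard

variable {A : Type u} [CommRing A] [IsNoetherianRing A]

section Char

variable (I : Ideal A) [DRing.HasRgammaI I]

/-- **Characterisation of `RΓ_I(K)`**: a distinguished triangle `T ⟶ K ⟶ N ⟶` with `T` torsion and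
`N` right orthogonal to torsion objects (in degrees `0` and `-1`) identifies `T` with `RΓ_I(K)`. -/
theorem nonempty_iso_RgammaI_of_triangle (T : Triangle (Dual.D A)) (hT : T ∈ distTriang _)
    (h1 : Tors I T.obj₁)
    (h3 : ∀ S : Dual.D A, Tors I S → (∀ φ : S ⟶ T.obj₃, φ = 0) ∧
      (∀ φ : S ⟶ T.obj₃⟦(-1 : ℤ)⟧, φ = 0)) :
    Nonempty (T.obj₁ ≅ (DRing.RgammaI I).obj T.obj₂) := by
  have h : ∀ K : Dual.D A, Tors I ((DRing.RgammaI I).obj K) := fun K i =>
    isPowerTorsion_RgammaI I K i
  let G := (Tors I).lift (DRing.RgammaI I) h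
  let T' : (Tors I).FullSubcategory := ⟨T.obj₁, h1⟩
  let a : T' ⟶ G.obj T.obj₂ := (adj I h).homEquiv T' T.obj₂ T.mor₁
  haveI : IsIso a := by
    apply isIso_of_yoneda_map_bijective
    intro S
    have hb : Function.Bijective (fun φ : S.obj ⟶ T.obj₁ => φ ≫ T.mor₁) :=
      bijective_postcomp_of_orth S.obj T hT (h3 S.obj S.property).1 (h3 S.obj S.property).2
    have e1 := ((adj I h).homEquiv S T.obj₂).bijective
    have e0 : Function.Bijective (fun x : S ⟶ T' => x.hom) :=
      ⟨fun x y hxy => ObjectProperty.hom_ext _ hxy, fun y => ⟨ObjectProperty.homMk y, rfl⟩⟩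
    have := e1.comp (hb.comp e0)
    convert this using 1
    funext x
    simp only [Function.comp_apply]
    exact ((adj I h).homEquiv_naturality_left x T.mor₁).symm
  exact ⟨(Tors I).ι.mapIso (asIso a)⟩

/-- the principal version: `N` is `f`-local with `f ∈ I` -/
theorem nonempty_iso_RgammaI_of_triangle_isLocal (f : A) (hf : f ∈ I) (T : Triangle (Dual.D A))
    (hT : T ∈ distTriang _) (h1 : Tors I T.obj₁) (h3 : IsLocal f T.obj₃) :
    Nonempty (T.obj₁ ≅ (DRing.RgammaI I).obj T.obj₂) :=
  nonempty_iso_RgammaI_of_triangle I T hT h1 (fun S hS =>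
    ⟨fun φ => hom_eq_zero_of_tors_of_isLocal I S hS f hf _ h3 φ,
      fun φ => hom_eq_zero_of_tors_of_isLocal I S hS f hf _ (isLocal_shift f _ (-1) h3) φ⟩)

end Char

section Loc

variable (f : A)

/-- `Q(L_f)` is `f`-local -/
lemma isLocal_Q_locCx (L : DRing.Cx A) :
    IsLocal f (Q.obj ((DerCA.locCx (Submonoid.powers f)).obj L)) := by
  unfold IsLocal
  haveI hfY : IsIso (f • 𝟙 ((DerCA.locCx (Submonoid.powers f)).obj L)) := by
    haveI : ∀ i, IsIso ((f • 𝟙 ((DerCA.locCx (Submonoid.powers f)).obj L)).f i) := by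
      intro i
      rw [ConcreteCategory.isIso_iff_bijective]
      have h := IsLocalizedModule.map_units
        (LocalizedModule.mkLinearMap (Submonoid.powers f) (L.X i))
        (⟨f, Submonoid.mem_powers f⟩ : Submonoid.powers f)
      rw [Module.End.isUnit_iff] at h
      exact h
    exact HomologicalComplex.Hom.isIso_of_components _
  have : f • 𝟙 (Q.obj ((DerCA.locCx (Submonoid.powers f)).obj L)) =
      Q.map (f • 𝟙 ((DerCA.locCx (Submonoid.powers f)).obj L)) := by
    rw [Functor.map_smul, CategoryTheory.Functor.map_id]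
  rw [this]
  infer_instance

end Loc

end Groth.Agent.Helper9.LCB1
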