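import Mathlib
import Groth.Prelude.Def_DRing3
import Groth.Prelude.Def_DDual2
import Groth.Prelude.Def_DerCA
import Groth.Agent.Helper9.LCB1

/-!
# Towers of maps with local cones, and a general base change theorem for `RΓ_I`

`RΓ_I(K) ⟶ K` is (up to isomorphism) a finite composite of maps whose cones are `f`-local for
elements `f ∈ I`.  Consequently a triangulated functor `Ψ : D(A) ⥤ D(A')` which sends `f`-local
objects (`f ∈ I`) to `f'`-local objects (`f' ∈ I'`) and `I`-torsion objects to `I'`-torsion objects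
commutes with `RΓ`.
-/

set_option autoImplicit false
set_option linter.style.haveILetI false
set_option linter.unusedSectionVars false

namespace Groth.Agent.Helper9.LTW1

open CategoryTheory Limits HomologicalComplex DerivedCategory Pretriangulated
open Groth.Agent.Helper9.LCT1 Groth.Agent.Helper9.LCT2 Groth.Agent.Helper9.LCT3
open Groth.Agent.Helper9.GM1 Groth.Agent.Helper9.GM2 Groth.Agent.Helper9.LCR1
open Groth.Agent.Helper9.LCB1
open Groth.Agent.Helper6.DComplTri

universe u

attribute [local instance] HasDerivedCategory.standard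

section Tower

variable {A : Type u} [CommRing A]

/-- towers of maps with local cones -/
inductive LocTower (I : Ideal A) : ∀ {X K : Dual.D A}, (X ⟶ K) → Prop
  | of_iso {X K : Dual.D A} (u : X ⟶ K) (hu : IsIso u) : LocTower I u
  | step {X' X K : Dual.D A} (v : X' ⟶ X) (u : X ⟶ K) (C : Dual.D A) (g : X ⟶ C)
      (h : C ⟶ X'⟦(1 : ℤ)⟧) (hT : Triangle.mk v g h ∈ distTriang (Dual.D A)) (f : A)
      (hf : f ∈ I) (hC : IsLocal f C) (hu : LocTower I u) : LocTower I (v ≫ u)

variable {I : Ideal A}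

lemma LocTower.mono {I' : Ideal A} (hI : I ≤ I') {X K : Dual.D A} {u : X ⟶ K}
    (hu : LocTower I u) : LocTower I' u := by
  induction hu with
  | of_iso u hu => exact LocTower.of_iso u hu
  | step v u C g h hT f hf hC _ ih => exact LocTower.step v u C g h hT f (hI hf) hC ih

lemma LocTower.precomp_iso {X' X K : Dual.D A} (e : X' ⟶ X) (he : IsIso e) {u : X ⟶ K}
    (hu : LocTower I u) : LocTower I (e ≫ u) := by
  cases hu with
  | of_iso u hu =>
    haveI := hu
    haveI := he
    exact LocTower.of_iso _ inferInstance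
  | step v u C g h hT f hf hC hu =>
    haveI := he
    let ee : X' ≅ _ := asIso e
    rw [← Category.assoc]
    refine LocTower.step (e ≫ v) u C g (h ≫ (shiftFunctor (Dual.D A) (1 : ℤ)).map ee.inv) ?_
      f hf hC hu
    refine isomorphic_distinguished _ hT _
      (Triangle.isoMk _ _ ee (Iso.refl _) (Iso.refl _) ?_ ?_ ?_)
    · exact Category.comp_id (e ≫ v)
    · exact (Category.comp_id g).trans (Category.id_comp g).symm
    · show (h ≫ (shiftFunctor (Dual.D A) (1 : ℤ)).map ee.inv) ≫
        (shiftFunctor (Dual.D A) (1 : ℤ)).map ee.hom = 𝟙 C ≫ h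
      rw [Category.assoc, ← Functor.map_comp, ee.inv_hom_id, CategoryTheory.Functor.map_id,
        Category.comp_id, Category.id_comp]

lemma LocTower.comp {X' X K : Dual.D A} {v : X' ⟶ X} {u : X ⟶ K} (hv : LocTower I v)
    (hu : LocTower I u) : LocTower I (v ≫ u) := by
  induction hv with
  | of_iso v hv =>
    haveI := hv
    exact hu.precomp_iso v hv
  | step w v C g h hT f hf hC _ ih =>
    rw [Category.assoc]
    exact LocTower.step w (v ≫ u) C g h hT f hf hC (ih hu)

/-- maps from an object left orthogonal to local objects lift uniquely along a tower -/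
lemma LocTower.bijective_postcomp {X K : Dual.D A} {u : X ⟶ K} (hu : LocTower I u)
    (S : Dual.D A)
    (hS : ∀ f ∈ I, ∀ Y : Dual.D A, IsLocal f Y → ∀ φ : S ⟶ Y, φ = 0) :
    Function.Bijective (fun φ : S ⟶ X => φ ≫ u) := by
  induction hu with
  | of_iso u hu =>
    haveI := hu
    exact bijective_postcomp_of_isIso u S
  | step v u C g h hT f hf hC _ ih =>
    have hb : Function.Bijective (fun φ : S ⟶ _ => φ ≫ v) :=
      bijective_postcomp_of_orth S _ hT (hS f hf C hC)
        (hS f hf _ (isLocal_shift f C (-1) hC))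
    have := ih.comp hb
    convert this using 1
    funext φ
    simp

/-- a triangulated functor preserving local objects preserves towers -/
lemma LocTower.map {A' : Type u} [CommRing A'] {I' : Ideal A'}
    (Ψ : Dual.D A ⥤ Dual.D A') [Ψ.CommShift ℤ] [Ψ.IsTriangulated]
    (hΨ : ∀ f ∈ I, ∀ Y : Dual.D A, IsLocal f Y → ∃ f' ∈ I', IsLocal f' (Ψ.obj Y))
    {X K : Dual.D A} {u : X ⟶ K} (hu : LocTower I u) : LocTower I' (Ψ.map u) := by
  induction hu with
  | of_iso u hu =>
    haveI := hu
    exact LocTower.of_iso _ inferInstance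
  | step v u C g h hT f hf hC _ ih =>
    obtain ⟨f', hf', hC'⟩ := hΨ f hf C hC
    rw [Functor.map_comp]
    have hT' := Ψ.map_distinguished _ hT
    exact LocTower.step (Ψ.map v) (Ψ.map u) (Ψ.obj C) (Ψ.map g)
      (Ψ.map h ≫ (Ψ.commShiftIso (1 : ℤ)).hom.app _) hT' f' hf' hC' ih

end Tower

section Exists

variable {A : Type u} [CommRing A] [IsNoetherianRing A]

/-- `RΓ_I(K) ⟶ K` is a tower, up to isomorphism of the source -/
theorem exists_tower (I : Ideal A) : ∀ (_ : DRing.HasRgammaI I) (K : Dual.D A),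
    ∃ (X : Dual.D A) (_ : X ≅ (DRing.RgammaI I).obj K) (u : X ⟶ K), LocTower I u := by
  refine Submodule.fg_induction (R := A) (M := A) (motive := fun (I : Ideal A) _ =>
    ∀ (_ : DRing.HasRgammaI I) (K : Dual.D A),
      ∃ (X : Dual.D A) (_ : X ≅ (DRing.RgammaI I).obj K) (u : X ⟶ K), LocTower I u) ?_ ?_ I
    (IsNoetherian.noetherian I)
  · intro f hi K
    let L := Q.objPreimage K
    let i : Q.obj L ≅ K := Q.objObjPreimageIso K
    obtain ⟨c, hc⟩ := exists_principal_triangle f L
    refine ⟨(DRing.RgammaI (Ideal.span {f})).obj (Q.obj L),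
      (DRing.RgammaI (Ideal.span {f})).mapIso i,
      (DRing.RgammaIε (Ideal.span {f})).app (Q.obj L) ≫ i.hom, ?_⟩
    exact LocTower.step _ _ _ _ c hc f (Ideal.mem_span_singleton_self f)
      (isLocal_Q_locCx f L) (LocTower.of_iso _ inferInstance)
  · intro I₁ I₂ _ _ h₁ h₂ hi K
    haveI := hasRgammaI I₁
    haveI := hasRgammaI I₂
    obtain ⟨X₁, e₁, u₁, hu₁⟩ := h₁ inferInstance K
    obtain ⟨X₂, e₂, u₂, hu₂⟩ := h₂ inferInstance X₁
    obtain ⟨a⟩ := nonempty_comp_iso I₁ I₂ K
    refine ⟨X₂, e₂ ≪≫ (DRing.RgammaI I₂).mapIso e₁ ≪≫ a, u₂ ≫ u₁, ?_⟩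
    exact (hu₂.mono le_sup_right).comp (hu₁.mono le_sup_left)

end Exists

section Main

variable {A A' : Type u} [CommRing A] [CommRing A'] [IsNoetherianRing A] [IsNoetherianRing A']

/-- `T ≅ RΓ_I(K)` if `T` is torsion and maps from torsion objects to `T` and `K` agree -/
theorem nonempty_iso_RgammaI_of_bijective (I : Ideal A) [DRing.HasRgammaI I] {T K : Dual.D A}
    (a : T ⟶ K) (hT : Tors I T)
    (hb : ∀ S : Dual.D A, Tors I S → Function.Bijective (fun φ : S ⟶ T => φ ≫ a)) :
    Nonempty (T ≅ (DRing.RgammaI I).obj K) := by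
  have h : ∀ K : Dual.D A, Tors I ((DRing.RgammaI I).obj K) := fun K i =>
    isPowerTorsion_RgammaI I K i
  let G := (Tors I).lift (DRing.RgammaI I) h
  let T' : (Tors I).FullSubcategory := ⟨T, hT⟩
  let a' : T' ⟶ G.obj K := (adj I h).homEquiv T' K a
  haveI : IsIso a' := by
    apply isIso_of_yoneda_map_bijective
    intro S
    have hb' := hb S.obj S.property
    have e1 := ((adj I h).homEquiv S K).bijective
    have e0 : Function.Bijective (fun x : S ⟶ T' => x.hom) :=
      ⟨fun x y hxy => ObjectProperty.hom_ext _ hxy, fun y => ⟨ObjectProperty.homMk y, rfl⟩⟩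
    have := e1.comp (hb'.comp e0)
    convert this using 1
    funext x
    simp only [Function.comp_apply]
    exact ((adj I h).homEquiv_naturality_left x a).symm
  exact ⟨(Tors I).ι.mapIso (asIso a')⟩

/-- **General base change for `RΓ`** -/
theorem nonempty_map_RgammaI (I : Ideal A) (I' : Ideal A') [DRing.HasRgammaI I]
    [DRing.HasRgammaI I'] (Ψ : Dual.D A ⥤ Dual.D A') [Ψ.CommShift ℤ] [Ψ.IsTriangulated]
    (h1 : ∀ f ∈ I, ∀ Y : Dual.D A, IsLocal f Y → ∃ f' ∈ I', IsLocal f' (Ψ.obj Y))
    (h2 : ∀ X : Dual.D A, Tors I X → Tors I' (Ψ.obj X)) (K : Dual.D A) :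
    Nonempty (Ψ.obj ((DRing.RgammaI I).obj K) ≅ (DRing.RgammaI I').obj (Ψ.obj K)) := by
  obtain ⟨X, e, u, hu⟩ := exists_tower I inferInstance K
  have hu' : LocTower I' (Ψ.map u) := hu.map Ψ h1
  have hX : Tors I' (Ψ.obj X) := by
    have h0 := h2 _ (fun i => isPowerTorsion_RgammaI I K i)
    intro i
    exact isPowerTorsion_of_iso
      ((DerivedCategory.homologyFunctor (ModuleCat.{u} A') i).mapIso (Ψ.mapIso e.symm)) (h0 i)
  obtain ⟨b⟩ := nonempty_iso_RgammaI_of_bijective I' (Ψ.map u) hX (fun S hS =>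
    hu'.bijective_postcomp S (fun f hf Y hY φ => hom_eq_zero_of_tors_of_isLocal I' S hS f hf Y hY φ))
  exact ⟨Ψ.mapIso e.symm ≪≫ b⟩

end Main

end Groth.Agent.Helper9.LTW1
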