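import Mathlib
import Groth.Prelude.Def_DualLC
import Groth.Agent.Helper9.LT1
import Groth.Agent.Helper9.LT2
import Groth.Agent.Helper9.LT3
import Groth.Agent.Helper9.LTW1
import Groth.Agent.Helper6.LcD7
import Groth.Agent.Helper6.LcD13
import Groth.Agent.Helper6.LocExt3
import Groth.Agent.Helper3.DRingBC3

/-!
# `HDI` as `HX` with supports in a closed set, and flat base change of local cohomology to the
localization at a prime
-/

set_option autoImplicit false
set_option linter.style.haveILetI false
set_option linter.unusedSectionVars false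
set_option linter.unusedVariables false

universe u
open CategoryTheory CategoryTheory.Limits Opposite DerivedCategory Pretriangulated TensorProduct
attribute [local instance] HasDerivedCategory.standard

namespace Groth.Agent.Helper9.LF3
open Groth.Agent.Helper9.LT1 Groth.Agent.Helper9.LT2 Groth.Agent.Helper3.DRingLib

section Cmp

variable {A : Type u} [CommRing A] (I : Ideal A)

/-- the index of a power of `I` -/
abbrev powIdx (n : ℕ) : Idx (PrimeSpectrum.zeroLocus (I : Set A)) :=
  Groth.Agent.Helper9.LT3.Idx.pow _ ⟨I, subset_rfl⟩ n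

variable (K : Dual.D A) (i : ℤ)

/-- the comparison map -/
noncomputable def cmp : Dual2.HDI A I K i →ₗ[A] HX (PrimeSpectrum.zeroLocus (I : Set A)) (K⟦i⟧) :=
  Groth.Agent.Helper6.LcD.hdiDesc I K i (fun n => hxι _ (K⟦i⟧) (powIdx I n))
    (fun n n' h y => hxι_compat _ (K⟦i⟧) (powIdx I n) (powIdx I n') (Ideal.pow_le_pow_right h) y)

lemma cmp_ι (n : ℕ) (y : Groth.Agent.Helper6.LcD.GH I K i n) :
    cmp I K i (Groth.Agent.Helper6.LcD.hdiι I K i n y) = hxι _ (K⟦i⟧) (powIdx I n) y :=
  Groth.Agent.Helper6.LcD.hdiDesc_ι I K i _ _ n y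

variable [IsNoetherianRing A]

lemma exists_pow_le (a : Idx (PrimeSpectrum.zeroLocus (I : Set A))) : ∃ n : ℕ, I ^ n ≤ a.J := by
  have h1 : I ≤ a.J.radical := (PrimeSpectrum.zeroLocus_subset_zeroLocus_iff a.J I).1 a.h
  exact Ideal.exists_pow_le_of_le_radical_of_fg h1 (IsNoetherian.noetherian I)

theorem cmp_bijective : Function.Bijective (cmp I K i) := by
  apply Groth.Agent.Helper6.LcD.hdiDesc_bijective
  · intro t
    obtain ⟨a, g, rfl⟩ := hx_exists_rep _ (K⟦i⟧) t
    obtain ⟨n, hn⟩ := exists_pow_le I a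
    have hle : a ≤ powIdx I n := hn
    exact ⟨n, gmap _ (K⟦i⟧) a (powIdx I n) hle g, hxι_compat _ (K⟦i⟧) a (powIdx I n) hle g⟩
  · intro n y hy
    obtain ⟨b, hb, hzero⟩ := hx_eq_zero _ (K⟦i⟧) (powIdx I n) y hy
    obtain ⟨k, hk⟩ := exists_pow_le I b
    have hle : b ≤ powIdx I (max n k) := (Ideal.pow_le_pow_right (le_max_right n k)).trans hk
    refine ⟨max n k, le_max_left n k, ?_⟩
    have h1 := gmap_trans _ (K⟦i⟧) (powIdx I n) b (powIdx I (max n k)) hb hle y
    rw [hzero, map_zero] at h1
    exact h1.symm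

/-- `HDI` is `HX` with supports in the zero locus -/
noncomputable def cmpEquiv :
    Dual2.HDI A I K i ≃ₗ[A] HX (PrimeSpectrum.zeroLocus (I : Set A)) (K⟦i⟧) :=
  LinearEquiv.ofBijective (cmp I K i) (cmp_bijective I K i)

/-- `HDI` only depends on the isomorphism class of the object -/
noncomputable def hdiCongr {K K' : Dual.D A} (e : K ≅ K') :
    Dual2.HDI A I K i ≃ₗ[A] Dual2.HDI A I K' i :=
  cmpEquiv I K i ≪≫ₗ hxCongr _ ((shiftFunctor (Dual.D A) i).mapIso e) ≪≫ₗ (cmpEquiv I K' i).symm

end Cmp

section PT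

variable {A : Type u} [CommRing A] (B : Type u) [CommRing B] [Algebra A B]

theorem isPowerTorsion_baseChange (I : Ideal A) (E : Type u) [AddCommGroup E] [Module A E]
    (hE : LocCoh.IsPowerTorsion I E) :
    LocCoh.IsPowerTorsion (I.map (algebraMap A B)) (B ⊗[A] E) := by
  intro z
  induction z using TensorProduct.induction_on with
  | zero => exact ⟨0, fun a _ => smul_zero a⟩
  | tmul b x =>
    obtain ⟨n, hn⟩ := hE x
    refine ⟨n, fun c hc => ?_⟩
    have h1 : (I ^ n).map (algebraMap A B) ≤
        LinearMap.ker (LinearMap.toSpanSingleton B (B ⊗[A] E) (b ⊗ₜ[A] x)) := by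
      rw [Ideal.map_le_iff_le_comap]
      intro a ha
      rw [Ideal.mem_comap, LinearMap.mem_ker, LinearMap.toSpanSingleton_apply,
        TensorProduct.smul_tmul', smul_eq_mul, ← Algebra.smul_def, TensorProduct.smul_tmul, hn a ha,
        TensorProduct.tmul_zero]
    rw [← Ideal.map_pow] at hc
    have := h1 hc
    rwa [LinearMap.mem_ker, LinearMap.toSpanSingleton_apply] at this
  | add x y hx hy =>
    obtain ⟨n, hn⟩ := hx
    obtain ⟨n', hn'⟩ := hy
    refine ⟨max n n', fun c hc => ?_⟩
    rw [smul_add, hn c (Ideal.pow_le_pow_right (le_max_left n n') hc),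
      hn' c (Ideal.pow_le_pow_right (le_max_right n n') hc), add_zero]

end PT

section FBC

variable {A : Type u} [CommRing A] [IsNoetherianRing A] (q : PrimeSpectrum A)

open IsLocalRing

/-- **flat base change** of local cohomology with supports in `V(q)` to the local ring at `q` -/
theorem nonempty_fbc (K : Dual.D A) (m : ℤ) :
    Nonempty (Dual2.HDI (Localization.AtPrime q.asIdeal)
        (maximalIdeal (Localization.AtPrime q.asIdeal))
        ((bcD A (Localization.AtPrime q.asIdeal)).obj K) m ≃ₗ[Localization.AtPrime q.asIdeal]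
      (Localization.AtPrime q.asIdeal) ⊗[A]
        HX (PrimeSpectrum.zeroLocus (q.asIdeal : Set A)) (K⟦m⟧)) := by
  haveI : IsNoetherianRing (Localization.AtPrime q.asIdeal) :=
    IsLocalization.isNoetherianRing q.asIdeal.primeCompl _ inferInstance
  haveI := Groth.Agent.Helper9.LCT2.hasRgammaI q.asIdeal
  haveI := Groth.Agent.Helper9.LCT2.hasRgammaI (maximalIdeal (Localization.AtPrime q.asIdeal))
  have hmap : q.asIdeal.map (algebraMap A (Localization.AtPrime q.asIdeal)) =
      maximalIdeal (Localization.AtPrime q.asIdeal) :=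
    IsLocalization.AtPrime.map_eq_maximalIdeal q.asIdeal _
  obtain ⟨e1⟩ := Groth.Agent.Helper6.LcD.hd_rgamma q.asIdeal m K
  obtain ⟨e3⟩ := Groth.Agent.Helper6.LcD.hd_rgamma
    (maximalIdeal (Localization.AtPrime q.asIdeal)) m
    ((bcD A (Localization.AtPrime q.asIdeal)).obj K)
  obtain ⟨e4⟩ := Groth.Agent.Helper9.LTW1.nonempty_map_RgammaI q.asIdeal
    (maximalIdeal (Localization.AtPrime q.asIdeal)) (bcD A (Localization.AtPrime q.asIdeal))
    (fun f hf Y hY => by
      refine ⟨algebraMap A _ f, ?_, ?_⟩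
      · rw [← hmap]
        exact Ideal.mem_map_of_mem _ hf
      · unfold Groth.Agent.Helper6.DComplTri.IsLocal at hY ⊢
        rw [← Groth.Agent.Helper6.LocExt.bcD_map_smul_id (Localization.AtPrime q.asIdeal) Y f]
        haveI := hY
        infer_instance)
    (fun X hX i => by
      obtain ⟨e⟩ := nonempty_HD_bcD_equiv (Localization.AtPrime q.asIdeal) X i
      have h1 := isPowerTorsion_baseChange (Localization.AtPrime q.asIdeal) q.asIdeal _ (hX i)
      rw [hmap] at h1
      intro z
      obtain ⟨n, hn⟩ := h1 (e z)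
      refine ⟨n, fun a ha => e.injective ?_⟩
      rw [map_smul, hn a ha, map_zero]) K
  obtain ⟨e5⟩ := nonempty_HD_bcD_equiv (Localization.AtPrime q.asIdeal)
    ((DRing.RgammaI q.asIdeal).obj K) m
  let e45 := ((homologyFunctor (ModuleCat.{u} (Localization.AtPrime q.asIdeal)) m).mapIso
    e4).toLinearEquiv
  exact ⟨e3.symm ≪≫ₗ e45.symm ≪≫ₗ e5 ≪≫ₗ
    TensorProduct.AlgebraTensorModule.congr (LinearEquiv.refl _ _)
      (e1 ≪≫ₗ cmpEquiv q.asIdeal K m)⟩

/-- **Interface II**: annihilation of the local cohomology of `K_q` at the closed point, in terms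
of local cohomology with supports in `V(q)` -/
theorem interfaceII (K : Dual.D A) (m : ℤ) (x : A) :
    (∀ z : Dual2.HDI (Localization.AtPrime q.asIdeal)
        (maximalIdeal (Localization.AtPrime q.asIdeal))
        ((bcD A (Localization.AtPrime q.asIdeal)).obj K) m,
        algebraMap A (Localization.AtPrime q.asIdeal) x • z = 0) ↔
      ∀ y : HX (PrimeSpectrum.zeroLocus (q.asIdeal : Set A)) (K⟦m⟧),
        ∃ f : A, f ∉ q.asIdeal ∧ (f * x) • y = 0 := by
  obtain ⟨e⟩ := nonempty_fbc q K m
  haveI hloc : IsLocalizedModule q.asIdeal.primeCompl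
      (TensorProduct.mk A (Localization.AtPrime q.asIdeal)
        (HX (PrimeSpectrum.zeroLocus (q.asIdeal : Set A)) (K⟦m⟧)) 1) :=
    (isLocalizedModule_iff_isBaseChange q.asIdeal.primeCompl (Localization.AtPrime q.asIdeal) _).mpr
      (TensorProduct.isBaseChange A _ (Localization.AtPrime q.asIdeal))
  constructor
  · intro h y
    have h1 := h (e.symm ((1 : Localization.AtPrime q.asIdeal) ⊗ₜ[A] y))
    rw [← map_smul, LinearEquiv.map_eq_zero_iff, TensorProduct.smul_tmul', smul_eq_mul, mul_one]
      at h1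
    have h2 : (1 : Localization.AtPrime q.asIdeal) ⊗ₜ[A] (x • y) = 0 := by
      rw [← TensorProduct.smul_tmul, Algebra.smul_def, mul_one]
      exact h1
    obtain ⟨c, hc⟩ := (IsLocalizedModule.eq_zero_iff q.asIdeal.primeCompl
      (TensorProduct.mk A (Localization.AtPrime q.asIdeal)
        (HX (PrimeSpectrum.zeroLocus (q.asIdeal : Set A)) (K⟦m⟧)) 1)).1 h2
    refine ⟨c.1, c.2, ?_⟩
    rw [mul_smul]
    exact hc
  · intro h z
    apply e.injective
    rw [map_smul, map_zero]
    generalize e z = w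
    induction w using TensorProduct.induction_on with
    | zero => exact smul_zero _
    | tmul b y =>
      obtain ⟨f, hf, hfy⟩ := h y
      have h2 : (1 : Localization.AtPrime q.asIdeal) ⊗ₜ[A] (x • y) = 0 := by
        refine (IsLocalizedModule.eq_zero_iff q.asIdeal.primeCompl
          (TensorProduct.mk A (Localization.AtPrime q.asIdeal)
            (HX (PrimeSpectrum.zeroLocus (q.asIdeal : Set A)) (K⟦m⟧)) 1)).2 ⟨⟨f, hf⟩, ?_⟩
        show f • x • y = 0
        rw [← mul_smul]
        exact hfy
      have h3 : algebraMap A (Localization.AtPrime q.asIdeal) x • (b ⊗ₜ[A] y) =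
          b • ((1 : Localization.AtPrime q.asIdeal) ⊗ₜ[A] (x • y)) := by
        rw [TensorProduct.smul_tmul', TensorProduct.smul_tmul', smul_eq_mul, smul_eq_mul, mul_one,
          ← Algebra.smul_def, TensorProduct.smul_tmul]
      rw [h3, h2, smul_zero]
    | add w w' hw hw' => rw [smul_add, hw, hw', add_zero]

end FBC

end Groth.Agent.Helper9.LF3
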