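import Mathlib
import Groth.Prelude.Def_DualLC
import Groth.Agent.Helper9.LT1
import Groth.Agent.Helper9.LT2
import Groth.Agent.Helper6.LD1

/-!
# Restriction of supports for `HX`, and lifting classes killed by an ideal with smaller zero locus

For `T'' ⊆ T` the natural map `HX T'' X → HX T X`.  If the elements of `T \ T''` are minimal in `T`
and a class `y ∈ HX T X` is killed by an ideal with zero locus in `T''`, then `y` comes from
`HX T'' X`.
-/

set_option autoImplicit false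
set_option linter.style.haveILetI false
set_option linter.unusedSectionVars false
set_option linter.unusedVariables false

universe u
open CategoryTheory CategoryTheory.Limits Opposite DerivedCategory Pretriangulated
attribute [local instance] HasDerivedCategory.standard

namespace Groth.Agent.Helper9.LF1
open Groth.Agent.Helper9.LT1 Groth.Agent.Helper9.LT2 Groth.Agent.Helper6.LD

variable {A : Type u} [CommRing A] {T'' T : Set (PrimeSpectrum A)} (hsub : T'' ⊆ T)

/-- transfer of indices along an inclusion of supports -/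
abbrev res (a : Idx T'') : Idx T := ⟨a.J, a.h.trans hsub⟩

lemma res_le (a b : Idx T'') (h : a ≤ b) : res hsub a ≤ res hsub b := h

variable (X : Dual.D A)

/-- restriction of supports -/
noncomputable def hxRes : HX T'' X →ₗ[A] HX T X :=
  hxDesc T'' X (fun a => hxι T X (res hsub a))
    (fun a b h y => hxι_compat T X (res hsub a) (res hsub b) h y)

lemma hxRes_ι (a : Idx T'') (y : GH T'' X a) :
    hxRes hsub X (hxι T'' X a y) = hxι T X (res hsub a) y :=
  hxDesc_ι T'' X _ _ a y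

variable {X} in
lemma hxRes_hxMap {Y : Dual.D A} (f : X ⟶ Y) (y : HX T'' X) :
    hxRes hsub Y (hxMap T'' f y) = hxMap T f (hxRes hsub X y) := by
  obtain ⟨a, g, rfl⟩ := hx_exists_rep T'' X y
  rw [hxMap_ι, hxRes_ι, hxRes_ι, hxMap_ι]

lemma toH0_hxRes (y : HX T'' X) : toH0 T X (hxRes hsub X y) = toH0 T'' X y := by
  obtain ⟨a, g, rfl⟩ := hx_exists_rep T'' X y
  rw [hxRes_ι, toH0_ι, toH0_ι]

theorem hxRes_injective [X.IsGE 0] : Function.Injective (hxRes hsub X) := by
  intro y y' h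
  apply toH0_injective T'' X
  rw [← toH0_hxRes hsub, ← toH0_hxRes hsub, h]

/-- the ideal of an index kills the classes represented at that index -/
lemma smul_hxι_eq_zero (a : Idx T) (g : GH T X a) (x : A) (hx : x ∈ a.J) :
    x • hxι T X a g = 0 := by
  have h1 : x • 𝟙 (ModuleCat.of A (A ⧸ a.J)) = 0 := by
    apply ModuleCat.hom_ext
    apply LinearMap.ext
    intro r
    obtain ⟨r, rfl⟩ := Submodule.Quotient.mk_surjective _ r
    show x • (Submodule.Quotient.mk r : A ⧸ a.J) = 0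
    rw [← Submodule.Quotient.mk_smul, Submodule.Quotient.mk_eq_zero]
    exact Ideal.mul_mem_right _ _ hx
  have h2 : x • g = 0 := by
    have h3 : x • g = (x • 𝟙 (Dual.inD A (A ⧸ a.J))) ≫ g := by
      rw [Linear.smul_comp, Category.id_comp]
    rw [h3, ← CategoryTheory.Functor.map_id, ← Functor.map_smul, h1, Functor.map_zero, zero_comp]
  rw [← map_smul, h2, map_zero]

/-- `HX` with empty supports vanishes -/
lemma subsingleton_of_empty (hT : T = ∅) : Subsingleton (HX T X) := by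
  refine ⟨fun y y' => ?_⟩
  suffices h : ∀ z : HX T X, z = 0 by rw [h y, h y']
  intro z
  obtain ⟨a, g, rfl⟩ := hx_exists_rep T X z
  have h1 : a.J = ⊤ := by
    rw [← PrimeSpectrum.zeroLocus_empty_iff_eq_top]
    exact Set.subset_eq_empty a.h hT
  have h2 := smul_hxι_eq_zero X a g 1 (by rw [h1]; trivial)
  rwa [one_smul] at h2

/-- the transition maps are transposes -/
lemma gmap_eq_Tmap (a b : Idx T) (h : a ≤ b) (g : GH T X a) :
    gmap T X a b h g = Tmap X (π T a b h) g := rfl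

section Noeth

variable [IsNoetherianRing A]

/-- a finitely generated ideal killing a class kills a representative at a later stage -/
lemma exists_stage_kill (𝔞 : Ideal A) (a : Idx T) (g : GH T X a)
    (h : ∀ r ∈ 𝔞, r • hxι T X a g = 0) :
    ∃ (b : Idx T) (hab : a ≤ b), ∀ r ∈ 𝔞, r • gmap T X a b hab g = 0 := by
  revert h
  refine Submodule.fg_induction (R := A) (M := A)
    (motive := fun (𝔞 : Ideal A) _ => (∀ r ∈ 𝔞, r • hxι T X a g = 0) →
      ∃ (b : Idx T) (hab : a ≤ b), ∀ r ∈ 𝔞, r • gmap T X a b hab g = 0) ?_ ?_ 𝔞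
    (IsNoetherian.noetherian 𝔞)
  · intro r₀ h
    have h0 : hxι T X a (r₀ • g) = 0 := by
      rw [map_smul]
      exact h r₀ (Submodule.mem_span_singleton_self r₀)
    obtain ⟨b, hab, hb⟩ := hx_eq_zero T X a _ h0
    refine ⟨b, hab, fun r hr => ?_⟩
    obtain ⟨c, rfl⟩ := Submodule.mem_span_singleton.1 hr
    rw [smul_eq_mul, mul_smul, ← map_smul (gmap T X a b hab) r₀ g, hb, smul_zero]
  · intro 𝔞₁ 𝔞₂ _ _ h₁ h₂ h
    obtain ⟨b₁, hab₁, k₁⟩ := h₁ (fun r hr => h r (Submodule.mem_sup_left hr))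
    obtain ⟨b₂, hab₂, k₂⟩ := h₂ (fun r hr => h r (Submodule.mem_sup_right hr))
    refine ⟨b₁.inf T b₂, hab₁.trans (b₁.le_inf_left T b₂), fun r hr => ?_⟩
    obtain ⟨r₁, hr₁, r₂, hr₂, rfl⟩ := Submodule.mem_sup.1 hr
    have e1 : gmap T X a (b₁.inf T b₂) (hab₁.trans (b₁.le_inf_left T b₂)) g =
        gmap T X b₁ (b₁.inf T b₂) (b₁.le_inf_left T b₂) (gmap T X a b₁ hab₁ g) :=
      (gmap_trans T X a b₁ _ hab₁ (b₁.le_inf_left T b₂) g).symm
    have e2 : gmap T X a (b₁.inf T b₂) (hab₁.trans (b₁.le_inf_left T b₂)) g =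
        gmap T X b₂ (b₁.inf T b₂) (b₁.le_inf_right T b₂) (gmap T X a b₂ hab₂ g) :=
      (gmap_trans T X a b₂ _ hab₂ (b₁.le_inf_right T b₂) g).symm
    have z1 : r₁ • gmap T X a (b₁.inf T b₂) (hab₁.trans (b₁.le_inf_left T b₂)) g = 0 := by
      rw [e1, ← map_smul, k₁ r₁ hr₁, map_zero]
    have z2 : r₂ • gmap T X a (b₁.inf T b₂) (hab₁.trans (b₁.le_inf_left T b₂)) g = 0 := by
      rw [e2, ← map_smul, k₂ r₂ hr₂, map_zero]
    rw [add_smul, z1, z2, add_zero]

/-- a finitely generated submodule consisting of `S`-torsion elements is killed by one element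
of `S` -/
lemma exists_kill_fg {M : Type*} [AddCommGroup M] [Module A M] (S : Submonoid A)
    (N : Submodule A M) (hN : N.FG) (h : ∀ m ∈ N, ∃ s ∈ S, s • m = 0) :
    ∃ u ∈ S, ∀ m ∈ N, u • m = 0 := by
  revert h
  refine Submodule.fg_induction (R := A) (M := M)
    (motive := fun (N : Submodule A M) _ => (∀ m ∈ N, ∃ s ∈ S, s • m = 0) →
      ∃ u ∈ S, ∀ m ∈ N, u • m = 0) ?_ ?_ N hN
  · intro m₀ h
    obtain ⟨s, hs, hsm⟩ := h m₀ (Submodule.mem_span_singleton_self m₀)
    refine ⟨s, hs, fun m hm => ?_⟩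
    obtain ⟨c, rfl⟩ := Submodule.mem_span_singleton.1 hm
    rw [smul_comm, hsm, smul_zero]
  · intro N₁ N₂ _ _ h₁ h₂ h
    obtain ⟨u₁, hu₁, k₁⟩ := h₁ (fun m hm => h m (Submodule.mem_sup_left hm))
    obtain ⟨u₂, hu₂, k₂⟩ := h₂ (fun m hm => h m (Submodule.mem_sup_right hm))
    refine ⟨u₁ * u₂, S.mul_mem hu₁ hu₂, fun m hm => ?_⟩
    obtain ⟨m₁, hm₁, m₂, hm₂, rfl⟩ := Submodule.mem_sup.1 hm
    rw [smul_add, mul_smul, mul_smul, k₂ m₂ hm₂, smul_zero, smul_comm, k₁ m₁ hm₁, smul_zero,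
      add_zero]

end Noeth

section KL

variable [IsNoetherianRing A]

/-- the kernel of `A/J → A/(J ⊔ (w))` consists of multiples of `w` -/
lemma ker_mapQ_sup_span (J : Ideal A) (w : A) (m : A ⧸ J)
    (hm : Submodule.mapQ J (J ⊔ Ideal.span {w}) LinearMap.id le_sup_left m = 0) :
    ∃ m' : A ⧸ J, m = w • m' := by
  obtain ⟨r, rfl⟩ := Submodule.Quotient.mk_surjective _ m
  rw [Submodule.mapQ_apply, LinearMap.id_apply, Submodule.Quotient.mk_eq_zero] at hm
  obtain ⟨j, hj, c, hc, rfl⟩ := Submodule.mem_sup.1 hm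
  obtain ⟨c', rfl⟩ := Ideal.mem_span_singleton'.1 hc
  refine ⟨Submodule.Quotient.mk c', ?_⟩
  rw [← Submodule.Quotient.mk_smul, Submodule.Quotient.eq]
  have : j + c' * w - w • c' = j := by
    rw [smul_eq_mul]
    ring
  rw [this]
  exact hj

variable {X} in
/-- **lifting**: if the elements of `T \ T''` are minimal in `T`, a class killed by an ideal with
zero locus in `T''` comes from `HX T''` -/
theorem KL (hmin : ∀ q ∈ T, q ∉ T'' → ∀ p ∈ T, p ≤ q → p = q) (y : HX T X) (𝔞 : Ideal A)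
    (h𝔞 : PrimeSpectrum.zeroLocus (𝔞 : Set A) ⊆ T'') (hy : ∀ r ∈ 𝔞, r • y = 0) :
    ∃ y'' : HX T'' X, hxRes hsub X y'' = y := by
  classical
  obtain ⟨a₀, g₀, rfl⟩ := hx_exists_rep T X y
  obtain ⟨a, ha, hkill⟩ := exists_stage_kill X 𝔞 a₀ g₀ hy
  have hyg : hxι T X a₀ g₀ = hxι T X a (gmap T X a₀ a ha g₀) := (hxι_compat T X a₀ a ha g₀).symm
  rw [hyg]
  generalize gmap T X a₀ a ha g₀ = g at hkill
  -- the bad minimal primes
  let F : Set (Ideal A) :=
    {q | q ∈ Ideal.minimalPrimes a.J ∧ ∀ hq : q.IsPrime, (⟨q, hq⟩ : PrimeSpectrum A) ∉ T''}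
  have hFfin : F.Finite :=
    (Ideal.finite_minimalPrimes_of_isNoetherianRing A a.J).subset (fun q hq => hq.1)
  have hFprime : ∀ q ∈ F, q.IsPrime := fun q hq => hq.1.1.1
  -- prime avoidance
  have hav : ∃ t ∈ 𝔞, ∀ q ∈ F, t ∉ q := by
    by_contra hcon
    push Not at hcon
    have hsubset : (𝔞 : Set A) ⊆ ⋃ q ∈ F, (q : Set A) := by
      intro t ht
      obtain ⟨q, hq, htq⟩ := hcon t ht
      exact Set.mem_biUnion hq htq
    obtain ⟨q, hq, hle⟩ := (Ideal.subset_union_prime_finite hFfin ⊤ ⊤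
      (fun i hi _ _ => hFprime i hi)).1 hsubset
    have hqp := hFprime q hq
    exact hq.2 hqp (h𝔞 (by
      rw [PrimeSpectrum.mem_zeroLocus]
      exact hle))
  obtain ⟨t, ht𝔞, htF⟩ := hav
  -- the multiplicative set
  let S : Submonoid A :=
    { carrier := {s | ∀ q ∈ F, s ∉ q}
      one_mem' := fun q hq h1 => (hFprime q hq).ne_top ((Ideal.eq_top_iff_one q).2 h1)
      mul_mem' := fun {s s'} hs hs' q hq hmem => by
        rcases (hFprime q hq).mem_or_mem hmem with h | h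
        · exact hs q hq h
        · exact hs' q hq h }
  -- the `S`-torsion of `A/J`
  let torS : Submodule A (A ⧸ a.J) :=
    { carrier := {m | ∃ s ∈ S, s • m = 0}
      add_mem' := by
        rintro m m' ⟨s, hs, h⟩ ⟨s', hs', h'⟩
        refine ⟨s * s', S.mul_mem hs hs', ?_⟩
        rw [smul_add, mul_smul, mul_smul, h', smul_zero, smul_comm, h, smul_zero, add_zero]
      zero_mem' := ⟨1, S.one_mem, smul_zero _⟩
      smul_mem' := by
        rintro c m ⟨s, hs, h⟩
        exact ⟨s, hs, by rw [smul_comm, h, smul_zero]⟩ }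
  obtain ⟨u, huS, hu⟩ := exists_kill_fg S torS (IsNoetherian.noetherian torS) (fun m hm => hm)
  have htS : t ∈ S := htF
  have hwS : t * u ∈ S := S.mul_mem htS huS
  -- the new ideal
  have hJ'' : PrimeSpectrum.zeroLocus ((a.J ⊔ Ideal.span {t * u} : Ideal A) : Set A) ⊆ T'' := by
    intro P hP
    rw [PrimeSpectrum.mem_zeroLocus] at hP
    have hP' : a.J ⊔ Ideal.span {t * u} ≤ P.asIdeal := hP
    have hJP : a.J ≤ P.asIdeal := le_sup_left.trans hP'
    have hwP : t * u ∈ P.asIdeal :=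
      hP' (Submodule.mem_sup_right (Ideal.mem_span_singleton_self (t * u)))
    have hPT : P ∈ T := a.h (by
      rw [PrimeSpectrum.mem_zeroLocus]
      exact hJP)
    by_contra hPT''
    obtain ⟨q, hq, hqP⟩ := Ideal.exists_minimalPrimes_le hJP
    have hqprime : q.IsPrime := hq.1.1
    have hqT : (⟨q, hqprime⟩ : PrimeSpectrum A) ∈ T := a.h (by
      rw [PrimeSpectrum.mem_zeroLocus]
      exact hq.1.2)
    have heq : (⟨q, hqprime⟩ : PrimeSpectrum A) = P :=
      hmin P hPT hPT'' ⟨q, hqprime⟩ hqT ((PrimeSpectrum.asIdeal_le_asIdeal _ _).mp hqP)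
    have hqe : q = P.asIdeal := congrArg PrimeSpectrum.asIdeal heq
    have hPF : P.asIdeal ∈ F := by
      rw [← hqe]
      refine ⟨hq, fun hq' h => hPT'' ?_⟩
      rw [← heq]
      exact h
    exact hwS P.asIdeal hPF hwP
  -- the quotient map and its kernel
  let π'' : (A ⧸ a.J) →ₗ[A] (A ⧸ (a.J ⊔ Ideal.span {t * u})) :=
    Submodule.mapQ a.J (a.J ⊔ Ideal.span {t * u}) LinearMap.id le_sup_left
  have hπsurj : Function.Surjective π'' := by
    intro z
    obtain ⟨r, rfl⟩ := Submodule.Quotient.mk_surjective _ z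
    exact ⟨Submodule.Quotient.mk r, rfl⟩
  let Nk : Submodule A (A ⧸ a.J) := LinearMap.ker π''
  let Nu : Submodule A (A ⧸ a.J) := LinearMap.range (u • (LinearMap.id : (A ⧸ a.J) →ₗ[A] (A ⧸ a.J)))
  have hmem : ∀ n : Nu, t • (n : A ⧸ a.J) ∈ Nk := by
    rintro ⟨_, m, rfl⟩
    show π'' (t • (u • m)) = 0
    rw [← mul_smul, map_smul]
    obtain ⟨r, hr⟩ := Submodule.Quotient.mk_surjective _ (π'' m)
    rw [← hr, ← Submodule.Quotient.mk_smul, Submodule.Quotient.mk_eq_zero]
    exact Ideal.mul_mem_right _ _ (Submodule.mem_sup_right (Ideal.mem_span_singleton_self (t * u)))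
  let φ : Nu →ₗ[A] Nk :=
    LinearMap.codRestrict Nk ((t • (LinearMap.id : (A ⧸ a.J) →ₗ[A] (A ⧸ a.J))) ∘ₗ Nu.subtype)
      (fun n => hmem n)
  have hφinj : Function.Injective φ := by
    rw [injective_iff_map_eq_zero]
    rintro ⟨_, m, rfl⟩ h0
    have h1 : t • (u • m) = 0 := congrArg Subtype.val h0
    have h2 : m ∈ torS := ⟨t * u, hwS, by rw [mul_smul]; exact h1⟩
    exact Subtype.ext (hu m h2)
  have hφsurj : Function.Surjective φ := by
    rintro ⟨m, hm⟩
    obtain ⟨m', rfl⟩ := ker_mapQ_sup_span a.J (t * u) m hm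
    refine ⟨⟨u • m', ⟨m', rfl⟩⟩, Subtype.ext ?_⟩
    show t • (u • m') = (t * u) • m'
    rw [mul_smul]
  let e := LinearEquiv.ofBijective φ ⟨hφinj, hφsurj⟩
  -- transposes
  have h1 : Tmap X φ (Tmap X Nk.subtype g) = 0 := by
    rw [← LinearMap.comp_apply, ← Tmap_comp]
    have h0 : Nk.subtype ∘ₗ φ = t • Nu.subtype := by
      apply LinearMap.ext
      intro n
      rfl
    rw [h0, Tmap_smul, LinearMap.smul_apply, ← map_smul, hkill t ht𝔞, map_zero]
  have h2 : Tmap X Nk.subtype g = 0 := by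
    have h3 : Tmap X e.symm.toLinearMap (Tmap X φ (Tmap X Nk.subtype g)) =
        Tmap X Nk.subtype g := by
      rw [← LinearMap.comp_apply, ← Tmap_comp]
      have h0 : φ ∘ₗ e.symm.toLinearMap = LinearMap.id := by
        apply LinearMap.ext
        intro n
        exact e.apply_symm_apply n
      rw [h0, Tmap_id]
      rfl
    rw [← h3, h1, map_zero]
  obtain ⟨g'', hg''⟩ := Tmap_exact X Nk.subtype π'' (Submodule.injective_subtype _) hπsurj
    (LinearMap.exact_subtype_ker_map π'') g h2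
  refine ⟨hxι T'' X ⟨a.J ⊔ Ideal.span {t * u}, hJ''⟩ g'', ?_⟩
  rw [hxRes_ι]
  have hac : res hsub (⟨a.J ⊔ Ideal.span {t * u}, hJ''⟩ : Idx T'') ≤ a :=
    (le_sup_left : a.J ≤ a.J ⊔ Ideal.span {t * u})
  rw [← hxι_compat T X _ a hac g'']
  congr 1

end KL

end Groth.Agent.Helper9.LF1
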