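import Mathlib
import Groth.Prelude.Def_DualLC
import Groth.Agent.Helper9.LT1
import Groth.Agent.Helper9.LT2
import Groth.Agent.Helper9.LF1
import Groth.Agent.Helper9.LF3
import Groth.Agent.Helper6.LD8

/-!
# Layers of a specialization-stable set with respect to a dimension function, and the
ascending induction for annihilators of local cohomology
-/

set_option autoImplicit false
set_option linter.style.haveILetI false
set_option linter.unusedSectionVars false
set_option linter.unusedVariables false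

universe u
open CategoryTheory CategoryTheory.Limits Opposite DerivedCategory Pretriangulated
attribute [local instance] HasDerivedCategory.standard

namespace Groth.Agent.Helper9.LF5
open Groth.Agent.Helper9.LT1 Groth.Agent.Helper9.LT2 Groth.Agent.Helper9.LF1
  Groth.Agent.Helper6.LD

variable {A : Type u} [CommRing A] [IsNoetherianRing A]

/-! ### the dimension function of a dualizing complex -/

theorem exists_delta (ω : Dual.D A) (hω : Dual.IsDualizing A ω) :
    ∃ (δ : PrimeSpectrum A → ℤ) (lo hi : ℤ),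
      (∀ (p : PrimeSpectrum A) (i : ℤ),
        Nontrivial (LocalizedModule p.asIdeal.primeCompl
          (Dual.inD A (A ⧸ p.asIdeal) ⟶ ω⟦i⟧)) ↔ i = -δ p) ∧
      (∀ p q : PrimeSpectrum A, p ⋖ q → δ p = δ q + 1) ∧
      (∀ p q : PrimeSpectrum A, p < q → δ q + 1 ≤ δ p) ∧
      (∀ q : PrimeSpectrum A, lo ≤ δ q ∧ δ q ≤ hi) := by
  obtain ⟨δ, hδ1, hδ2⟩ := exists_dimension_function ω hω
  obtain ⟨a, b, hab⟩ := hω.finite_injective_dimension
  have hbd : ∀ p : PrimeSpectrum A, a ≤ -δ p ∧ -δ p ≤ b := by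
    intro p
    by_contra hcon
    have h1 : Nontrivial (LocalizedModule p.asIdeal.primeCompl
        (Dual.inD A (A ⧸ p.asIdeal) ⟶ ω⟦-δ p⟧)) := (hδ1 p (-δ p)).mpr rfl
    haveI h2 : Subsingleton (Dual.inD A (A ⧸ p.asIdeal) ⟶ ω⟦-δ p⟧) :=
      hab (A ⧸ p.asIdeal) (-δ p) (by omega)
    have h3 : Subsingleton (LocalizedModule p.asIdeal.primeCompl
        (Dual.inD A (A ⧸ p.asIdeal) ⟶ ω⟦-δ p⟧)) :=
      LocalizedModule.subsingleton_iff.mpr (fun m =>
        ⟨1, Submonoid.one_mem _, Subsingleton.elim _ _⟩)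
    exact not_nontrivial_iff_subsingleton.mpr h3 h1
  have hanti : ∀ p q : PrimeSpectrum A, p < q → δ q + 1 ≤ δ p := by
    intro p q hpq
    have hfin : Order.height q ≠ ⊤ := by
      rw [← PrimeSpectrum.height_eq_orderHeight]
      exact (Ideal.height_lt_top q.isPrime.ne_top).ne
    obtain ⟨h, hh⟩ := ENat.ne_top_iff_exists.mp hfin
    exact strictAnti_of_covBy δ hδ2 h q hh.symm p hpq
  refine ⟨δ, -b, -a, hδ1, hδ2, hanti, fun q => ?_⟩
  have := hbd q
  omega

/-! ### heights in `Set.Ici p` -/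

theorem delta_eq_add_height (δ : PrimeSpectrum A → ℤ)
    (hδ2 : ∀ p q : PrimeSpectrum A, p ⋖ q → δ p = δ q + 1) (p : PrimeSpectrum A) :
    ∀ (h : ℕ) (q : PrimeSpectrum A) (hpq : p ≤ q),
      Order.height (⟨q, hpq⟩ : Set.Ici p) = h → δ p = δ q + h := by
  intro h
  induction h with
  | zero =>
    intro q hpq hh
    have hmin : IsMin (⟨q, hpq⟩ : Set.Ici p) := Order.height_eq_zero.mp (by rw [hh]; rfl)
    have hle : (⟨q, hpq⟩ : Set.Ici p) ≤ ⟨p, le_refl p⟩ := hmin (show (⟨p, le_refl p⟩ : Set.Ici p) ≤ ⟨q, hpq⟩ from hpq)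
    have hqp : q ≤ p := hle
    rw [le_antisymm hqp hpq]
    simp
  | succ h ih =>
    intro q hpq hh
    have hh' : Order.height (⟨q, hpq⟩ : Set.Ici p) = (h : ℕ∞) + 1 := by
      rw [hh, Nat.cast_succ]
    obtain ⟨_, ⟨y, hy, hyh⟩, hall⟩ := Order.height_eq_coe_add_one_iff.mp hh'
    obtain ⟨c, hpc⟩ := y
    have hcq : c < q := hy
    have hcov : c ⋖ q := by
      refine ⟨hcq, fun c' hcc' hc'q => ?_⟩
      have h1 : Order.height (⟨c, hpc⟩ : Set.Ici p) + 1 ≤
          Order.height (⟨c', hpc.trans hcc'.le⟩ : Set.Ici p) :=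
        Order.height_add_one_le (show (⟨c, hpc⟩ : Set.Ici p) < ⟨c', hpc.trans hcc'.le⟩ from hcc')
      have h2 : Order.height (⟨c', hpc.trans hcc'.le⟩ : Set.Ici p) ≤ h :=
        hall ⟨c', hpc.trans hcc'.le⟩ (show (⟨c', hpc.trans hcc'.le⟩ : Set.Ici p) < ⟨q, hpq⟩ from hc'q)
      rw [hyh] at h1
      exact lt_irrefl _ ((ENat.add_one_le_iff (ENat.natCast_ne_top h)).mp (h1.trans h2))
    rw [ih c hpc hyh, hδ2 c q hcov]
    push_cast
    ring

theorem exists_height_Ici (p q : PrimeSpectrum A) (hpq : p ≤ q) :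
    ∃ h : ℕ, Order.height (⟨q, hpq⟩ : Set.Ici p) = h := by
  have h1 : Order.height (⟨q, hpq⟩ : Set.Ici p) ≤ Order.height q :=
    Order.height_le_height_apply_of_strictMono (fun x : Set.Ici p => (x : PrimeSpectrum A))
      (fun x y hxy => hxy) ⟨q, hpq⟩
  have hfin : Order.height q ≠ ⊤ := by
    rw [← PrimeSpectrum.height_eq_orderHeight]
    exact (Ideal.height_lt_top q.isPrime.ne_top).ne
  have hfin' : Order.height (⟨q, hpq⟩ : Set.Ici p) ≠ ⊤ := fun h => hfin (top_le_iff.mp (h ▸ h1))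
  obtain ⟨h, hh⟩ := ENat.ne_top_iff_exists.mp hfin'
  exact ⟨h, hh.symm⟩

/-! ### powers of a minimal prime -/

lemma exists_pow_smul_le (J q : Ideal A) [hq : q.IsPrime]
    (hmin : ∀ q' ∈ Ideal.minimalPrimes J, q' ≤ q → q' = q) :
    ∃ (k : ℕ) (f₀ : A), f₀ ∉ q ∧ ∀ r ∈ q ^ k, f₀ * r ∈ J := by
  classical
  have hfin := Ideal.finite_minimalPrimes_of_isNoetherianRing A J
  let F : Finset (Ideal A) := hfin.toFinset.erase q
  have hF : ∀ q' ∈ F, ∃ c ∈ q', c ∉ q := by
    intro q' hq'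
    rw [Finset.mem_erase, Set.Finite.mem_toFinset] at hq'
    by_contra hcon
    push Not at hcon
    exact hq'.1 (hmin q' hq'.2 hcon)
  choose! c hc1 hc2 using hF
  have hf₁q : (∏ q' ∈ F, c q') ∉ q := by
    intro h
    obtain ⟨q', hq', hcq⟩ := (Ideal.IsPrime.prod_mem_iff).1 h
    exact hc2 q' hq' hcq
  have hrad : Ideal.span {∏ q' ∈ F, c q'} * q ≤ J.radical := by
    rw [← Ideal.sInf_minimalPrimes, Ideal.mul_le]
    intro a ha b hb
    rw [Ideal.mem_sInf]
    intro q' hq'
    obtain ⟨a', rfl⟩ := Ideal.mem_span_singleton'.1 ha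
    by_cases hqq : q' = q
    · rw [hqq]
      exact Ideal.mul_mem_left _ _ hb
    · have hq'F : q' ∈ F := by
        rw [Finset.mem_erase, Set.Finite.mem_toFinset]
        exact ⟨hqq, hq'⟩
      have h1 : (∏ q' ∈ F, c q') ∈ q' := by
        rw [← Finset.mul_prod_erase F c hq'F]
        exact Ideal.mul_mem_right _ _ (hc1 q' hq'F)
      exact Ideal.mul_mem_right _ _ (Ideal.mul_mem_left _ _ h1)
  obtain ⟨k, hk⟩ := Ideal.exists_radical_pow_le_of_fg J (IsNoetherian.noetherian _)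
  refine ⟨k, (∏ q' ∈ F, c q') ^ k, fun h => hf₁q (hq.mem_of_pow_mem k h), fun r hr => ?_⟩
  have h1 : (Ideal.span {∏ q' ∈ F, c q'} * q) ^ k ≤ J := (Ideal.pow_right_mono hrad k).trans hk
  apply h1
  rw [mul_pow, Ideal.span_singleton_pow]
  exact Ideal.mul_mem_mul (Ideal.mem_span_singleton_self _) hr

/-! ### localizing classes at a minimal element of the support -/

variable {T : Set (PrimeSpectrum A)}

theorem L1 (hT : StableUnderSpecialization T) (q : PrimeSpectrum A) (hqT : q ∈ T)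
    (hqmin : ∀ p ∈ T, p ≤ q → p = q) (X : Dual.D A) (x : A)
    (H : ∀ y₁ : HX (PrimeSpectrum.zeroLocus (q.asIdeal : Set A)) X,
      ∃ f : A, f ∉ q.asIdeal ∧ (f * x) • y₁ = 0)
    (y : HX T X) : ∃ f : A, f ∉ q.asIdeal ∧ (f * x) • y = 0 := by
  obtain ⟨a, g, rfl⟩ := hx_exists_rep T X y
  have hVq : PrimeSpectrum.zeroLocus (q.asIdeal : Set A) ⊆ T := by
    intro P hP
    rw [PrimeSpectrum.mem_zeroLocus] at hP
    exact hT ((PrimeSpectrum.le_iff_specializes q P).mp
      ((PrimeSpectrum.asIdeal_le_asIdeal _ _).mp hP)) hqT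
  obtain ⟨k, f₀, hf₀, hk⟩ := exists_pow_smul_le a.J q.asIdeal (by
    intro q' hq' hle
    have hq'prime : q'.IsPrime := hq'.1.1
    have h1 : (⟨q', hq'prime⟩ : PrimeSpectrum A) ∈ T := a.h (by
      rw [PrimeSpectrum.mem_zeroLocus]
      exact hq'.1.2)
    have := hqmin ⟨q', hq'prime⟩ h1 ((PrimeSpectrum.asIdeal_le_asIdeal _ _).mp hle)
    exact congrArg PrimeSpectrum.asIdeal this)
  let τ : (A ⧸ q.asIdeal ^ k) →ₗ[A] (A ⧸ a.J) :=
    Submodule.mapQ (q.asIdeal ^ k) a.J (f₀ • LinearMap.id) (by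
      intro r hr
      rw [Submodule.mem_comap, LinearMap.smul_apply, LinearMap.id_apply, smul_eq_mul]
      exact hk r hr)
  obtain ⟨f, hf, hfy⟩ := H (hxι _ X (Groth.Agent.Helper9.LF3.powIdx q.asIdeal k) (Tmap X τ g))
  have hres : hxRes hVq X (hxι _ X (Groth.Agent.Helper9.LF3.powIdx q.asIdeal k) (Tmap X τ g)) =
      f₀ • hxι T X a g := by
    rw [hxRes_ι]
    rw [← hxι_compat T X (res hVq (Groth.Agent.Helper9.LF3.powIdx q.asIdeal k))
        ((res hVq (Groth.Agent.Helper9.LF3.powIdx q.asIdeal k)).inf T a)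
        ((res hVq (Groth.Agent.Helper9.LF3.powIdx q.asIdeal k)).le_inf_left T a) (Tmap X τ g),
      ← hxι_compat T X a ((res hVq (Groth.Agent.Helper9.LF3.powIdx q.asIdeal k)).inf T a)
        ((res hVq (Groth.Agent.Helper9.LF3.powIdx q.asIdeal k)).le_inf_right T a) g, ← map_smul]
    congr 1
    rw [gmap_eq_Tmap, gmap_eq_Tmap, ← LinearMap.comp_apply, ← Tmap_comp, ← LinearMap.smul_apply,
      ← Tmap_smul]
    congr 2
    apply LinearMap.ext
    intro z
    obtain ⟨r, rfl⟩ := Submodule.Quotient.mk_surjective _ z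
    rfl
  refine ⟨f * f₀, fun h => (q.isPrime.mem_or_mem h).elim hf hf₀, ?_⟩
  have h1 : ((f * f₀) * x) • hxι T X a g = (f * x) • (f₀ • hxι T X a g) := by
    rw [← mul_smul]
    congr 1
    ring
  rw [h1, ← hres, ← map_smul, hfy, map_zero]

/-! ### layers -/

section Layers

/-- the layers of `T` -/
def layer (δ : PrimeSpectrum A → ℤ) (T : Set (PrimeSpectrum A)) (n : ℤ) :
    Set (PrimeSpectrum A) := {q | q ∈ T ∧ δ q ≤ n}

lemma layer_mono (δ : PrimeSpectrum A → ℤ) (T : Set (PrimeSpectrum A)) {n n' : ℤ} (h : n ≤ n') :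
    layer δ T n ⊆ layer δ T n' :=
  fun q hq => ⟨hq.1, hq.2.trans h⟩

variable {δ : PrimeSpectrum A → ℤ}

lemma layer_stable (hT : StableUnderSpecialization T)
    (hanti : ∀ p q : PrimeSpectrum A, p < q → δ q + 1 ≤ δ p) (n : ℤ) :
    StableUnderSpecialization (layer δ T n) := by
  intro x y hxy hx
  refine ⟨hT hxy hx.1, ?_⟩
  have hle : x ≤ y := (PrimeSpectrum.le_iff_specializes x y).mpr hxy
  rcases eq_or_lt_of_le hle with rfl | hlt
  · exact hx.2
  · have h1 := hanti x y hlt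
    have h2 : δ x ≤ n := hx.2
    omega

/-- the layer step -/
theorem layer_step (hT : StableUnderSpecialization T)
    (hanti : ∀ p q : PrimeSpectrum A, p < q → δ q + 1 ≤ δ p) (n : ℤ) (X : Dual.D A)
    (𝔟 Js : Ideal A) (hprev : Ann (layer δ T (n - 1)) 𝔟 X)
    (H : ∀ q ∈ T, δ q = n → ∀ x ∈ Js,
      ∀ y₁ : HX (PrimeSpectrum.zeroLocus (q.asIdeal : Set A)) X,
        ∃ f : A, f ∉ q.asIdeal ∧ (f * x) • y₁ = 0) :
    Ann (layer δ T n) (𝔟 * Js) X := by
  have hsub : layer δ T (n - 1) ⊆ layer δ T n := layer_mono δ T (by omega)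
  have hmin : ∀ q ∈ layer δ T n, q ∉ layer δ T (n - 1) → ∀ p ∈ layer δ T n, p ≤ q → p = q := by
    intro q hq hq' p hp hpq
    rcases eq_or_lt_of_le hpq with h | h
    · exact h
    · exfalso
      have h1 := hanti p q h
      have h2 : ¬ δ q ≤ n - 1 := fun h' => hq' ⟨hq.1, h'⟩
      have h3 : δ p ≤ n := hp.2
      omega
  have key : ∀ x' ∈ 𝔟, ∀ x ∈ Js, ∀ y : HX (layer δ T n) X, (x' * x) • y = 0 := by
    intro x' hx' x hx y
    have h𝔞 : PrimeSpectrum.zeroLocus
        ((LinearMap.ker (LinearMap.toSpanSingleton A (HX (layer δ T n) X) (x • y)) : Ideal A) :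
          Set A) ⊆ layer δ T (n - 1) := by
      intro P hP
      rw [PrimeSpectrum.mem_zeroLocus] at hP
      obtain ⟨a, g, hag⟩ := hx_exists_rep (layer δ T n) X y
      have haJ : a.J ≤ LinearMap.ker (LinearMap.toSpanSingleton A (HX (layer δ T n) X) (x • y)) := by
        intro r hr
        rw [LinearMap.mem_ker, LinearMap.toSpanSingleton_apply, smul_comm, ← hag,
          smul_hxι_eq_zero X a g r hr, smul_zero]
      have hPn : P ∈ layer δ T n := a.h (by
        rw [PrimeSpectrum.mem_zeroLocus]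
        exact fun r hr => hP (haJ hr))
      by_contra hPn'
      have hδP : δ P = n := by
        have h2 : ¬ δ P ≤ n - 1 := fun h' => hPn' ⟨hPn.1, h'⟩
        have h3 : δ P ≤ n := hPn.2
        omega
      obtain ⟨f, hf, hfy⟩ := L1 (layer_stable hT hanti n) P hPn
        (fun p hp hpP => hmin P hPn hPn' p hp hpP) X x (H P hPn.1 hδP x hx) y
      apply hf
      apply hP
      show f ∈ LinearMap.ker (LinearMap.toSpanSingleton A (HX (layer δ T n) X) (x • y))
      rw [LinearMap.mem_ker, LinearMap.toSpanSingleton_apply, ← mul_smul]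
      exact hfy
    obtain ⟨y'', hy''⟩ := KL hsub hmin (x • y) _ h𝔞 (fun r hr => by
      rw [LinearMap.mem_ker, LinearMap.toSpanSingleton_apply] at hr
      exact hr)
    rw [mul_smul, ← hy'', ← map_smul, hprev x' hx' y'', map_zero]
  intro z hz y
  refine Submodule.mul_induction_on hz ?_ ?_
  · intro x' hx' x hx
    exact key x' hx' x hx y
  · intro z z' h h'
    rw [add_smul, h, h', add_zero]

/-- **the ascending induction over layers** -/
theorem layers_main (hT : StableUnderSpecialization T)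
    (hanti : ∀ p q : PrimeSpectrum A, p < q → δ q + 1 ≤ δ p) (lo hi : ℤ)
    (hbd : ∀ q : PrimeSpectrum A, lo ≤ δ q ∧ δ q ≤ hi) (X : Dual.D A) (Js : Ideal A)
    (H : ∀ q ∈ T, ∀ x ∈ Js, ∀ y₁ : HX (PrimeSpectrum.zeroLocus (q.asIdeal : Set A)) X,
      ∃ f : A, f ∉ q.asIdeal ∧ (f * x) • y₁ = 0) :
    Ann T (Js ^ (hi - lo + 1).toNat) X := by
  have step : ∀ k : ℕ, Ann (layer δ T (lo - 1 + k)) (Js ^ k) X := by
    intro k
    induction k with
    | zero =>
      apply Ann.of_subsingleton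
      apply subsingleton_of_empty
      ext q
      simp only [layer, Set.mem_ofPred_eq, Set.mem_empty_iff_false, iff_false, not_and]
      intro _
      have := (hbd q).1
      push_cast
      omega
    | succ k ih =>
      have h1 : lo - 1 + ((k + 1 : ℕ) : ℤ) - 1 = lo - 1 + (k : ℤ) := by
        push_cast
        ring
      have h2 := layer_step hT hanti (lo - 1 + ((k + 1 : ℕ) : ℤ)) X (Js ^ k) Js
        (by rw [h1]; exact ih) (fun q hq _ => H q hq)
      rw [pow_succ]
      exact h2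
  have h := step (hi - lo + 1).toNat
  have hT' : layer δ T (lo - 1 + ((hi - lo + 1).toNat : ℤ)) = T := by
    ext q
    constructor
    · exact fun h => h.1
    · intro hq
      refine ⟨hq, ?_⟩
      have h1 := (hbd q).1
      have h2 := (hbd q).2
      omega
  rw [hT'] at h
  exact h

end Layers

end Groth.Agent.Helper9.LF5
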