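import Mathlib

/-!
# The torsion submodule of a module with respect to a specialization-stable set of primes
-/

set_option autoImplicit false
set_option linter.style.haveILetI false
set_option linter.unusedSectionVars false
set_option linter.unusedVariables false

universe u v w

namespace Groth.Agent.Helper9.LT4

variable {A : Type u} [CommRing A] (T : Set (PrimeSpectrum A))
variable (M : Type v) [AddCommGroup M] [Module A M]

/-- the elements of `M` killed by an ideal with zero locus in `T` -/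
def tors : Submodule A M where
  carrier := {m | ∃ J : Ideal A, PrimeSpectrum.zeroLocus (J : Set A) ⊆ T ∧ ∀ x ∈ J, x • m = 0}
  add_mem' := by
    rintro m m' ⟨J, hJ, h⟩ ⟨J', hJ', h'⟩
    refine ⟨J ⊓ J', ?_, fun x hx => ?_⟩
    · rw [PrimeSpectrum.zeroLocus_inf]
      exact Set.union_subset hJ hJ'
    · rw [smul_add, h x hx.1, h' x hx.2, add_zero]
  zero_mem' := ⟨⊤, by simp, fun x _ => smul_zero x⟩
  smul_mem' := by
    rintro c m ⟨J, hJ, h⟩
    exact ⟨J, hJ, fun x hx => by rw [smul_comm, h x hx, smul_zero]⟩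

variable {T M}

lemma mem_tors {m : M} : m ∈ tors T M ↔
    ∃ J : Ideal A, PrimeSpectrum.zeroLocus (J : Set A) ⊆ T ∧ ∀ x ∈ J, x • m = 0 := Iff.rfl

lemma mem_tors_of_equiv {M' : Type w} [AddCommGroup M'] [Module A M'] (φ : M →ₗ[A] M')
    {m : M} (hm : m ∈ tors T M) : φ m ∈ tors T M' := by
  obtain ⟨J, hJ, h⟩ := hm
  exact ⟨J, hJ, fun x hx => by rw [← map_smul, h x hx, map_zero]⟩

lemma mem_tors_iff_of_injective {M' : Type w} [AddCommGroup M'] [Module A M'] (φ : M →ₗ[A] M')
    (hφ : Function.Injective φ) {m : M} : φ m ∈ tors T M' ↔ m ∈ tors T M := by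
  refine ⟨fun hm => ?_, mem_tors_of_equiv φ⟩
  obtain ⟨J, hJ, h⟩ := hm
  refine ⟨J, hJ, fun x hx => hφ ?_⟩
  rw [map_smul, h x hx, map_zero]

/-- a finitely generated submodule of the torsion is killed by a single ideal -/
lemma exists_kill_of_fg (N : Submodule A M) (hN : N.FG) (hle : N ≤ tors T M) :
    ∃ J : Ideal A, PrimeSpectrum.zeroLocus (J : Set A) ⊆ T ∧ ∀ x ∈ J, ∀ m ∈ N, x • m = 0 := by
  revert hle
  refine Submodule.fg_induction
    (motive := fun N _ => N ≤ tors T M → ∃ J : Ideal A, PrimeSpectrum.zeroLocus (J : Set A) ⊆ T ∧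
      ∀ x ∈ J, ∀ m ∈ N, x • m = 0) ?_ ?_ N hN
  · intro m hm
    obtain ⟨J, hJ, h⟩ := hm (Submodule.mem_span_singleton_self m)
    refine ⟨J, hJ, fun x hx m' hm' => ?_⟩
    obtain ⟨r, rfl⟩ := Submodule.mem_span_singleton.1 hm'
    rw [smul_comm, h x hx, smul_zero]
  · intro N₁ N₂ _ _ h₁ h₂ hle
    obtain ⟨J₁, hJ₁, k₁⟩ := h₁ (le_sup_left.trans hle)
    obtain ⟨J₂, hJ₂, k₂⟩ := h₂ (le_sup_right.trans hle)
    refine ⟨J₁ ⊓ J₂, ?_, fun x hx m hm => ?_⟩
    · rw [PrimeSpectrum.zeroLocus_inf]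
      exact Set.union_subset hJ₁ hJ₂
    · obtain ⟨m₁, hm₁, m₂, hm₂, rfl⟩ := Submodule.mem_sup.1 hm
      rw [smul_add, k₁ x hx.1 m₁ hm₁, k₂ x hx.2 m₂ hm₂, add_zero]

section Noeth

variable [IsNoetherianRing A] [Module.Finite A M]

variable (T M) in
/-- the torsion of a finite module over a Noetherian ring is killed by one ideal -/
theorem exists_kill :
    ∃ J : Ideal A, PrimeSpectrum.zeroLocus (J : Set A) ⊆ T ∧
      ∀ x ∈ J, ∀ m ∈ tors T M, x • m = 0 := by
  haveI : IsNoetherian A M := isNoetherian_of_isNoetherianRing_of_finite A M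
  exact exists_kill_of_fg (tors T M) (IsNoetherian.noetherian _) le_rfl

/-- the quotient by the torsion is torsion free -/
theorem tors_quot_eq_bot {Q : Type w} [AddCommGroup Q] [Module A Q] (β : M →ₗ[A] Q)
    (hβ : Function.Surjective β) (hker : ∀ m : M, β m = 0 ↔ m ∈ tors T M) :
    tors T Q = ⊥ := by
  rw [Submodule.eq_bot_iff]
  intro z hz
  obtain ⟨J, hJ, h⟩ := hz
  obtain ⟨m, rfl⟩ := hβ z
  obtain ⟨J₀, hJ₀, h₀⟩ := exists_kill T M
  have hm : m ∈ tors T M := by
    refine ⟨J₀ * J, ?_, fun w hw => ?_⟩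
    · rw [PrimeSpectrum.zeroLocus_mul]
      exact Set.union_subset hJ₀ hJ
    · refine Submodule.mul_induction_on hw ?_ ?_
      · intro y hy x hx
        have h1 : x • m ∈ tors T M := (hker _).1 (by rw [map_smul, h x hx])
        rw [mul_smul, h₀ y hy _ h1]
      · intro y y' hy hy'
        rw [add_smul, hy, hy', add_zero]
  exact (hker m).2 hm

/-- a torsion free finite module admits a regular element in every ideal with zero locus
in `T` -/
theorem exists_regular (hT : StableUnderSpecialization T) (hM : tors T M = ⊥) (J : Ideal A)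
    (hJ : PrimeSpectrum.zeroLocus (J : Set A) ⊆ T) :
    ∃ x ∈ J, ∀ m : M, x • m = 0 → m = 0 := by
  by_contra hcon
  push Not at hcon
  have hsub : (J : Set A) ⊆ ⋃ p ∈ associatedPrimes A M, (p : Set A) := by
    rw [biUnion_associatedPrimes_eq_zero_divisors]
    intro x hx
    obtain ⟨m, hm, hm'⟩ := hcon x hx
    exact ⟨m, hm', hm⟩
  obtain ⟨p, hp, hJp⟩ := (Ideal.subset_union_prime_finite (associatedPrimes.finite A M) ⊤ ⊤
    (fun i hi _ _ => hi.isPrime)).1 hsub
  obtain ⟨hprime, m, hpm⟩ := isAssociatedPrime_iff.1 hp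
  have hm : m ∈ tors T M := by
    refine ⟨p, ?_, fun x hx => ?_⟩
    · intro q hq
      have hpT : (⟨p, hprime⟩ : PrimeSpectrum A) ∈ T := hJ (by
        rw [PrimeSpectrum.mem_zeroLocus]
        exact hJp)
      refine hT ?_ hpT
      rw [← PrimeSpectrum.le_iff_specializes]
      rw [PrimeSpectrum.mem_zeroLocus] at hq
      exact hq
    · rw [hpm, Submodule.mem_colon_singleton] at hx
      simpa using hx
  rw [hM, Submodule.mem_bot] at hm
  subst hm
  apply hprime.ne_top
  rw [hpm, Ideal.eq_top_iff_one, Submodule.mem_colon_singleton]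
  simp

end Noeth

end Groth.Agent.Helper9.LT4
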