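import Mathlib
import Groth.Prelude.Def_DualLC
import Groth.Agent.Helper9.LT0
import Groth.Agent.Helper9.LT4
import Groth.Agent.Helper1.DerTrunc
import Groth.Agent.Helper3.DRingDev

/-!
# Two operations on objects of `D^{≥0}(A)` with finite cohomology: splitting off the torsion of
`H^0`, and the cone of a scalar regular on `H^0`
-/

set_option autoImplicit false
set_option linter.style.haveILetI false
set_option linter.unusedSectionVars false
set_option linter.unusedVariables false

universe u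
open CategoryTheory CategoryTheory.Limits Opposite DerivedCategory Pretriangulated
attribute [local instance] HasDerivedCategory.standard

namespace Groth.Agent.Helper9.LT5
open Groth.Agent.Helper9.LT0 Groth.Agent.Helper9.LT4 Groth.Agent.Helper3.DRingLib
  Groth.Agent.Helper1.DerTrunc

variable {A : Type u} [CommRing A]

/-! ### elementwise long exact sequence -/

section LES

variable (Tr : Triangle (Dual.D A)) (hTr : Tr ∈ distTriang _)
include hTr

lemma les₂ (n : ℤ) (y : Dual.HD A Tr.obj₂ n)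
    (hy : ((homologyFunctor (ModuleCat.{u} A) n).map Tr.mor₂).hom y = 0) :
    ∃ x : Dual.HD A Tr.obj₁ n, ((homologyFunctor (ModuleCat.{u} A) n).map Tr.mor₁).hom x = y := by
  have h := (ShortComplex.moduleCat_exact_iff_ker_sub_range _).1 (HomologySequence.exact₂ Tr hTr n)
  exact h (LinearMap.mem_ker.2 hy)

lemma les₂_zero (n : ℤ) (x : Dual.HD A Tr.obj₁ n) :
    ((homologyFunctor (ModuleCat.{u} A) n).map Tr.mor₂).hom
      (((homologyFunctor (ModuleCat.{u} A) n).map Tr.mor₁).hom x) = 0 := by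
  have h : (homologyFunctor (ModuleCat.{u} A) n).map Tr.mor₁ ≫
      (homologyFunctor (ModuleCat.{u} A) n).map Tr.mor₂ = 0 := by
    rw [← Functor.map_comp, comp_distTriang_mor_zero₁₂ _ hTr, Functor.map_zero]
  exact LinearMap.congr_fun (congrArg ModuleCat.Hom.hom h) x

lemma les₃ (n₀ n₁ : ℤ) (h : n₀ + 1 = n₁) (z : Dual.HD A Tr.obj₃ n₀)
    (hz : (HomologySequence.δ Tr n₀ n₁ h).hom z = 0) :
    ∃ y : Dual.HD A Tr.obj₂ n₀, ((homologyFunctor (ModuleCat.{u} A) n₀).map Tr.mor₂).hom y = z := by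
  have h := (ShortComplex.moduleCat_exact_iff_ker_sub_range _).1
    (HomologySequence.exact₃ Tr hTr n₀ n₁ h)
  exact h (LinearMap.mem_ker.2 hz)

lemma les₁_zero (n₀ n₁ : ℤ) (h : n₀ + 1 = n₁) (z : Dual.HD A Tr.obj₃ n₀) :
    ((homologyFunctor (ModuleCat.{u} A) n₁).map Tr.mor₁).hom
      ((HomologySequence.δ Tr n₀ n₁ h).hom z) = 0 :=
  LinearMap.congr_fun (congrArg ModuleCat.Hom.hom (HomologySequence.δ_comp Tr hTr n₀ n₁ h)) z

end LES

/-! ### finiteness of a middle term -/

lemma finite_mid' [IsNoetherianRing A] {M₁ M₂ M₃ : Type u} [AddCommGroup M₁] [AddCommGroup M₂]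
    [AddCommGroup M₃] [Module A M₁] [Module A M₂] [Module A M₃] (f : M₁ →ₗ[A] M₂)
    (g : M₂ →ₗ[A] M₃) (hex : ∀ x, g x = 0 → ∃ y, f y = x)
    (h1 : Module.Finite A M₁) (h3 : Module.Finite A M₃) : Module.Finite A M₂ := by
  haveI : IsNoetherian A M₁ := isNoetherian_of_isNoetherianRing_of_finite A M₁
  haveI : IsNoetherian A M₃ := isNoetherian_of_isNoetherianRing_of_finite A M₃
  refine ⟨Submodule.fg_of_fg_map_of_fg_inf_ker g (IsNoetherian.noetherian _) ?_⟩
  have h : (⊤ : Submodule A M₂) ⊓ LinearMap.ker g =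
      Submodule.map f (Submodule.comap f (LinearMap.ker g)) := by
    ext x
    constructor
    · rintro ⟨-, hx⟩
      obtain ⟨y, rfl⟩ := hex x hx
      exact ⟨y, hx, rfl⟩
    · rintro ⟨y, hy, rfl⟩
      exact ⟨trivial, hy⟩
  rw [h]
  exact (IsNoetherian.noetherian _).map f

/-- the cohomology of a finite module placed in degree zero is finite -/
lemma finite_HD_inD (N : Type u) [AddCommGroup N] [Module A N] [Module.Finite A N] (j : ℤ) :
    Module.Finite A (Dual.HD A (Dual.inD A N) j) := by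
  by_cases hj : j = 0
  · subst hj
    let e : Dual.HD A (Dual.inD A N) 0 ≃ₗ[A] N :=
      ((singleFunctorCompHomologyFunctorIso (ModuleCat.{u} A) 0).app
        (ModuleCat.of A N)).toLinearEquiv
    exact Module.Finite.equiv e.symm
  · have hs : Subsingleton (Dual.HD A (Dual.inD A N) j) := by
      rcases lt_or_gt_of_ne hj with h | h
      · exact subsingleton_HD_of_isGE (Dual.inD A N) 0 j h
      · exact subsingleton_HD_of_isLE (Dual.inD A N) 0 j h
    exact Module.Finite.of_surjective (0 : A →ₗ[A] _) (fun y => ⟨0, Subsingleton.elim _ _⟩)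

/-! ### the cone of a regular scalar -/

lemma homology_smul_id (K : Dual.D A) (n : ℤ) (x : A) (m : Dual.HD A K n) :
    ((homologyFunctor (ModuleCat.{u} A) n).map (x • 𝟙 K)).hom m = x • m := by
  rw [Functor.map_smul, CategoryTheory.Functor.map_id, ModuleCat.hom_smul, ModuleCat.hom_id,
    LinearMap.smul_apply, LinearMap.id_apply]

theorem exists_cone [IsNoetherianRing A] (K : Dual.D A) [K.IsGE 0]
    (hK : ∀ i : ℤ, Module.Finite A (Dual.HD A K i)) (x : A)
    (hx : ∀ m : Dual.HD A K 0, x • m = 0 → m = 0) :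
    ∃ (C : Dual.D A) (g : K ⟶ C) (h : C ⟶ K⟦(1 : ℤ)⟧),
      Triangle.mk (x • 𝟙 K) g h ∈ distTriang _ ∧ C.IsGE 0 ∧
        ∀ i : ℤ, Module.Finite A (Dual.HD A C i) := by
  obtain ⟨C, g, h, hTr⟩ := distinguished_cocone_triangle (x • 𝟙 K)
  refine ⟨C, g, h, hTr, ?_, ?_⟩
  · refine isGE_of_HD C 0 (fun i hi => ⟨fun z z' => ?_⟩)
    suffices hz : ∀ z : Dual.HD A C i, z = 0 by rw [hz z, hz z']
    intro z
    have hδ : (HomologySequence.δ (Triangle.mk (x • 𝟙 K) g h) i (i + 1) rfl).hom z = 0 := by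
      by_cases h1 : i + 1 = 0
      · obtain rfl : i = -1 := by omega
        have h2 : ((homologyFunctor (ModuleCat.{u} A) 0).map (x • 𝟙 K)).hom
            ((HomologySequence.δ (Triangle.mk (x • 𝟙 K) g h) (-1) 0 (by norm_num)).hom z) = 0 :=
          les₁_zero _ hTr (-1) 0 (by norm_num) z
        rw [homology_smul_id] at h2
        exact hx _ h2
      · have hs := subsingleton_HD_of_isGE K 0 (i + 1) (by omega)
        exact hs.elim _ _
    obtain ⟨y, rfl⟩ := les₃ _ hTr i (i + 1) rfl z hδ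
    have hs := subsingleton_HD_of_isGE K 0 i hi
    have hy : y = 0 := hs.elim _ _
    rw [hy]
    exact map_zero _
  · intro i
    exact finite_mid' _ _ (les₃ _ hTr i (i + 1) rfl) (hK i) (hK (i + 1))

/-! ### a module mapping to an object of `D^{≥0}` inducing an isomorphism on `H^0` -/

theorem exists_single_map (K : Dual.D A) [K.IsGE 0] :
    ∃ (Y : ModuleCat.{u} A) (ε : (singleFunctor (ModuleCat.{u} A) 0).obj Y ⟶ K),
      IsIso ((homologyFunctor (ModuleCat.{u} A) 0).map ε) := by
  let τ : Dual.D A := ((tD (ModuleCat.{u} A)).truncLT 1).obj K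
  let ιτ : τ ⟶ K := ((tD (ModuleCat.{u} A)).truncLTι 1).app K
  have hT := (tD (ModuleCat.{u} A)).triangleLTGE_distinguished 1 K
  haveI : (((tD (ModuleCat.{u} A)).triangleLTGE 1).obj K).obj₃.IsGE (0 + 1) := by
    show (((tD (ModuleCat.{u} A)).triangleLTGE 1).obj K).obj₃.IsGE 1
    infer_instance
  haveI h1 : IsIso ((homologyFunctor (ModuleCat.{u} A) 0).map ιτ) :=
    isIso_HD_mor₁ _ hT 0 0 le_rfl
  haveI : τ.IsLE 0 := (tD (ModuleCat.{u} A)).isLE_truncLT_obj K 1 0
  haveI : τ.IsGE 0 := by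
    refine isGE_of_HD τ 0 (fun i hi => ?_)
    haveI := mono_homologyMap_truncLTι K 1 i (by omega)
    have hinj := (ModuleCat.mono_iff_injective
      ((homologyFunctor (ModuleCat.{u} A) i).map (((tD (ModuleCat.{u} A)).truncLTι 1).app K))).1
      inferInstance
    have hs := subsingleton_HD_of_isGE K 0 i hi
    exact @Function.Injective.subsingleton _ _ _ hinj hs
  obtain ⟨Y, ⟨e⟩⟩ := exists_iso_singleFunctor_obj_of_isGE_of_isLE τ 0
  refine ⟨Y, e.inv ≫ ιτ, ?_⟩
  rw [Functor.map_comp]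
  infer_instance

/-! ### splitting off the torsion of `H^0` -/

theorem exists_torsion_triangle [IsNoetherianRing A] (T : Set (PrimeSpectrum A)) (K : Dual.D A)
    [K.IsGE 0] (hK : ∀ i : ℤ, Module.Finite A (Dual.HD A K i)) :
    ∃ (N : ModuleCat.{u} A) (J₀ : Ideal A) (K'' : Dual.D A) (f : Dual.inD A N ⟶ K) (g : K ⟶ K'')
      (h : K'' ⟶ (Dual.inD A N)⟦(1 : ℤ)⟧),
      Triangle.mk f g h ∈ distTriang _ ∧ PrimeSpectrum.zeroLocus (J₀ : Set A) ⊆ T ∧
        (∀ x ∈ J₀, ∀ m : N, x • m = 0) ∧ Module.Finite A N ∧ K''.IsGE 0 ∧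
        (∀ i : ℤ, Module.Finite A (Dual.HD A K'' i)) ∧ tors T (Dual.HD A K'' 0) = ⊥ := by
  obtain ⟨Y, ε, hε⟩ := exists_single_map K
  let θY := (singleFunctorCompHomologyFunctorIso (ModuleCat.{u} A) 0).app Y
  let ψ : Y ≃ₗ[A] Dual.HD A K 0 :=
    (θY.symm ≪≫ asIso ((homologyFunctor (ModuleCat.{u} A) 0).map ε)).toLinearEquiv
  haveI : Module.Finite A (Dual.HD A K 0) := hK 0
  haveI hYfin : Module.Finite A Y := Module.Finite.equiv ψ.symm
  haveI : IsNoetherian A Y := isNoetherian_of_isNoetherianRing_of_finite A Y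
  let N : ModuleCat.{u} A := ModuleCat.of A (tors T Y)
  let ι : N ⟶ Y := ModuleCat.ofHom (tors T Y).subtype
  let θN := (singleFunctorCompHomologyFunctorIso (ModuleCat.{u} A) 0).app N
  let f : Dual.inD A N ⟶ K := (singleFunctor (ModuleCat.{u} A) 0).map ι ≫ ε
  obtain ⟨K'', g, h, hTr⟩ := distinguished_cocone_triangle f
  obtain ⟨J₀, hJ₀, hkill⟩ := exists_kill T Y
  haveI hNfin : Module.Finite A N := Module.IsNoetherian.finite A (tors T Y)
  -- the key formula for `H^0(f)`
  have key : ∀ v : Dual.HD A (Dual.inD A N) 0,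
      ((homologyFunctor (ModuleCat.{u} A) 0).map f).hom v = ψ (ι.hom (θN.hom.hom v)) := by
    intro v
    have h1 := (singleFunctorCompHomologyFunctorIso (ModuleCat.{u} A) 0).hom.naturality ι
    have h2 : ((homologyFunctor (ModuleCat.{u} A) 0).map
        ((singleFunctor (ModuleCat.{u} A) 0).map ι)) = θN.hom ≫ ι ≫ θY.inv := by
      rw [← Category.assoc, Iso.eq_comp_inv]
      exact h1
    show ((homologyFunctor (ModuleCat.{u} A) 0).map
      ((singleFunctor (ModuleCat.{u} A) 0).map ι ≫ ε)).hom v = _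
    rw [Functor.map_comp, h2]
    rfl
  have hfinN : ∀ j : ℤ, Module.Finite A (Dual.HD A (Dual.inD A N) j) := fun j =>
    finite_HD_inD (tors T Y) j
  have hinjα : ∀ v : Dual.HD A (Dual.inD A N) 0,
      ((homologyFunctor (ModuleCat.{u} A) 0).map f).hom v = 0 → v = 0 := by
    intro v hv
    rw [key] at hv
    have h1 : ι.hom (θN.hom.hom v) = 0 := ψ.injective (by rw [hv, map_zero])
    have h2 : θN.hom.hom v = 0 := Subtype.ext h1
    have h3 : θN.inv.hom (θN.hom.hom v) = v := by
      show (θN.hom ≫ θN.inv).hom v = v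
      rw [Iso.hom_inv_id]
      rfl
    rw [← h3, h2, map_zero]
  refine ⟨N, J₀, K'', f, g, h, hTr, hJ₀, ?_, hNfin, ?_, ?_, ?_⟩
  · intro x hx m
    exact Subtype.ext (hkill x hx m.1 m.2)
  · refine isGE_of_HD K'' 0 (fun i hi => ⟨fun z z' => ?_⟩)
    suffices hz : ∀ z : Dual.HD A K'' i, z = 0 by rw [hz z, hz z']
    intro z
    have hδ : (HomologySequence.δ (Triangle.mk f g h) i (i + 1) rfl).hom z = 0 := by
      by_cases h1 : i + 1 = 0
      · obtain rfl : i = -1 := by omega
        have h2 : ((homologyFunctor (ModuleCat.{u} A) 0).map f).hom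
            ((HomologySequence.δ (Triangle.mk f g h) (-1) 0 (by norm_num)).hom z) = 0 :=
          les₁_zero _ hTr (-1) 0 (by norm_num) z
        exact hinjα _ h2
      · have hs : Subsingleton (Dual.HD A (Dual.inD A N) (i + 1)) := by
          rcases lt_or_gt_of_ne h1 with h | h
          · exact subsingleton_HD_of_isGE (Dual.inD A N) 0 (i + 1) h
          · exact subsingleton_HD_of_isLE (Dual.inD A N) 0 (i + 1) h
        exact hs.elim _ _
    obtain ⟨y, rfl⟩ := les₃ _ hTr i (i + 1) rfl z hδ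
    have hs := subsingleton_HD_of_isGE K 0 i hi
    have hy : y = 0 := hs.elim _ _
    rw [hy]
    exact map_zero _
  · intro i
    exact finite_mid' _ _ (les₃ _ hTr i (i + 1) rfl) (hK i) (hfinN (i + 1))
  · refine tors_quot_eq_bot ((homologyFunctor (ModuleCat.{u} A) 0).map g).hom ?_ ?_
    · intro z
      have hs : Subsingleton (Dual.HD A (Dual.inD A N) (0 + 1)) :=
        subsingleton_HD_of_isLE (Dual.inD A N) 0 (0 + 1) (by norm_num)
      exact les₃ _ hTr 0 (0 + 1) rfl z (hs.elim _ _)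
    · intro m
      constructor
      · intro hm
        obtain ⟨v, rfl⟩ := les₂ _ hTr 0 m hm
        show ((homologyFunctor (ModuleCat.{u} A) 0).map f).hom v ∈ _
        rw [key]
        exact mem_tors_of_equiv ψ.toLinearMap (θN.hom.hom v).2
      · intro hm
        have h1 : ψ.symm m ∈ tors T Y := mem_tors_of_equiv ψ.symm.toLinearMap hm
        have h2 : m = ((homologyFunctor (ModuleCat.{u} A) 0).map f).hom
            (θN.inv.hom ⟨ψ.symm m, h1⟩) := by
          rw [key]
          have h3 : θN.hom.hom (θN.inv.hom ⟨ψ.symm m, h1⟩) = ⟨ψ.symm m, h1⟩ := by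
            show (θN.inv ≫ θN.hom).hom _ = _
            rw [Iso.inv_hom_id]
            rfl
          rw [h3]
          show m = ψ (ψ.symm m)
          rw [LinearEquiv.apply_symm_apply]
        rw [h2]
        exact les₂_zero _ hTr 0 _

end Groth.Agent.Helper9.LT5
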