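import Mathlib
import Groth.Prelude.Def_DualLC
import Groth.Agent.Helper9.LT1
import Groth.Agent.Helper9.LT2
import Groth.Agent.Helper9.LT3
import Groth.Agent.Helper9.LT4
import Groth.Agent.Helper9.LT5

/-!
# Finiteness of local cohomology with supports in a specialization-stable set is equivalent to
annihilation by a single ideal (complexes)
-/

set_option autoImplicit false
set_option linter.style.haveILetI false
set_option linter.unusedSectionVars false
set_option linter.unusedVariables false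

universe u
open CategoryTheory CategoryTheory.Limits Opposite DerivedCategory Pretriangulated
attribute [local instance] HasDerivedCategory.standard

namespace Groth.Agent.Helper9.LT6
open Groth.Agent.Helper9.LT1 Groth.Agent.Helper9.LT2 Groth.Agent.Helper9.LT4
  Groth.Agent.Helper9.LT5 Groth.Agent.Helper3.DRingLib

variable {A : Type u} [CommRing A] (T : Set (PrimeSpectrum A))

/-- the comparison of iterated shifts -/
noncomputable def shIso (K : Dual.D A) (a b c : ℤ) (h : a + b = c) : K⟦c⟧ ≅ (K⟦a⟧)⟦b⟧ :=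
  (shiftFunctorAdd' (Dual.D A) a b c h).app K

/-- every element of `HX T X` is torsion -/
lemma hx_torsion (X : Dual.D A) (y : HX T X) : y ∈ tors T (HX T X) := by
  obtain ⟨a, g, rfl⟩ := hx_exists_rep T X y
  refine ⟨a.J, a.h, fun x hx => ?_⟩
  have h1 : x • 𝟙 (ModuleCat.of A (A ⧸ a.J)) = 0 := by
    apply ModuleCat.hom_ext
    apply LinearMap.ext
    intro r
    obtain ⟨r, rfl⟩ := Submodule.Quotient.mk_surjective _ r
    show x • (Submodule.Quotient.mk r : A ⧸ a.J) = 0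
    rw [← Submodule.Quotient.mk_smul, Submodule.Quotient.mk_eq_zero]
    exact Ideal.mul_mem_right _ _ hx
  have h2 : x • g = 0 := by
    have h3 : x • g = (x • 𝟙 (Dual.inD A (A ⧸ a.J))) ≫ g := by
      rw [Linear.smul_comp, Category.id_comp]
    rw [h3, ← CategoryTheory.Functor.map_id, ← Functor.map_smul, h1, Functor.map_zero, zero_comp]
  rw [← map_smul, h2, map_zero]

/-- a finite `HX` is killed by one ideal -/
lemma exists_ann_of_fin (X : Dual.D A) (h : Fin T X) :
    ∃ J : Ideal A, PrimeSpectrum.zeroLocus (J : Set A) ⊆ T ∧ Ann T J X := by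
  haveI : Module.Finite A (HX T X) := h
  obtain ⟨J, hJ, hk⟩ := exists_kill_of_fg (T := T) (⊤ : Submodule A (HX T X)) Module.Finite.fg_top
    (fun y _ => hx_torsion T X y)
  exact ⟨J, hJ, fun x hx y => hk x hx y trivial⟩

variable [IsNoetherianRing A]

lemma fin_zero (K : Dual.D A) [K.IsGE 0] (h : Module.Finite A (Dual.HD A K 0)) :
    Fin T (K⟦(0 : ℤ)⟧) :=
  Fin.of_iso ((shiftFunctorZero (Dual.D A) ℤ).app K).symm (fin_of_isGE T K h)

lemma subsingleton_torsion_shift (N : ModuleCat.{u} A) (J₀ : Ideal A)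
    (hJ₀ : PrimeSpectrum.zeroLocus (J₀ : Set A) ⊆ T) (hN : ∀ x ∈ J₀, ∀ m : N, x • m = 0) (i : ℕ) :
    Subsingleton (HX T (((Dual.inD A N)⟦(1 : ℤ)⟧)⟦(i : ℤ)⟧)) :=
  subsingleton_of_iso (shIso (Dual.inD A N) 1 i (1 + i) rfl)
    (Groth.Agent.Helper9.LT3.subsingleton_torsion T N J₀ hJ₀ hN (1 + i) (by omega))

/-- the induction step for objects with torsion free `H^0` -/
theorem stepB (hT : StableUnderSpecialization T) (d : ℕ)
    (IH : ∀ (K : Dual.D A) [K.IsGE 0], (∀ i : ℤ, Module.Finite A (Dual.HD A K i)) →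
      ∀ J : Ideal A, PrimeSpectrum.zeroLocus (J : Set A) ⊆ T →
        (∀ i : ℕ, i < d → Ann T J (K⟦(i : ℤ)⟧)) → ∀ i : ℕ, i < d → Fin T (K⟦(i : ℤ)⟧))
    (K : Dual.D A) [K.IsGE 0] (hK : ∀ i : ℤ, Module.Finite A (Dual.HD A K i))
    (htf : tors T (Dual.HD A K 0) = ⊥) (J : Ideal A)
    (hJ : PrimeSpectrum.zeroLocus (J : Set A) ⊆ T)
    (hAnn : ∀ i : ℕ, i < d + 1 → Ann T J (K⟦(i : ℤ)⟧)) :
    ∀ i : ℕ, i < d + 1 → Fin T (K⟦(i : ℤ)⟧) := by
  haveI := hK 0
  obtain ⟨x, hxJ, hxreg⟩ := exists_regular hT htf J hJ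
  obtain ⟨C, g, h, hTr, hC, hCfin⟩ := exists_cone K hK x hxreg
  haveI := hC
  have hAnn1 : ∀ i : ℕ, i < d → Ann T J ((K⟦(1 : ℤ)⟧)⟦(i : ℤ)⟧) := fun i hi =>
    Ann.of_iso (shIso K 1 i ((i + 1 : ℕ) : ℤ) (by push_cast; ring)) (hAnn (i + 1) (by omega))
  have hAnnC : ∀ i : ℕ, i < d → Ann T (J * J) (C⟦(i : ℤ)⟧) := fun i hi =>
    Ann.mid₃ (Triangle.mk (x • 𝟙 K) g h) hTr i (hAnn i (by omega)) (hAnn1 i hi)
  have hJJ : PrimeSpectrum.zeroLocus ((J * J : Ideal A) : Set A) ⊆ T := by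
    rw [PrimeSpectrum.zeroLocus_mul]
    exact Set.union_subset hJ hJ
  have hFinC := IH C hCfin (J * J) hJJ hAnnC
  intro j hj
  rcases Nat.eq_zero_or_pos j with rfl | hpos
  · exact fin_zero T K (hK 0)
  · obtain ⟨i, rfl⟩ : ∃ i, j = i + 1 := ⟨j - 1, by omega⟩
    have hsurj := surj_mor₃ (T := T) K C x g h hTr (i : ℤ) (fun y => hAnn1 i (by omega) x hxJ y)
    have h1 : Fin T ((K⟦(1 : ℤ)⟧)⟦(i : ℤ)⟧) := Fin.of_surj _ hsurj (hFinC i (by omega))
    exact Fin.of_iso (shIso K 1 i ((i + 1 : ℕ) : ℤ) (by push_cast; ring)).symm h1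

/-- the main induction -/
theorem main_aux (hT : StableUnderSpecialization T) (d : ℕ) :
    ∀ (K : Dual.D A) [K.IsGE 0], (∀ i : ℤ, Module.Finite A (Dual.HD A K i)) →
      ∀ J : Ideal A, PrimeSpectrum.zeroLocus (J : Set A) ⊆ T →
        (∀ i : ℕ, i < d → Ann T J (K⟦(i : ℤ)⟧)) → ∀ i : ℕ, i < d → Fin T (K⟦(i : ℤ)⟧) := by
  induction d with
  | zero =>
    intro K _ hK J hJ hAnn i hi
    omega
  | succ d IH =>
    intro K _ hK J hJ hAnn
    obtain ⟨N, J₀, K'', f, g, h, hTr, hJ₀, hN, hNfin, hK''ge, hK''fin, htf⟩ :=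
      exists_torsion_triangle T K hK
    haveI := hK''ge
    have hAnn'' : ∀ i : ℕ, i < d + 1 → Ann T J (K''⟦(i : ℤ)⟧) := fun i hi =>
      Ann.of_surj _ (surj_mor₂ (Triangle.mk f g h) hTr i
        (subsingleton_torsion_shift T N J₀ hJ₀ hN i)) (hAnn i hi)
    have hFin'' := stepB T hT d IH K'' hK''fin htf J hJ hAnn''
    intro i hi
    rcases Nat.eq_zero_or_pos i with rfl | hpos
    · exact fin_zero T K (hK 0)
    · exact Fin.mid₂ (Triangle.mk f g h) hTr i
        (Fin.of_subsingleton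
          (Groth.Agent.Helper9.LT3.subsingleton_torsion T N J₀ hJ₀ hN i (by omega)))
        (hFin'' i hi)

/-- **finiteness of local cohomology with supports in `T` up to degree `n` is equivalent to
annihilation by one ideal** -/
theorem main (hT : StableUnderSpecialization T) (K : Dual.D A) (a : ℤ)
    (hKa : ∀ i : ℤ, i < a → Subsingleton (Dual.HD A K i))
    (hK : ∀ i : ℤ, Module.Finite A (Dual.HD A K i)) (n : ℤ) :
    (∀ i : ℤ, i ≤ n → Module.Finite A (Dual2.HDT A T K i)) ↔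
      ∃ J : Ideal A, PrimeSpectrum.zeroLocus (J : Set A) ⊆ T ∧
        ∀ i : ℤ, i ≤ n → ∀ x : A, x ∈ J → ∀ y : Dual2.HDT A T K i, x • y = 0 := by
  haveI : K.IsGE a := isGE_of_HD K a hKa
  have hvan : ∀ i : ℤ, i < a → Subsingleton (HX T (K⟦i⟧)) := by
    intro i hi
    haveI : (K⟦i⟧).IsGE (a - i) := DerivedCategory.TStructure.t.isGE_shift K a i (a - i) (by omega)
    haveI : (K⟦i⟧).IsGE 1 := DerivedCategory.TStructure.t.isGE_of_ge (K⟦i⟧) 1 (a - i) (by omega)
    exact subsingleton_of_isGE (K⟦i⟧)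
  constructor
  · intro hfin
    have key : ∀ k : ℕ, ∃ J : Ideal A, PrimeSpectrum.zeroLocus (J : Set A) ⊆ T ∧
        ∀ i : ℤ, i ≤ n → i < a + k → Ann T J (K⟦i⟧) := by
      intro k
      induction k with
      | zero =>
        refine ⟨⊤, by simp, fun i _ hi => Ann.of_subsingleton (hvan i (by simpa using hi))⟩
      | succ k ih =>
        obtain ⟨J₁, hJ₁, h₁⟩ := ih
        by_cases hk : a + k ≤ n
        · obtain ⟨J₂, hJ₂, h₂⟩ := exists_ann_of_fin T (K⟦a + (k : ℤ)⟧) (hfin _ hk)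
          refine ⟨J₁ ⊓ J₂, ?_, fun i hin hi => ?_⟩
          · rw [PrimeSpectrum.zeroLocus_inf]
            exact Set.union_subset hJ₁ hJ₂
          · by_cases hik : i < a + k
            · exact (h₁ i hin hik).mono inf_le_left
            · obtain rfl : i = a + k := by push_cast at hi; omega
              exact h₂.mono inf_le_right
        · refine ⟨J₁, hJ₁, fun i hin hi => h₁ i hin (by omega)⟩
    obtain ⟨J, hJ, h⟩ := key (n - a + 1).toNat
    exact ⟨J, hJ, fun i hi x hx y => h i hi (by omega) x hx y⟩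
  · rintro ⟨J, hJ, hAnn⟩
    haveI : (K⟦a⟧).IsGE 0 := DerivedCategory.TStructure.t.isGE_shift K a a 0 (by omega)
    have hK' : ∀ j : ℤ, Module.Finite A (Dual.HD A (K⟦a⟧) j) := by
      intro j
      haveI := hK (a + j)
      let e : Dual.HD A (K⟦a⟧) j ≃ₗ[A] Dual.HD A K (a + j) :=
        (((homologyFunctor (ModuleCat.{u} A) 0).shiftIso a j (a + j) rfl).app K).toLinearEquiv
      exact Module.Finite.equiv e.symm
    have hAnn' : ∀ i : ℕ, i < (n - a + 1).toNat → Ann T J ((K⟦a⟧)⟦(i : ℤ)⟧) := fun i hi =>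
      Ann.of_iso (shIso K a i (a + i) rfl) (hAnn (a + i) (by omega))
    have hfin := main_aux T hT (n - a + 1).toNat (K⟦a⟧) hK' J hJ hAnn'
    intro i hi
    by_cases hia : i < a
    · exact Fin.of_subsingleton (hvan i hia)
    · have h1 := hfin (i - a).toNat (by omega)
      exact Fin.of_iso (shIso K a ((i - a).toNat : ℤ) i (by omega)).symm h1

end Groth.Agent.Helper9.LT6
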