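import Mathlib
import Groth.Prelude.Def_DualLC
import Groth.Agent.Helper9.LT1
import Groth.Agent.Helper9.LT2
import Groth.Agent.Helper9.LT3
import Groth.Agent.Helper9.LT4
import Groth.Agent.Helper9.LT5
import Groth.Agent.Helper9.LT6
import Groth.Agent.Helper9.LF1

/-!
# Restriction of supports and annihilators

If an ideal `J` kills `H^i_T(K)` for `i ≤ s` and `T'' ⊆ T` is stable under specialization, then a
power of `J` (depending only on the range of degrees) kills `H^i_{T''}(K)` for `i ≤ s`.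
-/

set_option autoImplicit false
set_option linter.style.haveILetI false
set_option linter.unusedSectionVars false
set_option linter.unusedVariables false

universe u
open CategoryTheory CategoryTheory.Limits Opposite DerivedCategory Pretriangulated
attribute [local instance] HasDerivedCategory.standard

namespace Groth.Agent.Helper9.LF2
open Groth.Agent.Helper9.LT1 Groth.Agent.Helper9.LT2 Groth.Agent.Helper9.LT4
  Groth.Agent.Helper9.LT5 Groth.Agent.Helper9.LT6 Groth.Agent.Helper9.LF1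
  Groth.Agent.Helper3.DRingLib

variable {A : Type u} [CommRing A] {T'' T : Set (PrimeSpectrum A)}

/-- elementwise exactness at the third vertex of the cone of a scalar -/
lemma exact_mor₃ (K C : Dual.D A) (x : A) (g : K ⟶ C) (h : C ⟶ K⟦(1 : ℤ)⟧)
    (hTr : Triangle.mk (x • 𝟙 K) g h ∈ distTriang _) (n : ℤ)
    (y : HX T ((K⟦(1 : ℤ)⟧)⟦n⟧)) (hy : x • y = 0) :
    ∃ c : HX T (C⟦n⟧), hxMap T (h⟦n⟧') c = y := by
  refine hx_exact_shift _ (rot_of_distTriang _ (rot_of_distTriang _ hTr)) n y ?_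
  show hxMap T ((-(x • 𝟙 K)⟦(1 : ℤ)⟧')⟦n⟧') y = 0
  have h1 : (-(x • 𝟙 K)⟦(1 : ℤ)⟧')⟦n⟧' = (-x) • 𝟙 ((K⟦(1 : ℤ)⟧)⟦n⟧) := by
    rw [Functor.map_smul, CategoryTheory.Functor.map_id, Functor.map_neg, Functor.map_smul,
      CategoryTheory.Functor.map_id, neg_smul]
  rw [h1, hxMap_smul, hxMap_id, neg_smul, hy, neg_zero]

variable (hsub : T'' ⊆ T) [IsNoetherianRing A]

include hsub in
/-- the induction -/
theorem restrict_aux (hT'' : StableUnderSpecialization T'') (d : ℕ) :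
    ∃ N : ℕ, ∀ (K : Dual.D A) [K.IsGE 0], (∀ i : ℤ, Module.Finite A (Dual.HD A K i)) →
      ∀ J : Ideal A, (∀ i : ℕ, i < d → Ann T J (K⟦(i : ℤ)⟧)) →
        ∀ i : ℕ, i < d → Ann T'' (J ^ N) (K⟦(i : ℤ)⟧) := by
  induction d with
  | zero => exact ⟨0, fun K _ hK J hAnn i hi => by omega⟩
  | succ d IH =>
    obtain ⟨N, hN⟩ := IH
    refine ⟨2 * N + 1, ?_⟩
    intro K _ hK J hAnn
    -- degree zero, for any object
    have deg0 : ∀ (L : Dual.D A) [L.IsGE 0], Ann T J (L⟦(0 : ℤ)⟧) →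
        Ann T'' (J ^ (2 * N + 1)) (L⟦(0 : ℤ)⟧) := by
      intro L _ hL x hx y
      haveI : (L⟦(0 : ℤ)⟧).IsGE 0 := DerivedCategory.TStructure.t.isGE_shift L 0 0 0 (by omega)
      apply hxRes_injective hsub (L⟦(0 : ℤ)⟧)
      rw [map_smul, map_zero]
      exact hL x (Ideal.pow_le_self (by omega) hx) _
    obtain ⟨N₀, J₀, K'', f, g, h, hTr, hJ₀, hN₀, hNfin, hK''ge, hK''fin, htf⟩ :=
      exists_torsion_triangle T'' K hK
    haveI := hK''ge
    have hJ₀T : PrimeSpectrum.zeroLocus (J₀ : Set A) ⊆ T := hJ₀.trans hsub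
    have hAnn'' : ∀ i : ℕ, i < d + 1 → Ann T J (K''⟦(i : ℤ)⟧) := fun i hi =>
      Ann.of_surj _ (surj_mor₂ (Triangle.mk f g h) hTr i
        (subsingleton_torsion_shift T N₀ J₀ hJ₀T hN₀ i)) (hAnn i hi)
    have claim : ∀ i : ℕ, i < d + 1 → Ann T'' (J ^ (2 * N + 1)) (K''⟦(i : ℤ)⟧) := by
      intro i hi
      rcases Nat.eq_zero_or_pos i with rfl | hpos
      · exact deg0 K'' (hAnn'' 0 hi)
      · obtain ⟨i', rfl⟩ : ∃ i', i = i' + 1 := ⟨i - 1, by omega⟩
        intro x hx y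
        obtain ⟨Jy, hJy, hky⟩ := hx_torsion T'' _ y
        haveI := hK''fin 0
        obtain ⟨r, hrJ, hrreg⟩ := exists_regular hT'' htf Jy hJy
        obtain ⟨C, g', h', hTr', hC, hCfin⟩ := exists_cone K'' hK''fin r hrreg
        haveI := hC
        have hAnn1 : ∀ j : ℕ, j < d → Ann T J ((K''⟦(1 : ℤ)⟧)⟦(j : ℤ)⟧) := fun j hj =>
          Ann.of_iso (shIso K'' 1 j ((j + 1 : ℕ) : ℤ) (by push_cast; ring))
            (hAnn'' (j + 1) (by omega))
        have hAnnC : ∀ j : ℕ, j < d → Ann T (J * J) (C⟦(j : ℤ)⟧) := fun j hj =>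
          Ann.mid₃ (Triangle.mk (r • 𝟙 K'') g' h') hTr' j (hAnn'' j (by omega)) (hAnn1 j hj)
        have hC'' := hN C hCfin (J * J) hAnnC i' (by omega)
        let e := hxCongr T'' (shIso K'' 1 i' ((i' + 1 : ℕ) : ℤ) (by push_cast; ring))
        have hry : r • e y = 0 := by rw [← map_smul, hky r hrJ, map_zero]
        obtain ⟨c, hc⟩ := exact_mor₃ (T := T'') K'' C r g' h' hTr' i' (e y) hry
        have hle : J ^ (2 * N + 1) ≤ (J * J) ^ N := by
          rw [← pow_two, ← pow_mul]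
          exact Ideal.pow_le_pow_right (by omega)
        have hxc : x • c = 0 := hC'' x (hle hx) c
        apply e.injective
        rw [map_smul, map_zero, ← hc, ← map_smul, hxc, map_zero]
    intro i hi
    rcases Nat.eq_zero_or_pos i with rfl | hpos
    · exact deg0 K (hAnn 0 hi)
    · have h1 := Ann.mid₂ (J₁ := ⊤) (Triangle.mk f g h) hTr i
        (Ann.of_subsingleton
          (Groth.Agent.Helper9.LT3.subsingleton_torsion T'' N₀ J₀ hJ₀ hN₀ i (by omega)))
        (claim i hi)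
      exact h1.mono (by rw [Ideal.top_mul])

include hsub in
/-- **restriction of supports**: if `J` kills `H^i_T(K)` for `i ≤ s` then a power of `J` kills
`H^i_{T''}(K)` for `i ≤ s` -/
theorem restrict_main (hT'' : StableUnderSpecialization T'') (K : Dual.D A) (a : ℤ)
    (hKa : ∀ i : ℤ, i < a → Subsingleton (Dual.HD A K i))
    (hK : ∀ i : ℤ, Module.Finite A (Dual.HD A K i)) (s : ℤ) :
    ∃ N : ℕ, ∀ J : Ideal A, (∀ i : ℤ, i ≤ s → Ann T J (K⟦i⟧)) →
      ∀ i : ℤ, i ≤ s → Ann T'' (J ^ N) (K⟦i⟧) := by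
  haveI : K.IsGE a := isGE_of_HD K a hKa
  have hvan : ∀ i : ℤ, i < a → Subsingleton (HX T'' (K⟦i⟧)) := by
    intro i hi
    haveI : (K⟦i⟧).IsGE (a - i) := DerivedCategory.TStructure.t.isGE_shift K a i (a - i) (by omega)
    haveI : (K⟦i⟧).IsGE 1 := DerivedCategory.TStructure.t.isGE_of_ge (K⟦i⟧) 1 (a - i) (by omega)
    exact subsingleton_of_isGE (K⟦i⟧)
  haveI : (K⟦a⟧).IsGE 0 := DerivedCategory.TStructure.t.isGE_shift K a a 0 (by omega)
  have hK' : ∀ j : ℤ, Module.Finite A (Dual.HD A (K⟦a⟧) j) := by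
    intro j
    haveI := hK (a + j)
    let e : Dual.HD A (K⟦a⟧) j ≃ₗ[A] Dual.HD A K (a + j) :=
      (((homologyFunctor (ModuleCat.{u} A) 0).shiftIso a j (a + j) rfl).app K).toLinearEquiv
    exact Module.Finite.equiv e.symm
  obtain ⟨N, hN⟩ := restrict_aux hsub hT'' (s - a + 1).toNat
  refine ⟨N, fun J hAnn i hi => ?_⟩
  by_cases hia : i < a
  · exact Ann.of_subsingleton (hvan i hia)
  · have hAnn' : ∀ j : ℕ, j < (s - a + 1).toNat → Ann T J ((K⟦a⟧)⟦(j : ℤ)⟧) := fun j hj =>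
      Ann.of_iso (shIso K a j (a + j) rfl) (hAnn (a + j) (by omega))
    have h1 := hN (K⟦a⟧) hK' J hAnn' (i - a).toNat (by omega)
    exact Ann.of_iso (shIso K a ((i - a).toNat : ℤ) i (by omega)).symm h1

end Groth.Agent.Helper9.LF2
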