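import Mathlib
import Groth.Prelude.Def_DualLC
import Groth.Agent.S0299
import Groth.Agent.Helper6.LcD8
import Groth.Agent.Helper6.LD10
import Groth.Agent.Helper6.LocExt4
import Groth.Agent.Helper3.DRingBC3

/-!
# Local duality at a prime: annihilators of the local cohomology of `K_p` in terms of the global
modules `Hom(K, ω[j])`
-/

set_option autoImplicit false
set_option linter.style.haveILetI false
set_option linter.unusedSectionVars false
set_option linter.unusedVariables false

universe u w
open CategoryTheory CategoryTheory.Limits Opposite DerivedCategory Pretriangulated TensorProduct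
attribute [local instance] HasDerivedCategory.standard

namespace Groth.Agent.Helper9.LF4
open Groth.Agent.Helper3.DRingLib Groth.Agent.Helper6.LocExt Groth.Agent.Helper6.LD IsLocalRing

section Sep

variable {B : Type u} [CommRing B] [IsLocalRing B] {E : Type u} [AddCommGroup E] [Module B E]

/-- an injective module containing the residue field separates the points of any module (in
any universe) -/
theorem exists_map_ne_zero (f : ResidueField B →ₗ[B] E) (hfi : Function.Injective f)
    (hE : Module.Injective B E) {G : Type w} [AddCommGroup G] [Module B G] (x : G) (hx : x ≠ 0) :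
    ∃ φ : G →ₗ[B] E, φ x ≠ 0 := by
  let t : B →ₗ[B] G := LinearMap.toSpanSingleton B G x
  let I : Submodule B B := LinearMap.ker t
  have hI : I ≤ LinearMap.ker (Algebra.linearMap B (ResidueField B)) := by
    intro a ha
    rw [LinearMap.mem_ker, Algebra.linearMap_apply]
    change residue B a = 0
    rw [residue_eq_zero_iff]
    by_contra hau
    have hu : IsUnit a := by
      by_contra h
      exact hau ((mem_maximalIdeal a).mpr h)
    obtain ⟨b, hb⟩ := hu.exists_left_inv
    have ha' : a • x = 0 := by
      have : t a = 0 := ha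
      rwa [LinearMap.toSpanSingleton_apply] at this
    apply hx
    calc x = (b * a) • x := by rw [hb, one_smul]
      _ = b • (a • x) := mul_smul _ _ _
      _ = 0 := by rw [ha', smul_zero]
  let g : (B ⧸ I) →ₗ[B] E := f ∘ₗ I.liftQ (Algebra.linearMap B (ResidueField B)) hI
  let ι : (B ⧸ I) →ₗ[B] G := I.liftQ t le_rfl
  have hι : Function.Injective ι := by
    rw [← LinearMap.ker_eq_bot]
    exact Submodule.ker_liftQ_eq_bot _ _ _ le_rfl
  haveI := hE
  obtain ⟨h, hh⟩ := Module.Injective.extension_property B E (B ⧸ I) G ι hι g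
  refine ⟨h, ?_⟩
  have h1 : ι (Submodule.Quotient.mk 1) = x := by
    change t 1 = x
    rw [LinearMap.toSpanSingleton_apply, one_smul]
  have h2 : g (Submodule.Quotient.mk 1) = f 1 := by
    change f (Algebra.linearMap B (ResidueField B) 1) = f 1
    rw [Algebra.linearMap_apply, map_one]
  have h3 : h (ι (Submodule.Quotient.mk 1)) = g (Submodule.Quotient.mk 1) :=
    LinearMap.congr_fun hh _
  rw [← h1, h3, h2]
  intro h0
  have : (1 : ResidueField B) = 0 := hfi (by rw [h0, map_zero])
  exact one_ne_zero this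

/-- annihilation of a module and of its Matlis dual -/
theorem kills_dual_iff (f : ResidueField B →ₗ[B] E) (hf : InjHull.IsInjectiveHull f)
    (G : Type w) [AddCommGroup G] [Module B G] (b : B) :
    (∀ φ : G →ₗ[B] E, b • φ = 0) ↔ ∀ g : G, b • g = 0 := by
  constructor
  · intro h g
    by_contra hne
    obtain ⟨φ, hφ⟩ := exists_map_ne_zero f hf.injective hf.isInjective (b • g) hne
    apply hφ
    rw [map_smul]
    have := LinearMap.congr_fun (h φ) g
    rwa [LinearMap.smul_apply, LinearMap.zero_apply] at this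
  · intro h φ
    apply LinearMap.ext
    intro g
    rw [LinearMap.smul_apply, ← map_smul, h g, map_zero, LinearMap.zero_apply]

end Sep

section Main

variable {A : Type u} [CommRing A] [IsNoetherianRing A]
  (ω : Dual.D A) (hω : Dual.IsDualizing A ω) (δ : PrimeSpectrum A → ℤ)
  (hδ1 : ∀ (p : PrimeSpectrum A) (i : ℤ),
    Nontrivial (LocalizedModule p.asIdeal.primeCompl
      (Dual.inD A (A ⧸ p.asIdeal) ⟶ ω⟦i⟧)) ↔ i = -δ p)
  (K : Dual.D A)
  (hb : ∃ a b : ℤ, ∀ j : ℤ, (j < a ∨ b < j) → Subsingleton (Dual.HD A K j))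
  (hfin : ∀ j : ℤ, Module.Finite A (Dual.HD A K j))
  (p : PrimeSpectrum A)

include hω hδ1 in
/-- the shifted localization of the dualizing complex is normalized -/
lemma normalized_loc :
    Dual.IsDualizing (Localization.AtPrime p.asIdeal)
        (((bcD A (Localization.AtPrime p.asIdeal)).obj ω)⟦-δ p⟧) ∧
      Dual.IsNormalized (Localization.AtPrime p.asIdeal)
        (((bcD A (Localization.AtPrime p.asIdeal)).obj ω)⟦-δ p⟧) := by
  obtain ⟨a, b, hab⟩ := hω.finite_injective_dimension
  obtain ⟨hGE, _⟩ := bounds_of_hinj ω a b hab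
  haveI := hGE
  have hn1 : ∀ j : ℤ, j ≠ -δ p → Subsingleton (Dual.inD (Localization.AtPrime p.asIdeal)
      (Localization.AtPrime p.asIdeal ⧸ maximalIdeal (Localization.AtPrime p.asIdeal)) ⟶
        ((bcD A (Localization.AtPrime p.asIdeal)).obj ω)⟦j⟧) := fun j hj =>
    (loc_iff_of_under p.asIdeal.primeCompl (Localization.AtPrime p.asIdeal) ω a
      (maximalIdeal (Localization.AtPrime p.asIdeal)) p.asIdeal
      Localization.AtPrime.under_maximalIdeal j).mp
      (not_nontrivial_iff_subsingleton.mp (fun h => hj ((hδ1 p j).mp h)))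
  have hωB := isDualizing_bcD p.asIdeal.primeCompl (Localization.AtPrime p.asIdeal) ω hω
  refine ⟨isDualizing_shift _ hωB _, fun i hi => ?_⟩
  haveI : Subsingleton (Dual.inD (Localization.AtPrime p.asIdeal)
      (ResidueField (Localization.AtPrime p.asIdeal)) ⟶
        ((bcD A (Localization.AtPrime p.asIdeal)).obj ω)⟦-δ p + i⟧) :=
    hn1 (-δ p + i) (by omega)
  exact (homShiftShiftEquiv (Dual.inD (Localization.AtPrime p.asIdeal)
    (ResidueField (Localization.AtPrime p.asIdeal))) _ (-δ p) i (-δ p + i)
    rfl).toEquiv.subsingleton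

include hω hδ1 hb hfin in
/-- local duality over `A_p` in terms of annihilators -/
theorem dual_loc (i : ℤ) (b : Localization.AtPrime p.asIdeal) :
    (∀ z : Dual2.HDI (Localization.AtPrime p.asIdeal)
        (maximalIdeal (Localization.AtPrime p.asIdeal))
        ((bcD A (Localization.AtPrime p.asIdeal)).obj K) i, b • z = 0) ↔
      ∀ g : (bcD A (Localization.AtPrime p.asIdeal)).obj K ⟶
        ((bcD A (Localization.AtPrime p.asIdeal)).obj ω)⟦-δ p - i⟧, b • g = 0 := by
  obtain ⟨hd, hn⟩ := normalized_loc ω hω δ hδ1 p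
  haveI : IsNoetherianRing (Localization.AtPrime p.asIdeal) := hd.isNoetherianRing
  obtain ⟨E, _, _, f, hf⟩ := Groth.Agent.S0299.result (Localization.AtPrime p.asIdeal)
    (ResidueField (Localization.AtPrime p.asIdeal))
  obtain ⟨aK, bK, hab⟩ := hb
  have hb' : ∃ a b : ℤ, ∀ j : ℤ, (j < a ∨ b < j) → Subsingleton
      (Dual.HD (Localization.AtPrime p.asIdeal)
        ((bcD A (Localization.AtPrime p.asIdeal)).obj K) j) := by
    refine ⟨aK, bK, fun j hj => ?_⟩
    obtain ⟨e⟩ := nonempty_HD_bcD_equiv (Localization.AtPrime p.asIdeal) K j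
    haveI := hab j hj
    exact e.toEquiv.subsingleton
  have hfin' : ∀ j : ℤ, Module.Finite (Localization.AtPrime p.asIdeal)
      (Dual.HD (Localization.AtPrime p.asIdeal)
        ((bcD A (Localization.AtPrime p.asIdeal)).obj K) j) := by
    intro j
    obtain ⟨e⟩ := nonempty_HD_bcD_equiv (Localization.AtPrime p.asIdeal) K j
    haveI := hfin j
    exact Module.Finite.equiv e.symm
  obtain ⟨e⟩ := Groth.Agent.Helper6.LcD.main _ hd hn E f hf
    ((bcD A (Localization.AtPrime p.asIdeal)).obj K) hb' hfin' i
  let θ := homShiftShiftEquiv ((bcD A (Localization.AtPrime p.asIdeal)).obj K)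
    ((bcD A (Localization.AtPrime p.asIdeal)).obj ω) (-δ p) (-i) (-δ p - i) (by ring)
  constructor
  · intro h g
    have h1 : ∀ φ : ((bcD A (Localization.AtPrime p.asIdeal)).obj K ⟶
        (((bcD A (Localization.AtPrime p.asIdeal)).obj ω)⟦-δ p⟧)⟦-i⟧) →ₗ[Localization.AtPrime p.asIdeal] E,
        b • φ = 0 := by
      intro φ
      have h2 := h (e.symm φ)
      rwa [← map_smul, LinearEquiv.map_eq_zero_iff] at h2
    have h3 := (kills_dual_iff f hf _ b).1 h1 (θ.symm g)
    rwa [← map_smul, LinearEquiv.map_eq_zero_iff] at h3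
  · intro h z
    have h1 : ∀ g' : ((bcD A (Localization.AtPrime p.asIdeal)).obj K ⟶
        (((bcD A (Localization.AtPrime p.asIdeal)).obj ω)⟦-δ p⟧)⟦-i⟧), b • g' = 0 := by
      intro g'
      have h2 := h (θ g')
      rwa [← map_smul, LinearEquiv.map_eq_zero_iff] at h2
    have h3 := (kills_dual_iff f hf _ b).2 h1 (e z)
    rwa [← map_smul, LinearEquiv.map_eq_zero_iff] at h3

include hω hb hfin in
/-- annihilation of `Hom(K_p, ω_p[j])` in terms of the global `Hom(K, ω[j])` -/
theorem hom_loc (j : ℤ) (x : A) :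
    (∀ g : (bcD A (Localization.AtPrime p.asIdeal)).obj K ⟶
        ((bcD A (Localization.AtPrime p.asIdeal)).obj ω)⟦j⟧,
        algebraMap A (Localization.AtPrime p.asIdeal) x • g = 0) ↔
      ∀ f : K ⟶ ω⟦j⟧, ∃ t : A, t ∉ p.asIdeal ∧ (t * x) • f = 0 := by
  obtain ⟨a, b, hab⟩ := hω.finite_injective_dimension
  obtain ⟨hGE, _⟩ := bounds_of_hinj ω a b hab
  haveI := hGE
  obtain ⟨aK, bK, habK⟩ := hb
  haveI : K.IsLE bK := isLE_of_HD K bK (fun j hj => habK j (Or.inr hj))
  haveI : (ω⟦j⟧).IsGE (a - j) := TStructure.t.isGE_shift ω a j (a - j) (by omega)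
  have hpc := pc_of_finite K bK hfin
  have hs := locSurj_of_pc p.asIdeal.primeCompl (Localization.AtPrime p.asIdeal) K (ω⟦j⟧) hpc
    (a - j)
  have hi := locInj_of_pc p.asIdeal.primeCompl (Localization.AtPrime p.asIdeal) K (ω⟦j⟧) hpc
    (a - j)
  let c := ((bcD A (Localization.AtPrime p.asIdeal)).commShiftIso j).app ω
  constructor
  · intro h f
    have h1 := h ((bcD A (Localization.AtPrime p.asIdeal)).map f ≫ c.hom)
    rw [← Linear.smul_comp, ← bcD_map_smul] at h1
    have h2 : (bcD A (Localization.AtPrime p.asIdeal)).map (x • f) = 0 := by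
      have h3 := congrArg (fun φ => φ ≫ c.inv) h1
      simp only [Category.assoc, Iso.hom_inv_id, Category.comp_id, zero_comp] at h3
      exact h3
    obtain ⟨s, hs', hsf⟩ := hi (x • f) h2
    exact ⟨s, hs', by rw [mul_smul]; exact hsf⟩
  · intro h g
    obtain ⟨s, hs', f, hf⟩ := hs (g ≫ c.inv)
    obtain ⟨t, ht, htf⟩ := h f
    have h1 : (bcD A (Localization.AtPrime p.asIdeal)).map ((t * x) • f) = 0 := by
      rw [htf, Functor.map_zero]
    rw [bcD_map_smul, ← hf, map_mul, mul_smul] at h1
    have h1' : algebraMap A (Localization.AtPrime p.asIdeal) t •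
        (algebraMap A (Localization.AtPrime p.asIdeal) s •
          (algebraMap A (Localization.AtPrime p.asIdeal) x • (g ≫ c.inv))) = 0 := by
      rw [smul_comm (algebraMap A (Localization.AtPrime p.asIdeal) s)
        (algebraMap A (Localization.AtPrime p.asIdeal) x)]
      exact h1
    have h2 := eq_zero_of_smul_eq_zero p.asIdeal.primeCompl (Localization.AtPrime p.asIdeal) t ht
      _ h1'
    have h3 := eq_zero_of_smul_eq_zero p.asIdeal.primeCompl (Localization.AtPrime p.asIdeal) s hs'
      _ h2
    rw [← Linear.smul_comp] at h3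
    have h4 := congrArg (fun φ => φ ≫ c.hom) h3
    simp only [Category.assoc, Iso.inv_hom_id, Category.comp_id, zero_comp] at h4
    exact h4

include hω hδ1 hb hfin in
/-- **Interface I**: annihilation of the local cohomology of `K_p` at the closed point in terms of
the global modules `Hom(K, ω[j])` -/
theorem interfaceI (i : ℤ) (x : A) :
    (∀ z : Dual2.HDI (Localization.AtPrime p.asIdeal)
        (maximalIdeal (Localization.AtPrime p.asIdeal))
        ((bcD A (Localization.AtPrime p.asIdeal)).obj K) i,
        algebraMap A (Localization.AtPrime p.asIdeal) x • z = 0) ↔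
      ∀ f : K ⟶ ω⟦-δ p - i⟧, ∃ t : A, t ∉ p.asIdeal ∧ (t * x) • f = 0 :=
  (dual_loc ω hω δ hδ1 K hb hfin p i _).trans (hom_loc ω hω K hb hfin p (-δ p - i) x)

end Main

end Groth.Agent.Helper9.LF4
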