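import Mathlib
import Groth.Prelude.Def_DualLC
import Groth.Agent.Helper9.LT1
import Groth.Agent.Helper9.LT2
import Groth.Agent.Helper9.LT4
import Groth.Agent.Helper9.LF1
import Groth.Agent.Helper9.LF2
import Groth.Agent.Helper9.LF3
import Groth.Agent.Helper9.LF4
import Groth.Agent.Helper9.LF5
import Groth.Agent.Helper6.DFinExt

/-!
# The annihilator theorem for bounded complexes with finite cohomology (termwise base change)
-/

set_option autoImplicit false
set_option linter.style.haveILetI false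
set_option linter.unusedSectionVars false
set_option linter.unusedVariables false

universe u w
open CategoryTheory CategoryTheory.Limits Opposite DerivedCategory Pretriangulated
attribute [local instance] HasDerivedCategory.standard

namespace Groth.Agent.Helper9.LF6
open Groth.Agent.Helper9.LT1 Groth.Agent.Helper9.LT2 Groth.Agent.Helper9.LT4
  Groth.Agent.Helper9.LF1 Groth.Agent.Helper9.LF2 Groth.Agent.Helper9.LF3
  Groth.Agent.Helper9.LF4 Groth.Agent.Helper9.LF5 Groth.Agent.Helper3.DRingLib IsLocalRing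

variable {A : Type u} [CommRing A] [IsNoetherianRing A]

/-! ### supports -/

theorem sup_lemma {T' : Set (PrimeSpectrum A)} (hT' : StableUnderSpecialization T')
    (E : Type w) [AddCommGroup E] [Module A E] [Module.Finite A E] (q : PrimeSpectrum A)
    (H : ∀ p : PrimeSpectrum A, p ≤ q → p ∉ T' → ∀ e : E, ∃ t : A, t ∉ p.asIdeal ∧ t • e = 0)
    (e : E) : ∃ t : A, t ∉ q.asIdeal ∧ t • e ∈ tors T' E := by
  have htf : tors T' (E ⧸ tors T' E) = ⊥ :=
    tors_quot_eq_bot (tors T' E).mkQ (Submodule.mkQ_surjective _) (fun m => by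
      rw [Submodule.mkQ_apply, Submodule.Quotient.mk_eq_zero])
  have claim : ∀ e' : E ⧸ tors T' E, ∃ t : A, t ∉ q.asIdeal ∧ t • e' = 0 := by
    intro e'
    by_contra hcon
    push Not at hcon
    have hann : Module.annihilator A (Submodule.span A {e'}) ≤ q.asIdeal := by
      intro t ht
      by_contra htq
      apply hcon t htq
      have h1 := (Module.mem_annihilator.1 ht) ⟨e', Submodule.mem_span_singleton_self e'⟩
      exact congrArg Subtype.val h1
    obtain ⟨P, hP, hPq⟩ := Ideal.exists_minimalPrimes_le hann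
    have hass : P ∈ associatedPrimes A (Submodule.span A {e'}) :=
      Module.associatedPrimes.minimalPrimes_annihilator_subset_associatedPrimes A _ hP
    obtain ⟨hprime, n, hPn⟩ := isAssociatedPrime_iff.1 hass
    have hmemP : ∀ t : A, t ∈ P ↔ t • (n : E ⧸ tors T' E) = 0 := by
      intro t
      rw [hPn, Submodule.mem_colon_singleton, Submodule.mem_bot]
      constructor
      · intro h
        exact congrArg Subtype.val h
      · intro h
        exact Subtype.ext h
    by_cases hPT : (⟨P, hprime⟩ : PrimeSpectrum A) ∈ T'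
    · have hn : (n : E ⧸ tors T' E) ∈ tors T' (E ⧸ tors T' E) := by
        refine ⟨P, ?_, fun x hx => (hmemP x).1 hx⟩
        intro Q hQ
        refine hT' ?_ hPT
        rw [← PrimeSpectrum.le_iff_specializes]
        rw [PrimeSpectrum.mem_zeroLocus] at hQ
        exact hQ
      rw [htf, Submodule.mem_bot] at hn
      apply hprime.ne_top
      rw [Ideal.eq_top_iff_one, hmemP, hn, smul_zero]
    · obtain ⟨e₀, he₀⟩ := Submodule.mkQ_surjective (tors T' E) (n : E ⧸ tors T' E)
      obtain ⟨t, ht, hte⟩ := H ⟨P, hprime⟩ ((PrimeSpectrum.asIdeal_le_asIdeal _ _).mp hPq) hPT e₀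
      apply ht
      show t ∈ P
      rw [hmemP, ← he₀, ← map_smul, hte, map_zero]
  obtain ⟨t, ht, hte⟩ := claim ((tors T' E).mkQ e)
  refine ⟨t, ht, ?_⟩
  rw [← map_smul, Submodule.mkQ_apply, Submodule.Quotient.mk_eq_zero] at hte
  exact hte

/-! ### finite products of ideals -/

lemma zeroLocus_finset_prod {T' : Set (PrimeSpectrum A)} {ι : Type*} (s : Finset ι)
    (f : ι → Ideal A) (h : ∀ i ∈ s, PrimeSpectrum.zeroLocus ((f i : Ideal A) : Set A) ⊆ T') :
    PrimeSpectrum.zeroLocus ((∏ i ∈ s, f i : Ideal A) : Set A) ⊆ T' := by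
  classical
  induction s using Finset.induction_on with
  | empty =>
    rw [Finset.prod_empty, Ideal.one_eq_top]
    simp
  | insert a s ha ih =>
    rw [Finset.prod_insert ha, PrimeSpectrum.zeroLocus_mul]
    exact Set.union_subset (h a (Finset.mem_insert_self a s))
      (ih (fun i hi => h i (Finset.mem_insert_of_mem hi)))

lemma zeroLocus_pow_subset {T' : Set (PrimeSpectrum A)} (J : Ideal A)
    (h : PrimeSpectrum.zeroLocus (J : Set A) ⊆ T') (k : ℕ) :
    PrimeSpectrum.zeroLocus ((J ^ k : Ideal A) : Set A) ⊆ T' := by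
  rcases Nat.eq_zero_or_pos k with rfl | hk
  · simp
  · rw [PrimeSpectrum.zeroLocus_pow _ (by omega)]
    exact h

/-! ### the main theorem, bounded case -/

section Main

variable (ω : Dual.D A) (hω : Dual.IsDualizing A ω) (T T' : Set (PrimeSpectrum A))
  (hT : StableUnderSpecialization T) (hT' : StableUnderSpecialization T') (hTT' : T ⊆ T')
  (s : ℤ) (K : Dual.D A)
  (hb : ∃ a b : ℤ, ∀ j : ℤ, (j < a ∨ b < j) → Subsingleton (Dual.HD A K j))
  (hfin : ∀ j : ℤ, Module.Finite A (Dual.HD A K j))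

lemma subsingleton_iff_one {B : Type u} [CommRing B] {M : Type w} [AddCommGroup M] [Module B M]
    [Algebra A B] : Subsingleton M ↔ ∀ z : M, algebraMap A B 1 • z = 0 := by
  constructor
  · intro h z
    exact Subsingleton.elim _ _
  · intro h
    refine ⟨fun z z' => ?_⟩
    have h1 := h z
    have h2 := h z'
    rw [map_one, one_smul] at h1 h2
    rw [h1, h2]

include hω hT hT' hTT' hb hfin in
theorem main_bounded :
    (∃ J : Ideal A, PrimeSpectrum.zeroLocus (J : Set A) ⊆ T' ∧
        ∀ i : ℤ, i ≤ s → Ann T J (K⟦i⟧)) ↔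
      (∀ (p q : PrimeSpectrum A) (hpq : p ≤ q), p ∉ T' → q ∈ T → ∀ h : ℕ,
        Order.height (⟨q, hpq⟩ : Set.Ici p) = h → ∀ i : ℤ, i ≤ s - h →
          Subsingleton (Dual2.HDI (Localization.AtPrime p.asIdeal)
            (maximalIdeal (Localization.AtPrime p.asIdeal))
            ((bcD A (Localization.AtPrime p.asIdeal)).obj K) i)) := by
  obtain ⟨δ, lo, hi, hδ1, hδ2, hanti, hbd⟩ := exists_delta ω hω
  obtain ⟨aK, bK, habK⟩ := hb
  have hKa : ∀ i : ℤ, i < aK → Subsingleton (Dual.HD A K i) := fun i hi => habK i (Or.inl hi)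
  have hb' : ∃ a b : ℤ, ∀ j : ℤ, (j < a ∨ b < j) → Subsingleton (Dual.HD A K j) :=
    ⟨aK, bK, habK⟩
  have hVq : ∀ q ∈ T, PrimeSpectrum.zeroLocus (q.asIdeal : Set A) ⊆ T := by
    intro q hq P hP
    rw [PrimeSpectrum.mem_zeroLocus] at hP
    exact hT ((PrimeSpectrum.le_iff_specializes q P).mp
      ((PrimeSpectrum.asIdeal_le_asIdeal _ _).mp hP)) hq
  constructor
  · rintro ⟨J, hJ, hAnn⟩ p q hpq hp hq h hh i hi
    have hδpq : δ p = δ q + h := delta_eq_add_height δ hδ2 p h q hpq hh
    obtain ⟨N, hN⟩ := restrict_main (hVq q hq)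
      (PrimeSpectrum.isClosed_zeroLocus _).stableUnderSpecialization K aK hKa hfin s
    have hAnnq := hN J hAnn
    -- an element of `J ^ N` outside `p`
    have hJN : ¬ (J ^ N ≤ p.asIdeal) := by
      intro hle
      apply hp
      apply zeroLocus_pow_subset J hJ N
      rw [PrimeSpectrum.mem_zeroLocus]
      exact hle
    obtain ⟨x, hxJ, hxp⟩ := SetLike.not_le_iff_exists.mp hJN
    rw [subsingleton_iff_one (A := A) (B := Localization.AtPrime p.asIdeal),
      interfaceI ω hω δ hδ1 K hb' hfin p i 1]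
    have e : -δ p - i = -δ q - (i + h) := by omega
    rw [e]
    intro f
    have h1 : ∀ z : Dual2.HDI (Localization.AtPrime q.asIdeal)
        (maximalIdeal (Localization.AtPrime q.asIdeal))
        ((bcD A (Localization.AtPrime q.asIdeal)).obj K) (i + h),
        algebraMap A (Localization.AtPrime q.asIdeal) x • z = 0 := by
      rw [interfaceII q K (i + h) x]
      intro y
      refine ⟨1, fun h1 => q.isPrime.ne_top ((Ideal.eq_top_iff_one _).2 h1), ?_⟩
      rw [one_mul]
      exact hAnnq (i + h) (by omega) x hxJ y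
    rw [interfaceI ω hω δ hδ1 K hb' hfin q (i + h) x] at h1
    obtain ⟨t, ht, htf⟩ := h1 f
    refine ⟨t * x, fun hmem => ?_, by rw [mul_one]; exact htf⟩
    rcases p.isPrime.mem_or_mem hmem with h2 | h2
    · exact ht ((PrimeSpectrum.asIdeal_le_asIdeal p q).mpr hpq h2)
    · exact hxp h2
  · intro H2
    -- the finite modules `Hom(K, ω[j])`
    obtain ⟨aω, bω, habω⟩ := hω.finite_injective_dimension
    obtain ⟨hGE, hLE⟩ := Groth.Agent.Helper6.LocExt.bounds_of_hinj ω aω bω habω
    haveI := hGE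
    haveI := hLE
    have hbω : ∃ a b : ℤ, ∀ i : ℤ, (i < a ∨ b < i) → Subsingleton (Dual.HD A ω i) := by
      refine ⟨aω, bω, fun i hi => ?_⟩
      rcases hi with hi | hi
      · exact subsingleton_HD_of_isGE ω aω i hi
      · exact subsingleton_HD_of_isLE ω bω i hi
    have hEfin : ∀ j : ℤ, Module.Finite A (K ⟶ ω⟦j⟧) :=
      Groth.Agent.Helper6.DFinExt.finite_bounded K ω hb' hfin hbω hω.finite_cohomology
    have hex : ∀ j : ℤ, ∃ Jj : Ideal A, PrimeSpectrum.zeroLocus (Jj : Set A) ⊆ T' ∧
        ∀ x ∈ Jj, ∀ m ∈ tors T' (K ⟶ ω⟦j⟧), x • m = 0 := fun j => by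
      haveI := hEfin j
      exact exists_kill T' (K ⟶ ω⟦j⟧)
    choose Jj hJj1 hJj2 using hex
    -- the uniform ideal
    let Js : Ideal A := ∏ j ∈ Finset.Icc (-hi - s) (-lo - aK), Jj j
    have hJs : PrimeSpectrum.zeroLocus (Js : Set A) ⊆ T' :=
      zeroLocus_finset_prod _ _ (fun j _ => hJj1 j)
    have hJsle : ∀ j : ℤ, -hi - s ≤ j → j ≤ -lo - aK → Js ≤ Jj j := fun j h1 h2 =>
      Ideal.prod_le_inf.trans (Finset.inf_le (Finset.mem_Icc.mpr ⟨h1, h2⟩))
    haveI : K.IsGE aK := isGE_of_HD K aK hKa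
    -- the hypothesis of the layer induction
    have HH : ∀ m : ℤ, m ≤ s → ∀ q ∈ T, ∀ x ∈ Js,
        ∀ y₁ : HX (PrimeSpectrum.zeroLocus (q.asIdeal : Set A)) (K⟦m⟧),
          ∃ f : A, f ∉ q.asIdeal ∧ (f * x) • y₁ = 0 := by
      intro m hm q hq x hx
      by_cases hma : m < aK
      · intro y₁
        haveI : (K⟦m⟧).IsGE (aK - m) :=
          DerivedCategory.TStructure.t.isGE_shift K aK m (aK - m) (by omega)
        haveI : (K⟦m⟧).IsGE 1 :=
          DerivedCategory.TStructure.t.isGE_of_ge (K⟦m⟧) 1 (aK - m) (by omega)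
        haveI := subsingleton_of_isGE (T := PrimeSpectrum.zeroLocus (q.asIdeal : Set A)) (K⟦m⟧)
        exact ⟨1, fun h1 => q.isPrime.ne_top ((Ideal.eq_top_iff_one _).2 h1),
          Subsingleton.elim _ _⟩
      · rw [← interfaceII q K m x, interfaceI ω hω δ hδ1 K hb' hfin q m x]
        intro f
        have hxj : x ∈ Jj (-δ q - m) := hJsle (-δ q - m)
          (by have := (hbd q).2; omega) (by have := (hbd q).1; omega) hx
        haveI := hEfin (-δ q - m)
        obtain ⟨t, ht, htf⟩ := sup_lemma hT' (K ⟶ ω⟦-δ q - m⟧) q (fun p hpq hp e => by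
          obtain ⟨h, hh⟩ := exists_height_Ici p q hpq
          have hδpq : δ p = δ q + h := delta_eq_add_height δ hδ2 p h q hpq hh
          have h1 := H2 p q hpq hp hq h hh (m - h) (by omega)
          rw [subsingleton_iff_one (A := A) (B := Localization.AtPrime p.asIdeal),
            interfaceI ω hω δ hδ1 K hb' hfin p (m - h) 1] at h1
          have e' : -δ p - (m - h) = -δ q - m := by omega
          rw [e'] at h1
          obtain ⟨t, ht, hte⟩ := h1 e
          exact ⟨t, ht, by rw [mul_one] at hte; exact hte⟩) f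
        refine ⟨t, ht, ?_⟩
        rw [mul_comm, mul_smul]
        exact hJj2 (-δ q - m) x hxj _ htf
    refine ⟨Js ^ (hi - lo + 1).toNat, zeroLocus_pow_subset Js hJs _, fun m hm => ?_⟩
    exact layers_main hT hanti lo hi hbd (K⟦m⟧) Js (HH m hm)

end Main

end Groth.Agent.Helper9.LF6
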