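import Mathlib
import Groth.Agent.Helper1.DeltaColim
import Groth.Agent.Helper1.ExtOld
import Groth.Agent.Helper1.ExtOldZero
import Groth.Agent.Helper6.LcD9

/-!
# `colim_d Extⁿ(A/I_d, -)` (Mathlib's new `Ext`) and Mathlib's `localCohomology.ofDiagram`
for a general filtered diagram of ideals indexed by a category in the universe of the ring
-/

set_option autoImplicit false
set_option linter.style.haveILetI false
set_option linter.unusedSectionVars false
set_option linter.unusedVariables false

universe u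
open CategoryTheory CategoryTheory.Limits Opposite Abelian
open Groth.Agent.Helper1.DeltaFun Groth.Agent.Helper1.ExtOld Groth.Agent.Helper6.LcD

namespace Groth.Agent.Helper9.LT7

variable {A : Type u} [CommRing A]

section diagram

variable {D : Type u} [SmallCategory D] (P : D ⥤ ModuleCat.{u} A)

/-- the diagram `d ↦ Extⁿ(P d, -)` -/
noncomputable def nExt (n : ℕ) : Dᵒᵖ ⥤ ModuleCat.{u} A ⥤ ModuleCat.{u} A where
  obj e := extFun (P.obj e.unop) n
  map {e e'} f := extFunMap (P.map f.unop) n
  map_id e := by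
    apply NatTrans.ext
    funext M
    apply ModuleCat.hom_ext
    apply LinearMap.ext
    intro (x : Ext.{u} (P.obj e.unop) M n)
    show (Ext.mk₀ (P.map (𝟙 e).unop)).comp x (zero_add n) = x
    rw [unop_id, P.map_id, Ext.mk₀_id_comp]
  map_comp {e e' e''} f g := by
    apply NatTrans.ext
    funext M
    apply ModuleCat.hom_ext
    apply LinearMap.ext
    intro (x : Ext.{u} (P.obj e.unop) M n)
    show (Ext.mk₀ (P.map (f ≫ g).unop)).comp x (zero_add n) =
      (Ext.mk₀ (P.map g.unop)).comp ((Ext.mk₀ (P.map f.unop)).comp x (zero_add n)) (zero_add n)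
    rw [Ext.mk₀_comp_mk₀_assoc, unop_comp, P.map_comp]

/-- the diagram of δ-functors `d ↦ Ext^•(P d, -)` -/
noncomputable def nExtDiagram : DeltaDiagram Dᵒᵖ (ModuleCat.{u} A) (ModuleCat.{u} A) where
  T n := nExt P n
  δ e S hS n := ModuleCat.ofHom (Ext.postcompOfLinear hS.extClass A (P.obj e.unop) rfl)
  δ_nat e {S S'} φ hS hS' n := by
    apply ModuleCat.hom_ext
    apply LinearMap.ext
    intro (x : Ext.{u} (P.obj e.unop) S.X₃ n)
    show (x.comp hS.extClass rfl).comp (Ext.mk₀ φ.τ₁) (add_zero _) =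
      (x.comp (Ext.mk₀ φ.τ₃) (add_zero _)).comp hS'.extClass rfl
    rw [Ext.comp_assoc_of_third_deg_zero, ShortComplex.ShortExact.extClass_naturality hS hS' φ,
      Ext.comp_assoc_of_second_deg_zero]
  δ_natE {e e'} f S hS n := by
    apply ModuleCat.hom_ext
    apply LinearMap.ext
    intro (x : Ext.{u} (P.obj e.unop) S.X₃ n)
    show (Ext.mk₀ (P.map f.unop)).comp (x.comp hS.extClass rfl) (zero_add (n + 1)) =
      ((Ext.mk₀ (P.map f.unop)).comp x (zero_add n)).comp hS.extClass rfl
    symm
    rw [Ext.comp_assoc]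
    omega
  w₃ e S hS n := by
    apply ModuleCat.hom_ext
    apply LinearMap.ext
    intro (x : Ext.{u} (P.obj e.unop) S.X₂ n)
    show (x.comp (Ext.mk₀ S.g) (add_zero n)).comp hS.extClass rfl = 0
    rw [Ext.comp_assoc_of_second_deg_zero, ShortComplex.ShortExact.comp_extClass, Ext.comp_zero]
  w₁ e S hS n := by
    apply ModuleCat.hom_ext
    apply LinearMap.ext
    intro (x : Ext.{u} (P.obj e.unop) S.X₃ n)
    show (x.comp hS.extClass rfl).comp (Ext.mk₀ S.f) (add_zero _) = 0
    rw [Ext.comp_assoc_of_third_deg_zero, ShortComplex.ShortExact.extClass_comp, Ext.comp_zero]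
  exact₃ e S hS n := by
    rw [ShortComplex.moduleCat_exact_iff]
    intro (x₃ : Ext.{u} (P.obj e.unop) S.X₃ n) hx
    obtain ⟨x₂, h⟩ := Ext.covariant_sequence_exact₃ _ hS x₃ rfl hx
    exact ⟨x₂, h⟩
  exact₁ e S hS n := by
    rw [ShortComplex.moduleCat_exact_iff]
    intro (x₁ : Ext.{u} (P.obj e.unop) S.X₁ (n + 1)) hx
    obtain ⟨x₃, h⟩ := Ext.covariant_sequence_exact₁ _ hS x₁ hx rfl
    exact ⟨x₃, h⟩

/-- `Ext⁰(P d, -) ≅ Hom(P d, -)` naturally in `d` -/
noncomputable def nExtZeroIso : nExt P 0 ≅ P.op ⋙ linearCoyoneda A (ModuleCat.{u} A) :=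
  NatIso.ofComponents (fun e => NatIso.ofComponents
    (fun M => (Ext.linearEquiv₀ (R := A) (X := P.obj e.unop) (Y := M)).toModuleIso)
    (fun {M N} f => by
      apply ModuleCat.hom_ext
      apply LinearMap.ext
      intro (x : Ext.{u} (P.obj e.unop) M 0)
      obtain ⟨g, rfl⟩ := exists_mk₀ x
      show Ext.linearEquiv₀ (R := A) ((Ext.mk₀ g).comp (Ext.mk₀ f) (add_zero 0)) =
        Ext.linearEquiv₀ (R := A) (Ext.mk₀ g) ≫ f
      rw [Ext.mk₀_comp_mk₀, le0_mk₀, le0_mk₀]))
    (fun {e e'} f => by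
      apply NatTrans.ext
      funext M
      apply ModuleCat.hom_ext
      apply LinearMap.ext
      intro (x : Ext.{u} (P.obj e.unop) M 0)
      obtain ⟨g, rfl⟩ := exists_mk₀ x
      show Ext.linearEquiv₀ (R := A) ((Ext.mk₀ (P.map f.unop)).comp (Ext.mk₀ g) (zero_add 0)) =
        P.map f.unop ≫ Ext.linearEquiv₀ (R := A) (Ext.mk₀ g)
      rw [Ext.mk₀_comp_mk₀, le0_mk₀, le0_mk₀])

end diagram

section lc

variable {D : Type u} [SmallCategory D] (I : D ⥤ Ideal A)

/-- chosen projective resolutions of the `A/I_d` -/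
noncomputable def res (d : D) : ProjectiveResolution ((localCohomology.ringModIdeals I).obj d) :=
  projectiveResolution _

/-- the diagram of δ-functors `d ↦ Ext^•(A/I_d, -)` (Mathlib's old `Ext`) -/
noncomputable def lcDiagram : DeltaDiagram Dᵒᵖ (ModuleCat.{u} A) (ModuleCat.{u} A) where
  T n := localCohomology.diagram I n
  δ e S hS n := (extDelta (R := A) (res I e.unop)).δ S hS n
  δ_nat e _ _ φ hS hS' n := (extDelta (R := A) (res I e.unop)).δ_nat φ hS hS' n
  δ_natE {e e'} f S hS n :=
    (extDeltaHom (R := A) (res I e.unop) ((localCohomology.ringModIdeals I).map f.unop)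
      (res I e'.unop)).comm S hS n
  w₃ e S hS n := (extDelta (R := A) (res I e.unop)).w₃ S hS n
  w₁ e S hS n := (extDelta (R := A) (res I e.unop)).w₁ S hS n
  exact₃ e S hS n := (extDelta (R := A) (res I e.unop)).exact₃ S hS n
  exact₁ e S hS n := (extDelta (R := A) (res I e.unop)).exact₁ S hS n

/-- `Ext⁰(A/I_d, -) ≅ Hom(A/I_d, -)`, naturally in `d` -/
noncomputable def diagramZeroIso :
    localCohomology.diagram I 0 ≅
      (localCohomology.ringModIdeals I).op ⋙ linearCoyoneda A (ModuleCat.{u} A) :=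
  NatIso.ofComponents (fun e => ext0Iso (R := A) (res I e.unop)) (fun {e e'} f =>
    ext0Iso_naturality_left (res I e.unop)
      ((localCohomology.ringModIdeals I).map f.unop)
      (res I e'.unop))

variable [IsFiltered Dᵒᵖ]

instance : HasExactColimitsOfShape Dᵒᵖ (ModuleCat.{u} A) := inferInstance

/-- `colim_d Ext^•(A/I_d, -)` (new `Ext`) as a δ-functor -/
noncomputable def neDelta : DeltaFunctor (ModuleCat.{u} A) (ModuleCat.{u} A) :=
  (nExtDiagram (localCohomology.ringModIdeals I)).colim

/-- `colim_d Ext^•(A/I_d, -)` (old `Ext`) as a δ-functor -/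
noncomputable def lcDelta : DeltaFunctor (ModuleCat.{u} A) (ModuleCat.{u} A) :=
  (lcDiagram I).colim

lemma lcDelta_T (n : ℕ) : (lcDelta I).T n = localCohomology.ofDiagram.{u, u} I n := rfl

lemma neDelta_effaceable : (neDelta I).Effaceable :=
  DeltaDiagram.colim_effaceable _ (fun e J _ n => by
    haveI : Subsingleton (Ext.{u} ((localCohomology.ringModIdeals I).obj e.unop) J (n + 1)) :=
      subsingleton_of_forall_eq 0 fun x => Ext.eq_zero_of_injective x
    exact ModuleCat.isZero_of_subsingleton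
      (ModuleCat.of A (Ext.{u} ((localCohomology.ringModIdeals I).obj e.unop) J (n + 1))))

lemma lcDelta_effaceable : (lcDelta I).Effaceable :=
  DeltaDiagram.colim_effaceable _ (fun e J _ n =>
    extDelta_effaceable (R := A) (res I e.unop) J n)

/-- `colim_d Extⁿ(A/I_d, -) ≅ ofDiagram I n` as functors -/
theorem nonempty_ne_iso_lc (n : ℕ) :
    Nonempty (colimit (nExt (localCohomology.ringModIdeals I) n) ≅
      localCohomology.ofDiagram.{u, u} I n) :=
  nonempty_iso_of_effaceable (neDelta I) (lcDelta I) (neDelta_effaceable I) (lcDelta_effaceable I)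
    (HasColimit.isoOfNatIso
      (nExtZeroIso (localCohomology.ringModIdeals I) ≪≫ (diagramZeroIso I).symm)) n

end lc

end Groth.Agent.Helper9.LT7
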