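import Mathlib
import Groth.Prelude.Def_DualLC
import Groth.Agent.Helper9.LT1
import Groth.Agent.Helper9.LT7

/-!
# Bridge: Mathlib's local cohomology with supports in a specialization-stable set (modules) is
`Dual2.HDT` of the module placed in degree zero
-/

set_option autoImplicit false
set_option linter.style.haveILetI false
set_option linter.unusedSectionVars false
set_option linter.unusedVariables false

universe u
open CategoryTheory CategoryTheory.Limits Opposite Abelian DerivedCategory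
attribute [local instance] HasDerivedCategory.standard

namespace Groth.Agent.Helper9.LT8
open Groth.Agent.Helper9.LT1 Groth.Agent.Helper9.LT7 Groth.Agent.Helper1.DeltaFun

variable {A : Type u} [CommRing A] (T : Set (PrimeSpectrum A))

instance : IsFiltered (Dual2.IdealsIn T)ᵒᵖ where
  cocone_objs j j' :=
    ⟨toObj T ((ofObj T j).inf T (ofObj T j')),
      homOf T (ofObj T j) _ ((ofObj T j).le_inf_left T (ofObj T j')),
      homOf T (ofObj T j') _ ((ofObj T j).le_inf_right T (ofObj T j')), trivial⟩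
  cocone_maps j j' f g := by
    refine ⟨j', 𝟙 j', ?_⟩
    obtain ⟨h, rfl⟩ := hom_eq T j j' f
    obtain ⟨h', rfl⟩ := hom_eq T j j' g
    rfl
  nonempty := ⟨toObj T (Idx.top T)⟩

/-- the diagram of quotients `A/J`, `V(J) ⊆ T` -/
noncomputable abbrev PT : Dual2.IdealsIn T ⥤ ModuleCat.{u} A :=
  localCohomology.ringModIdeals (Dual2.idealsInDiagram T)

variable (M : ModuleCat.{u} A) (n : ℕ)

/-- the legs of the colimit, evaluated at `M` -/
noncomputable def neι (a : Idx T) :
    Ext.{u} ((PT T).obj ⟨a.J, a.h⟩) M n →ₗ[A] ((colimit (nExt (PT T) n)).obj M) :=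
  ((colimit.ι (nExt (PT T) n) (toObj T a)).app M).hom

lemma neι_compat (a b : Idx T) (h : a ≤ b) (x : Ext.{u} ((PT T).obj ⟨a.J, a.h⟩) M n) :
    neι T M n b ((Ext.mk₀ ((PT T).map (homOf T a b h).unop)).comp x (zero_add n)) =
      neι T M n a x := by
  have h1 := colimit.w (nExt (PT T) n) (homOf T a b h)
  have h2 := congrArg (fun t => (t.app M).hom x) h1
  exact h2

lemma ne_exists_rep (t : (colimit (nExt (PT T) n)).obj M) :
    ∃ (a : Idx T) (x : Ext.{u} ((PT T).obj ⟨a.J, a.h⟩) M n), neι T M n a x = t := by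
  have hc := isColimitOfPreserves (forget (ModuleCat.{u} A))
    ((nExtDiagram (PT T)).evIsColimit n M)
  obtain ⟨j, y, hy⟩ := Types.jointly_surjective_of_isColimit hc t
  exact ⟨ofObj T j, y, hy⟩

lemma ne_eq_zero (a : Idx T) (x : Ext.{u} ((PT T).obj ⟨a.J, a.h⟩) M n)
    (hx : neι T M n a x = 0) :
    ∃ (b : Idx T) (h : a ≤ b),
      (Ext.mk₀ ((PT T).map (homOf T a b h).unop)).comp x (zero_add n) = 0 := by
  have hc := isColimitOfPreserves (forget (ModuleCat.{u} A))
    ((nExtDiagram (PT T)).evIsColimit n M)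
  have h0 : neι T M n a x = neι T M n a 0 := by rw [hx, map_zero]
  obtain ⟨j, f, g, hfg⟩ := (Types.FilteredColimit.isColimit_eq_iff _ hc
    (i := toObj T a) (j := toObj T a) (xi := x)
    (xj := (0 : Ext.{u} ((PT T).obj ⟨a.J, a.h⟩) M n))).1 h0
  obtain ⟨h, rfl⟩ := hom_eq T _ _ f
  refine ⟨ofObj T j, h, ?_⟩
  have h2 : (((nExt (PT T) n).map (homOf T a (ofObj T j) h)).app M).hom x =
      (((nExt (PT T) n).map g).app M).hom 0 := hfg
  rw [map_zero] at h2
  exact h2

/-- recognition of `HX` -/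
theorem hxDesc_bijective (X : Dual.D A) {N : Type (u + 1)} [AddCommGroup N] [Module A N]
    (ψ : ∀ a : Idx T, GH T X a →ₗ[A] N)
    (hψ : ∀ (a b : Idx T) (h : a ≤ b) (y : GH T X a), ψ b (gmap T X a b h y) = ψ a y)
    (hsurj : ∀ t : N, ∃ (a : Idx T) (y : GH T X a), ψ a y = t)
    (hker : ∀ (a : Idx T) (y : GH T X a), ψ a y = 0 →
      ∃ (b : Idx T) (h : a ≤ b), gmap T X a b h y = 0) :
    Function.Bijective (hxDesc T X ψ hψ) := by
  constructor
  · rw [injective_iff_map_eq_zero]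
    intro z hz
    obtain ⟨a, y, rfl⟩ := hx_exists_rep T X z
    rw [hxDesc_ι] at hz
    obtain ⟨b, h, h0⟩ := hker a y hz
    rw [← hxι_compat T X a b h y, h0, map_zero]
  · intro t
    obtain ⟨a, y, rfl⟩ := hsurj t
    exact ⟨hxι T X a y, hxDesc_ι T X ψ hψ a y⟩

/-- **Bridge.**  Mathlib's local cohomology `H^n_T(M)` is the direct limit of the
`Hom_{D(A)}(A/J, M[n])`. -/
theorem bridge (M : Type u) [AddCommGroup M] [Module A M] (n : ℕ) :
    Nonempty (Dual2.HT T n M ≃ₗ[A] Dual2.HDT A T (Dual.inD A M) (n : ℤ)) := by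
  obtain ⟨e⟩ := nonempty_ne_iso_lc (Dual2.idealsInDiagram T) n
  let MM : ModuleCat.{u} A := ModuleCat.of A M
  let X : Dual.D A := (Dual.inD A M)⟦(n : ℤ)⟧
  let hE : ∀ a : Idx T, Ext.{u} ((PT T).obj ⟨a.J, a.h⟩) MM n ≃ₗ[A] GH T X a :=
    fun a => Ext.homLinearEquiv (R := A) (X := (PT T).obj ⟨a.J, a.h⟩) (Y := MM) (n := n)
  have hE_apply : ∀ (a : Idx T) (x : Ext.{u} ((PT T).obj ⟨a.J, a.h⟩) MM n), hE a x = x.hom :=
    fun a x => rfl
  have hgm : ∀ (a b : Idx T) (h : a ≤ b) (x : Ext.{u} ((PT T).obj ⟨a.J, a.h⟩) MM n),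
      gmap T X a b h (hE a x) =
        hE b ((Ext.mk₀ ((PT T).map (homOf T a b h).unop)).comp x (zero_add n)) := by
    intro a b h x
    rw [hE_apply, hE_apply, gmap_apply]
    exact Ext.singleFunctor_map_comp_hom ((PT T).map (homOf T a b h).unop) x
  let ψ : ∀ a : Idx T, GH T X a →ₗ[A] ULift.{u + 1} (Dual2.HT T n M) :=
    fun a => ULift.moduleEquiv.symm.toLinearMap ∘ₗ (e.hom.app MM).hom ∘ₗ neι T MM n a ∘ₗ
      (hE a).symm.toLinearMap
  have hψ_apply : ∀ (a : Idx T) (x : Ext.{u} ((PT T).obj ⟨a.J, a.h⟩) MM n),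
      ψ a (hE a x) = ULift.up ((e.hom.app MM).hom (neι T MM n a x)) := by
    intro a x
    show ULift.up ((e.hom.app MM).hom (neι T MM n a ((hE a).symm (hE a x)))) = _
    rw [LinearEquiv.symm_apply_apply]
  have hψ : ∀ (a b : Idx T) (h : a ≤ b) (y : GH T X a), ψ b (gmap T X a b h y) = ψ a y := by
    intro a b h y
    obtain ⟨x, rfl⟩ := (hE a).surjective y
    rw [hgm, hψ_apply, hψ_apply, neι_compat]
  have hsurj : ∀ t : ULift.{u + 1} (Dual2.HT T n M),
      ∃ (a : Idx T) (y : GH T X a), ψ a y = t := by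
    intro t
    obtain ⟨a, x, hx⟩ := ne_exists_rep T MM n ((e.inv.app MM).hom t.down)
    refine ⟨a, hE a x, ?_⟩
    rw [hψ_apply, hx]
    have h1 := congrArg (fun f => f.hom t.down) (e.inv_hom_id_app MM)
    have h2 : (e.hom.app MM).hom ((e.inv.app MM).hom t.down) = t.down := h1
    rw [h2]
  have hker : ∀ (a : Idx T) (y : GH T X a), ψ a y = 0 →
      ∃ (b : Idx T) (h : a ≤ b), gmap T X a b h y = 0 := by
    intro a y hy
    obtain ⟨x, rfl⟩ := (hE a).surjective y
    rw [hψ_apply] at hy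
    have h1 : (e.hom.app MM).hom (neι T MM n a x) = 0 := congrArg ULift.down hy
    have h2 : neι T MM n a x = 0 := by
      have h3 := congrArg (fun f => f.hom (neι T MM n a x)) (e.hom_inv_id_app MM)
      have h4 : (e.inv.app MM).hom ((e.hom.app MM).hom (neι T MM n a x)) = neι T MM n a x := h3
      rw [← h4, h1, map_zero]
    obtain ⟨b, h, hb⟩ := ne_eq_zero T MM n a x h2
    refine ⟨b, h, ?_⟩
    rw [hgm, hb]
    exact map_zero _
  exact ⟨((LinearEquiv.ofBijective (hxDesc T X ψ hψ)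
    (hxDesc_bijective T X ψ hψ hsurj hker)) ≪≫ₗ ULift.moduleEquiv).symm⟩

end Groth.Agent.Helper9.LT8
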