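import Mathlib
import Groth.Prelude.Def_DualLC
import Groth.Agent.Helper9.LT6
import Groth.Agent.Helper9.LT8

/-!
# Finiteness of local cohomology with supports in a specialization-stable set is equivalent to
annihilation by a single ideal (modules)
-/

set_option autoImplicit false
set_option linter.style.haveILetI false
set_option linter.unusedSectionVars false
set_option linter.unusedVariables false

universe u
open CategoryTheory CategoryTheory.Limits Opposite DerivedCategory Pretriangulated
attribute [local instance] HasDerivedCategory.standard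

namespace Groth.Agent.Helper9.LT9
open Groth.Agent.Helper9.LT1 Groth.Agent.Helper9.LT2 Groth.Agent.Helper3.DRingLib

variable {A : Type u} [CommRing A] [IsNoetherianRing A] (T : Set (PrimeSpectrum A))

lemma subsingleton_HDT_neg (M : Type u) [AddCommGroup M] [Module A M] (i : ℤ) (hi : i < 0) :
    Subsingleton (Dual2.HDT A T (Dual.inD A M) i) := by
  haveI : ((Dual.inD A M)⟦i⟧).IsGE (0 - i) :=
    DerivedCategory.TStructure.t.isGE_shift (Dual.inD A M) 0 i (0 - i) (by omega)
  haveI : ((Dual.inD A M)⟦i⟧).IsGE 1 :=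
    DerivedCategory.TStructure.t.isGE_of_ge ((Dual.inD A M)⟦i⟧) 1 (0 - i) (by omega)
  exact subsingleton_of_isGE (T := T) ((Dual.inD A M)⟦i⟧)

theorem main_module (hT : StableUnderSpecialization T) (M : Type u) [AddCommGroup M] [Module A M]
    [Module.Finite A M] (n : ℕ) :
    (∀ i : ℕ, i ≤ n → Module.Finite A (Dual2.HT T i M)) ↔
      ∃ J : Ideal A, PrimeSpectrum.zeroLocus (J : Set A) ⊆ T ∧
        ∀ i : ℕ, i ≤ n → ∀ a ∈ J, ∀ x : Dual2.HT T i M, a • x = 0 := by
  have hKa : ∀ i : ℤ, i < 0 → Subsingleton (Dual.HD A (Dual.inD A M) i) := fun i hi =>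
    subsingleton_HD_of_isGE (Dual.inD A M) 0 i hi
  have hK : ∀ i : ℤ, Module.Finite A (Dual.HD A (Dual.inD A M) i) := fun i =>
    Groth.Agent.Helper9.LT5.finite_HD_inD M i
  have hmain := Groth.Agent.Helper9.LT6.main T hT (Dual.inD A M) 0 hKa hK (n : ℤ)
  have e : ∀ i : ℕ, Dual2.HT T i M ≃ₗ[A] Dual2.HDT A T (Dual.inD A M) (i : ℤ) := fun i =>
    (Groth.Agent.Helper9.LT8.bridge T M i).some
  constructor
  · intro hfin
    have h1 : ∀ i : ℤ, i ≤ (n : ℤ) → Module.Finite A (Dual2.HDT A T (Dual.inD A M) i) := by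
      intro i hi
      by_cases h0 : i < 0
      · haveI := subsingleton_HDT_neg T M i h0
        exact Module.Finite.of_surjective (0 : A →ₗ[A] _) (fun y => ⟨0, Subsingleton.elim _ _⟩)
      · obtain ⟨k, rfl⟩ := Int.eq_ofNat_of_zero_le (by omega : 0 ≤ i)
        haveI := hfin k (by omega)
        exact Module.Finite.equiv (e k)
    obtain ⟨J, hJ, hann⟩ := hmain.1 h1
    refine ⟨J, hJ, fun i hi a ha x => ?_⟩
    apply (e i).injective
    rw [map_smul, map_zero]
    exact hann (i : ℤ) (by omega) a ha _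
  · rintro ⟨J, hJ, hann⟩
    have h1 : ∀ i : ℤ, i ≤ (n : ℤ) → ∀ x : A, x ∈ J →
        ∀ y : Dual2.HDT A T (Dual.inD A M) i, x • y = 0 := by
      intro i hi x hx y
      by_cases h0 : i < 0
      · haveI := subsingleton_HDT_neg T M i h0
        exact Subsingleton.elim _ _
      · obtain ⟨k, rfl⟩ := Int.eq_ofNat_of_zero_le (by omega : 0 ≤ i)
        obtain ⟨z, rfl⟩ := (e k).surjective y
        rw [← map_smul, hann k (by omega) x hx z, map_zero]
    have h2 := hmain.2 ⟨J, hJ, h1⟩
    intro i hi
    haveI := h2 (i : ℤ) (by omega)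
    exact Module.Finite.equiv (e i).symm

end Groth.Agent.Helper9.LT9
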