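import Mathlib
import Groth.Prelude.Def_DualLC
import Groth.Agent.Helper9.LT5
import Groth.Agent.Helper9.LT8
import Groth.Agent.Helper9.LT9
import Groth.Agent.Helper9.LF3
import Groth.Agent.Helper9.LF5
import Groth.Agent.Helper9.LF6
import Groth.Agent.Helper6.LcD10
import Groth.Agent.Helper1.LocCohDepth
import Groth.Agent.Helper1.LocCohVanish

/-!
# The annihilator theorem for finite modules
-/

set_option autoImplicit false
set_option linter.style.haveILetI false
set_option linter.unusedSectionVars false
set_option linter.unusedVariables false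

universe u
open CategoryTheory CategoryTheory.Limits Opposite DerivedCategory Pretriangulated TensorProduct
attribute [local instance] HasDerivedCategory.standard

namespace Groth.Agent.Helper9.LF8
open Groth.Agent.Helper9.LT1 Groth.Agent.Helper9.LT2 Groth.Agent.Helper9.LF3
  Groth.Agent.Helper9.LF5 Groth.Agent.Helper9.LF6 Groth.Agent.Helper3.DRingLib IsLocalRing

section Order

variable {A : Type u} [CommRing A]

lemma krullDim_Icc (p q : PrimeSpectrum A) (hpq : p ≤ q) :
    Order.krullDim (Set.Icc p q) =
      ((Order.height (⟨q, hpq⟩ : Set.Ici p) : ℕ∞) : WithBot ℕ∞) := by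
  rw [Order.height_eq_krullDim_Iic]
  apply Order.krullDim_eq_of_orderIso
  exact
    { toFun := fun x => ⟨⟨x.1, x.2.1⟩, x.2.2⟩
      invFun := fun y => ⟨y.1.1, y.1.2, y.2⟩
      left_inv := fun x => rfl
      right_inv := fun y => rfl
      map_rel_iff' := Iff.rfl }

end Order

section Depth

variable {B : Type u} [CommRing B] [IsLocalRing B] [IsNoetherianRing B]
  (N : Type u) [AddCommGroup N] [Module B N] [Module.Finite B N]

/-- depth in terms of the vanishing of local cohomology, including the zero module -/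
theorem le_depth_iff (n : ℕ) :
    (n : ℕ∞) ≤ LocCoh.depth B N ↔
      ∀ i : ℕ, i < n → Subsingleton (LocCoh.H (maximalIdeal B) i N) := by
  by_cases hIM : maximalIdeal B • (⊤ : Submodule B N) = ⊤
  · have hd : LocCoh.depth B N = ⊤ := by
      unfold LocCoh.depth LocCoh.idealDepth
      rw [if_pos hIM]
    have hbot : (⊤ : Submodule B N) = ⊥ :=
      Submodule.eq_bot_of_le_smul_of_le_jacobson_bot (maximalIdeal B) ⊤ Module.Finite.fg_top
        (le_of_eq hIM.symm) (IsLocalRing.maximalIdeal_le_jacobson _)
    haveI : Subsingleton N := by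
      refine ⟨fun x y => ?_⟩
      have hx : x ∈ (⊤ : Submodule B N) := trivial
      have hy : y ∈ (⊤ : Submodule B N) := trivial
      rw [hbot, Submodule.mem_bot] at hx hy
      rw [hx, hy]
    rw [hd]
    refine ⟨fun _ i _ => ?_, fun _ => le_top⟩
    refine ModuleCat.isZero_iff_subsingleton.1
      (Groth.Agent.Helper1.LocCohVanish.isZero_lc_of_supportDim_lt (maximalIdeal B) N i ?_)
    rw [Module.supportDim_eq_bot_of_subsingleton]
    exact WithBot.bot_lt_coe _
  · exact Groth.Agent.Helper1.LocCohDepth.le_idealDepth_iff_lc (maximalIdeal B) N hIM n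

end Depth

section Loc

variable {A : Type u} [CommRing A] [IsNoetherianRing A] (p : PrimeSpectrum A)
  (M : Type u) [AddCommGroup M] [Module A M] [Module.Finite A M]

/-- the local cohomology of `M_p` as `HDI` of the base change of `M[0]` -/
theorem nonempty_lc_loc (i : ℕ) :
    Nonempty (LocCoh.H (maximalIdeal (Localization.AtPrime p.asIdeal)) i
        (LocalizedModule p.asIdeal.primeCompl M) ≃ₗ[Localization.AtPrime p.asIdeal]
      Dual2.HDI (Localization.AtPrime p.asIdeal) (maximalIdeal (Localization.AtPrime p.asIdeal))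
        ((bcD A (Localization.AtPrime p.asIdeal)).obj (Dual.inD A M)) (i : ℤ)) := by
  haveI : IsNoetherianRing (Localization.AtPrime p.asIdeal) :=
    IsLocalization.isNoetherianRing p.asIdeal.primeCompl _ inferInstance
  obtain ⟨e1⟩ := Groth.Agent.Helper6.LcD.bridge (maximalIdeal (Localization.AtPrime p.asIdeal))
    (LocalizedModule p.asIdeal.primeCompl M) i
  let e2 : (Localization.AtPrime p.asIdeal) ⊗[A] M ≃ₗ[Localization.AtPrime p.asIdeal]
      LocalizedModule p.asIdeal.primeCompl M :=
    (IsLocalizedModule.isBaseChange p.asIdeal.primeCompl (Localization.AtPrime p.asIdeal)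
      (LocalizedModule.mkLinearMap p.asIdeal.primeCompl M)).equiv
  let e3 : Dual.inD (Localization.AtPrime p.asIdeal) (LocalizedModule p.asIdeal.primeCompl M) ≅
      (bcD A (Localization.AtPrime p.asIdeal)).obj (Dual.inD A M) :=
    (DerivedCategory.singleFunctor (ModuleCat.{u} (Localization.AtPrime p.asIdeal)) 0).mapIso
      e2.symm.toModuleIso ≪≫ (bcDInD (Localization.AtPrime p.asIdeal) M).symm
  exact ⟨e1 ≪≫ₗ hdiCongr (maximalIdeal (Localization.AtPrime p.asIdeal)) (i : ℤ) e3⟩

lemma subsingleton_hdi_neg (i : ℤ) (hi : i < 0) :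
    Subsingleton (Dual2.HDI (Localization.AtPrime p.asIdeal)
      (maximalIdeal (Localization.AtPrime p.asIdeal))
      ((bcD A (Localization.AtPrime p.asIdeal)).obj (Dual.inD A M)) i) := by
  haveI : IsNoetherianRing (Localization.AtPrime p.asIdeal) :=
    IsLocalization.isNoetherianRing p.asIdeal.primeCompl _ inferInstance
  haveI : ((bcD A (Localization.AtPrime p.asIdeal)).obj (Dual.inD A M)).IsGE 0 :=
    Groth.Agent.Helper6.LocExt.bcD_isGE (Localization.AtPrime p.asIdeal) _ 0
  haveI : (((bcD A (Localization.AtPrime p.asIdeal)).obj (Dual.inD A M))⟦i⟧).IsGE (0 - i) :=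
    DerivedCategory.TStructure.t.isGE_shift _ 0 i (0 - i) (by omega)
  haveI : (((bcD A (Localization.AtPrime p.asIdeal)).obj (Dual.inD A M))⟦i⟧).IsGE 1 :=
    DerivedCategory.TStructure.t.isGE_of_ge _ 1 (0 - i) (by omega)
  haveI := subsingleton_of_isGE
    (T := PrimeSpectrum.zeroLocus ((maximalIdeal (Localization.AtPrime p.asIdeal) :
      Ideal (Localization.AtPrime p.asIdeal)) : Set (Localization.AtPrime p.asIdeal)))
    (((bcD A (Localization.AtPrime p.asIdeal)).obj (Dual.inD A M))⟦i⟧)
  exact (cmpEquiv (maximalIdeal (Localization.AtPrime p.asIdeal))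
    ((bcD A (Localization.AtPrime p.asIdeal)).obj (Dual.inD A M)) i).toEquiv.subsingleton

/-- the numerical condition -/
theorem cond_iff (s h : ℕ) :
    (∀ i : ℤ, i ≤ (s : ℤ) - h →
      Subsingleton (Dual2.HDI (Localization.AtPrime p.asIdeal)
        (maximalIdeal (Localization.AtPrime p.asIdeal))
        ((bcD A (Localization.AtPrime p.asIdeal)).obj (Dual.inD A M)) i)) ↔
      (s : WithBot ℕ∞) < ((LocCoh.depth (Localization.AtPrime p.asIdeal)
        (LocalizedModule p.asIdeal.primeCompl M) : ℕ∞) : WithBot ℕ∞) +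
          (((h : ℕ) : ℕ∞) : WithBot ℕ∞) := by
  haveI : IsNoetherianRing (Localization.AtPrime p.asIdeal) :=
    IsLocalization.isNoetherianRing p.asIdeal.primeCompl _ inferInstance
  haveI : Module.Finite (Localization.AtPrime p.asIdeal)
      (LocalizedModule p.asIdeal.primeCompl M) :=
    Module.Finite.of_isLocalizedModule p.asIdeal.primeCompl
      (LocalizedModule.mkLinearMap p.asIdeal.primeCompl M)
  have h1 : (∀ i : ℤ, i ≤ (s : ℤ) - h →
      Subsingleton (Dual2.HDI (Localization.AtPrime p.asIdeal)
        (maximalIdeal (Localization.AtPrime p.asIdeal))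
        ((bcD A (Localization.AtPrime p.asIdeal)).obj (Dual.inD A M)) i)) ↔
      ∀ i : ℕ, i < s + 1 - h →
        Subsingleton (LocCoh.H (maximalIdeal (Localization.AtPrime p.asIdeal)) i
          (LocalizedModule p.asIdeal.primeCompl M)) := by
    constructor
    · intro H i hi
      obtain ⟨e⟩ := nonempty_lc_loc p M i
      haveI := H (i : ℤ) (by omega)
      exact e.toEquiv.subsingleton
    · intro H i hi
      by_cases h0 : i < 0
      · exact subsingleton_hdi_neg p M i h0
      · obtain ⟨k, rfl⟩ := Int.eq_ofNat_of_zero_le (by omega : 0 ≤ i)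
        obtain ⟨e⟩ := nonempty_lc_loc p M k
        haveI := H k (by omega)
        exact e.symm.toEquiv.subsingleton
  rw [h1, ← le_depth_iff, ← WithBot.coe_add, ← WithBot.coe_natCast, WithBot.coe_lt_coe]
  generalize LocCoh.depth (Localization.AtPrime p.asIdeal)
    (LocalizedModule p.asIdeal.primeCompl M) = d
  induction d using ENat.recTopCoe with
  | top => simp
  | coe d =>
    constructor
    · intro hle
      have : s + 1 - h ≤ d := by exact_mod_cast hle
      have h2 : s < d + h := by omega
      exact_mod_cast h2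
    · intro hlt
      have : s < d + h := by exact_mod_cast hlt
      have h2 : s + 1 - h ≤ d := by omega
      exact_mod_cast h2

end Loc

section Main

variable {A : Type u} [CommRing A] [IsNoetherianRing A]

/-- **the annihilator theorem for a finite module**, in terms of `HX` -/
theorem module_form (hA : ∃ ω : Dual.D A, Dual.IsDualizing A ω)
    (T T' : Set (PrimeSpectrum A)) (hT : StableUnderSpecialization T)
    (hT' : StableUnderSpecialization T') (hTT' : T ⊆ T') (s : ℕ) (M : Type u) [AddCommGroup M]
    [Module A M] [Module.Finite A M] :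
    (∃ J : Ideal A, PrimeSpectrum.zeroLocus (J : Set A) ⊆ T' ∧
        ∀ i : ℤ, i ≤ (s : ℤ) → Ann T J ((Dual.inD A M)⟦i⟧)) ↔
      (∀ p q : PrimeSpectrum A, p ∉ T' → q ∈ T → p ≤ q →
        (s : WithBot ℕ∞) < ((LocCoh.depth (Localization.AtPrime p.asIdeal)
          (LocalizedModule p.asIdeal.primeCompl M) : ℕ∞) : WithBot ℕ∞) +
            Order.krullDim (Set.Icc p q)) := by
  obtain ⟨ω, hω⟩ := hA
  have hb : ∃ a b : ℤ, ∀ j : ℤ, (j < a ∨ b < j) → Subsingleton (Dual.HD A (Dual.inD A M) j) := by
    refine ⟨0, 0, fun j hj => ?_⟩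
    rcases hj with hj | hj
    · exact subsingleton_HD_of_isGE (Dual.inD A M) 0 j hj
    · exact subsingleton_HD_of_isLE (Dual.inD A M) 0 j hj
  have hfin : ∀ j : ℤ, Module.Finite A (Dual.HD A (Dual.inD A M) j) := fun j =>
    Groth.Agent.Helper9.LT5.finite_HD_inD M j
  rw [main_bounded ω hω T T' hT hT' hTT' (s : ℤ) (Dual.inD A M) hb hfin]
  constructor
  · intro H p q hp hq hpq
    obtain ⟨h, hh⟩ := exists_height_Ici p q hpq
    rw [krullDim_Icc p q hpq, hh]
    exact (cond_iff p M s h).1 (H p q hpq hp hq h hh)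
  · intro H p q hpq hp hq h hh
    have h1 := H p q hp hq hpq
    rw [krullDim_Icc p q hpq, hh] at h1
    exact (cond_iff p M s h).2 h1

end Main

end Groth.Agent.Helper9.LF8
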