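import Mathlib
import Groth.Prelude.Def_DRing4
import Groth.Agent.Helper6.DualFun2
import Groth.Agent.Helper6.Coext4
import Groth.Agent.Helper3.DRingDev
import Groth.Agent.Helper3.DRingApprox

/-!
# Truncation lemmas in `D(A)`: a nonzero map `H^b(Y) → H^a(Y)` gives a nonzero map `Y[b] → Y[a]`
-/

set_option autoImplicit false
set_option linter.style.haveILetI false
set_option linter.unusedSectionVars false

universe u
open CategoryTheory CategoryTheory.Limits Pretriangulated DerivedCategory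
attribute [local instance] HasDerivedCategory.standard

namespace Groth.Agent.Helper9.XI1
open Groth.Agent.Helper3.DRingLib Groth.Agent.Helper6.DualFun

variable {A : Type u} [CommRing A]

/-- bottom truncation: for `Y ∈ D^{≥ 0}` there is a map from a module in degree `0` inducing an
isomorphism on `H^0` -/
lemma exists_cotrunc (Y : Dual.D A) [Y.IsGE 0] :
    ∃ (V : ModuleCat.{u} A) (s : (singleFunctor (ModuleCat.{u} A) 0).obj V ⟶ Y),
      IsIso ((homologyFunctor (ModuleCat.{u} A) 0).map s) := by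
  obtain ⟨X', Y'', hX', hY'', f, g, δ, hT⟩ := TStructure.t.exists_triangle Y 0 1 (by omega)
  haveI iX : X'.IsLE 0 := ⟨hX'⟩
  haveI iY : Y''.IsGE 1 := ⟨hY''⟩
  haveI iY' : (Triangle.mk f g δ).obj₃.IsGE (0 + 1) := iY
  have hf : ∀ i : ℤ, i ≤ 0 → IsIso ((homologyFunctor (ModuleCat.{u} A) i).map f) :=
    fun i hi => isIso_HD_mor₁ _ hT 0 i hi
  haveI : X'.IsGE 0 := by
    rw [DerivedCategory.isGE_iff]
    intro i hi
    haveI := hf i hi.le
    exact (Y.isZero_of_isGE 0 i hi).of_iso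
      (asIso ((homologyFunctor (ModuleCat.{u} A) i).map f))
  obtain ⟨e⟩ := exists_iso_single_HD X' 0
  let e' : X' ≅ (singleFunctor (ModuleCat.{u} A) 0).obj (ModuleCat.of A (Dual.HD A X' 0)) :=
    e ≪≫ (CategoryTheory.shiftFunctorZero' (Dual.D A) (-0) (by simp)).app _
  refine ⟨_, e'.inv ≫ f, ?_⟩
  haveI := hf 0 le_rfl
  rw [Functor.map_comp]
  infer_instance

/-- a nonzero map `H^0(Y₁) → H^0(Y₂)` with `Y₁ ∈ D^{≤ 0}`, `Y₂ ∈ D^{≥ 0}` is induced by a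
(nonzero) map `Y₁ → Y₂` -/
theorem exists_hom_of_H0 (Y₁ Y₂ : Dual.D A) [Y₁.IsLE 0] [Y₂.IsGE 0]
    (w : (homologyFunctor (ModuleCat.{u} A) 0).obj Y₁ ⟶
      (homologyFunctor (ModuleCat.{u} A) 0).obj Y₂) :
    ∃ θ : Y₁ ⟶ Y₂, (homologyFunctor (ModuleCat.{u} A) 0).map θ = w := by
  obtain ⟨V, s, hs⟩ := exists_cotrunc Y₂
  haveI := hs
  obtain ⟨t, ht⟩ := exists_bar_eq (X := Y₁)
    (w ≫ inv ((homologyFunctor (ModuleCat.{u} A) 0).map s) ≫ (canH V).hom)
  refine ⟨t ≫ s, ?_⟩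
  have h1 : (homologyFunctor (ModuleCat.{u} A) 0).map t =
      w ≫ inv ((homologyFunctor (ModuleCat.{u} A) 0).map s) := by
    have h2 : (homologyFunctor (ModuleCat.{u} A) 0).map t ≫ (canH V).hom =
        (w ≫ inv ((homologyFunctor (ModuleCat.{u} A) 0).map s)) ≫ (canH V).hom := by
      rw [Category.assoc]
      exact ht
    exact (cancel_mono _).mp h2
  rw [Functor.map_comp, h1, Category.assoc, IsIso.inv_hom_id, Category.comp_id]

theorem exists_ne_zero (Y₁ Y₂ : Dual.D A) [Y₁.IsLE 0] [Y₂.IsGE 0]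
    (w : (homologyFunctor (ModuleCat.{u} A) 0).obj Y₁ ⟶
      (homologyFunctor (ModuleCat.{u} A) 0).obj Y₂) (hw : w ≠ 0) :
    ∃ θ : Y₁ ⟶ Y₂, θ ≠ 0 := by
  obtain ⟨θ, hθ⟩ := exists_hom_of_H0 Y₁ Y₂ w
  refine ⟨θ, fun h => hw ?_⟩
  rw [← hθ, h, Functor.map_zero]

/-- a nonzero linear map `H^b(Y) → H^a(Y)` for `Y ∈ D^{[a,b]}` gives a nonzero map
`Y[b] → Y[a]` -/
theorem exists_shift_ne_zero (Y : Dual.D A) (a b : ℤ) [Y.IsGE a] [Y.IsLE b]
    (w : Dual.HD A Y b →ₗ[A] Dual.HD A Y a) (hw : w ≠ 0) :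
    ∃ θ : Y⟦b⟧ ⟶ Y⟦a⟧, θ ≠ 0 := by
  haveI : (Y⟦b⟧).IsLE 0 := TStructure.t.isLE_shift Y b b 0 (by omega)
  haveI : (Y⟦a⟧).IsGE 0 := TStructure.t.isGE_shift Y a a 0 (by omega)
  let eb := (homologyShiftNatIso (A := A) b 0 b (by omega)).app Y
  let ea := (homologyShiftNatIso (A := A) a 0 a (by omega)).app Y
  refine exists_ne_zero (Y⟦b⟧) (Y⟦a⟧) (eb.hom ≫ ModuleCat.ofHom w ≫ ea.inv) (fun h => hw ?_)
  have h1 : ModuleCat.ofHom w = eb.inv ≫ (eb.hom ≫ ModuleCat.ofHom w ≫ ea.inv) ≫ ea.hom := by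
    simp
  have h2 : ModuleCat.ofHom w = 0 := by
    rw [h1, h, zero_comp, comp_zero]
  have h3 := congrArg ModuleCat.Hom.hom h2
  exact h3

end Groth.Agent.Helper9.XI1
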