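import Mathlib

/-!
# Modules killed by a maximal ideal
-/

set_option autoImplicit false
set_option linter.style.haveILetI false
set_option linter.unusedSectionVars false

universe u

namespace Groth.Agent.Helper9.XI2a

variable {A : Type u} [CommRing A] (I : Ideal A) [hI : I.IsMaximal]

/-- two nonzero modules killed by a maximal ideal admit a nonzero linear map between them -/
theorem exists_linearMap_ne_zero (M M' : Type u) [AddCommGroup M] [Module A M] [AddCommGroup M']
    [Module A M'] [Nontrivial M] [Nontrivial M']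
    (hM : ∀ x ∈ I, ∀ m : M, x • m = 0) (hM' : ∀ x ∈ I, ∀ m : M', x • m = 0) :
    ∃ w : M →ₗ[A] M', w ≠ 0 := by
  have tM : Module.IsTorsionBySet A M I := fun m a => hM a.1 a.2 m
  have tM' : Module.IsTorsionBySet A M' I := fun m a => hM' a.1 a.2 m
  letI : Module (A ⧸ I) M := tM.module
  letI : Module (A ⧸ I) M' := tM'.module
  haveI : IsScalarTower A (A ⧸ I) M := tM.isScalarTower
  haveI : IsScalarTower A (A ⧸ I) M' := tM'.isScalarTower
  letI : Field (A ⧸ I) := Ideal.Quotient.field I
  obtain ⟨m, hm⟩ := exists_ne (0 : M)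
  obtain ⟨m', hm'⟩ := exists_ne (0 : M')
  obtain ⟨ℓ, hℓ⟩ : ∃ ℓ : Module.Dual (A ⧸ I) M, ℓ m ≠ 0 := by
    by_contra hcon
    exact hm ((Module.forall_dual_apply_eq_zero_iff (A ⧸ I) m).mp
      (fun ℓ => by_contra (fun h => hcon ⟨ℓ, h⟩)))
  refine ⟨((LinearMap.toSpanSingleton (A ⧸ I) M' m').comp ℓ).restrictScalars A, fun h => ?_⟩
  have h1 := congrArg (fun f => f m) h
  simp only [LinearMap.restrictScalars_apply, LinearMap.comp_apply,
    LinearMap.toSpanSingleton_apply, LinearMap.zero_apply] at h1
  rcases smul_eq_zero.mp h1 with h2 | h2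
  · exact hℓ h2
  · exact hm' h2

/-- a nonzero module killed by a maximal ideal all of whose endomorphisms are scalars is
isomorphic to the residue field -/
theorem nonempty_equiv_quot (M : Type u) [AddCommGroup M] [Module A M] [Nontrivial M]
    (hM : ∀ x ∈ I, ∀ m : M, x • m = 0)
    (hE : ∀ g : M →ₗ[A] M, ∃ x : A, g = x • LinearMap.id) :
    Nonempty (M ≃ₗ[A] A ⧸ I) := by
  have tM : Module.IsTorsionBySet A M I := fun m a => hM a.1 a.2 m
  letI : Module (A ⧸ I) M := tM.module
  haveI : IsScalarTower A (A ⧸ I) M := tM.isScalarTower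
  letI : Field (A ⧸ I) := Ideal.Quotient.field I
  let b := Module.Basis.ofVectorSpace (A ⧸ I) M
  haveI hne : Nonempty (Module.Basis.ofVectorSpaceIndex (A ⧸ I) M) := b.index_nonempty
  haveI hss : Subsingleton (Module.Basis.ofVectorSpaceIndex (A ⧸ I) M) := by
    classical
    refine ⟨fun i j => ?_⟩
    by_contra hij
    obtain ⟨x, hx⟩ := hE ((b.constr (A ⧸ I) (fun l => if l = i then b i else 0)).restrictScalars A)
    have h1 := congrArg (fun f => f (b i)) hx
    have h2 := congrArg (fun f => f (b j)) hx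
    simp only [LinearMap.restrictScalars_apply, Module.Basis.constr_basis, if_true,
      LinearMap.smul_apply, LinearMap.id_apply] at h1 h2
    rw [if_neg (Ne.symm hij)] at h2
    have h3 : (Ideal.Quotient.mk I x) • b i = b i := by
      rw [tM.mk_smul]
      exact h1.symm
    have h4 : (Ideal.Quotient.mk I x) • b j = 0 := by
      rw [tM.mk_smul]
      exact h2.symm
    have h5 : Ideal.Quotient.mk I x = 1 := by
      have h6 : (Ideal.Quotient.mk I x - 1) • b i = 0 := by
        rw [sub_smul, one_smul, h3, sub_self]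
      rcases smul_eq_zero.mp h6 with h7 | h7
      · exact sub_eq_zero.mp h7
      · exact absurd h7 (b.ne_zero i)
    rw [h5, one_smul] at h4
    exact b.ne_zero j h4
  exact ⟨(b.repr ≪≫ₗ Finsupp.uniqueLinearEquiv (A ⧸ I) (A ⧸ I)
    (Classical.arbitrary _)).restrictScalars A⟩

end Groth.Agent.Helper9.XI2a
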