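import Mathlib
import Groth.Prelude.Def_DRing4
import Groth.Agent.Helper9.XI1
import Groth.Agent.Helper9.XI2a
import Groth.Agent.Helper3.DRingHLin

/-!
# Recognising a shift of the residue field in `D(A)`
-/

set_option autoImplicit false
set_option linter.style.haveILetI false
set_option linter.unusedSectionVars false

universe u
open CategoryTheory CategoryTheory.Limits Pretriangulated DerivedCategory
attribute [local instance] HasDerivedCategory.standard

namespace Groth.Agent.Helper9.XI2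
open Groth.Agent.Helper3.DRingLib Groth.Agent.Helper6.DualFun

variable {A : Type u} [CommRing A]

lemma smul_HD_eq_zero (Y : Dual.D A) (x : A) (hx : x • 𝟙 Y = 0) (i : ℤ) (m : Dual.HD A Y i) :
    x • m = 0 := by
  rw [← HD_map_smul_id_apply Y x i m, hx, Functor.map_zero]
  rfl

/-- an object of `D^b(A)` killed by a maximal ideal, without negative self-extensions and with
only scalar endomorphisms, is a shift of the residue field -/
theorem main (I : Ideal A) [I.IsMaximal] (Y : Dual.D A)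
    (h1 : ∀ x ∈ I, x • 𝟙 Y = 0)
    (h2 : ∀ i j : ℤ, i < j → ∀ f : Y⟦j⟧ ⟶ Y⟦i⟧, f = 0)
    (h3 : ∀ f : Y ⟶ Y, ∃ x : A, f = x • 𝟙 Y)
    (h4 : ¬ IsZero Y)
    (a b : ℤ) (hYa : Y.IsGE a) (hYb : Y.IsLE b) :
    ∃ n : ℤ, Nonempty (Y ≅ (Dual.inD A (A ⧸ I))⟦n⟧) := by
  classical
  have hkill : ∀ (i : ℤ) (x : A), x ∈ I → ∀ m : Dual.HD A Y i, x • m = 0 :=
    fun i x hx m => smul_HD_eq_zero Y x (h1 x hx) i m
  -- some cohomology module is nonzero
  have hex : ∃ i : ℤ, Nontrivial (Dual.HD A Y i) := by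
    by_contra hcon
    have hs : ∀ i : ℤ, Subsingleton (Dual.HD A Y i) := fun i =>
      not_nontrivial_iff_subsingleton.mp (fun h => hcon ⟨i, h⟩)
    haveI : Y.IsLE (a - 1) := isLE_of_HD Y (a - 1) (fun i _ => hs i)
    exact h4 (TStructure.t.isZero Y (a - 1) a (by omega))
  have hlow : ∀ i : ℤ, Nontrivial (Dual.HD A Y i) → a ≤ i := by
    intro i hi
    by_contra hlt
    haveI := subsingleton_HD_of_isGE Y a i (by omega)
    exact false_of_nontrivial_of_subsingleton (Dual.HD A Y i)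
  have hhigh : ∀ i : ℤ, Nontrivial (Dual.HD A Y i) → i ≤ b := by
    intro i hi
    by_contra hlt
    haveI := subsingleton_HD_of_isLE Y b i (by omega)
    exact false_of_nontrivial_of_subsingleton (Dual.HD A Y i)
  obtain ⟨a', ha', hamin⟩ := Int.exists_least_of_bdd (P := fun i => Nontrivial (Dual.HD A Y i))
    ⟨a, hlow⟩ hex
  obtain ⟨b', hb', hbmax⟩ := Int.exists_greatest_of_bdd
    (P := fun i => Nontrivial (Dual.HD A Y i)) ⟨b, hhigh⟩ hex
  haveI iGE : Y.IsGE a' := isGE_of_HD Y a' (fun i hi =>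
    not_nontrivial_iff_subsingleton.mp (fun h => absurd (hamin i h) (by omega)))
  haveI iLE : Y.IsLE b' := isLE_of_HD Y b' (fun i hi =>
    not_nontrivial_iff_subsingleton.mp (fun h => absurd (hbmax i h) (by omega)))
  have hab : a' ≤ b' := hamin b' hb'
  have heq : a' = b' := by
    by_contra hne
    have hlt : a' < b' := lt_of_le_of_ne hab hne
    haveI := ha'
    haveI := hb'
    obtain ⟨w, hw⟩ := XI2a.exists_linearMap_ne_zero I (Dual.HD A Y b') (Dual.HD A Y a')
      (hkill b') (hkill a')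
    obtain ⟨θ, hθ⟩ := XI1.exists_shift_ne_zero Y a' b' w hw
    exact hθ (h2 a' b' hlt θ)
  subst heq
  haveI := ha'
  -- endomorphisms of the cohomology module are scalars
  have hE : ∀ g : Dual.HD A Y a' →ₗ[A] Dual.HD A Y a', ∃ x : A, g = x • LinearMap.id := by
    intro g
    haveI : (Y⟦a'⟧).IsLE 0 := TStructure.t.isLE_shift Y a' a' 0 (by omega)
    haveI : (Y⟦a'⟧).IsGE 0 := TStructure.t.isGE_shift Y a' a' 0 (by omega)
    let eb := (homologyShiftNatIso (A := A) a' 0 a' (by omega)).app Y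
    obtain ⟨θ, hθ⟩ := XI1.exists_hom_of_H0 (Y⟦a'⟧) (Y⟦a'⟧) (eb.hom ≫ ModuleCat.ofHom g ≫ eb.inv)
    obtain ⟨f, rfl⟩ := (shiftFunctor (Dual.D A) a').map_surjective θ
    obtain ⟨x, rfl⟩ := h3 f
    refine ⟨x, ?_⟩
    rw [Functor.map_smul, CategoryTheory.Functor.map_id, homologyFunctor_map_smul_id] at hθ
    have h5 : ModuleCat.ofHom g = eb.inv ≫ (eb.hom ≫ ModuleCat.ofHom g ≫ eb.inv) ≫ eb.hom := by
      simp
    rw [← hθ, Linear.smul_comp, Linear.comp_smul] at h5
    erw [Category.id_comp, Iso.inv_hom_id] at h5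
    have h6 := congrArg ModuleCat.Hom.hom h5
    exact h6
  obtain ⟨u⟩ := XI2a.nonempty_equiv_quot I (Dual.HD A Y a') (hkill a') hE
  obtain ⟨e⟩ := exists_iso_single_HD Y a'
  exact ⟨-a', ⟨e ≪≫ (shiftFunctor (Dual.D A) (-a')).mapIso
    ((singleFunctor (ModuleCat.{u} A) 0).mapIso u.toModuleIso)⟩⟩

end Groth.Agent.Helper9.XI2
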