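import Mathlib
import Groth.Prelude.Def_DRing4
import Groth.Agent.Helper9.XI2
import Groth.Agent.Helper6.FBC2
import Groth.Agent.Helper6.Coext4
import Groth.Agent.Helper3.DRingPC2

/-!
# An `A`-linear autoequivalence of `D^b_Coh(A)`: maps from `F(A)` to shifts of residue fields
-/

set_option autoImplicit false
set_option linter.style.haveILetI false
set_option linter.unusedSectionVars false

universe u
open CategoryTheory CategoryTheory.Limits Pretriangulated DerivedCategory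
attribute [local instance] HasDerivedCategory.standard

namespace Groth.Agent.Helper9.XI3
open Groth.Agent.Helper3.DRingLib Groth.Agent.Helper6

section general

variable {A : Type u} [CommRing A] {C : Type*} [Category C] [Preadditive C] [Linear A C]
  [HasShift C ℤ] {D : Type*} [Category D] [Preadditive D] [Linear A D] [HasShift D ℤ]
  (G : C ⥤ D) [G.CommShift ℤ] [G.Additive] [G.Linear A] [G.Full] [G.Faithful]

/-- `Hom(K[j], Z[i]) ≃ Hom(G(K)[j], G(Z)[i])` -/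
noncomputable def E₂ (K Z : C) (j i : ℤ) :
    (K⟦j⟧ ⟶ Z⟦i⟧) ≃ₗ[A] ((G.obj K)⟦j⟧ ⟶ (G.obj Z)⟦i⟧) :=
  (LinearEquiv.ofBijective (G.mapLinearMap A) ⟨G.map_injective, G.map_surjective⟩) ≪≫ₗ
    Linear.homCongr A ((G.commShiftIso j).app K) ((G.commShiftIso i).app Z)

/-- `Hom(K, Z[i]) ≃ Hom(G(K), G(Z)[i])` -/
noncomputable def E₁ (K Z : C) (i : ℤ) :
    (K ⟶ Z⟦i⟧) ≃ₗ[A] (G.obj K ⟶ (G.obj Z)⟦i⟧) :=
  (LinearEquiv.ofBijective (G.mapLinearMap A) ⟨G.map_injective, G.map_surjective⟩) ≪≫ₗ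
    Linear.homCongr A (Iso.refl _) ((G.commShiftIso i).app Z)

include G in
lemma smul_id_eq_zero_iff (Z : C) (x : A) : x • 𝟙 (G.obj Z) = 0 ↔ x • 𝟙 Z = 0 := by
  constructor
  · intro h
    apply G.map_injective
    rw [Functor.map_smul, CategoryTheory.Functor.map_id, h, Functor.map_zero]
  · intro h
    rw [← CategoryTheory.Functor.map_id, ← Functor.map_smul, h, Functor.map_zero]

end general

variable {A : Type u} [CommRing A]

section kappa

variable (I : Ideal A)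

lemma smul_id_kappa (x : A) (hx : x ∈ I) : x • 𝟙 (Dual.inD A (A ⧸ I)) = 0 := by
  have h : x • 𝟙 (ModuleCat.of A (A ⧸ I)) = 0 := by
    apply ModuleCat.hom_ext
    apply LinearMap.ext
    intro m
    obtain ⟨a, rfl⟩ := Ideal.Quotient.mk_surjective m
    change x • Ideal.Quotient.mk I a = 0
    rw [Algebra.smul_def, Ideal.Quotient.algebraMap_eq, ← map_mul]
    exact Ideal.Quotient.eq_zero_iff_mem.mpr (I.mul_mem_right a hx)
  change x • 𝟙 ((singleFunctor (ModuleCat.{u} A) 0).obj (ModuleCat.of A (A ⧸ I))) = 0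
  rw [← CategoryTheory.Functor.map_id, ← Functor.map_smul, h, Functor.map_zero]

lemma end_kappa (f : Dual.inD A (A ⧸ I) ⟶ Dual.inD A (A ⧸ I)) :
    ∃ x : A, f = x • 𝟙 (Dual.inD A (A ⧸ I)) := by
  obtain ⟨g, rfl⟩ := (singleFunctor (ModuleCat.{u} A) 0).map_surjective f
  obtain ⟨x, hx⟩ := Ideal.Quotient.mk_surjective (g.hom (1 : A ⧸ I))
  refine ⟨x, ?_⟩
  have h : g = x • 𝟙 (ModuleCat.of A (A ⧸ I)) := by
    apply ModuleCat.hom_ext
    apply LinearMap.ext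
    intro m
    obtain ⟨a, rfl⟩ := Ideal.Quotient.mk_surjective m
    change g.hom (Ideal.Quotient.mk I a) = x • Ideal.Quotient.mk I a
    have h1 : Ideal.Quotient.mk I a = a • (1 : A ⧸ I) := by
      rw [Algebra.smul_def, Ideal.Quotient.algebraMap_eq, mul_one]
    rw [h1, map_smul, ← hx, Algebra.smul_def, Algebra.smul_def, Algebra.smul_def,
      Ideal.Quotient.algebraMap_eq, mul_one, mul_comm]
  rw [h, Functor.map_smul, CategoryTheory.Functor.map_id]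

lemma hom_shift_kappa_eq_zero (i j : ℤ) (hij : i < j)
    (f : (Dual.inD A (A ⧸ I))⟦j⟧ ⟶ (Dual.inD A (A ⧸ I))⟦i⟧) : f = 0 := by
  haveI : ((Dual.inD A (A ⧸ I))⟦j⟧).IsLE (-j) :=
    TStructure.t.isLE_shift (Dual.inD A (A ⧸ I)) 0 j (-j) (by omega)
  haveI : ((Dual.inD A (A ⧸ I))⟦i⟧).IsGE (-i) :=
    TStructure.t.isGE_shift (Dual.inD A (A ⧸ I)) 0 i (-i) (by omega)
  exact TStructure.t.zero f (-j) (-i) (by omega)

lemma HD_kappa_equiv : Nonempty (Dual.HD A (Dual.inD A (A ⧸ I)) 0 ≃ₗ[A] A ⧸ I) :=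
  ⟨(HDinDIso (ModuleCat.of A (A ⧸ I))).toLinearEquiv⟩

lemma not_isZero_kappa [I.IsMaximal] : ¬ IsZero (Dual.inD A (A ⧸ I)) := by
  intro h
  obtain ⟨e⟩ := HD_kappa_equiv I
  have h0 : IsZero ((homologyFunctor (ModuleCat.{u} A) 0).obj (Dual.inD A (A ⧸ I))) :=
    (homologyFunctor (ModuleCat.{u} A) 0).map_isZero h
  haveI : Subsingleton (Dual.HD A (Dual.inD A (A ⧸ I)) 0) := ModuleCat.subsingleton_of_isZero h0
  haveI : Subsingleton (A ⧸ I) := e.symm.toEquiv.subsingleton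
  haveI : Nontrivial (A ⧸ I) := Ideal.Quotient.nontrivial_iff.mpr (Ideal.IsMaximal.ne_top inferInstance)
  exact false_of_nontrivial_of_subsingleton (A ⧸ I)

end kappa

/-- the unit corepresents `H^i` after shifting -/
noncomputable def homUnitEquiv (W : Dual.D A) (i : ℤ) :
    (Dual.inD A A ⟶ W⟦i⟧) ≃ₗ[A] Dual.HD A W i :=
  (LinearEquiv.ofBijective (FBC.ev (W⟦i⟧) 0) (FBC.ev_bijective (W⟦i⟧) 0)) ≪≫ₗ
    Coext.hdShift W i 0 i (by omega)

theorem main [IsNoetherianRing A] (P : ObjectProperty (Dual.D A))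
    (hP : ∀ K : Dual.D A, P K ↔
      ((∀ i : ℤ, Module.Finite A (Dual.HD A K i)) ∧
        ∃ a b : ℤ, ∀ i : ℤ, (i < a ∨ b < i) → Subsingleton (Dual.HD A K i)))
    [P.IsTriangulated]
    (F : P.FullSubcategory ⥤ P.FullSubcategory) [F.CommShift ℤ] [F.IsEquivalence]
    [F.Additive] [F.Linear A]
    (hA : P (Dual.inD A A)) (I : Ideal A) [I.IsMaximal] :
    ∃ n : ℤ, ∀ i : ℤ, Nonempty (((F.obj ⟨Dual.inD A A, hA⟩).obj ⟶
      ((Dual.inD A (A ⧸ I))⟦n⟧)⟦i⟧) ≃ₗ[A] Dual.HD A (Dual.inD A (A ⧸ I)) i) := by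
  have hκ : P (Dual.inD A (A ⧸ I)) := by
    rw [hP]
    refine ⟨fun i => ?_, 0, 0, fun i hi => ?_⟩
    · by_cases hi : i = 0
      · subst hi
        obtain ⟨e⟩ := HD_kappa_equiv I
        exact Module.Finite.equiv e.symm
      · haveI : Subsingleton (Dual.HD A (Dual.inD A (A ⧸ I)) i) := by
          rcases lt_or_gt_of_ne hi with h | h
          · exact subsingleton_HD_of_isGE _ 0 i h
          · exact subsingleton_HD_of_isLE _ 0 i h
        infer_instance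
    · rcases hi with h | h
      · exact subsingleton_HD_of_isGE _ 0 i h
      · exact subsingleton_HD_of_isLE _ 0 i h
  let K : P.FullSubcategory := ⟨Dual.inD A A, hA⟩
  let Z : P.FullSubcategory := ⟨Dual.inD A (A ⧸ I), hκ⟩
  let G₁ : P.FullSubcategory ⥤ Dual.D A := P.ι
  let G₂ : P.FullSubcategory ⥤ Dual.D A := F ⋙ P.ι
  let Y : Dual.D A := G₂.obj Z
  have hY : P Y := (F.obj Z).property
  obtain ⟨-, a, b, hab⟩ := (hP Y).mp hY
  have hYa : Y.IsGE a := isGE_of_HD Y a (fun i hi => hab i (Or.inl hi))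
  have hYb : Y.IsLE b := isLE_of_HD Y b (fun i hi => hab i (Or.inr hi))
  have h1 : ∀ x ∈ I, x • 𝟙 Y = 0 := fun x hx =>
    (smul_id_eq_zero_iff G₂ Z x).mpr ((smul_id_eq_zero_iff G₁ Z x).mp (smul_id_kappa I x hx))
  have h2 : ∀ i j : ℤ, i < j → ∀ f : Y⟦j⟧ ⟶ Y⟦i⟧, f = 0 := by
    intro i j hij f
    haveI : Subsingleton ((G₁.obj Z)⟦j⟧ ⟶ (G₁.obj Z)⟦i⟧) :=
      ⟨fun f g => (hom_shift_kappa_eq_zero I i j hij f).trans
        (hom_shift_kappa_eq_zero I i j hij g).symm⟩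
    haveI : Subsingleton (Z⟦j⟧ ⟶ Z⟦i⟧) := (E₂ (A := A) G₁ Z Z j i).toEquiv.subsingleton
    haveI : Subsingleton (Y⟦j⟧ ⟶ Y⟦i⟧) := (E₂ (A := A) G₂ Z Z j i).symm.toEquiv.subsingleton
    exact Subsingleton.elim _ _
  have h3 : ∀ f : Y ⟶ Y, ∃ x : A, f = x • 𝟙 Y := by
    intro f
    obtain ⟨g, rfl⟩ := G₂.map_surjective f
    obtain ⟨x, hx⟩ := end_kappa I (G₁.map g)
    refine ⟨x, ?_⟩
    have hg : g = x • 𝟙 Z := by
      apply G₁.map_injective
      rw [hx, Functor.map_smul, CategoryTheory.Functor.map_id]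
      rfl
    rw [hg, Functor.map_smul, CategoryTheory.Functor.map_id]
  have h4 : ¬ IsZero Y := by
    intro h
    have h5 : (1 : A) • 𝟙 Y = 0 := h.eq_of_src _ _
    have h6 := (smul_id_eq_zero_iff G₁ Z 1).mpr ((smul_id_eq_zero_iff G₂ Z 1).mp h5)
    rw [one_smul] at h6
    exact not_isZero_kappa I ((IsZero.iff_id_eq_zero _).mpr h6)
  obtain ⟨n, ⟨e⟩⟩ := XI2.main I Y h1 h2 h3 h4 a b hYa hYb
  refine ⟨n, fun i => ⟨?_⟩⟩
  exact Linear.homCongr A (Iso.refl _) ((shiftFunctor (Dual.D A) i).mapIso e.symm) ≪≫ₗ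
    (E₁ (A := A) G₂ K Z i).symm ≪≫ₗ E₁ (A := A) G₁ K Z i ≪≫ₗ
    homUnitEquiv (Dual.inD A (A ⧸ I)) i

end Groth.Agent.Helper9.XI3
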