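import Mathlib
import Groth.Prelude.Def_DualLC
import Groth.Prelude.Def_DRing4
import Groth.Agent.Helper9.LT0
import Groth.Agent.Helper9.LCT2
import Groth.Agent.Helper9.LCT3
import Groth.Agent.Helper9.GM2
import Groth.Agent.Helper9.XI3
import Groth.Agent.Helper9.DerNilp
import Groth.Agent.Helper9.LF3
import Groth.Agent.Helper6.LcD10
import Groth.Agent.Helper6.LcD13
import Groth.Agent.Helper6.DComplLES
import Groth.Agent.Helper6.Coext4
import Groth.Agent.Helper9.LF8
import Groth.Agent.Helper9.LF9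

/-!
# Derived completion and cohomological dimension: amplitude and annihilators
-/

set_option autoImplicit false
set_option linter.style.haveILetI false
set_option linter.unusedSectionVars false
set_option linter.unusedVariables false

universe u
open CategoryTheory CategoryTheory.Limits Opposite DerivedCategory Pretriangulated
attribute [local instance] HasDerivedCategory.standard

namespace Groth.Agent.Helper9.LF10
open Groth.Agent.Helper9.LCT2 Groth.Agent.Helper9.LCT3 Groth.Agent.Helper9.GM1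
  Groth.Agent.Helper9.GM2 Groth.Agent.Helper3.DRingLib Groth.Agent.Helper6.DComplAmp
  Groth.Agent.Helper6.DComplExact Groth.Agent.Helper6.DComplLES

variable {A : Type u} [CommRing A] [IsNoetherianRing A]

section Scalars

/-- an element acting as zero on an object acts as zero on its cohomology -/
lemma smul_HD_eq_zero (X : Dual.D A) (r : A) (h : r • 𝟙 X = 0) (i : ℤ) (x : Dual.HD A X i) :
    r • x = 0 := by
  have h1 : (homologyFunctor (ModuleCat.{u} A) i).map (r • 𝟙 X) =
      r • 𝟙 ((homologyFunctor (ModuleCat.{u} A) i).obj X) := by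
    rw [Functor.map_smul, CategoryTheory.Functor.map_id]
  rw [h, Functor.map_zero] at h1
  have h2 := congrArg (fun φ => φ.hom x) h1
  simp only [ModuleCat.hom_zero, LinearMap.zero_apply, ModuleCat.hom_smul, ModuleCat.hom_id,
    LinearMap.smul_apply, LinearMap.id_coe, id_eq] at h2
  exact h2.symm

variable (I : Ideal A) [DRing.HasDerivedCompletion I]

/-- scalars acting as zero on `X` act as zero on the completion of `X` -/
lemma smul_id_completion (X : Dual.D A) (r : A) (h : r • 𝟙 X = 0) :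
    r • 𝟙 ((DRing.derivedCompletion I).obj X).obj = 0 := by
  have hC := ((DRing.derivedCompletion I).obj X).property
  apply (toDerivedCompletion_bijective I X _ hC).1
  dsimp only
  rw [Linear.comp_smul, Category.comp_id, comp_zero]
  have h1 : r • DRing.toDerivedCompletion I X = (r • 𝟙 X) ≫ DRing.toDerivedCompletion I X := by
    rw [Linear.smul_comp, Category.id_comp]
  rw [h1, h, zero_comp]

end Scalars

section Amp

variable (I : Ideal A) [DRing.HasRgammaI I]

lemma isPowerTorsion_of_equiv {N N' : Type*} [AddCommGroup N] [Module A N] [AddCommGroup N']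
    [Module A N'] (e : N ≃ₗ[A] N') (h : LocCoh.IsPowerTorsion I N') :
    LocCoh.IsPowerTorsion I N := by
  intro m
  obtain ⟨n, hn⟩ := h (e m)
  refine ⟨n, fun a ha => ?_⟩
  apply e.injective
  rw [map_smul, hn a ha, map_zero]

/-- shifts of objects with power torsion cohomology -/
lemma tors_shift (T : Dual.D A) (hT : Tors I T) (a : ℤ) : Tors I (T⟦a⟧) := fun j =>
  isPowerTorsion_of_equiv I (Groth.Agent.Helper6.Coext.hdShift T a j (a + j) rfl) (hT (a + j))

/-- `RΓ_I(A)` lives in degrees `≤ d` when `cd(A, I) ≤ d` -/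
lemma isLE_RgammaI_unit (d : ℕ) (hcd : LocCoh.CdLE A I d) :
    ((DRing.RgammaI I).obj (Dual.inD A A)).IsLE d := by
  apply isLE_of_HD
  intro j hj
  obtain ⟨e1⟩ := Groth.Agent.Helper6.LcD.hd_rgamma I j (Dual.inD A A)
  obtain ⟨k, rfl⟩ := Int.eq_ofNat_of_zero_le (by omega : 0 ≤ j)
  obtain ⟨e2⟩ := Groth.Agent.Helper6.LcD.bridge I A k
  haveI := hcd A k (by omega)
  exact (e1 ≪≫ₗ e2.symm).toEquiv.subsingleton

variable [DRing.HasDerivedCompletion I]

/-- **amplitude of derived completion** for `cd(A, I) ≤ d` -/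
theorem subsingleton_HD_completion (d : ℕ) (hcd : LocCoh.CdLE A I d) (Y : Dual.D A) (n : ℤ)
    [Y.IsGE (n + 1)] (i : ℤ) (hi : i + d ≤ n) :
    Subsingleton (Dual.HD A ((DRing.derivedCompletion I).obj Y).obj i) := by
  have hC : DRing.IsDerivedComplete I ((DRing.derivedCompletion I).obj Y).obj :=
    ((DRing.derivedCompletion I).obj Y).property
  have key : ∀ g : Dual.inD A A ⟶ (((DRing.derivedCompletion I).obj Y).obj)⟦i⟧, g = 0 := by
    intro g
    apply (precomp_ε_bijective I (Dual.inD A A) _ (isDerivedComplete_shift I _ i hC)).1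
    dsimp only
    rw [comp_zero]
    generalize (DRing.RgammaIε I).app (Dual.inD A A) ≫ g = ψ
    apply (shiftFunctor (Dual.D A) (-i)).map_injective
    rw [Functor.map_zero]
    let e : ((((DRing.derivedCompletion I).obj Y).obj)⟦i⟧)⟦-i⟧ ≅
        ((DRing.derivedCompletion I).obj Y).obj :=
      (shiftFunctorCompIsoId (Dual.D A) i (-i) (by omega)).app _
    rw [← cancel_mono e.hom, zero_comp]
    have hTors : Tors I (((DRing.RgammaI I).obj (Dual.inD A A))⟦-i⟧) :=
      tors_shift I _ (fun j => isPowerTorsion_RgammaI I (Dual.inD A A) j) (-i)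
    obtain ⟨χ, hχ⟩ := (postcomp_toDerivedCompletion_bijective I _ hTors Y).2
      ((shiftFunctor (Dual.D A) (-i)).map ψ ≫ e.hom)
    dsimp only at hχ
    rw [← hχ]
    haveI := isLE_RgammaI_unit I d hcd
    haveI : (((DRing.RgammaI I).obj (Dual.inD A A))⟦-i⟧).IsLE (d + i) :=
      DerivedCategory.TStructure.t.isLE_shift _ d (-i) (d + i) (by omega)
    have h0 : χ = 0 := DerivedCategory.TStructure.t.zero χ (d + i) (n + 1) (by omega)
    rw [h0, zero_comp]
  haveI : Subsingleton (Dual.inD A A ⟶ (((DRing.derivedCompletion I).obj Y).obj)⟦i⟧) :=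
    ⟨fun g g' => by rw [key g, key g']⟩
  exact (Groth.Agent.Helper9.XI3.homUnitEquiv _ i).symm.toEquiv.subsingleton

end Amp

section Ann

variable (I : Ideal A) [DRing.HasRgammaI I] [DRing.HasDerivedCompletion I]

lemma pow_smul_id (X : Dual.D A) (r : A) (f : CategoryTheory.End X)
    (hf : f = (r • 𝟙 X : X ⟶ X)) (k : ℕ) : f ^ k = (r ^ k • 𝟙 X : X ⟶ X) := by
  induction k with
  | zero =>
    rw [pow_zero, pow_zero, one_smul]
    rfl
  | succ k ih =>
    rw [pow_succ, ih, CategoryTheory.End.mul_def, hf, Linear.smul_comp, Linear.comp_smul,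
      Category.comp_id, smul_smul, pow_succ, mul_comm]

/-- **annihilators of the cohomology of a derived completion** in low degrees, for
`cd(A, I) ≤ d` -/
theorem ann_completion (d : ℕ) (hcd : LocCoh.CdLE A I d) (L : Dual.D A) [L.IsGE 0] (s : ℕ)
    (r : A) (hr : ∀ j : ℤ, j ≤ (s : ℤ) + d → ∀ x : Dual.HD A L j, r • x = 0) (i : ℤ)
    (hi : i ≤ s) (x : Dual.HD A ((DRing.derivedCompletion I).obj L).obj i) :
    r ^ (s + d + 1) • x = 0 := by
  obtain ⟨X, Y, hX, hY, f, g, δ, hT⟩ :=
    TStructure.t.exists_triangle L ((s : ℤ) + d) ((s : ℤ) + d + 1) (by omega)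
  haveI iX : X.IsLE ((s : ℤ) + d) := ⟨hX⟩
  haveI iY : Y.IsGE ((s : ℤ) + d + 1) := ⟨hY⟩
  have hYz : ∀ j : ℤ, j ≤ (s : ℤ) + d → HZ Y j := fun j hj =>
    Y.isZero_of_isGE ((s : ℤ) + d + 1) j (by omega)
  have hmono : ∀ j : ℤ, j ≤ (s : ℤ) + d + 1 →
      Function.Injective ((homologyFunctor (ModuleCat.{u} A) j).map f).hom := by
    intro j hj
    haveI := mono_mor₁ (Triangle.mk f g δ) hT (j - 1) j (by omega) (hYz (j - 1) (by omega))
    exact (ModuleCat.mono_iff_injective _).1 (by assumption)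
  -- `r` kills the cohomology of `X`
  have hrX : ∀ (j : ℤ) (y : Dual.HD A X j), r • y = 0 := by
    intro j y
    by_cases hj : j ≤ (s : ℤ) + d
    · apply hmono j (by omega)
      rw [map_smul, map_zero]
      exact hr j hj _
    · haveI := subsingleton_HD_of_isLE X ((s : ℤ) + d) j (by omega)
      exact Subsingleton.elim _ _
  haveI : X.IsGE 0 := by
    apply isGE_of_HD
    intro j hj
    haveI := subsingleton_HD_of_isGE L 0 j hj
    exact (hmono j (by omega)).subsingleton
  haveI : X.IsLE (0 + ((s + d : ℕ) : ℤ)) := by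
    have : (0 : ℤ) + ((s + d : ℕ) : ℤ) = (s : ℤ) + d := by push_cast; ring
    rw [this]
    exact iX
  have hnil := Groth.Agent.Helper9.DerNilp.main (s + d) 0 X (r • 𝟙 X : X ⟶ X) (by
    intro j
    ext y
    have h1 : (homologyFunctor (ModuleCat.{u} A) j).map (r • 𝟙 X) =
        r • 𝟙 ((homologyFunctor (ModuleCat.{u} A) j).obj X) := by
      rw [Functor.map_smul, CategoryTheory.Functor.map_id]
    rw [h1]
    simp only [ModuleCat.hom_zero, LinearMap.zero_apply, ModuleCat.hom_smul, ModuleCat.hom_id,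
      LinearMap.smul_apply, LinearMap.id_coe, id_eq]
    exact hrX j y)
  rw [pow_smul_id X r _ rfl] at hnil
  have hXc := smul_id_completion I X (r ^ (s + d + 1)) hnil
  -- the completed triangle
  obtain ⟨δ', hT'⟩ := derivedCompletion_distinguished I (Triangle.mk f g δ) hT
  have hz : ∀ j : ℤ, j ≤ (s : ℤ) → HZ ((DRing.derivedCompletion I).obj Y).obj j := fun j hj =>
    (hz_iff_subsingleton _ j).2
      (subsingleton_HD_completion I d hcd Y ((s : ℤ) + d) j (by omega))
  have hepi : Epi ((homologyFunctor (ModuleCat.{u} A) i).map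
      ((DRing.derivedCompletion I).map f).hom) := epi_mor₁ _ hT' i (hz i hi)
  have hsurj : Function.Surjective ((homologyFunctor (ModuleCat.{u} A) i).map
      ((DRing.derivedCompletion I).map f).hom).hom :=
    (ModuleCat.epi_iff_surjective _).1 hepi
  obtain ⟨y, rfl⟩ := hsurj x
  rw [← map_smul, smul_HD_eq_zero _ _ hXc i y, map_zero]

end Ann

section Main

open Groth.Agent.Helper9.LT1 Groth.Agent.Helper9.LT2 Groth.Agent.Helper9.LF3
  Groth.Agent.Helper9.LF8 Groth.Agent.Helper9.LF9

variable (I J : Ideal A) [DRing.HasDerivedCompletion I] [DRing.HasRgammaI J]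
  (M : Type u) [AddCommGroup M] [Module A M] [Module.Finite A M]

/-- transfer of annihilators from `H^j_{J+I}(M)`, `j ≤ s + d`, to the cohomology of the derived
completion of `RΓ_J(M)` in degrees `≤ s` -/
theorem ann_completion_RgammaI (d : ℕ) (hcd : LocCoh.CdLE A I d) (s : ℕ) (r : A)
    (hr : ∀ j : ℤ, j ≤ (s : ℤ) + d → ∀ x : HX (PrimeSpectrum.zeroLocus ((J ⊔ I : Ideal A) : Set A))
      ((Dual.inD A M)⟦j⟧), r • x = 0) (i : ℤ) (hi : i ≤ s)
    (x : Dual.HD A ((DRing.derivedCompletion I).obj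
      ((DRing.RgammaI J).obj (Dual.inD A M))).obj i) : r ^ (s + d + 1) • x = 0 := by
  haveI : DRing.HasRgammaI I := hasRgammaI I
  haveI : DRing.HasRgammaI (J ⊔ I) := hasRgammaI (J ⊔ I)
  have eL : ∀ j : ℤ, Dual.HD A ((DRing.RgammaI (J ⊔ I)).obj (Dual.inD A M)) j ≃ₗ[A]
      HX (PrimeSpectrum.zeroLocus ((J ⊔ I : Ideal A) : Set A)) ((Dual.inD A M)⟦j⟧) := fun j =>
    (Groth.Agent.Helper6.LcD.hd_rgamma (J ⊔ I) j (Dual.inD A M)).some ≪≫ₗ
      cmpEquiv (J ⊔ I) (Dual.inD A M) j
  haveI : ((DRing.RgammaI (J ⊔ I)).obj (Dual.inD A M)).IsGE 0 := by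
    apply isGE_of_HD
    intro j hj
    haveI : ((Dual.inD A M)⟦j⟧).IsGE (0 - j) :=
      DerivedCategory.TStructure.t.isGE_shift (Dual.inD A M) 0 j (0 - j) (by omega)
    haveI : ((Dual.inD A M)⟦j⟧).IsGE 1 :=
      DerivedCategory.TStructure.t.isGE_of_ge ((Dual.inD A M)⟦j⟧) 1 (0 - j) (by omega)
    haveI := subsingleton_of_isGE
      (T := PrimeSpectrum.zeroLocus ((J ⊔ I : Ideal A) : Set A)) ((Dual.inD A M)⟦j⟧)
    exact (eL j).toEquiv.subsingleton
  have hrL : ∀ j : ℤ, j ≤ (s : ℤ) + d →
      ∀ y : Dual.HD A ((DRing.RgammaI (J ⊔ I)).obj (Dual.inD A M)) j, r • y = 0 := by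
    intro j hj y
    apply (eL j).injective
    rw [map_smul, map_zero]
    exact hr j hj _
  let e1 : (DRing.RgammaI I).obj ((DRing.RgammaI J).obj (Dual.inD A M)) ≅
      (DRing.RgammaI (J ⊔ I)).obj (Dual.inD A M) :=
    (nonempty_comp_iso J I (Dual.inD A M)).some
  haveI := isIso_derivedCompletion_map_ε I ((DRing.RgammaI J).obj (Dual.inD A M))
  let e2 : (DRing.derivedCompletion I).obj ((DRing.RgammaI (J ⊔ I)).obj (Dual.inD A M)) ≅
      (DRing.derivedCompletion I).obj ((DRing.RgammaI J).obj (Dual.inD A M)) :=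
    (DRing.derivedCompletion I).mapIso e1.symm ≪≫
      asIso ((DRing.derivedCompletion I).map
        ((DRing.RgammaIε I).app ((DRing.RgammaI J).obj (Dual.inD A M))))
  let e3 : ((DRing.derivedCompletion I).obj
        ((DRing.RgammaI (J ⊔ I)).obj (Dual.inD A M))).obj ≅
      ((DRing.derivedCompletion I).obj ((DRing.RgammaI J).obj (Dual.inD A M))).obj :=
    (ObjectProperty.ι (DRing.IsDerivedComplete I)).mapIso e2
  let e4 := ((homologyFunctor (ModuleCat.{u} A) i).mapIso e3).toLinearEquiv
  obtain ⟨y, rfl⟩ := e4.surjective x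
  rw [← map_smul, ann_completion I d hcd _ s r hrL i hi y, map_zero]

/-- **annihilators of the cohomology of the derived completion of `RΓ_J(M)`** -/
theorem exists_notMem_smul_eq_zero (hdc : ∃ ω : Dual.D A, Dual.IsDualizing A ω)
    (p : PrimeSpectrum A) (s d : ℕ) (h2 : ¬ (J ≤ p.asIdeal ∧ I ≤ p.asIdeal))
    (h3 : LocCoh.CdLE A I d)
    (h4 : ∀ p' : PrimeSpectrum A, p' ≤ p → ∀ q : PrimeSpectrum A, p' ≤ q → J ≤ q.asIdeal →
      I ≤ q.asIdeal → (((d + s : ℕ) : ℕ∞) : WithBot ℕ∞) <
        ((LocCoh.depth (Localization.AtPrime p'.asIdeal)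
          (LocalizedModule p'.asIdeal.primeCompl M) : ℕ∞) : WithBot ℕ∞) +
          Formal2.dimBetween A p'.asIdeal q.asIdeal) :
    ∃ f : A, f ∉ p.asIdeal ∧ ∀ i : ℤ, i ≤ s → ∀ x : Dual.HD A ((DRing.derivedCompletion I).obj
      ((DRing.RgammaI J).obj (Dual.inD A M))).obj i, f • x = 0 := by
  have hT : StableUnderSpecialization (PrimeSpectrum.zeroLocus ((J ⊔ I : Ideal A) : Set A)) :=
    (PrimeSpectrum.isClosed_zeroLocus _).stableUnderSpecialization
  have hT' : StableUnderSpecialization {q' : PrimeSpectrum A | ¬ q' ≤ p} := by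
    intro x y hxy hx hyp
    exact hx (((PrimeSpectrum.le_iff_specializes x y).mpr hxy).trans hyp)
  have hTT' : PrimeSpectrum.zeroLocus ((J ⊔ I : Ideal A) : Set A) ⊆
      {q' : PrimeSpectrum A | ¬ q' ≤ p} := by
    intro q hq hqp
    rw [PrimeSpectrum.mem_zeroLocus, SetLike.coe_subset_coe] at hq
    have hqp' := (PrimeSpectrum.asIdeal_le_asIdeal q p).mpr hqp
    exact h2 ⟨(le_sup_left.trans hq).trans hqp', (le_sup_right.trans hq).trans hqp'⟩
  obtain ⟨𝔠, h𝔠, hann⟩ := (module_form hdc _ _ hT hT' hTT' (s + d) M).2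
    (fun p' q hp' hq hp'q => by
      have h1 : p' ≤ p := not_not.mp hp'
      rw [PrimeSpectrum.mem_zeroLocus, SetLike.coe_subset_coe] at hq
      have h := h4 p' h1 q hp'q (le_sup_left.trans hq) (le_sup_right.trans hq)
      rw [dimBetween_eq, WithBot.coe_natCast, Nat.add_comm] at h
      exact h)
  have h𝔠p : ¬ 𝔠 ≤ p.asIdeal := by
    intro hle
    have h1 : p ∈ {q' : PrimeSpectrum A | ¬ q' ≤ p} := h𝔠 (by
      rw [PrimeSpectrum.mem_zeroLocus]
      exact hle)
    exact h1 le_rfl
  obtain ⟨f, hf𝔠, hfp⟩ := SetLike.not_le_iff_exists.mp h𝔠p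
  refine ⟨f ^ (s + d + 1), fun h => hfp (p.isPrime.mem_of_pow_mem _ h), fun i hi x => ?_⟩
  exact ann_completion_RgammaI I J M d h3 s f (fun j hj y => hann j (by push_cast; omega) f hf𝔠 y)
    i hi x

end Main

section Semicont

open Groth.Agent.Helper9.LF5 Groth.Agent.Helper9.LF8 Groth.Agent.Helper9.LF9

variable (M : Type u) [AddCommGroup M] [Module A M] [Module.Finite A M]

/-- `p ↦ depth(M_p) + dim((A/p)_q)` does not increase under generization -/
theorem depth_add_dim_le (hdc : ∃ ω : Dual.D A, Dual.IsDualizing A ω)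
    (p' p q : PrimeSpectrum A) (hp'p : p' ≤ p) (hpq : p ≤ q) :
    ((LocCoh.depth (Localization.AtPrime p.asIdeal)
        (LocalizedModule p.asIdeal.primeCompl M) : ℕ∞) : WithBot ℕ∞) +
        Formal2.dimBetween A p.asIdeal q.asIdeal ≤
      ((LocCoh.depth (Localization.AtPrime p'.asIdeal)
        (LocalizedModule p'.asIdeal.primeCompl M) : ℕ∞) : WithBot ℕ∞) +
        Formal2.dimBetween A p'.asIdeal q.asIdeal := by
  obtain ⟨ω, hω⟩ := hdc
  obtain ⟨δ, lo, hi, hδ1, hδ2, hanti, hbd⟩ := exists_delta ω hω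
  obtain ⟨h₁, hδ₁, hd₁, _⟩ := exists_h δ hδ2 p q hpq
  obtain ⟨h₂, hδ₂, hd₂, _⟩ := exists_h δ hδ2 p' q (hp'p.trans hpq)
  rw [hd₁, hd₂, ← WithBot.coe_add, ← WithBot.coe_add, WithBot.coe_le_coe]
  haveI : IsNoetherianRing (Localization.AtPrime p'.asIdeal) :=
    IsLocalization.isNoetherianRing p'.asIdeal.primeCompl _ inferInstance
  haveI : Module.Finite (Localization.AtPrime p'.asIdeal)
      (LocalizedModule p'.asIdeal.primeCompl M) :=
    Module.Finite.of_isLocalizedModule p'.asIdeal.primeCompl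
      (LocalizedModule.mkLinearMap p'.asIdeal.primeCompl M)
  haveI : IsNoetherianRing (Localization.AtPrime p.asIdeal) :=
    IsLocalization.isNoetherianRing p.asIdeal.primeCompl _ inferInstance
  haveI : Module.Finite (Localization.AtPrime p.asIdeal)
      (LocalizedModule p.asIdeal.primeCompl M) :=
    Module.Finite.of_isLocalizedModule p.asIdeal.primeCompl
      (LocalizedModule.mkLinearMap p.asIdeal.primeCompl M)
  rcases depth_cases M p' with htop | ⟨e', he'⟩
  · rw [htop, top_add]
    exact le_top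
  have hne := not_subsingleton_at_depth (LocalizedModule p'.asIdeal.primeCompl M) e' he'
  rw [lc_loc_iff ω hω δ hδ1 M p' e'] at hne
  have hle : Module.annihilator A (Dual.inD A M ⟶ ω⟦-δ p' - (e' : ℤ)⟧) ≤ p.asIdeal :=
    hne.trans ((PrimeSpectrum.asIdeal_le_asIdeal p' p).mpr hp'p)
  have hrew : -δ p - (-δ p - (-δ p' - (e' : ℤ))) = -δ p' - (e' : ℤ) := by ring
  have hk0 : 0 ≤ -δ p - (-δ p' - (e' : ℤ)) :=
    nonneg_of_ann_le ω hω δ hδ1 M p _ (by rw [hrew]; exact hle)
  obtain ⟨k, hk⟩ := Int.eq_ofNat_of_zero_le hk0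
  have hne' : ¬ Subsingleton (LocCoh.H (IsLocalRing.maximalIdeal (Localization.AtPrime p.asIdeal)) k
      (LocalizedModule p.asIdeal.primeCompl M)) := by
    rw [lc_loc_iff ω hω δ hδ1 M p k, ← hk, hrew]
    exact hle
  have hdk := depth_le_of_not_subsingleton (LocalizedModule p.asIdeal.primeCompl M) k hne'
  rcases depth_cases M p with htop | ⟨e, he⟩
  · rw [htop, top_le_iff] at hdk
    exact absurd hdk (ENat.natCast_ne_top k)
  rw [he, he']
  have hek : e ≤ k := by
    rw [he] at hdk
    exact_mod_cast hdk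
  have : e + h₁ ≤ e' + h₂ := by omega
  exact_mod_cast this

end Semicont

section Local

open Groth.Agent.Helper9.LT1 Groth.Agent.Helper9.LT2 Groth.Agent.Helper9.LF1
  Groth.Agent.Helper9.LF3 Groth.Agent.Helper9.LF8 Groth.Agent.Helper9.LF9 IsLocalRing

variable [IsLocalRing A]

/-- `dim (A/p)_m = dim A/p` in a local ring -/
lemma dimBetween_closedPoint (p : PrimeSpectrum A) :
    Formal2.dimBetween A p.asIdeal (closedPoint A).asIdeal = ringKrullDim (A ⧸ p.asIdeal) := by
  rw [dimBetween_eq, ringKrullDim]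
  symm
  apply Order.krullDim_eq_of_orderIso
  refine (Ideal.primeSpectrumQuotientOrderIsoZeroLocus _).trans ?_
  exact
    { toFun := fun x => ⟨x.1, (PrimeSpectrum.asIdeal_le_asIdeal p x.1).mp
          (by have := x.2; rw [PrimeSpectrum.mem_zeroLocus, SetLike.coe_subset_coe] at this
              exact this),
        (PrimeSpectrum.asIdeal_le_asIdeal x.1 (closedPoint A)).mp
          (le_maximalIdeal x.1.isPrime.ne_top)⟩
      invFun := fun y => ⟨y.1, by
        rw [PrimeSpectrum.mem_zeroLocus, SetLike.coe_subset_coe]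
        exact (PrimeSpectrum.asIdeal_le_asIdeal p y.1).mpr y.2.1⟩
      left_inv := fun x => rfl
      right_inv := fun y => rfl
      map_rel_iff' := Iff.rfl }

variable (I : Ideal A) [DRing.HasDerivedCompletion I] [DRing.HasRgammaI (maximalIdeal A)]
  (M : Type u) [AddCommGroup M] [Module A M] [Module.Finite A M]

/-- the local case -/
theorem exists_notMem_smul_eq_zero_local (hdc : ∃ ω : Dual.D A, Dual.IsDualizing A ω)
    (p : PrimeSpectrum A) (s d : ℕ) (h2 : LocCoh.CdLE A I d)
    (h3 : (((d + s : ℕ) : ℕ∞) : WithBot ℕ∞) <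
      ((LocCoh.depth (Localization.AtPrime p.asIdeal)
        (LocalizedModule p.asIdeal.primeCompl M) : ℕ∞) : WithBot ℕ∞) +
        ringKrullDim (A ⧸ p.asIdeal)) :
    ∃ f : A, f ∉ p.asIdeal ∧ ∀ i : ℤ, i ≤ s → ∀ x : Dual.HD A ((DRing.derivedCompletion I).obj
      ((DRing.RgammaI (maximalIdeal A)).obj (Dual.inD A M))).obj i, f • x = 0 := by
  rw [← dimBetween_closedPoint] at h3
  by_cases hp : maximalIdeal A ≤ p.asIdeal
  · -- `p` is the closed point
    have hpm : p = closedPoint A :=
      PrimeSpectrum.ext (le_antisymm (le_maximalIdeal p.isPrime.ne_top) hp)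
    subst hpm
    refine ⟨1, fun h => (closedPoint A).isPrime.ne_top ((Ideal.eq_top_iff_one _).2 h),
      fun i hi x => ?_⟩
    have hsub : ∀ j : ℤ, j ≤ (s : ℤ) + d → Subsingleton
        (HX (PrimeSpectrum.zeroLocus ((maximalIdeal A ⊔ I : Ideal A) : Set A))
          ((Dual.inD A M)⟦j⟧)) := by
      intro j hj
      by_cases hI : I ≤ maximalIdeal A
      · rw [sup_eq_left.2 hI]
        obtain ⟨h0, _, hd0, _⟩ : ∃ h : ℕ, True ∧
            Formal2.dimBetween A (closedPoint A).asIdeal (closedPoint A).asIdeal =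
              (((h : ℕ) : ℕ∞) : WithBot ℕ∞) ∧ h = 0 := by
          refine ⟨0, trivial, ?_, rfl⟩
          rw [dimBetween_closedPoint]
          have hF : IsField (A ⧸ (closedPoint A).asIdeal) :=
            (Ideal.Quotient.maximal_ideal_iff_isField_quotient _).1
              (inferInstanceAs (maximalIdeal A).IsMaximal)
          rw [ringKrullDim_eq_zero_of_isField hF]
          rfl
        subst_vars
        rw [hd0, WithBot.coe_natCast, Nat.add_comm] at h3
        have hv := (cond_iff (closedPoint A) M (s + d) 0).2 h3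
        refine ⟨fun y y' => ?_⟩
        suffices hz : ∀ z : HX (PrimeSpectrum.zeroLocus ((maximalIdeal A : Ideal A) : Set A))
            ((Dual.inD A M)⟦j⟧), z = 0 by rw [hz y, hz y']
        intro z
        haveI := hv j (by push_cast; omega)
        obtain ⟨f, hf, hfz⟩ := (interfaceII (closedPoint A) (Dual.inD A M) j 1).1
          (fun z' => Subsingleton.elim _ _) z
        rw [mul_one] at hfz
        have hu : IsUnit f := by
          by_contra hnu
          exact hf ((mem_maximalIdeal f).2 hnu)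
        obtain ⟨u, rfl⟩ := hu
        have h5 := congrArg (fun t => (↑u⁻¹ : A) • t) hfz
        simp only [smul_smul, Units.inv_mul, one_smul, smul_zero] at h5
        exact h5
      · have hI' : I = ⊤ := by
          by_contra hne
          exact hI (le_maximalIdeal hne)
        apply subsingleton_of_empty
        rw [hI', sup_top_eq]
        simp
    have := ann_completion_RgammaI I (maximalIdeal A) M d h2 s 1
      (fun j hj y => by haveI := hsub j hj; exact Subsingleton.elim _ _) i hi x
    rw [one_pow] at this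
    exact this
  · refine exists_notMem_smul_eq_zero I (maximalIdeal A) M hdc p s d (fun h => hp h.1) h2 ?_
    intro p' hp'p q hp'q hmq hIq
    have hqm : q = closedPoint A :=
      PrimeSpectrum.ext (le_antisymm (le_maximalIdeal q.isPrime.ne_top) hmq)
    subst hqm
    exact lt_of_lt_of_le h3 (depth_add_dim_le M hdc p' p (closedPoint A) hp'p
      ((PrimeSpectrum.asIdeal_le_asIdeal p (closedPoint A)).mp
        (le_maximalIdeal p.isPrime.ne_top)))

end Local

end Groth.Agent.Helper9.LF10
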