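import Mathlib
import Groth.Prelude.Def_DualLC
import Groth.Prelude.Def_Formal2
import Groth.Agent.Helper9.LT5
import Groth.Agent.Helper9.LT6
import Groth.Agent.Helper9.LF3
import Groth.Agent.Helper9.LF4
import Groth.Agent.Helper9.LF5
import Groth.Agent.Helper9.LF6
import Groth.Agent.Helper9.LF8
import Groth.Agent.Helper6.LcD10
import Groth.Agent.Helper6.DFinExt
import Groth.Agent.Helper1.HmapB

/-!
# Stable local cohomology with supports in `V(J₀)` (after Stacks, Algebraization of local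
cohomology II): tools
-/

set_option autoImplicit false
set_option linter.style.haveILetI false
set_option linter.unusedSectionVars false
set_option linter.unusedVariables false

universe u
open CategoryTheory CategoryTheory.Limits Opposite DerivedCategory Pretriangulated TensorProduct
attribute [local instance] HasDerivedCategory.standard

namespace Groth.Agent.Helper9.LF9
open Groth.Agent.Helper9.LT1 Groth.Agent.Helper9.LT2 Groth.Agent.Helper9.LF3
  Groth.Agent.Helper9.LF4 Groth.Agent.Helper9.LF5 Groth.Agent.Helper9.LF6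
  Groth.Agent.Helper9.LF8 Groth.Agent.Helper3.DRingLib IsLocalRing

section Dim

variable {A : Type u} [CommRing A]

/-- `dim (A/p)_q` is the Krull dimension of the interval `[p, q]` of primes -/
theorem dimBetween_eq (p q : PrimeSpectrum A) :
    Formal2.dimBetween A p.asIdeal q.asIdeal = Order.krullDim (Set.Icc p q) := by
  unfold Formal2.dimBetween
  rw [ringKrullDim]
  apply Order.krullDim_eq_of_orderIso
  refine (Ideal.primeSpectrumQuotientOrderIsoZeroLocus _).trans ?_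
  let e := IsLocalization.AtPrime.primeSpectrumOrderIso (Localization.AtPrime q.asIdeal) q.asIdeal
  have key : ∀ P : PrimeSpectrum (Localization.AtPrime q.asIdeal),
      P ∈ PrimeSpectrum.zeroLocus ((p.asIdeal.map
        (algebraMap A (Localization.AtPrime q.asIdeal)) : Ideal _) : Set _) ↔ p ≤ (e P).1 := by
    intro P
    rw [PrimeSpectrum.mem_zeroLocus, SetLike.coe_subset_coe, Ideal.map_le_iff_le_comap,
      ← PrimeSpectrum.asIdeal_le_asIdeal]
    rfl
  exact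
    { toFun := fun P => ⟨(e P.1).1, (key P.1).1 P.2, (e P.1).2⟩
      invFun := fun x => ⟨e.symm ⟨x.1, x.2.2⟩, (key _).2 (by rw [e.apply_symm_apply]; exact x.2.1)⟩
      left_inv := fun P => by
        apply Subtype.ext
        simp
      right_inv := fun x => by
        apply Subtype.ext
        simp
      map_rel_iff' := by
        intro P Q
        show (e P.1).1 ≤ (e Q.1).1 ↔ P.1 ≤ Q.1
        exact e.le_iff_le }

variable [IsNoetherianRing A]

/-- `dim (A/p)_q` as a difference of values of a dimension function -/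
lemma exists_h (δ : PrimeSpectrum A → ℤ)
    (hδ2 : ∀ p q : PrimeSpectrum A, p ⋖ q → δ p = δ q + 1) (p q : PrimeSpectrum A) (hpq : p ≤ q) :
    ∃ h : ℕ, δ p = δ q + h ∧
      Formal2.dimBetween A p.asIdeal q.asIdeal = (((h : ℕ) : ℕ∞) : WithBot ℕ∞) ∧
      Order.krullDim (Set.Icc p q) = (((h : ℕ) : ℕ∞) : WithBot ℕ∞) := by
  obtain ⟨h, hh⟩ := exists_height_Ici p q hpq
  refine ⟨h, delta_eq_add_height δ hδ2 p h q hpq hh, ?_, ?_⟩
  · rw [dimBetween_eq, krullDim_Icc p q hpq, hh]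
  · rw [krullDim_Icc p q hpq, hh]

end Dim

section Depth

variable {B : Type u} [CommRing B] [IsLocalRing B] [IsNoetherianRing B]
  (N : Type u) [AddCommGroup N] [Module B N] [Module.Finite B N]

lemma not_subsingleton_at_depth (e : ℕ) (he : LocCoh.depth B N = e) :
    ¬ Subsingleton (LocCoh.H (maximalIdeal B) e N) := by
  intro hsub
  have h1 : ((e + 1 : ℕ) : ℕ∞) ≤ LocCoh.depth B N := by
    rw [le_depth_iff]
    intro i hi
    rcases Nat.lt_succ_iff_lt_or_eq.mp hi with h | h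
    · exact (le_depth_iff N e).1 (le_of_eq he.symm) i h
    · rw [h]
      exact hsub
  rw [he] at h1
  have : e + 1 ≤ e := by exact_mod_cast h1
  omega

lemma depth_le_of_not_subsingleton (k : ℕ)
    (h : ¬ Subsingleton (LocCoh.H (maximalIdeal B) k N)) : LocCoh.depth B N ≤ k := by
  by_contra hlt
  rw [not_le] at hlt
  have h1 : ((k + 1 : ℕ) : ℕ∞) ≤ LocCoh.depth B N := by
    have := Order.add_one_le_of_lt hlt
    exact_mod_cast this
  exact h ((le_depth_iff N (k + 1)).1 h1 k (by omega))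

end Depth

section Tools

variable {A : Type u} [CommRing A] [IsNoetherianRing A]
  (M : Type u) [AddCommGroup M] [Module A M] [Module.Finite A M]

/-- the comparison maps are bijective in degrees `≤ s` when the depth is `> s` on the difference
of the supports -/
theorem hmap_bijective {I I' : Ideal A} (h : I ≤ I') (s : ℕ)
    (hyp : ∀ p : PrimeSpectrum A, I ≤ p.asIdeal → ¬ I' ≤ p.asIdeal →
      (s : ℕ∞) < LocCoh.depth (Localization.AtPrime p.asIdeal)
        (LocalizedModule p.asIdeal.primeCompl M))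
    (i : ℕ) (hi : i ≤ s) :
    Function.Bijective ((Dual2.HmapOfLE h i).app (ModuleCat.of A M)).hom := by
  have hv : ∀ j : ℕ, j ≤ s → Groth.Agent.Helper1.Hmap.StalkVanish M I I' j := by
    intro j hj p hp hp'
    haveI : IsNoetherianRing (Localization.AtPrime p.asIdeal) :=
      IsLocalization.isNoetherianRing p.asIdeal.primeCompl _ inferInstance
    haveI : Module.Finite (Localization.AtPrime p.asIdeal)
        (LocalizedModule p.asIdeal.primeCompl M) :=
      Module.Finite.of_isLocalizedModule p.asIdeal.primeCompl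
        (LocalizedModule.mkLinearMap p.asIdeal.primeCompl M)
    have h1 : ((s + 1 : ℕ) : ℕ∞) ≤ LocCoh.depth (Localization.AtPrime p.asIdeal)
        (LocalizedModule p.asIdeal.primeCompl M) := by
      have := Order.add_one_le_of_lt (hyp p hp hp')
      exact_mod_cast this
    exact (le_depth_iff _ (s + 1)).1 h1 j (by omega)
  exact ⟨Groth.Agent.Helper1.Hmap.hmap_injective M h i (fun j hj => hv j (by omega)),
    Groth.Agent.Helper1.Hmap.hmap_surjective M h i (hv i hi)⟩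

/-- annihilation of `H^i_{J₁}(M)`, `i ≤ s`, by a power of `K₁` -/
theorem ann_pow (hA : ∃ ω : Dual.D A, Dual.IsDualizing A ω) (J₁ K₁ : Ideal A)
    (hle : PrimeSpectrum.zeroLocus (J₁ : Set A) ⊆ PrimeSpectrum.zeroLocus (K₁ : Set A)) (s : ℕ)
    (hyp : ∀ p q : PrimeSpectrum A, ¬ K₁ ≤ p.asIdeal → J₁ ≤ q.asIdeal → p ≤ q →
      (s : WithBot ℕ∞) < ((LocCoh.depth (Localization.AtPrime p.asIdeal)
        (LocalizedModule p.asIdeal.primeCompl M) : ℕ∞) : WithBot ℕ∞) +
          Order.krullDim (Set.Icc p q)) :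
    ∃ n : ℕ, ∀ a ∈ K₁ ^ n, ∀ i : ℕ, i ≤ s → ∀ x : LocCoh.H J₁ i M, a • x = 0 := by
  have hT : StableUnderSpecialization (PrimeSpectrum.zeroLocus (J₁ : Set A)) :=
    (PrimeSpectrum.isClosed_zeroLocus _).stableUnderSpecialization
  have hT' : StableUnderSpecialization (PrimeSpectrum.zeroLocus (K₁ : Set A)) :=
    (PrimeSpectrum.isClosed_zeroLocus _).stableUnderSpecialization
  obtain ⟨K, hK, hann⟩ := (module_form hA _ _ hT hT' hle s M).2 (fun p q hp hq hpq => by
    rw [PrimeSpectrum.mem_zeroLocus, SetLike.coe_subset_coe] at hp hq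
    exact hyp p q hp hq hpq)
  have hrad : K₁ ≤ K.radical := by
    rw [← PrimeSpectrum.vanishingIdeal_zeroLocus_eq_radical]
    exact (PrimeSpectrum.subset_zeroLocus_iff_le_vanishingIdeal _ _).1 hK
  obtain ⟨n, hn⟩ := Ideal.exists_pow_le_of_le_radical_of_fg hrad (IsNoetherian.noetherian K₁)
  refine ⟨n, fun a ha i hi x => ?_⟩
  obtain ⟨e1⟩ := Groth.Agent.Helper6.LcD.bridge J₁ M i
  apply (e1 ≪≫ₗ cmpEquiv J₁ (Dual.inD A M) (i : ℤ)).injective
  rw [map_smul, map_zero]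
  exact hann (i : ℤ) (by omega) a (hn ha) _

/-- finiteness of `H^i_{J₁}(M)`, `i ≤ s` -/
theorem finite_lc (hA : ∃ ω : Dual.D A, Dual.IsDualizing A ω) (J₁ : Ideal A) (s : ℕ)
    (hyp : ∀ p q : PrimeSpectrum A, ¬ J₁ ≤ p.asIdeal → J₁ ≤ q.asIdeal → p ≤ q →
      (s : WithBot ℕ∞) < ((LocCoh.depth (Localization.AtPrime p.asIdeal)
        (LocalizedModule p.asIdeal.primeCompl M) : ℕ∞) : WithBot ℕ∞) +
          Order.krullDim (Set.Icc p q)) (i : ℕ) (hi : i ≤ s) :
    Module.Finite A (LocCoh.H J₁ i M) := by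
  have hT : StableUnderSpecialization (PrimeSpectrum.zeroLocus (J₁ : Set A)) :=
    (PrimeSpectrum.isClosed_zeroLocus _).stableUnderSpecialization
  obtain ⟨K, hK, hann⟩ := (module_form hA _ _ hT hT subset_rfl s M).2 (fun p q hp hq hpq => by
    rw [PrimeSpectrum.mem_zeroLocus, SetLike.coe_subset_coe] at hp hq
    exact hyp p q hp hq hpq)
  have hKa : ∀ i : ℤ, i < 0 → Subsingleton (Dual.HD A (Dual.inD A M) i) := fun i hi =>
    subsingleton_HD_of_isGE (Dual.inD A M) 0 i hi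
  have hKfin : ∀ i : ℤ, Module.Finite A (Dual.HD A (Dual.inD A M) i) := fun i =>
    Groth.Agent.Helper9.LT5.finite_HD_inD M i
  have hmain := (Groth.Agent.Helper9.LT6.main (PrimeSpectrum.zeroLocus (J₁ : Set A)) hT
    (Dual.inD A M) 0 hKa hKfin (s : ℤ)).2 ⟨K, hK, fun i hi x hx y => hann i hi x hx y⟩
  obtain ⟨e1⟩ := Groth.Agent.Helper6.LcD.bridge J₁ M i
  haveI : Module.Finite A (HX (PrimeSpectrum.zeroLocus (J₁ : Set A)) ((Dual.inD A M)⟦(i : ℤ)⟧)) :=
    hmain (i : ℤ) (by omega)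
  exact Module.Finite.equiv (e1 ≪≫ₗ cmpEquiv J₁ (Dual.inD A M) (i : ℤ)).symm

end Tools

section Closed

variable {A : Type u} [CommRing A] [IsNoetherianRing A]
  (ω : Dual.D A) (hω : Dual.IsDualizing A ω) (δ : PrimeSpectrum A → ℤ)
  (hδ1 : ∀ (p : PrimeSpectrum A) (i : ℤ),
    Nontrivial (LocalizedModule p.asIdeal.primeCompl
      (Dual.inD A (A ⧸ p.asIdeal) ⟶ ω⟦i⟧)) ↔ i = -δ p)
  (M : Type u) [AddCommGroup M] [Module A M] [Module.Finite A M]

lemma bounded_inD :
    ∃ a b : ℤ, ∀ j : ℤ, (j < a ∨ b < j) → Subsingleton (Dual.HD A (Dual.inD A M) j) := by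
  refine ⟨0, 0, fun j hj => ?_⟩
  rcases hj with hj | hj
  · exact subsingleton_HD_of_isGE (Dual.inD A M) 0 j hj
  · exact subsingleton_HD_of_isLE (Dual.inD A M) 0 j hj

include hω in
lemma finite_E (j : ℤ) : Module.Finite A (Dual.inD A M ⟶ ω⟦j⟧) := by
  obtain ⟨aω, bω, habω⟩ := hω.finite_injective_dimension
  obtain ⟨hGE, hLE⟩ := Groth.Agent.Helper6.LocExt.bounds_of_hinj ω aω bω habω
  haveI := hGE
  haveI := hLE
  have hbω : ∃ a b : ℤ, ∀ i : ℤ, (i < a ∨ b < i) → Subsingleton (Dual.HD A ω i) := by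
    refine ⟨aω, bω, fun i hi => ?_⟩
    rcases hi with hi | hi
    · exact subsingleton_HD_of_isGE ω aω i hi
    · exact subsingleton_HD_of_isLE ω bω i hi
  exact Groth.Agent.Helper6.DFinExt.finite_bounded (Dual.inD A M) ω (bounded_inD M)
    (fun j => Groth.Agent.Helper9.LT5.finite_HD_inD M j) hbω hω.finite_cohomology j

include hω hδ1 in
/-- vanishing of the local cohomology of `M_p` in terms of the support of the Ext modules -/
theorem hdi_loc_iff (p : PrimeSpectrum A) (i : ℤ) :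
    Subsingleton (Dual2.HDI (Localization.AtPrime p.asIdeal)
        (maximalIdeal (Localization.AtPrime p.asIdeal))
        ((bcD A (Localization.AtPrime p.asIdeal)).obj (Dual.inD A M)) i) ↔
      ¬ Module.annihilator A (Dual.inD A M ⟶ ω⟦-δ p - i⟧) ≤ p.asIdeal := by
  haveI := finite_E ω hω M (-δ p - i)
  rw [subsingleton_iff_one (A := A) (B := Localization.AtPrime p.asIdeal),
    interfaceI ω hω δ hδ1 (Dual.inD A M) (bounded_inD M)
      (fun j => Groth.Agent.Helper9.LT5.finite_HD_inD M j) p i 1,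
    ← Module.mem_support_iff_of_finite, Module.notMem_support_iff']
  simp only [mul_one]

include hω hδ1 in
theorem lc_loc_iff (p : PrimeSpectrum A) (k : ℕ) :
    ¬ Subsingleton (LocCoh.H (maximalIdeal (Localization.AtPrime p.asIdeal)) k
        (LocalizedModule p.asIdeal.primeCompl M)) ↔
      Module.annihilator A (Dual.inD A M ⟶ ω⟦-δ p - (k : ℤ)⟧) ≤ p.asIdeal := by
  rw [← not_iff_not, not_not, ← hdi_loc_iff ω hω δ hδ1 M p (k : ℤ)]
  obtain ⟨e⟩ := nonempty_lc_loc p M k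
  exact ⟨fun h => e.symm.toEquiv.subsingleton, fun h => e.toEquiv.subsingleton⟩

include hω hδ1 in
lemma nonneg_of_ann_le (p : PrimeSpectrum A) (i : ℤ)
    (h : Module.annihilator A (Dual.inD A M ⟶ ω⟦-δ p - i⟧) ≤ p.asIdeal) : 0 ≤ i := by
  by_contra hneg
  rw [not_le] at hneg
  exact (hdi_loc_iff ω hω δ hδ1 M p i).1 (subsingleton_hdi_neg p M i hneg) h

end Closed

section Main

variable {A : Type u} [CommRing A] [IsNoetherianRing A]
  (I J : Ideal A) (M : Type u) [AddCommGroup M] [Module A M] [Module.Finite A M] (s d : ℕ)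
  (T : Set (PrimeSpectrum A))
  (hT : ∀ p : PrimeSpectrum A, p ∈ T ↔
    ∀ q : PrimeSpectrum A, p ≤ q → I ≤ q.asIdeal → J ≤ q.asIdeal)

include hT in
lemma T_stable (p q : PrimeSpectrum A) (hpq : p ≤ q) (hp : p ∈ T) : q ∈ T := by
  rw [hT] at hp ⊢
  exact fun q' hq' => hp q' (hpq.trans hq')

include hT in
lemma T_of_le (q : PrimeSpectrum A) (hq : J ≤ q.asIdeal) : q ∈ T := by
  rw [hT]
  intro q' hqq' _
  exact hq.trans ((PrimeSpectrum.asIdeal_le_asIdeal q q').mpr hqq')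

lemma depth_cases (p : PrimeSpectrum A) :
    LocCoh.depth (Localization.AtPrime p.asIdeal) (LocalizedModule p.asIdeal.primeCompl M) = ⊤ ∨
      ∃ e : ℕ, LocCoh.depth (Localization.AtPrime p.asIdeal)
        (LocalizedModule p.asIdeal.primeCompl M) = e := by
  by_cases h : LocCoh.depth (Localization.AtPrime p.asIdeal)
      (LocalizedModule p.asIdeal.primeCompl M) = ⊤
  · exact Or.inl h
  · obtain ⟨e, he⟩ := ENat.ne_top_iff_exists.mp h
    exact Or.inr ⟨e, he.symm⟩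

include hT in
/-- the ideal `J₀` -/
theorem exists_J0 (hA : ∃ ω : Dual.D A, Dual.IsDualizing A ω)
    (h3 : ∀ p : PrimeSpectrum A, ¬ I ≤ p.asIdeal → p ∈ T → ∃ q : PrimeSpectrum A, p ≤ q ∧
      J ≤ q.asIdeal ∧ I ≤ q.asIdeal ∧
        Formal2.dimBetween A p.asIdeal q.asIdeal ≤ ((d : ℕ∞) : WithBot ℕ∞))
    (h4 : ∀ p : PrimeSpectrum A, ¬ I ≤ p.asIdeal → p ∉ T → ∀ q : PrimeSpectrum A, p ≤ q →
      J ≤ q.asIdeal → I ≤ q.asIdeal →
        (s : ℕ∞) ≤ LocCoh.depth (Localization.AtPrime p.asIdeal)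
          (LocalizedModule p.asIdeal.primeCompl M) ∨
        (((d + s : ℕ) : ℕ∞) : WithBot ℕ∞) <
          ((LocCoh.depth (Localization.AtPrime p.asIdeal)
            (LocalizedModule p.asIdeal.primeCompl M) : ℕ∞) : WithBot ℕ∞) +
            Formal2.dimBetween A p.asIdeal q.asIdeal) :
    ∃ J₀ : Ideal A, J₀ ≤ J ∧ (∀ q : PrimeSpectrum A, J₀ ≤ q.asIdeal → q ∈ T) ∧
      ∀ p : PrimeSpectrum A, ¬ I ≤ p.asIdeal → p ∈ T → ¬ J₀ ≤ p.asIdeal →
        (s : ℕ∞) < LocCoh.depth (Localization.AtPrime p.asIdeal)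
          (LocalizedModule p.asIdeal.primeCompl M) := by
  classical
  obtain ⟨ω, hω⟩ := hA
  obtain ⟨δ, lo, hi, hδ1, hδ2, hanti, hbd⟩ := exists_delta ω hω
  let 𝔞 : ℤ → Ideal A := fun j => Module.annihilator A (Dual.inD A M ⟶ ω⟦j⟧)
  let S : ℤ → Set (PrimeSpectrum A) :=
    fun j => {P | P.asIdeal ∈ Ideal.minimalPrimes (𝔞 j) ∧ P ∈ T}
  have hS : ∀ j, (S j).Finite := by
    intro j
    have hfin := Ideal.finite_minimalPrimes_of_isNoetherianRing A (𝔞 j)
    refine Set.Finite.of_finite_image (f := PrimeSpectrum.asIdeal) (hfin.subset ?_) ?_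
    · rintro _ ⟨P, hP, rfl⟩
      exact hP.1
    · intro P _ Q _ h
      exact PrimeSpectrum.ext h
  let c : ℤ → Ideal A := fun j => ∏ P ∈ (hS j).toFinset, P.asIdeal
  let R : Finset ℤ := Finset.Icc (-hi - s) (-lo)
  refine ⟨J * ∏ j ∈ R, c j, Ideal.mul_le_left, ?_, ?_⟩
  · intro q hq
    have hq' : q ∈ PrimeSpectrum.zeroLocus ((J * ∏ j ∈ R, c j : Ideal A) : Set A) := by
      rw [PrimeSpectrum.mem_zeroLocus]
      exact hq
    rw [PrimeSpectrum.zeroLocus_mul] at hq'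
    rcases hq' with h | h
    · rw [PrimeSpectrum.mem_zeroLocus, SetLike.coe_subset_coe] at h
      exact T_of_le I J T hT q h
    · refine zeroLocus_finset_prod R c
        (fun j _ => zeroLocus_finset_prod _ _ (fun P hP => ?_)) h
      intro Q hQ
      rw [PrimeSpectrum.mem_zeroLocus, SetLike.coe_subset_coe] at hQ
      have hPT : P ∈ T := ((hS j).mem_toFinset.1 hP).2
      exact T_stable I J T hT P Q ((PrimeSpectrum.asIdeal_le_asIdeal P Q).mp hQ) hPT
  · intro p hIp hpT hJ₀p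
    by_contra hlt
    rw [not_lt] at hlt
    haveI : IsNoetherianRing (Localization.AtPrime p.asIdeal) :=
      IsLocalization.isNoetherianRing p.asIdeal.primeCompl _ inferInstance
    haveI : Module.Finite (Localization.AtPrime p.asIdeal)
        (LocalizedModule p.asIdeal.primeCompl M) :=
      Module.Finite.of_isLocalizedModule p.asIdeal.primeCompl
        (LocalizedModule.mkLinearMap p.asIdeal.primeCompl M)
    rcases depth_cases M p with htop | ⟨e, he⟩
    · rw [htop, top_le_iff] at hlt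
      exact ENat.natCast_ne_top s hlt
    have hes : e ≤ s := by
      rw [he] at hlt
      exact_mod_cast hlt
    have hne := not_subsingleton_at_depth (LocalizedModule p.asIdeal.primeCompl M) e he
    rw [lc_loc_iff ω hω δ hδ1 M p e] at hne
    obtain ⟨P', hP'min, hP'le⟩ := Ideal.exists_minimalPrimes_le hne
    have hP'prime : P'.IsPrime := hP'min.1.1
    have hp'p : (⟨P', hP'prime⟩ : PrimeSpectrum A) ≤ p :=
      (PrimeSpectrum.asIdeal_le_asIdeal ⟨P', hP'prime⟩ p).mp hP'le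
    have h𝔞p' : 𝔞 (-δ p - (e : ℤ)) ≤ P' := hP'min.1.2
    have hjR : -δ p - (e : ℤ) ∈ R :=
      Finset.mem_Icc.mpr ⟨by have := (hbd p).2; omega, by have := (hbd p).1; omega⟩
    have hp'T : (⟨P', hP'prime⟩ : PrimeSpectrum A) ∈ T := by
      by_contra hp'T
      have hIp' : ¬ I ≤ P' := fun h => hIp (h.trans hP'le)
      have hrew : -δ ⟨P', hP'prime⟩ - (-δ ⟨P', hP'prime⟩ - (-δ p - (e : ℤ))) =
          -δ p - (e : ℤ) := by ring
      have hk0 : 0 ≤ -δ ⟨P', hP'prime⟩ - (-δ p - (e : ℤ)) :=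
        nonneg_of_ann_le ω hω δ hδ1 M ⟨P', hP'prime⟩ _ (by rw [hrew]; exact h𝔞p')
      obtain ⟨k, hk⟩ := Int.eq_ofNat_of_zero_le hk0
      haveI : IsNoetherianRing (Localization.AtPrime P') :=
        IsLocalization.isNoetherianRing P'.primeCompl _ inferInstance
      haveI : Module.Finite (Localization.AtPrime P') (LocalizedModule P'.primeCompl M) :=
        Module.Finite.of_isLocalizedModule P'.primeCompl
          (LocalizedModule.mkLinearMap P'.primeCompl M)
      have hne' : ¬ Subsingleton (LocCoh.H (maximalIdeal (Localization.AtPrime P')) k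
          (LocalizedModule P'.primeCompl M)) := by
        rw [lc_loc_iff ω hω δ hδ1 M ⟨P', hP'prime⟩ k, ← hk, hrew]
        exact h𝔞p'
      have hdk := depth_le_of_not_subsingleton (LocalizedModule P'.primeCompl M) k hne'
      rcases depth_cases M ⟨P', hP'prime⟩ with htop | ⟨e', he'⟩
      · rw [htop, top_le_iff] at hdk
        exact ENat.natCast_ne_top k hdk
      have he'k : e' ≤ k := by
        rw [he'] at hdk
        exact_mod_cast hdk
      obtain ⟨q, hpq, hJq, hIq, hdim⟩ := h3 p hIp hpT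
      obtain ⟨h₁, hδ₁, hd₁, _⟩ := exists_h δ hδ2 p q hpq
      obtain ⟨h₂, hδ₂, hd₂, _⟩ := exists_h δ hδ2 ⟨P', hP'prime⟩ q (hp'p.trans hpq)
      rw [hd₁] at hdim
      have hh₁ : h₁ ≤ d := by exact_mod_cast hdim
      rcases h4 ⟨P', hP'prime⟩ hIp' hp'T q (hp'p.trans hpq) hJq hIq with hc | hc
      · rw [he'] at hc
        have hse' : s ≤ e' := by exact_mod_cast hc
        rcases eq_or_lt_of_le hp'p with h | h
        · exact hp'T (h ▸ hpT)
        · have := hanti _ _ h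
          omega
      · rw [he', hd₂] at hc
        have hc' : d + s < e' + h₂ := by exact_mod_cast hc
        omega
    apply hJ₀p
    have hp'S : (⟨P', hP'prime⟩ : PrimeSpectrum A) ∈ (hS (-δ p - (e : ℤ))).toFinset :=
      (hS _).mem_toFinset.2 ⟨hP'min, hp'T⟩
    calc J * ∏ j ∈ R, c j ≤ ∏ j ∈ R, c j := Ideal.mul_le_right
      _ ≤ c (-δ p - (e : ℤ)) := Ideal.prod_le_inf.trans (Finset.inf_le hjR)
      _ ≤ P' := Ideal.prod_le_inf.trans
        (Finset.inf_le (f := fun P : PrimeSpectrum A => P.asIdeal) hp'S)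
      _ ≤ p.asIdeal := hP'le

lemma lt_add_iff (s h : ℕ) (x : ℕ∞) :
    (s : WithBot ℕ∞) < ((x : ℕ∞) : WithBot ℕ∞) + (((h : ℕ) : ℕ∞) : WithBot ℕ∞) ↔
      (s : ℕ∞) < x + (h : ℕ∞) := by
  rw [← WithBot.coe_add, ← WithBot.coe_natCast, WithBot.coe_lt_coe]

include hT in
/-- the key inequality for primes outside `V(J₀) ∪ V(I)` -/
theorem key_ineq (hA : ∃ ω : Dual.D A, Dual.IsDualizing A ω)
    (h3 : ∀ p : PrimeSpectrum A, ¬ I ≤ p.asIdeal → p ∈ T → ∃ q : PrimeSpectrum A, p ≤ q ∧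
      J ≤ q.asIdeal ∧ I ≤ q.asIdeal ∧
        Formal2.dimBetween A p.asIdeal q.asIdeal ≤ ((d : ℕ∞) : WithBot ℕ∞))
    (h4 : ∀ p : PrimeSpectrum A, ¬ I ≤ p.asIdeal → p ∉ T → ∀ q : PrimeSpectrum A, p ≤ q →
      J ≤ q.asIdeal → I ≤ q.asIdeal →
        (s : ℕ∞) ≤ LocCoh.depth (Localization.AtPrime p.asIdeal)
          (LocalizedModule p.asIdeal.primeCompl M) ∨
        (((d + s : ℕ) : ℕ∞) : WithBot ℕ∞) <
          ((LocCoh.depth (Localization.AtPrime p.asIdeal)
            (LocalizedModule p.asIdeal.primeCompl M) : ℕ∞) : WithBot ℕ∞) +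
            Formal2.dimBetween A p.asIdeal q.asIdeal)
    (p q : PrimeSpectrum A) (hIp : ¬ I ≤ p.asIdeal)
    (hpd : p ∈ T → (s : ℕ∞) < LocCoh.depth (Localization.AtPrime p.asIdeal)
          (LocalizedModule p.asIdeal.primeCompl M))
    (hqT : q ∈ T) (hpq : p ≤ q) :
    (s : WithBot ℕ∞) < ((LocCoh.depth (Localization.AtPrime p.asIdeal)
      (LocalizedModule p.asIdeal.primeCompl M) : ℕ∞) : WithBot ℕ∞) +
        Order.krullDim (Set.Icc p q) := by
  obtain ⟨ω, hω⟩ := hA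
  obtain ⟨δ, lo, hi, hδ1, hδ2, hanti, hbd⟩ := exists_delta ω hω
  obtain ⟨h, hδh, _, hkd⟩ := exists_h δ hδ2 p q hpq
  rw [hkd, lt_add_iff]
  by_cases hpT : p ∈ T
  · have h1 := hpd hpT
    exact lt_of_lt_of_le h1 le_self_add
  · have hne : p ≠ q := fun h => hpT (h ▸ hqT)
    have hh1 : 1 ≤ h := by
      have := hanti p q (lt_of_le_of_ne hpq hne)
      omega
    -- a point of `V(q) ∩ V(J) ∩ V(I)` close to `q`
    have hq'' : ∃ q'' : PrimeSpectrum A, q ≤ q'' ∧ J ≤ q''.asIdeal ∧ I ≤ q''.asIdeal ∧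
        ∃ h₁ : ℕ, h₁ ≤ d ∧ δ q = δ q'' + h₁ := by
      by_cases hIq : I ≤ q.asIdeal
      · exact ⟨q, le_rfl, (hT q).1 hqT q le_rfl hIq, hIq, 0, Nat.zero_le d, by simp⟩
      · obtain ⟨q'', hqq'', hJq'', hIq'', hdim⟩ := h3 q hIq hqT
        obtain ⟨h₁, hδ₁, hd₁, _⟩ := exists_h δ hδ2 q q'' hqq''
        rw [hd₁] at hdim
        exact ⟨q'', hqq'', hJq'', hIq'', h₁, by exact_mod_cast hdim, hδ₁⟩
    obtain ⟨q'', hqq'', hJq'', hIq'', h₁, hh₁, hδ₁⟩ := hq''
    obtain ⟨h₂, hδ₂, hd₂, _⟩ := exists_h δ hδ2 p q'' (hpq.trans hqq'')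
    rcases depth_cases M p with htop | ⟨e, he⟩
    · rw [htop]
      simp
    rw [he]
    rcases h4 p hIp hpT q'' (hpq.trans hqq'') hJq'' hIq'' with hc | hc
    · rw [he] at hc
      have hse : s ≤ e := by exact_mod_cast hc
      have : s < e + h := by omega
      exact_mod_cast this
    · rw [he, hd₂] at hc
      have hc' : d + s < e + h₂ := by exact_mod_cast hc
      have : s < e + h := by omega
      exact_mod_cast this

include hT in
/-- the conclusions for an ideal `J₀` with the two key properties -/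
theorem conclusions (hA : ∃ ω : Dual.D A, Dual.IsDualizing A ω)
    (h3 : ∀ p : PrimeSpectrum A, ¬ I ≤ p.asIdeal → p ∈ T → ∃ q : PrimeSpectrum A, p ≤ q ∧
      J ≤ q.asIdeal ∧ I ≤ q.asIdeal ∧
        Formal2.dimBetween A p.asIdeal q.asIdeal ≤ ((d : ℕ∞) : WithBot ℕ∞))
    (h4 : ∀ p : PrimeSpectrum A, ¬ I ≤ p.asIdeal → p ∉ T → ∀ q : PrimeSpectrum A, p ≤ q →
      J ≤ q.asIdeal → I ≤ q.asIdeal →
        (s : ℕ∞) ≤ LocCoh.depth (Localization.AtPrime p.asIdeal)
          (LocalizedModule p.asIdeal.primeCompl M) ∨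
        (((d + s : ℕ) : ℕ∞) : WithBot ℕ∞) <
          ((LocCoh.depth (Localization.AtPrime p.asIdeal)
            (LocalizedModule p.asIdeal.primeCompl M) : ℕ∞) : WithBot ℕ∞) +
            Formal2.dimBetween A p.asIdeal q.asIdeal)
    (J₀ : Ideal A) (hJ₀J : J₀ ≤ J) (hJ₀T : ∀ q : PrimeSpectrum A, J₀ ≤ q.asIdeal → q ∈ T)
    (hJ₀d : ∀ p : PrimeSpectrum A, ¬ I ≤ p.asIdeal → p ∈ T → ¬ J₀ ≤ p.asIdeal →
        (s : ℕ∞) < LocCoh.depth (Localization.AtPrime p.asIdeal)
          (LocalizedModule p.asIdeal.primeCompl M)) :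
    J₀ ≤ J ∧ PrimeSpectrum.zeroLocus ((J₀ : Ideal A) : Set A) ∩
        PrimeSpectrum.zeroLocus ((I : Ideal A) : Set A) =
      PrimeSpectrum.zeroLocus ((J : Ideal A) : Set A) ∩
        PrimeSpectrum.zeroLocus ((I : Ideal A) : Set A) ∧
    (∀ (J' : Ideal A) (hJ' : J' ≤ J₀), PrimeSpectrum.zeroLocus ((J' : Ideal A) : Set A) ∩
        PrimeSpectrum.zeroLocus ((I : Ideal A) : Set A) =
      PrimeSpectrum.zeroLocus ((J : Ideal A) : Set A) ∩
        PrimeSpectrum.zeroLocus ((I : Ideal A) : Set A) → ∀ i : ℕ, i ≤ s →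
        Function.Bijective ((Dual2.HmapOfLE hJ' i).app (ModuleCat.of A M)).hom) ∧
    (∃ n : ℕ, ∀ a ∈ (J₀ * I) ^ n, ∀ i : ℕ, i ≤ s → ∀ x : LocCoh.H J₀ i M, a • x = 0) := by
  refine ⟨hJ₀J, ?_, ?_, ?_⟩
  · ext q
    simp only [Set.mem_inter_iff, PrimeSpectrum.mem_zeroLocus, SetLike.coe_subset_coe]
    constructor
    · rintro ⟨h1, h2⟩
      exact ⟨(hT q).1 (hJ₀T q h1) q le_rfl h2, h2⟩
    · rintro ⟨h1, h2⟩
      exact ⟨hJ₀J.trans h1, h2⟩
  · intro J' hJ' hV i hi
    refine hmap_bijective M hJ' s ?_ i hi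
    intro p hJ'p hJ₀p
    have hmem : ∀ q : PrimeSpectrum A, J' ≤ q.asIdeal → I ≤ q.asIdeal → J ≤ q.asIdeal := by
      intro q h1 h2
      have h3 : q ∈ PrimeSpectrum.zeroLocus ((J' : Ideal A) : Set A) ∩
          PrimeSpectrum.zeroLocus ((I : Ideal A) : Set A) := by
        simp only [Set.mem_inter_iff, PrimeSpectrum.mem_zeroLocus, SetLike.coe_subset_coe]
        exact ⟨h1, h2⟩
      rw [hV] at h3
      simp only [Set.mem_inter_iff, PrimeSpectrum.mem_zeroLocus, SetLike.coe_subset_coe] at h3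
      exact h3.1
    have hIp : ¬ I ≤ p.asIdeal := fun hIp => hJ₀p (hJ₀J.trans (hmem p hJ'p hIp))
    have hpT : p ∈ T := by
      rw [hT]
      intro q hpq hIq
      exact hmem q (hJ'p.trans ((PrimeSpectrum.asIdeal_le_asIdeal p q).mpr hpq)) hIq
    exact hJ₀d p hIp hpT hJ₀p
  · refine ann_pow M hA J₀ (J₀ * I) ?_ s ?_
    · rw [PrimeSpectrum.zeroLocus_mul]
      exact Set.subset_union_left
    · intro p q hp hq hpq
      have hIp : ¬ I ≤ p.asIdeal := fun h => hp ((Ideal.mul_le_inf.trans inf_le_right).trans h)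
      have hJ₀p : ¬ J₀ ≤ p.asIdeal := fun h => hp ((Ideal.mul_le_inf.trans inf_le_left).trans h)
      exact key_ineq I J M s d T hT hA h3 h4 p q hIp (fun hpT => hJ₀d p hIp hpT hJ₀p)
        (hJ₀T q hq) hpq

include hT in
/-- finiteness under the additional condition (2') -/
theorem finite_concl (hA : ∃ ω : Dual.D A, Dual.IsDualizing A ω)
    (h2 : ∀ p : PrimeSpectrum A, I ≤ p.asIdeal → ¬ J ≤ p.asIdeal → ∀ q : PrimeSpectrum A,
      p ≤ q → J ≤ q.asIdeal → I ≤ q.asIdeal → ((s : ℕ∞) : WithBot ℕ∞) <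
        ((LocCoh.depth (Localization.AtPrime p.asIdeal)
          (LocalizedModule p.asIdeal.primeCompl M) : ℕ∞) : WithBot ℕ∞) +
          Formal2.dimBetween A p.asIdeal q.asIdeal)
    (h3 : ∀ p : PrimeSpectrum A, ¬ I ≤ p.asIdeal → p ∈ T → ∃ q : PrimeSpectrum A, p ≤ q ∧
      J ≤ q.asIdeal ∧ I ≤ q.asIdeal ∧
        Formal2.dimBetween A p.asIdeal q.asIdeal ≤ ((d : ℕ∞) : WithBot ℕ∞))
    (h4 : ∀ p : PrimeSpectrum A, ¬ I ≤ p.asIdeal → p ∉ T → ∀ q : PrimeSpectrum A, p ≤ q →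
      J ≤ q.asIdeal → I ≤ q.asIdeal →
        (s : ℕ∞) ≤ LocCoh.depth (Localization.AtPrime p.asIdeal)
          (LocalizedModule p.asIdeal.primeCompl M) ∨
        (((d + s : ℕ) : ℕ∞) : WithBot ℕ∞) <
          ((LocCoh.depth (Localization.AtPrime p.asIdeal)
            (LocalizedModule p.asIdeal.primeCompl M) : ℕ∞) : WithBot ℕ∞) +
            Formal2.dimBetween A p.asIdeal q.asIdeal)
    (J₀ : Ideal A) (hJ₀J : J₀ ≤ J) (hJ₀T : ∀ q : PrimeSpectrum A, J₀ ≤ q.asIdeal → q ∈ T)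
    (hJ₀d : ∀ p : PrimeSpectrum A, ¬ I ≤ p.asIdeal → p ∈ T → ¬ J₀ ≤ p.asIdeal →
        (s : ℕ∞) < LocCoh.depth (Localization.AtPrime p.asIdeal)
          (LocalizedModule p.asIdeal.primeCompl M)) (i : ℕ) (hi : i ≤ s) :
    Module.Finite A (LocCoh.H J₀ i M) := by
  refine finite_lc M hA J₀ s ?_ i hi
  intro p q hJ₀p hJ₀q hpq
  by_cases hIp : I ≤ p.asIdeal
  · have hJp : ¬ J ≤ p.asIdeal := fun h => hJ₀p (hJ₀J.trans h)
    have hIq : I ≤ q.asIdeal := hIp.trans ((PrimeSpectrum.asIdeal_le_asIdeal p q).mpr hpq)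
    have hJq : J ≤ q.asIdeal := (hT q).1 (hJ₀T q hJ₀q) q le_rfl hIq
    have h := h2 p hIp hJp q hpq hJq hIq
    rw [dimBetween_eq, WithBot.coe_natCast] at h
    exact h
  · exact key_ineq I J M s d T hT hA h3 h4 p q hIp (fun hpT => hJ₀d p hIp hpT hJ₀p)
      (hJ₀T q hJ₀q) hpq

include hT in
/-- the additional conclusions under condition (6) -/
theorem extra_concl (hA : ∃ ω : Dual.D A, Dual.IsDualizing A ω)
    (h3 : ∀ p : PrimeSpectrum A, ¬ I ≤ p.asIdeal → p ∈ T → ∃ q : PrimeSpectrum A, p ≤ q ∧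
      J ≤ q.asIdeal ∧ I ≤ q.asIdeal ∧
        Formal2.dimBetween A p.asIdeal q.asIdeal ≤ ((d : ℕ∞) : WithBot ℕ∞))
    (h4 : ∀ p : PrimeSpectrum A, ¬ I ≤ p.asIdeal → p ∉ T → ∀ q : PrimeSpectrum A, p ≤ q →
      J ≤ q.asIdeal → I ≤ q.asIdeal →
        (s : ℕ∞) ≤ LocCoh.depth (Localization.AtPrime p.asIdeal)
          (LocalizedModule p.asIdeal.primeCompl M) ∨
        (((d + s : ℕ) : ℕ∞) : WithBot ℕ∞) <
          ((LocCoh.depth (Localization.AtPrime p.asIdeal)
            (LocalizedModule p.asIdeal.primeCompl M) : ℕ∞) : WithBot ℕ∞) +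
            Formal2.dimBetween A p.asIdeal q.asIdeal)
    (h6 : ∀ p : PrimeSpectrum A, ¬ I ≤ p.asIdeal → p ∈ T →
      (s : ℕ∞) < LocCoh.depth (Localization.AtPrime p.asIdeal)
        (LocalizedModule p.asIdeal.primeCompl M)) :
    (∀ i : ℕ, i ≤ s →
      Function.Bijective ((Dual2.HmapOfLE (le_refl J) i).app (ModuleCat.of A M)).hom ∧
      Function.Bijective
        ((Dual2.HmapOfLE (le_sup_left : J ≤ J ⊔ I) i).app (ModuleCat.of A M)).hom) ∧
    ∃ n : ℕ, ∀ a ∈ I ^ n, ∀ i : ℕ, i ≤ s → ∀ x : LocCoh.H J i M, a • x = 0 := by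
  have hb2 : ∀ i : ℕ, i ≤ s → Function.Bijective
      ((Dual2.HmapOfLE (le_sup_left : J ≤ J ⊔ I) i).app (ModuleCat.of A M)).hom := fun i hi =>
    hmap_bijective M le_sup_left s (fun p hJp hnp =>
      h6 p (fun hI => hnp (sup_le hJp hI)) (T_of_le I J T hT p hJp)) i hi
  refine ⟨fun i hi => ⟨hmap_bijective M (le_refl J) s (fun p hp hnp => absurd hp hnp) i hi,
    hb2 i hi⟩, ?_⟩
  obtain ⟨n, hn⟩ := ann_pow M hA (J ⊔ I) I
    (PrimeSpectrum.zeroLocus_anti_mono (by exact_mod_cast (le_sup_right : I ≤ J ⊔ I))) s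
    (fun p q hIp hq hpq =>
      key_ineq I J M s d T hT hA h3 h4 p q hIp (fun hpT => h6 p hIp hpT)
        (T_of_le I J T hT q (le_sup_left.trans hq)) hpq)
  refine ⟨n, fun a ha i hi x => ?_⟩
  obtain ⟨y, rfl⟩ := (hb2 i hi).2 x
  rw [← map_smul, hn a ha i hi y, map_zero]

end Main

end Groth.Agent.Helper9.LF9
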