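import Mathlib
import Groth.Agent.Helper6.FBC7
import Groth.Agent.Helper9.LF9
import Groth.Agent.S0543

/-! Flat base change for `Hom` in the derived category, `B`-linear form, and transfer of
annihilators. -/

set_option autoImplicit false
set_option linter.style.haveILetI false
set_option linter.unusedSectionVars false
universe u v
open CategoryTheory CategoryTheory.Limits Pretriangulated DerivedCategory TensorProduct
attribute [local instance] HasDerivedCategory.standard

namespace Groth.Agent.Helper9.LF12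
open Groth.Agent.Helper3.DRingLib Groth.Agent.Helper6.FlatBC Groth.Agent.Helper6.LocExt
  Groth.Agent.Helper6.FBC

section Ann

variable {A : Type u} [CommRing A] (B : Type u) [CommRing B] [Algebra A B] [Module.Flat A B]
  (E : Type v) [AddCommGroup E] [Module A E] [Module.Finite A E]

/-- the annihilator of a flat base change of a finite module is contained in `p'` iff the
annihilator of the module is contained in the contraction of `p'` -/
theorem annihilator_baseChange_le_iff (p' : Ideal B) :
    Module.annihilator B (B ⊗[A] E) ≤ p' ↔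
      Module.annihilator A E ≤ p'.comap (algebraMap A B) := by
  classical
  constructor
  · intro h a ha
    rw [Ideal.mem_comap]
    apply h
    rw [Module.mem_annihilator]
    intro t
    induction t using TensorProduct.induction_on with
    | zero => rw [smul_zero]
    | tmul b e =>
      rw [TensorProduct.smul_tmul', smul_eq_mul, ← Algebra.smul_def,
        TensorProduct.smul_tmul, (Module.mem_annihilator.mp ha) e, TensorProduct.tmul_zero]
    | add x y hx hy => rw [smul_add, hx, hy, add_zero]
  · intro h b hb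
    obtain ⟨s, hs⟩ := (Module.finite_def.mp (inferInstance : Module.Finite A E))
    let φ : A →ₗ[A] (s → E) := LinearMap.pi (fun i => LinearMap.toSpanSingleton A E i.1)
    have hker : ∀ a : A, a ∈ LinearMap.ker φ → a ∈ Module.annihilator A E := by
      intro a ha
      rw [Module.mem_annihilator]
      intro e
      have he : e ∈ Submodule.span A (s : Set E) := hs ▸ Submodule.mem_top
      induction he using Submodule.span_induction with
      | mem x hx =>
        have := congrFun (LinearMap.mem_ker.mp ha) ⟨x, hx⟩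
        simpa [φ] using this
      | zero => rw [smul_zero]
      | add x y _ _ hx hy => rw [smul_add, hx, hy, add_zero]
      | smul c x _ hx => rw [smul_comm, hx, smul_zero]
    have hex : Function.Exact ((LinearMap.ker φ).subtype.lTensor B) (φ.lTensor B) :=
      Module.Flat.lTensor_exact B (LinearMap.exact_subtype_ker_map φ)
    have h0 : (φ.lTensor B) (b ⊗ₜ[A] (1 : A)) = 0 := by
      apply (TensorProduct.piRight A A B (fun _ : s => E)).injective
      rw [LinearMap.lTensor_tmul, map_zero]
      funext j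
      rw [TensorProduct.piRight_apply, TensorProduct.piRightHom_tmul]
      have hb' := (Module.mem_annihilator.mp hb) ((1 : B) ⊗ₜ[A] (j.1 : E))
      rw [TensorProduct.smul_tmul', smul_eq_mul, mul_one] at hb'
      simpa [φ] using hb'
    obtain ⟨t, ht⟩ := (hex _).mp h0
    let μ : B ⊗[A] A →ₗ[A] B := (TensorProduct.rid A B).toLinearMap
    have hμ : ∀ t : B ⊗[A] (LinearMap.ker φ),
        μ ((LinearMap.ker φ).subtype.lTensor B t) ∈
          (Module.annihilator A E).map (algebraMap A B) := by
      intro t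
      induction t using TensorProduct.induction_on with
      | zero => simp
      | tmul b' a =>
        rw [LinearMap.lTensor_tmul]
        simp only [μ, LinearEquiv.coe_coe, Submodule.subtype_apply, TensorProduct.rid_tmul]
        rw [Algebra.smul_def]
        exact Ideal.mul_mem_right _ _ (Ideal.mem_map_of_mem _ (hker a.1 a.2))
      | add x y hx hy =>
        rw [map_add, map_add]
        exact Ideal.add_mem _ hx hy
    have hb2 : b = μ (b ⊗ₜ[A] (1 : A)) := by
      simp [μ]
    rw [hb2, ← ht]
    exact (Ideal.map_le_iff_le_comap.mpr h) (hμ t)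

end Ann


section FB

variable {A : Type u} [CommRing A] (B : Type u) [CommRing B] [Algebra A B] [Module.Flat A B]

/-- **flat base change for `Hom`, `B`-linear form** -/
theorem nonempty_baseChange_hom_equiv (X W : Dual.D A)
    (hX : ∀ n : ℤ, DRing.IsPseudoCoherent A n X) (a : ℤ) [W.IsGE a] :
    Nonempty (B ⊗[A] (X ⟶ W) ≃ₗ[B] ((bcD A B).obj X ⟶ (bcD A B).obj W)) := by
  letI : Module A ((bcD A B).obj X ⟶ (bcD A B).obj W) := Module.compHom _ (algebraMap A B)
  haveI : IsScalarTower A B ((bcD A B).obj X ⟶ (bcD A B).obj W) :=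
    IsScalarTower.of_algebraMap_smul fun _ _ => rfl
  let φ : (X ⟶ W) →ₗ[A] ((bcD A B).obj X ⟶ (bcD A B).obj W) :=
    { toFun := fun f => (bcD A B).map f
      map_add' := fun f g => Functor.map_add _
      map_smul' := fun a f => bcD_map_smul B a f }
  let Ψ : B ⊗[A] (X ⟶ W) →ₗ[B] ((bcD A B).obj X ⟶ (bcD A B).obj W) := φ.liftBaseChange B
  have h0 : (adjD A B).homEquiv X ((ED A B).obj W) 0 = 0 := by
    rw [Adjunction.homEquiv_unit, Functor.map_zero, comp_zero]
  have hadd : ∀ g g' : (ED A B).obj X ⟶ (ED A B).obj W,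
      (adjD A B).homEquiv X ((ED A B).obj W) (g + g') =
        (adjD A B).homEquiv X ((ED A B).obj W) g + (adjD A B).homEquiv X ((ED A B).obj W) g' := by
    intro g g'
    simp only [Adjunction.homEquiv_unit, Functor.map_add, Preadditive.comp_add]
  have hΨ : ∀ t, (adjD A B).homEquiv X ((ED A B).obj W) (Ψ t) = Phi B (mMap B W) X t := by
    intro t
    induction t using TensorProduct.induction_on with
    | zero =>
      rw [show Ψ 0 = 0 from map_zero Ψ, h0, show Phi B (mMap B W) X 0 = 0 from map_zero _]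
    | tmul b f =>
      rw [LinearMap.liftBaseChange_tmul]
      exact homEquiv_smul_map B b f
    | add x y hx hy =>
      rw [show Ψ (x + y) = Ψ x + Ψ y from map_add Ψ x y, hadd, hx, hy,
        show Phi B (mMap B W) X (x + y) = _ from map_add _ x y]
  have hΦ : Function.Bijective (Phi B (mMap B W) X) := phi_mMap_bijective B X W hX a
  have hbij : Function.Bijective Ψ := by
    have h1 : (fun t => (adjD A B).homEquiv X ((ED A B).obj W) (Ψ t)) = Phi B (mMap B W) X :=
      funext hΨ
    have h2 : Function.Bijective (fun t => (adjD A B).homEquiv X ((ED A B).obj W) (Ψ t)) := by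
      rw [h1]
      exact hΦ
    exact (Function.Bijective.of_comp_iff' ((adjD A B).homEquiv X ((ED A B).obj W)).bijective Ψ).mp h2
  exact ⟨LinearEquiv.ofBijective Ψ hbij⟩

end FB


section Transfer

variable {A : Type u} [CommRing A] [IsNoetherianRing A] (B : Type u) [CommRing B] [Algebra A B]
  [Module.Flat A B] (ω : Dual.D A)
  (M : Type u) [AddCommGroup M] [Module A M] [Module.Finite A M]
  {N : Type u} [AddCommGroup N] [Module B N] [Module A N] [IsScalarTower A B N]
  (f : M →ₗ[A] N) (hf : IsBaseChange B f)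

include hf in
/-- Ext modules of a base-changed module into the base-changed complex -/
theorem nonempty_ext_equiv (a₀ : ℤ) [ω.IsGE a₀] (j : ℤ) :
    Nonempty (B ⊗[A] (Dual.inD A M ⟶ ω⟦j⟧) ≃ₗ[B]
      (Dual.inD B N ⟶ ((bcD A B).obj ω)⟦j⟧)) := by
  haveI : (ω⟦j⟧).IsGE (a₀ - j) := TStructure.t.isGE_shift ω a₀ j (a₀ - j) (by omega)
  obtain ⟨e⟩ := nonempty_baseChange_hom_equiv B (Dual.inD A M) (ω⟦j⟧)
    (fun m => pc_inD M m) (a₀ - j)
  let e1 : (bcD A B).obj (Dual.inD A M) ≅ Dual.inD B N :=
    bcDInD B M ≪≫ (DerivedCategory.singleFunctor (ModuleCat.{u} B) 0).mapIso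
      hf.equiv.toModuleIso
  let e3 : (bcD A B).obj (ω⟦j⟧) ≅ ((bcD A B).obj ω)⟦j⟧ := ((bcD A B).commShiftIso j).app ω
  exact ⟨e.trans (Linear.homCongr B e1 e3)⟩

include hf in
theorem annihilator_ext_le_iff (a₀ : ℤ) [ω.IsGE a₀] (j : ℤ) (hfin : Module.Finite A (Dual.inD A M ⟶ ω⟦j⟧))
    (p' : Ideal B) :
    Module.annihilator B (Dual.inD B N ⟶ ((bcD A B).obj ω)⟦j⟧) ≤ p' ↔
      Module.annihilator A (Dual.inD A M ⟶ ω⟦j⟧) ≤ p'.comap (algebraMap A B) := by
  obtain ⟨e⟩ := nonempty_ext_equiv B ω M f hf a₀ j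
  rw [← e.annihilator_eq]
  haveI := hfin
  exact annihilator_baseChange_le_iff B (Dual.inD A M ⟶ ω⟦j⟧) p'

end Transfer

section General

variable {A : Type u} [CommRing A] [IsNoetherianRing A] (B : Type u) [CommRing B] [Algebra A B]
  [Module.Flat A B] [IsNoetherianRing B]
  (ω : Dual.D A) (hω : Dual.IsDualizing A ω) (hωB : Dual.IsDualizing B ((bcD A B).obj ω))
  (δA : PrimeSpectrum A → ℤ)
  (hδA : ∀ (p : PrimeSpectrum A) (i : ℤ),
    Nontrivial (LocalizedModule p.asIdeal.primeCompl
      (Dual.inD A (A ⧸ p.asIdeal) ⟶ ω⟦i⟧)) ↔ i = -δA p)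
  (δB : PrimeSpectrum B → ℤ)
  (hδB : ∀ (p : PrimeSpectrum B) (i : ℤ),
    Nontrivial (LocalizedModule p.asIdeal.primeCompl
      (Dual.inD B (B ⧸ p.asIdeal) ⟶ ((bcD A B).obj ω)⟦i⟧)) ↔ i = -δB p)
  (M : Type u) [AddCommGroup M] [Module A M] [Module.Finite A M]
  {N : Type u} [AddCommGroup N] [Module B N] [Module A N] [IsScalarTower A B N]
  (f : M →ₗ[A] N) (hf : IsBaseChange B f)

include hf in
lemma finite_of_isBaseChange : Module.Finite B N :=
  haveI : Module.Finite B (B ⊗[A] M) := Module.Finite.base_change A B M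
  Module.Finite.equiv hf.equiv

include hω hωB hδB hf in
/-- non-vanishing of the local cohomology of `N_{p'}` in terms of the Ext modules of `M` -/
theorem lc_iff (p' : PrimeSpectrum B) (k : ℕ) :
    haveI := finite_of_isBaseChange B M f hf
    ¬ Subsingleton (LocCoh.H (IsLocalRing.maximalIdeal (Localization.AtPrime p'.asIdeal)) k
        (LocalizedModule p'.asIdeal.primeCompl N)) ↔
      Module.annihilator A (Dual.inD A M ⟶ ω⟦-δB p' - (k : ℤ)⟧) ≤
        p'.asIdeal.comap (algebraMap A B) := by
  haveI := finite_of_isBaseChange B M f hf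
  obtain ⟨a, b, hab⟩ := hω.finite_injective_dimension
  obtain ⟨hGE, hLE⟩ := Groth.Agent.Helper6.LocExt.bounds_of_hinj ω a b hab
  haveI := hGE
  rw [Groth.Agent.Helper9.LF9.lc_loc_iff ((bcD A B).obj ω) hωB δB hδB N p' k]
  exact annihilator_ext_le_iff B ω M f hf a _ (Groth.Agent.Helper9.LF9.finite_E ω hω M _) _

include hω in
/-- the localization at `p` of a finite Ext module is nontrivial iff its annihilator is in `p` -/
lemma nontrivial_loc_iff (p : PrimeSpectrum A) (j : ℤ) :
    Nontrivial (LocalizedModule p.asIdeal.primeCompl (Dual.inD A M ⟶ ω⟦j⟧)) ↔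
      Module.annihilator A (Dual.inD A M ⟶ ω⟦j⟧) ≤ p.asIdeal := by
  haveI := Groth.Agent.Helper9.LF9.finite_E ω hω M j
  rw [← Module.mem_support_iff_of_finite, Module.mem_support_iff]

include hω hωB hδA hδB in
/-- the dimension function can only drop along a flat map -/
theorem delta_le (p' : PrimeSpectrum B) :
    δB p' ≤ δA (PrimeSpectrum.comap (algebraMap A B) p') := by
  set p := PrimeSpectrum.comap (algebraMap A B) p' with hp
  obtain ⟨a, b, hab⟩ := hω.finite_injective_dimension
  obtain ⟨hGE, hLE⟩ := Groth.Agent.Helper6.LocExt.bounds_of_hinj ω a b hab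
  haveI := hGE
  have h1 : Module.annihilator A (Dual.inD A (A ⧸ p.asIdeal) ⟶ ω⟦-δA p⟧) ≤ p.asIdeal :=
    (nontrivial_loc_iff ω hω (A ⧸ p.asIdeal) p _).mp ((hδA p (-δA p)).mpr rfl)
  have hbc : IsBaseChange B (TensorProduct.mk A B (A ⧸ p.asIdeal) 1) :=
    TensorProduct.isBaseChange A (A ⧸ p.asIdeal) B
  haveI := finite_of_isBaseChange B (A ⧸ p.asIdeal) _ hbc
  have h2 : Module.annihilator B (Dual.inD B (B ⊗[A] (A ⧸ p.asIdeal)) ⟶
      ((bcD A B).obj ω)⟦-δB p' - (δA p - δB p')⟧) ≤ p'.asIdeal := by
    have e : -δB p' - (δA p - δB p') = -δA p := by ring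
    rw [e]
    exact (annihilator_ext_le_iff B ω (A ⧸ p.asIdeal) _ hbc a _
      (Groth.Agent.Helper9.LF9.finite_E ω hω _ _) _).mpr h1
  have := Groth.Agent.Helper9.LF9.nonneg_of_ann_le ((bcD A B).obj ω) hωB δB hδB
    (B ⊗[A] (A ⧸ p.asIdeal)) p' (δA p - δB p') h2
  omega


include hω hωB hδA hδB hf in
/-- **depth along a flat map**: `depth N_{p'} = depth M_p + (δ_A(p) - δ_B(p'))` -/
theorem depth_eq_add (p' : PrimeSpectrum B) (c : ℕ)
    (hc : δA (PrimeSpectrum.comap (algebraMap A B) p') = δB p' + c) :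
    LocCoh.depth (Localization.AtPrime p'.asIdeal) (LocalizedModule p'.asIdeal.primeCompl N) =
      LocCoh.depth (Localization.AtPrime (p'.asIdeal.comap (algebraMap A B)))
        (LocalizedModule (p'.asIdeal.comap (algebraMap A B)).primeCompl M) + c := by
  haveI := finite_of_isBaseChange B M f hf
  set p := PrimeSpectrum.comap (algebraMap A B) p' with hp
  haveI : IsNoetherianRing (Localization.AtPrime p'.asIdeal) :=
    IsLocalization.isNoetherianRing p'.asIdeal.primeCompl _ inferInstance
  haveI : IsNoetherianRing (Localization.AtPrime p.asIdeal) :=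
    IsLocalization.isNoetherianRing p.asIdeal.primeCompl _ inferInstance
  have key : ∀ n : ℕ, (n : ℕ∞) ≤ LocCoh.depth (Localization.AtPrime p'.asIdeal)
        (LocalizedModule p'.asIdeal.primeCompl N) ↔
      (n : ℕ∞) ≤ LocCoh.depth (Localization.AtPrime p.asIdeal)
        (LocalizedModule p.asIdeal.primeCompl M) + c := by
    intro n
    have e1 : (n : ℕ∞) ≤ LocCoh.depth (Localization.AtPrime p.asIdeal)
        (LocalizedModule p.asIdeal.primeCompl M) + c ↔
        ((n - c : ℕ) : ℕ∞) ≤ LocCoh.depth (Localization.AtPrime p.asIdeal)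
        (LocalizedModule p.asIdeal.primeCompl M) := by
      rw [ENat.natCast_sub, tsub_le_iff_right]
    rw [e1, Groth.Agent.Helper9.LF8.le_depth_iff, Groth.Agent.Helper9.LF8.le_depth_iff]
    constructor
    · intro h k' hk'
      by_contra hns
      have h1 := (Groth.Agent.Helper9.LF9.lc_loc_iff ω hω δA hδA M p k').mp hns
      have e : -δA p - (k' : ℤ) = -δB p' - ((k' + c : ℕ) : ℤ) := by
        rw [hc]; push_cast; ring
      rw [e] at h1
      exact (lc_iff B ω hω hωB δB hδB M f hf p' (k' + c)).mpr h1 (h (k' + c) (by omega))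
    · intro h k hk
      by_contra hns
      have h1 := (lc_iff B ω hω hωB δB hδB M f hf p' k).mp hns
      have e : -δB p' - (k : ℤ) = -δA p - ((k : ℤ) - c) := by
        rw [hc]; ring
      rw [e] at h1
      have h2 := Groth.Agent.Helper9.LF9.nonneg_of_ann_le ω hω δA hδA M p _ h1
      have e' : (k : ℤ) - c = ((k - c : ℕ) : ℤ) := by omega
      rw [e'] at h1
      exact (Groth.Agent.Helper9.LF9.lc_loc_iff ω hω δA hδA M p (k - c)).mpr h1
        (h (k - c) (by omega))
  apply le_antisymm
  · exact ENat.forall_natCast_le_iff_le.mp fun n hn => (key n).mp hn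
  · exact ENat.forall_natCast_le_iff_le.mp fun n hn => (key n).mpr hn


include hω hωB hδA hδB in
/-- the dimension function is preserved at primes extended from `A` -/
theorem delta_eq_of_map (q' : PrimeSpectrum B)
    (hq' : (q'.asIdeal.comap (algebraMap A B)).map (algebraMap A B) = q'.asIdeal) :
    δB q' = δA (PrimeSpectrum.comap (algebraMap A B) q') := by
  set q := PrimeSpectrum.comap (algebraMap A B) q' with hq
  obtain ⟨a, b, hab⟩ := hω.finite_injective_dimension
  obtain ⟨hGE, hLE⟩ := Groth.Agent.Helper6.LocExt.bounds_of_hinj ω a b hab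
  haveI := hGE
  let e : B ⊗[A] (A ⧸ q.asIdeal) ≃ₗ[B] B ⧸ q'.asIdeal :=
    (Ideal.qoutMapEquivTensorQout B (I := q.asIdeal)).symm ≪≫ₗ
      Submodule.quotEquivOfEq _ _ hq'
  let f : (A ⧸ q.asIdeal) →ₗ[A] B ⧸ q'.asIdeal :=
    (e.toLinearMap.restrictScalars A).comp (TensorProduct.mk A B (A ⧸ q.asIdeal) 1)
  have hf : IsBaseChange B f := IsBaseChange.of_equiv e (fun x => rfl)
  have h1 : Nontrivial (LocalizedModule q'.asIdeal.primeCompl
      (Dual.inD B (B ⧸ q'.asIdeal) ⟶ ((bcD A B).obj ω)⟦-δA q⟧)) := by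
    rw [nontrivial_loc_iff ((bcD A B).obj ω) hωB (B ⧸ q'.asIdeal) q' _,
      annihilator_ext_le_iff B ω (A ⧸ q.asIdeal) f hf a _
        (Groth.Agent.Helper9.LF9.finite_E ω hω _ _) _]
    exact (nontrivial_loc_iff ω hω (A ⧸ q.asIdeal) q _).mp ((hδA q (-δA q)).mpr rfl)
  have := (hδB q' (-δA q)).mp h1
  omega


include hω hωB hf in
/-- **depth and dimension along a flat map `A → B` such that the base change of a dualizing
complex is dualizing**: for primes `p' ≤ q'` of `B` with `q'` extended from `A`. -/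
theorem main (p' q' : PrimeSpectrum B) (hpq : p' ≤ q')
    (hq' : (q'.asIdeal.comap (algebraMap A B)).map (algebraMap A B) = q'.asIdeal) :
    LocCoh.depth (Localization.AtPrime (p'.asIdeal.comap (algebraMap A B)))
        (LocalizedModule (p'.asIdeal.comap (algebraMap A B)).primeCompl M) ≤
      LocCoh.depth (Localization.AtPrime p'.asIdeal) (LocalizedModule p'.asIdeal.primeCompl N) ∧
    ((LocCoh.depth (Localization.AtPrime p'.asIdeal)
        (LocalizedModule p'.asIdeal.primeCompl N) : ℕ∞) : WithBot ℕ∞) +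
        Order.krullDim (Set.Icc p' q') =
      ((LocCoh.depth (Localization.AtPrime (p'.asIdeal.comap (algebraMap A B)))
        (LocalizedModule (p'.asIdeal.comap (algebraMap A B)).primeCompl M) : ℕ∞) : WithBot ℕ∞) +
        Order.krullDim (Set.Icc (PrimeSpectrum.comap (algebraMap A B) p')
          (PrimeSpectrum.comap (algebraMap A B) q')) := by
  obtain ⟨δA, -, -, hδA, hδA2, -, -⟩ := Groth.Agent.Helper9.LF5.exists_delta ω hω
  obtain ⟨δB, -, -, hδB, hδB2, -, -⟩ :=
    Groth.Agent.Helper9.LF5.exists_delta ((bcD A B).obj ω) hωB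
  have hle := delta_le B ω hω hωB δA hδA δB hδB p'
  obtain ⟨c, hc⟩ : ∃ c : ℕ, δA (PrimeSpectrum.comap (algebraMap A B) p') = δB p' + c :=
    ⟨(δA (PrimeSpectrum.comap (algebraMap A B) p') - δB p').toNat, by omega⟩
  have hd := depth_eq_add B ω hω hωB δA hδA δB hδB M f hf p' c hc
  have hE := delta_eq_of_map B ω hω hωB δA hδA δB hδB q' hq'
  have hpq' : PrimeSpectrum.comap (algebraMap A B) p' ≤ PrimeSpectrum.comap (algebraMap A B) q' :=
    Ideal.comap_mono (f := algebraMap A B) hpq
  obtain ⟨hA, hA1, -, hA3⟩ := Groth.Agent.Helper9.LF9.exists_h δA hδA2 _ _ hpq'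
  obtain ⟨hB, hB1, -, hB3⟩ := Groth.Agent.Helper9.LF9.exists_h δB hδB2 _ _ hpq
  have hh : hA = hB + c := by omega
  refine ⟨?_, ?_⟩
  · rw [hd]
    exact le_self_add
  · rw [hA3, hB3, hd, hh]
    push_cast
    rw [add_assoc, add_comm (c : WithBot ℕ∞)]


end General

section Adic

/-- an ideal containing `I B` is extended from `A` when `A → B / I B` is surjective -/
lemma map_comap_eq_of_map_le {A : Type u} [CommRing A] {B : Type u} [CommRing B] [Algebra A B]
    (I : Ideal A)
    (hs : ∀ y : B, ∃ x : A, algebraMap A B x - y ∈ I.map (algebraMap A B))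
    (𝔫 : Ideal B) (hI𝔫 : I.map (algebraMap A B) ≤ 𝔫) :
    (𝔫.comap (algebraMap A B)).map (algebraMap A B) = 𝔫 := by
  refine le_antisymm Ideal.map_comap_le ?_
  intro y hy
  obtain ⟨x, hx⟩ := hs y
  have hx𝔫 : algebraMap A B x ∈ 𝔫 := by
    have := 𝔫.add_mem (hI𝔫 hx) hy
    rwa [sub_add_cancel] at this
  have hx𝔪 : x ∈ 𝔫.comap (algebraMap A B) := hx𝔫
  have hI𝔪 : I ≤ 𝔫.comap (algebraMap A B) := fun t ht => hI𝔫 (Ideal.mem_map_of_mem _ ht)
  have h1 : algebraMap A B x ∈ (𝔫.comap (algebraMap A B)).map (algebraMap A B) :=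
    Ideal.mem_map_of_mem _ hx𝔪
  have h2 : algebraMap A B x - y ∈ (𝔫.comap (algebraMap A B)).map (algebraMap A B) :=
    Ideal.map_mono hI𝔪 hx
  have := Ideal.sub_mem _ h1 h2
  rwa [sub_sub_cancel] at this

variable (A : Type u) [CommRing A] [IsNoetherianRing A] (I : Ideal A)

lemma adic_surj (y : AdicCompletion I A) : ∃ x : A,
    algebraMap A (AdicCompletion I A) x - y ∈ I.map (algebraMap A (AdicCompletion I A)) := by
  have fg : I.FG := IsNoetherian.noetherian I
  obtain ⟨x, hx⟩ := Ideal.Quotient.mk_surjective (AdicCompletion.evalOneₐ I y)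
  refine ⟨x, ?_⟩
  rw [← AdicCompletion.ker_evalOneₐ_eq_map I fg, RingHom.mem_ker, map_sub]
  have h1 : (AdicCompletion.evalOneₐ I).toRingHom (algebraMap A (AdicCompletion I A) x) =
      Ideal.Quotient.mk I x :=
    RingHom.congr_fun (AdicCompletion.evalOneₐ_comp_algebraMap_eq_mk I) x
  rw [h1, hx]
  exact sub_self _

/-- **depth and dimension along `A → A^`** -/
theorem adic_main (ω : Dual.D A) (hω : Dual.IsDualizing A ω)
    (M : Type u) [AddCommGroup M] [Module A M] [Module.Finite A M]
    (p' q' : PrimeSpectrum (AdicCompletion I A)) (hpq : p' ≤ q')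
    (hq : Ideal.map (algebraMap A (AdicCompletion I A)) I ≤ q'.asIdeal) :
    LocCoh.depth (Localization.AtPrime (p'.asIdeal.comap (algebraMap A (AdicCompletion I A))))
        (LocalizedModule (p'.asIdeal.comap (algebraMap A (AdicCompletion I A))).primeCompl M) ≤
      LocCoh.depth (Localization.AtPrime p'.asIdeal)
        (LocalizedModule p'.asIdeal.primeCompl (AdicCompletion I M)) ∧
    ((LocCoh.depth (Localization.AtPrime p'.asIdeal)
        (LocalizedModule p'.asIdeal.primeCompl (AdicCompletion I M)) : ℕ∞) : WithBot ℕ∞) +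
        Order.krullDim (Set.Icc p' q') =
      ((LocCoh.depth (Localization.AtPrime (p'.asIdeal.comap (algebraMap A (AdicCompletion I A))))
        (LocalizedModule (p'.asIdeal.comap (algebraMap A (AdicCompletion I A))).primeCompl M) :
          ℕ∞) : WithBot ℕ∞) +
        Order.krullDim (Set.Icc (PrimeSpectrum.comap (algebraMap A (AdicCompletion I A)) p')
          (PrimeSpectrum.comap (algebraMap A (AdicCompletion I A)) q')) := by
  have fg : I.FG := IsNoetherian.noetherian I
  haveI : IsNoetherianRing (AdicCompletion I A) := Groth.Agent.S0543.result A I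
  haveI := AdicCompletion.isAdicComplete_self I fg
  have hJ : I.map (algebraMap A (AdicCompletion I A)) ≤
      (⊥ : Ideal (AdicCompletion I A)).jacobson := IsAdicComplete.le_jacobson_bot _
  have hmaxB := Groth.Agent.Helper6.FBC.exists_map_eq_of_jacobson (AdicCompletion I A) I
    (adic_surj A I) hJ
  have hωB := Groth.Agent.Helper6.FBC.isDualizing_bcD_of_maximal_map (AdicCompletion I A) hmaxB
    ω hω
  have hbc : IsBaseChange (AdicCompletion I A) (AdicCompletion.of I M) :=
    IsBaseChange.of_equiv (AdicCompletion.ofTensorProductEquivOfFiniteNoetherian I M)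
      (fun x => by simp)
  exact main (AdicCompletion I A) ω hω hωB M (AdicCompletion.of I M) hbc p' q' hpq
    (map_comap_eq_of_map_le I (adic_surj A I) q'.asIdeal hq)

end Adic

end Groth.Agent.Helper9.LF12
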