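import Mathlib
import Groth.Agent.Helper9.LF11
import Groth.Agent.Helper9.LF12
import Groth.Agent.Helper9.LF10
import Groth.Agent.Helper1.LocCohNonvanish2
import Groth.Agent.S0379

/-! Depth and dimension along `A → (A_q)^∧`, with a bound from cohomological dimension. -/

set_option autoImplicit false
set_option linter.style.haveILetI false
set_option linter.unusedSectionVars false
universe u
open CategoryTheory CategoryTheory.Limits Pretriangulated DerivedCategory TensorProduct IsLocalRing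
attribute [local instance] HasDerivedCategory.standard

namespace Groth.Agent.Helper9.LF13
open Groth.Agent.Helper3.DRingLib Groth.Agent.Helper9.LF11 Groth.Agent.Helper9.LF12

section Cd

variable {B : Type u} [CommRing B] [IsNoetherianRing B] [IsLocalRing B]

/-- if `V(p') ∩ V(J)` is the closed point and `cd(B, J) ≤ d` then `dim B/p' ≤ d` -/
theorem dim_le_of_cd (J : Ideal B) (d : ℕ) (hcd : LocCoh.CdLE B J d) (p' : PrimeSpectrum B)
    (hJ : J ≤ maximalIdeal B)
    (hmax : ∀ q' : PrimeSpectrum B, p' ≤ q' → J ≤ q'.asIdeal → q'.asIdeal.IsMaximal) :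
    ∃ h : ℕ, h ≤ d ∧ Order.krullDim (Set.Icc p' (closedPoint B)) = (((h : ℕ) : ℕ∞) : WithBot ℕ∞) := by
  have hrad : (p'.asIdeal ⊔ J).radical = maximalIdeal B := by
    rw [Ideal.radical_eq_sInf]
    apply le_antisymm
    · exact sInf_le ⟨sup_le (le_maximalIdeal p'.isPrime.ne_top) hJ, inferInstance⟩
    · refine le_sInf ?_
      rintro P ⟨hle, hP⟩
      have hPm : P.IsMaximal :=
        hmax ⟨P, hP⟩ ((PrimeSpectrum.asIdeal_le_asIdeal p' ⟨P, hP⟩).mp (le_sup_left.trans hle))
          (le_sup_right.trans hle)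
      rw [IsLocalRing.eq_maximalIdeal hPm]
  haveI : IsLocalRing (B ⧸ p'.asIdeal) := IsLocalRing.of_surjective' (Ideal.Quotient.mk p'.asIdeal)
    Ideal.Quotient.mk_surjective
  obtain ⟨h, hh⟩ : ∃ h : ℕ, ringKrullDim (B ⧸ p'.asIdeal) = h := by
    have h1 := ringKrullDim_ne_top (R := B ⧸ p'.asIdeal)
    have h2 := ringKrullDim_ne_bot (R := B ⧸ p'.asIdeal)
    obtain ⟨x, hx⟩ := WithBot.ne_bot_iff_exists.mp h2
    have hx' : x ≠ ⊤ := by
      rintro rfl
      exact h1 hx.symm
    obtain ⟨n, hn⟩ := ENat.ne_top_iff_exists.mp hx'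
    exact ⟨n, by rw [← hx, ← hn]; rfl⟩
  refine ⟨h, ?_, ?_⟩
  · by_contra hlt
    rw [not_le] at hlt
    have hnt := Groth.Agent.Helper1.LocCohNonvanish.nontrivial_lc_quotient_prime J p'.asIdeal hrad h hh
    have hsub : Subsingleton (LocCoh.H J h (B ⧸ p'.asIdeal)) := hcd (B ⧸ p'.asIdeal) h hlt
    exact not_subsingleton _ hsub
  · rw [← Groth.Agent.Helper9.LF9.dimBetween_eq, Groth.Agent.Helper9.LF10.dimBetween_closedPoint, hh]
    rfl

end Cd

section Main

variable (A : Type u) [CommRing A] [IsNoetherianRing A] (I : Ideal A)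
  (M : Type u) [AddCommGroup M] [Module A M] [Module.Finite A M]
  (q : Ideal A) [hqP : q.IsPrime]

/-- **depth and dimension along `A → (A_q)^∧`, with the bound from `cd(A, I) ≤ d`** -/
theorem loc_adic_main (ω : Dual.D A) (hω : Dual.IsDualizing A ω) (hIq : I ≤ q)
    (d : ℕ) (hcd : LocCoh.CdLE A I d) (p' : PrimeSpectrum (Ah A I q))
    (hmax : ∀ q' : PrimeSpectrum (Ah A I q), p' ≤ q' →
      I.map (algebraMap A (Ah A I q)) ≤ q'.asIdeal → q'.asIdeal.IsMaximal) :
    LocCoh.depth (Localization.AtPrime (p'.asIdeal.comap (algebraMap A (Ah A I q))))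
        (LocalizedModule (p'.asIdeal.comap (algebraMap A (Ah A I q))).primeCompl M) ≤
      LocCoh.depth (Localization.AtPrime p'.asIdeal) (LocalizedModule p'.asIdeal.primeCompl
        (AdicCompletion (Jq A I q) (LocalizedModule q.primeCompl M))) ∧
    p'.asIdeal.comap (algebraMap A (Ah A I q)) ≤ q ∧
    ∃ h : ℕ, h ≤ d ∧
      ((LocCoh.depth (Localization.AtPrime p'.asIdeal) (LocalizedModule p'.asIdeal.primeCompl
        (AdicCompletion (Jq A I q) (LocalizedModule q.primeCompl M))) : ℕ∞) : WithBot ℕ∞) +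
          (((h : ℕ) : ℕ∞) : WithBot ℕ∞) =
      ((LocCoh.depth (Localization.AtPrime (p'.asIdeal.comap (algebraMap A (Ah A I q))))
        (LocalizedModule (p'.asIdeal.comap (algebraMap A (Ah A I q))).primeCompl M) : ℕ∞) :
          WithBot ℕ∞) +
        Formal2.dimBetween A (p'.asIdeal.comap (algebraMap A (Ah A I q))) q := by
  have hJ := Jq_ne_top A I q hIq
  haveI := Helper6.ComplDim.isLocalRing_adicCompletion (Rq A q) (Jq A I q) hJ
  have hmaxeq := Helper6.ComplDim.maximalIdeal_eq_map (Rq A q) (Jq A I q) hJ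
  haveI : IsNoetherianRing (Ah A I q) := Groth.Agent.S0543.result (Rq A q) (Jq A I q)
  haveI flatA : Module.Flat A (Ah A I q) := Module.Flat.trans A (Rq A q) (Ah A I q)
  have hmq : maximalIdeal (Ah A I q) = q.map (algebraMap A (Ah A I q)) := by
    rw [hmaxeq, ← IsLocalization.AtPrime.map_eq_maximalIdeal q (Rq A q), Ideal.map_map,
      ← IsScalarTower.algebraMap_eq A (Rq A q) (Ah A I q)]
  have hmaxB : ∀ 𝔫 : Ideal (Ah A I q), 𝔫.IsMaximal →
      ∃ 𝔪 : Ideal A, 𝔪.map (algebraMap A (Ah A I q)) = 𝔫 := fun 𝔫 h𝔫 =>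
    ⟨q, by rw [IsLocalRing.eq_maximalIdeal h𝔫, hmq]⟩
  have hωB := Groth.Agent.Helper6.FBC.isDualizing_bcD_of_maximal_map (Ah A I q) hmaxB ω hω
  -- the contraction of the closed point is `q`
  have hc1 : q ≤ (closedPoint (Ah A I q)).asIdeal.comap (algebraMap A (Ah A I q)) := by
    rw [← Ideal.map_le_iff_le_comap, ← hmq]
    exact le_rfl
  have hc2 : ∀ r : Ideal (Ah A I q), r.IsPrime → r.comap (algebraMap A (Ah A I q)) ≤ q := by
    intro r hr
    rw [IsScalarTower.algebraMap_eq A (Rq A q) (Ah A I q), ← Ideal.comap_comap]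
    exact comap_le_of_ne_top A q _ (Ideal.comap_isPrime (algebraMap (Rq A q) (Ah A I q)) r).ne_top
  have hc : PrimeSpectrum.comap (algebraMap A (Ah A I q)) (closedPoint (Ah A I q)) = ⟨q, hqP⟩ :=
    PrimeSpectrum.ext (le_antisymm (hc2 _ (closedPoint (Ah A I q)).isPrime) hc1)
  have hq'' : ((closedPoint (Ah A I q)).asIdeal.comap (algebraMap A (Ah A I q))).map
      (algebraMap A (Ah A I q)) = (closedPoint (Ah A I q)).asIdeal := by
    refine le_antisymm Ideal.map_comap_le ?_
    show maximalIdeal (Ah A I q) ≤ _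
    rw [hmq]
    exact Ideal.map_mono hc1
  have hpq : p' ≤ closedPoint (Ah A I q) :=
    (PrimeSpectrum.asIdeal_le_asIdeal _ _).mp (le_maximalIdeal p'.isPrime.ne_top)
  obtain ⟨h1, h2⟩ := main (Ah A I q) ω hω hωB M _ (isBaseChange_comp A I M q) p'
    (closedPoint (Ah A I q)) hpq hq''
  have hcdB : LocCoh.CdLE (Ah A I q) (I.map (algebraMap A (Ah A I q))) d :=
    (Groth.Agent.S0379.result A (Ah A I q) I d).1 hcd
  have hIm : I.map (algebraMap A (Ah A I q)) ≤ maximalIdeal (Ah A I q) := by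
    rw [hmq]
    exact Ideal.map_mono hIq
  obtain ⟨h, hhd, hh⟩ := dim_le_of_cd (I.map (algebraMap A (Ah A I q))) d hcdB p' hIm hmax
  refine ⟨h1, hc2 _ p'.isPrime, h, hhd, ?_⟩
  rw [hh, hc] at h2
  rw [h2]
  congr 1
  exact (Groth.Agent.Helper9.LF9.dimBetween_eq
    (PrimeSpectrum.comap (algebraMap A (Ah A I q)) p') ⟨q, hqP⟩).symm

end Main

end Groth.Agent.Helper9.LF13
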