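import Mathlib
import Groth.Agent.Helper9.LF13
import Groth.Agent.Helper2.CAwayQuot

/-! The adic completion only depends on the quotients by powers; the completion of `A_{q₀}`
versus the completion of `(A^)_q`. -/

set_option autoImplicit false
set_option linter.style.haveILetI false
set_option linter.unusedSectionVars false
set_option linter.unusedVariables false
universe u
open CategoryTheory CategoryTheory.Limits Pretriangulated DerivedCategory TensorProduct IsLocalRing
attribute [local instance] HasDerivedCategory.standard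

namespace Groth.Agent.Helper9.LF14
open Groth.Agent.Helper3.DRingLib Groth.Agent.Helper9.LF11 Groth.Agent.Helper9.LF12

section ComplIso

variable {R₀ R₁ : Type u} [CommRing R₀] [CommRing R₁] (φ : R₀ →+* R₁) (J₀ : Ideal R₀)
  (J₁ : Ideal R₁) (hJ : J₀.map φ ≤ J₁)

/-- the map induced on the quotients by the `n`-th powers -/
noncomputable def quotPowMap (n : ℕ) : R₀ ⧸ J₀ ^ n →+* R₁ ⧸ J₁ ^ n :=
  Ideal.quotientMap _ φ (by
    rw [← Ideal.map_le_iff_le_comap, Ideal.map_pow]
    exact Ideal.pow_right_mono hJ n)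

lemma quotPowMap_mk (n : ℕ) (x : R₀) :
    quotPowMap φ J₀ J₁ hJ n (Ideal.Quotient.mk _ x) = Ideal.Quotient.mk _ (φ x) := rfl

lemma factorPow_quotPowMap {m n : ℕ} (hle : m ≤ n) (x : R₀ ⧸ J₀ ^ n) :
    Ideal.Quotient.factorPow J₁ hle (quotPowMap φ J₀ J₁ hJ n x) =
      quotPowMap φ J₀ J₁ hJ m (Ideal.Quotient.factorPow J₀ hle x) := by
  obtain ⟨x, rfl⟩ := Ideal.Quotient.mk_surjective x
  rfl

lemma factorPow_evalₐ {m n : ℕ} (hle : m ≤ n) (x : AdicCompletion J₀ R₀) :
    Ideal.Quotient.factorPow J₀ hle (AdicCompletion.evalₐ J₀ n x) =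
      AdicCompletion.evalₐ J₀ m x := by
  obtain ⟨c, rfl⟩ := AdicCompletion.mk_surjective J₀ R₀ x
  rw [AdicCompletion.evalₐ_mk, AdicCompletion.evalₐ_mk]
  show Ideal.Quotient.mk (J₀ ^ m) (c.1 n) = Ideal.Quotient.mk (J₀ ^ m) (c.1 m)
  rw [Ideal.Quotient.eq]
  have h := c.2 hle
  rw [SModEq.sub_mem] at h
  have h' : c.1 n - c.1 m ∈ (J₀ ^ m • ⊤ : Submodule R₀ R₀) := by
    have := Submodule.neg_mem _ h
    rwa [neg_sub] at this
  simpa using h'

lemma complMap_compat {m n : ℕ} (hle : m ≤ n) :
    (Ideal.Quotient.factorPow J₁ hle).comp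
      ((quotPowMap φ J₀ J₁ hJ n).comp (AdicCompletion.evalₐ J₀ n : AdicCompletion J₀ R₀ →+* R₀ ⧸ J₀ ^ n)) =
    (quotPowMap φ J₀ J₁ hJ m).comp (AdicCompletion.evalₐ J₀ m : AdicCompletion J₀ R₀ →+* R₀ ⧸ J₀ ^ m) := by
  ext x
  simp only [RingHom.comp_apply]
  rw [factorPow_quotPowMap]
  exact congrArg _ (factorPow_evalₐ J₀ hle x)

/-- the induced map on completions -/
noncomputable def complMap : AdicCompletion J₀ R₀ →+* AdicCompletion J₁ R₁ :=
  AdicCompletion.liftRingHom J₁
    (fun n => (quotPowMap φ J₀ J₁ hJ n).comp (AdicCompletion.evalₐ J₀ n : AdicCompletion J₀ R₀ →+* R₀ ⧸ J₀ ^ n))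
    (fun {m n} hle => complMap_compat φ J₀ J₁ hJ hle)

lemma evalₐ_complMap (n : ℕ) (x : AdicCompletion J₀ R₀) :
    AdicCompletion.evalₐ J₁ n (complMap φ J₀ J₁ hJ x) =
      quotPowMap φ J₀ J₁ hJ n (AdicCompletion.evalₐ J₀ n x) :=
  AdicCompletion.evalₐ_liftRingHom J₁ _ (fun {m n} hle => complMap_compat φ J₀ J₁ hJ hle) n x

lemma complMap_algebraMap (x : R₀) :
    complMap φ J₀ J₁ hJ (algebraMap R₀ (AdicCompletion J₀ R₀) x) =
      algebraMap R₁ (AdicCompletion J₁ R₁) (φ x) := by
  apply AdicCompletion.ext_evalₐ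
  intro n
  rw [evalₐ_complMap, AlgHom.commutes, AlgHom.commutes]
  rfl

lemma complMap_injective (h : ∀ n, Function.Injective (quotPowMap φ J₀ J₁ hJ n)) :
    Function.Injective (complMap φ J₀ J₁ hJ) := by
  intro x y hxy
  apply AdicCompletion.ext_evalₐ
  intro n
  apply h n
  rw [← evalₐ_complMap, ← evalₐ_complMap, hxy]

lemma complMap_surjective (h : ∀ n, Function.Bijective (quotPowMap φ J₀ J₁ hJ n)) :
    Function.Surjective (complMap φ J₀ J₁ hJ) := by
  intro y
  have hc : ∀ n, ∃ c : R₀, quotPowMap φ J₀ J₁ hJ n (Ideal.Quotient.mk _ c) =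
      AdicCompletion.evalₐ J₁ n y := by
    intro n
    obtain ⟨z, hz⟩ := (h n).2 (AdicCompletion.evalₐ J₁ n y)
    obtain ⟨c, rfl⟩ := Ideal.Quotient.mk_surjective z
    exact ⟨c, hz⟩
  choose c hc using hc
  have hcauchy : AdicCompletion.IsAdicCauchy J₀ R₀ c := by
    intro m n hle
    rw [SModEq.sub_mem]
    have h1 : Ideal.Quotient.mk (J₀ ^ m) (c m) = Ideal.Quotient.mk (J₀ ^ m) (c n) := by
      apply (h m).1
      rw [hc m, ← factorPow_evalₐ J₁ hle y, ← hc n, factorPow_quotPowMap]
      rfl
    rw [Ideal.Quotient.eq] at h1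
    simpa using h1
  refine ⟨AdicCompletion.mk J₀ R₀ ⟨c, hcauchy⟩, ?_⟩
  apply AdicCompletion.ext_evalₐ
  intro n
  rw [evalₐ_complMap, AdicCompletion.evalₐ_mk]
  exact hc n

/-- the completions are isomorphic when the quotients by all powers are -/
theorem exists_ringEquiv (h : ∀ n, Function.Bijective (quotPowMap φ J₀ J₁ hJ n)) :
    ∃ e : AdicCompletion J₀ R₀ ≃+* AdicCompletion J₁ R₁,
      ∀ x : R₀, e (algebraMap R₀ (AdicCompletion J₀ R₀) x) =
        algebraMap R₁ (AdicCompletion J₁ R₁) (φ x) :=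
  ⟨RingEquiv.ofBijective (complMap φ J₀ J₁ hJ)
    ⟨complMap_injective φ J₀ J₁ hJ (fun n => (h n).1), complMap_surjective φ J₀ J₁ hJ h⟩,
    fun x => complMap_algebraMap φ J₀ J₁ hJ x⟩

end ComplIso

section LocQuot

variable {A A' : Type u} [CommRing A] [CommRing A'] [Algebra A A'] (I : Ideal A)
  (q : Ideal A') [hqP : q.IsPrime]

/-- the prime of `A` under `q` -/
abbrev q0 : Ideal A := q.comap (algebraMap A A')

/-- the local homomorphism `A_{q₀} → A'_q` -/
noncomputable abbrev locHom :
    Localization.AtPrime (q0 (A := A) q) →+* Localization.AtPrime q :=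
  Localization.localRingHom (q0 (A := A) q) q (algebraMap A A') rfl

lemma map_locHom_le :
    (Jq A I (q0 (A := A) q)).map (locHom (A := A) q) ≤
      Jq A' (I.map (algebraMap A A')) q := by
  show (I.map (algebraMap A _)).map (locHom (A := A) q) ≤
    (I.map (algebraMap A A')).map (algebraMap A' _)
  rw [Ideal.map_map, Ideal.map_map, Ideal.map_le_iff_le_comap]
  intro x hx
  rw [Ideal.mem_comap, RingHom.comp_apply, Localization.localRingHom_to_map]
  exact Ideal.mem_map_of_mem _ hx

variable (hI : I.map (algebraMap A A') ≤ q)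
  (hs : ∀ (n : ℕ) (y : A'), ∃ x : A, algebraMap A A' x - y ∈ (I ^ n).map (algebraMap A A'))
  (hi : ∀ (n : ℕ) (x : A), algebraMap A A' x ∈ (I ^ n).map (algebraMap A A') → x ∈ I ^ n)

include hI hs hi in
theorem quotPowMap_bijective (n : ℕ) :
    Function.Bijective (quotPowMap (locHom (A := A) q) (Jq A I (q0 (A := A) q))
      (Jq A' (I.map (algebraMap A A')) q) (map_locHom_le I q) n) := by
  rcases Nat.eq_zero_or_pos n with rfl | hn
  · -- both rings are trivial
    have h0 : ∀ {R : Type u} [CommRing R] (J : Ideal R), Subsingleton (R ⧸ J ^ 0) := by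
      intro R _ J
      rw [pow_zero, Ideal.one_eq_top]
      exact Ideal.Quotient.subsingleton_iff.mpr rfl
    haveI := h0 (Jq A I (q0 (A := A) q))
    haveI := h0 (Jq A' (I.map (algebraMap A A')) q)
    exact ⟨fun x y _ => Subsingleton.elim _ _, fun y => ⟨0, Subsingleton.elim _ _⟩⟩
  have hIn : (I ^ n).map (algebraMap A A') ≤ q := by
    refine le_trans (Ideal.map_mono ?_) hI
    exact Ideal.pow_le_self (by omega)
  -- the powers of the extended ideals
  have hJ0 : (Jq A I (q0 (A := A) q)) ^ n =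
      (I ^ n).map (algebraMap A (Localization.AtPrime (q0 (A := A) q))) := (Ideal.map_pow _ _ _).symm
  have hJ1 : (Jq A' (I.map (algebraMap A A')) q) ^ n =
      ((I ^ n).map (algebraMap A A')).map (algebraMap A' (Localization.AtPrime q)) := by
    show ((I.map (algebraMap A A')).map (algebraMap A' _)) ^ n = _
    rw [← Ideal.map_pow, ← Ideal.map_pow]
  constructor
  · -- injectivity
    rw [injective_iff_map_eq_zero]
    intro z hz
    obtain ⟨x, rfl⟩ := Ideal.Quotient.mk_surjective z
    rw [quotPowMap_mk, Ideal.Quotient.eq_zero_iff_mem, hJ1] at hz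
    rw [Ideal.Quotient.eq_zero_iff_mem, hJ0]
    obtain ⟨⟨a, t⟩, rfl⟩ := IsLocalization.mk'_surjective (q0 (A := A) q).primeCompl x
    rw [Localization.localRingHom_mk', IsLocalization.mk'_mem_map_algebraMap_iff q.primeCompl] at hz
    obtain ⟨w, hwq, hw⟩ := hz
    rw [IsLocalization.mk'_mem_map_algebraMap_iff (q0 (A := A) q).primeCompl]
    obtain ⟨v, hv⟩ := hs n w
    have hvq : v ∉ q0 (A := A) q := by
      intro hvq
      apply hwq
      have h1 : algebraMap A A' v ∈ q := hvq
      have := q.sub_mem h1 (hIn hv)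
      rwa [sub_sub_cancel] at this
    refine ⟨v, hvq, hi n _ ?_⟩
    rw [map_mul]
    have : algebraMap A A' v * algebraMap A A' a =
        (algebraMap A A' v - w) * algebraMap A A' a + w * algebraMap A A' a := by ring
    rw [this]
    exact Ideal.add_mem _ (Ideal.mul_mem_right _ _ hv) hw
  · -- surjectivity
    intro z
    obtain ⟨y, rfl⟩ := Ideal.Quotient.mk_surjective z
    obtain ⟨⟨a', s'⟩, rfl⟩ := IsLocalization.mk'_surjective q.primeCompl y
    obtain ⟨a, ha⟩ := hs n a'
    obtain ⟨t, ht⟩ := hs n (s' : A')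
    have htq : t ∉ q0 (A := A) q := by
      intro htq
      apply s'.2
      have h1 : algebraMap A A' t ∈ q := htq
      have := q.sub_mem h1 (hIn ht)
      rwa [sub_sub_cancel] at this
    refine ⟨Ideal.Quotient.mk _ (IsLocalization.mk' _ a (⟨t, htq⟩ : (q0 (A := A) q).primeCompl)), ?_⟩
    rw [quotPowMap_mk, Ideal.Quotient.eq, hJ1, Localization.localRingHom_mk']
    show IsLocalization.mk' _ _ _ - IsLocalization.mk' _ a' s' ∈ _
    rw [← IsLocalization.mk'_sub, IsLocalization.mk'_mem_map_algebraMap_iff q.primeCompl]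
    refine ⟨1, Submonoid.one_mem _, ?_⟩
    rw [one_mul]
    have : algebraMap A A' a * (s' : A') - a' * algebraMap A A' t =
        (s' : A') * (algebraMap A A' a - a') - a' * (algebraMap A A' t - (s' : A')) := by
      ring
    show algebraMap A A' a * (s' : A') - a' * algebraMap A A' t ∈ _
    rw [this]
    exact Ideal.sub_mem _ (Ideal.mul_mem_left _ _ ha) (Ideal.mul_mem_left _ _ ht)

end LocQuot

section EquivTransfer

lemma krullDim_Icc_orderIso {α β : Type*} [PartialOrder α] [PartialOrder β] (φ : α ≃o β)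
    (a b : α) : Order.krullDim (Set.Icc a b) = Order.krullDim (Set.Icc (φ a) (φ b)) :=
  Order.krullDim_eq_of_orderIso
    { toFun := fun x => ⟨φ x.1, φ.le_iff_le.mpr x.2.1, φ.le_iff_le.mpr x.2.2⟩
      invFun := fun y => ⟨φ.symm y.1, (φ.le_symm_apply).mpr y.2.1, (φ.symm_apply_le).mpr y.2.2⟩
      left_inv := fun x => Subtype.ext (φ.symm_apply_apply x.1)
      right_inv := fun y => Subtype.ext (φ.apply_symm_apply y.1)
      map_rel_iff' := by
        intro x y
        show φ x.1 ≤ φ y.1 ↔ x.1 ≤ y.1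
        exact φ.le_iff_le }

lemma depth_congr_ideal {A : Type u} [CommRing A] (M : Type u) [AddCommGroup M] [Module A M]
    {P P' : Ideal A} [hP : P.IsPrime] [hP' : P'.IsPrime] (h : P = P') :
    LocCoh.depth (Localization.AtPrime P) (LocalizedModule P.primeCompl M) =
      LocCoh.depth (Localization.AtPrime P') (LocalizedModule P'.primeCompl M) := by
  subst h
  rfl

variable {A : Type u} [CommRing A] [IsNoetherianRing A]
  (B₀ B₁ : Type u) [CommRing B₀] [CommRing B₁] [Algebra A B₀] [Algebra A B₁]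
  [Module.Flat A B₀] [Module.Flat A B₁] [IsNoetherianRing B₀] [IsNoetherianRing B₁]
  [IsLocalRing B₀] [IsLocalRing B₁]
  (ω : Dual.D A) (hω : Dual.IsDualizing A ω)
  (hω₀ : Dual.IsDualizing B₀ ((bcD A B₀).obj ω)) (hω₁ : Dual.IsDualizing B₁ ((bcD A B₁).obj ω))
  (e : B₀ ≃+* B₁) (he : ∀ x : A, e (algebraMap A B₀ x) = algebraMap A B₁ x)
  (hm₀ : ((closedPoint B₀).asIdeal.comap (algebraMap A B₀)).map (algebraMap A B₀) =
    (closedPoint B₀).asIdeal)
  (hm₁ : ((closedPoint B₁).asIdeal.comap (algebraMap A B₁)).map (algebraMap A B₁) =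
    (closedPoint B₁).asIdeal)
  (M : Type u) [AddCommGroup M] [Module A M] [Module.Finite A M]
  {N₀ : Type u} [AddCommGroup N₀] [Module B₀ N₀] [Module A N₀] [IsScalarTower A B₀ N₀]
  (f₀ : M →ₗ[A] N₀) (hf₀ : IsBaseChange B₀ f₀)
  {N₁ : Type u} [AddCommGroup N₁] [Module B₁ N₁] [Module A N₁] [IsScalarTower A B₁ N₁]
  (f₁ : M →ₗ[A] N₁) (hf₁ : IsBaseChange B₁ f₁)

include hω hω₀ hω₁ he hm₀ hm₁ hf₀ hf₁ in
/-- the depths of the localizations of two base changes of `M` to isomorphic local
`A`-algebras agree -/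
theorem depth_eq_of_ringEquiv (p'' : PrimeSpectrum B₁) :
    LocCoh.depth (Localization.AtPrime (PrimeSpectrum.comap (e : B₀ →+* B₁) p'').asIdeal)
        (LocalizedModule (PrimeSpectrum.comap (e : B₀ →+* B₁) p'').asIdeal.primeCompl N₀) =
      LocCoh.depth (Localization.AtPrime p''.asIdeal)
        (LocalizedModule p''.asIdeal.primeCompl N₁) := by
  set p' : PrimeSpectrum B₀ := PrimeSpectrum.comap (e : B₀ →+* B₁) p'' with hp'
  have hP : p'.asIdeal.comap (algebraMap A B₀) = p''.asIdeal.comap (algebraMap A B₁) := by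
    ext x
    show e (algebraMap A B₀ x) ∈ p''.asIdeal ↔ _
    rw [he]
    rfl
  have hQ : (closedPoint B₀).asIdeal.comap (algebraMap A B₀) =
      (closedPoint B₁).asIdeal.comap (algebraMap A B₁) := by
    ext x
    show algebraMap A B₀ x ∈ maximalIdeal B₀ ↔ algebraMap A B₁ x ∈ maximalIdeal B₁
    rw [mem_maximalIdeal, mem_maximalIdeal, mem_nonunits_iff, mem_nonunits_iff, ← he,
      MulEquiv.isUnit_map]
  have hle₀ : p' ≤ closedPoint B₀ :=
    (PrimeSpectrum.asIdeal_le_asIdeal _ _).mp (le_maximalIdeal p'.isPrime.ne_top)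
  have hle₁ : p'' ≤ closedPoint B₁ :=
    (PrimeSpectrum.asIdeal_le_asIdeal _ _).mp (le_maximalIdeal p''.isPrime.ne_top)
  obtain ⟨-, h0⟩ := main B₀ ω hω hω₀ M f₀ hf₀ p' (closedPoint B₀) hle₀ hm₀
  obtain ⟨-, h1⟩ := main B₁ ω hω hω₁ M f₁ hf₁ p'' (closedPoint B₁) hle₁ hm₁
  have hPs : PrimeSpectrum.comap (algebraMap A B₀) p' = PrimeSpectrum.comap (algebraMap A B₁) p'' :=
    PrimeSpectrum.ext hP
  have hQs : PrimeSpectrum.comap (algebraMap A B₀) (closedPoint B₀) =
      PrimeSpectrum.comap (algebraMap A B₁) (closedPoint B₁) := PrimeSpectrum.ext hQ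
  rw [hPs, hQs, depth_congr_ideal M hP, ← h1] at h0
  -- the two intervals have the same finite dimension
  have e1 : (PrimeSpectrum.comapEquiv e) p' = p'' := by
    apply PrimeSpectrum.ext
    ext x
    show e (e.symm x) ∈ p''.asIdeal ↔ _
    rw [e.apply_symm_apply]
  have e2 : (PrimeSpectrum.comapEquiv e) (closedPoint B₀) = closedPoint B₁ := by
    apply PrimeSpectrum.ext
    ext x
    show e.symm x ∈ maximalIdeal B₀ ↔ x ∈ maximalIdeal B₁
    rw [mem_maximalIdeal, mem_maximalIdeal, mem_nonunits_iff, mem_nonunits_iff,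
      MulEquiv.isUnit_map]
  have hdim : Order.krullDim (Set.Icc p' (closedPoint B₀)) =
      Order.krullDim (Set.Icc p'' (closedPoint B₁)) := by
    rw [krullDim_Icc_orderIso (PrimeSpectrum.comapEquiv e) p' (closedPoint B₀), e1, e2]
  obtain ⟨h, hh⟩ := Groth.Agent.Helper9.LF5.exists_height_Ici p'' (closedPoint B₁) hle₁
  rw [hdim, Groth.Agent.Helper9.LF8.krullDim_Icc p'' (closedPoint B₁) hle₁, hh] at h0
  -- cancel the finite summand
  generalize LocCoh.depth (Localization.AtPrime p'.asIdeal)
    (LocalizedModule p'.asIdeal.primeCompl N₀) = D₀ at h0 ⊢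
  generalize LocCoh.depth (Localization.AtPrime p''.asIdeal)
    (LocalizedModule p''.asIdeal.primeCompl N₁) = D₁ at h0 ⊢
  have h0' : D₀ + (h : ℕ∞) = D₁ + (h : ℕ∞) := by exact_mod_cast h0
  exact (ENat.add_left_injective_of_ne_top (ENat.natCast_ne_top h)) h0'

end EquivTransfer

section Facts

variable (A : Type u) [CommRing A] [IsNoetherianRing A] (I : Ideal A)
  (q : Ideal A) [hqP : q.IsPrime]

/-- the closed point of `(A_q)^∧` is extended from `q` -/
theorem closedPoint_eq_map (hIq : I ≤ q) :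
    haveI := Helper6.ComplDim.isLocalRing_adicCompletion (Rq A q) (Jq A I q) (Jq_ne_top A I q hIq)
    maximalIdeal (Ah A I q) = q.map (algebraMap A (Ah A I q)) := by
  have hJ := Jq_ne_top A I q hIq
  haveI := Helper6.ComplDim.isLocalRing_adicCompletion (Rq A q) (Jq A I q) hJ
  have hmaxeq := Helper6.ComplDim.maximalIdeal_eq_map (Rq A q) (Jq A I q) hJ
  rw [hmaxeq, ← IsLocalization.AtPrime.map_eq_maximalIdeal q (Rq A q), Ideal.map_map,
    ← IsScalarTower.algebraMap_eq A (Rq A q) (Ah A I q)]

end Facts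

section AdicFacts

variable (A : Type u) [CommRing A] [IsNoetherianRing A] (I : Ideal A)

lemma mem_map_pow_iff (n : ℕ) (y : AdicCompletion I A) :
    y ∈ (I ^ n).map (algebraMap A (AdicCompletion I A)) ↔ AdicCompletion.evalₐ I n y = 0 := by
  have fg : I.FG := IsNoetherian.noetherian I
  rw [Ideal.map_pow, ← Groth.Agent.Helper2.CAwayQuot.ker_evalₐ_gen I fg n, RingHom.mem_ker]

lemma adic_hs (n : ℕ) (y : AdicCompletion I A) :
    ∃ x : A, algebraMap A (AdicCompletion I A) x - y ∈
      (I ^ n).map (algebraMap A (AdicCompletion I A)) := by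
  obtain ⟨x, hx⟩ := Ideal.Quotient.mk_surjective (AdicCompletion.evalₐ I n y)
  refine ⟨x, ?_⟩
  rw [mem_map_pow_iff, map_sub, AlgHom.commutes, Ideal.Quotient.algebraMap_eq, hx, sub_self]

lemma adic_hi (n : ℕ) (x : A)
    (h : algebraMap A (AdicCompletion I A) x ∈ (I ^ n).map (algebraMap A (AdicCompletion I A))) :
    x ∈ I ^ n := by
  rw [mem_map_pow_iff, AlgHom.commutes, Ideal.Quotient.algebraMap_eq,
    Ideal.Quotient.eq_zero_iff_mem] at h
  exact h

end AdicFacts

section Cond6

variable (A : Type u) [CommRing A] [IsNoetherianRing A] (I : Ideal A)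
  (M : Type u) [AddCommGroup M] [Module A M] [Module.Finite A M]
  (q : Ideal (AdicCompletion I A)) [hqP : q.IsPrime]

/-- **condition (6) passes to the `I`-adic completion** -/
theorem cond6_completion (ω : Dual.D A) (hω : Dual.IsDualizing A ω)
    (hIq : I.map (algebraMap A (AdicCompletion I A)) ≤ q) (s : ℕ)
    (h6 : ∀ p' : PrimeSpectrum (Ah A I (q0 (A := A) q)),
      ¬ I.map (algebraMap A (Ah A I (q0 (A := A) q))) ≤ p'.asIdeal →
      (∀ q' : PrimeSpectrum (Ah A I (q0 (A := A) q)), p' ≤ q' →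
        I.map (algebraMap A (Ah A I (q0 (A := A) q))) ≤ q'.asIdeal → q'.asIdeal.IsMaximal) →
      (s : ℕ∞) < LocCoh.depth (Localization.AtPrime p'.asIdeal)
        (LocalizedModule p'.asIdeal.primeCompl
          (AdicCompletion (Jq A I (q0 (A := A) q))
            (LocalizedModule (q0 (A := A) q).primeCompl M))))
    (p'' : PrimeSpectrum (Ah (AdicCompletion I A) (I.map (algebraMap A (AdicCompletion I A))) q))
    (hp'' : ¬ (I.map (algebraMap A (AdicCompletion I A))).map
      (algebraMap (AdicCompletion I A)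
        (Ah (AdicCompletion I A) (I.map (algebraMap A (AdicCompletion I A))) q)) ≤ p''.asIdeal)
    (hmax : ∀ q'' : PrimeSpectrum
        (Ah (AdicCompletion I A) (I.map (algebraMap A (AdicCompletion I A))) q), p'' ≤ q'' →
      (I.map (algebraMap A (AdicCompletion I A))).map
        (algebraMap (AdicCompletion I A)
          (Ah (AdicCompletion I A) (I.map (algebraMap A (AdicCompletion I A))) q)) ≤ q''.asIdeal →
      q''.asIdeal.IsMaximal) :
    (s : ℕ∞) < LocCoh.depth (Localization.AtPrime p''.asIdeal)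
      (LocalizedModule p''.asIdeal.primeCompl
        (AdicCompletion (Jq (AdicCompletion I A) (I.map (algebraMap A (AdicCompletion I A))) q)
          (LocalizedModule q.primeCompl (AdicCompletion I M)))) := by
  -- the completed ring
  haveI hN' : IsNoetherianRing (AdicCompletion I A) := Groth.Agent.S0543.result A I
  have hbc : IsBaseChange (AdicCompletion I A) (AdicCompletion.of I M) :=
    IsBaseChange.of_equiv (AdicCompletion.ofTensorProductEquivOfFiniteNoetherian I M)
      (fun x => by simp)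
  haveI hfinM' : Module.Finite (AdicCompletion I A) (AdicCompletion I M) :=
    finite_of_isBaseChange (AdicCompletion I A) M _ hbc
  have hIq0 : I ≤ q0 (A := A) q := Ideal.map_le_iff_le_comap.mp hIq
  have hqmap : (q0 (A := A) q).map (algebraMap A (AdicCompletion I A)) = q :=
    map_comap_eq_of_map_le I (adic_surj A I) q hIq
  -- the two complete local rings
  have hJ₀ := Jq_ne_top A I (q0 (A := A) q) hIq0
  have hJ₁ := Jq_ne_top (AdicCompletion I A) (I.map (algebraMap A (AdicCompletion I A))) q hIq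
  haveI hloc₀ := Helper6.ComplDim.isLocalRing_adicCompletion (Rq A (q0 (A := A) q))
    (Jq A I (q0 (A := A) q)) hJ₀
  haveI hloc₁ := Helper6.ComplDim.isLocalRing_adicCompletion (Rq (AdicCompletion I A) q)
    (Jq (AdicCompletion I A) (I.map (algebraMap A (AdicCompletion I A))) q) hJ₁
  haveI : IsNoetherianRing (Ah A I (q0 (A := A) q)) :=
    Groth.Agent.S0543.result (Rq A (q0 (A := A) q)) (Jq A I (q0 (A := A) q))
  haveI : IsNoetherianRing
      (Ah (AdicCompletion I A) (I.map (algebraMap A (AdicCompletion I A))) q) :=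
    Groth.Agent.S0543.result (Rq (AdicCompletion I A) q)
      (Jq (AdicCompletion I A) (I.map (algebraMap A (AdicCompletion I A))) q)
  haveI flat₀ : Module.Flat A (Ah A I (q0 (A := A) q)) :=
    Module.Flat.trans A (Rq A (q0 (A := A) q)) (Ah A I (q0 (A := A) q))
  haveI flat₁' : Module.Flat (AdicCompletion I A)
      (Ah (AdicCompletion I A) (I.map (algebraMap A (AdicCompletion I A))) q) :=
    Module.Flat.trans (AdicCompletion I A) (Rq (AdicCompletion I A) q) _
  haveI flat₁ : Module.Flat A
      (Ah (AdicCompletion I A) (I.map (algebraMap A (AdicCompletion I A))) q) :=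
    Module.Flat.trans A (AdicCompletion I A) _
  -- closed points
  have hm₀ := closedPoint_eq_map A I (q0 (A := A) q) hIq0
  have hm₁ := closedPoint_eq_map (AdicCompletion I A)
    (I.map (algebraMap A (AdicCompletion I A))) q hIq
  have hm₁' : maximalIdeal (Ah (AdicCompletion I A) (I.map (algebraMap A (AdicCompletion I A))) q) =
      (q0 (A := A) q).map (algebraMap A
        (Ah (AdicCompletion I A) (I.map (algebraMap A (AdicCompletion I A))) q)) := by
    rw [hm₁]
    have h1 : (q0 (A := A) q).map (algebraMap A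
        (Ah (AdicCompletion I A) (I.map (algebraMap A (AdicCompletion I A))) q)) =
        ((q0 (A := A) q).map (algebraMap A (AdicCompletion I A))).map
          (algebraMap (AdicCompletion I A)
            (Ah (AdicCompletion I A) (I.map (algebraMap A (AdicCompletion I A))) q)) := by
      rw [Ideal.map_map, ← IsScalarTower.algebraMap_eq]
    rw [h1, hqmap]
  have hω₀ := Groth.Agent.Helper6.FBC.isDualizing_bcD_of_maximal_map (Ah A I (q0 (A := A) q))
    (fun 𝔫 h𝔫 => ⟨q0 (A := A) q, by rw [IsLocalRing.eq_maximalIdeal h𝔫, hm₀]⟩) ω hω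
  have hω₁ := Groth.Agent.Helper6.FBC.isDualizing_bcD_of_maximal_map
    (Ah (AdicCompletion I A) (I.map (algebraMap A (AdicCompletion I A))) q)
    (fun 𝔫 h𝔫 => ⟨q0 (A := A) q, by rw [IsLocalRing.eq_maximalIdeal h𝔫, hm₁']⟩) ω hω
  have hcm₀ : ((closedPoint (Ah A I (q0 (A := A) q))).asIdeal.comap
      (algebraMap A (Ah A I (q0 (A := A) q)))).map (algebraMap A (Ah A I (q0 (A := A) q))) =
      (closedPoint (Ah A I (q0 (A := A) q))).asIdeal := by
    show ((maximalIdeal (Ah A I (q0 (A := A) q))).comap _).map _ = maximalIdeal _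
    rw [hm₀, Ideal.map_comap_map]
  have hcm₁ : ((closedPoint (Ah (AdicCompletion I A)
      (I.map (algebraMap A (AdicCompletion I A))) q)).asIdeal.comap
      (algebraMap A (Ah (AdicCompletion I A) (I.map (algebraMap A (AdicCompletion I A))) q))).map
      (algebraMap A (Ah (AdicCompletion I A) (I.map (algebraMap A (AdicCompletion I A))) q)) =
      (closedPoint (Ah (AdicCompletion I A)
        (I.map (algebraMap A (AdicCompletion I A))) q)).asIdeal := by
    show ((maximalIdeal (Ah (AdicCompletion I A)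
      (I.map (algebraMap A (AdicCompletion I A))) q)).comap _).map _ = maximalIdeal _
    rw [hm₁', Ideal.map_comap_map]
  -- the isomorphism of the two completions
  obtain ⟨e, he'⟩ := exists_ringEquiv (locHom (A := A) q) (Jq A I (q0 (A := A) q))
    (Jq (AdicCompletion I A) (I.map (algebraMap A (AdicCompletion I A))) q) (map_locHom_le I q)
    (quotPowMap_bijective I q hIq (adic_hs A I) (adic_hi A I))
  have he : ∀ x : A, e (algebraMap A (Ah A I (q0 (A := A) q)) x) =
      algebraMap A (Ah (AdicCompletion I A) (I.map (algebraMap A (AdicCompletion I A))) q) x := by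
    intro x
    rw [IsScalarTower.algebraMap_apply A (Rq A (q0 (A := A) q)) (Ah A I (q0 (A := A) q)), he',
      Localization.localRingHom_to_map,
      IsScalarTower.algebraMap_apply A (AdicCompletion I A)
        (Ah (AdicCompletion I A) (I.map (algebraMap A (AdicCompletion I A))) q),
      IsScalarTower.algebraMap_apply (AdicCompletion I A) (Rq (AdicCompletion I A) q)
        (Ah (AdicCompletion I A) (I.map (algebraMap A (AdicCompletion I A))) q)]
  -- the module over the second ring as a base change of `M`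
  haveI tower₁ : IsScalarTower A
      (Ah (AdicCompletion I A) (I.map (algebraMap A (AdicCompletion I A))) q)
      (AdicCompletion (Jq (AdicCompletion I A) (I.map (algebraMap A (AdicCompletion I A))) q)
        (LocalizedModule q.primeCompl (AdicCompletion I M))) :=
    IsScalarTower.of_algebraMap_smul fun a y => by
      rw [IsScalarTower.algebraMap_apply A (AdicCompletion I A)
        (Ah (AdicCompletion I A) (I.map (algebraMap A (AdicCompletion I A))) q), algebraMap_smul,
        algebraMap_smul]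
  obtain ⟨f₁, hf₁⟩ : ∃ f₁ : M →ₗ[A]
      (AdicCompletion (Jq (AdicCompletion I A) (I.map (algebraMap A (AdicCompletion I A))) q)
        (LocalizedModule q.primeCompl (AdicCompletion I M))),
      IsBaseChange (Ah (AdicCompletion I A) (I.map (algebraMap A (AdicCompletion I A))) q) f₁ :=
    ⟨_, IsBaseChange.comp hbc
      (isBaseChange_comp (AdicCompletion I A) (I.map (algebraMap A (AdicCompletion I A)))
        (AdicCompletion I M) q)⟩
  obtain ⟨f₀, hf₀⟩ : ∃ f₀ : M →ₗ[A]
      (AdicCompletion (Jq A I (q0 (A := A) q)) (LocalizedModule (q0 (A := A) q).primeCompl M)),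
      IsBaseChange (Ah A I (q0 (A := A) q)) f₀ :=
    ⟨_, isBaseChange_comp A I M (q0 (A := A) q)⟩
  have key := depth_eq_of_ringEquiv (Ah A I (q0 (A := A) q))
    (Ah (AdicCompletion I A) (I.map (algebraMap A (AdicCompletion I A))) q) ω hω hω₀ hω₁ e he
    hcm₀ hcm₁ M f₀ hf₀ f₁ hf₁ p''
  rw [← key]
  -- the conditions for `h6`
  refine h6 (PrimeSpectrum.comap (e : Ah A I (q0 (A := A) q) →+*
    Ah (AdicCompletion I A) (I.map (algebraMap A (AdicCompletion I A))) q) p'') ?_ ?_
  · intro hle
    apply hp''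
    rw [Ideal.map_map, ← IsScalarTower.algebraMap_eq, Ideal.map_le_iff_le_comap]
    intro x hx
    have := hle (Ideal.mem_map_of_mem _ hx)
    change e (algebraMap A _ x) ∈ p''.asIdeal at this
    rwa [he] at this
  · intro q' hle hIq'
    have hq'' := hmax ((PrimeSpectrum.comapEquiv e) q') ?_ ?_
    · have : q'.asIdeal = ((PrimeSpectrum.comapEquiv e) q').asIdeal.comap (e : Ah A I (q0 (A := A) q) →+*
    Ah (AdicCompletion I A) (I.map (algebraMap A (AdicCompletion I A))) q) := by
        ext x
        show _ ↔ e.symm (e x) ∈ q'.asIdeal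
        rw [e.symm_apply_apply]
      rw [this]
      exact Ideal.comap_isMaximal_of_surjective (e : Ah A I (q0 (A := A) q) →+*
    Ah (AdicCompletion I A) (I.map (algebraMap A (AdicCompletion I A))) q) e.surjective
    · intro x hx
      show e.symm x ∈ q'.asIdeal
      apply hle
      show e (e.symm x) ∈ p''.asIdeal
      rwa [e.apply_symm_apply]
    · rw [Ideal.map_map, ← IsScalarTower.algebraMap_eq, Ideal.map_le_iff_le_comap]
      intro x hx
      show e.symm (algebraMap A _ x) ∈ q'.asIdeal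
      rw [← he, e.symm_apply_apply]
      exact hIq' (Ideal.mem_map_of_mem _ hx)

end Cond6

end Groth.Agent.Helper9.LF14
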