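import Mathlib
import Groth.Prelude.Def_DualLC
import Groth.Agent.Helper7.DepthFin
import Groth.Agent.Helper9.LF11
import Groth.Agent.S5152
import Groth.Agent.Helper9.LF14

/-!
# Depth transfer along ring isomorphisms and iterated localizations; depth along finite ring maps
-/

set_option autoImplicit false
set_option linter.style.haveILetI false
set_option linter.unusedSectionVars false
set_option linter.unusedVariables false

universe u
open IsLocalRing

namespace Groth.Agent.Helper9.CU1

/-- the maximal ideal is carried to the maximal ideal by a ring isomorphism -/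
lemma map_maximalIdeal_ringEquiv {R R' : Type u} [CommRing R] [CommRing R'] [IsLocalRing R]
    [IsLocalRing R'] (e : R ≃+* R') :
    (maximalIdeal R).map (e : R →+* R') = maximalIdeal R' := by
  ext x
  rw [Ideal.mem_map_iff_of_surjective (e : R →+* R') e.surjective]
  constructor
  · rintro ⟨y, hy, rfl⟩
    rw [mem_maximalIdeal, mem_nonunits_iff] at hy ⊢
    intro h
    apply hy
    have := h.map e.symm
    simpa using this
  · intro hx
    refine ⟨e.symm x, ?_, by simp⟩
    rw [mem_maximalIdeal, mem_nonunits_iff] at hx ⊢
    intro h
    apply hx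
    have := h.map e
    simpa using this

/-- depth is invariant under a ring isomorphism together with a semilinear bijection -/
theorem depth_eq_of_semilinear {R R' : Type u} [CommRing R] [CommRing R'] [IsLocalRing R]
    [IsLocalRing R'] [IsNoetherianRing R] (e : R ≃+* R')
    {N N' : Type u} [AddCommGroup N] [Module R N] [AddCommGroup N'] [Module R' N']
    [Module.Finite R' N'] (φ : N ≃+ N') (hφ : ∀ (r : R) (x : N), φ (r • x) = e r • φ x) :
    LocCoh.depth R N = LocCoh.depth R' N' := by
  letI : Algebra R R' := (e : R →+* R').toAlgebra
  letI : Module R N' := Module.compHom N' (e : R →+* R')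
  haveI : IsScalarTower R R' N' := IsScalarTower.of_algebraMap_smul fun _ _ => rfl
  haveI : Module.Finite R R' :=
    Module.Finite.of_surjective (Algebra.linearMap R R') e.surjective
  let ψ : N ≃ₗ[R] N' :=
    { φ with
      map_smul' := fun r x => by
        show φ (r • x) = e r • φ x
        exact hφ r x }
  rw [Groth.Agent.Helper9.LF11.depth_congr ψ]
  unfold LocCoh.depth
  rw [Groth.Agent.Helper7.DepthFin.idealDepth_map_eq (A := R) (B := R') (maximalIdeal R) N']
  congr 1
  exact map_maximalIdeal_ringEquiv e


section LocLoc

variable {B : Type u} [CommRing B] [IsNoetherianRing B] (T : Submonoid B)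
  (M : Type u) [AddCommGroup M] [Module B M] [Module.Finite B M]
  (P : Ideal (Localization T)) [hP : P.IsPrime]

/-- depth of the localization of a localized module at a prime of the localized ring -/
theorem depth_localization_localization :
    LocCoh.depth (Localization.AtPrime P) (LocalizedModule P.primeCompl (LocalizedModule T M)) =
      LocCoh.depth (Localization.AtPrime (P.comap (algebraMap B (Localization T))))
        (LocalizedModule (P.comap (algebraMap B (Localization T))).primeCompl M) := by
  set p' : Ideal B := P.comap (algebraMap B (Localization T)) with hp'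
  haveI : p'.IsPrime := Ideal.comap_isPrime _ _
  let Bp := Localization T
  let R1 := Localization.AtPrime p'
  let R2 := Localization.AtPrime P
  let N1 := LocalizedModule p'.primeCompl M
  let N2 := LocalizedModule P.primeCompl (LocalizedModule T M)
  let e : R1 ≃ₐ[B] R2 := IsLocalization.localizationLocalizationAtPrimeIsoLocalization T P
  letI modR1 : Module R1 N2 := Module.compHom N2 (e : R1 →+* R2)
  haveI t3 : IsScalarTower B R1 N2 := IsScalarTower.of_algebraMap_smul fun b y => by
    show e (algebraMap B R1 b) • y = b • y
    rw [e.commutes, algebraMap_smul]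
  let g1 : M →ₗ[B] LocalizedModule T M := LocalizedModule.mkLinearMap T M
  let g2 : LocalizedModule T M →ₗ[Bp] N2 :=
    LocalizedModule.mkLinearMap P.primeCompl (LocalizedModule T M)
  have h1 : IsBaseChange Bp g1 := IsLocalizedModule.isBaseChange T Bp g1
  have h2 : IsBaseChange R2 g2 := IsLocalizedModule.isBaseChange P.primeCompl R2 g2
  have h3 : IsBaseChange R2 ((g2.restrictScalars B).comp g1) := IsBaseChange.comp h1 h2
  haveI : IsLocalizedModule p'.primeCompl ((g2.restrictScalars B).comp g1) :=
    (isLocalizedModule_iff_isBaseChange p'.primeCompl R2 _).2 h3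
  let ψ : N1 ≃ₗ[B] N2 := IsLocalizedModule.linearEquiv p'.primeCompl
    (LocalizedModule.mkLinearMap p'.primeCompl M) ((g2.restrictScalars B).comp g1)
  let ψ' : N1 ≃ₗ[R1] N2 := LinearEquiv.extendScalarsOfIsLocalization p'.primeCompl R1 ψ
  haveI : IsNoetherianRing R1 := IsLocalization.isNoetherianRing p'.primeCompl _ inferInstance
  exact (depth_eq_of_semilinear (e : R1 ≃+* R2) ψ'.toAddEquiv
    (fun r x => by
      show ψ' (r • x) = e r • ψ' x
      rw [map_smul]
      rfl)).symm

end LocLoc


section FiniteMap

variable {A B : Type u} [CommRing A] [CommRing B] [Algebra A B] [IsNoetherianRing A]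
  [Module.Finite A B]
  (M : Type u) [AddCommGroup M] [Module B M] [Module A M] [IsScalarTower A B M] [Module.Finite B M]
  (p : Ideal A) [hp : p.IsPrime]

/-- **Depth along a finite ring map**: the depth of `M_p` over `A_p` is the least depth of the
localizations of `M` at the primes of `B` over `p`. -/
theorem depth_eq_iInf_of_finite :
    LocCoh.depth (Localization.AtPrime p) (LocalizedModule p.primeCompl M) =
      ⨅ (p' : PrimeSpectrum B) (_ : p'.asIdeal.comap (algebraMap A B) = p),
        LocCoh.depth (Localization.AtPrime p'.asIdeal)
          (LocalizedModule p'.asIdeal.primeCompl M) := by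
  haveI : IsNoetherianRing B := IsNoetherianRing.of_finite A B
  let S := p.primeCompl
  let T := Algebra.algebraMapSubmonoid B S
  let Ap := Localization.AtPrime p
  let Bp := Localization T
  let Np := LocalizedModule T M
  haveI : IsNoetherianRing Ap := IsLocalization.isNoetherianRing S _ inferInstance
  haveI : IsNoetherianRing Bp := IsLocalization.isNoetherianRing T _ inferInstance
  letI modAp : Module Ap Np := Module.compHom Np (algebraMap Ap Bp)
  haveI t1 : IsScalarTower Ap Bp Np := IsScalarTower.of_algebraMap_smul fun _ _ => rfl
  haveI t2 : IsScalarTower A Ap Np := IsScalarTower.of_algebraMap_smul fun a y => by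
    show algebraMap Ap Bp (algebraMap A Ap a) • y = a • y
    rw [← IsScalarTower.algebraMap_apply A Ap Bp, algebraMap_smul]
  -- the left hand side
  haveI : IsLocalizedModule S ((LocalizedModule.mkLinearMap T M).restrictScalars A) :=
    IsLocalizedModule.restrictScalars S (LocalizedModule.mkLinearMap T M)
  let ψ : LocalizedModule S M ≃ₗ[A] Np := IsLocalizedModule.linearEquiv S
    (LocalizedModule.mkLinearMap S M) ((LocalizedModule.mkLinearMap T M).restrictScalars A)
  let ψ' : LocalizedModule S M ≃ₗ[Ap] Np := LinearEquiv.extendScalarsOfIsLocalization S Ap ψ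
  have hL : LocCoh.depth Ap (LocalizedModule S M) = LocCoh.depth Ap Np :=
    Groth.Agent.Helper9.LF11.depth_congr ψ'
  have h1 : LocCoh.depth Ap Np =
      LocCoh.idealDepth ((maximalIdeal Ap).map (algebraMap Ap Bp)) Np := by
    unfold LocCoh.depth
    exact Groth.Agent.Helper7.DepthFin.idealDepth_map_eq (A := Ap) (B := Bp) (maximalIdeal Ap) Np
  have h2 := Groth.Agent.S5152.result Bp ((maximalIdeal Ap).map (algebraMap Ap Bp)) Np
  have hmax : (maximalIdeal Ap).map (algebraMap Ap Bp) = p.map (algebraMap A Bp) := by
    rw [← Localization.AtPrime.map_eq_maximalIdeal, Ideal.map_map,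
      ← IsScalarTower.algebraMap_eq]
  have hcomap : ∀ P : Ideal Bp, P.comap (algebraMap A Bp) =
      (P.comap (algebraMap B Bp)).comap (algebraMap A B) := by
    intro P
    rw [Ideal.comap_comap, ← IsScalarTower.algebraMap_eq]
  show LocCoh.depth Ap (LocalizedModule S M) = _
  rw [hL, h1, h2, hmax]
  apply le_antisymm
  · refine le_iInf₂ fun p' hp' => ?_
    have hdisj : Disjoint (T : Set B) (p'.asIdeal : Set B) := by
      rw [Set.disjoint_left]
      rintro b ⟨a, ha, rfl⟩ hb
      apply ha
      rw [← hp']
      exact hb
    let P : Ideal Bp := p'.asIdeal.map (algebraMap B Bp)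
    haveI hPprime : P.IsPrime := IsLocalization.isPrime_of_isPrime_disjoint T Bp _ p'.isPrime hdisj
    have hPc : P.comap (algebraMap B Bp) = p'.asIdeal :=
      IsLocalization.under_map_of_isPrime_disjoint T Bp p'.isPrime hdisj
    have hle : p.map (algebraMap A Bp) ≤ P := by
      rw [Ideal.map_le_iff_le_comap, hcomap, hPc, hp']
    refine (iInf₂_le (⟨P, hPprime⟩ : PrimeSpectrum Bp) hle).trans ?_
    show LocCoh.depth (Localization.AtPrime P) (LocalizedModule P.primeCompl Np) ≤ _
    rw [depth_localization_localization T M P,
      Groth.Agent.Helper9.LF14.depth_congr_ideal M hPc]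
  · refine le_iInf₂ fun P hP => ?_
    let p' : PrimeSpectrum B := ⟨P.asIdeal.comap (algebraMap B Bp), Ideal.comap_isPrime _ _⟩
    have hp' : p'.asIdeal.comap (algebraMap A B) = p := by
      show (P.asIdeal.comap (algebraMap B Bp)).comap (algebraMap A B) = p
      rw [← hcomap]
      apply le_antisymm
      · intro a ha
        by_contra hna
        have hu : IsUnit (algebraMap A Bp a) := by
          rw [IsScalarTower.algebraMap_apply A B Bp]
          exact IsLocalization.map_units Bp (⟨algebraMap A B a, a, hna, rfl⟩ : T)
        exact P.isPrime.ne_top (Ideal.eq_top_of_isUnit_mem _ ha hu)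
      · exact Ideal.map_le_iff_le_comap.mp hP
    refine (iInf₂_le p' hp').trans ?_
    show LocCoh.depth (Localization.AtPrime (P.asIdeal.comap (algebraMap B Bp)))
      (LocalizedModule (P.asIdeal.comap (algebraMap B Bp)).primeCompl M) ≤ _
    rw [← depth_localization_localization T M P.asIdeal]

end FiniteMap

end Groth.Agent.Helper9.CU1
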