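import Mathlib

set_option autoImplicit false
set_option linter.unusedSectionVars false

namespace Groth.Agent.Helper9.TopQuot

open CategoryTheory CategoryTheory.Limits MonoidalCategory CartesianMonoidalCategory MonObj

universe v u

variable {𝒯 : Type u} [Category.{v} 𝒯] [CartesianMonoidalCategory 𝒯]

/-- every epimorphism is a universal effective epimorphism -/
def EpiUE (𝒯 : Type u) [Category.{v} 𝒯] : Prop :=
  ∀ ⦃X Y : 𝒯⦄ (f : X ⟶ Y), Epi f →
    MorphismProperty.universally (fun (A B : 𝒯) (p : A ⟶ B) => EffectiveEpi p) f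

/-- every equivalence relation is universally effective -/
def EqEff (𝒯 : Type u) [Category.{v} 𝒯] : Prop :=
  ∀ ⦃R X : 𝒯⦄ (p₁ p₂ : R ⟶ X), IsEquivalenceRelation p₁ p₂ →
    IsUniversallyEffectiveEquivalenceRelation p₁ p₂

section Basic

theorem isPullback_whiskerRight {E B : 𝒯} (j : E ⟶ B) (W : 𝒯) :
    IsPullback (j ▷ W) (fst E W) (fst B W) j := by
  refine ⟨⟨by rw [whiskerRight_fst]⟩, ⟨PullbackCone.IsLimit.mk _
    (fun s => lift s.snd (s.fst ≫ snd B W)) ?_ ?_ ?_⟩⟩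
  · intro s
    rw [lift_whiskerRight]
    have h1 : s.snd ≫ j = s.fst ≫ fst B W := s.condition.symm
    rw [h1, ← comp_lift, lift_fst_snd, Category.comp_id]
  · intro s
    rw [lift_fst]
  · intro s m hm1 hm2
    apply CartesianMonoidalCategory.hom_ext
    · rw [lift_fst, hm2]
    · rw [lift_snd, ← hm1, Category.assoc, whiskerRight_snd]

theorem isPullback_whiskerLeft {E B : 𝒯} (j : E ⟶ B) (W : 𝒯) :
    IsPullback (W ◁ j) (snd W E) (snd W B) j := by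
  refine ⟨⟨by rw [whiskerLeft_snd]⟩, ⟨PullbackCone.IsLimit.mk _
    (fun s => lift (s.fst ≫ fst W B) s.snd) ?_ ?_ ?_⟩⟩
  · intro s
    rw [lift_whiskerLeft]
    have h1 : s.snd ≫ j = s.fst ≫ snd W B := s.condition.symm
    rw [h1, ← comp_lift, lift_fst_snd, Category.comp_id]
  · intro s
    rw [lift_snd]
  · intro s m hm1 hm2
    apply CartesianMonoidalCategory.hom_ext
    · rw [lift_fst, ← hm1, Category.assoc, whiskerLeft_fst]
    · rw [lift_snd, hm2]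

variable (hU : EpiUE 𝒯)

include hU in
theorem epi_of_isPullback {E B E' B' : 𝒯} {a : E' ⟶ B'} {b : E' ⟶ E} {c : B' ⟶ B} {j : E ⟶ B}
    (sq : IsPullback a b c j) [Epi j] : Epi a := by
  haveI : EffectiveEpi a := hU j inferInstance b c a sq
  infer_instance

include hU in
theorem effectiveEpi_of_epi {E B : 𝒯} (p : E ⟶ B) [Epi p] : EffectiveEpi p :=
  hU p inferInstance (𝟙 _) (𝟙 _) p (IsPullback.id_vert p)

include hU in
theorem epi_whiskerRight {E B : 𝒯} (p : E ⟶ B) [Epi p] (W : 𝒯) : Epi (p ▷ W) :=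
  epi_of_isPullback hU (isPullback_whiskerRight p W)

include hU in
theorem epi_whiskerLeft {E B : 𝒯} (p : E ⟶ B) [Epi p] (W : 𝒯) : Epi (W ◁ p) :=
  epi_of_isPullback hU (isPullback_whiskerLeft p W)

include hU in
theorem epi_tensor {E₁ B₁ E₂ B₂ : 𝒯} (p₁ : E₁ ⟶ B₁) (p₂ : E₂ ⟶ B₂) [Epi p₁] [Epi p₂] :
    Epi (p₁ ⊗ₘ p₂) := by
  rw [MonoidalCategory.tensorHom_def]
  haveI := epi_whiskerRight hU p₁ E₂
  haveI := epi_whiskerLeft hU p₂ B₁
  exact epi_comp _ _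

include hU in
/-- descent of a morphism along an epimorphism, points form -/
theorem desc_q {E B W : 𝒯} (p : E ⟶ B) [Epi p] (f : E ⟶ W)
    (h : ∀ ⦃T : 𝒯⦄ (e₁ e₂ : T ⟶ E), e₁ ≫ p = e₂ ≫ p → e₁ ≫ f = e₂ ≫ f) :
    ∃ g : B ⟶ W, p ≫ g = f := by
  haveI := effectiveEpi_of_epi hU p
  exact ⟨EffectiveEpi.desc p f (fun g₁ g₂ h12 => h g₁ g₂ h12), EffectiveEpi.fac _ _ _⟩

theorem hom_ext_lift₂ {A B Y : 𝒯} {f g : A ⊗ B ⟶ Y}
    (h : ∀ (T : 𝒯) (a : T ⟶ A) (b : T ⟶ B), lift a b ≫ f = lift a b ≫ g) : f = g := by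
  have e : lift (fst A B) (snd A B) = 𝟙 (A ⊗ B) := lift_fst_snd
  simpa [e] using h (A ⊗ B) (fst A B) (snd A B)

theorem hom_ext_lift₃ {A B D Y : 𝒯} {f g : (A ⊗ B) ⊗ D ⟶ Y}
    (h : ∀ (T : 𝒯) (a : T ⟶ A) (b : T ⟶ B) (c : T ⟶ D),
      lift (lift a b) c ≫ f = lift (lift a b) c ≫ g) : f = g := by
  have e : lift (lift (fst (A ⊗ B) D ≫ fst A B) (fst (A ⊗ B) D ≫ snd A B)) (snd (A ⊗ B) D) =
      𝟙 ((A ⊗ B) ⊗ D) := by
    apply CartesianMonoidalCategory.hom_ext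
    · rw [lift_fst, Category.id_comp, ← comp_lift, lift_fst_snd, Category.comp_id]
    · rw [lift_snd, Category.id_comp]
  simpa [e] using h _ (fst (A ⊗ B) D ≫ fst A B) (fst (A ⊗ B) D ≫ snd A B) (snd (A ⊗ B) D)

theorem dec {A B T : 𝒯} (z : T ⟶ A ⊗ B) : z = lift (z ≫ fst A B) (z ≫ snd A B) := by
  rw [← comp_lift, lift_fst_snd, Category.comp_id]

end Basic

section Coset

variable {G H : 𝒯} [GrpObj G] [GrpObj H] (u : H ⟶ G) [IsMonHom u] [Mono u]

theorem p₂_pt {T : 𝒯} (a : T ⟶ G) (h : T ⟶ H) : lift a h ≫ (G ◁ u) ≫ μ[G] = a * (h ≫ u) := by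
  rw [lift_whiskerLeft_assoc, ← Hom.mul_def]

/-- the coset relation `G × H ⇉ G` is an equivalence relation -/
noncomputable def cosetRel [HasPullbacks 𝒯] :
    EquivalenceRelation (fst G H) ((G ◁ u) ≫ μ[G]) where
  right_cancellation := by
    intro Y f g h1 h2
    rw [dec f, dec g] at h2 ⊢
    rw [p₂_pt, p₂_pt, h1] at h2
    have h3 : (f ≫ snd G H) ≫ u = (g ≫ snd G H) ≫ u := mul_left_cancel h2
    rw [h1, (cancel_mono u).mp h3]
  r := lift (𝟙 G) (toUnit G ≫ η[H])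
  reflexivity₁ := lift_fst _ _
  reflexivity₂ := by
    rw [p₂_pt, ← Hom.one_def, one_comp, _root_.mul_one]
  s := lift ((G ◁ u) ≫ μ[G]) ((snd G H)⁻¹)
  symmetry₁ := lift_fst _ _
  symmetry₂ := by
    rw [p₂_pt, GrpObj.inv_comp]
    have h1 : (G ◁ u) ≫ μ[G] = fst G H * (snd G H ≫ u) := by
      rw [Hom.mul_def]
      apply congrArg (fun m => m ≫ μ[G])
      apply CartesianMonoidalCategory.hom_ext
      · rw [whiskerLeft_fst, lift_fst]
      · rw [whiskerLeft_snd, lift_snd]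
    rw [h1, mul_inv_cancel_right]
  c := pullback.cone _ _
  isLimit := pullback.isLimit _ _
  t := lift (pullback.fst _ _ ≫ fst G H)
    ((pullback.fst _ _ ≫ snd G H) * (pullback.snd _ _ ≫ snd G H))
  transitivity₁ := by
    rw [lift_fst]
    rfl
  transitivity₂ := by
    rw [p₂_pt, MonObj.mul_comp, ← _root_.mul_assoc]
    have h1 : (pullback.fst ((G ◁ u) ≫ μ[G]) (fst G H)) ≫ (G ◁ u) ≫ μ[G] =
        pullback.snd ((G ◁ u) ≫ μ[G]) (fst G H) ≫ fst G H := pullback.condition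
    have h2 := dec (pullback.fst ((G ◁ u) ≫ μ[G]) (fst G H))
    have h3 := dec (pullback.snd ((G ◁ u) ≫ μ[G]) (fst G H))
    rw [h2, p₂_pt] at h1
    change _ = pullback.snd ((G ◁ u) ≫ μ[G]) (fst G H) ≫ (G ◁ u) ≫ μ[G]
    conv_rhs => rw [h3, p₂_pt, ← h1]

variable (hE : EqEff 𝒯)

include hE in
/-- the coset relation is the kernel pair of any of its coequalizers -/
theorem kerPair_of_isColimit [HasPullbacks 𝒯] {Q : 𝒯} (q : G ⟶ Q)
    (w : fst G H ≫ q = ((G ◁ u) ≫ μ[G]) ≫ q) (hq : IsColimit (Cofork.ofπ q w)) :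
    IsKernelPair q (fst G H) ((G ◁ u) ≫ μ[G]) := by
  obtain ⟨⟨e⟩⟩ := hE (fst G H) ((G ◁ u) ≫ μ[G]) (cosetRel u).isEquivalenceRelation
  have h1 := e.isKernelPair
  let i : e.B ≅ Q := (EffectiveEquivalenceRelation.isCoequalizer _ _
    e.toEffectiveEquivalenceRelation).coconePointUniqueUpToIso hq
  have h2 : e.π ≫ i.hom = q :=
    (EffectiveEquivalenceRelation.isCoequalizer _ _
      e.toEffectiveEquivalenceRelation).comp_coconePointUniqueUpToIso_hom hq WalkingParallelPair.one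
  rw [← h2]
  exact h1.comp_of_mono

include hE in
/-- fibres of the quotient map are the cosets -/
theorem fib_of_isColimit [HasPullbacks 𝒯] {Q : 𝒯} (q : G ⟶ Q)
    (w : fst G H ≫ q = ((G ◁ u) ≫ μ[G]) ≫ q) (hq : IsColimit (Cofork.ofπ q w))
    ⦃T : 𝒯⦄ (a b : T ⟶ G) : a ≫ q = b ≫ q ↔ ∃ h : T ⟶ H, b = a * (h ≫ u) := by
  constructor
  · intro hab
    have hk := kerPair_of_isColimit u hE q w hq
    refine ⟨hk.lift a b hab ≫ snd G H, ?_⟩
    have h1 := hk.lift_fst a b hab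
    have h2 := hk.lift_snd a b hab
    rw [dec (hk.lift a b hab), p₂_pt, h1] at h2
    exact h2.symm
  · rintro ⟨h, rfl⟩
    rw [← p₂_pt, Category.assoc, Category.assoc, ← Category.assoc (G ◁ u), ← w, lift_fst_assoc]

end Coset

section QuotGrp

variable (hU : EpiUE 𝒯)
variable {G N Q : 𝒯} [GrpObj G] [GrpObj N] (u : N ⟶ G) [IsMonHom u]
  (p : G ⟶ Q) [Epi p]
  (hfib : ∀ ⦃T : 𝒯⦄ (a b : T ⟶ G), a ≫ p = b ≫ p ↔ ∃ h : T ⟶ N, b = a * (h ≫ u))
  (hN : ∀ (Y : 𝒯) (g : Y ⟶ G) (h : Y ⟶ N), ∃ h' : Y ⟶ N, g * (h ≫ u) * g⁻¹ = h' ≫ u)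

include hU hfib hN in
theorem exists_mul : ∃ m : Q ⊗ Q ⟶ Q, (p ⊗ₘ p) ≫ m = μ[G] ≫ p := by
  haveI := epi_tensor hU p p
  apply desc_q hU (p ⊗ₘ p) (μ[G] ≫ p)
  intro T e₁ e₂ h12
  rw [dec e₁, dec e₂] at h12 ⊢
  set a₁ := e₁ ≫ fst G G
  set b₁ := e₁ ≫ snd G G
  set a₂ := e₂ ≫ fst G G
  set b₂ := e₂ ≫ snd G G
  rw [lift_map, lift_map] at h12
  have ha : a₁ ≫ p = a₂ ≫ p := by
    have := congrArg (fun e => e ≫ fst Q Q) h12
    simpa using this
  have hb : b₁ ≫ p = b₂ ≫ p := by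
    have := congrArg (fun e => e ≫ snd Q Q) h12
    simpa using this
  obtain ⟨h, hh⟩ := (hfib a₁ a₂).mp ha
  obtain ⟨k, hk⟩ := (hfib b₁ b₂).mp hb
  obtain ⟨h', hh'⟩ := hN T b₁⁻¹ h
  rw [_root_.inv_inv] at hh'
  rw [← Category.assoc, ← Category.assoc, ← Hom.mul_def, ← Hom.mul_def]
  apply (hfib _ _).mpr
  refine ⟨h' * k, ?_⟩
  rw [hh, hk, MonObj.mul_comp, ← hh']
  simp only [_root_.mul_assoc, mul_inv_cancel_left]

include hU hfib hN in
theorem exists_inv : ∃ j : Q ⟶ Q, p ≫ j = ι[G] ≫ p := by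
  apply desc_q hU p (ι[G] ≫ p)
  intro T a₁ a₂ ha
  obtain ⟨h, hh⟩ := (hfib a₁ a₂).mp ha
  obtain ⟨h', hh'⟩ := hN T a₁ h⁻¹
  rw [← Category.assoc, ← Category.assoc, ← Hom.inv_def, ← Hom.inv_def]
  apply (hfib _ _).mpr
  refine ⟨h', ?_⟩
  rw [hh, ← hh', GrpObj.inv_comp]
  simp only [_root_.mul_assoc, _root_.mul_inv_rev, inv_mul_cancel_left]

section Build

variable (m : Q ⊗ Q ⟶ Q) (hm : (p ⊗ₘ p) ≫ m = μ[G] ≫ p) (j : Q ⟶ Q) (hj : p ≫ j = ι[G] ≫ p)

include hm in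
theorem m_pt {T : 𝒯} (a b : T ⟶ G) : lift (a ≫ p) (b ≫ p) ≫ m = (a * b) ≫ p := by
  rw [← lift_map, Category.assoc, hm, ← Category.assoc, ← Hom.mul_def]

include hj in
theorem j_pt {T : 𝒯} (a : T ⟶ G) : (a ≫ p) ≫ j = a⁻¹ ≫ p := by
  rw [Category.assoc, hj, ← Category.assoc, ← Hom.inv_def]

include hU hm hj in
/-- the quotient group structure -/
@[instance_reducible]
noncomputable def quotGrp : GrpObj Q where
  one := η[G] ≫ p
  mul := m
  one_mul := by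
    haveI := epi_whiskerLeft hU p (𝟙_ 𝒯)
    rw [← cancel_epi (𝟙_ 𝒯 ◁ p)]
    apply hom_ext_lift₂
    intro T t g
    rw [← Category.assoc, lift_whiskerLeft, ← Category.assoc, lift_whiskerRight,
      ← Category.assoc t, m_pt p m hm, toUnit_unique t (toUnit T), ← Hom.one_def,
      _root_.one_mul, ← Category.assoc, lift_whiskerLeft, leftUnitor_hom, lift_snd]
  mul_one := by
    haveI := epi_whiskerRight hU p (𝟙_ 𝒯)
    rw [← cancel_epi (p ▷ 𝟙_ 𝒯)]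
    apply hom_ext_lift₂
    intro T g t
    rw [← Category.assoc, lift_whiskerRight, ← Category.assoc, lift_whiskerLeft,
      ← Category.assoc t, m_pt p m hm, toUnit_unique t (toUnit T), ← Hom.one_def,
      _root_.mul_one, ← Category.assoc, lift_whiskerRight, rightUnitor_hom, lift_fst]
  mul_assoc := by
    haveI := epi_tensor hU p p
    haveI := epi_tensor hU (p ⊗ₘ p) p
    rw [← cancel_epi ((p ⊗ₘ p) ⊗ₘ p)]
    apply hom_ext_lift₃
    intro T a b c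
    rw [← Category.assoc, lift_map, lift_map, ← Category.assoc, lift_whiskerRight, m_pt p m hm,
      m_pt p m hm, ← Category.assoc, lift_map, lift_map, lift_lift_associator_hom_assoc,
      ← Category.assoc, lift_whiskerLeft, m_pt p m hm, m_pt p m hm, _root_.mul_assoc]
  inv := j
  left_inv := by
    rw [← cancel_epi p]
    rw [← Category.assoc, comp_lift, Category.comp_id]
    have h1 : p ≫ j = (𝟙 G ≫ p) ≫ j := by rw [Category.id_comp]
    have h2 : lift ((𝟙 G)⁻¹ ≫ p) p = lift ((𝟙 G)⁻¹ ≫ p) (𝟙 G ≫ p) := by rw [Category.id_comp]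
    rw [h1, j_pt p j hj, h2, m_pt p m hm, inv_mul_cancel, ← Category.assoc,
      toUnit_unique (p ≫ toUnit Q) (toUnit G), Hom.one_def, Category.assoc]
  right_inv := by
    rw [← cancel_epi p]
    rw [← Category.assoc, comp_lift, Category.comp_id]
    have h1 : p ≫ j = (𝟙 G ≫ p) ≫ j := by rw [Category.id_comp]
    have h2 : lift p ((𝟙 G)⁻¹ ≫ p) = lift (𝟙 G ≫ p) ((𝟙 G)⁻¹ ≫ p) := by rw [Category.id_comp]
    rw [h1, j_pt p j hj, h2, m_pt p m hm, mul_inv_cancel, ← Category.assoc,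
      toUnit_unique (p ≫ toUnit Q) (toUnit G), Hom.one_def, Category.assoc]

end Build

include hU hfib hN in
theorem main : ∃ inst : GrpObj Q, @IsMonHom _ _ _ G Q _ inst.toMonObj p ∧
    ∀ m' : Q ⊗ Q ⟶ Q, (p ⊗ₘ p) ≫ m' = μ[G] ≫ p → m' = @MonObj.mul _ _ _ Q inst.toMonObj := by
  obtain ⟨m, hm⟩ := exists_mul hU u p hfib hN
  obtain ⟨j, hj⟩ := exists_inv hU u p hfib hN
  refine ⟨quotGrp hU p m hm j hj, ?_, ?_⟩
  · exact @IsMonHom.mk _ _ _ G Q _ (quotGrp hU p m hm j hj).toMonObj p rfl hm.symm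
  · intro m' hm'
    haveI := epi_tensor hU p p
    rw [← cancel_epi (p ⊗ₘ p), hm']
    exact hm.symm

include hU hfib hN in
theorem main_unique : ∃! s : GrpObj Q, @IsMonHom _ _ _ G Q _ s.toMonObj p := by
  obtain ⟨inst, h1, h2⟩ := main hU u p hfib hN
  refine ⟨inst, h1, ?_⟩
  intro s hs
  apply GrpObj.ext
  apply MonObj.ext
  have h3 := h2 (@MonObj.mul _ _ _ Q s.toMonObj)
    (@IsMonHom.mul_hom _ _ _ G Q _ s.toMonObj p hs).symm
  exact h3

end QuotGrp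

end Groth.Agent.Helper9.TopQuot
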