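import Mathlib
import Groth.Agent.Helper9.TopQuot

set_option autoImplicit false
set_option linter.unusedSectionVars false

namespace Groth.Agent.Helper9.TopQuot

open CategoryTheory CategoryTheory.Limits MonoidalCategory CartesianMonoidalCategory MonObj

universe v u

variable {𝒯 : Type u} [Category.{v} 𝒯] [CartesianMonoidalCategory 𝒯]

section FactorEpi

variable (hU : EpiUE 𝒯)

include hU in
/-- a morphism factoring through a monomorphism after an epimorphic base change factors -/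
theorem factor_of_epi {T' T X Q : 𝒯} (i : X ⟶ Q) [Mono i] (e : T' ⟶ T) [Epi e] (y : T ⟶ Q)
    (x : T' ⟶ X) (hx : x ≫ i = e ≫ y) : ∃ y' : T ⟶ X, y' ≫ i = y := by
  obtain ⟨y', hy'⟩ := desc_q hU e x (by
    intro Z e₁ e₂ h12
    rw [← cancel_mono i, Category.assoc, Category.assoc, hx, ← Category.assoc, h12,
      Category.assoc])
  refine ⟨y', ?_⟩
  rw [← cancel_epi e, ← Category.assoc, hy', hx]

end FactorEpi

section SubGrp

variable {G X : 𝒯} [GrpObj G] (i : X ⟶ G) [Mono i]
  (e : 𝟙_ 𝒯 ⟶ X) (he : e ≫ i = η[G])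
  (m : X ⊗ X ⟶ X) (hm : m ≫ i = (fst X X ≫ i) * (snd X X ≫ i))
  (j : X ⟶ X) (hj : j ≫ i = i⁻¹)

include hm in
theorem sm_pt {T : 𝒯} (a b : T ⟶ X) : (lift a b ≫ m) ≫ i = (a ≫ i) * (b ≫ i) := by
  rw [Category.assoc, hm, comp_mul, lift_fst_assoc, lift_snd_assoc]

include hj in
theorem sj_pt {T : 𝒯} (a : T ⟶ X) : (a ≫ j) ≫ i = (a ≫ i)⁻¹ := by
  rw [Category.assoc, hj, GrpObj.comp_inv]

include he in
theorem se_pt {T : 𝒯} (t : T ⟶ 𝟙_ 𝒯) : (t ≫ e) ≫ i = 1 := by
  rw [Category.assoc, he, toUnit_unique t (toUnit T), ← Hom.one_def]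

include he hm hj in
/-- a subobject closed under the group operations is a group object -/
@[instance_reducible]
noncomputable def subGrp : GrpObj X where
  one := e
  mul := m
  one_mul := by
    rw [← cancel_mono i]
    apply hom_ext_lift₂
    intro T t x
    rw [← Category.assoc, ← Category.assoc, lift_whiskerRight, sm_pt i m hm, se_pt i e he,
      _root_.one_mul, leftUnitor_hom, lift_snd_assoc]
  mul_one := by
    rw [← cancel_mono i]
    apply hom_ext_lift₂
    intro T x t
    rw [← Category.assoc, ← Category.assoc, lift_whiskerLeft, sm_pt i m hm, se_pt i e he,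
      _root_.mul_one, rightUnitor_hom, lift_fst_assoc]
  mul_assoc := by
    rw [← cancel_mono i]
    apply hom_ext_lift₃
    intro T a b c
    have e1 : (lift (lift a b) c ≫ (m ▷ X) ≫ m) ≫ i = ((a ≫ i) * (b ≫ i)) * (c ≫ i) := by
      rw [← Category.assoc, lift_whiskerRight, sm_pt i m hm, sm_pt i m hm]
    have e2 : (lift (lift a b) c ≫ (α_ X X X).hom ≫ (X ◁ m) ≫ m) ≫ i =
        (a ≫ i) * ((b ≫ i) * (c ≫ i)) := by
      rw [lift_lift_associator_hom_assoc, ← Category.assoc, lift_whiskerLeft, sm_pt i m hm,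
        sm_pt i m hm]
    simp only [Category.assoc] at e1 e2 ⊢
    rw [e1, e2, _root_.mul_assoc]
  inv := j
  left_inv := by
    rw [← cancel_mono i, sm_pt i m hm, hj, Category.id_comp, inv_mul_cancel,
      Category.assoc, he, ← Hom.one_def]
  right_inv := by
    rw [← cancel_mono i, sm_pt i m hm, hj, Category.id_comp, mul_inv_cancel,
      Category.assoc, he, ← Hom.one_def]

include he hm hj in
theorem subGrp_isMonHom : @IsMonHom _ _ _ X G (subGrp i e he m hm j hj).toMonObj _ i := by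
  refine @IsMonHom.mk _ _ _ X G (subGrp i e he m hm j hj).toMonObj _ i he ?_
  change m ≫ i = (i ⊗ₘ i) ≫ μ[G]
  rw [hm]
  apply hom_ext_lift₂
  intro T a b
  rw [comp_mul, lift_fst_assoc, lift_snd_assoc, ← Category.assoc, lift_map, ← Hom.mul_def]

include he hm hj in
theorem exists_subGrp : ∃ str : GrpObj X, @IsMonHom _ _ _ X G str.toMonObj _ i :=
  ⟨subGrp i e he m hm j hj, subGrp_isMonHom i e he m hm j hj⟩

end SubGrp

section ImgGrp

variable (hU : EpiUE 𝒯)
variable {K Q X : 𝒯} [GrpObj K] [GrpObj Q] (f : K ⟶ Q) [IsMonHom f] (e : K ⟶ X) [Epi e]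
  (i : X ⟶ Q) [Mono i] (hf : e ≫ i = f)

include hU hf in
/-- the image of a homomorphism is a subgroup -/
theorem exists_imgGrp : ∃ str : GrpObj X, @IsMonHom _ _ _ X Q str.toMonObj _ i := by
  haveI := epi_tensor hU e e
  have hmul : ∀ {T : 𝒯} (a b : T ⟶ K), ((a * b) ≫ e) ≫ i = ((a ≫ e) ≫ i) * ((b ≫ e) ≫ i) := by
    intro T a b
    rw [Category.assoc, Category.assoc, Category.assoc, hf, MonObj.mul_comp]
  obtain ⟨m, hm⟩ := desc_q hU (e ⊗ₘ e) (μ[K] ≫ e) (by
    intro T z₁ z₂ h12
    rw [← cancel_mono i, dec z₁, dec z₂] at *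
    rw [lift_map, lift_map] at h12
    have h1 := congrArg (fun w => w ≫ fst X X) h12
    have h2 := congrArg (fun w => w ≫ snd X X) h12
    simp only [lift_fst, lift_snd] at h1 h2
    rw [← Category.assoc, ← Hom.mul_def, ← Category.assoc, ← Hom.mul_def, hmul, hmul, h1, h2])
  obtain ⟨j, hj⟩ := desc_q hU e (ι[K] ≫ e) (by
    intro T a b hab
    rw [← cancel_mono i, ← Category.assoc, ← Hom.inv_def, ← Category.assoc, ← Hom.inv_def,
      Category.assoc, Category.assoc, hf, GrpObj.inv_comp, GrpObj.inv_comp, ← hf,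
      ← Category.assoc, ← Category.assoc, hab])
  refine exists_subGrp i (η[K] ≫ e) ?_ m ?_ j ?_
  · rw [Category.assoc, hf, IsMonHom.one_hom]
  · rw [← cancel_epi (e ⊗ₘ e), ← Category.assoc, hm]
    apply hom_ext_lift₂
    intro T a b
    rw [← Category.assoc, ← Category.assoc, ← Hom.mul_def, hmul, ← Category.assoc, lift_map,
      comp_mul, lift_fst_assoc, lift_snd_assoc]
  · rw [← cancel_epi e, ← Category.assoc, hj, Category.assoc, hf, GrpObj.comp_inv, hf]
    have h1 : ι[K] = (𝟙 K)⁻¹ := by rw [Hom.inv_def, Category.id_comp]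
    rw [h1, GrpObj.inv_comp, Category.id_comp]

end ImgGrp

section PreGrp

variable {G Q X X' : 𝒯} [GrpObj G] [GrpObj Q] [GrpObj X'] (π : G ⟶ Q) [IsMonHom π]
  (i' : X' ⟶ Q) [IsMonHom i'] [Mono i'] (top : X ⟶ X') (i : X ⟶ G) (sq : IsPullback top i i' π)

include sq in
theorem mono_of_sq : Mono i := by
  refine ⟨fun {T} a b hab => ?_⟩
  apply sq.hom_ext
  · rw [← cancel_mono i', Category.assoc, Category.assoc, sq.w, ← Category.assoc, hab,
      Category.assoc]
  · exact hab

include sq in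
/-- the preimage of a subgroup under a homomorphism is a subgroup -/
theorem exists_preGrp : ∃ str : GrpObj X, @IsMonHom _ _ _ X G str.toMonObj _ i := by
  haveI := mono_of_sq π i' top i sq
  refine exists_subGrp i (sq.lift η[X'] η[G] ?_)
    (sq.lift_snd _ _ _) (sq.lift ((fst X X ≫ top) * (snd X X ≫ top))
      ((fst X X ≫ i) * (snd X X ≫ i)) ?_) (sq.lift_snd _ _ _)
    (sq.lift (top⁻¹) (i⁻¹) ?_) (sq.lift_snd _ _ _)
  · rw [IsMonHom.one_hom, IsMonHom.one_hom]
  · rw [MonObj.mul_comp, MonObj.mul_comp, Category.assoc, Category.assoc, Category.assoc,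
      Category.assoc, sq.w]
  · rw [GrpObj.inv_comp, GrpObj.inv_comp, sq.w]

end PreGrp

end Groth.Agent.Helper9.TopQuot
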