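import Mathlib

set_option autoImplicit false

namespace Groth.Agent.Helper9.InvAlg

open scoped Pointwise

universe u v

variable {A B : Type u} [CommRing A] [CommRing B] {G : Type v} [Group G]

/-- the left action of `G` on `B` obtained from an anti-action `α` by ring endomorphisms -/
@[reducible] def actOf (α : G → B →+* B) (h1 : α 1 = RingHom.id B)
    (hmul : ∀ g h : G, α (g * h) = (α h).comp (α g)) : MulSemiringAction G B where
  smul g b := α g⁻¹ b
  one_smul b := by
    change α (1 : G)⁻¹ b = b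
    rw [_root_.inv_one, h1]; rfl
  mul_smul g h b := by
    change α (g * h)⁻¹ b = α g⁻¹ (α h⁻¹ b)
    rw [_root_.mul_inv_rev, hmul]; rfl
  smul_zero g := map_zero (α g⁻¹)
  smul_add g := map_add (α g⁻¹)
  smul_one g := map_one (α g⁻¹)
  smul_mul g := map_mul (α g⁻¹)

theorem main [Finite G] (φ : A →+* B) (α : G → B →+* B) (h1 : α 1 = RingHom.id B)
    (hmul : ∀ g h : G, α (g * h) = (α h).comp (α g))
    (hrange : ∀ b : B, b ∈ Set.range φ ↔ ∀ g : G, α g b = b) :
    φ.IsIntegral ∧ ∀ (P Q : Ideal B) [P.IsPrime] [Q.IsPrime], P.comap φ = Q.comap φ →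
      ∃ g : G, Q = P.comap (α g) := by
  letI : Algebra A B := φ.toAlgebra
  letI : MulSemiringAction G B := actOf α h1 hmul
  have hsm : ∀ (g : G) (b : B), g • b = α g⁻¹ b := fun g b => rfl
  haveI : SMulCommClass G A B := ⟨fun g a b => by
    rw [Algebra.smul_def, Algebra.smul_def, hsm, hsm, map_mul]
    congr 1
    exact (hrange _).mp ⟨a, rfl⟩ g⁻¹⟩
  haveI : Algebra.IsInvariant A B G := ⟨fun b hb => (hrange b).mpr (fun g => by
    have := hb g⁻¹
    rwa [hsm, _root_.inv_inv] at this)⟩
  refine ⟨?_, ?_⟩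
  · have : Algebra.IsIntegral A B := Algebra.IsInvariant.isIntegral A B G
    exact algebraMap_isIntegral_iff.mpr this
  · intro P Q _ _ hPQ
    obtain ⟨g, hg⟩ := Algebra.IsInvariant.exists_smul_of_under_eq A B G P Q hPQ
    refine ⟨g, ?_⟩
    rw [hg]
    ext x
    rw [Ideal.mem_pointwise_smul_iff_inv_smul_mem, hsm, _root_.inv_inv]
    rfl

end Groth.Agent.Helper9.InvAlg
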