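import Mathlib
import Groth.Prelude.Def_SGA1
import Groth.Agent.Helper9.InvAlg
import Groth.Agent.Helper9.EffEpiQ

set_option autoImplicit false

namespace Groth.Agent.Helper9.FinQuot

open CategoryTheory AlgebraicGeometry Topology

universe u

variable {X Y : Scheme.{u}} {G : Type u} [Group G] (ρ : G →* Aut X) (p : X ⟶ Y)

/-- the anti-action of `G` on the sections over `p⁻¹U` -/
noncomputable def α (hinv : ∀ g : G, (ρ g).hom ≫ p = p) (U : Y.Opens) (g : G) :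
    Γ(X, p ⁻¹ᵁ U) →+* Γ(X, p ⁻¹ᵁ U) :=
  ((ρ g).hom.appLE (p ⁻¹ᵁ U) (p ⁻¹ᵁ U) (SGA1.preimage_le_of_inv ρ p hinv g U)).hom

theorem appLE_id_eq (V : X.Opens) (f : X ⟶ X) (hf : f = 𝟙 X) (h : V ≤ f ⁻¹ᵁ V) :
    f.appLE V V h = 𝟙 _ := by
  subst hf
  simp only [Scheme.Hom.appLE, Scheme.Hom.id_app]
  exact X.presheaf.map_id _

theorem α_one (hinv : ∀ g : G, (ρ g).hom ≫ p = p) (U : Y.Opens) :
    α ρ p hinv U 1 = RingHom.id _ := by
  unfold α
  rw [appLE_id_eq (p ⁻¹ᵁ U) (ρ 1).hom (by rw [map_one]; rfl)]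
  rfl

theorem α_mul (hinv : ∀ g : G, (ρ g).hom ≫ p = p) (U : Y.Opens) (g h : G) :
    α ρ p hinv U (g * h) = (α ρ p hinv U h).comp (α ρ p hinv U g) := by
  unfold α
  have e : (ρ (g * h)).hom = (ρ h).hom ≫ (ρ g).hom := by rw [map_mul]; rfl
  have := Scheme.Hom.appLE_comp_appLE (ρ h).hom (ρ g).hom (p ⁻¹ᵁ U) (p ⁻¹ᵁ U) (p ⁻¹ᵁ U)
    (SGA1.preimage_le_of_inv ρ p hinv g U) (SGA1.preimage_le_of_inv ρ p hinv h U)
  rw [← CommRingCat.hom_comp, this]
  exact congrArg CommRingCat.Hom.hom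
    (Groth.Agent.Helper9.EffEpiQ.appLE_congr_hom _ _ e _ _ _ _)

variable {ρ p}

theorem alg [Finite G] (hp : SGA1.IsQuot ρ p) (U : Y.Opens) :
    (p.app U).hom.IsIntegral ∧ ∀ (P Q : Ideal Γ(X, p ⁻¹ᵁ U)) [P.IsPrime] [Q.IsPrime],
      P.comap (p.app U).hom = Q.comap (p.app U).hom →
      ∃ g : G, Q = P.comap (α ρ p hp.inv U g) :=
  Groth.Agent.Helper9.InvAlg.main (p.app U).hom (α ρ p hp.inv U) (α_one ρ p hp.inv U)
    (α_mul ρ p hp.inv U) (hp.range_iff U)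

theorem isIntegralHom [Finite G] (hp : SGA1.IsQuot ρ p) : IsIntegralHom p :=
  { toIsAffineHom := hp.affine
    isIntegral_app := fun U _ => (alg hp U).1 }

theorem surjective [Finite G] (hp : SGA1.IsQuot ρ p) : Function.Surjective p.base := by
  haveI := hp.affine
  intro y
  obtain ⟨_, ⟨U, hU : IsAffineOpen U, rfl⟩, hyU, -⟩ :=
    Y.isBasis_affineOpens.exists_subset_of_mem_open (Set.mem_univ y) isOpen_univ
  have hV : IsAffineOpen (p ⁻¹ᵁ U) := hU.preimage p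
  obtain ⟨P, hP⟩ := ((alg hp U).1.comap_surjective (hp.injective U)) (hU.primeIdealOf ⟨y, hyU⟩)
  refine ⟨hV.fromSpec P, ?_⟩
  have h1 := IsAffineOpen.SpecMap_appLE_fromSpec p hU hV le_rfl
  rw [Scheme.Hom.appLE_eq_app] at h1
  have h2 := congrArg (fun k : Spec Γ(X, p ⁻¹ᵁ U) ⟶ Y => k.base P) h1
  refine h2.symm.trans ?_
  change hU.fromSpec (PrimeSpectrum.comap (p.app U).hom P) = y
  rw [hP]
  exact hU.fromSpec_primeIdealOf ⟨y, hyU⟩

theorem orbit [Finite G] (hp : SGA1.IsQuot ρ p) (x x' : X) (hx : p.base x = p.base x') :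
    ∃ g : G, (ρ g).hom.base x = x' := by
  haveI := hp.affine
  obtain ⟨_, ⟨U, hU : IsAffineOpen U, rfl⟩, hyU, -⟩ :=
    Y.isBasis_affineOpens.exists_subset_of_mem_open (Set.mem_univ (p.base x)) isOpen_univ
  have hV : IsAffineOpen (p ⁻¹ᵁ U) := hU.preimage p
  have hxV : x ∈ p ⁻¹ᵁ U := hyU
  have hx'V : x' ∈ p ⁻¹ᵁ U := by change p.base x' ∈ U; rw [← hx]; exact hyU
  set P := hV.primeIdealOf ⟨x, hxV⟩ with hPdef
  set Q := hV.primeIdealOf ⟨x', hx'V⟩ with hQdef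
  have hP : hV.fromSpec P = x := hV.fromSpec_primeIdealOf ⟨x, hxV⟩
  have hQ : hV.fromSpec Q = x' := hV.fromSpec_primeIdealOf ⟨x', hx'V⟩
  have h1 := IsAffineOpen.SpecMap_appLE_fromSpec p hU hV le_rfl
  rw [Scheme.Hom.appLE_eq_app] at h1
  have hcomap : PrimeSpectrum.comap (p.app U).hom P = PrimeSpectrum.comap (p.app U).hom Q := by
    have hinj : Function.Injective hU.fromSpec.base :=
      hU.fromSpec.isOpenEmbedding.injective
    apply hinj
    have hP2 := congrArg (fun k : Spec Γ(X, p ⁻¹ᵁ U) ⟶ Y => k.base P) h1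
    have hQ2 := congrArg (fun k : Spec Γ(X, p ⁻¹ᵁ U) ⟶ Y => k.base Q) h1
    refine hP2.trans ?_
    refine Eq.trans ?_ hQ2.symm
    change p.base (hV.fromSpec P) = p.base (hV.fromSpec Q)
    rw [hP, hQ, hx]
  obtain ⟨g, hg⟩ := (alg hp U).2 P.asIdeal Q.asIdeal
    (congrArg PrimeSpectrum.asIdeal hcomap)
  refine ⟨g, ?_⟩
  have h2 := IsAffineOpen.SpecMap_appLE_fromSpec (ρ g).hom hV hV
    (SGA1.preimage_le_of_inv ρ p hp.inv g U)
  have h3 := congrArg (fun k : Spec Γ(X, p ⁻¹ᵁ U) ⟶ X => k.base P) h2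
  rw [← hP, ← hQ]
  have hQ' : Q = PrimeSpectrum.comap (α ρ p hp.inv U g) P := PrimeSpectrum.ext hg
  refine h3.symm.trans ?_
  change hV.fromSpec.base (PrimeSpectrum.comap (α ρ p hp.inv U g) P) = hV.fromSpec.base Q
  rw [hQ']

theorem isQuotientMap [Finite G] (hp : SGA1.IsQuot ρ p) : IsQuotientMap p.base := by
  haveI := isIntegralHom hp
  exact IsClosedMap.isQuotientMap p.isClosedMap p.continuous (surjective hp)

theorem existsUnique_desc [Finite G] (hp : SGA1.IsQuot ρ p) (Z : Scheme.{u}) (h : X ⟶ Z)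
    (hh : ∀ g : G, (ρ g).hom ≫ h = h) : ∃! h' : Y ⟶ Z, p ≫ h' = h := by
  apply Groth.Agent.Helper9.EffEpiQ.existsUnique_desc_general p (isQuotientMap hp) hp.injective h
  · intro x x' hx
    obtain ⟨g, rfl⟩ := orbit hp x x' hx
    exact (congrArg (fun k : X ⟶ Z => k.base x) (hh g)).symm
  · intro W₀ V eq s
    rw [hp.range_iff V]
    intro g
    have h1 := Scheme.Hom.appLE_comp_appLE (ρ g).hom h W₀ (p ⁻¹ᵁ V) (p ⁻¹ᵁ V) eq.le
      (SGA1.preimage_le_of_inv ρ p hp.inv g V)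
    have h2 := Groth.Agent.Helper9.EffEpiQ.appLE_congr_hom _ _ (hh g) W₀ (p ⁻¹ᵁ V)
      (by rw [Scheme.Hom.comp_preimage, ← eq]; exact SGA1.preimage_le_of_inv ρ p hp.inv g V)
      eq.le
    exact congrArg (fun k => k.hom s) (h1.trans h2)

end Groth.Agent.Helper9.FinQuot
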