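import Mathlib
import Groth.Prelude.Def_SGA1

set_option autoImplicit false

namespace Groth.Agent.Helper9.SubmDesc

open CategoryTheory CategoryTheory.Limits AlgebraicGeometry MorphismProperty

universe u

variable {X Y X' Y' : Scheme.{u}} {f : X ⟶ Y} {f' : X' ⟶ Y'} {pX : X' ⟶ X} {pY : Y' ⟶ Y}

theorem isOpenMap_of_isPullback (sq : IsPullback f' pX pY f)
    (hq : Topology.IsQuotientMap pY) (h : IsOpenMap f') : IsOpenMap f := by
  intro U hU
  rw [← hq.isOpen_preimage, ← Scheme.image_preimage_eq_of_isPullback sq.flip]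
  exact h _ (hU.preimage pX.continuous)

theorem isClosedMap_of_isPullback (sq : IsPullback f' pX pY f)
    (hq : Topology.IsQuotientMap pY) (h : IsClosedMap f') : IsClosedMap f := by
  intro U hU
  rw [← hq.isClosed_preimage, ← Scheme.image_preimage_eq_of_isPullback sq.flip]
  exact h _ (hU.preimage pX.continuous)

/-- descent of a universal topological property along a universally submersive base change -/
theorem universally_of_isPullback
    (P : ∀ {α β : Type u} [TopologicalSpace α] [TopologicalSpace β] (_ : α → β), Prop)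
    (hP : ∀ {X Y X' Y' : Scheme.{u}} {f : X ⟶ Y} {f' : X' ⟶ Y'} {pX : X' ⟶ X} {pY : Y' ⟶ Y},
      IsPullback f' pX pY f → Topology.IsQuotientMap pY → P f' → P f)
    (sq : IsPullback f' pX pY f) (hq : SGA1.UnivSubmersive pY)
    (h : universally (topologically P) f') : universally (topologically P) f := by
  intro XT T i₁ i₂ fT sqT
  -- T' = T ×_Y Y'
  obtain ⟨T', a, b, sqa⟩ : ∃ (T' : Scheme.{u}) (a : T' ⟶ T) (b : T' ⟶ Y'), IsPullback a b i₂ pY :=
    ⟨_, _, _, IsPullback.of_hasPullback i₂ pY⟩
  -- XT' = XT ×_T T'
  obtain ⟨XT', c, fT', sqc⟩ : ∃ (XT' : Scheme.{u}) (c : XT' ⟶ XT) (fT' : XT' ⟶ T'),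
      IsPullback fT' c a fT := ⟨_, _, _, (IsPullback.of_hasPullback fT a).flip⟩
  have ha : Topology.IsQuotientMap a := hq _ _ _ sqa
  refine hP sqc ha ?_
  -- fT' is a base change of f'
  have e : (c ≫ i₁) ≫ f = (fT' ≫ b) ≫ pY := by
    rw [Category.assoc, ← sqT.w, ← Category.assoc, ← sqc.w, Category.assoc, Category.assoc, sqa.w]
  let d : XT' ⟶ X' := sq.lift (fT' ≫ b) (c ≫ i₁) e.symm
  have hd1 : d ≫ f' = fT' ≫ b := sq.lift_fst _ _ _
  have hd2 : d ≫ pX = c ≫ i₁ := sq.lift_snd _ _ _
  have sqd : IsPullback fT' d b f' := by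
    -- outer pullback: XT' over X along T' → Y
    have outer : IsPullback fT' (c ≫ i₁) (a ≫ i₂) f := sqc.paste_vert sqT
    have outer' : IsPullback fT' (d ≫ pX) (b ≫ pY) f := by
      rw [hd2, ← sqa.w]
      exact outer
    exact IsPullback.of_bot outer' hd1.symm sq
  exact h _ _ _ sqd

/-- closed range, as a morphism property -/
def ClosedRange : MorphismProperty Scheme.{u} := fun _ _ f => IsClosed (Set.range f)

instance : ClosedRange.{u}.RespectsIso := by
  apply MorphismProperty.RespectsIso.mk
  · intro X Y Z e f hf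
    change IsClosed (Set.range (e.hom ≫ f))
    have : Set.range (e.hom ≫ f) = Set.range f := by
      rw [Scheme.Hom.comp_base, TopCat.coe_comp, Set.range_comp,
        Set.range_eq_univ.2 e.hom.surjective, Set.image_univ]
    rw [this]
    exact hf
  · intro X Y Z e f hf
    change IsClosed (Set.range (f ≫ e.hom))
    rw [Scheme.Hom.comp_base, TopCat.coe_comp, Set.range_comp]
    exact (e.hom.homeomorph.isClosedMap) _ hf

instance : SGA1.UnivSubmersive.{u}.IsStableUnderBaseChange := by
  unfold SGA1.UnivSubmersive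
  infer_instance

instance : ClosedRange.{u}.DescendsAlong SGA1.UnivSubmersive.{u} where
  of_isPullback {A X Y Z fst snd f g} sq hf hfst := by
    have hq : Topology.IsQuotientMap f := MorphismProperty.universally_le _ _ hf
    change IsClosed (Set.range g)
    rw [← hq.isClosed_preimage]
    have : f ⁻¹' Set.range g = Set.range fst := by
      rw [← Set.image_univ, ← Scheme.image_preimage_eq_of_isPullback sq.flip, Set.preimage_univ,
        Set.image_univ]
    rw [this]
    exact hfst

theorem isSeparated_iff_diagonal_closedRange (f : X ⟶ Y) :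
    IsSeparated f ↔ ClosedRange.diagonal f := by
  constructor
  · intro h
    exact (pullback.diagonal f).isClosedEmbedding.isClosed_range
  · intro h
    exact ⟨IsClosedImmersion.of_isPreimmersion _ h⟩

theorem isSeparated_of_isPullback (sq : IsPullback f' pX pY f) (hq : SGA1.UnivSubmersive pY)
    (h : IsSeparated f') : IsSeparated f := by
  rw [isSeparated_iff_diagonal_closedRange] at h ⊢
  exact MorphismProperty.of_isPullback_of_descendsAlong (P := ClosedRange.diagonal)
    (Q := SGA1.UnivSubmersive) sq hq h

/-- the base change square for `pullback.map` -/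
theorem sqF {S' S : Scheme.{u}} (g : S' ⟶ S) (f : X ⟶ Y) (q : Y ⟶ S) :
    IsPullback (pullback.map (f ≫ q) g q g f (𝟙 S') (𝟙 S) (Category.comp_id _)
        ((Category.comp_id _).trans (Category.id_comp _).symm))
      (pullback.fst (f ≫ q) g) (pullback.fst q g) f := by
  refine IsPullback.of_right ?_ (pullback.lift_fst _ _ _) (IsPullback.of_hasPullback q g).flip
  have : pullback.map (f ≫ q) g q g f (𝟙 S') (𝟙 S) (Category.comp_id _)
      ((Category.comp_id _).trans (Category.id_comp _).symm) ≫ pullback.snd q g =
      pullback.snd (f ≫ q) g := (pullback.lift_snd _ _ _).trans (Category.comp_id _)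
  rw [this]
  exact (IsPullback.of_hasPullback (f ≫ q) g).flip

theorem main {S' S : Scheme.{u}} (g : S' ⟶ S) (hg : SGA1.UnivSubmersive g)
    (f : X ⟶ Y) (q : Y ⟶ S) :
    (IsOpenMap (pullback.map (f ≫ q) g q g f (𝟙 S') (𝟙 S) (Category.comp_id _) ((Category.comp_id _).trans (Category.id_comp _).symm)).base → IsOpenMap f.base) ∧
    (IsClosedMap (pullback.map (f ≫ q) g q g f (𝟙 S') (𝟙 S) (Category.comp_id _) ((Category.comp_id _).trans (Category.id_comp _).symm)).base → IsClosedMap f.base) ∧
    (UniversallyOpen (pullback.map (f ≫ q) g q g f (𝟙 S') (𝟙 S) (Category.comp_id _) ((Category.comp_id _).trans (Category.id_comp _).symm)) → UniversallyOpen f) ∧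
    (UniversallyClosed (pullback.map (f ≫ q) g q g f (𝟙 S') (𝟙 S) (Category.comp_id _) ((Category.comp_id _).trans (Category.id_comp _).symm)) → UniversallyClosed f) ∧
    (IsSeparated (pullback.map (f ≫ q) g q g f (𝟙 S') (𝟙 S) (Category.comp_id _) ((Category.comp_id _).trans (Category.id_comp _).symm)) → IsSeparated f) ∧
    (QuasiCompact g → LocallyOfFiniteType f →
      IsProper (pullback.map (f ≫ q) g q g f (𝟙 S') (𝟙 S) (Category.comp_id _) ((Category.comp_id _).trans (Category.id_comp _).symm)) → IsProper f) := by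
  have sq := sqF g f q
  have hpY : SGA1.UnivSubmersive (pullback.fst q g) :=
    MorphismProperty.of_isPullback (IsPullback.of_hasPullback q g).flip hg
  have hqm : Topology.IsQuotientMap (pullback.fst q g) := MorphismProperty.universally_le _ _ hpY
  have h3 : UniversallyOpen (pullback.map (f ≫ q) g q g f (𝟙 S') (𝟙 S) (Category.comp_id _)
      ((Category.comp_id _).trans (Category.id_comp _).symm)) → UniversallyOpen f := fun h =>
    ⟨universally_of_isPullback @IsOpenMap (fun sq hq h => isOpenMap_of_isPullback sq hq h) sq hpY h.1⟩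
  have h4 : UniversallyClosed (pullback.map (f ≫ q) g q g f (𝟙 S') (𝟙 S) (Category.comp_id _)
      ((Category.comp_id _).trans (Category.id_comp _).symm)) → UniversallyClosed f := fun h =>
    ⟨universally_of_isPullback @IsClosedMap (fun sq hq h => isClosedMap_of_isPullback sq hq h) sq hpY h.1⟩
  have h5 : IsSeparated (pullback.map (f ≫ q) g q g f (𝟙 S') (𝟙 S) (Category.comp_id _)
      ((Category.comp_id _).trans (Category.id_comp _).symm)) → IsSeparated f := fun h =>
    isSeparated_of_isPullback sq hpY h
  refine ⟨fun h => isOpenMap_of_isPullback sq hqm h, fun h => isClosedMap_of_isPullback sq hqm h,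
    h3, h4, h5, ?_⟩
  intro _ hlft hprop
  haveI := h5 inferInstance
  haveI := h4 inferInstance
  exact { }

end Groth.Agent.Helper9.SubmDesc
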