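import Mathlib
import Groth.Prelude.Def_W4bk4git07Quot
import Groth.Agent.Helper9.SubmDesc

set_option autoImplicit false

namespace Groth.Agent.Helper9.SepQuot

open CategoryTheory CategoryTheory.Limits AlgebraicGeometry Topology MorphismProperty
open MonoidalCategory CartesianMonoidalCategory

universe u

section Sch

variable {X Y S : Scheme.{u}} (φ : X ⟶ Y) (q : Y ⟶ S) (p : X ⟶ S) (hp : φ ≫ q = p)

/-- `X ×_Y X ⟶ X ×_S X` -/
noncomputable def incl : pullback φ φ ⟶ pullback p p :=
  pullback.map φ φ p p (𝟙 X) (𝟙 X) q (by rw [hp, Category.id_comp]) (by rw [hp, Category.id_comp])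

/-- `φ × φ : X ×_S X ⟶ Y ×_S Y` -/
noncomputable def prodMap : pullback p p ⟶ pullback q q :=
  pullback.map p p q q φ φ (𝟙 S) (by rw [hp, Category.comp_id]) (by rw [hp, Category.comp_id])

theorem isPullback_incl :
    IsPullback (pullback.fst φ φ ≫ φ) (incl φ q p hp) (pullback.diagonal q) (prodMap φ q p hp) := by
  subst hp
  exact pullback_map_diagonal_isPullback φ φ q

theorem range_incl :
    Set.range (incl φ q p hp).base = (prodMap φ q p hp).base ⁻¹' Set.range (pullback.diagonal q).base := by
  have := Scheme.image_preimage_eq_of_isPullback (isPullback_incl φ q p hp) Set.univ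
  rw [Set.preimage_univ, Set.image_univ, Set.image_univ] at this
  exact this

/-- first factor of `φ × φ` -/
noncomputable def m1 : pullback p p ⟶ pullback q p :=
  pullback.map p p q p φ (𝟙 X) (𝟙 S) (by rw [hp, Category.comp_id])
    (by rw [Category.comp_id, Category.id_comp])

/-- second factor of `φ × φ` -/
noncomputable def m2 : pullback q p ⟶ pullback q q :=
  pullback.map q p q q (𝟙 Y) φ (𝟙 S) (by rw [Category.comp_id, Category.id_comp])
    (by rw [hp, Category.comp_id])

theorem m1_fst : m1 φ q p hp ≫ pullback.fst q p = pullback.fst p p ≫ φ :=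
  pullback.lift_fst _ _ _

theorem m1_snd : m1 φ q p hp ≫ pullback.snd q p = pullback.snd p p :=
  (pullback.lift_snd _ _ _).trans (Category.comp_id _)

theorem m2_fst : m2 φ q p hp ≫ pullback.fst q q = pullback.fst q p :=
  (pullback.lift_fst _ _ _).trans (Category.comp_id _)

theorem m2_snd : m2 φ q p hp ≫ pullback.snd q q = pullback.snd q p ≫ φ :=
  pullback.lift_snd _ _ _

theorem prodMap_fst : prodMap φ q p hp ≫ pullback.fst q q = pullback.fst p p ≫ φ :=
  pullback.lift_fst _ _ _

theorem prodMap_snd : prodMap φ q p hp ≫ pullback.snd q q = pullback.snd p p ≫ φ :=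
  pullback.lift_snd _ _ _

theorem m1_m2 : m1 φ q p hp ≫ m2 φ q p hp = prodMap φ q p hp := by
  apply pullback.hom_ext
  · rw [Category.assoc, m2_fst, m1_fst, prodMap_fst]
  · rw [Category.assoc, m2_snd, ← Category.assoc, m1_snd, prodMap_snd]

theorem isPullback_m1 :
    IsPullback (m1 φ q p hp) (pullback.fst p p) (pullback.fst q p) φ := by
  refine IsPullback.of_right ?_ ?_ (IsPullback.of_hasPullback q p).flip
  · rw [m1_snd, hp]
    exact (IsPullback.of_hasPullback p p).flip
  · exact m1_fst φ q p hp

theorem isPullback_m2 :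
    IsPullback (m2 φ q p hp) (pullback.snd q p) (pullback.snd q q) φ := by
  refine IsPullback.of_right ?_ ?_ (IsPullback.of_hasPullback q q)
  · rw [m2_fst, hp]
    exact IsPullback.of_hasPullback q p
  · exact m2_snd φ q p hp

theorem isQuotientMap_prodMap (hφ : universally (topologically @IsQuotientMap) φ) :
    IsQuotientMap (prodMap φ q p hp).base := by
  have h1 : IsQuotientMap (m1 φ q p hp).base := hφ _ _ _ (isPullback_m1 φ q p hp)
  have h2 : IsQuotientMap (m2 φ q p hp).base := hφ _ _ _ (isPullback_m2 φ q p hp)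
  rw [← m1_m2]
  exact h2.comp h1

theorem isSeparated_iff (hφ : universally (topologically @IsQuotientMap) φ) :
    IsSeparated q ↔ IsClosed (Set.range (incl φ q p hp).base) := by
  rw [Groth.Agent.Helper9.SubmDesc.isSeparated_iff_diagonal_closedRange, range_incl,
    (isQuotientMap_prodMap φ q p hp hφ).isClosed_preimage]
  rfl

end Sch

section Ov

variable {S : Scheme.{u}} {G : Over S} [GrpObj G] {X Y : Over S} (a : AlgGrp.Action G X)
  (φ : X ⟶ Y)

theorem psi_left_eq (h : GIT.IsInvariant a φ) :
    (GIT.psi a (𝟙 X)).left = GIT.PsiY a φ h ≫ incl φ.left Y.hom X.hom (Over.w φ) := by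
  have e1 : (GIT.psi a (𝟙 X)).left ≫ pullback.fst X.hom X.hom = a.act.left := by
    have : GIT.psi a (𝟙 X) ≫ fst X X = a.act := by
      unfold GIT.psi
      rw [lift_fst, MonoidalCategory.whiskerLeft_id, Category.id_comp]
    exact congrArg CommaMorphism.left this
  have e2 : (GIT.psi a (𝟙 X)).left ≫ pullback.snd X.hom X.hom = (snd G X).left := by
    have : GIT.psi a (𝟙 X) ≫ snd X X = snd G X := by
      unfold GIT.psi
      rw [lift_snd]
    exact congrArg CommaMorphism.left this
  apply pullback.hom_ext
  · rw [e1, Category.assoc]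
    unfold incl
    rw [pullback.lift_fst, Category.comp_id]
    unfold GIT.PsiY
    rw [pullback.lift_fst]
  · rw [e2, Category.assoc]
    unfold incl
    rw [pullback.lift_snd, Category.comp_id]
    unfold GIT.PsiY
    rw [pullback.lift_snd]

theorem main (h : GIT.IsGeomQuot a φ) :
    IsSeparated Y.hom ↔ IsClosed (Set.range (GIT.psi a (𝟙 X)).left.base) := by
  rw [isSeparated_iff φ.left Y.hom X.hom (Over.w φ) h.subm]
  have : Set.range (GIT.psi a (𝟙 X)).left.base =
      Set.range (incl φ.left Y.hom X.hom (Over.w φ)).base := by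
    rw [psi_left_eq a φ h.inv, Scheme.Hom.comp_base, TopCat.coe_comp, Set.range_comp,
      Set.range_eq_univ.2 h.orbit, Set.image_univ]
  rw [this]

end Ov

end Groth.Agent.Helper9.SepQuot
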