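import Mathlib
import Groth.Prelude.Def_SGA1
import Groth.Agent.Helper9.FinQuot
import Groth.Agent.Helper6.QuotSpec
import Groth.Agent.S13606
import Groth.Agent.Helper9.SepQuot
import Groth.Agent.Helper9.SubmDesc

/-!
# Quotients by finite groups: affineness of the quotient
-/

set_option autoImplicit false

namespace Groth.Agent.Helper9.QuotAff

open CategoryTheory CategoryTheory.Limits AlgebraicGeometry Topology

universe u

variable {X Y : Scheme.{u}} {G : Type u} [Group G] (ρ : G →* Aut X) (p : X ⟶ Y)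

theorem hom_mul (g h : G) : (ρ (g * h)).hom = (ρ h).hom ≫ (ρ g).hom := by
  rw [map_mul]; rfl

theorem hom_one : (ρ 1).hom = 𝟙 X := by
  rw [map_one]; rfl

theorem hom_inv_hom (g : G) : (ρ g).hom ≫ (ρ g⁻¹).hom = 𝟙 X := by
  rw [← hom_mul, inv_mul_cancel, hom_one]

theorem inv_hom_hom (g : G) : (ρ g⁻¹).hom ≫ (ρ g).hom = 𝟙 X := by
  rw [← hom_mul, mul_inv_cancel, hom_one]

/-- restricted action on a stable open -/
noncomputable def restrictAct (U : X.Opens) (hU : ∀ g : G, U ≤ (ρ g).hom ⁻¹ᵁ U) :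
    G →* Aut U.toScheme where
  toFun g :=
    { hom := (ρ g).hom.resLE U U (hU g)
      inv := (ρ g⁻¹).hom.resLE U U (hU g⁻¹)
      hom_inv_id := by
        rw [← cancel_mono U.ι, Category.assoc, Scheme.Hom.resLE_comp_ι,
          Scheme.Hom.resLE_comp_ι_assoc, Category.id_comp, hom_inv_hom, Category.comp_id]
      inv_hom_id := by
        rw [← cancel_mono U.ι, Category.assoc, Scheme.Hom.resLE_comp_ι,
          Scheme.Hom.resLE_comp_ι_assoc, Category.id_comp, inv_hom_hom, Category.comp_id] }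
  map_one' := by
    apply Iso.ext
    change (ρ 1).hom.resLE U U (hU 1) = 𝟙 _
    rw [← cancel_mono U.ι, Scheme.Hom.resLE_comp_ι, Category.id_comp, hom_one, Category.comp_id]
  map_mul' g h := by
    apply Iso.ext
    change (ρ (g * h)).hom.resLE U U (hU (g * h)) =
      (ρ h).hom.resLE U U (hU h) ≫ (ρ g).hom.resLE U U (hU g)
    rw [← cancel_mono U.ι, Scheme.Hom.resLE_comp_ι, Category.assoc, Scheme.Hom.resLE_comp_ι,
      Scheme.Hom.resLE_comp_ι_assoc, hom_mul]

theorem restrictAct_ι (U : X.Opens) (hU : ∀ g : G, U ≤ (ρ g).hom ⁻¹ᵁ U) (g : G) :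
    (restrictAct ρ U hU g).hom ≫ U.ι = U.ι ≫ (ρ g).hom :=
  Scheme.Hom.resLE_comp_ι _ _

variable {ρ p}

/-- A quotient of an affine scheme by a finite group is affine. -/
theorem isAffine_of_isQuot [Finite G] [IsAffine X] (hp : SGA1.IsQuot ρ p) : IsAffine Y := by
  let π : X ⟶ Spec Γ(Y, ⊤) := p ≫ Y.toSpecΓ
  have hinvπ : ∀ g : G, (ρ g).hom ≫ π = π := fun g => by
    change (ρ g).hom ≫ p ≫ Y.toSpecΓ = p ≫ Y.toSpecΓ
    rw [← Category.assoc, hp.inv]
  have happ : π.app ⊤ = Y.toSpecΓ.app ⊤ ≫ p.app ⊤ := Scheme.Hom.comp_app p Y.toSpecΓ ⊤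
  haveI : IsIso (Y.toSpecΓ.app ⊤) := by
    have : Y.toSpecΓ.app ⊤ = (Scheme.ΓSpecIso Γ(Y, ⊤)).hom := Scheme.toSpecΓ_appTop Y
    rw [this]; exact Iso.isIso_hom _
  have hπ : SGA1.IsQuot ρ π := by
    refine Groth.Agent.Helper6.QuotSpec.isQuot_of_affine ρ π hinvπ ?_ ?_
    · rw [happ]
      intro a b hab
      have h1 := hp.injective ⊤ hab
      exact ((ConcreteCategory.bijective_of_isIso (Y.toSpecΓ.app ⊤)).1) h1
    · intro s hs
      have h1 : s ∈ Set.range (p.app ⊤).hom := (hp.range_iff ⊤ s).mpr hs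
      obtain ⟨t, ht⟩ := h1
      obtain ⟨t', ht'⟩ := (ConcreteCategory.bijective_of_isIso (Y.toSpecΓ.app ⊤)).2 t
      refine ⟨t', ?_⟩
      rw [happ]
      change (p.app ⊤).hom ((Y.toSpecΓ.app ⊤).hom t') = s
      rw [← ht]
      exact congrArg _ ht'
  obtain ⟨d₂, hd₂, -⟩ := Groth.Agent.Helper9.FinQuot.existsUnique_desc hπ Y p hp.inv
  have e1 : Y.toSpecΓ ≫ d₂ = 𝟙 Y := by
    obtain ⟨d, -, hd⟩ := Groth.Agent.Helper9.FinQuot.existsUnique_desc hp Y p hp.inv
    have h1 : p ≫ (Y.toSpecΓ ≫ d₂) = p := by rw [← Category.assoc]; exact hd₂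
    rw [hd (Y.toSpecΓ ≫ d₂) h1, hd (𝟙 Y) (Category.comp_id p)]
  have e2 : d₂ ≫ Y.toSpecΓ = 𝟙 _ := by
    obtain ⟨d, -, hd⟩ := Groth.Agent.Helper9.FinQuot.existsUnique_desc hπ _ π hinvπ
    have h1 : π ≫ (d₂ ≫ Y.toSpecΓ) = π := by rw [← Category.assoc, hd₂]
    rw [hd (d₂ ≫ Y.toSpecΓ) h1, hd (𝟙 _) (Category.comp_id π)]
  haveI : IsIso Y.toSpecΓ := ⟨d₂, e1, e2⟩
  exact IsAffine.of_isIso Y.toSpecΓ


variable {Z : Scheme.{u}}

/-- (1) affineness over a base passes to the quotient. -/
theorem isAffineHom_iff [Finite G] (hp : SGA1.IsQuot ρ p) (f : X ⟶ Z) (q : Y ⟶ Z) (hq : p ≫ q = f) :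
    IsAffineHom f ↔ IsAffineHom q := by
  subst hq
  haveI := hp.affine
  constructor
  · intro hf
    refine ⟨fun W hW => ?_⟩
    have h1 : IsAffineOpen ((p ≫ q) ⁻¹ᵁ W) := hW.preimage (p ≫ q)
    have h2 : IsAffineOpen (p ⁻¹ᵁ (q ⁻¹ᵁ W)) := h1
    haveI : IsAffine (p ⁻¹ᵁ (q ⁻¹ᵁ W)).toScheme := h2
    have hQ := Groth.Agent.S13606.result ρ p hp (q ⁻¹ᵁ W)
      (restrictAct ρ (p ⁻¹ᵁ (q ⁻¹ᵁ W)) (fun g => SGA1.preimage_le_of_inv ρ p hp.inv g (q ⁻¹ᵁ W)))
      (fun g => restrictAct_ι ρ _ _ g)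
    exact isAffine_of_isQuot hQ
  · intro hq'
    infer_instance

/-- (2) separatedness over a base passes to the quotient. -/
theorem isSeparated_iff [Finite G] (hp : SGA1.IsQuot ρ p) (f : X ⟶ Z) (q : Y ⟶ Z) (hq : p ≫ q = f) :
    IsSeparated f ↔ IsSeparated q := by
  haveI := hp.affine
  haveI : IsIntegralHom p := Groth.Agent.Helper9.FinQuot.isIntegralHom hp
  constructor
  · intro hf
    rw [Groth.Agent.Helper9.SubmDesc.isSeparated_iff_diagonal_closedRange]
    change IsClosed (Set.range (pullback.diagonal q))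
    have hm1 : UniversallyClosed (Groth.Agent.Helper9.SepQuot.m1 p q f hq) :=
      MorphismProperty.of_isPullback (P := @UniversallyClosed)
        (Groth.Agent.Helper9.SepQuot.isPullback_m1 p q f hq).flip inferInstance
    have hm2 : UniversallyClosed (Groth.Agent.Helper9.SepQuot.m2 p q f hq) :=
      MorphismProperty.of_isPullback (P := @UniversallyClosed)
        (Groth.Agent.Helper9.SepQuot.isPullback_m2 p q f hq).flip inferInstance
    have hcl : IsClosedMap (Groth.Agent.Helper9.SepQuot.prodMap p q f hq) := by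
      rw [← Groth.Agent.Helper9.SepQuot.m1_m2 p q f hq]
      have := ((Groth.Agent.Helper9.SepQuot.m2 p q f hq).isClosedMap).comp
        ((Groth.Agent.Helper9.SepQuot.m1 p q f hq).isClosedMap)
      convert this using 1
      ext x
      exact Scheme.Hom.comp_apply _ _ x
    have hcomm : pullback.diagonal f ≫ Groth.Agent.Helper9.SepQuot.prodMap p q f hq
        = p ≫ pullback.diagonal q := by
      apply pullback.hom_ext
      · rw [Category.assoc, Groth.Agent.Helper9.SepQuot.prodMap_fst, pullback.diagonal_fst_assoc,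
          Category.assoc, pullback.diagonal_fst, Category.comp_id]
      · rw [Category.assoc, Groth.Agent.Helper9.SepQuot.prodMap_snd, pullback.diagonal_snd_assoc,
          Category.assoc, pullback.diagonal_snd, Category.comp_id]
    have hsurj : Function.Surjective p := Groth.Agent.Helper9.FinQuot.surjective hp
    have hrange : Set.range (pullback.diagonal q)
        = (Groth.Agent.Helper9.SepQuot.prodMap p q f hq) '' Set.range (pullback.diagonal f) := by
      have hc : ∀ {A B C : Scheme.{u}} (a : A ⟶ B) (b : B ⟶ C),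
          Set.range (a ≫ b) = b '' Set.range a := by
        intro A B C a b
        rw [← Set.range_comp]
        congr 1
      have h1 : Set.range (p ≫ pullback.diagonal q) = Set.range (pullback.diagonal q) := by
        rw [hc, hsurj.range_eq, Set.image_univ]
      rw [← h1, ← hcomm, hc]
    rw [hrange]
    exact hcl _ (pullback.diagonal f).isClosedEmbedding.isClosed_range
  · intro hq'
    subst hq
    infer_instance

/-- (3) finiteness of the quotient map. -/
theorem isFinite_of_locallyOfFiniteType [Finite G] (hp : SGA1.IsQuot ρ p) (f : X ⟶ Z) (q : Y ⟶ Z)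
    (hq : p ≫ q = f) [LocallyOfFiniteType f] : IsFinite p := by
  subst hq
  haveI : IsIntegralHom p := Groth.Agent.Helper9.FinQuot.isIntegralHom hp
  haveI : LocallyOfFiniteType p := locallyOfFiniteType_of_comp p q
  exact (IsFinite.iff_isIntegralHom_and_locallyOfFiniteType p).mpr ⟨inferInstance, inferInstance⟩


/-- Artin–Tate for ring homomorphisms. -/
theorem finiteType_of_comp_of_integral {R A B : Type u} [CommRing R] [CommRing A] [CommRing B]
    [IsNoetherianRing R] (φ : R →+* A) (ψ : A →+* B) (hinj : Function.Injective ψ)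
    (hint : ψ.IsIntegral) (hft : (ψ.comp φ).FiniteType) : φ.FiniteType := by
  algebraize [φ, ψ, ψ.comp φ]
  haveI : Algebra.FiniteType A B := Algebra.FiniteType.of_restrictScalars_finiteType R A B
  haveI : Module.Finite A B := Algebra.IsIntegral.finite
  have := fg_of_fg_of_fg (A := R) (B := A) (C := B) Algebra.FiniteType.out Module.Finite.fg_top hinj
  exact ⟨this⟩

/-- (4) finite type over a locally noetherian base passes to the quotient. -/
theorem finiteType_quotient [Finite G] (hp : SGA1.IsQuot ρ p) (f : X ⟶ Z) (q : Y ⟶ Z)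
    (hq : p ≫ q = f) [IsLocallyNoetherian Z] [LocallyOfFiniteType f] [QuasiCompact f] :
    LocallyOfFiniteType q ∧ QuasiCompact q := by
  subst hq
  haveI := hp.affine
  haveI : IsIntegralHom p := Groth.Agent.Helper9.FinQuot.isIntegralHom hp
  have hsurj : Function.Surjective p := Groth.Agent.Helper9.FinQuot.surjective hp
  constructor
  · rw [HasRingHomProperty.iff_appLE (P := @LocallyOfFiniteType)]
    intro U V e
    have hV' : IsAffineOpen (p ⁻¹ᵁ V.1) := V.2.preimage p
    have e' : p ⁻¹ᵁ V.1 ≤ (p ≫ q) ⁻¹ᵁ U.1 := fun x hx => e hx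
    have hft : ((p ≫ q).appLE U.1 (p ⁻¹ᵁ V.1) e').hom.FiniteType :=
      HasRingHomProperty.appLE (P := @LocallyOfFiniteType) (p ≫ q) inferInstance U ⟨_, hV'⟩ e'
    have hcomp : (p ≫ q).appLE U.1 (p ⁻¹ᵁ V.1) e' = q.appLE U.1 V.1 e ≫ p.app V.1 := by
      rw [Scheme.Hom.app_eq_appLE, Scheme.Hom.appLE_comp_appLE]
    haveI : IsNoetherianRing Γ(Z, U.1) := IsLocallyNoetherian.component_noetherian U
    rw [hcomp] at hft
    exact finiteType_of_comp_of_integral (q.appLE U.1 V.1 e).hom (p.app V.1).hom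
      (hp.injective V.1) (Groth.Agent.Helper9.FinQuot.alg hp V.1).1 hft
  · rw [quasiCompact_iff_forall_isAffineOpen]
    intro W hW
    have h1 : IsCompact (((p ≫ q) ⁻¹ᵁ W : X.Opens) : Set X) :=
      (quasiCompact_iff_forall_isAffineOpen.mp inferInstance) W hW
    have h2 : ((q ⁻¹ᵁ W : Y.Opens) : Set Y) = p '' (((p ≫ q) ⁻¹ᵁ W : X.Opens) : Set X) := by
      ext y
      constructor
      · intro hy
        obtain ⟨x, rfl⟩ := hsurj y
        exact ⟨x, hy, rfl⟩
      · rintro ⟨x, hx, rfl⟩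
        exact hx
    rw [h2]
    exact h1.image p.continuous

end Groth.Agent.Helper9.QuotAff
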