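import Mathlib
import Groth.Agent.Helper9.TorsorTriv
import Groth.Agent.Lead.SchDescent2
import Groth.Agent.Helper5.FlatCodescent

set_option autoImplicit false
set_option linter.unusedSectionVars false

namespace Groth.Agent.Helper9.TorsorProps

open CategoryTheory CategoryTheory.Limits MonoidalCategory CartesianMonoidalCategory MonObj
  AlgebraicGeometry

universe u

variable {S : Scheme.{u}} {G X : Over S} [GrpObj G] (a : AlgGrp.Action G X)
  (h : NonAbH1.IsTorsorFor Scheme.fpqcPrecoverage a)

include h

set_option backward.isDefEq.respectTransparency false in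
theorem flat (hG : Flat G.hom) : Flat X.hom :=
  TorsorTriv.descend a h.1 @Flat h.2 hG

set_option backward.isDefEq.respectTransparency false in
theorem isAffineHom (hG : IsAffineHom G.hom) : IsAffineHom X.hom :=
  TorsorTriv.descend a h.1 @IsAffineHom h.2 hG

set_option backward.isDefEq.respectTransparency false in
theorem quasiCompact (hG : QuasiCompact G.hom) : QuasiCompact X.hom :=
  TorsorTriv.descend a h.1 @QuasiCompact h.2 hG

set_option backward.isDefEq.respectTransparency false in
theorem locallyOfFiniteType (hG : LocallyOfFiniteType G.hom) : LocallyOfFiniteType X.hom :=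
  TorsorTriv.descend a h.1 @LocallyOfFiniteType h.2 hG

set_option backward.isDefEq.respectTransparency false in
theorem locallyOfFinitePresentation (hG : LocallyOfFinitePresentation G.hom) :
    LocallyOfFinitePresentation X.hom :=
  TorsorTriv.descend a h.1 @LocallyOfFinitePresentation h.2 hG

set_option backward.isDefEq.respectTransparency false in
theorem isFinite (hG : IsFinite G.hom) : IsFinite X.hom :=
  TorsorTriv.descend a h.1 @IsFinite h.2 hG

set_option backward.isDefEq.respectTransparency false in
theorem smooth (hG : Smooth G.hom) : Smooth X.hom :=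
  TorsorTriv.descend a h.1 @Smooth h.2 hG

set_option backward.isDefEq.respectTransparency false in
theorem etale (hG : Etale G.hom) : Etale X.hom :=
  TorsorTriv.descend a h.1 @Etale h.2 hG

theorem surjective : Surjective X.hom := by
  obtain ⟨-, R, hR, hsec⟩ := h
  obtain ⟨-, hsurj, -⟩ := hR
  rw [Scheme.jointlySurjectivePrecoverage, Presieve.mem_comap_jointlySurjectivePrecoverage_iff]
    at hsurj
  refine ⟨fun y => ?_⟩
  obtain ⟨U, t, ht, x, hx⟩ := hsurj y
  obtain ⟨s, hs⟩ := hsec t ht
  refine ⟨s x, ?_⟩
  rw [← Scheme.Hom.comp_apply, hs]
  exact hx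

end Groth.Agent.Helper9.TorsorProps
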