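import Mathlib
import Groth.Prelude.Def_Neron

set_option autoImplicit false

namespace Groth.Agent.Helper9.NeronClosed

open CategoryTheory CategoryTheory.Limits AlgebraicGeometry

universe u

/-- `Spec` of an injective ring map is scheme-theoretically dominant. -/
theorem isSchemeTheoreticallyDominant_specMap {R K : CommRingCat.{u}} (φ : R ⟶ K)
    (hφ : Function.Injective φ.hom) : IsSchemeTheoreticallyDominant (Spec.map φ) := by
  refine ⟨Scheme.IdealSheafData.ext_of_isAffine ?_⟩
  rw [Scheme.Hom.ker_apply]
  simp only [Scheme.IdealSheafData.ideal_bot, Pi.bot_apply]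
  rw [← RingHom.injective_iff_ker_eq_bot]
  have h1 : (Spec.map φ).appTop ≫ (Scheme.ΓSpecIso K).hom = (Scheme.ΓSpecIso R).hom ≫ φ :=
    Scheme.ΓSpecIso_naturality φ
  change Function.Injective (Spec.map φ).appTop.hom
  have h2 : Function.Injective ((Spec.map φ).appTop ≫ (Scheme.ΓSpecIso K).hom).hom := by
    rw [h1]
    simp only [CommRingCat.hom_comp, RingHom.coe_comp]
    exact hφ.comp (ConcreteCategory.bijective_of_isIso (Scheme.ΓSpecIso R).hom).1
  simp only [CommRingCat.hom_comp, RingHom.coe_comp] at h2
  exact Function.Injective.of_comp h2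

/-- a morphism into the target of a closed immersion factors through it as soon as it does so
after precomposition with a scheme-theoretically dominant morphism. -/
theorem exists_factor_of_dominant {W Y X G : Scheme.{u}} (π : W ⟶ Y) [IsSchemeTheoreticallyDominant π]
    (g' : Y ⟶ X) (i : G ⟶ X) [IsClosedImmersion i] (b : W ⟶ G) (hb : π ≫ g' = b ≫ i) :
    ∃ g : Y ⟶ G, g ≫ i = g' := by
  let j := pullback.fst g' i
  have hj : IsClosedImmersion j := inferInstance
  let a : W ⟶ pullback g' i := pullback.lift π b hb
  have ha : a ≫ j = π := pullback.lift_fst _ _ _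
  have hker : j.ker = ⊥ := by
    have h1 : j.ker ≤ (a ≫ j).ker := Scheme.Hom.le_ker_comp a j
    rw [ha, Scheme.Hom.ker_eq_bot π] at h1
    exact le_bot_iff.mp h1
  have hiso : IsIso j := IsClosedImmersion.isIso_iff_ker_eq_bot.mpr hker
  refine ⟨inv j ≫ pullback.snd g' i, ?_⟩
  rw [Category.assoc, ← pullback.condition, IsIso.inv_hom_id_assoc]


theorem pullback_map_left_fst {S S' : Scheme.{u}} (f : S' ⟶ S) {Y X : Over S} (g : Y ⟶ X) :
    ((Over.pullback f).map g).left ≫ pullback.fst X.hom f = pullback.fst Y.hom f ≫ g.left := by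
  simp only [Over.pullback, Over.homMk_left]
  exact pullback.lift_fst _ _ _

theorem isNeronModelOf_closed (R : Type u) [CommRing R] [IsDedekindDomain R]
    (X G : Over (Spec (CommRingCat.of R)))
    (hX : Neron.IsNeronModelOf R X ((Neron.genericFibre R).obj X) (Iso.refl _))
    (i : G ⟶ X) [IsClosedImmersion i.left] [Smooth G.hom] :
    Neron.IsNeronModelOf R G ((Neron.genericFibre R).obj G) (Iso.refl _) := by
  obtain ⟨hXsm, hXsep, hXft, hXqc, hXN⟩ := hX
  have hw : G.hom = i.left ≫ X.hom := (Over.w i).symm
  haveI : Mono i := by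
    haveI : Mono i.left := inferInstance
    exact Over.mono_of_mono_left i
  haveI hdom : IsSchemeTheoreticallyDominant (Neron.genPt R) :=
    isSchemeTheoreticallyDominant_specMap _ (IsFractionRing.injective R (FractionRing R))
  refine ⟨inferInstance, ?_, inferInstance, ?_, ?_⟩
  · rw [hw]; infer_instance
  · rw [hw]; infer_instance
  · intro Y hY
    haveI : Flat Y.hom := inferInstance
    constructor
    · intro g₁ g₂ h
      simp only [Iso.refl_hom, Category.comp_id] at h
      have h2 : (fun g : Y ⟶ X => (Neron.genericFibre R).map g ≫ (Iso.refl _).hom) (g₁ ≫ i) =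
          (fun g : Y ⟶ X => (Neron.genericFibre R).map g ≫ (Iso.refl _).hom) (g₂ ≫ i) := by
        simp only [Iso.refl_hom, Category.comp_id, Functor.map_comp, h]
      exact (cancel_mono i).mp ((hXN Y hY).1 h2)
    · intro h
      obtain ⟨g', hg'⟩ := (hXN Y hY).2 (h ≫ (Neron.genericFibre R).map i)
      simp only [Iso.refl_hom, Category.comp_id] at hg'
      have hb : pullback.fst Y.hom (Neron.genPt R) ≫ g'.left =
          (h.left ≫ pullback.fst G.hom (Neron.genPt R)) ≫ i.left := by
        rw [← pullback_map_left_fst (Neron.genPt R) g', Category.assoc,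
          ← pullback_map_left_fst (Neron.genPt R) i, ← Category.assoc]
        congr 1
        exact congrArg CommaMorphism.left hg'
      obtain ⟨g, hg⟩ := exists_factor_of_dominant (pullback.fst Y.hom (Neron.genPt R)) g'.left i.left
        (h.left ≫ pullback.fst G.hom (Neron.genPt R)) hb
      refine ⟨Over.homMk g (by rw [hw, ← Category.assoc, hg, Over.w g']), ?_⟩
      simp only [Iso.refl_hom, Category.comp_id]
      haveI : Mono ((Neron.genericFibre R).map i) := inferInstance
      rw [← cancel_mono ((Neron.genericFibre R).map i), ← Functor.map_comp]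
      have h3 : Over.homMk g (by rw [hw, ← Category.assoc, hg, Over.w g']) ≫ i = g' :=
        Over.OverMorphism.ext hg
      rw [h3, hg']

end Groth.Agent.Helper9.NeronClosed
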