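import Mathlib
import Groth.Prelude.Def_SGA1
import Groth.Agent.Helper9.FinQuot
import Groth.Agent.S13597

/-!
# Transitivity of a finite group on field-valued points of the fibres of its quotient
-/

set_option autoImplicit false

namespace Groth.Agent.Helper9.GeomTrans

open CategoryTheory CategoryTheory.Limits AlgebraicGeometry

universe u

/-- Two embeddings of a normal extension agreeing on the base differ by an automorphism. -/
theorem field_lemma {F E K : Type u} [Field F] [Field E] [Field K] (j : F →+* E)
    (hN : letI := j.toAlgebra; Normal F E) (ι₁ ι₂ : E →+* K) (h : ι₁.comp j = ι₂.comp j) :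
    ∃ τ : E ≃+* E, (τ : E →+* E).comp j = j ∧ ι₂ = ι₁.comp (τ : E →+* E) := by
  letI : Algebra F E := j.toAlgebra
  letI : Algebra E K := ι₁.toAlgebra
  letI : Algebra F K := (ι₁.comp j).toAlgebra
  haveI : IsScalarTower F E K := IsScalarTower.of_algebraMap_eq (fun _ => rfl)
  haveI : Normal F E := hN
  let ι₂' : E →ₐ[F] K :=
    { ι₂ with
      commutes' := fun a => by
        have := congrArg (fun φ : F →+* K => φ a) h
        exact this.symm }
  let τ : E ≃ₐ[F] E := Normal.algHomEquivAut F K E ι₂'
  have hτ : (IsScalarTower.toAlgHom F E K).comp τ.toAlgHom = ι₂' :=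
    (Normal.algHomEquivAut F K E).left_inv ι₂'
  refine ⟨τ.toRingEquiv, ?_, ?_⟩
  · ext a
    exact τ.commutes a
  · ext a
    have := congrArg (fun φ : E →ₐ[F] K => φ a) hτ
    exact this.symm

variable {X Y : Scheme.{u}} {G : Type u} [Group G] [Finite G] {ρ : G →* Aut X} {p : X ⟶ Y}

/-- Lemma B: same point. -/
theorem same_point (hp : SGA1.IsQuot ρ p) (K : Type u) [Field K] (x : X)
    (ι₁ ι₂ : X.residueField x ⟶ CommRingCat.of K)
    (h : p.residueFieldMap x ≫ ι₁ = p.residueFieldMap x ≫ ι₂) :
    ∃ g : G, Spec.map ι₂ ≫ X.fromSpecResidueField x =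
      (Spec.map ι₁ ≫ X.fromSpecResidueField x) ≫ (ρ g).hom := by
  obtain ⟨hN, hτ⟩ := Groth.Agent.S13597.result ρ p hp x
  obtain ⟨τ, hτ1, hτ2⟩ := field_lemma (p.residueFieldMap x).hom hN ι₁.hom ι₂.hom
    (by
      have := congrArg CommRingCat.Hom.hom h
      exact this)
  let τc : X.residueField x ≅ X.residueField x := τ.toCommRingCatIso
  have hτc : p.residueFieldMap x ≫ τc.hom = p.residueFieldMap x := by
    ext a
    exact congrArg (fun φ : _ →+* _ => φ a) hτ1
  obtain ⟨g, e, hg⟩ := hτ τc hτc
  refine ⟨g, ?_⟩
  have h2 : ι₂ = τc.hom ≫ ι₁ := by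
    ext a
    exact congrArg (fun φ : _ →+* _ => φ a) hτ2
  have h3 : Spec.map (X.residueFieldCongr e).inv ≫ X.fromSpecResidueField x
      = X.fromSpecResidueField ((ρ g).hom.base x) := by
    rw [Scheme.residueFieldCongr_inv]
    exact X.residueFieldCongr_fromSpecResidueField e.symm
  rw [h2, hg, Spec.map_comp, Spec.map_comp, Category.assoc, Category.assoc, h3,
    Scheme.Hom.SpecMap_residueFieldMap_fromSpecResidueField, Category.assoc]

/-- every `K`-point factors through the residue field of any point equal to its image. -/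
theorem exists_factor (K : Type u) [Field K] (ξ : Spec (CommRingCat.of K) ⟶ X) (x : X)
    (hx : ξ.base (IsLocalRing.closedPoint K) = x) :
    ∃ ι : X.residueField x ⟶ CommRingCat.of K, ξ = Spec.map ι ≫ X.fromSpecResidueField x := by
  subst hx
  exact ⟨_, (Scheme.descResidueField_stalkClosedPointTo_fromSpecResidueField K X ξ).symm⟩

/-- **Transitivity on field-valued points of the fibres.** -/
theorem main (hp : SGA1.IsQuot ρ p) (K : Type u) [Field K]
    (ξ₁ ξ₂ : Spec (CommRingCat.of K) ⟶ X) (h : ξ₁ ≫ p = ξ₂ ≫ p) :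
    ∃ g : G, ξ₂ = ξ₁ ≫ (ρ g).hom := by
  have hpt : p.base (ξ₁.base (IsLocalRing.closedPoint K))
      = p.base (ξ₂.base (IsLocalRing.closedPoint K)) :=
    congrArg (fun k : Spec (CommRingCat.of K) ⟶ Y => k.base (IsLocalRing.closedPoint K)) h
  obtain ⟨g₀, hg₀⟩ := Groth.Agent.Helper9.FinQuot.orbit hp _ _ hpt
  set x := ξ₂.base (IsLocalRing.closedPoint K) with hx
  obtain ⟨ι₁, h1⟩ := exists_factor K (ξ₁ ≫ (ρ g₀).hom) x hg₀
  obtain ⟨ι₂, h2⟩ := exists_factor K ξ₂ x rfl
  have hcomp : p.residueFieldMap x ≫ ι₁ = p.residueFieldMap x ≫ ι₂ := by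
    apply Spec.map_injective
    rw [← cancel_mono (Y.fromSpecResidueField (p.base x)), Spec.map_comp, Spec.map_comp,
      Category.assoc, Category.assoc, Scheme.Hom.SpecMap_residueFieldMap_fromSpecResidueField,
      ← Category.assoc, ← Category.assoc, ← h1, ← h2, Category.assoc, hp.inv, h]
  obtain ⟨g, hg⟩ := same_point hp K x ι₁ ι₂ hcomp
  refine ⟨g * g₀, ?_⟩
  rw [h2, hg, ← h1, Category.assoc]
  congr 1
  rw [map_mul]
  rfl


/-- **Rigidity**: two morphisms from a connected scheme to an unramified separated `Y`-scheme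
which agree on one field-valued point are equal. -/
theorem rigidity {X X' Y : Scheme.{u}} [ConnectedSpace X] (s : X' ⟶ Y) [FormallyUnramified s]
    [LocallyOfFiniteType s] [IsSeparated s] (a b : X ⟶ X') (hab : a ≫ s = b ≫ s)
    (K : Type u) [Field K] (ξ : Spec (CommRingCat.of K) ⟶ X) (hξ : ξ ≫ a = ξ ≫ b) : a = b := by
  let c : X ⟶ pullback s s := pullback.lift a b hab
  have c_fst : c ≫ pullback.fst s s = a := pullback.lift_fst _ _ _
  have c_snd : c ≫ pullback.snd s s = b := pullback.lift_snd _ _ _
  let i : pullback c (pullback.diagonal s) ⟶ X := pullback.fst c (pullback.diagonal s)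
  haveI : IsOpenImmersion i := by
    change IsOpenImmersion (pullback.fst c (pullback.diagonal s))
    infer_instance
  haveI : IsClosedImmersion i := by
    change IsClosedImmersion (pullback.fst c (pullback.diagonal s))
    infer_instance
  have hia : i ≫ a = pullback.snd c (pullback.diagonal s) := by
    rw [← c_fst, ← Category.assoc, pullback.condition, Category.assoc, pullback.diagonal_fst,
      Category.comp_id]
  have hib : i ≫ b = pullback.snd c (pullback.diagonal s) := by
    rw [← c_snd, ← Category.assoc, pullback.condition, Category.assoc, pullback.diagonal_snd,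
      Category.comp_id]
  -- the range of `i` is clopen and nonempty
  have hopen : IsOpen (Set.range i.base) := i.isOpenEmbedding.isOpen_range
  have hclosed : IsClosed (Set.range i.base) := i.isClosedEmbedding.isClosed_range
  have hne : (Set.range i.base).Nonempty := by
    let l : Spec (CommRingCat.of K) ⟶ pullback c (pullback.diagonal s) :=
      pullback.lift ξ (ξ ≫ a) (by
        apply pullback.hom_ext
        · rw [Category.assoc, c_fst, Category.assoc, pullback.diagonal_fst, Category.comp_id]
        · rw [Category.assoc, c_snd, Category.assoc, pullback.diagonal_snd, Category.comp_id, hξ])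
    exact ⟨i.base (l.base (IsLocalRing.closedPoint K)), ⟨_, rfl⟩⟩
  have huniv : Set.range i.base = Set.univ := IsClopen.eq_univ ⟨hclosed, hopen⟩ hne
  haveI : IsIso i := by
    rw [isIso_iff_isOpenImmersion_and_epi_base]
    exact ⟨inferInstance, (TopCat.epi_iff_surjective _).mpr (Set.range_eq_univ.mp huniv)⟩
  rw [← cancel_epi i, hia, hib]


/-- Field-valued points lift along surjective morphisms after a field extension. -/
theorem exists_lift {W WG : Scheme.{u}} (pW : W ⟶ WG) [Surjective pW] (K : Type u) [Field K]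
    (g : Spec (CommRingCat.of K) ⟶ WG) :
    ∃ (L : Type u) (_ : Field L) (π : Spec (CommRingCat.of L) ⟶ Spec (CommRingCat.of K))
      (ξ : Spec (CommRingCat.of L) ⟶ W), ξ ≫ pW = π ≫ g := by
  haveI : Surjective (pullback.fst g pW) := inferInstance
  obtain ⟨z, -⟩ := (pullback.fst g pW).surjective (IsLocalRing.closedPoint K)
  let ζ : Spec (CommRingCat.of ((pullback g pW).residueField z)) ⟶ pullback g pW :=
    (pullback g pW).fromSpecResidueField z
  refine ⟨(pullback g pW).residueField z, inferInstance, ζ ≫ pullback.fst g pW,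
    ζ ≫ pullback.snd g pW, ?_⟩
  rw [Category.assoc, Category.assoc, pullback.condition]

/-- Morphisms between spectra of fields are epimorphisms. -/
theorem epi_of_fields (K L : Type u) [Field K] [Field L]
    (π : Spec (CommRingCat.of L) ⟶ Spec (CommRingCat.of K)) : Epi π := by
  haveI : Surjective π :=
    ⟨fun y => ⟨IsLocalRing.closedPoint L, Subsingleton.elim _ _⟩⟩
  exact Flat.epi_of_flat_of_surjective π

end Groth.Agent.Helper9.GeomTrans
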