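import Mathlib

/-! Naturality of the maps on `Ext` groups induced by exact functors, with respect to natural
transformations and composition of functors (dimension shifting with injectives). -/

set_option autoImplicit false
set_option linter.style.haveILetI false
universe w w' w'' u u' u'' v v' v''

namespace Groth.Agent.Helper9.ExtNat

open CategoryTheory CategoryTheory.Limits Abelian

variable {C : Type u} [Category.{v} C] [Abelian C] [HasExt.{w} C]
variable {D : Type u'} [Category.{v'} D] [Abelian D] [HasExt.{w'} D]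
variable {E : Type u''} [Category.{v''} E] [Abelian E] [HasExt.{w''} E]

section Shift

variable [EnoughInjectives C]

/-- the short exact sequence `0 → B → I(B) → Q → 0` -/
noncomputable abbrev sc (B : C) : ShortComplex C :=
  ShortComplex.mk (Injective.ι B) (cokernel.π (Injective.ι B)) (cokernel.condition _)

omit [HasExt.{w} C] in
theorem sc_shortExact (B : C) : (sc B).ShortExact := ⟨ShortComplex.exact_cokernel _⟩

theorem exists_comp_extClass {A B : C} {n : ℕ} (e : Ext.{w} A B (n + 1)) :
    ∃ x : Ext.{w} A (sc B).X₃ n, e = x.comp (sc_shortExact B).extClass rfl := by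
  have h0 : e.comp (Ext.mk₀ (sc B).f) (add_zero (n + 1)) = 0 := Ext.eq_zero_of_injective _
  obtain ⟨x, hx⟩ := Ext.covariant_sequence_exact₁ _ (sc_shortExact B) e h0 rfl
  exact ⟨x, hx.symm⟩

end Shift

section NatTrans

variable [EnoughInjectives C]
variable (Φ Ψ : C ⥤ D) [Φ.Additive] [PreservesFiniteLimits Φ] [PreservesFiniteColimits Φ]
  [Ψ.Additive] [PreservesFiniteLimits Ψ] [PreservesFiniteColimits Ψ] (τ : Φ ⟶ Ψ)

theorem mapExactFunctor_natTrans : ∀ (n : ℕ) {A B : C} (e : Ext.{w} A B n),
    (e.mapExactFunctor Φ : Ext.{w'} _ _ n).comp (Ext.mk₀ (τ.app B)) (add_zero n) =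
      (Ext.mk₀ (τ.app A)).comp (e.mapExactFunctor Ψ) (zero_add n)
  | 0, A, B, e => by
    obtain ⟨f, rfl⟩ := (Ext.mk₀_bijective A B).2 e
    rw [Ext.mapExactFunctor_mk₀, Ext.mapExactFunctor_mk₀, Ext.mk₀_comp_mk₀, Ext.mk₀_comp_mk₀,
      τ.naturality]
  | n + 1, A, B, e => by
    obtain ⟨x, rfl⟩ := exists_comp_extClass e
    have hS := sc_shortExact B
    have ih := mapExactFunctor_natTrans n x
    have hnat := ShortComplex.ShortExact.extClass_naturality (hS.map_of_exact Φ)
      (hS.map_of_exact Ψ) ((sc B).mapNatTrans τ)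
    rw [Ext.mapExactFunctor_comp, Ext.mapExactFunctor_comp, Ext.mapExactFunctor_extClass,
      Ext.mapExactFunctor_extClass]
    exact (Ext.comp_assoc_of_third_deg_zero _ _ _ _).trans
      ((congrArg (fun z => (x.mapExactFunctor Φ).comp z rfl) hnat).trans
        ((Ext.comp_assoc_of_second_deg_zero _ _ _ _).symm.trans
          ((congrArg (fun z => z.comp (hS.map_of_exact Ψ).extClass rfl) ih).trans
            (Ext.comp_assoc _ _ _ (zero_add n) rfl (by omega)))))

end NatTrans

section CompFunctor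

variable [EnoughInjectives C]
variable (Φ : C ⥤ D) [Φ.Additive] [PreservesFiniteLimits Φ] [PreservesFiniteColimits Φ]
  (Ψ : D ⥤ E) [Ψ.Additive] [PreservesFiniteLimits Ψ] [PreservesFiniteColimits Ψ]

theorem mapExactFunctor_comp_functor : ∀ (n : ℕ) {A B : C} (e : Ext.{w} A B n),
    ((e.mapExactFunctor Φ : Ext.{w'} _ _ n).mapExactFunctor Ψ : Ext.{w''} _ _ n) =
      e.mapExactFunctor (Φ ⋙ Ψ)
  | 0, A, B, e => by
    obtain ⟨f, rfl⟩ := (Ext.mk₀_bijective A B).2 e
    rw [Ext.mapExactFunctor_mk₀, Ext.mapExactFunctor_mk₀, Ext.mapExactFunctor_mk₀]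
    rfl
  | n + 1, A, B, e => by
    obtain ⟨x, rfl⟩ := exists_comp_extClass e
    have hS := sc_shortExact B
    have ih := mapExactFunctor_comp_functor n x
    have e1 : (x.comp hS.extClass rfl).mapExactFunctor Φ =
        (x.mapExactFunctor Φ).comp (hS.map_of_exact Φ).extClass rfl :=
      (Ext.mapExactFunctor_comp Φ x hS.extClass rfl).trans
        (congrArg (fun z => (x.mapExactFunctor Φ).comp z rfl) (Ext.mapExactFunctor_extClass Φ hS))
    have e2 : ((x.mapExactFunctor Φ).comp (hS.map_of_exact Φ).extClass rfl).mapExactFunctor Ψ =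
        ((x.mapExactFunctor Φ).mapExactFunctor Ψ).comp
          ((hS.map_of_exact Φ).map_of_exact Ψ).extClass rfl :=
      (Ext.mapExactFunctor_comp Ψ (x.mapExactFunctor Φ) (hS.map_of_exact Φ).extClass rfl).trans
        (congrArg (fun z => ((x.mapExactFunctor Φ).mapExactFunctor Ψ).comp z rfl)
          (Ext.mapExactFunctor_extClass Ψ (hS.map_of_exact Φ)))
    have e3 : (x.comp hS.extClass rfl).mapExactFunctor (Φ ⋙ Ψ) =
        (x.mapExactFunctor (Φ ⋙ Ψ)).comp (hS.map_of_exact (Φ ⋙ Ψ)).extClass rfl :=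
      (Ext.mapExactFunctor_comp (Φ ⋙ Ψ) x hS.extClass rfl).trans
        (congrArg (fun z => (x.mapExactFunctor (Φ ⋙ Ψ)).comp z rfl)
          (Ext.mapExactFunctor_extClass (Φ ⋙ Ψ) hS))
    refine ((congrArg (fun z => z.mapExactFunctor Ψ) e1).trans e2).trans (Eq.trans ?_ e3.symm)
    exact congrArg (fun z => z.comp (hS.map_of_exact (Φ ⋙ Ψ)).extClass rfl) ih

end CompFunctor

end Groth.Agent.Helper9.ExtNat
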