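import Mathlib
import Groth.Prelude.Def_EtBase
import Groth.Prelude.Def_EtShriek2

/-! Continuity of `compEtale j` for every étale morphism `j`. -/

set_option autoImplicit false
set_option backward.isDefEq.respectTransparency false
universe u

open CategoryTheory CategoryTheory.Limits Opposite AlgebraicGeometry

namespace Groth.Agent.Helper9.EtJCont

variable {U X : Scheme.{u}} (j : U ⟶ X) [hj : Etale j]

/-- an étale `X`-scheme mapping to `j_!(V)` is étale over `U` -/
noncomputable def liftObj {V : U.Etale} {W : X.Etale} (a : W ⟶ (EtShriek.compEtale j).obj V) :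
    U.Etale :=
  have e : a.left ≫ V.hom ≫ j = W.hom := MorphismProperty.Over.w a
  have hW : EtCoh.etaleMP ((a.left ≫ V.hom) ≫ j) := by
    rw [Category.assoc, e]; exact W.prop
  MorphismProperty.Over.mk ⊤ (a.left ≫ V.hom)
    (EtCoh.etaleMP.of_postcomp (W' := EtCoh.etaleMP) (a.left ≫ V.hom) j hj hW)

/-- the comparison isomorphism -/
noncomputable def liftIso {V : U.Etale} {W : X.Etale} (a : W ⟶ (EtShriek.compEtale j).obj V) :
    (EtShriek.compEtale j).obj (liftObj j a) ≅ W :=
  have e : a.left ≫ V.hom ≫ j = W.hom := MorphismProperty.Over.w a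
  MorphismProperty.Over.isoMk (Iso.refl _)
    ((Category.id_comp W.hom).trans (e.symm.trans (Category.assoc _ _ _).symm))

theorem compatiblePreserving_compEtale :
    CompatiblePreserving X.smallEtaleTopology (EtShriek.compEtale j) where
  compatible F {Z T x} hx {Y₁ Y₂ W} f₁ f₂ {g₁ g₂} hg₁ hg₂ h := by
    let W' : U.Etale := liftObj j f₁
    let g₁' : W' ⟶ Y₁ := MorphismProperty.Over.homMk f₁.left rfl
    have hl : f₁.left ≫ g₁.left = f₂.left ≫ g₂.left := congrArg (fun t => t.left) h
    have e2 : f₂.left ≫ Y₂.hom = f₁.left ≫ Y₁.hom := by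
      have w1 : g₁.left ≫ Z.hom = Y₁.hom := MorphismProperty.Over.w g₁
      have w2 : g₂.left ≫ Z.hom = Y₂.hom := MorphismProperty.Over.w g₂
      rw [← w1, ← w2, ← Category.assoc, ← Category.assoc, hl]
    let g₂' : W' ⟶ Y₂ := MorphismProperty.Over.homMk f₂.left e2
    have hc : g₁' ≫ g₁ = g₂' ≫ g₂ := MorphismProperty.Over.Hom.ext hl
    have key := hx g₁' g₂' hg₁ hg₂ hc
    have k1 : (liftIso j f₁).inv ≫ (EtShriek.compEtale j).map g₁' = f₁ :=
      MorphismProperty.Over.Hom.ext (Category.id_comp _)
    have k2 : (liftIso j f₁).inv ≫ (EtShriek.compEtale j).map g₂' = f₂ :=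
      MorphismProperty.Over.Hom.ext (Category.id_comp _)
    have key' := congrArg (F.obj.map (liftIso j f₁).inv.op) key
    dsimp at key'
    rw [← Functor.map_comp_apply, ← Functor.map_comp_apply, ← op_comp, ← op_comp, k1, k2] at key'
    exact key'

instance jCont_of_etale : EtShriek.JCont j :=
  Functor.isContinuous_of_coverPreserving (compatiblePreserving_compEtale j)
    (EtShriek.coverPreserving_compEtale j)

end Groth.Agent.Helper9.EtJCont
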