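import Mathlib
import Groth.Prelude.Def_EtBase
import Groth.Prelude.Def_EtShriek2

/-! For étale `j`: the adjoint triple `j_! ⊣ j⁻¹ ⊣ j_*`; for a monomorphism (open immersion)
the unit of the first and the counits of the second (and of `pull ⊣ push`) are isomorphisms. -/

set_option autoImplicit false
set_option backward.isDefEq.respectTransparency false
universe u

open CategoryTheory CategoryTheory.Limits Opposite AlgebraicGeometry

namespace Groth.Agent.Helper9.EtShriekOpen

variable {U X : Scheme.{u}} (j : U ⟶ X) [hj : Etale j]

/-- the adjunction of site functors `compEtale j ⊣ bc j` -/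
noncomputable def siteAdj : EtShriek.compEtale j ⊣ EtCoh.bc j :=
  MorphismProperty.Over.mapPullbackAdj EtCoh.etaleMP.{u} ⊤ j hj trivial

variable [EtShriek.JCont j]

/-- the adjunction `j⁻¹ ⊣ j_*` coming from the site adjunction -/
noncomputable def sheafAdj : EtShriek.restrAlong j ⊣ EtCoh.push j :=
  (siteAdj j).sheafPushforwardContinuous (E := AddCommGrpCat.{u + 1})
    U.smallEtaleTopology X.smallEtaleTopology

/-- restriction along an étale morphism is the inverse image -/
noncomputable def pullIsoRestr : EtCoh.pull j ≅ EtShriek.restrAlong j :=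
  (EtCoh.pullPushAdj j).leftAdjointUniq (sheafAdj j)

/-- the adjoint triple -/
noncomputable def triple :
    CategoryTheory.Adjunction.Triple (EtShriek.extZero j) (EtShriek.restrAlong j) (EtCoh.push j) where
  adj₁ := EtShriek.extZeroAdj j
  adj₂ := sheafAdj j

section Mono

variable [Mono j]

instance isIso_siteAdj_unit : IsIso (siteAdj j).unit := inferInstance

lemma sheafAdj_counit_app_hom_app (F : EtCoh.Ab U) (V : U.Etale) :
    (((sheafAdj j).counit.app F).hom).app (op V) = F.obj.map ((siteAdj j).unit.app V).op := by
  dsimp [sheafAdj]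
  simp

instance isIso_sheafAdj_counit_app (F : EtCoh.Ab U) : IsIso ((sheafAdj j).counit.app F) := by
  haveI : IsIso ((sheafToPresheaf _ _).map ((sheafAdj j).counit.app F)) := by
    haveI : ∀ V, IsIso (((sheafToPresheaf _ _).map ((sheafAdj j).counit.app F)).app V) := by
      rintro ⟨V⟩
      change IsIso ((((sheafAdj j).counit.app F).hom).app (op V))
      rw [sheafAdj_counit_app_hom_app]
      infer_instance
    exact NatIso.isIso_of_isIso_app _
  exact isIso_of_reflects_iso _ (sheafToPresheaf _ _)

instance isIso_sheafAdj_counit : IsIso (sheafAdj j).counit :=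
  NatIso.isIso_of_isIso_app _

instance isIso_extZeroAdj_unit : IsIso (EtShriek.extZeroAdj j).unit :=
  (triple j).isIso_unit_iff_isIso_counit.2 (isIso_sheafAdj_counit j)

theorem isIso_extZeroAdj_unit_app (F : EtCoh.Ab U) :
    IsIso ((EtShriek.extZeroAdj j).unit.app F) := inferInstance

theorem isIso_pullPushAdj_counit_app (F : EtCoh.Ab U) :
    IsIso ((EtCoh.pullPushAdj j).counit.app F) := by
  let ff : (EtCoh.push j).FullyFaithful := (sheafAdj j).fullyFaithfulROfIsIsoCounit
  haveI := ff.full
  haveI := ff.faithful
  infer_instance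

end Mono

end Groth.Agent.Helper9.EtShriekOpen
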