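import Mathlib

/-! Left Kan extension along a functor whose comma categories have "locally terminal families"
preserves monomorphisms (when coproducts in the target are exact). -/

set_option autoImplicit false
set_option backward.isDefEq.respectTransparency false
universe t w v₁ v₂ v₃ u₁ u₂ u₃

open CategoryTheory CategoryTheory.Limits Opposite

namespace Groth.Agent.Helper9.LanMono

/-- a family of objects such that every object maps to exactly one of them, in exactly one way -/
structure LocTerm (K : Type u₁) [Category.{v₁} K] where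
  ι : Type t
  obj : ι → K
  idx : K → ι
  toObj : ∀ k, k ⟶ obj (idx k)
  idx_eq : ∀ {k : K} {i : ι} (_ : k ⟶ obj i), i = idx k
  hom_unique : ∀ {k : K} {i : ι} (m m' : k ⟶ obj i), m = m'

namespace LocTerm

variable {K : Type u₁} [Category.{v₁} K] (T : LocTerm.{t} K)

/-- the inclusion of the discrete subcategory -/
def Φ : Discrete T.ι ⥤ K := Discrete.functor T.obj

/-- the structure map, typed through `Φ` -/
def to' (k : K) : k ⟶ T.Φ.obj ⟨T.idx k⟩ := T.toObj k

instance : T.Φ.Final := by
  constructor
  intro k
  haveI : Nonempty (StructuredArrow k T.Φ) :=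
    ⟨StructuredArrow.mk (T.to' k)⟩
  apply zigzag_isConnected
  have key : ∀ x : StructuredArrow k T.Φ,
      Nonempty (x ⟶ StructuredArrow.mk (T.to' k)) := by
    intro x
    have hx : x.right.as = T.idx k := T.idx_eq (i := x.right.as) x.hom
    refine ⟨StructuredArrow.homMk (Discrete.eqToHom hx) ?_⟩
    exact T.hom_unique (i := T.idx k) _ _
  intro x y
  obtain ⟨f⟩ := key x
  obtain ⟨g⟩ := key y
  have h1 : Zigzag x (StructuredArrow.mk (T.to' k)) :=
    Relation.ReflTransGen.single (show Zag x _ from Or.inl ⟨f⟩)
  have h2 : Zigzag (StructuredArrow.mk (T.to' k)) y :=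
    Relation.ReflTransGen.single (show Zag _ y from Or.inr ⟨g⟩)
  exact h1.trans h2

variable {A : Type u₃} [Category.{v₃} A] [HasColimitsOfShape K A]
  [HasColimitsOfShape (Discrete T.ι) A]

lemma mono_colimMap
    (hA : (colim (J := Discrete T.ι) (C := A)).PreservesMonomorphisms)
    {X X' : K ⥤ A} (β : X ⟶ X')
    (hβ : ∀ k, Mono (β.app k)) : Mono (colimMap β) := by
  let e := Functor.Final.colimIso T.Φ (E := A)
  haveI : Mono (Functor.whiskerLeft T.Φ β) := by
    haveI : ∀ d, Mono ((Functor.whiskerLeft T.Φ β).app d) := fun d => hβ _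
    exact NatTrans.mono_of_mono_app _
  haveI : Mono (colim.map (Functor.whiskerLeft T.Φ β)) := hA.preserves _
  have h : colim.map β =
      e.inv.app X ≫ colim.map (Functor.whiskerLeft T.Φ β) ≫ e.hom.app X' := by
    have h1 := e.hom.naturality β
    rw [← cancel_epi (e.hom.app X)]
    rw [Iso.hom_inv_id_app_assoc]
    exact h1.symm
  change Mono (colim.map β)
  rw [h]
  infer_instance

end LocTerm

section Lan

variable {C : Type u₁} [Category.{v₁} C] {D : Type u₂} [Category.{v₂} D] (L : C ⥤ D)
  {A : Type u₃} [Category.{v₃} A]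
  [∀ F : C ⥤ A, L.HasLeftKanExtension F] [∀ F : C ⥤ A, L.HasPointwiseLeftKanExtension F]

theorem mono_lan_map (T : ∀ Y : D, LocTerm.{t} (CostructuredArrow L Y))
    [∀ Y, HasColimitsOfShape (CostructuredArrow L Y) A]
    [∀ Y, HasColimitsOfShape (Discrete (T Y).ι) A]
    (hA : ∀ Y, (colim (J := Discrete (T Y).ι) (C := A)).PreservesMonomorphisms)
    {G G' : C ⥤ A} (α : G ⟶ G') [∀ Z, Mono (α.app Z)] :
    ∀ Y, Mono ((L.lan.map α).app Y) := by
  intro Y
  let β : CostructuredArrow.proj L Y ⋙ G ⟶ CostructuredArrow.proj L Y ⋙ G' :=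
    Functor.whiskerLeft _ α
  haveI : Mono (colimMap β) := (T Y).mono_colimMap (hA Y) β (fun k => by dsimp [β]; infer_instance)
  have h : (L.lan.map α).app Y =
      (L.leftKanExtensionObjIsoColimit G Y).hom ≫ colimMap β ≫
        (L.leftKanExtensionObjIsoColimit G' Y).inv := by
    rw [← cancel_epi (L.leftKanExtensionObjIsoColimit G Y).inv]
    rw [Iso.inv_hom_id_assoc]
    apply colimit.hom_ext
    intro f
    rw [Functor.ι_leftKanExtensionObjIsoColimit_inv_assoc, ι_colimMap_assoc,
      Functor.ι_leftKanExtensionObjIsoColimit_inv]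
    have h1 := (L.lan.map α).naturality f.hom
    have h2 := congrArg (fun t => t.app f.left) (L.lanUnit.naturality α)
    dsimp at h1 h2
    dsimp [β]
    erw [h1]
    rw [← Category.assoc, ← Category.assoc]
    congr 1
    exact h2.symm
  rw [h]
  infer_instance

end Lan

end Groth.Agent.Helper9.LanMono
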