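import Mathlib
import Groth.Prelude.Def_EtBase
import Groth.Prelude.Def_EtShriek2
import Groth.Agent.Helper9.LanMono

/-! Extension by zero along an étale morphism is exact (S0648). -/

set_option autoImplicit false
set_option backward.isDefEq.respectTransparency false
universe u

open CategoryTheory CategoryTheory.Limits Opposite AlgebraicGeometry

namespace Groth.Agent.Helper9.EtShriekExact

open Groth.Agent.Helper9.LanMono

variable {U X : Scheme.{u}} (j : U ⟶ X) [hj : Etale j]

/-- the functor along which we extend -/
noncomputable abbrev L : U.Etaleᵒᵖ ⥤ X.Etaleᵒᵖ := (EtShriek.compEtale j).op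

variable (W : X.Etale)

/-- index category -/
abbrev K := CostructuredArrow (L j) (op W)

/-- lifts of the structure map -/
abbrev Idx := {φ : W.left ⟶ U // φ ≫ j = W.hom}

variable {j W}

lemma etale_of_idx (φ : Idx j W) : EtCoh.etaleMP φ.1 := by
  have hW : EtCoh.etaleMP (φ.1 ≫ j) := by
    rw [φ.2]; exact W.prop
  exact EtCoh.etaleMP.of_postcomp (W' := EtCoh.etaleMP) φ.1 j hj hW

/-- the étale `U`-scheme attached to a lift -/
noncomputable def VObj (φ : Idx j W) : U.Etale :=
  MorphismProperty.Over.mk ⊤ φ.1 (etale_of_idx φ)

/-- the tautological map `W ⟶ j_!(V_φ)` -/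
noncomputable def tautHom (φ : Idx j W) : W ⟶ (EtShriek.compEtale j).obj (VObj φ) :=
  MorphismProperty.Over.homMk (𝟙 W.left) (by
    change 𝟙 W.left ≫ φ.1 ≫ j = W.hom
    rw [Category.id_comp]; exact φ.2)

/-- objects of the locally terminal family -/
noncomputable def ΦObj (φ : Idx j W) : K j W :=
  CostructuredArrow.mk (S := L j) (Y := op (VObj φ)) (T := op W) (tautHom φ).op

/-- the lift attached to an object of the comma category -/
noncomputable def idxOf (k : K j W) : Idx j W :=
  ⟨k.hom.unop.left ≫ k.left.unop.hom, by
    have h := MorphismProperty.Over.w k.hom.unop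
    rw [Category.assoc]
    exact h⟩

lemma hom_left_eq {k : K j W} {φ : Idx j W} (m : k ⟶ ΦObj φ) :
    m.left.unop.left = k.hom.unop.left := by
  have h := CostructuredArrow.w m
  have h2 : (tautHom φ) ≫ (EtShriek.compEtale j).map m.left.unop = k.hom.unop :=
    congrArg Quiver.Hom.unop h
  have h3 := congrArg (fun t => t.left) h2
  dsimp [tautHom] at h3
  rw [← h3]
  exact (Category.id_comp _).symm

lemma idx_eq {k : K j W} {φ : Idx j W} (m : k ⟶ ΦObj φ) : φ = idxOf k := by
  apply Subtype.ext
  have h := MorphismProperty.Over.w m.left.unop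
  rw [hom_left_eq m] at h
  exact h.symm

lemma hom_unique {k : K j W} {φ : Idx j W} (m m' : k ⟶ ΦObj φ) : m = m' := by
  apply CostructuredArrow.hom_ext
  apply Quiver.Hom.unop_inj
  apply MorphismProperty.Over.Hom.ext
  rw [hom_left_eq m, hom_left_eq m']

/-- the canonical morphism to the terminal object of the component -/
noncomputable def toΦ (k : K j W) : k ⟶ ΦObj (idxOf k) :=
  CostructuredArrow.homMk
    (MorphismProperty.Over.homMk (A := VObj (idxOf k)) (B := k.left.unop) k.hom.unop.left rfl).op
    (by
      apply Quiver.Hom.unop_inj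
      apply MorphismProperty.Over.Hom.ext
      exact Category.id_comp _)

variable (j W)

/-- the locally terminal family -/
noncomputable def locTerm : LocTerm.{u} (K j W) where
  ι := Idx j W
  obj := ΦObj
  idx := idxOf
  toObj := toΦ
  idx_eq := idx_eq
  hom_unique := hom_unique

/-- the locally terminal family over an arbitrary object of the opposite category -/
noncomputable def locTerm' (Y : X.Etaleᵒᵖ) : LocTerm.{u} (CostructuredArrow (L j) Y) :=
  locTerm j Y.unop

lemma preservesMono_colim (ι : Type u) :
    (colim (J := Discrete ι) (C := AddCommGrpCat.{u + 1})).PreservesMonomorphisms := by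
  haveI : AB4OfSize.{u} AddCommGrpCat.{u + 1} := AB4OfSize_shrink.{u, u + 1} AddCommGrpCat.{u + 1}
  haveI : PreservesFiniteLimits (colim (J := Discrete ι) (C := AddCommGrpCat.{u + 1})) :=
    HasExactColimitsOfShape.preservesFiniteLimits
  infer_instance

theorem mono_lan_map {G G' : U.Etaleᵒᵖ ⥤ AddCommGrpCat.{u + 1}} (α : G ⟶ G') [Mono α] :
    Mono ((L j).lan.map α) := by
  haveI : ∀ Z, Mono (α.app Z) := fun Z => inferInstance
  haveI : ∀ Y, Mono (((L j).lan.map α).app Y) :=
    LanMono.mono_lan_map (L j) (locTerm' j) (fun Y => preservesMono_colim _) α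
  exact NatTrans.mono_of_mono_app _

section Sheaf

variable [EtShriek.JCont j]

/-- the constructed extension by zero -/
noncomputable abbrev jshriek : EtCoh.Ab U ⥤ EtCoh.Ab X :=
  Functor.sheafPullbackConstruction.sheafPullback (EtShriek.compEtale j) AddCommGrpCat.{u + 1}
    U.smallEtaleTopology X.smallEtaleTopology

/-- the adjunction -/
noncomputable abbrev jadj : jshriek j ⊣ EtShriek.restrAlong j :=
  Functor.sheafPullbackConstruction.sheafAdjunctionContinuous (EtShriek.compEtale j)
    AddCommGrpCat.{u + 1} U.smallEtaleTopology X.smallEtaleTopology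

instance preservesMonomorphisms_jshriek : (jshriek j).PreservesMonomorphisms := by
  constructor
  intro G G' f hf
  haveI : Mono ((sheafToPresheaf U.smallEtaleTopology AddCommGrpCat.{u + 1}).map f) :=
    inferInstance
  haveI := mono_lan_map j (α := (sheafToPresheaf U.smallEtaleTopology AddCommGrpCat.{u + 1}).map f)
  exact (presheafToSheaf X.smallEtaleTopology AddCommGrpCat.{u + 1}).map_mono _

instance isLeftAdjoint_jshriek : (jshriek j).IsLeftAdjoint := (jadj j).isLeftAdjoint

instance isRightAdjoint_restrAlong : (EtShriek.restrAlong j).IsRightAdjoint :=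
  (jadj j).isRightAdjoint

instance additive_restrAlong : (EtShriek.restrAlong j).Additive :=
  Functor.additive_of_preserves_binary_products _

instance additive_jshriek : (jshriek j).Additive := (jadj j).left_adjoint_additive

instance preservesFiniteLimits_jshriek : PreservesFiniteLimits (jshriek j) := by
  rw [Functor.preservesFiniteLimits_iff_forall_exact_map_and_mono]
  intro S hS
  haveI := hS.mono_f
  have hc : PreservesFiniteColimits (jshriek j) := inferInstance
  exact ⟨((Functor.preservesFiniteColimits_iff_forall_exact_map_and_epi _).1 hc S hS).1,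
    (jshriek j).map_mono S.f⟩

theorem preservesFiniteLimits_extZero : PreservesFiniteLimits (EtShriek.extZero j) :=
  preservesFiniteLimits_of_natIso
    (Functor.sheafPullbackConstruction.sheafPullbackIso (EtShriek.compEtale j)
      AddCommGrpCat.{u + 1} U.smallEtaleTopology X.smallEtaleTopology).symm

end Sheaf

end Groth.Agent.Helper9.EtShriekExact
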