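import Mathlib
import Groth.Prelude.Def_EtBase
import Groth.Prelude.Def_EtShriek2
import Groth.Agent.Helper4.LanExact
import Groth.Agent.Helper9.EtJCont
import Groth.Agent.Helper9.EtShriekExact
import Groth.Agent.Helper9.EtShriekOpen

/-! Direct images and étale restrictions of injective abelian étale sheaves are injective;
acyclicity of `f_* I` (S0623). -/

set_option autoImplicit false
set_option backward.isDefEq.respectTransparency false
universe u

open CategoryTheory CategoryTheory.Limits Opposite AlgebraicGeometry

namespace Groth.Agent.Helper9.EtPushInj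

variable {X Y : Scheme.{u}} (f : X ⟶ Y)

instance preservesFiniteLimits_pull : PreservesFiniteLimits (EtCoh.pull f) :=
  Groth.Agent.Helper4.LanExact.sheafPullback_preservesFiniteLimits (EtCoh.bc f)
    Y.smallEtaleTopology X.smallEtaleTopology

theorem injective_push (I : EtCoh.Ab X) [Injective I] : Injective ((EtCoh.push f).obj I) :=
  Injective.injective_of_adjoint (EtCoh.pullPushAdj f) I

section Etale

variable {U : Scheme.{u}} (j : U ⟶ X) [Etale j]

theorem injective_restrAlong (I : EtCoh.Ab X) [Injective I] :
    Injective ((EtShriek.restrAlong j).obj I) := by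
  haveI := Groth.Agent.Helper9.EtShriekExact.preservesFiniteLimits_extZero j
  exact Injective.injective_of_adjoint (EtShriek.extZeroAdj j) I

theorem injective_pull_of_etale (I : EtCoh.Ab X) [Injective I] :
    Injective ((EtCoh.pull j).obj I) := by
  haveI := injective_restrAlong j I
  exact Injective.of_iso ((Groth.Agent.Helper9.EtShriekOpen.pullIsoRestr j).app I).symm
    inferInstance

end Etale

theorem s0623 {Z : Scheme.{u}} (g : Y ⟶ Z) (I : EtCoh.Ab X) [Injective I] (q : ℕ) (hq : 1 ≤ q) :
    (∀ V : Y.Etale,
      Subsingleton (EtCoh.H V.left ((EtCoh.pull V.hom).obj ((EtCoh.push f).obj I)) q)) ∧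
    IsZero ((EtCoh.Rpush g q).obj ((EtCoh.push f).obj I)) := by
  obtain ⟨n, rfl⟩ : ∃ n, q = n + 1 := ⟨q - 1, by omega⟩
  haveI := injective_push f I
  refine ⟨fun V => ?_, ?_⟩
  · haveI : Etale V.hom := V.prop
    haveI := injective_pull_of_etale V.hom ((EtCoh.push f).obj I)
    infer_instance
  · exact Functor.isZero_rightDerived_obj_injective_succ _ n _

end Groth.Agent.Helper9.EtPushInj
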