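import Mathlib
import Groth.Agent.Helper9.ExtNat

/-! If `Φ ⋙ Ψ ≅ 𝟭` for exact functors `Φ`, `Ψ`, then `Ext^n(Z, G)` is a retract of
`Ext^n(Φ Z, Φ G)`. -/

set_option autoImplicit false
set_option linter.style.haveILetI false
set_option linter.unusedSectionVars false
universe w w' u u' v v'

namespace Groth.Agent.Helper9.ExtRetr

open CategoryTheory CategoryTheory.Limits Abelian

variable {C : Type u} [Category.{v} C] [Abelian C] [HasExt.{w} C] [EnoughInjectives C]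
variable {D : Type u'} [Category.{v'} D] [Abelian D] [HasExt.{w'} D]

theorem mapExactFunctor_id : ∀ (n : ℕ) {A B : C} (e : Ext.{w} A B n),
    (e.mapExactFunctor (𝟭 C) : Ext.{w} _ _ n) = e
  | 0, A, B, e => by
    obtain ⟨f, rfl⟩ := (Ext.mk₀_bijective A B).2 e
    rw [Ext.mapExactFunctor_mk₀]
    rfl
  | n + 1, A, B, e => by
    obtain ⟨x, rfl⟩ := ExtNat.exists_comp_extClass e
    have hS := ExtNat.sc_shortExact B
    have ih := mapExactFunctor_id n x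
    rw [Ext.mapExactFunctor_comp, Ext.mapExactFunctor_extClass, ih]
    rfl

variable (Φ : C ⥤ D) [Φ.Additive] [PreservesFiniteLimits Φ] [PreservesFiniteColimits Φ]
  (Ψ : D ⥤ C) [Ψ.Additive] [PreservesFiniteLimits Ψ] [PreservesFiniteColimits Ψ]
  (α : Φ ⋙ Ψ ≅ 𝟭 C) {Z : C} {Z' : D} (c : Z' ≅ Φ.obj Z) (G : C) (n : ℕ)

/-- the inclusion -/
noncomputable def ι : Ext.{w} Z G n →+ Ext.{w'} Z' (Φ.obj G) n :=
  AddMonoidHom.comp
    (AddMonoidHom.mk' (fun e => (Ext.mk₀ c.hom).comp e (zero_add n))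
      (fun _ _ => Ext.comp_add _ _ _ _))
    (Φ.mapExtAddHom Z G n)

lemma ι_apply (x : Ext.{w} Z G n) :
    ι Φ c G n x = (Ext.mk₀ c.hom).comp (x.mapExactFunctor Φ) (zero_add n) := rfl

/-- the retraction -/
noncomputable def ρ : Ext.{w'} Z' (Φ.obj G) n →+ Ext.{w} Z G n :=
  AddMonoidHom.comp
    (AddMonoidHom.mk' (fun e => (Ext.mk₀ (α.inv.app Z ≫ Ψ.map c.inv)).comp
        (e.comp (Ext.mk₀ (α.hom.app G)) (add_zero n)) (zero_add n))
      (fun _ _ => by rw [Ext.add_comp, Ext.comp_add]))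
    (Ψ.mapExtAddHom Z' (Φ.obj G) n)

lemma ρ_apply (y : Ext.{w'} Z' (Φ.obj G) n) :
    ρ Φ Ψ α c G n y = (Ext.mk₀ (α.inv.app Z ≫ Ψ.map c.inv)).comp
      ((y.mapExactFunctor Ψ).comp (Ext.mk₀ (α.hom.app G)) (add_zero n)) (zero_add n) := rfl

theorem ρ_ι (x : Ext.{w} Z G n) : ρ Φ Ψ α c G n (ι Φ c G n x) = x := by
  rw [ρ_apply, ι_apply, Ext.mapExactFunctor_comp, Ext.mapExactFunctor_mk₀,
    ExtNat.mapExactFunctor_comp_functor Φ Ψ n x]
  have hnat := ExtNat.mapExactFunctor_natTrans (Φ ⋙ Ψ) (𝟭 C) α.hom n x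
  rw [mapExactFunctor_id] at hnat
  rw [Ext.comp_assoc_of_third_deg_zero, hnat, ← Ext.comp_assoc_of_second_deg_zero,
    ← Ext.comp_assoc_of_second_deg_zero, Ext.mk₀_comp_mk₀, Ext.mk₀_comp_mk₀]
  have : ((α.inv.app Z ≫ Ψ.map c.inv) ≫ Ψ.map c.hom) ≫ α.hom.app Z = 𝟙 Z := by
    rw [Category.assoc, Category.assoc, ← Ψ.map_comp_assoc, Iso.inv_hom_id, Ψ.map_id,
      Category.id_comp]
    exact α.inv_hom_id_app Z
  rw [this]
  exact Ext.mk₀_id_comp x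

end Groth.Agent.Helper9.ExtRetr
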