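import Mathlib
import Groth.Prelude.Def_EtCore
import Groth.Agent.Helper9.EtPushInj
import Groth.Agent.Helper9.ExtRetr

/-! Étale cohomology of `T` is a retract of the étale cohomology of `T'` when `T' → T` has a
section. -/

set_option autoImplicit false
set_option linter.style.haveILetI false
universe u

namespace Groth.Agent.Helper9.EtRetr

open CategoryTheory CategoryTheory.Limits AlgebraicGeometry Opposite Abelian
open Groth.Agent.Helper9

section Id

variable (T : Scheme.{u})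

set_option backward.isDefEq.respectTransparency.types false in
/-- base change along the identity -/
noncomputable def bcId : EtCoh.bc (𝟙 T) ≅ 𝟭 T.Etale :=
  Functor.fullyFaithfulCancelRight (Scheme.Etale.forget T)
    (MorphismProperty.Over.pullbackCompForgetIso (P := EtCoh.etaleMP) (Q := ⊤) (𝟙 T) ≪≫
      Functor.isoWhiskerLeft _ Over.pullbackId ≪≫ (Functor.rightUnitor _) ≪≫
      (Functor.leftUnitor _).symm)

set_option backward.isDefEq.respectTransparency.types false in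
noncomputable def pushId : EtCoh.push (𝟙 T) ≅ 𝟭 (EtCoh.Ab T) :=
  Functor.sheafPushforwardContinuousId' (bcId T) AddCommGrpCat.{u + 1} T.smallEtaleTopology

noncomputable def pullId : EtCoh.pull (𝟙 T) ≅ 𝟭 (EtCoh.Ab T) :=
  Adjunction.leftAdjointUniq (EtCoh.pullPushAdj (𝟙 T))
    (Adjunction.id.ofNatIsoRight (pushId T).symm)

end Id

variable {T T' : Scheme.{u}} (g : T' ⟶ T) (t : T ⟶ T') (h : t ≫ g = 𝟙 T)

/-- `g⁻¹` followed by `t⁻¹` is the identity -/
noncomputable def α : EtCoh.pull g ⋙ EtCoh.pull t ≅ 𝟭 (EtCoh.Ab T) :=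
  (EtCore.pullComp t g).symm ≪≫ EtCore.pullCongr h ≪≫ pullId T

include h in
theorem exists_retract (G : EtCoh.Ab T) (G' : EtCoh.Ab T') (e : G' ≅ (EtCoh.pull g).obj G)
    (q : ℕ) :
    ∃ (ι : AddCommGrpCat.of (EtCoh.H T G q) ⟶ AddCommGrpCat.of (EtCoh.H T' G' q))
      (ρ : AddCommGrpCat.of (EtCoh.H T' G' q) ⟶ AddCommGrpCat.of (EtCoh.H T G q)),
      ι ≫ ρ = 𝟙 _ := by
  let c : EtCoh.const T' ℤ ≅ (EtCoh.pull g).obj (EtCoh.const T ℤ) := (EtCore.pullConst g ℤ).symm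
  let ι₀ := ExtRetr.ι (EtCoh.pull g) c G q
  let ρ₀ := ExtRetr.ρ (EtCoh.pull g) (EtCoh.pull t) (α g t h) c G q
  let a : EtCoh.H T' ((EtCoh.pull g).obj G) q →+ EtCoh.H T' G' q := Sheaf.H.map e.inv q
  let b : EtCoh.H T' G' q →+ EtCoh.H T' ((EtCoh.pull g).obj G) q := Sheaf.H.map e.hom q
  refine ⟨AddCommGrpCat.ofHom (a.comp ι₀), AddCommGrpCat.ofHom (ρ₀.comp b), ?_⟩
  ext x
  show ρ₀ (b (a (ι₀ x))) = x
  have hba : b (a (ι₀ x)) = ι₀ x := by
    show Sheaf.H.map e.hom q (Sheaf.H.map e.inv q (ι₀ x)) = ι₀ x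
    simp only [Sheaf.H.map_apply]
    rw [Ext.comp_assoc_of_third_deg_zero, Ext.mk₀_comp_mk₀, Iso.inv_hom_id, Ext.comp_mk₀_id]
  rw [hba]
  exact ExtRetr.ρ_ι (EtCoh.pull g) (EtCoh.pull t) (α g t h) c G q x

end Groth.Agent.Helper9.EtRetr
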