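import Mathlib
import Groth.Prelude.Def_EtBase

/-! Exactness, mono, epi for abelian étale sheaves can be tested on geometric stalks. -/

set_option autoImplicit false
universe u

open CategoryTheory CategoryTheory.Limits Opposite AlgebraicGeometry

namespace Groth.Agent.Helper9.EtStalkExact

theorem preservesFilteredColimits_forget_ab :
    PreservesFilteredColimitsOfSize.{u, u} (forget AddCommGrpCat.{u + 1}) :=
  preservesFilteredColimitsOfSize_shrink.{u, u + 1, u, u + 1} _

theorem ab5_ab : AB5OfSize.{u, u} AddCommGrpCat.{u + 1} := AB5OfSize_shrink.{u, u, u + 1, u + 1} _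

variable {X : Scheme.{u}}

/-- the canonical geometric point over a point `x` of a scheme -/
noncomputable def geomPt (x : X) :
    Spec (CommRingCat.of (SeparableClosure (X.residueField x))) ⟶ X :=
  (Scheme.SpecToEquivOfField (SeparableClosure (X.residueField x)) X).2
    ⟨x, CommRingCat.ofHom (algebraMap (X.residueField x) _)⟩

lemma geomPt_default (x : X) : (geomPt x) default = x := by
  simp [geomPt, Scheme.SpecToEquivOfField]

/-- a sieve on the small étale site is covering if every lift of every geometric point factors through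
a member of the sieve -/
theorem mem_of_forall_geomPt {U : X.Etale} (R : Sieve U)
    (h : ∀ (Ω : Type u) [Field Ω] [IsSepClosed Ω] (ξ : Spec (CommRingCat.of Ω) ⟶ X)
      (l : (Scheme.pointSmallEtale ξ).fiber.obj U),
      ∃ (V : X.Etale) (f : V ⟶ U) (_ : R f) (v : (Scheme.pointSmallEtale ξ).fiber.obj V),
        (Scheme.pointSmallEtale ξ).fiber.map f v = l) :
    R ∈ X.smallEtaleTopology U := by
  obtain ⟨α, T, f, rfl⟩ := R.exists_eq_ofArrows
  rw [Scheme.ofArrows_mem_smallEtaleTopology_iff]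
  ext x
  simp only [Set.mem_iUnion, Set.mem_range, Set.mem_univ, iff_true]
  have hi := geomPt_default (U.hom x)
  obtain ⟨x', hx'⟩ := Scheme.pointSmallEtaleFiberObjToPreimage_surjective (geomPt (U.hom x)) hi U
    ⟨x, by simp⟩
  rw [Subtype.ext_iff] at hx'
  simp only [Functor.id_obj, Scheme.pointSmallEtaleFiberObjToPreimage_coe,
    Scheme.Etale.forget_obj_left] at hx'
  obtain ⟨W, g, ⟨Z, p, _, ⟨a⟩, rfl⟩, y, hy⟩ := h _ (geomPt (U.hom x)) x'
  refine ⟨a, (Scheme.pointSmallEtaleFiberObjToPreimage (geomPt (U.hom x)) hi (y ≫ p.hom)).1, ?_⟩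
  refine Eq.trans ?_ hx'
  rw [← hy]
  rfl


section Concrete

variable {A : Type*} [Category A] [HasColimitsOfSize.{u, u} A]
  {FC : A → A → Type*} {CC : A → Type*}
  [∀ X Y : A, FunLike (FC X Y) (CC X) (CC Y)] [ConcreteCategory A FC]
  [PreservesFilteredColimitsOfSize.{u, u} (forget A)]

theorem isLocallyInjective_of_stalk {P Q : X.Etaleᵒᵖ ⥤ A} (a : P ⟶ Q)
    (h : ∀ (Ω : Type u) [Field Ω] [IsSepClosed Ω] (ξ : Spec (CommRingCat.of Ω) ⟶ X),
      Function.Injective ((Scheme.pointSmallEtale ξ).presheafFiber.map a)) :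
    Presheaf.IsLocallyInjective X.smallEtaleTopology a where
  equalizerSieve_mem {U} x y hxy := by
    apply mem_of_forall_geomPt
    intro Ω _ _ ξ l
    have h1 : (Scheme.pointSmallEtale ξ).toPresheafFiber U.unop l P x =
        (Scheme.pointSmallEtale ξ).toPresheafFiber U.unop l P y := by
      apply h Ω ξ
      rw [GrothendieckTopology.Point.toPresheafFiber_naturality_apply,
        GrothendieckTopology.Point.toPresheafFiber_naturality_apply, hxy]
    obtain ⟨V, f, v, hv, hf⟩ :=
      ((Scheme.pointSmallEtale ξ).toPresheafFiber_eq_iff' U.unop l x y).1 h1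
    exact ⟨V, f, hf, v, hv⟩

omit [PreservesFilteredColimitsOfSize.{u, u} (forget A)] in
theorem exists_of_surjective {C : Type*} [Category C] {J : GrothendieckTopology C}
    [LocallySmall.{u} C] [PreservesFilteredColimitsOfSize.{u, u} (forget A)]
    (Φ : GrothendieckTopology.Point.{u} J) {P Q : Cᵒᵖ ⥤ A} (a : P ⟶ Q)
    (h : Function.Surjective (Φ.presheafFiber.map a)) {U : C} (t : ToType (Q.obj (op U)))
    (l : Φ.fiber.obj U) :
    ∃ (Y : C) (f : Y ⟶ U) (_ : (Presheaf.imageSieve a t) f) (y : Φ.fiber.obj Y),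
      Φ.fiber.map f y = l := by
  obtain ⟨z, hz⟩ := h (Φ.toPresheafFiber U l Q t)
  obtain ⟨V, v, s, rfl⟩ := Φ.toPresheafFiber_jointly_surjective z
  rw [GrothendieckTopology.Point.toPresheafFiber_naturality_apply] at hz
  let e₁ : Φ.fiber.Elements := ⟨V, v⟩
  let e₂ : Φ.fiber.Elements := ⟨U, l⟩
  let W := IsCofiltered.min e₁ e₂
  let g₁ : W ⟶ e₁ := IsCofiltered.minToLeft e₁ e₂
  let g₂ : W ⟶ e₂ := IsCofiltered.minToRight e₁ e₂
  have hg₁' : Φ.fiber.map g₁.1 W.2 = v := g₁.2
  have hg₂' : Φ.fiber.map g₂.1 W.2 = l := g₂.2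
  have h2 : Φ.toPresheafFiber W.1 W.2 Q (Q.map g₁.1.op (a.app _ s)) =
      Φ.toPresheafFiber W.1 W.2 Q (Q.map g₂.1.op t) := by
    have e1 := Φ.toPresheafFiber_w_apply g₁.1 W.2 Q (a.app _ s)
    have e2 := Φ.toPresheafFiber_w_apply g₂.1 W.2 Q t
    rw [e1, e2, hg₁', hg₂', hz]
  obtain ⟨Y, f, y, hy, hf⟩ := (Φ.toPresheafFiber_eq_iff' W.1 W.2 _ _).1 h2
  refine ⟨Y, f ≫ g₂.1, ⟨P.map (f ≫ g₁.1).op s, ?_⟩, y, ?_⟩
  · rw [NatTrans.naturality_apply, op_comp, Functor.map_comp, op_comp, Functor.map_comp,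
      ConcreteCategory.comp_apply, ConcreteCategory.comp_apply]
    exact hf
  · rw [Functor.map_comp]
    show Φ.fiber.map g₂.1 (Φ.fiber.map f y) = l
    rw [hy, hg₂']

theorem isLocallySurjective_of_stalk {P Q : X.Etaleᵒᵖ ⥤ A} (a : P ⟶ Q)
    (h : ∀ (Ω : Type u) [Field Ω] [IsSepClosed Ω] (ξ : Spec (CommRingCat.of Ω) ⟶ X),
      Function.Surjective ((Scheme.pointSmallEtale ξ).presheafFiber.map a)) :
    Presheaf.IsLocallySurjective X.smallEtaleTopology a where
  imageSieve_mem {U} t := by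
    apply mem_of_forall_geomPt
    intro Ω _ _ ξ l
    exact exists_of_surjective (Scheme.pointSmallEtale ξ) a (h Ω ξ) t l

end Concrete


section Ab

attribute [local instance] preservesFilteredColimits_forget_ab ab5_ab

variable {Ω : Type u} [Field Ω] [IsSepClosed Ω] (ξ : Spec (CommRingCat.of Ω) ⟶ X)

instance : PreservesFiniteLimits (EtCoh.stalk ξ) :=
  inferInstanceAs (PreservesFiniteLimits (Scheme.pointSmallEtale ξ).sheafFiber)

instance : (EtCoh.stalk ξ).PreservesHomology := Functor.preservesHomologyOfExact _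

theorem mono_iff_stalks {F G : EtCoh.Ab X} (a : F ⟶ G) :
    Mono a ↔ ∀ (Ω : Type u) [Field Ω] [IsSepClosed Ω] (ξ : Spec (CommRingCat.of Ω) ⟶ X),
      Function.Injective ((EtCoh.stalk ξ).map a) := by
  constructor
  · intro h Ω _ _ ξ
    exact (AddCommGrpCat.mono_iff_injective _).1 inferInstance
  · intro h
    have : Presheaf.IsLocallyInjective X.smallEtaleTopology a.hom :=
      isLocallyInjective_of_stalk a.hom (fun Ω _ _ ξ => h Ω ξ)
    exact Sheaf.mono_of_isLocallyInjective a

theorem epi_iff_stalks {F G : EtCoh.Ab X} (a : F ⟶ G) :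
    Epi a ↔ ∀ (Ω : Type u) [Field Ω] [IsSepClosed Ω] (ξ : Spec (CommRingCat.of Ω) ⟶ X),
      Function.Surjective ((EtCoh.stalk ξ).map a) := by
  constructor
  · intro h Ω _ _ ξ
    exact (AddCommGrpCat.epi_iff_surjective _).1 inferInstance
  · intro h
    have : Presheaf.IsLocallySurjective X.smallEtaleTopology a.hom :=
      isLocallySurjective_of_stalk a.hom (fun Ω _ _ ξ => h Ω ξ)
    exact Sheaf.epi_of_isLocallySurjective a

/-- an abelian étale sheaf all of whose geometric stalks vanish is zero -/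
theorem isZero_of_stalks (F : EtCoh.Ab X)
    (h : ∀ (Ω : Type u) [Field Ω] [IsSepClosed Ω] (ξ : Spec (CommRingCat.of Ω) ⟶ X),
      IsZero ((EtCoh.stalk ξ).obj F)) : IsZero F := by
  have : Mono (0 : F ⟶ F) := by
    rw [mono_iff_stalks]
    intro Ω _ _ ξ
    have : Subsingleton ↑((EtCoh.stalk ξ).obj F) := AddCommGrpCat.subsingleton_of_isZero (h Ω ξ)
    exact Function.injective_of_subsingleton _
  exact IsZero.of_mono_zero F F

theorem exact_iff_stalks (S : ShortComplex (EtCoh.Ab X)) :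
    S.Exact ↔ ∀ (Ω : Type u) [Field Ω] [IsSepClosed Ω] (ξ : Spec (CommRingCat.of Ω) ⟶ X),
      (S.map (EtCoh.stalk ξ)).Exact := by
  constructor
  · intro hS Ω _ _ ξ
    exact hS.map _
  · intro h
    rw [S.leftHomologyData.exact_iff]
    apply isZero_of_stalks
    intro Ω _ _ ξ
    rw [← S.leftHomologyData.exact_map_iff (EtCoh.stalk ξ)]
    exact h Ω ξ

end Ab

end Groth.Agent.Helper9.EtStalkExact
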