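import Mathlib
import Groth.Prelude.Def_EtBase

/-! Stalks of étale sheaves commute with inverse images: `(f⁻¹G)_ξ ≅ G_{f ξ}`. -/

set_option autoImplicit false
universe u w

open CategoryTheory CategoryTheory.Limits Opposite AlgebraicGeometry

namespace Groth.Agent.Helper9.EtStalkPull

section Elements

variable {C : Type*} [Category C] {F₁ F₂ : C ⥤ Type w} (e : F₁ ≅ F₂)

lemma inv_hom_apply (X : C) (x : F₂.obj X) : e.hom.app X (e.inv.app X x) = x := by
  have := ConcreteCategory.congr_hom (e.inv_hom_id_app X) x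
  simpa using this

lemma hom_inv_apply (X : C) (x : F₁.obj X) : e.inv.app X (e.hom.app X x) = x := by
  have := ConcreteCategory.congr_hom (e.hom_inv_id_app X) x
  simpa using this

instance : (CategoryOfElements.map e.hom).Faithful where
  map_injective {t₁ t₂} k₁ k₂ h := by
    apply Subtype.ext
    have := congrArg Subtype.val h
    exact this

instance : (CategoryOfElements.map e.hom).Full where
  map_surjective {t₁ t₂} k := by
    refine ⟨⟨k.1, ?_⟩, Subtype.ext rfl⟩
    have h1 : F₂.map k.1 (e.hom.app t₁.1 t₁.2) = e.hom.app t₂.1 t₂.2 := k.2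
    have h2 : e.hom.app t₂.1 (F₁.map k.1 t₁.2) = F₂.map k.1 (e.hom.app t₁.1 t₁.2) :=
      NatTrans.naturality_apply e.hom k.1 t₁.2
    have h3 : e.hom.app t₂.1 (F₁.map k.1 t₁.2) = e.hom.app t₂.1 t₂.2 := h2.trans h1
    have := congrArg (e.inv.app t₂.1) h3
    exact (hom_inv_apply e t₂.1 _).symm.trans (this.trans (hom_inv_apply e t₂.1 _))

instance : (CategoryOfElements.map e.hom).EssSurj where
  mem_essImage t := by
    refine ⟨⟨t.1, e.inv.app t.1 t.2⟩, ⟨eqToIso ?_⟩⟩
    show (⟨t.1, e.hom.app t.1 (e.inv.app t.1 t.2)⟩ : F₂.Elements) = t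
    have : e.hom.app t.1 (e.inv.app t.1 t.2) = t.2 := inv_hom_apply e t.1 t.2
    rw [this]
    rfl

instance : (CategoryOfElements.map e.hom).IsEquivalence where

include e in
lemma initiallySmall_of_iso [InitiallySmall.{w} F₂.Elements] : InitiallySmall.{w} F₁.Elements := by
  have : (CategoryOfElements.map e.inv).IsEquivalence :=
    inferInstanceAs (CategoryOfElements.map e.symm.hom).IsEquivalence
  exact initiallySmall_of_initial_of_initiallySmall (CategoryOfElements.map e.inv)

end Elements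

variable {X Y : Scheme.{u}} (f : X ⟶ Y) {Ω : Type u} [Field Ω] [IsSepClosed Ω]
  (ξ : Spec (CommRingCat.of Ω) ⟶ X)

/-- the fibre functors of the points `ξ` (pulled back along base change) and `ξ ≫ f` agree -/
noncomputable def fiberIso :
    EtCoh.bc f ⋙ (Scheme.pointSmallEtale ξ).fiber ≅ (Scheme.pointSmallEtale (ξ ≫ f)).fiber :=
  Functor.isoWhiskerLeft (Scheme.Etale.forget Y)
    (((Over.mapPullbackAdj f).compCoyonedaIso).app (op (Over.mk ξ))).symm

instance : InitiallySmall.{u} (EtCoh.bc f ⋙ (Scheme.pointSmallEtale ξ).fiber).Elements :=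
  initiallySmall_of_iso (fiberIso f ξ)

/-- the point `ξ` transported to `Y` along base change -/
noncomputable abbrev comapPt : (Scheme.smallEtaleTopology Y).Point :=
  (Scheme.pointSmallEtale ξ).comap (EtCoh.bc f) (EtCoh.coverPreserving_bc f)

/-- it is the point `ξ ≫ f` -/
noncomputable def pointIso : comapPt f ξ ≅ Scheme.pointSmallEtale (ξ ≫ f) where
  hom := ⟨(fiberIso f ξ).inv⟩
  inv := ⟨(fiberIso f ξ).hom⟩
  hom_inv_id := by
    apply GrothendieckTopology.Point.hom_ext
    exact (fiberIso f ξ).hom_inv_id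
  inv_hom_id := by
    apply GrothendieckTopology.Point.hom_ext
    exact (fiberIso f ξ).inv_hom_id

section

variable {C : Type*} [Category C] {J : GrothendieckTopology C} {A : Type*} [Category A]
  [HasColimitsOfSize.{w, w} A]

/-- isomorphic points have isomorphic fibre functors -/
noncomputable def sheafFiberIsoOfIso {Φ₁ Φ₂ : GrothendieckTopology.Point.{w} J} (e : Φ₁ ≅ Φ₂) :
    Φ₂.sheafFiber (A := A) ≅ Φ₁.sheafFiber where
  hom := GrothendieckTopology.Point.Hom.sheafFiber e.hom
  inv := GrothendieckTopology.Point.Hom.sheafFiber e.inv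
  hom_inv_id := by
    rw [← GrothendieckTopology.Point.Hom.sheafFiber_comp, e.inv_hom_id,
      GrothendieckTopology.Point.Hom.sheafFiber_id]
  inv_hom_id := by
    rw [← GrothendieckTopology.Point.Hom.sheafFiber_comp, e.hom_inv_id,
      GrothendieckTopology.Point.Hom.sheafFiber_id]

end

/-- `(f⁻¹ -)_ξ ≅ (-)_{ξ ≫ f}` -/
noncomputable def stalkPullIso : EtCoh.pull f ⋙ EtCoh.stalk ξ ≅ EtCoh.stalk (ξ ≫ f) :=
  haveI : ((EtCoh.bc f).sheafPushforwardContinuous AddCommGrpCat.{u + 1}
      Y.smallEtaleTopology X.smallEtaleTopology).IsRightAdjoint :=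
    (EtCoh.pullPushAdj f).isRightAdjoint
  (GrothendieckTopology.Point.sheafFiberComapIso (Scheme.pointSmallEtale ξ) (EtCoh.bc f)
    (EtCoh.coverPreserving_bc f) AddCommGrpCat.{u + 1}).symm ≪≫
    (sheafFiberIsoOfIso (pointIso f ξ)).symm

theorem nonempty_stalk_pull_iso (G : EtCoh.Ab Y) :
    Nonempty ((EtCoh.stalk ξ).obj ((EtCoh.pull f).obj G) ≅ (EtCoh.stalk (ξ ≫ f)).obj G) :=
  ⟨(stalkPullIso f ξ).app G⟩

end Groth.Agent.Helper9.EtStalkPull
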