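import Mathlib
import Groth.Prelude.Def_EtBase
import Groth.Agent.Helper9.EtStalkExact
import Groth.Agent.Helper9.EtStalkPull

/-! Testing on a family of geometric points hitting every point; the unit `F ⟶ g_* g⁻¹ F` is mono
for surjective `g`. -/

set_option autoImplicit false
universe u

open CategoryTheory CategoryTheory.Limits Opposite AlgebraicGeometry

namespace Groth.Agent.Helper9.EtStalkFamily

open Groth.Agent.Helper9.EtStalkExact

variable {X : Scheme.{u}}

/-- a sieve on the small étale site is covering if over every point of `X` there is some geometric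
point all of whose lifts factor through a member of the sieve -/
theorem mem_of_family {U : X.Etale} (R : Sieve U)
    (h : ∀ x : X, ∃ (Ω : Type u) (_ : Field Ω) (_ : IsSepClosed Ω) (ξ : Spec (CommRingCat.of Ω) ⟶ X),
      ξ default = x ∧ ∀ (l : (Scheme.pointSmallEtale ξ).fiber.obj U),
      ∃ (V : X.Etale) (f : V ⟶ U) (_ : R f) (v : (Scheme.pointSmallEtale ξ).fiber.obj V),
        (Scheme.pointSmallEtale ξ).fiber.map f v = l) :
    R ∈ X.smallEtaleTopology U := by
  obtain ⟨α, T, f, rfl⟩ := R.exists_eq_ofArrows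
  rw [Scheme.ofArrows_mem_smallEtaleTopology_iff]
  ext x
  simp only [Set.mem_iUnion, Set.mem_range, Set.mem_univ, iff_true]
  obtain ⟨Ω, _, _, ξ, hi, h⟩ := h (U.hom x)
  obtain ⟨x', hx'⟩ := Scheme.pointSmallEtaleFiberObjToPreimage_surjective ξ hi U
    ⟨x, by simp⟩
  rw [Subtype.ext_iff] at hx'
  simp only [Functor.id_obj, Scheme.pointSmallEtaleFiberObjToPreimage_coe,
    Scheme.Etale.forget_obj_left] at hx'
  obtain ⟨W, g, ⟨Z, p, _, ⟨a⟩, rfl⟩, y, hy⟩ := h x'
  refine ⟨a, (Scheme.pointSmallEtaleFiberObjToPreimage ξ hi (y ≫ p.hom)).1, ?_⟩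
  refine Eq.trans ?_ hx'
  rw [← hy]
  rfl

section Concrete

variable {A : Type*} [Category A] [HasColimitsOfSize.{u, u} A]
  {FC : A → A → Type*} {CC : A → Type*}
  [∀ X Y : A, FunLike (FC X Y) (CC X) (CC Y)] [ConcreteCategory A FC]
  [PreservesFilteredColimitsOfSize.{u, u} (forget A)]

theorem isLocallyInjective_of_family {P Q : X.Etaleᵒᵖ ⥤ A} (a : P ⟶ Q)
    (h : ∀ x : X, ∃ (Ω : Type u) (_ : Field Ω) (_ : IsSepClosed Ω)
      (ξ : Spec (CommRingCat.of Ω) ⟶ X), ξ default = x ∧
      Function.Injective ((Scheme.pointSmallEtale ξ).presheafFiber.map a)) :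
    Presheaf.IsLocallyInjective X.smallEtaleTopology a where
  equalizerSieve_mem {U} x y hxy := by
    apply mem_of_family
    intro x₀
    obtain ⟨Ω, i1, i2, ξ, hξ, h⟩ := h x₀
    refine ⟨Ω, i1, i2, ξ, hξ, fun l => ?_⟩
    have h1 : (Scheme.pointSmallEtale ξ).toPresheafFiber U.unop l P x =
        (Scheme.pointSmallEtale ξ).toPresheafFiber U.unop l P y := by
      apply h
      rw [GrothendieckTopology.Point.toPresheafFiber_naturality_apply,
        GrothendieckTopology.Point.toPresheafFiber_naturality_apply, hxy]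
    obtain ⟨V, f, v, hv, hf⟩ :=
      ((Scheme.pointSmallEtale ξ).toPresheafFiber_eq_iff' U.unop l x y).1 h1
    exact ⟨V, f, hf, v, hv⟩

theorem isLocallySurjective_of_family {P Q : X.Etaleᵒᵖ ⥤ A} (a : P ⟶ Q)
    (h : ∀ x : X, ∃ (Ω : Type u) (_ : Field Ω) (_ : IsSepClosed Ω)
      (ξ : Spec (CommRingCat.of Ω) ⟶ X), ξ default = x ∧
      Function.Surjective ((Scheme.pointSmallEtale ξ).presheafFiber.map a)) :
    Presheaf.IsLocallySurjective X.smallEtaleTopology a where
  imageSieve_mem {U} t := by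
    apply mem_of_family
    intro x₀
    obtain ⟨Ω, i1, i2, ξ, hξ, h⟩ := h x₀
    exact ⟨Ω, i1, i2, ξ, hξ, fun l => exists_of_surjective (Scheme.pointSmallEtale ξ) a h t l⟩

end Concrete

section Ab

attribute [local instance] preservesFilteredColimits_forget_ab ab5_ab

theorem mono_of_family {F G : EtCoh.Ab X} (a : F ⟶ G)
    (h : ∀ x : X, ∃ (Ω : Type u) (_ : Field Ω) (_ : IsSepClosed Ω)
      (ξ : Spec (CommRingCat.of Ω) ⟶ X), ξ default = x ∧
      Function.Injective ((EtCoh.stalk ξ).map a)) : Mono a := by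
  have : Presheaf.IsLocallyInjective X.smallEtaleTopology a.hom :=
    isLocallyInjective_of_family a.hom h
  exact Sheaf.mono_of_isLocallyInjective a

theorem epi_of_family {F G : EtCoh.Ab X} (a : F ⟶ G)
    (h : ∀ x : X, ∃ (Ω : Type u) (_ : Field Ω) (_ : IsSepClosed Ω)
      (ξ : Spec (CommRingCat.of Ω) ⟶ X), ξ default = x ∧
      Function.Surjective ((EtCoh.stalk ξ).map a)) : Epi a := by
  have : Presheaf.IsLocallySurjective X.smallEtaleTopology a.hom :=
    isLocallySurjective_of_family a.hom h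
  exact Sheaf.epi_of_isLocallySurjective a

theorem isZero_of_family (F : EtCoh.Ab X)
    (h : ∀ x : X, ∃ (Ω : Type u) (_ : Field Ω) (_ : IsSepClosed Ω)
      (ξ : Spec (CommRingCat.of Ω) ⟶ X), ξ default = x ∧ IsZero ((EtCoh.stalk ξ).obj F)) :
    IsZero F := by
  have : Mono (0 : F ⟶ F) := by
    apply mono_of_family
    intro x
    obtain ⟨Ω, i1, i2, ξ, hξ, h⟩ := h x
    refine ⟨Ω, i1, i2, ξ, hξ, ?_⟩
    have : Subsingleton ↑((EtCoh.stalk ξ).obj F) := AddCommGrpCat.subsingleton_of_isZero h
    exact Function.injective_of_subsingleton _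
  exact IsZero.of_mono_zero F F

/-- a morphism killed by `g⁻¹`, `g` surjective, is zero on stalks at the points `ξ' ≫ g` -/
theorem mono_unit_of_surjective {Y Y' : Scheme.{u}} (g : Y' ⟶ Y) [Surjective g] (F : EtCoh.Ab Y) :
    Mono ((EtCoh.pullPushAdj g).unit.app F) := by
  set η := (EtCoh.pullPushAdj g).unit.app F with hη
  have : (EtCoh.pull g).IsLeftAdjoint := (EtCoh.pullPushAdj g).isLeftAdjoint
  -- the kernel
  have hK : IsZero (kernel η) := by
    apply isZero_of_family
    intro y
    obtain ⟨y', rfl⟩ := (inferInstance : Surjective g).surj y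
    refine ⟨_, inferInstance, inferInstance, geomPt y' ≫ g, ?_, ?_⟩
    · rw [Scheme.Hom.comp_apply, geomPt_default]
    · -- `g⁻¹ ι = 0`
      have h0 : (EtCoh.pull g).map (kernel.ι η) = 0 := by
        have h1 : (EtCoh.pull g).map (kernel.ι η) ≫ (EtCoh.pull g).map η = 0 := by
          rw [← Functor.map_comp, kernel.condition, Functor.map_zero]
        have h2 : (EtCoh.pull g).map η ≫ (EtCoh.pullPushAdj g).counit.app _ = 𝟙 _ :=
          (EtCoh.pullPushAdj g).left_triangle_components F
        calc (EtCoh.pull g).map (kernel.ι η)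
            = (EtCoh.pull g).map (kernel.ι η) ≫ (EtCoh.pull g).map η ≫
                (EtCoh.pullPushAdj g).counit.app _ := by rw [h2, Category.comp_id]
          _ = 0 := by rw [← Category.assoc, h1, zero_comp]
      have h3 : (EtCoh.stalk (geomPt y' ≫ g)).map (kernel.ι η) = 0 := by
        have nat := (Groth.Agent.Helper9.EtStalkPull.stalkPullIso g (geomPt y')).hom.naturality
          (kernel.ι η)
        have : (EtCoh.stalk (geomPt y' ≫ g)).map (kernel.ι η) =
            (Groth.Agent.Helper9.EtStalkPull.stalkPullIso g (geomPt y')).inv.app _ ≫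
              (EtCoh.pull g ⋙ EtCoh.stalk (geomPt y')).map (kernel.ι η) ≫
              (Groth.Agent.Helper9.EtStalkPull.stalkPullIso g (geomPt y')).hom.app _ := by
          rw [nat, Iso.inv_hom_id_app_assoc]
        rw [this, Functor.comp_map, h0, Functor.map_zero, zero_comp, comp_zero]
      have h4 : Mono ((EtCoh.stalk (geomPt y' ≫ g)).map (kernel.ι η)) := inferInstance
      rw [h3] at h4
      exact @IsZero.of_mono_zero _ _ _ _ _ h4
  exact Preadditive.mono_of_isZero_kernel η hK

end Ab

end Groth.Agent.Helper9.EtStalkFamily
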