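import Mathlib
import Groth.Prelude.Def_EtBase
import Groth.Agent.Helper3.SmoothLift

/-! On the spectrum of a strictly henselian local ring, global sections of an étale sheaf map
bijectively onto the stalk at the closed geometric point. -/

set_option autoImplicit false
universe u

open CategoryTheory CategoryTheory.Limits Opposite AlgebraicGeometry

namespace Groth.Agent.Helper9.EtStrictHensSect

variable (R : Type u) [CommRing R] [HenselianLocalRing R]
  [IsSepClosed (IsLocalRing.ResidueField R)]

/-- the closed geometric point -/
noncomputable abbrev xbar : Spec (CommRingCat.of (IsLocalRing.ResidueField R)) ⟶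
    Spec (CommRingCat.of R) :=
  Spec.map (CommRingCat.ofHom (IsLocalRing.residue R))

/-- the tautological lift of the closed geometric point to the terminal object -/
noncomputable abbrev l₀ : (Scheme.pointSmallEtale (xbar R)).fiber.obj
    (EtCoh.top (Spec (CommRingCat.of R))) :=
  Over.homMk (xbar R) (Category.comp_id _)

set_option backward.isDefEq.respectTransparency.types false in
/-- every étale neighbourhood of the closed geometric point admits a section -/
theorem exists_section (U : (Spec (CommRingCat.of R)).Etale)
    (l : (Scheme.pointSmallEtale (xbar R)).fiber.obj U) :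
    ∃ σ : EtCoh.top (Spec (CommRingCat.of R)) ⟶ U,
      (Scheme.pointSmallEtale (xbar R)).fiber.map σ (l₀ R) = l := by
  let lU : Spec (CommRingCat.of (IsLocalRing.ResidueField R)) ⟶ U.left := l.left
  have hlU : lU ≫ U.hom = xbar R := Over.w l
  have : AlgebraicGeometry.Etale U.hom := U.prop
  have : Smooth U.hom := inferInstance
  obtain ⟨σ, hσ1, hσ2⟩ := Groth.Agent.Helper3.SmoothLift.exists_section R U.hom lU hlU
  refine ⟨MorphismProperty.Over.homMk σ hσ1 trivial, ?_⟩
  apply Over.OverMorphism.ext
  exact hσ2


section Concrete

variable {A : Type*} [Category A] [HasColimitsOfSize.{u, u} A]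
  {FC : A → A → Type*} {CC : A → Type*}
  [∀ X Y : A, FunLike (FC X Y) (CC X) (CC Y)] [ConcreteCategory A FC]
  [PreservesFilteredColimitsOfSize.{u, u} (forget A)]

set_option backward.isDefEq.respectTransparency.types false in
theorem bijective_toPresheafFiber (P : (Spec (CommRingCat.of R)).Etaleᵒᵖ ⥤ A) :
    Function.Bijective ((Scheme.pointSmallEtale (xbar R)).toPresheafFiber
      (EtCoh.top (Spec (CommRingCat.of R))) (l₀ R) P) := by
  constructor
  · intro s₁ s₂ h
    obtain ⟨V, g, v, hv, hg⟩ :=
      ((Scheme.pointSmallEtale (xbar R)).toPresheafFiber_eq_iff' _ (l₀ R) s₁ s₂).1 h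
    obtain ⟨σ, -⟩ := exists_section R V v
    have hσg : σ ≫ g = 𝟙 _ := by
      apply MorphismProperty.Over.Hom.ext
      have h1 : (σ ≫ g).left ≫ (EtCoh.top (Spec (CommRingCat.of R))).hom =
          (EtCoh.top (Spec (CommRingCat.of R))).hom := MorphismProperty.Over.w (σ ≫ g)
      exact (Category.comp_id _).symm.trans h1
    have e := congrArg (P.map σ.op) hg
    rw [← ConcreteCategory.comp_apply, ← ConcreteCategory.comp_apply, ← Functor.map_comp,
      ← op_comp, hσg] at e
    simpa using e
  · intro t
    obtain ⟨U, l, s, rfl⟩ := (Scheme.pointSmallEtale (xbar R)).toPresheafFiber_jointly_surjective t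
    obtain ⟨σ, hσ⟩ := exists_section R U l
    refine ⟨P.map σ.op s, ?_⟩
    have e := (Scheme.pointSmallEtale (xbar R)).toPresheafFiber_w_apply σ (l₀ R) P s
    rw [hσ] at e
    exact e

end Concrete

end Groth.Agent.Helper9.EtStrictHensSect
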