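import Mathlib
import Groth.Prelude.Def_EtBase
import Groth.Agent.Helper9.EtStrictHensSect
import Groth.Agent.Helper9.EtStalkExact

/-! Étale cohomology of the spectrum of a strictly henselian local ring vanishes in positive
degrees: global sections is the stalk at the closed geometric point, hence exact, so the
constant sheaf `ℤ` is projective. -/

set_option autoImplicit false
universe u

open CategoryTheory CategoryTheory.Limits Opposite AlgebraicGeometry

namespace Groth.Agent.Helper9.EtStrictHensCoh

open Groth.Agent.Helper9.EtStrictHensSect Groth.Agent.Helper9.EtStalkExact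

variable (R : Type u) [CommRing R] [HenselianLocalRing R]
  [IsSepClosed (IsLocalRing.ResidueField R)]

attribute [local instance] preservesFilteredColimits_forget_ab ab5_ab

/-- global sections send epimorphisms to surjections -/
theorem surjective_sections_of_epi {F G : EtCoh.Ab (Spec (CommRingCat.of R))} (φ : F ⟶ G)
    [Epi φ] :
    Function.Surjective (φ.hom.app (op (EtCoh.top (Spec (CommRingCat.of R))))) := by
  intro t
  have hs := (epi_iff_stalks φ).1 inferInstance _ (xbar R)
  obtain ⟨s', hs'⟩ := hs ((Scheme.pointSmallEtale (xbar R)).toPresheafFiber _ (l₀ R) G.obj t)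
  obtain ⟨s, rfl⟩ := (bijective_toPresheafFiber R F.obj).2 s'
  refine ⟨s, (bijective_toPresheafFiber R G.obj).1 ?_⟩
  rw [← hs']
  exact ((Scheme.pointSmallEtale (xbar R)).toPresheafFiber_naturality_apply φ.hom _ (l₀ R) s).symm

/-- `ULift ℤ` is a projective abelian group -/
theorem projective_ulift_int : Projective (AddCommGrpCat.of (ULift.{u + 1} ℤ)) := by
  constructor
  intro E X f e he
  have hsurj : Function.Surjective e := (AddCommGrpCat.epi_iff_surjective e).1 he
  obtain ⟨y, hy⟩ := hsurj (f (ULift.up 1))
  refine ⟨AddCommGrpCat.ofHom ((zmultiplesHom E y).comp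
    (AddEquiv.ulift.toAddMonoidHom : ULift.{u + 1} ℤ →+ ℤ)), ?_⟩
  ext x
  have hx : x = x.down • (ULift.up 1 : ULift.{u + 1} ℤ) := by
    apply ULift.ext
    simp
  have h2 : f x = x.down • f (ULift.up 1) := by
    conv_lhs => rw [hx]
    exact map_zsmul f.hom _ _
  simp only [AddCommGrpCat.hom_comp, AddCommGrpCat.hom_ofHom]
  change e (x.down • y) = f x
  rw [h2, ← hy]
  exact map_zsmul e.hom _ _

instance : ((sheafSections (Spec (CommRingCat.of R)).smallEtaleTopology AddCommGrpCat.{u + 1}).obj
    (op (EtCoh.top (Spec (CommRingCat.of R))))).PreservesEpimorphisms where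
  preserves φ hφ := by
    rw [AddCommGrpCat.epi_iff_surjective]
    exact surjective_sections_of_epi R φ

/-- the constant sheaf `ℤ` is projective -/
theorem projective_const :
    Projective ((constantSheaf (Spec (CommRingCat.of R)).smallEtaleTopology
      AddCommGrpCat.{u + 1}).obj (AddCommGrpCat.of (ULift.{u + 1} ℤ))) :=
  have hT : IsTerminal (EtCoh.top (Spec (CommRingCat.of R))) :=
    MorphismProperty.Over.mkIdTerminal EtCoh.etaleMP.{u} _
  (constantSheafAdj (Spec (CommRingCat.of R)).smallEtaleTopology AddCommGrpCat.{u + 1}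
    hT).map_projective _ projective_ulift_int

theorem main (F : EtCoh.Ab (Spec (CommRingCat.of R)))
    (p : ℕ) (hp : 1 ≤ p) : Subsingleton (EtCoh.H (Spec (CommRingCat.of R)) F p) := by
  have := projective_const R
  obtain ⟨n, rfl⟩ : ∃ n, p = n + 1 := ⟨p - 1, by omega⟩
  exact Abelian.Ext.subsingleton_of_projective _ _ _
    
end Groth.Agent.Helper9.EtStrictHensCoh
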