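import Mathlib

/-! Ring-level: a finite étale algebra has rank one at a prime with a unique prime above it and
trivial residue field extension (in elementwise form). -/

set_option autoImplicit false
universe u

open TensorProduct

namespace Groth.Agent.Helper9.RankOneRing

variable {R S : Type u} [CommRing R] [CommRing S] [Algebra R S] [Module.Finite R S]
  [Algebra.Etale R S]

theorem rankAtStalk_eq_one (q : Ideal R) [q.IsPrime] (p : Ideal S) [p.IsPrime] [p.LiesOver q]
    (huniq : ∀ p' : Ideal S, p'.IsPrime → p'.LiesOver q → p' = p)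
    (H : ∀ s : S, ∃ a a' : R, algebraMap R S a' ∉ p ∧
      s * algebraMap R S a' - algebraMap R S a ∈ p) :
    Module.rankAtStalk (R := R) S ⟨q, inferInstance⟩ = 1 := by
  have : Module.Flat R S := inferInstance
  rw [Module.rankAtStalk_eq]
  show Module.finrank q.ResidueField (q.Fiber S) = 1
  have hred : IsReduced (q.Fiber S) :=
    Algebra.FormallyUnramified.isReduced_of_field q.ResidueField (q.Fiber S)
  let e := PrimeSpectrum.primesOverOrderIsoFiber R S q
  let p₀ : q.primesOver S := ⟨p, inferInstance, inferInstance⟩
  let P₀ : PrimeSpectrum (q.Fiber S) := e p₀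
  have hsub : ∀ P : PrimeSpectrum (q.Fiber S), P = P₀ := by
    intro P
    have h1 : e.symm P = p₀ := Subtype.ext (huniq _ (e.symm P).2.1 (e.symm P).2.2)
    rw [← e.apply_symm_apply P, h1]
  have hP₀ : P₀.asIdeal = ⊥ := by
    rw [eq_bot_iff]
    intro x hx
    have hnil : x ∈ nilradical (q.Fiber S) := by
      rw [nilradical_eq_sInf, Ideal.mem_sInf]
      intro J hJ
      have := hsub ⟨J, hJ⟩
      rw [← congrArg PrimeSpectrum.asIdeal this] at hx
      exact hx
    have : x = 0 := by
      have h0 : nilradical (q.Fiber S) = ⊥ := nilradical_eq_zero _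
      rw [h0] at hnil
      exact hnil
    exact this
  have hzero : ∀ t ∈ p, (1 : q.ResidueField) ⊗ₜ[R] t = (0 : q.Fiber S) := by
    intro t ht
    have h1 : (e.symm P₀ : Ideal S) = p := by
      rw [e.symm_apply_apply]
    rw [PrimeSpectrum.coe_primesOverOrderIsoFiber_symm_apply] at h1
    have h2 : t ∈ P₀.asIdeal.comap Algebra.TensorProduct.includeRight := by
      rw [h1]; exact ht
    have h3 : (Algebra.TensorProduct.includeRight t : q.Fiber S) ∈ P₀.asIdeal := h2
    rw [hP₀] at h3
    exact h3
  have hsurj : Function.Surjective (algebraMap q.ResidueField (q.Fiber S)) := by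
    intro x
    obtain ⟨r, hr, s, hrs⟩ := Ideal.Fiber.exists_smul_eq_one_tmul q x
    obtain ⟨a, a', ha', haa⟩ := H s
    have ha'q : a' ∉ q := by
      intro h
      apply ha'
      have h2 : a' ∈ p.under R := by rw [← p.over_def q]; exact h
      exact h2
    have h1 : (1 : q.ResidueField) ⊗ₜ[R] (s * algebraMap R S a') =
        (1 : q.ResidueField) ⊗ₜ[R] (algebraMap R S a) := by
      have := hzero _ haa
      rw [TensorProduct.tmul_sub] at this
      exact sub_eq_zero.1 this
    have hu : algebraMap R q.ResidueField (r * a') ≠ 0 := by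
      rw [Ne, Ideal.algebraMap_residueField_eq_zero]
      exact fun h => (Ideal.IsPrime.mem_or_mem inferInstance h).elim hr ha'q
    have h2 : (r * a') • x = algebraMap q.ResidueField (q.Fiber S) (algebraMap R q.ResidueField a) := by
      rw [mul_comm, mul_smul, hrs, TensorProduct.smul_tmul', TensorProduct.smul_tmul,
        Algebra.smul_def, mul_comm, h1, Algebra.algebraMap_eq_smul_one a,
        ← TensorProduct.smul_tmul, Algebra.TensorProduct.algebraMap_apply]
      simp [Algebra.smul_def]
    have h3 : (r * a') • x = algebraMap q.ResidueField (q.Fiber S)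
        (algebraMap R q.ResidueField (r * a')) * x := by
      rw [Algebra.smul_def, IsScalarTower.algebraMap_apply R q.ResidueField (q.Fiber S)]
    refine ⟨(algebraMap R q.ResidueField (r * a'))⁻¹ * algebraMap R q.ResidueField a, ?_⟩
    rw [map_mul, ← h2, h3, ← mul_assoc, ← map_mul, inv_mul_cancel₀ hu, map_one, one_mul]
  have hnt : Nontrivial (q.Fiber S) := P₀.nontrivial
  have hle : Module.finrank q.ResidueField (q.Fiber S) ≤ 1 := by
    have := LinearMap.finrank_le_finrank_of_surjective (R := q.ResidueField)
      (f := Algebra.linearMap q.ResidueField (q.Fiber S)) hsurj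
    simpa using this
  have hpos : 0 < Module.finrank q.ResidueField (q.Fiber S) := Module.finrank_pos
  omega

end Groth.Agent.Helper9.RankOneRing
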