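import Mathlib
import Groth.Agent.Helper9.RankOneRing
import Groth.Agent.Helper3.QFRes

/-! A finite étale morphism has rank one at a point with a unique preimage and trivial residue
field extension. -/

set_option autoImplicit false
universe u

open CategoryTheory CategoryTheory.Limits AlgebraicGeometry

namespace Groth.Agent.Helper9.FinEtRankOne

open Groth.Agent.Helper3

/-- converse of `QFRes.specRes` -/
theorem specRes_conv {A B : CommRingCat.{u}} (ψ : A ⟶ B) (t : Spec B)
    (h : Function.Surjective ((Spec.map ψ).residueFieldMap t).hom) (b : B) :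
    ∃ a a' : A, ψ.hom a' ∉ t.asIdeal ∧ b * ψ.hom a' - ψ.hom a ∈ t.asIdeal := by
  obtain ⟨c, hc⟩ := h ((QFRes.ev B t).hom b)
  obtain ⟨n, d, hd, hnd⟩ := QFRes.ev_fraction A (Spec.map ψ t) c
  refine ⟨n, d, ?_, ?_⟩
  · intro hmem
    have h1 := (QFRes.ev_eq_zero_iff B t _).mpr hmem
    rw [← QFRes.ev_naturality] at h1
    exact hd ((map_eq_zero _).mp h1)
  · rw [← QFRes.ev_eq_zero_iff, map_sub, map_mul, sub_eq_zero, ← QFRes.ev_naturality,
      ← QFRes.ev_naturality, ← hnd, map_mul, hc, mul_comm]

theorem finrank_SpecMap_eq_one {R S : CommRingCat.{u}} (φ : R ⟶ S) (hfin : φ.hom.Finite)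
    (het : φ.hom.Etale) (p : Spec S)
    (huniq : ∀ p' : Spec S, Spec.map φ p' = Spec.map φ p → p' = p)
    (hres : Function.Surjective ((Spec.map φ).residueFieldMap p).hom) :
    (Spec.map φ).finrank (Spec.map φ p) = 1 := by
  have hflat : φ.hom.Flat := (RingHom.Etale.iff_flat_and_formallyUnramified.1 het).1
  rw [Scheme.Hom.finrank_SpecMap_eq_finrank hfin hflat]
  algebraize [φ.hom]
  rw [← RingHom.algebraMap_toAlgebra φ.hom, RingHom.finrank_algebraMap]
  have hq : (Spec.map φ p).asIdeal.IsPrime := (Spec.map φ p).isPrime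
  have hp : p.asIdeal.IsPrime := p.isPrime
  have hlo : p.asIdeal.LiesOver (Spec.map φ p).asIdeal := ⟨rfl⟩
  have hmod : Module.Finite R S := hfin
  have hetA : Algebra.Etale R S := het
  refine RankOneRing.rankAtStalk_eq_one (Spec.map φ p).asIdeal p.asIdeal ?_ ?_
  · intro p' hp' hlo'
    have h1 : Spec.map φ ⟨p', hp'⟩ = Spec.map φ p := by
      apply PrimeSpectrum.ext
      exact (hlo'.over).symm
    exact congrArg PrimeSpectrum.asIdeal (huniq ⟨p', hp'⟩ h1)
  · intro s
    exact specRes_conv φ p hres s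

theorem residue_surj_of_square {X Y Z W : Scheme.{u}} (ρ : X ⟶ Y) [IsOpenImmersion ρ] (k : Y ⟶ Z)
    (a : X ⟶ W) (j : W ⟶ Z) [IsOpenImmersion j] (e : ρ ≫ k = a ≫ j) (t : X)
    (h : Function.Surjective (k.residueFieldMap (ρ t)).hom) :
    Function.Surjective (a.residueFieldMap t).hom := by
  have h1 : Function.Surjective ((ρ ≫ k).residueFieldMap t).hom := by
    rw [Scheme.residueFieldMap_comp]
    have h2 : Function.Bijective (ρ.residueFieldMap t).hom :=
      (ConcreteCategory.isIso_iff_bijective (ρ.residueFieldMap t)).mp inferInstance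
    exact h2.2.comp h
  rw [Scheme.Hom.residueFieldMap_congr e t, Scheme.residueFieldMap_comp] at h1
  exact Function.Surjective.of_comp h1

theorem finrank_eq_one {P Q : Scheme.{u}} (b : P ⟶ Q) [IsFinite b] [Etale b] (p : P)
    (huniq : ∀ p', b p' = b p → p' = p)
    (hres : Function.Surjective (b.residueFieldMap p).hom) :
    b.finrank (b p) = 1 := by
  have : Flat b := inferInstance
  wlog hY : ∃ R, Q = Spec R generalizing P Q
  · obtain ⟨R, g, hg, y, hy⟩ := Q.exists_Spec_apply_eq (b p)
    rw [← hy, ← Scheme.Hom.finrank_pullback_snd]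
    obtain ⟨z, hzl, hzr⟩ := Scheme.Pullback.exists_preimage_pullback (f := b) (g := g) p y hy.symm
    subst hzl
    rw [← hzr]
    refine this (pullback.snd b g) z ?_ ?_ inferInstance ⟨_, rfl⟩
    · intro z' hz'
      have h1 : b (pullback.fst b g z') = b (pullback.fst b g z) := by
        rw [← Scheme.Hom.comp_apply, ← Scheme.Hom.comp_apply, pullback.condition,
          Scheme.Hom.comp_apply, Scheme.Hom.comp_apply, hz']
      have h2 := huniq _ h1
      exact (pullback.fst b g).isOpenEmbedding.injective h2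
    · exact residue_surj_of_square (pullback.fst b g) b (pullback.snd b g) g pullback.condition z hres
  obtain ⟨R, rfl⟩ := hY
  wlog hX : ∃ S, P = Spec S generalizing P
  · have _ : IsAffine P := isAffine_of_isAffineHom b
    have heq : b p = (P.isoSpec.inv ≫ b) (P.isoSpec.hom p) := by simp
    rw [← Scheme.Hom.finrank_comp_left_of_isIso P.isoSpec.inv, heq]
    refine this (P.isoSpec.hom p) (P.isoSpec.inv ≫ b) ?_ ?_ inferInstance ⟨_, rfl⟩
    · intro p' hp'
      rw [← heq] at hp'
      have h1 : b (P.isoSpec.inv p') = b p := by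
        rw [← Scheme.Hom.comp_apply]; exact hp'
      have h2 := huniq _ h1
      rw [← h2]
      simp
    · refine residue_surj_of_square P.isoSpec.inv b (P.isoSpec.inv ≫ b) (𝟙 _) (by simp) _ ?_
      have h3 : P.isoSpec.inv (P.isoSpec.hom p) = p := by simp
      rw [h3]
      exact hres
  obtain ⟨S, rfl⟩ := hX
  obtain ⟨φ, rfl⟩ := Spec.map_surjective b
  have hfin : φ.hom.Finite := (IsFinite.SpecMap_iff φ).1 inferInstance
  have het : φ.hom.Etale := HasRingHomProperty.Spec_iff.1 (inferInstance : Etale (Spec.map φ))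
  exact finrank_SpecMap_eq_one φ hfin het p huniq hres

/-- the rank-one locus of a finite étale morphism is open and closed, and the morphism is an
isomorphism over it -/
theorem exists_clopen_iso {P Q : Scheme.{u}} (b : P ⟶ Q) [IsFinite b] [Etale b] (q : Q)
    (hq : b.finrank q = 1) :
    ∃ W : Q.Opens, IsClosed (W : Set Q) ∧ q ∈ W ∧ IsIso (b ∣_ W) := by
  have : Flat b := inferInstance
  have hlc := Scheme.Hom.isLocallyConstant_finrank b
  let W : Q.Opens := ⟨b.finrank ⁻¹' {1}, hlc.isOpen_fiber 1⟩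
  refine ⟨W, hlc.isClosed_fiber 1, hq, ?_⟩
  rw [Scheme.Hom.isIso_iff_finrank_eq]
  ext w
  rw [Scheme.Hom.finrank_of_isPullback _ _ _ _ (isPullback_morphismRestrict b W).flip w]
  exact w.2

end Groth.Agent.Helper9.FinEtRankOne
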