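import Mathlib
import Groth.Prelude.Def_BigSite
import Groth.Agent.Helper9.FinEtRankOne
import Groth.Agent.Helper3.QFFinal2
import Groth.Agent.Helper4.SchLQF

/-! Condition (A) for separated locally quasi-finite morphisms. -/

set_option autoImplicit false
set_option linter.style.haveILetI false
universe u

open CategoryTheory CategoryTheory.Limits AlgebraicGeometry

namespace Groth.Agent.Helper9.PropAQF

/-- transfer of pure inseparability of the residue field extension through an open immersion -/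
theorem pi_transfer {P T V : Scheme.{u}} (ρ : P ⟶ T) [IsOpenImmersion ρ] (k : T ⟶ V) (p : P)
    (h : letI := (k.residueFieldMap (ρ p)).hom.toAlgebra
      IsPurelyInseparable (V.residueField (k (ρ p))) (T.residueField (ρ p))) :
    letI := ((ρ ≫ k).residueFieldMap p).hom.toAlgebra
    IsPurelyInseparable (V.residueField ((ρ ≫ k) p)) (P.residueField p) := by
  letI A1 : Algebra (V.residueField (k (ρ p))) (T.residueField (ρ p)) :=
    (k.residueFieldMap (ρ p)).hom.toAlgebra
  letI A3 : Algebra (V.residueField (k (ρ p))) (P.residueField p) :=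
    ((ρ ≫ k).residueFieldMap p).hom.toAlgebra
  haveI : IsPurelyInseparable (V.residueField (k (ρ p))) (T.residueField (ρ p)) := h
  have hbij : Function.Bijective (ρ.residueFieldMap p).hom :=
    (ConcreteCategory.isIso_iff_bijective (ρ.residueFieldMap p)).mp inferInstance
  let e0 : T.residueField (ρ p) ≃+* P.residueField p :=
    RingEquiv.ofBijective (ρ.residueFieldMap p).hom hbij
  let e : T.residueField (ρ p) ≃ₐ[V.residueField (k (ρ p))] P.residueField p :=
    { e0 with
      commutes' := by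
        intro r
        change (ρ.residueFieldMap p).hom ((k.residueFieldMap (ρ p)).hom r) =
          ((ρ ≫ k).residueFieldMap p).hom r
        rw [Scheme.residueFieldMap_comp]
        rfl }
  exact e.isPurelyInseparable

/-- separable and purely inseparable over a subfield: surjective residue field map -/
theorem residue_surj {P Q V : Scheme.{u}} (b : P ⟶ Q) [Etale b] (s : Q ⟶ V) (p : P)
    (h : letI := ((b ≫ s).residueFieldMap p).hom.toAlgebra
      IsPurelyInseparable (V.residueField ((b ≫ s) p)) (P.residueField p)) :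
    Function.Surjective (b.residueFieldMap p).hom := by
  letI A1 : Algebra (V.residueField (s (b p))) (Q.residueField (b p)) :=
    (s.residueFieldMap (b p)).hom.toAlgebra
  letI A2 : Algebra (Q.residueField (b p)) (P.residueField p) :=
    (b.residueFieldMap p).hom.toAlgebra
  letI A3 : Algebra (V.residueField (s (b p))) (P.residueField p) :=
    ((b ≫ s).residueFieldMap p).hom.toAlgebra
  haveI : IsScalarTower (V.residueField (s (b p))) (Q.residueField (b p)) (P.residueField p) := by
    refine IsScalarTower.of_algebraMap_eq fun r => ?_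
    change ((b ≫ s).residueFieldMap p).hom r =
      (b.residueFieldMap p).hom ((s.residueFieldMap (b p)).hom r)
    rw [Scheme.residueFieldMap_comp]
    rfl
  haveI : IsPurelyInseparable (V.residueField (s (b p))) (P.residueField p) := h
  haveI : IsPurelyInseparable (Q.residueField (b p)) (P.residueField p) :=
    IsPurelyInseparable.tower_top (V.residueField (s (b p))) (Q.residueField (b p))
      (P.residueField p)
  haveI : Algebra.IsSeparable (Q.residueField (b p)) (P.residueField p) := inferInstance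
  exact IsPurelyInseparable.surjective_algebraMap_of_isSeparable (Q.residueField (b p))
    (P.residueField p)


/-- the key step, on an étale piece `g₀ : U₀ ⟶ X` with `g₀ ≫ f` separated -/
theorem main {X Y U₀ : Scheme.{u}} (f : X ⟶ Y) [IsSeparated f] (g₀ : U₀ ⟶ X) [Etale g₀]
    [IsSeparated (g₀ ≫ f)] [LocallyOfFiniteType (g₀ ≫ f)] (u₀ : U₀)
    (hqf : (g₀ ≫ f).QuasiFiniteAt u₀) :
    ∃ (V : Scheme.{u}) (v : V ⟶ Y) (_ : Etale v) (W : (pullback f v).Opens)
      (_ : IsClosed (W : Set ↥(pullback f v))) (h : (W : Scheme.{u}) ⟶ U₀),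
      h ≫ g₀ = W.ι ≫ pullback.fst f v ∧ u₀ ∈ Set.range h.base := by
  obtain ⟨V, v, pt, hv, hpt, J, hJ, Pc, pp, hclopen, hdisj, hpc, hlast⟩ :=
    Groth.Agent.Helper3.QFFinal.main_sep (g₀ ≫ f) ((g₀ ≫ f) u₀) (ι := Unit) (fun _ => u₀)
      (fun _ _ _ => rfl) (fun _ => rfl) (fun _ => hqf)
  haveI : Etale v := hv
  obtain ⟨w, hw1, hw2⟩ :=
    Scheme.Pullback.exists_preimage_pullback (f := g₀ ≫ f) (g := v) u₀ pt hpt.symm
  obtain ⟨j, hj⟩ := hlast w () hw2 hw1
  obtain ⟨hppmem, hfin, hsnd, huniq, hpi, hfst⟩ := hpc () j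
  let P : (pullback (g₀ ≫ f) v).Opens := Pc () j
  let a : pullback (g₀ ≫ f) v ⟶ pullback f v :=
    pullback.lift (pullback.fst (g₀ ≫ f) v ≫ g₀) (pullback.snd (g₀ ≫ f) v)
      (by rw [Category.assoc, pullback.condition])
  have ha1 : a ≫ pullback.fst f v = pullback.fst (g₀ ≫ f) v ≫ g₀ := pullback.lift_fst _ _ _
  have ha2 : a ≫ pullback.snd f v = pullback.snd (g₀ ≫ f) v := pullback.lift_snd _ _ _
  have hpb : IsPullback a (pullback.fst (g₀ ≫ f) v) (pullback.fst f v) g₀ := by
    refine IsPullback.of_right ?_ ha1 (IsPullback.of_hasPullback f v).flip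
    rw [ha2]
    exact (IsPullback.of_hasPullback (g₀ ≫ f) v).flip
  haveI : Etale a := MorphismProperty.of_isPullback (P := @Etale) hpb.flip inferInstance
  let b : (P : Scheme.{u}) ⟶ pullback f v := P.ι ≫ a
  have hb2 : b ≫ pullback.snd f v = P.ι ≫ pullback.snd (g₀ ≫ f) v := by
    simp only [b, Category.assoc, ha2]
  haveI : IsFinite (b ≫ pullback.snd f v) := by rw [hb2]; exact hfin
  haveI : IsFinite b := IsFinite.of_comp b (pullback.snd f v)
  haveI : Etale b := inferInstance
  let p' : (P : Scheme.{u}) := ⟨pp () j, hppmem⟩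
  have hιp' : P.ι p' = pp () j := rfl
  have huniq' : ∀ p'' : (P : Scheme.{u}), b p'' = b p' → p'' = p' := by
    intro p'' hp''
    have h1 : (b ≫ pullback.snd f v) p'' = (b ≫ pullback.snd f v) p' :=
      congrArg (pullback.snd f v) hp''
    rw [hb2, Scheme.Hom.comp_apply, Scheme.Hom.comp_apply, hιp', hsnd] at h1
    have h2 := huniq (P.ι p'') p''.2 h1
    exact Subtype.ext h2
  have hres : Function.Surjective (b.residueFieldMap p').hom := by
    refine residue_surj b (pullback.snd f v) p' ?_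
    have h3 := pi_transfer P.ι (pullback.snd (g₀ ≫ f) v) p' hpi
    have key : ∀ (c c' : (P : Scheme.{u}) ⟶ V) (e : c = c'),
        (letI := (c'.residueFieldMap p').hom.toAlgebra
         IsPurelyInseparable (V.residueField (c' p')) ((P : Scheme.{u}).residueField p')) →
        (letI := (c.residueFieldMap p').hom.toAlgebra
         IsPurelyInseparable (V.residueField (c p')) ((P : Scheme.{u}).residueField p')) := by
      intro c c' e hh; subst e; exact hh
    exact key _ _ hb2 h3
  have hrk := FinEtRankOne.finrank_eq_one b p' huniq' hres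
  obtain ⟨W, hWcl, hWmem, hWiso⟩ := FinEtRankOne.exists_clopen_iso b (b p') hrk
  haveI := hWiso
  refine ⟨V, v, hv, W, hWcl,
    inv (b ∣_ W) ≫ (b ⁻¹ᵁ W).ι ≫ P.ι ≫ pullback.fst (g₀ ≫ f) v, ?_, ?_⟩
  · simp only [Category.assoc]
    rw [IsIso.inv_comp_eq]
    rw [← ha1, ← Category.assoc P.ι, ← morphismRestrict_ι_assoc]
  · refine ⟨(b ∣_ W) ⟨p', hWmem⟩, ?_⟩
    have h5 : (inv (b ∣_ W)) ((b ∣_ W) ⟨p', hWmem⟩) = ⟨p', hWmem⟩ := by
      have h6 := Scheme.Hom.comp_apply (b ∣_ W) (inv (b ∣_ W)) ⟨p', hWmem⟩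
      rw [IsIso.hom_inv_id] at h6
      exact h6.symm
    rw [Scheme.Hom.comp_apply, h5]
    exact hfst


theorem propA {X Y : Scheme.{u}} (f : X ⟶ Y) [IsSeparated f]
    [LocallyQuasiFinite f] [LocallyOfFiniteType f] : BigSite.PropA f := by
  intro U g _ u
  obtain ⟨_, ⟨U₀', hU₀, rfl⟩, hu, -⟩ := U.isBasis_affineOpens.exists_subset_of_mem_open
    (Set.mem_univ u) isOpen_univ
  obtain ⟨U₀, rfl⟩ : ∃ U₀ : U.Opens, U₀ = U₀' := ⟨U₀', rfl⟩
  have hU₀aff : IsAffineOpen (U₀ : U.Opens) := hU₀
  haveI : IsAffine (U₀ : Scheme.{u}) := hU₀aff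
  let g₀ : (U₀ : Scheme.{u}) ⟶ X := U₀.ι ≫ g
  haveI : Etale g₀ := inferInstance
  haveI : LocallyQuasiFinite g₀ := Groth.Agent.Helper4.SchLQF.locallyQuasiFinite_of_etale g₀
  haveI : LocallyQuasiFinite (g₀ ≫ f) := inferInstance
  haveI : IsSeparated (g₀ ≫ f) := inferInstance
  haveI : LocallyOfFiniteType (g₀ ≫ f) := inferInstance
  obtain ⟨V, v, hv, W, hW, h, h1, h2⟩ := main f g₀ ⟨u, hu⟩ ((g₀ ≫ f).quasiFiniteAt _)
  refine ⟨V, v, hv, W, hW, h ≫ U₀.ι, ?_, ?_⟩
  · rw [Category.assoc]; exact h1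
  · obtain ⟨y, hy⟩ := h2
    refine ⟨y, ?_⟩
    change U₀.ι (h y) = u
    have : h y = ⟨u, hu⟩ := hy
    rw [this]
    rfl

end Groth.Agent.Helper9.PropAQF
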