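import Mathlib
import Groth.Prelude.Def_BigSite
import Groth.Agent.Helper9.PropAQF
import Groth.Agent.Helper3.QFFinal

/-! Multi-point version of the key step of condition (A), without separatedness of the source. -/

set_option autoImplicit false
set_option linter.style.haveILetI false
universe u

open CategoryTheory CategoryTheory.Limits AlgebraicGeometry

namespace Groth.Agent.Helper9.PropAQF2

open Groth.Agent.Helper9.PropAQF

theorem exists_preimage_of_isPullback {P X Y S : Scheme.{u}} {fst : P ⟶ X} {snd : P ⟶ Y}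
    {f : X ⟶ S} {g : Y ⟶ S} (h : IsPullback fst snd f g) (x : X) (y : Y) (hxy : f x = g y) :
    ∃ z : P, fst z = x ∧ snd z = y := by
  obtain ⟨z, hz1, hz2⟩ := Scheme.Pullback.exists_preimage_pullback x y hxy
  refine ⟨h.isoPullback.inv z, ?_, ?_⟩
  · rw [← Scheme.Hom.comp_apply, h.isoPullback_inv_fst, hz1]
  · rw [← Scheme.Hom.comp_apply, h.isoPullback_inv_snd, hz2]

/-- the comparison `U ×_Y V ⟶ X ×_Y V` -/
noncomputable def liftMap {X Y U V : Scheme.{u}} (f : X ⟶ Y) (g : U ⟶ X) (v : V ⟶ Y) :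
    pullback (g ≫ f) v ⟶ pullback f v :=
  pullback.lift (pullback.fst (g ≫ f) v ≫ g) (pullback.snd (g ≫ f) v)
    (by rw [Category.assoc, pullback.condition])

section

variable {X Y U V : Scheme.{u}} (f : X ⟶ Y) (g : U ⟶ X) (v : V ⟶ Y)

@[reassoc]
theorem liftMap_fst : liftMap f g v ≫ pullback.fst f v = pullback.fst (g ≫ f) v ≫ g :=
  pullback.lift_fst _ _ _

@[reassoc]
theorem liftMap_snd : liftMap f g v ≫ pullback.snd f v = pullback.snd (g ≫ f) v :=
  pullback.lift_snd _ _ _

theorem liftMap_isPullback :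
    IsPullback (liftMap f g v) (pullback.fst (g ≫ f) v) (pullback.fst f v) g := by
  refine IsPullback.of_right ?_ (liftMap_fst f g v) (IsPullback.of_hasPullback f v).flip
  rw [liftMap_snd]
  exact (IsPullback.of_hasPullback (g ≫ f) v).flip

instance [Etale g] : Etale (liftMap f g v) :=
  MorphismProperty.of_isPullback (P := @Etale) (liftMap_isPullback f g v).flip inferInstance

/-- one finite piece with a unique point over `pt` and purely inseparable residue field extension
gives an open and closed subscheme of `X ×_Y V` with a section to `U`. -/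
theorem piece [IsSeparated f] [Etale g] (P : (pullback (g ≫ f) v).Opens)
    (pp : ↥(pullback (g ≫ f) v)) (hppmem : pp ∈ P)
    (hfin : IsFinite (P.ι ≫ pullback.snd (g ≫ f) v))
    (huniq : ∀ w ∈ P, pullback.snd (g ≫ f) v w = pullback.snd (g ≫ f) v pp → w = pp)
    (hpi : letI := ((pullback.snd (g ≫ f) v).residueFieldMap pp).hom.toAlgebra
      IsPurelyInseparable (V.residueField (pullback.snd (g ≫ f) v pp))
        ((pullback (g ≫ f) v).residueField pp)) :
    ∃ (W : (pullback f v).Opens), IsClosed (W : Set ↥(pullback f v)) ∧ liftMap f g v pp ∈ W ∧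
      ∃ h : (W : Scheme.{u}) ⟶ U, h ≫ g = W.ι ≫ pullback.fst f v := by
  let a := liftMap f g v
  have ha1 : a ≫ pullback.fst f v = pullback.fst (g ≫ f) v ≫ g := liftMap_fst f g v
  have ha2 : a ≫ pullback.snd f v = pullback.snd (g ≫ f) v := liftMap_snd f g v
  let b : (P : Scheme.{u}) ⟶ pullback f v := P.ι ≫ a
  have hb2 : b ≫ pullback.snd f v = P.ι ≫ pullback.snd (g ≫ f) v := by
    simp only [b, Category.assoc, ha2]
  haveI : IsFinite (b ≫ pullback.snd f v) := by rw [hb2]; exact hfin
  haveI : IsFinite b := IsFinite.of_comp b (pullback.snd f v)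
  haveI : Etale b := inferInstance
  let p' : (P : Scheme.{u}) := ⟨pp, hppmem⟩
  have hιp' : P.ι p' = pp := rfl
  have huniq' : ∀ p'' : (P : Scheme.{u}), b p'' = b p' → p'' = p' := by
    intro p'' hp''
    have h1 : (b ≫ pullback.snd f v) p'' = (b ≫ pullback.snd f v) p' :=
      congrArg (pullback.snd f v) hp''
    rw [hb2, Scheme.Hom.comp_apply, Scheme.Hom.comp_apply, hιp'] at h1
    have h2 := huniq (P.ι p'') p''.2 h1
    exact Subtype.ext h2
  have hres : Function.Surjective (b.residueFieldMap p').hom := by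
    refine residue_surj b (pullback.snd f v) p' ?_
    have h3 := pi_transfer P.ι (pullback.snd (g ≫ f) v) p' hpi
    have key : ∀ (c c' : (P : Scheme.{u}) ⟶ V) (e : c = c'),
        (letI := (c'.residueFieldMap p').hom.toAlgebra
         IsPurelyInseparable (V.residueField (c' p')) ((P : Scheme.{u}).residueField p')) →
        (letI := (c.residueFieldMap p').hom.toAlgebra
         IsPurelyInseparable (V.residueField (c p')) ((P : Scheme.{u}).residueField p')) := by
      intro c c' e hh; subst e; exact hh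
    exact key _ _ hb2 h3
  have hrk := FinEtRankOne.finrank_eq_one b p' huniq' hres
  obtain ⟨W, hWcl, hWmem, hWiso⟩ := FinEtRankOne.exists_clopen_iso b (b p') hrk
  haveI := hWiso
  refine ⟨W, hWcl, hWmem,
    inv (b ∣_ W) ≫ (b ⁻¹ᵁ W).ι ≫ P.ι ≫ pullback.fst (g ≫ f) v, ?_⟩
  simp only [Category.assoc]
  rw [IsIso.inv_comp_eq]
  rw [← ha1, ← Category.assoc P.ι, ← morphismRestrict_ι_assoc]

end

/-- multi-point version -/
theorem main_multi {X Y U : Scheme.{u}} (f : X ⟶ Y) [IsSeparated f] (g : U ⟶ X) [Etale g]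
    [LocallyOfFiniteType (g ≫ f)] (s : Y) {ι : Type} [Finite ι] (x : ι → U)
    (hs : ∀ i, (g ≫ f) (x i) = s) (hqf : ∀ i, (g ≫ f).QuasiFiniteAt (x i)) :
    ∃ (V : Scheme.{u}) (v : V ⟶ Y) (pt : V), Etale v ∧ v pt = s ∧
      ∃ (m : ι → ℕ) (W : ∀ i, Fin (m i) → (pullback f v).Opens),
        (∀ i j, IsClosed ((W i j : (pullback f v).Opens) : Set ↥(pullback f v))) ∧
        (∀ i j, ∃ h : ((W i j : (pullback f v).Opens) : Scheme.{u}) ⟶ U,
          h ≫ g = (W i j).ι ≫ pullback.fst f v) ∧
        ∀ (z : ↥(pullback f v)) (i : ι), pullback.snd f v z = pt →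
          pullback.fst f v z = g (x i) → ∃ j, z ∈ W i j := by
  obtain ⟨V, v, pt, hpt, hv, hsplit, H⟩ :=
    Groth.Agent.Helper3.QFFinal.stageB (g ≫ f) s x hs hqf
  choose m Pc pp H1 H2 H3 using H
  haveI : Etale v := hv
  have hpiece : ∀ i (j : Fin (m i)), ∃ (W : (pullback f v).Opens),
      IsClosed (W : Set ↥(pullback f v)) ∧ liftMap f g v (pp i j) ∈ W ∧
      ∃ h : (W : Scheme.{u}) ⟶ U, h ≫ g = W.ι ≫ pullback.fst f v := by
    intro i j
    obtain ⟨hmem, hfin, hsnd, hfst, huniq⟩ := H1 i j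
    refine piece f g v (Pc i j) (pp i j) hmem hfin ?_ ?_
    · intro w hw hw2
      exact huniq w hw (hw2.trans hsnd)
    · have h1 := (hsplit i).congr (g ≫ f) v (pp i j) hfst hsnd
      exact Groth.Agent.Helper3.PtResidue.isPurelyInseparable_of_splitAt (g ≫ f) v (pp i j) s _ _ h1
  choose W hWcl hWmem hWh using hpiece
  refine ⟨V, v, pt, hv, hpt, m, W, hWcl, hWh, ?_⟩
  intro z i hz1 hz2
  obtain ⟨w, hw1, hw2⟩ := exists_preimage_of_isPullback (liftMap_isPullback f g v) z (x i) hz2
  have hw3 : pullback.snd (g ≫ f) v w = pt := by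
    rw [← liftMap_snd f g v, Scheme.Hom.comp_apply, hw1, hz1]
  obtain ⟨j, hj⟩ := H3 i w hw3 hw2
  refine ⟨j, ?_⟩
  rw [← hw1, hj]
  exact hWmem i j

end Groth.Agent.Helper9.PropAQF2
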