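import Mathlib
import Groth.Prelude.Def_BigSite
import Groth.Agent.Helper9.PropAQF2
import Groth.Agent.Helper3.EtLocalShrink
import Groth.Agent.Helper4.SchLQF

/-! Local form of condition (B) for finite morphisms. -/

set_option autoImplicit false
set_option linter.style.haveILetI false
universe u

open CategoryTheory CategoryTheory.Limits AlgebraicGeometry

namespace Groth.Agent.Helper9.LocalB

/-- local form of condition (B) at a point `y` of the base, for a single étale map whose image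
contains the fibre over `y`. -/
def LocalB1 {X Y : Scheme.{u}} (f : X ⟶ Y) (y : Y) : Prop :=
  ∀ (U : Scheme.{u}) (g : U ⟶ X) [Etale g], (∀ x : X, f x = y → x ∈ Set.range g) →
    ∃ (V : Scheme.{u}) (v : V ⟶ Y) (pt : V), Etale v ∧ v pt = y ∧
      ∃ h : pullback f v ⟶ U, h ≫ g = pullback.fst f v

theorem glue_disjoint {T U : Scheme.{u}} {s : Type*} (O : s → T.Opens)
    (hdisj : ∀ a b, a ≠ b → Disjoint (O a) (O b)) (hcov : ⨆ a, O a = ⊤)
    (φ : ∀ a, (O a : Scheme.{u}) ⟶ U) : ∃ h : T ⟶ U, ∀ a, (O a).ι ≫ h = φ a := by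
  classical
  let 𝒰 := T.openCoverOfIsOpenCover O hcov
  have compat : ∀ a b, pullback.fst (𝒰.f a) (𝒰.f b) ≫ φ a = pullback.snd _ _ ≫ φ b := by
    intro a b
    by_cases hab : a = b
    · subst hab
      have : pullback.fst (𝒰.f a) (𝒰.f a) = pullback.snd _ _ := by
        rw [← cancel_mono (𝒰.f a)]; exact pullback.condition
      exact congrArg (fun t => t ≫ φ a) this
    · have : IsEmpty ↥(pullback (𝒰.f a) (𝒰.f b)) := by
        constructor
        intro z
        have h1 : (pullback.fst (𝒰.f a) (𝒰.f b) ≫ 𝒰.f a) z ∈ O a :=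
          ((pullback.fst (𝒰.f a) (𝒰.f b)) z).2
        have h2 : (pullback.fst (𝒰.f a) (𝒰.f b) ≫ 𝒰.f a) z ∈ O b := by
          rw [pullback.condition]; exact ((pullback.snd (𝒰.f a) (𝒰.f b)) z).2
        exact (hdisj a b hab).le_bot ⟨h1, h2⟩
      exact (isInitialOfIsEmpty (X := pullback (𝒰.f a) (𝒰.f b))).hom_ext _ _
  exact ⟨𝒰.glueMorphisms φ compat, fun a => 𝒰.ι_glueMorphisms φ compat a⟩

theorem localB1_of_isFinite {X Y : Scheme.{u}} (f : X ⟶ Y) [IsFinite f] (y : Y) :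
    LocalB1 f y := by
  intro U g _ hcov
  classical
  have hfin : (f ⁻¹' {y}).Finite := f.finite_preimage_singleton y
  haveI : Finite ↥(f ⁻¹' {y}) := hfin.to_subtype
  obtain ⟨n, ⟨e⟩⟩ := Finite.exists_equiv_fin ↥(f ⁻¹' {y})
  have hx : ∀ k : Fin n, ∃ u : U, g u = (e.symm k).1 := fun k => hcov _ (e.symm k).2
  choose u hu using hx
  haveI : LocallyQuasiFinite g := Groth.Agent.Helper4.SchLQF.locallyQuasiFinite_of_etale g
  haveI : LocallyQuasiFinite (g ≫ f) := inferInstance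
  haveI : LocallyOfFiniteType (g ≫ f) := inferInstance
  have hs : ∀ k, (g ≫ f) (u k) = y := by
    intro k
    rw [Scheme.Hom.comp_apply, hu]; exact (e.symm k).2
  obtain ⟨V, v, pt, hv, hpt, m, W, hWcl, hWh, hWcov⟩ :=
    PropAQF2.main_multi f g y u hs (fun k => (g ≫ f).quasiFiniteAt _)
  haveI : Etale v := hv
  choose hW hhW using hWh
  -- reindex
  obtain ⟨N, ⟨σ⟩⟩ := Finite.exists_equiv_fin (Σ k : Fin n, Fin (m k))
  let c : Fin N → Set ↥(pullback f v) := fun a => (W (σ.symm a).1 (σ.symm a).2 : Set _)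
  have hc : ∀ a, IsClopen (c a) := fun a => ⟨hWcl _ _, (W _ _).2⟩
  have hcc : ∀ p : (Σ k : Fin n, Fin (m k)), c (σ p) = (W p.1 p.2 : Set _) := by
    intro p
    simp only [c]
    rw [σ.symm_apply_apply]
  let S : Fin N → Set ↥(pullback f v) := disjointed c
  have hS : ∀ a, IsClopen (S a) := fun a => disjointedRec (fun t i ht => ht.diff (hc i)) (hc a)
  have hSc : ∀ a, S a ⊆ c a := fun a => disjointed_le c a
  have hSdisj : Pairwise (Function.onFun Disjoint S) := disjoint_disjointed c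
  have hSU : ⋃ a, S a = ⋃ a, c a := iUnion_disjointed
  -- bad locus
  let R : Set ↥(pullback f v) := (⋃ a, c a)ᶜ
  have hRcl : IsClosed R := (isOpen_iUnion fun a => (hc a).2).isClosed_compl
  let Z : Set V := pullback.snd f v '' R
  have hZcl : IsClosed Z := (pullback.snd f v).isClosedMap _ hRcl
  have hptZ : pt ∉ Z := by
    rintro ⟨z, hzR, hz⟩
    apply hzR
    have h1 : f (pullback.fst f v z) = y := by
      rw [← Scheme.Hom.comp_apply, pullback.condition, Scheme.Hom.comp_apply, hz, hpt]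
    let k := e ⟨pullback.fst f v z, h1⟩
    have h2 : pullback.fst f v z = g (u k) := by
      rw [hu]; simp [k]
    obtain ⟨j, hj⟩ := hWcov z k hz h2
    refine Set.mem_iUnion.2 ⟨σ ⟨k, j⟩, ?_⟩
    rw [hcc ⟨k, j⟩]
    exact hj
  let V₁ : V.Opens := ⟨Zᶜ, hZcl.isOpen_compl⟩
  obtain ⟨κ, hκo, hκ1, hκ2, hκr, -⟩ := Groth.Agent.Helper3.EtLocalShrink.restrict f v V₁
  haveI := hκo
  have hκmem : ∀ w, κ w ∈ ⋃ a, S a := by
    intro w
    rw [hSU]
    by_contra hcon
    have h4 : pullback.snd f v (κ w) ∈ Z := ⟨κ w, hcon, rfl⟩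
    have h3 : pullback.snd f v (κ w) ∈ V₁ := by
      rw [← Scheme.Hom.comp_apply, hκ2, Scheme.Hom.comp_apply]
      exact (pullback.snd f (V₁.ι ≫ v) w).2
    exact h3 h4
  let O : Fin N → (pullback f (V₁.ι ≫ v)).Opens :=
    fun a => ⟨κ ⁻¹' S a, (hS a).2.preimage κ.continuous⟩
  have hOdisj : ∀ a b, a ≠ b → Disjoint (O a) (O b) := by
    intro a b hab
    rw [disjoint_iff]
    ext z
    simp only [TopologicalSpace.Opens.coe_inf, TopologicalSpace.Opens.coe_bot, Set.mem_inter_iff,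
      Set.mem_empty_iff_false, iff_false, not_and]
    intro hza hzb
    exact Set.disjoint_left.1 (hSdisj hab) hza hzb
  have hOcov : ⨆ a, O a = ⊤ := by
    rw [eq_top_iff]
    intro z _
    obtain ⟨a, ha⟩ := Set.mem_iUnion.1 (hκmem z)
    exact TopologicalSpace.Opens.mem_iSup.2 ⟨a, ha⟩
  -- morphisms
  have hlift : ∀ a, ∃ φ : (O a : Scheme.{u}) ⟶ U,
      φ ≫ g = (O a).ι ≫ pullback.fst f (V₁.ι ≫ v) := by
    intro a
    have hr : Set.range ((O a).ι ≫ κ) ⊆ Set.range (W (σ.symm a).1 (σ.symm a).2).ι := by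
      rintro _ ⟨z, rfl⟩
      rw [Scheme.Opens.range_ι]
      exact hSc a z.2
    refine ⟨IsOpenImmersion.lift (W (σ.symm a).1 (σ.symm a).2).ι ((O a).ι ≫ κ) hr ≫ hW _ _, ?_⟩
    rw [Category.assoc, hhW, IsOpenImmersion.lift_fac_assoc, Category.assoc, hκ1]
  choose φ hφ using hlift
  obtain ⟨h, hh⟩ := glue_disjoint O hOdisj hOcov φ
  refine ⟨V₁, V₁.ι ≫ v, ⟨pt, hptZ⟩, inferInstance, hpt, h, ?_⟩
  apply ((pullback f (V₁.ι ≫ v)).openCoverOfIsOpenCover O hOcov).hom_ext
  intro a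
  have e1 : (O a).ι ≫ h ≫ g = (O a).ι ≫ pullback.fst f (V₁.ι ≫ v) :=
    (Category.assoc _ _ _).symm.trans ((congrArg (fun t => t ≫ g) (hh a)).trans (hφ a))
  exact e1

end Groth.Agent.Helper9.LocalB
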