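import Mathlib
import Groth.Prelude.Def_BigSite
import Groth.Agent.Helper9.LocalBFin

/-! A common local form of conditions (A) and (B), for finite morphisms. -/

set_option autoImplicit false
set_option linter.style.haveILetI false
universe u

open CategoryTheory CategoryTheory.Limits AlgebraicGeometry

namespace Groth.Agent.Helper9.LocalG

open Groth.Agent.Helper9.LocalB

/-- After an étale localisation `(V, pt) ⟶ (Y, y)` there is an open and closed subscheme `W` of
(a model `P` of) `X ×_Y V` with an `X`-morphism to `U`, containing all points over `pt` whose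
image in `X` lies in the image of `U`. -/
def GConcl {X Y U : Scheme.{u}} (f : X ⟶ Y) (g : U ⟶ X) (y : Y) : Prop :=
  ∃ (V : Scheme.{u}) (v : V ⟶ Y) (pt : V), Etale v ∧ v pt = y ∧
    ∃ (P : Scheme.{u}) (p₁ : P ⟶ X) (p₂ : P ⟶ V), IsPullback p₁ p₂ f v ∧
      ∃ (W : P.Opens), IsClosed (W : Set P) ∧
        (∀ z : P, p₂ z = pt → p₁ z ∈ Set.range g → z ∈ W) ∧
        ∃ h : (W : Scheme.{u}) ⟶ U, h ≫ g = W.ι ≫ p₁

theorem gConcl_of_isFinite {X Y U : Scheme.{u}} (f : X ⟶ Y) [IsFinite f] (g : U ⟶ X) [Etale g]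
    (y : Y) : GConcl f g y := by
  classical
  have hfin : (f ⁻¹' {y} ∩ Set.range g).Finite :=
    (f.finite_preimage_singleton y).subset Set.inter_subset_left
  haveI : Finite ↥(f ⁻¹' {y} ∩ Set.range g) := hfin.to_subtype
  obtain ⟨n, ⟨e⟩⟩ := Finite.exists_equiv_fin ↥(f ⁻¹' {y} ∩ Set.range g)
  have hx : ∀ k : Fin n, ∃ u : U, g u = (e.symm k).1 := fun k => (e.symm k).2.2
  choose u hu using hx
  haveI : LocallyQuasiFinite g := Groth.Agent.Helper4.SchLQF.locallyQuasiFinite_of_etale g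
  haveI : LocallyQuasiFinite (g ≫ f) := inferInstance
  haveI : LocallyOfFiniteType (g ≫ f) := inferInstance
  have hs : ∀ k, (g ≫ f) (u k) = y := by
    intro k
    rw [Scheme.Hom.comp_apply, hu]; exact (e.symm k).2.1
  obtain ⟨V, v, pt, hv, hpt, m, W, hWcl, hWh, hWcov⟩ :=
    PropAQF2.main_multi f g y u hs (fun k => (g ≫ f).quasiFiniteAt _)
  haveI : Etale v := hv
  choose hW hhW using hWh
  -- reindex
  obtain ⟨N, ⟨σ⟩⟩ := Finite.exists_equiv_fin (Σ k : Fin n, Fin (m k))
  let c : Fin N → Set ↥(pullback f v) := fun a => (W (σ.symm a).1 (σ.symm a).2 : Set _)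
  have hc : ∀ a, IsClopen (c a) := fun a => ⟨hWcl _ _, (W _ _).2⟩
  have hcc : ∀ p : (Σ k : Fin n, Fin (m k)), c (σ p) = (W p.1 p.2 : Set _) := by
    intro p
    simp only [c]
    rw [σ.symm_apply_apply]
  let S : Fin N → Set ↥(pullback f v) := disjointed c
  have hS : ∀ a, IsClopen (S a) := fun a => disjointedRec (fun t i ht => ht.diff (hc i)) (hc a)
  have hSc : ∀ a, S a ⊆ c a := fun a => disjointed_le c a
  have hSdisj : Pairwise (Function.onFun Disjoint S) := disjoint_disjointed c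
  have hSU : ⋃ a, S a = ⋃ a, c a := iUnion_disjointed
  have hUopen : IsOpen (⋃ a, c a) := isOpen_iUnion fun a => (hc a).2
  have hUclosed : IsClosed (⋃ a, c a) := isClosed_iUnion_of_finite fun a => (hc a).1
  let Wt : (pullback f v).Opens := ⟨⋃ a, c a, hUopen⟩
  let O : Fin N → (Wt : Scheme.{u}).Opens :=
    fun a => ⟨Wt.ι ⁻¹' S a, (hS a).2.preimage Wt.ι.continuous⟩
  have hOdisj : ∀ a b, a ≠ b → Disjoint (O a) (O b) := by
    intro a b hab
    rw [disjoint_iff]
    ext z
    simp only [TopologicalSpace.Opens.coe_inf, TopologicalSpace.Opens.coe_bot, Set.mem_inter_iff,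
      Set.mem_empty_iff_false, iff_false, not_and]
    intro hza hzb
    exact Set.disjoint_left.1 (hSdisj hab) hza hzb
  have hOcov : ⨆ a, O a = ⊤ := by
    rw [eq_top_iff]
    intro z _
    have hz : Wt.ι z ∈ ⋃ a, S a := by
      rw [hSU]; exact z.2
    obtain ⟨a, ha⟩ := Set.mem_iUnion.1 hz
    exact TopologicalSpace.Opens.mem_iSup.2 ⟨a, ha⟩
  have hlift : ∀ a, ∃ φ : (O a : Scheme.{u}) ⟶ U,
      φ ≫ g = (O a).ι ≫ Wt.ι ≫ pullback.fst f v := by
    intro a
    have hr : Set.range ((O a).ι ≫ Wt.ι) ⊆ Set.range (W (σ.symm a).1 (σ.symm a).2).ι := by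
      rintro _ ⟨z, rfl⟩
      rw [Scheme.Opens.range_ι]
      exact hSc a z.2
    refine ⟨IsOpenImmersion.lift (W (σ.symm a).1 (σ.symm a).2).ι ((O a).ι ≫ Wt.ι) hr ≫ hW _ _,
      ?_⟩
    rw [Category.assoc, hhW, IsOpenImmersion.lift_fac_assoc, Category.assoc]
  choose φ hφ using hlift
  obtain ⟨h, hh⟩ := glue_disjoint O hOdisj hOcov φ
  refine ⟨V, v, pt, hv, hpt, pullback f v, pullback.fst f v, pullback.snd f v,
    IsPullback.of_hasPullback f v, Wt, hUclosed, ?_, h, ?_⟩
  · intro z hz1 hz2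
    have h1 : f (pullback.fst f v z) = y := by
      rw [← Scheme.Hom.comp_apply, pullback.condition, Scheme.Hom.comp_apply, hz1, hpt]
    let k := e ⟨pullback.fst f v z, h1, hz2⟩
    have h2 : pullback.fst f v z = g (u k) := by
      rw [hu]; simp [k]
    obtain ⟨j, hj⟩ := hWcov z k hz1 h2
    refine Set.mem_iUnion.2 ⟨σ ⟨k, j⟩, ?_⟩
    rw [hcc ⟨k, j⟩]
    exact hj
  · apply ((Wt : Scheme.{u}).openCoverOfIsOpenCover O hOcov).hom_ext
    intro a
    have e1 : (O a).ι ≫ h ≫ g = (O a).ι ≫ Wt.ι ≫ pullback.fst f v :=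
      (Category.assoc _ _ _).symm.trans ((congrArg (fun t => t ≫ g) (hh a)).trans (hφ a))
    exact e1

end Groth.Agent.Helper9.LocalG
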