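import Mathlib
import Groth.Prelude.Def_BigSite
import Groth.Agent.Helper9.GFin

/-! The local form of conditions (A) and (B) for an integral ring map, by descent of étale
algebras to a finite subalgebra. -/

set_option autoImplicit false
set_option linter.style.haveILetI false
universe u

open CategoryTheory CategoryTheory.Limits AlgebraicGeometry TensorProduct

namespace Groth.Agent.Helper9.LocalG

theorem core {A B C : Type u} [CommRing A] [CommRing B] [CommRing C] [Algebra A B] [Algebra B C]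
    [Algebra.IsIntegral A B] [Algebra.Etale B C] (y : Spec (CommRingCat.of A)) :
    GConcl (Spec.map (CommRingCat.ofHom (algebraMap A B)))
      (Spec.map (CommRingCat.ofHom (algebraMap B C))) y := by
  obtain ⟨B₀, C₀, _, _, hfg, het, ⟨e⟩⟩ := Algebra.Etale.exists_subalgebra_fg A B C
  haveI : Algebra.IsIntegral A B₀ :=
    Algebra.IsIntegral.of_injective (B₀.val) Subtype.val_injective
  haveI : Algebra.FiniteType A B₀ := (Subalgebra.fg_iff_finiteType B₀).1 hfg
  haveI : Module.Finite A B₀ := Algebra.IsIntegral.finite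
  let φ₁ : CommRingCat.of A ⟶ CommRingCat.of B₀ := CommRingCat.ofHom (algebraMap A B₀)
  let ι₀ : CommRingCat.of B₀ ⟶ CommRingCat.of B := CommRingCat.ofHom (algebraMap B₀ B)
  let ψ₁ : CommRingCat.of B₀ ⟶ CommRingCat.of C₀ := CommRingCat.ofHom (algebraMap B₀ C₀)
  let f₁ := Spec.map φ₁
  let π := Spec.map ι₀
  let g₁ := Spec.map ψ₁
  haveI : IsFinite f₁ := (IsFinite.SpecMap_iff φ₁).2 (RingHom.finite_algebraMap.2 inferInstance)
  haveI : Etale g₁ := HasRingHomProperty.Spec_iff.2 (RingHom.etale_algebraMap.2 het)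
  let f := Spec.map (CommRingCat.ofHom (algebraMap A B))
  let g := Spec.map (CommRingCat.ofHom (algebraMap B C))
  have hfac : f = π ≫ f₁ := by
    rw [← Spec.map_comp]
    rfl
  obtain ⟨V, v, pt, hv, hpt, P₁, q₁, q₂, sq₁, W₁, hW₁cl, hW₁cov, h₁, hh₁⟩ :=
    gConcl_of_isFinite f₁ g₁ y
  let q : pullback f v ⟶ P₁ := sq₁.lift (pullback.fst f v ≫ π) (pullback.snd f v)
    (by rw [Category.assoc, ← hfac, pullback.condition])
  have hq1 : q ≫ q₁ = pullback.fst f v ≫ π := sq₁.lift_fst _ _ _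
  have hq2 : q ≫ q₂ = pullback.snd f v := sq₁.lift_snd _ _ _
  let W : (pullback f v).Opens := q ⁻¹ᵁ W₁
  -- the tensor square
  let iL : CommRingCat.of B ⟶ CommRingCat.of (B ⊗[B₀] C₀) :=
    CommRingCat.ofHom Algebra.TensorProduct.includeLeftRingHom
  let iR : CommRingCat.of C₀ ⟶ CommRingCat.of (B ⊗[B₀] C₀) :=
    CommRingCat.ofHom Algebra.TensorProduct.includeRight.toRingHom
  have sqT : IsPullback (Spec.map iL) (Spec.map iR) π g₁ :=
    isPullback_SpecMap_of_isPushout _ _ _ _ (CommRingCat.isPushout_tensorProduct B₀ B C₀)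
  let eC : CommRingCat.of C ⟶ CommRingCat.of (B ⊗[B₀] C₀) :=
    CommRingCat.ofHom e.toRingEquiv.toRingHom
  let eC' : CommRingCat.of (B ⊗[B₀] C₀) ⟶ CommRingCat.of C :=
    CommRingCat.ofHom e.symm.toRingEquiv.toRingHom
  have hR1 : iL ≫ eC' = CommRingCat.ofHom (algebraMap B C) := by
    ext b
    exact e.symm.commutes b
  have hR2 : CommRingCat.ofHom (algebraMap B C) ≫ eC = iL := by
    ext b
    exact e.commutes b
  have hcond : (W.ι ≫ pullback.fst f v) ≫ π = ((q ∣_ W₁) ≫ h₁) ≫ g₁ := by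
    rw [Category.assoc, Category.assoc, hh₁, morphismRestrict_ι_assoc, hq1]
  let t : (W : Scheme.{u}) ⟶ Spec (CommRingCat.of (B ⊗[B₀] C₀)) :=
    sqT.lift (W.ι ≫ pullback.fst f v) ((q ∣_ W₁) ≫ h₁) hcond
  have ht1 : t ≫ Spec.map iL = W.ι ≫ pullback.fst f v := sqT.lift_fst _ _ _
  refine ⟨V, v, pt, hv, hpt, pullback f v, pullback.fst f v, pullback.snd f v,
    IsPullback.of_hasPullback f v, W, hW₁cl.preimage q.continuous, ?_, t ≫ Spec.map eC, ?_⟩
  · intro z hz1 hz2
    show q z ∈ W₁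
    refine hW₁cov (q z) ?_ ?_
    · rw [← Scheme.Hom.comp_apply, hq2, hz1]
    · obtain ⟨c, hc⟩ := hz2
      refine ⟨Spec.map iR (Spec.map eC' c), ?_⟩
      have h5 : g ≫ π = Spec.map eC' ≫ Spec.map iR ≫ g₁ := by
        have h9 : g = Spec.map eC' ≫ Spec.map iL := by rw [← Spec.map_comp, hR1]
        rw [h9, Category.assoc, sqT.w]
      have h7 : q₁ (q z) = π (pullback.fst f v z) := by
        rw [← Scheme.Hom.comp_apply, hq1, Scheme.Hom.comp_apply]
      rw [h7, ← hc]
      have h8 : (g ≫ π) c = (Spec.map eC' ≫ Spec.map iR ≫ g₁) c := by rw [h5]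
      exact h8.symm
  · have h6 : Spec.map eC ≫ g = Spec.map iL := by
      rw [← Spec.map_comp, hR2]
    rw [Category.assoc, h6, ht1]

end Groth.Agent.Helper9.LocalG
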