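import Mathlib
import Groth.Prelude.Def_BigSite
import Groth.Agent.Helper9.GCore

/-! The local form of conditions (A) and (B) for integral morphisms of affine schemes. -/

set_option autoImplicit false
set_option linter.style.haveILetI false
universe u

open CategoryTheory CategoryTheory.Limits AlgebraicGeometry TensorProduct

namespace Groth.Agent.Helper9.LocalG

theorem gConcl_of_iso {X Y U X' Y' U' : Scheme.{u}} (f : X ⟶ Y) (g : U ⟶ X) (f' : X' ⟶ Y')
    (g' : U' ⟶ X') (eX : X' ≅ X) (eY : Y' ≅ Y) (eU : U' ≅ U)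
    (hf : f' ≫ eY.hom = eX.hom ≫ f) (hg : g' ≫ eX.hom = eU.hom ≫ g)
    (y' : Y') (H : GConcl f' g' y') : GConcl f g (eY.hom y') := by
  obtain ⟨V, v, pt, hv, hpt, P, p₁, p₂, sq, W, hWcl, hcov, h, hh⟩ := H
  haveI := hv
  have sq2 : IsPullback eX.hom f' f eY.hom := IsPullback.of_horiz_isIso ⟨hf.symm⟩
  refine ⟨V, v ≫ eY.hom, pt, inferInstance, ?_, P, p₁ ≫ eX.hom, p₂, sq.paste_horiz sq2, W, hWcl,
    ?_, h ≫ eU.hom, ?_⟩
  · rw [Scheme.Hom.comp_apply, hpt]
  · intro z hz1 hz2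
    refine hcov z hz1 ?_
    obtain ⟨c, hc⟩ := hz2
    refine ⟨eU.inv c, ?_⟩
    have h1 : eX.hom (g' (eU.inv c)) = eX.hom (p₁ z) := by
      rw [← Scheme.Hom.comp_apply, hg, Scheme.Hom.comp_apply, ← Scheme.Hom.comp_apply eU.inv,
        Iso.inv_hom_id]
      exact hc
    have h2 := congrArg eX.inv h1
    rwa [← Scheme.Hom.comp_apply, ← Scheme.Hom.comp_apply eX.hom, Iso.hom_inv_id] at h2
  · rw [Category.assoc, ← hg, ← Category.assoc, hh, Category.assoc]

theorem gConcl_Spec {A B C : CommRingCat.{u}} (φ : A ⟶ B) (ψ : B ⟶ C)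
    [IsIntegralHom (Spec.map φ)] [Etale (Spec.map ψ)] (y : Spec A) :
    GConcl (Spec.map φ) (Spec.map ψ) y := by
  have hφ : φ.hom.IsIntegral := IsIntegralHom.SpecMap_iff.1 inferInstance
  have hψ : ψ.hom.Etale := HasRingHomProperty.Spec_iff.1 (inferInstance : Etale (Spec.map ψ))
  letI : Algebra A B := φ.hom.toAlgebra
  letI : Algebra B C := ψ.hom.toAlgebra
  haveI : Algebra.IsIntegral A B := ⟨hφ⟩
  haveI : Algebra.Etale B C := hψ
  exact core (A := A) (B := B) (C := C) y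

theorem gConcl_affine {X Y U : Scheme.{u}} [IsAffine X] [IsAffine Y] [IsAffine U] (f : X ⟶ Y)
    [IsIntegralHom f] (g : U ⟶ X) [Etale g] (y : Y) : GConcl f g y := by
  have hf : Spec.map f.appTop ≫ Y.isoSpec.inv = X.isoSpec.inv ≫ f :=
    Scheme.isoSpec_inv_naturality f
  have hg : Spec.map g.appTop ≫ X.isoSpec.inv = U.isoSpec.inv ≫ g :=
    Scheme.isoSpec_inv_naturality g
  haveI : IsIntegralHom (Spec.map f.appTop) := by
    have h1 : Spec.map f.appTop = X.isoSpec.inv ≫ f ≫ Y.isoSpec.hom := by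
      rw [← Category.assoc, ← hf, Category.assoc, Iso.inv_hom_id, Category.comp_id]
    rw [h1]
    infer_instance
  haveI : Etale (Spec.map g.appTop) := by
    have h1 : Spec.map g.appTop = U.isoSpec.inv ≫ g ≫ X.isoSpec.hom := by
      rw [← Category.assoc, ← hg, Category.assoc, Iso.inv_hom_id, Category.comp_id]
    rw [h1]
    infer_instance
  have H := gConcl_Spec f.appTop g.appTop (Y.isoSpec.hom y)
  have H2 := gConcl_of_iso f g (Spec.map f.appTop) (Spec.map g.appTop) X.isoSpec.symm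
    Y.isoSpec.symm U.isoSpec.symm hf hg _ H
  have h3 : Y.isoSpec.symm.hom (Y.isoSpec.hom y) = y := by
    rw [Iso.symm_hom, ← Scheme.Hom.comp_apply, Iso.hom_inv_id]
    rfl
  rwa [h3] at H2

end Groth.Agent.Helper9.LocalG
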