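import Mathlib
import Groth.Prelude.Def_BigSite
import Groth.Agent.Helper9.LocalBFin

/-! Condition (B) from its local form on all étale base changes. -/

set_option autoImplicit false
set_option linter.style.haveILetI false
universe u

open CategoryTheory CategoryTheory.Limits AlgebraicGeometry

namespace Groth.Agent.Helper9.LocalB

theorem map_eq_inv_fst {X Y V V' : Scheme.{u}} (f : X ⟶ Y) (v : V ⟶ Y) (v' : V' ⟶ V) :
    (pullbackLeftPullbackSndIso f v v').inv ≫ pullback.fst (pullback.snd f v) v' =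
      pullback.map f (v' ≫ v) f v (𝟙 X) v' (𝟙 Y) (by simp) (by simp) := by
  apply pullback.hom_ext
  · rw [Category.assoc, pullbackLeftPullbackSndIso_inv_fst, pullback.lift_fst, Category.comp_id]
  · rw [Category.assoc, pullbackLeftPullbackSndIso_inv_fst_snd, pullback.lift_snd]

theorem propB_of_localB1 {X Y : Scheme.{u}} (f : X ⟶ Y)
    (H : ∀ (V : Scheme.{u}) (v : V ⟶ Y) [Etale v] (y : V), LocalB1 (pullback.snd f v) y) :
    BigSite.PropB f := by
  intro V v _ ι U g hget hgcov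
  let Uc : Scheme.{u} := ∐ U
  let gc : Uc ⟶ pullback f v := Sigma.desc g
  haveI : IsZariskiLocalAtSource @Etale.{u} :=
    HasRingHomProperty.instIsZariskiLocalAtSource (Q := RingHom.Etale)
  haveI : Etale gc := IsZariskiLocalAtSource.sigmaDesc hget
  have hgc : ∀ x : ↥(pullback f v), x ∈ Set.range gc := by
    intro x
    obtain ⟨i, z, hz⟩ := hgcov x
    refine ⟨Sigma.ι U i z, ?_⟩
    rw [← Scheme.Hom.comp_apply, Sigma.ι_desc]; exact hz
  have key : ∀ y : V, ∃ (V' : Scheme.{u}) (v' : V' ⟶ V) (pt : V'), Etale v' ∧ v' pt = y ∧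
      ∃ h : pullback (pullback.snd f v) v' ⟶ Uc,
        h ≫ gc = pullback.fst (pullback.snd f v) v' :=
    fun y => H V v y Uc gc (fun x _ => hgc x)
  choose V' v' pt hv' hpt h hh using key
  refine ⟨V, V', v', hv', fun y => ⟨y, pt y, hpt y⟩, fun y => ?_⟩
  let E := pullbackLeftPullbackSndIso f v (v' y)
  let hE : pullback f (v' y ≫ v) ⟶ Uc := E.inv ≫ h y
  have hhE : hE ≫ gc = pullback.map f (v' y ≫ v) f v (𝟙 X) (v' y) (𝟙 Y) (by simp) (by simp) := by
    rw [← map_eq_inv_fst, Category.assoc, hh]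
  refine ⟨ι, fun i => hE ⁻¹ᵁ (Sigma.ι U i).opensRange, ?_, ?_, fun i => ?_⟩
  · intro a b hab
    rw [disjoint_iff]
    ext z
    simp only [TopologicalSpace.Opens.coe_inf, TopologicalSpace.Opens.coe_bot, Set.mem_inter_iff,
      Set.mem_empty_iff_false, iff_false, not_and]
    intro hza hzb
    exact (disjoint_opensRange_sigmaι U a b hab).le_bot ⟨hza, hzb⟩
  · rw [eq_top_iff]
    intro z _
    have h1 : hE z ∈ (⊤ : (∐ U).Opens) := trivial
    rw [← (sigmaOpenCover U).iSup_opensRange] at h1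
    obtain ⟨i, hi⟩ := TopologicalSpace.Opens.mem_iSup.1 h1
    exact TopologicalSpace.Opens.mem_iSup.2 ⟨i, hi⟩
  · have hr : Set.range ((hE ⁻¹ᵁ (Sigma.ι U i).opensRange).ι ≫ hE) ⊆ Set.range (Sigma.ι U i) := by
      rintro _ ⟨z, rfl⟩
      exact z.2
    refine ⟨i, IsOpenImmersion.lift (Sigma.ι U i) ((hE ⁻¹ᵁ (Sigma.ι U i).opensRange).ι ≫ hE) hr,
      ?_⟩
    have h2 : g i = Sigma.ι U i ≫ gc := (Sigma.ι_desc g i).symm
    rw [h2, IsOpenImmersion.lift_fac_assoc, Category.assoc, hhE]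

theorem propB_of_isFinite {X Y : Scheme.{u}} (f : X ⟶ Y) [IsFinite f] : BigSite.PropB f :=
  propB_of_localB1 f fun _ v _ y => localB1_of_isFinite (pullback.snd f v) y

end Groth.Agent.Helper9.LocalB
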