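import Mathlib
import Groth.Prelude.Def_BigSite
import Groth.Agent.Helper9.GAffine
import Groth.Agent.Helper9.PropBOfLocal

/-! Condition (B) for integral morphisms. -/

set_option autoImplicit false
set_option linter.style.haveILetI false
universe u

open CategoryTheory CategoryTheory.Limits AlgebraicGeometry TensorProduct

namespace Groth.Agent.Helper9.LocalG

open Groth.Agent.Helper9.PropAQF2 Groth.Agent.Helper9.LocalB

theorem localB1_of_isIntegralHom {X Y : Scheme.{u}} (f : X ⟶ Y) [IsIntegralHom f] (y : Y) :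
    LocalB1 f y := by
  intro U g _ hcov
  classical
  obtain ⟨_, ⟨Y₀', hY₀, rfl⟩, hy, -⟩ := Y.isBasis_affineOpens.exists_subset_of_mem_open
    (Set.mem_univ y) isOpen_univ
  obtain ⟨Y₀, rfl⟩ : ∃ Y₀ : Y.Opens, Y₀ = Y₀' := ⟨_, rfl⟩
  have hY₀aff : IsAffineOpen Y₀ := hY₀
  let X₀ : X.Opens := f ⁻¹ᵁ Y₀
  have hX₀aff : IsAffineOpen X₀ := hY₀aff.preimage f
  haveI : IsAffine (Y₀ : Scheme.{u}) := hY₀aff
  haveI : IsAffine (X₀ : Scheme.{u}) := hX₀aff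
  let f₀ : (X₀ : Scheme.{u}) ⟶ Y₀ := f ∣_ Y₀
  haveI : IsIntegralHom f₀ := inferInstance
  have hf₀ : f₀ ≫ Y₀.ι = X₀.ι ≫ f := morphismRestrict_ι f Y₀
  have hFc : IsCompact (f ⁻¹' {y}) := f.isCompact_preimage_singleton y
  have hx : ∀ x : ↥(f ⁻¹' {y}), ∃ U₁ : U.Opens, IsAffineOpen U₁ ∧
      (U₁ : Set U) ⊆ ((g ⁻¹ᵁ X₀ : U.Opens) : Set U) ∧ x.1 ∈ g '' (U₁ : Set U) := by
    intro x
    obtain ⟨u, hu⟩ := hcov x.1 x.2
    have hu_mem : u ∈ ((g ⁻¹ᵁ X₀ : U.Opens) : Set U) := by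
      show f (g u) ∈ Y₀
      rw [hu, x.2]; exact hy
    obtain ⟨_, ⟨U₁, hU₁, rfl⟩, hu1, hsub⟩ := U.isBasis_affineOpens.exists_subset_of_mem_open
      hu_mem (g ⁻¹ᵁ X₀).2
    exact ⟨U₁, hU₁, hsub, u, hu1, hu⟩
  choose Ux hUxaff hUxsub hUxmem using hx
  have hgo : IsOpenMap g := g.isOpenMap
  obtain ⟨t, ht⟩ := hFc.elim_finite_subcover (fun x : ↥(f ⁻¹' {y}) => g '' (Ux x : Set U))
    (fun x => hgo _ (Ux x).2) (fun x hx => Set.mem_iUnion.2 ⟨⟨x, hx⟩, hUxmem _⟩)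
  let Uk : ↥t → Scheme.{u} := fun k => ((Ux k.1 : U.Opens) : Scheme.{u})
  haveI : ∀ k, IsAffine (Uk k) := fun k => hUxaff k.1
  have hr : ∀ k : ↥t, Set.range ((Ux k.1).ι ≫ g) ⊆ Set.range X₀.ι := by
    intro k
    rintro _ ⟨z, rfl⟩
    rw [Scheme.Opens.range_ι]
    exact hUxsub k.1 z.2
  let gk : ∀ k : ↥t, Uk k ⟶ (X₀ : Scheme.{u}) :=
    fun k => IsOpenImmersion.lift X₀.ι ((Ux k.1).ι ≫ g) (hr k)
  have hgk : ∀ k, gk k ≫ X₀.ι = (Ux k.1).ι ≫ g := fun k => IsOpenImmersion.lift_fac _ _ _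
  have hgket : ∀ k, Etale (gk k) := by
    intro k
    have h1 : Etale (gk k ≫ X₀.ι) := by rw [hgk]; infer_instance
    exact MorphismProperty.of_postcomp (W := @Etale) (W' := @Etale) (gk k) X₀.ι inferInstance h1
  let gc : (∐ Uk) ⟶ (X₀ : Scheme.{u}) := Sigma.desc gk
  haveI : IsZariskiLocalAtSource @Etale.{u} :=
    HasRingHomProperty.instIsZariskiLocalAtSource (Q := RingHom.Etale)
  haveI : Etale gc := IsZariskiLocalAtSource.sigmaDesc hgket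
  let d : (∐ Uk) ⟶ U := Sigma.desc fun k => (Ux k.1).ι
  have hgcd : gc ≫ X₀.ι = d ≫ g := by
    apply Sigma.hom_ext
    intro k
    rw [Sigma.ι_desc_assoc, Sigma.ι_desc_assoc, hgk]
  obtain ⟨V, v, pt, hv, hpt, P, p₁, p₂, sq, W, hWcl, hWcov, h, hh⟩ :=
    gConcl_affine f₀ gc ⟨y, hy⟩
  haveI := hv
  haveI : IsIntegralHom p₂ := MorphismProperty.of_isPullback (P := @IsIntegralHom) sq inferInstance
  let Z : Set V := p₂ '' (W : Set P)ᶜ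
  have hZcl : IsClosed Z := p₂.isClosedMap _ W.2.isClosed_compl
  have hptZ : pt ∉ Z := by
    rintro ⟨z, hzR, hz⟩
    apply hzR
    refine hWcov z hz ?_
    have h1 : f (X₀.ι (p₁ z)) = y := by
      have h2 : (X₀.ι ≫ f) (p₁ z) = (f₀ ≫ Y₀.ι) (p₁ z) := by rw [hf₀]
      refine h2.trans ?_
      have h3 : f₀ (p₁ z) = v (p₂ z) := by
        have h4 : (p₁ ≫ f₀) z = (p₂ ≫ v) z := by rw [sq.w]
        exact h4
      show Y₀.ι (f₀ (p₁ z)) = y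
      rw [h3, hz, hpt]
      rfl
    obtain ⟨k, hk⟩ := Set.mem_iUnion.1 (ht h1)
    obtain ⟨hkt, a, ha, hga⟩ := Set.mem_iUnion.1 hk
    refine ⟨Sigma.ι Uk ⟨k, hkt⟩ ⟨a, ha⟩, ?_⟩
    have h6 : gc (Sigma.ι Uk ⟨k, hkt⟩ ⟨a, ha⟩) = gk ⟨k, hkt⟩ ⟨a, ha⟩ := by
      have h7 : (Sigma.ι Uk ⟨k, hkt⟩ ≫ gc) ⟨a, ha⟩ = gk ⟨k, hkt⟩ ⟨a, ha⟩ := by
        rw [Sigma.ι_desc]
      exact h7
    refine h6.trans ?_
    apply Subtype.ext
    have h5 : (gk ⟨k, hkt⟩ ≫ X₀.ι) ⟨a, ha⟩ = ((Ux k).ι ≫ g) ⟨a, ha⟩ := by rw [hgk]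
    exact h5.trans hga
  let V₁ : V.Opens := ⟨Zᶜ, hZcl.isOpen_compl⟩
  have sq0 : IsPullback X₀.ι f₀ f Y₀.ι := (isPullback_morphismRestrict f Y₀).flip
  have sq' : IsPullback (p₁ ≫ X₀.ι) p₂ f (v ≫ Y₀.ι) := sq.paste_horiz sq0
  let v₁ : (V₁ : Scheme.{u}) ⟶ Y := V₁.ι ≫ v ≫ Y₀.ι
  let θ : pullback f v₁ ⟶ P := sq'.lift (pullback.fst f v₁) (pullback.snd f v₁ ≫ V₁.ι)
    (by rw [pullback.condition, Category.assoc])
  have hθ1 : θ ≫ p₁ ≫ X₀.ι = pullback.fst f v₁ := sq'.lift_fst _ _ _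
  have hθ2 : θ ≫ p₂ = pullback.snd f v₁ ≫ V₁.ι := sq'.lift_snd _ _ _
  have hθr : Set.range θ ⊆ Set.range W.ι := by
    rintro _ ⟨w, rfl⟩
    rw [Scheme.Opens.range_ι]
    by_contra hcon
    have h1 : p₂ (θ w) ∈ Z := ⟨θ w, hcon, rfl⟩
    have h2 : p₂ (θ w) ∈ V₁ := by
      have h3 : (θ ≫ p₂) w = (pullback.snd f v₁ ≫ V₁.ι) w := by rw [hθ2]
      have h4 : p₂ (θ w) = V₁.ι (pullback.snd f v₁ w) := h3
      rw [h4]
      exact (pullback.snd f v₁ w).2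
    exact h2 h1
  let θ' : pullback f v₁ ⟶ (W : Scheme.{u}) := IsOpenImmersion.lift W.ι θ hθr
  have hθ' : θ' ≫ W.ι = θ := IsOpenImmersion.lift_fac _ _ _
  refine ⟨V₁, v₁, ⟨pt, hptZ⟩, inferInstance, ?_, θ' ≫ h ≫ d, ?_⟩
  · show Y₀.ι (v pt) = y
    rw [hpt]
    rfl
  · rw [Category.assoc, Category.assoc, ← hgcd, ← Category.assoc h, hh, Category.assoc,
      ← Category.assoc θ', hθ', hθ1]

theorem propB_of_isIntegralHom {X Y : Scheme.{u}} (f : X ⟶ Y) [IsIntegralHom f] :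
    BigSite.PropB f :=
  propB_of_localB1 f fun _ v _ y => localB1_of_isIntegralHom (pullback.snd f v) y

end Groth.Agent.Helper9.LocalG
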