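import Mathlib
import Groth.Prelude.Def_EtBase
import Groth.Agent.Helper9.EtStalkExact

/-! The direct image along a closed immersion has zero stalks outside the closed subscheme. -/

set_option autoImplicit false
universe u

open CategoryTheory CategoryTheory.Limits Opposite AlgebraicGeometry

namespace Groth.Agent.Helper9.EtPushClosedZero

open Groth.Agent.Helper9.EtStalkExact

set_option backward.isDefEq.respectTransparency.types false in
/-- the empty sieve covers an étale scheme with empty underlying space -/
theorem bot_mem_of_isEmpty {X : Scheme.{u}} (V : X.Etale) [IsEmpty V.left] :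
    (⊥ : Sieve V) ∈ X.smallEtaleTopology V := by
  have eX : X.smallEtaleTopology =
      (X.smallPretopology (P := EtCoh.etaleMP) (Q := EtCoh.etaleMP)).toGrothendieck :=
    Scheme.smallGrothendieckTopology_eq_toGrothendieck_smallPretopology X le_rfl
  rw [eX]
  refine (Scheme.mem_toGrothendieck_smallPretopology V _).2 ?_
  intro x
  exact isEmptyElim x

/-- sections of an abelian sheaf over an empty étale scheme vanish -/
theorem subsingleton_of_isEmpty {X : Scheme.{u}} (G : EtCoh.Ab X) (V : X.Etale) [IsEmpty V.left] :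
    Subsingleton ↑(G.obj.obj (op V)) :=
  AddCommGrpCat.subsingleton_of_isZero
    (Sheaf.isTerminalOfBotCover G V (bot_mem_of_isEmpty V)).isZero

variable {Z X : Scheme.{u}} (i : Z ⟶ X) [IsClosedImmersion i]

/-- the open complement of a closed immersion -/
noncomputable def compl : X.Opens := ⟨(Set.range i.base)ᶜ, i.isClosedEmbedding.isClosed_range.isOpen_compl⟩

/-- the part of an étale `X`-scheme lying over the complement -/
noncomputable def away (U : X.Etale) : X.Etale := Scheme.Etale.mk ((U.hom ⁻¹ᵁ compl i).ι ≫ U.hom)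

set_option backward.isDefEq.respectTransparency.types false in
noncomputable def awayι (U : X.Etale) : away i U ⟶ U :=
  MorphismProperty.Over.homMk (U.hom ⁻¹ᵁ compl i).ι rfl trivial

set_option backward.isDefEq.respectTransparency.types false in
instance (U : X.Etale) : IsEmpty ((EtCoh.bc i).obj (away i U)).left := by
  constructor
  intro p
  have hp : ((EtCoh.bc i).obj (away i U)).left = pullback (away i U).hom i := rfl
  let p' : ↥(pullback (away i U).hom i) := p
  have h1 : (away i U).hom (pullback.fst (away i U).hom i p') = i (pullback.snd (away i U).hom i p') := by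
    rw [← Scheme.Hom.comp_apply, ← Scheme.Hom.comp_apply, pullback.condition]
  have h2 : (away i U).hom (pullback.fst (away i U).hom i p') ∈ (compl i : Set X) := by
    show (((U.hom ⁻¹ᵁ compl i).ι ≫ U.hom)) _ ∈ _
    rw [Scheme.Hom.comp_apply]
    have h3 : (U.hom ⁻¹ᵁ compl i).ι (pullback.fst (away i U).hom i p') ∈
        ((U.hom ⁻¹ᵁ compl i : U.left.Opens) : Set U.left) := by
      rw [← Scheme.Opens.range_ι]
      exact ⟨_, rfl⟩
    exact h3
  rw [h1] at h2
  exact h2 ⟨_, rfl⟩


attribute [local instance] preservesFilteredColimits_forget_ab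

set_option backward.isDefEq.respectTransparency.types false in
theorem main (G : EtCoh.Ab Z) {Ω : Type u} [Field Ω] [IsSepClosed Ω]
    (ξ : Spec (CommRingCat.of Ω) ⟶ X)
    (hξ : Disjoint (Set.range ξ.base) (Set.range i.base)) :
    IsZero ((EtCoh.stalk ξ).obj ((EtCoh.push i).obj G)) := by
  have hsub : Subsingleton ↑((EtCoh.stalk ξ).obj ((EtCoh.push i).obj G)) := by
    refine ⟨fun t₁ t₂ => ?_⟩
    suffices h : ∀ t : ↑((EtCoh.stalk ξ).obj ((EtCoh.push i).obj G)), t = 0 by rw [h t₁, h t₂]
    intro t
    obtain ⟨U, l, s, rfl⟩ := (Scheme.pointSmallEtale ξ).toPresheafFiber_jointly_surjective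
      (P := ((EtCoh.push i).obj G).obj) t
    let lU : Spec (CommRingCat.of Ω) ⟶ U.left := l.left
    have hlU : lU ≫ U.hom = ξ := Over.w l
    have hr : Set.range lU ⊆ Set.range (U.hom ⁻¹ᵁ compl i).ι := by
      rw [Scheme.Opens.range_ι]
      rintro _ ⟨p, rfl⟩
      show U.hom (lU p) ∈ (compl i : Set X)
      rw [← Scheme.Hom.comp_apply, hlU]
      intro hcon
      exact (Set.disjoint_left.1 hξ) ⟨p, rfl⟩ hcon
    let W : U.left.Opens := U.hom ⁻¹ᵁ compl i
    let l'' : Spec (CommRingCat.of Ω) ⟶ W.toScheme := IsOpenImmersion.lift W.ι lU hr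
    have hl'' : l'' ≫ W.ι = lU := IsOpenImmersion.lift_fac W.ι lU hr
    let l' : Spec (CommRingCat.of Ω) ⟶ (away i U).left := l''
    have hl' : l' ≫ (U.hom ⁻¹ᵁ compl i).ι = lU := hl''
    let lW : (Scheme.pointSmallEtale ξ).fiber.obj (away i U) := Over.homMk l' (by
      show l' ≫ ((U.hom ⁻¹ᵁ compl i).ι ≫ U.hom) = ξ
      rw [← Category.assoc, hl', hlU])
    have hl : (Scheme.pointSmallEtale ξ).fiber.map (awayι i U) lW = l := by
      apply Over.OverMorphism.ext
      exact hl'
    have e := (Scheme.pointSmallEtale ξ).toPresheafFiber_w_apply (awayι i U) lW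
      ((EtCoh.push i).obj G).obj s
    rw [hl] at e
    have hz : ((EtCoh.push i).obj G).obj.map (awayι i U).op s = 0 := by
      have : Subsingleton ↑(G.obj.obj (op ((EtCoh.bc i).obj (away i U)))) :=
        subsingleton_of_isEmpty G _
      exact Subsingleton.elim (α := ↑(G.obj.obj (op ((EtCoh.bc i).obj (away i U))))) _ _
    rw [← e, hz]
    exact map_zero ((Scheme.pointSmallEtale ξ).toPresheafFiber (away i U) lW
      ((EtCoh.push i).obj G).obj).hom
  exact AddCommGrpCat.isZero_of_subsingleton _

end Groth.Agent.Helper9.EtPushClosedZero
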