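import Mathlib
import Groth.Prelude.Def_BigSite
import Groth.Prelude.Def_SGA4b
import Groth.Agent.Helper9.EtPushClosedZero

/-! If all étale base changes of `f` satisfy (C) and are closed maps, base change of small étale
sites along `f` is almost cocontinuous. -/

set_option autoImplicit false
universe u

open CategoryTheory CategoryTheory.Limits Opposite AlgebraicGeometry

namespace Groth.Agent.Helper9.EtAlmostCocont

variable {X Y : Scheme.{u}} (f : X ⟶ Y)

set_option backward.isDefEq.respectTransparency.types false in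
theorem mem_iff (U : X.Etale) (S : Sieve U) :
    S ∈ X.smallEtaleTopology U ↔
      ∀ x : U.left, ∃ (V : X.Etale) (g : V ⟶ U) (v : V.left),
        S g ∧ EtCoh.etaleMP g.left ∧ g.left v = x := by
  have eX : X.smallEtaleTopology =
      (X.smallPretopology (P := EtCoh.etaleMP) (Q := EtCoh.etaleMP)).toGrothendieck :=
    Scheme.smallGrothendieckTopology_eq_toGrothendieck_smallPretopology X le_rfl
  rw [eX]
  exact Scheme.mem_toGrothendieck_smallPretopology U S

set_option backward.isDefEq.respectTransparency.types false in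
theorem main
    (hC : ∀ (V : Scheme.{u}) (v : V ⟶ Y) [Etale v], BigSite.PropC (pullback.snd f v))
    (hcl : ∀ (V : Scheme.{u}) (v : V ⟶ Y) [Etale v], IsClosedMap (pullback.snd f v).base) :
    BigSite.IsAlmostCocontinuous (EtCoh.bc f) Y.smallEtaleTopology X.smallEtaleTopology := by
  intro V R hR
  let R' : Sieve V :=
    { arrows := fun V' g => (⊥ : Sieve ((EtCoh.bc f).obj V')) ∈
        X.smallEtaleTopology ((EtCoh.bc f).obj V') ∨ R ((EtCoh.bc f).map g)
      downward_closed := by
        rintro V₁ V₂ g (h | h) k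
        · left
          have := X.smallEtaleTopology.pullback_stable ((EtCoh.bc f).map k) h
          rwa [Sieve.pullback_bot] at this
        · right
          rw [Functor.map_comp]
          exact R.downward_closed h _ }
  refine ⟨R', ?_, fun V' g hg => hg⟩
  rw [mem_iff]
  intro y
  have hVet : Etale V.hom := V.prop
  let T := (EtCoh.bc f).obj V
  let p : pullback V.hom f ⟶ V.left := pullback.fst V.hom f
  let q : pullback f V.hom ⟶ V.left := pullback.snd f V.hom
  let σ : pullback V.hom f ≅ pullback f V.hom := pullbackSymmetry V.hom f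
  have hσq : σ.hom ≫ q = p := pullbackSymmetry_hom_comp_snd _ _
  have hσfst : σ.hom ≫ pullback.fst f V.hom = pullback.snd V.hom f :=
    pullbackSymmetry_hom_comp_fst _ _
  by_cases hy : y ∈ Set.range p.base
  · obtain ⟨x, rfl⟩ := hy
    obtain ⟨U, u, z, hu, -, hz⟩ := (mem_iff T R).1 hR x
    let uL : U.left ⟶ pullback V.hom f := u.left
    have huL : uL ≫ pullback.snd V.hom f = U.hom := MorphismProperty.Over.w u
    have hz' : uL z = x := hz
    have hUet : Etale U.hom := U.prop
    have hTet : Etale (pullback.snd V.hom f) := inferInstance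
    have huet : Etale uL := by
      have : Etale (uL ≫ pullback.snd V.hom f) := by rw [huL]; exact hUet
      exact MorphismProperty.of_postcomp (W := @Etale) (W' := @Etale) uL (pullback.snd V.hom f)
        hTet this
    let g : U.left ⟶ pullback f V.hom := uL ≫ σ.hom
    have hg : Etale g := inferInstance
    obtain ⟨V₁, v₁, hv₁, h, hh, hs⟩ := hC V.left V.hom U.left g
    obtain ⟨w, hw⟩ := hs.surj z
    let V₁' : Y.Etale := Scheme.Etale.mk (v₁ ≫ V.hom)
    let g₁ : V₁' ⟶ V := MorphismProperty.Over.homMk v₁ rfl trivial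
    -- the comparison map
    let a : pullback (v₁ ≫ V.hom) f ⟶ pullback f V.hom :=
      pullback.lift (pullback.snd _ f) (pullback.fst _ f ≫ v₁)
        (by rw [Category.assoc, pullback.condition])
    let k : pullback (v₁ ≫ V.hom) f ⟶ pullback q v₁ :=
      pullback.lift a (pullback.fst _ f) (pullback.lift_snd _ _ _)
    have hk : k ≫ pullback.fst q v₁ = a := pullback.lift_fst _ _ _
    have ha : a ≫ pullback.fst f V.hom = pullback.snd (v₁ ≫ V.hom) f := pullback.lift_fst _ _ _
    have hm : (k ≫ h) ≫ U.hom = ((EtCoh.bc f).obj V₁').hom := by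
      show (k ≫ h) ≫ U.hom = pullback.snd (v₁ ≫ V.hom) f
      rw [← huL, ← hσfst, Category.assoc, ← Category.assoc uL, ← Category.assoc h,
        hh, ← Category.assoc k, hk, ha]
    let m : (EtCoh.bc f).obj V₁' ⟶ U := MorphismProperty.Over.homMk (k ≫ h) hm trivial
    have hfac : (EtCoh.bc f).map g₁ = m ≫ u := by
      apply MorphismProperty.Over.Hom.ext
      show ((EtCoh.bc f).map g₁).left = (k ≫ h) ≫ uL
      let lhs : pullback (v₁ ≫ V.hom) f ⟶ pullback V.hom f := ((EtCoh.bc f).map g₁).left
      show lhs = (k ≫ h) ≫ uL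
      refine (cancel_mono σ.hom).1 ?_
      rw [Category.assoc, Category.assoc]
      show _ = k ≫ h ≫ g
      rw [hh, hk]
      apply pullback.hom_ext
      · rw [Category.assoc, hσfst, ha]
        dsimp [EtCoh.bc]
        exact pullback.lift_snd _ _ _
      · rw [Category.assoc, hσq]
        show _ = a ≫ pullback.snd f V.hom
        rw [pullback.lift_snd]
        dsimp [EtCoh.bc]
        exact pullback.lift_fst _ _ _
    refine ⟨V₁', g₁, (pullback.snd q v₁) w, Or.inr ?_, ?_, ?_⟩
    · rw [hfac]
      exact R.downward_closed hu m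
    · exact hv₁
    · show v₁ ((pullback.snd q v₁) w) = p x
      rw [← Scheme.Hom.comp_apply, ← pullback.condition, Scheme.Hom.comp_apply, ← hσq,
        Scheme.Hom.comp_apply, ← hz', ← hw]
      have : (pullback.fst q v₁) w = g (h w) := by
        rw [← Scheme.Hom.comp_apply, hh]
      rw [this]
      rfl
  · -- the open complement of the image
    have hclosed : IsClosed (Set.range p.base) := by
      have h1 : Set.range p.base = Set.range q.base := by
        rw [← hσq]
        ext t
        constructor
        · rintro ⟨s, rfl⟩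
          exact ⟨σ.hom s, by rw [Scheme.Hom.comp_apply]⟩
        · rintro ⟨s, rfl⟩
          refine ⟨σ.inv s, ?_⟩
          rw [← Scheme.Hom.comp_apply, Iso.inv_hom_id_assoc]
      rw [h1]
      have h2 := hcl V.left V.hom Set.univ isClosed_univ
      rwa [Set.image_univ] at h2
    let Vc : V.left.Opens := ⟨(Set.range p.base)ᶜ, hclosed.isOpen_compl⟩
    let V₂ : Y.Etale := Scheme.Etale.mk (Vc.ι ≫ V.hom)
    let g₂ : V₂ ⟶ V := MorphismProperty.Over.homMk Vc.ι rfl trivial
    have hemp : IsEmpty ((EtCoh.bc f).obj V₂).left := by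
      constructor
      intro t
      let t' : ↥(pullback (Vc.ι ≫ V.hom) f) := t
      let b : pullback (Vc.ι ≫ V.hom) f ⟶ pullback V.hom f :=
        pullback.lift (pullback.fst _ f ≫ Vc.ι) (pullback.snd _ f)
          (by rw [Category.assoc, pullback.condition])
      have hb : b ≫ p = pullback.fst (Vc.ι ≫ V.hom) f ≫ Vc.ι := pullback.lift_fst _ _ _
      have h1 : p (b t') = Vc.ι ((pullback.fst (Vc.ι ≫ V.hom) f) t') := by
        rw [← Scheme.Hom.comp_apply, ← Scheme.Hom.comp_apply, hb]
      have h2 : Vc.ι ((pullback.fst (Vc.ι ≫ V.hom) f) t') ∈ (Vc : Set V.left) := by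
        rw [← Scheme.Opens.range_ι]
        exact ⟨_, rfl⟩
      rw [← h1] at h2
      exact h2 ⟨_, rfl⟩
    have hy' : y ∈ (Vc : Set V.left) := hy
    rw [← Scheme.Opens.range_ι] at hy'
    obtain ⟨y₂, hy₂⟩ := hy'
    refine ⟨V₂, g₂, y₂, Or.inl ?_, ?_, hy₂⟩
    · exact Groth.Agent.Helper9.EtPushClosedZero.bot_mem_of_isEmpty _
    · show Etale Vc.ι
      infer_instance

end Groth.Agent.Helper9.EtAlmostCocont
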