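import Mathlib
import Groth.Prelude.Def_EtBase
import Groth.Agent.Helper9.EtPushClosedZero

/-! Gluing sections of a sheaf of types on the small étale site along a family of pairwise
disjoint monomorphisms which is jointly surjective. -/

set_option autoImplicit false
universe u w

open CategoryTheory CategoryTheory.Limits Opposite AlgebraicGeometry

namespace Groth.Agent.Helper9.EtDisjGlue

variable {X : Scheme.{u}}

/-- a sheaf of types has at most one section over an empty étale scheme -/
theorem subsingleton_of_isEmpty (P : X.Etaleᵒᵖ ⥤ Type w)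
    (hP : Presieve.IsSheaf X.smallEtaleTopology P) (Z : X.Etale) [IsEmpty Z.left] :
    Subsingleton (P.obj (op Z)) := by
  refine ⟨fun a b => ?_⟩
  have hsep := (hP _ (Groth.Agent.Helper9.EtPushClosedZero.bot_mem_of_isEmpty Z)).isSeparatedFor
  apply hsep.ext
  intro Y g hg
  exact hg.elim

set_option backward.isDefEq.respectTransparency.types false in
theorem mono_of_mono_left {U T : X.Etale} (g : U ⟶ T) (h : Mono g.left) : Mono g := by
  constructor
  intro Z a b hab
  apply MorphismProperty.Over.Hom.ext
  have h1 : (a ≫ g).left = (b ≫ g).left := by rw [hab]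
  exact (cancel_mono g.left).1 h1

set_option backward.isDefEq.respectTransparency.types false in
theorem existsUnique_glue {T : X.Etale} {μ : Type*} (O : μ → X.Etale) (ι : ∀ a, O a ⟶ T)
    (hmono : ∀ a, Mono (ι a))
    (hsurj : ∀ x : T.left, ∃ (a : μ) (z : (O a).left), (ι a).left z = x)
    (hdisj : ∀ a b, a ≠ b → ∀ (za : (O a).left) (zb : (O b).left),
      (ι a).left za ≠ (ι b).left zb)
    (P : X.Etaleᵒᵖ ⥤ Type w) (hP : Presieve.IsSheaf X.smallEtaleTopology P)
    (s : ∀ a, P.obj (op (O a))) : ∃! t : P.obj (op T), ∀ a, P.map (ι a).op t = s a := by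
  have hcov : Sieve.ofArrows O ι ∈ X.smallEtaleTopology T := by
    rw [Scheme.ofArrows_mem_smallEtaleTopology_iff]
    ext x
    simp only [Set.mem_iUnion, Set.mem_range, Set.mem_univ, iff_true]
    obtain ⟨a, z, hz⟩ := hsurj x
    exact ⟨a, z, hz⟩
  have hsh : Presieve.IsSheafFor P (Presieve.ofArrows O ι) :=
    (Presieve.isSheafFor_iff_generate _).2 (hP _ hcov)
  refine (Presieve.isSheafFor_arrows_iff P ι).1 hsh s ?_
  intro a b Z ga gb hab
  by_cases hne : a = b
  · subst hne
    have : Mono (ι a) := hmono a
    rw [(cancel_mono (ι a)).1 hab]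
  · have : IsEmpty Z.left := by
      constructor
      intro z
      have h1 : (ga ≫ ι a).left z = (gb ≫ ι b).left z := by rw [hab]
      exact hdisj a b hne (ga.left z) (gb.left z) h1
    have := subsingleton_of_isEmpty P hP Z
    exact Subsingleton.elim _ _

end Groth.Agent.Helper9.EtDisjGlue
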