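import Mathlib
import Groth.Prelude.Def_BigSite
import Groth.Prelude.Def_SGA4b
import Groth.Agent.Helper9.EtDisjGlue
import Groth.Agent.Helper9.EtAlmostCocont

/-! Condition (B) on `f : X ⟶ Y` implies that `f_*` on étale sheaves of sets preserves
epimorphisms. -/

set_option autoImplicit false
universe u

open CategoryTheory CategoryTheory.Limits Opposite AlgebraicGeometry

namespace Groth.Agent.Helper9.EtPropB

open Groth.Agent.Helper9.EtDisjGlue Groth.Agent.Helper9.EtAlmostCocont

variable {X Y : Scheme.{u}} {f : X ⟶ Y}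

set_option backward.isDefEq.respectTransparency.types false in
theorem epi_push_of_epi (hB : BigSite.PropB f) {F G : EtDesc.Sh X} (a : F ⟶ G) [Epi a] :
    Epi ((EtDesc.pushSh f).map a) := by
  have hls : Sheaf.IsLocallySurjective a := (Sheaf.isLocallySurjective_iff_epi _).2 inferInstance
  rw [← Sheaf.isLocallySurjective_iff_epi]
  constructor
  intro V t
  let T : X.Etale := (EtCoh.bc f).obj V
  let t' : G.obj.obj (op T) := t
  have hVet : Etale V.hom := V.prop
  have hS : Presheaf.imageSieve a.hom t' ∈ X.smallEtaleTopology T :=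
    Presheaf.imageSieve_mem _ a.hom t'
  have hS' := (mem_iff T _).1 hS
  choose U u z hu hue hz using hS'
  choose sx hsx using hu
  let σ : pullback V.hom f ≅ pullback f V.hom := pullbackSymmetry V.hom f
  have hσfst : σ.hom ≫ pullback.fst f V.hom = pullback.snd V.hom f :=
    pullbackSymmetry_hom_comp_fst _ _
  have hσsnd : σ.hom ≫ pullback.snd f V.hom = pullback.fst V.hom f :=
    pullbackSymmetry_hom_comp_snd _ _
  let uL : ∀ x : T.left, (U x).left ⟶ pullback V.hom f := fun x => (u x).left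
  have huL : ∀ x, uL x ≫ pullback.snd V.hom f = (U x).hom := fun x =>
    MorphismProperty.Over.w (u x)
  let g : ∀ x : T.left, (U x).left ⟶ pullback f V.hom := fun x => uL x ≫ σ.hom
  have hget : ∀ x, Etale (g x) := by
    intro x
    have : Etale (uL x) := hue x
    infer_instance
  have hgcov : ∀ x : ↥(pullback f V.hom), ∃ i, x ∈ Set.range (g i).base := by
    intro x
    refine ⟨σ.inv x, z (σ.inv x), ?_⟩
    show (uL (σ.inv x) ≫ σ.hom) (z (σ.inv x)) = x
    rw [Scheme.Hom.comp_apply]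
    have : uL (σ.inv x) (z (σ.inv x)) = σ.inv x := hz (σ.inv x)
    rw [this, ← Scheme.Hom.comp_apply, Iso.inv_hom_id]
    rfl
  obtain ⟨κ, V', v', hv'et, hv'cov, hW⟩ :=
    hB V.left V.hom (↥T.left) (fun x => (U x).left) g hget hgcov
  rw [mem_iff]
  intro y
  obtain ⟨j, y', hy'⟩ := hv'cov y
  obtain ⟨μ, W, hdisj, hsup, hfac⟩ := hW j
  choose i h hh using hfac
  have := hv'et j
  let V'' : Y.Etale := Scheme.Etale.mk (v' j ≫ V.hom)
  let gj : V'' ⟶ V := MorphismProperty.Over.homMk (v' j) rfl trivial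
  refine ⟨V'', gj, y', ?_, hv'et j, hy'⟩
  let Tj : X.Etale := (EtCoh.bc f).obj V''
  let σj : pullback (v' j ≫ V.hom) f ≅ pullback f (v' j ≫ V.hom) :=
    pullbackSymmetry (v' j ≫ V.hom) f
  have hσjinv_snd : σj.inv ≫ pullback.snd (v' j ≫ V.hom) f = pullback.fst f (v' j ≫ V.hom) :=
    pullbackSymmetry_inv_comp_snd _ _
  have hσjinv_fst : σj.inv ≫ pullback.fst (v' j ≫ V.hom) f = pullback.snd f (v' j ≫ V.hom) :=
    pullbackSymmetry_inv_comp_fst _ _
  let O : μ → X.Etale := fun a => Scheme.Etale.mk ((W a).ι ≫ pullback.fst f (v' j ≫ V.hom))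
  let ιl : ∀ a, (O a).left ⟶ pullback (v' j ≫ V.hom) f := fun a => (W a).ι ≫ σj.inv
  have hιl : ∀ a, ιl a ≫ Tj.hom = (O a).hom := by
    intro a
    show ((W a).ι ≫ σj.inv) ≫ pullback.snd (v' j ≫ V.hom) f =
      (W a).ι ≫ pullback.fst f (v' j ≫ V.hom)
    rw [Category.assoc, hσjinv_snd]
  let ι : ∀ a, O a ⟶ Tj := fun a => MorphismProperty.Over.homMk (ιl a) (hιl a) trivial
  -- the comparison of the two base change maps
  let bcm : pullback (v' j ≫ V.hom) f ⟶ pullback V.hom f := ((EtCoh.bc f).map gj).left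
  have hbcm_fst : bcm ≫ pullback.fst V.hom f = pullback.fst (v' j ≫ V.hom) f ≫ v' j := by
    dsimp [bcm, EtCoh.bc]
    exact pullback.lift_fst _ _ _
  have hbcm_snd : bcm ≫ pullback.snd V.hom f = pullback.snd (v' j ≫ V.hom) f := by
    dsimp [bcm, EtCoh.bc]
    exact pullback.lift_snd _ _ _
  have hcomp : σj.inv ≫ bcm ≫ σ.hom =
      pullback.map f (v' j ≫ V.hom) f V.hom (𝟙 X) (v' j) (𝟙 Y) (by simp) (by simp) := by
    apply pullback.hom_ext
    · rw [Category.assoc, Category.assoc, hσfst, hbcm_snd, hσjinv_snd, pullback.lift_fst,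
        Category.comp_id]
    · rw [Category.assoc, Category.assoc, hσsnd, hbcm_fst, ← Category.assoc, hσjinv_fst,
        pullback.lift_snd]
  have hUhom : ∀ x, (U x).hom = g x ≫ pullback.fst f V.hom := by
    intro x
    rw [← huL x]
    show _ = (uL x ≫ σ.hom) ≫ _
    rw [Category.assoc, hσfst]
  have hh' : ∀ a, h a ≫ (U (i a)).hom = (O a).hom := by
    intro a
    rw [hUhom, ← Category.assoc, hh a, Category.assoc, pullback.lift_fst, Category.comp_id]
    rfl
  let h' : ∀ a, O a ⟶ U (i a) := fun a => MorphismProperty.Over.homMk (h a) (hh' a) trivial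
  have hkeyL : ∀ a, h a ≫ uL (i a) = ιl a ≫ bcm := by
    intro a
    refine (cancel_mono σ.hom).1 ?_
    have e1 : (h a ≫ uL (i a)) ≫ σ.hom = h a ≫ g (i a) := Category.assoc _ _ _
    have e2 : (ιl a ≫ bcm) ≫ σ.hom = (W a).ι ≫ (σj.inv ≫ bcm ≫ σ.hom) := by
      show (((W a).ι ≫ σj.inv) ≫ bcm) ≫ σ.hom = _
      rw [Category.assoc, Category.assoc]
    exact e1.trans ((hh a).trans ((congrArg (fun m => (W a).ι ≫ m) hcomp.symm).trans e2.symm))
  have hkey : ∀ a, h' a ≫ u (i a) = ι a ≫ (EtCoh.bc f).map gj := by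
    intro a
    apply MorphismProperty.Over.Hom.ext
    exact hkeyL a
  have hmono : ∀ a, Mono (ι a) := by
    intro a
    apply mono_of_mono_left
    show Mono ((W a).ι ≫ σj.inv)
    infer_instance
  have hsurj : ∀ x : Tj.left, ∃ (a : μ) (z : (O a).left), (ι a).left z = x := by
    intro x
    let x' : ↥(pullback (v' j ≫ V.hom) f) := x
    have hx : σj.hom x' ∈ (⨆ a, W a : (pullback f (v' j ≫ V.hom)).Opens) := by
      rw [hsup]
      trivial
    obtain ⟨a, ha⟩ := TopologicalSpace.Opens.mem_iSup.1 hx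
    have ha' : σj.hom x' ∈ Set.range (W a).ι.base := by
      rw [Scheme.Opens.range_ι]
      exact ha
    obtain ⟨z, hz⟩ := ha'
    refine ⟨a, z, ?_⟩
    show ((W a).ι ≫ σj.inv) z = x'
    rw [Scheme.Hom.comp_apply, hz, ← Scheme.Hom.comp_apply, Iso.hom_inv_id]
    rfl
  have hdisj' : ∀ a b, a ≠ b → ∀ (za : (O a).left) (zb : (O b).left),
      (ι a).left za ≠ (ι b).left zb := by
    intro a b hab za zb heq
    have heq' : ((W a).ι ≫ σj.inv) za = ((W b).ι ≫ σj.inv) zb := heq
    have h1 : (W a).ι za = (W b).ι zb := by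
      have := congrArg σj.hom heq'
      rwa [← Scheme.Hom.comp_apply, ← Scheme.Hom.comp_apply, Category.assoc, Category.assoc,
        Iso.inv_hom_id, Category.comp_id, Category.comp_id] at this
    have h2 : (W a).ι za ∈ ((W a : (pullback f (v' j ≫ V.hom)).Opens) : Set _) := by
      rw [← Scheme.Opens.range_ι]
      exact ⟨_, rfl⟩
    have h3 : (W a).ι za ∈ ((W b : (pullback f (v' j ≫ V.hom)).Opens) : Set _) := by
      rw [h1, ← Scheme.Opens.range_ι]
      exact ⟨_, rfl⟩
    have h4 := (hdisj a b hab).le_bot ⟨h2, h3⟩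
    exact h4
  have hFsh : Presieve.IsSheaf X.smallEtaleTopology F.obj :=
    (isSheaf_iff_isSheaf_of_type _ _).1 F.property
  have hGsh : Presieve.IsSheaf X.smallEtaleTopology G.obj :=
    (isSheaf_iff_isSheaf_of_type _ _).1 G.property
  obtain ⟨s, hs, -⟩ := existsUnique_glue O ι hmono hsurj hdisj' F.obj hFsh
    (fun a => F.obj.map (h' a).op (sx (i a)))
  refine ⟨s, ?_⟩
  obtain ⟨r, -, hr⟩ := existsUnique_glue O ι hmono hsurj hdisj' G.obj hGsh
    (fun a => G.obj.map (ι a ≫ (EtCoh.bc f).map gj).op t')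
  have e1 : a.hom.app (op Tj) s = r := by
    apply hr
    intro b
    have n1 := NatTrans.naturality_apply a.hom (ι b).op s
    rw [← n1, hs b]
    have n2 := NatTrans.naturality_apply a.hom (h' b).op (sx (i b))
    rw [n2, hsx (i b), ← Functor.map_comp_apply, ← op_comp, hkey b]
  have e2 : G.obj.map ((EtCoh.bc f).map gj).op t' = r := by
    apply hr
    intro b
    rw [← Functor.map_comp_apply, ← op_comp]
  exact e1.trans e2.symm

theorem main (hB : BigSite.PropB f) : (EtDesc.pushSh f).PreservesEpimorphisms :=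
  ⟨fun a _ => epi_push_of_epi hB a⟩

end Groth.Agent.Helper9.EtPropB
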