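import Mathlib
import Groth.Prelude.Def_BigSite
import Groth.Prelude.Def_SGA4b
import Groth.Agent.Helper9.EtPropB
import Groth.Agent.Helper9.PropBOfLocal
import Groth.Agent.Helper1.FunLES

/-! Condition (B) implies that `f_*` on abelian étale sheaves is exact; consequences for finite
morphisms. -/

set_option autoImplicit false
set_option linter.style.haveILetI false
universe u

open CategoryTheory CategoryTheory.Limits Opposite AlgebraicGeometry

namespace Groth.Agent.Helper9.PushEpiAb

variable {X Y : Scheme.{u}} {f : X ⟶ Y}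

theorem epi_push_of_epi (hB : BigSite.PropB f) {F G : EtCoh.Ab X} (a : F ⟶ G) [Epi a] :
    Epi ((EtCoh.push f).map a) := by
  have h1 : Sheaf.IsLocallySurjective a :=
    (Sheaf.isLocallySurjective_iff_epi' AddCommGrpCat.{u + 1} a).2 inferInstance
  have h2 : Sheaf.IsLocallySurjective
      ((sheafCompose X.smallEtaleTopology (forget AddCommGrpCat.{u + 1})).map a) :=
    (Presheaf.isLocallySurjective_iff_whisker_forget _ a.hom).1 h1
  have h3 : Epi ((sheafCompose X.smallEtaleTopology (forget AddCommGrpCat.{u + 1})).map a) :=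
    (Sheaf.isLocallySurjective_iff_epi _).1 h2
  have h4 : Epi ((EtDesc.pushSh f).map
      ((sheafCompose X.smallEtaleTopology (forget AddCommGrpCat.{u + 1})).map a)) :=
    EtPropB.epi_push_of_epi hB _
  have h5 : Sheaf.IsLocallySurjective ((EtDesc.pushSh f).map
      ((sheafCompose X.smallEtaleTopology (forget AddCommGrpCat.{u + 1})).map a)) :=
    (Sheaf.isLocallySurjective_iff_epi _).2 h4
  have h6 : Sheaf.IsLocallySurjective ((EtCoh.push f).map a) :=
    (Presheaf.isLocallySurjective_iff_whisker_forget _ ((EtCoh.push f).map a).hom).2 h5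
  exact (Sheaf.isLocallySurjective_iff_epi' AddCommGrpCat.{u + 1} _).1 h6

theorem preservesEpimorphisms_push (hB : BigSite.PropB f) :
    (EtCoh.push f).PreservesEpimorphisms :=
  ⟨fun a _ => epi_push_of_epi hB a⟩

theorem preservesFiniteColimits_push (hB : BigSite.PropB f) :
    PreservesFiniteColimits (EtCoh.push f) := by
  haveI : (EtCoh.push f).PreservesEpimorphisms := preservesEpimorphisms_push hB
  haveI : (EtCoh.push f).IsRightAdjoint := (EtCoh.pullPushAdj f).isRightAdjoint
  haveI : PreservesFiniteLimits (EtCoh.push f) := inferInstance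
  rw [Functor.preservesFiniteColimits_iff_forall_exact_map_and_epi]
  intro S hS
  have h0 : PreservesFiniteLimits (EtCoh.push f) := inferInstance
  have h1 := (Functor.preservesFiniteLimits_iff_forall_exact_map_and_mono (EtCoh.push f)).1 h0 S hS
  haveI := hS.epi_g
  exact ⟨h1.1, inferInstance⟩

theorem isZero_Rpush (hB : BigSite.PropB f) (F : EtCoh.Ab X) (q : ℕ) (hq : 0 < q) :
    IsZero ((EtCoh.Rpush f q).obj F) := by
  haveI : PreservesFiniteColimits (EtCoh.push f) := preservesFiniteColimits_push hB
  haveI : (EtCoh.push f).IsRightAdjoint := (EtCoh.pullPushAdj f).isRightAdjoint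
  haveI : PreservesFiniteLimits (EtCoh.push f) := inferInstance
  obtain ⟨n, rfl⟩ : ∃ n, q = n + 1 := ⟨q - 1, by omega⟩
  exact Groth.Agent.Helper1.FunLES.isZero_rightDerived_of_exact (G := EtCoh.push f) n F

end Groth.Agent.Helper9.PushEpiAb
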