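import Mathlib
import Groth.Agent.Helper1.DCoprod

/-! The cohomology functors `Hᵐ : D(A) ⥤ A` send coproduct cofans to coproduct cofans
(`A` abelian with exact coproducts). -/

set_option autoImplicit false
set_option linter.style.haveILetI false
set_option linter.unusedVariables false
set_option linter.unusedSectionVars false

namespace Groth.Agent.Helper9.CP3

open CategoryTheory Limits DerivedCategory Groth.Agent.Helper1.DCoprod

universe w' w v u

section Generic

variable {C : Type*} [Category C] {J : Type*}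

/-- transport of a colimit cofan along isomorphisms -/
def isColimitCofanOfIso {X_ Y_ : J → C} {X Y : C} (a : ∀ j, X_ j ⟶ X) (b : ∀ j, Y_ j ⟶ Y)
    (hb : IsColimit (Cofan.mk Y b)) (e_ : ∀ j, X_ j ≅ Y_ j) (e : X ≅ Y)
    (w : ∀ j, a j ≫ e.hom = (e_ j).hom ≫ b j) : IsColimit (Cofan.mk X a) :=
  Cofan.IsColimit.mk _
    (fun s => e.hom ≫ Cofan.IsColimit.desc hb (fun j => (e_ j).inv ≫ s.inj j))
    (fun s j => by
      have h1 : b j ≫ Cofan.IsColimit.desc hb (fun j => (e_ j).inv ≫ s.inj j) =
          (e_ j).inv ≫ s.inj j := Cofan.IsColimit.fac hb _ j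
      show a j ≫ e.hom ≫ _ = _
      rw [← Category.assoc, w j, Category.assoc, h1, Iso.hom_inv_id_assoc])
    (fun s m hm => by
      have hm' : ∀ j, a j ≫ m = s.inj j := hm
      have h2 : (m : X ⟶ s.pt) = e.hom ≫ (e.inv ≫ m) := by rw [Iso.hom_inv_id_assoc]
      show (m : X ⟶ s.pt) = _
      rw [h2]
      congr 1
      apply Cofan.IsColimit.hom_ext hb
      intro j
      have h1 : b j ≫ Cofan.IsColimit.desc hb (fun j => (e_ j).inv ≫ s.inj j) =
          (e_ j).inv ≫ s.inj j := Cofan.IsColimit.fac hb _ j
      have : b j = (e_ j).inv ≫ a j ≫ e.hom := by rw [w j, Iso.inv_hom_id_assoc]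
      show b j ≫ e.inv ≫ m = b j ≫ _
      rw [h1, this, Category.assoc, Category.assoc, Iso.hom_inv_id_assoc, hm' j])

/-- the colimit of a functor on a discrete category, as a cofan -/
noncomputable def isColimitCofanColimit (D : Discrete J ⥤ C) [HasColimit D] :
    IsColimit (Cofan.mk (colimit D) (fun j => colimit.ι D ⟨j⟩)) :=
  Cofan.IsColimit.mk _
    (fun s => colimit.desc D ⟨s.pt, Discrete.natTrans (fun j => s.inj j.as)⟩)
    (fun s j => by
      have := colimit.ι_desc (F := D) ⟨s.pt, Discrete.natTrans (fun j => s.inj j.as)⟩ ⟨j⟩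
      exact this)
    (fun s m hm => by
      have hm' : ∀ j, colimit.ι D ⟨j⟩ ≫ m = s.inj j := hm
      refine colimit.hom_ext (F := D) (X := s.pt) (f := m) ?_
      rintro ⟨j⟩
      rw [colimit.ι_desc]
      exact hm' j)

end Generic

variable {A : Type u} [Category.{v} A] [Abelian A] {J : Type w}
  [HasColimitsOfShape (Discrete J) A] [HasExactColimitsOfShape (Discrete J) A]

/-- the natural transformation from evaluation at `j` to the colimit functor -/
noncomputable def evToColim (j : J) :
    (evaluation (Discrete J) A).obj ⟨j⟩ ⟶ (colim (J := Discrete J) (C := A)) where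
  app D := colimit.ι D ⟨j⟩
  naturality D D' α := by
    simp

/-- complex level: the homology of the termwise coproduct is the coproduct of the homologies -/
noncomputable def isColimitHomologySig (K : J → CochainComplex A ℤ) (m : ℤ) :
    IsColimit (Cofan.mk ((sig K).homology m)
      (fun j => HomologicalComplex.homologyMap (ι K j) m)) := by
  let S := (fam K).sc m
  refine isColimitCofanOfIso _ _ (isColimitCofanColimit S.homology)
    (fun j => S.mapHomologyIso ((evaluation (Discrete J) A).obj ⟨j⟩))
    (S.mapHomologyIso (colim (J := Discrete J) (C := A))) (fun j => ?_)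
  have h := NatTrans.app_homology (evToColim (A := A) j) S
  have h' : colimit.ι S.homology ⟨j⟩ = (evToColim (A := A) j).app S.homology := rfl
  rw [h', h]
  erw [Iso.hom_inv_id_assoc]
  rfl


variable [HasDerivedCategory.{w'} A]

/-- derived level, for the standard cofan -/
noncomputable def isColimitHomologyCofan (K : J → CochainComplex A ℤ) (m : ℤ) :
    IsColimit (Cofan.mk ((homologyFunctor A m).obj (Q.obj (sig K)))
      (fun j => (homologyFunctor A m).map (Q.map (ι K j)))) :=
  isColimitCofanOfIso _ _ (isColimitHomologySig K m)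
    (fun j => (homologyFunctorFactors A m).app (K j))
    ((homologyFunctorFactors A m).app (sig K))
    (fun j => (homologyFunctorFactors A m).hom.naturality (ι K j))

/-- **`Hᵐ` sends coproducts in `D(A)` to coproducts in `A`** -/
theorem nonempty_isColimit_homology_sigma (E : J → DerivedCategory A) [HasCoproduct E] (m : ℤ) :
    Nonempty (IsColimit (Cofan.mk ((homologyFunctor A m).obj (∐ E))
      (fun j => (homologyFunctor A m).map (Sigma.ι E j)))) := by
  let K' : J → CochainComplex A ℤ := fun j => Q.objPreimage (E j)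
  let e : ∀ j, Q.obj (K' j) ≅ E j := fun j => Q.objObjPreimageIso (E j)
  have hc := isColimitCofan K'
  let d : Q.obj (sig K') ⟶ ∐ E := Cofan.IsColimit.desc hc (fun j => (e j).hom ≫ Sigma.ι E j)
  have fac : ∀ j, Q.map (ι K' j) ≫ d = (e j).hom ≫ Sigma.ι E j :=
    fun j => Cofan.IsColimit.fac hc _ j
  let g : ∐ E ⟶ Q.obj (sig K') := Sigma.desc (fun j => (e j).inv ≫ Q.map (ι K' j))
  have facg : ∀ j, Sigma.ι E j ≫ g = (e j).inv ≫ Q.map (ι K' j) := fun j => Sigma.ι_desc _ j
  have h1 : g ≫ d = 𝟙 _ := by
    apply Sigma.hom_ext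
    intro j
    rw [← Category.assoc, facg j, Category.assoc, fac j, Iso.inv_hom_id_assoc, Category.comp_id]
  have h2 : d ≫ g = 𝟙 _ := by
    refine Cofan.IsColimit.hom_ext hc (d ≫ g) (𝟙 (Q.obj (sig K'))) (fun j => ?_)
    show Q.map (ι K' j) ≫ d ≫ g = Q.map (ι K' j) ≫ 𝟙 _
    rw [← Category.assoc, fac j, Category.assoc, facg j, Iso.hom_inv_id_assoc, Category.comp_id]
  let u : ∐ E ≅ Q.obj (sig K') := ⟨g, d, h1, h2⟩
  refine ⟨isColimitCofanOfIso _ _ (isColimitHomologyCofan K' m)
    (fun j => (homologyFunctor A m).mapIso (e j).symm) ((homologyFunctor A m).mapIso u)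
    (fun j => ?_)⟩
  show (homologyFunctor A m).map (Sigma.ι E j) ≫ (homologyFunctor A m).map u.hom =
    (homologyFunctor A m).map (e j).inv ≫ (homologyFunctor A m).map (Q.map (ι K' j))
  rw [← Functor.map_comp, ← Functor.map_comp]
  congr 1
  exact facg j

end Groth.Agent.Helper9.CP3
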