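import Mathlib
import Groth.Prelude.Def_ModSite2
import Groth.Prelude.Def_ExtSupp
import Groth.Agent.Helper9.ShriekSh
import Groth.Agent.Helper9.ModCechExt
import Groth.Agent.Helper9.QuotSectAdj

/-!
# `F ↦ F/F_U` is exact, for any object `U` of the site
-/

set_option autoImplicit false
set_option linter.style.haveILetI false
set_option linter.unusedSectionVars false

namespace Groth.Agent.Helper9.QuotExact

open CategoryTheory Limits Opposite
  Groth.Agent.Helper9.TensorLoc Groth.Agent.Helper9.TensorSh Groth.Agent.Helper9.FreeTensor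
  Groth.Agent.Helper9.Shriek Groth.Agent.Helper9.ShriekSh

universe u

variable {C : Type u} [SmallCategory C] {J : GrothendieckTopology C} (O : Sheaf J CommRingCat.{u})
  (U : C)

/-- sections of `T` locally vanish or live over objects mapping to `U` -/
def IsUSupp (T : ModSite.Mod O) : Prop :=
  ∀ (W : C) (t : ((ι O).obj T).obj (op W)), ∃ S ∈ J W, ∀ ⦃W' : C⦄ (g : W' ⟶ W), S g →
    Nonempty (W' ⟶ U) ∨ res ((ι O).obj T) g.op t = 0

variable {O U}

lemma injective_app_of_mono {T T' : ModSite.Mod O} (f : T ⟶ T') [Mono f] (W : Cᵒᵖ) :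
    Function.Injective (((ι O).map f).app W) := by
  haveI : Mono ((ι O).map f) := inferInstanceAs (Mono ((SheafOfModules.forget _).map f))
  exact PresheafOfModules.injective_of_mono ((ι O).map f) W

lemma isUSupp_of_mono {T T' : ModSite.Mod O} (f : T ⟶ T') [Mono f] (h : IsUSupp O U T') :
    IsUSupp O U T := by
  intro W t
  obtain ⟨S, hS, hS'⟩ := h W (((ι O).map f).app (op W) t)
  refine ⟨S, hS, fun W' g hg => ?_⟩
  rcases hS' g hg with h1 | h1
  · exact Or.inl h1
  · right
    apply injective_app_of_mono f (op W')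
    rw [map_zero, ← res_naturality]
    exact h1

lemma exists_cover_of_epi {T T' : ModSite.Mod O} (f : T ⟶ T') [Epi f] (W : C)
    (t' : ((ι O).obj T').obj (op W)) :
    ∃ S ∈ J W, ∀ ⦃W' : C⦄ (g : W' ⟶ W), S g →
      ∃ t : ((ι O).obj T).obj (op W'), ((ι O).map f).app (op W') t = res ((ι O).obj T') g.op t' := by
  haveI : Epi ((SheafOfModules.toSheaf _).map f) := inferInstance
  haveI hls : Sheaf.IsLocallySurjective ((SheafOfModules.toSheaf _).map f) :=
    (Sheaf.isLocallySurjective_iff_epi' _ _).2 inferInstance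
  refine ⟨Presheaf.imageSieve ((SheafOfModules.toSheaf _).map f).hom t',
    Presheaf.imageSieve_mem J ((SheafOfModules.toSheaf _).map f).hom t', fun W' g hg => ?_⟩
  obtain ⟨t, ht⟩ := hg
  exact ⟨t, ht⟩

lemma isUSupp_of_epi {T T' : ModSite.Mod O} (f : T ⟶ T') [Epi f] (h : IsUSupp O U T) :
    IsUSupp O U T' := by
  intro W t'
  obtain ⟨S, hS, hS'⟩ := exists_cover_of_epi f W t'
  refine ⟨Sieve.bind S (fun W' g hg => (h W' (hS' g hg).choose).choose), ?_, ?_⟩
  · exact J.bind_covering hS (fun W' g hg => (h W' (hS' g hg).choose).choose_spec.1)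
  · rintro W'' _ ⟨W', k, g, hg, hk, rfl⟩
    rcases (h W' (hS' g hg).choose).choose_spec.2 k hk with h1 | h1
    · exact Or.inl h1
    · right
      have e1 := (hS' g hg).choose_spec
      rw [op_comp, res_comp, ← e1, res_naturality, h1, map_zero]

lemma isZero_of_isUSupp_of_isNullOn (T : ModSite.Mod O) (h : IsUSupp O U T)
    (h0 : ModSite.IsNullOn O U T) : IsZero T := by
  rw [ExtSupp.isNullOn_iff] at h0
  have key : ∀ (W : C) (t : T.val.obj (op W)), t = 0 := by
    intro W t
    obtain ⟨S, hS, hS'⟩ := h W t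
    have hsh : Presieve.IsSheaf J (T.val.presheaf ⋙ forget AddCommGrpCat) :=
      (isSheaf_iff_isSheaf_of_type J _).1
        ((Presheaf.isSheaf_iff_isSheaf_forget J T.val.presheaf (forget AddCommGrpCat)).1 T.isSheaf)
    refine (hsh.isSeparated _ hS).ext (t₁ := t) (t₂ := (0 : T.val.obj (op W))) ?_
    intro W' g hg
    rcases hS' g hg with ⟨⟨k⟩⟩ | h1
    · exact (h0 k _).trans (h0 k _).symm
    · exact h1.trans (map_zero (T.val.presheaf.map g.op).hom).symm
  rw [IsZero.iff_id_eq_zero]
  apply (SheafOfModules.toSheaf _).map_injective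
  ext W t
  exact (key _ _).trans (key _ _).symm

lemma isUSupp_ext (G : ModSite.Mod (O.over U)) : IsUSupp O U ((ext O U).obj G) := by
  intro W t
  obtain ⟨S, hS, hS'⟩ := locSurj_η (sh ((ιX O U).obj G)) W t
  refine ⟨S, hS, fun W' g hg => ?_⟩
  obtain ⟨σ, hσ⟩ := hS' g hg
  by_cases h : Nonempty (W' ⟶ U)
  · exact Or.inl h
  · right
    haveI : IsEmpty (W' ⟶ U) := not_nonempty_iff.1 h
    have h0 : σ = 0 := by
      apply DFinsupp.ext (f := (σ : Sec ((ιX O U).obj G) W')) (g := (0 : Sec ((ιX O U).obj G) W'))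
      intro a
      exact (IsEmpty.false a).elim
    rw [h0, map_zero] at hσ
    exact hσ.symm

lemma isUSupp_extZero (G : ModSite.Mod (O.over U)) :
    IsUSupp O U ((ModSite.extZero O U).obj G) :=
  isUSupp_of_mono ((extZeroIso O U).hom.app G) (isUSupp_ext G)

end Groth.Agent.Helper9.QuotExact

namespace Groth.Agent.Helper9.QuotExact

open CategoryTheory Limits Opposite

universe u

variable {C : Type u} [SmallCategory C] {J : GrothendieckTopology C} (O : Sheaf J CommRingCat.{u})
  (U : C) [ModSite.HasPushOver O U]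

lemma isNullOn_of_mono {K T : ModSite.Mod O} (κ : K ⟶ T) [Mono κ] (h : ModSite.IsNullOn O U T) :
    ModSite.IsNullOn O U K := by
  rw [ExtSupp.isNullOn_iff] at h ⊢
  intro V g x
  apply injective_app_of_mono κ (op V)
  exact (h g _).trans (h g _).symm

/-- `F ↦ F/F_U` preserves monomorphisms -/
theorem mono_quotOn_map {A' A : ModSite.Mod O} (f : A' ⟶ A) [Mono f] :
    Mono ((ModSite.quotOn O U).map f) := by
  let Qf := (ModSite.quotOn O U).map f
  let κ : kernel Qf ⟶ (ModSite.quotOn O U).obj A' := kernel.ι Qf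
  let π' : A' ⟶ (ModSite.quotOn O U).obj A' := (ModSite.quotOnπ O U).app A'
  let πA : A ⟶ (ModSite.quotOn O U).obj A := (ModSite.quotOnπ O U).app A
  let εA : (ModSite.extZero O U).obj ((ModSite.restr O U).obj A) ⟶ A :=
    (ModSite.extZeroAdj O U).counit.app A
  haveI : Epi π' := inferInstance
  let m : pullback π' κ ⟶ A := pullback.fst π' κ ≫ f
  haveI : Mono m := mono_comp _ _
  have hm : m ≫ πA = 0 := by
    have nat : f ≫ πA = π' ≫ Qf := ((ModSite.quotOnπ O U).naturality f)
    show (pullback.fst π' κ ≫ f) ≫ πA = 0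
    rw [Category.assoc, nat, ← Category.assoc, pullback.condition, Category.assoc]
    show pullback.snd π' κ ≫ kernel.ι Qf ≫ Qf = 0
    rw [kernel.condition, comp_zero]
  let l : pullback π' κ ⟶ kernel πA := kernel.lift πA m hm
  haveI : Mono l := mono_of_mono_fac (kernel.lift_ι πA m hm)
  have hex : (ExtSupp.openSeq U A).Exact := (ExtSupp.openSeq_exact U A).1
  have hepi : Epi (kernel.lift πA εA (cokernel.condition _)) :=
    (ShortComplex.exact_iff_epi_kernel_lift (ExtSupp.openSeq U A)).1 hex
  have h1 : IsUSupp O U (kernel πA) :=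
    @isUSupp_of_epi _ _ _ _ _ _ _ (kernel.lift πA εA (cokernel.condition _)) hepi
      (isUSupp_extZero _)
  have h2 : IsUSupp O U (pullback π' κ) := isUSupp_of_mono l h1
  haveI : Epi (pullback.snd π' κ) := Abelian.epi_pullback_of_epi_f π' κ
  have h3 : IsUSupp O U (kernel Qf) := isUSupp_of_epi (pullback.snd π' κ) h2
  have h4 : ModSite.IsNullOn O U (kernel Qf) :=
    isNullOn_of_mono O U κ (ExtSupp.isNullOn_quotOn O U A')
  have h5 : IsZero (kernel Qf) := isZero_of_isUSupp_of_isNullOn _ h3 h4
  exact Preadditive.mono_of_kernel_zero (h5.eq_of_src _ _)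

instance preservesMonomorphisms_quotOn : (ModSite.quotOn O U).PreservesMonomorphisms where
  preserves f _ := mono_quotOn_map O U f

/-- `Γ_Z` preserves injectives -/
theorem injective_sectOn (I : ModSite.Mod O) [Injective I] :
    Injective ((ModSite.sectOn O U).obj I) :=
  Injective.injective_of_adjoint (QuotSectAdj.adj O U) I

end Groth.Agent.Helper9.QuotExact
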