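import Mathlib
import Groth.Prelude.Def_ModSite2
import Groth.Agent.Helper9.QuotExact
import Groth.Agent.Helper9.QuotSectTensor
import Groth.Agent.Helper9.ExtZRQuot
import Groth.Agent.Helper9.ShriekFlat

/-!
# `O_Z = O/O_U` is a flat `O`-module, for any object `U` of the site
-/

set_option autoImplicit false
set_option linter.style.haveILetI false
set_option linter.unusedSectionVars false

namespace Groth.Agent.Helper9.QuotOnFlat

open CategoryTheory Limits Opposite MonoidalCategory
  Groth.Agent.Helper9.TensorSh Groth.Agent.Helper9.TensorAdj Groth.Agent.Helper9.TensorFlat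

universe u

variable {C : Type u} [SmallCategory C] {J : GrothendieckTopology C} (O : Sheaf J CommRingCat.{u})

/-- `- ⊗ O ≅ id` -/
noncomputable def rightUnitIso : TN (ModSite.unit O) ≅ 𝟭 (ModSite.Mod O) :=
  NatIso.ofComponents
    (fun A => (a O).mapIso (ρ_ ((ι O).obj A)) ≪≫ (asIso (adj O).counit).app A) (by
    intro A A' f
    have h1 : (a O).map ((ι O).map f ▷ _) ≫ (a O).map (ρ_ ((ι O).obj A')).hom =
        (a O).map (ρ_ ((ι O).obj A)).hom ≫ (a O).map ((ι O).map f) := by
      rw [← Functor.map_comp, ← Functor.map_comp]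
      exact congrArg (a O).map (rightUnitor_naturality _)
    have h2 : (a O).map ((ι O).map f) ≫ (adj O).counit.app A' = (adj O).counit.app A ≫ f :=
      (adj O).counit.naturality f
    exact (Category.assoc _ _ _).symm.trans
      ((congrArg (· ≫ (adj O).counit.app A') h1).trans
        ((Category.assoc _ _ _).trans
          ((congrArg ((a O).map (ρ_ ((ι O).obj A)).hom ≫ ·) h2).trans
            (Category.assoc _ _ _).symm))))

variable (U : C) [ModSite.HasPushOver O U]

/-- `- ⊗ O_Z ≅ (-)_Z` -/
theorem nonempty_TN_quotOn_unit_iso :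
    Nonempty (TN ((ModSite.quotOn O U).obj (ModSite.unit O)) ≅ ModSite.quotOn O U) := by
  obtain ⟨i⟩ := QuotSectTensor.nonempty_iso32 O U (ModSite.unit O) (ModSite.tensorBi O)
    (QuotSectTensor.k3 O U (ModSite.unit O)) (QuotSectTensor.k4 O U (ModSite.unit O))
  exact ⟨i ≪≫ Functor.isoWhiskerRight (rightUnitIso O) (ModSite.quotOn O U) ≪≫
    Functor.leftUnitor _⟩

/-- `O_Z` is flat -/
theorem isFlat_quotOn_unit : ModSite.IsFlat ((ModSite.quotOn O U).obj (ModSite.unit O)) := by
  obtain ⟨e⟩ := nonempty_TN_quotOn_unit_iso O U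
  apply isFlat_of_mono
  intro M' M f hf
  haveI : Mono ((ModSite.quotOn O U).map f) := QuotExact.mono_quotOn_map O U f
  exact ShriekFlat.mono_map_of_natIso e f

end Groth.Agent.Helper9.QuotOnFlat
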