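import Mathlib

/-! Finitely supported maps into a coproduct in a preadditive category: generic calculus
(idempotents `eF`, the class `Fin` of objects all of whose maps to `∐ K` are finitely supported,
stability under triangles and direct sums). -/

set_option autoImplicit false
set_option linter.style.haveILetI false
set_option linter.unusedVariables false
set_option linter.unusedSectionVars false
universe w v u

namespace Groth.Agent.Helper9.CP1

open CategoryTheory Limits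

variable {C : Type u} [Category.{v} C] [Preadditive C] {ι : Type w} (K : ι → C) [HasCoproduct K]

/-- projection from the coproduct -/
noncomputable def pr (i : ι) : ∐ K ⟶ K i := @Sigma.π _ _ _ _ (Classical.decEq ι) K _ i

@[reassoc (attr := simp)]
lemma ι_pr_self (i : ι) : Sigma.ι K i ≫ pr K i = 𝟙 _ := by
  unfold pr
  exact @Sigma.ι_π_eq_id _ _ _ _ (Classical.decEq ι) K _ i

@[reassoc]
lemma ι_pr_ne {i j : ι} (h : i ≠ j) : Sigma.ι K i ≫ pr K j = 0 := by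
  unfold pr
  exact @Sigma.ι_π_of_ne _ _ _ _ (Classical.decEq ι) K _ i j h

/-- the idempotent of `∐ K` attached to a finite set of indices -/
noncomputable def eF (F : Finset ι) : ∐ K ⟶ ∐ K := ∑ i ∈ F, pr K i ≫ Sigma.ι K i

lemma ι_eF_mem {F : Finset ι} {i : ι} (h : i ∈ F) : Sigma.ι K i ≫ eF K F = Sigma.ι K i := by
  classical
  unfold eF
  rw [Preadditive.comp_sum, Finset.sum_eq_single i]
  · rw [ι_pr_self_assoc]
  · intro j _ hj
    rw [ι_pr_ne_assoc K (Ne.symm hj), zero_comp]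
  · intro hi
    exact absurd h hi

lemma ι_eF_not_mem {F : Finset ι} {i : ι} (h : i ∉ F) : Sigma.ι K i ≫ eF K F = 0 := by
  classical
  unfold eF
  rw [Preadditive.comp_sum]
  apply Finset.sum_eq_zero
  intro j hj
  have : i ≠ j := fun hij => h (hij ▸ hj)
  rw [ι_pr_ne_assoc K this, zero_comp]

lemma eF_comp_of_subset {F F' : Finset ι} (h : F ⊆ F') : eF K F ≫ eF K F' = eF K F := by
  classical
  apply Sigma.hom_ext
  intro i
  by_cases hi : i ∈ F
  · rw [← Category.assoc, ι_eF_mem K hi, ι_eF_mem K (h hi)]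
  · rw [← Category.assoc, ι_eF_not_mem K hi, zero_comp]

lemma pr_eF_mem {F : Finset ι} {i : ι} (h : i ∈ F) : eF K F ≫ pr K i = pr K i := by
  classical
  apply Sigma.hom_ext
  intro j
  by_cases hj : j ∈ F
  · rw [← Category.assoc, ι_eF_mem K hj]
  · rw [← Category.assoc, ι_eF_not_mem K hj, zero_comp, ι_pr_ne K (fun hji : j = i => hj (by rw [hji]; exact h))]

variable {K}

/-- `ψ` is supported on the finite set `F` -/
def Supp (F : Finset ι) {T : C} (ψ : T ⟶ ∐ K) : Prop := ψ ≫ eF K F = ψ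

lemma Supp.mono {F F' : Finset ι} (h : F ⊆ F') {T : C} {ψ : T ⟶ ∐ K} (hψ : Supp F ψ) :
    Supp F' ψ := by
  unfold Supp at hψ ⊢
  rw [← hψ, Category.assoc, eF_comp_of_subset K h]

lemma Supp.add {F : Finset ι} {T : C} {ψ ψ' : T ⟶ ∐ K} (h : Supp F ψ) (h' : Supp F ψ') :
    Supp F (ψ + ψ') := by
  unfold Supp at h h' ⊢
  rw [Preadditive.add_comp, h, h']

lemma Supp.sub {F : Finset ι} {T : C} {ψ ψ' : T ⟶ ∐ K} (h : Supp F ψ) (h' : Supp F ψ') :
    Supp F (ψ - ψ') := by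
  unfold Supp at h h' ⊢
  rw [Preadditive.sub_comp, h, h']

lemma Supp.comp {F : Finset ι} {T T' : C} (g : T' ⟶ T) {ψ : T ⟶ ∐ K} (h : Supp F ψ) :
    Supp F (g ≫ ψ) := by
  unfold Supp at h ⊢
  rw [Category.assoc, h]

lemma supp_comp_eF (F : Finset ι) {T : C} (ψ : T ⟶ ∐ K) : Supp F (ψ ≫ eF K F) := by
  unfold Supp
  rw [Category.assoc, eF_comp_of_subset K (Finset.Subset.refl F)]

lemma Supp.eq_zero {F : Finset ι} {T : C} {ψ : T ⟶ ∐ K} (h : Supp F ψ)
    (h0 : ∀ i ∈ F, ψ ≫ pr K i = 0) : ψ = 0 := by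
  unfold Supp at h
  rw [← h]
  unfold eF
  rw [Preadditive.comp_sum]
  apply Finset.sum_eq_zero
  intro i hi
  rw [← Category.assoc, h0 i hi, zero_comp]

variable (K)

/-- all maps from `T` to `∐ K` are finitely supported -/
def Fin (T : C) : Prop := ∀ ψ : T ⟶ ∐ K, ∃ F : Finset ι, Supp F ψ

variable {K}

lemma Fin.of_iso {T T' : C} (e : T ≅ T') (h : Fin K T) : Fin K T' := by
  intro ψ
  obtain ⟨F, hF⟩ := h (e.hom ≫ ψ)
  refine ⟨F, ?_⟩
  have := hF.comp e.inv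
  rwa [Iso.inv_hom_id_assoc] at this

lemma Fin.of_total {T T₁ T₂ : C} (i₁ : T₁ ⟶ T) (i₂ : T₂ ⟶ T) (p₁ : T ⟶ T₁) (p₂ : T ⟶ T₂)
    (htot : p₁ ≫ i₁ + p₂ ≫ i₂ = 𝟙 T) (h₁ : Fin K T₁) (h₂ : Fin K T₂) : Fin K T := by
  classical
  intro ψ
  obtain ⟨F₁, hF₁⟩ := h₁ (i₁ ≫ ψ)
  obtain ⟨F₂, hF₂⟩ := h₂ (i₂ ≫ ψ)
  refine ⟨F₁ ∪ F₂, ?_⟩
  have : ψ = p₁ ≫ i₁ ≫ ψ + p₂ ≫ i₂ ≫ ψ := by
    rw [← Category.assoc, ← Category.assoc, ← Preadditive.add_comp, htot, Category.id_comp]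
  rw [this]
  exact ((hF₁.mono Finset.subset_union_left).comp p₁).add
    ((hF₂.mono Finset.subset_union_right).comp p₂)

section Tri

open Pretriangulated

variable [HasZeroObject C] [HasShift C ℤ] [∀ n : ℤ, (shiftFunctor C n).Additive] [Pretriangulated C]

lemma Fin.triangle (T : Triangle C) (hT : T ∈ distTriang C) (h₂ : Fin K T.obj₂)
    (h₁ : Fin K (T.obj₁⟦(1 : ℤ)⟧)) : Fin K T.obj₃ := by
  classical
  intro ψ
  obtain ⟨F, hF⟩ := h₂ (T.mor₂ ≫ ψ)
  have h0 : T.mor₂ ≫ (ψ - ψ ≫ eF K F) = 0 := by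
    rw [Preadditive.comp_sub, ← Category.assoc, hF, sub_self]
  obtain ⟨χ, hχ⟩ := Triangle.yoneda_exact₃ T hT _ h0
  obtain ⟨F', hF'⟩ := h₁ χ
  refine ⟨F ∪ F', ?_⟩
  have h1 : Supp (F ∪ F') (ψ - ψ ≫ eF K F) := by
    rw [hχ]
    exact (hF'.mono Finset.subset_union_right).comp T.mor₃
  have h2 : Supp (F ∪ F') (ψ ≫ eF K F) := (supp_comp_eF F ψ).mono Finset.subset_union_left
  have := h1.add h2
  rwa [sub_add_cancel] at this

end Tri

end Groth.Agent.Helper9.CP1
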