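import Mathlib
import Groth.Prelude.Def_DerSch
import Groth.Agent.Helper9.SkyMod5
import Groth.Agent.Helper4.TwistExt

/-! Sections of a coproduct of `O_X`-modules over a quasi-compact open are finitely supported. -/

set_option autoImplicit false
set_option linter.style.haveILetI false
set_option linter.unusedVariables false
set_option linter.unusedSectionVars false
universe u

namespace Groth.Agent.Helper9.CP2

open CategoryTheory Limits AlgebraicGeometry Opposite TopologicalSpace
open Groth.Agent.Helper9.SkyMod2 Groth.Agent.Helper9.SkyMod4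

section Alg

variable {R : Type u} [Ring R] {ι : Type u} {M_ : ι → ModuleCat.{u} R} {P : ModuleCat.{u} R}
  (a : ∀ i, M_ i ⟶ P) (hc : IsColimit (Cofan.mk P a)) (ε : Finset ι → (P ⟶ P))
  (h₁ : ∀ (F : Finset ι) (i : ι), i ∈ F → a i ≫ ε F = a i)
  (h₂ : ∀ F F' : Finset ι, F ⊆ F' → ε F ≫ ε F' = ε F)

include hc h₁ h₂ in
/-- elements of a coproduct of modules are finitely supported -/
theorem exists_finset_fixed (z : P) : ∃ F : Finset ι, (ε F).hom z = z := by
  classical
  let P' : Submodule R P :=
    { carrier := {z | ∃ F : Finset ι, (ε F).hom z = z}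
      zero_mem' := ⟨∅, map_zero _⟩
      add_mem' := by
        rintro z z' ⟨F, hF⟩ ⟨F', hF'⟩
        refine ⟨F ∪ F', ?_⟩
        have e1 : (ε (F ∪ F')).hom z = z := by
          have := congrArg (fun φ => φ.hom z) (h₂ F (F ∪ F') Finset.subset_union_left)
          simp only [ModuleCat.hom_comp, LinearMap.comp_apply] at this
          rw [hF] at this
          exact this
        have e2 : (ε (F ∪ F')).hom z' = z' := by
          have := congrArg (fun φ => φ.hom z') (h₂ F' (F ∪ F') Finset.subset_union_right)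
          simp only [ModuleCat.hom_comp, LinearMap.comp_apply] at this
          rw [hF'] at this
          exact this
        rw [map_add, e1, e2]
      smul_mem' := by
        rintro r z ⟨F, hF⟩
        exact ⟨F, by rw [map_smul, hF]⟩ }
  have hmem : ∀ i (y : M_ i), (a i).hom y ∈ P' := by
    intro i y
    refine ⟨{i}, ?_⟩
    have := congrArg (fun φ => φ.hom y) (h₁ {i} i (Finset.mem_singleton_self i))
    simpa using this
  have hq : ModuleCat.ofHom P'.mkQ = 0 := by
    apply Cofan.IsColimit.hom_ext hc
    intro i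
    ext y
    change P'.mkQ ((a i).hom y) = 0
    rw [Submodule.mkQ_apply, Submodule.Quotient.mk_eq_zero]
    exact hmem i y
  have hz : P'.mkQ z = 0 := by
    have := congrArg (fun φ => φ.hom z) hq
    simpa using this
  rw [Submodule.mkQ_apply, Submodule.Quotient.mk_eq_zero] at hz
  exact hz

end Alg

variable {X : Scheme.{u}} {ι : Type u} {M_ : ι → X.Modules} {M : X.Modules}
  (a : ∀ i, M_ i ⟶ M) (hc : IsColimit (Cofan.mk M a)) (ε : Finset ι → (M ⟶ M))
  (h₁ : ∀ (F : Finset ι) (i : ι), i ∈ F → a i ≫ ε F = a i)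
  (h₂ : ∀ F F' : Finset ι, F ⊆ F' → ε F ≫ ε F' = ε F)

include hc h₁ h₂ in
/-- local finiteness of the support of a section of a coproduct -/
theorem exists_local (U : X.Opens) (s : Γ(M, U)) (x : X) (hx : x ∈ U) :
    ∃ (F : Finset ι) (W : X.Opens) (hW : W ≤ U), x ∈ W ∧
      M.presheaf.map (homOfLE hW).op ((ε F).app U s) = M.presheaf.map (homOfLE hW).op s := by
  have hc' : IsColimit (Cofan.mk ((St x).obj M) (fun i => (St x).map (a i))) :=
    isColimitCofanMkObjOfIsColimit (St x) _ _ hc
  obtain ⟨F, hF⟩ := exists_finset_fixed (fun i => (St x).map (a i)) hc'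
    (fun F => (St x).map (ε F))
    (fun F i hi => by rw [← Functor.map_comp, h₁ F i hi])
    (fun F F' h => by rw [← Functor.map_comp, h₂ F F' h]) (M.presheaf.germ U x hx s)
  have h3 : M.presheaf.germ U x hx ((ε F).app U s) = M.presheaf.germ U x hx s := by
    rw [← DerSch.stalkFunctor_map_germ x (ε F) U hx s]
    exact hF
  obtain ⟨W, hxW, i₁, i₂, hW⟩ := TopCat.Presheaf.germ_eq M.presheaf x hx hx _ _ h3
  refine ⟨F, W, leOfHom i₁, hxW, ?_⟩
  exact hW

include hc h₁ h₂ in
/-- **sections of a coproduct over a quasi-compact open are finitely supported** -/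
theorem exists_finset_section (U : X.Opens) (hU : IsCompact (U : Set X)) (s : Γ(M, U)) :
    ∃ F : Finset ι, (ε F).app U s = s := by
  classical
  choose F W hW hxW hFW using fun (x : U) => exists_local a hc ε h₁ h₂ U s x.1 x.2
  obtain ⟨t, ht⟩ := hU.elim_finite_subcover (fun x : U => ((W x : X.Opens) : Set X))
    (fun x => (W x).2) (fun y hy => Set.mem_iUnion.2 ⟨⟨y, hy⟩, hxW ⟨y, hy⟩⟩)
  refine ⟨t.biUnion F, ?_⟩
  apply Groth.Agent.Helper4.TwistExt.eq_of_cover
  intro y hy
  obtain ⟨x, hxt, hyx⟩ : ∃ x ∈ t, y ∈ W x := by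
    have := ht hy
    simpa using this
  refine ⟨W x, hW x, hyx, ?_⟩
  have hsub : F x ⊆ t.biUnion F := Finset.subset_biUnion_of_mem F hxt
  -- naturality of `ε` with respect to restriction
  have nat : ∀ (G : Finset ι) (r : Γ(M, U)),
      M.presheaf.map (homOfLE (hW x)).op ((ε G).app U r) =
        (ε G).app (W x) (M.presheaf.map (homOfLE (hW x)).op r) := by
    intro G r
    exact (NatTrans.naturality_apply (ε G).mapPresheaf (homOfLE (hW x)).op r).symm
  rw [nat, ← hFW x, nat]
  have h4 := congrArg (fun φ : M ⟶ M => φ.app (W x) (M.presheaf.map (homOfLE (hW x)).op s))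
    (h₂ (F x) (t.biUnion F) hsub)
  exact h4

end Groth.Agent.Helper9.CP2
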