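import Mathlib
import Groth.Agent.Helper9.CP1
import Groth.Agent.Helper9.CP2
import Groth.Agent.Helper9.CP3
import Groth.Agent.Helper9.QP8
import Groth.Agent.Helper9.Van1
import Groth.Agent.S1040

/-! For a family `K i ∈ D_QCoh(O_X)` and a quasi-compact quasi-separated open `Ω`, every map
`GU(Ω)[-m] ⟶ ∐ K` is finitely supported. -/

set_option autoImplicit false
set_option linter.style.haveILetI false
set_option linter.unusedVariables false
set_option linter.unusedSectionVars false
universe u

namespace Groth.Agent.Helper9.CP4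

open CategoryTheory Limits AlgebraicGeometry Opposite TopologicalSpace DerivedCategory Pretriangulated
open Groth.Agent.Helper9 Groth.Agent.Helper9.LCAff1 Groth.Agent.Helper9.QP2
  Groth.Agent.Helper9.QP3 Groth.Agent.Helper9.LC3

attribute [local instance] HasDerivedCategory.standard

variable {X : Scheme.{u}} {ι : Type u} (K : ι → DCoh.D X) [HasCoproduct K]
  (hK : ∀ i, DCoh.IsQCohD (K i))

include hK in
theorem fin_affine (U : X.Opens) (hU : IsAffineOpen U) (m : ℤ) : CP1.Fin K (W (GU U) m) := by
  intro ψ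
  haveI := Groth.Agent.Helper4.SchAdj.isGrothendieckAbelian_modules X
  haveI : HasExactColimitsOfShape (Discrete ι) X.Modules := inferInstance
  have hE : DCoh.IsQCohD (∐ K) := Groth.Agent.S1040.result X K hK
  obtain ⟨hc⟩ := CP3.nonempty_isColimit_homology_sigma K m
  obtain ⟨F, hF⟩ := CP2.exists_finset_section
    (fun i => (homologyFunctor X.Modules m).map (Sigma.ι K i)) hc
    (fun F => (homologyFunctor X.Modules m).map (CP1.eF K F))
    (fun F i hi => by rw [← Functor.map_comp, CP1.ι_eF_mem K hi])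
    (fun F F' h => by rw [← Functor.map_comp, CP1.eF_comp_of_subset K h])
    U hU.isCompact (kk m (∐ K) U ψ)
  refine ⟨F, ?_⟩
  apply (kk_bijective m (∐ K) hE U hU).1
  rw [QP8.kk_comp]
  exact hF

include hK in
theorem fin_open (Ω : X.Opens) (hΩc : IsCompact (Ω : Set X))
    (hΩ : IsQuasiSeparated (Ω : Set X)) : ∀ m : ℤ, CP1.Fin K (W (GU Ω) m) := by
  refine QP3a.mv_induction (fun U => ∀ m : ℤ, CP1.Fin K (W (GU U) m))
    (fun U hU m => fin_affine K hK U hU m) ?_ Ω hΩc hΩ
  intro U V hU hV hUV m
  obtain ⟨c, hc⟩ := Van1.exists_singleTriangle (mvS U V) (mvS_shortExact U V) m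
  refine CP1.Fin.triangle _ hc ?_ ?_
  · let Sm := singleFunctor X.Modules m
    refine CP1.Fin.of_total (T := W (GU U ⊞ GU V) m) (Sm.map biprod.inl) (Sm.map biprod.inr)
      (Sm.map biprod.fst) (Sm.map biprod.snd) ?_ (hU m) (hV m)
    rw [← Functor.map_comp, ← Functor.map_comp, ← Functor.map_add, biprod.total,
      CategoryTheory.Functor.map_id]
  · exact CP1.Fin.of_iso (wShift (GU (U ⊓ V)) 1 (m - 1) m (by omega)).symm (hUV (m - 1))

end Groth.Agent.Helper9.CP4
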