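import Mathlib
import Groth.Agent.Helper9.CP4

/-! `Rf_*` commutes with coproducts of objects of `D_QCoh` (`f` quasi-compact quasi-separated). -/

set_option autoImplicit false
set_option linter.style.haveILetI false
set_option linter.unusedVariables false
set_option linter.unusedSectionVars false
universe u

namespace Groth.Agent.Helper9.CP5

open CategoryTheory Limits AlgebraicGeometry Opposite TopologicalSpace DerivedCategory Pretriangulated
open Groth.Agent.Helper9 Groth.Agent.Helper9.LCAff1 Groth.Agent.Helper9.QP2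
  Groth.Agent.Helper9.QP3 Groth.Agent.Helper9.LC3

attribute [local instance] HasDerivedCategory.standard

theorem isIso_sigma_Rpush {X S : Scheme.{u}} (f : X ⟶ S) [QuasiCompact f] [QuasiSeparated f]
    [DCoh.HasRpush f] {ι : Type u} (K : ι → DCoh.D X) (hK : ∀ i, DCoh.IsQCohD (K i))
    [HasCoproduct K] [HasCoproduct (fun i => (DCoh.Rpush f).obj (K i))] :
    IsIso (Sigma.desc (fun i => (DCoh.Rpush f).map (Sigma.ι K i))) := by
  classical
  haveI := Groth.Agent.Helper4.SchAdj.isGrothendieckAbelian_modules X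
  haveI : DCoh.HasLpull f := Groth.Agent.Helper9.Lpull1.hasLpull f
  have adj := Groth.Agent.Helper4.SchAdj.adj f
  haveI : (DCoh.Rpush f).IsRightAdjoint := adj.isRightAdjoint
  haveI : PreservesLimitsOfSize.{0, 0} (DCoh.Rpush f) := adj.rightAdjoint_preservesLimits
  haveI : (DCoh.Rpush f).Additive := Functor.additive_of_preserves_binary_products _
  let R := DCoh.Rpush f
  let K' : ι → DCoh.D S := fun i => R.obj (K i)
  let φ : ∐ K' ⟶ R.obj (∐ K) := Sigma.desc (fun i => R.map (Sigma.ι K i))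
  have hφι : ∀ i, Sigma.ι K' i ≫ φ = R.map (Sigma.ι K i) := fun i => Sigma.ι_desc _ i
  have hE : DCoh.IsQCohD (∐ K) := Groth.Agent.S1040.result X K hK
  have hK' : ∀ i, DCoh.IsQCohD (K' i) := fun i => QP7.isQCohD_Rpush f (K i) (hK i)
  have hE' : DCoh.IsQCohD (∐ K') := Groth.Agent.S1040.result S K' hK'
  have hRE : DCoh.IsQCohD (R.obj (∐ K)) := QP7.isQCohD_Rpush f _ hE
  -- compatibility of `φ` with the projections
  have hφpr : ∀ i, φ ≫ R.map (CP1.pr K i) = CP1.pr K' i := by
    intro i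
    apply Sigma.hom_ext
    intro j
    rw [← Category.assoc, hφι j, ← R.map_comp]
    by_cases hji : j = i
    · subst hji
      rw [CP1.ι_pr_self, CP1.ι_pr_self, R.map_id]
    · rw [CP1.ι_pr_ne K hji, CP1.ι_pr_ne K' hji, R.map_zero]
  show IsIso φ
  rw [DerivedCategory.isIso_iff]
  intro q
  haveI : ((homologyFunctor S.Modules q).obj (∐ K')).IsQuasicoherent := hE' q
  haveI : ((homologyFunctor S.Modules q).obj (R.obj (∐ K))).IsQuasicoherent := hRE q
  apply Groth.Agent.Helper4.QcohLocal.isIso_of_app_bijective_of_affine_cover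
  intro s
  obtain ⟨_, ⟨V₀, hV0, rfl⟩, hsV, -⟩ :=
    S.isBasis_affineOpens.exists_subset_of_mem_open (Set.mem_univ s) isOpen_univ
  obtain ⟨V, hVV⟩ : ∃ V : S.Opens, V = V₀ := ⟨V₀, rfl⟩
  subst hVV
  have hV : IsAffineOpen V := hV0
  refine ⟨V, hV, hsV, ?_⟩
  have k1 := kk_bijective q (∐ K') hE' V hV
  have k2 := kk_bijective q (R.obj (∐ K)) hRE V hV
  have hb : Function.Bijective (fun ψ : W (GU V) q ⟶ ∐ K' => ψ ≫ φ) := by
    constructor
    · -- injectivity
      intro ψ₁ ψ₂ h12
      have h0 : (ψ₁ - ψ₂) ≫ φ = 0 := by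
        rw [Preadditive.sub_comp]
        exact sub_eq_zero.2 h12
      obtain ⟨F, hF⟩ := CP4.fin_affine K' hK' V hV q (ψ₁ - ψ₂)
      have : ψ₁ - ψ₂ = 0 := by
        apply hF.eq_zero
        intro i _
        rw [← hφpr i, ← Category.assoc, h0, zero_comp]
      exact sub_eq_zero.1 this
    · -- surjectivity
      intro χ
      let θ := QP4b.θ f V q
      let flat : ∀ G : DCoh.D X, (W (GU V) q ⟶ R.obj G) → (W (GU (f ⁻¹ᵁ V)) q ⟶ G) :=
        fun G χ => θ.inv ≫ (adj.homEquiv _ _).symm χ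
      have flat_comp : ∀ {G G' : DCoh.D X} (χ : W (GU V) q ⟶ R.obj G) (g : G ⟶ G'),
          flat G' (χ ≫ R.map g) = flat G χ ≫ g := by
        intro G G' χ g
        show θ.inv ≫ (adj.homEquiv _ _).symm (χ ≫ R.map g) =
          (θ.inv ≫ (adj.homEquiv _ _).symm χ) ≫ g
        rw [Adjunction.homEquiv_naturality_right_symm, Category.assoc]
      have flat_inj : ∀ G : DCoh.D X, Function.Injective (flat G) := by
        intro G χ₁ χ₂ h
        have h' : (adj.homEquiv _ _).symm χ₁ = (adj.homEquiv _ _).symm χ₂ :=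
          (cancel_epi θ.inv).1 h
        exact (adj.homEquiv _ _).symm.injective h'
      have hc : IsCompact ((f ⁻¹ᵁ V : X.Opens) : Set X) := f.isCompact_preimage hV.isCompact
      have hq : IsQuasiSeparated ((f ⁻¹ᵁ V : X.Opens) : Set X) :=
        f.isQuasiSeparated_preimage hV.isQuasiSeparated
      obtain ⟨F, hF⟩ := CP4.fin_open K hK (f ⁻¹ᵁ V) hc hq q (flat _ χ)
      have h1 : χ ≫ R.map (CP1.eF K F) = χ := by
        apply flat_inj
        rw [flat_comp]
        exact hF
      refine ⟨∑ i ∈ F, χ ≫ R.map (CP1.pr K i) ≫ Sigma.ι K' i, ?_⟩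
      show (∑ i ∈ F, χ ≫ R.map (CP1.pr K i) ≫ Sigma.ι K' i) ≫ φ = χ
      rw [Preadditive.sum_comp]
      conv_rhs => rw [← h1]
      unfold CP1.eF
      rw [Functor.map_sum, Preadditive.comp_sum]
      refine Finset.sum_congr rfl (fun i _ => ?_)
      rw [Category.assoc, Category.assoc, hφι i, R.map_comp]
  have h3 : ⇑(ConcreteCategory.hom (((homologyFunctor S.Modules q).map φ).app V)) ∘
      kk q (∐ K') V = kk q (R.obj (∐ K)) V ∘ (fun ψ : W (GU V) q ⟶ ∐ K' => ψ ≫ φ) := by
    funext ψ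
    exact (QP8.kk_comp q φ _ ψ).symm
  have h4 : Function.Bijective
      (⇑(ConcreteCategory.hom (((homologyFunctor S.Modules q).map φ).app V)) ∘
        kk q (∐ K') V) := by
    rw [h3]
    exact k2.comp hb
  exact (Function.Bijective.of_comp_iff _ k1).1 h4

end Groth.Agent.Helper9.CP5
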