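import Mathlib
import Groth.Prelude.Def_BigSite
import Groth.Prelude.Def_EtBase
import Groth.Agent.Helper9.EtDisjGlue
import Groth.Agent.Helper9.EtAlmostCocont

/-! Condition (A) on `f : X ⟶ Y`: on abelian étale sheaves `f_*` reflects monomorphisms and
epimorphisms, the counit `f⁻¹ f_* F ⟶ F` is an epimorphism and `f_*` is faithful. -/

set_option autoImplicit false
universe u

open CategoryTheory CategoryTheory.Limits Opposite AlgebraicGeometry

namespace Groth.Agent.Helper9.EtPropA

open Groth.Agent.Helper9.EtDisjGlue Groth.Agent.Helper9.EtAlmostCocont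

variable {X Y : Scheme.{u}} {f : X ⟶ Y}

set_option backward.isDefEq.respectTransparency.types false in
theorem etale_left {U V : X.Etale} (g : U ⟶ V) : Etale g.left := by
  have h1 : Etale V.hom := V.prop
  have h2 : Etale (g.left ≫ V.hom) := by
    rw [MorphismProperty.Over.w g]
    exact U.prop
  exact MorphismProperty.of_postcomp (W := @Etale) (W' := @Etale) g.left V.hom h1 h2

set_option backward.isDefEq.respectTransparency.types false in
/-- site-level form of (A) with gluing -/
theorem exists_clopen (hA : BigSite.PropA f) (U : X.Etale) (x : U.left) :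
    ∃ (V : Y.Etale) (O Oc : X.Etale) (ι : O ⟶ (EtCoh.bc f).obj V)
      (ιc : Oc ⟶ (EtCoh.bc f).obj V) (h : O ⟶ U) (z : O.left), h.left z = x ∧
      ∀ (P : X.Etaleᵒᵖ ⥤ Type (u + 1)), Presieve.IsSheaf X.smallEtaleTopology P →
        ∀ (s : P.obj (op O)) (sc : P.obj (op Oc)),
          ∃! t : P.obj (op ((EtCoh.bc f).obj V)), P.map ι.op t = s ∧ P.map ιc.op t = sc := by
  have hUet : Etale U.hom := U.prop
  obtain ⟨V, v, hv, W, hWcl, h, hh, ⟨z, hz⟩⟩ := hA U.left U.hom x
  let V' : Y.Etale := Scheme.Etale.mk v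
  let T : X.Etale := (EtCoh.bc f).obj V'
  let σ : pullback v f ≅ pullback f v := pullbackSymmetry v f
  have hσinv_snd : σ.inv ≫ pullback.snd v f = pullback.fst f v :=
    pullbackSymmetry_inv_comp_snd _ _
  let Wc : (pullback f v).Opens := ⟨(W : Set ↥(pullback f v))ᶜ, hWcl.isOpen_compl⟩
  let Wb : Bool → (pullback f v).Opens := fun b => bif b then W else Wc
  let O : Bool → X.Etale := fun b => Scheme.Etale.mk ((Wb b).ι ≫ pullback.fst f v)
  let ιl : ∀ b, (O b).left ⟶ pullback v f := fun b => (Wb b).ι ≫ σ.inv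
  have hιl : ∀ b, ιl b ≫ T.hom = (O b).hom := by
    intro b
    show ((Wb b).ι ≫ σ.inv) ≫ pullback.snd v f = (Wb b).ι ≫ pullback.fst f v
    rw [Category.assoc, hσinv_snd]
  let ι : ∀ b, O b ⟶ T := fun b => MorphismProperty.Over.homMk (ιl b) (hιl b) trivial
  let h' : O true ⟶ U := MorphismProperty.Over.homMk h hh trivial
  have hmono : ∀ b, Mono (ι b) := by
    intro b
    apply mono_of_mono_left
    show Mono ((Wb b).ι ≫ σ.inv)
    infer_instance
  have hmemW : ∀ b (zb : (O b).left), (Wb b).ι zb ∈ ((Wb b : (pullback f v).Opens) : Set _) := by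
    intro b zb
    rw [← Scheme.Opens.range_ι]
    exact ⟨_, rfl⟩
  have hsurj : ∀ y : T.left, ∃ (b : Bool) (zb : (O b).left), (ι b).left zb = y := by
    intro y
    let y' : ↥(pullback v f) := y
    have key : ∀ b, σ.hom y' ∈ ((Wb b : (pullback f v).Opens) : Set _) →
        ∃ zb : (O b).left, (ι b).left zb = y := by
      intro b hb
      rw [← Scheme.Opens.range_ι] at hb
      obtain ⟨zb, hzb⟩ := hb
      refine ⟨zb, ?_⟩
      show ((Wb b).ι ≫ σ.inv) zb = y'
      rw [Scheme.Hom.comp_apply, hzb, ← Scheme.Hom.comp_apply, Iso.hom_inv_id]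
      rfl
    by_cases hy : σ.hom y' ∈ (W : Set ↥(pullback f v))
    · exact ⟨true, key true hy⟩
    · exact ⟨false, key false hy⟩
  have hdisj : ∀ a b, a ≠ b → ∀ (za : (O a).left) (zb : (O b).left),
      (ι a).left za ≠ (ι b).left zb := by
    intro a b hab za zb heq
    have heq' : ((Wb a).ι ≫ σ.inv) za = ((Wb b).ι ≫ σ.inv) zb := heq
    have h1 : (Wb a).ι za = (Wb b).ι zb := by
      have := congrArg σ.hom heq'
      rwa [← Scheme.Hom.comp_apply, ← Scheme.Hom.comp_apply, Category.assoc, Category.assoc,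
        Iso.inv_hom_id, Category.comp_id, Category.comp_id] at this
    have h2 := hmemW a za
    have h3 := hmemW b zb
    rw [← h1] at h3
    cases a <;> cases b
    · exact hab rfl
    · exact h2 h3
    · exact h3 h2
    · exact hab rfl
  refine ⟨V', O true, O false, ι true, ι false, h', z, hz, ?_⟩
  intro P hP s sc
  obtain ⟨t, ht, huniq⟩ := existsUnique_glue O ι hmono hsurj hdisj P hP
    (fun b => by
      cases b
      · exact sc
      · exact s)
  exact ⟨t, ⟨ht true, ht false⟩, fun t' ht' => huniq t' (fun b => by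
    cases b
    · exact ht'.2
    · exact ht'.1)⟩

theorem isSheaf_forget (F : EtCoh.Ab X) :
    Presieve.IsSheaf X.smallEtaleTopology (F.obj ⋙ forget AddCommGrpCat) :=
  (isSheaf_iff_isSheaf_of_type _ _).mp
    ((Presheaf.isSheaf_iff_isSheaf_forget _ _ (forget AddCommGrpCat)).mp F.property)

/-- extension by zero of a section over the clopen piece -/
theorem exists_ext (hA : BigSite.PropA f) (U : X.Etale) (x : U.left) :
    ∃ (V : Y.Etale) (O : X.Etale) (ι : O ⟶ (EtCoh.bc f).obj V) (h : O ⟶ U) (z : O.left),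
      h.left z = x ∧ ∀ (F : EtCoh.Ab X) (s : F.obj.obj (op O)),
        ∃ t : F.obj.obj (op ((EtCoh.bc f).obj V)), F.obj.map ι.op t = s ∧
          ∀ {G : EtCoh.Ab X} (a : F ⟶ G), a.hom.app _ s = 0 → a.hom.app _ t = 0 := by
  obtain ⟨V, O, Oc, ι, ιc, h, z, hz, hglue⟩ := exists_clopen hA U x
  refine ⟨V, O, ι, h, z, hz, ?_⟩
  intro F s
  obtain ⟨t, ⟨ht1, ht2⟩, -⟩ := hglue _ (isSheaf_forget F) s (0 : F.obj.obj (op Oc))
  refine ⟨t, ht1, ?_⟩
  intro G a has
  obtain ⟨r, -, hr⟩ := hglue _ (isSheaf_forget G) (0 : G.obj.obj (op O)) (0 : G.obj.obj (op Oc))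
  have e1 : a.hom.app _ t = r := by
    apply hr
    constructor
    · have n1 := NatTrans.naturality_apply a.hom ι.op t
      refine n1.symm.trans ?_
      have ht1' : F.obj.map ι.op t = s := ht1
      rw [ht1', has]
    · have n1 := NatTrans.naturality_apply a.hom ιc.op t
      refine n1.symm.trans ?_
      have ht2' : F.obj.map ιc.op t = 0 := ht2
      rw [ht2', map_zero]
  have e2 : (0 : G.obj.obj (op ((EtCoh.bc f).obj V))) = r := by
    apply hr
    exact ⟨map_zero (G.obj.map ι.op).hom, map_zero (G.obj.map ιc.op).hom⟩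
  exact e1.trans e2.symm

theorem mono_of_mono_push (hA : BigSite.PropA f) {F G : EtCoh.Ab X} (a : F ⟶ G)
    (hm : Mono ((EtCoh.push f).map a)) : Mono a := by
  have hinj : ∀ V : Y.Etale, Function.Injective (a.hom.app (op ((EtCoh.bc f).obj V))) := by
    intro V
    have h1 : Mono ((sheafToPresheaf _ _).map ((EtCoh.push f).map a)) := inferInstance
    have h2 := (NatTrans.mono_iff_mono_app _).1 h1 (op V)
    exact (AddCommGrpCat.mono_iff_injective _).1 h2
  apply Sheaf.mono_of_injective
  rintro ⟨U⟩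
  rw [injective_iff_map_eq_zero]
  intro s hs
  have hcov : Presheaf.equalizerSieve (F := F.obj) (X := op U) s 0 ∈
      X.smallEtaleTopology U := by
    rw [mem_iff]
    intro x
    obtain ⟨V, O, ι, h, z, hz, hext⟩ := exists_ext hA U x
    refine ⟨O, h, z, ?_, etale_left h, hz⟩
    show F.obj.map h.op s = F.obj.map h.op 0
    rw [map_zero]
    obtain ⟨t, ht, ht0⟩ := hext F (F.obj.map h.op s)
    have h3 : a.hom.app _ (F.obj.map h.op s) = 0 := by
      rw [NatTrans.naturality_apply, hs, map_zero]
    have ht' := ht0 a h3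
    have h4 : t = 0 := hinj V (by rw [ht', map_zero])
    rw [← ht, h4, map_zero]
  exact ((isSheaf_forget F) _ hcov).isSeparatedFor.ext (fun Z g hg => hg)

theorem epi_of_epi_push (hA : BigSite.PropA f) {F G : EtCoh.Ab X} (a : F ⟶ G)
    (he : Epi ((EtCoh.push f).map a)) : Epi a := by
  have hls : Sheaf.IsLocallySurjective ((EtCoh.push f).map a) :=
    (Sheaf.isLocallySurjective_iff_epi' AddCommGrpCat.{u + 1} _).2 he
  have : Sheaf.IsLocallySurjective a := by
    constructor
    intro U t
    rw [mem_iff]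
    intro x
    obtain ⟨V, O, ι, h, z, hz, hext⟩ := exists_ext hA U x
    obtain ⟨t', ht', -⟩ := hext G (G.obj.map h.op t)
    have hS := Presheaf.imageSieve_mem Y.smallEtaleTopology ((EtCoh.push f).map a).hom
      (U := op V) t'
    have hS' := X.smallEtaleTopology.pullback_stable ι
      ((EtCoh.coverPreserving_bc f).cover_preserve hS)
    obtain ⟨Z, g, z', ⟨V', k, w, ⟨s, hs'⟩, hfac⟩, hget, hgz⟩ := (mem_iff O _).1 hS' z
    refine ⟨Z, g ≫ h, z', ⟨F.obj.map w.op s, ?_⟩, ?_, ?_⟩
    · have n1 := NatTrans.naturality_apply a.hom w.op s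
      refine n1.trans ?_
      have hs'' : a.hom.app (op ((EtCoh.bc f).obj V')) s =
          G.obj.map ((EtCoh.bc f).map k).op t' := hs'
      rw [hs'', ← ConcreteCategory.comp_apply, ← Functor.map_comp, ← op_comp, ← hfac, op_comp,
        Functor.map_comp, ConcreteCategory.comp_apply, ht', ← ConcreteCategory.comp_apply,
        ← Functor.map_comp, ← op_comp]
    · have := etale_left h
      have : Etale g.left := hget
      show Etale (g.left ≫ h.left)
      infer_instance
    · show (g.left ≫ h.left) z' = x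
      rw [Scheme.Hom.comp_apply]
      have hgz' : g.left z' = z := hgz
      rw [hgz', hz]
  exact Sheaf.epi_of_isLocallySurjective a

theorem epi_counit (hA : BigSite.PropA f) (F : EtCoh.Ab X) :
    Epi ((EtCoh.pullPushAdj f).counit.app F) := by
  have : Sheaf.IsLocallySurjective ((EtCoh.pullPushAdj f).counit.app F) := by
    constructor
    intro U s
    rw [mem_iff]
    intro x
    obtain ⟨V, O, ι, h, z, hz, hext⟩ := exists_ext hA U x
    obtain ⟨t, ht, -⟩ := hext F (F.obj.map h.op s)
    refine ⟨O, h, z, ?_, etale_left h, hz⟩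
    let η := (EtCoh.pullPushAdj f).unit.app ((EtCoh.push f).obj F)
    let ε := (EtCoh.pullPushAdj f).counit.app F
    have htri : η ≫ (EtCoh.push f).map ε = 𝟙 _ :=
      (EtCoh.pullPushAdj f).right_triangle_components F
    have h1 : ε.hom.app (op ((EtCoh.bc f).obj V)) (η.hom.app (op V) t) = t := by
      have := congrArg (fun m => m.hom.app (op V) t) htri
      exact this
    refine ⟨((EtCoh.pull f).obj ((EtCoh.push f).obj F)).obj.map ι.op (η.hom.app (op V) t), ?_⟩
    have n1 := NatTrans.naturality_apply ε.hom ι.op (η.hom.app (op V) t)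
    refine n1.trans ?_
    rw [h1]
    exact ht
  exact Sheaf.epi_of_isLocallySurjective _

theorem main (hA : BigSite.PropA f) :
    (EtCoh.push f).ReflectsMonomorphisms ∧ (EtCoh.push f).ReflectsEpimorphisms ∧
      (∀ F : EtCoh.Ab X, Epi ((EtCoh.pullPushAdj f).counit.app F)) ∧ (EtCoh.push f).Faithful := by
  refine ⟨⟨fun a hm => mono_of_mono_push hA a hm⟩, ⟨fun a he => epi_of_epi_push hA a he⟩,
    epi_counit hA, ?_⟩
  have := epi_counit (f := f) hA
  exact (EtCoh.pullPushAdj f).faithful_R_of_epi_counit_app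

end Groth.Agent.Helper9.EtPropA
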