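import Mathlib
import Groth.Prelude.Def_EtAcyc
import Groth.Agent.Helper9.EtPropA

/-! Sections of an `L`-torsion sheaf over a quasi-compact étale scheme are killed by an `L`-integer. -/

set_option autoImplicit false
set_option linter.style.haveILetI false
universe u

namespace Groth.Agent.Helper9.LTorsCompact

open CategoryTheory CategoryTheory.Limits AlgebraicGeometry Opposite
open Groth.Agent.Helper9.EtPropA Groth.Agent.Helper9.EtAlmostCocont

set_option backward.isDefEq.respectTransparency.types false in
theorem main {X : Scheme.{u}} (L : Set ℕ) (F : EtCoh.Ab X)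
    (hF : EtAcyc.IsLTorsion L F) (U : X.Etale) [CompactSpace U.left] (s : EtCoh.sect F U) :
    ∃ m : ℕ, EtAcyc.PrimesIn L m ∧ m • s = 0 := by
  classical
  choose V g m hv hm hz using fun x => hF U s x
  have hopen : ∀ x, IsOpen (Set.range (g x).left.base) := fun x => by
    have : Etale (g x).left := etale_left (g x)
    exact (g x).left.isOpenMap.isOpen_range
  obtain ⟨t, ht⟩ := isCompact_univ.elim_finite_subcover
    (fun x => Set.range (g x).left.base) hopen (fun x _ => Set.mem_iUnion.2 ⟨x, hv x⟩)
  refine ⟨∏ x ∈ t, m x, ⟨Finset.prod_pos (fun x _ => (hm x).1), ?_⟩, ?_⟩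
  · intro p hp hdvd
    obtain ⟨x, -, hx⟩ := (Prime.dvd_finsetProd_iff hp.prime _).1 hdvd
    exact (hm x).2 p hp hx
  · have hcov : Presheaf.equalizerSieve (F := F.obj) (X := op U) ((∏ x ∈ t, m x) • s) 0 ∈
        X.smallEtaleTopology U := by
      rw [mem_iff]
      intro x
      obtain ⟨i, hi, v, hv'⟩ : ∃ i ∈ t, x ∈ Set.range (g i).left.base := by
        simpa using ht (Set.mem_univ x)
      refine ⟨V i, g i, v, ?_, etale_left (g i), hv'⟩
      show F.obj.map (g i).op ((∏ x ∈ t, m x) • s) = F.obj.map (g i).op 0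
      rw [map_zero, map_nsmul]
      obtain ⟨c, hc⟩ := Finset.dvd_prod_of_mem m hi
      rw [hc, mul_nsmul, hz i, smul_zero]
    exact ((isSheaf_forget F) _ hcov).isSeparatedFor.ext (fun Z g hg => hg)

end Groth.Agent.Helper9.LTorsCompact
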