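import Mathlib
import Groth.Agent.Helper9.CechEdgeB

/-! Dimension shifting for edge families: injectivity in degree one and the acyclic-cover theorem. -/

set_option autoImplicit false
universe u

open CategoryTheory CategoryTheory.Limits Opposite Abelian

namespace Groth.Agent.Helper9.CechEdgeC

open Groth.Agent.Helper1.DeltaFun Groth.Agent.Helper1.Cech Groth.Agent.Helper9.CechEdgeA
  Groth.Agent.Helper9.CechEdgeB

variable {C : Type u} [SmallCategory C] [HasPullbacks C] {J : GrothendieckTopology C} {U : C}
  {ι : Type u} (Y : ι → Over U)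

/-- sheafification, abbreviated -/
noncomputable abbrev L : (Cᵒᵖ ⥤ AddCommGrpCat.{u}) ⥤ Sheaf J AddCommGrpCat.{u} :=
  presheafToSheaf J AddCommGrpCat.{u}

/-- the forgetful functor, abbreviated -/
abbrev R : Sheaf J AddCommGrpCat.{u} ⥤ (Cᵒᵖ ⥤ AddCommGrpCat.{u}) :=
  sheafToPresheaf J AddCommGrpCat.{u}

section setup

variable (F : Sheaf J AddCommGrpCat.{u})

/-- the inclusion into an injective sheaf, on presheaves -/
noncomputable abbrev a : F.obj ⟶ (Injective.under F).obj := (Injective.ι F).hom

instance : Mono (a F) := inferInstanceAs (Mono ((R (J := J)).map (Injective.ι F)))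

/-- the presheaf short exact sequence `0 → F → I → I/F → 0` -/
noncomputable def Spre : ShortComplex (Cᵒᵖ ⥤ AddCommGrpCat.{u}) :=
  ShortComplex.mk (a F) (cokernel.π (a F)) (cokernel.condition _)

lemma hSpre : (Spre F).ShortExact :=
  { exact := ShortComplex.exact_cokernel _
    mono_f := by dsimp [Spre]; infer_instance
    epi_g := by dsimp [Spre]; infer_instance }

/-- the sheaf quotient -/
noncomputable abbrev Qsh : Sheaf J AddCommGrpCat.{u} := cokernel (Injective.ι F)

/-- the sheaf short exact sequence -/
noncomputable def Ssh : ShortComplex (Sheaf J AddCommGrpCat.{u}) :=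
  ShortComplex.mk (Injective.ι F) (cokernel.π (Injective.ι F)) (cokernel.condition _)

lemma hSsh : (Ssh F).ShortExact :=
  { exact := ShortComplex.exact_cokernel _
    mono_f := by dsimp [Ssh]; infer_instance
    epi_g := by dsimp [Ssh]; infer_instance }

/-- the comparison from the presheaf quotient to the sheaf quotient -/
noncomputable def c : (Spre F).X₃ ⟶ (Qsh F).obj :=
  cokernel.desc (a F) ((R (J := J)).map (cokernel.π (Injective.ι F))) (by
    show (R (J := J)).map (Injective.ι F) ≫ (R (J := J)).map (cokernel.π (Injective.ι F)) = 0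
    rw [← (R (J := J)).map_comp, cokernel.condition, Functor.map_zero])

lemma π_c : (Spre F).g ≫ c F = (R (J := J)).map (cokernel.π (Injective.ι F)) :=
  cokernel.π_desc _ _ _

instance mono_c : Mono (c F) := by
  haveI : PreservesFiniteLimits (R (J := J)) :=
    ⟨fun K _ _ => (sheafificationAdjunction J AddCommGrpCat.{u}).rightAdjoint_preservesLimits.1⟩
  obtain ⟨hex, -⟩ := (Functor.preservesFiniteLimits_iff_forall_exact_map_and_mono
    (R (J := J))).1 inferInstance (Ssh F) (hSsh F)
  exact (ShortComplex.exact_iff_mono_cokernel_desc _).1 hex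

instance isIso_L_c : IsIso ((L (J := J)).map (c F)) := by
  haveI : Mono ((L (J := J)).map (c F)) := inferInstance
  have hepi : Epi ((L (J := J)).map ((R (J := J)).map (cokernel.π (Injective.ι F)))) := by
    have hnat : (L (J := J)).map ((R (J := J)).map (cokernel.π (Injective.ι F))) ≫
        (sheafificationAdjunction J AddCommGrpCat.{u}).counit.app (Qsh F) =
        (sheafificationAdjunction J AddCommGrpCat.{u}).counit.app (Injective.under F) ≫
          cokernel.π (Injective.ι F) :=
      (sheafificationAdjunction J AddCommGrpCat.{u}).counit.naturality (cokernel.π (Injective.ι F))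
    have h1 : Epi ((L (J := J)).map ((R (J := J)).map (cokernel.π (Injective.ι F))) ≫
        (sheafificationAdjunction J AddCommGrpCat.{u}).counit.app (Qsh F)) := by
      rw [hnat]
      infer_instance
    have h2 : (L (J := J)).map ((R (J := J)).map (cokernel.π (Injective.ι F))) =
        ((L (J := J)).map ((R (J := J)).map (cokernel.π (Injective.ι F))) ≫
          (sheafificationAdjunction J AddCommGrpCat.{u}).counit.app (Qsh F)) ≫
          inv ((sheafificationAdjunction J AddCommGrpCat.{u}).counit.app (Qsh F)) := by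
      simp
    rw [h2]
    infer_instance
  haveI : Epi ((L (J := J)).map ((Spre F).g) ≫ (L (J := J)).map (c F)) := by
    rw [← Functor.map_comp, π_c]
    exact hepi
  haveI : Epi ((L (J := J)).map (c F)) := epi_of_epi ((L (J := J)).map ((Spre F).g)) _
  exact isIso_of_mono_of_epi _

end setup

section lemmas

variable {Y}
variable {e : ∀ (P : Cᵒᵖ ⥤ AddCommGrpCat.{u}) (p : ℕ),
  CohCx.cechH P Y p →+ CohSite.HU (CechEdge.shf J P) p U} (he : CechEdge.IsEdge J Y e)

include he in
/-- in degree `0` an edge family is bijective on sheaves -/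
lemma bijective_e_zero_of_sheaf (X : Sheaf J AddCommGrpCat.{u}) :
    Function.Bijective (e X.obj 0) := by
  have h1 := bijective_toCech_of_isSheaf Y he.cover X
  have h2 : Function.Bijective ((toSheafify J X.obj).app (op U)).hom := by
    haveI := isIso_toSheafify J X.property
    haveI : IsIso ((toSheafify J X.obj).app (op U)) := inferInstance
    exact (ConcreteCategory.isIso_iff_bijective ((toSheafify J X.obj).app (op U))).1 inferInstance
  have h3 : (e X.obj 0) ∘ (CechEdge.toCech Y X.obj) =
      (CechEdge.sectH0 J U (CechEdge.shf J X.obj)) ∘ ((toSheafify J X.obj).app (op U)).hom := by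
    funext s
    exact he.zero X.obj s
  have h4 : Function.Bijective ((e X.obj 0) ∘ (CechEdge.toCech Y X.obj)) := by
    rw [h3]
    exact (CechEdge.sectH0 J U (CechEdge.shf J X.obj)).bijective.comp h2
  exact (Function.Bijective.of_comp_iff _ h1).1 h4

/-- `Ȟ⁰` of a monomorphism of presheaves is injective -/
lemma injective_cechHMap_zero {P P' : Cᵒᵖ ⥤ AddCommGrpCat.{u}} (ψ : P ⟶ P') [Mono ψ] :
    Function.Injective (CechEdge.cechHMap Y ψ 0) := by
  let S : ShortComplex (Cᵒᵖ ⥤ AddCommGrpCat.{u}) :=
    ShortComplex.mk ψ (cokernel.π ψ) (cokernel.condition _)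
  have hS : S.ShortExact :=
    { exact := ShortComplex.exact_cokernel _
      mono_f := by dsimp [S]; infer_instance
      epi_g := by dsimp [S]; infer_instance }
  have h := Groth.Agent.Helper1.CechDelta.hK Y S hS
  haveI : Mono ((CechEdge.cxFunctor Y).map ψ) := h.mono_f
  haveI : Mono (((CechEdge.cxFunctor Y).map ψ).f 0) := inferInstance
  have : Mono (HomologicalComplex.homologyMap ((CechEdge.cxFunctor Y).map ψ) 0) :=
    HomologicalComplex.mono_homologyMap_of_mono_of_not_rel _ 0 (by
      intro i hi
      exact Nat.succ_ne_zero i hi)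
  exact (AddCommGrpCat.mono_iff_injective _).1 this

/-- Čech cohomology of an injective sheaf vanishes in positive degrees -/
lemma isZero_cechH_injective (I : Sheaf J AddCommGrpCat.{u}) [Injective I] (n : ℕ) :
    IsZero (CohCx.cechH I.obj Y (n + 1)) := by
  haveI : Injective I.obj :=
    Injective.injective_of_adjoint (sheafificationAdjunction J AddCommGrpCat.{u}) I
  exact TC_effaceable Y I.obj n

include he in
/-- an edge family is injective in degree one on sheaves -/
theorem injective_e_one (F : Sheaf J AddCommGrpCat.{u}) : Function.Injective (e F.obj 1) := by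
  rw [injective_iff_map_eq_zero]
  intro x hx
  -- x = δ y
  have hz : IsZero (CohCx.cechH (Injective.under F).obj Y 1) := isZero_cechH_injective _ 0
  haveI : Subsingleton (CohCx.cechH (Injective.under F).obj Y 1) :=
    AddCommGrpCat.subsingleton_of_isZero hz
  have hex1 := (TC Y).exact₁ (Spre F) (hSpre F) 0
  rw [ShortComplex.ab_exact_iff] at hex1
  obtain ⟨y, hy⟩ := hex1 x (Subsingleton.elim (α := CohCx.cechH (Injective.under F).obj Y 1) _ _)
  change ((TC Y).δ (Spre F) (hSpre F) 0) y = x at hy
  -- e (δ y) = δ' (e y) = 0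
  have hd := he.delta (Spre F) (hSpre F) (Groth.Agent.Helper1.CechDelta.hK Y _ (hSpre F)) 0 y
  have hd' : CechEdge.extδ ((hSpre F).map_of_exact (presheafToSheaf J AddCommGrpCat.{u})) U 0
      (e (Spre F).X₃ 0 y) = 0 := by
    rw [← hd]
    exact (congrArg (e F.obj 1) hy).trans hx
  -- e y = g_* z
  have hex3 := (TH J U).exact₃ (Spre F) (hSpre F) 0
  rw [ShortComplex.ab_exact_iff] at hex3
  obtain ⟨z, hzz⟩ := hex3 (e (Spre F).X₃ 0 y) hd'
  change CechEdge.HUmap (CechEdge.shfMap J (Spre F).g) 0 U z = e (Spre F).X₃ 0 y at hzz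
  -- z = e z'
  obtain ⟨z', rfl⟩ := (bijective_e_zero_of_sheaf he (Injective.under F)).2 z
  have hzz' : e (Spre F).X₃ 0 (CechEdge.cechHMap Y (Spre F).g 0 z') = e (Spre F).X₃ 0 y :=
    (he.natural (Spre F).X₂ (Spre F).X₃ (Spre F).g 0 z').trans hzz
  -- injectivity of `e` on `Ȟ⁰` of the presheaf quotient
  have hinj : Function.Injective (e (Spre F).X₃ 0) := by
    have h1 : Function.Injective ((e (Qsh F).obj 0) ∘ (CechEdge.cechHMap Y (c F) 0)) :=
      (bijective_e_zero_of_sheaf he (Qsh F)).1.comp (injective_cechHMap_zero (c F))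
    have h2 : (e (Qsh F).obj 0) ∘ (CechEdge.cechHMap Y (c F) 0) =
        (CechEdge.HUmap (CechEdge.shfMap J (c F)) 0 U) ∘ (e (Spre F).X₃ 0) := by
      funext w
      exact he.natural _ _ (c F) 0 w
    rw [h2] at h1
    exact Function.Injective.of_comp h1
  have hyz := hinj hzz'
  rw [← hy, ← hyz]
  exact ConcreteCategory.congr_hom ((TC Y).w₃ (Spre F) (hSpre F) 0) z'

lemma bijective_HUmap_of_isIso {F G : Sheaf J AddCommGrpCat.{u}} (ψ : F ⟶ G) [IsIso ψ] (p : ℕ) :
    Function.Bijective (CechEdge.HUmap ψ p U) := by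
  have : IsIso ((extFunctorObj (CohCx.freeSheaf J U) p).map ψ) := inferInstance
  exact (ConcreteCategory.isIso_iff_bijective _).1 this

include he in
theorem injective_edgeSh_one (F : Sheaf J AddCommGrpCat.{u}) :
    Function.Injective (CechEdge.edgeSh e F 1) := by
  show Function.Injective ((CechEdge.HUmap
    ((sheafificationAdjunction J AddCommGrpCat.{u}).counit.app F) 1 U) ∘ (e F.obj 1))
  exact (bijective_HUmap_of_isIso _ 1).1.comp (injective_e_one he F)

end lemmas

section acyclic

/-- sections of `I → Q` are surjective over `V` when `H¹(V, F) = 0` -/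
lemma surjective_π_app (F : Sheaf J AddCommGrpCat.{u}) (V : C)
    (hV : Subsingleton (CohSite.HU F 1 V)) :
    Function.Surjective ((cokernel.π (Injective.ι F)).hom.app (op V)) := by
  intro t
  have hx : (CechEdge.sectH0 J V (Qsh F) t).comp (hSsh F).extClass (zero_add 1) = 0 :=
    Subsingleton.elim (α := CohSite.HU F 1 V) _ _
  obtain ⟨x₂, hx₂⟩ := Ext.covariant_sequence_exact₃ _ (hSsh F)
    (CechEdge.sectH0 J V (Qsh F) t) (zero_add 1) hx
  obtain ⟨s, rfl⟩ := (CechEdge.sectH0 J V (Injective.under F)).surjective x₂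
  refine ⟨s, ?_⟩
  apply (CechEdge.sectH0 J V (Qsh F)).injective
  rw [← sectH0_naturality]
  exact hx₂

/-- the comparison `I/F → Q` is bijective on sections over `V` when `H¹(V, F) = 0` -/
lemma bijective_c_app (F : Sheaf J AddCommGrpCat.{u}) (V : C)
    (hV : Subsingleton (CohSite.HU F 1 V)) :
    Function.Bijective ((c F).app (op V)) := by
  constructor
  · haveI : Mono ((c F).app (op V)) := inferInstance
    exact (AddCommGrpCat.mono_iff_injective _).1 inferInstance
  · intro t
    obtain ⟨s, hs⟩ := surjective_π_app F V hV t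
    refine ⟨(Spre F).g.app (op V) s, ?_⟩
    have := ConcreteCategory.congr_hom (NatTrans.congr_app (π_c F) (op V)) s
    exact this.trans hs

/-- a morphism of presheaves which is bijective on sections over all the finite fibre products of
members of the family induces a bijection on Čech cohomology -/
lemma bijective_cechHMap {P P' : Cᵒᵖ ⥤ AddCommGrpCat.{u}} (ψ : P ⟶ P')
    (hψ : ∀ (n : ℕ) (x : Fin (n + 1) → ι), Function.Bijective (ψ.app (op (prodU Y x).left)))
    (p : ℕ) : Function.Bijective (CechEdge.cechHMap Y ψ p) := by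
  have hf : ∀ n, IsIso (((CechEdge.cxFunctor Y).map ψ).f n) := by
    intro n
    rw [ConcreteCategory.isIso_iff_bijective]
    constructor
    · intro c₁ c₂ h12
      apply Groth.Agent.Helper1.Cech.ext
      intro x
      apply (hψ n x).1
      have h1 := comp_map (U := Y) (P := Q P) (Q := Q P')
        (Functor.whiskerLeft (Over.forget U).op ψ) n x c₁
      have h2 := comp_map (U := Y) (P := Q P) (Q := Q P')
        (Functor.whiskerLeft (Over.forget U).op ψ) n x c₂
      exact h1.symm.trans ((congrArg (comp Y (Q P') n x) h12).trans h2)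
    · intro c'
      let g : ∀ x : Fin (n + 1) → ι, (Q P).obj (op (prodU Y x)) :=
        fun x => ((hψ n x).2 (comp Y (Q P') n x c')).choose
      have hg : ∀ x, ψ.app (op (prodU Y x).left) (g x) = comp Y (Q P') n x c' :=
        fun x => ((hψ n x).2 (comp Y (Q P') n x c')).choose_spec
      refine ⟨mk (U := Y) (P := Q P) g, ?_⟩
      apply Groth.Agent.Helper1.Cech.ext
      intro x
      have h1 := comp_map (U := Y) (P := Q P) (Q := Q P')
        (Functor.whiskerLeft (Over.forget U).op ψ) n x (mk (U := Y) (P := Q P) g)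
      refine h1.trans ?_
      have h2 : comp Y (Q P) n x (mk (U := Y) (P := Q P) g) = g x := comp_mk g x
      exact (congrArg (ψ.app (op (prodU Y x).left)) h2).trans (hg x)
  haveI : IsIso ((CechEdge.cxFunctor Y).map ψ) := HomologicalComplex.Hom.isIso_of_components _
  have : IsIso (HomologicalComplex.homologyMap ((CechEdge.cxFunctor Y).map ψ) p) := inferInstance
  exact (ConcreteCategory.isIso_iff_bijective _).1 this

/-- acyclicity on the finite fibre products of members of the family -/
def Acyc (F : Sheaf J AddCommGrpCat.{u}) : Prop :=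
  ∀ (p : ℕ) (a : Fin (p + 1) → ι) (q : ℕ),
    Subsingleton (CohSite.HU F (q + 1) (∏ᶜ fun k => Y (a k)).left)

lemma acyc_Qsh (F : Sheaf J AddCommGrpCat.{u}) (hF : Acyc Y F) : Acyc Y (Qsh F) := by
  intro p a q
  refine subsingleton_of_forall_eq 0 ?_
  intro (x₃ : Ext.{u} (CohCx.freeSheaf J (∏ᶜ fun k => Y (a k)).left) (Qsh F) (q + 1))
  haveI := hF p a (q + 1)
  have hx : x₃.comp (hSsh F).extClass (rfl : q + 1 + 1 = q + 2) = 0 :=
    Subsingleton.elim (α := CohSite.HU F (q + 1 + 1) (∏ᶜ fun k => Y (a k)).left) _ _
  obtain ⟨x₂, hx₂⟩ := Ext.covariant_sequence_exact₃ _ (hSsh F) x₃ rfl hx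
  haveI : Injective (Ssh F).X₂ := by dsimp [Ssh]; infer_instance
  rw [← hx₂, Ext.eq_zero_of_injective x₂, Ext.zero_comp]
  rfl

instance injective_shf_under (F : Sheaf J AddCommGrpCat.{u}) :
    Injective (CechEdge.shf J (Injective.under F).obj) :=
  Injective.of_iso
    (asIso ((sheafificationAdjunction J AddCommGrpCat.{u}).counit.app (Injective.under F))).symm
    inferInstance

variable {Y}
variable {e : ∀ (P : Cᵒᵖ ⥤ AddCommGrpCat.{u}) (p : ℕ),
  CohCx.cechH P Y p →+ CohSite.HU (CechEdge.shf J P) p U} (he : CechEdge.IsEdge J Y e)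

include he in
theorem bijective_e : ∀ (p : ℕ) (F : Sheaf J AddCommGrpCat.{u}), Acyc Y F →
    Function.Bijective (e F.obj p)
  | 0, F, _ => bijective_e_zero_of_sheaf he F
  | p + 1, F, hF => by
    have ih := bijective_e p (Qsh F) (acyc_Qsh Y F hF)
    -- `e` on the presheaf quotient
    have hQ : Function.Bijective (e (Spre F).X₃ p) := by
      have h_nat : (e (Qsh F).obj p) ∘ (CechEdge.cechHMap Y (c F) p) =
          (CechEdge.HUmap (CechEdge.shfMap J (c F)) p U) ∘ (e (Spre F).X₃ p) := by
        funext w
        exact he.natural _ _ (c F) p w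
      have h1 : Function.Bijective ((e (Qsh F).obj p) ∘ (CechEdge.cechHMap Y (c F) p)) :=
        ih.comp (bijective_cechHMap Y (c F) (fun n x => bijective_c_app F _ (hF n x 0)) p)
      rw [h_nat] at h1
      haveI : IsIso (CechEdge.shfMap J (c F)) := isIso_L_c F
      exact (Function.Bijective.of_comp_iff' (bijective_HUmap_of_isIso _ p) _).1 h1
    -- `e` on the injective sheaf
    have hI : Function.Surjective (e (Spre F).X₂ p) := by
      cases p with
      | zero => exact (bijective_e_zero_of_sheaf he (Injective.under F)).2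
      | succ p' =>
        intro (y : Ext.{u} (CohCx.freeSheaf J U) (CechEdge.shf J (Injective.under F).obj) (p' + 1))
        exact ⟨0, (map_zero _).trans (Ext.eq_zero_of_injective y).symm⟩
    have hzC : Subsingleton (CohCx.cechH (Spre F).X₂ Y (p + 1)) :=
      AddCommGrpCat.subsingleton_of_isZero (isZero_cechH_injective (Injective.under F) p)
    have hzH : ∀ y : CohSite.HU (CechEdge.shf J (Spre F).X₂) (p + 1) U, y = 0 := by
      intro (y : Ext.{u} (CohCx.freeSheaf J U) (CechEdge.shf J (Injective.under F).obj) (p + 1))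
      exact Ext.eq_zero_of_injective y
    have hexC1 := (TC Y).exact₁ (Spre F) (hSpre F) p
    rw [ShortComplex.ab_exact_iff] at hexC1
    have hexH1 := (TH J U).exact₁ (Spre F) (hSpre F) p
    rw [ShortComplex.ab_exact_iff] at hexH1
    have hexH3 := (TH J U).exact₃ (Spre F) (hSpre F) p
    rw [ShortComplex.ab_exact_iff] at hexH3
    have hdelta := he.delta (Spre F) (hSpre F)
      (Groth.Agent.Helper1.CechDelta.hK Y _ (hSpre F)) p
    constructor
    · rw [injective_iff_map_eq_zero]
      intro x hx
      obtain ⟨v, hv⟩ := hexC1 x (Subsingleton.elim (α := CohCx.cechH (Spre F).X₂ Y (p + 1)) _ _)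
      change ((TC Y).δ (Spre F) (hSpre F) p) v = x at hv
      have hd' : CechEdge.extδ ((hSpre F).map_of_exact (presheafToSheaf J AddCommGrpCat.{u})) U p
          (e (Spre F).X₃ p v) = 0 := by
        rw [← hdelta v]
        exact (congrArg (e F.obj (p + 1)) hv).trans hx
      obtain ⟨z, hz⟩ := hexH3 (e (Spre F).X₃ p v) hd'
      change CechEdge.HUmap (CechEdge.shfMap J (Spre F).g) p U z = e (Spre F).X₃ p v at hz
      obtain ⟨z', rfl⟩ := hI z
      have hz' : e (Spre F).X₃ p (CechEdge.cechHMap Y (Spre F).g p z') = e (Spre F).X₃ p v :=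
        (he.natural (Spre F).X₂ (Spre F).X₃ (Spre F).g p z').trans hz
      have hvz := hQ.1 hz'
      rw [← hv, ← hvz]
      exact ConcreteCategory.congr_hom ((TC Y).w₃ (Spre F) (hSpre F) p) z'
    · intro y
      obtain ⟨w, hw⟩ := hexH1 y (hzH _)
      change CechEdge.extδ ((hSpre F).map_of_exact (presheafToSheaf J AddCommGrpCat.{u})) U p w = y
        at hw
      obtain ⟨v, rfl⟩ := hQ.2 w
      exact ⟨_, (hdelta v).trans hw⟩

include he in
theorem bijective_edgeSh (F : Sheaf J AddCommGrpCat.{u}) (hF : Acyc Y F) (p : ℕ) :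
    Function.Bijective (CechEdge.edgeSh e F p) := by
  show Function.Bijective ((CechEdge.HUmap
    ((sheafificationAdjunction J AddCommGrpCat.{u}).counit.app F) p U) ∘ (e F.obj p))
  exact (bijective_HUmap_of_isIso _ p).comp (bijective_e he p F hF)

end acyclic



end Groth.Agent.Helper9.CechEdgeC
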