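import Mathlib
import Groth.Prelude.Def_CechEdge
import Groth.Agent.Helper9.CechEdgeC
import Groth.Agent.Helper9.CechH1Surj

/-! Cartan's criterion on a site: Čech-acyclicity on a stable collection of coverings implies
acyclicity. -/

set_option autoImplicit false
set_option backward.isDefEq.respectTransparency false
universe u

open CategoryTheory CategoryTheory.Limits Opposite CategoryTheory.Abelian

namespace Groth.Agent.Helper9.Cartan

open Groth.Agent.Helper1.Cech Groth.Agent.Helper9.CechEdgeA Groth.Agent.Helper9.CechEdgeB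
  Groth.Agent.Helper9.CechEdgeC Groth.Agent.Helper1

variable {C : Type u} [SmallCategory C] [HasPullbacks C]
  (J : GrothendieckTopology C) (B : Set C) (Cov : ∀ (U : C) (ι : Type u), (ι → Over U) → Prop)

/-- Čech-acyclicity for all the coverings of the collection -/
def CechAcyc (F : Sheaf J AddCommGrpCat.{u}) : Prop :=
  ∀ (U : C) (ι : Type u) (Y : ι → Over U), Cov U ι Y →
    ∀ p : ℕ, IsZero (CohCx.cechH F.obj Y (p + 1))

variable
  (h1 : ∀ (U : C) (ι : Type u) (Y : ι → Over U), Cov U ι Y → U ∈ B ∧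
      Sieve.ofArrows (fun i => (Y i).left) (fun i => (Y i).hom) ∈ J U ∧
      ∀ (p : ℕ) (a : Fin (p + 1) → ι), (∏ᶜ fun k => Y (a k)).left ∈ B)
  (h2 : ∀ U ∈ B, ∀ T ∈ J U, ∃ (ι : Type u) (Y : ι → Over U), Cov U ι Y ∧ ∀ i, T.arrows (Y i).hom)

include h1 h2 in
/-- sections of `I → I/F` are surjective over members of `B` -/
lemma surjective_π_app_of_cechAcyc (F : Sheaf J AddCommGrpCat.{u}) (hF : CechAcyc J Cov F)
    (U : C) (hU : U ∈ B) :
    Function.Surjective ((cokernel.π (Injective.ι F)).hom.app (op U)) := by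
  intro s
  haveI : Epi (Ssh F).g := (hSsh F).epi_g
  haveI : Sheaf.IsLocallySurjective (Ssh F).g :=
    (Sheaf.isLocallySurjective_iff_epi' (φ := (Ssh F).g)).2 inferInstance
  obtain ⟨ι, Y, hY, hYT⟩ := h2 U hU (Presheaf.imageSieve (Ssh F).g.hom s)
    (Presheaf.imageSieve_mem J (Ssh F).g.hom s)
  choose t ht using hYT
  exact Groth.Agent.Helper9.CechH1Surj.main Y (Ssh F) (hSsh F) (h1 U ι Y hY).2.1
    (hF U ι Y hY 0) s t ht

include h1 h2 in
lemma subsingleton_H1 (F : Sheaf J AddCommGrpCat.{u}) (hF : CechAcyc J Cov F)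
    (U : C) (hU : U ∈ B) : Subsingleton (CohSite.HU F 1 U) := by
  refine subsingleton_of_forall_eq 0 ?_
  intro (x : Ext.{u} (CohCx.freeSheaf J U) F 1)
  haveI : Injective (Ssh F).X₂ := by dsimp [Ssh]; infer_instance
  have hx : x.comp (Ext.mk₀ (Ssh F).f) (add_zero 1) = 0 := Ext.eq_zero_of_injective _
  obtain ⟨y, hy⟩ := Ext.covariant_sequence_exact₁ _ (hSsh F) x hx (zero_add 1)
  obtain ⟨q, rfl⟩ := (CechEdge.sectH0 J U (Qsh F)).surjective y
  obtain ⟨i, rfl⟩ := surjective_π_app_of_cechAcyc J B Cov h1 h2 F hF U hU q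
  have hn := sectH0_naturality (cokernel.π (Injective.ι F)) i
  rw [← hy]
  have h3 : (CechEdge.sectH0 J U (Qsh F)) ((cokernel.π (Injective.ι F)).hom.app (op U) i) =
      (CechEdge.sectH0 J U (Injective.under F) i).comp (Ext.mk₀ (Ssh F).g) (add_zero 0) := hn.symm
  rw [h3, Ext.comp_assoc _ _ _ (add_zero 0) (zero_add 1) (by omega), (hSsh F).comp_extClass,
    Ext.comp_zero]

include h1 h2 in
/-- the quotient `I/F` is again Čech-acyclic -/
lemma cechAcyc_Qsh (F : Sheaf J AddCommGrpCat.{u}) (hF : CechAcyc J Cov F) :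
    CechAcyc J Cov (Qsh F) := by
  intro U ι Y hY p
  have hb : ∀ (n : ℕ) (x : Fin (n + 1) → ι),
      Function.Bijective ((c F).app (op (prodU Y x).left)) := fun n x =>
    bijective_c_app F _ (subsingleton_H1 J B Cov h1 h2 F hF _ ((h1 U ι Y hY).2.2 n x))
  have hbij := bijective_cechHMap Y (c F) hb (p + 1)
  have hz2 : IsZero (CohCx.cechH (Spre F).X₂ Y (p + 1)) :=
    isZero_cechH_injective (Injective.under F) p
  have hz1 : IsZero (CohCx.cechH (Spre F).X₁ Y (p + 1 + 1)) := hF U ι Y hY (p + 1)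
  have hex := (TC Y).exact₃ (Spre F) (hSpre F) (p + 1)
  have hz3 : IsZero (CohCx.cechH (Spre F).X₃ Y (p + 1)) :=
    hex.isZero_of_both_zeros (hz2.eq_of_src _ _) (hz1.eq_of_tgt _ _)
  haveI := AddCommGrpCat.subsingleton_of_isZero hz3
  haveI : Subsingleton (CohCx.cechH (Qsh F).obj Y (p + 1)) :=
    ⟨fun a b => by
      obtain ⟨a', rfl⟩ := hbij.2 a
      obtain ⟨b', rfl⟩ := hbij.2 b
      rw [Subsingleton.elim a' b']⟩
  exact AddCommGrpCat.isZero_of_subsingleton _

include h1 h2 in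
theorem main : ∀ (p : ℕ) (F : Sheaf J AddCommGrpCat.{u}), CechAcyc J Cov F →
    ∀ (U : C), U ∈ B → Subsingleton (CohSite.HU F (p + 1) U)
  | 0, F, hF, U, hU => subsingleton_H1 J B Cov h1 h2 F hF U hU
  | p + 1, F, hF, U, hU => by
    haveI := main p (Qsh F) (cechAcyc_Qsh J B Cov h1 h2 F hF) U hU
    refine subsingleton_of_forall_eq 0 ?_
    intro (x : Ext.{u} (CohCx.freeSheaf J U) F (p + 1 + 1))
    haveI : Injective (Ssh F).X₂ := by dsimp [Ssh]; infer_instance
    have hx : x.comp (Ext.mk₀ (Ssh F).f) (add_zero (p + 1 + 1)) = 0 := Ext.eq_zero_of_injective _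
    obtain ⟨y, hy⟩ := Ext.covariant_sequence_exact₁ _ (hSsh F) x hx rfl
    have hy0 : y = 0 := Subsingleton.elim (α := CohSite.HU (Qsh F) (p + 1) U) _ _
    rw [← hy, hy0, Ext.zero_comp]

end Groth.Agent.Helper9.Cartan
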