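import Mathlib
import Groth.Prelude.Def_CohB1

universe u

namespace Groth.Agent.Helper9.ProjSp

open AlgebraicGeometry CategoryTheory Limits HomogeneousLocalization

variable (n : ℕ) (R : Type u) [CommRing R]

/-- the coordinate point `[1 : 0 : ⋯ : 0]` -/
def pt : Fin (n + 1) → R := fun i => if i = 0 then 1 else 0

theorem X0_mem : (MvPolynomial.X 0 : MvPolynomial (Fin (n + 1)) R) ∈ CohB1.polyGrading n R 1 :=
  MvPolynomial.isHomogeneous_X R 0

/-- evaluation at the coordinate point on the chart `X₀ ≠ 0` -/
noncomputable def evalAway :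
    Away (CohB1.polyGrading n R) (MvPolynomial.X 0 : MvPolynomial (Fin (n + 1)) R) →+* R :=
  (Localization.awayLift (MvPolynomial.eval (pt n R)) (MvPolynomial.X 0)
    (by simp [pt])).comp
    (algebraMap _ (Localization.Away (MvPolynomial.X 0 : MvPolynomial (Fin (n + 1)) R)))

theorem evalAway_fromZero (r : R) :
    evalAway n R (fromZeroRingHom (CohB1.polyGrading n R) _
      (algebraMap R (CohB1.polyGrading n R 0) r)) = r := by
  unfold evalAway
  rw [RingHom.comp_apply, HomogeneousLocalization.algebraMap_apply]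
  change Localization.awayLift _ _ _ (Localization.mk _ 1) = r
  rw [Localization.mk_one_eq_algebraMap]
  erw [IsLocalization.Away.lift_eq]
  change MvPolynomial.eval (pt n R) (MvPolynomial.C r) = r
  simp

/-- the structure morphism of projective space has a section -/
theorem exists_section :
    ∃ s : Spec (CommRingCat.of R) ⟶ CohB1.ProjSpace n R,
      s ≫ CohB1.ProjSpace.toSpec n R = 𝟙 _ := by
  have key : (Spec.map (CommRingCat.ofHom (evalAway n R)) ≫
      Proj.awayι (CohB1.polyGrading n R) _ (X0_mem n R) one_pos) ≫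
      (Proj.toSpecZero (CohB1.polyGrading n R) ≫
        Spec.map (CommRingCat.ofHom (algebraMap R (CohB1.polyGrading n R 0)))) = 𝟙 _ := by
    rw [Category.assoc, Proj.awayι_toSpecZero_assoc, ← Spec.map_comp, ← Spec.map_comp,
      ← Spec.map_id]
    congr 1
    ext r
    exact evalAway_fromZero n R r
  exact ⟨_, key⟩

theorem surjective_toSpec : Surjective (CohB1.ProjSpace.toSpec n R) := by
  obtain ⟨s, hs⟩ := exists_section n R
  constructor
  intro x
  refine ⟨s x, ?_⟩
  rw [← Scheme.Hom.comp_apply, hs]
  rfl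

section Zero

variable (A : Type u) [CommRing A]

/-- a polynomial in one variable with zero constant term lies in `(X₀)` -/
theorem irrelevant_le_span :
    (HomogeneousIdeal.irrelevant (CohB1.polyGrading 0 A)).toIdeal ≤
      Ideal.span {(MvPolynomial.X 0 : MvPolynomial (Fin 1) A)} := by
  intro p hp
  have h0 : (DirectSum.decompose (CohB1.polyGrading 0 A) p 0 : MvPolynomial (Fin 1) A) = 0 :=
    (HomogeneousIdeal.mem_irrelevant_iff _ p).mp hp
  have h1 : MvPolynomial.homogeneousComponent 0 p = 0 := by
    rw [← h0]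
    exact (MvPolynomial.decomposition.decompose'_apply p 0).symm
  rw [MvPolynomial.homogeneousComponent_zero] at h1
  have h2 : MvPolynomial.coeff 0 p = 0 := by
    have := congrArg (MvPolynomial.coeff 0) h1
    simpa using this
  have h3 : p ∈ Ideal.span (MvPolynomial.X '' (Set.univ : Set (Fin 1)) :
      Set (MvPolynomial (Fin 1) A)) := by
    rw [MvPolynomial.mem_ideal_span_X_image]
    intro m hm
    refine ⟨0, Set.mem_univ _, fun h => ?_⟩
    have : m = 0 := by
      refine Finsupp.ext fun i => ?_
      rw [Subsingleton.elim i 0, h]; rfl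
    rw [this, MvPolynomial.mem_support_iff] at hm
    exact hm h2
  have h4 : (MvPolynomial.X '' (Set.univ : Set (Fin 1)) : Set (MvPolynomial (Fin 1) A)) =
      {MvPolynomial.X 0} := by
    ext q
    constructor
    · rintro ⟨i, -, rfl⟩
      rw [Subsingleton.elim i 0]; rfl
    · rintro rfl
      exact ⟨0, Set.mem_univ _, rfl⟩
  rwa [h4] at h3

theorem basicOpen_X0_eq_top :
    Proj.basicOpen (CohB1.polyGrading 0 A) (MvPolynomial.X 0 : MvPolynomial (Fin 1) A) = ⊤ := by
  rw [eq_top_iff]
  intro x _
  rw [Proj.mem_basicOpen]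
  intro hx
  apply x.not_irrelevant_le
  intro p hp
  have h1 := irrelevant_le_span A hp
  obtain ⟨q, rfl⟩ := Ideal.mem_span_singleton'.mp h1
  exact Ideal.mul_mem_left _ q hx

/-- a homogeneous polynomial of degree `k` in one variable is `a X₀^k` -/
theorem homogeneous_one_var {k : ℕ} {p : MvPolynomial (Fin 1) A} (hp : p.IsHomogeneous k) :
    p = MvPolynomial.C (MvPolynomial.coeff (Finsupp.single 0 k) p) * MvPolynomial.X 0 ^ k := by
  ext m
  rw [MvPolynomial.coeff_C_mul, MvPolynomial.coeff_X_pow]
  by_cases hm : Finsupp.single 0 k = m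
  · rw [if_pos hm, mul_one, hm]
  · rw [if_neg hm, mul_zero]
    apply hp.coeff_eq_zero
    intro hdeg
    apply hm
    refine Finsupp.ext fun i => ?_
    rw [Subsingleton.elim i 0, Finsupp.single_eq_same]
    rw [← hdeg, Finsupp.degree_eq_sum]
    simp

theorem evalAway_injective : Function.Injective (evalAway 0 A) := by
  rw [injective_iff_map_eq_zero]
  intro y hy
  obtain ⟨k, p, hp, rfl⟩ := Away.mk_surjective (CohB1.polyGrading 0 A) (X0_mem 0 A) y
  have hp' : p.IsHomogeneous k := by
    have : p ∈ CohB1.polyGrading 0 A (k • 1) := hp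
    rw [smul_eq_mul, mul_one] at this
    exact this
  have h1 := homogeneous_one_var A hp'
  set a := MvPolynomial.coeff (Finsupp.single 0 k) p with ha
  have h2 : evalAway 0 A (Away.mk (CohB1.polyGrading 0 A) (X0_mem 0 A) k p hp) = a := by
    unfold evalAway
    rw [RingHom.comp_apply, HomogeneousLocalization.algebraMap_apply, Away.val_mk]
    rw [Localization.awayLift_mk (MvPolynomial.eval (pt 0 A)) (MvPolynomial.X 0) p 1
      (by simp [pt]) k]
    rw [one_pow, mul_one]
    conv_lhs => rw [h1]
    simp [pt]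
  rw [h2] at hy
  apply HomogeneousLocalization.val_injective
  rw [Away.val_mk, HomogeneousLocalization.val_zero]
  rw [h1, hy, map_zero, zero_mul, Localization.mk_zero]

theorem bijective_zero :
    Function.Bijective ((fromZeroRingHom (CohB1.polyGrading 0 A)
      (Submonoid.powers (MvPolynomial.X 0 : MvPolynomial (Fin 1) A))).comp
        (algebraMap A (CohB1.polyGrading 0 A 0))) := by
  have hleft : Function.LeftInverse (evalAway 0 A) ((fromZeroRingHom (CohB1.polyGrading 0 A)
      (Submonoid.powers (MvPolynomial.X 0 : MvPolynomial (Fin 1) A))).comp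
        (algebraMap A (CohB1.polyGrading 0 A 0))) := fun r => evalAway_fromZero 0 A r
  refine ⟨hleft.injective, fun y => ⟨evalAway 0 A y, ?_⟩⟩
  apply evalAway_injective A
  exact hleft _

theorem isIso_toSpec_zero : IsIso (CohB1.ProjSpace.toSpec 0 A) := by
  haveI h1 : IsIso (Proj.awayι (CohB1.polyGrading 0 A) _ (X0_mem 0 A) one_pos) := by
    apply isIso_of_isOpenImmersion_of_opensRange_eq_top
    rw [Proj.opensRange_awayι]
    exact basicOpen_X0_eq_top A
  have h2 : Proj.awayι (CohB1.polyGrading 0 A) _ (X0_mem 0 A) one_pos ≫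
      (Proj.toSpecZero (CohB1.polyGrading 0 A) ≫
        Spec.map (CommRingCat.ofHom (algebraMap A (CohB1.polyGrading 0 A 0)))) =
      Spec.map (CommRingCat.ofHom ((fromZeroRingHom (CohB1.polyGrading 0 A)
      (Submonoid.powers (MvPolynomial.X 0 : MvPolynomial (Fin 1) A))).comp
        (algebraMap A (CohB1.polyGrading 0 A 0)))) := by
    rw [Proj.awayι_toSpecZero_assoc, ← Spec.map_comp]
    rfl
  haveI h3 : IsIso (CommRingCat.ofHom ((fromZeroRingHom (CohB1.polyGrading 0 A)
      (Submonoid.powers (MvPolynomial.X 0 : MvPolynomial (Fin 1) A))).comp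
        (algebraMap A (CohB1.polyGrading 0 A 0)))) := by
    rw [ConcreteCategory.isIso_iff_bijective]
    exact bijective_zero A
  have h4 : IsIso (Proj.awayι (CohB1.polyGrading 0 A) _ (X0_mem 0 A) one_pos ≫
      (Proj.toSpecZero (CohB1.polyGrading 0 A) ≫
        Spec.map (CommRingCat.ofHom (algebraMap A (CohB1.polyGrading 0 A 0))))) := by
    rw [h2]; infer_instance
  haveI h5 : IsIso (Proj.awayι (CohB1.polyGrading 0 A) _ (X0_mem 0 A) one_pos ≫
      CohB1.ProjSpace.toSpec 0 A) := h4
  exact IsIso.of_isIso_comp_left (Proj.awayι (CohB1.polyGrading 0 A) _ (X0_mem 0 A) one_pos) _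

end Zero

end Groth.Agent.Helper9.ProjSp
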