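import Mathlib
import Groth.Prelude.Def_W4stkcategoriessitesFib
import Groth.Agent.Helper3.FibGrpd
import Groth.Agent.Helper3.EquivOver
import Groth.Agent.Helper3.TwoYoneda
import Groth.Agent.Helper6.StkTools

/-! Representable fibred categories. -/

set_option autoImplicit false
set_option linter.style.haveILetI false
universe v₃ u₃ v₂ u₂ v u

namespace Groth.Agent.Helper9.FibRep
open CategoryTheory Functor FibCat
open Groth.Agent.Helper3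

variable {C : Type u} [Category.{v} C]

theorem isFibGrpd_overCat (U : C) : IsFibGrpd (overCat U).p := by
  refine ⟨?_, fun φ => TwoYoneda.over_map_sc U φ⟩
  intro x V f
  exact ⟨Over.mk (f ≫ (x : Over U).hom), Over.homMk f rfl,
    Functor.IsHomLift.map (p := Over.forget U) (Over.homMk f rfl : Over.mk (f ≫ (x : Over U).hom) ⟶ x)⟩

section
variable (𝒳 : BasedCategory.{v₂, u₂} C) (ξ : 𝒳.obj) (hξ : ∀ ρ : 𝒳.obj, Nonempty (Unique (ρ ⟶ ξ)))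

/-- the canonical map to `ξ` -/
noncomputable def toξ (ρ : 𝒳.obj) : ρ ⟶ ξ := (hξ ρ).some.default

include hξ in
lemma toξ_uniq {ρ : 𝒳.obj} (f g : ρ ⟶ ξ) : f = g := by
  have := (hξ ρ).some
  exact (this.uniq f).trans (this.uniq g).symm

/-- the functor to the slice -/
noncomputable def toOver : 𝒳 ⥤ᵇ overCat (𝒳.p.obj ξ) where
  toFunctor :=
    { obj := fun ρ => Over.mk (𝒳.p.map (toξ 𝒳 ξ hξ ρ))
      map := fun {ρ ρ'} φ => Over.homMk (𝒳.p.map φ) (by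
        dsimp
        rw [← 𝒳.p.map_comp]
        congr 1
        exact toξ_uniq 𝒳 ξ hξ _ _)
      map_id := fun ρ => by
        apply Over.OverMorphism.ext
        exact 𝒳.p.map_id ρ
      map_comp := fun φ ψ => by
        apply Over.OverMorphism.ext
        exact 𝒳.p.map_comp φ ψ }
  w := rfl

theorem isEquivOver_toOver (h : IsFibGrpd 𝒳.p) : IsEquivOver (toOver 𝒳 ξ hξ) := by
  rw [Groth.Agent.Helper6.FpTools.isEquivOver_iff]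
  refine ⟨⟨fun {ρ ρ'} g => ?_⟩, ⟨fun {ρ ρ'} φ ψ hφψ => ?_⟩, fun y => ?_⟩
  · -- full
    haveI := FibGrpd.isStronglyCartesian h (𝒳.p.map (toξ 𝒳 ξ hξ ρ')) (toξ 𝒳 ξ hξ ρ')
    have hg : 𝒳.p.map (toξ 𝒳 ξ hξ ρ) = g.left ≫ 𝒳.p.map (toξ 𝒳 ξ hξ ρ') := (Over.w g).symm
    let χ := IsStronglyCartesian.map 𝒳.p (𝒳.p.map (toξ 𝒳 ξ hξ ρ')) (toξ 𝒳 ξ hξ ρ') hg
      (toξ 𝒳 ξ hξ ρ)
    haveI hχl : 𝒳.p.IsHomLift g.left χ :=
      IsStronglyCartesian.map_isHomLift 𝒳.p (𝒳.p.map (toξ 𝒳 ξ hξ ρ')) (toξ 𝒳 ξ hξ ρ') hg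
        (toξ 𝒳 ξ hξ ρ)
    refine ⟨χ, ?_⟩
    apply Over.OverMorphism.ext
    exact (@IsHomLift.eq_of_isHomLift _ _ _ _ 𝒳.p _ _ g.left χ hχl).symm
  · -- faithful
    have hbase : 𝒳.p.map φ = 𝒳.p.map ψ := congrArg CommaMorphism.left hφψ
    haveI := FibGrpd.isStronglyCartesian h (𝒳.p.map (toξ 𝒳 ξ hξ ρ')) (toξ 𝒳 ξ hξ ρ')
    haveI : 𝒳.p.IsHomLift (𝒳.p.map ψ) φ := by rw [← hbase]; infer_instance
    apply IsStronglyCartesian.ext 𝒳.p (𝒳.p.map (toξ 𝒳 ξ hξ ρ')) (toξ 𝒳 ξ hξ ρ') (𝒳.p.map ψ)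
    exact toξ_uniq 𝒳 ξ hξ _ _
  · -- essentially surjective over identities
    obtain ⟨ρ, φ, hφ⟩ := h.exists_lift (x := ξ) (y : Over (𝒳.p.obj ξ)).hom
    have hφ' : φ = toξ 𝒳 ξ hξ ρ := toξ_uniq 𝒳 ξ hξ _ _
    have hdom : 𝒳.p.obj ρ = (y : Over (𝒳.p.obj ξ)).left :=
      IsHomLift.domain_eq 𝒳.p (y : Over (𝒳.p.obj ξ)).hom φ
    have hfac := IsHomLift.fac' 𝒳.p (y : Over (𝒳.p.obj ξ)).hom φ
    have hw : eqToHom hdom ≫ (y : Over (𝒳.p.obj ξ)).hom = 𝒳.p.map (toξ 𝒳 ξ hξ ρ) := by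
      rw [← hφ', hfac]
      simp
    let e : (toOver 𝒳 ξ hξ).obj ρ ≅ y := Over.isoMk (eqToIso hdom) hw
    refine ⟨ρ, e, ?_⟩
    exact IsHomLift.of_fac (Over.forget (𝒳.p.obj ξ)) (𝟙 (y : Over (𝒳.p.obj ξ)).left) e.hom
      hdom rfl (by
        change 𝟙 _ = eqToHom hdom.symm ≫ eqToHom hdom ≫ eqToHom rfl
        simp)

end

theorem isRepresentable_iff (𝒳 : BasedCategory.{v₂, u₂} C) :
    FibCat.IsRepresentable 𝒳 ↔
      (FibCat.IsFibGrpd 𝒳.p ∧ ∃ ξ : 𝒳.obj, ∀ ρ : 𝒳.obj, Nonempty (Unique (ρ ⟶ ξ))) := by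
  constructor
  · rintro ⟨U, F, hF⟩
    refine ⟨Groth.Agent.Helper6.StkTools.isFibGrpd_of_isEquivOver F hF (isFibGrpd_overCat U), ?_⟩
    obtain ⟨hfull, hfaith, hes⟩ := (Groth.Agent.Helper6.FpTools.isEquivOver_iff F).1 hF
    obtain ⟨ξ, e, -⟩ := hes (Over.mk (𝟙 U))
    refine ⟨ξ, fun ρ => ⟨?_⟩⟩
    have hT : Limits.IsTerminal (F.obj ξ) := Limits.IsTerminal.ofIso Over.mkIdTerminal e.symm
    exact
      { default := F.toFunctor.preimage (hT.from _)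
        uniq := fun f => F.toFunctor.map_injective (hT.hom_ext _ _) }
  · rintro ⟨h, ξ, hξ⟩
    exact ⟨𝒳.p.obj ξ, toOver 𝒳 ξ hξ, isEquivOver_toOver 𝒳 ξ hξ h⟩

end Groth.Agent.Helper9.FibRep
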