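import Mathlib
import Groth.Prelude.Def_EtBase
import Groth.Agent.Helper9.EtStalkExact

/-! Algebraically closed geometric points form a conservative family for the small étale site. -/

set_option autoImplicit false
set_option linter.style.haveILetI false
universe u

open CategoryTheory CategoryTheory.Limits Opposite AlgebraicGeometry

namespace Groth.Agent.Helper9.EtStalkAlgClosed

open Groth.Agent.Helper9.EtStalkExact

variable {X : Scheme.{u}}

/-- the canonical algebraically closed geometric point over a point `x` of a scheme -/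
noncomputable def geomPt (x : X) :
    Spec (CommRingCat.of (AlgebraicClosure (X.residueField x))) ⟶ X :=
  (Scheme.SpecToEquivOfField (AlgebraicClosure (X.residueField x)) X).2
    ⟨x, CommRingCat.ofHom (algebraMap (X.residueField x) _)⟩

lemma geomPt_default (x : X) : (geomPt x) default = x := by
  simp [geomPt, Scheme.SpecToEquivOfField]

/-- a sieve on the small étale site is covering if every lift of every algebraically closed
geometric point factors through a member of the sieve -/
theorem mem_of_forall_geomPt {U : X.Etale} (R : Sieve U)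
    (h : ∀ (Ω : Type u) [Field Ω] [IsAlgClosed Ω] (ξ : Spec (CommRingCat.of Ω) ⟶ X)
      (l : (Scheme.pointSmallEtale ξ).fiber.obj U),
      ∃ (V : X.Etale) (f : V ⟶ U) (_ : R f) (v : (Scheme.pointSmallEtale ξ).fiber.obj V),
        (Scheme.pointSmallEtale ξ).fiber.map f v = l) :
    R ∈ X.smallEtaleTopology U := by
  obtain ⟨α, T, f, rfl⟩ := R.exists_eq_ofArrows
  rw [Scheme.ofArrows_mem_smallEtaleTopology_iff]
  ext x
  simp only [Set.mem_iUnion, Set.mem_range, Set.mem_univ, iff_true]
  have hi := geomPt_default (U.hom x)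
  obtain ⟨x', hx'⟩ := Scheme.pointSmallEtaleFiberObjToPreimage_surjective (geomPt (U.hom x)) hi U
    ⟨x, by simp⟩
  rw [Subtype.ext_iff] at hx'
  simp only [Functor.id_obj, Scheme.pointSmallEtaleFiberObjToPreimage_coe,
    Scheme.Etale.forget_obj_left] at hx'
  obtain ⟨W, g, ⟨Z, p, _, ⟨a⟩, rfl⟩, y, hy⟩ := h _ (geomPt (U.hom x)) x'
  refine ⟨a, (Scheme.pointSmallEtaleFiberObjToPreimage (geomPt (U.hom x)) hi (y ≫ p.hom)).1, ?_⟩
  refine Eq.trans ?_ hx'
  rw [← hy]
  rfl

section Concrete

variable {A : Type*} [Category A] [HasColimitsOfSize.{u, u} A]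
  {FC : A → A → Type*} {CC : A → Type*}
  [∀ X Y : A, FunLike (FC X Y) (CC X) (CC Y)] [ConcreteCategory A FC]
  [PreservesFilteredColimitsOfSize.{u, u} (forget A)]

theorem isLocallyInjective_of_stalk {P Q : X.Etaleᵒᵖ ⥤ A} (a : P ⟶ Q)
    (h : ∀ (Ω : Type u) [Field Ω] [IsAlgClosed Ω] (ξ : Spec (CommRingCat.of Ω) ⟶ X),
      Function.Injective ((Scheme.pointSmallEtale ξ).presheafFiber.map a)) :
    Presheaf.IsLocallyInjective X.smallEtaleTopology a where
  equalizerSieve_mem {U} x y hxy := by
    apply mem_of_forall_geomPt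
    intro Ω _ _ ξ l
    have h1 : (Scheme.pointSmallEtale ξ).toPresheafFiber U.unop l P x =
        (Scheme.pointSmallEtale ξ).toPresheafFiber U.unop l P y := by
      apply h Ω ξ
      rw [GrothendieckTopology.Point.toPresheafFiber_naturality_apply,
        GrothendieckTopology.Point.toPresheafFiber_naturality_apply, hxy]
    obtain ⟨V, f, v, hv, hf⟩ :=
      ((Scheme.pointSmallEtale ξ).toPresheafFiber_eq_iff' U.unop l x y).1 h1
    exact ⟨V, f, hf, v, hv⟩

theorem isLocallySurjective_of_stalk {P Q : X.Etaleᵒᵖ ⥤ A} (a : P ⟶ Q)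
    (h : ∀ (Ω : Type u) [Field Ω] [IsAlgClosed Ω] (ξ : Spec (CommRingCat.of Ω) ⟶ X),
      Function.Surjective ((Scheme.pointSmallEtale ξ).presheafFiber.map a)) :
    Presheaf.IsLocallySurjective X.smallEtaleTopology a where
  imageSieve_mem {U} t := by
    apply mem_of_forall_geomPt
    intro Ω _ _ ξ l
    exact exists_of_surjective (Scheme.pointSmallEtale ξ) a (h Ω ξ) t l

end Concrete

section Ab

attribute [local instance] preservesFilteredColimits_forget_ab ab5_ab

theorem isIso_of_stalks {F G : EtCoh.Ab X} (a : F ⟶ G)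
    (h : ∀ (Ω : Type u) [Field Ω] [IsAlgClosed Ω] (ξ : Spec (CommRingCat.of Ω) ⟶ X),
      Function.Bijective ((EtCoh.stalk ξ).map a)) : IsIso a := by
  have h1 : Presheaf.IsLocallyInjective X.smallEtaleTopology a.hom :=
    isLocallyInjective_of_stalk a.hom (fun Ω _ _ ξ => (h Ω ξ).1)
  have h2 : Presheaf.IsLocallySurjective X.smallEtaleTopology a.hom :=
    isLocallySurjective_of_stalk a.hom (fun Ω _ _ ξ => (h Ω ξ).2)
  have : Mono a := Sheaf.mono_of_isLocallyInjective a
  have : Epi a := Sheaf.epi_of_isLocallySurjective a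
  exact isIso_of_mono_of_epi a

end Ab

end Groth.Agent.Helper9.EtStalkAlgClosed
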