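import Mathlib

/-! For a point `Φ` of a site `(D, K)` and a continuous flat functor `F : C ⥤ D`, the composite of
`sheafFiberComapIso` at `F_* G` with the fibre of the counit `F^* F_* G ⟶ G` is the canonical
comparison map on germs. -/

set_option autoImplicit false
universe w v

open CategoryTheory CategoryTheory.Limits Opposite

namespace Groth.Agent.Helper9.PointComapCounit

section Abstract

variable {𝒞 𝒟 𝒜 : Type*} [Category 𝒞] [Category 𝒟] [Category 𝒜]
  {Fu : 𝒞 ⥤ 𝒟} {Fl : 𝒟 ⥤ 𝒞} (adjF : Fu ⊣ Fl)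
  {S : 𝒟 ⥤ 𝒜} {T : 𝒜 ⥤ 𝒟} (adjΦ : S ⊣ T)
  {L₂ : 𝒞 ⥤ 𝒜} {R₂ : 𝒜 ⥤ 𝒞} (adj₂ : L₂ ⊣ R₂) (b : T ⋙ Fl ⟶ R₂)

theorem conj_counit (G : 𝒟) :
    ((conjugateEquiv (adjF.comp adjΦ) adj₂).symm b).app (Fl.obj G) ≫ S.map (adjF.counit.app G) =
      L₂.map (Fl.map (adjΦ.unit.app G) ≫ b.app (S.obj G)) ≫ adj₂.counit.app (S.obj G) := by
  rw [conjugateEquiv_symm_apply_app]
  simp only [Category.assoc]
  have h1 : adj₂.counit.app ((Fu ⋙ S).obj (Fl.obj G)) ≫ S.map (adjF.counit.app G) =
      L₂.map (R₂.map (S.map (adjF.counit.app G))) ≫ adj₂.counit.app (S.obj G) :=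
    (adj₂.counit.naturality (S.map (adjF.counit.app G))).symm
  rw [h1, ← Functor.map_comp_assoc, ← Functor.map_comp_assoc]
  congr 2
  have h2 : b.app ((Fu ⋙ S).obj (Fl.obj G)) ≫ R₂.map (S.map (adjF.counit.app G)) =
      (T ⋙ Fl).map (S.map (adjF.counit.app G)) ≫ b.app (S.obj G) :=
    (b.naturality (S.map (adjF.counit.app G))).symm
  rw [Category.assoc, h2, ← Category.assoc]
  congr 1
  rw [Adjunction.comp_unit_app, Category.assoc, Functor.comp_map, ← Functor.map_comp]
  have h3 : adjΦ.unit.app (Fu.obj (Fl.obj G)) ≫ T.map (S.map (adjF.counit.app G)) =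
      adjF.counit.app G ≫ adjΦ.unit.app G := (adjΦ.unit.naturality (adjF.counit.app G)).symm
  rw [h3, Functor.map_comp, ← Category.assoc, adjF.right_triangle_components, Category.id_comp]

end Abstract


section Site

variable {C D : Type*} [Category C] [Category D]
  {K : GrothendieckTopology D}
  (Φ : GrothendieckTopology.Point.{w} K) (F : C ⥤ D) [RepresentablyFlat F]
  {J : GrothendieckTopology C}
  (hF : CoverPreserving J K F)
  [InitiallySmall.{w} (F ⋙ Φ.fiber).Elements]
  (A : Type*) [Category.{v} A] [HasColimitsOfSize.{w, w} A]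

/-- the comparison map `(F_* P)_{Φ ∘ F} ⟶ P_Φ` on germs -/
noncomputable def comp (P : Dᵒᵖ ⥤ A) :
    (Φ.comap F hF).presheafFiber.obj (F.op ⋙ P) ⟶ Φ.presheafFiber.obj P :=
  (Φ.comap F hF).presheafFiberDesc
    (fun U y => Φ.toPresheafFiber (F.obj U) y P)
    (fun _ _ g y => Φ.toPresheafFiber_w (F.map g) y P)

@[reassoc]
lemma toPresheafFiber_comp (P : Dᵒᵖ ⥤ A) (U : C) (y : (Φ.comap F hF).fiber.obj U) :
    (Φ.comap F hF).toPresheafFiber U y (F.op ⋙ P) ≫ comp Φ F hF A P =
      Φ.toPresheafFiber (F.obj U) y P :=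
  (Φ.comap F hF).toPresheafFiber_presheafFiberDesc _ _ _ _

variable [HasProducts.{w} A] [F.IsContinuous J K]
  [(F.sheafPushforwardContinuous A J K).IsRightAdjoint]

/-- the unit of the skyscraper adjunction, on sections and a coordinate -/
lemma unit_app_hom_app_π (G : Sheaf K A) (V : D) (y : Φ.fiber.obj V) :
    (Φ.skyscraperSheafAdjunction.unit.app G).hom.app (op V) ≫
      Pi.π (fun (_ : Φ.fiber.obj V) => Φ.presheafFiber.obj G.obj) y =
    Φ.toPresheafFiber V y G.obj := by
  have h1 : Φ.skyscraperSheafAdjunction.unit.app G =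
      Φ.skyscraperSheafAdjunction.homEquiv G _ (𝟙 _) :=
    (Adjunction.homEquiv_id _ _).symm
  have h2 := Φ.skyscraperSheafAdjunction_homEquiv_apply_hom (F := G)
    (𝟙 (Φ.presheafFiber.obj G.obj))
  have h3 := Φ.skyscraperPresheafHomEquiv_app_π (P := G.obj) (𝟙 (Φ.presheafFiber.obj G.obj)) V y
  rw [Category.comp_id] at h3
  rw [h1]
  refine Eq.trans ?_ h3
  congr 2

theorem hom_app_comp_map_counit (G : Sheaf K A) :
    (Φ.sheafFiberComapIso F hF A).hom.app ((F.sheafPushforwardContinuous A J K).obj G) ≫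
      Φ.sheafFiber.map ((F.sheafAdjunctionContinuous A J K).counit.app G) =
    comp Φ F hF A G.obj := by
  have hα : (Φ.sheafFiberComapIso F hF A).hom =
      (conjugateEquiv ((F.sheafAdjunctionContinuous A J K).comp Φ.skyscraperSheafAdjunction)
        (Φ.comap F hF).skyscraperSheafAdjunction).symm
        (Φ.skyscraperSheafFunctorCompSheafPushforwardContinuous F hF A).hom := rfl
  rw [hα]
  refine (conj_counit (F.sheafAdjunctionContinuous A J K) Φ.skyscraperSheafAdjunction
    (Φ.comap F hF).skyscraperSheafAdjunction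
    (Φ.skyscraperSheafFunctorCompSheafPushforwardContinuous F hF A).hom G).trans ?_
  refine ((Φ.comap F hF).skyscraperSheafAdjunction.homEquiv_counit
    (X := (F.sheafPushforwardContinuous A J K).obj G) (Y := Φ.sheafFiber.obj G)
    ((F.sheafPushforwardContinuous A J K).map (Φ.skyscraperSheafAdjunction.unit.app G) ≫
      (Φ.skyscraperSheafFunctorCompSheafPushforwardContinuous F hF A).hom.app
        (Φ.sheafFiber.obj G))).symm.trans ?_
  have e1 := (Φ.comap F hF).skyscraperSheafAdjunction_homEquiv_symm_apply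
    (F := (F.sheafPushforwardContinuous A J K).obj G) (M := Φ.sheafFiber.obj G)
    ((F.sheafPushforwardContinuous A J K).map (Φ.skyscraperSheafAdjunction.unit.app G) ≫
      (Φ.skyscraperSheafFunctorCompSheafPushforwardContinuous F hF A).hom.app (Φ.sheafFiber.obj G))
  refine e1.trans ?_
  apply (Φ.comap F hF).presheafFiber_hom_ext
  intro U y
  refine ((Φ.comap F hF).toPresheafFiber_skyscraperPresheafHomEquiv_symm _ U y).trans ?_
  refine Eq.trans ?_ (toPresheafFiber_comp Φ F hF A G.obj U y).symm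
  refine Eq.trans ?_ (unit_app_hom_app_π Φ A G (F.obj U) y)
  have e2 : (F.sheafPushforwardContinuous A J K).map (Φ.skyscraperSheafAdjunction.unit.app G) ≫
      (Φ.skyscraperSheafFunctorCompSheafPushforwardContinuous F hF A).hom.app (Φ.sheafFiber.obj G) =
      (F.sheafPushforwardContinuous A J K).map (Φ.skyscraperSheafAdjunction.unit.app G) :=
    Category.comp_id _
  rw [e2]
  rfl

end Site

end Groth.Agent.Helper9.PointComapCounit
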