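import Mathlib
import Groth.Prelude.Def_EtBase

/-! The comparison maps `(f_* P)_η ⟶ P_ξ` for geometric points `ξ` over `η`. -/

set_option autoImplicit false
set_option linter.style.haveILetI false
universe u

open CategoryTheory CategoryTheory.Limits Opposite AlgebraicGeometry

namespace Groth.Agent.Helper9.StalkFinA

variable {X Y : Scheme.{u}} (f : X ⟶ Y) {Ω : Type u} [Field Ω] [IsSepClosed Ω]
  (η : Spec (CommRingCat.of Ω) ⟶ Y) (ξ : Spec (CommRingCat.of Ω) ⟶ X) (hξ : ξ ≫ f = η)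

/-- the underlying morphism of an element of the fibre -/
noncomputable def ptLeft {S : Scheme.{u}} {s : Spec (CommRingCat.of Ω) ⟶ S} {V : S.Etale}
    (y : (Scheme.pointSmallEtale s).fiber.obj V) : Spec (CommRingCat.of Ω) ⟶ V.left :=
  y.left

lemma ptLeft_w {S : Scheme.{u}} {s : Spec (CommRingCat.of Ω) ⟶ S} {V : S.Etale}
    (y : (Scheme.pointSmallEtale s).fiber.obj V) : ptLeft y ≫ V.hom = s :=
  Over.w y

/-- constructor for elements of the fibre -/
noncomputable def mkPt {S : Scheme.{u}} (s : Spec (CommRingCat.of Ω) ⟶ S) {V : S.Etale}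
    (t : Spec (CommRingCat.of Ω) ⟶ V.left) (ht : t ≫ V.hom = s) :
    (Scheme.pointSmallEtale s).fiber.obj V :=
  Over.homMk t ht

@[simp]
lemma ptLeft_mkPt {S : Scheme.{u}} (s : Spec (CommRingCat.of Ω) ⟶ S) {V : S.Etale}
    (t : Spec (CommRingCat.of Ω) ⟶ V.left) (ht : t ≫ V.hom = s) :
    ptLeft (mkPt s t ht) = t := rfl

lemma pt_ext {S : Scheme.{u}} {s : Spec (CommRingCat.of Ω) ⟶ S} {V : S.Etale}
    (y y' : (Scheme.pointSmallEtale s).fiber.obj V) (h : ptLeft y = ptLeft y') : y = y' :=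
  Over.OverMorphism.ext h

lemma ptLeft_map {S : Scheme.{u}} {s : Spec (CommRingCat.of Ω) ⟶ S} {V V' : S.Etale}
    (a : V ⟶ V') (y : (Scheme.pointSmallEtale s).fiber.obj V) :
    ptLeft ((Scheme.pointSmallEtale s).fiber.map a y) = ptLeft y ≫ a.left := rfl

/-- lifting a point of the fibre of `η` at `V` to the fibre of `ξ` at the base change of `V` -/
noncomputable def liftPt {V : Y.Etale} (y : (Scheme.pointSmallEtale η).fiber.obj V) :
    (Scheme.pointSmallEtale ξ).fiber.obj ((EtCoh.bc f).obj V) :=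
  mkPt ξ (pullback.lift (ptLeft y) ξ (by rw [hξ, ptLeft_w])) (pullback.lift_snd _ _ _)


lemma ptLeft_liftPt {V : Y.Etale} (y : (Scheme.pointSmallEtale η).fiber.obj V) :
    ptLeft (liftPt f η ξ hξ y) = pullback.lift (ptLeft y) ξ (by rw [hξ, ptLeft_w]) := rfl

lemma ptLeft_liftPt_fst {V : Y.Etale} (y : (Scheme.pointSmallEtale η).fiber.obj V) :
    ptLeft (liftPt f η ξ hξ y) ≫ pullback.fst V.hom f = ptLeft y :=
  pullback.lift_fst _ _ _

lemma ptLeft_liftPt_snd {V : Y.Etale} (y : (Scheme.pointSmallEtale η).fiber.obj V) :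
    ptLeft (liftPt f η ξ hξ y) ≫ pullback.snd V.hom f = ξ :=
  pullback.lift_snd _ _ _

set_option backward.isDefEq.respectTransparency.types false in
lemma bc_map_left_fst {V V' : Y.Etale} (a : V ⟶ V') :
    ((EtCoh.bc f).map a).left ≫ pullback.fst V'.hom f = pullback.fst V.hom f ≫ a.left :=
  (EtCoh.isPullback_bc_map f a).w

set_option backward.isDefEq.respectTransparency.types false in
lemma bc_map_left_snd {V V' : Y.Etale} (a : V ⟶ V') :
    ((EtCoh.bc f).map a).left ≫ pullback.snd V'.hom f = pullback.snd V.hom f := by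
  dsimp [EtCoh.bc]
  exact pullback.lift_snd _ _ _

set_option backward.isDefEq.respectTransparency.types false in
lemma liftPt_map {V V' : Y.Etale} (a : V ⟶ V') (y : (Scheme.pointSmallEtale η).fiber.obj V) :
    (Scheme.pointSmallEtale ξ).fiber.map ((EtCoh.bc f).map a) (liftPt f η ξ hξ y) =
      liftPt f η ξ hξ ((Scheme.pointSmallEtale η).fiber.map a y) := by
  apply pt_ext
  rw [ptLeft_map]
  apply pullback.hom_ext
  · refine (Category.assoc _ _ _).trans ?_
    refine (congrArg (fun t => ptLeft (liftPt f η ξ hξ y) ≫ t) (bc_map_left_fst f a)).trans ?_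
    refine (Category.assoc _ _ _).symm.trans ?_
    refine (congrArg (fun t => t ≫ a.left) (ptLeft_liftPt_fst f η ξ hξ y)).trans ?_
    exact (ptLeft_liftPt_fst f η ξ hξ ((Scheme.pointSmallEtale η).fiber.map a y)).symm
  · refine (Category.assoc _ _ _).trans ?_
    refine (congrArg (fun t => ptLeft (liftPt f η ξ hξ y) ≫ t) (bc_map_left_snd f a)).trans ?_
    exact (ptLeft_liftPt_snd f η ξ hξ y).trans (ptLeft_liftPt_snd f η ξ hξ _).symm

section Concrete

variable {A : Type*} [Category A] [HasColimitsOfSize.{u, u} A]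

/-- the comparison map `(f_* P)_η ⟶ P_ξ` -/
noncomputable def theta (P : X.Etaleᵒᵖ ⥤ A) :
    (Scheme.pointSmallEtale η).presheafFiber.obj ((EtCoh.bc f).op ⋙ P) ⟶
      (Scheme.pointSmallEtale ξ).presheafFiber.obj P :=
  (Scheme.pointSmallEtale η).presheafFiberDesc
    (fun V y => (Scheme.pointSmallEtale ξ).toPresheafFiber ((EtCoh.bc f).obj V)
      (liftPt f η ξ hξ y) P)
    (fun V V' a y => by
      rw [← liftPt_map]
      exact (Scheme.pointSmallEtale ξ).toPresheafFiber_w ((EtCoh.bc f).map a) _ P)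

@[reassoc]
lemma toPresheafFiber_theta (P : X.Etaleᵒᵖ ⥤ A) (V : Y.Etale)
    (y : (Scheme.pointSmallEtale η).fiber.obj V) :
    (Scheme.pointSmallEtale η).toPresheafFiber V y ((EtCoh.bc f).op ⋙ P) ≫ theta f η ξ hξ P =
      (Scheme.pointSmallEtale ξ).toPresheafFiber ((EtCoh.bc f).obj V) (liftPt f η ξ hξ y) P :=
  (Scheme.pointSmallEtale η).toPresheafFiber_presheafFiberDesc _ _ _ _

@[reassoc]
lemma theta_naturality {P Q : X.Etaleᵒᵖ ⥤ A} (φ : P ⟶ Q) :
    (Scheme.pointSmallEtale η).presheafFiber.map (Functor.whiskerLeft (EtCoh.bc f).op φ) ≫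
      theta f η ξ hξ Q =
    theta f η ξ hξ P ≫ (Scheme.pointSmallEtale ξ).presheafFiber.map φ := by
  apply (Scheme.pointSmallEtale η).presheafFiber_hom_ext
  intro V y
  rw [GrothendieckTopology.Point.toPresheafFiber_naturality_assoc, toPresheafFiber_theta,
    toPresheafFiber_theta_assoc, GrothendieckTopology.Point.toPresheafFiber_naturality]
  rfl

variable {FC : A → A → Type*} {CC : A → Type*}
  [∀ X Y : A, FunLike (FC X Y) (CC X) (CC Y)] [ConcreteCategory A FC]

lemma theta_apply (P : X.Etaleᵒᵖ ⥤ A) (V : Y.Etale)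
    (y : (Scheme.pointSmallEtale η).fiber.obj V)
    (s : ToType (P.obj (op ((EtCoh.bc f).obj V)))) :
    theta f η ξ hξ P ((Scheme.pointSmallEtale η).toPresheafFiber V y ((EtCoh.bc f).op ⋙ P) s) =
      (Scheme.pointSmallEtale ξ).toPresheafFiber ((EtCoh.bc f).obj V) (liftPt f η ξ hξ y) P s := by
  rw [← ConcreteCategory.comp_apply, toPresheafFiber_theta]

end Concrete

end Groth.Agent.Helper9.StalkFinA
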