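import Mathlib
import Groth.Prelude.Def_EtBase
import Groth.Agent.Helper9.StalkFinA
import Groth.Agent.Helper9.EtStalkPull

/-! Points: the comapped point `Φ_{η'} ∘ bc g` versus the point `η' ≫ g`. -/

set_option autoImplicit false
set_option linter.style.haveILetI false
universe u

open CategoryTheory CategoryTheory.Limits Opposite AlgebraicGeometry

namespace Groth.Agent.Helper9.StalkBC1

open Groth.Agent.Helper9.StalkFinA Groth.Agent.Helper9.EtStalkPull

variable {Y' Y : Scheme.{u}} (g : Y' ⟶ Y) {Ω : Type u} [Field Ω] [IsSepClosed Ω]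
  (η' : Spec (CommRingCat.of Ω) ⟶ Y')

/-- the downward map on fibres -/
noncomputable def downPt {V : Y.Etale}
    (y : (Scheme.pointSmallEtale η').fiber.obj ((EtCoh.bc g).obj V)) :
    (Scheme.pointSmallEtale (η' ≫ g)).fiber.obj V :=
  mkPt (η' ≫ g) (ptLeft y ≫ pullback.fst V.hom g) (by
    have h1 : ptLeft y ≫ pullback.snd V.hom g = η' := ptLeft_w y
    refine (Category.assoc _ _ _).trans ?_
    refine (congrArg (fun t => ptLeft y ≫ t) pullback.condition).trans ?_
    refine (Category.assoc _ _ _).symm.trans ?_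
    exact congrArg (fun t => t ≫ g) h1)

lemma ptLeft_downPt {V : Y.Etale}
    (y : (Scheme.pointSmallEtale η').fiber.obj ((EtCoh.bc g).obj V)) :
    ptLeft (downPt g η' y) = ptLeft y ≫ pullback.fst V.hom g := rfl

lemma downPt_liftPt {V : Y.Etale} (y : (Scheme.pointSmallEtale (η' ≫ g)).fiber.obj V) :
    downPt g η' (liftPt g (η' ≫ g) η' rfl y) = y := by
  apply pt_ext
  rw [ptLeft_downPt]
  exact ptLeft_liftPt_fst g (η' ≫ g) η' rfl y

set_option backward.isDefEq.respectTransparency.types false in
lemma liftPt_downPt {V : Y.Etale}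
    (y : (Scheme.pointSmallEtale η').fiber.obj ((EtCoh.bc g).obj V)) :
    liftPt g (η' ≫ g) η' rfl (downPt g η' y) = y := by
  apply pt_ext
  apply pullback.hom_ext
  · exact (ptLeft_liftPt_fst g (η' ≫ g) η' rfl _).trans (ptLeft_downPt g η' y)
  · exact (ptLeft_liftPt_snd g (η' ≫ g) η' rfl _).trans (ptLeft_w y).symm

/-- the upward natural transformation on fibre functors -/
noncomputable def up : (Scheme.pointSmallEtale (η' ≫ g)).fiber ⟶
    EtCoh.bc g ⋙ (Scheme.pointSmallEtale η').fiber where
  app V := TypeCat.ofHom (fun y => liftPt g (η' ≫ g) η' rfl y)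
  naturality V V' a := by
    ext y
    exact (liftPt_map g (η' ≫ g) η' rfl a y).symm

lemma up_app_apply {V : Y.Etale} (y : (Scheme.pointSmallEtale (η' ≫ g)).fiber.obj V) :
    (up g η').app V y = liftPt g (η' ≫ g) η' rfl y := rfl

/-- the morphism of points `comapPt g η' ⟶ pointSmallEtale (η' ≫ g)` -/
noncomputable def upHom : comapPt g η' ⟶ Scheme.pointSmallEtale (η' ≫ g) := ⟨up g η'⟩

lemma bijective_up_app (V : Y.Etale) : Function.Bijective ((up g η').app V) := by
  constructor
  · intro y y' h
    have h' : liftPt g (η' ≫ g) η' rfl y = liftPt g (η' ≫ g) η' rfl y' := h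
    rw [← downPt_liftPt g η' y, h', downPt_liftPt]
  · intro y
    exact ⟨downPt g η' y, liftPt_downPt g η' y⟩

instance isIso_up : IsIso (up g η') := by
  rw [NatTrans.isIso_iff_isIso_app]
  intro V
  rw [isIso_iff_bijective]
  exact bijective_up_app g η' V

/-- the inverse of `up` -/
noncomputable def down : EtCoh.bc g ⋙ (Scheme.pointSmallEtale η').fiber ⟶
    (Scheme.pointSmallEtale (η' ≫ g)).fiber := inv (up g η')

lemma up_down : up g η' ≫ down g η' = 𝟙 _ := IsIso.hom_inv_id (up g η')

lemma down_up : down g η' ≫ up g η' = 𝟙 _ := IsIso.inv_hom_id (up g η')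

instance isIso_upHom : IsIso (upHom g η') := by
  refine ⟨⟨⟨down g η'⟩, ?_, ?_⟩⟩
  · apply GrothendieckTopology.Point.hom_ext
    exact down_up g η'
  · apply GrothendieckTopology.Point.hom_ext
    exact up_down g η'

section

variable {A : Type*} [Category A] [HasColimitsOfSize.{u, u} A]

/-- the induced isomorphism on fibres of presheaves -/
noncomputable def E (Q : Y.Etaleᵒᵖ ⥤ A) :
    (Scheme.pointSmallEtale (η' ≫ g)).presheafFiber.obj Q ⟶ (comapPt g η').presheafFiber.obj Q :=
  (GrothendieckTopology.Point.Hom.presheafFiber (upHom g η')).app Q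

instance (Q : Y.Etaleᵒᵖ ⥤ A) : IsIso (E g η' Q) := by
  have h1 : IsIso (GrothendieckTopology.Point.Hom.presheafFiber (A := A) (upHom g η')) := by
    refine ⟨⟨GrothendieckTopology.Point.Hom.presheafFiber (inv (upHom g η')), ?_, ?_⟩⟩
    · rw [← GrothendieckTopology.Point.Hom.presheafFiber_comp, IsIso.inv_hom_id,
        GrothendieckTopology.Point.Hom.presheafFiber_id]
    · rw [← GrothendieckTopology.Point.Hom.presheafFiber_comp, IsIso.hom_inv_id,
        GrothendieckTopology.Point.Hom.presheafFiber_id]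
  exact inferInstanceAs (IsIso ((GrothendieckTopology.Point.Hom.presheafFiber (upHom g η')).app Q))

@[reassoc]
lemma toPresheafFiber_E (Q : Y.Etaleᵒᵖ ⥤ A) (V : Y.Etale)
    (y : (Scheme.pointSmallEtale (η' ≫ g)).fiber.obj V) :
    (Scheme.pointSmallEtale (η' ≫ g)).toPresheafFiber V y Q ≫ E g η' Q =
      (comapPt g η').toPresheafFiber V (liftPt g (η' ≫ g) η' rfl y) Q := by
  unfold E
  rw [GrothendieckTopology.Point.Hom.presheafFiber_app]
  exact (Scheme.pointSmallEtale (η' ≫ g)).toPresheafFiber_presheafFiberDesc _ _ _ _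

end

end Groth.Agent.Helper9.StalkBC1
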