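import Mathlib
import Groth.Prelude.Def_EtBase
import Groth.Agent.Helper9.StalkFinA
import Groth.Agent.Helper9.StalkBC1

/-! The morphism whose transpose is the base change map, on sections. -/

set_option autoImplicit false
set_option linter.style.haveILetI false
universe u

open CategoryTheory CategoryTheory.Limits Opposite AlgebraicGeometry

namespace Groth.Agent.Helper9.StalkBC2

open Groth.Agent.Helper9.StalkFinA Groth.Agent.Helper9.StalkBC1

variable {X Y X' Y' : Scheme.{u}} (f : X ⟶ Y) (g : Y' ⟶ Y) (f' : X' ⟶ Y') (g' : X' ⟶ X)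
  (w : g' ≫ f = f' ≫ g)

/-- the comparison `X' ×_{Y'} (Y' ×_Y V) ⟶ X' ×_X (X ×_Y V)` -/
noncomputable def kk (V : Y.Etale) :
    (EtCoh.bc f').obj ((EtCoh.bc g).obj V) ⟶ (EtCoh.bc g').obj ((EtCoh.bc f).obj V) :=
  (MorphismProperty.Over.pullbackComp (P := EtCoh.etaleMP) (Q := ⊤) f' g).inv.app V ≫
    (MorphismProperty.Over.pullbackCongr (P := EtCoh.etaleMP) (Q := ⊤) w).inv.app V ≫
    (MorphismProperty.Over.pullbackComp (P := EtCoh.etaleMP) (Q := ⊤) g' f).hom.app V

/-- the morphism whose transpose is the base change morphism -/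
noncomputable def alpha (F : EtCoh.Ab X) : (EtCoh.push f).obj F ⟶
    (EtCoh.push g).obj ((EtCoh.push f').obj ((EtCoh.pull g').obj F)) :=
  (EtCoh.push f).map ((EtCoh.pullPushAdj g').unit.app F) ≫ (EtCoh.pushComp f g').hom.app _ ≫
      (EtCoh.pushCongr w).hom.app _ ≫ (EtCoh.pushComp g f').inv.app _

lemma baseChange0_eq (F : EtCoh.Ab X) :
    EtCoh.baseChange0 f g f' g' w F =
      (EtCoh.pull g).map (alpha f g f' g' w F) ≫ (EtCoh.pullPushAdj g).counit.app _ :=
  Adjunction.homEquiv_counit _ _ _ _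

set_option backward.isDefEq.respectTransparency.types false in
lemma alpha_app (F : EtCoh.Ab X) (V : Y.Etale) :
    (alpha f g f' g' w F).hom.app (op V) =
      ((EtCoh.pullPushAdj g').unit.app F).hom.app (op ((EtCoh.bc f).obj V)) ≫
        ((EtCoh.pull g').obj F).obj.map (kk f g f' g' w V).op := by
  have e : (alpha f g f' g' w F).hom.app (op V) =
      ((EtCoh.pullPushAdj g').unit.app F).hom.app (op ((EtCoh.bc f).obj V)) ≫
        ((EtCoh.pushComp f g').hom.app _).hom.app (op V) ≫
        ((EtCoh.pushCongr w).hom.app _).hom.app (op V) ≫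
        ((EtCoh.pushComp g f').inv.app _).hom.app (op V) := rfl
  rw [e]
  unfold kk
  rw [op_comp, op_comp, Functor.map_comp, Functor.map_comp]
  rfl


set_option backward.isDefEq.respectTransparency.types false in
lemma iso_inv_left_comp {S : Scheme.{u}} {A B : S.Etale} (e : A ≅ B) {Z : Scheme.{u}}
    (p : A.left ⟶ Z) (q : B.left ⟶ Z) (h : e.hom.left ≫ q = p) : e.inv.left ≫ p = q := by
  have h1 : e.inv.left ≫ e.hom.left = 𝟙 _ := by
    have := congrArg (fun (m : B ⟶ B) => m.left) e.inv_hom_id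
    exact this
  refine (congrArg (fun t => e.inv.left ≫ t) h.symm).trans ?_
  refine (Category.assoc _ _ _).symm.trans ?_
  refine (congrArg (fun t => t ≫ q) h1).trans ?_
  exact Category.id_comp _

set_option backward.isDefEq.respectTransparency.types false in
lemma kk_fst_fst (V : Y.Etale) :
    (kk f g f' g' w V).left ≫ pullback.fst ((EtCoh.bc f).obj V).hom g' ≫ pullback.fst V.hom f =
      pullback.fst ((EtCoh.bc g).obj V).hom f' ≫ pullback.fst V.hom g := by
  have h1 := MorphismProperty.Over.pullbackComp_left_fst_fst (P := EtCoh.etaleMP) (Q := ⊤) g' f V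
  have h2 := MorphismProperty.Over.pullbackComp_left_fst_fst (P := EtCoh.etaleMP) (Q := ⊤) f' g V
  have h3 := MorphismProperty.Over.pullbackCongr_hom_app_left_fst (P := EtCoh.etaleMP) (Q := ⊤)
    w V
  have h2' := iso_inv_left_comp
    ((MorphismProperty.Over.pullbackComp (P := EtCoh.etaleMP) (Q := ⊤) f' g).app V) _ _ h2
  have h3' := iso_inv_left_comp
    ((MorphismProperty.Over.pullbackCongr (P := EtCoh.etaleMP) (Q := ⊤) w).app V) _ _ h3
  have e : (kk f g f' g' w V).left =
      ((MorphismProperty.Over.pullbackComp (P := EtCoh.etaleMP) (Q := ⊤) f' g).inv.app V).left ≫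
      ((MorphismProperty.Over.pullbackCongr (P := EtCoh.etaleMP) (Q := ⊤) w).inv.app V).left ≫
      ((MorphismProperty.Over.pullbackComp (P := EtCoh.etaleMP) (Q := ⊤) g' f).hom.app V).left :=
    rfl
  rw [e]
  refine (Category.assoc _ _ _).trans ?_
  refine (congrArg (fun t => _ ≫ t) (Category.assoc _ _ _)).trans ?_
  refine (congrArg (fun t => _ ≫ _ ≫ t) h1).trans ?_
  refine (congrArg (fun t => _ ≫ t) h3').trans ?_
  exact h2'


set_option backward.isDefEq.respectTransparency.types false in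
lemma kk_snd (V : Y.Etale) :
    (kk f g f' g' w V).left ≫ pullback.snd ((EtCoh.bc f).obj V).hom g' =
      pullback.snd ((EtCoh.bc g).obj V).hom f' :=
  MorphismProperty.Over.w (kk f g f' g' w V)

variable {Ω : Type u} [Field Ω] [IsSepClosed Ω]
  (η' : Spec (CommRingCat.of Ω) ⟶ Y') (ξ' : Spec (CommRingCat.of Ω) ⟶ X') (hξ' : ξ' ≫ f' = η')

omit [IsSepClosed Ω] in
include w hξ' in
lemma comp_eq : (ξ' ≫ g') ≫ f = η' ≫ g := by
  rw [Category.assoc, w, ← Category.assoc, hξ']

set_option backward.isDefEq.respectTransparency.types false in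
lemma liftPt_liftPt {V : Y.Etale} (y : (Scheme.pointSmallEtale (η' ≫ g)).fiber.obj V) :
    liftPt g' (ξ' ≫ g') ξ' rfl
        (liftPt f (η' ≫ g) (ξ' ≫ g') (comp_eq f g f' g' w η' ξ' hξ') y) =
      (Scheme.pointSmallEtale ξ').fiber.map (kk f g f' g' w V)
        (liftPt f' η' ξ' hξ' (liftPt g (η' ≫ g) η' rfl y)) := by
  apply pt_ext
  rw [ptLeft_map]
  obtain ⟨q, hq⟩ : ∃ q, q = ptLeft (liftPt f' η' ξ' hξ' (liftPt g (η' ≫ g) η' rfl y)) := ⟨_, rfl⟩
  have hq1 : q ≫ pullback.fst ((EtCoh.bc g).obj V).hom f' =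
      ptLeft (liftPt g (η' ≫ g) η' rfl y) := by
    rw [hq]
    exact ptLeft_liftPt_fst f' η' ξ' hξ' _
  have hq2 : q ≫ pullback.snd ((EtCoh.bc g).obj V).hom f' = ξ' := by
    rw [hq]
    exact ptLeft_liftPt_snd f' η' ξ' hξ' _
  rw [← hq]
  have hq3 : (q ≫ (kk f g f' g' w V).left) ≫ pullback.snd ((EtCoh.bc f).obj V).hom g' = ξ' :=
    (Category.assoc _ _ _).trans
      ((congrArg (fun t => q ≫ t) (kk_snd f g f' g' w V)).trans hq2)
  apply pullback.hom_ext
  · refine (ptLeft_liftPt_fst g' (ξ' ≫ g') ξ' rfl _).trans ?_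
    apply pullback.hom_ext
    · refine (ptLeft_liftPt_fst f (η' ≫ g) (ξ' ≫ g') _ y).trans ?_
      symm
      refine (Category.assoc _ _ _).trans ?_
      refine (Category.assoc _ _ _).trans ?_
      refine (congrArg (fun t => q ≫ t) (kk_fst_fst f g f' g' w V)).trans ?_
      refine (Category.assoc _ _ _).symm.trans ?_
      refine (congrArg (fun t => t ≫ pullback.fst V.hom g) hq1).trans ?_
      exact ptLeft_liftPt_fst g (η' ≫ g) η' rfl y
    · refine (ptLeft_liftPt_snd f (η' ≫ g) (ξ' ≫ g') _ y).trans ?_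
      symm
      refine (Category.assoc _ _ _).trans ?_
      have c1 : pullback.fst ((EtCoh.bc f).obj V).hom g' ≫ pullback.snd V.hom f =
          pullback.snd ((EtCoh.bc f).obj V).hom g' ≫ g' := pullback.condition
      refine (congrArg (fun t => (q ≫ (kk f g f' g' w V).left) ≫ t) c1).trans ?_
      refine (Category.assoc _ _ _).symm.trans ?_
      exact congrArg (fun t => t ≫ g') hq3
  · refine (ptLeft_liftPt_snd g' (ξ' ≫ g') ξ' rfl _).trans ?_
    exact hq3.symm

end Groth.Agent.Helper9.StalkBC2
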