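import Mathlib
import Groth.Agent.Helper9.PointComapCounit

/-! For a point `Φ` of `(D, K)` and a continuous flat functor `F : C ⥤ D`: the isomorphism
`sheafFiberComapIso` sends the germ of a section `s` of `G` to the germ of its image under the unit
`G ⟶ F_* F^* G`. -/

set_option autoImplicit false
universe w v

open CategoryTheory CategoryTheory.Limits Opposite

namespace Groth.Agent.Helper9.PointComapUnit

open Groth.Agent.Helper9.PointComapCounit

variable {C D : Type*} [Category C] [Category D]
  {K : GrothendieckTopology D}
  (Φ : GrothendieckTopology.Point.{w} K) (F : C ⥤ D) [RepresentablyFlat F]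
  {J : GrothendieckTopology C}
  (hF : CoverPreserving J K F)
  [InitiallySmall.{w} (F ⋙ Φ.fiber).Elements]
  (A : Type*) [Category.{v} A] [HasColimitsOfSize.{w, w} A]
  [HasProducts.{w} A] [F.IsContinuous J K]
  [(F.sheafPushforwardContinuous A J K).IsRightAdjoint]

theorem hom_app_eq (G : Sheaf J A) :
    (Φ.sheafFiberComapIso F hF A).hom.app G =
      (Φ.comap F hF).sheafFiber.map ((F.sheafAdjunctionContinuous A J K).unit.app G) ≫
        comp Φ F hF A ((F.sheafPullback A J K).obj G).obj := by
  have h1 := hom_app_comp_map_counit Φ F hF A ((F.sheafPullback A J K).obj G)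
  have h2 := (Φ.sheafFiberComapIso F hF A).hom.naturality
    ((F.sheafAdjunctionContinuous A J K).unit.app G)
  have h3 := (F.sheafAdjunctionContinuous A J K).left_triangle_components G
  have h4 : (F.sheafPullback A J K ⋙ Φ.sheafFiber).map
      ((F.sheafAdjunctionContinuous A J K).unit.app G) ≫
      Φ.sheafFiber.map ((F.sheafAdjunctionContinuous A J K).counit.app
        ((F.sheafPullback A J K).obj G)) = 𝟙 _ := by
    rw [Functor.comp_map, ← Functor.map_comp, h3]
    exact CategoryTheory.Functor.map_id _ _
  refine (Category.comp_id _).symm.trans ?_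
  refine (congrArg (fun m => (Φ.sheafFiberComapIso F hF A).hom.app G ≫ m) h4.symm).trans ?_
  refine (Category.assoc _ _ _).symm.trans ?_
  refine (congrArg (fun m => m ≫ Φ.sheafFiber.map ((F.sheafAdjunctionContinuous A J K).counit.app
        ((F.sheafPullback A J K).obj G))) h2.symm).trans ?_
  refine (Category.assoc _ _ _).trans ?_
  exact congrArg (fun m => (Φ.comap F hF).sheafFiber.map
    ((F.sheafAdjunctionContinuous A J K).unit.app G) ≫ m) h1

/-- germs: `sheafFiberComapIso` sends the germ of `s` to the germ of `η(s)` -/
theorem toPresheafFiber_hom_app (G : Sheaf J A) (V : C) (y : (Φ.comap F hF).fiber.obj V) :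
    (Φ.comap F hF).toPresheafFiber V y G.obj ≫ (Φ.sheafFiberComapIso F hF A).hom.app G =
      ((F.sheafAdjunctionContinuous A J K).unit.app G).hom.app (op V) ≫
        Φ.toPresheafFiber (F.obj V) y ((F.sheafPullback A J K).obj G).obj := by
  rw [hom_app_eq]
  have n1 := (Φ.comap F hF).toPresheafFiber_naturality
    ((F.sheafAdjunctionContinuous A J K).unit.app G).hom V y
  have n1' : (Φ.comap F hF).toPresheafFiber V y G.obj ≫
      (Φ.comap F hF).sheafFiber.map ((F.sheafAdjunctionContinuous A J K).unit.app G) =
      ((F.sheafAdjunctionContinuous A J K).unit.app G).hom.app (op V) ≫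
        (Φ.comap F hF).toPresheafFiber V y
          ((F.sheafPushforwardContinuous A J K).obj ((F.sheafPullback A J K).obj G)).obj := n1
  refine (Category.assoc _ _ _).symm.trans ?_
  refine (congrArg (fun m => m ≫ comp Φ F hF A ((F.sheafPullback A J K).obj G).obj) n1').trans ?_
  refine (Category.assoc _ _ _).trans ?_
  exact congrArg (fun m => ((F.sheafAdjunctionContinuous A J K).unit.app G).hom.app (op V) ≫ m)
    (toPresheafFiber_comp Φ F hF A ((F.sheafPullback A J K).obj G).obj V y)

end Groth.Agent.Helper9.PointComapUnit
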