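import Mathlib
import Groth.Prelude.Def_EtBase
import Groth.Agent.Helper9.StalkFinA
import Groth.Agent.Helper9.StalkBC1
import Groth.Agent.Helper9.StalkBC2
import Groth.Agent.Helper9.PointComapUnit
import Groth.Agent.Helper9.EtStalkExact

/-! The base change map on stalks: the commutative square relating it to the comparison maps
`theta`. -/

set_option autoImplicit false
set_option linter.style.haveILetI false
universe u

open CategoryTheory CategoryTheory.Limits Opposite AlgebraicGeometry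

namespace Groth.Agent.Helper9.StalkBC3

open Groth.Agent.Helper9.StalkFinA Groth.Agent.Helper9.StalkBC1 Groth.Agent.Helper9.StalkBC2
  Groth.Agent.Helper9.EtStalkPull Groth.Agent.Helper9.EtStalkExact

attribute [local instance] preservesFilteredColimits_forget_ab

variable {X Y X' Y' : Scheme.{u}} (f : X ⟶ Y) (g : Y' ⟶ Y) (f' : X' ⟶ Y') (g' : X' ⟶ X)
  (w : g' ≫ f = f' ≫ g) (F : EtCoh.Ab X)
  {Ω : Type u} [Field Ω] [IsSepClosed Ω]
  (η' : Spec (CommRingCat.of Ω) ⟶ Y') (ξ' : Spec (CommRingCat.of Ω) ⟶ X') (hξ' : ξ' ≫ f' = η')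

/-- the stalk of the base change map, up to the identification of `(g^* -)_{η'}` -/
noncomputable def M :
    (comapPt g η').presheafFiber.obj ((EtCoh.push f).obj F).obj ⟶
      (Scheme.pointSmallEtale η').presheafFiber.obj
        ((EtCoh.push f').obj ((EtCoh.pull g').obj F)).obj :=
  (comapPt g η').presheafFiber.map (alpha f g f' g' w F).hom ≫
    Groth.Agent.Helper9.PointComapCounit.comp (Scheme.pointSmallEtale η') (EtCoh.bc g)
      (EtCoh.coverPreserving_bc g) AddCommGrpCat.{u + 1}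
      ((EtCoh.push f').obj ((EtCoh.pull g').obj F)).obj

/-- the identification `F_{ξ' ∘ bc g'} ≅ (g'^* F)_{ξ'}` -/
noncomputable def psiIso' :
    (comapPt g' ξ').presheafFiber.obj F.obj ≅
      (Scheme.pointSmallEtale ξ').presheafFiber.obj ((EtCoh.pull g').obj F).obj :=
  haveI : ((EtCoh.bc g').sheafPushforwardContinuous AddCommGrpCat.{u + 1}
      X.smallEtaleTopology X'.smallEtaleTopology).IsRightAdjoint :=
    (EtCoh.pullPushAdj g').isRightAdjoint
  ((Scheme.pointSmallEtale ξ').sheafFiberComapIso (EtCoh.bc g') (EtCoh.coverPreserving_bc g')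
    AddCommGrpCat.{u + 1}).app F

set_option backward.isDefEq.respectTransparency.types false in
theorem square :
    E g η' ((EtCoh.push f).obj F).obj ≫ M f g f' g' w F η' ≫
        theta f' η' ξ' hξ' ((EtCoh.pull g').obj F).obj =
      theta f (η' ≫ g) (ξ' ≫ g') (comp_eq f g f' g' w η' ξ' hξ') F.obj ≫ E g' ξ' F.obj ≫
        (psiIso' g' F ξ').hom := by
  apply (Scheme.pointSmallEtale (η' ≫ g)).presheafFiber_hom_ext
  intro V y
  haveI : ((EtCoh.bc g').sheafPushforwardContinuous AddCommGrpCat.{u + 1}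
      X.smallEtaleTopology X'.smallEtaleTopology).IsRightAdjoint :=
    (EtCoh.pullPushAdj g').isRightAdjoint
  -- right hand side
  have r1 := toPresheafFiber_theta_assoc f (η' ≫ g) (ξ' ≫ g') (comp_eq f g f' g' w η' ξ' hξ')
    F.obj V y (E g' ξ' F.obj ≫ (psiIso' g' F ξ').hom)
  have r2 := toPresheafFiber_E_assoc g' ξ' F.obj ((EtCoh.bc f).obj V)
    (liftPt f (η' ≫ g) (ξ' ≫ g') (comp_eq f g f' g' w η' ξ' hξ') y) (psiIso' g' F ξ').hom
  have r3 := Groth.Agent.Helper9.PointComapUnit.toPresheafFiber_hom_app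
    (Scheme.pointSmallEtale ξ') (EtCoh.bc g') (EtCoh.coverPreserving_bc g') AddCommGrpCat.{u + 1} F
    ((EtCoh.bc f).obj V)
    (liftPt g' (ξ' ≫ g') ξ' rfl (liftPt f (η' ≫ g) (ξ' ≫ g') (comp_eq f g f' g' w η' ξ' hξ') y))
  refine Eq.trans ?_ (r1.trans (r2.trans r3)).symm
  -- left hand side
  have l1 := toPresheafFiber_E_assoc g η' ((EtCoh.push f).obj F).obj V y
    (M f g f' g' w F η' ≫ theta f' η' ξ' hξ' ((EtCoh.pull g').obj F).obj)
  refine l1.trans ?_
  obtain ⟨y', hy'⟩ : ∃ y', y' = liftPt g (η' ≫ g) η' rfl y := ⟨_, rfl⟩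
  rw [← hy']
  have l2 : (comapPt g η').toPresheafFiber V y' ((EtCoh.push f).obj F).obj ≫
      M f g f' g' w F η' =
      (alpha f g f' g' w F).hom.app (op V) ≫
        (Scheme.pointSmallEtale η').toPresheafFiber ((EtCoh.bc g).obj V) y'
          ((EtCoh.push f').obj ((EtCoh.pull g').obj F)).obj := by
    unfold M
    rw [GrothendieckTopology.Point.toPresheafFiber_naturality_assoc]
    congr 1
    exact Groth.Agent.Helper9.PointComapCounit.toPresheafFiber_comp (Scheme.pointSmallEtale η')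
      (EtCoh.bc g) (EtCoh.coverPreserving_bc g) AddCommGrpCat.{u + 1}
      ((EtCoh.push f').obj ((EtCoh.pull g').obj F)).obj V y'
  have l4 := toPresheafFiber_theta f' η' ξ' hξ' ((EtCoh.pull g').obj F).obj
    ((EtCoh.bc g).obj V) y'
  have l6 := (Scheme.pointSmallEtale ξ').toPresheafFiber_w (kk f g f' g' w V)
    (liftPt f' η' ξ' hξ' y') ((EtCoh.pull g').obj F).obj
  refine (Category.assoc _ _ _).symm.trans ?_
  rw [l2]
  refine (Category.assoc _ _ _).trans ?_
  refine (congrArg (fun t => (alpha f g f' g' w F).hom.app (op V) ≫ t) l4).trans ?_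
  rw [alpha_app]
  refine (Category.assoc _ _ _).trans ?_
  refine (congrArg (fun t => ((EtCoh.pullPushAdj g').unit.app F).hom.app
    (op ((EtCoh.bc f).obj V)) ≫ t) l6).trans ?_
  rw [hy', ← liftPt_liftPt f g f' g' w η' ξ' hξ' y]

end Groth.Agent.Helper9.StalkBC3
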