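import Mathlib
import Groth.Agent.Helper3.QFResFin

/-! Geometric points (over an algebraically closed field) lift through quasi-finite points. -/

set_option autoImplicit false
set_option linter.style.haveILetI false
universe u

open CategoryTheory CategoryTheory.Limits AlgebraicGeometry

namespace Groth.Agent.Helper9.GeomPtFinite

set_option backward.isDefEq.respectTransparency.types false in
theorem exists_fac_of_quasiFiniteAt {X S : Scheme.{u}} (f : X ⟶ S) {Ω : Type u} [Field Ω]
    [IsAlgClosed Ω] (s : Spec (.of Ω) ⟶ S) (x : X) (hq : f.QuasiFiniteAt x)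
    (hx : f x = s default) :
    ∃ l : Spec (.of Ω) ⟶ X, l ≫ f = s ∧ l default = x := by
  obtain ⟨⟨s, a⟩, rfl⟩ := (Scheme.SpecToEquivOfField Ω S).symm.surjective s
  obtain rfl : f x = s := by simp [hx, Scheme.SpecToEquivOfField]
  have hfin := Groth.Agent.Helper3.QFResFin.finite_residueFieldMap f x hq
  let m := (f.residueFieldMap x).hom
  dsimp at m
  algebraize [m, a.hom]
  haveI : Module.Finite (S.residueField (f x)) (X.residueField x) := hfin
  haveI : Algebra.IsAlgebraic (S.residueField (f x)) (X.residueField x) :=
    Algebra.IsAlgebraic.of_finite _ _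
  let b : X.residueField x →ₐ[S.residueField (f x)] Ω := IsAlgClosed.lift
  have : f.residueFieldMap x ≫ CommRingCat.ofHom b.toRingHom = a := by
    ext1; exact b.comp_algebraMap
  refine ⟨Spec.map (CommRingCat.ofHom b.toRingHom) ≫ X.fromSpecResidueField x, ?_, ?_⟩
  · simp [Scheme.SpecToEquivOfField, ← this]
    rfl
  · dsimp
    apply Scheme.fromSpecResidueField_apply

end Groth.Agent.Helper9.GeomPtFinite
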