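import Mathlib
import Groth.Agent.Helper9.PropAQF3
import Groth.Agent.Helper9.GeomPtFinite

/-! Finiteness of the set of geometric points over a geometric point, for a finite morphism. -/

set_option autoImplicit false
set_option linter.style.haveILetI false
universe u

open CategoryTheory CategoryTheory.Limits AlgebraicGeometry

namespace Groth.Agent.Helper9.GeomFin

open Groth.Agent.Helper9.PropAQF2 Groth.Agent.Helper9.PropAQF3

theorem default_eq {K : Type u} [Field K] :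
    (default : Spec (CommRingCat.of K)) = IsLocalRing.closedPoint K :=
  spec_field_eq _

theorem apply_closedPoint {K : Type u} [Field K] {Z : Scheme.{u}}
    (τ : Spec (CommRingCat.of K) ⟶ Z) : τ (IsLocalRing.closedPoint K) = τ default := by
  rw [default_eq]

theorem finite_lifts {X Y : Scheme.{u}} (f : X ⟶ Y) [IsFinite f] {Ω : Type u} [Field Ω]
    [IsSepClosed Ω] (η : Spec (CommRingCat.of Ω) ⟶ Y) :
    Finite {ξ : Spec (CommRingCat.of Ω) ⟶ X // ξ ≫ f = η} := by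
  classical
  set y := η default with hy
  have hfin : (f ⁻¹' {y}).Finite := f.finite_preimage_singleton y
  haveI : Finite ↥(f ⁻¹' {y}) := hfin.to_subtype
  obtain ⟨n, ⟨e⟩⟩ := Finite.exists_equiv_fin ↥(f ⁻¹' {y})
  let x : Fin n → X := fun k => (e.symm k).1
  haveI : LocallyOfFiniteType (𝟙 X ≫ f) := inferInstance
  haveI : LocallyQuasiFinite (𝟙 X ≫ f) := inferInstance
  have hs : ∀ k, (𝟙 X ≫ f) (x k) = y := fun k => (e.symm k).2
  obtain ⟨V, v, pt, hv, hpt, m, W, hWcl, h, hh, hgeom, huq⟩ :=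
    main_geom f (𝟙 X) y x hs (fun k => (𝟙 X ≫ f).quasiFiniteAt _)
  haveI := hv
  obtain ⟨η', hη', hη'pt⟩ := Scheme.exists_fac_of_etale_of_isSepClosed v η pt hpt
  let Ξ := {ξ : Spec (CommRingCat.of Ω) ⟶ X // ξ ≫ f = η}
  let τ : Ξ → (Spec (CommRingCat.of Ω) ⟶ pullback (𝟙 X ≫ f) v) := fun ξ =>
    pullback.lift ξ.1 η' (by rw [Category.id_comp, ξ.2, hη'])
  have hτ1 : ∀ ξ, τ ξ ≫ pullback.fst (𝟙 X ≫ f) v = ξ.1 := fun ξ => pullback.lift_fst _ _ _
  have hτ2 : ∀ ξ, τ ξ ≫ pullback.snd (𝟙 X ≫ f) v = η' := fun ξ => pullback.lift_snd _ _ _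
  have hpt1 : ∀ ξ : Ξ, pullback.snd (𝟙 X ≫ f) v (τ ξ (IsLocalRing.closedPoint Ω)) = pt := by
    intro ξ
    have e1 : (τ ξ ≫ pullback.snd (𝟙 X ≫ f) v) default = pt := by rw [hτ2, hη'pt]
    exact (congrArg (pullback.snd (𝟙 X ≫ f) v) (apply_closedPoint (τ ξ))).trans e1
  have hfy : ∀ ξ : Ξ, f (ξ.1 default) = y := by
    intro ξ
    rw [← Scheme.Hom.comp_apply, ξ.2]
  let kk : Ξ → Fin n := fun ξ => e ⟨ξ.1 default, hfy ξ⟩
  have hpt2 : ∀ ξ : Ξ, pullback.fst (𝟙 X ≫ f) v (τ ξ (IsLocalRing.closedPoint Ω)) = x (kk ξ) := by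
    intro ξ
    have e1 : (τ ξ ≫ pullback.fst (𝟙 X ≫ f) v) default = x (kk ξ) := by
      rw [hτ1]
      simp [x, kk]
    exact (congrArg (pullback.fst (𝟙 X ≫ f) v) (apply_closedPoint (τ ξ))).trans e1
  have hex : ∀ ξ : Ξ, ∃ (j : Fin (m (kk ξ)))
      (ζ : Spec (CommRingCat.of Ω) ⟶ ((W (kk ξ) j : (pullback f v).Opens) : Scheme.{u})),
      ζ ≫ (W (kk ξ) j).ι = τ ξ ≫ liftMap f (𝟙 X) v ∧
        ζ ≫ h (kk ξ) j = τ ξ ≫ pullback.fst (𝟙 X ≫ f) v :=
    fun ξ => hgeom (kk ξ) Ω (τ ξ) (hpt1 ξ) (hpt2 ξ)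
  choose jj ζ hζ1 hζ2 using hex
  let Φ : Ξ → Σ k : Fin n, Fin (m k) := fun ξ => ⟨kk ξ, jj ξ⟩
  have hsnd : ∀ ξ : Ξ, ζ ξ ≫ (W (kk ξ) (jj ξ)).ι ≫ pullback.snd f v = η' := by
    intro ξ
    rw [← Category.assoc, hζ1, Category.assoc, liftMap_snd, hτ2]
  have hinj : Function.Injective Φ := by
    intro ξ ξ' hΦ
    have key : ∀ (k : Fin n) (j : Fin (m k))
        (z z' : Spec (CommRingCat.of Ω) ⟶ ((W k j : (pullback f v).Opens) : Scheme.{u})),
        z ≫ (W k j).ι ≫ pullback.snd f v = η' → z' ≫ (W k j).ι ≫ pullback.snd f v = η' →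
        z = z' := by
      intro k j z z' hz hz'
      refine huq k j Ω z z' (hz.trans hz'.symm) ?_
      rw [hz, apply_closedPoint, hη'pt]
    have h1 : ξ.1 = (ζ ξ ≫ (W (kk ξ) (jj ξ)).ι) ≫ pullback.fst f v := by
      rw [hζ1, Category.assoc, liftMap_fst, ← Category.assoc, hτ1, Category.comp_id]
    have h2 : ξ'.1 = (ζ ξ' ≫ (W (kk ξ') (jj ξ')).ι) ≫ pullback.fst f v := by
      rw [hζ1, Category.assoc, liftMap_fst, ← Category.assoc, hτ1, Category.comp_id]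
    have h3 : ∀ (a b : Σ k : Fin n, Fin (m k)) (hab : a = b)
        (z : Spec (CommRingCat.of Ω) ⟶ ((W a.1 a.2 : (pullback f v).Opens) : Scheme.{u}))
        (z' : Spec (CommRingCat.of Ω) ⟶ ((W b.1 b.2 : (pullback f v).Opens) : Scheme.{u})),
        z ≫ (W a.1 a.2).ι ≫ pullback.snd f v = η' → z' ≫ (W b.1 b.2).ι ≫ pullback.snd f v = η' →
        z ≫ (W a.1 a.2).ι = z' ≫ (W b.1 b.2).ι := by
      intro a b hab z z' hz hz'
      subst hab
      rw [key a.1 a.2 z z' hz hz']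
    apply Subtype.ext
    rw [h1, h2, h3 (Φ ξ) (Φ ξ') hΦ (ζ ξ) (ζ ξ') (hsnd ξ) (hsnd ξ')]
  exact Finite.of_injective Φ hinj

end Groth.Agent.Helper9.GeomFin
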