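import Mathlib
import Groth.Agent.Helper9.GeomFin
import Groth.Agent.Helper9.LocalBFin

/-! Separation of the geometric points over a geometric point by a disjoint open cover after an
étale localisation of the base, for a finite morphism, with sections to prescribed étale
neighbourhoods. -/

set_option autoImplicit false
set_option linter.style.haveILetI false
universe u

open CategoryTheory CategoryTheory.Limits AlgebraicGeometry

namespace Groth.Agent.Helper9.GeomSep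

open Groth.Agent.Helper9.PropAQF2 Groth.Agent.Helper9.PropAQF3 Groth.Agent.Helper9.GeomFin

theorem range_spec_field {K : Type u} [Field K] {Z : Scheme.{u}}
    (τ : Spec (CommRingCat.of K) ⟶ Z) : Set.range τ = {τ default} := by
  ext z
  constructor
  · rintro ⟨t, rfl⟩
    haveI : Subsingleton ↥(Spec (CommRingCat.of K)) :=
      inferInstanceAs (Subsingleton (PrimeSpectrum K))
    rw [Subsingleton.elim t default]
    rfl
  · rintro rfl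
    exact ⟨default, rfl⟩

/-- a field-valued point whose image lies in an open factors through it -/
theorem exists_lift_open {K : Type u} [Field K] {Z : Scheme.{u}} (O : Z.Opens)
    (τ : Spec (CommRingCat.of K) ⟶ Z) (h : τ default ∈ O) :
    ∃ ζ : Spec (CommRingCat.of K) ⟶ (O : Scheme.{u}), ζ ≫ O.ι = τ := by
  have hr : Set.range τ ⊆ Set.range O.ι := by
    rw [range_spec_field, Scheme.Opens.range_ι]
    rintro _ rfl
    exact h
  exact ⟨IsOpenImmersion.lift O.ι τ hr, IsOpenImmersion.lift_fac _ _ _⟩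

theorem isClosed_range_sigmaι {σ : Type u} (U : σ → Scheme.{u}) (a : σ) :
    IsClosed (Set.range (Sigma.ι U a)) := by
  classical
  have hcompl : (Set.range (Sigma.ι U a))ᶜ = ⋃ b : {b : σ // b ≠ a}, Set.range (Sigma.ι U b.1) := by
    ext z
    constructor
    · intro hz
      have h1 : z ∈ (⊤ : (∐ U).Opens) := trivial
      rw [← (sigmaOpenCover U).iSup_opensRange] at h1
      obtain ⟨b, hb⟩ := TopologicalSpace.Opens.mem_iSup.1 h1
      refine Set.mem_iUnion.2 ⟨⟨b, ?_⟩, hb⟩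
      rintro rfl
      exact hz hb
    · intro hz
      obtain ⟨⟨b, hb⟩, hzb⟩ := Set.mem_iUnion.1 hz
      intro hza
      exact (disjoint_opensRange_sigmaι U b a hb).le_bot ⟨hzb, hza⟩
  rw [← isOpen_compl_iff, hcompl]
  exact isOpen_iUnion fun b => (Sigma.ι U b.1).opensRange.2


set_option maxHeartbeats 1600000 in
theorem exists_sep {X Y : Scheme.{u}} (f : X ⟶ Y) [IsFinite f] {Ω : Type u} [Field Ω]
    [IsAlgClosed Ω] (η : Spec (CommRingCat.of Ω) ⟶ Y)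
    (U : {ξ : Spec (CommRingCat.of Ω) ⟶ X // ξ ≫ f = η} → Scheme.{u})
    (g : ∀ ξ, U ξ ⟶ X) (hg : ∀ ξ, Etale (g ξ))
    (l : ∀ ξ, Spec (CommRingCat.of Ω) ⟶ U ξ) (hl : ∀ ξ, l ξ ≫ g ξ = ξ.1) :
    ∃ (V : Scheme.{u}) (v : V ⟶ Y) (_ : Etale v) (η' : Spec (CommRingCat.of Ω) ⟶ V)
      (hη' : η' ≫ v = η)
      (O : {ξ : Spec (CommRingCat.of Ω) ⟶ X // ξ ≫ f = η} → (pullback f v).Opens),
      (∀ a b, a ≠ b → Disjoint (O a) (O b)) ∧ (⨆ a, O a) = ⊤ ∧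
      ∃ (h : ∀ ξ, ((O ξ : (pullback f v).Opens) : Scheme.{u}) ⟶ U ξ),
        (∀ ξ, h ξ ≫ g ξ = (O ξ).ι ≫ pullback.fst f v) ∧
        ∀ ξ, ∃ ζ : Spec (CommRingCat.of Ω) ⟶ ((O ξ : (pullback f v).Opens) : Scheme.{u}),
          ζ ≫ (O ξ).ι = pullback.lift ξ.1 η' (by rw [ξ.2, hη']) ∧ ζ ≫ h ξ = l ξ := by
  classical
  let Ξ := {ξ : Spec (CommRingCat.of Ω) ⟶ X // ξ ≫ f = η}
  haveI : Finite Ξ := finite_lifts f η
  obtain ⟨n, ⟨e⟩⟩ := Finite.exists_equiv_fin Ξ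
  let gc : (∐ U) ⟶ X := Sigma.desc g
  haveI : IsZariskiLocalAtSource @Etale.{u} :=
    HasRingHomProperty.instIsZariskiLocalAtSource (Q := RingHom.Etale)
  haveI : Etale gc := IsZariskiLocalAtSource.sigmaDesc hg
  have hιgc : ∀ ξ, Sigma.ι U ξ ≫ gc = g ξ := fun ξ => Sigma.ι_desc g ξ
  let lc : Ξ → (Spec (CommRingCat.of Ω) ⟶ ∐ U) := fun ξ => l ξ ≫ Sigma.ι U ξ
  have hlc : ∀ ξ : Ξ, lc ξ ≫ gc = ξ.1 := by
    intro ξ
    rw [Category.assoc, hιgc, hl]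
  let pts : Ξ → ↥(∐ U) := fun ξ => lc ξ default
  let x : Fin n → ↥(∐ U) := fun k => pts (e.symm k)
  set y := η default with hy
  haveI : LocallyQuasiFinite gc := Groth.Agent.Helper4.SchLQF.locallyQuasiFinite_of_etale gc
  haveI : LocallyQuasiFinite (gc ≫ f) := inferInstance
  haveI : LocallyOfFiniteType (gc ≫ f) := inferInstance
  have hpts : ∀ ξ : Ξ, (gc ≫ f) (pts ξ) = y := by
    intro ξ
    have e1 : (lc ξ ≫ gc ≫ f) default = y := by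
      rw [← Category.assoc, hlc, ξ.2]
    exact e1
  obtain ⟨V, v, pt, hv, hpt, m, W, hWcl, h, hh, hgeom, huq⟩ :=
    main_geom f gc y x (fun k => hpts _) (fun k => (gc ≫ f).quasiFiniteAt _)
  haveI := hv
  obtain ⟨η', hη', hη'pt⟩ := Scheme.exists_fac_of_etale_of_isSepClosed v η pt hpt
  -- the points of the big pullback
  let τ : Ξ → (Spec (CommRingCat.of Ω) ⟶ pullback (gc ≫ f) v) := fun ξ =>
    pullback.lift (lc ξ) η' (by rw [← Category.assoc, hlc, ξ.2, hη'])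
  have hτ1 : ∀ ξ, τ ξ ≫ pullback.fst (gc ≫ f) v = lc ξ := fun ξ => pullback.lift_fst _ _ _
  have hτ2 : ∀ ξ, τ ξ ≫ pullback.snd (gc ≫ f) v = η' := fun ξ => pullback.lift_snd _ _ _
  let σ : Ξ → (Spec (CommRingCat.of Ω) ⟶ pullback f v) := fun ξ =>
    pullback.lift ξ.1 η' (by rw [ξ.2, hη'])
  have hσ1 : ∀ ξ, σ ξ ≫ pullback.fst f v = ξ.1 := fun ξ => pullback.lift_fst _ _ _
  have hσ2 : ∀ ξ, σ ξ ≫ pullback.snd f v = η' := fun ξ => pullback.lift_snd _ _ _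
  have hτσ : ∀ ξ, τ ξ ≫ liftMap f gc v = σ ξ := by
    intro ξ
    apply pullback.hom_ext
    · rw [Category.assoc, liftMap_fst, ← Category.assoc, hτ1, hlc, hσ1]
    · rw [Category.assoc, liftMap_snd, hτ2, hσ2]
  have hσinj : ∀ ξ ξ' : Ξ, σ ξ = σ ξ' → ξ = ξ' := by
    intro ξ ξ' hσσ
    apply Subtype.ext
    rw [← hσ1 ξ, ← hσ1 ξ', hσσ]
  have hpt1 : ∀ ξ : Ξ, pullback.snd (gc ≫ f) v (τ ξ (IsLocalRing.closedPoint Ω)) = pt := by
    intro ξ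
    have e1 : (τ ξ ≫ pullback.snd (gc ≫ f) v) default = pt := by rw [hτ2, hη'pt]
    exact (congrArg (pullback.snd (gc ≫ f) v) (apply_closedPoint (τ ξ))).trans e1
  have hpt2 : ∀ ξ : Ξ,
      pullback.fst (gc ≫ f) v (τ ξ (IsLocalRing.closedPoint Ω)) = x (e ξ) := by
    intro ξ
    have e1 : (τ ξ ≫ pullback.fst (gc ≫ f) v) default = x (e ξ) := by
      rw [hτ1]
      simp [x, pts]
    exact (congrArg (pullback.fst (gc ≫ f) v) (apply_closedPoint (τ ξ))).trans e1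
  have hex : ∀ ξ : Ξ, ∃ (j : Fin (m (e ξ)))
      (ζ : Spec (CommRingCat.of Ω) ⟶ ((W (e ξ) j : (pullback f v).Opens) : Scheme.{u})),
      ζ ≫ (W (e ξ) j).ι = τ ξ ≫ liftMap f gc v ∧
        ζ ≫ h (e ξ) j = τ ξ ≫ pullback.fst (gc ≫ f) v :=
    fun ξ => hgeom (e ξ) Ω (τ ξ) (hpt1 ξ) (hpt2 ξ)
  choose jj ζ hζ1 hζ2 using hex
  let Wk : Ξ → (pullback f v).Opens := fun ξ => W (e ξ) (jj ξ)
  let hk : ∀ ξ : Ξ, ((Wk ξ : (pullback f v).Opens) : Scheme.{u}) ⟶ ∐ U := fun ξ => h (e ξ) (jj ξ)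
  have hhk : ∀ ξ, hk ξ ≫ gc = (Wk ξ).ι ≫ pullback.fst f v := fun ξ => hh _ _
  have hζσ : ∀ ξ, ζ ξ ≫ (Wk ξ).ι = σ ξ := fun ξ => (hζ1 ξ).trans (hτσ ξ)
  have hζlc : ∀ ξ, ζ ξ ≫ hk ξ = lc ξ := fun ξ => (hζ2 ξ).trans (hτ1 ξ)
  have hσmem : ∀ ξ, σ ξ default ∈ Wk ξ := by
    intro ξ
    have e1 : (ζ ξ ≫ (Wk ξ).ι) default = σ ξ default := by rw [hζσ]
    rw [← e1]
    exact (ζ ξ default).2
  -- separation
  have hsep : ∀ ξ ξ' : Ξ, σ ξ' default ∈ Wk ξ → ξ' = ξ := by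
    intro ξ ξ' hmem
    obtain ⟨z', hz'⟩ := exists_lift_open (Wk ξ) (σ ξ') hmem
    have e1 : ζ ξ ≫ (Wk ξ).ι ≫ pullback.snd f v = z' ≫ (Wk ξ).ι ≫ pullback.snd f v := by
      rw [← Category.assoc, hζσ, hσ2, ← Category.assoc, hz', hσ2]
    have e2 : (ζ ξ ≫ (Wk ξ).ι ≫ pullback.snd f v) (IsLocalRing.closedPoint Ω) = pt := by
      rw [← Category.assoc, hζσ, hσ2, apply_closedPoint, hη'pt]
    have e3 := huq (e ξ) (jj ξ) Ω (ζ ξ) z' e1 e2
    apply hσinj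
    rw [← hz', ← e3, hζσ]
  -- the clopen pieces
  let A : ∀ ξ : Ξ, Set ↥((Wk ξ : (pullback f v).Opens) : Scheme.{u}) :=
    fun ξ => hk ξ ⁻¹' Set.range (Sigma.ι U ξ)
  have hAclopen : ∀ ξ, IsClopen (A ξ) := fun ξ =>
    ⟨(isClosed_range_sigmaι U ξ).preimage (hk ξ).continuous,
      (Sigma.ι U ξ).opensRange.2.preimage (hk ξ).continuous⟩
  let B : Ξ → Set ↥(pullback f v) := fun ξ => (Wk ξ).ι '' A ξ
  have hBclopen : ∀ ξ, IsClopen (B ξ) := by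
    intro ξ
    refine ⟨?_, (Wk ξ).ι.isOpenEmbedding.isOpenMap _ (hAclopen ξ).2⟩
    have hce : Topology.IsClosedEmbedding (Wk ξ).ι := by
      refine ⟨(Wk ξ).ι.isOpenEmbedding.isEmbedding, ?_⟩
      rw [Scheme.Opens.range_ι]
      exact hWcl _ _
    exact hce.isClosedMap _ (hAclopen ξ).1
  have hBW : ∀ ξ, B ξ ⊆ (Wk ξ : Set ↥(pullback f v)) := by
    rintro ξ _ ⟨a, -, rfl⟩
    exact a.2
  let S : Ξ → Set ↥(pullback f v) := fun ξ =>
    B ξ ∩ ⋂ ξ' : {ξ' : Ξ // ξ' ≠ ξ}, ((Wk ξ'.1 : Set ↥(pullback f v)))ᶜ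
  have hSclopen : ∀ ξ, IsClopen (S ξ) := by
    intro ξ
    refine (hBclopen ξ).inter ?_
    exact isClopen_iInter_of_finite fun ξ' => ⟨(Wk ξ'.1).2.isClosed_compl, (hWcl _ _).isOpen_compl⟩
  have hSW : ∀ ξ, S ξ ⊆ (Wk ξ : Set ↥(pullback f v)) := fun ξ z hz => hBW ξ hz.1
  have hSdisj : ∀ a b : Ξ, a ≠ b → Disjoint (S a) (S b) := by
    intro a b hab
    rw [Set.disjoint_left]
    intro z hza hzb
    have h1 : z ∈ (Wk a : Set ↥(pullback f v)) := hSW a hza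
    have h2 := Set.mem_iInter.1 hzb.2 ⟨a, hab⟩
    exact h2 h1
  have hσS : ∀ ξ, σ ξ default ∈ S ξ := by
    intro ξ
    refine ⟨⟨ζ ξ default, ?_, ?_⟩, ?_⟩
    · show hk ξ (ζ ξ default) ∈ Set.range (Sigma.ι U ξ)
      have e1 : (ζ ξ ≫ hk ξ) default = (l ξ ≫ Sigma.ι U ξ) default := by rw [hζlc]
      exact ⟨l ξ default, e1.symm⟩
    · have e1 : (ζ ξ ≫ (Wk ξ).ι) default = σ ξ default := by rw [hζσ]
      exact e1
    · refine Set.mem_iInter.2 fun ξ' hmem => ?_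
      exact ξ'.2 (hsep ξ'.1 ξ hmem).symm
  -- the bad locus
  have hUclopen : IsClopen (⋃ ξ, S ξ) := isClopen_iUnion_of_finite hSclopen
  let Z : Set V := pullback.snd f v '' (⋃ ξ, S ξ)ᶜ
  have hZcl : IsClosed Z := (pullback.snd f v).isClosedMap _ hUclopen.2.isClosed_compl
  have hptZ : pt ∉ Z := by
    rintro ⟨z, hzR, hz⟩
    apply hzR
    haveI : LocallyQuasiFinite (pullback.snd f v) := inferInstance
    obtain ⟨s, hs1, hs2⟩ := GeomPtFinite.exists_fac_of_quasiFiniteAt (pullback.snd f v) η' z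
      ((pullback.snd f v).quasiFiniteAt z) (hz.trans hη'pt.symm)
    let ξ : Ξ := ⟨s ≫ pullback.fst f v, by
      rw [Category.assoc, pullback.condition, ← Category.assoc, hs1, hη']⟩
    have e1 : s = σ ξ := by
      apply pullback.hom_ext
      · rw [hσ1]
      · rw [hσ2, hs1]
    refine Set.mem_iUnion.2 ⟨ξ, ?_⟩
    rw [← hs2, e1]
    exact hσS ξ
  let V₁ : V.Opens := ⟨Zᶜ, hZcl.isOpen_compl⟩
  obtain ⟨κ, hκo, hκ1, hκ2, hκr, -⟩ := Groth.Agent.Helper3.EtLocalShrink.restrict f v V₁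
  haveI := hκo
  have hκmem : ∀ w, κ w ∈ ⋃ ξ, S ξ := by
    intro w
    by_contra hcon
    have h4 : pullback.snd f v (κ w) ∈ Z := ⟨κ w, hcon, rfl⟩
    have h3 : pullback.snd f v (κ w) ∈ V₁ := by
      have e1 : (κ ≫ pullback.snd f v) w = (pullback.snd f (V₁.ι ≫ v) ≫ V₁.ι) w := by rw [hκ2]
      have e2 : pullback.snd f v (κ w) = V₁.ι (pullback.snd f (V₁.ι ≫ v) w) := e1
      rw [e2]
      exact (pullback.snd f (V₁.ι ≫ v) w).2
    exact h3 h4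
  obtain ⟨η₁, hη₁⟩ := exists_lift_open V₁ η' (by rw [hη'pt]; exact hptZ)
  have hη₁v : η₁ ≫ V₁.ι ≫ v = η := by rw [← Category.assoc, hη₁, hη']
  let O : Ξ → (pullback f (V₁.ι ≫ v)).Opens :=
    fun ξ => ⟨κ ⁻¹' S ξ, (hSclopen ξ).2.preimage κ.continuous⟩
  have hOdisj : ∀ a b, a ≠ b → Disjoint (O a) (O b) := by
    intro a b hab
    rw [disjoint_iff]
    ext z
    simp only [TopologicalSpace.Opens.coe_inf, TopologicalSpace.Opens.coe_bot, Set.mem_inter_iff,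
      Set.mem_empty_iff_false, iff_false, not_and]
    intro hza hzb
    exact Set.disjoint_left.1 (hSdisj a b hab) hza hzb
  have hOcov : ⨆ a, O a = ⊤ := by
    rw [eq_top_iff]
    intro z _
    obtain ⟨a, ha⟩ := Set.mem_iUnion.1 (hκmem z)
    exact TopologicalSpace.Opens.mem_iSup.2 ⟨a, ha⟩
  -- the morphisms
  have hr1 : ∀ ξ, Set.range ((O ξ).ι ≫ κ) ⊆ Set.range (Wk ξ).ι := by
    intro ξ
    rintro _ ⟨z, rfl⟩
    rw [Scheme.Opens.range_ι]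
    exact hSW ξ z.2
  let q : ∀ ξ, ((O ξ : (pullback f (V₁.ι ≫ v)).Opens) : Scheme.{u}) ⟶
      ((Wk ξ : (pullback f v).Opens) : Scheme.{u}) :=
    fun ξ => IsOpenImmersion.lift (Wk ξ).ι ((O ξ).ι ≫ κ) (hr1 ξ)
  have hq : ∀ ξ, q ξ ≫ (Wk ξ).ι = (O ξ).ι ≫ κ := fun ξ => IsOpenImmersion.lift_fac _ _ _
  have hr2 : ∀ ξ, Set.range (q ξ ≫ hk ξ) ⊆ Set.range (Sigma.ι U ξ) := by
    intro ξ
    rintro _ ⟨z, rfl⟩
    have hz : κ ((O ξ).ι z) ∈ S ξ := z.2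
    obtain ⟨⟨a, ha, haz⟩, -⟩ := hz
    have e1 : (q ξ ≫ (Wk ξ).ι) z = ((O ξ).ι ≫ κ) z := by rw [hq]
    have e2 : (Wk ξ).ι (q ξ z) = (Wk ξ).ι a := e1.trans haz.symm
    have e3 : q ξ z = a := (Wk ξ).ι.isOpenEmbedding.injective e2
    show hk ξ (q ξ z) ∈ _
    rw [e3]
    exact ha
  let hO : ∀ ξ, ((O ξ : (pullback f (V₁.ι ≫ v)).Opens) : Scheme.{u}) ⟶ U ξ :=
    fun ξ => IsOpenImmersion.lift (Sigma.ι U ξ) (q ξ ≫ hk ξ) (hr2 ξ)
  have hhO : ∀ ξ, hO ξ ≫ Sigma.ι U ξ = q ξ ≫ hk ξ := fun ξ => IsOpenImmersion.lift_fac _ _ _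
  refine ⟨V₁, V₁.ι ≫ v, inferInstance, η₁, hη₁v, O, hOdisj, hOcov, hO, ?_, ?_⟩
  · intro ξ
    rw [← hιgc, ← Category.assoc, hhO, Category.assoc, hhk, ← Category.assoc, hq, Category.assoc,
      hκ1]
  · intro ξ
    have e0 : pullback.lift ξ.1 η₁ (by rw [ξ.2, hη₁v]) ≫ κ = σ ξ := by
      apply pullback.hom_ext
      · rw [Category.assoc, hκ1, pullback.lift_fst, hσ1]
      · rw [Category.assoc, hκ2, ← Category.assoc, pullback.lift_snd, hη₁, hσ2]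
    have hmem : (pullback.lift ξ.1 η₁ (by rw [ξ.2, hη₁v]) :
        Spec (CommRingCat.of Ω) ⟶ pullback f (V₁.ι ≫ v)) default ∈ O ξ := by
      show κ _ ∈ S ξ
      have e1 : (pullback.lift ξ.1 η₁ (by rw [ξ.2, hη₁v]) ≫ κ) default = σ ξ default := by
        rw [e0]
      exact e1 ▸ hσS ξ
    obtain ⟨z, hz⟩ := exists_lift_open (O ξ) _ hmem
    refine ⟨z, hz, ?_⟩
    rw [← cancel_mono (Sigma.ι U ξ), Category.assoc, hhO, ← Category.assoc]
    have e2 : z ≫ q ξ = ζ ξ := by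
      rw [← cancel_mono (Wk ξ).ι, Category.assoc, hq, ← Category.assoc, hz, e0, hζσ]
    rw [e2, hζlc]

end Groth.Agent.Helper9.GeomSep
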