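import Mathlib
import Groth.Prelude.Def_EtBase
import Groth.Agent.Helper9.StalkFinA
import Groth.Agent.Helper9.GeomSep
import Groth.Agent.Helper9.EtDisjGlue

/-! Separation of the geometric points over `η` of a finite morphism, in terms of the small
étale sites. -/

set_option autoImplicit false
set_option linter.style.haveILetI false
universe u

open CategoryTheory CategoryTheory.Limits Opposite AlgebraicGeometry

namespace Groth.Agent.Helper9.StalkFinB

open Groth.Agent.Helper9.StalkFinA Groth.Agent.Helper9.EtDisjGlue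

set_option maxHeartbeats 1600000 in
set_option backward.isDefEq.respectTransparency.types false in
theorem exists_sepE {X Y : Scheme.{u}} (f : X ⟶ Y) [IsFinite f] {Ω : Type u} [Field Ω]
    [IsAlgClosed Ω] (η : Spec (CommRingCat.of Ω) ⟶ Y)
    (V₀ : Y.Etale) (y₀ : (Scheme.pointSmallEtale η).fiber.obj V₀)
    (U : {ξ : Spec (CommRingCat.of Ω) ⟶ X // ξ ≫ f = η} → X.Etale)
    (c : ∀ ξ, U ξ ⟶ (EtCoh.bc f).obj V₀)
    (z : ∀ ξ : {ξ : Spec (CommRingCat.of Ω) ⟶ X // ξ ≫ f = η},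
      (Scheme.pointSmallEtale ξ.1).fiber.obj (U ξ))
    (hz : ∀ ξ, (Scheme.pointSmallEtale ξ.1).fiber.map (c ξ) (z ξ) = liftPt f η ξ.1 ξ.2 y₀) :
    ∃ (V : Y.Etale) (a : V ⟶ V₀) (y : (Scheme.pointSmallEtale η).fiber.obj V),
      (Scheme.pointSmallEtale η).fiber.map a y = y₀ ∧
      ∃ (μ : Type u) (r : μ → {ξ : Spec (CommRingCat.of Ω) ⟶ X // ξ ≫ f = η})
        (_ : Function.Surjective r) (O : μ → X.Etale) (ι : ∀ m, O m ⟶ (EtCoh.bc f).obj V),
        (∀ m, Mono (ι m)) ∧ (∀ x : ((EtCoh.bc f).obj V).left, ∃ m w, (ι m).left w = x) ∧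
        (∀ m m', m ≠ m' → ∀ za zb, (ι m).left za ≠ (ι m').left zb) ∧
        ∃ (h : ∀ m, O m ⟶ U (r m)), (∀ m, h m ≫ c (r m) = ι m ≫ (EtCoh.bc f).map a) ∧
        ∀ m, ∃ ζ : (Scheme.pointSmallEtale (r m).1).fiber.obj (O m),
            (Scheme.pointSmallEtale (r m).1).fiber.map (ι m) ζ = liftPt f η (r m).1 (r m).2 y ∧
            (Scheme.pointSmallEtale (r m).1).fiber.map (h m) ζ = z (r m) := by
  let Ξ := {ξ : Spec (CommRingCat.of Ω) ⟶ X // ξ ≫ f = η}
  let X₀ : Scheme.{u} := pullback V₀.hom f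
  let f₀ : X₀ ⟶ V₀.left := pullback.fst V₀.hom f
  let p₀ : X₀ ⟶ X := pullback.snd V₀.hom f
  have hcond : f₀ ≫ V₀.hom = p₀ ≫ f := pullback.condition
  haveI : IsFinite f₀ := inferInstance
  let η₀ : Spec (CommRingCat.of Ω) ⟶ V₀.left := ptLeft y₀
  have hη₀ : η₀ ≫ V₀.hom = η := ptLeft_w y₀
  let Ξ₀ := {ξ₀ : Spec (CommRingCat.of Ω) ⟶ X₀ // ξ₀ ≫ f₀ = η₀}
  let r : Ξ₀ → Ξ := fun m => ⟨m.1 ≫ p₀, by
    rw [Category.assoc, ← hcond, ← Category.assoc, m.2, hη₀]⟩
  have hr : Function.Surjective r := by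
    intro ξ
    refine ⟨⟨pullback.lift η₀ ξ.1 (by rw [hη₀, ξ.2]), pullback.lift_fst _ _ _⟩, ?_⟩
    apply Subtype.ext
    exact pullback.lift_snd _ _ _
  -- input for `exists_sep`
  let cl : ∀ m : Ξ₀, (U (r m)).left ⟶ X₀ := fun m => (c (r m)).left
  have hcl : ∀ m, cl m ≫ p₀ = (U (r m)).hom := fun m => MorphismProperty.Over.w (c (r m))
  have hclet : ∀ m, Etale (cl m) := by
    intro m
    have h1 : Etale (cl m ≫ p₀) := by
      rw [hcl]
      exact (U (r m)).prop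
    have h2 : Etale p₀ := inferInstance
    exact Etale.of_comp (cl m) p₀
  let l : ∀ m : Ξ₀, Spec (CommRingCat.of Ω) ⟶ (U (r m)).left := fun m => ptLeft (z (r m))
  have hl : ∀ m : Ξ₀, l m ≫ cl m = m.1 := by
    intro m
    have e1 := congrArg ptLeft (hz (r m))
    rw [ptLeft_map] at e1
    refine e1.trans ?_
    apply pullback.hom_ext
    · exact (ptLeft_liftPt_fst f η (r m).1 (r m).2 y₀).trans m.2.symm
    · exact ptLeft_liftPt_snd f η (r m).1 (r m).2 y₀
  obtain ⟨V', v, hv, η', hη', O', hdisj, hcov, h', hh', hζ⟩ :=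
    GeomSep.exists_sep f₀ η₀ (fun m => (U (r m)).left) cl hclet l hl
  haveI := hv
  choose ζ' hζ1 hζ2 using hζ
  have hV₀et : Etale V₀.hom := V₀.prop
  let V : Y.Etale := Scheme.Etale.mk (v ≫ V₀.hom)
  let a : V ⟶ V₀ := MorphismProperty.Over.homMk v rfl trivial
  let y : (Scheme.pointSmallEtale η).fiber.obj V := mkPt η η' (by
    show η' ≫ v ≫ V₀.hom = η
    rw [← Category.assoc, hη', hη₀])
  have hay : (Scheme.pointSmallEtale η).fiber.map a y = y₀ := by
    apply pt_ext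
    rw [ptLeft_map]
    exact hη'
  refine ⟨V, a, y, hay, Ξ₀, r, hr, ?_⟩
  let T : X.Etale := (EtCoh.bc f).obj V
  have sq := EtCoh.isPullback_bc_map f a
  let e : T.left ≅ pullback f₀ v := sq.isoPullback
  have he_inv_fst : e.inv ≫ ((EtCoh.bc f).map a).left = pullback.fst f₀ v :=
    sq.isoPullback_inv_fst
  have he_inv_snd : e.inv ≫ pullback.fst V.hom f = pullback.snd f₀ v :=
    sq.isoPullback_inv_snd
  have hTw : ((EtCoh.bc f).map a).left ≫ p₀ = T.hom :=
    MorphismProperty.Over.w ((EtCoh.bc f).map a)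
  have hTet : Etale T.hom := T.prop
  have he_inv_hom : e.inv ≫ T.hom = pullback.fst f₀ v ≫ p₀ :=
    (congrArg (fun t => e.inv ≫ t) hTw.symm).trans
      ((Category.assoc _ _ _).symm.trans (congrArg (fun t => t ≫ p₀) he_inv_fst))
  let O : Ξ₀ → X.Etale := fun m => Scheme.Etale.mk ((O' m).ι ≫ e.inv ≫ T.hom)
  let ιl : ∀ m, (O m).left ⟶ T.left := fun m => (O' m).ι ≫ e.inv
  have hιl : ∀ m, ιl m ≫ T.hom = (O m).hom := fun m => Category.assoc _ _ _
  let ι : ∀ m, O m ⟶ T := fun m => MorphismProperty.Over.homMk (ιl m) (hιl m) trivial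
  have hmono : ∀ m, Mono (ι m) := by
    intro m
    apply mono_of_mono_left
    show Mono ((O' m).ι ≫ e.inv)
    infer_instance
  have hsurj : ∀ x : T.left, ∃ (m : Ξ₀) (w : (O m).left), (ι m).left w = x := by
    intro x
    have hx : e.hom x ∈ (⨆ m, O' m : (pullback f₀ v).Opens) := by
      rw [hcov]
      trivial
    obtain ⟨m, hm⟩ := TopologicalSpace.Opens.mem_iSup.1 hx
    have hm' : e.hom x ∈ Set.range (O' m).ι.base := by
      rw [Scheme.Opens.range_ι]
      exact hm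
    obtain ⟨w, hw⟩ := hm'
    refine ⟨m, w, ?_⟩
    show ((O' m).ι ≫ e.inv) w = x
    rw [Scheme.Hom.comp_apply, hw, ← Scheme.Hom.comp_apply, Iso.hom_inv_id]
    rfl
  have hdisj' : ∀ m m', m ≠ m' → ∀ (za : (O m).left) (zb : (O m').left),
      (ι m).left za ≠ (ι m').left zb := by
    intro m m' hmm za zb heq
    have heq' : ((O' m).ι ≫ e.inv) za = ((O' m').ι ≫ e.inv) zb := heq
    have h1 : (O' m).ι za = (O' m').ι zb := by
      have := congrArg e.hom heq'
      rwa [← Scheme.Hom.comp_apply, ← Scheme.Hom.comp_apply, Category.assoc, Category.assoc,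
        Iso.inv_hom_id, Category.comp_id, Category.comp_id] at this
    have h2 : (O' m).ι za ∈ ((O' m : (pullback f₀ v).Opens) : Set _) := by
      rw [← Scheme.Opens.range_ι]
      exact ⟨_, rfl⟩
    have h3 : (O' m).ι za ∈ ((O' m' : (pullback f₀ v).Opens) : Set _) := by
      rw [h1, ← Scheme.Opens.range_ι]
      exact ⟨_, rfl⟩
    exact (hdisj m m' hmm).le_bot ⟨h2, h3⟩
  have hhU : ∀ m, h' m ≫ (U (r m)).hom = (O m).hom := by
    intro m
    show h' m ≫ (U (r m)).hom = (O' m).ι ≫ e.inv ≫ T.hom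
    rw [← hcl, ← Category.assoc, hh' m, he_inv_hom, Category.assoc]
  let h : ∀ m, O m ⟶ U (r m) := fun m => MorphismProperty.Over.homMk (h' m) (hhU m) trivial
  have hkey : ∀ m, h m ≫ c (r m) = ι m ≫ (EtCoh.bc f).map a := by
    intro m
    apply MorphismProperty.Over.Hom.ext
    show h' m ≫ cl m = ((O' m).ι ≫ e.inv) ≫ ((EtCoh.bc f).map a).left
    exact (hh' m).trans ((congrArg (fun t => (O' m).ι ≫ t) he_inv_fst.symm).trans
      (Category.assoc _ _ _).symm)
  refine ⟨O, ι, hmono, hsurj, hdisj', h, hkey, ?_⟩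
  intro m
  obtain ⟨σ, hσ⟩ : ∃ σ : Spec (CommRingCat.of Ω) ⟶ pullback f₀ v, σ = ζ' m ≫ (O' m).ι := ⟨_, rfl⟩
  have hσ1 : σ ≫ pullback.fst f₀ v = m.1 := by
    rw [hσ, hζ1 m, pullback.lift_fst]
  have hσ2 : σ ≫ pullback.snd f₀ v = η' := by
    rw [hσ, hζ1 m, pullback.lift_snd]
  have hσT : σ ≫ e.inv ≫ T.hom = m.1 ≫ p₀ :=
    (congrArg (fun t => σ ≫ t) he_inv_hom).trans
      ((Category.assoc _ _ _).symm.trans (congrArg (fun t => t ≫ p₀) hσ1))
  have hζhom : ζ' m ≫ (O m).hom = (r m).1 := by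
    show ζ' m ≫ (O' m).ι ≫ e.inv ≫ T.hom = m.1 ≫ p₀
    refine (Category.assoc _ _ _).symm.trans ?_
    rw [← hσ]
    exact hσT
  refine ⟨mkPt (r m).1 (ζ' m) hζhom, ?_, ?_⟩
  · apply pt_ext
    rw [ptLeft_map, ptLeft_mkPt]
    have e0 : ζ' m ≫ (ι m).left = σ ≫ e.inv := by
      show ζ' m ≫ (O' m).ι ≫ e.inv = _
      rw [hσ, Category.assoc]
    refine e0.trans ?_
    apply pullback.hom_ext
    · refine (Category.assoc _ _ _).trans ?_
      refine (congrArg (fun t => σ ≫ t) he_inv_snd).trans ?_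
      exact hσ2.trans (ptLeft_liftPt_fst f η (r m).1 (r m).2 y).symm
    · refine (Category.assoc _ _ _).trans ?_
      exact hσT.trans (ptLeft_liftPt_snd f η (r m).1 (r m).2 y).symm
  · apply pt_ext
    rw [ptLeft_map, ptLeft_mkPt]
    exact hζ2 m

end Groth.Agent.Helper9.StalkFinB
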