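import Mathlib
import Groth.Prelude.Def_EtBase
import Groth.Prelude.Def_EtCore
import Groth.Agent.Helper9.StalkFinA
import Groth.Agent.Helper9.StalkFinB
import Groth.Agent.Helper9.EtDisjGlue

/-! The stalk formula for direct images along finite morphisms: bijectivity on germs. -/

set_option autoImplicit false
set_option linter.style.haveILetI false
universe u

open CategoryTheory CategoryTheory.Limits Opposite AlgebraicGeometry

namespace Groth.Agent.Helper9.StalkFinC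

open Groth.Agent.Helper9.StalkFinA Groth.Agent.Helper9.StalkFinB Groth.Agent.Helper9.EtDisjGlue

variable {A : Type*} [Category A] [HasColimitsOfSize.{u, u} A]
  {FC : A → A → Type*} {CC : A → Type*}
  [∀ X Y : A, FunLike (FC X Y) (CC X) (CC Y)] [ConcreteCategory A FC]
  [PreservesFilteredColimitsOfSize.{u, u} (forget A)]

set_option backward.isDefEq.respectTransparency.types false in
theorem germ_ext {X Y : Scheme.{u}} (f : X ⟶ Y) [IsFinite f] {Ω : Type u} [Field Ω]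
    [IsAlgClosed Ω] (η : Spec (CommRingCat.of Ω) ⟶ Y) (P : X.Etaleᵒᵖ ⥤ A)
    (hP : Presieve.IsSheaf X.smallEtaleTopology (P ⋙ forget A))
    (x x' : ToType ((Scheme.pointSmallEtale η).presheafFiber.obj ((EtCoh.bc f).op ⋙ P)))
    (hxx : ∀ ξ : {ξ : Spec (CommRingCat.of Ω) ⟶ X // ξ ≫ f = η},
      theta f η ξ.1 ξ.2 P x = theta f η ξ.1 ξ.2 P x') : x = x' := by
  obtain ⟨V₀, y₀, s, s', rfl, rfl⟩ :=
    (Scheme.pointSmallEtale η).toPresheafFiber_jointly_surjective₂ x x'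
  have h1 : ∀ ξ : {ξ : Spec (CommRingCat.of Ω) ⟶ X // ξ ≫ f = η},
      ∃ (U : X.Etale) (c : U ⟶ (EtCoh.bc f).obj V₀)
        (z : (Scheme.pointSmallEtale ξ.1).fiber.obj U),
        (Scheme.pointSmallEtale ξ.1).fiber.map c z = liftPt f η ξ.1 ξ.2 y₀ ∧
          P.map c.op s = P.map c.op s' := by
    intro ξ
    have e := hxx ξ
    rw [theta_apply, theta_apply] at e
    exact ((Scheme.pointSmallEtale ξ.1).toPresheafFiber_eq_iff' _ _ s s').1 e
  choose U c z hz hs using h1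
  obtain ⟨V, a, y, hay, μ, r, hr, O, ι, hmono, hsurj, hdisj, h, hkey, -⟩ :=
    exists_sepE f η V₀ y₀ U c z hz
  have key : P.map ((EtCoh.bc f).map a).op s = P.map ((EtCoh.bc f).map a).op s' := by
    obtain ⟨σ, -, hσ⟩ := existsUnique_glue O ι hmono hsurj hdisj (P ⋙ forget A) hP
      (fun m => (P ⋙ forget A).map (ι m ≫ (EtCoh.bc f).map a).op s)
    have e1 : P.map ((EtCoh.bc f).map a).op s = σ := by
      apply hσ
      intro m
      show (P ⋙ forget A).map (ι m).op ((P ⋙ forget A).map ((EtCoh.bc f).map a).op s) = _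
      rw [← Functor.map_comp_apply, ← op_comp]
    have e2 : P.map ((EtCoh.bc f).map a).op s' = σ := by
      apply hσ
      intro m
      show (P ⋙ forget A).map (ι m).op ((P ⋙ forget A).map ((EtCoh.bc f).map a).op s') = _
      rw [← Functor.map_comp_apply, ← op_comp, ← hkey m, op_comp, Functor.map_comp_apply,
        Functor.map_comp_apply]
      have e3 : (P ⋙ forget A).map (c (r m)).op s' = (P ⋙ forget A).map (c (r m)).op s :=
        (hs (r m)).symm
      rw [e3]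
    exact e1.trans e2.symm
  have w1 := (Scheme.pointSmallEtale η).toPresheafFiber_w_apply a y ((EtCoh.bc f).op ⋙ P) s
  have w2 := (Scheme.pointSmallEtale η).toPresheafFiber_w_apply a y ((EtCoh.bc f).op ⋙ P) s'
  rw [hay] at w1 w2
  rw [← w1, ← w2]
  congr 1

set_option backward.isDefEq.respectTransparency.types false in
theorem germ_exists {X Y : Scheme.{u}} (f : X ⟶ Y) [IsFinite f] {Ω : Type u} [Field Ω]
    [IsAlgClosed Ω] (η : Spec (CommRingCat.of Ω) ⟶ Y) (P : X.Etaleᵒᵖ ⥤ A)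
    (hP : Presieve.IsSheaf X.smallEtaleTopology (P ⋙ forget A))
    (t : ∀ ξ : {ξ : Spec (CommRingCat.of Ω) ⟶ X // ξ ≫ f = η},
      ToType ((Scheme.pointSmallEtale ξ.1).presheafFiber.obj P)) :
    ∃ x : ToType ((Scheme.pointSmallEtale η).presheafFiber.obj ((EtCoh.bc f).op ⋙ P)),
      ∀ ξ : {ξ : Spec (CommRingCat.of Ω) ⟶ X // ξ ≫ f = η}, theta f η ξ.1 ξ.2 P x = t ξ := by
  have h1 : ∀ ξ : {ξ : Spec (CommRingCat.of Ω) ⟶ X // ξ ≫ f = η},
      ∃ (U : X.Etale) (z : (Scheme.pointSmallEtale ξ.1).fiber.obj U)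
        (τ : ToType (P.obj (op U))), (Scheme.pointSmallEtale ξ.1).toPresheafFiber U z P τ = t ξ :=
    fun ξ => (Scheme.pointSmallEtale ξ.1).toPresheafFiber_jointly_surjective (t ξ)
  choose U z τ hτ using h1
  let V₀ : Y.Etale := EtCoh.top Y
  let y₀ : (Scheme.pointSmallEtale η).fiber.obj V₀ := mkPt η η (Category.comp_id η)
  have hT₀ : IsTerminal ((EtCoh.bc f).obj V₀) := EtCore.bcTopIsTerminal f
  let c : ∀ ξ, U ξ ⟶ (EtCoh.bc f).obj V₀ := fun ξ => hT₀.from (U ξ)
  have hz : ∀ ξ : {ξ : Spec (CommRingCat.of Ω) ⟶ X // ξ ≫ f = η},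
      (Scheme.pointSmallEtale ξ.1).fiber.map (c ξ) (z ξ) = liftPt f η ξ.1 ξ.2 y₀ := by
    intro ξ
    haveI := (Scheme.pointSmallEtale ξ.1).uniqueFiberObj _ hT₀
    exact Subsingleton.elim _ _
  obtain ⟨V, a, y, hay, μ, r, hr, O, ι, hmono, hsurj, hdisj, h, hkey, hζ⟩ :=
    exists_sepE f η V₀ y₀ U c z hz
  obtain ⟨σ, hσ, -⟩ := existsUnique_glue O ι hmono hsurj hdisj (P ⋙ forget A) hP
    (fun m => (P ⋙ forget A).map (h m).op (τ (r m)))
  refine ⟨(Scheme.pointSmallEtale η).toPresheafFiber V y ((EtCoh.bc f).op ⋙ P) σ, ?_⟩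
  intro ξ
  obtain ⟨m, rfl⟩ := hr ξ
  obtain ⟨ζ, hζ1, hζ2⟩ := hζ m
  rw [theta_apply, ← hζ1, ← hτ (r m), ← hζ2]
  have w1 := (Scheme.pointSmallEtale (r m).1).toPresheafFiber_w_apply (ι m) ζ P σ
  have w2 := (Scheme.pointSmallEtale (r m).1).toPresheafFiber_w_apply (h m) ζ P (τ (r m))
  rw [← w1, ← w2]
  congr 1
  exact hσ m

end Groth.Agent.Helper9.StalkFinC
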