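import Mathlib
import Groth.Prelude.Def_EtBase
import Groth.Agent.Helper9.StalkFinA
import Groth.Agent.Helper9.StalkFinC
import Groth.Agent.Helper9.StalkBC1
import Groth.Agent.Helper9.StalkBC2
import Groth.Agent.Helper9.StalkBC3
import Groth.Agent.Helper9.EtStalkExact
import Groth.Agent.Helper9.EtStalkAlgClosed

/-! Base change for finite morphisms in degree zero. -/

set_option autoImplicit false
set_option linter.style.haveILetI false
universe u

open CategoryTheory CategoryTheory.Limits Opposite AlgebraicGeometry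

namespace Groth.Agent.Helper9.StalkBC4

open Groth.Agent.Helper9.StalkFinA Groth.Agent.Helper9.StalkFinC Groth.Agent.Helper9.StalkBC1
  Groth.Agent.Helper9.StalkBC2 Groth.Agent.Helper9.StalkBC3
  Groth.Agent.Helper9.EtStalkPull Groth.Agent.Helper9.EtStalkExact

attribute [local instance] preservesFilteredColimits_forget_ab

/-- reindexing a dependent family along a bijection -/
theorem reindex {Ξ I : Type*} (r : I → Ξ) (hr : Function.Bijective r) (T : Ξ → Type*)
    (t : ∀ i, T (r i)) : ∃ t' : ∀ ξ, T ξ, ∀ i, t' (r i) = t i := by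
  let e := Equiv.ofBijective r hr
  refine ⟨fun ξ => cast (congrArg T (e.apply_symm_apply ξ)) (t (e.symm ξ)), ?_⟩
  intro i
  have key : ∀ j (_ : j = i) (hc : T (r j) = T (r i)), cast hc (t j) = t i := by
    intro j hj
    subst hj
    intro hc
    rfl
  exact key _ (e.symm_apply_apply i) _

variable {X Y X' Y' : Scheme.{u}} (f : X ⟶ Y) [IsFinite f] (g : Y' ⟶ Y) (f' : X' ⟶ Y')
  (g' : X' ⟶ X) (h : IsPullback g' f' f g) (F : EtCoh.Ab X)
  {Ω : Type u} [Field Ω] [IsAlgClosed Ω] (η' : Spec (CommRingCat.of Ω) ⟶ Y')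

omit [IsFinite f] [IsAlgClosed Ω] in
include h in
theorem bijective_r :
    Function.Bijective (fun ξ' : {ξ' : Spec (CommRingCat.of Ω) ⟶ X' // ξ' ≫ f' = η'} =>
      (⟨ξ'.1 ≫ g', comp_eq f g f' g' h.w η' ξ'.1 ξ'.2⟩ :
        {ξ : Spec (CommRingCat.of Ω) ⟶ X // ξ ≫ f = η' ≫ g})) := by
  constructor
  · intro a b hab
    apply Subtype.ext
    apply h.hom_ext
    · exact congrArg Subtype.val hab
    · rw [a.2, b.2]
  · intro ξ
    refine ⟨⟨h.lift ξ.1 η' ξ.2, h.lift_snd _ _ _⟩, ?_⟩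
    apply Subtype.ext
    exact h.lift_fst _ _ _

set_option backward.isDefEq.respectTransparency.types false in
include h in
theorem bijective_M : Function.Bijective (M f g f' g' h.w F η') := by
  have hf' : IsFinite f' := MorphismProperty.of_isPullback h inferInstance
  have hPF : Presieve.IsSheaf X.smallEtaleTopology (F.obj ⋙ forget AddCommGrpCat.{u + 1}) :=
    (isSheaf_iff_isSheaf_of_type _ _).1
      ((Presheaf.isSheaf_iff_isSheaf_forget _ _ (forget AddCommGrpCat.{u + 1})).1 F.property)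
  have hPH : Presieve.IsSheaf X'.smallEtaleTopology
      (((EtCoh.pull g').obj F).obj ⋙ forget AddCommGrpCat.{u + 1}) :=
    (isSheaf_iff_isSheaf_of_type _ _).1
      ((Presheaf.isSheaf_iff_isSheaf_forget _ _ (forget AddCommGrpCat.{u + 1})).1
        ((EtCoh.pull g').obj F).property)
  have hE₀ : Function.Bijective (E g η' ((EtCoh.push f).obj F).obj) :=
    (ConcreteCategory.isIso_iff_bijective _).1 inferInstance
  have hE' : ∀ ξ' : Spec (CommRingCat.of Ω) ⟶ X', Function.Bijective (E g' ξ' F.obj) :=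
    fun ξ' => (ConcreteCategory.isIso_iff_bijective _).1 inferInstance
  have hψ : ∀ ξ' : Spec (CommRingCat.of Ω) ⟶ X', Function.Bijective (psiIso' g' F ξ').hom :=
    fun ξ' => (ConcreteCategory.isIso_iff_bijective _).1 inferInstance
  have sq : ∀ (ξ' : {ξ' : Spec (CommRingCat.of Ω) ⟶ X' // ξ' ≫ f' = η'})
      (a₁ : ToType ((Scheme.pointSmallEtale (η' ≫ g)).presheafFiber.obj
        ((EtCoh.push f).obj F).obj)),
      theta f' η' ξ'.1 ξ'.2 ((EtCoh.pull g').obj F).obj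
        (M f g f' g' h.w F η' (E g η' ((EtCoh.push f).obj F).obj a₁)) =
      (psiIso' g' F ξ'.1).hom (E g' ξ'.1 F.obj
        (theta f (η' ≫ g) (ξ'.1 ≫ g') (comp_eq f g f' g' h.w η' ξ'.1 ξ'.2) F.obj a₁)) := by
    intro ξ' a₁
    exact ConcreteCategory.congr_hom (square f g f' g' h.w F η' ξ'.1 ξ'.2) a₁
  have hr := bijective_r f g f' g' h η'
  constructor
  · intro a b hab
    obtain ⟨a₁, rfl⟩ := hE₀.2 a
    obtain ⟨b₁, rfl⟩ := hE₀.2 b
    congr 1
    apply germ_ext f (η' ≫ g) F.obj hPF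
    intro ξ
    obtain ⟨ξ', rfl⟩ := hr.2 ξ
    apply (hE' ξ'.1).1
    apply (hψ ξ'.1).1
    exact (sq ξ' a₁).symm.trans ((congrArg _ hab).trans (sq ξ' b₁))
  · intro c
    have h1 : ∀ ξ' : {ξ' : Spec (CommRingCat.of Ω) ⟶ X' // ξ' ≫ f' = η'},
        ∃ t : ToType ((Scheme.pointSmallEtale (ξ'.1 ≫ g')).presheafFiber.obj F.obj),
          (psiIso' g' F ξ'.1).hom (E g' ξ'.1 F.obj t) =
            theta f' η' ξ'.1 ξ'.2 ((EtCoh.pull g').obj F).obj c := by
      intro ξ'
      obtain ⟨t₁, ht₁⟩ := (hψ ξ'.1).2 (theta f' η' ξ'.1 ξ'.2 ((EtCoh.pull g').obj F).obj c)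
      obtain ⟨t₂, ht₂⟩ := (hE' ξ'.1).2 t₁
      exact ⟨t₂, by rw [ht₂, ht₁]⟩
    choose t ht using h1
    obtain ⟨t', ht'⟩ := reindex _ hr
      (fun ξ : {ξ : Spec (CommRingCat.of Ω) ⟶ X // ξ ≫ f = η' ≫ g} =>
        ToType ((Scheme.pointSmallEtale ξ.1).presheafFiber.obj F.obj)) t
    obtain ⟨a₁, ha₁⟩ := germ_exists f (η' ≫ g) F.obj hPF t'
    refine ⟨E g η' ((EtCoh.push f).obj F).obj a₁, ?_⟩
    apply germ_ext f' η' ((EtCoh.pull g').obj F).obj hPH
    intro ξ'
    refine (sq ξ' a₁).trans ?_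
    refine Eq.trans ?_ (ht ξ')
    have e : theta f (η' ≫ g) (ξ'.1 ≫ g') (comp_eq f g f' g' h.w η' ξ'.1 ξ'.2) F.obj a₁ = t ξ' :=
      (ha₁ ⟨ξ'.1 ≫ g', comp_eq f g f' g' h.w η' ξ'.1 ξ'.2⟩).trans (ht' ξ')
    exact congrArg (fun z => (psiIso' g' F ξ'.1).hom (E g' ξ'.1 F.obj z)) e

end Groth.Agent.Helper9.StalkBC4
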