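import Mathlib
import Groth.Prelude.Def_EtBase
import Groth.Agent.Helper9.StalkBC2
import Groth.Agent.Helper9.StalkBC3
import Groth.Agent.Helper9.StalkBC4
import Groth.Agent.Helper9.PointComapCounit
import Groth.Agent.Helper9.EtStalkExact
import Groth.Agent.Helper9.EtStalkAlgClosed

/-! Base change for finite morphisms in degree zero: the final statement. -/

set_option autoImplicit false
set_option linter.style.haveILetI false
universe u

open CategoryTheory CategoryTheory.Limits Opposite AlgebraicGeometry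

namespace Groth.Agent.Helper9.StalkBC5

open Groth.Agent.Helper9.StalkBC2 Groth.Agent.Helper9.StalkBC3 Groth.Agent.Helper9.StalkBC4
  Groth.Agent.Helper9.EtStalkPull Groth.Agent.Helper9.EtStalkExact

attribute [local instance] preservesFilteredColimits_forget_ab

variable {X Y X' Y' : Scheme.{u}} (f : X ⟶ Y) [IsFinite f] (g : Y' ⟶ Y) (f' : X' ⟶ Y')
  (g' : X' ⟶ X) (h : IsPullback g' f' f g) (F : EtCoh.Ab X)

set_option backward.isDefEq.respectTransparency.types false in
include h in
theorem bijective_stalk_baseChange0 {Ω : Type u} [Field Ω] [IsAlgClosed Ω]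
    (η' : Spec (CommRingCat.of Ω) ⟶ Y') :
    Function.Bijective ((EtCoh.stalk η').map (EtCoh.baseChange0 f g f' g' h.w F)) := by
  haveI : ((EtCoh.bc g).sheafPushforwardContinuous AddCommGrpCat.{u + 1}
      Y.smallEtaleTopology Y'.smallEtaleTopology).IsRightAdjoint :=
    (EtCoh.pullPushAdj g).isRightAdjoint
  obtain ⟨ψ, hψ⟩ : ∃ ψ, ψ = (Scheme.pointSmallEtale η').sheafFiberComapIso (EtCoh.bc g)
    (EtCoh.coverPreserving_bc g) AddCommGrpCat.{u + 1} := ⟨_, rfl⟩
  have key : ψ.hom.app ((EtCoh.push f).obj F) ≫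
      (EtCoh.stalk η').map (EtCoh.baseChange0 f g f' g' h.w F) = M f g f' g' h.w F η' := by
    rw [baseChange0_eq, Functor.map_comp]
    have n := ψ.hom.naturality (alpha f g f' g' h.w F)
    have c := Groth.Agent.Helper9.PointComapCounit.hom_app_comp_map_counit
      (Scheme.pointSmallEtale η') (EtCoh.bc g) (EtCoh.coverPreserving_bc g) AddCommGrpCat.{u + 1}
      ((EtCoh.push f').obj ((EtCoh.pull g').obj F))
    rw [← hψ] at c
    refine (Category.assoc _ _ _).symm.trans ?_
    refine (congrArg (fun t => t ≫ (EtCoh.stalk η').map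
      ((EtCoh.pullPushAdj g).counit.app ((EtCoh.push f').obj ((EtCoh.pull g').obj F)))) n.symm).trans ?_
    refine (Category.assoc _ _ _).trans ?_
    exact congrArg (fun t => (comapPt g η').sheafFiber.map (alpha f g f' g' h.w F) ≫ t) c
  have hM := bijective_M f g f' g' h F η'
  have hψb : Function.Bijective (ψ.inv.app ((EtCoh.push f).obj F)) :=
    (ConcreteCategory.isIso_iff_bijective _).1 inferInstance
  have i1 : ψ.inv.app ((EtCoh.push f).obj F) ≫ ψ.hom.app ((EtCoh.push f).obj F) = 𝟙 _ :=
    ψ.inv_hom_id_app _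
  have e : (EtCoh.stalk η').map (EtCoh.baseChange0 f g f' g' h.w F) =
      ψ.inv.app ((EtCoh.push f).obj F) ≫ M f g f' g' h.w F η' :=
    (Category.id_comp _).symm.trans
      ((congrArg (fun t => t ≫ (EtCoh.stalk η').map (EtCoh.baseChange0 f g f' g' h.w F))
        i1.symm).trans ((Category.assoc _ _ _).trans
          (congrArg (fun t => ψ.inv.app ((EtCoh.push f).obj F) ≫ t) key)))
  have e' : ∀ x, (EtCoh.stalk η').map (EtCoh.baseChange0 f g f' g' h.w F) x =
      M f g f' g' h.w F η' (ψ.inv.app ((EtCoh.push f).obj F) x) :=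
    fun x => ConcreteCategory.congr_hom e x
  constructor
  · intro a b hab
    apply hψb.1
    apply hM.1
    exact (e' a).symm.trans (hab.trans (e' b))
  · intro c
    obtain ⟨m, hm⟩ := hM.2 c
    obtain ⟨a, ha⟩ := hψb.2 m
    exact ⟨a, (e' a).trans ((congrArg _ ha).trans hm)⟩

include h in
theorem main : IsIso (EtCoh.baseChange0 f g f' g' h.w F) :=
  Groth.Agent.Helper9.EtStalkAlgClosed.isIso_of_stalks _
    (fun _ _ _ η' => bijective_stalk_baseChange0 f g f' g' h F η')

end Groth.Agent.Helper9.StalkBC5
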