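import Mathlib
import Groth.Agent.Helper1.ExtLES
import Groth.Agent.Helper1.DeltaCmp

/-! Universe-general comparison of sheaf cohomology along an exact, injective-preserving
restriction functor `F ↦ F ∘ u` preserving the terminal object. -/

set_option autoImplicit false
set_option backward.isDefEq.respectTransparency false
universe w v₁ v₂ u₁ u₂

open CategoryTheory CategoryTheory.Limits Opposite Abelian

namespace Groth.Agent.Helper9.BigSiteCohGen

open Groth.Agent.Helper1.DeltaCmp

variable {C : Type u₁} [Category.{v₁} C] {D : Type u₂} [Category.{v₂} D]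
  (J : GrothendieckTopology C) (K : GrothendieckTopology D) (u : C ⥤ D)
  [u.IsContinuous J K]
  [HasSheafify J AddCommGrpCat.{w}] [HasSheafify K AddCommGrpCat.{w}]
  [HasExt.{w} (Sheaf J AddCommGrpCat.{w})] [HasExt.{w} (Sheaf K AddCommGrpCat.{w})]

/-- restriction along `u` -/
abbrev gInv : Sheaf K AddCommGrpCat.{w} ⥤ Sheaf J AddCommGrpCat.{w} :=
  u.sheafPushforwardContinuous AddCommGrpCat.{w} J K

/-- the constant sheaf `ℤ` -/
noncomputable abbrev ZC : Sheaf J AddCommGrpCat.{w} :=
  (constantSheaf J AddCommGrpCat.{w}).obj (AddCommGrpCat.of (ULift ℤ))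

noncomputable abbrev ZD : Sheaf K AddCommGrpCat.{w} :=
  (constantSheaf K AddCommGrpCat.{w}).obj (AddCommGrpCat.of (ULift ℤ))

/-- `F ↦ H^n(D, F)` -/
noncomputable abbrev T (n : ℕ) : Sheaf K AddCommGrpCat.{w} ⥤ AddCommGrpCat.{w} :=
  extSeq (𝟭 (Sheaf K AddCommGrpCat.{w})) (ZD K) n

/-- `F ↦ H^n(C, F ∘ u)` -/
noncomputable abbrev T' (n : ℕ) : Sheaf K AddCommGrpCat.{w} ⥤ AddCommGrpCat.{w} :=
  extSeq (gInv J K u) (ZC J) n

instance additive_gInv : (gInv J K u).Additive where

variable {tC : C} (htC : IsTerminal tC) (htD : IsTerminal (u.obj tC))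

/-- sections over the terminal object -/
abbrev Γ : Sheaf K AddCommGrpCat.{w} ⥤ AddCommGrpCat.{w} :=
  sheafToPresheaf K AddCommGrpCat.{w} ⋙ (evaluation Dᵒᵖ AddCommGrpCat.{w}).obj (op (u.obj tC))

/-- `T 0 ≅ Γ` -/
noncomputable def e₀ : T K 0 ≅ Γ K u (tC := tC) :=
  NatIso.ofComponents (fun F => (Sheaf.H.equiv₀ F htD).toAddCommGrpIso)
    (by
      intro F G φ
      apply AddCommGrpCat.hom_ext
      apply AddMonoidHom.ext
      intro x
      exact (Sheaf.H.equiv₀_naturality htD φ x).symm)

/-- `T' 0 ≅ Γ` -/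
noncomputable def e₀' : T' J K u 0 ≅ Γ K u (tC := tC) :=
  NatIso.ofComponents
    (fun F => (Sheaf.H.equiv₀ ((gInv J K u).obj F) htC).toAddCommGrpIso)
    (by
      intro F G φ
      apply AddCommGrpCat.hom_ext
      apply AddMonoidHom.ext
      intro x
      exact (Sheaf.H.equiv₀_naturality htC ((gInv J K u).map φ) x).symm)

include htC htD in
theorem nonempty_iso [PreservesFiniteLimits (gInv.{w} J K u)]
    [PreservesFiniteColimits (gInv.{w} J K u)] [EnoughInjectives (Sheaf K AddCommGrpCat.{w})]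
    (hinj : ∀ (I : Sheaf K AddCommGrpCat.{w}) [Injective I], Injective ((gInv.{w} J K u).obj I))
    (n : ℕ) (F : Sheaf K AddCommGrpCat.{w}) :
    Nonempty ((T K n).obj F ≅ (T' J K u n).obj F) := by
  refine Groth.Agent.Helper1.DeltaCmp.nonempty_iso (T := T K) (T' := T' J K u) (fun _ => True)
    ((e₀ K u htD).trans (e₀' J K u htC).symm) ?_ n F trivial
  intro F _
  let S : ShortComplex (Sheaf K AddCommGrpCat.{w}) :=
    ShortComplex.mk (Injective.ι F) (cokernel.π (Injective.ι F)) (cokernel.condition _)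
  have hS : S.ShortExact :=
    { exact := ShortComplex.exact_cokernel _
      mono_f := by dsimp [S]; infer_instance
      epi_g := by dsimp [S]; infer_instance }
  haveI : Injective S.X₂ := by dsimp [S]; infer_instance
  haveI : Injective ((gInv J K u).obj S.X₂) := hinj S.X₂
  have hl : HasLES (T K) S := hasLES_extSeq (𝟭 _) (ZD K) S hS
  have hl' : HasLES (T' J K u) S := hasLES_extSeq (gInv J K u) (ZC J) S hS
  refine ⟨{ S := S, iso := rfl, mem := trivial, zero := ?_, zero' := ?_,
            les := hl, les' := hl' }⟩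
  · intro n
    have : Subsingleton ((T K (n + 1)).obj S.X₂) :=
      subsingleton_of_forall_eq 0 fun (x : Ext.{w} (ZD K) S.X₂ (n + 1)) =>
        Ext.eq_zero_of_injective x
    exact AddCommGrpCat.isZero_of_subsingleton _
  · intro n
    have : Subsingleton ((T' J K u (n + 1)).obj S.X₂) :=
      subsingleton_of_forall_eq 0
        fun (x : Ext.{w} (ZC J) ((gInv J K u).obj S.X₂) (n + 1)) => Ext.eq_zero_of_injective x
    exact AddCommGrpCat.isZero_of_subsingleton _

include htC htD in
theorem nonempty_addEquiv [PreservesFiniteLimits (gInv.{w} J K u)]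
    [PreservesFiniteColimits (gInv.{w} J K u)] [EnoughInjectives (Sheaf K AddCommGrpCat.{w})]
    (hinj : ∀ (I : Sheaf K AddCommGrpCat.{w}) [Injective I], Injective ((gInv.{w} J K u).obj I))
    (n : ℕ) (F : Sheaf K AddCommGrpCat.{w}) :
    Nonempty (Sheaf.H ((gInv J K u).obj F) n ≃+ Sheaf.H F n) := by
  obtain ⟨i⟩ := nonempty_iso J K u htC htD hinj n F
  exact ⟨i.symm.addCommGroupIsoToAddEquiv⟩

end Groth.Agent.Helper9.BigSiteCohGen
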