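import Mathlib

/-! Spreading out algebra maps from a finitely presented algebra into a localization:
`B →ₐ[R] M⁻¹R` factors through `R_f` for some `f ∈ M`. -/

set_option autoImplicit false
universe u

namespace Groth.Agent.Helper9.FPSpread

variable {R : Type u} [CommRing R] (M : Submonoid R) {A : Type u} [CommRing A] [Algebra R A]
  [IsLocalization M A]

/-- an element of `R_{f₀}` dying in `A = M⁻¹R` is killed by some element of `M` -/
lemma exists_mul_eq_zero {f₀ : R} {Rf : Type u} [CommRing Rf] [Algebra R Rf]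
    [IsLocalization.Away f₀ Rf] (ι : Rf →ₐ[R] A) (z : Rf) (hz : ι z = 0) :
    ∃ m ∈ M, algebraMap R Rf m * z = 0 := by
  obtain ⟨a, s, rfl⟩ := IsLocalization.exists_mk'_eq (Submonoid.powers f₀) z
  have h1 : IsLocalization.mk' Rf a s * algebraMap R Rf s = algebraMap R Rf a :=
    IsLocalization.mk'_spec Rf a s
  have h2 : algebraMap R A a = 0 := by
    have := congrArg ι h1
    rw [map_mul, hz, zero_mul, AlgHom.commutes] at this
    exact this.symm
  obtain ⟨m, hm⟩ := (IsLocalization.map_eq_zero_iff M A a).1 h2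
  refine ⟨m, m.2, ?_⟩
  have hu : IsUnit (algebraMap R Rf s) := IsLocalization.map_units Rf s
  apply hu.mul_left_injective
  simp only [zero_mul]
  rw [mul_assoc, h1, ← map_mul, hm, map_zero]

theorem exists_lift (B : Type u) [CommRing B] [Algebra R B] [Algebra.FinitePresentation R B]
    (φ : B →ₐ[R] A) :
    ∃ f ∈ M, ∀ (Rf : Type u) [CommRing Rf] [Algebra R Rf] [IsLocalization.Away f Rf]
      (ι : Rf →ₐ[R] A), ∃ ψ : B →ₐ[R] Rf, ι.comp ψ = φ := by
  classical
  obtain ⟨n, π, hπ, T, hT⟩ := Algebra.FinitePresentation.out (R := R) (A := B)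
  -- stage 1 : lift the generators
  obtain ⟨b, hb⟩ := IsLocalization.exist_integer_multiples_of_finite M
    (fun i : Fin n => φ (π (MvPolynomial.X i)))
  choose a ha using hb
  let f₀ : R := b
  have hf₀A : IsUnit (algebraMap R A f₀) := IsLocalization.map_units A b
  let ι₀ : Localization.Away f₀ →ₐ[R] A :=
    IsLocalization.liftAlgHom (M := Submonoid.powers f₀) (f := Algebra.ofId R A) (by
      rintro ⟨y, k, rfl⟩
      simpa using hf₀A.pow k)
  let y : Fin n → Localization.Away f₀ := fun i =>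
    IsLocalization.mk' (Localization.Away f₀) (a i) (⟨f₀, Submonoid.mem_powers f₀⟩ :
      Submonoid.powers f₀)
  have hy : ∀ i, ι₀ (y i) = φ (π (MvPolynomial.X i)) := by
    intro i
    apply hf₀A.mul_left_injective
    simp only
    have h1 : y i * algebraMap R (Localization.Away f₀) f₀ =
        algebraMap R (Localization.Away f₀) (a i) :=
      IsLocalization.mk'_spec (Localization.Away f₀) (a i) _
    have h2 := congrArg ι₀ h1
    rw [map_mul, AlgHom.commutes, AlgHom.commutes] at h2
    rw [h2, ha i, Algebra.smul_def, mul_comm]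
  let ψ₀ : MvPolynomial (Fin n) R →ₐ[R] Localization.Away f₀ := MvPolynomial.aeval y
  have hψ₀ : ι₀.comp ψ₀ = φ.comp π := by
    apply MvPolynomial.algHom_ext
    intro i
    simp only [AlgHom.comp_apply, ψ₀, MvPolynomial.aeval_X]
    exact hy i
  -- stage 2 : kill the relations
  have hkill : ∀ t : MvPolynomial (Fin n) R, ∃ m : R, t ∈ T →
      (m ∈ M ∧ algebraMap R (Localization.Away f₀) m * ψ₀ t = 0) := by
    intro t
    by_cases ht : t ∈ T
    · have h0 : ι₀ (ψ₀ t) = 0 := by
        have := congrArg (fun F : MvPolynomial (Fin n) R →ₐ[R] A => F t) hψ₀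
        simp only [AlgHom.comp_apply] at this
        rw [this]
        have : t ∈ RingHom.ker π.toRingHom := by
          rw [← hT]
          exact Ideal.subset_span ht
        have h3 : π t = 0 := this
        rw [h3, map_zero]
      obtain ⟨m, hm, hm'⟩ := exists_mul_eq_zero (f₀ := f₀) M ι₀ (ψ₀ t) h0
      exact ⟨m, fun _ => ⟨hm, hm'⟩⟩
    · exact ⟨0, fun h => absurd h ht⟩
  choose m hm using hkill
  let f : R := f₀ * ∏ t ∈ T, m t
  have hfM : f ∈ M := M.mul_mem b.2 (M.prod_mem fun t ht => (hm t ht).1)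
  refine ⟨f, hfM, ?_⟩
  intro Rf _ _ _ ι
  have hfu : IsUnit (algebraMap R Rf f) :=
    IsLocalization.map_units Rf (⟨f, Submonoid.mem_powers f⟩ : Submonoid.powers f)
  have hf₀u : IsUnit (algebraMap R Rf f₀) := by
    rw [show f = f₀ * ∏ t ∈ T, m t from rfl, map_mul] at hfu
    exact isUnit_of_mul_isUnit_left hfu
  have hmu : ∀ t ∈ T, IsUnit (algebraMap R Rf (m t)) := by
    intro t ht
    rw [show f = f₀ * ∏ t ∈ T, m t from rfl, map_mul] at hfu
    have h1 : IsUnit (algebraMap R Rf (∏ t ∈ T, m t)) := isUnit_of_mul_isUnit_right hfu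
    rw [← Finset.mul_prod_erase T m ht, map_mul] at h1
    exact isUnit_of_mul_isUnit_left h1
  let κ : Localization.Away f₀ →ₐ[R] Rf :=
    IsLocalization.liftAlgHom (M := Submonoid.powers f₀) (f := Algebra.ofId R Rf) (by
      rintro ⟨y, k, rfl⟩
      simpa using hf₀u.pow k)
  let ψ₁ : MvPolynomial (Fin n) R →ₐ[R] Rf := κ.comp ψ₀
  have hψ₁ : ∀ t ∈ T, ψ₁ t = 0 := by
    intro t ht
    apply (hmu t ht).mul_right_injective
    simp only [mul_zero]
    have := congrArg κ (hm t ht).2
    rw [map_mul, AlgHom.commutes, map_zero] at this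
    exact this
  have hker : RingHom.ker π.toRingHom ≤ RingHom.ker ψ₁.toRingHom := by
    rw [← hT, Ideal.span_le]
    intro t ht
    exact hψ₁ t ht
  refine ⟨AlgHom.liftOfSurjective π hπ ψ₁ hker, ?_⟩
  rw [← AlgHom.cancel_right hπ, AlgHom.comp_assoc, AlgHom.liftOfSurjective_comp, ← hψ₀]
  have : ι.comp κ = ι₀ := (IsLocalization.algHom_subsingleton (Submonoid.powers f₀)).elim _ _
  rw [← this, AlgHom.comp_assoc]

end Groth.Agent.Helper9.FPSpread
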