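import Mathlib
import Groth.Prelude.Def_EtBase
import Groth.Agent.Helper3.StrictHensSec
import Groth.Agent.Helper9.FPSpread

/-! Étale morphisms to a scheme with a strictly henselian local ring at `s` admit a section over a
Zariski neighbourhood of `s` through any prescribed point over `s`. -/

set_option autoImplicit false
set_option linter.style.haveILetI false
universe u

open CategoryTheory CategoryTheory.Limits Opposite AlgebraicGeometry

namespace Groth.Agent.Helper9.StrictHensNbhd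

variable {S V : Scheme.{u}} (g : V ⟶ S)

set_option backward.isDefEq.respectTransparency.types false in
/-- spreading out a morphism from the spectrum of the local ring at `s` to a neighbourhood -/
theorem exists_spread [LocallyOfFinitePresentation g] (s : S)
    (τ : Spec (S.presheaf.stalk s) ⟶ V) (hτ : τ ≫ g = S.fromSpecStalk s) :
    ∃ (W : S.Opens) (hs : s ∈ W) (σ : W.toScheme ⟶ V), σ ≫ g = W.ι ∧
      σ ⟨s, hs⟩ = τ (IsLocalRing.closedPoint _) := by
  set v := τ (IsLocalRing.closedPoint (S.presheaf.stalk s)) with hv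
  have hgv : g v = s := by
    have : (τ ≫ g) (IsLocalRing.closedPoint (S.presheaf.stalk s)) = s := by
      rw [hτ]; exact Scheme.fromSpecStalk_closedPoint
    exact this
  obtain ⟨_, ⟨S0, hS0, rfl⟩, hsS0, -⟩ := S.isBasis_affineOpens.exists_subset_of_mem_open
    (Set.mem_univ s) isOpen_univ
  have hvS0 : v ∈ g ⁻¹ᵁ S0 := by show g v ∈ S0; rw [hgv]; exact hsS0
  obtain ⟨_, ⟨V0, hV0, rfl⟩, hvV0, hV0S0⟩ := V.isBasis_affineOpens.exists_subset_of_mem_open
    hvS0 (g ⁻¹ᵁ S0).isOpen
  have e : V0 ≤ g ⁻¹ᵁ S0 := hV0S0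
  let ρ : Γ(S, S0) ⟶ Γ(V, V0) := g.appLE S0 V0 e
  have hρ : ρ.hom.FinitePresentation :=
    HasRingHomProperty.appLE (P := @LocallyOfFinitePresentation) g inferInstance
      ⟨S0, hS0⟩ ⟨V0, hV0⟩ e
  let β : Γ(V, V0) ⟶ S.presheaf.stalk s :=
    V.presheaf.germ V0 v hvV0 ≫ Scheme.stalkClosedPointTo τ
  have hβ : Spec.map β ≫ hV0.fromSpec = τ := by
    rw [Spec.map_comp, Category.assoc]
    have : Spec.map (V.presheaf.germ V0 v hvV0) ≫ hV0.fromSpec = V.fromSpecStalk v :=
      hV0.fromSpecStalk_eq_fromSpecStalk hvV0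
    rw [this]
    exact Scheme.Spec_stalkClosedPointTo_fromSpecStalk τ
  let γ : Γ(S, S0) ⟶ S.presheaf.stalk s := S.presheaf.germ S0 s hsS0
  have hS0' : IsAffineOpen S0 := hS0
  haveI : IsOpenImmersion hS0'.fromSpec := hS0'.isOpenImmersion_fromSpec
  have hργ : ρ ≫ β = γ := by
    apply Spec.map_injective
    rw [← cancel_mono hS0.fromSpec, Spec.map_comp, Category.assoc,
      hS0.SpecMap_appLE_fromSpec g hV0 e, ← Category.assoc, hβ, hτ]
    exact (hS0.fromSpecStalk_eq_fromSpecStalk hsS0).symm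
  letI : Algebra Γ(S, S0) Γ(V, V0) := ρ.hom.toAlgebra
  haveI : Algebra.FinitePresentation Γ(S, S0) Γ(V, V0) := hρ
  letI : Algebra Γ(S, S0) (S.presheaf.stalk s) := γ.hom.toAlgebra
  haveI hloc : IsLocalization.AtPrime (S.presheaf.stalk s)
      (hS0.primeIdealOf ⟨s, hsS0⟩).asIdeal := hS0.isLocalization_stalk ⟨s, hsS0⟩
  let φ : Γ(V, V0) →ₐ[Γ(S, S0)] (S.presheaf.stalk s) :=
    { β.hom with
      commutes' := fun r => by
        show β.hom (ρ.hom r) = γ.hom r
        rw [← hργ]; rfl }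
  obtain ⟨f, hfM, hf⟩ := Groth.Agent.Helper9.FPSpread.exists_lift
    (hS0.primeIdealOf ⟨s, hsS0⟩).asIdeal.primeCompl Γ(V, V0) φ
  have hD : IsAffineOpen (S.basicOpen f) := hS0.basicOpen f
  have hsD : s ∈ S.basicOpen f := by
    rw [Scheme.mem_basicOpen S f s hsS0]
    exact IsLocalization.map_units (S.presheaf.stalk s)
      (⟨f, hfM⟩ : (hS0.primeIdealOf ⟨s, hsS0⟩).asIdeal.primeCompl)
  haveI := hS0.isLocalization_basicOpen f
  let ι : Γ(S, S.basicOpen f) →ₐ[Γ(S, S0)] (S.presheaf.stalk s) :=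
    { (S.presheaf.germ (S.basicOpen f) s hsD).hom with
      commutes' := fun r => by
        show (S.presheaf.germ (S.basicOpen f) s hsD).hom
          ((S.presheaf.map (homOfLE (S.basicOpen_le f)).op).hom r) = γ.hom r
        exact TopCat.Presheaf.germ_res_apply S.presheaf (homOfLE (S.basicOpen_le f)) s hsD r }
  obtain ⟨ψ, hψ⟩ := hf Γ(S, S.basicOpen f) ι
  let ψr : Γ(V, V0) ⟶ Γ(S, S.basicOpen f) := CommRingCat.ofHom ψ.toRingHom
  have h1 : ρ ≫ ψr = S.presheaf.map (homOfLE (S.basicOpen_le f)).op := by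
    ext r
    exact ψ.commutes r
  have h2 : ψr ≫ S.presheaf.germ (S.basicOpen f) s hsD = β := by
    ext b
    exact AlgHom.congr_fun hψ b
  let σT : Spec Γ(S, S.basicOpen f) ⟶ V := Spec.map ψr ≫ hV0.fromSpec
  have hσT : σT ≫ g = hD.fromSpec := by
    rw [Category.assoc, ← hS0.SpecMap_appLE_fromSpec g hV0 e, ← Category.assoc, ← Spec.map_comp,
      h1]
    exact hS0.map_fromSpec hD _
  refine ⟨S.basicOpen f, hsD, hD.isoSpec.hom ≫ σT, ?_, ?_⟩
  · rw [Category.assoc, hσT]
    exact hD.isoSpec_hom_fromSpec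
  · have h3 : Spec.map (S.presheaf.germ (S.basicOpen f) s hsD) ≫ σT = τ := by
      rw [← Category.assoc, ← Spec.map_comp, h2, hβ]
    have h4 : hD.isoSpec.hom ⟨s, hsD⟩ = Spec.map (S.presheaf.germ (S.basicOpen f) s hsD)
        (IsLocalRing.closedPoint (S.presheaf.stalk s)) :=
      hD.primeIdealOf_eq_map_closedPoint ⟨s, hsD⟩
    show σT (hD.isoSpec.hom ⟨s, hsD⟩) = v
    rw [h4]
    exact congrArg (fun q : Spec (S.presheaf.stalk s) ⟶ V =>
      q (IsLocalRing.closedPoint (S.presheaf.stalk s))) h3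

set_option backward.isDefEq.respectTransparency.types false in
/-- a morphism from the spectrum of the strictly henselian local ring at `s` through `v` -/
theorem exists_tau [Etale g] (s : S) [HenselianLocalRing (S.presheaf.stalk s)]
    [IsSepClosed (IsLocalRing.ResidueField (S.presheaf.stalk s))] (v : V) (hv : g v = s) :
    ∃ τ : Spec (S.presheaf.stalk s) ⟶ V, τ ≫ g = S.fromSpecStalk s ∧
      τ (IsLocalRing.closedPoint _) = v := by
  let c : Spec (S.presheaf.stalk s) ⟶ S := S.fromSpecStalk s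
  have hc : c (IsLocalRing.closedPoint (S.presheaf.stalk s)) = s :=
    Scheme.fromSpecStalk_closedPoint
  obtain ⟨p, hp1, hp2⟩ := Scheme.Pullback.exists_preimage_pullback (f := g) (g := c) v
    (IsLocalRing.closedPoint (S.presheaf.stalk s)) (hv.trans hc.symm)
  have key := Groth.Agent.Helper3.StrictHensSec.exists_section_through (S.presheaf.stalk s)
  obtain ⟨u, hu1, hu2⟩ := key (pullback g c) (pullback.snd g c) p hp2
  refine ⟨u ≫ pullback.fst g c, ?_, ?_⟩
  · rw [Category.assoc, pullback.condition, ← Category.assoc]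
    have : u ≫ pullback.snd g c = 𝟙 _ := hu1
    rw [this]
    exact Category.id_comp c
  · rw [Scheme.Hom.comp_apply]
    have : u (IsLocalRing.closedPoint (S.presheaf.stalk s)) = p := hu2
    rw [this, hp1]

/-- Étale morphisms to a scheme whose local ring at `s` is strictly henselian have sections over
a Zariski neighbourhood of `s` through any given point over `s`. -/
theorem exists_section_nbhd [Etale g] (s : S)
    (hs : EtCoh.IsStrictlyHenselianLocalRing (S.presheaf.stalk s)) (v : V) (hv : g v = s) :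
    ∃ (W : S.Opens) (hsW : s ∈ W) (σ : W.toScheme ⟶ V), σ ≫ g = W.ι ∧ σ ⟨s, hsW⟩ = v := by
  obtain ⟨h1, h2⟩ := hs
  obtain ⟨τ, hτ1, hτ2⟩ := exists_tau g s v hv
  obtain ⟨W, hsW, σ, hσ1, hσ2⟩ := exists_spread g s τ hτ1
  exact ⟨W, hsW, σ, hσ1, hσ2.trans hτ2⟩

end Groth.Agent.Helper9.StrictHensNbhd
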