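import Mathlib
import Groth.Prelude.Def_EtZar
import Groth.Agent.Helper9.StrictHensNbhd
import Groth.Agent.Helper9.EtAlmostCocont
import Groth.Agent.Helper9.EtPropA

/-! If all local rings of `S` are strictly henselian, the Zariski site of `S` is a dense subsite
of the small étale site. -/

set_option autoImplicit false
set_option linter.style.haveILetI false
universe u

open CategoryTheory CategoryTheory.Limits Opposite AlgebraicGeometry TopologicalSpace

namespace Groth.Agent.Helper9.ZarEtDense

variable (S : Scheme.{u})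

set_option backward.isDefEq.respectTransparency.types false in
lemma left_comp_ι {U V : S.Opens} (f : (EtZar.zarToEt S).obj U ⟶ (EtZar.zarToEt S).obj V) :
    (show U.toScheme ⟶ V.toScheme from f.left) ≫ V.ι = U.ι :=
  MorphismProperty.Over.w f

set_option backward.isDefEq.respectTransparency.types false in
lemma le_of_hom {U V : S.Opens} (f : (EtZar.zarToEt S).obj U ⟶ (EtZar.zarToEt S).obj V) :
    U ≤ V := by
  intro x hx
  have h := left_comp_ι S f
  have h2 := congrArg (fun q : U.toScheme ⟶ S => q ⟨x, hx⟩) h
  simp only [Scheme.Hom.comp_apply] at h2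
  have h3 : U.ι ⟨x, hx⟩ = x := rfl
  rw [h3] at h2
  exact h2 ▸ ((show U.toScheme ⟶ V.toScheme from f.left) ⟨x, hx⟩).2

instance : (EtZar.zarToEt S).Faithful where
  map_injective _ := Subsingleton.elim _ _

set_option backward.isDefEq.respectTransparency.types false in
instance : (EtZar.zarToEt S).Full where
  map_surjective {U V} f := by
    refine ⟨homOfLE (le_of_hom S f), ?_⟩
    apply MorphismProperty.Over.Hom.ext
    have h := left_comp_ι S f
    show (S.homOfLE (le_of_hom S f) : U.toScheme ⟶ V.toScheme) = f.left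
    apply (cancel_mono V.ι).1
    refine Eq.trans ?_ h.symm
    exact S.homOfLE_ι _

set_option backward.isDefEq.respectTransparency.types false in
theorem isCoverDense
    (hS : ∀ s : S, EtCoh.IsStrictlyHenselianLocalRing (S.presheaf.stalk s)) :
    (EtZar.zarToEt S).IsCoverDense S.smallEtaleTopology where
  is_cover U := by
    rw [Groth.Agent.Helper9.EtAlmostCocont.mem_iff]
    intro x
    have : Etale U.hom := U.prop
    obtain ⟨W, hsW, σ, hσ1, hσ2⟩ :=
      Groth.Agent.Helper9.StrictHensNbhd.exists_section_nbhd U.hom (U.hom x) (hS _) x rfl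
    let g : (EtZar.zarToEt S).obj W ⟶ U := MorphismProperty.Over.homMk σ hσ1 trivial
    refine ⟨(EtZar.zarToEt S).obj W, g, ⟨U.hom x, hsW⟩, ?_, ?_, hσ2⟩
    · exact Presieve.in_coverByImage _ g
    · exact Groth.Agent.Helper9.EtPropA.etale_left g

set_option backward.isDefEq.respectTransparency.types false in
theorem functorPushforward_mem_iff {U : S.Opens} {R : Sieve U} :
    R.functorPushforward (EtZar.zarToEt S) ∈ S.smallEtaleTopology ((EtZar.zarToEt S).obj U) ↔
      R ∈ Opens.grothendieckTopology S U := by
  rw [Groth.Agent.Helper9.EtAlmostCocont.mem_iff]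
  constructor
  · intro h x hx
    obtain ⟨V, g, v, ⟨W, w, a, hw, hg⟩, -, hv⟩ := h ⟨x, hx⟩
    refine ⟨W, w, hw, ?_⟩
    have h1 : g.left v = (S.homOfLE w.le : W.toScheme ⟶ U.toScheme) (a.left v) := by
      rw [hg]; rfl
    rw [hv] at h1
    have h2 : x = ((S.homOfLE w.le : W.toScheme ⟶ U.toScheme) (a.left v)).1 :=
      congrArg Subtype.val h1
    rw [h2, Scheme.homOfLE_apply]
    exact ((show W.toScheme from a.left v)).2
  · intro h x
    obtain ⟨W, w, hw, hxW⟩ := h x.1 x.2
    refine ⟨(EtZar.zarToEt S).obj W, (EtZar.zarToEt S).map w, ⟨x.1, hxW⟩,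
      Sieve.image_mem_functorPushforward _ _ hw, ?_, ?_⟩
    · exact Groth.Agent.Helper9.EtPropA.etale_left _
    · exact Scheme.homOfLE_apply' w.le x.1 hxW

theorem isDenseSubsite
    (hS : ∀ s : S, EtCoh.IsStrictlyHenselianLocalRing (S.presheaf.stalk s)) :
    (EtZar.zarToEt S).IsDenseSubsite (Opens.grothendieckTopology S) S.smallEtaleTopology where
  isCoverDense' := isCoverDense S hS
  functorPushforward_mem_iff := functorPushforward_mem_iff S

end Groth.Agent.Helper9.ZarEtDense
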