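import Mathlib
import Groth.Prelude.Def_EtZar
import Groth.Agent.Helper9.ZarEtDense
import Groth.Agent.Helper9.BigSiteCohGen

/-! If all local rings of `S` are strictly henselian, restriction to the Zariski site is an
equivalence and étale cohomology agrees with Zariski cohomology. -/

set_option autoImplicit false
set_option linter.style.haveILetI false
universe u

open CategoryTheory CategoryTheory.Limits Opposite AlgebraicGeometry TopologicalSpace

namespace Groth.Agent.Helper9.ZarEtCoh

variable (S : Scheme.{u})

instance (X : S.Etaleᵒᵖ) :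
    HasLimitsOfShape (StructuredArrow X (EtZar.zarToEt S).op) AddCommGrpCat.{u + 1} := by
  haveI : HasLimitsOfSize.{u, u} AddCommGrpCat.{u + 1} :=
    hasLimitsOfSizeShrink.{u, u, u + 1, u + 1} _
  infer_instance

theorem isEquivalence_resZar
    (hS : ∀ s : S, EtCoh.IsStrictlyHenselianLocalRing (S.presheaf.stalk s)) [EtZar.ZarCont S] :
    (EtZar.resZar S).IsEquivalence := by
  haveI := Groth.Agent.Helper9.ZarEtDense.isDenseSubsite S hS
  exact inferInstanceAs ((EtZar.zarToEt S).sheafPushforwardContinuous AddCommGrpCat.{u + 1}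
    (Opens.grothendieckTopology S) S.smallEtaleTopology).IsEquivalence

set_option backward.isDefEq.respectTransparency.types false in
/-- the image of the whole space is terminal in the small étale site -/
noncomputable def isTerminalZarTop : IsTerminal ((EtZar.zarToEt S).obj ⊤) := by
  refine IsTerminal.ofUniqueHom
    (fun X => MorphismProperty.Over.homMk (X.hom ≫ S.topIso.inv)
      (by
        show (X.hom ≫ S.topIso.inv) ≫ (⊤ : S.Opens).ι = X.hom
        exact (Category.assoc _ _ _).trans ((congrArg (fun t => X.hom ≫ t) S.toIso_inv_ι).trans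
          (Category.comp_id _))) trivial) ?_
  intro X m
  apply MorphismProperty.Over.Hom.ext
  let ml : X.left ⟶ (⊤ : S.Opens).toScheme := m.left
  have h : ml ≫ (⊤ : S.Opens).ι = X.hom := MorphismProperty.Over.w m
  show ml = X.hom ≫ S.topIso.inv
  calc ml = ml ≫ 𝟙 _ := (Category.comp_id _).symm
    _ = ml ≫ ((⊤ : S.Opens).ι ≫ S.topIso.inv) := by rw [S.ι_toIso_inv]
    _ = (ml ≫ (⊤ : S.Opens).ι) ≫ S.topIso.inv := (Category.assoc _ _ _).symm
    _ = X.hom ≫ S.topIso.inv := by rw [h]

theorem main (hS : ∀ s : S, EtCoh.IsStrictlyHenselianLocalRing (S.presheaf.stalk s))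
    [EtZar.ZarCont S] (F : EtCoh.Ab S) (i : ℕ) :
    Nonempty (EtCoh.H S F i ≃+ EtZar.H ((EtZar.resZar S).obj F) i) := by
  haveI := isEquivalence_resZar S hS
  haveI : PreservesFiniteLimits (EtZar.resZar S) := inferInstance
  haveI : PreservesFiniteColimits (EtZar.resZar S) := inferInstance
  have hinj : ∀ (I : EtCoh.Ab S) [Injective I], Injective ((EtZar.resZar S).obj I) := by
    intro I _
    exact Injective.injective_of_adjoint (EtZar.resZar S).asEquivalence.symm.toAdjunction I
  obtain ⟨e⟩ := Groth.Agent.Helper9.BigSiteCohGen.nonempty_addEquiv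
    (Opens.grothendieckTopology S) S.smallEtaleTopology (EtZar.zarToEt S)
    (tC := (⊤ : S.Opens)) Limits.isTerminalTop (isTerminalZarTop S) hinj i F
  exact ⟨e.symm⟩

end Groth.Agent.Helper9.ZarEtCoh
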