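import Mathlib
import Groth.Prelude.Def_EtBase
import Groth.Agent.Helper9.StalkFinA
import Groth.Agent.Helper9.GeomSep

/-! Étale neighbourhoods of a geometric point obtained by adjoining a root of a standard étale
pair over an affine étale neighbourhood. -/

set_option autoImplicit false
set_option linter.style.haveILetI false
universe u

open CategoryTheory CategoryTheory.Limits Opposite AlgebraicGeometry Polynomial

namespace Groth.Agent.Helper9.RootCover

open Groth.Agent.Helper9.StalkFinA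

section Affine

variable {S : Scheme.{u}} [IsAffine S] (P : StandardEtalePair Γ(S, ⊤))

/-- the spectrum of the standard étale algebra, mapping to `S` -/
noncomputable def q : Spec (CommRingCat.of P.Ring) ⟶ S :=
  Spec.map (CommRingCat.ofHom (algebraMap Γ(S, ⊤) P.Ring)) ≫ S.isoSpec.inv

instance : Etale (q P) := by
  unfold q
  have : Etale (Spec.map (CommRingCat.ofHom (algebraMap Γ(S, ⊤) P.Ring))) := by
    rw [HasRingHomProperty.Spec_iff (P := @Etale)]
    exact (RingHom.etale_algebraMap).2 inferInstance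
  infer_instance

lemma q_appTop : (q P).appTop =
    CommRingCat.ofHom (algebraMap Γ(S, ⊤) P.Ring) ≫ (Scheme.ΓSpecIso (CommRingCat.of P.Ring)).inv := by
  unfold q
  rw [Scheme.Hom.comp_appTop, Scheme.ΓSpecIso_inv_naturality]
  congr 1
  have h1 : S.isoSpec.hom.appTop = (Scheme.ΓSpecIso Γ(S, ⊤)).hom := Scheme.toSpecΓ_appTop S
  have h2 : S.isoSpec.inv.appTop ≫ S.isoSpec.hom.appTop = 𝟙 _ := by
    rw [← Scheme.Hom.comp_appTop, Iso.hom_inv_id]
    rfl
  rw [h1] at h2
  exact (Iso.comp_hom_eq_id _).1 h2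

/-- the tautological root -/
noncomputable def t : Γ(Spec (CommRingCat.of P.Ring), ⊤) :=
  (Scheme.ΓSpecIso (CommRingCat.of P.Ring)).inv P.X

lemma eval_t (r : Γ(S, ⊤)[X]) :
    (r.map (q P).appTop.hom).eval (t P) =
      (Scheme.ΓSpecIso (CommRingCat.of P.Ring)).inv (aeval P.X r) := by
  rw [q_appTop]
  unfold t
  rw [CommRingCat.hom_comp, ← Polynomial.map_map, Polynomial.eval_map, Polynomial.eval₂_hom,
    Polynomial.eval_map]
  rfl

lemma eval_t_f : ((P.f).map (q P).appTop.hom).eval (t P) = 0 := by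
  rw [eval_t, P.hasMap_X.1, map_zero]

lemma isUnit_eval_t_g : IsUnit (((P.g).map (q P).appTop.hom).eval (t P)) := by
  rw [eval_t]
  exact P.hasMap_X.2.map _


/-- lifting a field-valued point to the standard étale algebra, given a root -/
theorem exists_lift {Ω : Type u} [Field Ω] (l : Spec (CommRingCat.of Ω) ⟶ S) (x : Ω)
    (hx1 : ((P.f).map (l.appTop ≫ (Scheme.ΓSpecIso (CommRingCat.of Ω)).hom).hom).eval x = 0)
    (hx2 : ((P.g).map (l.appTop ≫ (Scheme.ΓSpecIso (CommRingCat.of Ω)).hom).hom).eval x ≠ 0) :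
    ∃ v : Spec (CommRingCat.of Ω) ⟶ Spec (CommRingCat.of P.Ring), v ≫ q P = l := by
  obtain ⟨ρ, hρ⟩ : ∃ ρ : Γ(S, ⊤) ⟶ CommRingCat.of Ω,
    ρ = l.appTop ≫ (Scheme.ΓSpecIso (CommRingCat.of Ω)).hom := ⟨_, rfl⟩
  rw [← hρ] at hx1 hx2
  letI : Algebra Γ(S, ⊤) Ω := ρ.hom.toAlgebra
  have hm : P.HasMap x := by
    constructor
    · rw [Polynomial.aeval_def, Polynomial.eval₂_eq_eval_map]
      exact hx1
    · rw [Polynomial.aeval_def, Polynomial.eval₂_eq_eval_map]
      exact IsUnit.mk0 _ hx2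
  let ψ : P.Ring →ₐ[Γ(S, ⊤)] Ω := P.lift x hm
  have hψ : CommRingCat.ofHom (algebraMap Γ(S, ⊤) P.Ring) ≫ CommRingCat.ofHom ψ.toRingHom = ρ := by
    ext a
    exact ψ.commutes a
  refine ⟨Spec.map (CommRingCat.ofHom ψ.toRingHom), ?_⟩
  apply ext_of_isAffine
  rw [Scheme.Hom.comp_appTop, q_appTop, Category.assoc, ← Scheme.ΓSpecIso_inv_naturality,
    ← Category.assoc, hψ, hρ, Category.assoc, Iso.hom_inv_id, Category.comp_id]

end Affine


section Site

variable {X : Scheme.{u}} {Ω : Type u} [Field Ω] [IsSepClosed Ω]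
  (ξ : Spec (CommRingCat.of Ω) ⟶ X)

set_option backward.isDefEq.respectTransparency.types false in
/-- adjoining a root of a standard étale pair: an étale neighbourhood of the geometric point -/
theorem exists_nbhd (U : X.Etale) [IsAffine U.left] (P : StandardEtalePair Γ(U.left, ⊤))
    (l : (Scheme.pointSmallEtale ξ).fiber.obj U) (x : Ω)
    (hx1 : ((P.f).map ((ptLeft l).appTop ≫
      (Scheme.ΓSpecIso (CommRingCat.of Ω)).hom).hom).eval x = 0)
    (hx2 : ((P.g).map ((ptLeft l).appTop ≫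
      (Scheme.ΓSpecIso (CommRingCat.of Ω)).hom).hom).eval x ≠ 0) :
    ∃ (V : X.Etale) (a : V ⟶ U) (v : (Scheme.pointSmallEtale ξ).fiber.obj V) (t : Γ(V.left, ⊤)),
      (Scheme.pointSmallEtale ξ).fiber.map a v = l ∧
      ((P.f).map a.left.appTop.hom).eval t = 0 ∧
      IsUnit (((P.g).map a.left.appTop.hom).eval t) := by
  obtain ⟨v₀, hv₀⟩ := exists_lift P (ptLeft l) x hx1 hx2
  have hU : Etale U.hom := U.prop
  let V : X.Etale := Scheme.Etale.mk (q P ≫ U.hom)
  let a : V ⟶ U := MorphismProperty.Over.homMk (q P) rfl trivial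
  have hv : v₀ ≫ V.hom = ξ := by
    show v₀ ≫ q P ≫ U.hom = ξ
    rw [← Category.assoc, hv₀]
    exact ptLeft_w l
  refine ⟨V, a, mkPt ξ v₀ hv, t P, ?_, eval_t_f P, isUnit_eval_t_g P⟩
  apply pt_ext
  rw [ptLeft_map, ptLeft_mkPt]
  exact hv₀

set_option backward.isDefEq.respectTransparency.types false in
/-- shrinking an étale neighbourhood of a geometric point to an affine one -/
theorem exists_affine_nbhd (U : X.Etale) (l : (Scheme.pointSmallEtale ξ).fiber.obj U) :
    ∃ (U' : X.Etale) (_ : IsAffine U'.left) (ι : U' ⟶ U)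
      (l' : (Scheme.pointSmallEtale ξ).fiber.obj U'),
      (Scheme.pointSmallEtale ξ).fiber.map ι l' = l := by
  obtain ⟨W, hW, hmem, -⟩ := exists_isAffineOpen_mem_and_subset
    (x := (ptLeft l) default) (U := (⊤ : U.left.Opens)) trivial
  obtain ⟨z, hz⟩ := Groth.Agent.Helper9.GeomSep.exists_lift_open W (ptLeft l) hmem
  have hU : Etale U.hom := U.prop
  let U' : X.Etale := Scheme.Etale.mk (W.ι ≫ U.hom)
  let ι : U' ⟶ U := MorphismProperty.Over.homMk W.ι rfl trivial
  have hzw : z ≫ U'.hom = ξ := by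
    show z ≫ W.ι ≫ U.hom = ξ
    rw [← Category.assoc, hz]
    exact ptLeft_w l
  refine ⟨U', hW, ι, mkPt ξ z hzw, ?_⟩
  apply pt_ext
  rw [ptLeft_map, ptLeft_mkPt]
  exact hz

end Site

end Groth.Agent.Helper9.RootCover
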