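import Mathlib
import Groth.Prelude.Def_EtBase
import Groth.Prelude.Def_EtGm
import Groth.Prelude.Def_W4c5etcohweilstudentAS
import Groth.Agent.Helper9.RootCover
import Groth.Agent.Helper9.EtStalkExact

/-! The Artin–Schreier map `x ↦ x^p - x` on `G_a` is an epimorphism in characteristic `p`. -/

set_option autoImplicit false
set_option linter.style.haveILetI false
universe u

open CategoryTheory CategoryTheory.Limits Opposite AlgebraicGeometry Polynomial

namespace Groth.Agent.Helper9.ArtinSchreierEpi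

open Groth.Agent.Helper9.StalkFinA Groth.Agent.Helper9.RootCover

/-- the standard étale pair `(X^p - X - a, 1)` in characteristic `p` -/
noncomputable def pair {A : Type u} [CommRing A] (p : ℕ) (hp : p.Prime) (h0 : (p : A) = 0)
    (a : A) : StandardEtalePair A where
  f := X ^ p - X - C a
  monic_f := by
    have h1 : (X ^ p - X - C a : A[X]) = X ^ p - (X + C a) := by ring
    rw [h1]
    rcases subsingleton_or_nontrivial A with hA | hA
    · exact Subsingleton.elim _ _
    · apply monic_X_pow_sub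
      rw [degree_X_add_C]
      exact_mod_cast hp.one_lt
  g := 1
  cond := ⟨-1, 0, 0, by
    rw [derivative_sub, derivative_sub, derivative_X_pow, derivative_C, derivative_X, h0]
    simp⟩

set_option backward.isDefEq.respectTransparency.types false in
theorem main (p : ℕ) (hp : p.Prime) {S : Scheme.{u}} (h0 : (p : Γ(S, ⊤)) = 0) :
    Epi (W4c5etcohweilstudent.artinSchreierEndo S p hp h0) := by
  suffices h : Presheaf.IsLocallySurjective S.smallEtaleTopology
      (W4c5etcohweilstudent.artinSchreierEndo S p hp h0).hom by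
    exact Sheaf.epi_of_isLocallySurjective (W4c5etcohweilstudent.artinSchreierEndo S p hp h0)
  constructor
  intro U s
  apply Groth.Agent.Helper9.EtStalkExact.mem_of_forall_geomPt
  intro K _ _ ξ l
  obtain ⟨U', hU', ι, l', hl'⟩ := exists_affine_nbhd ξ U l
  obtain ⟨a₀, ha₀⟩ : ∃ a₀ : Γ(U'.left, ⊤), (EtCoh.Ga S).obj.map ι.op s =
      (ULift.up a₀ : ULift.{u + 1} Γ(U'.left, ⊤)) :=
    ⟨ULift.down ((EtCoh.Ga S).obj.map ι.op s), rfl⟩
  have h0A : (p : Γ(U'.left, ⊤)) = 0 := W4c5etcohweilstudent.natCast_eq_zero_etale p h0 U'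
  obtain ⟨ρ, hρ⟩ : ∃ ρ : Γ(U'.left, ⊤) ⟶ CommRingCat.of K,
    ρ = (ptLeft l').appTop ≫ (Scheme.ΓSpecIso (CommRingCat.of K)).hom := ⟨_, rfl⟩
  have h0K : (p : K) = 0 := by
    have := congrArg ρ.hom h0A
    simpa using this
  let P : StandardEtalePair Γ(U'.left, ⊤) := pair p hp h0A a₀
  -- a root in `K`
  have hdeg : (X ^ p - X - C (ρ.hom a₀) : K[X]).degree ≠ 0 := by
    have h1 : (X ^ p - X - C (ρ.hom a₀) : K[X]) = X ^ p - (X + C (ρ.hom a₀)) := by ring
    have h2 : (X + C (ρ.hom a₀) : K[X]).degree < ((X : K[X]) ^ p).degree := by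
      rw [degree_X_add_C, degree_X_pow]
      exact_mod_cast hp.one_lt
    rw [h1, degree_sub_eq_left_of_degree_lt h2, degree_X_pow]
    exact_mod_cast hp.ne_zero
  have hsep : (X ^ p - X - C (ρ.hom a₀) : K[X]).Separable := by
    rw [separable_def, derivative_sub, derivative_sub, derivative_X_pow, derivative_C,
      derivative_X, h0K]
    simp only [C_0, zero_mul, zero_sub, sub_zero]
    exact (isCoprime_one_right).neg_right
  obtain ⟨x, hx⟩ := IsSepClosed.exists_root _ hdeg hsep
  rw [IsRoot.def] at hx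
  obtain ⟨V, a, v, t, hv, ht1, -⟩ := exists_nbhd ξ U' P l' x
    (by rw [← hρ]; simpa [P, pair] using hx) (by rw [← hρ]; simp [P, pair])
  refine ⟨V, a ≫ ι, ?_, v, ?_⟩
  · have ht : t ^ p - t = a.left.appTop.hom a₀ := by
      have := ht1
      simp only [P, pair, Polynomial.map_sub, Polynomial.map_pow, Polynomial.map_X,
        Polynomial.map_C, eval_sub, eval_pow, eval_X, eval_C, sub_eq_zero] at this
      exact this
    refine ⟨(ULift.up t : ULift.{u + 1} Γ(V.left, ⊤)), ?_⟩
    have e1 : (EtCoh.Ga S).obj.map (a ≫ ι).op s =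
        (EtCoh.Ga S).obj.map a.op ((EtCoh.Ga S).obj.map ι.op s) := by
      rw [op_comp, Functor.map_comp]
      rfl
    rw [e1, ha₀]
    show (ULift.up (t ^ p - t) : ULift.{u + 1} Γ(V.left, ⊤)) =
      (ULift.up (a.left.appTop.hom a₀) : ULift.{u + 1} Γ(V.left, ⊤))
    rw [ht]
  · rw [Functor.map_comp]
    show (Scheme.pointSmallEtale ξ).fiber.map ι ((Scheme.pointSmallEtale ξ).fiber.map a v) = l
    rw [hv, hl']

end Groth.Agent.Helper9.ArtinSchreierEpi
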