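import Mathlib

/-! Coherence of `leftAdjointUniq` isomorphisms for composite adjunctions (abstract form of
"pull-back of constant sheaves is compatible with composition"). -/

set_option autoImplicit false
set_option linter.style.haveILetI false
universe v₁ v₂ v₃ v₄ u₁ u₂ u₃ u₄

namespace Groth.Agent.Helper9.AdjCoh

open CategoryTheory CategoryTheory.Adjunction

theorem ofNatIsoRight_unit_app {C : Type u₁} [Category.{v₁} C] {D : Type u₂} [Category.{v₂} D]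
    {F : C ⥤ D} {G H : D ⥤ C} (adj : F ⊣ G) (iso : G ≅ H) (X : C) :
    (adj.ofNatIsoRight iso).unit.app X = adj.unit.app X ≫ iso.hom.app (F.obj X) := by
  have := homEquiv_ofNatIsoRight_apply adj iso (𝟙 (F.obj X))
  rwa [Adjunction.homEquiv_id, Adjunction.homEquiv_id] at this

variable {𝒜 : Type u₁} [Category.{v₁} 𝒜] {𝒵 : Type u₂} [Category.{v₂} 𝒵]
  {𝒴 : Type u₃} [Category.{v₃} 𝒴] {𝒳 : Type u₄} [Category.{v₄} 𝒳]
  {CZ : 𝒜 ⥤ 𝒵} {ΓZ : 𝒵 ⥤ 𝒜} (cZ : CZ ⊣ ΓZ)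
  {CY : 𝒜 ⥤ 𝒴} {ΓY : 𝒴 ⥤ 𝒜} (cY : CY ⊣ ΓY)
  {CX : 𝒜 ⥤ 𝒳} {ΓX : 𝒳 ⥤ 𝒜} (cX : CX ⊣ ΓX)
  {Gs : 𝒵 ⥤ 𝒴} {Gp : 𝒴 ⥤ 𝒵} (ag : Gs ⊣ Gp)
  {Fs : 𝒴 ⥤ 𝒳} {Fp : 𝒳 ⥤ 𝒴} (af : Fs ⊣ Fp)
  {Hs : 𝒵 ⥤ 𝒳} {Hp : 𝒳 ⥤ 𝒵} (ah : Hs ⊣ Hp)
  (σg : Gp ⋙ ΓZ ≅ ΓY) (σf : Fp ⋙ ΓY ≅ ΓX) (σh : Hp ⋙ ΓZ ≅ ΓX) (κ : Fp ⋙ Gp ≅ Hp)

theorem main
    (hcoh : ∀ G : 𝒳, ΓZ.map (κ.hom.app G) ≫ σh.hom.app G =
      σg.hom.app (Fp.obj G) ≫ σf.hom.app G) (M : 𝒜) :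
    (leftAdjointUniq ah ((ag.comp af).ofNatIsoRight κ)).hom.app (CZ.obj M) ≫
      Fs.map ((leftAdjointUniq ((cZ.comp ag).ofNatIsoRight σg) cY).hom.app M) ≫
      (leftAdjointUniq ((cY.comp af).ofNatIsoRight σf) cX).hom.app M =
    (leftAdjointUniq ((cZ.comp ah).ofNatIsoRight σh) cX).hom.app M := by
  apply (((cZ.comp ah).ofNatIsoRight σh).homEquiv _ _).injective
  rw [homEquiv_leftAdjointUniq_hom_app, Adjunction.homEquiv_unit]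
  set pc := (leftAdjointUniq ah ((ag.comp af).ofNatIsoRight κ)).hom.app (CZ.obj M) with hpc
  set pg := (leftAdjointUniq ((cZ.comp ag).ofNatIsoRight σg) cY).hom.app M with hpg
  set pf := (leftAdjointUniq ((cY.comp af).ofNatIsoRight σf) cX).hom.app M with hpf
  -- key facts
  have kF : ((cY.comp af).ofNatIsoRight σf).unit.app M ≫ ΓX.map pf = cX.unit.app M :=
    unit_leftAdjointUniq_hom_app _ _ M
  have kG : ((cZ.comp ag).ofNatIsoRight σg).unit.app M ≫ ΓY.map pg = cY.unit.app M :=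
    unit_leftAdjointUniq_hom_app _ _ M
  have kC : ah.unit.app (CZ.obj M) ≫ Hp.map pc = ((ag.comp af).ofNatIsoRight κ).unit.app (CZ.obj M) :=
    unit_leftAdjointUniq_hom_app _ _ _
  rw [ofNatIsoRight_unit_app, Adjunction.comp_unit_app] at kF kG kC ⊢
  simp only [Functor.map_comp, Category.assoc, Functor.comp_obj] at kF kG kC ⊢
  have s1 : σh.hom.app (Hs.obj (CZ.obj M)) ≫ ΓX.map pc =
      ΓZ.map (Hp.map pc) ≫ σh.hom.app (Fs.obj (Gs.obj (CZ.obj M))) := (σh.hom.naturality pc).symm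
  have s2 : ΓZ.map (ah.unit.app (CZ.obj M)) ≫ ΓZ.map (Hp.map pc) =
      ΓZ.map (ag.unit.app (CZ.obj M)) ≫ ΓZ.map (Gp.map (af.unit.app (Gs.obj (CZ.obj M)))) ≫
        ΓZ.map (κ.hom.app (Fs.obj (Gs.obj (CZ.obj M)))) := by
    rw [← Functor.map_comp, kC, Functor.map_comp, Functor.map_comp]
  have s3 := hcoh (Fs.obj (Gs.obj (CZ.obj M)))
  have s4 : ΓZ.map (Gp.map (af.unit.app (Gs.obj (CZ.obj M)))) ≫
      σg.hom.app (Fp.obj (Fs.obj (Gs.obj (CZ.obj M)))) =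
      σg.hom.app (Gs.obj (CZ.obj M)) ≫ ΓY.map (af.unit.app (Gs.obj (CZ.obj M))) :=
    σg.hom.naturality (af.unit.app (Gs.obj (CZ.obj M)))
  have s5 : σf.hom.app (Fs.obj (Gs.obj (CZ.obj M))) ≫ ΓX.map (Fs.map pg) =
      ΓY.map (Fp.map (Fs.map pg)) ≫ σf.hom.app (Fs.obj (CY.obj M)) :=
    (σf.hom.naturality (Fs.map pg)).symm
  have s6 : ΓY.map (af.unit.app (Gs.obj (CZ.obj M))) ≫ ΓY.map (Fp.map (Fs.map pg)) =
      ΓY.map pg ≫ ΓY.map (af.unit.app (CY.obj M)) := by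
    rw [← Functor.map_comp, ← Functor.map_comp]
    exact congrArg ΓY.map (af.unit.naturality pg).symm
  rw [reassoc_of% s1, reassoc_of% s2, reassoc_of% s3, reassoc_of% s4, reassoc_of% s5,
    reassoc_of% s6, reassoc_of% kG, kF]

end Groth.Agent.Helper9.AdjCoh
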