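import Mathlib
import Groth.Prelude.Def_EtCore
import Groth.Prelude.Def_FinFr
import Groth.Agent.Helper9.AdjCoh
import Groth.Agent.Helper9.ExtNat

/-! Functoriality of the pull-back maps on étale cohomology with respect to composition. -/

set_option autoImplicit false
set_option linter.style.haveILetI false
universe u

namespace Groth.Agent.Helper9.HpullComp

open CategoryTheory CategoryTheory.Limits AlgebraicGeometry Opposite Abelian

variable {X Y Z : Scheme.{u}} (f : X ⟶ Y) (g : Y ⟶ Z)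

set_option backward.isDefEq.respectTransparency.types false in
theorem gsec_coh (G : EtCoh.Ab X) :
    (EtCore.gsec Z).map ((EtCoh.pushComp g f).hom.app G) ≫ (EtCore.pushGsecIso (f ≫ g)).hom.app G =
      (EtCore.pushGsecIso g).hom.app ((EtCoh.push f).obj G) ≫ (EtCore.pushGsecIso f).hom.app G := by
  have hterm : IsTerminal ((EtCoh.bc f).obj ((EtCoh.bc g).obj (EtCoh.top Z))) :=
    IsTerminal.isTerminalObj (EtCoh.bc f) _ (EtCore.bcTopIsTerminal g)
  let e : EtCoh.bc g ⋙ EtCoh.bc f ≅ EtCoh.bc (f ≫ g) :=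
    (MorphismProperty.Over.pullbackComp (P := EtCoh.etaleMP) (Q := ⊤) f g).symm
  show G.obj.map (e.inv.app (EtCoh.top Z)).op ≫ G.obj.map (EtCore.bcTopIso (f ≫ g)).inv.op =
    G.obj.map ((EtCoh.bc f).map (EtCore.bcTopIso g).inv).op ≫ G.obj.map (EtCore.bcTopIso f).inv.op
  rw [← Functor.map_comp, ← Functor.map_comp, ← op_comp, ← op_comp]
  congr 2
  exact hterm.hom_ext _ _

theorem pullConstIso_comp (M : AddCommGrpCat.{u + 1}) :
    (EtCore.pullComp f g).hom.app
        ((constantSheaf Z.smallEtaleTopology AddCommGrpCat.{u + 1}).obj M) ≫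
      (EtCoh.pull f).map ((EtCore.pullConstIso g).hom.app M) ≫ (EtCore.pullConstIso f).hom.app M =
    (EtCore.pullConstIso (f ≫ g)).hom.app M :=
  Groth.Agent.Helper9.AdjCoh.main (EtCore.constAdj Z) (EtCore.constAdj Y) (EtCore.constAdj X)
    (EtCoh.pullPushAdj g) (EtCoh.pullPushAdj f) (EtCoh.pullPushAdj (f ≫ g))
    (EtCore.pushGsecIso g) (EtCore.pushGsecIso f) (EtCore.pushGsecIso (f ≫ g))
    (EtCoh.pushComp g f) (gsec_coh f g) M

theorem pullConst_comp_inv (M : Type) [AddCommGroup M] :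
    (EtCore.pullConst f M).inv ≫ (EtCoh.pull f).map (EtCore.pullConst g M).inv ≫
      (EtCore.pullComp f g).inv.app (EtCoh.const Z M) = (EtCore.pullConst (f ≫ g) M).inv := by
  have h := pullConstIso_comp f g (AddCommGrpCat.of (ULift.{u + 1} M))
  rw [← cancel_mono (EtCore.pullConst (f ≫ g) M).hom, Iso.inv_hom_id]
  have h' : (EtCore.pullConst (f ≫ g) M).hom =
      (EtCore.pullComp f g).hom.app (EtCoh.const Z M) ≫
        (EtCoh.pull f).map (EtCore.pullConst g M).hom ≫ (EtCore.pullConst f M).hom := h.symm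
  rw [h']
  simp only [Category.assoc, Iso.inv_hom_id_app_assoc]
  rw [← Functor.map_comp_assoc, Iso.inv_hom_id, CategoryTheory.Functor.map_id, Category.id_comp, Iso.inv_hom_id]

theorem Hpull_comp [PreservesFiniteLimits (EtCoh.pull f)] [PreservesFiniteLimits (EtCoh.pull g)]
    [PreservesFiniteLimits (EtCoh.pull (f ≫ g))] (G : EtCoh.Ab Z) (n : ℕ) (x : EtCoh.H Z G n) :
    EtCore.Hpull (f ≫ g) G n x =
      Sheaf.H.map ((EtCore.pullComp f g).inv.app G) n
        (EtCore.Hpull f ((EtCoh.pull g).obj G) n (EtCore.Hpull g G n x)) := by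
  have hnat := Groth.Agent.Helper9.ExtNat.mapExactFunctor_natTrans
    (EtCoh.pull g ⋙ EtCoh.pull f) (EtCoh.pull (f ≫ g)) (EtCore.pullComp f g).inv n x
  have hcomp := Groth.Agent.Helper9.ExtNat.mapExactFunctor_comp_functor
    (EtCoh.pull g) (EtCoh.pull f) n x
  simp only [EtCore.Hpull, AddMonoidHom.coe_comp, AddMonoidHom.mk'_apply, Function.comp_apply,
    Functor.mapExtAddHom_apply, Sheaf.H.map_apply, Ext.mapExactFunctor_comp,
    Ext.mapExactFunctor_mk₀]
  rw [hcomp]
  rw [Ext.comp_assoc_of_third_deg_zero, Ext.comp_assoc_of_third_deg_zero]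
  erw [hnat]
  rw [← Ext.comp_assoc_of_second_deg_zero, ← Ext.comp_assoc_of_second_deg_zero,
    Ext.mk₀_comp_mk₀, Ext.mk₀_comp_mk₀, Category.assoc]
  erw [pullConst_comp_inv f g ℤ]

theorem HpullVia_Hpull {X Y Z : Scheme.{u}} (f : X ⟶ Y) (t : Y ⟶ Z) (f₀ : X ⟶ Z) (w : f ≫ t = f₀)
    [PreservesFiniteLimits (EtCoh.pull f)] [PreservesFiniteLimits (EtCoh.pull t)]
    [PreservesFiniteLimits (EtCoh.pull f₀)] (G : EtCoh.Ab Z) (p : ℕ) (x : EtCoh.H Z G p) :
    EtCore.HpullVia f t f₀ w G p (EtCore.Hpull t G p x) = EtCore.Hpull f₀ G p x := by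
  subst w
  have h := Hpull_comp f t G p x
  show Sheaf.H.map (((EtCore.pullComp f t).symm ≪≫ EtCore.pullCongr rfl).app G).hom p
    (EtCore.Hpull f _ p (EtCore.Hpull t G p x)) = _
  rw [h]
  congr 2

end Groth.Agent.Helper9.HpullComp
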