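import Groth.Agent.Helper9.FM2
import Mathlib

/-!
# Freyd–Mitchell toolkit for the homology of cochain complexes
-/

set_option autoImplicit false

namespace Groth.Agent.Helper9.FMH

open CategoryTheory CategoryTheory.Limits
open Groth.Agent.Helper9.FM

universe v u

variable {A : Type u} [Category.{v} A] [Abelian A]

variable (K : CochainComplex A ℤ) (n : ℤ)

theorem exact_iCycles_d :
    (ShortComplex.mk (K.iCycles n) (K.d n (n + 1)) (K.iCycles_d n (n + 1))).Exact :=
  ShortComplex.exact_of_f_is_kernel _ (K.cyclesIsKernel n (n + 1) (by simp))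

theorem exists_cycle (x : (F A).obj (K.X n)) (hx : m (K.d n (n + 1)) x = 0) :
    ∃ z : (F A).obj (K.cycles n), m (K.iCycles n) z = x :=
  (exact_iff _).1 (exact_iCycles_d K n) x hx

theorem iCycles_d_apply (z : (F A).obj (K.cycles n)) :
    m (K.d n (n + 1)) (m (K.iCycles n) z) = 0 := by
  rw [← m_comp_apply, K.iCycles_d]; simp

theorem iCycles_injective : Function.Injective (m (K.iCycles n)) :=
  (mono_iff _).1 inferInstance

theorem homologyπ_surjective : Function.Surjective (m (K.homologyπ n)) :=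
  (epi_iff _).1 inferInstance

theorem exact_toCycles_homologyπ :
    (ShortComplex.mk (K.toCycles (n - 1) n) (K.homologyπ n) (K.toCycles_comp_homologyπ _ _)).Exact :=
  ShortComplex.exact_of_g_is_cokernel _ (K.homologyIsCokernel (n - 1) n (by simp))

theorem homologyπ_eq_zero_iff (z : (F A).obj (K.cycles n)) :
    m (K.homologyπ n) z = 0 ↔
      ∃ y : (F A).obj (K.X (n - 1)), m (K.d (n - 1) n) y = m (K.iCycles n) z := by
  constructor
  · intro h
    obtain ⟨y, hy⟩ := (exact_iff _).1 (exact_toCycles_homologyπ K n) z h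
    refine ⟨y, ?_⟩
    have : m (K.toCycles (n - 1) n) y = z := hy
    rw [← this, ← m_comp_apply, K.toCycles_i]
  · rintro ⟨y, hy⟩
    have : m (K.toCycles (n - 1) n) y = z := by
      apply iCycles_injective K n
      rw [← m_comp_apply, K.toCycles_i, hy]
    rw [← this, ← m_comp_apply, K.toCycles_comp_homologyπ]; simp

/-- the homology class of a cocycle (given as an element of `K^n` killed by `d`) -/
noncomputable def cls (x : (F A).obj (K.X n)) (hx : m (K.d n (n + 1)) x = 0) :
    (F A).obj (K.homology n) :=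
  m (K.homologyπ n) (exists_cycle K n x hx).choose

theorem cls_eq {x : (F A).obj (K.X n)} (hx : m (K.d n (n + 1)) x = 0)
    (z : (F A).obj (K.cycles n)) (hz : m (K.iCycles n) z = x) :
    cls K n x hx = m (K.homologyπ n) z := by
  have : (exists_cycle K n x hx).choose = z := by
    apply iCycles_injective K n
    rw [(exists_cycle K n x hx).choose_spec, hz]
  rw [cls, this]

theorem exists_cls (h : (F A).obj (K.homology n)) :
    ∃ (x : (F A).obj (K.X n)) (hx : m (K.d n (n + 1)) x = 0), cls K n x hx = h := by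
  obtain ⟨z, rfl⟩ := homologyπ_surjective K n h
  exact ⟨m (K.iCycles n) z, iCycles_d_apply K n z, cls_eq K n _ z rfl⟩

theorem cls_eq_zero_iff {x : (F A).obj (K.X n)} (hx : m (K.d n (n + 1)) x = 0) :
    cls K n x hx = 0 ↔ ∃ y : (F A).obj (K.X (n - 1)), m (K.d (n - 1) n) y = x := by
  obtain ⟨z, hz⟩ := exists_cycle K n x hx
  rw [cls_eq K n hx z hz, homologyπ_eq_zero_iff, hz]

theorem cls_sub {x x' : (F A).obj (K.X n)} (hx : m (K.d n (n + 1)) x = 0)
    (hx' : m (K.d n (n + 1)) x' = 0) :
    cls K n x hx - cls K n x' hx' = cls K n (x - x') (by rw [map_sub, hx, hx', sub_self]) := by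
  obtain ⟨z, hz⟩ := exists_cycle K n x hx
  obtain ⟨z', hz'⟩ := exists_cycle K n x' hx'
  rw [cls_eq K n hx z hz, cls_eq K n hx' z' hz',
    cls_eq K n _ (z - z') (by rw [map_sub, hz, hz']), map_sub]

theorem cls_eq_cls_iff {x x' : (F A).obj (K.X n)} (hx : m (K.d n (n + 1)) x = 0)
    (hx' : m (K.d n (n + 1)) x' = 0) :
    cls K n x hx = cls K n x' hx' ↔
      ∃ y : (F A).obj (K.X (n - 1)), m (K.d (n - 1) n) y = x - x' := by
  rw [← sub_eq_zero, cls_sub, cls_eq_zero_iff]

variable {K} {L : CochainComplex A ℤ}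

theorem f_d_apply (φ : K ⟶ L) (x : (F A).obj (K.X n)) :
    m (L.d n (n + 1)) (m (φ.f n) x) = m (φ.f (n + 1)) (m (K.d n (n + 1)) x) := by
  rw [← m_comp_apply, ← m_comp_apply, φ.comm]

theorem homologyMap_cls (φ : K ⟶ L) {x : (F A).obj (K.X n)} (hx : m (K.d n (n + 1)) x = 0) :
    m (HomologicalComplex.homologyMap φ n) (cls K n x hx) =
      cls L n (m (φ.f n) x) (by rw [f_d_apply, hx]; simp) := by
  obtain ⟨z, hz⟩ := exists_cycle K n x hx
  rw [cls_eq K n hx z hz, ← m_comp_apply, HomologicalComplex.homologyπ_naturality, m_comp_apply]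
  symm
  apply cls_eq
  rw [← m_comp_apply, HomologicalComplex.cyclesMap_i, m_comp_apply, hz]

end Groth.Agent.Helper9.FMH
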