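import Mathlib
import Groth.Prelude.Def_Tors

set_option autoImplicit false
set_option linter.unusedSectionVars false

namespace Groth.Agent.Helper9.TorsTriv

open CategoryTheory CategoryTheory.Limits Opposite

universe u

variable {C : Type u} [SmallCategory C] {J : GrothendieckTopology C}
  {G : Sheaf J AddCommGrpCat.{u}} (T : Tors.Torsor G)

/-- a compatible family of sections gives a morphism from the final sheaf -/
theorem hasSection_of_family (s : ∀ U : Cᵒᵖ, T.P.obj.obj U)
    (hs : ∀ {U V : Cᵒᵖ} (f : U ⟶ V), T.P.obj.map f (s U) = s V) : T.HasSection := by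
  refine ⟨ObjectProperty.homMk
    { app := fun U => TypeCat.ofHom (fun _ => s U)
      naturality := ?_ }⟩
  intro U V f
  ext x
  exact (hs f).symm

/-- a morphism from the final sheaf gives a compatible family of sections -/
theorem family_of_hasSection (h : T.HasSection) :
    ∃ s : ∀ U : Cᵒᵖ, T.P.obj.obj U, ∀ {U V : Cᵒᵖ} (f : U ⟶ V), T.P.obj.map f (s U) = s V := by
  obtain ⟨σ⟩ := h
  let Gs := (sheafCompose J (forget AddCommGrpCat.{u})).obj G
  let τ : Gs ⟶ ⊤_ (Sheaf J (Type u)) := terminal.from Gs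
  let z : ∀ U : Cᵒᵖ, Gs.obj.obj U := fun U => (0 : G.obj.obj U)
  have hz : ∀ {U V : Cᵒᵖ} (f : U ⟶ V), Gs.obj.map f (z U) = z V := by
    intro U V f
    exact map_zero (G.obj.map f).hom
  refine ⟨fun U => σ.hom.app U (τ.hom.app U (z U)), ?_⟩
  intro U V f
  rw [← NatTrans.naturality_apply, ← NatTrans.naturality_apply, hz]

theorem isTrivial_of_family (s : ∀ U : Cᵒᵖ, T.P.obj.obj U)
    (hs : ∀ {U V : Cᵒᵖ} (f : U ⟶ V), T.P.obj.map f (s U) = s V) : T.IsTrivial := by
  let Gs := (sheafCompose J (forget AddCommGrpCat.{u})).obj G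
  have hbij : ∀ U : Cᵒᵖ, Function.Bijective (fun g : G.obj.obj U => T.vadd g (s U)) := by
    intro U
    constructor
    · intro g g' hgg
      obtain ⟨g₀, -, hun⟩ := T.free_transitive (s U) (T.vadd g (s U))
      rw [hun g rfl, hun g' hgg.symm]
    · intro p
      obtain ⟨g, hg, -⟩ := T.free_transitive (s U) p
      exact ⟨g, hg⟩
  have key : ∀ {U V : Cᵒᵖ} (f : U ⟶ V) (g : G.obj.obj U),
      T.vadd (G.obj.map f g) (s V) = T.P.obj.map f (T.vadd g (s U)) := by
    intro U V f g
    rw [T.map_vadd, hs]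
  let e : ∀ U : Cᵒᵖ, Gs.obj.obj U ≃ T.P.obj.obj U := fun U => Equiv.ofBijective _ (hbij U)
  have he : ∀ (U : Cᵒᵖ) (g : G.obj.obj U), e U g = T.vadd g (s U) := fun U g => rfl
  let φ₀ : Gs.obj ⟶ T.P.obj :=
    { app := fun U => TypeCat.ofHom (e U)
      naturality := by
        intro U V f
        ext g
        exact key f g }
  let ψ₀ : T.P.obj ⟶ Gs.obj :=
    { app := fun U => TypeCat.ofHom (e U).symm
      naturality := by
        intro U V f
        ext x
        apply (e V).injective
        change e V ((e V).symm (T.P.obj.map f x)) = e V (Gs.obj.map f ((e U).symm x))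
        rw [Equiv.apply_symm_apply]
        have h1 : e V (Gs.obj.map f ((e U).symm x)) = T.P.obj.map f (e U ((e U).symm x)) := by
          exact key f ((e U).symm x)
        rw [h1, Equiv.apply_symm_apply] }
  refine ⟨⟨ObjectProperty.homMk φ₀, ObjectProperty.homMk ψ₀, ?_, ?_⟩, ?_⟩
  · apply Sheaf.hom_ext
    ext U x
    change (e U).symm (e U x) = x
    exact Equiv.symm_apply_apply _ _
  · apply Sheaf.hom_ext
    ext U x
    change e U ((e U).symm x) = x
    exact Equiv.apply_symm_apply _ _
  · intro U g h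
    change e U (g + h) = T.vadd g (e U h)
    rw [he, he, T.add_vadd]

theorem family_of_isTrivial (h : T.IsTrivial) :
    ∃ s : ∀ U : Cᵒᵖ, T.P.obj.obj U, ∀ {U V : Cᵒᵖ} (f : U ⟶ V), T.P.obj.map f (s U) = s V := by
  obtain ⟨e, -⟩ := h
  refine ⟨fun U => e.hom.hom.app U (0 : G.obj.obj U), ?_⟩
  intro U V f
  change T.P.obj.map f (e.hom.hom.app U (0 : G.obj.obj U)) = e.hom.hom.app V (0 : G.obj.obj V)
  have h1 := NatTrans.naturality_apply e.hom.hom f (0 : G.obj.obj U)
  rw [← h1]
  congr 1
  exact map_zero (G.obj.map f).hom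

theorem isTrivial_iff_hasSection : T.IsTrivial ↔ T.HasSection := by
  constructor
  · intro h
    obtain ⟨s, hs⟩ := family_of_isTrivial T h
    exact hasSection_of_family T s hs
  · intro h
    obtain ⟨s, hs⟩ := family_of_hasSection T h
    exact isTrivial_of_family T s hs

end Groth.Agent.Helper9.TorsTriv
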