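import Mathlib
import Groth.Agent.Helper9.LanMono

/-! The counit `Lan_L (L ⋙ P) ⟶ P` is a monomorphism when the comma categories of `L` have locally
terminal families with at most one member and `P` inverts the structure maps of the members. -/

set_option autoImplicit false
set_option backward.isDefEq.respectTransparency false
universe t w v₁ v₂ v₃ u₁ u₂ u₃

open CategoryTheory CategoryTheory.Limits Opposite

namespace Groth.Agent.Helper9.LanCounitMono

open Groth.Agent.Helper9.LanMono

variable {C : Type u₁} [Category.{v₁} C] {D : Type u₂} [Category.{v₂} D] (L : C ⥤ D)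
  {A : Type u₃} [Category.{v₃} A] [HasZeroObject A] [HasZeroMorphisms A]
  [∀ F : C ⥤ A, L.HasLeftKanExtension F] [∀ F : C ⥤ A, L.HasPointwiseLeftKanExtension F]

lemma ι_counit (P : D ⥤ A) (Y : D) [HasColimitsOfShape (CostructuredArrow L Y) A]
    (f : CostructuredArrow L Y) :
    colimit.ι (CostructuredArrow.proj L Y ⋙ L ⋙ P) f ≫
      (L.leftKanExtensionObjIsoColimit (L ⋙ P) Y).inv ≫
        ((L.lanAdjunction A).counit.app P).app Y = P.map f.hom := by
  rw [Functor.ι_leftKanExtensionObjIsoColimit_inv_assoc]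
  have h1 : (L.leftKanExtension (L ⋙ P)).map f.hom ≫ ((L.lanAdjunction A).counit.app P).app Y =
      ((L.lanAdjunction A).counit.app P).app (L.obj f.left) ≫ P.map f.hom :=
    ((L.lanAdjunction A).counit.app P).naturality f.hom
  have h2 : (L.leftKanExtensionUnit (L ⋙ P)).app f.left ≫
      ((L.lanAdjunction A).counit.app P).app (L.obj f.left) = 𝟙 _ :=
    L.lanUnit_app_app_lanAdjunction_counit_app_app (H := A) P f.left
  rw [h1, ← Category.assoc]
  erw [h2]
  exact Category.id_comp _

theorem mono_counit_app (T : ∀ Y : D, LocTerm.{t} (CostructuredArrow L Y))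
    (hsub : ∀ Y, Subsingleton (T Y).ι)
    [∀ Y, HasColimitsOfShape (CostructuredArrow L Y) A]
    (P : D ⥤ A) (hiso : ∀ (Y : D) (i : (T Y).ι), IsIso (P.map ((T Y).obj i).hom)) (Y : D) :
    Mono (((L.lanAdjunction A).counit.app P).app Y) := by
  let e := L.leftKanExtensionObjIsoColimit (L ⋙ P) Y
  by_cases hne : Nonempty (T Y).ι
  · obtain ⟨i⟩ := hne
    haveI := hsub Y
    -- the member is terminal
    have hterm : IsTerminal ((T Y).obj i) :=
      IsTerminal.ofUniqueHom
        (fun k => (T Y).toObj k ≫ eqToHom (congrArg (T Y).obj (Subsingleton.elim _ _)))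
        (fun k m => (T Y).hom_unique _ _)
    haveI : IsIso (colimit.ι (CostructuredArrow.proj L Y ⋙ L ⋙ P) ((T Y).obj i)) :=
      isIso_ι_of_isTerminal hterm _
    haveI := hiso Y i
    have h := ι_counit L P Y ((T Y).obj i)
    have h2 : ((L.lanAdjunction A).counit.app P).app Y =
        e.hom ≫ inv (colimit.ι (CostructuredArrow.proj L Y ⋙ L ⋙ P) ((T Y).obj i)) ≫
          P.map ((T Y).obj i).hom := by
      rw [← h, IsIso.inv_hom_id_assoc, Iso.hom_inv_id_assoc]
    rw [h2]
    infer_instance
  · -- the comma category is empty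
    haveI : IsEmpty (CostructuredArrow L Y) := ⟨fun k => hne ⟨(T Y).idx k⟩⟩
    have hz : IsZero ((L.lan.obj (L ⋙ P)).obj Y) := by
      refine IsZero.of_iso ?_ e
      have hI : IsInitial (colimit (CostructuredArrow.proj L Y ⋙ L ⋙ P)) :=
        (isColimitEquivIsInitialOfIsEmpty A (colimit.cocone _)) (colimit.isColimit _)
      exact IsZero.of_iso (isZero_zero A) (hI.uniqueUpToIso HasZeroObject.zeroIsInitial)
    exact ⟨fun g h _ => hz.eq_of_tgt _ _⟩

end Groth.Agent.Helper9.LanCounitMono
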