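import Mathlib
import Groth.Prelude.Def_EtBase
import Groth.Prelude.Def_EtShriek2
import Groth.Agent.Helper9.EtShriekExact
import Groth.Agent.Helper9.EtShriekOpen
import Groth.Agent.Helper9.EtPushInj
import Groth.Agent.Helper9.LanCounitMono

/-! For a monomorphic étale `j` (an open immersion): the counit `j_! j⁻¹ G ⟶ G` is a monomorphism,
and the unit `I ⟶ j_* j⁻¹ I` is a split epimorphism for `I` injective. -/

set_option autoImplicit false
set_option backward.isDefEq.respectTransparency false
universe u

open CategoryTheory CategoryTheory.Limits Opposite AlgebraicGeometry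

namespace Groth.Agent.Helper9.EtCounitMono

open Groth.Agent.Helper9.EtShriekExact Groth.Agent.Helper9.LanMono

variable {U X : Scheme.{u}} (j : U ⟶ X) [hj : Etale j] [Mono j]

lemma subsingleton_idx (W : X.Etale) : Subsingleton (Idx j W) :=
  ⟨fun a b => Subtype.ext ((cancel_mono j).1 (a.2.trans b.2.symm))⟩

variable {j} in
/-- the inverse of the tautological map -/
noncomputable def tautInv {W : X.Etale} (φ : Idx j W) :
    (EtShriek.compEtale j).obj (VObj φ) ⟶ W :=
  MorphismProperty.Over.homMk (𝟙 W.left) (by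
    change 𝟙 W.left ≫ W.hom = φ.1 ≫ j
    rw [Category.id_comp]; exact φ.2.symm)

variable {j} in
lemma isIso_tautHom {W : X.Etale} (φ : Idx j W) : IsIso (tautHom φ) :=
  ⟨tautInv φ, by
    constructor
    · apply MorphismProperty.Over.Hom.ext
      change 𝟙 W.left ≫ 𝟙 W.left = 𝟙 W.left
      rw [Category.comp_id]
    · apply MorphismProperty.Over.Hom.ext
      change 𝟙 W.left ≫ 𝟙 W.left = 𝟙 W.left
      rw [Category.comp_id]⟩

/-- the presheaf-level counit is a monomorphism -/
theorem mono_lanCounit (P : X.Etaleᵒᵖ ⥤ AddCommGrpCat.{u + 1}) :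
    Mono (((L j).lanAdjunction AddCommGrpCat.{u + 1}).counit.app P) := by
  haveI : ∀ Y, Mono ((((L j).lanAdjunction AddCommGrpCat.{u + 1}).counit.app P).app Y) := by
    intro Y
    refine Groth.Agent.Helper9.LanCounitMono.mono_counit_app (L j) (locTerm' j)
      (fun Y => subsingleton_idx j Y.unop) P ?_ Y
    intro Y' φ
    haveI : IsIso (tautHom φ) := isIso_tautHom φ
    change IsIso (P.map (tautHom φ).op)
    infer_instance
  exact NatTrans.mono_of_mono_app _


section Sheaf

variable [EtShriek.JCont j]

/-- the counit `j_! j⁻¹ G ⟶ G` is a monomorphism -/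
theorem mono_jadj_counit (G : EtCoh.Ab X) : Mono ((jadj j).counit.app G) := by
  have h := Adjunction.map_restrictFullyFaithful_counit_app
    (L := jshriek j) (R := EtShriek.restrAlong j)
    (((L j).lanAdjunction AddCommGrpCat.{u + 1}).comp
      (sheafificationAdjunction X.smallEtaleTopology AddCommGrpCat.{u + 1}))
    (fullyFaithfulSheafToPresheaf U.smallEtaleTopology AddCommGrpCat.{u + 1})
    (Functor.FullyFaithful.id _) (Iso.refl _) (Iso.refl _) G
  haveI := mono_lanCounit j ((sheafToPresheaf X.smallEtaleTopology AddCommGrpCat.{u + 1}).obj G)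
  have h2 : (jadj j).counit.app G =
      (presheafToSheaf X.smallEtaleTopology AddCommGrpCat.{u + 1}).map
        (((L j).lanAdjunction AddCommGrpCat.{u + 1}).counit.app
          ((sheafToPresheaf X.smallEtaleTopology AddCommGrpCat.{u + 1}).obj G)) ≫
        (sheafificationAdjunction X.smallEtaleTopology AddCommGrpCat.{u + 1}).counit.app G := by
    refine h.trans ?_
    simp only [Iso.refl_inv, NatTrans.id_app, Functor.comp_map, Functor.id_obj,
      Adjunction.comp_counit_app]
    erw [CategoryTheory.Functor.map_id, CategoryTheory.Functor.map_id, Category.id_comp]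
  rw [h2]
  haveI : Mono ((presheafToSheaf X.smallEtaleTopology AddCommGrpCat.{u + 1}).map
      (((L j).lanAdjunction AddCommGrpCat.{u + 1}).counit.app
        ((sheafToPresheaf X.smallEtaleTopology AddCommGrpCat.{u + 1}).obj G))) :=
    (presheafToSheaf X.smallEtaleTopology AddCommGrpCat.{u + 1}).map_mono _
  infer_instance

end Sheaf

section Abstract

variable {𝒰 𝒳 : Type*} [Category 𝒰] [Category 𝒳]
  {Lsh : 𝒰 ⥤ 𝒳} {Rst : 𝒳 ⥤ 𝒰} {Psh : 𝒰 ⥤ 𝒳} (adj1 : Lsh ⊣ Rst) (adj2 : Rst ⊣ Psh)

/-- for an adjoint triple `j_! ⊣ j⁻¹ ⊣ j_*` with `j_! j⁻¹ G ⟶ G` monic, the unit `I ⟶ j_* j⁻¹ I` is a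
split epimorphism for `I` injective -/
theorem exists_section_unit (I : 𝒳) [Injective I]
    (hmono : Mono (adj1.counit.app (Psh.obj (Rst.obj I)))) :
    ∃ s : Psh.obj (Rst.obj I) ⟶ I, s ≫ adj2.unit.app I = 𝟙 _ := by
  let G := Psh.obj (Rst.obj I)
  let c : Rst.obj G ⟶ Rst.obj I := adj2.counit.app (Rst.obj I)
  let t : Lsh.obj (Rst.obj G) ⟶ I := (adj1.homEquiv (Rst.obj G) I).symm c
  let s : G ⟶ I := Injective.factorThru t (adj1.counit.app G)
  have hs : adj1.counit.app G ≫ s = t := Injective.comp_factorThru t (adj1.counit.app G)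
  refine ⟨s, ?_⟩
  apply (adj2.homEquiv G (Rst.obj I)).symm.injective
  have h1 : Rst.map s = c := by
    have h2 : adj1.homEquiv (Rst.obj G) I (adj1.counit.app G ≫ s) = Rst.map s := by
      rw [Adjunction.homEquiv_unit, Functor.map_comp, ← Category.assoc,
        adj1.right_triangle_components, Category.id_comp]
    rw [← h2, hs]
    exact (adj1.homEquiv (Rst.obj G) I).apply_symm_apply c
  rw [Adjunction.homEquiv_counit, Adjunction.homEquiv_counit, Functor.map_comp, Category.assoc,
    adj2.left_triangle_components, Category.comp_id, h1, CategoryTheory.Functor.map_id,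
    Category.id_comp]

end Abstract

end Groth.Agent.Helper9.EtCounitMono
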