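import Mathlib
import Groth.Prelude.Def_EtDual
import Groth.Agent.Helper9.EtCounitMono
import Groth.Agent.Helper1.FunLES
import Groth.Agent.Helper1.DeltaComp

/-! Étale local cohomology sheaves for an open immersion `j`:
`ℋ¹_Z ≅ coker(𝟭 ⟶ j_* j⁻¹)` and `ℋ^{p+1}_Z ≅ j⁻¹ ⋙ R^p j_*`. -/

set_option autoImplicit false
set_option backward.isDefEq.respectTransparency false
universe u

open CategoryTheory CategoryTheory.Limits Opposite AlgebraicGeometry

namespace Groth.Agent.Helper9.EtLocCohSeq

open Groth.Agent.Helper9.EtShriekExact Groth.Agent.Helper9.EtShriekOpen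
  Groth.Agent.Helper9.EtCounitMono

variable {U X : Scheme.{u}} (j : U ⟶ X) [IsOpenImmersion j]

/-- the unit `I ⟶ j_* j⁻¹ I` is an epimorphism for `I` injective -/
theorem epi_unitApp (I : EtCoh.Ab X) [Injective I] : Epi (EtDual.unitApp j I) := by
  obtain ⟨s, hs⟩ := exists_section_unit (jadj j) (sheafAdj j) I (mono_jadj_counit j _)
  have hepi : Epi ((sheafAdj j).unit.app I) := epi_of_epi_fac hs
  have h := Adjunction.unit_leftAdjointUniq_hom_app (EtCoh.pullPushAdj j) (sheafAdj j) I
  have h2 : EtDual.unitApp j I = (sheafAdj j).unit.app I ≫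
      inv ((EtCoh.push j).map (((EtCoh.pullPushAdj j).leftAdjointUniq (sheafAdj j)).hom.app I)) := by
    rw [← h, Category.assoc, IsIso.hom_inv_id, Category.comp_id]
  rw [h2]
  infer_instance


/-- the unit as a natural transformation -/
noncomputable abbrev β : 𝟭 (EtCoh.Ab X) ⟶ EtCoh.pull j ⋙ EtCoh.push j := (EtCoh.pullPushAdj j).unit

/-- the inclusion `Γ_Z ⟶ 𝟭` -/
noncomputable def α : EtDual.secSupp j ⟶ 𝟭 (EtCoh.Ab X) where
  app F := kernel.ι (EtDual.unitApp j F)
  naturality F G φ := by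
    dsimp only [EtDual.secSupp]
    exact kernel.lift_ι _ _ _

lemma w : α j ≫ β j = 0 := by
  ext F : 2
  exact kernel.condition (EtDual.unitApp j F)

instance : (EtCoh.pull j).Additive := (EtCoh.pullPushAdj j).left_adjoint_additive

instance : PreservesFiniteLimits (EtCoh.push j) := by
  haveI : PreservesLimitsOfSize.{u, u} (EtCoh.push j) :=
    (EtCoh.pullPushAdj j).rightAdjoint_preservesLimits
  exact PreservesLimitsOfSize.preservesFiniteLimits.{u, u} _

instance : PreservesFiniteColimits (EtCoh.pull j) := by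
  haveI : PreservesColimitsOfSize.{u, u} (EtCoh.pull j) :=
    (EtCoh.pullPushAdj j).leftAdjoint_preservesColimits
  exact PreservesColimitsOfSize.preservesFiniteColimits.{u, u} _

lemma shortExact_inj (I : EtCoh.Ab X) [Injective I] :
    (Groth.Agent.Helper1.FunLES.sc (α j) (β j) (w j) I).ShortExact :=
  { exact := ShortComplex.exact_of_f_is_kernel _ (kernelIsKernel (EtDual.unitApp j I))
    mono_f := by
      change Mono (kernel.ι (EtDual.unitApp j I))
      infer_instance
    epi_g := epi_unitApp j I }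

theorem main :
    Nonempty ((EtDual.secSupp j).rightDerived 1 ≅ cokernel (β j)) ∧
      ∀ p : ℕ, 1 ≤ p →
        Nonempty ((EtDual.secSupp j).rightDerived (p + 1) ≅
          EtCoh.pull j ⋙ (EtCoh.push j).rightDerived p) := by
  have h : ∀ (I : EtCoh.Ab X) [Injective I],
      (Groth.Agent.Helper1.FunLES.sc (α j) (β j) (w j) I).ShortExact := fun I _ => shortExact_inj j I
  have hG : ∀ (n : ℕ) (F : EtCoh.Ab X), IsZero (((𝟭 (EtCoh.Ab X)).rightDerived (n + 1)).obj F) :=
    fun n F => Groth.Agent.Helper1.FunLES.isZero_rightDerived_of_exact n F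
  refine ⟨Groth.Agent.Helper1.FunLES.nonempty_iso_cokernel (α j) (β j) (w j) h (hG 0), ?_⟩
  intro p hp
  obtain ⟨k, rfl⟩ : ∃ k, p = k + 1 := ⟨p - 1, by omega⟩
  have e1 := Groth.Agent.Helper1.FunLES.isoOfIsZero (α j) (β j) (w j) h (k + 1) (hG k) (hG (k + 1))
  have hR : ∀ S : ShortComplex (EtCoh.Ab X), S.ShortExact →
      (S.map (EtCoh.pull j)).ShortExact := fun S hS =>
    Groth.Agent.Helper1.DeltaFun.shortExact_map_of_exact _ S hS
  obtain ⟨e2⟩ := Groth.Agent.Helper1.DeltaFun.nonempty_iso_rightDerived_comp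
    (EtCoh.pull j) hR (EtCoh.push j) (EtCoh.pull j ⋙ EtCoh.push j) (Iso.refl _) (by
      intro I _ n
      haveI := Groth.Agent.Helper9.EtPushInj.injective_pull_of_etale j I
      exact Functor.isZero_rightDerived_obj_injective_succ _ n _) (k + 1)
  exact ⟨e1.symm ≪≫ e2⟩

end Groth.Agent.Helper9.EtLocCohSeq
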