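import Mathlib
import Groth.Prelude.Def_EtBase
import Groth.Prelude.Def_EtShriek2

/-! Extension by zero along an étale morphism commutes with pullback (S0649, S3120). -/

set_option autoImplicit false
set_option backward.isDefEq.respectTransparency false
universe u

open CategoryTheory CategoryTheory.Limits Opposite AlgebraicGeometry

namespace Groth.Agent.Helper9.EtShriekBC

lemma bc_map_left_fst {X Y : Scheme.{u}} (f : X ⟶ Y) {A B : Y.Etale} (g : A ⟶ B) :
    ((EtCoh.bc f).map g).left ≫ pullback.fst B.hom f = pullback.fst A.hom f ≫ g.left := by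
  dsimp [EtCoh.bc]
  exact pullback.lift_fst _ _ _

@[reassoc]
lemma bc_map_left_snd {X Y : Scheme.{u}} (f : X ⟶ Y) {A B : Y.Etale} (g : A ⟶ B) :
    ((EtCoh.bc f).map g).left ≫ pullback.snd B.hom f = pullback.snd A.hom f := by
  dsimp [EtCoh.bc]
  exact pullback.lift_snd _ _ _

variable {V' V Y X : Scheme.{u}} (j : V ⟶ X) [hj : Etale j] (f : Y ⟶ X)
  (j' : V' ⟶ Y) [hj' : Etale j'] (f' : V' ⟶ V) (h : IsPullback j' f' f j)

include h in
lemma isPullback_paste (T : V.Etale) :
    IsPullback (pullback.fst T.hom f') (pullback.snd T.hom f' ≫ j') (T.hom ≫ j) f :=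
  (IsPullback.of_hasPullback T.hom f').paste_vert h.flip

/-- the comparison of the two fibre products -/
noncomputable def eT (T : V.Etale) : pullback T.hom f' ≅ pullback (T.hom ≫ j) f :=
  (isPullback_paste j f j' f' h T).isoPullback

/-- the two composite site functors -/
noncomputable abbrev F1 : V.Etale ⥤ Y.Etale := EtCoh.bc f' ⋙ EtShriek.compEtale j'

noncomputable abbrev F2 : V.Etale ⥤ Y.Etale := EtShriek.compEtale j ⋙ EtCoh.bc f

/-- objectwise isomorphism -/
noncomputable def αObj (T : V.Etale) : (F1 j' f').obj T ≅ (F2 j f).obj T :=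
  MorphismProperty.Over.isoMk (eT j f j' f' h T) (by
    change (eT j f j' f' h T).hom ≫ pullback.snd (T.hom ≫ j) f = pullback.snd T.hom f' ≫ j'
    exact IsPullback.isoPullback_hom_snd _)

lemma αObj_hom_left (T : V.Etale) : (αObj j f j' f' h T).hom.left = (eT j f j' f' h T).hom := rfl

/-- the natural isomorphism of site functors -/
noncomputable def α : F1 j' f' ≅ F2 j f :=
  NatIso.ofComponents (αObj j f j' f' h) (by
    intro T T' g
    apply MorphismProperty.Over.Hom.ext
    change ((EtCoh.bc f').map g).left ≫ (eT j f j' f' h T').hom =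
      (eT j f j' f' h T).hom ≫ ((EtCoh.bc f).map ((EtShriek.compEtale j).map g)).left
    apply pullback.hom_ext
    · rw [Category.assoc, Category.assoc]
      erw [IsPullback.isoPullback_hom_fst, bc_map_left_fst f' g,
        bc_map_left_fst f ((EtShriek.compEtale j).map g), IsPullback.isoPullback_hom_fst_assoc]
      rfl
    · rw [Category.assoc, Category.assoc]
      erw [IsPullback.isoPullback_hom_snd, bc_map_left_snd_assoc f' g,
        bc_map_left_snd f ((EtShriek.compEtale j).map g), IsPullback.isoPullback_hom_snd])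

variable [EtShriek.JCont j] [EtShriek.JCont j']

/-- the isomorphism of the right adjoints -/
noncomputable def rightIso :
    EtShriek.restrAlong j' ⋙ EtCoh.push f' ≅ EtCoh.push f ⋙ EtShriek.restrAlong j := by
  haveI : (F2 j f).IsContinuous V.smallEtaleTopology Y.smallEtaleTopology :=
    Functor.isContinuous_comp _ _ _ X.smallEtaleTopology _
  exact Functor.sheafPushforwardContinuousComp' (α j f j' f' h) AddCommGrpCat.{u + 1}
      V.smallEtaleTopology V'.smallEtaleTopology Y.smallEtaleTopology ≪≫
    (Functor.sheafPushforwardContinuousComp (EtShriek.compEtale j) (EtCoh.bc f)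
      AddCommGrpCat.{u + 1} V.smallEtaleTopology X.smallEtaleTopology Y.smallEtaleTopology).symm

include h in
theorem nonempty_iso :
    Nonempty (EtCoh.pull f' ⋙ EtShriek.extZero j' ≅ EtShriek.extZero j ⋙ EtCoh.pull f) := by
  let adj1 : EtCoh.pull f' ⋙ EtShriek.extZero j' ⊣ EtShriek.restrAlong j' ⋙ EtCoh.push f' :=
    (EtCoh.pullPushAdj f').comp (EtShriek.extZeroAdj j')
  let adj2 : EtShriek.extZero j ⋙ EtCoh.pull f ⊣ EtCoh.push f ⋙ EtShriek.restrAlong j :=
    (EtShriek.extZeroAdj j).comp (EtCoh.pullPushAdj f)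
  exact ⟨adj1.leftAdjointUniq (adj2.ofNatIsoRight (rightIso j f j' f' h).symm)⟩

end Groth.Agent.Helper9.EtShriekBC
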