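import Mathlib
import Groth.Agent.Helper3.StdEtLift

/-! Lifting a standard étale algebra along a surjection, as a pushout square of commutative rings. -/

set_option autoImplicit false
universe u

open CategoryTheory CategoryTheory.Limits TensorProduct

namespace Groth.Agent.Helper9.EtClosedLiftAlg

theorem exists_pushout_lift {A B C : CommRingCat.{u}} (φ : A ⟶ B)
    (hφ : Function.Surjective φ.hom) (ψ : B ⟶ C)
    (hψ : @Algebra.IsStandardEtale B C _ _ ψ.hom.toAlgebra) :
    ∃ (D : CommRingCat.{u}) (α : A ⟶ D) (β : D ⟶ C), α.hom.Etale ∧ IsPushout φ α ψ β := by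
  algebraize [φ.hom, ψ.hom]
  obtain ⟨Q⟩ := hψ.nonempty_standardEtalePresentation
  obtain ⟨P, ⟨e⟩⟩ := Groth.Agent.Helper3.StdEtLift.exists_lift_pair (R := A) (Rb := B) hφ Q.P
  let e' : (B ⊗[A] P.Ring) ≃ₐ[B] C := e.trans Q.equivRing.symm
  refine ⟨.of P.Ring, CommRingCat.ofHom (algebraMap A P.Ring),
    CommRingCat.ofHom ((e' : (B ⊗[A] P.Ring) →+* C).comp
      (Algebra.TensorProduct.includeRight (R := A) (A := B) (B := P.Ring)).toRingHom), ?_, ?_⟩
  · exact RingHom.etale_algebraMap.2 inferInstance
  · refine (CommRingCat.isPushout_tensorProduct A B P.Ring).of_iso (Iso.refl _) (Iso.refl _)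
      (Iso.refl _) e'.toRingEquiv.toCommRingCatIso ?_ ?_ ?_ ?_
    · simp
      rfl
    · simp
    · ext b
      simp
      have := e'.commutes b
      rw [Algebra.TensorProduct.algebraMap_apply] at this
      exact this
    · ext d
      simp

end Groth.Agent.Helper9.EtClosedLiftAlg
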