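import Mathlib
import Groth.Prelude.Def_EtBase
import Groth.Agent.Helper3.StdChart
import Groth.Agent.Helper9.EtClosedLiftAlg

/-! Étale neighbourhoods on a closed subscheme lift to the ambient scheme. -/

set_option autoImplicit false
universe u

open CategoryTheory CategoryTheory.Limits Opposite AlgebraicGeometry

namespace Groth.Agent.Helper9.EtClosedLift

variable {Z X : Scheme.{u}} (i : Z ⟶ X)

/-- the restriction of `i` over an affine open, as a pullback square of affine schemes -/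
theorem isPullback_fromSpec {W : X.Opens} (hW : IsAffineOpen W) (hZW : IsAffineOpen (i ⁻¹ᵁ W)) :
    IsPullback (Spec.map (i.app W)) hZW.fromSpec hW.fromSpec i := by
  apply IsOpenImmersion.isPullback
  · have := IsAffineOpen.SpecMap_appLE_fromSpec i hW hZW le_rfl
    rw [← this, Scheme.Hom.app_eq_appLE]
  · rw [IsAffineOpen.opensRange_fromSpec, IsAffineOpen.opensRange_fromSpec]


set_option backward.isDefEq.respectTransparency.types false in
/-- **Key lemma**: for a closed immersion `i : Z ⟶ X`, an étale `Z`-scheme `V` and a point `v` of `V`,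
there is an étale `X`-scheme `U` whose base change to `Z` is an open neighbourhood of `v` in `V`. -/
theorem key [IsClosedImmersion i] (V : Z.Etale) (v : V.left) :
    ∃ (U : X.Etale) (h : (EtCoh.bc i).obj U ⟶ V), IsOpenImmersion h.left ∧ v ∈ Set.range h.left := by
  obtain ⟨_, ⟨W, hW, rfl⟩, hxW, -⟩ := X.isBasis_affineOpens.exists_subset_of_mem_open
    (Set.mem_univ (i (V.hom v))) isOpen_univ
  have hZW : IsAffineOpen (i ⁻¹ᵁ W) := hW.preimage i
  have hvZW : V.hom v ∈ i ⁻¹ᵁ W := hxW
  have : AlgebraicGeometry.Etale V.hom := V.prop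
  obtain ⟨V', hV', hvV', hV'le, hstd⟩ :=
    Groth.Agent.Helper3.StdChart.exists_isStandardEtale_chart V.hom v (i ⁻¹ᵁ W) hZW hvZW
  obtain ⟨D, α, β, hα, hpo⟩ := Groth.Agent.Helper9.EtClosedLiftAlg.exists_pushout_lift
    (i.app W) (i.app_surjective W hW) (V.hom.appLE (i ⁻¹ᵁ W) V' hV'le) hstd
  have sq1 := isPullback_SpecMap_of_isPushout _ _ _ _ hpo
  have sq2 := isPullback_fromSpec i hW hZW
  have big := sq1.flip.paste_vert sq2
  -- big : IsPullback (Spec.map β) (Spec.map ψ ≫ hZW.fromSpec) (Spec.map α ≫ hW.fromSpec) i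
  have hιeq := Groth.Agent.Helper3.StdChart.ι_comp_eq V.hom hV' hZW hV'le
  have big' : IsPullback (hV'.isoSpec.hom ≫ Spec.map β) (V'.ι ≫ V.hom)
      (Spec.map α ≫ hW.fromSpec) i := by
    refine IsPullback.of_iso big hV'.isoSpec.symm (Iso.refl _) (Iso.refl _) (Iso.refl _)
      ?_ ?_ ?_ ?_
    · simp
    · simp [hιeq]
    · simp
    · simp
  have : AlgebraicGeometry.Etale (Spec.map α) := HasRingHomProperty.Spec_iff.2 hα
  let U : X.Etale := Scheme.Etale.mk (Spec.map α ≫ hW.fromSpec)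
  let e : V'.toScheme ≅ pullback U.hom i := big'.isoPullback
  have he : e.hom ≫ pullback.snd U.hom i = V'.ι ≫ V.hom := big'.isoPullback_hom_snd
  refine ⟨U, MorphismProperty.Over.homMk (e.inv ≫ V'.ι) ?_ trivial, ?_, ?_⟩
  · show (e.inv ≫ V'.ι) ≫ V.hom = pullback.snd U.hom i
    rw [Category.assoc, ← he, Iso.inv_hom_id_assoc]
  · show IsOpenImmersion (e.inv ≫ V'.ι)
    infer_instance
  · refine ⟨e.hom ⟨v, hvV'⟩, ?_⟩
    show (e.inv ≫ V'.ι) (e.hom ⟨v, hvV'⟩) = v
    rw [← Scheme.Hom.comp_apply, Iso.hom_inv_id_assoc]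
    rfl

end Groth.Agent.Helper9.EtClosedLift
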