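import Mathlib
import Groth.Prelude.Def_EtBase
import Groth.Agent.Helper9.EtClosedLift

/-! Relative form of the lifting lemma for étale neighbourhoods along a closed immersion, and lifting
geometric points through open immersions. -/

set_option autoImplicit false
universe u

open CategoryTheory CategoryTheory.Limits Opposite AlgebraicGeometry

namespace Groth.Agent.Helper9.EtClosedRel

variable {Z X : Scheme.{u}} (i : Z ⟶ X)

set_option backward.isDefEq.respectTransparency.types false in
/-- relative key lemma -/
theorem keyRel [IsClosedImmersion i] (U : X.Etale) (V : Z.Etale) (g : V ⟶ (EtCoh.bc i).obj U)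
    (v : V.left) :
    ∃ (U' : X.Etale) (g' : U' ⟶ U) (h : (EtCoh.bc i).obj U' ⟶ V),
      IsOpenImmersion h.left ∧ v ∈ Set.range h.left ∧ h ≫ g = (EtCoh.bc i).map g' := by
  let iU : pullback U.hom i ⟶ U.left := pullback.fst U.hom i
  have : AlgebraicGeometry.Etale g.left := inferInstance
  let gl : V.left ⟶ pullback U.hom i := g.left
  have : AlgebraicGeometry.Etale gl := ‹_›
  let VU : (pullback U.hom i).Etale := Scheme.Etale.mk gl
  obtain ⟨U'', h'', hop, q, hq⟩ := Groth.Agent.Helper9.EtClosedLift.key iU VU v
  let hl : pullback U''.hom iU ⟶ V.left := h''.left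
  have hop' : IsOpenImmersion hl := hop
  have hw'' : hl ≫ gl = pullback.snd U''.hom iU := MorphismProperty.Over.w h''
  have : AlgebraicGeometry.Etale U''.hom := U''.prop
  have : AlgebraicGeometry.Etale U.hom := U.prop
  let U' : X.Etale := Scheme.Etale.mk (U''.hom ≫ U.hom)
  let g' : U' ⟶ U := MorphismProperty.Over.homMk U''.hom rfl trivial
  let e : pullback U''.hom (pullback.fst U.hom i) ≅ pullback (U''.hom ≫ U.hom) i :=
    pullbackRightPullbackFstIso U.hom i U''.hom
  have hgV : gl ≫ pullback.snd U.hom i = V.hom := MorphismProperty.Over.w g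
  have hover : (e.inv ≫ hl) ≫ V.hom = pullback.snd (U''.hom ≫ U.hom) i := by
    rw [← hgV, Category.assoc, ← Category.assoc hl, hw'']
    exact pullbackRightPullbackFstIso_inv_snd_snd U.hom i U''.hom
  refine ⟨U', g', MorphismProperty.Over.homMk (e.inv ≫ hl) hover trivial, ?_, ?_, ?_⟩
  · show IsOpenImmersion (e.inv ≫ hl)
    infer_instance
  · refine ⟨e.hom q, ?_⟩
    show (e.inv ≫ hl) (e.hom q) = v
    rw [← Scheme.Hom.comp_apply, Iso.hom_inv_id_assoc]
    exact hq
  · apply MorphismProperty.Over.Hom.ext
    show (e.inv ≫ hl) ≫ gl = ((EtCoh.bc i).map g').left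
    rw [Category.assoc, hw'']
    apply pullback.hom_ext
    · rw [Category.assoc]
      have h1 := pullbackRightPullbackFstIso_inv_snd_fst U.hom i U''.hom
      refine h1.trans ?_
      dsimp [EtCoh.bc]
      exact (pullback.lift_fst _ _ _).symm
    · rw [Category.assoc]
      have h1 := pullbackRightPullbackFstIso_inv_snd_snd U.hom i U''.hom
      refine h1.trans ?_
      dsimp [EtCoh.bc]
      exact (pullback.lift_snd _ _ _).symm

end Groth.Agent.Helper9.EtClosedRel
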