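import Mathlib
import Groth.Prelude.Def_EtBase
import Groth.Agent.Helper9.EtClosedRel
import Groth.Agent.Helper9.EtStalkPull
import Groth.Agent.Helper9.EtStalkExact

/-! Stalks of the direct image along a closed immersion. -/

set_option autoImplicit false
universe u

open CategoryTheory CategoryTheory.Limits Opposite AlgebraicGeometry

namespace Groth.Agent.Helper9.EtClosedStalk

open Groth.Agent.Helper9.EtStalkPull

variable {Z X : Scheme.{u}} (i : Z ⟶ X) {Ω : Type u} [Field Ω] [IsSepClosed Ω]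
  (ζ : Spec (CommRingCat.of Ω) ⟶ Z)

set_option backward.isDefEq.respectTransparency.types false in
/-- geometric points lift through open immersions containing their image -/
theorem exists_lift_fiber {T V : Z.Etale} (h : T ⟶ V) (hop : IsOpenImmersion h.left)
    (v : (Scheme.pointSmallEtale ζ).fiber.obj V)
    (hv : ∃ t : T.left, h.left t = (show Spec (CommRingCat.of Ω) ⟶ V.left from v.left) default) :
    ∃ y : (Scheme.pointSmallEtale ζ).fiber.obj T, (Scheme.pointSmallEtale ζ).fiber.map h y = v := by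
  let vl : Spec (CommRingCat.of Ω) ⟶ V.left := v.left
  have hvl : vl ≫ V.hom = ζ := Over.w v
  let hl : T.left ⟶ V.left := h.left
  have hop' : IsOpenImmersion hl := hop
  have hw : hl ≫ V.hom = T.hom := MorphismProperty.Over.w h
  have hr : Set.range vl ⊆ Set.range hl := by
    rintro _ ⟨p, rfl⟩
    obtain ⟨t, ht⟩ := hv
    rw [Subsingleton.elim p default]
    exact ⟨t, ht⟩
  let y₀ : Spec (CommRingCat.of Ω) ⟶ T.left := IsOpenImmersion.lift hl vl hr
  have hy₀ : y₀ ≫ hl = vl := IsOpenImmersion.lift_fac hl vl hr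
  refine ⟨Over.homMk y₀ ?_, ?_⟩
  · show y₀ ≫ T.hom = ζ
    rw [← hw, ← Category.assoc, hy₀, hvl]
  · apply Over.OverMorphism.ext
    exact hy₀


section Concrete

variable {A : Type*} [Category A] [HasColimitsOfSize.{u, u} A]

/-- the comparison map `(i_* P)_{iζ} ⟶ P_ζ` (on the level of the transported point) -/
noncomputable def comp (P : Z.Etaleᵒᵖ ⥤ A) :
    (comapPt i ζ).presheafFiber.obj ((EtCoh.bc i).op ⋙ P) ⟶
      (Scheme.pointSmallEtale ζ).presheafFiber.obj P :=
  (comapPt i ζ).presheafFiberDesc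
    (fun U y => (Scheme.pointSmallEtale ζ).toPresheafFiber ((EtCoh.bc i).obj U) y P)
    (fun _ _ g y => (Scheme.pointSmallEtale ζ).toPresheafFiber_w ((EtCoh.bc i).map g) y P)

@[reassoc]
lemma toPresheafFiber_comp (P : Z.Etaleᵒᵖ ⥤ A) (U : X.Etale) (y : (comapPt i ζ).fiber.obj U) :
    (comapPt i ζ).toPresheafFiber U y ((EtCoh.bc i).op ⋙ P) ≫ comp i ζ P =
      (Scheme.pointSmallEtale ζ).toPresheafFiber ((EtCoh.bc i).obj U) y P :=
  (comapPt i ζ).toPresheafFiber_presheafFiberDesc _ _ _ _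

variable {FC : A → A → Type*} {CC : A → Type*}
  [∀ X Y : A, FunLike (FC X Y) (CC X) (CC Y)] [ConcreteCategory A FC]
  [PreservesFilteredColimitsOfSize.{u, u} (forget A)]

omit [PreservesFilteredColimitsOfSize.{u, u} (forget A)] in
lemma toPresheafFiber_comp_apply (P : Z.Etaleᵒᵖ ⥤ A) (U : X.Etale)
    (y : (comapPt i ζ).fiber.obj U) (s : ToType (P.obj (op ((EtCoh.bc i).obj U)))) :
    comp i ζ P ((comapPt i ζ).toPresheafFiber U y ((EtCoh.bc i).op ⋙ P) s) =
      (Scheme.pointSmallEtale ζ).toPresheafFiber ((EtCoh.bc i).obj U) y P s := by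
  rw [← ConcreteCategory.comp_apply, toPresheafFiber_comp]

set_option backward.isDefEq.respectTransparency.types false in
theorem comp_bijective [IsClosedImmersion i] (P : Z.Etaleᵒᵖ ⥤ A) :
    Function.Bijective (comp i ζ P) := by
  constructor
  · intro t₁ t₂ ht
    obtain ⟨U, y, s₁, s₂, rfl, rfl⟩ := (comapPt i ζ).toPresheafFiber_jointly_surjective₂ t₁ t₂
    rw [toPresheafFiber_comp_apply, toPresheafFiber_comp_apply] at ht
    obtain ⟨V, g, v, hv, hg⟩ :=
      ((Scheme.pointSmallEtale ζ).toPresheafFiber_eq_iff' _ y s₁ s₂).1 ht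
    let vl : Spec (CommRingCat.of Ω) ⟶ V.left := v.left
    obtain ⟨U', g', h, hop, ⟨t, ht⟩, hcomp⟩ :=
      Groth.Agent.Helper9.EtClosedRel.keyRel i U V g (vl default)
    obtain ⟨y', hy'⟩ := exists_lift_fiber ζ h hop v ⟨t, ht⟩
    have hy'' : (comapPt i ζ).fiber.map g' y' = y := by
      show (Scheme.pointSmallEtale ζ).fiber.map ((EtCoh.bc i).map g') y' = y
      rw [← hcomp, Functor.map_comp]
      show (Scheme.pointSmallEtale ζ).fiber.map g ((Scheme.pointSmallEtale ζ).fiber.map h y') = y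
      rw [hy', hv]
    have e₁ := (comapPt i ζ).toPresheafFiber_w_apply g' y' ((EtCoh.bc i).op ⋙ P) s₁
    have e₂ := (comapPt i ζ).toPresheafFiber_w_apply g' y' ((EtCoh.bc i).op ⋙ P) s₂
    rw [hy''] at e₁ e₂
    rw [← e₁, ← e₂]
    congr 1
    show P.map ((EtCoh.bc i).map g').op s₁ = P.map ((EtCoh.bc i).map g').op s₂
    rw [← hcomp, op_comp, Functor.map_comp, ConcreteCategory.comp_apply,
      ConcreteCategory.comp_apply, hg]
  · intro t
    obtain ⟨V, v, s, rfl⟩ := (Scheme.pointSmallEtale ζ).toPresheafFiber_jointly_surjective t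
    let vl : Spec (CommRingCat.of Ω) ⟶ V.left := v.left
    obtain ⟨U, h, hop, ⟨t, ht⟩⟩ := Groth.Agent.Helper9.EtClosedLift.key i V (vl default)
    obtain ⟨y, hy⟩ := exists_lift_fiber ζ h hop v ⟨t, ht⟩
    refine ⟨(comapPt i ζ).toPresheafFiber U y ((EtCoh.bc i).op ⋙ P) (P.map h.op s), ?_⟩
    rw [toPresheafFiber_comp_apply]
    have e := (Scheme.pointSmallEtale ζ).toPresheafFiber_w_apply h y P s
    rw [hy] at e
    exact e

end Concrete


section Ab

attribute [local instance] Groth.Agent.Helper9.EtStalkExact.preservesFilteredColimits_forget_ab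

/-- the comparison isomorphism `(i_* G)_{iζ} ≅ G_ζ` on the transported point -/
noncomputable def compIso [IsClosedImmersion i] (G : EtCoh.Ab Z) :
    (comapPt i ζ).sheafFiber.obj ((EtCoh.push i).obj G) ≅ (EtCoh.stalk ζ).obj G :=
  @asIso _ _ _ _ (comp i ζ G.obj)
    ((ConcreteCategory.isIso_iff_bijective _).2 (comp_bijective i ζ G.obj))

theorem nonempty_stalk_push_iso [IsClosedImmersion i] (G : EtCoh.Ab Z) :
    Nonempty ((EtCoh.stalk (ζ ≫ i)).obj ((EtCoh.push i).obj G) ≅ (EtCoh.stalk ζ).obj G) :=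
  ⟨(sheafFiberIsoOfIso (pointIso i ζ)).app ((EtCoh.push i).obj G) ≪≫ compIso i ζ G⟩

end Ab

end Groth.Agent.Helper9.EtClosedStalk
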