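import Mathlib
import Groth.Prelude.Def_EtBase
import Groth.Agent.Helper9.EtClosedStalk
import Groth.Agent.Helper9.PointComapCounit

/-! Direct image along a closed immersion is fully faithful (abelian étale sheaves). -/

set_option autoImplicit false
universe u

open CategoryTheory CategoryTheory.Limits Opposite AlgebraicGeometry

namespace Groth.Agent.Helper9.EtClosedFF

open Groth.Agent.Helper9.EtStalkPull Groth.Agent.Helper9.EtStalkExact

variable {Z X : Scheme.{u}} (i : Z ⟶ X) [IsClosedImmersion i]

attribute [local instance] preservesFilteredColimits_forget_ab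

theorem isIso_stalk_map_counit (G : EtCoh.Ab Z) {Ω : Type u} [Field Ω] [IsSepClosed Ω]
    (ζ : Spec (CommRingCat.of Ω) ⟶ Z) :
    IsIso ((EtCoh.stalk ζ).map ((EtCoh.pullPushAdj i).counit.app G)) := by
  have : ((EtCoh.bc i).sheafPushforwardContinuous AddCommGrpCat.{u + 1}
      X.smallEtaleTopology Z.smallEtaleTopology).IsRightAdjoint :=
    (EtCoh.pullPushAdj i).isRightAdjoint
  have h := Groth.Agent.Helper9.PointComapCounit.hom_app_comp_map_counit
    (Scheme.pointSmallEtale ζ) (EtCoh.bc i) (EtCoh.coverPreserving_bc i) AddCommGrpCat.{u + 1} G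
  have hc : IsIso (Groth.Agent.Helper9.PointComapCounit.comp (Scheme.pointSmallEtale ζ)
      (EtCoh.bc i) (EtCoh.coverPreserving_bc i) AddCommGrpCat.{u + 1} G.obj) :=
    (ConcreteCategory.isIso_iff_bijective _).2
      (Groth.Agent.Helper9.EtClosedStalk.comp_bijective i ζ G.obj)
  rw [← h] at hc
  exact @IsIso.of_isIso_comp_left _ _ _ _ _
    (((Scheme.pointSmallEtale ζ).sheafFiberComapIso (EtCoh.bc i) (EtCoh.coverPreserving_bc i)
      AddCommGrpCat.{u + 1}).hom.app ((EtCoh.push i).obj G)) _ inferInstance hc

theorem isIso_counit_app (G : EtCoh.Ab Z) : IsIso ((EtCoh.pullPushAdj i).counit.app G) := by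
  have hm : Mono ((EtCoh.pullPushAdj i).counit.app G) := by
    rw [mono_iff_stalks]
    intro Ω _ _ ζ
    have := isIso_stalk_map_counit i G ζ
    exact ((ConcreteCategory.isIso_iff_bijective _).1 this).1
  have he : Epi ((EtCoh.pullPushAdj i).counit.app G) := by
    rw [epi_iff_stalks]
    intro Ω _ _ ζ
    have := isIso_stalk_map_counit i G ζ
    exact ((ConcreteCategory.isIso_iff_bijective _).1 this).2
  exact isIso_of_mono_of_epi _

instance isIso_counit : IsIso (EtCoh.pullPushAdj i).counit :=
  haveI := isIso_counit_app i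
  NatIso.isIso_of_isIso_app _

/-- `i_*` is fully faithful -/
noncomputable def fullyFaithful : (EtCoh.push i).FullyFaithful :=
  (EtCoh.pullPushAdj i).fullyFaithfulROfIsIsoCounit

theorem full_and_faithful : (EtCoh.push i).Full ∧ (EtCoh.push i).Faithful :=
  ⟨(fullyFaithful i).full, (fullyFaithful i).faithful⟩

end Groth.Agent.Helper9.EtClosedFF
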