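import Mathlib
import Groth.Prelude.Def_EtBase
import Groth.Agent.Helper9.EtClosedFF
import Groth.Agent.Helper9.EtPushClosedZero

/-! Essential image of the direct image along a closed immersion (abelian étale sheaves). -/

set_option autoImplicit false
universe u

open CategoryTheory CategoryTheory.Limits Opposite AlgebraicGeometry

namespace Groth.Agent.Helper9.EtClosedEss

open Groth.Agent.Helper9.EtStalkPull Groth.Agent.Helper9.EtStalkExact
  Groth.Agent.Helper9.EtPushClosedZero

variable {Z X : Scheme.{u}} (i : Z ⟶ X) [IsClosedImmersion i]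

section Away

variable {Ω : Type u} [Field Ω] [IsSepClosed Ω] (ξ : Spec (CommRingCat.of Ω) ⟶ X)

set_option backward.isDefEq.respectTransparency.types false in
/-- geometric points outside the closed subscheme lift to the open complement part of any étale
neighbourhood -/
theorem exists_away_lift (hξ : Disjoint (Set.range ξ.base) (Set.range i.base)) (U : X.Etale)
    (l : (Scheme.pointSmallEtale ξ).fiber.obj U) :
    ∃ lW : (Scheme.pointSmallEtale ξ).fiber.obj (away i U),
      (Scheme.pointSmallEtale ξ).fiber.map (awayι i U) lW = l := by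
  let lU : Spec (CommRingCat.of Ω) ⟶ U.left := l.left
  have hlU : lU ≫ U.hom = ξ := Over.w l
  have hr : Set.range lU ⊆ Set.range (U.hom ⁻¹ᵁ compl i).ι := by
    rw [Scheme.Opens.range_ι]
    rintro _ ⟨p, rfl⟩
    show U.hom (lU p) ∈ (compl i : Set X)
    rw [← Scheme.Hom.comp_apply, hlU]
    intro hcon
    exact (Set.disjoint_left.1 hξ) ⟨p, rfl⟩ hcon
  let W : U.left.Opens := U.hom ⁻¹ᵁ compl i
  let l'' : Spec (CommRingCat.of Ω) ⟶ W.toScheme := IsOpenImmersion.lift W.ι lU hr
  have hl'' : l'' ≫ W.ι = lU := IsOpenImmersion.lift_fac W.ι lU hr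
  let l' : Spec (CommRingCat.of Ω) ⟶ (away i U).left := l''
  have hl' : l' ≫ (U.hom ⁻¹ᵁ compl i).ι = lU := hl''
  refine ⟨Over.homMk l' ?_, ?_⟩
  · show l' ≫ ((U.hom ⁻¹ᵁ compl i).ι ≫ U.hom) = ξ
    rw [← Category.assoc, hl', hlU]
  · apply Over.OverMorphism.ext
    exact hl'

set_option backward.isDefEq.respectTransparency.types false in
theorem disjoint_away (U : X.Etale) :
    Disjoint (Set.range (away i U).hom.base) (Set.range i.base) := by
  rw [Set.disjoint_left]
  rintro _ ⟨p, rfl⟩ hcon
  have h3 : (U.hom ⁻¹ᵁ compl i).ι p ∈ ((U.hom ⁻¹ᵁ compl i : U.left.Opens) : Set U.left) := by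
    rw [← Scheme.Opens.range_ι]
    exact ⟨_, rfl⟩
  have h2 : (away i U).hom p ∈ (compl i : Set X) := by
    show (((U.hom ⁻¹ᵁ compl i).ι ≫ U.hom)) _ ∈ _
    rw [Scheme.Hom.comp_apply]
    exact h3
  exact h2 hcon

attribute [local instance] preservesFilteredColimits_forget_ab

/-- a sheaf vanishing over étale schemes mapping to the complement has vanishing stalks outside `Z` -/
theorem isZero_stalk_of_vanishing (F : EtCoh.Ab X)
    (hF : ∀ U : X.Etale, Disjoint (Set.range U.hom.base) (Set.range i.base) →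
      IsZero (F.obj.obj (op U)))
    (hξ : Disjoint (Set.range ξ.base) (Set.range i.base)) :
    IsZero ((EtCoh.stalk ξ).obj F) := by
  have hsub : Subsingleton ↑((EtCoh.stalk ξ).obj F) := by
    refine ⟨fun t₁ t₂ => ?_⟩
    suffices h : ∀ t : ↑((EtCoh.stalk ξ).obj F), t = 0 by rw [h t₁, h t₂]
    intro t
    obtain ⟨U, l, s, rfl⟩ := (Scheme.pointSmallEtale ξ).toPresheafFiber_jointly_surjective
      (P := F.obj) t
    obtain ⟨lW, hl⟩ := exists_away_lift i ξ hξ U l
    have e := (Scheme.pointSmallEtale ξ).toPresheafFiber_w_apply (awayι i U) lW F.obj s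
    rw [hl] at e
    have hz : F.obj.map (awayι i U).op s = 0 := by
      have : Subsingleton ↑(F.obj.obj (op (away i U))) :=
        AddCommGrpCat.subsingleton_of_isZero (hF _ (disjoint_away i U))
      exact Subsingleton.elim _ _
    rw [← e, hz]
    exact map_zero ((Scheme.pointSmallEtale ξ).toPresheafFiber (away i U) lW F.obj).hom
  exact AddCommGrpCat.isZero_of_subsingleton _

end Away


section Lift

variable {Ω : Type u} [Field Ω] (ξ : Spec (CommRingCat.of Ω) ⟶ X)

/-- a field-valued point whose image lies in the closed subscheme factors through it -/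
theorem exists_lift_geomPt (h : ¬ Disjoint (Set.range ξ.base) (Set.range i.base)) :
    ∃ ζ : Spec (CommRingCat.of Ω) ⟶ Z, ζ ≫ i = ξ := by
  rw [Set.not_disjoint_iff] at h
  obtain ⟨_, ⟨p, rfl⟩, ⟨z, hz⟩⟩ := h
  obtain ⟨t, -, -⟩ := Scheme.Pullback.exists_preimage_pullback (f := ξ) (g := i) p z hz.symm
  have : Surjective (pullback.fst ξ i) := ⟨fun q => ⟨t, Subsingleton.elim _ _⟩⟩
  have : IsIso (pullback.fst ξ i) := isIso_of_isClosedImmersion_of_surjective _
  refine ⟨inv (pullback.fst ξ i) ≫ pullback.snd ξ i, ?_⟩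
  rw [Category.assoc, ← pullback.condition, IsIso.inv_hom_id_assoc]

end Lift


section Unit

attribute [local instance] preservesFilteredColimits_forget_ab

theorem isIso_pull_map_unit (F : EtCoh.Ab X) :
    IsIso ((EtCoh.pull i).map ((EtCoh.pullPushAdj i).unit.app F)) := by
  have h := (EtCoh.pullPushAdj i).left_triangle_components F
  have : IsIso ((EtCoh.pullPushAdj i).counit.app ((EtCoh.pull i).obj F)) :=
    Groth.Agent.Helper9.EtClosedFF.isIso_counit_app i _
  have h3 : IsIso ((EtCoh.pull i).map ((EtCoh.pullPushAdj i).unit.app F) ≫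
      (EtCoh.pullPushAdj i).counit.app ((EtCoh.pull i).obj F)) := by
    rw [h]
    exact IsIso.id _
  exact IsIso.of_isIso_comp_right ((EtCoh.pull i).map ((EtCoh.pullPushAdj i).unit.app F))
    ((EtCoh.pullPushAdj i).counit.app ((EtCoh.pull i).obj F))

theorem isIso_stalk_map_unit (F : EtCoh.Ab X) {Ω : Type u} [Field Ω] [IsSepClosed Ω]
    (ζ : Spec (CommRingCat.of Ω) ⟶ Z) :
    IsIso ((EtCoh.stalk (ζ ≫ i)).map ((EtCoh.pullPushAdj i).unit.app F)) := by
  have h1 := isIso_pull_map_unit i F
  have h2 : IsIso ((EtCoh.pull i ⋙ EtCoh.stalk ζ).map ((EtCoh.pullPushAdj i).unit.app F)) := by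
    rw [Functor.comp_map]
    infer_instance
  exact (NatIso.isIso_map_iff (stalkPullIso i ζ) ((EtCoh.pullPushAdj i).unit.app F)).1 h2

theorem isIso_unit_of_vanishing (F : EtCoh.Ab X)
    (hF : ∀ U : X.Etale, Disjoint (Set.range U.hom.base) (Set.range i.base) →
      IsZero (F.obj.obj (op U))) :
    IsIso ((EtCoh.pullPushAdj i).unit.app F) := by
  have key : ∀ (Ω : Type u) [Field Ω] [IsSepClosed Ω] (ξ : Spec (CommRingCat.of Ω) ⟶ X),
      Function.Bijective ((EtCoh.stalk ξ).map ((EtCoh.pullPushAdj i).unit.app F)) := by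
    intro Ω _ _ ξ
    by_cases hξ : Disjoint (Set.range ξ.base) (Set.range i.base)
    · have h1 : Subsingleton ↑((EtCoh.stalk ξ).obj F) :=
        AddCommGrpCat.subsingleton_of_isZero (isZero_stalk_of_vanishing i ξ F hF hξ)
      have h2 : Subsingleton ↑((EtCoh.stalk ξ).obj ((EtCoh.push i).obj ((EtCoh.pull i).obj F))) :=
        AddCommGrpCat.subsingleton_of_isZero (main i _ ξ hξ)
      exact ⟨fun a b _ => @Subsingleton.elim _ h1 a b,
        fun y => ⟨0, @Subsingleton.elim _ h2 _ _⟩⟩
    · obtain ⟨ζ, rfl⟩ := exists_lift_geomPt i ξ hξ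
      exact (ConcreteCategory.isIso_iff_bijective _).1 (isIso_stalk_map_unit i F ζ)
  have hm : Mono ((EtCoh.pullPushAdj i).unit.app F) := by
    rw [mono_iff_stalks]
    exact fun Ω _ _ ξ => (key Ω ξ).1
  have he : Epi ((EtCoh.pullPushAdj i).unit.app F) := by
    rw [epi_iff_stalks]
    exact fun Ω _ _ ξ => (key Ω ξ).2
  exact isIso_of_mono_of_epi _

omit [IsClosedImmersion i] in
set_option backward.isDefEq.respectTransparency.types false in
theorem isEmpty_bc_of_disjoint (U : X.Etale)
    (hU : Disjoint (Set.range U.hom.base) (Set.range i.base)) :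
    IsEmpty ((EtCoh.bc i).obj U).left := by
  constructor
  intro p
  let p' : ↥(pullback U.hom i) := p
  have h1 : U.hom (pullback.fst U.hom i p') = i (pullback.snd U.hom i p') := by
    rw [← Scheme.Hom.comp_apply, ← Scheme.Hom.comp_apply, pullback.condition]
  exact (Set.disjoint_left.1 hU) ⟨_, rfl⟩ ⟨_, h1.symm⟩

theorem essImage_iff (F : EtCoh.Ab X) :
    (EtCoh.push i).essImage F ↔
      ∀ U : X.Etale, Disjoint (Set.range U.hom.base) (Set.range i.base) →
        IsZero (F.obj.obj (op U)) := by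
  constructor
  · rintro ⟨G, ⟨e⟩⟩ U hU
    have : IsEmpty ((EtCoh.bc i).obj U).left := isEmpty_bc_of_disjoint i U hU
    have h0 : IsZero (((EtCoh.push i).obj G).obj.obj (op U)) :=
      @AddCommGrpCat.isZero_of_subsingleton _ (subsingleton_of_isEmpty G ((EtCoh.bc i).obj U))
    exact h0.of_iso (((sheafToPresheaf _ _).mapIso e).app (op U)).symm
  · intro hF
    have := isIso_unit_of_vanishing i F hF
    exact ⟨(EtCoh.pull i).obj F, ⟨(asIso ((EtCoh.pullPushAdj i).unit.app F)).symm⟩⟩

end Unit

end Groth.Agent.Helper9.EtClosedEss
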