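import Mathlib
import Groth.Prelude.Def_PBC
import Groth.Prelude.Def_EtShriek2
import Groth.Agent.Helper9.EtStalkExact
import Groth.Agent.Helper9.EtPropA

/-! Supports of sections of abelian étale sheaves are closed, and the support of a sheaf is the
union of the images of the supports of its sections. -/

set_option autoImplicit false
universe u

open CategoryTheory CategoryTheory.Limits Opposite AlgebraicGeometry

namespace Groth.Agent.Helper9.EtSectSupp

open Groth.Agent.Helper9.EtStalkExact

variable {S : Scheme.{u}} (F : EtCoh.Ab S)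

attribute [local instance] preservesFilteredColimits_forget_ab

theorem isClosed_sectSupp (U : S.Etale) (σ : EtCoh.sect F U) :
    IsClosed (EtShriek.sectSupp F U σ) := by
  rw [← isOpen_compl_iff, isOpen_iff_forall_mem_open]
  intro x hx
  simp only [EtShriek.sectSupp, Set.mem_compl_iff, Set.mem_ofPred_eq, not_forall, not_not] at hx
  obtain ⟨W, g, ⟨w, hw⟩, h0⟩ := hx
  have : Etale g.left := Groth.Agent.Helper9.EtPropA.etale_left g
  refine ⟨Set.range g.left.base, ?_, g.left.isOpenMap.isOpen_range, ⟨w, hw⟩⟩
  rintro _ ⟨w', rfl⟩ hmem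
  exact hmem W g ⟨w', rfl⟩ h0

section Lift

variable {Ω : Type u} [Field Ω] [IsSepClosed Ω] (ξ : Spec (CommRingCat.of Ω) ⟶ S)

set_option backward.isDefEq.respectTransparency.types false in
/-- lifts of a geometric point lift further along morphisms of the small étale site -/
theorem exists_lift_fiber {U W : S.Etale} (g : W ⟶ U) (l : (Scheme.pointSmallEtale ξ).fiber.obj U)
    (w : W.left)
    (hw : g.left w = (show Spec (CommRingCat.of Ω) ⟶ U.left from l.left) default) :
    ∃ l' : (Scheme.pointSmallEtale ξ).fiber.obj W,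
      (Scheme.pointSmallEtale ξ).fiber.map g l' = l ∧
      (show Spec (CommRingCat.of Ω) ⟶ W.left from l'.left) default = w := by
  let lU : Spec (CommRingCat.of Ω) ⟶ U.left := l.left
  have hlU : lU ≫ U.hom = ξ := Over.w l
  have : Etale g.left := Groth.Agent.Helper9.EtPropA.etale_left g
  obtain ⟨l₀, hl₀, hl₀w⟩ := Scheme.exists_fac_of_etale_of_isSepClosed g.left lU w hw
  refine ⟨Over.homMk l₀ ?_, ?_, hl₀w⟩
  · show l₀ ≫ W.hom = ξ
    rw [← MorphismProperty.Over.w g, ← Category.assoc, hl₀, hlU]
  · apply Over.OverMorphism.ext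
    exact hl₀

end Lift

set_option backward.isDefEq.respectTransparency.types false in
theorem supp_eq :
    EtPBC.supp F = ⋃ (U : S.Etale) (σ : EtCoh.sect F U), U.hom.base '' EtShriek.sectSupp F U σ := by
  ext x
  simp only [Set.mem_iUnion, Set.mem_image]
  constructor
  · rintro ⟨Ω, _, _, ξ, hξ, hnz⟩
    have hne : ∃ t : ↑((EtCoh.stalk ξ).obj F), t ≠ 0 := by
      by_contra hcon
      push Not at hcon
      apply hnz
      have : Subsingleton ↑((EtCoh.stalk ξ).obj F) := ⟨fun a b => by rw [hcon a, hcon b]⟩
      exact AddCommGrpCat.isZero_of_subsingleton _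
    obtain ⟨t, ht⟩ := hne
    obtain ⟨U, l, σ, rfl⟩ := (Scheme.pointSmallEtale ξ).toPresheafFiber_jointly_surjective
      (P := F.obj) t
    let lU : Spec (CommRingCat.of Ω) ⟶ U.left := l.left
    have hlU : lU ≫ U.hom = ξ := Over.w l
    refine ⟨U, σ, lU default, ?_, ?_⟩
    · intro W g ⟨w, hw⟩ h0
      obtain ⟨l', hl', -⟩ := exists_lift_fiber ξ g l w hw
      apply ht
      have e := (Scheme.pointSmallEtale ξ).toPresheafFiber_w_apply g l' F.obj σ
      rw [hl'] at e
      rw [← e, h0]
      exact map_zero ((Scheme.pointSmallEtale ξ).toPresheafFiber W l' F.obj).hom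
    · rw [← Scheme.Hom.comp_apply, hlU]
      have : ξ default ∈ Set.range ξ := ⟨default, rfl⟩
      rw [hξ] at this
      exact this
  · rintro ⟨U, σ, y, hy, rfl⟩
    refine ⟨_, inferInstance, inferInstance, geomPt (U.hom y), ?_, ?_⟩
    · ext z
      simp only [Set.mem_range, Set.mem_singleton_iff]
      constructor
      · rintro ⟨p, rfl⟩
        rw [Subsingleton.elim p default, geomPt_default]
      · rintro rfl
        exact ⟨default, geomPt_default _⟩
    · intro hz
      obtain ⟨l, hl⟩ := Scheme.pointSmallEtaleFiberObjToPreimage_surjective (geomPt (U.hom y))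
        (geomPt_default (U.hom y)) U ⟨y, rfl⟩
      rw [Subtype.ext_iff] at hl
      simp only [Functor.id_obj, Scheme.pointSmallEtaleFiberObjToPreimage_coe,
        Scheme.Etale.forget_obj_left] at hl
      have h0 : (Scheme.pointSmallEtale (geomPt (U.hom y))).toPresheafFiber U l F.obj σ =
          (Scheme.pointSmallEtale (geomPt (U.hom y))).toPresheafFiber U l F.obj 0 := by
        have : Subsingleton ↑((EtCoh.stalk (geomPt (U.hom y))).obj F) :=
          AddCommGrpCat.subsingleton_of_isZero hz
        exact @Subsingleton.elim _ this _ _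
      obtain ⟨W, g, l', hl', hg⟩ :=
        ((Scheme.pointSmallEtale (geomPt (U.hom y))).toPresheafFiber_eq_iff' U l σ 0).1 h0
      let lW : Spec (CommRingCat.of (SeparableClosure (S.residueField (U.hom y)))) ⟶ W.left :=
        l'.left
      let lU : Spec (CommRingCat.of (SeparableClosure (S.residueField (U.hom y)))) ⟶ U.left :=
        l.left
      have h1 : lW ≫ g.left = lU := by
        have := congrArg (fun m => m.left) hl'
        exact this
      refine hy W g ⟨lW default, ?_⟩ (hg.trans (map_zero _))
      rw [← Scheme.Hom.comp_apply, h1]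
      exact hl

theorem main :
    (∀ (U : S.Etale) (σ : EtCoh.sect F U), IsClosed (EtShriek.sectSupp F U σ)) ∧
    EtPBC.supp F = ⋃ (U : S.Etale) (σ : EtCoh.sect F U), U.hom.base '' EtShriek.sectSupp F U σ :=
  ⟨isClosed_sectSupp F, supp_eq F⟩

end Groth.Agent.Helper9.EtSectSupp
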