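import Mathlib
import Groth.Prelude.Def_CohSite
import Groth.Agent.Helper1.SiteCoh

/-! Cohomology classes of positive degree die on a covering (S0483). -/

set_option autoImplicit false
universe u

open CategoryTheory CategoryTheory.Limits Opposite Abelian

namespace Groth.Agent.Helper9.KillClass

open Groth.Agent.Helper1.DeltaCmp Groth.Agent.Helper1.SiteCoh

variable {C : Type u} [SmallCategory C] (J : GrothendieckTopology C)

/-- the cohomology presheaf -/
noncomputable abbrev HP (n : ℕ) (F : Sheaf J AddCommGrpCat.{u}) : Cᵒᵖ ⥤ AddCommGrpCat.{u} :=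
  (Sheaf.cohomologyPresheafFunctor.{u} J n).obj F

lemma surjective_of_exact_isZero {X Y Z : AddCommGrpCat.{u}} (f : X ⟶ Y) (g : Y ⟶ Z)
    (w : f ≫ g = 0) (h : (ShortComplex.mk f g w).Exact) (hZ : IsZero Z) :
    Function.Surjective f := by
  intro y
  have := (ShortComplex.ab_exact_iff _).1 h y (by
    haveI := AddCommGrpCat.subsingleton_of_isZero hZ
    exact Subsingleton.elim _ _)
  exact this

theorem kill (n : ℕ) : ∀ (F : Sheaf J AddCommGrpCat.{u}) (U : C) (ξ : (HP J (n + 1) F).obj (op U)),
    ∃ S : Sieve U, S ∈ J U ∧ ∀ ⦃V : C⦄ (a : V ⟶ U), S a → (HP J (n + 1) F).map a.op ξ = 0 := by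
  induction n with
  | zero =>
    intro F U ξ
    let S : ShortComplex (Sheaf J AddCommGrpCat.{u}) :=
      ShortComplex.mk (Injective.ι F) (cokernel.π (Injective.ι F)) (cokernel.condition _)
    have hS : S.ShortExact :=
      { exact := ShortComplex.exact_cokernel _
        mono_f := by dsimp [S]; infer_instance
        epi_g := by dsimp [S]; infer_instance }
    haveI : Injective S.X₂ := by dsimp [S]; infer_instance
    obtain ⟨δ, w₁, w₂, h₁, h₂⟩ := hasLES_cohomologyPresheaf S hS 0
    have hz : IsZero ((HP J 1 S.X₂).obj (op U)) :=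
      (Functor.isZero_iff _).1 (isZero_cohomologyPresheaf_of_injective S.X₂ 0) (op U)
    have hsurj : Function.Surjective (δ.app (op U)) :=
      surjective_of_exact_isZero _ _ (congr_app w₂ (op U))
        (h₂.map ((evaluation Cᵒᵖ AddCommGrpCat.{u}).obj (op U))) hz
    obtain ⟨η, rfl⟩ := hsurj ξ
    -- the section of `Q` corresponding to `η`
    let e := coh0Iso (J := J)
    let q : S.X₃.obj.obj (op U) := (e.hom.app S.X₃).app (op U) η
    haveI : Epi S.g := hS.epi_g
    haveI : Sheaf.IsLocallySurjective S.g := (Sheaf.isLocallySurjective_iff_epi' (φ := S.g)).2 inferInstance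
    refine ⟨Presheaf.imageSieve S.g.hom q, Presheaf.imageSieve_mem J S.g.hom q, ?_⟩
    intro V a ha
    obtain ⟨i, hi⟩ := ha
    -- the class of `i` in `H⁰(V, I)`
    let ι : (HP J 0 S.X₂).obj (op V) := (e.inv.app S.X₂).app (op V) i
    have h3 : ((HP J 0 S.X₃).map a.op) η = ((Sheaf.cohomologyPresheafFunctor.{u} J 0).map S.g).app (op V) ι := by
      apply (ConcreteCategory.bijective_of_isIso ((e.hom.app S.X₃).app (op V))).1
      have n1 := NatTrans.naturality_apply (e.hom.app S.X₃) a.op η
      have n2 := congrArg (fun t => t.app (op V) ι) (e.hom.naturality S.g)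
      have n3 : (e.hom.app S.X₂).app (op V) ι = i := by
        have := congrArg (fun t => t.app (op V) i) (e.inv_hom_id_app S.X₂)
        exact this
      refine n1.trans ?_
      refine Eq.trans ?_ n2.symm
      change S.X₃.obj.map a.op q = S.g.hom.app (op V) ((e.hom.app S.X₂).app (op V) ι)
      rw [n3]
      exact hi.symm
    have n4 := NatTrans.naturality_apply δ a.op η
    refine n4.symm.trans ?_
    rw [h3]
    exact congrArg (fun t => t.app (op V) ι) w₁
  | succ m ih =>
    intro F U ξ
    let S : ShortComplex (Sheaf J AddCommGrpCat.{u}) :=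
      ShortComplex.mk (Injective.ι F) (cokernel.π (Injective.ι F)) (cokernel.condition _)
    have hS : S.ShortExact :=
      { exact := ShortComplex.exact_cokernel _
        mono_f := by dsimp [S]; infer_instance
        epi_g := by dsimp [S]; infer_instance }
    haveI : Injective S.X₂ := by dsimp [S]; infer_instance
    obtain ⟨δ, w₁, w₂, h₁, h₂⟩ := hasLES_cohomologyPresheaf S hS (m + 1)
    have hz : IsZero ((HP J (m + 2) S.X₂).obj (op U)) :=
      (Functor.isZero_iff _).1 (isZero_cohomologyPresheaf_of_injective S.X₂ (m + 1)) (op U)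
    have hsurj : Function.Surjective (δ.app (op U)) :=
      surjective_of_exact_isZero _ _ (congr_app w₂ (op U))
        (h₂.map ((evaluation Cᵒᵖ AddCommGrpCat.{u}).obj (op U))) hz
    obtain ⟨η, rfl⟩ := hsurj ξ
    obtain ⟨R, hR, H⟩ := ih S.X₃ U η
    refine ⟨R, hR, fun V a ha => ?_⟩
    have n4 := NatTrans.naturality_apply δ a.op η
    refine n4.symm.trans ?_
    rw [H a ha]
    exact map_zero _

end Groth.Agent.Helper9.KillClass
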