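import Mathlib
import Groth.Prelude.Def_EtBase
import Groth.Prelude.Def_EtShriek2

/-! Extension by zero along an étale morphism has vanishing stalks at geometric points not
lifting to the source. -/

set_option autoImplicit false
universe u

open CategoryTheory CategoryTheory.Limits Opposite AlgebraicGeometry

namespace Groth.Agent.Helper9.EtShriekStalkZero

variable {U X : Scheme.{u}} (j : U ⟶ X) [hj : AlgebraicGeometry.Etale j]
  {Ω : Type u} [Field Ω] [IsSepClosed Ω] (ξ : Spec (CommRingCat.of Ω) ⟶ X)

set_option backward.isDefEq.respectTransparency.types false in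
theorem isEmpty_fiber (hξ : Disjoint (Set.range ξ.base) (Set.range j.base)) (V : U.Etale) :
    IsEmpty ((Scheme.pointSmallEtale ξ).fiber.obj ((EtShriek.compEtale j).obj V)) := by
  constructor
  intro l
  let lV : Spec (CommRingCat.of Ω) ⟶ V.left := l.left
  have hl : lV ≫ V.hom ≫ j = ξ := Over.w l
  refine (Set.disjoint_left.1 hξ) ⟨default, rfl⟩ ⟨V.hom (lV default), ?_⟩
  rw [← hl, Scheme.Hom.comp_apply, Scheme.Hom.comp_apply]

variable [EtShriek.JCont j]

theorem isZero_stalk_extZero (H : EtCoh.Ab U)
    (hξ : Disjoint (Set.range ξ.base) (Set.range j.base)) :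
    IsZero ((EtCoh.stalk ξ).obj ((EtShriek.extZero j).obj H)) := by
  set T := (EtCoh.stalk ξ).obj ((EtShriek.extZero j).obj H) with hT
  have h1 : Subsingleton (H ⟶ (EtShriek.restrAlong j).obj
      ((Scheme.pointSmallEtale ξ).skyscraperSheaf T)) := by
    refine ⟨fun a b => ?_⟩
    apply Sheaf.hom_ext
    ext V : 2
    have := isEmpty_fiber j ξ hξ V.unop
    apply Pi.hom_ext
    intro x
    exact (this.false x).elim
  have h2 : Subsingleton ((EtShriek.extZero j).obj H ⟶
      (Scheme.pointSmallEtale ξ).skyscraperSheaf T) :=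
    ((EtShriek.extZeroAdj j).homEquiv _ _).subsingleton
  have h3 : Subsingleton (T ⟶ T) :=
    ((Scheme.pointSmallEtale ξ).skyscraperSheafAdjunction.homEquiv
      ((EtShriek.extZero j).obj H) T).subsingleton
  exact (IsZero.iff_id_eq_zero T).2 (Subsingleton.elim _ _)

end Groth.Agent.Helper9.EtShriekStalkZero
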