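import Mathlib
import Groth.Prelude.Def_EtBase
import Groth.Prelude.Def_EtShriek2
import Groth.Agent.Helper9.EtClosedEss
import Groth.Agent.Helper9.EtShriekOpen
import Groth.Agent.Helper9.EtShriekStalkZero

/-! The recollement sequence `0 → j_! j⁻¹ F → F → i_* i⁻¹ F → 0` on the small étale site. -/

set_option autoImplicit false
universe u

open CategoryTheory CategoryTheory.Limits Opposite AlgebraicGeometry

namespace Groth.Agent.Helper9.EtRecollement

open Groth.Agent.Helper9.EtStalkPull Groth.Agent.Helper9.EtStalkExact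
  Groth.Agent.Helper9.EtShriekOpen

section Open

variable {U X : Scheme.{u}} (j : U ⟶ X) [hj : AlgebraicGeometry.Etale j] [EtShriek.JCont j] [Mono j]

theorem isIso_restr_map_counit (F : EtCoh.Ab X) :
    IsIso ((EtShriek.restrAlong j).map ((EtShriek.extZeroAdj j).counit.app F)) := by
  have h := (EtShriek.extZeroAdj j).right_triangle_components F
  have : IsIso ((EtShriek.extZeroAdj j).unit.app ((EtShriek.restrAlong j).obj F)) :=
    isIso_extZeroAdj_unit_app j _
  have h3 : IsIso ((EtShriek.extZeroAdj j).unit.app ((EtShriek.restrAlong j).obj F) ≫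
      (EtShriek.restrAlong j).map ((EtShriek.extZeroAdj j).counit.app F)) := by
    rw [h]
    exact IsIso.id _
  exact IsIso.of_isIso_comp_left
    ((EtShriek.extZeroAdj j).unit.app ((EtShriek.restrAlong j).obj F)) _

/-- `(j⁻¹ -)_u ≅ (-)_{u ≫ j}` with `j⁻¹` the restriction functor -/
noncomputable def stalkRestrIso {Ω : Type u} [Field Ω] [IsSepClosed Ω]
    (u : Spec (CommRingCat.of Ω) ⟶ U) :
    EtShriek.restrAlong j ⋙ EtCoh.stalk u ≅ EtCoh.stalk (u ≫ j) :=
  Functor.isoWhiskerRight (pullIsoRestr j).symm (EtCoh.stalk u) ≪≫ stalkPullIso j u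

theorem isIso_stalk_map_counit (F : EtCoh.Ab X) {Ω : Type u} [Field Ω] [IsSepClosed Ω]
    (u : Spec (CommRingCat.of Ω) ⟶ U) :
    IsIso ((EtCoh.stalk (u ≫ j)).map ((EtShriek.extZeroAdj j).counit.app F)) := by
  have h1 := isIso_restr_map_counit j F
  have h2 : IsIso ((EtShriek.restrAlong j ⋙ EtCoh.stalk u).map
      ((EtShriek.extZeroAdj j).counit.app F)) := by
    rw [Functor.comp_map]
    infer_instance
  exact (NatIso.isIso_map_iff (stalkRestrIso j u) ((EtShriek.extZeroAdj j).counit.app F)).1 h2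

end Open


section Main

variable {Z X : Scheme.{u}} (i : Z ⟶ X) [IsClosedImmersion i]
  (U : X.Opens) (hU : (U : Set X) = (Set.range i.base)ᶜ)

include hU in
theorem cases_geomPt {Ω : Type u} [Field Ω] (ξ : Spec (CommRingCat.of Ω) ⟶ X) :
    ((∃ u : Spec (CommRingCat.of Ω) ⟶ U.toScheme, u ≫ U.ι = ξ) ∧
      Disjoint (Set.range ξ.base) (Set.range i.base)) ∨
    ((∃ ζ : Spec (CommRingCat.of Ω) ⟶ Z, ζ ≫ i = ξ) ∧
      Disjoint (Set.range ξ.base) (Set.range U.ι.base)) := by
  by_cases hξ : Disjoint (Set.range ξ.base) (Set.range i.base)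
  · left
    refine ⟨?_, hξ⟩
    have hr : Set.range ξ ⊆ Set.range U.ι := by
      rw [Scheme.Opens.range_ι, hU]
      rintro _ ⟨p, rfl⟩ hcon
      exact (Set.disjoint_left.1 hξ) ⟨p, rfl⟩ hcon
    exact ⟨IsOpenImmersion.lift U.ι ξ hr, IsOpenImmersion.lift_fac U.ι ξ hr⟩
  · right
    obtain ⟨ζ, rfl⟩ := Groth.Agent.Helper9.EtClosedEss.exists_lift_geomPt i ξ hξ
    refine ⟨⟨ζ, rfl⟩, ?_⟩
    rw [Set.disjoint_left]
    rintro _ ⟨p, rfl⟩ hcon
    have h1 : (ζ ≫ i) p ∈ (U : Set X) := by
      rw [← Scheme.Opens.range_ι]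
      exact hcon
    rw [hU] at h1
    exact h1 ⟨ζ p, (Scheme.Hom.comp_apply ζ i p).symm⟩

variable [AlgebraicGeometry.Etale U.ι] [EtShriek.JCont U.ι]

omit [IsClosedImmersion i] in
include hU in
theorem subsingleton_hom (H : EtCoh.Ab U.toScheme) (G : EtCoh.Ab Z) :
    Subsingleton ((EtShriek.extZero U.ι).obj H ⟶ (EtCoh.push i).obj G) := by
  have h1 : Subsingleton (H ⟶ (EtShriek.restrAlong U.ι).obj ((EtCoh.push i).obj G)) := by
    refine ⟨fun a b => ?_⟩
    apply Sheaf.hom_ext
    ext V : 2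
    have hd : Disjoint (Set.range ((EtShriek.compEtale U.ι).obj V.unop).hom.base)
        (Set.range i.base) := by
      rw [Set.disjoint_left]
      rintro _ ⟨p, rfl⟩ hcon
      have h2 : ((EtShriek.compEtale U.ι).obj V.unop).hom p ∈ (U : Set X) := by
        rw [← Scheme.Opens.range_ι]
        exact ⟨V.unop.hom p, (Scheme.Hom.comp_apply V.unop.hom U.ι p).symm⟩
      rw [hU] at h2
      exact h2 hcon
    have := Groth.Agent.Helper9.EtClosedEss.isEmpty_bc_of_disjoint i _ hd
    have hs : Subsingleton ↑(G.obj.obj (op ((EtCoh.bc i).obj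
        ((EtShriek.compEtale U.ι).obj V.unop)))) :=
      Groth.Agent.Helper9.EtPushClosedZero.subsingleton_of_isEmpty G _
    ext x
    exact @Subsingleton.elim _ hs _ _
  exact ((EtShriek.extZeroAdj U.ι).homEquiv _ _).subsingleton

attribute [local instance] preservesFilteredColimits_forget_ab

include hU in
theorem main (F : EtCoh.Ab X) :
    ∃ w : (EtShriek.extZeroAdj U.ι).counit.app F ≫ (EtCoh.pullPushAdj i).unit.app F = 0,
      (ShortComplex.mk _ _ w).ShortExact := by
  have w : (EtShriek.extZeroAdj U.ι).counit.app F ≫ (EtCoh.pullPushAdj i).unit.app F = 0 :=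
    @Subsingleton.elim _ (subsingleton_hom i U hU _ _) _ _
  refine ⟨w, ?_⟩
  -- stalkwise behaviour
  have key : ∀ (Ω : Type u) [Field Ω] [IsSepClosed Ω] (ξ : Spec (CommRingCat.of Ω) ⟶ X),
      (Function.Bijective ((EtCoh.stalk ξ).map ((EtShriek.extZeroAdj U.ι).counit.app F)) ∧
        Subsingleton ↑((EtCoh.stalk ξ).obj ((EtCoh.push i).obj ((EtCoh.pull i).obj F)))) ∨
      (Subsingleton ↑((EtCoh.stalk ξ).obj ((EtShriek.extZero U.ι).obj
          ((EtShriek.restrAlong U.ι).obj F))) ∧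
        Function.Bijective ((EtCoh.stalk ξ).map ((EtCoh.pullPushAdj i).unit.app F))) := by
    intro Ω _ _ ξ
    rcases cases_geomPt i U hU ξ with ⟨⟨u, rfl⟩, hd⟩ | ⟨⟨ζ, rfl⟩, hd⟩
    · left
      exact ⟨(ConcreteCategory.isIso_iff_bijective _).1 (isIso_stalk_map_counit U.ι F u),
        AddCommGrpCat.subsingleton_of_isZero
          (Groth.Agent.Helper9.EtPushClosedZero.main i _ _ hd)⟩
    · right
      exact ⟨AddCommGrpCat.subsingleton_of_isZero
          (Groth.Agent.Helper9.EtShriekStalkZero.isZero_stalk_extZero U.ι _ _ hd),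
        (ConcreteCategory.isIso_iff_bijective _).1
          (Groth.Agent.Helper9.EtClosedEss.isIso_stalk_map_unit i F ζ)⟩
  have hm : Mono ((EtShriek.extZeroAdj U.ι).counit.app F) := by
    rw [mono_iff_stalks]
    intro Ω _ _ ξ
    rcases key Ω ξ with ⟨h1, -⟩ | ⟨h1, -⟩
    · exact h1.1
    · exact fun a b _ => @Subsingleton.elim _ h1 a b
  have he : Epi ((EtCoh.pullPushAdj i).unit.app F) := by
    rw [epi_iff_stalks]
    intro Ω _ _ ξ
    rcases key Ω ξ with ⟨-, h2⟩ | ⟨-, h2⟩
    · exact fun y => ⟨0, @Subsingleton.elim _ h2 _ _⟩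
    · exact h2.2
  have hex : (ShortComplex.mk _ _ w).Exact := by
    rw [exact_iff_stalks]
    intro Ω _ _ ξ
    rw [ShortComplex.ab_exact_iff]
    intro y hy
    rcases key Ω ξ with ⟨h1, -⟩ | ⟨-, h2⟩
    · exact h1.2 y
    · refine ⟨0, ?_⟩
      have hy0 : ((EtCoh.stalk ξ).map ((EtCoh.pullPushAdj i).unit.app F)) y =
          ((EtCoh.stalk ξ).map ((EtCoh.pullPushAdj i).unit.app F)) 0 := by
        rw [map_zero]
        exact hy
      have hy1 : y = 0 := h2.1 hy0
      rw [hy1]
      exact map_zero _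
  exact ShortComplex.ShortExact.mk hex

end Main

end Groth.Agent.Helper9.EtRecollement
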