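import Mathlib
import Groth.Agent.Helper9.ExtNat

/-! For an adjunction `L ⊣ R` between abelian categories with both functors exact, the canonical
maps `Ext^n(L A, F) ⇄ Ext^n(A, R F)` are mutually inverse. -/

set_option autoImplicit false
set_option linter.style.haveILetI false
set_option linter.unusedSectionVars false
universe w v₁ v₂ u₁ u₂

namespace Groth.Agent.Helper9.ExtAdj2

open CategoryTheory CategoryTheory.Limits Abelian Groth.Agent.Helper9.ExtNat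

section Id

variable {𝒜 : Type u₁} [Category.{v₁} 𝒜] [Abelian 𝒜] [HasExt.{w} 𝒜] [EnoughInjectives 𝒜]

theorem mapExactFunctor_id : ∀ (n : ℕ) {A B : 𝒜} (e : Ext.{w} A B n),
    (e.mapExactFunctor (𝟭 𝒜) : Ext.{w} _ _ n) = e
  | 0, A, B, e => by
    obtain ⟨f, rfl⟩ := (Ext.mk₀_bijective A B).2 e
    rw [Ext.mapExactFunctor_mk₀]
    rfl
  | n + 1, A, B, e => by
    obtain ⟨x, rfl⟩ := exists_comp_extClass e
    have hS := sc_shortExact B
    have ih := mapExactFunctor_id n x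
    have e1 : (x.comp hS.extClass rfl).mapExactFunctor (𝟭 𝒜) =
        (x.mapExactFunctor (𝟭 𝒜)).comp (hS.map_of_exact (𝟭 𝒜)).extClass rfl :=
      (Ext.mapExactFunctor_comp (𝟭 𝒜) x hS.extClass rfl).trans
        (congrArg (fun z => (x.mapExactFunctor (𝟭 𝒜)).comp z rfl)
          (Ext.mapExactFunctor_extClass (𝟭 𝒜) hS))
    refine e1.trans ?_
    exact congrArg (fun z => z.comp hS.extClass rfl) ih

end Id

variable {𝒜 : Type u₁} [Category.{v₁} 𝒜] [Abelian 𝒜] {ℬ : Type u₂} [Category.{v₂} ℬ] [Abelian ℬ]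
  [HasExt.{w} 𝒜] [HasExt.{w} ℬ] [EnoughInjectives 𝒜] [EnoughInjectives ℬ]
  {L : 𝒜 ⥤ ℬ} {R : ℬ ⥤ 𝒜} (adj : L ⊣ R) [L.Additive] [R.Additive]
  [PreservesFiniteLimits L] [PreservesFiniteColimits L]
  [PreservesFiniteLimits R] [PreservesFiniteColimits R]

/-- `Ext^n(L A, F) → Ext^n(A, R F)` -/
noncomputable def ψ (A : 𝒜) (F : ℬ) (n : ℕ) : Ext.{w} (L.obj A) F n →+ Ext.{w} A (R.obj F) n :=
  ((Ext.mk₀ (adj.unit.app A)).precomp (R.obj F) (zero_add n)).comp (R.mapExtAddHom (L.obj A) F n)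

/-- `Ext^n(A, R F) → Ext^n(L A, F)` -/
noncomputable def φ (A : 𝒜) (F : ℬ) (n : ℕ) : Ext.{w} A (R.obj F) n →+ Ext.{w} (L.obj A) F n :=
  ((Ext.mk₀ (adj.counit.app F)).postcomp (L.obj A) (add_zero n)).comp
    (L.mapExtAddHom A (R.obj F) n)

lemma ψ_apply (A : 𝒜) (F : ℬ) (n : ℕ) (e : Ext.{w} (L.obj A) F n) :
    ψ adj A F n e = (Ext.mk₀ (adj.unit.app A)).comp (e.mapExactFunctor R) (zero_add n) := rfl

lemma φ_apply (A : 𝒜) (F : ℬ) (n : ℕ) (e : Ext.{w} A (R.obj F) n) :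
    φ adj A F n e = (e.mapExactFunctor L).comp (Ext.mk₀ (adj.counit.app F)) (add_zero n) := rfl

theorem ψ_φ (A : 𝒜) (F : ℬ) (n : ℕ) (e : Ext.{w} A (R.obj F) n) :
    ψ adj A F n (φ adj A F n e) = e := by
  have hnat := mapExactFunctor_natTrans (𝟭 𝒜) (L ⋙ R) adj.unit n e
  have hcomp := mapExactFunctor_comp_functor L R n e
  rw [mapExactFunctor_id] at hnat
  rw [ψ_apply, φ_apply, Ext.mapExactFunctor_comp, Ext.mapExactFunctor_mk₀, hcomp,
    ← Ext.comp_assoc_of_third_deg_zero]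
  erw [← hnat]
  rw [Ext.comp_assoc_of_third_deg_zero, Ext.mk₀_comp_mk₀]
  erw [adj.right_triangle_components]
  exact Ext.comp_mk₀_id _

theorem φ_ψ (A : 𝒜) (F : ℬ) (n : ℕ) (e : Ext.{w} (L.obj A) F n) :
    φ adj A F n (ψ adj A F n e) = e := by
  have hnat := mapExactFunctor_natTrans (R ⋙ L) (𝟭 ℬ) adj.counit n e
  have hcomp := mapExactFunctor_comp_functor R L n e
  rw [mapExactFunctor_id] at hnat
  rw [ψ_apply, φ_apply, Ext.mapExactFunctor_comp, Ext.mapExactFunctor_mk₀, hcomp,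
    Ext.comp_assoc_of_third_deg_zero]
  erw [hnat]
  rw [← Ext.comp_assoc_of_second_deg_zero, Ext.mk₀_comp_mk₀]
  erw [adj.left_triangle_components]
  exact Ext.mk₀_id_comp _

/-- the adjunction isomorphism on `Ext` -/
noncomputable def equiv (A : 𝒜) (F : ℬ) (n : ℕ) : Ext.{w} (L.obj A) F n ≃+ Ext.{w} A (R.obj F) n :=
  { ψ adj A F n with
    invFun := φ adj A F n
    left_inv := φ_ψ adj A F n
    right_inv := ψ_φ adj A F n }

end Groth.Agent.Helper9.ExtAdj2
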