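import Mathlib
import Groth.Prelude.Def_CohCx
import Groth.Prelude.Def_CohTop
import Groth.Agent.Helper1.SiteCoh
import Groth.Agent.Helper4.HDUkap

/-! Sections of cycles of a complex of sheaves; the class map to hypercohomology with values in an
isomorphic object of the derived category. -/

set_option autoImplicit false
set_option linter.unusedSectionVars false

namespace Groth.Agent.Helper9.CZ5

open CategoryTheory Limits Opposite
open Groth.Agent.Helper1.SiteCoh Groth.Agent.Helper4.HDUkap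

universe u

section site

variable {C : Type u} [SmallCategory C] {J : GrothendieckTopology C}

lemma injective_app_of_mono {F G : Sheaf J AddCommGrpCat.{u}} (f : F ⟶ G) [Mono f] (W : Cᵒᵖ) :
    Function.Injective (f.hom.app W) := by
  have h1 : Mono ((sheafToPresheaf _ _).map f) := inferInstance
  rw [NatTrans.mono_iff_mono_app] at h1
  exact (AddCommGrpCat.mono_iff_injective _).1 (h1 W)

lemma subsingleton_of_isZero {F : Sheaf J AddCommGrpCat.{u}} (hF : IsZero F) (W : Cᵒᵖ) :
    Subsingleton (F.obj.obj W) := by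
  have h1 : IsZero ((sheafToPresheaf J AddCommGrpCat.{u} ⋙ (evaluation _ _).obj W).obj F) :=
    Functor.map_isZero _ hF
  exact AddCommGrpCat.subsingleton_of_isZero h1

variable (L : CochainComplex (Sheaf J AddCommGrpCat.{u}) ℤ)

lemma iCycles_toCycles (j q : ℤ) : L.iCycles j ≫ L.toCycles j q = 0 := by
  rw [← cancel_mono (L.iCycles q), Category.assoc, HomologicalComplex.toCycles_i,
    HomologicalComplex.iCycles_d, zero_comp]

lemma toCycles_iCycles_app (j q : ℤ) (V : Cᵒᵖ) (z : (L.cycles j).obj.obj V) :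
    (L.toCycles j q).hom.app V ((L.iCycles j).hom.app V z) = 0 := by
  have h := congrArg (fun φ => φ.hom.app V z) (iCycles_toCycles L j q)
  exact h

lemma exists_cycle (j q : ℤ) (hjq : j + 1 = q) (V' : Cᵒᵖ) (x : (L.X j).obj.obj V')
    (hx : (L.toCycles j q).hom.app V' x = 0) :
    ∃ z : (L.cycles j).obj.obj V', (L.iCycles j).hom.app V' z = x := by
  subst hjq
  obtain ⟨V⟩ := V'
  let f : CohCx.freeSheaf J V ⟶ L.X j := (homEquiv V (L.X j)).symm x
  have hf : f ≫ L.d j (j + 1) = 0 := by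
    apply (homEquiv V (L.X (j + 1))).injective
    rw [homEquiv_comp, Equiv.apply_symm_apply]
    have h0 : homEquiv V (L.X (j + 1)) 0 = 0 := (homAddEquiv V (L.X (j + 1))).map_zero
    rw [h0, ← HomologicalComplex.toCycles_i L j (j + 1)]
    show (L.iCycles (j + 1)).hom.app (op V) ((L.toCycles j (j + 1)).hom.app (op V) x) = 0
    rw [hx, map_zero]
  refine ⟨homEquiv V (L.cycles j) (L.liftCycles f (j + 1) (by simp) hf), ?_⟩
  rw [← homEquiv_comp, HomologicalComplex.liftCycles_i, Equiv.apply_symm_apply]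

variable [HasDerivedCategory.{u} (Sheaf J AddCommGrpCat.{u})]
  {E : DerivedCategory (Sheaf J AddCommGrpCat.{u})} (γ : DerivedCategory.Q.obj L ⟶ E)

/-- the class map `Zᵠ(L) ⟶ hᵠ(E)` for a morphism `L ⟶ E` in the derived category -/
noncomputable def κE (q : ℤ) : (L.cycles q).obj ⟶ CohCx.HDUPresheaf E q where
  app V := AddCommGrpCat.ofHom ((Preadditive.rightComp _ (γ⟦q⟧')).comp (κ L q V.unop))
  naturality V V' f := by
    apply AddCommGrpCat.hom_ext
    apply AddMonoidHom.ext
    intro s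
    show κ L q V'.unop ((L.cycles q).obj.map f s) ≫ γ⟦q⟧' =
      (DerivedCategory.singleFunctor _ 0).map (CohCx.freeSheafMap J f.unop) ≫
        (κ L q V.unop s ≫ γ⟦q⟧')
    have h := κ_map L q f.unop s
    rw [← Category.assoc, ← h]
    rfl

lemma κE_app (q : ℤ) (V : Cᵒᵖ) (s : (L.cycles q).obj.obj V) :
    (κE L γ q).app V s = κ L q V.unop s ≫ γ⟦q⟧' := rfl

variable [IsIso γ]

lemma κE_eq_zero_iff (q : ℤ) (V : Cᵒᵖ) (s : (L.cycles q).obj.obj V) :
    (κE L γ q).app V s = 0 ↔ κ L q V.unop s = 0 := by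
  have : IsIso (γ⟦q⟧') := inferInstance
  exact Preadditive.IsIso.comp_right_eq_zero (f := κ L q V.unop s) (g := γ⟦q⟧')

variable [L.IsKInjective]

lemma κE_surjective (q : ℤ) (V : Cᵒᵖ) : Function.Surjective ((κE L γ q).app V) := by
  intro h
  let h' : (DerivedCategory.singleFunctor _ 0).obj (CohCx.freeSheaf J V.unop) ⟶ E⟦q⟧ := h
  obtain ⟨s, hs⟩ := κ_surjective L q V.unop (h' ≫ (inv γ)⟦q⟧')
  refine ⟨s, ?_⟩
  show κ L q V.unop s ≫ γ⟦q⟧' = h'
  rw [hs, Category.assoc, ← Functor.map_comp, IsIso.inv_hom_id, CategoryTheory.Functor.map_id]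
  exact Category.comp_id _

lemma κE_toCycles (j q : ℤ) (hjq : j + 1 = q) (V : Cᵒᵖ) (x : (L.X j).obj.obj V) :
    (κE L γ q).app V ((L.toCycles j q).hom.app V x) = 0 := by
  obtain rfl : j = q - 1 := by omega
  rw [κE_eq_zero_iff, κ_eq_zero_iff]
  exact ⟨x, rfl⟩

lemma exists_of_κE_eq_zero (j q : ℤ) (hjq : j + 1 = q) (V : Cᵒᵖ) (s : (L.cycles q).obj.obj V)
    (hs : (κE L γ q).app V s = 0) : ∃ x : (L.X j).obj.obj V, (L.toCycles j q).hom.app V x = s := by
  obtain rfl : j = q - 1 := by omega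
  rw [κE_eq_zero_iff, κ_eq_zero_iff] at hs
  exact hs

end site

end Groth.Agent.Helper9.CZ5
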