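import Mathlib
import Groth.Prelude.Def_CohCx
import Groth.Agent.Helper9.CZ5

/-! Hypercohomology over an object is the cohomology of the complex of sections of a K-injective
model. -/

set_option autoImplicit false
set_option linter.unusedSectionVars false

namespace Groth.Agent.Helper9.HyA

open CategoryTheory Limits Opposite
open Groth.Agent.Helper9.CZ5

universe u w

/-- homology of a complex of abelian groups, concretely -/
noncomputable def hEquiv (K : CochainComplex AddCommGrpCat.{w} ℤ) (i j k : ℤ)
    (hi : (ComplexShape.up ℤ).prev j = i) (hk : (ComplexShape.up ℤ).next j = k) :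
    K.homology j ≃+ ((K.d j k).hom.ker ⧸ AddMonoidHom.range (K.sc' i j k).abToCycles) :=
  ((K.homologyIsoSc' i j k hi hk) ≪≫ (K.sc' i j k).abHomologyIso).addCommGroupIsoToAddEquiv

theorem nonempty_homology_equiv (K : CochainComplex AddCommGrpCat.{w} ℤ) (n : ℤ) {H : Type w}
    [AddCommGroup H] (π : (K.d n (n + 1)).hom.ker →+ H) (hπ : Function.Surjective π)
    (hker : ∀ z, π z = 0 ↔ ∃ y : K.X (n - 1), (K.d (n - 1) n) y = z.1) :
    Nonempty (K.homology n ≃+ H) := by
  let π' : AddMonoidHom.ker (K.sc' (n - 1) n (n + 1)).g.hom →+ H := π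
  have hπ' : Function.Surjective π' := hπ
  have hker' : ∀ z, π' z = 0 ↔ ∃ y : K.X (n - 1), (K.d (n - 1) n) y = z.1 := hker
  have h1 : AddMonoidHom.range (K.sc' (n - 1) n (n + 1)).abToCycles = π'.ker := by
    ext z
    rw [AddMonoidHom.mem_range, AddMonoidHom.mem_ker, hker']
    constructor
    · rintro ⟨y, hy⟩
      refine ⟨y, ?_⟩
      rw [← hy]
      rfl
    · rintro ⟨y, hy⟩
      refine ⟨y, ?_⟩
      apply Subtype.ext
      exact hy
  exact ⟨(hEquiv K (n - 1) n (n + 1) (by simp) (by simp)).trans
    ((QuotientAddGroup.quotientAddEquivOfEq h1).trans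
      (QuotientAddGroup.quotientKerEquivOfSurjective π' hπ'))⟩

section site

variable {C : Type u} [SmallCategory C] {J : GrothendieckTopology C}
  (L : CochainComplex (Sheaf J AddCommGrpCat.{u}) ℤ)
  [HasDerivedCategory.{u} (Sheaf J AddCommGrpCat.{u})]
  {E : DerivedCategory (Sheaf J AddCommGrpCat.{u})} (γ : DerivedCategory.Q.obj L ⟶ E)
  [IsIso γ] [L.IsKInjective]

include γ in
theorem nonempty_equiv (n : ℤ) (U : C) :
    Nonempty ((((CohCx.sectCx J U).obj L).homology n : AddCommGrpCat.{u}) ≃+ CohCx.HDU E n U) := by
  let M := (CohCx.sectCx J U).obj L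
  -- sections of the cycles are the cocycles of sections
  have hz : ∀ x : (M.d n (n + 1)).hom.ker, ∃ z : (L.cycles n).obj.obj (op U),
      (L.iCycles n).hom.app (op U) z = x.1 := by
    intro x
    apply exists_cycle L n (n + 1) rfl (op U) x.1
    apply injective_app_of_mono (L.iCycles (n + 1)) (op U)
    rw [map_zero]
    have h := congrArg (fun φ => φ.hom.app (op U) x.1) (HomologicalComplex.toCycles_i L n (n + 1))
    refine h.trans ?_
    exact x.2
  have hinj := injective_app_of_mono (L.iCycles n) (op U)
  choose zf hzf using hz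
  let π : (M.d n (n + 1)).hom.ker →+ CohCx.HDU E n U :=
    { toFun := fun x => (κE L γ n).app (op U) (zf x)
      map_zero' := by
        have : zf 0 = 0 := by
          apply hinj
          rw [hzf, map_zero]
          rfl
        rw [this, map_zero]
        rfl
      map_add' := fun x y => by
        have : zf (x + y) = zf x + zf y := by
          apply hinj
          rw [hzf, map_add, hzf, hzf]
          rfl
        rw [this, map_add]
        rfl }
  refine nonempty_homology_equiv M n π ?_ ?_
  · intro h
    obtain ⟨s, hs⟩ := κE_surjective L γ n (op U) h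
    let x0 : M.X n := (L.iCycles n).hom.app (op U) s
    have hx0 : (M.d n (n + 1)).hom x0 = 0 := by
      have h := congrArg (fun φ => φ.hom.app (op U) s) (HomologicalComplex.iCycles_d L n (n + 1))
      exact h
    have hx : x0 ∈ (M.d n (n + 1)).hom.ker := AddMonoidHom.mem_ker.2 hx0
    refine ⟨⟨_, hx⟩, ?_⟩
    have : zf ⟨_, hx⟩ = s := hinj (hzf _)
    show (κE L γ n).app (op U) (zf ⟨_, hx⟩) = h
    rw [this, hs]
  · intro x
    show (κE L γ n).app (op U) (zf x) = 0 ↔ _
    constructor
    · intro h0
      obtain ⟨y, hy⟩ := exists_of_κE_eq_zero L γ (n - 1) n (by omega) (op U) (zf x) h0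
      refine ⟨y, ?_⟩
      rw [← hzf x, ← hy]
      have h := congrArg (fun φ => φ.hom.app (op U) y)
        (HomologicalComplex.toCycles_i L (n - 1) n)
      exact h.symm
    · rintro ⟨y, hy⟩
      have : zf x = (L.toCycles (n - 1) n).hom.app (op U) y := by
        apply hinj
        rw [hzf, ← hy]
        have h := congrArg (fun φ => φ.hom.app (op U) y)
          (HomologicalComplex.toCycles_i L (n - 1) n)
        exact h.symm
      rw [this]
      exact κE_toCycles L γ (n - 1) n (by omega) (op U) y

end site

end Groth.Agent.Helper9.HyA
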