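import Mathlib
import Groth.Agent.Helper6.Cosk1

/-!
# Coskeleta via the pointwise formula: projections, extensionality, lifts
-/

set_option autoImplicit false

open CategoryTheory Limits Opposite Functor Simplicial

namespace Groth.Agent.Helper9.CoskHtpyA

universe v u

variable {E : Type u} [Category.{v} E] [HasFiniteLimits E] (n : ℕ)
  [∀ (F : (SimplexCategory.Truncated n)ᵒᵖ ⥤ E),
    (SimplexCategory.Truncated.inclusion n).op.HasRightKanExtension F]

open SimplicialObject

/-- the counit of the coskeleton -/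
noncomputable abbrev ε (X : SimplicialObject E) :
    (SimplexCategory.Truncated.inclusion n).op ⋙ (cosk n).obj X ⟶ (truncation n).obj X :=
  (coskAdj n).counit.app ((truncation n).obj X)

/-- the coskeleton is a pointwise right Kan extension -/
noncomputable def isPW (X : SimplicialObject E) :
    (RightExtension.mk ((cosk n).obj X) (ε n X)).IsPointwiseRightKanExtension := by
  haveI := Groth.Agent.Helper6.Cosk1.hasPointwise (C := E) n ((truncation n).obj X)
  exact isPointwiseRightKanExtensionOfIsRightKanExtension ((cosk n).obj X) (ε n X)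

/-- the projection of `(cosk_n X)_m` attached to `φ : [j] ⟶ [m]`, `j ≤ n`. -/
noncomputable def pr (X : SimplicialObject E) {m j : SimplexCategory} (φ : j ⟶ m) (hj : j.len ≤ n) :
    ((cosk n).obj X).obj (op m) ⟶ X.obj (op j) :=
  ((cosk n).obj X).map φ.op ≫ (ε n X).app (op ⟨j, hj⟩)

variable {n}

lemma pr_comp (X : SimplicialObject E) {m j j' : SimplexCategory} (φ : j ⟶ m) (hj : j.len ≤ n)
    (ψ : j' ⟶ j) (hj' : j'.len ≤ n) :
    pr n X (ψ ≫ φ) hj' = pr n X φ hj ≫ X.map ψ.op := by
  have h := (ε n X).naturality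
    (X := op (⟨j, hj⟩ : SimplexCategory.Truncated n)) (Y := op ⟨j', hj'⟩)
    (Quiver.Hom.op (ObjectProperty.homMk ψ))
  dsimp only [pr]
  rw [op_comp, Functor.map_comp, Category.assoc, Category.assoc]
  congr 1

lemma map_pr (X : SimplicialObject E) {m m' j : SimplexCategory} (χ : m ⟶ m') (φ : j ⟶ m)
    (hj : j.len ≤ n) :
    ((cosk n).obj X).map χ.op ≫ pr n X φ hj = pr n X (φ ≫ χ) hj := by
  dsimp only [pr]
  rw [op_comp, Functor.map_comp, Category.assoc]

lemma hom_ext (X : SimplicialObject E) {Z : E} {m : SimplexCategory}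
    (a b : Z ⟶ ((cosk n).obj X).obj (op m))
    (h : ∀ (j : SimplexCategory) (hj : j.len ≤ n) (φ : j ⟶ m), a ≫ pr n X φ hj = b ≫ pr n X φ hj) :
    a = b := by
  refine (isPW n X (op m)).hom_ext (fun g => ?_)
  obtain ⟨⟨⟩, ⟨⟨j, hj⟩⟩, φ⟩ := g
  exact h j hj φ.unop

/-- a compatible family -/
structure Fam (X : SimplicialObject E) (Z : E) (m : SimplexCategory) where
  c : ∀ (j : SimplexCategory) (_ : j.len ≤ n) (_ : j ⟶ m), (Z ⟶ X.obj (op j))
  comp : ∀ (j j' : SimplexCategory) (hj : j.len ≤ n) (hj' : j'.len ≤ n) (φ : j ⟶ m) (ψ : j' ⟶ j),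
    c j' hj' (ψ ≫ φ) = c j hj φ ≫ X.map ψ.op

/-- the cone of a compatible family -/
noncomputable def Fam.cone {X : SimplicialObject E} {Z : E} {m : SimplexCategory} (F : Fam (n := n) X Z m) :
    Cone (StructuredArrow.proj (op m) (SimplexCategory.Truncated.inclusion n).op ⋙
      (truncation n).obj X) where
  pt := Z
  π :=
    { app := fun g => F.c g.right.unop.obj g.right.unop.property g.hom.unop
      naturality := by
        intro g g' t
        have h := F.comp g.right.unop.obj g'.right.unop.obj g.right.unop.property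
          g'.right.unop.property g.hom.unop t.right.unop.hom
        have hw : g'.hom.unop = t.right.unop.hom ≫ g.hom.unop :=
          congrArg Quiver.Hom.unop (StructuredArrow.w t).symm
        dsimp only [Functor.const_obj_obj, Functor.const_obj_map]
        rw [Category.id_comp, hw]
        exact h }

/-- the lift of a compatible family -/
noncomputable def Fam.lift {X : SimplicialObject E} {Z : E} {m : SimplexCategory} (F : Fam (n := n) X Z m) :
    Z ⟶ ((cosk n).obj X).obj (op m) :=
  (isPW n X (op m)).lift F.cone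

lemma Fam.lift_pr {X : SimplicialObject E} {Z : E} {m : SimplexCategory} (F : Fam (n := n) X Z m)
    {j : SimplexCategory} (hj : j.len ≤ n) (φ : j ⟶ m) :
    F.lift ≫ pr n X φ hj = F.c j hj φ :=
  (isPW n X (op m)).fac F.cone (StructuredArrow.mk (Y := op (⟨j, hj⟩ : SimplexCategory.Truncated n))
    (T := (SimplexCategory.Truncated.inclusion n).op) φ.op)

lemma cosk_map_pr {X X' : SimplicialObject E} (f : X ⟶ X') {m j : SimplexCategory} (φ : j ⟶ m)
    (hj : j.len ≤ n) :
    ((cosk n).map f).app (op m) ≫ pr n X' φ hj = pr n X φ hj ≫ f.app (op j) := by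
  dsimp only [pr]
  rw [← Category.assoc, ← ((cosk n).map f).naturality φ.op, Category.assoc, Category.assoc]
  congr 1
  have h := (coskAdj (C := E) n).counit.naturality ((truncation n).map f)
  exact congr_app h (op ⟨j, hj⟩)

end Groth.Agent.Helper9.CoskHtpyA
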