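import Mathlib
import Groth.Agent.Helper9.CoskHtpyA

/-!
# Prism maps between coskeleta
-/

set_option autoImplicit false

open CategoryTheory Limits Opposite Functor Simplicial

namespace Groth.Agent.Helper9.CoskHtpyB

open Groth.Agent.Helper9.CoskHtpyA SimplicialObject

universe v u

lemma exists_factor_of_not_surjective {j' j : SimplexCategory} (ψ : j' ⟶ j)
    (hψ : ¬ Function.Surjective ψ.toOrderHom) :
    ∃ (k : SimplexCategory) (e : j' ⟶ k) (ι : k ⟶ j), e ≫ ι = ψ ∧ k.len < j.len := by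
  induction j using SimplexCategory.rec with
  | _ l =>
    cases l with
    | zero =>
      exfalso
      apply hψ
      intro y
      exact ⟨0, Subsingleton.elim (α := Fin 1) _ _⟩
    | succ l =>
      obtain ⟨i, θ', h⟩ := SimplexCategory.eq_comp_δ_of_not_surjective ψ hψ
      exact ⟨⦋l⦌, θ', SimplexCategory.δ i, h.symm, by simp⟩

/-- the colour is constantly one -/
def IsOne {j : SimplexCategory} (d : j ⟶ ⦋1⦌) : Prop := ∀ t, d.toOrderHom t = 1

lemma IsOne.comp {j j' : SimplexCategory} {d : j ⟶ ⦋1⦌} (h : IsOne d) (ψ : j' ⟶ j) :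
    IsOne (ψ ≫ d) := fun t => h (ψ.toOrderHom t)

lemma not_surjective_of_isOne {j j' : SimplexCategory} {d : j ⟶ ⦋1⦌} (ψ : j' ⟶ j)
    (h1 : ¬ IsOne d) (h2 : IsOne (ψ ≫ d)) : ¬ Function.Surjective ψ.toOrderHom := by
  intro hs
  apply h1
  intro t
  obtain ⟨s, rfl⟩ := hs t
  exact h2 s

variable {E : Type u} [Category.{v} E] [HasFiniteLimits E] {n : ℕ}
  [∀ (F : (SimplexCategory.Truncated n)ᵒᵖ ⥤ E),
    (SimplexCategory.Truncated.inclusion n).op.HasRightKanExtension F]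
  {X X' : SimplicialObject E} (f g : X ⟶ X')

open Classical in
/-- selection of `f` or `g` according to a condition -/
noncomputable def sel (P : Prop) (j : SimplexCategory) : X.obj (op j) ⟶ X'.obj (op j) :=
  if P then g.app (op j) else f.app (op j)

lemma sel_nat (P : Prop) {j j' : SimplexCategory} (ψ : j' ⟶ j) :
    sel f g P j ≫ X'.map ψ.op = X.map ψ.op ≫ sel f g P j' := by
  unfold sel
  split_ifs
  · exact (g.naturality ψ.op).symm
  · exact (f.naturality ψ.op).symm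

variable (hfg : ∀ p : ℕ, p < n → f.app (op ⦋p⦌) = g.app (op ⦋p⦌))

include hfg in
lemma key {j' k : SimplexCategory} (d : j' ⟶ k) (hk : k.len < n) :
    X.map d.op ≫ f.app (op j') = X.map d.op ≫ g.app (op j') := by
  have h : f.app (op k) = g.app (op k) := hfg k.len hk
  rw [f.naturality, g.naturality, h]

/-- the compatible family defining a prism map -/
noncomputable def fam {m m' : SimplexCategory} (a : m' ⟶ m) (c : m' ⟶ ⦋1⦌) :
    Fam (n := n) X' (((cosk n).obj X).obj (op m)) m' where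
  c j hj φ := pr n X (φ ≫ a) hj ≫ sel f g (IsOne (φ ≫ c)) j
  comp j j' hj hj' φ ψ := by
    have e0 : pr n X ((ψ ≫ φ) ≫ a) hj' = pr n X (φ ≫ a) hj ≫ X.map ψ.op := by
      rw [Category.assoc]; exact pr_comp X (φ ≫ a) hj ψ hj'
    have e1 : IsOne ((ψ ≫ φ) ≫ c) ↔ IsOne (ψ ≫ φ ≫ c) := by rw [Category.assoc]
    rw [Category.assoc (pr n X (φ ≫ a) hj), sel_nat, ← Category.assoc, ← e0]
    by_cases h1 : IsOne (φ ≫ c)
    · have h2 : IsOne ((ψ ≫ φ) ≫ c) := e1.mpr (h1.comp ψ)
      simp only [sel, if_pos h1, if_pos h2]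
    · by_cases h2 : IsOne ((ψ ≫ φ) ≫ c)
      · simp only [sel, if_neg h1, if_pos h2]
        obtain ⟨k, e, ι, hfac, hk⟩ :=
          exists_factor_of_not_surjective ψ (not_surjective_of_isOne ψ h1 (e1.mp h2))
        have hk' : k.len ≤ n := by omega
        have e2 : pr n X ((ψ ≫ φ) ≫ a) hj' = pr n X (ι ≫ φ ≫ a) hk' ≫ X.map e.op := by
          rw [← pr_comp X (ι ≫ φ ≫ a) hk' e hj', ← hfac]
          simp only [Category.assoc]
        rw [e2, Category.assoc, Category.assoc, key f g hfg e (by omega)]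
      · simp only [sel, if_neg h1, if_neg h2]

/-- the prism map attached to `(a, c) : [m'] ⟶ [m] × [1]` -/
noncomputable def H {m m' : SimplexCategory} (a : m' ⟶ m) (c : m' ⟶ ⦋1⦌) :
    ((cosk n).obj X).obj (op m) ⟶ ((cosk n).obj X').obj (op m') :=
  (fam f g hfg a c).lift

lemma H_pr {m m' : SimplexCategory} (a : m' ⟶ m) (c : m' ⟶ ⦋1⦌) {j : SimplexCategory}
    (hj : j.len ≤ n) (φ : j ⟶ m') :
    H f g hfg a c ≫ pr n X' φ hj = pr n X (φ ≫ a) hj ≫ sel f g (IsOne (φ ≫ c)) j :=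
  (fam f g hfg a c).lift_pr hj φ

lemma H_map {m m' m'' : SimplexCategory} (a : m' ⟶ m) (c : m' ⟶ ⦋1⦌) (ψ : m'' ⟶ m') :
    H f g hfg a c ≫ ((cosk n).obj X').map ψ.op = H f g hfg (ψ ≫ a) (ψ ≫ c) := by
  refine hom_ext X' _ _ (fun j hj φ => ?_)
  rw [Category.assoc, map_pr, H_pr, H_pr]
  simp only [Category.assoc]

lemma map_H {m m₁ m' : SimplexCategory} (a : m' ⟶ m) (c : m' ⟶ ⦋1⦌) (χ : m ⟶ m₁) :
    ((cosk n).obj X).map χ.op ≫ H f g hfg a c = H f g hfg (a ≫ χ) c := by
  refine hom_ext X' _ _ (fun j hj φ => ?_)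
  rw [Category.assoc, H_pr, H_pr, ← Category.assoc, map_pr]
  simp only [Category.assoc]

lemma H_id_of_isOne {m : SimplexCategory} (c : m ⟶ ⦋1⦌) (hc : IsOne c) :
    H f g hfg (𝟙 m) c = ((cosk n).map g).app (op m) := by
  refine hom_ext X' _ _ (fun j hj φ => ?_)
  rw [H_pr, cosk_map_pr, Category.comp_id]
  simp only [sel, if_pos (hc.comp φ)]

lemma H_id_of_zero {m : SimplexCategory} (c : m ⟶ ⦋1⦌) (hc : ∀ t, c.toOrderHom t = 0) :
    H f g hfg (𝟙 m) c = ((cosk n).map f).app (op m) := by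
  refine hom_ext X' _ _ (fun j hj φ => ?_)
  rw [H_pr, cosk_map_pr, Category.comp_id]
  have h : ¬ IsOne (φ ≫ c) := by
    intro h
    have h1 := h 0
    have h2 := hc (φ.toOrderHom 0)
    change c.toOrderHom (φ.toOrderHom 0) = 1 at h1
    rw [h2] at h1
    exact absurd h1 (by decide)
  simp only [sel, if_neg h]

end Groth.Agent.Helper9.CoskHtpyB
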