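import Mathlib
import Groth.Agent.Helper9.CoskHtpyB

/-!
# The homotopy between `cosk_n f` and `cosk_n g`
-/

set_option autoImplicit false

open CategoryTheory Limits Opposite Functor Simplicial

namespace Groth.Agent.Helper9.CoskHtpyC

open Groth.Agent.Helper9.CoskHtpyA Groth.Agent.Helper9.CoskHtpyB SimplicialObject

universe v u

lemma δ_apply_val {m : ℕ} (i : Fin (m + 2)) (t : Fin (m + 1)) :
    ((SimplexCategory.δ i).toOrderHom t : ℕ) = if (t : ℕ) < i then (t : ℕ) else t + 1 := by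
  change ((i.succAbove t : Fin (m + 2)) : ℕ) = _
  unfold Fin.succAbove
  split_ifs with h1 h2 h2
  · simp
  · exact absurd (Fin.lt_def.mp h1) (by simpa using h2)
  · exact absurd (Fin.lt_def.mpr (by simpa using h2)) h1
  · simp

lemma σ_apply_val {m : ℕ} (i : Fin (m + 1)) (t : Fin (m + 2)) :
    ((SimplexCategory.σ i).toOrderHom t : ℕ) = if (i : ℕ) < t then (t : ℕ) - 1 else t := by
  change ((i.predAbove t : Fin (m + 1)) : ℕ) = _
  unfold Fin.predAbove
  split_ifs with h1 h2 h2
  · simp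
  · exact absurd (Fin.lt_def.mp h1) (by simpa using h2)
  · exact absurd (Fin.lt_def.mpr (by simpa using h2)) h1
  · simp

/-- the colour `[m+1] ⟶ [1]`: `0` on `t ≤ i`, `1` on `t > i`. -/
def col {m : ℕ} (i : Fin (m + 1)) : ⦋m + 1⦌ ⟶ ⦋1⦌ :=
  SimplexCategory.mkHom
    ⟨fun t => if (t : ℕ) ≤ (i : ℕ) then 0 else 1, by
      intro t t' h
      dsimp only
      split_ifs with h1 h2 h2
      · exact le_rfl
      · exact Fin.zero_le _
      · exact absurd (le_trans (Fin.le_def.mp h) h2) h1
      · exact le_rfl⟩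

lemma col_apply {m : ℕ} (i : Fin (m + 1)) (t : Fin (m + 2)) :
    (col i).toOrderHom t = if (t : ℕ) ≤ (i : ℕ) then 0 else 1 := rfl

lemma hom_ext_one {j : SimplexCategory} (d d' : j ⟶ ⦋1⦌)
    (h : ∀ t, d.toOrderHom t = d'.toOrderHom t) : d = d' := by
  apply SimplexCategory.Hom.ext
  apply OrderHom.ext
  funext t
  exact h t

lemma δ_col_apply {m : ℕ} (k : Fin (m + 3)) (i : Fin (m + 2)) (t : Fin (m + 2)) :
    (SimplexCategory.δ k ≫ col i).toOrderHom t =
      if (if (t : ℕ) < k then (t : ℕ) else t + 1) ≤ (i : ℕ) then 0 else 1 := by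
  change (col i).toOrderHom ((SimplexCategory.δ k).toOrderHom t) = _
  rw [col_apply, δ_apply_val]

lemma σ_col_apply {m : ℕ} (k : Fin (m + 2)) (i : Fin (m + 1)) (t : Fin (m + 3)) :
    (SimplexCategory.σ k ≫ col i).toOrderHom t =
      if (if (k : ℕ) < t then (t : ℕ) - 1 else t) ≤ (i : ℕ) then 0 else 1 := by
  change (col i).toOrderHom ((SimplexCategory.σ k).toOrderHom t) = _
  rw [col_apply, σ_apply_val]

lemma c1 (m : ℕ) : IsOne (SimplexCategory.δ (0 : Fin (m + 2)) ≫ col (0 : Fin (m + 1))) := by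
  intro t
  change (col (0 : Fin (m + 1))).toOrderHom ((SimplexCategory.δ (0 : Fin (m + 2))).toOrderHom t) = 1
  rw [col_apply, δ_apply_val]
  simp

lemma c2 (m : ℕ) (t : Fin (m + 1)) :
    (SimplexCategory.δ (Fin.last (m + 1)) ≫ col (Fin.last m)).toOrderHom t = 0 := by
  change (col (Fin.last m)).toOrderHom ((SimplexCategory.δ (Fin.last (m + 1))).toOrderHom t) = 0
  rw [col_apply, δ_apply_val]
  have := t.isLt
  simp only [Fin.val_last]
  split_ifs <;> first | rfl | omega

lemma c3 {m : ℕ} (i : Fin (m + 2)) (j : Fin (m + 1)) (hij : i ≤ j.castSucc) :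
    SimplexCategory.δ i.castSucc ≫ col j.succ = col j := by
  refine hom_ext_one _ _ (fun t => ?_)
  rw [δ_col_apply, col_apply]
  have h := Fin.le_def.mp hij
  simp only [Fin.val_castSucc, Fin.val_succ] at h ⊢
  split_ifs <;> first | rfl | omega

lemma c4 {m : ℕ} (j : Fin (m + 1)) :
    SimplexCategory.δ j.castSucc.succ ≫ col j.succ =
      SimplexCategory.δ j.castSucc.succ ≫ col j.castSucc := by
  refine hom_ext_one _ _ (fun t => ?_)
  rw [δ_col_apply, δ_col_apply]
  simp only [Fin.val_castSucc, Fin.val_succ]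
  split_ifs <;> first | rfl | omega

lemma c5 {m : ℕ} (i : Fin (m + 2)) (j : Fin (m + 1)) (hji : j.castSucc < i) :
    SimplexCategory.δ i.succ ≫ col j.castSucc = col j := by
  refine hom_ext_one _ _ (fun t => ?_)
  rw [δ_col_apply, col_apply]
  have h := Fin.lt_def.mp hji
  simp only [Fin.val_castSucc, Fin.val_succ] at h ⊢
  split_ifs <;> first | rfl | omega

lemma c6 {m : ℕ} (i j : Fin (m + 1)) (hij : i ≤ j) :
    SimplexCategory.σ i.castSucc ≫ col j = col j.succ := by
  refine hom_ext_one _ _ (fun t => ?_)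
  rw [σ_col_apply, col_apply]
  have h := Fin.le_def.mp hij
  simp only [Fin.val_castSucc, Fin.val_succ] at h ⊢
  split_ifs <;> first | rfl | omega

lemma c7 {m : ℕ} (i j : Fin (m + 1)) (hji : j ≤ i) :
    SimplexCategory.σ i.succ ≫ col j = col j.castSucc := by
  refine hom_ext_one _ _ (fun t => ?_)
  rw [σ_col_apply, col_apply]
  have h := Fin.le_def.mp hji
  simp only [Fin.val_castSucc, Fin.val_succ] at h ⊢
  split_ifs <;> first | rfl | omega

variable {E : Type u} [Category.{v} E] [HasFiniteLimits E] {n : ℕ}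
  [∀ (F : (SimplexCategory.Truncated n)ᵒᵖ ⥤ E),
    (SimplexCategory.Truncated.inclusion n).op.HasRightKanExtension F]
  {X X' : SimplicialObject E} (f g : X ⟶ X')
  (hfg : ∀ p : ℕ, p < n → f.app (op ⦋p⦌) = g.app (op ⦋p⦌))

/-- the homotopy -/
noncomputable def homotopy : Homotopy ((cosk n).map f) ((cosk n).map g) where
  h {m} i := H f g hfg (SimplexCategory.σ i) (col i)
  h_zero_comp_δ_zero m := by
    change H f g hfg _ _ ≫ ((cosk n).obj X').map (SimplexCategory.δ 0).op = _
    rw [H_map]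
    have e : SimplexCategory.δ (0 : Fin (m + 2)) ≫ SimplexCategory.σ (0 : Fin (m + 1)) = 𝟙 _ :=
      SimplexCategory.δ_comp_σ_self (i := (0 : Fin (m + 1)))
    rw [e]
    exact H_id_of_isOne f g hfg _ (c1 m)
  h_last_comp_δ_last m := by
    change H f g hfg _ _ ≫ ((cosk n).obj X').map (SimplexCategory.δ (Fin.last (m + 1))).op = _
    rw [H_map]
    have e : SimplexCategory.δ (Fin.last (m + 1)) ≫ SimplexCategory.σ (Fin.last m) = 𝟙 _ :=
      SimplexCategory.δ_comp_σ_succ (i := Fin.last m)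
    rw [e]
    exact H_id_of_zero f g hfg _ (c2 m)
  h_succ_comp_δ_castSucc_of_lt {m} i j hij := by
    change H f g hfg _ _ ≫ ((cosk n).obj X').map (SimplexCategory.δ i.castSucc).op =
      ((cosk n).obj X).map (SimplexCategory.δ i).op ≫ H f g hfg _ _
    rw [H_map, map_H, SimplexCategory.δ_comp_σ_of_le hij, c3 i j hij]
  h_succ_comp_δ_castSucc_succ {m} j := by
    change H f g hfg _ _ ≫ ((cosk n).obj X').map (SimplexCategory.δ j.castSucc.succ).op =
      H f g hfg _ _ ≫ ((cosk n).obj X').map (SimplexCategory.δ j.castSucc.succ).op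
    rw [H_map, H_map, c4 j]
    have e1 : SimplexCategory.δ j.castSucc.succ ≫ SimplexCategory.σ j.succ = 𝟙 _ := by
      have := SimplexCategory.δ_comp_σ_self (i := j.succ)
      rwa [Fin.castSucc_succ] at this
    have e2 : SimplexCategory.δ j.castSucc.succ ≫ SimplexCategory.σ j.castSucc = 𝟙 _ :=
      SimplexCategory.δ_comp_σ_succ (i := j.castSucc)
    rw [e1, e2]
  h_castSucc_comp_δ_succ_of_lt {m} i j hji := by
    change H f g hfg _ _ ≫ ((cosk n).obj X').map (SimplexCategory.δ i.succ).op =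
      ((cosk n).obj X).map (SimplexCategory.δ i).op ≫ H f g hfg _ _
    rw [H_map, map_H, SimplexCategory.δ_comp_σ_of_gt hji, c5 i j hji]
  h_comp_σ_castSucc_of_le {m} i j hij := by
    change H f g hfg _ _ ≫ ((cosk n).obj X').map (SimplexCategory.σ i.castSucc).op =
      ((cosk n).obj X).map (SimplexCategory.σ i).op ≫ H f g hfg _ _
    rw [H_map, map_H, SimplexCategory.σ_comp_σ hij, c6 i j hij]
  h_comp_σ_succ_of_lt {m} i j hji := by
    change H f g hfg _ _ ≫ ((cosk n).obj X').map (SimplexCategory.σ i.succ).op =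
      ((cosk n).obj X).map (SimplexCategory.σ i).op ≫ H f g hfg _ _
    rw [H_map, map_H, ← SimplexCategory.σ_comp_σ hji, c7 i j hji]

end Groth.Agent.Helper9.CoskHtpyC
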