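import Mathlib

/-!
# Special morphisms of simplicial sets: a section on the `n`-truncation
-/

set_option autoImplicit false

open CategoryTheory Limits Opposite Simplicial

namespace Groth.Agent.Helper9.CoskSetA

universe u

variable {X Y : SSet.{u}} (p : X ⟶ Y) (n : ℕ)

/-- `p` is bijective in degrees `< n` and surjective in degree `n`. -/
structure Special : Prop where
  bij : ∀ j : ℕ, j < n → Function.Bijective (p.app (op ⦋j⦌))
  surj : Function.Surjective (p.app (op ⦋n⦌))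

lemma map_mem_degenerate_of_not_mono (Z : SSet.{u}) {n j : ℕ} (θ : ⦋n⦌ ⟶ ⦋j⦌) (hθ : ¬ Mono θ)
    (z : Z _⦋j⦌) : Z.map θ.op z ∈ Z.degenerate n := by
  have hle : (image θ).len ≤ n := SimplexCategory.len_le_of_epi (factorThruImage θ)
  have hne : (image θ).len ≠ n := by
    intro h
    apply hθ
    have : IsIso (factorThruImage θ) := by
      rw [SimplexCategory.isIso_iff_of_epi]
      exact h.symm
    rw [← image.fac θ]
    infer_instance
  refine ⟨(image θ).len, lt_of_le_of_ne hle hne, factorThruImage θ, Z.map (image.ι θ).op z, ?_⟩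
  rw [← comp_apply, ← Functor.map_comp, ← op_comp, image.fac]

variable {p n}

lemma Special.surj_le (h : Special p n) {j : ℕ} (hj : j ≤ n) :
    Function.Surjective (p.app (op ⦋j⦌)) := by
  rcases lt_or_eq_of_le hj with hlt | rfl
  · exact (h.bij j hlt).2
  · exact h.surj

lemma Special.nonDegenerate (h : Special p n) {k : ℕ} (hk : k < n) (c : X _⦋k⦌)
    (hc : c ∈ X.nonDegenerate k) : p.app _ c ∈ Y.nonDegenerate k := by
  rw [SSet.mem_nonDegenerate_iff_notMem_degenerate] at hc ⊢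
  intro hdeg
  obtain ⟨m, hm, f, d, hd⟩ := hdeg
  obtain ⟨d', rfl⟩ := (h.bij m (by omega)).2 d
  apply hc
  refine ⟨m, hm, f, d', ?_⟩
  apply (h.bij k hk).1
  rw [NatTrans.naturality_apply]
  exact hd

lemma Special.eq_of_degenerate (h : Special p n) (a a' : X _⦋n⦌) (ha : a ∈ X.degenerate n)
    (ha' : a' ∈ X.degenerate n) (e : p.app _ a = p.app _ a') : a = a' := by
  have key : ∀ (b : X _⦋n⦌), b ∈ X.degenerate n → ∃ (k : ℕ) (_ : k < n) (ρ : ⦋n⦌ ⟶ ⦋k⦌) (_ : Epi ρ)
      (c : X _⦋k⦌), c ∈ X.nonDegenerate k ∧ b = X.map ρ.op c := by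
    intro b hb
    obtain ⟨k, ρ, hρ, ⟨c, hc⟩, rfl⟩ := X.exists_nonDegenerate b
    refine ⟨k, ?_, ρ, hρ, c, hc, rfl⟩
    have hle : k ≤ n := SimplexCategory.len_le_of_epi ρ
    refine lt_of_le_of_ne hle ?_
    rintro rfl
    have hid : ρ = 𝟙 _ := SimplexCategory.eq_id_of_epi ρ
    rw [hid, op_id, CategoryTheory.Functor.map_id] at hb
    exact hc hb
  obtain ⟨k, hk, ρ, hρ, c, hc, rfl⟩ := key a ha
  obtain ⟨k', hk', ρ', hρ', c', hc', rfl⟩ := key a' ha'
  have e1 : p.app _ (X.map ρ.op c) = Y.map ρ.op (p.app _ c) := NatTrans.naturality_apply p ρ.op c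
  have e2 : p.app _ (X.map ρ.op c) = Y.map ρ'.op (p.app _ c') := by
    rw [e]; exact NatTrans.naturality_apply p ρ'.op c'
  have hkk : k = k' := Y.unique_nonDegenerate_dim _ ρ ⟨_, h.nonDegenerate hk c hc⟩ e1
    ρ' ⟨_, h.nonDegenerate hk' c' hc'⟩ e2
  subst hkk
  have hs := Y.unique_nonDegenerate_simplex _ ρ ⟨_, h.nonDegenerate hk c hc⟩ e1
    ρ' ⟨_, h.nonDegenerate hk' c' hc'⟩ e2
  have hm := Y.unique_nonDegenerate_map _ ρ ⟨_, h.nonDegenerate hk c hc⟩ e1
    ρ' ⟨_, h.nonDegenerate hk' c' hc'⟩ e2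
  have hcc : c = c' := (h.bij k hk).1 (congrArg Subtype.val hs)
  rw [hm, hcc]

lemma Special.exists_good (h : Special p n) {j : ℕ} (hj : j ≤ n) (x : Y _⦋j⦌) :
    ∃ x' : X _⦋j⦌, p.app _ x' = x ∧ (x ∈ Y.degenerate j → x' ∈ X.degenerate j) := by
  by_cases hx : x ∈ Y.degenerate j
  · obtain ⟨m, hm, f, d, rfl⟩ := hx
    obtain ⟨d', rfl⟩ := (h.bij m (by omega)).2 d
    exact ⟨X.map f.op d', NatTrans.naturality_apply p f.op d', fun _ => ⟨m, hm, f, d', rfl⟩⟩
  · obtain ⟨x', rfl⟩ := h.surj_le hj x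
    exact ⟨x', rfl, fun h' => absurd h' hx⟩

/-- the chosen section in degrees `≤ n` -/
noncomputable def Special.t (h : Special p n) {j : ℕ} (hj : j ≤ n) (x : Y _⦋j⦌) : X _⦋j⦌ :=
  (h.exists_good hj x).choose

lemma Special.p_t (h : Special p n) {j : ℕ} (hj : j ≤ n) (x : Y _⦋j⦌) :
    p.app _ (h.t hj x) = x :=
  (h.exists_good hj x).choose_spec.1

lemma Special.t_degenerate (h : Special p n) {j : ℕ} (hj : j ≤ n) (x : Y _⦋j⦌)
    (hx : x ∈ Y.degenerate j) : h.t hj x ∈ X.degenerate j :=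
  (h.exists_good hj x).choose_spec.2 hx

lemma Special.t_nat (h : Special p n) {j j' : ℕ} (hj : j ≤ n) (hj' : j' ≤ n) (θ : ⦋j'⦌ ⟶ ⦋j⦌)
    (x : Y _⦋j⦌) : X.map θ.op (h.t hj x) = h.t hj' (Y.map θ.op x) := by
  have e : p.app _ (X.map θ.op (h.t hj x)) = p.app _ (h.t hj' (Y.map θ.op x)) := by
    rw [NatTrans.naturality_apply, h.p_t, h.p_t]
  rcases lt_or_eq_of_le hj' with hlt | rfl
  · exact (h.bij j' hlt).1 e
  · by_cases hθ : Mono θ
    · have hle : j' ≤ j := SimplexCategory.len_le_of_mono θ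
      obtain rfl : j = j' := le_antisymm hj hle
      have hid : θ = 𝟙 _ := SimplexCategory.eq_id_of_mono θ
      subst hid
      simp
    · exact h.eq_of_degenerate _ _ (map_mem_degenerate_of_not_mono X θ hθ _)
        (h.t_degenerate hj' _ (map_mem_degenerate_of_not_mono Y θ hθ _)) e

/-- the section on the truncation -/
noncomputable def Special.tr (h : Special p n) :
    (SimplicialObject.truncation n).obj Y ⟶ (SimplicialObject.truncation n).obj X where
  app a := ↾(fun x => h.t (j := a.unop.obj.len) a.unop.property x)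
  naturality a b θ := by
    ext x
    exact (h.t_nat a.unop.property b.unop.property θ.unop.hom x).symm

lemma Special.tr_comp (h : Special p n) :
    h.tr ≫ (SimplicialObject.truncation n).map p = 𝟙 _ := by
  ext a x
  exact h.p_t a.unop.property x

end Groth.Agent.Helper9.CoskSetA
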