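import Mathlib
import Groth.Agent.Helper9.CoskHtpyC
import Groth.Agent.Helper9.CoskSetA

/-!
# Coskeletal simplicial sets, elementwise; special morphisms are homotopy equivalences
-/

set_option autoImplicit false

open CategoryTheory Limits Opposite Functor Simplicial

namespace Groth.Agent.Helper9.CoskSetB

open Groth.Agent.Helper9.CoskHtpyA Groth.Agent.Helper9.CoskSetA SimplicialObject

universe v u

section General

variable {E : Type u} [Category.{v} E] [HasFiniteLimits E] {n : ℕ}
  [∀ (F : (SimplexCategory.Truncated n)ᵒᵖ ⥤ E),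
    (SimplexCategory.Truncated.inclusion n).op.HasRightKanExtension F]

lemma unit_pr (X : SimplicialObject E) {m j : SimplexCategory} (φ : j ⟶ m) (hj : j.len ≤ n) :
    ((coskAdj n).unit.app X).app (op m) ≫ pr n X φ hj = X.map φ.op := by
  have h1 : X.map φ.op ≫ ((coskAdj n).unit.app X).app (op j) =
      ((coskAdj n).unit.app X).app (op m) ≫ ((cosk n).obj X).map φ.op :=
    ((coskAdj n).unit.app X).naturality φ.op
  have h2 : ((coskAdj n).unit.app X).app (op j) ≫ (ε n X).app (op ⟨j, hj⟩) = 𝟙 (X.obj (op j)) :=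
    congr_app ((coskAdj n).left_triangle_components X) (op ⟨j, hj⟩)
  have h3 : X.map φ.op ≫ (((coskAdj n).unit.app X).app (op j) ≫ (ε n X).app (op ⟨j, hj⟩)) =
      X.map φ.op := by
    rw [h2]; exact Category.comp_id _
  dsimp only [pr]
  rw [← Category.assoc, ← h1, Category.assoc]
  exact h3

lemma exists_unique_lift (X : SimplicialObject E) [IsIso ((coskAdj n).unit.app X)] {Z : E}
    {m : SimplexCategory} (F : Fam (n := n) X Z m) :
    ∃! t : Z ⟶ X.obj (op m), ∀ (j : SimplexCategory) (hj : j.len ≤ n) (φ : j ⟶ m),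
      t ≫ X.map φ.op = F.c j hj φ := by
  refine ⟨F.lift ≫ (inv ((coskAdj n).unit.app X)).app (op m), ?_, ?_⟩
  · intro j hj φ
    rw [← unit_pr X φ hj, Category.assoc, ← Category.assoc _ _ (pr n X φ hj),
      ← NatTrans.comp_app, IsIso.inv_hom_id]
    erw [Category.id_comp]
    exact F.lift_pr hj φ
  · intro t ht
    have : t ≫ ((coskAdj n).unit.app X).app (op m) = F.lift := by
      refine hom_ext X _ _ (fun j hj φ => ?_)
      rw [Category.assoc, unit_pr, ht, F.lift_pr]
    rw [← this, Category.assoc, ← NatTrans.comp_app, IsIso.hom_inv_id]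
    exact (Category.comp_id _).symm

/-- limit-preserving functors preserve coskeletal objects -/
lemma isCoskeletal_whiskering {E' : Type*} [Category E'] (G : E ⥤ E')
    [PreservesLimitsOfSize.{0, 0} G] (X : SimplicialObject E) (n : ℕ) [X.IsCoskeletal n] :
    (((SimplicialObject.whiskering E E').obj G).obj X).IsCoskeletal n := by
  haveI := Groth.Agent.Helper6.Cosk1.hasPointwise (C := E) n
    ((SimplexCategory.Truncated.inclusion n).op ⋙ X)
  have h := PreservesRightKanExtension.preserves (G := G)
    (F := (SimplexCategory.Truncated.inclusion n).op ⋙ X)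
    (L := (SimplexCategory.Truncated.inclusion n).op) X (𝟙 _)
  have e : (Functor.associator (SimplexCategory.Truncated.inclusion n).op X G).inv ≫
      whiskerRight (𝟙 ((SimplexCategory.Truncated.inclusion n).op ⋙ X)) G = 𝟙 _ := by
    ext a
    simp
  rw [e] at h
  exact ⟨h⟩

end General

section SSet

variable {n : ℕ}
  [∀ (F : (SimplexCategory.Truncated n)ᵒᵖ ⥤ Type u),
    (SimplexCategory.Truncated.inclusion n).op.HasRightKanExtension F]

/-- elementwise coskeletality of a simplicial set -/
def EC (n : ℕ) (X : SimplicialObject (Type u)) : Prop :=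
  ∀ (m : SimplexCategory)
    (c : ∀ (j : SimplexCategory) (_ : j.len ≤ n) (_ : j ⟶ m), X.obj (op j)),
    (∀ (j j' : SimplexCategory) (hj : j.len ≤ n) (hj' : j'.len ≤ n) (φ : j ⟶ m) (ψ : j' ⟶ j),
      c j' hj' (ψ ≫ φ) = X.map ψ.op (c j hj φ)) →
    ∃! x : X.obj (op m), ∀ (j : SimplexCategory) (hj : j.len ≤ n) (φ : j ⟶ m),
      X.map φ.op x = c j hj φ

lemma ec_of_isIso (X : SimplicialObject (Type u)) [IsIso ((coskAdj n).unit.app X)] : EC n X := by
  intro m c hc
  let F : Fam (n := n) X PUnit.{u + 1} m :=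
    { c := fun j hj φ => ↾(fun _ => c j hj φ)
      comp := fun j j' hj hj' φ ψ => by
        ext
        exact hc j j' hj hj' φ ψ }
  obtain ⟨t, ht, htu⟩ := exists_unique_lift X F
  refine ⟨t PUnit.unit, ?_, ?_⟩
  · intro j hj φ
    exact ConcreteCategory.congr_hom (ht j hj φ) PUnit.unit
  · intro x' hx'
    have := htu (↾(fun _ => x')) (fun j hj φ => by
      ext
      exact hx' j hj φ)
    rw [← this]
    rfl

lemma isIso_of_ec (X : SimplicialObject (Type u)) (h : EC n X) : IsIso ((coskAdj n).unit.app X) := by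
  haveI : ∀ d, IsIso (((coskAdj n).unit.app X).app d) := by
    intro d
    obtain ⟨m⟩ := d
    rw [isIso_iff_bijective]
    constructor
    · intro x x' e
      have hx : ∀ (j : SimplexCategory) (hj : j.len ≤ n) (φ : j ⟶ m),
          X.map φ.op x = X.map φ.op x' := by
        intro j hj φ
        rw [← unit_pr X φ hj]
        exact congrArg (pr n X φ hj) e
      exact (h m (fun j hj φ => X.map φ.op x) (fun j j' hj hj' φ ψ => by
        rw [op_comp, CategoryTheory.Functor.map_comp]; rfl)).unique (fun _ _ _ => rfl)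
        (fun j hj φ => (hx j hj φ).symm)
    · intro z
      obtain ⟨x, hx, -⟩ := h m (fun j hj φ => pr n X φ hj z) (fun j j' hj hj' φ ψ => by
        rw [pr_comp X φ hj ψ hj']; rfl)
      refine ⟨x, ?_⟩
      have := hom_ext X (Z := PUnit.{u + 1}) (m := m)
        (↾fun _ => ((coskAdj n).unit.app X).app (op m) x) (↾fun _ => z) (fun j hj φ => by
          ext
          change pr n X φ hj (((coskAdj n).unit.app X).app (op m) x) = pr n X φ hj z
          rw [← hx j hj φ, ← unit_pr X φ hj]
          rfl)
      exact ConcreteCategory.congr_hom this PUnit.unit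
  exact NatIso.isIso_of_isIso_app _

variable {X Y : SimplicialObject (Type u)} {p : X ⟶ Y} (h : Special (X := X) (Y := Y) p n)
  [IsIso ((coskAdj n).unit.app X)] [IsIso ((coskAdj n).unit.app Y)]

/-- the section of a special morphism of coskeletal simplicial sets -/
noncomputable def sec : Y ⟶ X :=
  (coskAdj n).unit.app Y ≫ (Truncated.cosk n).map h.tr ≫ inv ((coskAdj n).unit.app X)

lemma sec_comp : sec h ≫ p = 𝟙 Y := by
  have nat : p ≫ (coskAdj n).unit.app Y = (coskAdj n).unit.app X ≫ (cosk n).map p :=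
    (coskAdj n).unit.naturality p
  have e1 : inv ((coskAdj n).unit.app X) ≫ p = (cosk n).map p ≫ inv ((coskAdj n).unit.app Y) := by
    rw [IsIso.inv_comp_eq, ← Category.assoc, IsIso.eq_comp_inv]
    exact nat
  have e2 : (Truncated.cosk n).map h.tr ≫ (cosk n).map p = 𝟙 _ := by
    change (Truncated.cosk n).map h.tr ≫ (Truncated.cosk n).map ((truncation n).map p) = _
    rw [← CategoryTheory.Functor.map_comp, h.tr_comp, CategoryTheory.Functor.map_id]
  dsimp only [sec]
  rw [Category.assoc, Category.assoc, e1, ← Category.assoc ((Truncated.cosk n).map h.tr), e2,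
    Category.id_comp, IsIso.hom_inv_id]

lemma nonempty_homotopy : Nonempty (Homotopy (p ≫ sec h) (𝟙 X)) := by
  have hfg : ∀ j : ℕ, j < n → NatTrans.app (p ≫ sec h) (op ⦋j⦌) = NatTrans.app (𝟙 X) (op ⦋j⦌) := by
    intro j hj
    ext x
    apply (h.bij j hj).1
    have := congr_app (sec_comp h) (op ⦋j⦌)
    exact ConcreteCategory.congr_hom this (p.app _ x)
  have H := CoskHtpyC.homotopy (n := n) (p ≫ sec h) (𝟙 X) hfg
  have H' := (H.precomp ((coskAdj n).unit.app X)).postcomp (inv ((coskAdj n).unit.app X))
  have e : ∀ g : X ⟶ X, ((coskAdj n).unit.app X ≫ (cosk n).map g) ≫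
      inv ((coskAdj n).unit.app X) = g := by
    intro g
    have nat : g ≫ (coskAdj n).unit.app X = (coskAdj n).unit.app X ≫ (cosk n).map g :=
      (coskAdj n).unit.naturality g
    rw [← nat, Category.assoc, IsIso.hom_inv_id, Category.comp_id]
  rw [e, e] at H'
  exact ⟨H'⟩

include h in
theorem quasiIso_free :
    QuasiIso ((AlgebraicTopology.alternatingFaceMapComplex AddCommGrpCat.{u}).map
      (((SimplicialObject.whiskering (Type u) AddCommGrpCat.{u}).obj AddCommGrpCat.free.{u}).map
        p)) := by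
  rw [quasiIso_iff]
  intro i
  rw [quasiIsoAt_iff_isIso_homologyMap]
  obtain ⟨H⟩ := nonempty_homotopy h
  have e1 := (H.whiskerRight AddCommGrpCat.free.{u}).map_homology_eq i
  let T := (SimplicialObject.whiskering (Type u) AddCommGrpCat.{u}).obj AddCommGrpCat.free.{u} ⋙
    AlgebraicTopology.alternatingFaceMapComplex AddCommGrpCat.{u} ⋙
    HomologicalComplex.homologyFunctor AddCommGrpCat.{u} _ i
  change IsIso (T.map p)
  refine ⟨T.map (sec h), ?_, ?_⟩
  · rw [← T.map_comp, ← T.map_id]
    exact e1
  · rw [← T.map_comp, sec_comp, T.map_id]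

end SSet

end Groth.Agent.Helper9.CoskSetB
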