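import Mathlib
import Groth.Agent.Helper9.CoskSetB

/-!
# The image sub-simplicial presheaf of a special morphism of simplicial presheaves
-/

set_option autoImplicit false

open CategoryTheory Limits Opposite Functor Simplicial

namespace Groth.Agent.Helper9.CoskPshA

open Groth.Agent.Helper9.CoskSetA Groth.Agent.Helper9.CoskSetB SimplicialObject

universe u

variable {C : Type u} [SmallCategory C] {L K : SimplicialObject (Cᵒᵖ ⥤ Type u)} (f : L ⟶ K) (n : ℕ)

lemma f_nat_apply {m m' : SimplexCategoryᵒᵖ} (θ : m ⟶ m') (U : Cᵒᵖ) (y : (L.obj m).obj U) :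
    (f.app m').app U ((L.map θ).app U y) = (K.map θ).app U ((f.app m).app U y) :=
  ConcreteCategory.congr_hom (congr_app (f.naturality θ) U) y

lemma K_comp_apply (K : SimplicialObject (Cᵒᵖ ⥤ Type u)) {m m' m'' : SimplexCategoryᵒᵖ}
    (θ : m ⟶ m') (θ' : m' ⟶ m'') (U : Cᵒᵖ) (x : (K.obj m).obj U) :
    (K.map θ').app U ((K.map θ).app U x) = (K.map (θ ≫ θ')).app U x := by
  rw [K.map_comp]
  rfl

lemma K_id_apply (K : SimplicialObject (Cᵒᵖ ⥤ Type u)) (m : SimplexCategoryᵒᵖ)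
    (U : Cᵒᵖ) (x : (K.obj m).obj U) :
    (K.map (𝟙 m)).app U x = x := by
  rw [K.map_id]
  rfl

/-- the sub-presheaf of `K_m` of simplices all of whose `n`-faces are in the image of `L_n` -/
def sub (m : SimplexCategory) : Subfunctor (K.obj (op m)) where
  obj U := {x | ∀ ψ : ⦋n⦌ ⟶ m, (K.map ψ.op).app U x ∈ Set.range ((f.app (op ⦋n⦌)).app U)}
  map {U V} g x hx ψ := by
    obtain ⟨y, hy⟩ := hx ψ
    refine ⟨(L.obj (op ⦋n⦌)).map g y, ?_⟩
    rw [NatTrans.naturality_apply (f.app (op ⦋n⦌)) g y, hy]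
    exact (NatTrans.naturality_apply (K.map ψ.op) g x).symm

lemma mem_sub {m : SimplexCategory} {U : Cᵒᵖ} (x : (K.obj (op m)).obj U) :
    x ∈ (sub f n m).obj U ↔
      ∀ ψ : ⦋n⦌ ⟶ m, (K.map ψ.op).app U x ∈ Set.range ((f.app (op ⦋n⦌)).app U) := Iff.rfl

lemma map_mem_sub {m m' : SimplexCategory} (θ : m' ⟶ m) {U : Cᵒᵖ} (x : (K.obj (op m)).obj U)
    (hx : x ∈ (sub f n m).obj U) : (K.map θ.op).app U x ∈ (sub f n m').obj U := by
  intro ψ
  rw [K_comp_apply]
  exact hx (ψ ≫ θ)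

lemma app_mem_sub (m : SimplexCategory) {U : Cᵒᵖ} (y : (L.obj (op m)).obj U) :
    (f.app (op m)).app U y ∈ (sub f n m).obj U := by
  intro ψ
  exact ⟨(L.map ψ.op).app U y, f_nat_apply f ψ.op U y⟩

lemma range_le_map {m m' : SimplexCategoryᵒᵖ} (θ : m ⟶ m') :
    Subfunctor.range ((sub f n m.unop).ι ≫ K.map θ) ≤ sub f n m'.unop := by
  intro U a ha
  obtain ⟨x, hx⟩ := ha
  rw [← hx]
  exact map_mem_sub f n θ.unop x.1 x.2

lemma range_le_app (m : SimplexCategoryᵒᵖ) :
    Subfunctor.range (f.app m) ≤ sub f n m.unop := by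
  intro U a ha
  obtain ⟨y, hy⟩ := ha
  rw [← hy]
  exact app_mem_sub f n m.unop y

/-- the structure maps of the image simplicial presheaf -/
def K'map {m m' : SimplexCategoryᵒᵖ} (θ : m ⟶ m') :
    (sub f n m.unop).toFunctor ⟶ (sub f n m'.unop).toFunctor :=
  Subfunctor.lift ((sub f n m.unop).ι ≫ K.map θ) (range_le_map f n θ)

lemma K'map_ι {m m' : SimplexCategoryᵒᵖ} (θ : m ⟶ m') :
    K'map f n θ ≫ (sub f n m'.unop).ι = (sub f n m.unop).ι ≫ K.map θ :=
  Subfunctor.lift_ι _ _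

/-- the image simplicial presheaf -/
def K' : SimplicialObject (Cᵒᵖ ⥤ Type u) where
  obj m := (sub f n m.unop).toFunctor
  map {m m'} θ := K'map f n θ
  map_id m := by
    apply (cancel_mono (sub f n m.unop).ι).1
    rw [K'map_ι, K.map_id, Category.comp_id, Category.id_comp]
  map_comp {m m' m''} θ θ' := by
    apply (cancel_mono (sub f n m''.unop).ι).1
    rw [K'map_ι, Category.assoc, K'map_ι, ← Category.assoc, K'map_ι, K.map_comp, Category.assoc]

/-- the inclusion `K' ⟶ K` -/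
def ι : K' f n ⟶ K where
  app m := (sub f n m.unop).ι
  naturality m m' θ := K'map_ι f n θ

/-- the components of the factorization `L ⟶ K'` -/
def f₁app (m : SimplexCategoryᵒᵖ) : L.obj m ⟶ (sub f n m.unop).toFunctor :=
  Subfunctor.lift (f.app m) (range_le_app f n m)

lemma f₁app_ι (m : SimplexCategoryᵒᵖ) : f₁app f n m ≫ (sub f n m.unop).ι = f.app m :=
  Subfunctor.lift_ι _ _

/-- the factorization `L ⟶ K'` -/
def f₁ : L ⟶ K' f n where
  app m := f₁app f n m
  naturality m m' θ := by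
    apply (cancel_mono (sub f n m'.unop).ι).1
    have e1 : (L.map θ ≫ f₁app f n m') ≫ (sub f n m'.unop).ι = L.map θ ≫ f.app m' := by
      rw [Category.assoc, f₁app_ι]
    have e2 : (f₁app f n m ≫ K'map f n θ) ≫ (sub f n m'.unop).ι = f.app m ≫ K.map θ := by
      rw [Category.assoc, K'map_ι, ← Category.assoc, f₁app_ι]
    exact e1.trans ((f.naturality θ).trans e2.symm)

lemma f₁_ι : f₁ f n ≫ ι f n = f := by
  apply NatTrans.ext
  funext m
  exact f₁app_ι f n m

/-- sections over `U`, as a simplicial set -/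
abbrev secU (U : Cᵒᵖ) (X : SimplicialObject (Cᵒᵖ ⥤ Type u)) : SimplicialObject (Type u) :=
  ((SimplicialObject.whiskering _ _).obj ((evaluation Cᵒᵖ (Type u)).obj U)).obj X

/-- the map `L(U) ⟶ K'(U)` -/
abbrev pU (U : Cᵒᵖ) : secU U L ⟶ secU U (K' f n) :=
  ((SimplicialObject.whiskering _ _).obj ((evaluation Cᵒᵖ (Type u)).obj U)).map (f₁ f n)

lemma special (h1 : ∀ i : ℕ, i < n → IsIso (f.app (op ⦋i⦌))) (U : Cᵒᵖ) :
    Special (X := secU U L) (Y := secU U (K' f n)) (pU f n U) n where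
  bij j hj := by
    haveI := h1 j hj
    have hb : Function.Bijective ((f.app (op ⦋j⦌)).app U) := by
      rw [← isIso_iff_bijective]
      infer_instance
    constructor
    · intro y y' e
      apply hb.1
      exact congrArg Subtype.val e
    · rintro ⟨x, hx⟩
      obtain ⟨y, rfl⟩ := hb.2 x
      exact ⟨y, Subtype.ext rfl⟩
  surj := by
    rintro ⟨x, hx⟩
    obtain ⟨y, hy⟩ := hx (𝟙 _)
    rw [op_id, K_id_apply] at hy
    exact ⟨y, Subtype.ext hy⟩

lemma ec_K' (U : Cᵒᵖ) (hK : EC n (secU U K)) : EC n (secU U (K' f n)) := by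
  intro m c hc
  obtain ⟨x, hx, hxu⟩ := hK m (fun j hj φ => (c j hj φ).1) (fun j j' hj hj' φ ψ => by
    rw [hc j j' hj hj' φ ψ]
    rfl)
  have hmem : x ∈ (sub f n m).obj U := by
    intro ψ
    have e1 : (K.map ψ.op).app U x = (c ⦋n⦌ le_rfl ψ).1 := hx ⦋n⦌ le_rfl ψ
    have e2 := (c ⦋n⦌ le_rfl ψ).2 (𝟙 _)
    rw [op_id, K_id_apply] at e2
    rw [e1]
    exact e2
  refine ⟨⟨x, hmem⟩, ?_, ?_⟩
  · intro j hj φ
    exact Subtype.ext (hx j hj φ)
  · rintro ⟨x', hx'm⟩ hx'
    apply Subtype.ext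
    exact hxu x' (fun j hj φ => congrArg Subtype.val (hx' j hj φ))

section

variable [∀ (F : (SimplexCategory.Truncated n)ᵒᵖ ⥤ (Cᵒᵖ ⥤ Type u)),
    (SimplexCategory.Truncated.inclusion n).op.HasRightKanExtension F]
  [∀ (F : (SimplexCategory.Truncated n)ᵒᵖ ⥤ Type u),
    (SimplexCategory.Truncated.inclusion n).op.HasRightKanExtension F]

lemma isIso_unit_secU (X : SimplicialObject (Cᵒᵖ ⥤ Type u))
    (hX : IsIso ((coskAdj n).unit.app X)) (U : Cᵒᵖ) :
    IsIso ((coskAdj n).unit.app (secU U X)) := by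
  haveI : X.IsCoskeletal n := (isCoskeletal_iff_isIso X n).2 hX
  haveI := isCoskeletal_whiskering ((evaluation Cᵒᵖ (Type u)).obj U) X n
  exact (isCoskeletal_iff_isIso _ n).1 inferInstance

theorem quasiIso_secU (h1 : ∀ i : ℕ, i < n → IsIso (f.app (op ⦋i⦌)))
    (h3 : IsIso ((coskAdj n).unit.app L)) (h4 : IsIso ((coskAdj n).unit.app K)) (U : Cᵒᵖ) :
    QuasiIso ((AlgebraicTopology.alternatingFaceMapComplex AddCommGrpCat.{u}).map
      (((SimplicialObject.whiskering (Type u) AddCommGrpCat.{u}).obj AddCommGrpCat.free.{u}).map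
        (pU f n U))) := by
  haveI := isIso_unit_secU n L h3 U
  haveI : IsIso ((coskAdj n).unit.app (secU U (K' f n))) := by
    refine isIso_of_ec _ (ec_K' f n U ?_)
    haveI := isIso_unit_secU n K h4 U
    exact ec_of_isIso _
  exact quasiIso_free (special f n h1 U)

end

end Groth.Agent.Helper9.CoskPshA
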