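import Mathlib
import Groth.Agent.Helper9.CoskPshA

/-!
# The inclusion of the image sub-simplicial presheaf becomes an isomorphism on free abelian sheaves
-/

set_option autoImplicit false

open CategoryTheory Limits Opposite Functor Simplicial

namespace Groth.Agent.Helper9.CoskPshB

open Groth.Agent.Helper9.CoskPshA SimplicialObject

universe u

variable {C : Type u} [SmallCategory C] (J : GrothendieckTopology C)

/-- the intersection of a family of sieves -/
def interSieve {ι : Type*} {U : C} (S : ι → Sieve U) : Sieve U where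
  arrows V g := ∀ i, S i g
  downward_closed h g' i := (S i).downward_closed (h i) g'

lemma interSieve_mem {ι : Type*} [Finite ι] {U : C} (S : ι → Sieve U) (h : ∀ i, S i ∈ J U) :
    interSieve S ∈ J U := by
  induction ι using Finite.induction_empty_option with
  | of_equiv e ih =>
    refine J.superset_covering ?_ (ih (fun a => S (e a)) (fun a => h (e a)))
    intro V g hg b
    have : (S (e (e.symm b))) g := hg (e.symm b)
    rwa [Equiv.apply_symm_apply] at this
  | h_empty =>
    exact J.superset_covering (fun V g _ i => isEmptyElim i) (J.top_mem U)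
  | h_option ih =>
    refine J.superset_covering ?_
      (J.intersection_covering (h none) (ih (fun a => S (some a)) (fun a => h (some a))))
    intro V g hg o
    cases o with
    | none => exact hg.1
    | some a => exact hg.2 a

variable {L K : SimplicialObject (Cᵒᵖ ⥤ Type u)} (f : L ⟶ K) (n : ℕ)

lemma isLocallySurjective_ι [Presheaf.IsLocallySurjective J (f.app (op ⦋n⦌))]
    (m : SimplexCategory) : Presheaf.IsLocallySurjective J (sub f n m).ι where
  imageSieve_mem {U} x := by
    have h : ∀ ψ : ⦋n⦌ ⟶ m,
        Presheaf.imageSieve (f.app (op ⦋n⦌)) ((K.map ψ.op).app (op U) x) ∈ J U :=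
      fun ψ => Presheaf.imageSieve_mem J _ _
    refine J.superset_covering ?_ (interSieve_mem J _ h)
    intro V g hg
    have hmem : (K.obj (op m)).map g.op x ∈ (sub f n m).obj (op V) := by
      intro ψ
      obtain ⟨t, ht⟩ := hg ψ
      refine ⟨t, ?_⟩
      rw [ht]
      exact (NatTrans.naturality_apply (K.map ψ.op) g.op x).symm
    exact ⟨⟨_, hmem⟩, rfl⟩

lemma imageSieve_free_iff {F G : Cᵒᵖ ⥤ Type u} (φ : F ⟶ G) {U V : C} (g : V ⟶ U)
    (s : FreeAbelianGroup (G.obj (op U))) :
    Presheaf.imageSieve (Functor.whiskerRight φ AddCommGrpCat.free.{u}) (U := U) s g ↔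
      ∃ t : FreeAbelianGroup (F.obj (op V)),
        FreeAbelianGroup.map (φ.app (op V)) t = FreeAbelianGroup.map (G.map g.op) s := Iff.rfl

lemma imageSieve_free_mem {F G : Cᵒᵖ ⥤ Type u} (φ : F ⟶ G) [Presheaf.IsLocallySurjective J φ]
    {U : C} (s : FreeAbelianGroup (G.obj (op U))) :
    Presheaf.imageSieve (Functor.whiskerRight φ AddCommGrpCat.free.{u}) (U := U) s ∈ J U := by
  induction s using FreeAbelianGroup.induction_on with
  | zero =>
    refine J.superset_covering ?_ (J.top_mem U)
    intro V g _
    rw [imageSieve_free_iff]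
    exact ⟨0, (map_zero (FreeAbelianGroup.map (φ.app (op V)))).trans
      (map_zero (FreeAbelianGroup.map (G.map g.op))).symm⟩
  | of x =>
    refine J.superset_covering ?_ (Presheaf.imageSieve_mem J φ x)
    intro V g hg
    obtain ⟨t, ht⟩ := hg
    rw [imageSieve_free_iff]
    refine ⟨FreeAbelianGroup.of t, ?_⟩
    rw [FreeAbelianGroup.map_of_apply, FreeAbelianGroup.map_of_apply, ht]
  | neg x ih =>
    refine J.superset_covering ?_ ih
    intro V g hg
    rw [imageSieve_free_iff] at hg ⊢
    obtain ⟨t, ht⟩ := hg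
    refine ⟨-t, ?_⟩
    rw [_root_.map_neg, _root_.map_neg, ht]
  | add x y ihx ihy =>
    refine J.superset_covering ?_ (J.intersection_covering ihx ihy)
    intro V g hg
    obtain ⟨h1, h2⟩ := hg
    rw [imageSieve_free_iff] at h1 h2 ⊢
    obtain ⟨t, ht⟩ := h1
    obtain ⟨t', ht'⟩ := h2
    refine ⟨t + t', ?_⟩
    rw [_root_.map_add, _root_.map_add, ht, ht']

instance isLocallySurjective_free {F G : Cᵒᵖ ⥤ Type u} (φ : F ⟶ G)
    [Presheaf.IsLocallySurjective J φ] :
    Presheaf.IsLocallySurjective J (Functor.whiskerRight φ AddCommGrpCat.free.{u}) where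
  imageSieve_mem {U} s := imageSieve_free_mem J φ s

instance isLocallyInjective_free {F G : Cᵒᵖ ⥤ Type u} (φ : F ⟶ G) [Mono φ] :
    Presheaf.IsLocallyInjective J (Functor.whiskerRight φ AddCommGrpCat.free.{u}) := by
  apply Presheaf.isLocallyInjective_of_injective
  intro U
  have : Mono (φ.app U) := inferInstance
  have h2 : Mono (AddCommGrpCat.free.{u}.map (φ.app U)) := inferInstance
  exact (AddCommGrpCat.mono_iff_injective _).1 h2

lemma isIso_sheafify_free {F G : Cᵒᵖ ⥤ Type u} (φ : F ⟶ G) [Mono φ]
    [Presheaf.IsLocallySurjective J φ] :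
    IsIso (((Functor.whiskeringRight Cᵒᵖ (Type u) AddCommGrpCat.{u}).obj AddCommGrpCat.free.{u} ⋙
      presheafToSheaf J AddCommGrpCat.{u}).map φ) := by
  have hW : J.W (Functor.whiskerRight φ AddCommGrpCat.free.{u}) := J.W_of_isLocallyBijective _
  exact (J.W_iff _).1 hW

end Groth.Agent.Helper9.CoskPshB
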