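import Mathlib
import Groth.Agent.Helper9.CoskPshB

/-!
# Special morphisms of coskeletal simplicial presheaves induce quasi-isomorphisms of free abelian
sheaves
-/

set_option autoImplicit false

open CategoryTheory Limits Opposite Functor Simplicial

namespace Groth.Agent.Helper9.CoskPshC

open Groth.Agent.Helper9.CoskPshA Groth.Agent.Helper9.CoskPshB SimplicialObject

universe u

lemma quasiIso_map_congr {A : Type*} [Category A] {B : Type*} [Category B] [Abelian B]
    {ι : Type*} {c : ComplexShape ι} {F F' : A ⥤ HomologicalComplex B c} (h : F = F')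
    {X Y : A} (g : X ⟶ Y) : QuasiIso (F.map g) ↔ QuasiIso (F'.map g) := by
  subst h
  rfl

variable {C : Type u} [SmallCategory C] (J : GrothendieckTopology C)
  {L K : SimplicialObject (Cᵒᵖ ⥤ Type u)} (f : L ⟶ K) (n : ℕ)

/-- the free abelian presheaf functor -/
abbrev W : (Cᵒᵖ ⥤ Type u) ⥤ (Cᵒᵖ ⥤ AddCommGrpCat.{u}) :=
  (Functor.whiskeringRight Cᵒᵖ (Type u) AddCommGrpCat.{u}).obj AddCommGrpCat.free.{u}

lemma isIso_whiskerRight_ι [Presheaf.IsLocallySurjective J (f.app (op ⦋n⦌))] :
    IsIso (Functor.whiskerRight (ι f n) (W ⋙ presheafToSheaf J AddCommGrpCat.{u})) := by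
  haveI : ∀ m, IsIso ((Functor.whiskerRight (ι f n)
      (W ⋙ presheafToSheaf J AddCommGrpCat.{u})).app m) := by
    intro m
    haveI := isLocallySurjective_ι J f n m.unop
    exact isIso_sheafify_free J (sub f n m.unop).ι
  exact NatIso.isIso_of_isIso_app _

section

variable [∀ (F : (SimplexCategory.Truncated n)ᵒᵖ ⥤ (Cᵒᵖ ⥤ Type u)),
    (SimplexCategory.Truncated.inclusion n).op.HasRightKanExtension F]

lemma quasiIso_presheaf (h1 : ∀ i : ℕ, i < n → IsIso (f.app (op ⦋i⦌)))
    (h3 : IsIso ((coskAdj n).unit.app L)) (h4 : IsIso ((coskAdj n).unit.app K)) :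
    QuasiIso ((AlgebraicTopology.alternatingFaceMapComplex (Cᵒᵖ ⥤ AddCommGrpCat.{u})).map
      (((SimplicialObject.whiskering _ _).obj W).map (f₁ f n))) := by
  rw [HomologicalComplex.quasiIso_iff_evaluation]
  intro U
  have e := quasiIso_map_congr
    (AlgebraicTopology.map_alternatingFaceMapComplex ((evaluation Cᵒᵖ AddCommGrpCat.{u}).obj U))
    (((SimplicialObject.whiskering _ _).obj W).map (f₁ f n))
  refine e.2 ?_
  exact quasiIso_secU f n h1 h3 h4 U

theorem quasiIso_sheaf (h1 : ∀ i : ℕ, i < n → IsIso (f.app (op ⦋i⦌)))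
    [Presheaf.IsLocallySurjective J (f.app (op ⦋n⦌))]
    (h3 : IsIso ((coskAdj n).unit.app L)) (h4 : IsIso ((coskAdj n).unit.app K)) :
    QuasiIso ((AlgebraicTopology.alternatingFaceMapComplex (Sheaf J AddCommGrpCat.{u})).map
      (Functor.whiskerRight f (W ⋙ presheafToSheaf J AddCommGrpCat.{u}))) := by
  have hf : f = f₁ f n ≫ ι f n := (f₁_ι f n).symm
  have e1 : Functor.whiskerRight f (W ⋙ presheafToSheaf J AddCommGrpCat.{u}) =
      Functor.whiskerRight (f₁ f n) (W ⋙ presheafToSheaf J AddCommGrpCat.{u}) ≫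
      Functor.whiskerRight (ι f n) (W ⋙ presheafToSheaf J AddCommGrpCat.{u}) := by
    conv_lhs => rw [hf]
    exact Functor.whiskerRight_comp _ _ _
  rw [e1, Functor.map_comp]
  haveI := isIso_whiskerRight_ι J f n
  haveI : QuasiIso ((AlgebraicTopology.alternatingFaceMapComplex (Sheaf J AddCommGrpCat.{u})).map
      (Functor.whiskerRight (f₁ f n) (W ⋙ presheafToSheaf J AddCommGrpCat.{u}))) := by
    haveI := quasiIso_presheaf f n h1 h3 h4
    have e := quasiIso_map_congr
      (AlgebraicTopology.map_alternatingFaceMapComplex (presheafToSheaf J AddCommGrpCat.{u}))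
      (((SimplicialObject.whiskering _ _).obj W).map (f₁ f n))
    refine e.1 ?_
    exact HomologicalComplex.quasiIso_map_of_preservesHomology _ _
  infer_instance

end

end Groth.Agent.Helper9.CoskPshC
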