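import Mathlib
import Groth.Prelude.Def_Hyper
import Groth.Agent.Helper9.CoskPshC

/-!
# `Hom(ℤ[F(X)]^#, I)` is the product of the values of `I` on the components of `X`
-/

set_option autoImplicit false

open CategoryTheory Limits Opposite Functor

namespace Groth.Agent.Helper9.CechHomB

open Groth.Agent.Helper9.CoskPshC

universe u

variable {C : Type u} [SmallCategory C] (J : GrothendieckTopology C)

/-- the free abelian sheaf on the presheaf of a formal coproduct -/
noncomputable abbrev Θ : FormalCoproduct.{u} C ⥤ Sheaf J AddCommGrpCat.{u} :=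
  FormalCoproduct.yoneda ⋙ W ⋙ presheafToSheaf J AddCommGrpCat.{u}

/-- the right adjoint: underlying presheaf of sets -/
abbrev R : Sheaf J AddCommGrpCat.{u} ⥤ (Cᵒᵖ ⥤ Type u) :=
  sheafToPresheaf J AddCommGrpCat.{u} ⋙
    (Functor.whiskeringRight Cᵒᵖ AddCommGrpCat.{u} (Type u)).obj (forget AddCommGrpCat.{u})

/-- free abelian sheaf ⊣ underlying presheaf of sets -/
noncomputable def adj : (W (C := C) ⋙ presheafToSheaf J AddCommGrpCat.{u}) ⊣ R J :=
  (Adjunction.whiskerRight Cᵒᵖ AddCommGrpCat.adj.{u}).comp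
    (sheafificationAdjunction J AddCommGrpCat.{u})

variable {J}

/-- maps out of a coproduct -/
noncomputable def sigmaEquiv {ι : Type u} (f : ι → (Cᵒᵖ ⥤ Type u)) (Q : Cᵒᵖ ⥤ Type u) :
    ((∐ f) ⟶ Q) ≃ (∀ i, f i ⟶ Q) where
  toFun g i := Sigma.ι f i ≫ g
  invFun g := Sigma.desc g
  left_inv g := by
    apply Sigma.hom_ext
    intro i
    simp
  right_inv g := by
    funext i
    simp

/-- the basic bijection -/
noncomputable def e (X : FormalCoproduct.{u} C) (I : Sheaf J AddCommGrpCat.{u}) :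
    ((Θ J).obj X ⟶ I) ≃ (∀ i : X.I, I.obj.obj (op (X.obj i))) :=
  ((adj J).homEquiv (FormalCoproduct.yoneda.obj X) I).trans
    ((sigmaEquiv (fun i : X.I => yoneda.obj (X.obj i)) ((R J).obj I)).trans
      (Equiv.piCongrRight (fun _ => yonedaEquiv)))

/-- the inclusion of a component into the presheaf of a formal coproduct -/
noncomputable def inc (X : FormalCoproduct.{u} C) (i : X.I) :
    yoneda.obj (X.obj i) ⟶ FormalCoproduct.yoneda.obj X :=
  Sigma.ι (fun i : X.I => yoneda.obj (X.obj i)) i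

lemma inc_map {X Y : FormalCoproduct.{u} C} (h : Y ⟶ X) (i : Y.I) :
    inc Y i ≫ FormalCoproduct.yoneda.map h = yoneda.map (h.φ i) ≫ inc X (h.f i) := by
  change Sigma.ι (yoneda.obj ∘ Y.obj) i ≫ Sigma.desc
    (fun i => yoneda.map (h.φ i) ≫ Sigma.ι (yoneda.obj ∘ X.obj) (h.f i)) = _
  exact Sigma.ι_desc _ _

/-- the unit of the adjunction at the presheaf of a formal coproduct -/
noncomputable def un (X : FormalCoproduct.{u} C) :
    FormalCoproduct.yoneda.obj X ⟶ (R J).obj ((Θ J).obj X) :=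
  (adj J).unit.app (FormalCoproduct.yoneda.obj X)

lemma un_map {X Y : FormalCoproduct.{u} C} (h : Y ⟶ X) :
    un (J := J) Y ≫ (R J).map ((Θ J).map h) = FormalCoproduct.yoneda.map h ≫ un X :=
  ((adj J).unit.naturality (FormalCoproduct.yoneda.map h)).symm

/-- the universal sections -/
noncomputable def v (X : FormalCoproduct.{u} C) (i : X.I) :
    ((Θ J).obj X).obj.obj (op (X.obj i)) :=
  (inc X i ≫ un (J := J) X).app (op (X.obj i)) (𝟙 (X.obj i))

lemma e_apply (X : FormalCoproduct.{u} C) (I : Sheaf J AddCommGrpCat.{u})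
    (φ : (Θ J).obj X ⟶ I) (i : X.I) :
    e X I φ i = φ.hom.app (op (X.obj i)) (v X i) := by
  change yonedaEquiv (Sigma.ι (fun i : X.I => yoneda.obj (X.obj i)) i ≫
    (adj J).homEquiv (FormalCoproduct.yoneda.obj X) I φ) = _
  rw [Adjunction.homEquiv_unit]
  rfl

lemma v_map {X Y : FormalCoproduct.{u} C} (h : Y ⟶ X) (i : Y.I) :
    ((Θ J).map h).hom.app (op (Y.obj i)) (v Y i) =
      ((Θ J).obj X).obj.map (h.φ i).op (v X (h.f i)) := by
  have h3 : (inc Y i ≫ un (J := J) Y) ≫ (R J).map ((Θ J).map h) =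
      yoneda.map (h.φ i) ≫ (inc X (h.f i) ≫ un X) := by
    rw [Category.assoc, un_map, ← Category.assoc, inc_map, Category.assoc]
  have h4 := ConcreteCategory.congr_hom (congr_app h3 (op (Y.obj i))) (𝟙 (Y.obj i))
  have h5 := NatTrans.naturality_apply (inc X (h.f i) ≫ un (J := J) X) (h.φ i).op
    (𝟙 (X.obj (h.f i)))
  refine h4.trans (Eq.trans ?_ h5)
  change (inc X (h.f i) ≫ un (J := J) X).app (op (Y.obj i)) (𝟙 (Y.obj i) ≫ h.φ i) =
    (inc X (h.f i) ≫ un (J := J) X).app (op (Y.obj i)) (h.φ i ≫ 𝟙 (X.obj (h.f i)))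
  rw [Category.id_comp, Category.comp_id]

variable (I : Sheaf J AddCommGrpCat.{u})

/-- the bijection as a morphism of abelian groups -/
noncomputable def Φ' (X : FormalCoproduct.{u} C) :
    (preadditiveYoneda.obj I).obj (op ((Θ J).obj X)) ⟶
      AddCommGrpCat.of (∀ i : X.I, I.obj.obj (op (X.obj i))) :=
  AddCommGrpCat.ofHom
    { toFun := fun φ => e X I φ
      map_zero' := by
        funext i
        rw [e_apply]
        rfl
      map_add' := fun φ φ' => by
        funext i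
        change e X I (φ + φ') i = e X I φ i + e X I φ' i
        rw [e_apply, e_apply, e_apply]
        rfl }

instance (X : FormalCoproduct.{u} C) : IsIso (Φ' I X) := by
  rw [ConcreteCategory.isIso_iff_bijective]
  exact (e X I).bijective

/-- the categorical product is the product of types -/
noncomputable def piIso (X : FormalCoproduct.{u} C) :
    (∏ᶜ fun i : X.I => I.obj.obj (op (X.obj i))) ≅
      AddCommGrpCat.of (∀ i : X.I, I.obj.obj (op (X.obj i))) :=
  (limit.isLimit _).conePointUniqueUpToIso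
    (AddCommGrpCat.HasLimit.productLimitCone (fun i : X.I => I.obj.obj (op (X.obj i)))).isLimit

lemma piIso_inv_π (X : FormalCoproduct.{u} C) (i : X.I) :
    (piIso I X).inv ≫ Pi.π (fun i : X.I => I.obj.obj (op (X.obj i))) i =
      AddCommGrpCat.ofHom (Pi.evalAddMonoidHom (fun i : X.I => I.obj.obj (op (X.obj i))) i) :=
  IsLimit.conePointUniqueUpToIso_inv_comp _ _ (Discrete.mk i)

/-- the comparison isomorphism -/
noncomputable def Φ (X : FormalCoproduct.{u} C) :
    (preadditiveYoneda.obj I).obj (op ((Θ J).obj X)) ≅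
      ∏ᶜ fun i : X.I => I.obj.obj (op (X.obj i)) :=
  asIso (Φ' I X) ≪≫ (piIso I X).symm

lemma Φ_π_apply (X : FormalCoproduct.{u} C) (i : X.I) (φ : (Θ J).obj X ⟶ I) :
    (Pi.π (fun i : X.I => I.obj.obj (op (X.obj i))) i) ((Φ I X).hom φ) =
      φ.hom.app (op (X.obj i)) (v X i) := by
  have h := piIso_inv_π I X i
  have h2 : (Φ I X).hom ≫ Pi.π (fun i : X.I => I.obj.obj (op (X.obj i))) i =
      Φ' I X ≫ AddCommGrpCat.ofHom
        (Pi.evalAddMonoidHom (fun i : X.I => I.obj.obj (op (X.obj i))) i) := by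
    change (Φ' I X ≫ (piIso I X).inv) ≫ _ = _
    rw [Category.assoc, h]
  have h3 := ConcreteCategory.congr_hom h2 φ
  refine h3.trans ?_
  exact e_apply X I φ i

/-- the transition maps of `evalOp`, with explicit types -/
noncomputable def evMap {X Y : FormalCoproduct.{u} C} (h : Y ⟶ X) :
    (∏ᶜ fun i : X.I => I.obj.obj (op (X.obj i))) ⟶
      ∏ᶜ fun i : Y.I => I.obj.obj (op (Y.obj i)) :=
  Pi.lift (fun i : Y.I =>
    Pi.π (fun i : X.I => I.obj.obj (op (X.obj i))) (h.f i) ≫ I.obj.map (h.φ i).op)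

lemma evMap_π {X Y : FormalCoproduct.{u} C} (h : Y ⟶ X) (i : Y.I) :
    evMap I h ≫ Pi.π (fun i : Y.I => I.obj.obj (op (Y.obj i))) i =
      Pi.π (fun i : X.I => I.obj.obj (op (X.obj i))) (h.f i) ≫ I.obj.map (h.φ i).op :=
  Pi.lift_π _ _

lemma evMap_eq {X Y : FormalCoproduct.{u} C} (h : Y ⟶ X) :
    ((FormalCoproduct.evalOp C AddCommGrpCat.{u}).obj I.obj).map h.op = evMap I h := rfl

lemma Φ_naturality {X Y : FormalCoproduct.{u} C} (h : Y ⟶ X) :
    (preadditiveYoneda.obj I).map ((Θ J).map h).op ≫ (Φ I Y).hom =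
      (Φ I X).hom ≫ evMap I h := by
  refine Pi.hom_ext _ _ (fun i => ?_)
  ext φ
  have h1 : (((preadditiveYoneda.obj I).map ((Θ J).map h).op ≫ (Φ I Y).hom) ≫
      Pi.π (fun i : Y.I => I.obj.obj (op (Y.obj i))) i) φ =
      (Pi.π (fun i : Y.I => I.obj.obj (op (Y.obj i))) i)
        ((Φ I Y).hom ((Θ J).map h ≫ φ)) := rfl
  have h3 : (((Φ I X).hom ≫ evMap I h) ≫
      Pi.π (fun i : Y.I => I.obj.obj (op (Y.obj i))) i) φ =
      I.obj.map (h.φ i).op ((Pi.π (fun i : X.I => I.obj.obj (op (X.obj i))) (h.f i))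
        ((Φ I X).hom φ)) := by
    rw [Category.assoc, evMap_π]
    rfl
  refine h1.trans (Eq.trans ?_ h3.symm)
  rw [Φ_π_apply, Φ_π_apply]
  change φ.hom.app (op (Y.obj i)) (((Θ J).map h).hom.app (op (Y.obj i)) (v Y i)) = _
  rw [v_map]
  exact NatTrans.naturality_apply φ.hom (h.φ i).op (v X (h.f i))

/-- the natural isomorphism `Hom(ℤ[F(-)]^#, I) ≅ ∏ I(-)` -/
noncomputable def Ψ : (Θ J).op ⋙ preadditiveYoneda.obj I ≅
    (FormalCoproduct.evalOp C AddCommGrpCat.{u}).obj I.obj :=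
  NatIso.ofComponents (fun X => Φ I X.unop) (fun {_ _} h => Φ_naturality I h.unop)

end Groth.Agent.Helper9.CechHomB
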