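import Mathlib
import Groth.Prelude.Def_Hyper
import Groth.Agent.Helper9.CechHomB

/-!
# Sheaves with vanishing higher cohomology on every object: dimension shifting
-/

set_option autoImplicit false

open CategoryTheory Limits Opposite Functor Abelian

namespace Groth.Agent.Helper9.CechAcycB

open Groth.Agent.Helper9.CoskPshC Groth.Agent.Helper9.CechHomB

universe u

variable {C : Type u} [SmallCategory C] {J : GrothendieckTopology C}

/-- a sheaf all of whose higher cohomology groups on all objects vanish -/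
def Acyc (F : Sheaf J AddCommGrpCat.{u}) : Prop :=
  ∀ (U : C) (q : ℕ), Subsingleton (CohSite.HU F (q + 1) U)

/-- the free abelian sheaf on a representable presheaf -/
noncomputable abbrev L (J : GrothendieckTopology C) (U : C) : Sheaf J AddCommGrpCat.{u} :=
  (presheafToSheaf J AddCommGrpCat.{u}).obj (W.obj (yoneda.obj U))

lemma acyc_iff (F : Sheaf J AddCommGrpCat.{u}) :
    Acyc F ↔ ∀ (U : C) (q : ℕ), Subsingleton (Ext (L J U) F (q + 1)) := Iff.rfl

/-- morphisms out of the free sheaf on a representable are sections -/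
noncomputable def eU (U : C) (N : Sheaf J AddCommGrpCat.{u}) :
    (L J U ⟶ N) ≃ N.obj.obj (op U) :=
  ((adj J).homEquiv (yoneda.obj U) N).trans yonedaEquiv

lemma eU_comp (U : C) {N N' : Sheaf J AddCommGrpCat.{u}} (φ : L J U ⟶ N) (g : N ⟶ N') :
    eU U N' (φ ≫ g) = g.hom.app (op U) (eU U N φ) := by
  change yonedaEquiv ((adj J).homEquiv (yoneda.obj U) N' (φ ≫ g)) = _
  rw [Adjunction.homEquiv_naturality_right]
  rfl

variable {S : ShortComplex (Sheaf J AddCommGrpCat.{u})} (hS : S.ShortExact)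

include hS in
lemma acyc_X₃ [Injective S.X₂] (h : Acyc S.X₁) : Acyc S.X₃ := by
  intro U q
  change Subsingleton (Ext (L J U) S.X₃ (q + 1))
  refine subsingleton_of_forall_eq 0 (fun x₃ => ?_)
  haveI : Subsingleton (Ext (L J U) S.X₁ (q + 1 + 1)) := h U (q + 1)
  obtain ⟨x₂, hx₂⟩ := Ext.covariant_sequence_exact₃ (L J U) hS x₃ rfl (Subsingleton.elim _ _)
  rw [← hx₂, Ext.eq_zero_of_injective x₂, Ext.zero_comp]

include hS in
lemma exists_lift_hom (h : Acyc S.X₁) (U : C) (φ : L J U ⟶ S.X₃) :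
    ∃ φ' : L J U ⟶ S.X₂, φ' ≫ S.g = φ := by
  haveI : Subsingleton (Ext (L J U) S.X₁ (0 + 1)) := h U 0
  obtain ⟨x₂, hx₂⟩ := Ext.covariant_sequence_exact₃ (L J U) hS (Ext.mk₀ φ) rfl
    (Subsingleton.elim _ _)
  obtain ⟨φ', rfl⟩ := (Ext.mk₀_bijective _ _).2 x₂
  refine ⟨φ', ?_⟩
  rw [Ext.mk₀_comp_mk₀] at hx₂
  exact (Ext.mk₀_bijective _ _).1 hx₂

include hS in
lemma surjective_app (h : Acyc S.X₁) (U : C) :
    Function.Surjective (S.g.hom.app (op U)) := by
  intro s
  obtain ⟨φ', hφ'⟩ := exists_lift_hom hS h U ((eU U S.X₃).symm s)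
  refine ⟨eU U S.X₂ φ', ?_⟩
  rw [← eU_comp, hφ', Equiv.apply_symm_apply]

/-- lifting maps out of the free sheaf on a formal coproduct along a sectionwise surjection -/
lemma exists_lift_Θ {I Q : Sheaf J AddCommGrpCat.{u}} (π : I ⟶ Q)
    (hπ : ∀ U : C, Function.Surjective (π.hom.app (op U))) (Y : FormalCoproduct.{u} C)
    (k : (Θ J).obj Y ⟶ Q) : ∃ k' : (Θ J).obj Y ⟶ I, k' ≫ π = k := by
  choose σ hσ using fun i : Y.I => hπ (Y.obj i) (e Y Q k i)
  refine ⟨(e Y I).symm σ, ?_⟩
  apply (e Y Q).injective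
  funext i
  rw [e_apply]
  change π.hom.app _ (((e Y I).symm σ).hom.app _ (v Y i)) = _
  rw [← e_apply, Equiv.apply_symm_apply, hσ]

end Groth.Agent.Helper9.CechAcycB
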