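import Mathlib
import Groth.Agent.Helper9.FlatCx

/-!
# Surjectivity on global sections from vanishing of cohomology along an exact sequence
-/

namespace Groth.Agent.Helper9.SecSurj

open CategoryTheory Limits Opposite TopologicalSpace Abelian Groth.Agent.Helper9.FlatCx

universe u

variable (X : TopCat.{u}) [HasExt.{u} (Sheaf (Opens.grothendieckTopology X) AddCommGrpCat.{u})]

/-- the constant sheaf `ℤ` -/
noncomputable abbrev Zc : Sheaf (Opens.grothendieckTopology X) AddCommGrpCat.{u} :=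
  (constantSheaf (Opens.grothendieckTopology X) AddCommGrpCat.{u}).obj
    (AddCommGrpCat.of (ULift.{u} ℤ))

/-- the adjunction constant sheaf / global sections -/
noncomputable abbrev adjΓ :
    constantSheaf (Opens.grothendieckTopology X) AddCommGrpCat.{u} ⊣
      (sheafSections (Opens.grothendieckTopology X) AddCommGrpCat.{u}).obj (op ⊤) :=
  constantSheafAdj (Opens.grothendieckTopology X) AddCommGrpCat.{u} isTerminalTop

variable {X}

/-- `H¹(X, S.X₁) = 0` implies surjectivity on global sections -/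
theorem surjective_of_subsingleton
    (S : ShortComplex (Sheaf (Opens.grothendieckTopology X) AddCommGrpCat.{u})) (hS : S.ShortExact)
    (h : Subsingleton (Ext.{u} (Zc X) S.X₁ 1)) :
    Function.Surjective (S.g.hom.app (op ⊤)) := by
  intro s
  let s' : AddCommGrpCat.of (ULift.{u} ℤ) ⟶ S.X₃.obj.obj (op ⊤) :=
    AddCommGrpCat.ofHom ((zmultiplesHom _ s).comp (AddEquiv.ulift (α := ℤ)).toAddMonoidHom)
  let φ : Zc X ⟶ S.X₃ := ((adjΓ X).homEquiv _ _).symm s'
  have h0 : (Ext.mk₀ φ).comp hS.extClass (zero_add 1) = 0 := Subsingleton.elim _ _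
  obtain ⟨x₂, hx₂⟩ := Ext.covariant_sequence_exact₃ (Zc X) hS (Ext.mk₀ φ) (zero_add 1) h0
  obtain ⟨ψ, rfl⟩ := (Ext.mk₀_bijective _ _).2 x₂
  rw [Ext.mk₀_comp_mk₀] at hx₂
  have hψ : ψ ≫ S.g = φ := (Ext.mk₀_bijective _ _).1 hx₂
  refine ⟨((adjΓ X).homEquiv _ _ ψ) (ULift.up 1), ?_⟩
  have h1 : (adjΓ X).homEquiv _ _ (ψ ≫ S.g) = (adjΓ X).homEquiv _ _ ψ ≫ S.g.hom.app (op ⊤) :=
    (adjΓ X).homEquiv_naturality_right ψ S.g
  rw [hψ] at h1
  have h2 : (adjΓ X).homEquiv _ _ φ = s' := Equiv.apply_symm_apply _ _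
  rw [h2] at h1
  have h3 := ConcreteCategory.congr_hom h1 (ULift.up 1)
  rw [ConcreteCategory.comp_apply] at h3
  rw [← h3]
  show (AddEquiv.ulift (α := ℤ)) (ULift.up 1) • s = s
  exact one_zsmul s

variable (F : ChainComplex (Sheaf (Opens.grothendieckTopology X) AddCommGrpCat.{u}) ℕ)

lemma sc'_exact_nat (j k : ℕ) (hk : k + 1 = j) (h : F.ExactAt j) : (F.sc' (j + 1) j k).Exact := by
  refine (F.exactAt_iff' (j + 1) j k ?_ ?_).1 h
  · exact ComplexShape.prev_eq' _ rfl
  · exact ComplexShape.next_eq' _ hk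

lemma subsingleton_ext_of_isZero {A : Type*} [Category A] [Abelian A] [HasExt.{u} A]
    (P Y : A) (hY : IsZero Y) (n : ℕ) : Subsingleton (Ext.{u} P Y n) := by
  refine subsingleton_of_forall_eq 0 (fun x => ?_)
  have h1 : x.comp (Ext.mk₀ (𝟙 Y)) (add_zero n) = x := Ext.comp_mk₀_id x
  rw [hY.eq_of_src (𝟙 Y) 0, Ext.mk₀_zero, Ext.comp_zero] at h1
  exact h1.symm

theorem subsingleton_cycles (r : ℕ) (hmono : ∀ k, k + 1 = r → Mono (F.d r k))
    (hex : ∀ j : ℕ, 1 ≤ j → j < r → F.ExactAt j)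
    (hvan : ∀ j : ℕ, 2 ≤ j → j ≤ r → Subsingleton (Ext.{u} (Zc X) (F.X j) (j - 1))) :
    ∀ (n j k : ℕ), k + 1 = j → j + n = r →
      Subsingleton (Ext.{u} (Zc X) (kernel (F.d j k)) j) := by
  intro n
  induction n with
  | zero =>
    intro j k hk hj
    obtain rfl : j = r := by omega
    haveI := hmono k hk
    exact subsingleton_ext_of_isZero _ _ (isZero_kernel_of_mono _) _
  | succ n ih =>
    intro j k hk hj
    have hS := S_shortExact F (j + 1) j k
      (sc'_exact_nat F j k hk (hex j (by omega) (by omega)))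
    have h1 : Subsingleton (Ext.{u} (Zc X) (kernel (F.d (j + 1) j)) (j + 1)) :=
      ih (j + 1) j rfl (by omega)
    have h2 : Subsingleton (Ext.{u} (Zc X) (F.X (j + 1)) j) := by
      have := hvan (j + 1) (by omega) (by omega)
      simpa using this
    refine subsingleton_of_forall_eq 0 (fun x => ?_)
    obtain ⟨x₂, hx₂⟩ := Ext.covariant_sequence_exact₃ (Zc X) hS x rfl (Subsingleton.elim _ _)
    rw [← hx₂, Subsingleton.elim x₂ 0, Ext.zero_comp]

theorem main (r : ℕ) (hr : 1 ≤ r)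
    (hmono : Mono (F.d r (r - 1))) (hepi : Epi (F.d 1 0))
    (hex : ∀ j : ℕ, 1 ≤ j → j < r → F.ExactAt j)
    (hvan : ∀ j : ℕ, 2 ≤ j → j ≤ r → Subsingleton (Sheaf.H (F.X j) (j - 1))) :
    Function.Surjective ((F.d 1 0).hom.app (op ⊤)) := by
  have hm : ∀ k, k + 1 = r → Mono (F.d r k) := by
    intro k hk
    obtain rfl : k = r - 1 := by omega
    exact hmono
  have h1 := subsingleton_cycles F r hm hex hvan (r - 1) 1 0 rfl (by omega)
  let S : ShortComplex (Sheaf (Opens.grothendieckTopology X) AddCommGrpCat.{u}) :=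
    ShortComplex.mk (kernel.ι (F.d 1 0)) (F.d 1 0) (kernel.condition _)
  have hS : S.ShortExact :=
    { exact := ShortComplex.exact_kernel _
      mono_f := inferInstanceAs (Mono (kernel.ι (F.d 1 0)))
      epi_g := hepi }
  exact surjective_of_subsingleton S hS h1

end Groth.Agent.Helper9.SecSurj
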