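import Mathlib
import Groth.Prelude.Def_CohCx
import Groth.Agent.Helper9.CZ5
import Groth.Agent.Helper9.CechAcycB
import Groth.Agent.Helper9.SecSurj

/-! Sections over an object of a quasi-isomorphism between bounded below complexes of sheaves which
are acyclic on that object. -/

set_option autoImplicit false
set_option linter.unusedSectionVars false

namespace Groth.Agent.Helper9.HyB

open CategoryTheory Limits Opposite Abelian
open Groth.Agent.Helper9.CZ5 Groth.Agent.Helper9.CechAcycB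

universe u

section general

variable {A : Type*} [Category A] [Abelian A]

lemma quasiIso_f_of_acyclic {S : ShortComplex (CochainComplex A ℤ)} (hS : S.ShortExact)
    (h : S.X₃.Acyclic) : QuasiIso S.f := by
  rw [quasiIso_iff]
  intro i
  rw [quasiIsoAt_iff_isIso_homologyMap]
  have hz : ∀ j, IsZero (S.X₃.homology j) := fun j => (S.X₃.exactAt_iff_isZero_homology j).1 (h j)
  have hepi : Epi (HomologicalComplex.homologyMap S.f i) :=
    (hS.homology_exact₂ i).epi_f ((hz i).eq_of_tgt _ _)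
  have hmono : Mono (HomologicalComplex.homologyMap S.f i) :=
    (hS.homology_exact₁ (i - 1) i (by simp)).mono_g ((hz (i - 1)).eq_of_src _ _)
  exact isIso_of_mono_of_epi _

end general

variable {C : Type u} [SmallCategory C] {J : GrothendieckTopology C}

/-- vanishing of the higher cohomology on a fixed object -/
def AcycAt (U : C) (F : Sheaf J AddCommGrpCat.{u}) : Prop :=
  ∀ q : ℕ, Subsingleton (CohSite.HU F (q + 1) U)

lemma acycAt_of_injective (U : C) (F : Sheaf J AddCommGrpCat.{u}) [Injective F] : AcycAt U F := by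
  intro q
  change Subsingleton (Ext (L J U) F (q + 1))
  exact subsingleton_of_forall_eq 0 (fun x => Ext.eq_zero_of_injective x)

lemma acycAt_of_isZero (U : C) (F : Sheaf J AddCommGrpCat.{u}) (hF : IsZero F) : AcycAt U F := by
  intro q
  change Subsingleton (Ext (L J U) F (q + 1))
  exact Groth.Agent.Helper9.SecSurj.subsingleton_ext_of_isZero _ _ hF _

section ses

variable {S : ShortComplex (Sheaf J AddCommGrpCat.{u})} (hS : S.ShortExact)

include hS in
lemma acycAt_X₃ (U : C) (h₁ : AcycAt U S.X₁) (h₂ : AcycAt U S.X₂) : AcycAt U S.X₃ := by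
  intro q
  change Subsingleton (Ext (L J U) S.X₃ (q + 1))
  refine subsingleton_of_forall_eq 0 (fun x₃ => ?_)
  haveI : Subsingleton (Ext (L J U) S.X₁ (q + 1 + 1)) := h₁ (q + 1)
  haveI : Subsingleton (Ext (L J U) S.X₂ (q + 1)) := h₂ q
  obtain ⟨x₂, hx₂⟩ := Ext.covariant_sequence_exact₃ (L J U) hS x₃ rfl (Subsingleton.elim _ _)
  rw [← hx₂, Subsingleton.elim x₂ 0, Ext.zero_comp]

include hS in
lemma surjective_app_of_acycAt (U : C) (h : AcycAt U S.X₁) :
    Function.Surjective (S.g.hom.app (op U)) := by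
  intro s
  haveI : Subsingleton (Ext (L J U) S.X₁ (0 + 1)) := h 0
  obtain ⟨x₂, hx₂⟩ := Ext.covariant_sequence_exact₃ (L J U) hS (Ext.mk₀ ((eU U S.X₃).symm s)) rfl
    (Subsingleton.elim _ _)
  obtain ⟨φ', rfl⟩ := (Ext.mk₀_bijective _ _).2 x₂
  rw [Ext.mk₀_comp_mk₀] at hx₂
  have hφ' : φ' ≫ S.g = (eU U S.X₃).symm s := (Ext.mk₀_bijective _ _).1 hx₂
  refine ⟨eU U S.X₂ φ', ?_⟩
  rw [← eU_comp, hφ', Equiv.apply_symm_apply]

end ses

section cycles

variable (Q : CochainComplex (Sheaf J AddCommGrpCat.{u}) ℤ)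

/-- the short complex `Zⁱ ⟶ Qⁱ ⟶ Zⁱ⁺¹` -/
noncomputable def Sc (i : ℤ) : ShortComplex (Sheaf J AddCommGrpCat.{u}) :=
  ShortComplex.mk (Q.iCycles i) (Q.toCycles i (i + 1)) (iCycles_toCycles Q i (i + 1))

lemma epi_toCycles (i : ℤ) (h : Q.ExactAt (i + 1)) : Epi (Q.toCycles i (i + 1)) := by
  have hE : (Q.sc' i (i + 1) (i + 1 + 1)).Exact :=
    (Q.exactAt_iff' i (i + 1) (i + 1 + 1) (by simp) (by simp)).1 h
  have h2 : Epi (Q.sc' i (i + 1) (i + 1 + 1)).toCycles := hE.epi_toCycles
  let e := Q.cyclesIsoSc' i (i + 1) (i + 1 + 1) (by simp) (by simp)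
  have h3 : Epi (Q.toCycles i (i + 1) ≫ e.hom) := by
    have := Q.toCycles_cyclesIsoSc'_hom i (i + 1) (i + 1 + 1) (by simp) (by simp)
    rw [this]
    exact h2
  have h4 : Epi ((Q.toCycles i (i + 1) ≫ e.hom) ≫ e.inv) := epi_comp _ _
  simpa using h4

lemma Sc_shortExact (i : ℤ) (h : Q.ExactAt (i + 1)) : (Sc Q i).ShortExact where
  exact := by
    apply ShortComplex.exact_of_f_is_kernel
    exact isKernelOfComp (Q.iCycles (i + 1)) (Q.d i (i + 1))
      (Q.cyclesIsKernel i (i + 1) (by simp)) (iCycles_toCycles Q i (i + 1))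
      (Q.toCycles_i i (i + 1))
  mono_f := inferInstanceAs (Mono (Q.iCycles i))
  epi_g := epi_toCycles Q i h

variable (U : C) (a : ℤ) (hQ0 : ∀ i : ℤ, i < a → IsZero (Q.X i)) (hex : ∀ i, Q.ExactAt i)
  (hac : ∀ i, AcycAt U (Q.X i))

include hQ0 in
lemma isZero_cycles (i : ℤ) (hi : i < a) : IsZero (Q.cycles i) :=
  IsZero.of_mono (Q.iCycles i) (hQ0 i hi)

include hQ0 hex hac in
lemma acycAt_cycles_nat : ∀ k : ℕ, AcycAt U (Q.cycles (a - 1 + (k : ℤ)))
  | 0 => by
    apply acycAt_of_isZero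
    apply isZero_cycles Q a hQ0
    simp
  | (k + 1) => by
    have h1 := acycAt_cycles_nat k
    have h2 := acycAt_X₃ (Sc_shortExact Q (a - 1 + (k : ℤ)) (hex _)) U h1 (hac _)
    have e : a - 1 + ((k + 1 : ℕ) : ℤ) = a - 1 + (k : ℤ) + 1 := by push_cast; ring
    rw [e]
    exact h2

include hQ0 hex hac in
lemma acycAt_cycles (i : ℤ) : AcycAt U (Q.cycles i) := by
  by_cases hi : i < a
  · exact acycAt_of_isZero U _ (isZero_cycles Q a hQ0 i hi)
  · have e : i = a - 1 + ((i - a + 1).toNat : ℤ) := by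
      rw [Int.toNat_of_nonneg (by omega)]
      ring
    rw [e]
    exact acycAt_cycles_nat Q U a hQ0 hex hac _

include hQ0 hex hac in
theorem exact_sections' (m n : ℤ) (hmn : m + 1 = n) (x : (Q.X n).obj.obj (op U))
    (hx : (Q.d n (n + 1)).hom.app (op U) x = 0) :
    ∃ y : (Q.X m).obj.obj (op U), (Q.d m n).hom.app (op U) y = x := by
  subst hmn
  have hx' : (Q.toCycles (m + 1) (m + 1 + 1)).hom.app (op U) x = 0 := by
    apply injective_app_of_mono (Q.iCycles (m + 1 + 1)) (op U)
    rw [map_zero]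
    have h := congrArg (fun φ => φ.hom.app (op U) x)
      (HomologicalComplex.toCycles_i Q (m + 1) (m + 1 + 1))
    exact h.trans hx
  obtain ⟨z, hz⟩ := exists_cycle Q (m + 1) (m + 1 + 1) rfl (op U) x hx'
  have hS := Sc_shortExact Q m (hex _)
  obtain ⟨y, hy⟩ := surjective_app_of_acycAt hS U (acycAt_cycles Q U a hQ0 hex hac m) z
  refine ⟨y, ?_⟩
  rw [← hz]
  have hy' : (Q.toCycles m (m + 1)).hom.app (op U) y = z := hy
  rw [← hy']
  have h := congrArg (fun φ => φ.hom.app (op U) y) (HomologicalComplex.toCycles_i Q m (m + 1))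
  exact h.symm

end cycles

/-- the sections functor -/
noncomputable abbrev Γ (U : C) : Sheaf J AddCommGrpCat.{u} ⥤ AddCommGrpCat.{u} :=
  sheafToPresheaf J AddCommGrpCat.{u} ⋙ (evaluation Cᵒᵖ AddCommGrpCat.{u}).obj (op U)

section ses2

variable (S : ShortComplex (CochainComplex (Sheaf J AddCommGrpCat.{u}) ℤ)) (hS : S.ShortExact)

include hS in
lemma degreewise (i : ℤ) :
    (S.map (HomologicalComplex.eval _ (ComplexShape.up ℤ) i)).ShortExact :=
  hS.map_of_exact _

include hS in
lemma f_injective (i : ℤ) (V : Cᵒᵖ) : Function.Injective ((S.f.f i).hom.app V) := by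
  haveI : Mono (S.f.f i) := (degreewise S hS i).mono_f
  exact injective_app_of_mono (S.f.f i) V

include hS in
lemma exists_of_g_eq_zero (i : ℤ) (U : C) (x : (S.X₂.X i).obj.obj (op U))
    (hx : (S.g.f i).hom.app (op U) x = 0) :
    ∃ b : (S.X₁.X i).obj.obj (op U), (S.f.f i).hom.app (op U) b = x := by
  have hSi := degreewise S hS i
  have hmono : Mono ((S.map (HomologicalComplex.eval _ (ComplexShape.up ℤ) i)).f) := hSi.mono_f
  have h1 : ((S.map (HomologicalComplex.eval _ (ComplexShape.up ℤ) i)).map (Γ (J := J) U)).Exact :=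
    hSi.exact.map_of_mono_of_preservesKernel (Γ (J := J) U) hmono inferInstance
  rw [ShortComplex.ab_exact_iff] at h1
  exact h1 x hx

include hS in
lemma g_surjective (i : ℤ) (U : C) (h : AcycAt U (S.X₁.X i)) :
    Function.Surjective ((S.g.f i).hom.app (op U)) :=
  surjective_app_of_acycAt (degreewise S hS i) U h

include hS in
lemma acycAt_X₃_X (i : ℤ) (U : C) (h₁ : AcycAt U (S.X₁.X i)) (h₂ : AcycAt U (S.X₂.X i)) :
    AcycAt U (S.X₃.X i) :=
  acycAt_X₃ (degreewise S hS i) U h₁ h₂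

include hS in
lemma isZero_X₃_X (i : ℤ) (h : IsZero (S.X₂.X i)) : IsZero (S.X₃.X i) :=
  @IsZero.of_epi _ _ _ _ _ _ (degreewise S hS i).epi_g h

end ses2

section main

variable (K L : CochainComplex (Sheaf J AddCommGrpCat.{u}) ℤ) (φ : K ⟶ L) [Mono φ] [QuasiIso φ]
  (U : C) (a : ℤ) (hK0 : ∀ i : ℤ, i < a → IsZero (K.X i)) (hL0 : ∀ i : ℤ, i < a → IsZero (L.X i))
  (hK : ∀ i, AcycAt U (K.X i)) (hL : ∀ i, AcycAt U (L.X i))

include hK0 hL0 hK hL in
theorem quasiIso_sections : QuasiIso ((CohCx.sectCx J U).map φ) := by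
  let S : ShortComplex (CochainComplex (Sheaf J AddCommGrpCat.{u}) ℤ) :=
    ShortComplex.mk φ (cokernel.π φ) (cokernel.condition φ)
  have hS : S.ShortExact :=
    { exact := ShortComplex.exact_cokernel φ
      mono_f := inferInstanceAs (Mono φ)
      epi_g := inferInstanceAs (Epi (cokernel.π φ)) }
  have hQ : S.X₃.Acyclic := hS.acyclic_X₃ (inferInstanceAs (QuasiIso φ))
  have hSi : ∀ i : ℤ, (S.map (HomologicalComplex.eval _ (ComplexShape.up ℤ) i)).ShortExact :=
    fun i => hS.map_of_exact _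
  have hQac : ∀ i, AcycAt U (S.X₃.X i) := fun i => acycAt_X₃ (hSi i) U (hK i) (hL i)
  have hQ0 : ∀ i : ℤ, i < a → IsZero (S.X₃.X i) := by
    intro i hi
    exact @IsZero.of_epi _ _ _ _ _ _ (hSi i).epi_g (hL0 i hi)
  let ST := S.map (CohCx.sectCx J U)
  have hST : ST.ShortExact := by
    apply HomologicalComplex.shortExact_of_degreewise_shortExact
    intro i
    have hSi' := hSi i
    have hmono : Mono ((S.map (HomologicalComplex.eval _ (ComplexShape.up ℤ) i)).f) := hSi'.mono_f
    have : ((S.map (HomologicalComplex.eval _ (ComplexShape.up ℤ) i)).map (Γ (J := J) U)).ShortExact :=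
      { exact := hSi'.exact.map_of_mono_of_preservesKernel (Γ (J := J) U) hmono inferInstance
        mono_f := by
          show Mono ((Γ (J := J) U).map _)
          infer_instance
        epi_g := by
          rw [AddCommGrpCat.epi_iff_surjective]
          exact surjective_app_of_acycAt hSi' U (hK i) }
    exact this
  have hΓQ : ST.X₃.Acyclic := by
    intro n
    rw [HomologicalComplex.exactAt_iff' _ (n - 1) n (n + 1) (by simp) (by simp),
      ShortComplex.ab_exact_iff]
    intro x hx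
    exact exact_sections' S.X₃ U a hQ0 hQ hQac (n - 1) n (by omega) x hx
  exact quasiIso_f_of_acyclic hST hΓQ

end main

end Groth.Agent.Helper9.HyB
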