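import Mathlib

/-! Cutting a cochain complex by a predicate on degrees (stupid truncations), the stupid
filtration as a functor `EInt ⥤ CochainComplex A ℤ`, and the split short exact sequences relating
the pieces. -/

set_option autoImplicit false
set_option backward.isDefEq.respectTransparency false
set_option backward.isDefEq.respectTransparency.types false
set_option linter.style.haveILetI false
set_option linter.unusedSectionVars false
universe v u

open CategoryTheory CategoryTheory.Limits ZeroObject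

namespace Groth.Agent.Helper9.StupidFil

section Obj

variable {A : Type u} [Category.{v} A] [Preadditive A] [HasZeroObject A]

open Classical in
/-- `X` if `P` holds, `0` otherwise -/
noncomputable def cutX (P : Prop) (X : A) : A := if P then X else 0

open Classical in
/-- the inclusion -/
noncomputable def cutι (P : Prop) (X : A) : cutX P X ⟶ X :=
  if h : P then eqToHom (if_pos h) else 0

open Classical in
/-- the projection -/
noncomputable def cutπ (P : Prop) (X : A) : X ⟶ cutX P X :=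
  if h : P then eqToHom (if_pos h).symm else 0

variable {P : Prop} {X : A}

lemma cutι_of (h : P) : cutι P X = eqToHom (if_pos h) := dif_pos h

lemma cutπ_of (h : P) : cutπ P X = eqToHom (if_pos h).symm := dif_pos h

lemma cutι_of_not (h : ¬ P) : cutι P X = 0 := dif_neg h

lemma cutπ_of_not (h : ¬ P) : cutπ P X = 0 := dif_neg h

lemma isZero_cutX (h : ¬ P) : IsZero (cutX P X) := by
  unfold cutX
  rw [if_neg h]
  exact isZero_zero A

lemma isZero_cutX_of_isZero (hX : IsZero X) : IsZero (cutX P X) := by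
  by_cases h : P
  · unfold cutX
    rw [if_pos h]
    exact hX
  · exact isZero_cutX h

@[reassoc (attr := simp)]
lemma cutι_π : cutι P X ≫ cutπ P X = 𝟙 _ := by
  by_cases h : P
  · rw [cutι_of h, cutπ_of h]
    simp
  · exact (isZero_cutX h).eq_of_src _ _

@[reassoc]
lemma cutπ_ι (h : P) : cutπ P X ≫ cutι P X = 𝟙 X := by
  rw [cutι_of h, cutπ_of h]
  simp

/-- the isomorphism when `P` holds -/
noncomputable def cutXIso (h : P) : cutX P X ≅ X where
  hom := cutι P X
  inv := cutπ P X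
  hom_inv_id := cutι_π
  inv_hom_id := cutπ_ι h

end Obj

section Cx

variable {A : Type u} [Category.{v} A] [Preadditive A] [HasZeroObject A]
  (K : CochainComplex A ℤ)

/-- the complex cut by the predicate `P` -/
noncomputable def cut (P : ℤ → Prop) : CochainComplex A ℤ where
  X n := cutX (P n) (K.X n)
  d i j := cutι (P i) (K.X i) ≫ K.d i j ≫ cutπ (P j) (K.X j)
  shape i j h := by rw [K.shape i j h]; simp
  d_comp_d' i j k _ _ := by
    by_cases hj : P j
    · simp only [Category.assoc]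
      rw [cutπ_ι_assoc hj, K.d_comp_d_assoc]
      simp
    · rw [cutπ_of_not hj]
      simp

lemma cut_X (P : ℤ → Prop) (n : ℤ) : (cut K P).X n = cutX (P n) (K.X n) := rfl

lemma cut_d (P : ℤ → Prop) (i j : ℤ) :
    (cut K P).d i j = cutι (P i) (K.X i) ≫ K.d i j ≫ cutπ (P j) (K.X j) := rfl

lemma isZero_cut_X (P : ℤ → Prop) (n : ℤ) (h : ¬ P n) : IsZero ((cut K P).X n) :=
  isZero_cutX h

lemma isZero_cut_X_of_isZero (P : ℤ → Prop) (n : ℤ) (h : IsZero (K.X n)) :
    IsZero ((cut K P).X n) :=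
  isZero_cutX_of_isZero h

variable {P Q R : ℤ → Prop}

/-- the canonical map between cuts -/
noncomputable def cutMap (h : ∀ n, P n → Q (n + 1) → Q n ∧ P (n + 1)) : cut K P ⟶ cut K Q where
  f n := cutι (P n) (K.X n) ≫ cutπ (Q n) (K.X n)
  comm' i j hij := by
    obtain rfl : i + 1 = j := hij
    simp only [cut_d, Category.assoc]
    by_cases hi : P i
    · by_cases hj : Q (i + 1)
      · obtain ⟨hQi, hPj⟩ := h i hi hj
        rw [cutπ_ι_assoc hQi, cutπ_ι_assoc hPj]
      · rw [cutπ_of_not hj]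
        simp
    · rw [cutι_of_not hi]
      simp

@[simp]
lemma cutMap_f (h : ∀ n, P n → Q (n + 1) → Q n ∧ P (n + 1)) (n : ℤ) :
    (cutMap K h).f n = cutι (P n) (K.X n) ≫ cutπ (Q n) (K.X n) := rfl

lemma cutMap_id (h : ∀ n, P n → P (n + 1) → P n ∧ P (n + 1)) : cutMap K h = 𝟙 _ := by
  ext n
  simp
  rfl

lemma cutMap_comp (h₁ : ∀ n, P n → Q (n + 1) → Q n ∧ P (n + 1))
    (h₂ : ∀ n, Q n → R (n + 1) → R n ∧ Q (n + 1))
    (h₃ : ∀ n, P n → R (n + 1) → R n ∧ P (n + 1)) (hPQ : ∀ n, P n → Q n) :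
    cutMap K h₁ ≫ cutMap K h₂ = cutMap K h₃ := by
  ext n
  simp only [HomologicalComplex.comp_f, cutMap_f, Category.assoc]
  by_cases hn : P n
  · rw [cutπ_ι_assoc (hPQ n hn)]
  · rw [cutι_of_not hn]
    simp

/-- the cut by a predicate which always holds -/
noncomputable def cutIsoOfForall (hP : ∀ n, P n) : cut K P ≅ K :=
  HomologicalComplex.Hom.isoOfComponents (fun n => cutXIso (hP n)) (by
    intro i j hij
    simp only [cut_d, cutXIso, Category.assoc]
    rw [cutπ_ι (hP j), Category.comp_id])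

lemma isZero_cut (hP : ∀ n, P n → IsZero (K.X n)) : IsZero (cut K P) := by
  rw [IsZero.iff_id_eq_zero]
  ext n
  apply IsZero.eq_of_src
  by_cases h : P n
  · exact isZero_cut_X_of_isZero K P n (hP n h)
  · exact isZero_cut_X K P n h

instance isStrictlyGE_cut (m : ℤ) [K.IsStrictlyGE m] : (cut K P).IsStrictlyGE m := by
  rw [CochainComplex.isStrictlyGE_iff]
  intro i hi
  exact isZero_cut_X_of_isZero K P i (K.isZero_of_isStrictlyGE m i hi)

lemma isStrictlyGE_cut_of (m : ℤ) (hP : ∀ n, P n → m ≤ n) : (cut K P).IsStrictlyGE m := by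
  rw [CochainComplex.isStrictlyGE_iff]
  intro i hi
  exact isZero_cut_X K P i (fun h => by have := hP i h; lia)

end Cx

section Fil

variable {A : Type u} [Category.{v} A] [Preadditive A] [HasZeroObject A]
  (K : CochainComplex A ℤ)

/-- the predicate `-n ≤ a` -/
def Pa (a : EInt) (n : ℤ) : Prop := ((-n : ℤ) : EInt) ≤ a

lemma Pa_mono {a b : EInt} (h : a ≤ b) {n : ℤ} (hn : Pa a n) : Pa b n := le_trans hn h

lemma Pa_succ {a : EInt} {n : ℤ} (hn : Pa a n) : Pa a (n + 1) := by
  refine le_trans ?_ hn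
  rw [WithBotTop.coe_le_coe]
  lia

lemma Pa_top (n : ℤ) : Pa ⊤ n := le_top

lemma not_Pa_bot (n : ℤ) : ¬ Pa ⊥ n := by
  intro h
  have h' : ((-n : ℤ) : EInt) = ⊥ := le_bot_iff.1 h
  exact WithBotTop.coe_ne_bot _ h'

lemma Pa_coe_iff (a n : ℤ) : Pa (a : EInt) n ↔ -n ≤ a := by
  unfold Pa
  rw [WithBotTop.coe_le_coe]

/-- the stupid filtration: `Φ a = σ_{≥ -a} K` -/
noncomputable def Φ : EInt ⥤ CochainComplex A ℤ where
  obj a := cut K (Pa a)
  map {a b} f := cutMap K (P := Pa a) (Q := Pa b)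
    (fun _ hP _ => ⟨Pa_mono (leOfHom f) hP, Pa_succ hP⟩)
  map_id _ := cutMap_id K _
  map_comp f _ := (cutMap_comp K _ _ _ (fun _ hn => Pa_mono (leOfHom f) hn)).symm

/-- the predicate of the quotient `Φ j / Φ i` -/
def Pq (i j : EInt) (n : ℤ) : Prop := Pa j n ∧ ¬ Pa i n

/-- the projection `Φ j ⟶ Φ j / Φ i` -/
noncomputable def quotMap (i j : EInt) : (Φ K).obj j ⟶ cut K (Pq i j) :=
  cutMap K (P := Pa j) (Q := Pq i j)
    (fun _ hP hQ => ⟨⟨hP, fun h => hQ.2 (Pa_succ h)⟩, Pa_succ hP⟩)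

end Fil

section Abelian

variable {A : Type u} [Category.{v} A] [Abelian A] (K : CochainComplex A ℤ)

lemma map_quotMap {i j : EInt} (f : i ⟶ j) : (Φ K).map f ≫ quotMap K i j = 0 := by
  ext n
  simp only [Φ, quotMap, HomologicalComplex.comp_f, cutMap_f, Category.assoc,
    HomologicalComplex.zero_f]
  by_cases hn : Pa i n
  · rw [cutπ_of_not (P := Pq i j n) (fun h => h.2 hn)]
    simp
  · rw [cutι_of_not hn]
    simp

/-- the short complex `Φ i ⟶ Φ j ⟶ Φ j / Φ i` -/
noncomputable def sc {i j : EInt} (f : i ⟶ j) : ShortComplex (CochainComplex A ℤ) :=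
  ShortComplex.mk ((Φ K).map f) (quotMap K i j) (map_quotMap K f)

/-- it is degreewise split -/
noncomputable def splitting {i j : EInt} (f : i ⟶ j) (n : ℤ) :
    ((sc K f).map (HomologicalComplex.eval A (ComplexShape.up ℤ) n)).Splitting where
  r := cutι (Pa j n) (K.X n) ≫ cutπ (Pa i n) (K.X n)
  s := cutι (Pq i j n) (K.X n) ≫ cutπ (Pa j n) (K.X n)
  f_r := by
    show (cutι (Pa i n) (K.X n) ≫ cutπ (Pa j n) (K.X n)) ≫
      cutι (Pa j n) (K.X n) ≫ cutπ (Pa i n) (K.X n) = 𝟙 (cutX (Pa i n) (K.X n))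
    by_cases hn : Pa i n
    · rw [Category.assoc, cutπ_ι_assoc (Pa_mono (leOfHom f) hn), cutι_π]
    · exact (isZero_cutX hn).eq_of_src _ _
  s_g := by
    show (cutι (Pq i j n) (K.X n) ≫ cutπ (Pa j n) (K.X n)) ≫
      cutι (Pa j n) (K.X n) ≫ cutπ (Pq i j n) (K.X n) = 𝟙 (cutX (Pq i j n) (K.X n))
    by_cases hn : Pq i j n
    · rw [Category.assoc, cutπ_ι_assoc hn.1, cutι_π]
    · exact (isZero_cutX hn).eq_of_src _ _
  id := by
    show (cutι (Pa j n) (K.X n) ≫ cutπ (Pa i n) (K.X n)) ≫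
        cutι (Pa i n) (K.X n) ≫ cutπ (Pa j n) (K.X n) +
      (cutι (Pa j n) (K.X n) ≫ cutπ (Pq i j n) (K.X n)) ≫
        cutι (Pq i j n) (K.X n) ≫ cutπ (Pa j n) (K.X n) = 𝟙 (cutX (Pa j n) (K.X n))
    by_cases hj : Pa j n
    · by_cases hi : Pa i n
      · rw [cutπ_of_not (P := Pq i j n) (fun h => h.2 hi)]
        simp only [Category.assoc, zero_comp, comp_zero, add_zero]
        rw [cutπ_ι_assoc hi, cutι_π]
      · rw [cutπ_of_not hi]
        simp only [Category.assoc, zero_comp, comp_zero, zero_add]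
        rw [cutπ_ι_assoc (P := Pq i j n) ⟨hj, hi⟩, cutι_π]
    · exact (isZero_cutX hj).eq_of_src _ _

lemma sc_shortExact {i j : EInt} (f : i ⟶ j) : (sc K f).ShortExact :=
  HomologicalComplex.shortExact_of_degreewise_shortExact _ (fun n => (splitting K f n).shortExact)

end Abelian

end Groth.Agent.Helper9.StupidFil
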