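import Mathlib
import Groth.Agent.Helper9.StupidFil

/-! A cut concentrated in a single degree is a single complex. -/

set_option autoImplicit false
set_option backward.isDefEq.respectTransparency false
set_option backward.isDefEq.respectTransparency.types false
set_option linter.style.haveILetI false
set_option linter.unusedSectionVars false
universe v u

open CategoryTheory CategoryTheory.Limits ZeroObject HomologicalComplex

namespace Groth.Agent.Helper9.StupidFil

variable {A : Type u} [Category.{v} A] [Preadditive A] [HasZeroObject A]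

/-- A cochain complex concentrated in degree `n` is a single complex. -/
noncomputable def isoSingle (K : CochainComplex A ℤ) (n : ℤ) [K.IsStrictlyGE n]
    [K.IsStrictlyLE n] : K ≅ (single A (ComplexShape.up ℤ) n).obj (K.X n) where
  hom := mkHomToSingle (𝟙 _) (fun i (hi : i + 1 = n) ↦
    (K.isZero_of_isStrictlyGE n i (by lia)).eq_of_src _ _)
  inv := mkHomFromSingle (𝟙 _) (fun i (hi : n + 1 = i) ↦
    (K.isZero_of_isStrictlyLE n i (by lia)).eq_of_tgt _ _)
  hom_inv_id := by
    ext i
    obtain hi | rfl | hi := lt_trichotomy i n
    · apply (K.isZero_of_isStrictlyGE n i (by lia)).eq_of_src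
    · simp
    · apply (K.isZero_of_isStrictlyLE n i (by lia)).eq_of_tgt
  inv_hom_id := by aesop

variable (K : CochainComplex A ℤ) {P : ℤ → Prop}

lemma isStrictlyLE_cut_of (m : ℤ) (hP : ∀ n, P n → n ≤ m) : (cut K P).IsStrictlyLE m := by
  rw [CochainComplex.isStrictlyLE_iff]
  intro i hi
  exact isZero_cut_X K P i (fun h => by have := hP i h; lia)

/-- the cut by the predicate `· = p` -/
noncomputable def cutSingleIso (p : ℤ) (hP : ∀ m, P m ↔ m = p) :
    cut K P ≅ (single A (ComplexShape.up ℤ) p).obj (K.X p) :=
  haveI := isStrictlyGE_cut_of K (P := P) p (fun n hn => ((hP n).1 hn).ge)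
  haveI := isStrictlyLE_cut_of K (P := P) p (fun n hn => ((hP n).1 hn).le)
  isoSingle (cut K P) p ≪≫
    (single A (ComplexShape.up ℤ) p).mapIso (cutXIso ((hP p).2 rfl))

end Groth.Agent.Helper9.StupidFil
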