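import Mathlib
import Groth.Prelude.Def_DCoh2
import Groth.Prelude.Def_DDual2
import Groth.Agent.Helper9.Lpull3
import Groth.Agent.Helper9.Tilde2
import Groth.Agent.Helper6.LBCAdj
import Groth.Agent.Helper8.TildeBC

/-! `(- ⊗^L_A B)~ ≅ Lf^*(-~)` for `f = Spec φ`. -/

set_option autoImplicit false
set_option linter.style.haveILetI false
set_option linter.unusedVariables false
set_option linter.unusedSectionVars false
universe u

namespace Groth.Agent.Helper9.LpullTilde1

open CategoryTheory CategoryTheory.Limits AlgebraicGeometry Opposite TopologicalSpace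
  HomologicalComplex
open Groth.Agent.Helper9.Lpull1 Groth.Agent.Helper9.Lpull2 Groth.Agent.Helper9.Lpull3

attribute [local instance] HasDerivedCategory.standard

variable {R S : CommRingCat.{u}} (φ : R ⟶ S)
  [PreservesFiniteLimits (tilde.functor R)]
  [PreservesFiniteLimits (tilde.functor S)]
  [DRing.HasLBaseChange φ.hom] [DCoh.HasLpull (Spec.map φ)]

instance additive_tilde' :
    @Functor.Additive (ModuleCat.{u} S) (Spec S).Modules _ _ _ _ (tilde.functor S) :=
  (inferInstance : (tilde.functor S).Additive)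

instance additive_ext_tilde :
    @Functor.Additive (ModuleCat.{u} R) (Spec S).Modules _ _ _ _
      (ModuleCat.extendScalars.{u, u, u} φ.hom ⋙ tilde.functor S) := by
  have h1 : (ModuleCat.extendScalars.{u, u, u} φ.hom).Additive := inferInstance
  have h2 : (tilde.functor S).Additive := inferInstance
  exact @Functor.instAdditiveComp _ _ _ _ _ _ (ModuleCat.extendScalars.{u, u, u} φ.hom) h1 _ _ _
    (tilde.functor S) h2

/-- tilde commutes with base change, on homotopy categories -/
noncomputable def cmpIso :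
    (tilde.functor R).mapHomotopyCategory (ComplexShape.up ℤ) ⋙
      (Scheme.Modules.pullback (Spec.map φ)).mapHomotopyCategory (ComplexShape.up ℤ) ≅
    (ModuleCat.extendScalars.{u, u, u} φ.hom).mapHomotopyCategory (ComplexShape.up ℤ) ⋙
      (tilde.functor S).mapHomotopyCategory (ComplexShape.up ℤ) :=
  Functor.mapHomotopyCategoryCompIso (Groth.Agent.Helper8.TildeBC.tildePullbackIso φ)
      (ComplexShape.up ℤ) ≪≫
    (Functor.mapHomotopyCategoryCompIso (Iso.refl _) (ComplexShape.up ℤ)).symm

/-- the natural transformation exhibiting `tildeD ⋙ Lf^*` as a candidate left derived functor -/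
noncomputable def β : DerivedCategory.Qh ⋙ (DCoh.tildeD R ⋙ DCoh.Lpull (Spec.map φ)) ⟶
    DRing.baseChangeKh φ.hom ⋙ DCoh.tildeD S :=
  (Functor.associator _ _ _).inv ≫
    Functor.whiskerRight (tilde.functor R).mapDerivedCategoryFactorsh.hom
      (DCoh.Lpull (Spec.map φ)) ≫
    (Functor.associator _ _ _).hom ≫
    Functor.whiskerLeft ((tilde.functor R).mapHomotopyCategory (ComplexShape.up ℤ))
      (counit (Spec.map φ)) ≫
    (Functor.associator _ _ _).inv ≫
    Functor.whiskerRight (cmpIso φ).hom DerivedCategory.Qh ≫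
    (Functor.associator _ _ _).hom ≫
    Functor.whiskerLeft ((ModuleCat.extendScalars.{u, u, u} φ.hom).mapHomotopyCategory
      (ComplexShape.up ℤ)) (tilde.functor S).mapDerivedCategoryFactorsh.inv ≫
    (Functor.associator _ _ _).inv

/-- the counit exhibiting `LBaseChange ⋙ tildeD` as a left derived functor -/
noncomputable abbrev ε : DerivedCategory.Qh ⋙ (DRing.LBaseChange φ.hom ⋙ DCoh.tildeD S) ⟶
    DRing.baseChangeKh φ.hom ⋙ DCoh.tildeD S :=
  Groth.Agent.Helper6.WeakInit.postα DerivedCategory.Qh (DRing.baseChangeKh φ.hom)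
    (DRing.LBaseChange φ.hom) (Groth.Agent.Helper6.LBCCompute.counit φ.hom) (DCoh.tildeD S)

instance isLeftDerivedFunctor_ε :
    (DRing.LBaseChange φ.hom ⋙ DCoh.tildeD S).IsLeftDerivedFunctor (ε φ)
      (HomotopyCategory.quasiIso (ModuleCat.{u} R) (ComplexShape.up ℤ)) :=
  Groth.Agent.Helper6.WeakInit.isLeftDerivedFunctor_post (Groth.Agent.Helper6.LBCAdj.enough φ.hom)
    (DCoh.tildeD S) _

/-- the comparison `tildeD ⋙ Lf^* ⟶ LBaseChange ⋙ tildeD` -/
noncomputable def γ : DCoh.tildeD R ⋙ DCoh.Lpull (Spec.map φ) ⟶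
    DRing.LBaseChange φ.hom ⋙ DCoh.tildeD S :=
  haveI := isLeftDerivedFunctor_ε φ
  (DRing.LBaseChange φ.hom ⋙ DCoh.tildeD S).leftDerivedLift (ε φ)
    (HomotopyCategory.quasiIso (ModuleCat.{u} R) (ComplexShape.up ℤ)) _ (β φ)

lemma γ_fac (P : HomotopyCategory (ModuleCat.{u} R) (ComplexShape.up ℤ)) :
    (γ φ).app (DerivedCategory.Qh.obj P) ≫ (ε φ).app P = (β φ).app P :=
  haveI := isLeftDerivedFunctor_ε φ
  Functor.leftDerived_fac_app _ _ _ _ _ _

lemma β_app (P : HomotopyCategory (ModuleCat.{u} R) (ComplexShape.up ℤ)) :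
    (β φ).app P = (DCoh.Lpull (Spec.map φ)).map
        ((tilde.functor R).mapDerivedCategoryFactorsh.hom.app P) ≫
      (counit (Spec.map φ)).app
        (((tilde.functor R).mapHomotopyCategory (ComplexShape.up ℤ)).obj P) ≫
      DerivedCategory.Qh.map ((cmpIso φ).hom.app P) ≫
      (tilde.functor S).mapDerivedCategoryFactorsh.inv.app
        (((ModuleCat.extendScalars.{u, u, u} φ.hom).mapHomotopyCategory (ComplexShape.up ℤ)).obj P) := by
  simp [β]
  rfl


theorem isIso_β_app (P : CochainComplex (ModuleCat.{u} R) ℤ) (hP : DRing.IsKFlat R P) :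
    IsIso ((β φ).app ((HomotopyCategory.quotient _ _).obj P)) := by
  rw [β_app]
  haveI : IsIso ((counit (Spec.map φ)).app (((tilde.functor R).mapHomotopyCategory
      (ComplexShape.up ℤ)).obj ((HomotopyCategory.quotient _ _).obj P))) :=
    isIso_counit_app (Spec.map φ) _ (Groth.Agent.Helper9.Tilde2.isKFlat_tilde R P hP)
  infer_instance

theorem isIso_ε_app (P : CochainComplex (ModuleCat.{u} R) ℤ) [P.IsKProjective] :
    IsIso ((ε φ).app ((HomotopyCategory.quotient _ _).obj P)) := by
  haveI := Groth.Agent.Helper6.LBCCompute.isIso_counit_app φ.hom P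
  have h : (ε φ).app ((HomotopyCategory.quotient _ _).obj P) =
      (DCoh.tildeD S).map ((Groth.Agent.Helper6.LBCCompute.counit φ.hom).app
        ((HomotopyCategory.quotient _ _).obj P)) := by
    simp [ε, Groth.Agent.Helper6.WeakInit.postα]
  rw [h]
  infer_instance

instance isIso_γ : IsIso (γ φ) := by
  rw [NatTrans.isIso_iff_isIso_app]
  intro D
  obtain ⟨P, hP, hPf, ⟨e⟩⟩ := Groth.Agent.Helper6.LBCAdj.exists_kproj D
  rw [← NatTrans.isIso_app_iff_of_iso (γ φ) e]
  have h := γ_fac φ ((HomotopyCategory.quotient _ _).obj P)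
  haveI := isIso_β_app φ P hPf
  haveI := isIso_ε_app φ P
  have h2 : (γ φ).app (DerivedCategory.Qh.obj ((HomotopyCategory.quotient _ _).obj P)) =
      (β φ).app ((HomotopyCategory.quotient _ _).obj P) ≫
        inv ((ε φ).app ((HomotopyCategory.quotient _ _).obj P)) := by
    rw [← h, Category.assoc, IsIso.hom_inv_id, Category.comp_id]
  rw [h2]
  infer_instance

/-- `tildeD ⋙ Lf^* ≅ LBaseChange ⋙ tildeD` -/
noncomputable def main : DRing.LBaseChange φ.hom ⋙ DCoh.tildeD S ≅
    DCoh.tildeD R ⋙ DCoh.Lpull (Spec.map φ) :=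
  (asIso (γ φ)).symm


end Groth.Agent.Helper9.LpullTilde1
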