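import Mathlib
import Groth.Prelude.Def_DCoh2
import Groth.Prelude.Def_DCoh3
import Groth.Prelude.Def_DDual2
import Groth.Prelude.Def_CxOX
import Groth.Agent.Helper9.LpullTilde1
import Groth.Agent.Helper9.QcLpull1
import Groth.Agent.Helper9.LocTriv1
import Groth.Agent.Helper6.HasLBC
import Groth.Agent.Helper4.TildeExact

/-! Derived pullback on affine opens: `(Lg^* E)|_{U'} = (M ⊗^L_{Γ(U)} Γ(U'))~` when `E|_U = M~`. -/

set_option autoImplicit false
set_option linter.style.haveILetI false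
set_option linter.unusedVariables false
set_option linter.unusedSectionVars false
universe u

namespace Groth.Agent.Helper9.FBC4

noncomputable section

open CategoryTheory CategoryTheory.Limits AlgebraicGeometry
open Groth.Agent.Helper9.Lpull1 Groth.Agent.Helper9.Lpull2 Groth.Agent.Helper9.Lpull3

attribute [local instance] HasDerivedCategory.standard

variable {X X' Z : Scheme.{u}}

/-- restriction to an open is a derived pullback (on objects) -/
theorem nonempty_restrictD_iso_lpull (j : Z ⟶ X) [IsOpenImmersion j] [DCoh.HasLpull j]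
    (E : DCoh.D X) : Nonempty ((DCoh.restrictD j).obj E ≅ (DCoh.Lpull j).obj E) := by
  obtain ⟨F, hF, ⟨eF⟩⟩ := exists_kflat_rep E
  exact ⟨(DCoh.restrictD j).mapIso eF.symm ≪≫
    (Scheme.Modules.restrictFunctor j).mapDerivedCategoryFactors.app F ≪≫
    (LocTriv1.lpullOpenIso j E F hF eF).symm⟩

/-- **derived pullback on affine opens** -/
theorem nonempty_tildeD_lbc_iso (g : X' ⟶ X) [DCoh.HasLpull g] {U : X.Opens}
    (hU : IsAffineOpen U) {U' : X'.Opens} (hU' : IsAffineOpen U') (hle : U' ≤ g ⁻¹ᵁ U)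
    (E : DCoh.D X) (M : Dual.D Γ(X, U))
    (eM : (DCoh.tildeD Γ(X, U)).obj M ≅ (DCoh.restrictD hU.fromSpec).obj E)
    [DRing.HasLBaseChange (g.appLE U U' hle).hom] :
    Nonempty ((DCoh.tildeD Γ(X', U')).obj
        ((DRing.LBaseChange (g.appLE U U' hle).hom).obj M) ≅
      (DCoh.restrictD hU'.fromSpec).obj ((DCoh.Lpull g).obj E)) := by
  let φ := g.appLE U U' hle
  have hcomm : Spec.map φ ≫ hU.fromSpec = hU'.fromSpec ≫ g :=
    IsAffineOpen.SpecMap_appLE_fromSpec g hU hU' hle
  haveI : DCoh.HasLpull hU'.fromSpec := hasLpull _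
  haveI : DCoh.HasLpull hU.fromSpec := hasLpull _
  haveI : DCoh.HasLpull (Spec.map φ) := hasLpull _
  haveI : DCoh.HasLpull (hU'.fromSpec ≫ g) := hasLpull _
  haveI : DCoh.HasLpull (Spec.map φ ≫ hU.fromSpec) := hasLpull _
  haveI : PreservesFiniteLimits (tilde.functor Γ(X, U)) :=
    Groth.Agent.Helper4.TildeExact.preservesFiniteLimits_tilde _
  haveI : PreservesFiniteLimits (tilde.functor Γ(X', U')) :=
    Groth.Agent.Helper4.TildeExact.preservesFiniteLimits_tilde _
  obtain ⟨e1⟩ := nonempty_restrictD_iso_lpull hU'.fromSpec ((DCoh.Lpull g).obj E)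
  let e2 := (lpullComp hU'.fromSpec g).app E
  obtain ⟨e3⟩ := QcLpull1.lpullCongr hcomm.symm E
  let e4 := (lpullComp (Spec.map φ) hU.fromSpec).app E
  obtain ⟨e5⟩ := nonempty_restrictD_iso_lpull hU.fromSpec E
  let e6 := (LpullTilde1.main φ).app M
  exact ⟨e6 ≪≫ (DCoh.Lpull (Spec.map φ)).mapIso (eM ≪≫ e5) ≪≫ e4 ≪≫ e3.symm ≪≫ e2.symm ≪≫
    e1.symm⟩

end

end Groth.Agent.Helper9.FBC4
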