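import Mathlib
import Groth.Prelude.Def_CxOX
import Groth.Agent.Lead.LocLift2
import Groth.Agent.Helper9.GL0

/-! Transitivity of restriction on `D(O_X)` as a natural isomorphism. -/

set_option autoImplicit false
set_option linter.style.haveILetI false
set_option linter.unusedVariables false
set_option linter.unusedSectionVars false
universe u

namespace Groth.Agent.Helper9.GL1

open CategoryTheory CategoryTheory.Limits AlgebraicGeometry Opposite Pretriangulated

attribute [local instance] HasDerivedCategory.standard

variable {X Z Z' : Scheme.{u}} (j : Z ⟶ X) [IsOpenImmersion j] (k : Z' ⟶ Z) [IsOpenImmersion k]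
  (l : Z' ⟶ X) [IsOpenImmersion l] (h : l = k ≫ j)

/-- restriction along `j` then `k` is restriction along `l = k ≫ j` -/
noncomputable def restrictDComp :
    DCoh.restrictD j ⋙ DCoh.restrictD k ≅ DCoh.restrictD l :=
  (Groth.Agent.Helper9.GL0.mapDCComp _ _).symm ≪≫
    Groth.Agent.Helper9.GL0.mapDCIso (Groth.Agent.Lead.LocLift.resIso j k l h).symm

end Groth.Agent.Helper9.GL1
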