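import Mathlib
import Groth.Prelude.Def_CxOX
import Groth.Agent.Helper9.GL1
import Groth.Agent.Helper9.QP7
import Groth.Agent.Helper4.RpushComp
import Groth.Agent.Helper4.AffKD
import Groth.Agent.Helper4.RjSuppGen
import Groth.Agent.Helper4.HasRD
import Groth.Agent.S6508

/-! Base change of `Rf_*` to an open of the target, transported along isomorphisms of the open
and of its preimage with other schemes (object level). -/

set_option autoImplicit false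
set_option linter.style.haveILetI false
set_option linter.unusedVariables false
set_option linter.unusedSectionVars false
universe u

namespace Groth.Agent.Helper9.FP2

open CategoryTheory CategoryTheory.Limits AlgebraicGeometry Opposite TopologicalSpace
  DerivedCategory

attribute [local instance] HasDerivedCategory.standard

variable {X Y : Scheme.{u}} (f : X ⟶ Y) (V : Y.Opens) {V' U' : Scheme.{u}}
  (ψV : V' ≅ (V : Scheme.{u})) (ψU : U' ≅ ((f ⁻¹ᵁ V : X.Opens) : Scheme.{u}))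

theorem nonempty_bc_iso [DCoh.HasRpush f] [DCoh.HasRpush (ψU.hom ≫ (f ∣_ V) ≫ ψV.inv)]
    (E : DCoh.D X) :
    Nonempty ((DCoh.restrictD (ψV.hom ≫ V.ι)).obj ((DCoh.Rpush f).obj E) ≅
      (DCoh.Rpush (ψU.hom ≫ (f ∣_ V) ≫ ψV.inv)).obj
        ((DCoh.restrictD (ψU.hom ≫ (f ⁻¹ᵁ V).ι)).obj E)) := by
  haveI : DCoh.HasRpush (f ∣_ V) := Groth.Agent.Helper4.HasRD.hasRpush _
  haveI : DCoh.HasRpush ((f ∣_ V) ≫ ψV.inv) := Groth.Agent.Helper4.HasRD.hasRpush _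
  haveI : DCoh.HasRpush ((f ∣_ V) ≫ ψV.symm.hom) := Groth.Agent.Helper4.HasRD.hasRpush _
  haveI : DCoh.HasRpush ψU.hom := Groth.Agent.Helper4.HasRD.hasRpush _
  obtain ⟨e1⟩ := Groth.Agent.S6508.result f V
  obtain ⟨(e2 : DCoh.Rpush (f ∣_ V) ⋙ DCoh.restrictD ψV.hom ≅ DCoh.Rpush ((f ∣_ V) ≫ ψV.inv))⟩ :=
    QP7.nonempty_Rpush_restrict_iso (f ∣_ V) ψV.symm
  obtain ⟨e3⟩ := Groth.Agent.Helper4.RpushComp.nonempty_iso ψU.hom ((f ∣_ V) ≫ ψV.inv)
  haveI := Groth.Agent.Helper4.AffKD.isIso_unit_of_isIso ψU.hom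
  let e4 := asIso (Groth.Agent.Helper4.RjSuppGen.dAdj' ψU.hom).unit
  let cV := GL1.restrictDComp V.ι ψV.hom (ψV.hom ≫ V.ι) rfl
  let cU := GL1.restrictDComp (f ⁻¹ᵁ V).ι ψU.hom (ψU.hom ≫ (f ⁻¹ᵁ V).ι) rfl
  let EU := (DCoh.restrictD (f ⁻¹ᵁ V).ι).obj E
  exact ⟨(cV.symm.app _) ≪≫ (DCoh.restrictD ψV.hom).mapIso (e1.app E) ≪≫ e2.app EU ≪≫
    (DCoh.Rpush ((f ∣_ V) ≫ ψV.inv)).mapIso (e4.app EU) ≪≫ e3.app _ ≪≫
    (DCoh.Rpush (ψU.hom ≫ (f ∣_ V) ≫ ψV.inv)).mapIso (cU.app E)⟩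

end Groth.Agent.Helper9.FP2
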