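import Mathlib
import Groth.Agent.Helper9.Amp1

/-! Leray's acyclicity lemma, object level: `F`-acyclic objects for a left exact functor `F` and its
total right derived functor `RF`. -/

set_option autoImplicit false
set_option linter.unusedSectionVars false
set_option linter.unusedVariables false
set_option linter.style.haveILetI false
universe w w' v v' u u'

open CategoryTheory Limits Pretriangulated

namespace Groth.Agent.Helper9.Leray1

open Groth.Agent.Helper1 Groth.Agent.Helper4 DerivedCategory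

variable {A : Type u} [Category.{v} A] [Abelian A] [HasDerivedCategory.{w} A]
  {B : Type u'} [Category.{v'} B] [Abelian B] [IsGrothendieckAbelian.{v'} B]
  [HasDerivedCategory.{w'} B]
  (F : B ⥤ A) [F.Additive] (RF : DerivedCategory B ⥤ DerivedCategory A)
  (β : F.mapHomotopyCategory (ComplexShape.up ℤ) ⋙ DerivedCategory.Qh ⟶ DerivedCategory.Qh ⋙ RF)
  [RF.IsRightDerivedFunctor β (HomotopyCategory.quasiIso B (ComplexShape.up ℤ))]

/-- left exactness: a quasi-isomorphism `G[0] ⟶ I` with `I` in degrees `≥ 0` stays a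
quasi-isomorphism in degree `0` after applying a left exact functor -/
lemma quasiIsoAt_map_zero [PreservesFiniteLimits F] (G : B) (I : CochainComplex B ℤ)
    [I.IsStrictlyGE 0]
    (ι : (HomologicalComplex.single B (ComplexShape.up ℤ) 0).obj G ⟶ I) [QuasiIsoAt ι 0] :
    QuasiIsoAt ((F.mapHomologicalComplex (ComplexShape.up ℤ)).map ι) 0 := by
  have hI0 : I.d (-1) 0 = 0 := (I.isZero_of_isStrictlyGE 0 (-1) (by omega)).eq_of_src _ _
  have h := (quasiIsoAt_iff' ι (-1) 0 1 (by simp) (by simp)).1 inferInstance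
  have y1 : ((HomologicalComplex.single B (ComplexShape.up ℤ) 0).obj G).d (-1) 0 = 0 :=
    HomologicalComplex.single_obj_d _ _ _ _ _
  have y2 : ((HomologicalComplex.single B (ComplexShape.up ℤ) 0).obj G).d 0 1 = 0 :=
    HomologicalComplex.single_obj_d _ _ _ _ _
  rw [ShortComplex.quasiIso_iff_of_zeros _ y1 y2 hI0] at h
  have w : ι.f 0 ≫ I.d 0 1 = 0 := by rw [ι.comm, y2, zero_comp]
  have h1 : (ShortComplex.mk (ι.f 0) (I.d 0 1) w).Exact := h.1
  have h2 : Mono (ι.f 0) := h.2
  have z1 : ((F.mapHomologicalComplex (ComplexShape.up ℤ)).obj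
      ((HomologicalComplex.single B (ComplexShape.up ℤ) 0).obj G)).d (-1) 0 = 0 := by
    show F.map (((HomologicalComplex.single B (ComplexShape.up ℤ) 0).obj G).d (-1) 0) = 0
    rw [HomologicalComplex.single_obj_d, F.map_zero]
  have z2 : ((F.mapHomologicalComplex (ComplexShape.up ℤ)).obj
      ((HomologicalComplex.single B (ComplexShape.up ℤ) 0).obj G)).d 0 1 = 0 := by
    show F.map (((HomologicalComplex.single B (ComplexShape.up ℤ) 0).obj G).d 0 1) = 0
    rw [HomologicalComplex.single_obj_d, F.map_zero]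
  have z3 : ((F.mapHomologicalComplex (ComplexShape.up ℤ)).obj I).d (-1) 0 = 0 := by
    show F.map (I.d (-1) 0) = 0
    rw [hI0, F.map_zero]
  rw [quasiIsoAt_iff' _ (-1) 0 1 (by simp) (by simp),
    ShortComplex.quasiIso_iff_of_zeros _ z1 z2 z3]
  haveI : Mono (ι.f 0) := h2
  refine ⟨h1.map_of_mono_of_preservesKernel F h2 inferInstance, ?_⟩
  show Mono (F.map (ι.f 0))
  infer_instance

/-- the unit of the derived functor at a complex -/
noncomputable def βQ (K : CochainComplex B ℤ) :
    Q.obj ((F.mapHomologicalComplex (ComplexShape.up ℤ)).obj K) ⟶ RF.obj (Q.obj K) :=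
  Qh.map ((F.mapHomotopyCategoryFactors (ComplexShape.up ℤ)).inv.app K) ≫
    β.app ((HomotopyCategory.quotient B (ComplexShape.up ℤ)).obj K)

lemma βQ_naturality {K L : CochainComplex B ℤ} (φ : K ⟶ L) :
    Q.map ((F.mapHomologicalComplex (ComplexShape.up ℤ)).map φ) ≫ βQ F RF β L =
      βQ F RF β K ≫ RF.map (Q.map φ) := by
  have n1 : (HomotopyCategory.quotient A (ComplexShape.up ℤ)).map
        ((F.mapHomologicalComplex (ComplexShape.up ℤ)).map φ) ≫
      (F.mapHomotopyCategoryFactors (ComplexShape.up ℤ)).inv.app L =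
      (F.mapHomotopyCategoryFactors (ComplexShape.up ℤ)).inv.app K ≫
        (F.mapHomotopyCategory (ComplexShape.up ℤ)).map
          ((HomotopyCategory.quotient B (ComplexShape.up ℤ)).map φ) :=
    (F.mapHomotopyCategoryFactors (ComplexShape.up ℤ)).inv.naturality φ
  have n2 : Qh.map ((F.mapHomotopyCategory (ComplexShape.up ℤ)).map
        ((HomotopyCategory.quotient B (ComplexShape.up ℤ)).map φ)) ≫
      β.app ((HomotopyCategory.quotient B (ComplexShape.up ℤ)).obj L) =
      β.app ((HomotopyCategory.quotient B (ComplexShape.up ℤ)).obj K) ≫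
        RF.map (Qh.map ((HomotopyCategory.quotient B (ComplexShape.up ℤ)).map φ)) :=
    β.naturality ((HomotopyCategory.quotient B (ComplexShape.up ℤ)).map φ)
  have e1 : Qh.map ((HomotopyCategory.quotient A (ComplexShape.up ℤ)).map
          ((F.mapHomologicalComplex (ComplexShape.up ℤ)).map φ)) ≫
        Qh.map ((F.mapHomotopyCategoryFactors (ComplexShape.up ℤ)).inv.app L) =
      Qh.map ((F.mapHomotopyCategoryFactors (ComplexShape.up ℤ)).inv.app K) ≫
        Qh.map ((F.mapHomotopyCategory (ComplexShape.up ℤ)).map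
          ((HomotopyCategory.quotient B (ComplexShape.up ℤ)).map φ)) := by
    rw [← Qh.map_comp, n1, Qh.map_comp]
  show Qh.map ((HomotopyCategory.quotient A (ComplexShape.up ℤ)).map
          ((F.mapHomologicalComplex (ComplexShape.up ℤ)).map φ)) ≫
        (Qh.map ((F.mapHomotopyCategoryFactors (ComplexShape.up ℤ)).inv.app L) ≫
          β.app ((HomotopyCategory.quotient B (ComplexShape.up ℤ)).obj L)) =
      (Qh.map ((F.mapHomotopyCategoryFactors (ComplexShape.up ℤ)).inv.app K) ≫
        β.app ((HomotopyCategory.quotient B (ComplexShape.up ℤ)).obj K)) ≫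
        RF.map (Qh.map ((HomotopyCategory.quotient B (ComplexShape.up ℤ)).map φ))
  rw [← Category.assoc, e1, Category.assoc, n2, Category.assoc]

lemma isIso_βQ_iff (K : CochainComplex B ℤ) :
    IsIso (βQ F RF β K) ↔
      IsIso (β.app ((HomotopyCategory.quotient B (ComplexShape.up ℤ)).obj K)) := by
  haveI : IsIso (Qh.map ((F.mapHomotopyCategoryFactors (ComplexShape.up ℤ)).inv.app K)) :=
    (Qh.mapIso (((F.mapHomotopyCategoryFactors (ComplexShape.up ℤ)).app K).symm)).isIso_hom
  exact isIso_comp_left_iff (Qh.map ((F.mapHomotopyCategoryFactors (ComplexShape.up ℤ)).inv.app K))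
    (β.app ((HomotopyCategory.quotient B (ComplexShape.up ℤ)).obj K))

include β in
lemma isIso_βQ_of_isKInjective (I : CochainComplex B ℤ) [I.IsKInjective] :
    IsIso (βQ F RF β I) := by
  rw [isIso_βQ_iff]
  let XJ : (KInjDer.P B).FullSubcategory :=
    ⟨(HomotopyCategory.quotient _ _).obj I, CochainComplex.IsKInjective.rightOrthogonal I⟩
  exact RDerComp.isIso_β_app' _ RF β XJ

/-- `β` is an isomorphism at `K` as soon as `F` preserves a K-injective resolution of `K` -/
lemma isIso_βQ_of_quasiIso {K I : CochainComplex B ℤ} (ι : K ⟶ I) [QuasiIso ι] [I.IsKInjective]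
    (h : QuasiIso ((F.mapHomologicalComplex (ComplexShape.up ℤ)).map ι)) :
    IsIso (βQ F RF β K) := by
  haveI := isIso_βQ_of_isKInjective F RF β I
  haveI : IsIso (Q.map ι) := inferInstance
  haveI : IsIso (Q.map ((F.mapHomologicalComplex (ComplexShape.up ℤ)).map ι)) := inferInstance
  have n := βQ_naturality F RF β ι
  have : βQ F RF β K = (Q.map ((F.mapHomologicalComplex (ComplexShape.up ℤ)).map ι) ≫
      βQ F RF β I) ≫ inv (RF.map (Q.map ι)) := by
    rw [n, Category.assoc, IsIso.hom_inv_id, Category.comp_id]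
  rw [this]
  infer_instance

lemma isIso_homology_Q_map_iff {K L : CochainComplex A ℤ} (ψ : K ⟶ L) (n : ℤ) :
    IsIso ((homologyFunctor A n).map (Q.map ψ)) ↔ QuasiIsoAt ψ n := by
  rw [quasiIsoAt_iff_isIso_homologyMap]
  exact NatIso.isIso_map_iff (homologyFunctorFactors A n) ψ

lemma isIso_homology_βQ_of_quasiIsoAt {K I : CochainComplex B ℤ} (ι : K ⟶ I) [QuasiIso ι]
    [I.IsKInjective] (n : ℤ)
    (h : QuasiIsoAt ((F.mapHomologicalComplex (ComplexShape.up ℤ)).map ι) n) :
    IsIso ((homologyFunctor A n).map (βQ F RF β K)) := by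
  haveI := isIso_βQ_of_isKInjective F RF β I
  haveI : IsIso (Q.map ι) := inferInstance
  haveI : IsIso ((homologyFunctor A n).map
      (Q.map ((F.mapHomologicalComplex (ComplexShape.up ℤ)).map ι))) :=
    (isIso_homology_Q_map_iff _ n).2 h
  have n' := βQ_naturality F RF β ι
  have : βQ F RF β K = (Q.map ((F.mapHomologicalComplex (ComplexShape.up ℤ)).map ι) ≫
      βQ F RF β I) ≫ inv (RF.map (Q.map ι)) := by
    rw [n', Category.assoc, IsIso.hom_inv_id, Category.comp_id]
  rw [this, Functor.map_comp, Functor.map_comp]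
  infer_instance

lemma isIso_homology_zero_βQ_single [PreservesFiniteLimits F] (G : B) :
    IsIso ((homologyFunctor A 0).map
      (βQ F RF β ((HomologicalComplex.single B (ComplexShape.up ℤ) 0).obj G))) := by
  obtain ⟨I, ι, hι, hI, hge⟩ :=
    CochainComplex.Plus.modelCategoryQuillen.exists_quasiIso_injective
      ((HomologicalComplex.single B (ComplexShape.up ℤ) 0).obj G) 0
  haveI : I.IsKInjective := CochainComplex.isKInjective_of_injective I 0
  exact isIso_homology_βQ_of_quasiIsoAt F RF β ι 0 (quasiIsoAt_map_zero F G I ι)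

/-- `F`-acyclic objects: `Hⁱ(RF(G[0])) = 0` for `i > 0` -/
def Acy (G : B) : Prop :=
  ∀ i : ℤ, 0 < i → IsZero ((homologyFunctor A i).obj (RF.obj ((singleFunctor B 0).obj G)))

include β in
lemma exists_triangle (T : ShortComplex B) (hT : T.ShortExact) :
    ∃ c : RF.obj ((singleFunctor B 0).obj T.X₃) ⟶ (RF.obj ((singleFunctor B 0).obj T.X₁))⟦(1 : ℤ)⟧,
      Triangle.mk (RF.map ((singleFunctor B 0).map T.f)) (RF.map ((singleFunctor B 0).map T.g)) c ∈
        distTriang (DerivedCategory A) :=
  RDerTri.exists_distinguished_map F RF β _ hT.singleTriangle_distinguished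

include β F in
lemma Acy.of_shortExact (T : ShortComplex B) (hT : T.ShortExact) (h₁ : Acy RF T.X₁)
    (h₂ : Acy RF T.X₂) : Acy RF T.X₃ := by
  intro i hi
  obtain ⟨c, hc⟩ := exists_triangle F RF β T hT
  have e3 := HomologySequence.exact₃ _ hc i (i + 1) rfl
  exact e3.isZero_X₂ ((h₂ i hi).eq_of_src _ _) ((h₁ (i + 1) (by omega)).eq_of_tgt _ _)

include β F in
lemma Acy.of_isZero (G : B) (hG : IsZero G) : Acy RF G := by
  intro i hi
  have h1 : IsZero ((singleFunctor B 0).obj G) := Functor.map_isZero _ hG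
  have h2 := RDerAdd.isZero_obj F RF β _ h1
  exact Functor.map_isZero _ h2

include β F in
lemma Acy.of_injective (G : B) [Injective G] : Acy RF G := by
  intro i hi
  refine Amp1.isZero_homology_single F RF β G 1 (fun p hp => ?_) 0 i (Or.inr (by omega))
  obtain ⟨q, rfl⟩ : ∃ q, p = q + 1 := ⟨p - 1, by omega⟩
  exact Functor.isZero_rightDerived_obj_injective_succ F q G

include β F in
lemma Acy.of_iso {G G' : B} (e : G ≅ G') (h : Acy RF G) : Acy RF G' := fun i hi =>
  (h i hi).of_iso ((homologyFunctor A i).mapIso (RF.mapIso ((singleFunctor B 0).mapIso e.symm)))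

include β F in
lemma Acy.biprod {G₁ G₂ : B} (h₁ : Acy RF G₁) (h₂ : Acy RF G₂) : Acy RF (G₁ ⊞ G₂) := by
  let T : ShortComplex B := ShortComplex.mk (biprod.inl : G₁ ⟶ G₁ ⊞ G₂) biprod.snd biprod.inl_snd
  have hT : T.ShortExact := (ShortComplex.Splitting.ofHasBinaryBiproduct G₁ G₂).shortExact
  intro i hi
  obtain ⟨c, hc⟩ := exists_triangle F RF β T hT
  have e2 := HomologySequence.exact₂ _ hc i
  exact e2.isZero_X₂ ((h₁ i hi).eq_of_src _ _) ((h₂ i hi).eq_of_tgt _ _)

/-- `Q(G[0]) ⟶ G[0]` in the derived category -/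
noncomputable def σ (G : B) :
    Q.obj ((HomologicalComplex.single B (ComplexShape.up ℤ) 0).obj G) ⟶ (singleFunctor B 0).obj G :=
  (singleFunctorIsoCompQ B 0).inv.app G

instance (G : B) : IsIso (σ G) := ((singleFunctorIsoCompQ B 0).symm.app G).isIso_hom

lemma σ_naturality {G G' : B} (g : G ⟶ G') :
    Q.map ((HomologicalComplex.single B (ComplexShape.up ℤ) 0).map g) ≫ σ G' =
      σ G ≫ (singleFunctor B 0).map g :=
  (singleFunctorIsoCompQ B 0).inv.naturality g

/-- `Hⁿ(K) ⟶ Hⁿ(Q K)` -/
noncomputable def hf (K : CochainComplex A ℤ) (n : ℤ) :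
    K.homology n ⟶ (homologyFunctor A n).obj (Q.obj K) :=
  (homologyFunctorFactors A n).inv.app K

instance (K : CochainComplex A ℤ) (n : ℤ) : IsIso (hf K n) :=
  ((homologyFunctorFactors A n).symm.app K).isIso_hom

lemma hf_naturality {K L : CochainComplex A ℤ} (ψ : K ⟶ L) (n : ℤ) :
    HomologicalComplex.homologyMap ψ n ≫ hf L n = hf K n ≫ (homologyFunctor A n).map (Q.map ψ) :=
  (homologyFunctorFactors A n).inv.naturality ψ

/-- the comparison `H⁰(F(G[0])) ⟶ H⁰(RF(G[0]))` -/
noncomputable def κ (G : B) :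
    ((F.mapHomologicalComplex (ComplexShape.up ℤ)).obj
      ((HomologicalComplex.single B (ComplexShape.up ℤ) 0).obj G)).homology 0 ⟶
      (homologyFunctor A 0).obj (RF.obj ((singleFunctor B 0).obj G)) :=
  hf _ 0 ≫
    (homologyFunctor A 0).map (βQ F RF β ((HomologicalComplex.single B (ComplexShape.up ℤ) 0).obj G)) ≫
    (homologyFunctor A 0).map (RF.map (σ G))

lemma isIso_κ [PreservesFiniteLimits F] (G : B) : IsIso (κ F RF β G) := by
  haveI := isIso_homology_zero_βQ_single F RF β G
  unfold κ
  infer_instance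

lemma κ_naturality {G G' : B} (g : G ⟶ G') :
    HomologicalComplex.homologyMap ((F.mapHomologicalComplex (ComplexShape.up ℤ)).map
      ((HomologicalComplex.single B (ComplexShape.up ℤ) 0).map g)) 0 ≫ κ F RF β G' =
    κ F RF β G ≫ (homologyFunctor A 0).map (RF.map ((singleFunctor B 0).map g)) := by
  let H := homologyFunctor A 0
  let sg := (HomologicalComplex.single B (ComplexShape.up ℤ) 0).map g
  have n2 : H.map (Q.map ((F.mapHomologicalComplex (ComplexShape.up ℤ)).map sg)) ≫
      H.map (βQ F RF β _) = H.map (βQ F RF β _) ≫ H.map (RF.map (Q.map sg)) := by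
    rw [← H.map_comp, βQ_naturality F RF β sg, H.map_comp]
  have n3 : H.map (RF.map (Q.map sg)) ≫ H.map (RF.map (σ G')) =
      H.map (RF.map (σ G)) ≫ H.map (RF.map ((singleFunctor B 0).map g)) := by
    rw [← H.map_comp, ← H.map_comp, ← RF.map_comp, ← RF.map_comp, σ_naturality]
  unfold κ
  rw [← Category.assoc, hf_naturality, Category.assoc, ← Category.assoc (H.map (Q.map _)), n2,
    Category.assoc, n3]
  simp only [Category.assoc]
  rfl

/-- `H⁰(F(G[0])) ≅ F G`, naturally -/
noncomputable def τ : HomologicalComplex.single B (ComplexShape.up ℤ) 0 ⋙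
    F.mapHomologicalComplex (ComplexShape.up ℤ) ⋙
      HomologicalComplex.homologyFunctor A (ComplexShape.up ℤ) 0 ≅ F :=
  (Functor.associator _ _ _).symm ≪≫
    Functor.isoWhiskerRight
      (HomologicalComplex.singleMapHomologicalComplex F (ComplexShape.up ℤ) 0) _ ≪≫
    Functor.associator _ _ _ ≪≫
    Functor.isoWhiskerLeft F (HomologicalComplex.homologyFunctorSingleIso A (ComplexShape.up ℤ) 0) ≪≫
    F.rightUnitor

/-- `H⁰(F(G[0])) ⟶ F G` -/
noncomputable def τh (G : B) : ((F.mapHomologicalComplex (ComplexShape.up ℤ)).obj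
    ((HomologicalComplex.single B (ComplexShape.up ℤ) 0).obj G)).homology 0 ⟶ F.obj G :=
  (τ F).hom.app G

instance (G : B) : IsIso (τh F G) := ((τ F).app G).isIso_hom

lemma τh_naturality {G G' : B} (g : G ⟶ G') :
    HomologicalComplex.homologyMap ((F.mapHomologicalComplex (ComplexShape.up ℤ)).map
      ((HomologicalComplex.single B (ComplexShape.up ℤ) 0).map g)) 0 ≫ τh F G' =
      τh F G ≫ F.map g := (τ F).hom.naturality g

include β in
/-- a left exact functor preserves epimorphisms with acyclic kernel -/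
lemma epi_map_of_acy [PreservesFiniteLimits F] (T : ShortComplex B) (hT : T.ShortExact)
    (h₁ : Acy RF T.X₁) : Epi (F.map T.g) := by
  obtain ⟨c, hc⟩ := exists_triangle F RF β T hT
  have hepi : Epi ((homologyFunctor A 0).map (RF.map ((singleFunctor B 0).map T.g))) :=
    (HomologySequence.epi_homologyMap_mor₂_iff _ hc 0 1 rfl).2 ((h₁ 1 one_pos).eq_of_tgt _ _)
  haveI := isIso_κ F RF β T.X₂
  haveI := isIso_κ F RF β T.X₃
  have hepi2 : Epi (HomologicalComplex.homologyMap ((F.mapHomologicalComplex (ComplexShape.up ℤ)).map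
      ((HomologicalComplex.single B (ComplexShape.up ℤ) 0).map T.g)) 0) := by
    have n := κ_naturality F RF β T.g
    have e : HomologicalComplex.homologyMap ((F.mapHomologicalComplex (ComplexShape.up ℤ)).map
        ((HomologicalComplex.single B (ComplexShape.up ℤ) 0).map T.g)) 0 =
        (κ F RF β T.X₂ ≫ (homologyFunctor A 0).map (RF.map ((singleFunctor B 0).map T.g))) ≫
          inv (κ F RF β T.X₃) := by
      rw [← n, Category.assoc, IsIso.hom_inv_id, Category.comp_id]
    rw [e]
    infer_instance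
  have e : F.map T.g = inv (τh F T.X₂) ≫
      HomologicalComplex.homologyMap ((F.mapHomologicalComplex (ComplexShape.up ℤ)).map
      ((HomologicalComplex.single B (ComplexShape.up ℤ) 0).map T.g)) 0 ≫ τh F T.X₃ := by
    rw [τh_naturality, IsIso.inv_hom_id_assoc]
  rw [e]
  infer_instance

end Groth.Agent.Helper9.Leray1
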