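import Mathlib
import Groth.Agent.Helper9.Leray1

/-! Leray's acyclicity lemma for bounded below complexes. -/

set_option autoImplicit false
set_option linter.unusedSectionVars false
set_option linter.unusedVariables false
set_option linter.style.haveILetI false
universe w w' v v' u u'

open CategoryTheory Limits Pretriangulated

namespace Groth.Agent.Helper9.Leray2

open Groth.Agent.Helper1 Groth.Agent.Helper4 DerivedCategory Groth.Agent.Helper9.Leray1

section Cycles

variable {B : Type u'} [Category.{v'} B] [Abelian B] (C : CochainComplex B ℤ)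

/-- the cycles -/
noncomputable abbrev Z (n : ℤ) : B := kernel (C.d n (n + 1))

/-- `Cⁿ ⟶ Zⁿ⁺¹` -/
noncomputable def p (n : ℤ) : C.X n ⟶ Z C (n + 1) :=
  kernel.lift (C.d (n + 1) (n + 1 + 1)) (C.d n (n + 1)) (C.d_comp_d _ _ _)

@[reassoc (attr := simp)]
lemma p_ι (n : ℤ) : p C n ≫ kernel.ι (C.d (n + 1) (n + 1 + 1)) = C.d n (n + 1) :=
  kernel.lift_ι _ _ _

/-- `0 ⟶ Zⁿ ⟶ Cⁿ ⟶ Zⁿ⁺¹ ⟶ 0` -/
noncomputable def T (n : ℤ) : ShortComplex B :=
  ShortComplex.mk (kernel.ι (C.d n (n + 1))) (p C n) (by
    rw [← cancel_mono (kernel.ι (C.d (n + 1) (n + 1 + 1))), Category.assoc, p_ι, kernel.condition,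
      zero_comp])

lemma epi_p (n : ℤ) (h : C.ExactAt (n + 1)) : Epi (p C n) := by
  have h' := (C.exactAt_iff' n (n + 1) (n + 1 + 1) (by simp) (by simp)).1 h
  exact (ShortComplex.exact_iff_epi_kernel_lift _).1 h'

lemma shortExact_T (n : ℤ) (h : C.ExactAt (n + 1)) : (T C n).ShortExact := by
  let S' : ShortComplex B := ShortComplex.mk (kernel.ι (C.d n (n + 1))) (C.d n (n + 1))
    (kernel.condition _)
  have hS' : S'.Exact := S'.exact_of_f_is_kernel (kernelIsKernel _)
  let φ : T C n ⟶ S' :=
    { τ₁ := 𝟙 _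
      τ₂ := 𝟙 _
      τ₃ := kernel.ι (C.d (n + 1) (n + 1 + 1))
      comm₁₂ := by simp [T, S']
      comm₂₃ := by simp [T, S'] }
  haveI : Epi φ.τ₁ := (inferInstance : Epi (𝟙 (Z C n)))
  haveI : IsIso φ.τ₂ := (inferInstance : IsIso (𝟙 (C.X n)))
  haveI : Mono φ.τ₃ := (inferInstance : Mono (kernel.ι (C.d (n + 1) (n + 1 + 1))))
  have hex : (T C n).Exact := (ShortComplex.exact_iff_of_epi_of_isIso_of_mono φ).2 hS'
  haveI : Mono (T C n).f := by dsimp [T]; infer_instance
  haveI : Epi (T C n).g := epi_p C n h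
  exact ShortComplex.ShortExact.mk hex

end Cycles

variable {A : Type u} [Category.{v} A] [Abelian A] [HasDerivedCategory.{w} A]
  {B : Type u'} [Category.{v'} B] [Abelian B] [IsGrothendieckAbelian.{v'} B]
  [HasDerivedCategory.{w'} B]
  (F : B ⥤ A) [F.Additive] [PreservesFiniteLimits F] (RF : DerivedCategory B ⥤ DerivedCategory A)
  (β : F.mapHomotopyCategory (ComplexShape.up ℤ) ⋙ DerivedCategory.Qh ⟶ DerivedCategory.Qh ⋙ RF)
  [RF.IsRightDerivedFunctor β (HomotopyCategory.quasiIso B (ComplexShape.up ℤ))]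

include β in
lemma acy_Z (C : CochainComplex B ℤ) (a : ℤ) [C.IsStrictlyGE a] (hC : C.Acyclic)
    (hT : ∀ n, Acy RF (C.X n)) : ∀ n, Acy RF (Z C n) := by
  have key : ∀ (k : ℕ) (n : ℤ), n ≤ a - 1 + k → Acy RF (Z C n) := by
    intro k
    induction k with
    | zero =>
      intro n hn
      apply Acy.of_isZero F RF β
      exact IsZero.of_mono (kernel.ι _) (C.isZero_of_isStrictlyGE a n (by omega))
    | succ k ih =>
      intro n hn
      by_cases h : n ≤ a - 1 + k
      · exact ih n h
      · obtain ⟨m, rfl⟩ : ∃ m, n = m + 1 := ⟨n - 1, by omega⟩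
        exact Acy.of_shortExact F RF β (T C m) (shortExact_T C m (hC _)) (ih m (by push_cast at hn; omega))
          (hT m)
  intro n
  exact key (n - a + 1).toNat n (by omega)

include β in
/-- `F` of a bounded below acyclic complex with `F`-acyclic terms is acyclic -/
theorem acyclic_map (C : CochainComplex B ℤ) (a : ℤ) [C.IsStrictlyGE a] (hC : C.Acyclic)
    (hT : ∀ n, Acy RF (C.X n)) :
    ((F.mapHomologicalComplex (ComplexShape.up ℤ)).obj C).Acyclic := by
  have hZ := acy_Z F RF β C a hC hT
  intro j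
  obtain ⟨n, rfl⟩ : ∃ n, j = n + 1 := ⟨j - 1, by omega⟩
  rw [HomologicalComplex.exactAt_iff' _ n (n + 1) (n + 1 + 1) (by simp) (by simp),
    ShortComplex.exact_iff_epi_kernel_lift]
  haveI : Epi (F.map (p C n)) :=
    epi_map_of_acy F RF β (T C n) (shortExact_T C n (hC _)) (hZ n)
  have e : kernel.lift (F.map (C.d (n + 1) (n + 1 + 1))) (F.map (C.d n (n + 1)))
      (by rw [← F.map_comp, C.d_comp_d, F.map_zero]) =
      F.map (p C n) ≫ (PreservesKernel.iso F (C.d (n + 1) (n + 1 + 1))).hom := by
    rw [← cancel_mono (kernel.ι _), kernel.lift_ι, Category.assoc, PreservesKernel.iso_hom,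
      kernelComparison_comp_ι, ← F.map_comp, p_ι]
  show Epi (kernel.lift (F.map (C.d (n + 1) (n + 1 + 1))) (F.map (C.d n (n + 1))) _)
  rw [e]
  infer_instance

section Cone

variable {C : Type u} [Category.{v} C] [Abelian C] [HasDerivedCategory.{w} C]

lemma isZero_Q_obj_iff (K : CochainComplex C ℤ) : IsZero (Q.obj K) ↔ K.Acyclic := by
  constructor
  · intro h n
    rw [HomologicalComplex.exactAt_iff_isZero_homology]
    exact ((homologyFunctor C n).map_isZero h).of_iso ((homologyFunctorFactors C n).app K).symm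
  · intro h
    apply SuppLib.isZero_of_homology
    intro n
    refine IsZero.of_iso ?_ ((homologyFunctorFactors C n).app K)
    exact (HomologicalComplex.exactAt_iff_isZero_homology _ _).1 (h n)

/-- a morphism of complexes is a quasi-isomorphism iff its cone is acyclic -/
lemma quasiIso_iff_acyclic_mappingCone {K L : CochainComplex C ℤ} (φ : K ⟶ L) :
    QuasiIso φ ↔ (CochainComplex.mappingCone φ).Acyclic := by
  rw [← isZero_Q_obj_iff, ← DerivedCategory.isIso_Q_map_iff_quasiIso]
  exact (Triangle.isZero₃_iff_isIso₁ _ (DerivedCategory.mappingCone_triangle_distinguished φ)).symm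

end Cone

include β in
/-- **Leray's acyclicity lemma**: the unit of the derived functor is an isomorphism at a bounded
below complex with `F`-acyclic terms -/
theorem isIso_βQ_of_isStrictlyGE (K : CochainComplex B ℤ) (a : ℤ) [K.IsStrictlyGE a]
    (hK : ∀ n, Acy RF (K.X n)) : IsIso (βQ F RF β K) := by
  obtain ⟨I, ι, hι, hI, hge⟩ :=
    CochainComplex.Plus.modelCategoryQuillen.exists_quasiIso_injective K a
  haveI : I.IsKInjective := CochainComplex.isKInjective_of_injective I a
  apply isIso_βQ_of_quasiIso F RF β ι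
  rw [quasiIso_iff_acyclic_mappingCone]
  suffices h : ((F.mapHomologicalComplex (ComplexShape.up ℤ)).obj
      (CochainComplex.mappingCone ι)).Acyclic from fun n =>
    (h n).of_iso (CochainComplex.mappingCone.mapHomologicalComplexIso ι F)
  haveI : (CochainComplex.mappingCone ι).IsStrictlyGE (a - 1) := by
    rw [CochainComplex.isStrictlyGE_iff]
    intro i hi
    rw [CochainComplex.mappingCone.isZero_X_iff]
    exact ⟨K.isZero_of_isStrictlyGE a _ (by omega), I.isZero_of_isStrictlyGE a _ (by omega)⟩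
  refine acyclic_map F RF β (CochainComplex.mappingCone ι) (a - 1)
    ((quasiIso_iff_acyclic_mappingCone ι).1 hι) (fun n => ?_)
  refine Acy.of_iso F RF β (HomologicalComplex.homotopyCofiber.XIsoBiprod ι n (n + 1) rfl).symm ?_
  exact Acy.biprod F RF β (hK (n + 1)) (Acy.of_injective F RF β (I.X n))

end Groth.Agent.Helper9.Leray2
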