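import Mathlib
import Groth.Agent.Helper9.Leray2
import Groth.Agent.Helper9.Leray3
import Groth.Agent.Helper9.Shriek1
import Groth.Agent.Helper9.QP7
import Groth.Agent.Helper4.QcohLimits
import Groth.Agent.S6508

/-! `f_* F ⟶ Rf_* F` is an isomorphism for complexes `F` of quasi-coherent `f_*`-acyclic modules,
`f` quasi-compact quasi-separated. -/

set_option autoImplicit false
set_option linter.style.haveILetI false
set_option linter.unusedVariables false
set_option linter.unusedSectionVars false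
universe u

namespace Groth.Agent.Helper9.Leray4

open CategoryTheory Limits AlgebraicGeometry Opposite TopologicalSpace DerivedCategory Pretriangulated
open Groth.Agent.Helper9.Leray1 Groth.Agent.Helper9.Leray2 Groth.Agent.Helper9.Leray3

attribute [local instance] HasDerivedCategory.standard

variable {X S : Scheme.{u}}

/-- the cohomology of a complex of quasi-coherent modules is quasi-coherent -/
lemma isQCoh_homology (K : CochainComplex X.Modules ℤ) (h : ∀ n, Coh.IsQCoh (K.X n)) (n : ℤ) :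
    Coh.IsQCoh (K.homology n) := by
  haveI : ∀ n, (K.X n).IsQuasicoherent := h
  let T := K.sc n
  haveI : T.X₁.IsQuasicoherent := h _
  haveI : T.X₂.IsQuasicoherent := h _
  haveI : T.X₃.IsQuasicoherent := h _
  haveI : (kernel T.g).IsQuasicoherent := Groth.Agent.Helper4.QcohLimits.isQuasicoherent_kernel T.g
  haveI : (cokernel (kernel.lift T.g T.f T.zero)).IsQuasicoherent :=
    Groth.Agent.Helper4.QcohLimits.isQuasicoherent_cokernel _
  exact Groth.Agent.Helper4.QcohLimits.isQuasicoherent_of_iso T.homologyIsoCokernelLift.symm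

lemma isQCohD_Q_obj (K : CochainComplex X.Modules ℤ) (h : ∀ n, Coh.IsQCoh (K.X n)) :
    DCoh.IsQCohD (Q.obj K) := by
  intro n
  have h1 : (K.homology n).IsQuasicoherent := isQCoh_homology K h n
  exact Groth.Agent.Helper4.QcohLimits.isQuasicoherent_of_iso
    ((homologyFunctorFactors X.Modules n).app K).symm (hF := h1)

/-- local uniform bound: over an affine open `V` of the base, `Rf_*` sends `D_QCoh^{≤ m}` into
objects whose cohomology vanishes on `V` in degrees `≥ m + N` -/
lemma exists_local_bound (f : X ⟶ S) [QuasiCompact f] [QuasiSeparated f] [DCoh.HasRpush f]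
    (V : S.Opens) (hV : IsAffineOpen V) :
    ∃ N : ℤ, ∀ (Z : DCoh.D X), DCoh.IsQCohD Z → ∀ (m : ℤ), Z.IsLE m → ∀ j : ℤ, N + m ≤ j →
      IsZero ((Scheme.Modules.restrictFunctor V.ι).obj (DCoh.HD ((DCoh.Rpush f).obj Z) j)) := by
  haveI : DCoh.HasRpush (f ∣_ V) := Groth.Agent.Helper4.HasRD.hasRpush _
  haveI : IsAffine ((V : S.Opens) : Scheme.{u}) := hV
  obtain ⟨N, hN⟩ := Van1.rpush_vanishing (f ∣_ V)
  refine ⟨N, fun Z hZ m hm j hj => ?_⟩
  obtain ⟨e1⟩ := Groth.Agent.S6508.result f V
  let Z₁ := (DCoh.restrictD (f ⁻¹ᵁ V).ι).obj Z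
  have hZ₁ : DCoh.IsQCohD Z₁ := QP7.isQCohD_restrictD _ Z hZ
  haveI : Z₁.IsLE m := Van1.isLE_restrictD _ Z m
  have hz := Shriek1.isZero_HD_Rpush_of_isLE (f ∣_ V) N hN Z₁ hZ₁ m j hj
  exact hz.of_iso ((Groth.Agent.Helper4.SuppLib.HDRestrictIso V.ι _ j).symm ≪≫
      (DerivedCategory.homologyFunctor _ j).mapIso (e1.app Z))

lemma quasiIsoAt_of_isIso_f {A : Type*} [Category A] [Abelian A] {K L : CochainComplex A ℤ}
    (φ : K ⟶ L) (i : ℤ) (h1 : IsIso (φ.f (i - 1))) (h2 : IsIso (φ.f i)) (h3 : IsIso (φ.f (i + 1))) :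
    QuasiIsoAt φ i := by
  rw [quasiIsoAt_iff' φ (i - 1) i (i + 1) (by simp) (by simp)]
  haveI : IsIso ((HomologicalComplex.shortComplexFunctor' A (ComplexShape.up ℤ) (i - 1) i
      (i + 1)).map φ) := by
    haveI : IsIso ((HomologicalComplex.shortComplexFunctor' A (ComplexShape.up ℤ) (i - 1) i
      (i + 1)).map φ).τ₁ := h1
    haveI : IsIso ((HomologicalComplex.shortComplexFunctor' A (ComplexShape.up ℤ) (i - 1) i
      (i + 1)).map φ).τ₂ := h2
    haveI : IsIso ((HomologicalComplex.shortComplexFunctor' A (ComplexShape.up ℤ) (i - 1) i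
      (i + 1)).map φ).τ₃ := h3
    exact ShortComplex.isIso_of_isIso _
  infer_instance

/-- **Leray acyclicity, unbounded quasi-coherent case** -/
theorem isIso_βQ (f : X ⟶ S) [QuasiCompact f] [QuasiSeparated f] [DCoh.HasRpush f]
    (F : CochainComplex X.Modules ℤ) (hq : ∀ n, Coh.IsQCoh (F.X n))
    (hac : haveI := Groth.Agent.Helper4.SchAdj.isGrothendieckAbelian_modules X
      ∀ n, Acy (DCoh.Rpush f) (F.X n)) :
    haveI := Groth.Agent.Helper4.SchAdj.isGrothendieckAbelian_modules X
    IsIso (βQ (Scheme.Modules.pushforward f) (DCoh.Rpush f)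
      ((DCoh.pushKh f).totalRightDerivedUnit DerivedCategory.Qh
        (HomotopyCategory.quasiIso X.Modules (ComplexShape.up ℤ))) F) := by
  haveI := Groth.Agent.Helper4.SchAdj.isGrothendieckAbelian_modules X
  let Φ := Scheme.Modules.pushforward f
  let RF := DCoh.Rpush f
  let β := (DCoh.pushKh f).totalRightDerivedUnit DerivedCategory.Qh
        (HomotopyCategory.quasiIso X.Modules (ComplexShape.up ℤ))
  show IsIso (βQ Φ RF β F)
  refine Groth.Agent.Helper4.SuppLib.isIso_of_restrict (fun V : S.affineOpens => V.1) ?_ _ ?_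
  · intro x
    obtain ⟨_, ⟨U, hU, rfl⟩, hxU, -⟩ :=
      (S.isBasis_affineOpens).exists_subset_of_mem_open (Set.mem_univ x) isOpen_univ
    exact ⟨⟨U, hU⟩, hxU⟩
  intro V
  obtain ⟨N, hN⟩ := exists_local_bound f V.1 V.2
  rw [DerivedCategory.isIso_iff]
  intro i
  let R := Scheme.Modules.restrictFunctor V.1.ι
  let H := homologyFunctor S.Modules i
  suffices hs : IsIso (R.map (H.map (βQ Φ RF β F))) from
    (NatIso.isIso_map_iff (Groth.Agent.Lead.PcLib.mapDerivedCategoryHomologyIso R i)
      (βQ Φ RF β F)).2 hs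
  -- the truncation
  let a : ℤ := min (i - 2) (i - N - 1)
  have ha1 : a ≤ i - 2 := min_le_left _ _
  have ha2 : a ≤ i - N - 1 := min_le_right _ _
  let S' := sGT F a
  let ι : S' ⟶ F := ιGT F a
  -- bounded below Leray
  have h1 : IsIso (βQ Φ RF β S') := by
    refine isIso_βQ_of_isStrictlyGE Φ RF β S' (a + 1) (fun n => ?_)
    by_cases hn : a < n
    · exact Acy.of_iso Φ RF β (sGTXIso F a n hn).symm (hac n)
    · exact Acy.of_isZero Φ RF β _ (isZero_sGT_X F a n (by omega))
  -- the underived side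
  have h2 : QuasiIsoAt ((Φ.mapHomologicalComplex (ComplexShape.up ℤ)).map ι) i := by
    have hi : ∀ j : ℤ, a < j → IsIso (((Φ.mapHomologicalComplex (ComplexShape.up ℤ)).map ι).f j) := by
      intro j hj
      haveI := isIso_ιGT_f F a j hj
      show IsIso (Φ.map (ι.f j))
      infer_instance
    exact quasiIsoAt_of_isIso_f _ i (hi _ (by omega)) (hi _ (by omega)) (hi _ (by omega))
  have h2' : IsIso (H.map (Q.map ((Φ.mapHomologicalComplex (ComplexShape.up ℤ)).map ι))) :=
    (isIso_homology_Q_map_iff _ i).2 h2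
  -- the derived side
  have h3 : IsIso (R.map (H.map (RF.map (Q.map ι)))) := by
    have hT := triangleOfSES_distinguished (truncSES_shortExact F a)
    obtain ⟨c, hc⟩ := Groth.Agent.Helper4.RDerTri.exists_distinguished_map Φ RF β _ hT
    have hZq : DCoh.IsQCohD (Q.obj (sLE F a)) := by
      apply isQCohD_Q_obj
      intro n
      by_cases hn : n ≤ a
      · exact (SheafOfModules.isQuasicoherent X.ringCatSheaf).prop_of_iso
          (sLEXIso F a n hn).symm (hq n)
      · exact Groth.Agent.Helper4.RpushQc.isQuasicoherent_of_isZero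
          (isZero_sLE_X F a n (by omega))
    haveI : (Q.obj (sLE F a)).IsLE a := inferInstance
    have z1 : IsZero (R.obj (DCoh.HD (RF.obj (Q.obj (sLE F a))) (i - 1))) :=
      hN _ hZq a inferInstance (i - 1) (by omega)
    have z2 : IsZero (R.obj (DCoh.HD (RF.obj (Q.obj (sLE F a))) i)) :=
      hN _ hZq a inferInstance i (by omega)
    have e1 := (HomologySequence.exact₁ _ hc (i - 1) i (by omega)).map R
    have e2 := (HomologySequence.exact₂ _ hc i).map R
    haveI : Mono (R.map (H.map (RF.map (Q.map ι)))) := e1.mono_g (z1.eq_of_src _ _)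
    haveI : Epi (R.map (H.map (RF.map (Q.map ι)))) := e2.epi_f (z2.eq_of_tgt _ _)
    exact isIso_of_mono_of_epi _
  -- the square
  have sq : H.map (Q.map ((Φ.mapHomologicalComplex (ComplexShape.up ℤ)).map ι)) ≫
      H.map (βQ Φ RF β F) = H.map (βQ Φ RF β S') ≫ H.map (RF.map (Q.map ι)) := by
    rw [← H.map_comp, βQ_naturality Φ RF β ι, H.map_comp]
  have e : R.map (H.map (βQ Φ RF β F)) =
      inv (R.map (H.map (Q.map ((Φ.mapHomologicalComplex (ComplexShape.up ℤ)).map ι)))) ≫
        R.map (H.map (βQ Φ RF β S')) ≫ R.map (H.map (RF.map (Q.map ι))) := by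
    rw [IsIso.eq_inv_comp, ← R.map_comp, sq, R.map_comp]
  rw [e]
  infer_instance

end Groth.Agent.Helper9.Leray4
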