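import Mathlib
import Groth.Agent.Helper9.Leray4

/-! Quasi-coherent modules are acyclic for `f_*`, `f` affine. -/

set_option autoImplicit false
set_option linter.style.haveILetI false
set_option linter.unusedVariables false
set_option linter.unusedSectionVars false
universe u

namespace Groth.Agent.Helper9.Leray5

open CategoryTheory Limits AlgebraicGeometry Opposite TopologicalSpace DerivedCategory Pretriangulated
open Groth.Agent.Helper9 Groth.Agent.Helper9.LCAff1 Groth.Agent.Helper9.QP2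
  Groth.Agent.Helper9.QP3 Groth.Agent.Helper9.LC3 Groth.Agent.Helper9.Van1

attribute [local instance] HasDerivedCategory.standard

variable {X S : Scheme.{u}}

/-- affine morphism to an affine base -/
theorem rpush_vanishing_of_isAffine (f : X ⟶ S) [IsAffine S] [IsAffineHom f] [DCoh.HasRpush f]
    (E : DCoh.D X) (hE : DCoh.IsQCohD E) (hE0 : E.IsLE 0) (m : ℤ) (hm : 1 ≤ m) :
    IsZero (DCoh.HD ((DCoh.Rpush f).obj E) m) := by
  haveI : DCoh.HasLpull f := Groth.Agent.Helper9.Lpull1.hasLpull f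
  haveI := Groth.Agent.Helper4.SchAdj.isGrothendieckAbelian_modules X
  have hU : IsAffineOpen (f ⁻¹ᵁ (⊤ : S.Opens)) := (isAffineOpen_top S).preimage f
  have hN := van_affine (f ⁻¹ᵁ (⊤ : S.Opens)) hU
  have hK : DCoh.IsQCohD ((DCoh.Rpush f).obj E) := QP7.isQCohD_Rpush f E hE
  haveI : (DCoh.HD ((DCoh.Rpush f).obj E) m).IsQuasicoherent := hK m
  apply isZero_of_sections_top
  intro s
  obtain ⟨ψ, rfl⟩ := (kk_bijective m _ hK ⊤ (isAffineOpen_top S)).2 s
  have hψ : ψ = 0 := by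
    let adj := Groth.Agent.Helper4.SchAdj.adj f
    let θ := QP4b.θ f ⊤ m
    have h1 : θ.inv ≫ (adj.homEquiv _ _).symm ψ = 0 := hN E hE hE0 m hm _
    have h2 : (adj.homEquiv _ _).symm ψ = 0 := (cancel_epi θ.inv).1 (h1.trans comp_zero.symm)
    have h3 : ψ = adj.homEquiv _ _ 0 := by
      rw [← h2, Equiv.apply_symm_apply]
    rw [h3, Adjunction.homEquiv_unit]
    have h4 : (DCoh.Rpush f).map (0 : (DCoh.Lpull f).obj (W (GU (⊤ : S.Opens)) m) ⟶ E) = 0 :=
      Groth.Agent.Helper4.RDerAdd.map_zero (Scheme.Modules.pushforward f) (DCoh.Rpush f)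
        ((DCoh.pushKh f).totalRightDerivedUnit DerivedCategory.Qh
          (HomotopyCategory.quasiIso X.Modules (ComplexShape.up ℤ))) _ _
    rw [h4, comp_zero]
  rw [hψ]
  exact kk_zero m _ ⊤

/-- `Rf_*` is right t-exact on `D_QCoh` for affine `f` -/
theorem rpush_vanishing (f : X ⟶ S) [IsAffineHom f] [DCoh.HasRpush f]
    (E : DCoh.D X) (hE : DCoh.IsQCohD E) (hE0 : E.IsLE 0) (m : ℤ) (hm : 1 ≤ m) :
    IsZero (DCoh.HD ((DCoh.Rpush f).obj E) m) := by
  haveI : ∀ U : S.Opens, DCoh.HasRpush (f ∣_ U) := fun U => Groth.Agent.Helper4.HasRD.hasRpush _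
  apply Groth.Agent.Helper4.SuppLib.isZero_of_stalks
  intro x
  obtain ⟨_, ⟨U, hU, rfl⟩, hxU, -⟩ :=
    (S.isBasis_affineOpens).exists_subset_of_mem_open (Set.mem_univ x) isOpen_univ
  obtain ⟨U', hU'⟩ : ∃ U' : S.Opens, U' = U := ⟨U, rfl⟩
  subst hU'
  haveI : IsAffine ((U' : S.Opens) : Scheme.{u}) := hU
  haveI : IsAffineHom (f ∣_ U') :=
    MorphismProperty.of_isPullback (isPullback_morphismRestrict f U').flip ‹IsAffineHom f›
  obtain ⟨e1⟩ := Groth.Agent.S6508.result f U'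
  let E₁ := (DCoh.restrictD (f ⁻¹ᵁ U').ι).obj E
  have hE₁ : DCoh.IsQCohD E₁ := QP7.isQCohD_restrictD _ E hE
  haveI : E₁.IsLE 0 := isLE_restrictD _ E 0
  have hz := rpush_vanishing_of_isAffine (f ∣_ U') E₁ hE₁ inferInstance m hm
  have hz' : IsZero ((Scheme.Modules.restrictFunctor U'.ι).obj
      (DCoh.HD ((DCoh.Rpush f).obj E) m)) :=
    hz.of_iso ((Groth.Agent.Helper4.SuppLib.HDRestrictIso U'.ι _ m).symm ≪≫
      (DerivedCategory.homologyFunctor _ m).mapIso (e1.app E))
  exact (Groth.Agent.Helper4.SuppLib.subsingleton_stalk_restrict_iff U'.ι _ ⟨x, hxU⟩).1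
    (Groth.Agent.Helper4.SuppLib.subsingleton_stalk_of_isZero _ hz' _)

/-- quasi-coherent modules are `f_*`-acyclic for affine `f` -/
theorem acy_of_isAffineHom (f : X ⟶ S) [IsAffineHom f] [DCoh.HasRpush f] (G : X.Modules)
    (hG : Coh.IsQCoh G) :
    haveI := Groth.Agent.Helper4.SchAdj.isGrothendieckAbelian_modules X
    Leray1.Acy (DCoh.Rpush f) G := by
  intro i hi
  exact rpush_vanishing f _ (Groth.Agent.Helper4.RpushQc.isQCohD_inD G hG) inferInstance i
    (by omega)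

end Groth.Agent.Helper9.Leray5
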