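import Mathlib
import Groth.Agent.Helper9.TilPush1
import Groth.Agent.Helper9.Leray5
import Groth.Prelude.Def_DDual2

/-! `Rf_*(M~) ≅ (M_A)~` on derived categories, `f = Spec φ`. -/

set_option autoImplicit false
set_option linter.style.haveILetI false
set_option linter.unusedSectionVars false
set_option linter.unusedVariables false

universe u

namespace Groth.Agent.Helper9.TilPush2

open CategoryTheory Limits AlgebraicGeometry DerivedCategory
open Groth.Agent.Helper9.Leray1

attribute [local instance] HasDerivedCategory.standard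

section Gen

variable {X S : Scheme.{u}} (f : X ⟶ S) [DCoh.HasRpush f]

/-- the unit of `Rf_*` on complexes, as a natural transformation -/
noncomputable def βQnat :
    haveI := Groth.Agent.Helper4.SchAdj.isGrothendieckAbelian_modules X
    (Scheme.Modules.pushforward f).mapHomologicalComplex (ComplexShape.up ℤ) ⋙ Q ⟶
      Q ⋙ DCoh.Rpush f :=
  haveI := Groth.Agent.Helper4.SchAdj.isGrothendieckAbelian_modules X
  { app := fun K => βQ (Scheme.Modules.pushforward f) (DCoh.Rpush f)
      ((DCoh.pushKh f).totalRightDerivedUnit DerivedCategory.Qh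
        (HomotopyCategory.quasiIso X.Modules (ComplexShape.up ℤ))) K
    naturality := fun K L φ => βQ_naturality (Scheme.Modules.pushforward f) (DCoh.Rpush f)
      ((DCoh.pushKh f).totalRightDerivedUnit DerivedCategory.Qh
        (HomotopyCategory.quasiIso X.Modules (ComplexShape.up ℤ))) φ }

end Gen

variable {R S : CommRingCat.{u}} (φ : R ⟶ S)
  [PreservesFiniteLimits (tilde.functor R)]
  [PreservesFiniteLimits (tilde.functor S)]
  [DCoh.HasRpush (Spec.map φ)]

/-- `γ : (M~ ↦ f_* M~) ⟶ (M~ ↦ Rf_* M~)` -/
noncomputable def γ :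
    (tilde.functor S).mapHomologicalComplex (ComplexShape.up ℤ) ⋙
      (Scheme.Modules.pushforward (Spec.map φ)).mapHomologicalComplex
        (ComplexShape.up ℤ) ⋙ Q ⟶
    (tilde.functor S).mapHomologicalComplex (ComplexShape.up ℤ) ⋙
      Q ⋙ DCoh.Rpush (Spec.map φ) :=
  Functor.whiskerLeft _ (βQnat (Spec.map φ))

instance : IsIso (γ φ) := by
  apply (config := { allowSynthFailures := true }) NatIso.isIso_of_isIso_app
  intro M
  have hq : ∀ n, Coh.IsQCoh ((((tilde.functor S).mapHomologicalComplex
      (ComplexShape.up ℤ)).obj M).X n) := fun n =>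
    inferInstanceAs ((tilde.functor S).obj (M.X n)).IsQuasicoherent
  exact Leray4.isIso_βQ (Spec.map φ) _ hq
    (fun n => Leray5.acy_of_isAffineHom _ _ (hq n))

theorem nonempty_iso :
    Nonempty ((tilde.functor S).mapDerivedCategory ⋙ DCoh.Rpush (Spec.map φ) ≅
      (ModuleCat.restrictScalars.{u} φ.hom).mapDerivedCategory ⋙
        (tilde.functor R).mapDerivedCategory) := by
  let θ : tilde.functor S ⋙ Scheme.Modules.pushforward (Spec.map φ) ≅
    ModuleCat.restrictScalars.{u} φ.hom ⋙ tilde.functor R := TilPush1.θ φ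
  haveI hadd : (ModuleCat.restrictScalars.{u} φ.hom ⋙ tilde.functor R).Additive :=
    Functor.instAdditiveComp _ _
  let e : Q ⋙ ((tilde.functor S).mapDerivedCategory ⋙ DCoh.Rpush (Spec.map φ)) ≅
      Q ⋙ ((ModuleCat.restrictScalars.{u} φ.hom).mapDerivedCategory ⋙
        (tilde.functor R).mapDerivedCategory) :=
    (Functor.associator _ _ _).symm ≪≫
    Functor.isoWhiskerRight (tilde.functor S).mapDerivedCategoryFactors (DCoh.Rpush (Spec.map φ)) ≪≫
    Functor.associator _ _ _ ≪≫
    (asIso (γ φ)).symm ≪≫
    (Functor.associator _ _ _).symm ≪≫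
    Functor.isoWhiskerRight
      (Functor.mapHomologicalComplexCompIso θ (ComplexShape.up ℤ) ≪≫
        (Functor.mapHomologicalComplexCompIso
          (Iso.refl (ModuleCat.restrictScalars.{u} φ.hom ⋙ tilde.functor R))
          (ComplexShape.up ℤ)).symm) Q ≪≫
    Functor.associator _ _ _ ≪≫
    Functor.isoWhiskerLeft _ (tilde.functor R).mapDerivedCategoryFactors.symm ≪≫
    (Functor.associator _ _ _).symm ≪≫
    Functor.isoWhiskerRight (ModuleCat.restrictScalars.{u} φ.hom).mapDerivedCategoryFactors.symm _ ≪≫
    Functor.associator _ _ _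
  exact ⟨Localization.liftNatIso Q
    (HomologicalComplex.quasiIso (ModuleCat.{u} S) (ComplexShape.up ℤ)) _ _ _ _ e⟩

end Groth.Agent.Helper9.TilPush2
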