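import Mathlib
import Groth.Prelude.Def_CxOX
import Groth.Agent.Helper9.TilPush2
import Groth.Agent.Helper9.TP3
import Groth.Agent.Helper3.DRingPC3
import Groth.Agent.Lead.PcLib7
import Groth.Agent.Helper4.HasRD
import Groth.Agent.S6940

/-! The affine case of: `E` is `m`-pseudo-coherent iff `Rf_* E` is, for `f` finite with
`f_* O_X` pseudo-coherent.  Here `f = h : Spec B ⟶ Spec A` and `E = M~`. -/

set_option autoImplicit false
set_option linter.style.haveILetI false
set_option linter.unusedVariables false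
set_option linter.unusedSectionVars false
universe u

namespace Groth.Agent.Helper9.FP3

open CategoryTheory CategoryTheory.Limits AlgebraicGeometry Opposite TopologicalSpace
  DerivedCategory
open Groth.Agent.Lead.PcLib

attribute [local instance] HasDerivedCategory.standard

variable {A B : CommRingCat.{u}} (φ : A ⟶ B)
  [PreservesFiniteLimits (tilde.functor A)] [PreservesFiniteLimits (tilde.functor B)]

/-- `Rh_*(M~) ≅ (M_A)~` for `h = Spec φ` -/
theorem nonempty_Rpush_tildeD_iso (h : Spec B ⟶ Spec A) (hφ : h = Spec.map φ) [DCoh.HasRpush h]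
    (M : DerivedCategory (ModuleCat.{u} B)) :
    Nonempty ((DCoh.Rpush h).obj ((DCoh.tildeD B).obj M) ≅
      (DCoh.tildeD A).obj ((DRing.restrictD φ.hom).obj M)) := by
  subst hφ
  obtain ⟨e⟩ := TilPush2.nonempty_iso φ
  exact ⟨e.app M⟩

/-- the module `B` over `A` via `φ` -/
noncomputable def restrictInDIso :
    letI := φ.hom.toAlgebra
    (DRing.restrictD φ.hom).obj (Dual.inD B B) ≅ Dual.inD A B := by
  letI := φ.hom.toAlgebra
  exact ((ModuleCat.restrictScalars.{u} φ.hom).mapDerivedCategorySingleFunctor 0).app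
      (ModuleCat.of B B) ≪≫
    (singleFunctor (ModuleCat.{u} A) 0).mapIso
      (LinearEquiv.toModuleIso
        { toFun := fun x => x
          invFun := fun x => x
          map_add' := fun _ _ => rfl
          map_smul' := fun _ _ => rfl
          left_inv := fun _ => rfl
          right_inv := fun _ => rfl })

/-- the structure sheaf of `Spec B` is `B~` -/
noncomputable def tildeDInDIso :
    (DCoh.tildeD B).obj (Dual.inD B B) ≅
      DCoh.inD (Spec B) (Coh.structureModule (Spec B)) :=
  ((tilde.functor B).mapDerivedCategorySingleFunctor 0).app (ModuleCat.of B B)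

/-- pseudo-coherence of `B` over `A` from pseudo-coherence of `Rh_* O` -/
theorem isPseudoCoherentModule'_of_Rpush (h : Spec B ⟶ Spec A) (hφ : h = Spec.map φ)
    [DCoh.HasRpush h]
    (hO : ∀ m : ℤ, DCoh.IsPseudoCoherentD m
      ((DCoh.Rpush h).obj (DCoh.inD (Spec B) (Coh.structureModule (Spec B))))) :
    letI := φ.hom.toAlgebra
    DRing.IsPseudoCoherentModule' A B := by
  letI := φ.hom.toAlgebra
  show DRing.IsPseudoCoherent' A (Dual.inD A B)
  rw [Groth.Agent.Helper3.DRingLib.isPseudoCoherent'_iff_forall]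
  intro m
  obtain ⟨e⟩ := nonempty_Rpush_tildeD_iso φ h hφ (Dual.inD B B)
  have h1 : DCoh.IsPseudoCoherentD m ((DCoh.tildeD A).obj (Dual.inD A B)) :=
    isPseudoCoherentD_of_iso
      ((DCoh.Rpush h).mapIso (tildeDInDIso (B := B)).symm ≪≫ e ≪≫
        (DCoh.tildeD A).mapIso (restrictInDIso φ)) (hO m)
  exact (TP3.isPseudoCoherentD_tildeD_iff A _ m).1 h1

/-- the affine case -/
theorem isPseudoCoherentD_Rpush_tildeD_iff (h : Spec B ⟶ Spec A) (hφ : h = Spec.map φ)
    [DCoh.HasRpush h]
    (hO : ∀ m : ℤ, DCoh.IsPseudoCoherentD m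
      ((DCoh.Rpush h).obj (DCoh.inD (Spec B) (Coh.structureModule (Spec B)))))
    (M : DerivedCategory (ModuleCat.{u} B)) (m : ℤ) :
    DCoh.IsPseudoCoherentD m ((DCoh.tildeD B).obj M) ↔
      DCoh.IsPseudoCoherentD m ((DCoh.Rpush h).obj ((DCoh.tildeD B).obj M)) := by
  letI := φ.hom.toAlgebra
  have hB : DRing.IsPseudoCoherentModule' A B := isPseudoCoherentModule'_of_Rpush φ h hφ hO
  obtain ⟨e⟩ := nonempty_Rpush_tildeD_iso φ h hφ M
  have h1 := (Groth.Agent.S6940.result hB M m).1
  rw [TP3.isPseudoCoherentD_tildeD_iff B M m]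
  constructor
  · intro hM
    exact isPseudoCoherentD_of_iso e.symm
      ((TP3.isPseudoCoherentD_tildeD_iff A _ m).2 (h1.1 hM))
  · intro hM
    exact h1.2 ((TP3.isPseudoCoherentD_tildeD_iff A _ m).1 (isPseudoCoherentD_of_iso e hM))

end Groth.Agent.Helper9.FP3
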