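import Mathlib
import Groth.Prelude.Def_CxOX
import Groth.Agent.Helper9.FP1
import Groth.Agent.Helper9.FP2
import Groth.Agent.Helper9.FP3
import Groth.Agent.Helper9.QcLpull1
import Groth.Agent.Helper4.QcohLimits
import Groth.Agent.Helper4.FinLocFree4
import Groth.Agent.Helper4.FinLocFree6

/-! Finite pushforward and pseudo-coherence: the global statement. -/

set_option autoImplicit false
set_option linter.style.haveILetI false
set_option linter.unusedVariables false
set_option linter.unusedSectionVars false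
universe u

namespace Groth.Agent.Helper9.FP4

open CategoryTheory CategoryTheory.Limits AlgebraicGeometry Opposite TopologicalSpace
  DerivedCategory
open Groth.Agent.Lead.PcLib

attribute [local instance] HasDerivedCategory.standard

section Single

variable {X Y : Scheme.{u}}

/-- for `f` affine and `G` quasi-coherent, `Rf_* G = f_* G` -/
theorem nonempty_inD_push_iso (f : X ⟶ Y) [IsAffineHom f] [DCoh.HasRpush f] (G : X.Modules)
    (hG : Coh.IsQCoh G) :
    Nonempty (DCoh.inD Y ((Scheme.Modules.pushforward f).obj G) ≅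
      (DCoh.Rpush f).obj (DCoh.inD X G)) := by
  haveI := Groth.Agent.Helper4.SchAdj.isGrothendieckAbelian_modules X
  let F : CochainComplex X.Modules ℤ :=
    (HomologicalComplex.single X.Modules (ComplexShape.up ℤ) 0).obj G
  have hq : ∀ n, Coh.IsQCoh (F.X n) := by
    intro n
    by_cases hn : n = 0
    · subst hn
      exact Groth.Agent.Helper4.QcohLimits.isQuasicoherent_of_iso
        (HomologicalComplex.singleObjXSelf (ComplexShape.up ℤ) 0 G).symm (hF := hG)
    · exact Groth.Agent.Helper4.RpushQc.isQuasicoherent_of_isZero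
        (HomologicalComplex.isZero_single_obj_X (ComplexShape.up ℤ) 0 G n hn)
  have hiso : IsIso ((TilPush2.βQnat f).app F) :=
    Leray4.isIso_βQ f F hq (fun n => Leray5.acy_of_isAffineHom f _ (hq n))
  exact ⟨Q.mapIso ((HomologicalComplex.singleMapHomologicalComplex
      (Scheme.Modules.pushforward f) (ComplexShape.up ℤ) 0).app G).symm ≪≫
    @asIso _ _ _ _ ((TilPush2.βQnat f).app F) hiso⟩

/-- restriction of the structure sheaf -/
noncomputable def restrictDInDUnitIso {Z : Scheme.{u}} (j : Z ⟶ X) [IsOpenImmersion j] :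
    (DCoh.restrictD j).obj (DCoh.inD X (Coh.structureModule X)) ≅
      DCoh.inD Z (Coh.structureModule Z) :=
  ((Scheme.Modules.restrictFunctor j).mapDerivedCategorySingleFunctor 0).app
      (Coh.structureModule X) ≪≫
    (singleFunctor Z.Modules 0).mapIso (Scheme.Modules.restrictUnitIso j)

end Single

section Local

variable {X Y : Scheme.{u}} (f : X ⟶ Y) [IsFinite f] [DCoh.HasRpush f]

/-- the claim on an affine open `V` of `Y` -/
theorem local_iff
    (hO : ∀ m : ℤ, DCoh.IsPseudoCoherentD m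
      (DCoh.inD Y ((Scheme.Modules.pushforward f).obj (Coh.structureModule X))))
    (E : DCoh.D X) (hE : DCoh.IsQCohD E) (m : ℤ) (V : Y.Opens) (hV : IsAffineOpen V) :
    DCoh.IsPseudoCoherentD m ((DCoh.restrictD (hV.preimage f).fromSpec).obj E) ↔
      DCoh.IsPseudoCoherentD m ((DCoh.restrictD hV.fromSpec).obj ((DCoh.Rpush f).obj E)) := by
  have hU : IsAffineOpen (f ⁻¹ᵁ V) := hV.preimage f
  let A : CommRingCat.{u} := Γ(Y, V)
  let B : CommRingCat.{u} := Γ(X, f ⁻¹ᵁ V)
  let ψV : Spec A ≅ (V : Scheme.{u}) := hV.isoSpec.symm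
  let ψU : Spec B ≅ ((f ⁻¹ᵁ V : X.Opens) : Scheme.{u}) := hU.isoSpec.symm
  let h : Spec B ⟶ Spec A := ψU.hom ≫ (f ∣_ V) ≫ ψV.inv
  haveI : DCoh.HasRpush h := Groth.Agent.Helper4.HasRD.hasRpush _
  obtain ⟨φ, hφ⟩ := Spec.map_surjective h
  haveI : PreservesFiniteLimits (tilde.functor A) :=
    Groth.Agent.Helper4.TildeExact.preservesFiniteLimits_tilde _
  haveI : PreservesFiniteLimits (tilde.functor B) :=
    Groth.Agent.Helper4.TildeExact.preservesFiniteLimits_tilde _
  -- the hypothesis on `O`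
  have hO' : ∀ m : ℤ, DCoh.IsPseudoCoherentD m
      ((DCoh.Rpush h).obj (DCoh.inD (Spec B) (Coh.structureModule (Spec B)))) := by
    intro m'
    have hqO : (Coh.structureModule X).IsQuasicoherent :=
      Groth.Agent.Helper4.FinLocFree4.isQuasicoherent_of_isFinLocFree _
        (Groth.Agent.Helper4.FinLocFree6.isFinLocFree_unit (X := X))
    obtain ⟨e1⟩ := nonempty_inD_push_iso f (Coh.structureModule X) hqO
    obtain ⟨e2⟩ := FP2.nonempty_bc_iso f V ψV ψU (DCoh.inD X (Coh.structureModule X))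
    have h1 := isPseudoCoherentD_of_iso e1 (hO m')
    have h2 := Groth.Agent.Helper9.TT6.isPseudoCoherentD_restrictD (ψV.hom ≫ V.ι) m' _ h1
    exact isPseudoCoherentD_of_iso
      (e2 ≪≫ (DCoh.Rpush h).mapIso (restrictDInDUnitIso (ψU.hom ≫ (f ⁻¹ᵁ V).ι))) h2
  -- `E` restricted to `U` comes from a complex of modules
  have hEU : DCoh.IsQCohD ((DCoh.restrictD (ψU.hom ≫ (f ⁻¹ᵁ V).ι)).obj E) :=
    QP7.isQCohD_restrictD _ E hE
  obtain ⟨M, ⟨eM⟩⟩ := QcLpull1.exists_iso_tildeD B _ hEU
  obtain ⟨e2⟩ := FP2.nonempty_bc_iso f V ψV ψU E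
  have key := FP3.isPseudoCoherentD_Rpush_tildeD_iff φ h hφ.symm hO' M m
  show DCoh.IsPseudoCoherentD m ((DCoh.restrictD (ψU.hom ≫ (f ⁻¹ᵁ V).ι)).obj E) ↔
    DCoh.IsPseudoCoherentD m ((DCoh.restrictD (ψV.hom ≫ V.ι)).obj ((DCoh.Rpush f).obj E))
  constructor
  · intro hp
    have h1 := key.1 (isPseudoCoherentD_of_iso eM.symm hp)
    exact isPseudoCoherentD_of_iso ((DCoh.Rpush h).mapIso eM ≪≫ e2.symm) h1
  · intro hp
    have h1 := isPseudoCoherentD_of_iso (e2 ≪≫ (DCoh.Rpush h).mapIso eM.symm) hp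
    exact isPseudoCoherentD_of_iso eM (key.2 h1)

/-- **finite pushforward detects pseudo-coherence** -/
theorem main
    (hO : ∀ m : ℤ, DCoh.IsPseudoCoherentD m
      (DCoh.inD Y ((Scheme.Modules.pushforward f).obj (Coh.structureModule X))))
    (E : DCoh.D X) (hE : DCoh.IsQCohD E) (m : ℤ) :
    DCoh.IsPseudoCoherentD m E ↔ DCoh.IsPseudoCoherentD m ((DCoh.Rpush f).obj E) := by
  constructor
  · intro hp
    refine FP1.isPseudoCoherentD_of_local m _ (fun y => ?_)
    obtain ⟨_, ⟨V, hV, rfl⟩, hyV, -⟩ :=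
      (Y.isBasis_affineOpens).exists_subset_of_mem_open (Set.mem_univ y) isOpen_univ
    refine ⟨_, hV.fromSpec, hV.isOpenImmersion_fromSpec, ?_, ?_⟩
    · rw [hV.range_fromSpec]
      exact hyV
    · haveI := (hV.preimage f).isOpenImmersion_fromSpec
      exact (local_iff f hO E hE m V hV).1
        (Groth.Agent.Helper9.TT6.isPseudoCoherentD_restrictD (hV.preimage f).fromSpec m E hp)
  · intro hp
    refine FP1.isPseudoCoherentD_of_local m _ (fun x => ?_)
    obtain ⟨_, ⟨V, hV, rfl⟩, hyV, -⟩ :=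
      (Y.isBasis_affineOpens).exists_subset_of_mem_open (Set.mem_univ (f x)) isOpen_univ
    refine ⟨_, (hV.preimage f).fromSpec, (hV.preimage f).isOpenImmersion_fromSpec, ?_, ?_⟩
    · rw [(hV.preimage f).range_fromSpec]
      exact hyV
    · haveI := hV.isOpenImmersion_fromSpec
      exact (local_iff f hO E hE m V hV).2
        (Groth.Agent.Helper9.TT6.isPseudoCoherentD_restrictD hV.fromSpec m _ hp)

end Local

end Groth.Agent.Helper9.FP4
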