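import Mathlib
import Groth.Prelude.Def_EtCore
import Groth.Prelude.Def_EtShriek2
import Groth.Prelude.Def_FinFr
import Groth.Agent.Helper9.EtShriekOpen
import Groth.Agent.Helper9.EtShriekExact
import Groth.Agent.Helper9.ExtAdj2
import Groth.Agent.Helper9.HpullComp

/-! `Ext^n(j_! ℤ, F) ≅ H^n(U, j⁻¹F)` for an étale monomorphism `j`, compatibly with pull-backs. -/

set_option autoImplicit false
set_option linter.style.haveILetI false
set_option linter.unusedSectionVars false
universe u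

namespace Groth.Agent.Helper9.EtMV1

open CategoryTheory CategoryTheory.Limits AlgebraicGeometry Opposite Abelian

section One

variable {U X : Scheme.{u}} (j : U ⟶ X) [hj : Etale j] [Mono j]

/-- the adjunction `j_! ⊣ j⁻¹` with `j⁻¹` the inverse image functor -/
noncomputable def adj : EtShriek.extZero j ⊣ EtCoh.pull j :=
  (EtShriek.extZeroAdj j).ofNatIsoRight (Groth.Agent.Helper9.EtShriekOpen.pullIsoRestr j).symm

instance : PreservesFiniteLimits (EtShriek.extZero j) :=
  Groth.Agent.Helper9.EtShriekExact.preservesFiniteLimits_extZero j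

instance : PreservesFiniteColimits (EtShriek.extZero j) :=
  have : PreservesColimitsOfSize.{0, 0} (EtShriek.extZero j) :=
    (adj j).leftAdjoint_preservesColimits
  PreservesColimitsOfSize.preservesFiniteColimits _

theorem preservesFiniteLimits_pull : PreservesFiniteLimits (EtCoh.pull j) :=
  have : PreservesLimitsOfSize.{0, 0} (EtCoh.pull j) := (adj j).rightAdjoint_preservesLimits
  PreservesLimitsOfSize.preservesFiniteLimits _

/-- `j_! ℤ` -/
noncomputable abbrev K : EtCoh.Ab X := (EtShriek.extZero j).obj (EtCoh.const U ℤ)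

/-- the canonical map `j_! ℤ ⟶ ℤ` -/
noncomputable def c : K j ⟶ EtCoh.const X ℤ :=
  ((adj j).homEquiv _ _).symm (EtCore.pullConst j ℤ).inv

lemma unit_c : (adj j).unit.app (EtCoh.const U ℤ) ≫ (EtCoh.pull j).map (c j) =
    (EtCore.pullConst j ℤ).inv := by
  have h := (adj j).homEquiv_unit (f := c j)
  rw [← h]
  exact Equiv.apply_symm_apply _ _

variable [PreservesFiniteLimits (EtCoh.pull j)]

/-- `Ext^n(j_! ℤ, F) ≅ H^n(U, j⁻¹ F)` -/
noncomputable def θ (F : EtCoh.Ab X) (n : ℕ) :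
    Ext (K j) F n ≃+ EtCoh.H U ((EtCoh.pull j).obj F) n :=
  Groth.Agent.Helper9.ExtAdj2.equiv (adj j) (EtCoh.const U ℤ) F n

lemma θ_apply (F : EtCoh.Ab X) (n : ℕ) (e : Ext (K j) F n) :
    θ j F n e = (Ext.mk₀ ((adj j).unit.app (EtCoh.const U ℤ))).comp
      (e.mapExactFunctor (EtCoh.pull j)) (zero_add n) := rfl

theorem θ_c (F : EtCoh.Ab X) (n : ℕ) (x : EtCoh.H X F n) :
    θ j F n ((Ext.mk₀ (c j)).comp x (zero_add n)) = EtCore.Hpull j F n x := by
  rw [θ_apply, Ext.mapExactFunctor_comp, Ext.mapExactFunctor_mk₀,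
    ← Ext.comp_assoc_of_second_deg_zero, Ext.mk₀_comp_mk₀, unit_c]
  rfl

end One

section Two

variable {W U X : Scheme.{u}} (i : W ⟶ U) (jU : U ⟶ X) (jW : W ⟶ X) (w : i ≫ jU = jW)
  [Etale jU] [Mono jU] [Etale jW] [Mono jW]

/-- the transport isomorphism `i⁻¹ jU⁻¹ ≅ jW⁻¹` -/
noncomputable def τ : EtCoh.pull jU ⋙ EtCoh.pull i ≅ EtCoh.pull jW :=
  (EtCore.pullComp i jU).symm ≪≫ EtCore.pullCongr w

/-- the adjunct of `a` -/
noncomputable def m : EtCoh.const W ℤ ⟶ (EtCoh.pull jW).obj (K jU) :=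
  (EtCore.pullConst i ℤ).inv ≫ (EtCoh.pull i).map ((adj jU).unit.app (EtCoh.const U ℤ)) ≫
    (τ i jU jW w).hom.app (K jU)

/-- the map `jW_! ℤ ⟶ jU_! ℤ` -/
noncomputable def a : K jW ⟶ K jU := ((adj jW).homEquiv _ _).symm (m i jU jW w)

lemma unit_a : (adj jW).unit.app (EtCoh.const W ℤ) ≫ (EtCoh.pull jW).map (a i jU jW w) =
    m i jU jW w := by
  have h := (adj jW).homEquiv_unit (f := a i jU jW w)
  rw [← h]
  exact Equiv.apply_symm_apply _ _

theorem τ_const : (EtCore.pullConst i ℤ).inv ≫ (EtCoh.pull i).map (EtCore.pullConst jU ℤ).inv ≫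
    (τ i jU jW w).hom.app (EtCoh.const X ℤ) = (EtCore.pullConst jW ℤ).inv := by
  subst w
  have h := Groth.Agent.Helper9.HpullComp.pullConst_comp_inv i jU ℤ
  rw [← h]
  simp [τ, EtCore.pullCongr]

theorem a_c : a i jU jW w ≫ c jU = c jW := by
  apply ((adj jW).homEquiv _ _).injective
  rw [Adjunction.homEquiv_unit, Adjunction.homEquiv_unit, Functor.map_comp, ← Category.assoc,
    unit_a, unit_c, m, Category.assoc, Category.assoc, ← τ_const i jU jW w]
  congr 1
  rw [← (τ i jU jW w).hom.naturality (c jU)]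
  rw [Functor.comp_map, ← Functor.map_comp_assoc, unit_c]

variable [PreservesFiniteLimits (EtCoh.pull i)] [PreservesFiniteLimits (EtCoh.pull jU)]
  [PreservesFiniteLimits (EtCoh.pull jW)]

theorem θ_a (F : EtCoh.Ab X) (n : ℕ) (y : Ext (K jU) F n) :
    θ jW F n ((Ext.mk₀ (a i jU jW w)).comp y (zero_add n)) =
      EtCore.HpullVia i jU jW w F n (θ jU F n y) := by
  have hnat := Groth.Agent.Helper9.ExtNat.mapExactFunctor_natTrans
    (EtCoh.pull jU ⋙ EtCoh.pull i) (EtCoh.pull jW) (τ i jU jW w).hom n y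
  have hcomp := Groth.Agent.Helper9.ExtNat.mapExactFunctor_comp_functor
    (EtCoh.pull jU) (EtCoh.pull i) n y
  rw [θ_apply, Ext.mapExactFunctor_comp, Ext.mapExactFunctor_mk₀,
    ← Ext.comp_assoc_of_second_deg_zero, Ext.mk₀_comp_mk₀, unit_a]
  show _ = Sheaf.H.map ((τ i jU jW w).hom.app F) n (EtCore.Hpull i _ n (θ jU F n y))
  rw [θ_apply]
  simp only [EtCore.Hpull, AddMonoidHom.coe_comp, AddMonoidHom.mk'_apply, Function.comp_apply,
    Functor.mapExtAddHom_apply, Sheaf.H.map_apply, Ext.mapExactFunctor_comp,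
    Ext.mapExactFunctor_mk₀]
  rw [hcomp, Ext.comp_assoc_of_third_deg_zero, Ext.comp_assoc_of_third_deg_zero]
  erw [hnat]
  rw [← Ext.comp_assoc_of_second_deg_zero, ← Ext.comp_assoc_of_second_deg_zero,
    Ext.mk₀_comp_mk₀, Ext.mk₀_comp_mk₀, Category.assoc]
  rfl

end Two

end Groth.Agent.Helper9.EtMV1
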