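import Mathlib

/-! A Mayer–Vietoris type short complex `K_W → A ⊕ B → Z` splits when enough of the maps are
isomorphisms. -/

set_option autoImplicit false
set_option linter.style.haveILetI false
set_option linter.unusedSectionVars false
universe v u

namespace Groth.Agent.Helper9.SplitLemma

open CategoryTheory CategoryTheory.Limits

variable {𝒞 : Type u} [Category.{v} 𝒞] [Abelian 𝒞] {A B P Kw Z : 𝒞}
  (inl : A ⟶ P) (inr : B ⟶ P) (fst : P ⟶ A) (snd : P ⟶ B)
  (h1 : inl ≫ fst = 𝟙 A) (h2 : inl ≫ snd = 0) (h3 : inr ≫ fst = 0) (h4 : inr ≫ snd = 𝟙 B)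
  (h5 : fst ≫ inl + snd ≫ inr = 𝟙 P)
  (aU : Kw ⟶ A) (aV : Kw ⟶ B) (cU : A ⟶ Z) (cV : B ⟶ Z) (hc : aU ≫ cU = aV ≫ cV)
  (f : Kw ⟶ P) (g : P ⟶ Z) (hf : f = aU ≫ inl - aV ≫ inr) (hg : g = fst ≫ cU + snd ≫ cV)
  (zero : f ≫ g = 0)

include h1 h2 h3 h4 h5 hc hf hg

theorem shortExact₁ [IsIso cU] [IsIso aV] : (ShortComplex.mk f g zero).ShortExact := by
  have key : inv aV ≫ aU = cV ≫ inv cU := by
    rw [IsIso.inv_comp_eq, ← Category.assoc, IsIso.eq_comp_inv, hc]
  subst hf hg
  refine ShortComplex.Splitting.shortExact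
    { r := -(snd ≫ inv aV)
      s := inv cU ≫ inl
      f_r := ?_
      s_g := ?_
      id := ?_ }
  · dsimp
    rw [Preadditive.comp_neg, Preadditive.sub_comp, Category.assoc, Category.assoc,
      reassoc_of% h2, reassoc_of% h4, zero_comp, comp_zero, zero_sub, neg_neg, IsIso.hom_inv_id]
  · dsimp
    rw [Preadditive.comp_add, Category.assoc, Category.assoc, reassoc_of% h1, reassoc_of% h2,
      zero_comp, comp_zero, add_zero, IsIso.inv_hom_id]
  · dsimp
    rw [Preadditive.neg_comp, Preadditive.comp_sub, Preadditive.add_comp, Category.assoc,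
      Category.assoc, Category.assoc, Category.assoc, IsIso.inv_hom_id_assoc, reassoc_of% key,
      IsIso.hom_inv_id_assoc, ← h5]
    abel

theorem shortExact₂ [IsIso cV] [IsIso aU] : (ShortComplex.mk f g zero).ShortExact := by
  have key : inv aU ≫ aV = cU ≫ inv cV := by
    rw [IsIso.inv_comp_eq, ← Category.assoc, IsIso.eq_comp_inv, hc]
  subst hf hg
  refine ShortComplex.Splitting.shortExact
    { r := fst ≫ inv aU
      s := inv cV ≫ inr
      f_r := ?_
      s_g := ?_
      id := ?_ }
  · dsimp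
    rw [Preadditive.sub_comp, Category.assoc, Category.assoc,
      reassoc_of% h1, reassoc_of% h3, zero_comp, comp_zero, sub_zero, IsIso.hom_inv_id]
  · dsimp
    rw [Preadditive.comp_add, Category.assoc, Category.assoc, reassoc_of% h3, reassoc_of% h4,
      zero_comp, comp_zero, zero_add, IsIso.inv_hom_id]
  · dsimp
    rw [Preadditive.comp_sub, Preadditive.add_comp, Category.assoc,
      Category.assoc, Category.assoc, Category.assoc, IsIso.inv_hom_id_assoc, reassoc_of% key,
      IsIso.hom_inv_id_assoc, ← h5]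
    abel

end Groth.Agent.Helper9.SplitLemma
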