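import Mathlib
import Groth.Prelude.Def_EtCore
import Groth.Agent.Helper9.EtMV1
import Groth.Agent.Helper9.SplitLemma
import Groth.Agent.Helper9.EtRecollement
import Groth.Agent.Helper9.EtStalkExact

/-! The Mayer–Vietoris short exact sequence `0 → ℤ_{U∩V} → ℤ_U ⊕ ℤ_V → ℤ_X → 0` of étale sheaves. -/

set_option autoImplicit false
set_option linter.style.haveILetI false
set_option linter.unusedSectionVars false
universe u

namespace Groth.Agent.Helper9.EtMV2

open CategoryTheory CategoryTheory.Limits AlgebraicGeometry Opposite Abelian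
open Groth.Agent.Helper9.EtMV1 Groth.Agent.Helper9.EtStalkExact

section Stalk

variable {U X : Scheme.{u}} (j : U ⟶ X) [hj : Etale j] [Mono j]
variable {Ω : Type u} [Field Ω] [IsSepClosed Ω]

theorem c_eq : c j = (EtShriek.extZero j).map ((EtCore.pullConst j ℤ).inv ≫
    (Groth.Agent.Helper9.EtShriekOpen.pullIsoRestr j).hom.app _) ≫
      (EtShriek.extZeroAdj j).counit.app (EtCoh.const X ℤ) := by
  unfold c adj
  rw [Adjunction.homEquiv_ofNatIsoRight_symm_apply, Adjunction.homEquiv_counit]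
  rfl

theorem isIso_stalk_c (u : Spec (CommRingCat.of Ω) ⟶ U) :
    IsIso ((EtCoh.stalk (u ≫ j)).map (c j)) := by
  rw [c_eq, Functor.map_comp]
  have := Groth.Agent.Helper9.EtRecollement.isIso_stalk_map_counit j (EtCoh.const X ℤ) u
  infer_instance

theorem isZero_stalk_K (ξ : Spec (CommRingCat.of Ω) ⟶ X)
    (hξ : Disjoint (Set.range ξ.base) (Set.range j.base)) :
    IsZero ((EtCoh.stalk ξ).obj (K j)) :=
  Groth.Agent.Helper9.EtShriekStalkZero.isZero_stalk_extZero j ξ _ hξ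

end Stalk

section Pt

variable {X : Scheme.{u}} {Ω : Type u} [Field Ω] (ξ : Spec (CommRingCat.of Ω) ⟶ X)

theorem exists_lift (O : X.Opens) (h : ξ.base default ∈ O) :
    ∃ u : Spec (CommRingCat.of Ω) ⟶ O, u ≫ O.ι = ξ := by
  have hr : Set.range ξ.base ⊆ Set.range O.ι.base := by
    rw [Scheme.Opens.range_ι]
    rintro _ ⟨p, rfl⟩
    rw [Subsingleton.elim p default]
    exact h
  exact ⟨IsOpenImmersion.lift O.ι ξ hr, IsOpenImmersion.lift_fac O.ι ξ hr⟩

theorem disjoint_of_not_mem (O : X.Opens) (h : ξ.base default ∉ O) :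
    Disjoint (Set.range ξ.base) (Set.range O.ι.base) := by
  rw [Set.disjoint_left]
  rintro _ ⟨p, rfl⟩ hcon
  rw [Scheme.Opens.range_ι, Subsingleton.elim p default] at hcon
  exact h hcon

end Pt

section SES

variable {X : Scheme.{u}} (U V : X.Opens)

/-- `ℤ_{U ∩ V} ⟶ ℤ_U` -/
noncomputable def aU : K (U ⊓ V).ι ⟶ K U.ι :=
  a (X.homOfLE (inf_le_left : U ⊓ V ≤ U)) U.ι (U ⊓ V).ι (X.homOfLE_ι inf_le_left)

/-- `ℤ_{U ∩ V} ⟶ ℤ_V` -/
noncomputable def aV : K (U ⊓ V).ι ⟶ K V.ι :=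
  a (X.homOfLE (inf_le_right : U ⊓ V ≤ V)) V.ι (U ⊓ V).ι (X.homOfLE_ι inf_le_right)

theorem aU_c : aU U V ≫ c U.ι = c (U ⊓ V).ι := a_c _ _ _ _

theorem aV_c : aV U V ≫ c V.ι = c (U ⊓ V).ι := a_c _ _ _ _

/-- the Mayer–Vietoris short complex -/
noncomputable def S : ShortComplex (EtCoh.Ab X) :=
  ShortComplex.mk (biprod.lift (aU U V) (-(aV U V))) (biprod.desc (c U.ι) (c V.ι)) (by
    rw [biprod.lift_desc, Preadditive.neg_comp, aU_c, aV_c, add_neg_cancel])

variable {Ω : Type u} [Field Ω] [IsSepClosed Ω] (ξ : Spec (CommRingCat.of Ω) ⟶ X)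

instance : (EtCoh.stalk ξ).Additive := Functor.additive_of_preserves_binary_products _

theorem isIso_of_isZero {𝒞 : Type*} [Category 𝒞] [HasZeroMorphisms 𝒞] {A B : 𝒞} (f : A ⟶ B)
    (hA : IsZero A) (hB : IsZero B) : IsIso f := by
  rw [hA.eq_of_src f (hA.iso hB).hom]
  infer_instance

theorem shortExact_stalk (hUV : U ⊔ V = ⊤) : ((S U V).map (EtCoh.stalk ξ)).ShortExact := by
  let Φ := EtCoh.stalk ξ
  have h1 : Φ.map (biprod.inl : K U.ι ⟶ K U.ι ⊞ K V.ι) ≫ Φ.map biprod.fst = 𝟙 _ := by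
    rw [← Φ.map_comp, biprod.inl_fst, Φ.map_id]
  have h2 : Φ.map (biprod.inl : K U.ι ⟶ K U.ι ⊞ K V.ι) ≫ Φ.map biprod.snd = 0 := by
    rw [← Φ.map_comp, biprod.inl_snd, Φ.map_zero]
  have h3 : Φ.map (biprod.inr : K V.ι ⟶ K U.ι ⊞ K V.ι) ≫ Φ.map biprod.fst = 0 := by
    rw [← Φ.map_comp, biprod.inr_fst, Φ.map_zero]
  have h4 : Φ.map (biprod.inr : K V.ι ⟶ K U.ι ⊞ K V.ι) ≫ Φ.map biprod.snd = 𝟙 _ := by
    rw [← Φ.map_comp, biprod.inr_snd, Φ.map_id]
  have h5 : Φ.map (biprod.fst : K U.ι ⊞ K V.ι ⟶ K U.ι) ≫ Φ.map biprod.inl +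
      Φ.map (biprod.snd : K U.ι ⊞ K V.ι ⟶ K V.ι) ≫ Φ.map biprod.inr = 𝟙 _ := by
    rw [← Φ.map_comp, ← Φ.map_comp, ← Φ.map_add, biprod.total, Φ.map_id]
  have hc : Φ.map (aU U V) ≫ Φ.map (c U.ι) = Φ.map (aV U V) ≫ Φ.map (c V.ι) := by
    rw [← Φ.map_comp, ← Φ.map_comp, aU_c, aV_c]
  have hf : Φ.map (biprod.lift (aU U V) (-(aV U V))) = Φ.map (aU U V) ≫ Φ.map biprod.inl -
      Φ.map (aV U V) ≫ Φ.map biprod.inr := by
    rw [biprod.lift_eq, Φ.map_add, Φ.map_comp, Φ.map_comp, Φ.map_neg, Preadditive.neg_comp,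
      sub_eq_add_neg]
  have hg : Φ.map (biprod.desc (c U.ι) (c V.ι)) = Φ.map biprod.fst ≫ Φ.map (c U.ι) +
      Φ.map biprod.snd ≫ Φ.map (c V.ι) := by
    rw [biprod.desc_eq, Φ.map_add, Φ.map_comp, Φ.map_comp]
  by_cases hxU : ξ.base default ∈ U
  · obtain ⟨u, hu⟩ := exists_lift ξ U hxU
    have icU : IsIso (Φ.map (c U.ι)) := by
      have := isIso_stalk_c U.ι u
      rw [hu] at this
      exact this
    have iaV : IsIso (Φ.map (aV U V)) := by
      by_cases hxV : ξ.base default ∈ V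
      · obtain ⟨v, hv⟩ := exists_lift ξ V hxV
        obtain ⟨w, hw⟩ := exists_lift ξ (U ⊓ V) ⟨hxU, hxV⟩
        have icV : IsIso (Φ.map (c V.ι)) := by
          have := isIso_stalk_c V.ι v
          rw [hv] at this
          exact this
        have icW : IsIso (Φ.map (c (U ⊓ V).ι)) := by
          have := isIso_stalk_c (U ⊓ V).ι w
          rw [hw] at this
          exact this
        have hcomp : IsIso (Φ.map (aV U V) ≫ Φ.map (c V.ι)) := by
          rw [← Φ.map_comp, aV_c]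
          exact icW
        exact IsIso.of_isIso_comp_right (Φ.map (aV U V)) (Φ.map (c V.ι))
      · have hW : ξ.base default ∉ U ⊓ V := fun h => hxV h.2
        exact isIso_of_isZero _ (isZero_stalk_K _ ξ (disjoint_of_not_mem ξ _ hW))
          (isZero_stalk_K _ ξ (disjoint_of_not_mem ξ _ hxV))
    exact Groth.Agent.Helper9.SplitLemma.shortExact₁ _ _ _ _ h1 h2 h3 h4 h5 _ _ _ _ hc _ _ hf hg _
  · have hxV : ξ.base default ∈ V := by
      have : ξ.base default ∈ U ⊔ V := hUV ▸ trivial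
      rcases this with h | h
      · exact absurd h hxU
      · exact h
    obtain ⟨v, hv⟩ := exists_lift ξ V hxV
    have icV : IsIso (Φ.map (c V.ι)) := by
      have := isIso_stalk_c V.ι v
      rw [hv] at this
      exact this
    have hW : ξ.base default ∉ U ⊓ V := fun h => hxU h.1
    have iaU : IsIso (Φ.map (aU U V)) :=
      isIso_of_isZero _ (isZero_stalk_K _ ξ (disjoint_of_not_mem ξ _ hW))
        (isZero_stalk_K _ ξ (disjoint_of_not_mem ξ _ hxU))
    exact Groth.Agent.Helper9.SplitLemma.shortExact₂ _ _ _ _ h1 h2 h3 h4 h5 _ _ _ _ hc _ _ hf hg _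

theorem shortExact (hUV : U ⊔ V = ⊤) : (S U V).ShortExact := by
  have key := fun (Ω : Type u) [Field Ω] [IsSepClosed Ω] (ξ : Spec (CommRingCat.of Ω) ⟶ X) =>
    shortExact_stalk U V ξ hUV
  refine
    { exact := (exact_iff_stalks _).2 (fun Ω _ _ ξ => (key Ω ξ).exact)
      mono_f := (mono_iff_stalks _).2 (fun Ω _ _ ξ =>
        (AddCommGrpCat.mono_iff_injective _).1 (key Ω ξ).mono_f)
      epi_g := (epi_iff_stalks _).2 (fun Ω _ _ ξ =>
        (AddCommGrpCat.epi_iff_surjective _).1 (key Ω ξ).epi_g) }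

end SES

end Groth.Agent.Helper9.EtMV2
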