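import Mathlib
import Groth.Prelude.Def_DTen4
import Groth.Agent.Helper6.DTenG6

set_option autoImplicit false
set_option linter.style.haveILetI false
set_option linter.unusedSectionVars false

/-!
# Dévissage for natural transformations between functors `D(R) ⥤ D(A)`
-/

open CategoryTheory CategoryTheory.Limits DerivedCategory Pretriangulated

universe u

attribute [local instance] HasDerivedCategory.standard

namespace Groth.Agent.Helper9.RHR4

open Groth.Agent.Helper6 Groth.Agent.Helper6.DTenG Groth.Agent.Helper6.DTenX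

variable {R A : Type u} [CommRing R] [CommRing A]

/-- `F` preserves (small) coproducts, in cofan form -/
def PresCoprod (F : Dual.D R ⥤ Dual.D A) : Prop :=
  ∀ {J : Type u} (N : J → Dual.D R) (c : Cofan N), IsColimit c →
    Nonempty (IsColimit (Cofan.mk (F.obj c.pt) (fun j => F.map (c.inj j))))

lemma isIso_app_of_coprod' {F G : Dual.D R ⥤ Dual.D A} (η : F ⟶ G) {J : Type u}
    {N : J → Dual.D R} (c : Cofan N)
    (hF : IsColimit (Cofan.mk (F.obj c.pt) (fun j => F.map (c.inj j))))
    (hG : IsColimit (Cofan.mk (G.obj c.pt) (fun j => G.map (c.inj j))))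
    (h : ∀ j, IsIso (η.app (N j))) : IsIso (η.app c.pt) := by
  have h1 : ∀ j, G.map (c.inj j) ≫
      Cofan.IsColimit.desc hG (fun j => inv (η.app (N j)) ≫ F.map (c.inj j)) =
        inv (η.app (N j)) ≫ F.map (c.inj j) := fun j => Cofan.IsColimit.fac hG _ j
  refine ⟨Cofan.IsColimit.desc hG (fun j => inv (η.app (N j)) ≫ F.map (c.inj j)), ?_, ?_⟩
  · apply Cofan.IsColimit.hom_ext hF
    intro j
    change F.map (c.inj j) ≫ η.app c.pt ≫ _ = F.map (c.inj j) ≫ 𝟙 _
    rw [η.naturality_assoc, h1, IsIso.hom_inv_id_assoc, Category.comp_id]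
  · apply Cofan.IsColimit.hom_ext hG
    intro j
    change G.map (c.inj j) ≫ _ ≫ η.app c.pt = G.map (c.inj j) ≫ 𝟙 _
    rw [reassoc_of% h1, η.naturality, IsIso.inv_hom_id_assoc, Category.comp_id]

variable {F G : Dual.D R ⥤ Dual.D A} [F.PreservesZeroMorphisms] [G.PreservesZeroMorphisms]
  (η : F ⟶ G)

/-- the property used in the dévissage -/
def PP (K : Dual.D R) : Prop := ∀ n : ℤ, IsIso (η.app (K⟦n⟧))

variable {η}

lemma PP.of_iso {K K' : Dual.D R} (e : K ≅ K') (h : PP η K) : PP η K' := fun n =>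
  (NatTrans.isIso_app_iff_of_iso η ((shiftFunctor (Dual.D R) n).mapIso e)).mp (h n)

lemma PP.shift {K : Dual.D R} (h : PP η K) (m : ℤ) : PP η (K⟦m⟧) := fun n =>
  (NatTrans.isIso_app_iff_of_iso η
    ((shiftFunctorAdd' (Dual.D R) m n (m + n) rfl).app K)).mp (h (m + n))

lemma PP.ext (hF : MidExact F) (hG : MidExact G) (T : Triangle (Dual.D R))
    (hT : T ∈ distTriang _) (h1 : PP η T.obj₁) (h3 : PP η T.obj₃) : PP η T.obj₂ := fun n => by
  have hT' := Triangle.shift_distinguished T hT n
  exact isIso_app_obj₂ η hF hG _ hT' (h1 n) (h3 n) ((h1.shift n) 1) ((h3.shift n) (-1))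

lemma PP.coprod (hF : PresCoprod F) (hG : PresCoprod G) {J : Type u} (N : J → Dual.D R)
    (c : Cofan N) (hc : IsColimit c) (h : ∀ j, PP η (N j)) : PP η c.pt := fun n => by
  let cn : Cofan (fun j => (N j)⟦n⟧) := Cofan.mk (c.pt⟦n⟧) (fun j => (c.inj j)⟦n⟧')
  have hcn : IsColimit cn := isColimit_map_of_preserves (shiftFunctor (Dual.D R) n) c hc
  obtain ⟨h1⟩ := hF _ cn hcn
  obtain ⟨h2⟩ := hG _ cn hcn
  exact isIso_app_of_coprod' η cn h1 h2 (fun j => h j n)

/-- **Dévissage**: a natural transformation between mid-exact, coproduct preserving functors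
`D(R) ⥤ D(A)` which is an isomorphism on the shifts of `R` is an isomorphism. -/
theorem isIso_app (hF : MidExact F) (hG : MidExact G) (hF' : PresCoprod F) (hG' : PresCoprod G)
    (hgen : ∀ n : ℤ, IsIso (η.app ((DTen.unit R)⟦n⟧))) (K : Dual.D R) : IsIso (η.app K) := by
  have hunit : PP η (DTen.unit R) := hgen
  have hyp : GenHyp (PP η) :=
    ⟨fun e h => h.of_iso e, PP.ext hF hG, fun _ n h => h.shift n, PP.coprod hF' hG', fun i => by
      have e : T R i ≅ (DTen.unit R)⟦-i⟧ :=
        (Groth.Agent.Helper3.DRingLib.singleShiftIso (ModuleCat.of R R) i).symm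
      exact (hunit.shift (-i)).of_iso e.symm⟩
  exact (NatTrans.isIso_app_iff_of_iso η
    ((shiftFunctorZero (Dual.D R) ℤ).app K)).mp (generation hyp K 0)

end Groth.Agent.Helper9.RHR4
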