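import Mathlib
import Groth.Prelude.Def_DDual2
import Groth.Agent.Helper6.DTenG6
import Groth.Agent.Helper9.RHR4

set_option autoImplicit false
set_option linter.style.haveILetI false
set_option linter.unusedSectionVars false

/-!
# Brown representability for `D(B)`, part 1: extension from the generators

For a triangulated, coproduct preserving functor `F : D(B) ⥤ D(A)`, an object `X` of `D(B)`
and a morphism `ε : F X ⟶ W`, the map `(Z ⟶ X) → (F Z ⟶ W)`, `f ↦ F f ≫ ε` is bijective for all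
`Z` as soon as it is for the generators `B[-i]`.
-/

open CategoryTheory CategoryTheory.Limits DerivedCategory Pretriangulated

universe u

attribute [local instance] HasDerivedCategory.standard

namespace Groth.Agent.Helper9.BR1

open Groth.Agent.Helper6 Groth.Agent.Helper6.DTenG Groth.Agent.Helper9.RHR4

variable {B A : Type u} [CommRing B] [CommRing A]
  (F : Dual.D B ⥤ Dual.D A) [F.CommShift ℤ] [F.IsTriangulated]

variable {F} {W : Dual.D A} {X : Dual.D B} (ε : F.obj X ⟶ W)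

/-- the comparison map -/
noncomputable def θ (Z : Dual.D B) (f : Z ⟶ X) : F.obj Z ⟶ W := F.map f ≫ ε

lemma θ_comp {Z Z' : Dual.D B} (a : Z' ⟶ Z) (f : Z ⟶ X) : θ ε Z' (a ≫ f) = F.map a ≫ θ ε Z f := by
  simp [θ]

lemma θ_add (Z : Dual.D B) (f g : Z ⟶ X) : θ ε Z (f + g) = θ ε Z f + θ ε Z g := by
  simp [θ, Functor.map_add]

lemma θ_sub (Z : Dual.D B) (f g : Z ⟶ X) : θ ε Z (f - g) = θ ε Z f - θ ε Z g := by
  simp [θ, Functor.map_sub]

lemma θ_zero (Z : Dual.D B) : θ ε Z (0 : Z ⟶ X) = 0 := by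
  simp [θ]

/-- the property propagated by the dévissage -/
def PB (Z : Dual.D B) : Prop := ∀ n : ℤ, Function.Bijective (θ ε (Z⟦n⟧))

variable {ε}

lemma bijective_of_iso {Z Z' : Dual.D B} (e : Z ≅ Z') (h : Function.Bijective (θ ε Z)) :
    Function.Bijective (θ ε Z') := by
  constructor
  · intro f g hfg
    have : θ ε Z (e.hom ≫ f) = θ ε Z (e.hom ≫ g) := by
      rw [θ_comp, θ_comp, hfg]
    have h2 := h.1 this
    exact (cancel_epi e.hom).mp h2
  · intro s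
    obtain ⟨f, hf⟩ := h.2 (F.map e.hom ≫ s)
    refine ⟨e.inv ≫ f, ?_⟩
    rw [θ_comp, hf, ← F.map_comp_assoc, e.inv_hom_id, F.map_id, Category.id_comp]

lemma PB.of_iso {Z Z' : Dual.D B} (e : Z ≅ Z') (h : PB ε Z) : PB ε Z' := fun n =>
  bijective_of_iso ((shiftFunctor (Dual.D B) n).mapIso e) (h n)

lemma PB.shift {Z : Dual.D B} (h : PB ε Z) (m : ℤ) : PB ε (Z⟦m⟧) := fun n =>
  bijective_of_iso ((shiftFunctorAdd' (Dual.D B) m n (m + n) rfl).app Z) (h (m + n))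

/-- five lemma -/
lemma bijective_obj₂ (T : Triangle (Dual.D B)) (hT : T ∈ distTriang _)
    (h1 : Function.Bijective (θ ε T.obj₁)) (h3 : Function.Bijective (θ ε T.obj₃))
    (h1' : Function.Surjective (θ ε (T.obj₁⟦(1 : ℤ)⟧)))
    (h3' : Function.Injective (θ ε (T.obj₃⟦(-1 : ℤ)⟧))) :
    Function.Bijective (θ ε T.obj₂) := by
  have hFT : F.mapTriangle.obj T ∈ distTriang _ := F.map_distinguished T hT
  constructor
  · -- injectivity
    suffices H : ∀ f : T.obj₂ ⟶ X, θ ε T.obj₂ f = 0 → f = 0 by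
      intro f g hfg
      have := H (f - g) (by rw [θ_sub, hfg, sub_self])
      exact sub_eq_zero.mp this
    intro f hf
    have e1 : T.mor₁ ≫ f = 0 := by
      apply h1.1
      rw [θ_comp, hf, comp_zero, θ_zero]
    obtain ⟨f₃, rfl⟩ := Triangle.yoneda_exact₂ _ hT f e1
    have e2 : F.map T.mor₂ ≫ θ ε T.obj₃ f₃ = 0 := by rw [← θ_comp]; exact hf
    obtain ⟨h', hh'⟩ := Triangle.yoneda_exact₃ _ hFT (θ ε T.obj₃ f₃) e2
    obtain ⟨f₁, hf₁⟩ := h1' ((F.commShiftIso (1 : ℤ)).hom.app T.obj₁ ≫ h')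
    have e3 : θ ε T.obj₃ (T.mor₃ ≫ f₁) = θ ε T.obj₃ f₃ := by
      rw [θ_comp, hf₁, hh']
      exact (Category.assoc _ _ _).symm
    have e4 : T.mor₃ ≫ f₁ = f₃ := h3.1 e3
    rw [← e4, ← Category.assoc, comp_distTriang_mor_zero₂₃ _ hT, zero_comp]
  · -- surjectivity
    intro s
    obtain ⟨f₁, hf₁⟩ := h1.2 (F.map T.mor₁ ≫ s)
    have hTi := inv_rot_of_distTriang _ hT
    obtain ⟨g, hg⟩ : ∃ g : T.obj₃⟦(-1 : ℤ)⟧ ⟶ T.obj₁, g = T.invRotate.mor₁ := ⟨_, rfl⟩
    have hg0 : g ≫ T.mor₁ = 0 := by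
      rw [hg]
      exact comp_distTriang_mor_zero₁₂ _ hTi
    have e1 : g ≫ f₁ = 0 := by
      apply h3'
      rw [θ_comp, hf₁, ← F.map_comp_assoc, hg0, F.map_zero, zero_comp, θ_zero]
    obtain ⟨f₂, hf₂'⟩ : ∃ f₂ : T.obj₂ ⟶ X, f₁ = T.mor₁ ≫ f₂ :=
      Triangle.yoneda_exact₂ _ hTi f₁ (by rw [← hg]; exact e1)
    have e2 : F.map T.mor₁ ≫ (s - θ ε T.obj₂ f₂) = 0 := by
      rw [Preadditive.comp_sub, ← θ_comp, ← hf₂', hf₁, sub_self]
    obtain ⟨s₃, hs₃⟩ := Triangle.yoneda_exact₂ _ hFT (s - θ ε T.obj₂ f₂) e2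
    obtain ⟨f₃, hf₃⟩ := h3.2 s₃
    refine ⟨f₂ + T.mor₂ ≫ f₃, ?_⟩
    rw [θ_add, θ_comp, hf₃]
    have : F.map T.mor₂ ≫ s₃ = s - θ ε T.obj₂ f₂ := hs₃.symm
    rw [this]
    abel

lemma PB.ext (T : Triangle (Dual.D B)) (hT : T ∈ distTriang _) (h1 : PB ε T.obj₁)
    (h3 : PB ε T.obj₃) : PB ε T.obj₂ := fun n => by
  have hT' := Triangle.shift_distinguished T hT n
  exact bijective_obj₂ _ hT' (h1 n) (h3 n) ((h1.shift n) 1).2 ((h3.shift n) (-1)).1

lemma PB.coprod (hF : PresCoprod F) {J : Type u} (N : J → Dual.D B) (c : Cofan N)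
    (hc : IsColimit c) (h : ∀ j, PB ε (N j)) : PB ε c.pt := fun n => by
  let cn : Cofan (fun j => (N j)⟦n⟧) := Cofan.mk (c.pt⟦n⟧) (fun j => (c.inj j)⟦n⟧')
  have hcn : IsColimit cn := isColimit_map_of_preserves (shiftFunctor (Dual.D B) n) c hc
  obtain ⟨hFc⟩ := hF _ cn hcn
  constructor
  · intro f g hfg
    apply Cofan.IsColimit.hom_ext hcn
    intro j
    apply (h j n).1
    change θ ε _ ((c.inj j)⟦n⟧' ≫ f) = θ ε _ ((c.inj j)⟦n⟧' ≫ g)
    rw [θ_comp, θ_comp, hfg]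
  · intro s
    choose f hf using fun j => (h j n).2 (F.map ((c.inj j)⟦n⟧') ≫ s)
    refine ⟨Cofan.IsColimit.desc hcn f, ?_⟩
    apply Cofan.IsColimit.hom_ext hFc
    intro j
    change F.map ((c.inj j)⟦n⟧') ≫ θ ε _ _ = F.map ((c.inj j)⟦n⟧') ≫ s
    rw [← θ_comp]
    have : (c.inj j)⟦n⟧' ≫ Cofan.IsColimit.desc hcn f = f j := Cofan.IsColimit.fac hcn f j
    rw [this, hf]

/-- `B[-i][n] ≅ B[-(i-n)]` -/
noncomputable def TShiftIso' (i n : ℤ) : (T B i)⟦n⟧ ≅ T B (i - n) :=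
  ((singleFunctors (ModuleCat.{u} B)).shiftIso n (i - n) i (by omega)).app (ModuleCat.of B B)

/-- **Extension from generators.** -/
theorem bijective_of_gen (hF : PresCoprod F) (hgen : ∀ i : ℤ, Function.Bijective (θ ε (T B i)))
    (Z : Dual.D B) : Function.Bijective (θ ε Z) := by
  have hyp : GenHyp (PB ε) :=
    { iso := fun e h => h.of_iso e
      ext := fun T hT h1 h3 => PB.ext T hT h1 h3
      shift := fun K n h => h.shift n
      coprod := fun N c hc h => PB.coprod hF N c hc h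
      gen := fun i n => bijective_of_iso (TShiftIso' i n).symm (hgen (i - n)) }
  have := generation hyp Z 0
  exact bijective_of_iso ((shiftFunctorZero (Dual.D B) ℤ).app Z) this

end Groth.Agent.Helper9.BR1
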