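import Mathlib
import Groth.Prelude.Def_DDual2
import Groth.Agent.Helper6.DTenG6
import Groth.Agent.Helper9.BR1

set_option autoImplicit false
set_option linter.style.haveILetI false
set_option linter.unusedSectionVars false

/-!
# Brown representability for `D(B)`, part 2: the tower and its telescope

For a triangulated, coproduct preserving functor `F : D(B) ⥤ D(A)` and `W` in `D(A)` we construct
`X` in `D(B)` and `ε : F X ⟶ W` such that `f ↦ F f ≫ ε` is bijective on the generators `B[-i]`.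
-/

open CategoryTheory CategoryTheory.Limits DerivedCategory Pretriangulated

universe u

attribute [local instance] HasDerivedCategory.standard

namespace Groth.Agent.Helper9.BR2

open Groth.Agent.Helper1 Groth.Agent.Helper6 Groth.Agent.Helper6.DTenG Groth.Agent.Helper9.RHR4
  Groth.Agent.Helper9.BR1

variable {B A : Type u} [CommRing B] [CommRing A]
  (F : Dual.D B ⥤ Dual.D A) [F.CommShift ℤ] [F.IsTriangulated] (hF : PresCoprod F)
  (W : Dual.D A)

/-- an approximation: an object with a map of its image to `W` -/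
structure Stage where
  Y : Dual.D B
  e : F.obj Y ⟶ W

variable {F W}

include hF in
lemma exists_first :
    ∃ s : Stage F W, ∀ (i : ℤ) (t : F.obj (T B i) ⟶ W), ∃ g : T B i ⟶ s.Y, F.map g ≫ s.e = t := by
  let L := Q.objPreimage W
  let eW : Q.obj L ≅ W := Q.objObjPreimageIso W
  choose P hP _ hPiso using fun i : ℤ => SplitIso.exists_kproj_Q (F.obj (T B i))
  let eP : ∀ i, Q.obj (P i) ≅ F.obj (T B i) := fun i => (hPiso i).some
  let J : Type u := Σ i : ℤ, (P i ⟶ L)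
  let N : J → Dual.D B := fun j => T B j.1
  let c : Cofan N := Cofan.mk (∐ N) (Sigma.ι N)
  have hc : IsColimit c := coproductIsCoproduct N
  obtain ⟨hFc⟩ := hF N c hc
  let e₀ : F.obj c.pt ⟶ W :=
    Cofan.IsColimit.desc hFc (fun j => (eP j.1).inv ≫ Q.map j.2 ≫ eW.hom)
  have he₀ : ∀ j : J, F.map (c.inj j) ≫ e₀ = (eP j.1).inv ≫ Q.map j.2 ≫ eW.hom :=
    fun j => Cofan.IsColimit.fac hFc _ j
  refine ⟨⟨c.pt, e₀⟩, ?_⟩
  intro i t
  haveI := hP i
  obtain ⟨g₀, hg₀⟩ := KProjQ.Q_map_surjective (P i) L ((eP i).hom ≫ t ≫ eW.inv)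
  refine ⟨c.inj ⟨i, g₀⟩, ?_⟩
  change F.map (c.inj ⟨i, g₀⟩) ≫ e₀ = t
  rw [he₀]
  change (eP i).inv ≫ Q.map g₀ ≫ eW.hom = t
  rw [hg₀]
  simp only [Category.assoc, Iso.inv_hom_id, Category.comp_id, Iso.inv_hom_id_assoc]

include hF in
lemma exists_next (s : Stage F W) :
    ∃ (s' : Stage F W) (a : s.Y ⟶ s'.Y), F.map a ≫ s'.e = s.e ∧
      ∀ (i : ℤ) (g : T B i ⟶ s.Y), F.map g ≫ s.e = 0 → g ≫ a = 0 := by
  let K := Q.objPreimage s.Y
  let e : Q.obj K ≅ s.Y := Q.objObjPreimageIso s.Y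
  let J : Type u := Σ i : ℤ, {z : K.X i // ∃ hz : K.d i (i + 1) z = 0,
    F.map (Q.map (cycleMap K i z hz) ≫ e.hom) ≫ s.e = 0}
  let N : J → Dual.D B := fun j => T B j.1
  let c : Cofan N := Cofan.mk (∐ N) (Sigma.ι N)
  have hc : IsColimit c := coproductIsCoproduct N
  obtain ⟨hFc⟩ := hF N c hc
  let φ : c.pt ⟶ s.Y :=
    Cofan.IsColimit.desc hc (fun j => Q.map (cycleMap K j.1 j.2.1 j.2.2.choose) ≫ e.hom)
  have hφ : ∀ j, c.inj j ≫ φ = Q.map (cycleMap K j.1 j.2.1 j.2.2.choose) ≫ e.hom :=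
    fun j => Cofan.IsColimit.fac hc _ j
  have hφe : F.map φ ≫ s.e = 0 := by
    apply Cofan.IsColimit.hom_ext hFc
    intro j
    change F.map (c.inj j) ≫ F.map φ ≫ s.e = F.map (c.inj j) ≫ 0
    rw [← F.map_comp_assoc, hφ, comp_zero]
    exact j.2.2.choose_spec
  obtain ⟨Z, a, δ, hT⟩ := distinguished_cocone_triangle φ
  have hFT := F.map_distinguished _ hT
  obtain ⟨e', he'⟩ : ∃ e' : F.obj Z ⟶ W, s.e = F.map a ≫ e' :=
    Triangle.yoneda_exact₂ _ hFT s.e hφe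
  refine ⟨⟨Z, e'⟩, a, he'.symm, ?_⟩
  intro i g hg
  obtain ⟨z, hz, hgz⟩ := exists_cycleMap K i (g ≫ e.inv)
  have hg' : g = Q.map (cycleMap K i z hz) ≫ e.hom := by
    rw [← hgz, Category.assoc, Iso.inv_hom_id, Category.comp_id]
  have hj : F.map (Q.map (cycleMap K i z hz) ≫ e.hom) ≫ s.e = 0 := by
    rw [← hg', hg]
  let j : J := ⟨i, z, hz, hj⟩
  have h1 : g = c.inj j ≫ φ := by rw [hφ]; exact hg'
  have h2 : φ ≫ a = 0 := comp_distTriang_mor_zero₁₂ _ hT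
  rw [h1, Category.assoc, h2, comp_zero]

section tower

noncomputable def next (s : Stage F W) : Stage F W := (exists_next hF s).choose

noncomputable def nextMap (s : Stage F W) : s.Y ⟶ (next hF s).Y :=
  (exists_next hF s).choose_spec.choose

lemma nextMap_e (s : Stage F W) : F.map (nextMap hF s) ≫ (next hF s).e = s.e :=
  (exists_next hF s).choose_spec.choose_spec.1

lemma nextMap_kill (s : Stage F W) (i : ℤ) (g : T B i ⟶ s.Y) (hg : F.map g ≫ s.e = 0) :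
    g ≫ nextMap hF s = 0 :=
  (exists_next hF s).choose_spec.choose_spec.2 i g hg

noncomputable def tower : ℕ → Stage F W
  | 0 => (exists_first hF).choose
  | n + 1 => next hF (tower n)

lemma tower_zero_surj (i : ℤ) (t : F.obj (T B i) ⟶ W) :
    ∃ g : T B i ⟶ (tower hF 0).Y, F.map g ≫ (tower hF 0).e = t :=
  (exists_first hF).choose_spec i t

end tower

section telescope

variable (Y : ℕ → Dual.D B) (a : ∀ n, Y n ⟶ Y (n + 1)) (e : ∀ n, F.obj (Y n) ⟶ W)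

variable {Y} {c : Cofan (NU Y)} (hc : IsColimit c)
  (hFc : IsColimit (Cofan.mk (F.obj c.pt) (fun j => F.map (c.inj j))))

/-- the map to `W` -/
noncomputable def ψF : F.obj c.pt ⟶ W := Cofan.IsColimit.desc hFc (fun n => e n.down)

lemma inj'_ψF (n : ℕ) : F.map (inj' c n) ≫ ψF e hFc = e n :=
  Cofan.IsColimit.fac hFc _ ⟨n⟩

include hc in
lemma shiftMap_ψF (hae : ∀ n, F.map (a n) ≫ e (n + 1) = e n) :
    F.map (shiftMap a hc) ≫ ψF e hFc = 0 := by
  apply Cofan.IsColimit.hom_ext hFc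
  intro n
  change F.map (inj' c n.down) ≫ F.map (shiftMap a hc) ≫ ψF e hFc = F.map (inj' c n.down) ≫ 0
  rw [← F.map_comp_assoc, inj'_shiftMap, F.map_sub, Preadditive.sub_comp, F.map_comp,
    Category.assoc, inj'_ψF, inj'_ψF, hae, sub_self, comp_zero]

section good

variable {Z : Dual.D B} (m₂ : c.pt ⟶ Z)

/-- the map `g` can be pushed to a single stage -/
def Good {T' : Dual.D B} (g : T' ⟶ c.pt) : Prop :=
  ∃ (N : ℕ) (g' : T' ⟶ Y N), g ≫ m₂ = g' ≫ inj' c N ≫ m₂ ∧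
    F.map g ≫ ψF e hFc = F.map g' ≫ e N

variable (hm₂ : shiftMap a hc ≫ m₂ = 0) (hae : ∀ n, F.map (a n) ≫ e (n + 1) = e n)

include hm₂ hae in
lemma Good.push {T' : Dual.D B} {g : T' ⟶ c.pt} (N : ℕ) (g' : T' ⟶ Y N)
    (h1 : g ≫ m₂ = g' ≫ inj' c N ≫ m₂) (h2 : F.map g ≫ ψF e hFc = F.map g' ≫ e N)
    (M : ℕ) (hM : N ≤ M) :
    ∃ g'' : T' ⟶ Y M, g ≫ m₂ = g'' ≫ inj' c M ≫ m₂ ∧
      F.map g ≫ ψF e hFc = F.map g'' ≫ e M := by
  induction M, hM using Nat.le_induction with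
  | base => exact ⟨g', h1, h2⟩
  | succ k _ ih =>
    obtain ⟨g'', h1', h2'⟩ := ih
    refine ⟨g'' ≫ a k, ?_, ?_⟩
    · rw [h1', inj'_m₂ a hc m₂ hm₂ k, Category.assoc]
    · rw [h2', F.map_comp, Category.assoc, hae k]

lemma Good.zero {T' : Dual.D B} : Good e hFc m₂ (0 : T' ⟶ c.pt) :=
  ⟨0, 0, by simp, by simp⟩

lemma Good.inj {T' : Dual.D B} (n : ℕ) (g : T' ⟶ Y n) : Good e hFc m₂ (g ≫ inj' c n) :=
  ⟨n, g, by rw [Category.assoc], by rw [F.map_comp, Category.assoc, inj'_ψF]⟩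

include hm₂ hae in
lemma Good.add {T' : Dual.D B} {g₁ g₂ : T' ⟶ c.pt} (h₁ : Good e hFc m₂ g₁)
    (h₂ : Good e hFc m₂ g₂) : Good e hFc m₂ (g₁ + g₂) := by
  obtain ⟨N₁, g₁', h11, h12⟩ := h₁
  obtain ⟨N₂, g₂', h21, h22⟩ := h₂
  obtain ⟨g₁'', h11', h12'⟩ :=
    Good.push a e hc hFc m₂ hm₂ hae N₁ g₁' h11 h12 (max N₁ N₂) (le_max_left _ _)
  obtain ⟨g₂'', h21', h22'⟩ :=
    Good.push a e hc hFc m₂ hm₂ hae N₂ g₂' h21 h22 (max N₁ N₂) (le_max_right _ _)
  exact ⟨max N₁ N₂, g₁'' + g₂'', by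
    rw [Preadditive.add_comp, Preadditive.add_comp, h11', h21'], by
    rw [F.map_add, F.map_add, Preadditive.add_comp, Preadditive.add_comp, h12', h22']⟩

include hm₂ hae in
lemma Good.of_finForm {T' : Dual.D B} {g : T' ⟶ c.pt} (hg : FinForm c g) :
    Good e hFc m₂ g := by
  classical
  obtain ⟨S, g', rfl⟩ := hg
  induction S using Finset.induction_on with
  | empty => simpa using Good.zero e hFc m₂
  | insert j S hj ih =>
    rw [Finset.sum_insert hj]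
    exact Good.add a e hc hFc m₂ hm₂ hae (Good.inj e hFc m₂ j.down (g' j)) ih

end good

end telescope

include hF in
/-- **Representing object on generators.** -/
theorem exists_repr : ∃ (X : Dual.D B) (ε : F.obj X ⟶ W),
    ∀ i : ℤ, Function.Bijective (θ ε (T B i)) := by
  let Y : ℕ → Dual.D B := fun n => (tower hF (W := W) n).Y
  let a : ∀ n, Y n ⟶ Y (n + 1) := fun n => nextMap hF (tower hF n)
  let e : ∀ n, F.obj (Y n) ⟶ W := fun n => (tower hF n).e
  have hae : ∀ n, F.map (a n) ≫ e (n + 1) = e n := fun n => nextMap_e hF (tower hF n)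
  have hkill : ∀ (n : ℕ) (i : ℤ) (g : T B i ⟶ Y n), F.map g ≫ e n = 0 → g ≫ a n = 0 :=
    fun n i g hg => nextMap_kill hF (tower hF n) i g hg
  let c : Cofan (NU Y) := Cofan.mk (∐ (NU Y)) (Sigma.ι (NU Y))
  have hc : IsColimit c := coproductIsCoproduct (NU Y)
  obtain ⟨hFc⟩ := hF (NU Y) c hc
  obtain ⟨Z, m₂, δ, hT⟩ := distinguished_cocone_triangle (shiftMap a hc)
  have hm₂ : shiftMap a hc ≫ m₂ = 0 := comp_distTriang_mor_zero₁₂ _ hT
  have hFT := F.map_distinguished _ hT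
  obtain ⟨ε, hε⟩ : ∃ ε : F.obj Z ⟶ W, ψF e hFc = F.map m₂ ≫ ε :=
    Triangle.yoneda_exact₂ _ hFT (ψF e hFc) (shiftMap_ψF a e hc hFc hae)
  refine ⟨Z, ε, fun i => ⟨?_, ?_⟩⟩
  · -- injectivity
    suffices H : ∀ g : T B i ⟶ Z, θ ε (T B i) g = 0 → g = 0 by
      intro g₁ g₂ hg
      have := H (g₁ - g₂) (by rw [θ_sub, hg, sub_self])
      exact sub_eq_zero.mp this
    intro g hg0
    have h1 : g ≫ δ = 0 := by
      let u : (T B (i + 1))⟦(1 : ℤ)⟧ ⟶ c.pt⟦(1 : ℤ)⟧ := (TShiftIso i).hom ≫ g ≫ δ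
      let v : T B (i + 1) ⟶ c.pt := (shiftFunctor (Dual.D B) (1 : ℤ)).preimage u
      have hv : v⟦(1 : ℤ)⟧' = u := (shiftFunctor (Dual.D B) (1 : ℤ)).map_preimage u
      have hvs : v ≫ shiftMap a hc = 0 := by
        apply (shiftFunctor (Dual.D B) (1 : ℤ)).map_injective
        rw [Functor.map_comp, hv, Functor.map_zero]
        change ((TShiftIso i).hom ≫ g ≫ δ) ≫ (shiftMap a hc)⟦(1 : ℤ)⟧' = 0
        have : δ ≫ (shiftMap a hc)⟦(1 : ℤ)⟧' = 0 := comp_distTriang_mor_zero₃₁ _ hT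
        rw [Category.assoc, Category.assoc, this, comp_zero, comp_zero]
      have hv0 : v = 0 :=
        eq_zero_of_comp_shiftMap a hc v (compact_Sg (i + 1) _ c hc v) hvs
      have hu0 : u = 0 := by rw [← hv, hv0, Functor.map_zero]
      have : (TShiftIso i).hom ≫ g ≫ δ = 0 := hu0
      rwa [← cancel_epi (TShiftIso i).hom, comp_zero]
    obtain ⟨k, hk⟩ : ∃ k : T B i ⟶ c.pt, g = k ≫ m₂ := Triangle.coyoneda_exact₃ _ hT g h1
    obtain ⟨N, k', hk1, hk2⟩ :=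
      Good.of_finForm a e hc hFc m₂ hm₂ hae (compact_Sg i _ c hc k)
    have hk3 : F.map k' ≫ e N = 0 := by
      rw [← hk2, hε, ← F.map_comp_assoc, ← hk]
      exact hg0
    have hk4 : k' ≫ a N = 0 := hkill N i k' hk3
    rw [hk, hk1, inj'_m₂ a hc m₂ hm₂ N, reassoc_of% hk4, zero_comp]
  · -- surjectivity
    intro t
    obtain ⟨g', hg'⟩ := tower_zero_surj hF i t
    refine ⟨g' ≫ inj' c 0 ≫ m₂, ?_⟩
    change F.map (g' ≫ inj' c 0 ≫ m₂) ≫ ε = t
    rw [F.map_comp, F.map_comp, Category.assoc, Category.assoc, ← hε, inj'_ψF]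
    exact hg'

end Groth.Agent.Helper9.BR2
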