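import Mathlib
import Groth.Prelude.Def_DTen4
import Groth.Agent.Helper9.RHR4

set_option autoImplicit false
set_option linter.style.haveILetI false
set_option linter.unusedSectionVars false

/-!
# Right adjoints of restriction: mid-exactness and coproducts
-/

open CategoryTheory CategoryTheory.Limits DerivedCategory Pretriangulated

universe u

attribute [local instance] HasDerivedCategory.standard

namespace Groth.Agent.Helper9.RHR5

open Groth.Agent.Helper6 Groth.Agent.Helper6.DTenG Groth.Agent.Helper6.DTenX
open Groth.Agent.Helper9.RHR4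

variable {R A : Type u} [CommRing R] [CommRing A]

lemma midExact_id : MidExact (𝟭 (Dual.D R)) := by
  intro T hT W g hg
  obtain ⟨h, hh⟩ := Triangle.coyoneda_exact₂ T hT g hg
  exact ⟨h, hh.symm⟩

/-- a right adjoint of an additive functor is mid-exact -/
theorem midExact_rightAdjoint {L : Dual.D A ⥤ Dual.D R} {G : Dual.D R ⥤ Dual.D A} (adj : L ⊣ G)
    [L.PreservesZeroMorphisms] : MidExact G :=
  (midExact_id.comp_rightAdjoint adj).of_natIso G.leftUnitor.symm

/-- a right adjoint whose left adjoint sends the generators to compact objects preserves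
coproducts -/
theorem presCoprod_rightAdjoint {L : Dual.D A ⥤ Dual.D R} {G : Dual.D R ⥤ Dual.D A} (adj : L ⊣ G)
    [L.Additive] (hL : ∀ i, Compact (L.obj (T A i))) : PresCoprod G := by
  intro J N c hc
  haveI : G.Additive := adj.right_adjoint_additive
  let c' : Cofan (fun j => G.obj (N j)) := Cofan.mk (∐ fun j => G.obj (N j)) (Sigma.ι _)
  have hc' : IsColimit c' := coproductIsCoproduct _
  let σ : c'.pt ⟶ G.obj c.pt := Cofan.IsColimit.desc hc' (fun j => G.map (c.inj j))
  have hσ : ∀ j, c'.inj j ≫ σ = G.map (c.inj j) := fun j => Cofan.IsColimit.fac hc' _ j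
  have hπ : ∀ j, σ ≫ G.map (πJ hc j) = πJ hc' j := by
    intro j
    apply Cofan.IsColimit.hom_ext hc'
    intro j'
    rw [reassoc_of% hσ, ← G.map_comp]
    by_cases hj : j' = j
    · subst hj
      rw [inj_πJ_self, inj_πJ_self, CategoryTheory.Functor.map_id]
    · rw [inj_πJ_ne hc _ _ hj, inj_πJ_ne hc' _ _ hj, Functor.map_zero]
  haveI : IsIso σ := by
    apply isIso_of_bijective
    intro i
    constructor
    · intro g₁ g₂ hg
      have h0 : (g₁ - g₂) ≫ σ = 0 := by
        rw [Preadditive.sub_comp]; exact sub_eq_zero.mpr hg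
      have : g₁ - g₂ = 0 := by
        apply FinForm.eq_zero hc' (compact_Sg i _ c' hc' _)
        intro j
        rw [← hπ j, reassoc_of% h0, zero_comp]
      exact sub_eq_zero.mp this
    · intro h
      obtain ⟨S, g, hg⟩ := hL i N c hc ((adj.homEquiv _ _).symm h)
      refine ⟨∑ j ∈ S, adj.homEquiv _ _ (g j) ≫ c'.inj j, ?_⟩
      change (∑ j ∈ S, adj.homEquiv _ _ (g j) ≫ c'.inj j) ≫ σ = h
      have hh : h = adj.homEquiv _ _ (∑ j ∈ S, g j ≫ c.inj j) := by
        rw [← hg, Equiv.apply_symm_apply]
      rw [hh, Preadditive.sum_comp]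
      simp only [Adjunction.homEquiv_unit, Functor.map_sum, Preadditive.comp_sum,
        Category.assoc, hσ, Functor.map_comp]
  exact ⟨IsColimit.ofIsoColimit hc' (Cofan.ext (asIso σ) (fun j => hσ j))⟩

section

variable (φ : R →+* A)

/-- restriction sends the generators to compact objects when `A` is perfect over `R` -/
lemma compact_restrict_T (hA : DRing.IsPerfect R ((DRing.restrictD φ).obj (DTen.unit A))) (i : ℤ) :
    Compact ((DRing.restrictD φ).obj (T A i)) := by
  have e : T A i ≅ (DTen.unit A)⟦-i⟧ :=
    (Groth.Agent.Helper3.DRingLib.singleShiftIso (ModuleCat.of A A) i).symm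
  have h0 : Compact ((DRing.restrictD φ).obj (DTen.unit A)) := @compact_of_isPerfect R _ _ hA
  have h1 : Compact (((DRing.restrictD φ).obj (DTen.unit A))⟦-i⟧) := @Compact.shift R _ _ h0 (-i)
  exact @Compact.of_iso R _ _ _
    ((((DRing.restrictD φ).commShiftIso (-i)).app (DTen.unit A)).symm ≪≫
      (DRing.restrictD φ).mapIso e.symm) h1

variable [DTen.HasRHomRel φ]

theorem midExact_RHomRel : MidExact (DTen.RHomRel φ) := midExact_rightAdjoint (DTen.relAdj φ)

theorem presCoprod_RHomRel (hA : DRing.IsPerfect R ((DRing.restrictD φ).obj (DTen.unit A))) :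
    PresCoprod (DTen.RHomRel φ) :=
  presCoprod_rightAdjoint (DTen.relAdj φ) (compact_restrict_T φ hA)

instance : (DTen.RHomRel φ).Additive := (DTen.relAdj φ).right_adjoint_additive

end

end Groth.Agent.Helper9.RHR5
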