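import Mathlib
import Groth.Prelude.Def_DTen4
import Groth.Agent.Helper6.DTenG7
import Groth.Agent.Helper6.LBCAdj
import Groth.Agent.Helper6.LBCPerf
import Groth.Agent.Helper6.HasLBC
import Groth.Agent.Helper9.RHR5
import Groth.Agent.Helper9.BR2

set_option autoImplicit false
set_option linter.style.haveILetI false
set_option linter.unusedSectionVars false

/-!
# Brown representability for `D(B)`, part 3: right adjoints

A triangulated, coproduct preserving functor `D(B) ⥤ D(A)` has a right adjoint.  In particular
restriction of scalars `D(A) ⥤ D(R)` along any ring map has a right adjoint `RHom_R(A, -)`.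
-/

open CategoryTheory CategoryTheory.Limits DerivedCategory Pretriangulated

universe u

attribute [local instance] HasDerivedCategory.standard

namespace Groth.Agent.Helper9.BR3

open Groth.Agent.Helper6 Groth.Agent.Helper6.DTenG Groth.Agent.Helper9.RHR4
  Groth.Agent.Helper9.BR1 Groth.Agent.Helper9.BR2

variable {B A : Type u} [CommRing B] [CommRing A]
  (F : Dual.D B ⥤ Dual.D A) [F.CommShift ℤ] [F.IsTriangulated] (hF : PresCoprod F)

include hF in
/-- the representing objects -/
theorem exists_repr_all (W : Dual.D A) : ∃ (X : Dual.D B) (ε : F.obj X ⟶ W),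
    ∀ Z : Dual.D B, Function.Bijective (θ ε Z) := by
  obtain ⟨X, ε, h⟩ := exists_repr hF (W := W)
  exact ⟨X, ε, bijective_of_gen hF h⟩

include hF in
/-- **Brown representability**: a triangulated functor `D(B) ⥤ D(A)` preserving coproducts
has a right adjoint. -/
theorem isLeftAdjoint : F.IsLeftAdjoint := by
  choose G ε hε using exists_repr_all F hF
  let e : ∀ (Z : Dual.D B) (W : Dual.D A), (F.obj Z ⟶ W) ≃ (Z ⟶ G W) := fun Z W =>
    (Equiv.ofBijective (θ (ε W) Z) (hε W Z)).symm
  have he : ∀ (Z' Z : Dual.D B) (W : Dual.D A) (f : Z' ⟶ Z) (g : F.obj Z ⟶ W),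
      e Z' W (F.map f ≫ g) = f ≫ e Z W g := by
    intro Z' Z W f g
    apply (e Z' W).symm.injective
    rw [Equiv.symm_apply_apply]
    change F.map f ≫ g = θ (ε W) Z' (f ≫ e Z W g)
    rw [θ_comp]
    congr 1
    exact ((Equiv.ofBijective (θ (ε W) Z) (hε W Z)).apply_symm_apply g).symm
  exact (Adjunction.adjunctionOfEquivRight e he).isLeftAdjoint

section restrict

variable {R S : Type u} [CommRing R] [CommRing S] (φ : R →+* S)

/-- restriction of scalars preserves coproducts -/
theorem presCoprod_restrictD : PresCoprod (DRing.restrictD φ) := by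
  haveI := HasLBC.hasLBaseChange φ
  have adj := LBCAdj.adj φ
  haveI : (DRing.LBaseChange φ).Additive := adj.left_adjoint_additive
  have h : PresCoprod (DRing.restrictD φ) := RHR5.presCoprod_rightAdjoint adj (fun i =>
    compact_of_isPerfect (LBCPerf.isPerfect_LBaseChange φ _ (isPerfect_T i)))
  exact @h

/-- **Existence of `RHom_R(S, -)`**: restriction of scalars along any ring map has a right
adjoint. -/
theorem isLeftAdjoint_restrictD : (DRing.restrictD φ).IsLeftAdjoint :=
  isLeftAdjoint (DRing.restrictD φ) (presCoprod_restrictD φ)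

theorem hasRHomRel : DTen.HasRHomRel φ := ⟨isLeftAdjoint_restrictD φ⟩

end restrict

end Groth.Agent.Helper9.BR3
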