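import Mathlib
import Groth.Prelude.Def_DDual2
import Groth.Agent.Helper6.LBCAdj
import Groth.Agent.Helper6.HasLBC
import Groth.Agent.Helper9.GL0

set_option autoImplicit false
set_option linter.style.haveILetI false
set_option linter.unusedSectionVars false

/-!
# Pseudo-functoriality of restriction of scalars on derived categories and of its adjoints
-/

open CategoryTheory CategoryTheory.Limits DerivedCategory

universe u

attribute [local instance] HasDerivedCategory.standard

namespace Groth.Agent.Helper9.SV1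

open Groth.Agent.Helper6

section general

variable {C : Type*} [Category C] [Abelian C] [HasDerivedCategory C]

/-- the identity functor induces the identity on the derived category -/
noncomputable def mapDCId : (𝟭 C).mapDerivedCategory ≅ 𝟭 (DerivedCategory C) :=
  letI : Localization.Lifting DerivedCategory.Q
      (HomologicalComplex.quasiIso C (ComplexShape.up ℤ))
      ((𝟭 C).mapHomologicalComplex (ComplexShape.up ℤ) ⋙ DerivedCategory.Q)
      (𝟭 (DerivedCategory C)) :=
    ⟨Functor.rightUnitor _ ≪≫ (Functor.leftUnitor _).symm ≪≫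
      Functor.isoWhiskerRight (Functor.mapHomologicalComplexIdIso C (ComplexShape.up ℤ)).symm _⟩
  Localization.liftNatIso DerivedCategory.Q
    (HomologicalComplex.quasiIso C (ComplexShape.up ℤ))
    ((𝟭 C).mapHomologicalComplex (ComplexShape.up ℤ) ⋙ DerivedCategory.Q)
    ((𝟭 C).mapHomologicalComplex (ComplexShape.up ℤ) ⋙ DerivedCategory.Q)
    (𝟭 C).mapDerivedCategory (𝟭 (DerivedCategory C)) (Iso.refl _)

end general

variable {R S T : Type u} [CommRing R] [CommRing S] [CommRing T]

/-- transitivity of restriction of scalars -/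
noncomputable def restrictDComp (φ : R →+* S) (ψ : S →+* T) (χ : R →+* T) (h : χ = ψ.comp φ) :
    DRing.restrictD χ ≅ DRing.restrictD ψ ⋙ DRing.restrictD φ :=
  GL0.mapDCIso (ModuleCat.restrictScalarsComp'.{u} φ ψ χ h) ≪≫ GL0.mapDCComp _ _

/-- restriction along the identity -/
noncomputable def restrictDId (χ : R →+* R) (h : χ = RingHom.id R) :
    DRing.restrictD χ ≅ 𝟭 (Dual.D R) :=
  GL0.mapDCIso (ModuleCat.restrictScalarsId'.{u} χ h) ≪≫ mapDCId

/-- right adjoints of restriction compose -/
theorem rightAdj_comp (φ : R →+* S) (ψ : S →+* T) (χ : R →+* T) (h : χ = ψ.comp φ)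
    {Gφ : Dual.D R ⥤ Dual.D S} (aφ : DRing.restrictD φ ⊣ Gφ)
    {Gψ : Dual.D S ⥤ Dual.D T} (aψ : DRing.restrictD ψ ⊣ Gψ)
    {G : Dual.D R ⥤ Dual.D T} (a : DRing.restrictD χ ⊣ G) : Nonempty (G ≅ Gφ ⋙ Gψ) :=
  ⟨Adjunction.rightAdjointUniq a
    ((Adjunction.comp aψ aφ).ofNatIsoLeft (restrictDComp φ ψ χ h).symm)⟩

/-- derived base change is transitive -/
theorem lbc_comp (φ : R →+* S) (ψ : S →+* T) (χ : R →+* T) (h : χ = ψ.comp φ)
    [DRing.HasLBaseChange φ] [DRing.HasLBaseChange ψ] [DRing.HasLBaseChange χ] :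
    Nonempty (DRing.LBaseChange χ ≅ DRing.LBaseChange φ ⋙ DRing.LBaseChange ψ) :=
  ⟨Adjunction.leftAdjointUniq (LBCAdj.adj χ)
    ((Adjunction.comp (LBCAdj.adj φ) (LBCAdj.adj ψ)).ofNatIsoRight (restrictDComp φ ψ χ h).symm)⟩

/-- derived base change along the identity -/
theorem lbc_id (χ : R →+* R) (h : χ = RingHom.id R) [DRing.HasLBaseChange χ] :
    Nonempty (DRing.LBaseChange χ ≅ 𝟭 (Dual.D R)) :=
  ⟨Adjunction.leftAdjointUniq (LBCAdj.adj χ)
    ((Adjunction.id (C := Dual.D R)).ofNatIsoRight (restrictDId χ h).symm)⟩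

/-- restriction along a ring isomorphism is an equivalence -/
noncomputable def restrictDEquiv (e : S ≃+* T) : Dual.D T ≌ Dual.D S :=
  CategoryTheory.Equivalence.mk (DRing.restrictD e.toRingHom) (DRing.restrictD e.symm.toRingHom)
    ((restrictDId (e.toRingHom.comp e.symm.toRingHom) (by ext; simp)).symm ≪≫
      restrictDComp e.symm.toRingHom e.toRingHom _ rfl)
    ((restrictDComp e.toRingHom e.symm.toRingHom _ rfl).symm ≪≫
      restrictDId (e.symm.toRingHom.comp e.toRingHom) (by ext; simp))

/-- for a ring isomorphism the right adjoint of restriction is derived base change -/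
theorem rightAdj_ringEquiv (e : S ≃+* T) [DRing.HasLBaseChange e.toRingHom]
    {G : Dual.D S ⥤ Dual.D T} (adj : DRing.restrictD e.toRingHom ⊣ G) :
    Nonempty (G ≅ DRing.LBaseChange e.toRingHom) := by
  have a1 : DRing.restrictD e.toRingHom ⊣ DRing.restrictD e.symm.toRingHom :=
    (restrictDEquiv e).toAdjunction
  have a2 : DRing.restrictD e.symm.toRingHom ⊣ DRing.restrictD e.toRingHom :=
    (restrictDEquiv e).symm.toAdjunction
  exact ⟨Adjunction.rightAdjointUniq adj a1 ≪≫
    Adjunction.leftAdjointUniq a2 (LBCAdj.adj e.toRingHom)⟩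

/-- right adjoints of restriction commute with shifts -/
theorem rightAdj_shift {φ : R →+* S} {G : Dual.D R ⥤ Dual.D S} (adj : DRing.restrictD φ ⊣ G)
    (X : Dual.D R) (n : ℤ) : Nonempty (G.obj (X⟦n⟧) ≅ (G.obj X)⟦n⟧) := by
  letI := adj.rightAdjointCommShift ℤ
  exact ⟨(G.commShiftIso n).app X⟩

end Groth.Agent.Helper9.SV1
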