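import Mathlib
import Groth.Prelude.Def_DualSh
import Groth.Agent.Helper9.SV1
import Groth.Agent.Helper9.BR3
import Groth.Agent.Helper6.HasLBC

/-!
# `RHom_{A⊗A}(A, -)` does not see the swap of the two factors
-/

set_option autoImplicit false
set_option linter.style.haveILetI false
set_option linter.unusedSectionVars false

universe u
open CategoryTheory CategoryTheory.Limits DerivedCategory TensorProduct
attribute [local instance] HasDerivedCategory.standard

namespace Groth.Agent.Helper9.RD3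
open Groth.Agent.Helper6

variable (R A : Type u) [CommRing R] [CommRing A] [Algebra R A]

/-- the swap of the two factors of `A ⊗_R A` -/
noncomputable abbrev σ : (A ⊗[R] A) ≃+* (A ⊗[R] A) :=
  (Algebra.TensorProduct.comm R A A).toRingEquiv

lemma σ_comp_includeRight :
    (Algebra.TensorProduct.includeLeftRingHom : A →+* A ⊗[R] A) =
      (σ R A).toRingHom.comp
        (Algebra.TensorProduct.includeRight : A →ₐ[R] A ⊗[R] A).toRingHom := by
  ext a
  change a ⊗ₜ[R] (1 : A) = (Algebra.TensorProduct.comm R A A) ((1 : A) ⊗ₜ[R] a)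
  rw [Algebra.TensorProduct.comm_tmul]

lemma lmul_comp_σ :
    (Algebra.TensorProduct.lmul' R (S := A)).toRingHom =
      (Algebra.TensorProduct.lmul' R (S := A)).toRingHom.comp (σ R A).toRingHom := by
  have h : (Algebra.TensorProduct.lmul' R (S := A)) =
      (Algebra.TensorProduct.lmul' R (S := A)).comp
        (Algebra.TensorProduct.comm R A A).toAlgHom := by
    apply Algebra.TensorProduct.ext'
    intro a b
    simp [mul_comm]
  refine RingHom.ext (fun x => ?_)
  exact congrArg (fun f : A ⊗[R] A →ₐ[R] A => f x) h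

variable [DRing.HasLBaseChange (Algebra.TensorProduct.includeLeftRingHom : A →+* A ⊗[R] A)]
  [DRing.HasLBaseChange (Algebra.TensorProduct.includeRight : A →ₐ[R] A ⊗[R] A).toRingHom]
  (Rμ : Dual.D (A ⊗[R] A) ⥤ Dual.D A)
  (adjμ : DRing.restrictD (Algebra.TensorProduct.lmul' R (S := A)).toRingHom ⊣ Rμ)

include adjμ in
/-- `RHom_{A⊗A}(A, X ⊗_{A,left} (A⊗A)) ≅ RHom_{A⊗A}(A, X ⊗_{A,right} (A⊗A))` -/
theorem swap_iso (X : Dual.D A) :
    Nonempty (Rμ.obj ((DRing.LBaseChange
        (Algebra.TensorProduct.includeLeftRingHom : A →+* A ⊗[R] A)).obj X) ≅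
      Rμ.obj ((DRing.LBaseChange
        (Algebra.TensorProduct.includeRight : A →ₐ[R] A ⊗[R] A).toRingHom).obj X)) := by
  haveI := HasLBC.hasLBaseChange (σ R A).toRingHom
  obtain ⟨c1⟩ := SV1.lbc_comp (Algebra.TensorProduct.includeRight : A →ₐ[R] A ⊗[R] A).toRingHom
    (σ R A).toRingHom (Algebra.TensorProduct.includeLeftRingHom : A →+* A ⊗[R] A)
    (σ_comp_includeRight R A)
  have a1 : DRing.restrictD (σ R A).toRingHom ⊣ DRing.restrictD (σ R A).symm.toRingHom :=
    (SV1.restrictDEquiv (σ R A)).toAdjunction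
  obtain ⟨g⟩ := SV1.rightAdj_ringEquiv (σ R A) a1
  have aσ : DRing.restrictD (σ R A).toRingHom ⊣ DRing.LBaseChange (σ R A).toRingHom :=
    a1.ofNatIsoRight g
  obtain ⟨c2⟩ := SV1.rightAdj_comp (σ R A).toRingHom
    (Algebra.TensorProduct.lmul' R (S := A)).toRingHom
    (Algebra.TensorProduct.lmul' R (S := A)).toRingHom (lmul_comp_σ R A) aσ adjμ adjμ
  exact ⟨Rμ.mapIso (c1.app X) ≪≫ (c2.app _).symm⟩

end Groth.Agent.Helper9.RD3
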