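import Mathlib
import Groth.Prelude.Def_DDual2

set_option autoImplicit false
set_option linter.style.haveILetI false
set_option linter.unusedSectionVars false

/-!
# The comparison `R' ⊗_R Hom(X, K) → Hom(F X, F K)` for a semilinear functor `F : D(R) ⥤ D(R')`

Abstract part: definition, naturality, five lemma in both variables (for `R'` flat over `R`).
-/

open CategoryTheory CategoryTheory.Limits DerivedCategory Pretriangulated

universe u

attribute [local instance] HasDerivedCategory.standard

namespace Groth.Agent.Helper9.FB1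

open TensorProduct

variable {R R' : Type u} [CommRing R] [CommRing R'] [Algebra R R']
variable (F : Dual.D R ⥤ Dual.D R') [F.Additive]

/-- semilinearity of a functor `D(R) ⥤ D(R')` -/
def Semilinear : Prop :=
  ∀ {X Y : Dual.D R} (r : R) (g : X ⟶ Y), F.map (r • g) = algebraMap R R' r • F.map g

variable {F} (hF : Semilinear F)

/-- the comparison map -/
noncomputable def β (X K : Dual.D R) : R' ⊗[R] (X ⟶ K) →+ (F.obj X ⟶ F.obj K) :=
  TensorProduct.liftAddHom
    (AddMonoidHom.mk' (fun r' => AddMonoidHom.mk' (fun g => r' • F.map g)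
        (fun g g' => by rw [F.map_add, smul_add]))
      (fun r' s' => by
        ext g
        change (r' + s') • F.map g = r' • F.map g + s' • F.map g
        rw [add_smul]))
    (fun r r' g => by
      change (r • r') • F.map g = r' • F.map (r • g)
      rw [hF, Algebra.smul_def, mul_comm, mul_smul])

@[simp]
lemma β_tmul (X K : Dual.D R) (r' : R') (g : X ⟶ K) :
    β hF X K (r' ⊗ₜ[R] g) = r' • F.map g := by
  unfold β
  rw [TensorProduct.liftAddHom_tmul]
  rfl

/-- naturality in the first variable -/
lemma β_leftComp {X X' : Dual.D R} (K : Dual.D R) (h : X ⟶ X') (x : R' ⊗[R] (X' ⟶ K)) :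
    β hF X K ((Linear.leftComp R K h).lTensor R' x) = F.map h ≫ β hF X' K x := by
  induction x using TensorProduct.induction_on with
  | zero => simp
  | tmul r' g =>
    rw [LinearMap.lTensor_tmul, β_tmul, β_tmul, Linear.leftComp_apply, F.map_comp,
      Linear.comp_smul]
  | add x y hx hy => rw [map_add, map_add, hx, hy, map_add, Preadditive.comp_add]

/-- naturality in the second variable -/
lemma β_rightComp (X : Dual.D R) {K K' : Dual.D R} (k : K ⟶ K') (x : R' ⊗[R] (X ⟶ K)) :
    β hF X K' ((Linear.rightComp R X k).lTensor R' x) = β hF X K x ≫ F.map k := by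
  induction x using TensorProduct.induction_on with
  | zero => simp
  | tmul r' g =>
    rw [LinearMap.lTensor_tmul, β_tmul, β_tmul, Linear.rightComp_apply, F.map_comp,
      Linear.smul_comp]
  | add x y hx hy => rw [map_add, map_add, hx, hy, map_add, Preadditive.add_comp]

section exact

variable {C : Type*} [Category C] [Preadditive C] [HasZeroObject C] [HasShift C ℤ]
  [∀ n : ℤ, (shiftFunctor C n).Additive] [Pretriangulated C] (S : Type*) [Semiring S]
  [Linear S C]

lemma exact_yoneda (T : Triangle C) (hT : T ∈ distTriang C) (K : C) :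
    Function.Exact (Linear.leftComp S K T.mor₂) (Linear.leftComp S K T.mor₁) := by
  intro g
  constructor
  · intro hg
    obtain ⟨g', rfl⟩ := T.yoneda_exact₂ hT g hg
    exact ⟨g', rfl⟩
  · rintro ⟨g', rfl⟩
    change T.mor₁ ≫ T.mor₂ ≫ g' = 0
    rw [comp_distTriang_mor_zero₁₂_assoc _ hT, zero_comp]

lemma exact_coyoneda (T : Triangle C) (hT : T ∈ distTriang C) (X : C) :
    Function.Exact (Linear.rightComp S X T.mor₁) (Linear.rightComp S X T.mor₂) := by
  intro g
  constructor
  · intro hg
    obtain ⟨g', rfl⟩ := T.coyoneda_exact₂ hT g hg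
    exact ⟨g', rfl⟩
  · rintro ⟨g', rfl⟩
    change (g' ≫ T.mor₁) ≫ T.mor₂ = 0
    rw [Category.assoc, comp_distTriang_mor_zero₁₂ _ hT, comp_zero]

end exact

section five

variable [Module.Flat R R'] [F.CommShift ℤ] [F.IsTriangulated]

include hF in
/-- five lemma in the first variable -/
theorem five_X (T : Triangle (Dual.D R)) (hT : T ∈ distTriang _) (K : Dual.D R)
    (h1 : Function.Surjective (β hF T.rotate.obj₃ K))
    (h2 : Function.Bijective (β hF T.obj₃ K))
    (h4 : Function.Bijective (β hF T.obj₁ K))
    (h5 : Function.Injective (β hF T.invRotate.obj₁ K)) :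
    Function.Bijective (β hF T.obj₂ K) := by
  have hT1 := rot_of_distTriang _ hT
  have hT3 := inv_rot_of_distTriang _ hT
  have e₁ := Module.Flat.lTensor_exact R' (exact_yoneda R T.rotate hT1 K)
  have e₂ := Module.Flat.lTensor_exact R' (exact_yoneda R T hT K)
  have e₃ := Module.Flat.lTensor_exact R' (exact_yoneda R T.invRotate hT3 K)
  have d₁ := exact_yoneda R' (F.mapTriangle.obj T.rotate) (F.map_distinguished _ hT1) (F.obj K)
  have d₂ := exact_yoneda R' (F.mapTriangle.obj T) (F.map_distinguished _ hT) (F.obj K)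
  have d₃ := exact_yoneda R' (F.mapTriangle.obj T.invRotate) (F.map_distinguished _ hT3)
    (F.obj K)
  exact AddMonoidHom.bijective_of_surjective_of_bijective_of_bijective_of_injective
    ((Linear.leftComp R K T.rotate.mor₂).lTensor R').toAddMonoidHom
    ((Linear.leftComp R K T.mor₂).lTensor R').toAddMonoidHom
    ((Linear.leftComp R K T.mor₁).lTensor R').toAddMonoidHom
    ((Linear.leftComp R K T.invRotate.mor₁).lTensor R').toAddMonoidHom
    (Linear.leftComp R' (F.obj K) (F.map T.rotate.mor₂)).toAddMonoidHom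
    (Linear.leftComp R' (F.obj K) (F.map T.mor₂)).toAddMonoidHom
    (Linear.leftComp R' (F.obj K) (F.map T.mor₁)).toAddMonoidHom
    (Linear.leftComp R' (F.obj K) (F.map T.invRotate.mor₁)).toAddMonoidHom
    (β hF T.rotate.obj₃ K) (β hF T.obj₃ K) (β hF T.obj₂ K) (β hF T.obj₁ K)
    (β hF T.invRotate.obj₁ K)
    (by ext x; exact (β_leftComp hF K T.rotate.mor₂ x).symm)
    (by ext x; exact (β_leftComp hF K T.mor₂ x).symm)
    (by ext x; exact (β_leftComp hF K T.mor₁ x).symm)
    (by ext x; exact (β_leftComp hF K T.invRotate.mor₁ x).symm)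
    e₁ e₂ e₃ d₁ d₂ d₃ h1 h2 h4 h5

include hF in
/-- five lemma in the second variable -/
theorem five_K (X : Dual.D R) (T : Triangle (Dual.D R)) (hT : T ∈ distTriang _)
    (h1 : Function.Surjective (β hF X T.invRotate.obj₁))
    (h2 : Function.Bijective (β hF X T.obj₁))
    (h4 : Function.Bijective (β hF X T.obj₃))
    (h5 : Function.Injective (β hF X T.rotate.obj₃)) :
    Function.Bijective (β hF X T.obj₂) := by
  have hT1 := rot_of_distTriang _ hT
  have hT3 := inv_rot_of_distTriang _ hT
  have e₁ := Module.Flat.lTensor_exact R' (exact_coyoneda R T.invRotate hT3 X)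
  have e₂ := Module.Flat.lTensor_exact R' (exact_coyoneda R T hT X)
  have e₃ := Module.Flat.lTensor_exact R' (exact_coyoneda R T.rotate hT1 X)
  have d₁ := exact_coyoneda R' (F.mapTriangle.obj T.invRotate) (F.map_distinguished _ hT3)
    (F.obj X)
  have d₂ := exact_coyoneda R' (F.mapTriangle.obj T) (F.map_distinguished _ hT) (F.obj X)
  have d₃ := exact_coyoneda R' (F.mapTriangle.obj T.rotate) (F.map_distinguished _ hT1)
    (F.obj X)
  exact AddMonoidHom.bijective_of_surjective_of_bijective_of_bijective_of_injective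
    ((Linear.rightComp R X T.invRotate.mor₁).lTensor R').toAddMonoidHom
    ((Linear.rightComp R X T.mor₁).lTensor R').toAddMonoidHom
    ((Linear.rightComp R X T.mor₂).lTensor R').toAddMonoidHom
    ((Linear.rightComp R X T.rotate.mor₂).lTensor R').toAddMonoidHom
    (Linear.rightComp R' (F.obj X) (F.map T.invRotate.mor₁)).toAddMonoidHom
    (Linear.rightComp R' (F.obj X) (F.map T.mor₁)).toAddMonoidHom
    (Linear.rightComp R' (F.obj X) (F.map T.mor₂)).toAddMonoidHom
    (Linear.rightComp R' (F.obj X) (F.map T.rotate.mor₂)).toAddMonoidHom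
    (β hF X T.invRotate.obj₁) (β hF X T.obj₁) (β hF X T.obj₂) (β hF X T.obj₃)
    (β hF X T.rotate.obj₃)
    (by ext x; exact (β_rightComp hF X T.invRotate.mor₁ x).symm)
    (by ext x; exact (β_rightComp hF X T.mor₁ x).symm)
    (by ext x; exact (β_rightComp hF X T.mor₂ x).symm)
    (by ext x; exact (β_rightComp hF X T.rotate.mor₂ x).symm)
    e₁ e₂ e₃ d₁ d₂ d₃ h1 h2 h4 h5

end five

end Groth.Agent.Helper9.FB1
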