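import Mathlib
import Groth.Prelude.Def_DDual2
import Groth.Agent.Helper6.DualSelf
import Groth.Agent.Helper6.DTenH1
import Groth.Agent.Helper6.GorFib1
import Groth.Agent.Helper9.BR1

set_option autoImplicit false
set_option linter.style.haveILetI false
set_option linter.unusedSectionVars false

/-!
# Morphisms between the generators, and the key bijection for a regular quotient `π : Q → P`
-/

open CategoryTheory CategoryTheory.Limits DerivedCategory Pretriangulated

universe u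

attribute [local instance] HasDerivedCategory.standard

namespace Groth.Agent.Helper9.SV5

open Groth.Agent.Helper6 Groth.Agent.Helper6.DTenG

section General

variable {C : Type*} [Category C]

lemma conj_eq {X Y X' Y' : C} (a : X ≅ X') (b : Y ≅ Y') (f : X ⟶ Y) :
    f = a.hom ≫ (a.inv ≫ f ≫ b.hom) ≫ b.inv := by simp

lemma conj_eq' {X Y X' Y' : C} (a : X' ≅ X) (b : Y' ≅ Y) (f : X ⟶ Y) :
    f = a.inv ≫ (a.hom ≫ f ≫ b.inv) ≫ b.hom := by simp

end General

section TFacts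

variable {S : Type u} [CommRing S]

/-- `T S i` is the image of `S` under the single functor -/
noncomputable def TIso (i : ℤ) :
    (singleFunctor (ModuleCat.{u} S) i).obj (ModuleCat.of S S) ≅ T S i :=
  (singleFunctorIsoCompQ (ModuleCat.{u} S) i).app (ModuleCat.of S S)

lemma T_end (i : ℤ) (f : T S i ⟶ T S i) : ∃ s : S, f = s • 𝟙 (T S i) := by
  obtain ⟨g, hg⟩ := (singleFunctor (ModuleCat.{u} S) i).map_surjective
    ((TIso i).hom ≫ f ≫ (TIso i).inv)
  obtain ⟨s, hs⟩ := (DualSelf.smul_id_bijective S).2 g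
  refine ⟨s, ?_⟩
  have hs' : g = s • 𝟙 (ModuleCat.of S S) := hs.symm
  rw [hs', Functor.map_smul, CategoryTheory.Functor.map_id] at hg
  have h2 : f = (TIso i).inv ≫ ((TIso i).hom ≫ f ≫ (TIso i).inv) ≫ (TIso i).hom :=
    conj_eq' (TIso i) (TIso i) f
  rw [h2, ← hg, Linear.smul_comp, Linear.comp_smul, Category.id_comp, Iso.inv_hom_id]

lemma T_smul_eq_zero (i : ℤ) (s : S) (h : s • 𝟙 (T S i) = 0) : s = 0 := by
  have h1 : (singleFunctor (ModuleCat.{u} S) i).map (s • 𝟙 (ModuleCat.of S S)) = 0 := by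
    rw [Functor.map_smul, CategoryTheory.Functor.map_id]
    have h2 : s • 𝟙 ((singleFunctor (ModuleCat.{u} S) i).obj (ModuleCat.of S S)) =
        (TIso i).hom ≫ (s • 𝟙 (T S i)) ≫ (TIso i).inv := by
      rw [Linear.smul_comp, Linear.comp_smul, Category.id_comp, Iso.hom_inv_id]
    rw [h2, h, zero_comp, comp_zero]
  have h3 : s • 𝟙 (ModuleCat.of S S) = 0 :=
    (singleFunctor (ModuleCat.{u} S) i).map_injective (h1.trans (Functor.map_zero _ _ _).symm)
  have h4 : (fun a : S => a • 𝟙 (ModuleCat.of S S)) s = (fun a : S => a • 𝟙 (ModuleCat.of S S)) 0 := by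
    dsimp only
    rw [h3, zero_smul]
  exact (DualSelf.smul_id_bijective S).1 h4

lemma T_hom_eq_zero (i j : ℤ) (h : i ≠ j) (f : T S i ⟶ T S j) : f = 0 :=
  DTenH.hom_T_Q_eq_zero _ i
    (HomologicalComplex.isZero_single_obj_X (ComplexShape.up ℤ) j _ i h) f

/-- variants for objects isomorphic to the generators -/
lemma end_eq_smul {X : Dual.D S} {k : ℤ} (a : X ≅ T S k) (f : X ⟶ X) :
    ∃ s : S, f = s • 𝟙 X := by
  obtain ⟨s, hs⟩ := T_end k (a.inv ≫ f ≫ a.hom)
  refine ⟨s, ?_⟩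
  have h2 : f = a.hom ≫ (a.inv ≫ f ≫ a.hom) ≫ a.inv := conj_eq a a f
  rw [h2, hs, Linear.smul_comp, Linear.comp_smul, Category.id_comp, Iso.hom_inv_id]

lemma smul_id_eq_zero {X : Dual.D S} {k : ℤ} (a : X ≅ T S k) (s : S) (h : s • 𝟙 X = 0) :
    s = 0 := by
  apply T_smul_eq_zero k
  have h2 : s • 𝟙 (T S k) = a.inv ≫ (s • 𝟙 X) ≫ a.hom := by
    rw [Linear.smul_comp, Linear.comp_smul, Category.id_comp, Iso.inv_hom_id]
  rw [h2, h, zero_comp, comp_zero]

lemma hom_eq_zero {X Y : Dual.D S} {k l : ℤ} (a : X ≅ T S k) (b : Y ≅ T S l) (h : k ≠ l)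
    (f : X ⟶ Y) : f = 0 := by
  have h1 := T_hom_eq_zero k l h (a.inv ≫ f ≫ b.hom)
  have h2 : f = a.hom ≫ (a.inv ≫ f ≫ b.hom) ≫ b.inv := conj_eq a b f
  rw [h2, h1, zero_comp, comp_zero]

/-- torsion-freeness of the morphisms between generators -/
lemma hom_torsionFree {X Y : Dual.D S} {k l : ℤ} (a : X ≅ T S k) (b : Y ≅ T S l) (t : S)
    (ht : ∀ q, t * q = 0 → q = 0) (f : X ⟶ Y) (h : t • f = 0) : f = 0 := by
  by_cases hkl : k = l
  · subst hkl
    obtain ⟨s, hs⟩ := end_eq_smul a (f ≫ b.hom ≫ a.inv)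
    have h1 : (t * s) • 𝟙 X = 0 := by
      rw [mul_smul, ← hs, ← Linear.smul_comp, h, zero_comp]
    have h2 := ht s (smul_id_eq_zero a _ h1)
    have h3 : f = (f ≫ b.hom ≫ a.inv) ≫ a.hom ≫ b.inv := by
      rw [Category.assoc, Category.assoc, Iso.inv_hom_id_assoc, Iso.hom_inv_id, Category.comp_id]
    rw [h3, hs, h2, zero_smul, zero_comp]
  · exact hom_eq_zero a b hkl f

end TFacts


section Key

variable {P Q : Type u} [CommRing P] [CommRing Q] (π : Q →+* P)

/-- semilinearity of restriction -/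
lemma res_map_smul {Y Y' : Dual.D P} (q : Q) (g : Y ⟶ Y') :
    (DRing.restrictD π).map (π q • g) = q • (DRing.restrictD π).map g := by
  letI := π.toAlgebra
  exact GorFib.RD_map_smul' (A := Q) (B := P) q g

variable (hπs : Function.Surjective π)
  (t : Q) (hker : RingHom.ker π = Ideal.span {t}) (ht : ∀ q, t * q = 0 → q = 0)

include hker in
lemma π_t : π t = 0 := by
  rw [← RingHom.mem_ker, hker]
  exact Ideal.mem_span_singleton_self t

include hker in
lemma t_smul_res (X : Dual.D P) : t • 𝟙 ((DRing.restrictD π).obj X) = 0 := by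
  have h := res_map_smul π t (𝟙 X)
  rw [π_t π t hker, zero_smul, Functor.map_zero, CategoryTheory.Functor.map_id] at h
  exact h.symm

variable (E : ℤ → Dual.D Q) (a : ∀ i, E i ≅ T Q i)
  (ρ : ∀ i, E i ⟶ (DRing.restrictD π).obj (T P i))
  (δ : ∀ i, (DRing.restrictD π).obj (T P i) ⟶ (E i)⟦(1 : ℤ)⟧)
  (hT : ∀ i, Triangle.mk (t • 𝟙 (E i)) (ρ i) (δ i) ∈ distTriang (Dual.D Q))

/-- `(E i)[1] ≅ T Q (i - 1)` -/
noncomputable def cIso (i : ℤ) : (E i)⟦(1 : ℤ)⟧ ≅ T Q (i - 1) :=
  (shiftFunctor (Dual.D Q) (1 : ℤ)).mapIso (a i) ≪≫ BR1.TShiftIso' i 1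

include ht hT a in
lemma factor (i j : ℤ) (u : (DRing.restrictD π).obj (T P i) ⟶ (E j)⟦(1 : ℤ)⟧) :
    ∃ v : (E i)⟦(1 : ℤ)⟧ ⟶ (E j)⟦(1 : ℤ)⟧, u = δ i ≫ v := by
  have h00 : (t • 𝟙 (E i)) ≫ ρ i = 0 := comp_distTriang_mor_zero₁₂ _ (hT i)
  have h0 : t • (ρ i ≫ u) = 0 := by
    have : t • (ρ i ≫ u) = ((t • 𝟙 (E i)) ≫ ρ i) ≫ u := by
      rw [Linear.smul_comp, Category.id_comp, Linear.smul_comp]
    rw [this, h00, zero_comp]
  have h1 : ρ i ≫ u = 0 := hom_torsionFree (a i) (cIso E a j) t ht _ h0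
  exact Triangle.yoneda_exact₃ _ (hT i) u h1

include hπs hker ht hT a in
/-- **The key bijection** -/
theorem bijective (i j : ℤ) :
    Function.Bijective (fun g : T P i ⟶ T P j => (DRing.restrictD π).map g ≫ δ j) := by
  by_cases hij : i = j
  · subst hij
    constructor
    · intro g g' hgg
      obtain ⟨p, hp⟩ := T_end i (g - g')
      obtain ⟨s, rfl⟩ := hπs p
      have h1 : (DRing.restrictD π).map (g - g') ≫ δ i = 0 := by
        rw [Functor.map_sub, Preadditive.sub_comp, sub_eq_zero]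
        exact hgg
      rw [hp, res_map_smul, CategoryTheory.Functor.map_id, Linear.smul_comp,
        Category.id_comp] at h1
      have h2 : δ i ≫ (s • 𝟙 ((E i)⟦(1 : ℤ)⟧)) = 0 := by
        rw [Linear.comp_smul, Category.comp_id]
        exact h1
      obtain ⟨w, hw⟩ := Triangle.yoneda_exact₃ _ (rot_of_distTriang _ (hT i))
        (s • 𝟙 ((E i)⟦(1 : ℤ)⟧)) h2
      obtain ⟨s', hs'⟩ := end_eq_smul (cIso E a i) w
      have hw' : s • 𝟙 ((E i)⟦(1 : ℤ)⟧) = (-((t • 𝟙 (E i))⟦(1 : ℤ)⟧')) ≫ w := hw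
      have h3 : (s + t * s') • 𝟙 ((E i)⟦(1 : ℤ)⟧) = 0 := by
        rw [add_smul, hw', hs', Functor.map_smul, CategoryTheory.Functor.map_id,
          Preadditive.neg_comp, Linear.smul_comp, Category.id_comp, smul_smul, neg_add_cancel]
      have h4 := smul_id_eq_zero (cIso E a i) _ h3
      have h5 : π s = 0 := by
        have h6 := congrArg π h4
        rw [map_add, map_mul, π_t π t hker, zero_mul, add_zero, map_zero] at h6
        exact h6
      rw [h5, zero_smul] at hp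
      exact sub_eq_zero.mp hp
    · intro u
      obtain ⟨v, hv⟩ := factor π t ht E a ρ δ hT i i u
      obtain ⟨s, hs⟩ := end_eq_smul (cIso E a i) v
      refine ⟨π s • 𝟙 (T P i), ?_⟩
      dsimp only
      rw [res_map_smul, CategoryTheory.Functor.map_id, Linear.smul_comp, Category.id_comp, hv,
        hs, Linear.comp_smul, Category.comp_id]
  · have hs : ∀ g : T P i ⟶ T P j, g = 0 := T_hom_eq_zero i j hij
    have ht' : ∀ u : (DRing.restrictD π).obj (T P i) ⟶ (E j)⟦(1 : ℤ)⟧, u = 0 := by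
      intro u
      obtain ⟨v, hv⟩ := factor π t ht E a ρ δ hT i j u
      rw [hv, hom_eq_zero (cIso E a i) (cIso E a j) (by omega) v, comp_zero]
    exact ⟨fun g g' _ => (hs g).trans (hs g').symm, fun u => ⟨0, (ht' _).trans (ht' u).symm⟩⟩

end Key

end Groth.Agent.Helper9.SV5
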