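import Mathlib
import Groth.Prelude.Def_DDual2
import Groth.Agent.Helper9.FB1
import Groth.Agent.Helper9.SV5
import Groth.Agent.Helper9.RHR4
import Groth.Agent.Helper6.DTenX4

set_option autoImplicit false
set_option linter.style.haveILetI false
set_option linter.unusedSectionVars false

/-!
# `R' ⊗_R Hom(X, K) → Hom(F X, F K)` is bijective for perfect `X` (flat `R'`)
-/

open CategoryTheory CategoryTheory.Limits DerivedCategory Pretriangulated

universe u

attribute [local instance] HasDerivedCategory.standard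

namespace Groth.Agent.Helper9.FB2

open TensorProduct Groth.Agent.Helper9.FB1 Groth.Agent.Helper6 Groth.Agent.Helper6.DTenG

variable {R R' : Type u} [CommRing R] [CommRing R'] [Algebra R R']
variable {F : Dual.D R ⥤ Dual.D R'} [F.Additive] (hF : Semilinear F)

/-! ### closure properties -/

lemma lTensor_leftComp_comp {X Y Z : Dual.D R} (K : Dual.D R) (i : X ⟶ Y) (r : Y ⟶ Z)
    (x : R' ⊗[R] (Z ⟶ K)) :
    (Linear.leftComp R K i).lTensor R' ((Linear.leftComp R K r).lTensor R' x) =
      (Linear.leftComp R K (i ≫ r)).lTensor R' x := by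
  rw [← LinearMap.lTensor_comp_apply]
  congr 2
  ext g
  simp

lemma lTensor_leftComp_id {X : Dual.D R} (K : Dual.D R) (x : R' ⊗[R] (X ⟶ K)) :
    (Linear.leftComp R K (𝟙 X)).lTensor R' x = x := by
  have : Linear.leftComp R K (𝟙 X) = LinearMap.id := by ext g; simp
  rw [this, LinearMap.lTensor_id, LinearMap.id_apply]

lemma lTensor_rightComp_comp (X : Dual.D R) {K L M : Dual.D R} (i : K ⟶ L) (r : L ⟶ M)
    (x : R' ⊗[R] (X ⟶ K)) :
    (Linear.rightComp R X r).lTensor R' ((Linear.rightComp R X i).lTensor R' x) =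
      (Linear.rightComp R X (i ≫ r)).lTensor R' x := by
  rw [← LinearMap.lTensor_comp_apply]
  congr 2
  ext g
  simp

lemma lTensor_rightComp_id (X : Dual.D R) {K : Dual.D R} (x : R' ⊗[R] (X ⟶ K)) :
    (Linear.rightComp R X (𝟙 K)).lTensor R' x = x := by
  have : Linear.rightComp R X (𝟙 K) = LinearMap.id := by ext g; simp
  rw [this, LinearMap.lTensor_id, LinearMap.id_apply]

include hF in
lemma bij_retract_X {X Z : Dual.D R} (K : Dual.D R) (i : X ⟶ Z) (r : Z ⟶ X) (hir : i ≫ r = 𝟙 X)
    (h : Function.Bijective (β hF Z K)) : Function.Bijective (β hF X K) := by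
  constructor
  · intro x y hxy
    have h1 : β hF Z K ((Linear.leftComp R K r).lTensor R' x) =
        β hF Z K ((Linear.leftComp R K r).lTensor R' y) := by
      rw [β_leftComp, β_leftComp, hxy]
    have h2 := congrArg ((Linear.leftComp R K i).lTensor R') (h.1 h1)
    rwa [lTensor_leftComp_comp, lTensor_leftComp_comp, hir, lTensor_leftComp_id,
      lTensor_leftComp_id] at h2
  · intro g'
    obtain ⟨y, hy⟩ := h.2 (F.map r ≫ g')
    refine ⟨(Linear.leftComp R K i).lTensor R' y, ?_⟩
    rw [β_leftComp, hy, ← F.map_comp_assoc, hir, F.map_id, Category.id_comp]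

include hF in
lemma bij_iso_X {X X' : Dual.D R} (K : Dual.D R) (e : X ≅ X')
    (h : Function.Bijective (β hF X K)) : Function.Bijective (β hF X' K) :=
  bij_retract_X hF K e.inv e.hom e.inv_hom_id h

include hF in
lemma bij_retract_K (X : Dual.D R) {K Z : Dual.D R} (i : K ⟶ Z) (r : Z ⟶ K) (hir : i ≫ r = 𝟙 K)
    (h : Function.Bijective (β hF X Z)) : Function.Bijective (β hF X K) := by
  constructor
  · intro x y hxy
    have h1 : β hF X Z ((Linear.rightComp R X i).lTensor R' x) =
        β hF X Z ((Linear.rightComp R X i).lTensor R' y) := by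
      rw [β_rightComp, β_rightComp, hxy]
    have h2 := congrArg ((Linear.rightComp R X r).lTensor R') (h.1 h1)
    rwa [lTensor_rightComp_comp, lTensor_rightComp_comp, hir, lTensor_rightComp_id,
      lTensor_rightComp_id] at h2
  · intro g'
    obtain ⟨y, hy⟩ := h.2 (g' ≫ F.map i)
    refine ⟨(Linear.rightComp R X r).lTensor R' y, ?_⟩
    rw [β_rightComp, hy, Category.assoc, ← F.map_comp, hir, F.map_id, Category.comp_id]

include hF in
lemma bij_iso_K (X : Dual.D R) {K K' : Dual.D R} (e : K ≅ K')
    (h : Function.Bijective (β hF X K)) : Function.Bijective (β hF X K') :=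
  bij_retract_K hF X e.inv e.hom e.inv_hom_id h

include hF in
/-- if both `Hom` groups vanish the comparison is bijective -/
lemma bij_of_hom_zero (X K : Dual.D R) (h1 : ∀ g : X ⟶ K, g = 0)
    (h2 : ∀ g : F.obj X ⟶ F.obj K, g = 0) : Function.Bijective (β hF X K) := by
  have h0 : ∀ x : R' ⊗[R] (X ⟶ K), x = 0 := by
    intro x
    induction x using TensorProduct.induction_on with
    | zero => rfl
    | tmul r' g => rw [h1 g, TensorProduct.tmul_zero]
    | add x y hx hy => rw [hx, hy, add_zero]
  constructor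
  · intro x y _
    rw [h0 x, h0 y]
  · intro g
    exact ⟨0, by rw [map_zero, h2 g]⟩

include hF in
lemma bij_of_isZero_X (X K : Dual.D R) (h : IsZero X) : Function.Bijective (β hF X K) :=
  bij_of_hom_zero hF X K (fun g => h.eq_of_src g 0)
    (fun g => (F.map_isZero h).eq_of_src g 0)

/-! ### coproducts in the second variable -/

section coprod

variable {J : Type u} {N : J → Dual.D R} {c : Cofan N} (hc : IsColimit c)

/-- push forward in the second variable, additively in the morphism -/
noncomputable def pushK (X : Dual.D R) {K K' : Dual.D R} (x : R' ⊗[R] (X ⟶ K)) :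
    (K ⟶ K') →+ R' ⊗[R] (X ⟶ K') where
  toFun h := (Linear.rightComp R X h).lTensor R' x
  map_zero' := by
    have : Linear.rightComp R X (0 : K ⟶ K') = 0 := by ext g; simp
    rw [this, LinearMap.lTensor_zero, LinearMap.zero_apply]
  map_add' h h' := by
    have : Linear.rightComp R X (h + h') = Linear.rightComp R X h + Linear.rightComp R X h' := by
      ext g; simp
    rw [this, LinearMap.lTensor_add, LinearMap.add_apply]

lemma eS_comp_eS (S S' : Finset J) (h : S ⊆ S') : eS hc S ≫ eS hc S' = eS hc S := by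
  unfold eS
  rw [Preadditive.sum_comp]
  refine Finset.sum_congr rfl (fun j hj => ?_)
  rw [Category.assoc]
  congr 1
  exact inj_eS_mem hc S' j (h hj)

lemma exists_eS {X : Dual.D R} (hX : Compact X) (x : R' ⊗[R] (X ⟶ c.pt)) :
    ∃ S : Finset J, ∀ S' : Finset J, S ⊆ S' → pushK X x (eS hc S') = x := by
  classical
  induction x using TensorProduct.induction_on with
  | zero => exact ⟨∅, fun S' _ => by simp [pushK]⟩
  | tmul r' f =>
    obtain ⟨S, g, hg⟩ := hX N c hc f
    refine ⟨S, fun S' hS' => ?_⟩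
    change (Linear.rightComp R X (eS hc S')).lTensor R' (r' ⊗ₜ[R] f) = _
    rw [LinearMap.lTensor_tmul, Linear.rightComp_apply]
    congr 1
    rw [hg, Preadditive.sum_comp]
    refine Finset.sum_congr rfl (fun j hj => ?_)
    rw [Category.assoc, inj_eS_mem hc S' j (hS' hj)]
  | add x y hx hy =>
    obtain ⟨S₁, h₁⟩ := hx
    obtain ⟨S₂, h₂⟩ := hy
    refine ⟨S₁ ∪ S₂, fun S' hS' => ?_⟩
    have e₁ := h₁ S' (Finset.union_subset_left hS')
    have e₂ := h₂ S' (Finset.union_subset_right hS')
    change (Linear.rightComp R X (eS hc S')).lTensor R' (x + y) = _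
    rw [map_add]
    exact congrArg₂ (· + ·) e₁ e₂

include hF hc in
theorem bij_coprod {X : Dual.D R} (hX : Compact X) (hFX : Compact (F.obj X))
    (hcop : RHR4.PresCoprod F) (h : ∀ j, Function.Bijective (β hF X (N j))) :
    Function.Bijective (β hF X c.pt) := by
  classical
  obtain ⟨hc'⟩ := hcop N c hc
  constructor
  · rw [injective_iff_map_eq_zero]
    intro x hx
    obtain ⟨S, hS⟩ := exists_eS hc hX x
    have h1 := hS S (Finset.Subset.refl S)
    rw [← h1]
    unfold eS
    rw [map_sum]
    refine Finset.sum_eq_zero (fun j _ => ?_)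
    change (Linear.rightComp R X (πJ hc j ≫ c.inj j)).lTensor R' x = 0
    rw [← lTensor_rightComp_comp]
    have h2 : (Linear.rightComp R X (πJ hc j)).lTensor R' x = 0 := by
      apply (h j).1
      rw [β_rightComp, hx, zero_comp, map_zero]
    rw [h2, map_zero]
  · intro g'
    obtain ⟨S, g, hg⟩ := hFX (fun j => F.obj (N j)) _ hc' g'
    choose x hx using fun j => (h j).2 (g j)
    refine ⟨∑ j ∈ S, (Linear.rightComp R X (c.inj j)).lTensor R' (x j), ?_⟩
    rw [map_sum, hg]
    refine Finset.sum_congr rfl (fun j _ => ?_)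
    rw [β_rightComp, hx]
    rfl

end coprod

/-! ### the generators -/

section gen

variable (hT : ∀ i : ℤ, Nonempty (F.obj (T R i) ≅ T R' i))

include hF hT in
theorem bij_gen (i j : ℤ) : Function.Bijective (β hF (T R i) (T R j)) := by
  obtain ⟨a⟩ := hT i
  obtain ⟨b⟩ := hT j
  by_cases hij : i = j
  · subst hij
    have key : ∀ x : R' ⊗[R] (T R i ⟶ T R i), ∃ s : R', x = s ⊗ₜ[R] 𝟙 (T R i) := by
      intro x
      induction x using TensorProduct.induction_on with
      | zero => exact ⟨0, (TensorProduct.zero_tmul _ _).symm⟩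
      | tmul r' g =>
        obtain ⟨r, rfl⟩ := SV5.T_end i g
        exact ⟨r • r', by rw [TensorProduct.smul_tmul]⟩
      | add x y hx hy =>
        obtain ⟨s, rfl⟩ := hx
        obtain ⟨t, rfl⟩ := hy
        exact ⟨s + t, (TensorProduct.add_tmul _ _ _).symm⟩
    constructor
    · rw [injective_iff_map_eq_zero]
      intro x hx
      obtain ⟨s, rfl⟩ := key x
      rw [β_tmul, F.map_id] at hx
      rw [SV5.smul_id_eq_zero a s hx, TensorProduct.zero_tmul]
    · intro g'
      obtain ⟨s, hs⟩ := SV5.end_eq_smul a g'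
      exact ⟨s ⊗ₜ[R] 𝟙 (T R i), by rw [β_tmul, F.map_id, hs]⟩
  · exact bij_of_hom_zero hF _ _ (SV5.T_hom_eq_zero i j hij) (SV5.hom_eq_zero a b hij)

end gen

/-! ### generation in the second variable: the case `X = T R i` -/

section baseCase

variable [Module.Flat R R'] [F.CommShift ℤ] [F.IsTriangulated]
  (hT : ∀ i : ℤ, Nonempty (F.obj (T R i) ≅ T R' i)) (hcop : RHR4.PresCoprod F)

/-- the property used in the generation argument -/
def PK (X : Dual.D R) (K : Dual.D R) : Prop := ∀ m : ℤ, Function.Bijective (β hF X (K⟦m⟧))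

include hF in
lemma PK.of_iso {X K L : Dual.D R} (e : K ≅ L) (h : PK hF X K) : PK hF X L := fun m =>
  bij_iso_K hF X ((shiftFunctor (Dual.D R) m).mapIso e) (h m)

include hF in
lemma PK.shift {X K : Dual.D R} (h : PK hF X K) (n : ℤ) : PK hF X (K⟦n⟧) := fun m =>
  bij_iso_K hF X ((shiftFunctorAdd' (Dual.D R) n m (n + m) rfl).app K) (h (n + m))

include hF in
lemma PK.ext {X : Dual.D R} (T : Triangle (Dual.D R)) (hT : T ∈ distTriang _)
    (h1 : PK hF X T.obj₁) (h3 : PK hF X T.obj₃) : PK hF X T.obj₂ := fun m => by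
  have hT' := Triangle.shift_distinguished T hT m
  exact five_K hF X _ hT' ((h3.shift hF m) (-1)).2 (h1 m) (h3 m) ((h1.shift hF m) 1).1

include hF in
lemma PK.coprod {X : Dual.D R} (hX : Compact X) (hFX : Compact (F.obj X))
    (hcop : RHR4.PresCoprod F) {J : Type u} (N : J → Dual.D R)
    (c : Cofan N) (hc : IsColimit c) (h : ∀ j, PK hF X (N j)) : PK hF X c.pt := fun m => by
  let cm : Cofan (fun j => (N j)⟦m⟧) := Cofan.mk (c.pt⟦m⟧) (fun j => (c.inj j)⟦m⟧')
  have hcm : IsColimit cm := isColimit_map_of_preserves (shiftFunctor (Dual.D R) m) c hc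
  exact bij_coprod hF hcm hX hFX hcop (fun j => h j m)

include hF hT hcop in
theorem bij_T (i : ℤ) (K : Dual.D R) : Function.Bijective (β hF (T R i) K) := by
  obtain ⟨a⟩ := hT i
  have hyp : GenHyp (PK hF (T R i)) :=
    { iso := fun e h => h.of_iso hF e
      ext := fun T hT' h1 h3 => PK.ext hF T hT' h1 h3
      shift := fun K n h => h.shift hF n
      coprod := fun N c hc h =>
        PK.coprod hF (compact_Sg i) (Compact.of_iso a.symm (compact_Sg i)) hcop N c hc h
      gen := fun j m => bij_iso_K hF _ (BR1.TShiftIso' j m).symm (bij_gen hF hT i (j - m)) }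
  exact bij_iso_K hF _ ((shiftFunctorZero (Dual.D R) ℤ).app K) (generation hyp K 0)

end baseCase

/-! ### perfect complexes in the first variable -/

section perfect

variable [Module.Flat R R'] [F.CommShift ℤ] [F.IsTriangulated]
  (hT : ∀ i : ℤ, Nonempty (F.obj (T R i) ≅ T R' i)) (hcop : RHR4.PresCoprod F)

/-- the property used in the induction on perfect complexes -/
def PX (X : Dual.D R) : Prop := ∀ (K : Dual.D R) (m : ℤ), Function.Bijective (β hF (X⟦m⟧) K)

include hF in
lemma PX.of_iso {X Y : Dual.D R} (e : X ≅ Y) (h : PX hF X) : PX hF Y := fun K m =>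
  bij_iso_X hF K ((shiftFunctor (Dual.D R) m).mapIso e) (h K m)

include hF in
lemma PX.shift {X : Dual.D R} (h : PX hF X) (n : ℤ) : PX hF (X⟦n⟧) := fun K m =>
  bij_iso_X hF K ((shiftFunctorAdd' (Dual.D R) n m (n + m) rfl).app X) (h K (n + m))

include hF in
lemma PX.ext (T : Triangle (Dual.D R)) (hT : T ∈ distTriang _)
    (h1 : PX hF T.obj₁) (h3 : PX hF T.obj₃) : PX hF T.obj₂ := fun K m => by
  have hT' := Triangle.shift_distinguished T hT m
  exact five_X hF _ hT' K ((h1.shift hF m) K 1).2 (h3 K m) (h1 K m) ((h3.shift hF m) K (-1)).1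

include hF hT hcop in
/-- **perfect case**: the comparison is bijective for perfect `X` and arbitrary `K` -/
theorem bij_of_isPerfect {X : Dual.D R} (hX : DRing.IsPerfect R X) : PX hF X := by
  refine DTenX.perfect_induction (PX hF) (fun e h => h.of_iso hF e)
    (fun K hK L m => bij_of_isZero_X hF _ L ((shiftFunctor (Dual.D R) m).map_isZero hK))
    (fun T hT' h1 h3 => PX.ext hF T hT' h1 h3) (fun K n h => h.shift hF n)
    (fun K Z i r hir h L m => bij_retract_X hF L (i⟦m⟧') (r⟦m⟧')
      (by rw [← Functor.map_comp, hir, CategoryTheory.Functor.map_id]) (h L m)) ?_ hX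
  refine PX.of_iso hF (SV5.TIso 0).symm ?_
  intro K m
  exact bij_iso_X hF K (BR1.TShiftIso' 0 m).symm (bij_T hF hT hcop (0 - m) K)

end perfect

end Groth.Agent.Helper9.FB2
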