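import Mathlib
import Groth.Prelude.Def_DDual2
import Groth.Agent.Helper9.FB2
import Groth.Agent.Helper9.KFlat11

set_option autoImplicit false
set_option linter.style.haveILetI false
set_option linter.unusedSectionVars false

/-!
# `R' ⊗_R Hom(X, K) → Hom(F X, F K)` is bijective for pseudo-coherent `X`, bounded below `K`
-/

open CategoryTheory CategoryTheory.Limits DerivedCategory Pretriangulated

universe u

attribute [local instance] HasDerivedCategory.standard

namespace Groth.Agent.Helper9.FB3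

open TensorProduct Groth.Agent.Helper9.FB1 Groth.Agent.Helper9.FB2 Groth.Agent.Helper6
  Groth.Agent.Helper6.DTenG Groth.Agent.Helper9.KFlat11

variable {R R' : Type u} [CommRing R] [CommRing R'] [Algebra R R']
variable {F : Dual.D R ⥤ Dual.D R'} [F.Additive] (hF : Semilinear F)

/-- the brutal truncation `σ_{> c} E` of a bounded above complex of finite free modules is
perfect -/
lemma isPerfect_kerLE (E : DRing.Cx R) (b : ℤ) (hb : DRing.VanishesAbove E b)
    (hff : DRing.TermwiseFiniteFree E) (c : ℤ) : DRing.IsPerfect R (Q.obj (kerLE E c)) := by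
  refine ⟨kerLE E c, c + 1, b, ?_, ?_, ⟨Iso.refl _⟩⟩
  · intro i hi
    by_cases hic : i ≤ c
    · exact isZero_kerLE_X E c i hic
    · have hb' : b < i := by omega
      haveI := isIso_ιGT_f E c i (by omega)
      exact IsZero.of_iso (hb i hb') (asIso ((ιGT E c).f i))
  · intro i
    by_cases hic : i ≤ c
    · haveI := ModuleCat.subsingleton_of_isZero (isZero_kerLE_X E c i hic)
      exact ⟨inferInstance, inferInstance⟩
    · haveI := isIso_ιGT_f E c i (by omega)
      let e : (kerLE E c).X i ≃ₗ[R] E.X i := (asIso ((ιGT E c).f i)).toLinearEquiv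
      obtain ⟨h1, h2⟩ := hff i
      exact ⟨Module.Finite.equiv e.symm, Module.Projective.of_equiv e.symm⟩

lemma hom_zero {S : Type u} [CommRing S] {X Y : Dual.D S} {a b : ℤ} (hX : X.IsLE a)
    (hY : Y.IsGE b) (h : a < b) (g : X ⟶ Y) : g = 0 := by
  haveI := hX
  haveI := hY
  exact TStructure.t.zero g a b h

variable [Module.Flat R R'] [F.CommShift ℤ] [F.IsTriangulated]
  (hT : ∀ i : ℤ, Nonempty (F.obj (T R i) ≅ T R' i)) (hcop : RHR4.PresCoprod F)
  (hLE : ∀ (Y : Dual.D R) (c : ℤ), Y.IsLE c → (F.obj Y).IsLE c)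
  (hGE : ∀ (K : Dual.D R) (n : ℤ), K.IsGE n → (F.obj K).IsGE n)

include hF hT hcop hLE hGE in
/-- **pseudo-coherent case** -/
theorem bij_pc (E : DRing.Cx R) (b : ℤ) (hb : DRing.VanishesAbove E b)
    (hff : DRing.TermwiseFiniteFree E) (K : Dual.D R) (n : ℤ) (hK : K.IsGE n) :
    Function.Bijective (β hF (Q.obj E) K) := by
  let c : ℤ := n - 2
  have hperf := bij_of_isPerfect hF hT hcop (isPerfect_kerLE E b hb hff c)
  have hS := KFlat11.shortExact E c
  have hdist := triangleOfSES_distinguished hS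
  have h0 : (Q.obj (sigLE E c)).IsLE c := inferInstance
  have hK' : (F.obj K).IsGE n := hGE K n hK
  refine five_X hF (triangleOfSES hS) hdist K ?_ ?_ ?_ ?_
  · exact (hperf K 1).2
  · have h3 : (F.obj (Q.obj (sigLE E c))).IsLE c := hLE _ c h0
    exact bij_of_hom_zero hF _ _
      (fun g => hom_zero h0 hK (by omega) g)
      (fun g => hom_zero h3 hK' (by omega) g)
  · exact bij_iso_X hF K ((shiftFunctorZero (Dual.D R) ℤ).app _) (hperf K 0)
  · have h4 : ((Q.obj (sigLE E c))⟦(-1 : ℤ)⟧).IsLE (c + 1) := by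
      haveI := h0
      exact TStructure.t.isLE_shift _ c (-1) (c + 1) (by omega)
    have h5 : (F.obj ((Q.obj (sigLE E c))⟦(-1 : ℤ)⟧)).IsLE (c + 1) := hLE _ _ h4
    exact (bij_of_hom_zero hF _ _
      (fun g => hom_zero h4 hK (by omega) g)
      (fun g => hom_zero h5 hK' (by omega) g)).1

end Groth.Agent.Helper9.FB3
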