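import Mathlib
import Groth.Prelude.Def_DDual2
import Groth.Agent.Helper3.DRingBC

set_option autoImplicit false
set_option linter.style.haveILetI false
set_option linter.unusedSectionVars false

/-!
# The natural short exact sequence `0 → Q ⊗ N → Q ⊗ N → N → 0` for a retraction `π : Q → P`
with principal kernel
-/

open CategoryTheory CategoryTheory.Limits
open scoped TensorProduct

universe u

namespace Groth.Agent.Helper9.SV3

section Alg

variable {P Q : Type u} [CommRing P] [CommRing Q] [Algebra P Q] (π : Q →+* P)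
  (hπ : ∀ p, π (algebraMap P Q p) = p) (t : Q) (hker : RingHom.ker π = Ideal.span {t})
  (r : Q →ₗ[P] Q) (hr : ∀ q, r (t * q) = q)
  (N : Type u) [AddCommGroup N] [Module P N]

include hπ in
/-- `π` as a `P`-linear map -/
def πl : Q →ₗ[P] P where
  toFun := π
  map_add' := map_add π
  map_smul' p q := by
    rw [Algebra.smul_def, map_mul, hπ]
    rfl

/-- `q ⊗ n ↦ π q • n` -/
noncomputable def ρN : Q ⊗[P] N →ₗ[P] N :=
  (TensorProduct.lid P N).toLinearMap ∘ₗ (πl π hπ).rTensor N

lemma ρN_tmul (q : Q) (n : N) : ρN π hπ N (q ⊗ₜ[P] n) = π q • n := by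
  simp [ρN, πl]

lemma ρN_smul (q : Q) (x : Q ⊗[P] N) : ρN π hπ N (q • x) = π q • ρN π hπ N x := by
  induction x using TensorProduct.induction_on with
  | zero => simp
  | tmul a n => rw [TensorProduct.smul_tmul', ρN_tmul, ρN_tmul, smul_eq_mul, map_mul, mul_smul]
  | add a b ha hb => rw [smul_add, map_add, ha, hb, map_add, smul_add]

include hker in
lemma ρN_t_smul (x : Q ⊗[P] N) : ρN π hπ N (t • x) = 0 := by
  have ht : π t = 0 := by
    rw [← RingHom.mem_ker, hker]
    exact Ideal.mem_span_singleton_self t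
  rw [ρN_smul, ht, zero_smul]

lemma retract (x : Q ⊗[P] N) (hr : ∀ q, r (t * q) = q) : (r.rTensor N) (t • x) = x := by
  induction x using TensorProduct.induction_on with
  | zero => simp
  | tmul a n => rw [TensorProduct.smul_tmul', LinearMap.rTensor_tmul, smul_eq_mul, hr]
  | add a b ha hb => rw [smul_add, map_add, ha, hb]

include hr in
lemma t_smul_injective (x : Q ⊗[P] N) (h : t • x = 0) : x = 0 := by
  rw [← retract t r N x hr, h, map_zero]

include hker in
lemma exists_sub (x : Q ⊗[P] N) : ∃ y : Q ⊗[P] N, x - (1 : Q) ⊗ₜ[P] (ρN π hπ N x) = t • y := by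
  induction x using TensorProduct.induction_on with
  | zero => exact ⟨0, by simp⟩
  | tmul a n =>
    have h1 : a - algebraMap P Q (π a) ∈ RingHom.ker π := by
      rw [RingHom.mem_ker, map_sub, hπ, sub_self]
    rw [hker, Ideal.mem_span_singleton'] at h1
    obtain ⟨b, hb⟩ := h1
    refine ⟨b ⊗ₜ[P] n, ?_⟩
    rw [ρN_tmul, TensorProduct.smul_tmul', smul_eq_mul, mul_comm, hb, TensorProduct.sub_tmul,
      ← TensorProduct.smul_tmul, Algebra.smul_def, mul_one]
  | add a b ha hb =>
    obtain ⟨y, hy⟩ := ha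
    obtain ⟨z, hz⟩ := hb
    refine ⟨y + z, ?_⟩
    rw [smul_add, ← hy, ← hz, map_add, TensorProduct.tmul_add]
    abel

include hker in
lemma exists_of_ρN_eq_zero (x : Q ⊗[P] N) (h : ρN π hπ N x = 0) : ∃ y : Q ⊗[P] N, t • y = x := by
  obtain ⟨y, hy⟩ := exists_sub π hπ t hker N x
  refine ⟨y, ?_⟩
  rw [← hy, h, TensorProduct.tmul_zero, sub_zero]

end Alg


section Mod

open Groth.Agent.Helper3.DRingLib ChangeOfRings

variable {P Q : Type u} [CommRing P] [CommRing Q] [Algebra P Q] (π : Q →+* P)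
  (hπ : ∀ p, π (algebraMap P Q p) = p) (t : Q) (hker : RingHom.ker π = Ideal.span {t})
  (r : Q →ₗ[P] Q) (hr : ∀ q, r (t * q) = q)

variable (P Q) in
/-- extension of scalars -/
noncomputable abbrev E : ModuleCat.{u} P ⥤ ModuleCat.{u} Q :=
  ModuleCat.extendScalars.{u, u, u} (algebraMap P Q)

/-- restriction of scalars along the retraction -/
noncomputable abbrev Rπ : ModuleCat.{u} P ⥤ ModuleCat.{u} Q :=
  ModuleCat.restrictScalars.{u} π

lemma extendScalarsEquiv_tmul (N : ModuleCat.{u} P) (s : Q) (m : N) :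
    extendScalarsEquiv (B := Q) N (s ⊗ₜ[P, algebraMap P Q] m) = s ⊗ₜ[P] m := rfl

/-- `ρN` as a `Q`-linear map to the restriction of scalars -/
noncomputable def ρNQ (N : ModuleCat.{u} P) : Q ⊗[P] N →ₗ[Q] ((Rπ π).obj N) where
  toFun := fun x => ρN π hπ N x
  map_add' := fun x y => map_add _ x y
  map_smul' := fun q x => by
    rw [ρN_smul]
    rfl

/-- the components of `ρ` -/
noncomputable def ρapp (N : ModuleCat.{u} P) : (E P Q).obj N ⟶ (Rπ π).obj N :=
  ModuleCat.ofHom (X := (E P Q).obj N) (Y := (Rπ π).obj N)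
    (ρNQ π hπ N ∘ₗ (extendScalarsEquiv (B := Q) N).toLinearMap)

lemma ρapp_apply (N : ModuleCat.{u} P) (x : (E P Q).obj N) :
    (ρapp π hπ N).hom x = ρN π hπ N (extendScalarsEquiv (B := Q) N x) := rfl

lemma ρapp_one_tmul (N : ModuleCat.{u} P) (m : N) :
    (ρapp π hπ N).hom ((1 : Q) ⊗ₜ[P, algebraMap P Q] m) = m := by
  show ρN π hπ N ((1 : Q) ⊗ₜ[P] m) = m
  rw [ρN_tmul, map_one, one_smul]

/-- `q ⊗ n ↦ π q • n` as a natural transformation -/
noncomputable def ρ : E P Q ⟶ Rπ π where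
  app N := ρapp π hπ N
  naturality N N' f := by
    apply ModuleCat.ExtendScalars.hom_ext
    intro m
    have h1 : ((E P Q).map f ≫ ρapp π hπ N').hom ((1 : Q) ⊗ₜ[P, algebraMap P Q] m) =
        (ρapp π hπ N').hom ((1 : Q) ⊗ₜ[P, algebraMap P Q] (f.hom m)) := rfl
    have h2 : (ρapp π hπ N ≫ (Rπ π).map f).hom ((1 : Q) ⊗ₜ[P, algebraMap P Q] m) =
        f.hom ((ρapp π hπ N).hom ((1 : Q) ⊗ₜ[P, algebraMap P Q] m)) := rfl
    refine h1.trans (Eq.trans ?_ h2.symm)
    rw [ρapp_one_tmul, ρapp_one_tmul]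

/-- multiplication by `t` -/
noncomputable def μ : E P Q ⟶ E P Q where
  app N := t • 𝟙 _
  naturality N N' f := by
    rw [Linear.comp_smul, Linear.smul_comp, Category.comp_id, Category.id_comp]

lemma μ_app_apply (N : ModuleCat.{u} P) (x : (E P Q).obj N) :
    ((μ (P := P) t).app N).hom x = t • x := rfl

lemma e_smul (N : ModuleCat.{u} P) (q : Q) (x : (E P Q).obj N) :
    extendScalarsEquiv (B := Q) N (q • x) = q • extendScalarsEquiv (B := Q) N x :=
  (extendScalarsEquiv (B := Q) N).map_smul q x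

lemma e_symm_smul (N : ModuleCat.{u} P) (q : Q) (y : Q ⊗[P] N) :
    (extendScalarsEquiv (B := Q) N).symm (q • y) =
      q • ((extendScalarsEquiv (B := Q) N).symm y : (E P Q).obj N) :=
  (extendScalarsEquiv (B := Q) N).symm.map_smul q y

include hker in
lemma μ_ρ_app (N : ModuleCat.{u} P) : (μ (P := P) t).app N ≫ (ρ π hπ).app N = 0 := by
  apply ModuleCat.hom_ext
  apply LinearMap.ext
  intro x
  change (ρapp π hπ N).hom (((μ (P := P) t).app N).hom x) = 0
  rw [μ_app_apply, ρapp_apply, e_smul, ρN_t_smul π hπ t hker]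
  rfl

/-- the short complex `Q ⊗ N → Q ⊗ N → N` -/
noncomputable def Sm (N : ModuleCat.{u} P) : ShortComplex (ModuleCat.{u} Q) :=
  ShortComplex.mk ((μ (P := P) t).app N) ((ρ π hπ).app N) (μ_ρ_app π hπ t hker N)

include hr in
theorem Sm_shortExact (N : ModuleCat.{u} P) : (Sm π hπ t hker N).ShortExact := by
  have hmono : Mono (Sm π hπ t hker N).f := by
    rw [ModuleCat.mono_iff_injective]
    intro x y hxy
    obtain ⟨x', rfl⟩ : ∃ x' : (E P Q).obj N, x' = x := ⟨x, rfl⟩
    obtain ⟨y', rfl⟩ : ∃ y' : (E P Q).obj N, y' = y := ⟨y, rfl⟩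
    have hxy' : t • x' = t • y' := hxy
    have h0 : t • (x' - y') = 0 := by rw [smul_sub, hxy', sub_self]
    have h1 : t • (extendScalarsEquiv (B := Q) N (x' - y')) = 0 :=
      (e_smul N t (x' - y')).symm.trans
        ((congrArg (extendScalarsEquiv (B := Q) N) h0).trans (map_zero _))
    have h2 := t_smul_injective t r hr N _ h1
    have h3 : x' - y' = 0 :=
      (extendScalarsEquiv (B := Q) N).injective (h2.trans (map_zero _).symm)
    exact sub_eq_zero.mp h3
  have hepi : Epi (Sm π hπ t hker N).g := by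
    rw [ModuleCat.epi_iff_surjective]
    intro n
    obtain ⟨n', rfl⟩ : ∃ n' : N, n' = n := ⟨n, rfl⟩
    refine ⟨(extendScalarsEquiv (B := Q) N).symm ((1 : Q) ⊗ₜ[P] n'), ?_⟩
    change (ρapp π hπ N).hom _ = n'
    rw [ρapp_apply, LinearEquiv.apply_symm_apply, ρN_tmul, map_one, one_smul]
  have hex : (Sm π hπ t hker N).Exact := by
    rw [ShortComplex.moduleCat_exact_iff]
    intro x hx
    obtain ⟨x', rfl⟩ : ∃ x' : (E P Q).obj N, x' = x := ⟨x, rfl⟩
    have hx' : ρN π hπ N (extendScalarsEquiv (B := Q) N x') = 0 := hx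
    obtain ⟨y, hy⟩ := exists_of_ρN_eq_zero π hπ t hker N _ hx'
    refine ⟨(extendScalarsEquiv (B := Q) N).symm y, ?_⟩
    change t • ((extendScalarsEquiv (B := Q) N).symm y : (E P Q).obj N) = x'
    rw [← e_symm_smul, hy, LinearEquiv.symm_apply_apply]
  exact { exact := hex, mono_f := hmono, epi_g := hepi }

end Mod

end Groth.Agent.Helper9.SV3
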