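import Mathlib
import Groth.Prelude.Def_DDual2
import Groth.Agent.Helper9.SV3

set_option autoImplicit false
set_option linter.style.haveILetI false
set_option linter.unusedSectionVars false

/-!
# The natural distinguished triangle `Q ⊗ K → Q ⊗ K → K → (Q ⊗ K)[1]` in `D(Q)`
-/

open CategoryTheory CategoryTheory.Limits DerivedCategory Pretriangulated
open scoped TensorProduct

universe u

attribute [local instance] HasDerivedCategory.standard

namespace Groth.Agent.Helper9.SV4

open Groth.Agent.Helper9.SV3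

variable {P Q : Type u} [CommRing P] [CommRing Q] [Algebra P Q] (π : Q →+* P)
  (hπ : ∀ p, π (algebraMap P Q p) = p) (t : Q) (hker : RingHom.ker π = Ideal.span {t})
  (r : Q →ₗ[P] Q) (hr : ∀ q, r (t * q) = q)

variable (P Q) in
/-- extension of scalars on complexes -/
noncomputable abbrev ECx : DRing.Cx P ⥤ DRing.Cx Q :=
  (E P Q).mapHomologicalComplex (ComplexShape.up ℤ)

/-- restriction of scalars on complexes -/
noncomputable abbrev RCx : DRing.Cx P ⥤ DRing.Cx Q :=
  (Rπ π).mapHomologicalComplex (ComplexShape.up ℤ)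

/-- multiplication by `t` on complexes -/
noncomputable def μCx : ECx P Q ⟶ ECx P Q :=
  NatTrans.mapHomologicalComplex (μ (P := P) t) (ComplexShape.up ℤ)

/-- the projection on complexes -/
noncomputable def ρCx : ECx P Q ⟶ RCx π :=
  NatTrans.mapHomologicalComplex (ρ π hπ) (ComplexShape.up ℤ)

lemma μCx_app (K : DRing.Cx P) : (μCx (P := P) t).app K = t • 𝟙 ((ECx P Q).obj K) := by
  apply HomologicalComplex.hom_ext
  intro i
  rw [HomologicalComplex.smul_f_apply, HomologicalComplex.id_f]
  rfl

/-- the short complex of complexes -/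
noncomputable def Sc (K : DRing.Cx P) : ShortComplex (DRing.Cx Q) :=
  ShortComplex.mk ((μCx (P := P) t).app K) ((ρCx π hπ).app K) (by
    apply HomologicalComplex.hom_ext
    intro i
    exact μ_ρ_app π hπ t hker (K.X i))

include hr in
theorem Sc_shortExact (K : DRing.Cx P) : (Sc π hπ t hker K).ShortExact :=
  HomologicalComplex.shortExact_of_degreewise_shortExact _
    (fun i => Sm_shortExact π hπ t hker r hr (K.X i))

/-- functoriality of the short complex -/
noncomputable def ScMap {K K' : DRing.Cx P} (f : K ⟶ K') :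
    Sc π hπ t hker K ⟶ Sc π hπ t hker K' where
  τ₁ := (ECx P Q).map f
  τ₂ := (ECx P Q).map f
  τ₃ := (RCx π).map f
  comm₁₂ := (μCx (P := P) t).naturality f
  comm₂₃ := (ρCx π hπ).naturality f


variable [PreservesFiniteLimits (ModuleCat.extendScalars.{u, u, u} (algebraMap P Q))]

variable (P Q) in
/-- extension of scalars on derived categories -/
noncomputable abbrev ED : Dual.D P ⥤ Dual.D Q := (E P Q).mapDerivedCategory

/-- `ED (Q K) ≅ Q (ECx K)` -/
noncomputable abbrev eE (K : DRing.Cx P) :
    (ED P Q).obj (DerivedCategory.Q.obj K) ≅ DerivedCategory.Q.obj ((ECx P Q).obj K) :=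
  (E P Q).mapDerivedCategoryFactors.app K

/-- `restrictD π (Q K) ≅ Q (RCx K)` -/
noncomputable abbrev eR (K : DRing.Cx P) :
    (DRing.restrictD π).obj (DerivedCategory.Q.obj K) ≅ DerivedCategory.Q.obj ((RCx π).obj K) :=
  (Rπ π).mapDerivedCategoryFactors.app K

/-- the connecting morphism of the short exact sequence of complexes -/
noncomputable def δK (hr : ∀ q, r (t * q) = q) (K : DRing.Cx P) :
    DerivedCategory.Q.obj ((RCx π).obj K) ⟶
      (DerivedCategory.Q.obj ((ECx P Q).obj K))⟦(1 : ℤ)⟧ :=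
  triangleOfSESδ (Sc_shortExact π hπ t hker r hr K)

/-- the connecting morphism, before localization -/
noncomputable def δ₀ (hr : ∀ q, r (t * q) = q) : RCx π ⋙ DerivedCategory.Q ⟶
    (ECx P Q ⋙ DerivedCategory.Q) ⋙ shiftFunctor (Dual.D Q) (1 : ℤ) where
  app K := δK π hπ t hker r hr K
  naturality K K' f :=
    (triangleOfSESδ_naturality (Sc_shortExact π hπ t hker r hr K)
      (Sc_shortExact π hπ t hker r hr K') (ScMap π hπ t hker f)).symm

/-- the connecting morphism `res_π ⟶ E[1]` as a natural transformation on `D(P)` -/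
noncomputable def δ (hr : ∀ q, r (t * q) = q) :
    DRing.restrictD π ⟶ ED P Q ⋙ shiftFunctor (Dual.D Q) (1 : ℤ) :=
  Localization.liftNatTrans DerivedCategory.Q
    (HomologicalComplex.quasiIso (ModuleCat.{u} P) (ComplexShape.up ℤ))
    (RCx π ⋙ DerivedCategory.Q)
    ((ECx P Q ⋙ DerivedCategory.Q) ⋙ shiftFunctor (Dual.D Q) (1 : ℤ))
    (DRing.restrictD π) (ED P Q ⋙ shiftFunctor (Dual.D Q) (1 : ℤ))
    (δ₀ π hπ t hker r hr)

/-- the projection `E ⟶ res_π` as a natural transformation on `D(P)` -/
noncomputable def ρD : ED P Q ⟶ DRing.restrictD π :=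
  Localization.liftNatTrans DerivedCategory.Q
    (HomologicalComplex.quasiIso (ModuleCat.{u} P) (ComplexShape.up ℤ))
    (ECx P Q ⋙ DerivedCategory.Q) (RCx π ⋙ DerivedCategory.Q)
    (ED P Q) (DRing.restrictD π)
    (Functor.whiskerRight (ρCx π hπ) DerivedCategory.Q)

lemma δ_app (K : DRing.Cx P) :
    (δ π hπ t hker r hr).app (DerivedCategory.Q.obj K) =
      (eR π K).hom ≫ δK π hπ t hker r hr K ≫ ((eE K).inv)⟦(1 : ℤ)⟧' := by
  dsimp only [δ]
  rw [Localization.liftNatTrans_app]
  rfl

lemma ρD_app (K : DRing.Cx P) :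
    (ρD π hπ).app (DerivedCategory.Q.obj K) =
      (eE K).hom ≫ DerivedCategory.Q.map ((ρCx π hπ).app K) ≫ (eR π K).inv := by
  dsimp only [ρD]
  rw [Localization.liftNatTrans_app]
  rfl

/-- **The distinguished triangle** -/
theorem dist (K : DRing.Cx P) :
    Triangle.mk (t • 𝟙 ((ED P Q).obj (DerivedCategory.Q.obj K)))
      ((ρD π hπ).app (DerivedCategory.Q.obj K))
      ((δ π hπ t hker r hr).app (DerivedCategory.Q.obj K)) ∈ distTriang (Dual.D Q) := by
  refine isomorphic_distinguished _
    (triangleOfSES_distinguished (Sc_shortExact π hπ t hker r hr K)) _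
    (Triangle.isoMk _ _ (eE K) (eE K) (eR π K) ?_ ?_ ?_)
  · change (t • 𝟙 _) ≫ (eE K).hom = (eE K).hom ≫ DerivedCategory.Q.map ((μCx (P := P) t).app K)
    rw [μCx_app, Functor.map_smul, CategoryTheory.Functor.map_id, Linear.smul_comp,
      Linear.comp_smul, Category.id_comp, Category.comp_id]
  · change (ρD π hπ).app (DerivedCategory.Q.obj K) ≫ (eR π K).hom =
      (eE K).hom ≫ DerivedCategory.Q.map ((ρCx π hπ).app K)
    rw [ρD_app, Category.assoc, Category.assoc, Iso.inv_hom_id, Category.comp_id]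
  · change (δ π hπ t hker r hr).app (DerivedCategory.Q.obj K) ≫ ((eE K).hom)⟦(1 : ℤ)⟧' =
      (eR π K).hom ≫ δK π hπ t hker r hr K
    rw [δ_app, Category.assoc, Category.assoc, ← Functor.map_comp, Iso.inv_hom_id,
      CategoryTheory.Functor.map_id, Category.comp_id]

end Groth.Agent.Helper9.SV4
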