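import Mathlib
import Groth.Prelude.Def_DDual2
import Groth.Agent.Helper6.FlatBC
import Groth.Agent.Helper6.DTenG7
import Groth.Agent.Helper3.DRingCone
import Groth.Agent.Helper9.RHR5
import Groth.Agent.Helper9.SV4
import Groth.Agent.Helper9.SV5

set_option autoImplicit false
set_option linter.style.haveILetI false
set_option linter.unusedSectionVars false

/-!
# `RHom_Q(P, (Q ⊗_P K)[1]) ≅ K` for a retraction `π : Q → P` with kernel generated by a
"monic-like" element
-/

open CategoryTheory CategoryTheory.Limits DerivedCategory Pretriangulated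
open scoped TensorProduct

universe u

attribute [local instance] HasDerivedCategory.standard

namespace Groth.Agent.Helper9.SV6

open Groth.Agent.Helper6 Groth.Agent.Helper6.DTenG Groth.Agent.Helper6.DTenX
  Groth.Agent.Helper9.RHR4 Groth.Agent.Helper9.SV3 Groth.Agent.Helper9.SV4

section General

variable {R A B : Type u} [CommRing R] [CommRing A] [CommRing B]

/-- a triangulated functor is mid-exact -/
lemma midExact_of_isTriangulated (F : Dual.D R ⥤ Dual.D A) [F.CommShift ℤ] [F.IsTriangulated] :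
    MidExact F := by
  intro T hT W g hg
  obtain ⟨h, hh⟩ := Triangle.coyoneda_exact₂ _ (F.map_distinguished T hT) g hg
  exact ⟨h, hh.symm⟩

lemma presCoprod_id : PresCoprod (𝟭 (Dual.D R)) := by
  intro J N c hc
  exact ⟨IsColimit.ofIsoColimit hc (Cofan.ext (Iso.refl _) (fun j => by simp))⟩

lemma presCoprod_comp {F : Dual.D R ⥤ Dual.D A} {G : Dual.D A ⥤ Dual.D B}
    (hF : PresCoprod F) (hG : PresCoprod G) : PresCoprod (F ⋙ G) := by
  intro J N c hc
  obtain ⟨h1⟩ := hF N c hc
  obtain ⟨h2⟩ := hG _ _ h1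
  exact ⟨h2⟩

/-- a left adjoint preserves coproducts -/
lemma presCoprod_of_adj {F : Dual.D R ⥤ Dual.D A} {G : Dual.D A ⥤ Dual.D R} (adj : F ⊣ G) :
    PresCoprod F := by
  intro J N c hc
  haveI := adj.leftAdjoint_preservesColimits
  exact ⟨isColimitCofanMkObjOfIsColimit F N c.inj
    (IsColimit.ofIsoColimit hc (Cofan.ext (Iso.refl _) (fun j => by simp)))⟩

end General


section Main

variable {P Q : Type u} [CommRing P] [CommRing Q] [Algebra P Q] [Module.Flat P Q] (π : Q →+* P)
  (hπ : ∀ p, π (algebraMap P Q p) = p) (t : Q) (hker : RingHom.ker π = Ideal.span {t})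
  (r : Q →ₗ[P] Q) (hr : ∀ q, r (t * q) = q)

open Groth.Agent.Helper3.DRingLib

/-- `Q ⊗_P P ≅ Q` -/
noncomputable def EPIso : (E P Q).obj (ModuleCat.of P P) ≅ ModuleCat.of Q Q :=
  (extendScalarsEquiv (B := Q) (ModuleCat.of P P)).toModuleIso ≪≫
    (TensorProduct.AlgebraTensorModule.rid P Q Q).toModuleIso

/-- `E (T P j) ≅ T Q j` -/
noncomputable def aIso (j : ℤ) : (ED P Q).obj (T P j) ≅ T Q j :=
  eE (Sg P j) ≪≫ DerivedCategory.Q.mapIso
    ((HomologicalComplex.singleMapHomologicalComplex (E P Q) (ComplexShape.up ℤ) j).app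
        (ModuleCat.of P P) ≪≫
      (HomologicalComplex.single (ModuleCat.{u} Q) (ComplexShape.up ℤ) j).mapIso EPIso)

include hπ in
lemma π_surjective : Function.Surjective π := fun p => ⟨algebraMap P Q p, hπ p⟩

include hr in
lemma t_regular (q : Q) (h : t * q = 0) : q = 0 := by
  rw [← hr q, h, map_zero]

include hπ hker hr in
/-- restriction along `π` sends the generators to perfect complexes -/
lemma isPerfect_res_T (j : ℤ) : DRing.IsPerfect Q ((DRing.restrictD π).obj (T P j)) := by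
  have h1 : DRing.IsPerfect Q ((ED P Q).obj (T P j)) :=
    isPerfect_of_iso (aIso j).symm (isPerfect_T j)
  exact isPerfect_obj₃ _ (dist π hπ t hker r hr (Sg P j)) h1 h1

variable {G : Dual.D Q ⥤ Dual.D P} (adj : DRing.restrictD π ⊣ G)

/-- the comparison `K ⟶ RHom_Q(P, (Q ⊗ K)[1])` -/
noncomputable def η (hr : ∀ q, r (t * q) = q) :
    𝟭 (Dual.D P) ⟶ (ED P Q ⋙ shiftFunctor (Dual.D Q) (1 : ℤ)) ⋙ G :=
  adj.unit ≫ Functor.whiskerRight (δ π hπ t hker r hr) G

lemma comp_η_app {X K : Dual.D P} (g : X ⟶ K) :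
    g ≫ (η π hπ t hker r adj hr).app K =
      adj.homEquiv X _ ((DRing.restrictD π).map g ≫ (δ π hπ t hker r hr).app K) := by
  have h1 : g ≫ adj.unit.app K = adj.unit.app X ≫ G.map ((DRing.restrictD π).map g) :=
    adj.unit.naturality g
  rw [Adjunction.homEquiv_unit, Functor.map_comp, ← Category.assoc, ← h1, Category.assoc]
  rfl

lemma isIso_η_T (j : ℤ) : IsIso ((η π hπ t hker r adj hr).app (T P j)) := by
  refine isIso_of_bijective _ (fun i => ?_)
  have h : (fun g : T P i ⟶ T P j => g ≫ (η π hπ t hker r adj hr).app (T P j)) =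
      adj.homEquiv (T P i) _ ∘
        (fun g => (DRing.restrictD π).map g ≫ (δ π hπ t hker r hr).app (T P j)) := by
    funext g
    exact comp_η_app π hπ t hker r hr adj g
  refine Eq.mpr (congrArg Function.Bijective h) ?_
  exact (Equiv.bijective _).comp
    (SV5.bijective π (π_surjective π hπ) t hker (t_regular t r hr)
      (fun k => (ED P Q).obj (T P k)) aIso (fun k => (ρD π hπ).app (T P k))
      (fun k => (δ π hπ t hker r hr).app (T P k))
      (fun k => dist π hπ t hker r hr (Sg P k)) i j)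

/-- **Lemma C** -/
theorem isIso_η (K : Dual.D P) : IsIso ((η π hπ t hker r adj hr).app K) := by
  haveI : G.Additive := adj.right_adjoint_additive
  have hF1 : MidExact (𝟭 (Dual.D P)) := RHR5.midExact_id
  have adj' : DRing.restrictD π ⋙ shiftFunctor (Dual.D Q) (-1 : ℤ) ⊣
      shiftFunctor (Dual.D Q) (1 : ℤ) ⋙ G :=
    adj.comp (shiftEquiv (Dual.D Q) (1 : ℤ)).symm.toAdjunction
  have hG1 : MidExact ((ED P Q ⋙ shiftFunctor (Dual.D Q) (1 : ℤ)) ⋙ G) :=
    MidExact.of_natIso (Functor.associator _ _ _)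
      ((midExact_of_isTriangulated (ED P Q)).comp_rightAdjoint adj')
  have hF2 : PresCoprod (𝟭 (Dual.D P)) := presCoprod_id
  have hE : PresCoprod (ED P Q) := presCoprod_of_adj (FlatBC.adjD P Q)
  have hS : PresCoprod (shiftFunctor (Dual.D Q) (1 : ℤ)) :=
    presCoprod_of_adj (shiftEquiv (Dual.D Q) (1 : ℤ)).toAdjunction
  have hG0 : PresCoprod G := RHR5.presCoprod_rightAdjoint adj
    (fun i => compact_of_isPerfect (isPerfect_res_T π hπ t hker r hr i))
  have hG2 : PresCoprod ((ED P Q ⋙ shiftFunctor (Dual.D Q) (1 : ℤ)) ⋙ G) :=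
    presCoprod_comp (presCoprod_comp @hE @hS) @hG0
  refine isIso_app hF1 hG1 @hF2 @hG2 (fun n => ?_) K
  have e : T P (-n) ≅ (DTen.unit P)⟦-(-n)⟧ :=
    (Groth.Agent.Helper3.DRingLib.singleShiftIso (ModuleCat.of P P) (-n)).symm
  have e' : T P (-n) ≅ (DTen.unit P)⟦n⟧ := by
    have e2 := e
    rw [neg_neg] at e2
    exact e2
  haveI := isIso_η_T π hπ t hker r hr adj (-n)
  exact (NatTrans.isIso_app_iff_of_iso (η π hπ t hker r adj hr) e').mp inferInstance

include hπ hker hr adj in
theorem lemmaC (K : Dual.D P) :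
    Nonempty (K ≅ G.obj (((ED P Q).obj K)⟦(1 : ℤ)⟧)) := by
  haveI := isIso_η π hπ t hker r hr adj K
  exact ⟨asIso ((η π hπ t hker r adj hr).app K)⟩

end Main

end Groth.Agent.Helper9.SV6
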