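import Mathlib
import Groth.Prelude.Def_DDual2
import Groth.Agent.Helper9.FB3
import Groth.Agent.Helper9.SV6

set_option autoImplicit false
set_option linter.style.haveILetI false
set_option linter.unusedSectionVars false

/-!
# Flat base change for `Hom` groups: `R' ⊗_R Hom(X, K) ≅ Hom(X ⊗ R', K ⊗ R')`
for `X` perfect, or `X` pseudo-coherent and `K` bounded below; for any left adjoint of restriction.
-/

open CategoryTheory CategoryTheory.Limits DerivedCategory Pretriangulated

universe u

attribute [local instance] HasDerivedCategory.standard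

namespace Groth.Agent.Helper9.FB4

open TensorProduct Groth.Agent.Helper9.FB1 Groth.Agent.Helper9.FB2 Groth.Agent.Helper9.FB3
  Groth.Agent.Helper6 Groth.Agent.Helper6.DTenG

variable {R R' : Type u} [CommRing R] [CommRing R'] [Algebra R R']

/-- a left adjoint of restriction is semilinear -/
lemma semilinear_of_adj {F : Dual.D R ⥤ Dual.D R'} [F.Additive]
    (adj : F ⊣ DRing.restrictD (algebraMap R R')) : Semilinear F := by
  intro X Y r g
  apply (adj.homEquiv _ _).injective
  rw [Adjunction.homEquiv_unit, Adjunction.homEquiv_unit, SV5.res_map_smul, Linear.comp_smul]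
  have n1 := adj.unit.naturality (r • g)
  have n2 := adj.unit.naturality g
  dsimp at n1 n2
  rw [← n1, ← n2, Linear.smul_comp]

/-- transfer of the comparison along a natural isomorphism -/
lemma β_natIso {F F' : Dual.D R ⥤ Dual.D R'} [F.Additive] [F'.Additive] (hF : Semilinear F)
    (hF' : Semilinear F') (e : F ≅ F') (X K : Dual.D R) (x : R' ⊗[R] (X ⟶ K)) :
    β hF X K x = e.hom.app X ≫ β hF' X K x ≫ e.inv.app K := by
  induction x using TensorProduct.induction_on with
  | zero => simp
  | tmul r' g =>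
    rw [β_tmul, β_tmul, Linear.smul_comp, Linear.comp_smul]
    congr 1
    rw [← e.hom.naturality_assoc, Iso.hom_inv_id_app, Category.comp_id]
  | add x y hx hy =>
    rw [map_add, map_add, hx, hy, Preadditive.add_comp, Preadditive.comp_add]

lemma bij_of_natIso {F F' : Dual.D R ⥤ Dual.D R'} [F.Additive] [F'.Additive] (hF : Semilinear F)
    (hF' : Semilinear F') (e : F ≅ F') (X K : Dual.D R)
    (h : Function.Bijective (β hF' X K)) : Function.Bijective (β hF X K) := by
  have h1 : ⇑(β hF X K) = (fun g => e.hom.app X ≫ g ≫ e.inv.app K) ∘ ⇑(β hF' X K) := by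
    funext x
    exact β_natIso hF hF' e X K x
  rw [h1]
  refine Function.Bijective.comp ?_ h
  constructor
  · intro g g' hgg
    have := congrArg (fun t => e.inv.app X ≫ t ≫ e.hom.app K) hgg
    simpa using this
  · intro g
    exact ⟨e.inv.app X ≫ g ≫ e.hom.app K, by simp⟩

variable [Module.Flat R R']

lemma semilinear_ED : Semilinear (FlatBC.ED R R') := semilinear_of_adj (FlatBC.adjD R R')

lemma isLE_ED (Y : Dual.D R) (c : ℤ) (hY : Y.IsLE c) : ((FlatBC.ED R R').obj Y).IsLE c := by
  haveI := hY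
  obtain ⟨C, hC, ⟨e⟩⟩ := Y.exists_iso_Q_obj_of_isLE c
  haveI : CochainComplex.IsStrictlyLE
      (((FlatBC.Ef R R').mapHomologicalComplex (ComplexShape.up ℤ)).obj C) c := by
    rw [CochainComplex.isStrictlyLE_iff]
    intro i hi
    exact (FlatBC.Ef R R').map_isZero (CochainComplex.isZero_of_isStrictlyLE C c i hi)
  have h1 : (Q.obj (((FlatBC.Ef R R').mapHomologicalComplex (ComplexShape.up ℤ)).obj C)).IsLE c :=
    inferInstance
  haveI := h1
  let e2 : (FlatBC.ED R R').obj Y ≅
      Q.obj (((FlatBC.Ef R R').mapHomologicalComplex (ComplexShape.up ℤ)).obj C) :=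
    (FlatBC.ED R R').mapIso e ≪≫ (FlatBC.Ef R R').mapDerivedCategoryFactors.app C
  exact TStructure.t.isLE_of_iso e2.symm c

lemma isGE_ED (Y : Dual.D R) (c : ℤ) (hY : Y.IsGE c) : ((FlatBC.ED R R').obj Y).IsGE c := by
  haveI := hY
  obtain ⟨C, hC, ⟨e⟩⟩ := Y.exists_iso_Q_obj_of_isGE c
  haveI : CochainComplex.IsStrictlyGE
      (((FlatBC.Ef R R').mapHomologicalComplex (ComplexShape.up ℤ)).obj C) c := by
    rw [CochainComplex.isStrictlyGE_iff]
    intro i hi
    exact (FlatBC.Ef R R').map_isZero (CochainComplex.isZero_of_isStrictlyGE C c i hi)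
  have h1 : (Q.obj (((FlatBC.Ef R R').mapHomologicalComplex (ComplexShape.up ℤ)).obj C)).IsGE c :=
    inferInstance
  haveI := h1
  let e2 : (FlatBC.ED R R').obj Y ≅
      Q.obj (((FlatBC.Ef R R').mapHomologicalComplex (ComplexShape.up ℤ)).obj C) :=
    (FlatBC.ED R R').mapIso e ≪≫ (FlatBC.Ef R R').mapDerivedCategoryFactors.app C
  exact TStructure.t.isGE_of_iso e2.symm c

/-- **perfect case** -/
theorem bij_perfect {F : Dual.D R ⥤ Dual.D R'} [F.Additive]
    (adj : F ⊣ DRing.restrictD (algebraMap R R')) {X : Dual.D R} (hX : DRing.IsPerfect R X)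
    (K : Dual.D R) : Function.Bijective (β (semilinear_of_adj adj) X K) := by
  refine bij_of_natIso _ semilinear_ED (adj.leftAdjointUniq (FlatBC.adjD R R')) X K ?_
  have := bij_of_isPerfect (semilinear_ED (R := R) (R' := R'))
    (fun i => ⟨SV6.aIso (P := R) (Q := R') i⟩) (SV6.presCoprod_of_adj (FlatBC.adjD R R')) hX K 0
  exact bij_iso_X _ K ((shiftFunctorZero (Dual.D R) ℤ).app X) this

/-- **pseudo-coherent case** -/
theorem bij_pc {F : Dual.D R ⥤ Dual.D R'} [F.Additive]
    (adj : F ⊣ DRing.restrictD (algebraMap R R')) {X : Dual.D R}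
    (hX : DRing.IsPseudoCoherent' R X) (K : Dual.D R) (n : ℤ) (hK : K.IsGE n) :
    Function.Bijective (β (semilinear_of_adj adj) X K) := by
  refine bij_of_natIso _ semilinear_ED (adj.leftAdjointUniq (FlatBC.adjD R R')) X K ?_
  obtain ⟨E, b, hb, hff, ⟨e⟩⟩ := hX
  have := FB3.bij_pc (semilinear_ED (R := R) (R' := R'))
    (fun i => ⟨SV6.aIso (P := R) (Q := R') i⟩) (SV6.presCoprod_of_adj (FlatBC.adjD R R'))
    isLE_ED isGE_ED E b hb hff K n hK
  exact bij_iso_X _ K e this

end Groth.Agent.Helper9.FB4
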