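import Mathlib
import Groth.Prelude.Def_TrivBC
import Groth.Prelude.Def_DTen4
import Groth.Agent.Helper6.LBaseCmp

set_option autoImplicit false
set_option linter.style.haveILetI false
set_option linter.unusedSectionVars false
set_option linter.unusedVariables false

/-!
# The comparison `L (Q K) ⟶ Q (K ⊗ A)` for an arbitrary left adjoint `L` of restriction of scalars
-/

open CategoryTheory CategoryTheory.Limits DerivedCategory

universe u

attribute [local instance] HasDerivedCategory.standard

namespace Groth.Agent.Helper9.TBC1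

open Groth.Agent.Helper6 Groth.Agent.Helper6.TenCx Groth.Agent.Helper6.LBCAdj
  Groth.Agent.Helper6.LBaseCmp

variable {R A : Type u} [CommRing R] [CommRing A] (φ : R →+* A)

/-- `Q K ⟶ (Q (K ⊗ A))|_R` -/
noncomputable def γ (K : DRing.Cx R) :
    Q.obj K ⟶ (DRing.restrictD φ).obj (Q.obj ((DTen.extCx φ).obj K)) :=
  Q.map ((DTen.unitCx φ).app K) ≫ (DTen.resFactors φ).inv.app ((DTen.extCx φ).obj K)

lemma γ_naturality {K K' : DRing.Cx R} (f : K ⟶ K') :
    Q.map f ≫ γ φ K' = γ φ K ≫ (DRing.restrictD φ).map (Q.map ((DTen.extCx φ).map f)) := by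
  have h1 := (DTen.unitCx φ).naturality f
  have h2 := (DTen.resFactors φ).inv.naturality ((DTen.extCx φ).map f)
  dsimp at h1 h2
  dsimp only [γ]
  rw [Category.assoc, ← h2, ← Category.assoc, ← Category.assoc, ← Functor.map_comp,
    ← Functor.map_comp, h1]

/-- `γ` in terms of `γh` -/
lemma γ_eq (P : DRing.Cx R) :
    γ φ P = (quotientCompQhIso _).inv.app P ≫
      γh φ ((HomotopyCategory.quotient _ _).obj P) ≫
        (DRing.restrictD φ).map ((quotientCompQhIso _).hom.app ((DTen.extCx φ).obj P)) := by
  have hunit : (adjK φ).unit.app ((HomotopyCategory.quotient _ _).obj P) =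
      (HomotopyCategory.quotient _ _).map ((DTen.unitCx φ).app P) := rfl
  have hn := quotientCompQhIso_inv_naturality ((DTen.unitCx φ).app P)
  have hm : Qh.map (((ModuleCat.restrictScalars.{u} φ).mapHomotopyCategoryFactors
          (ComplexShape.up ℤ)).inv.app ((DTen.extCx φ).obj P)) = 𝟙 _ := by
    erw [CategoryTheory.Functor.map_id]
  rw [γ, factors_inv, hm, γh, hunit, reassoc_of% hn]
  congr 1
  rw [Category.assoc]
  congr 1
  exact Category.id_comp _

variable {φ}
variable {L : Dual.D R ⥤ Dual.D A} (adj : L ⊣ DRing.restrictD φ)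

/-- the comparison `L (Q K) ⟶ Q (K ⊗ A)`: the adjunct of `γ` -/
noncomputable def bc (K : DRing.Cx R) : L.obj (Q.obj K) ⟶ Q.obj ((DTen.extCx φ).obj K) :=
  (adj.homEquiv _ _).symm (γ φ K)

lemma bc_fac (K : DRing.Cx R) :
    adj.unit.app (Q.obj K) ≫ (DRing.restrictD φ).map (bc adj K) = γ φ K := by
  have h := (adj.homEquiv (Q.obj K) _).apply_symm_apply (γ φ K)
  rw [Adjunction.homEquiv_unit] at h
  exact h

lemma bc_naturality {K K' : DRing.Cx R} (f : K ⟶ K') :
    L.map (Q.map f) ≫ bc adj K' = bc adj K ≫ Q.map ((DTen.extCx φ).map f) := by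
  apply (adj.homEquiv _ _).injective
  rw [Adjunction.homEquiv_unit, Adjunction.homEquiv_unit, Functor.map_comp, Functor.map_comp]
  have h1 := adj.unit.naturality (Q.map f)
  dsimp at h1
  rw [← reassoc_of% h1, bc_fac, reassoc_of% (bc_fac adj K), γ_naturality]

/-- the comparison map is an isomorphism at K-projective complexes -/
theorem isIso_bc_of_isKProjective (P : DRing.Cx R) [P.IsKProjective] :
    IsIso (bc adj P) := by
  apply isIso_of_coyoneda_map_bijective
  intro N
  have he := (adj.homEquiv (Q.obj P) N).bijective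
  rw [← Function.Bijective.of_comp_iff' he]
  have hcomp : ∀ g : Q.obj ((DTen.extCx φ).obj P) ⟶ N,
      adj.homEquiv (Q.obj P) N (bc adj P ≫ g) =
        γ φ P ≫ (DRing.restrictD φ).map g := by
    intro g
    rw [Adjunction.homEquiv_unit, Functor.map_comp, ← Category.assoc, bc_fac]
  have h1 := bijective_precomp_iso ((quotientCompQhIso _).hom.app ((DTen.extCx φ).obj P)) N
  have h2 := bijective_γh φ P N
  have h3 := bijective_precomp_iso ((quotientCompQhIso _).inv.app P)
    ((DRing.restrictD φ).obj N)
  have h4 := h3.comp (h2.comp h1)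
  convert h4 using 1
  funext g
  simp only [Function.comp_apply]
  refine (hcomp g).trans ?_
  rw [γ_eq]
  show _ = (quotientCompQhIso _).inv.app P ≫
    γh φ ((HomotopyCategory.quotient _ _).obj P) ≫ (DRing.restrictD φ).map
      ((quotientCompQhIso _).hom.app ((DTen.extCx φ).obj P) ≫ g)
  refine (Category.assoc _ _ _).trans ?_
  refine congrArg (fun t => (quotientCompQhIso _).inv.app P ≫ t) ?_
  refine (Category.assoc _ _ _).trans ?_
  exact congrArg (fun t => γh φ ((HomotopyCategory.quotient _ _).obj P) ≫ t)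
    ((DRing.restrictD φ).map_comp _ _).symm

/-- the comparison map is an isomorphism at `K` as soon as extension of scalars preserves some
K-projective resolution of `K` -/
theorem isIso_bc_of_quasiIso (K : DRing.Cx R) {P : DRing.Cx R} [P.IsKProjective] (f : P ⟶ K)
    (hf : QuasiIso f) (hf' : QuasiIso ((DTen.extCx φ).map f)) :
    IsIso (bc adj K) := by
  haveI := isIso_bc_of_isKProjective adj P
  have hn := bc_naturality adj f
  haveI : IsIso (Q.map f) := by
    rw [DerivedCategory.isIso_Q_map_iff_quasiIso]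
    exact hf
  haveI : IsIso (Q.map ((DTen.extCx φ).map f)) := by
    rw [DerivedCategory.isIso_Q_map_iff_quasiIso]
    exact hf'
  have h : bc adj K = inv (L.map (Q.map f)) ≫ bc adj P ≫ Q.map ((DTen.extCx φ).map f) := by
    rw [← hn, IsIso.inv_hom_id_assoc]
  rw [h]
  infer_instance

end Groth.Agent.Helper9.TBC1
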