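import Mathlib
import Groth.Prelude.Def_TrivBC
import Groth.Prelude.Def_DTen4

set_option autoImplicit false
set_option linter.style.haveILetI false
set_option linter.unusedSectionVars false
set_option linter.unusedVariables false

/-!
# The commutation isomorphism `resComm` at objects `Q X`
-/

open CategoryTheory CategoryTheory.Limits DerivedCategory

universe u

attribute [local instance] HasDerivedCategory.standard

namespace Groth.Agent.Helper9.TBC2

variable {R A R' A' : Type u} [CommRing R] [CommRing A] [CommRing R'] [CommRing A']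
  {φ : R →+* A} {ρ : R →+* R'} {α : A →+* A'} {φ' : R' →+* A'}

/-- the chain level identification `X|_A|_R ⟶ X|_{R'}|_R` -/
noncomputable def κ (h : α.comp φ = φ'.comp ρ) (X : DRing.Cx A') :
    (DTen.resCx φ).obj ((DTen.resCx α).obj X) ⟶ (DTen.resCx ρ).obj ((DTen.resCx φ').obj X) :=
  (Functor.mapHomologicalComplexCompIso (TrivBC.resCommMod h) (ComplexShape.up ℤ)).hom.app X ≫
    (Functor.mapHomologicalComplexCompIso
      (Iso.refl (ModuleCat.restrictScalars.{u} φ' ⋙ ModuleCat.restrictScalars.{u} ρ))
        (ComplexShape.up ℤ)).inv.app X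

lemma κ_f (h : α.comp φ = φ'.comp ρ) (X : DRing.Cx A') (i : ℤ) :
    (κ h X).f i = (TrivBC.resCommMod h).hom.app (X.X i) := by
  dsimp [κ]
  erw [Category.comp_id]
  rfl

lemma κ_f_apply (h : α.comp φ = φ'.comp ρ) (X : DRing.Cx A') (i : ℤ)
    (x : ((DTen.resCx φ).obj ((DTen.resCx α).obj X)).X i) :
    ((κ h X).f i).hom x = (show X.X i from x) := by
  rw [κ_f]
  rfl

lemma lifting_hom_app {B C E : Type u} [CommRing B] [CommRing C] [CommRing E] (g : C →+* E)
    (f : B →+* C) (X : DRing.Cx E) :
    (@Localization.Lifting.iso _ _ _ _ _ _ Q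
      (HomologicalComplex.quasiIso (ModuleCat.{u} E) (ComplexShape.up ℤ)) _ _
      (TrivBC.liftingRes₂ g f)).hom.app X =
      (DRing.restrictD f).map ((DTen.resFactors g).hom.app X) ≫
        (DTen.resFactors f).hom.app ((DTen.resCx g).obj X) := by
  change ((Functor.associator _ _ _).symm ≪≫
    Functor.isoWhiskerRight (ModuleCat.restrictScalars.{u} g).mapDerivedCategoryFactors _ ≪≫
      Functor.associator _ _ _ ≪≫
        Functor.isoWhiskerLeft _ (ModuleCat.restrictScalars.{u} f).mapDerivedCategoryFactors).hom.app X = _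
  simp

lemma lifting_inv_app {B C E : Type u} [CommRing B] [CommRing C] [CommRing E] (g : C →+* E)
    (f : B →+* C) (X : DRing.Cx E) :
    (@Localization.Lifting.iso _ _ _ _ _ _ Q
      (HomologicalComplex.quasiIso (ModuleCat.{u} E) (ComplexShape.up ℤ)) _ _
      (TrivBC.liftingRes₂ g f)).inv.app X =
      (DTen.resFactors f).inv.app ((DTen.resCx g).obj X) ≫
        (DRing.restrictD f).map ((DTen.resFactors g).inv.app X) := by
  change ((Functor.associator _ _ _).symm ≪≫
    Functor.isoWhiskerRight (ModuleCat.restrictScalars.{u} g).mapDerivedCategoryFactors _ ≪≫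
      Functor.associator _ _ _ ≪≫
        Functor.isoWhiskerLeft _ (ModuleCat.restrictScalars.{u} f).mapDerivedCategoryFactors).inv.app X = _
  simp

lemma resComm_app (h : α.comp φ = φ'.comp ρ) (X : DRing.Cx A') :
    (TrivBC.resComm h).hom.app (Q.obj X) =
      (DRing.restrictD φ).map ((DTen.resFactors α).hom.app X) ≫
        (DTen.resFactors φ).hom.app ((DTen.resCx α).obj X) ≫
        Q.map (κ h X) ≫ (DTen.resFactors ρ).inv.app ((DTen.resCx φ').obj X) ≫
        (DRing.restrictD ρ).map ((DTen.resFactors φ').inv.app X) := by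
  dsimp only [TrivBC.resComm, Localization.liftNatIso]
  rw [Localization.liftNatTrans_app]
  erw [lifting_hom_app α φ X, lifting_inv_app φ' ρ X]
  dsimp [TrivBC.resCommCx, κ]
  simp

end Groth.Agent.Helper9.TBC2
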