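import Mathlib
import Groth.Prelude.Def_TrivBC
import Groth.Prelude.Def_DTen4
import Groth.Agent.Helper9.TBC1
import Groth.Agent.Helper9.TBC2
import Groth.Agent.Helper9.FlatPC1

set_option autoImplicit false
set_option linter.style.haveILetI false
set_option linter.unusedSectionVars false
set_option linter.unusedVariables false

/-!
# The base change comparison `cmp` at K-projective complexes
-/

open CategoryTheory CategoryTheory.Limits DerivedCategory TensorProduct

universe u

attribute [local instance] HasDerivedCategory.standard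

namespace Groth.Agent.Helper9.TBC3

open Groth.Agent.Helper9.TBC1 Groth.Agent.Helper9.TBC2 Groth.Agent.Helper9.FlatPC1
  Groth.Agent.Helper3.DRingLib

variable {R A R' A' : Type u} [CommRing R] [CommRing A] [CommRing R'] [CommRing A']
  [Algebra R A] [Algebra R R'] [Algebra R' A'] [Algebra A A'] [Algebra R A']
  [IsScalarTower R R' A'] [IsScalarTower R A A'] [Algebra.IsPushout R R' A A']

open ModuleCat ChangeOfRings in
lemma bcEquiv_one_tmul (X : ModuleCat.{u} A)
    (m : ↑((ModuleCat.restrictScalars (algebraMap R A)).obj X)) :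
    FlatPC1.bcEquiv (R := R) (R' := R') (A' := A') X ((1 : R') ⊗ₜ[R, algebraMap R R'] m) =
      ((1 : A') ⊗ₜ[A, algebraMap A A'] (show ↑X from m) :
        ↑((ModuleCat.extendScalars.{u, u, u} (algebraMap A A')).obj X)) := by
  have h1 : Groth.Agent.Helper6.RelPerfBC.e1 (R := R) (R' := R') X
      ((1 : R') ⊗ₜ[R, algebraMap R R'] m) = (1 : R') ⊗ₜ[R] m := rfl
  have h2 := FlatPC1.e2_tmul (R := R) (R' := R') (A' := A') X 1 m
  rw [map_one] at h2
  refine (FlatPC1.bcEquiv_apply X _).trans ?_
  refine (congrArg (fun t => FlatPC1.e3 (R' := R') (A' := A') X (FlatPC1.e2 X t)) h1).trans ?_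
  refine (congrArg (fun t => FlatPC1.e3 (R' := R') (A' := A') X t) h2).trans ?_
  rfl

variable (R' A') in
lemma chain_identity
    (h : (algebraMap A A').comp (algebraMap R A) = (algebraMap R' A').comp (algebraMap R R'))
    (P : DRing.Cx A) :
    (DTen.resCx (algebraMap R A)).map ((DTen.unitCx (algebraMap A A')).app P) ≫
        κ h ((DTen.extCx (algebraMap A A')).obj P) =
      (DTen.unitCx (algebraMap R R')).app ((DTen.resCx (algebraMap R A)).obj P) ≫
        (DTen.resCx (algebraMap R R')).map (Θ R' A' P).hom := by
  ext i : 1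
  refine ModuleCat.hom_ext (LinearMap.ext fun m => ?_)
  rw [HomologicalComplex.comp_f, HomologicalComplex.comp_f]
  refine (κ_f_apply h _ i _).trans ?_
  have e1 := ModuleCat.extendRestrictScalarsAdj_unit_app_apply (algebraMap A A') (M := P.X i) m
  have e2 := ModuleCat.extendRestrictScalarsAdj_unit_app_apply (algebraMap R R')
    (M := (ModuleCat.restrictScalars (algebraMap R A)).obj (P.X i)) m
  have e3 := bcEquiv_one_tmul (R := R) (R' := R') (A' := A') (P.X i) m
  exact e3.symm

variable [DRing.HasLBaseChange (algebraMap R R')] [DRing.HasLBaseChange (algebraMap A A')]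
  (adjρ : DRing.LBaseChange (algebraMap R R') ⊣ DRing.restrictD (algebraMap R R'))
  (adjα : DRing.LBaseChange (algebraMap A A') ⊣ DRing.restrictD (algebraMap A A'))
  (h : (algebraMap A A').comp (algebraMap R A) = (algebraMap R' A').comp (algebraMap R R'))

/-- the comparison `cmp` at `Q P` in terms of the chain level base change isomorphism -/
lemma star (P : DRing.Cx A) :
    TrivBC.cmp adjρ adjα h (Q.obj P) ≫ (DRing.restrictD (algebraMap R' A')).map (bc adjα P) ≫
        (DTen.resFactors (algebraMap R' A')).hom.app ((DTen.extCx (algebraMap A A')).obj P) =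
      (DRing.LBaseChange (algebraMap R R')).map ((DTen.resFactors (algebraMap R A)).hom.app P) ≫
        bc adjρ ((DTen.resCx (algebraMap R A)).obj P) ≫ Q.map (Θ R' A' P).hom := by
  apply (adjρ.homEquiv _ _).injective
  -- left hand side
  have hL : adjρ.homEquiv _ _ (TrivBC.cmp adjρ adjα h (Q.obj P) ≫
      (DRing.restrictD (algebraMap R' A')).map (bc adjα P) ≫
        (DTen.resFactors (algebraMap R' A')).hom.app ((DTen.extCx (algebraMap A A')).obj P)) =
      ((DRing.restrictD (algebraMap R A)).map (adjα.unit.app (Q.obj P)) ≫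
        (TrivBC.resComm h).hom.app ((DRing.LBaseChange (algebraMap A A')).obj (Q.obj P))) ≫
      (DRing.restrictD (algebraMap R R')).map
        ((DRing.restrictD (algebraMap R' A')).map (bc adjα P) ≫
        (DTen.resFactors (algebraMap R' A')).hom.app ((DTen.extCx (algebraMap A A')).obj P)) := by
    rw [Adjunction.homEquiv_naturality_right]
    congr 1
    exact (adjρ.homEquiv _ _).apply_symm_apply _
  -- right hand side
  have hR : adjρ.homEquiv _ _ ((DRing.LBaseChange (algebraMap R R')).map
      ((DTen.resFactors (algebraMap R A)).hom.app P) ≫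
        bc adjρ ((DTen.resCx (algebraMap R A)).obj P) ≫ Q.map (Θ R' A' P).hom) =
      (DTen.resFactors (algebraMap R A)).hom.app P ≫
        γ (algebraMap R R') ((DTen.resCx (algebraMap R A)).obj P) ≫
          (DRing.restrictD (algebraMap R R')).map (Q.map (Θ R' A' P).hom) := by
    rw [Adjunction.homEquiv_naturality_left, Adjunction.homEquiv_naturality_right]
    congr 2
    exact (adjρ.homEquiv _ _).apply_symm_apply _
  refine hL.trans (Eq.trans ?_ hR.symm)
  -- abbreviations
  have n1 := (TrivBC.resComm h).hom.naturality (bc adjα P)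
  have n2 := bc_fac adjα P
  have n3 := resComm_app h ((DTen.extCx (algebraMap A A')).obj P)
  have n4 := (DTen.resFactors (algebraMap R A)).hom.naturality ((DTen.unitCx (algebraMap A A')).app P)
  have n5 := (DTen.resFactors (algebraMap R R')).inv.naturality (Θ (R := R) R' A' P).hom
  have n6 := chain_identity R' A' h P
  dsimp at n1 n4 n5
  simp only [Functor.map_comp, Category.assoc]
  rw [← reassoc_of% n1, ← Functor.map_comp_assoc, n2, n3]
  dsimp only [γ]
  simp only [Functor.map_comp, Category.assoc]
  have c1 : (DRing.restrictD (algebraMap R A)).map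
      ((DTen.resFactors (algebraMap A A')).inv.app ((DTen.extCx (algebraMap A A')).obj P)) ≫
      (DRing.restrictD (algebraMap R A)).map
        ((DTen.resFactors (algebraMap A A')).hom.app ((DTen.extCx (algebraMap A A')).obj P)) =
      𝟙 _ := by
    rw [← Functor.map_comp, Iso.inv_hom_id_app, CategoryTheory.Functor.map_id]
  have c2 : (DRing.restrictD (algebraMap R R')).map
      ((DTen.resFactors (algebraMap R' A')).inv.app ((DTen.extCx (algebraMap A A')).obj P)) ≫
      (DRing.restrictD (algebraMap R R')).map
        ((DTen.resFactors (algebraMap R' A')).hom.app ((DTen.extCx (algebraMap A A')).obj P)) =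
      𝟙 _ := by
    rw [← Functor.map_comp, Iso.inv_hom_id_app, CategoryTheory.Functor.map_id]
  rw [reassoc_of% c1, c2]
  erw [Category.comp_id]
  rw [reassoc_of% n4, ← Functor.map_comp_assoc, n6, Functor.map_comp_assoc]
  erw [n5]

/-- **Reduction.** At a K-projective complex `P` of `A`-modules, the base change comparison
`cmp` is an isomorphism as soon as the comparison `L_ρ (Q (P|_R)) ⟶ Q (P|_R ⊗_R R')` is. -/
theorem isIso_cmp_of_isIso_bc (P : DRing.Cx A) [P.IsKProjective]
    (hbc : IsIso (bc adjρ ((DTen.resCx (algebraMap R A)).obj P))) :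
    IsIso (TrivBC.cmp adjρ adjα h (Q.obj P)) := by
  have hs := star adjρ adjα h P
  haveI := isIso_bc_of_isKProjective adjα P
  haveI : IsIso ((DRing.restrictD (algebraMap R' A')).map (bc adjα P) ≫
      (DTen.resFactors (algebraMap R' A')).hom.app ((DTen.extCx (algebraMap A A')).obj P)) :=
    inferInstance
  haveI : IsIso ((DRing.LBaseChange (algebraMap R R')).map
      ((DTen.resFactors (algebraMap R A)).hom.app P) ≫
        bc adjρ ((DTen.resCx (algebraMap R A)).obj P) ≫ Q.map (Θ (R := R) R' A' P).hom) :=
    inferInstance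
  have h2 : TrivBC.cmp adjρ adjα h (Q.obj P) =
      ((DRing.LBaseChange (algebraMap R R')).map
      ((DTen.resFactors (algebraMap R A)).hom.app P) ≫
        bc adjρ ((DTen.resCx (algebraMap R A)).obj P) ≫ Q.map (Θ (R := R) R' A' P).hom) ≫
      inv ((DRing.restrictD (algebraMap R' A')).map (bc adjα P) ≫
      (DTen.resFactors (algebraMap R' A')).hom.app ((DTen.extCx (algebraMap A A')).obj P)) := by
    rw [← hs, Category.assoc, IsIso.hom_inv_id, Category.comp_id]
  rw [h2]
  infer_instance

end Groth.Agent.Helper9.TBC3
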