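import Mathlib
import Groth.Prelude.Def_DTen4
import Groth.Agent.Helper6.ExtKFlat

set_option autoImplicit false
set_option linter.style.haveILetI false
set_option linter.unusedSectionVars false
set_option linter.unusedVariables false

/-!
# Tor independence and extension of scalars of restricted K-flat complexes
-/

open CategoryTheory CategoryTheory.Limits MonoidalCategory

universe u

namespace Groth.Agent.Helper9.TBC4

open Groth.Agent.Helper6 Groth.Agent.Helper6.TenCx Groth.Agent.Helper3.DRingLib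

variable {R A R' : Type u} [CommRing R] [CommRing A] [CommRing R'] (φ : R →+* A) (ρ : R →+* R')

/-- extension of scalars of `α` is a quasi-isomorphism as soon as `A ⊗ α` is -/
theorem quasiIso_ext_of_whiskerLeft {P Q : DRing.Cx R} (α : P ⟶ Q)
    (h1 : QuasiIso ((DTen.resCx φ).obj (𝟙_ (DRing.Cx A)) ◁ α)) :
    QuasiIso ((DTen.extCx φ).map α) := by
  apply ExtKFlat.quasiIso_of_res φ
  have sq := ExtTen.θ_naturality_right φ (𝟙_ (DRing.Cx A)) α
  haveI : QuasiIso ((DTen.resCx φ).map (𝟙_ (DRing.Cx A) ◁ (DTen.extCx φ).map α)) := by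
    have h2 : (DTen.resCx φ).map (𝟙_ (DRing.Cx A) ◁ (DTen.extCx φ).map α) =
        inv (ExtTen.θ φ (𝟙_ (DRing.Cx A)) P) ≫
          ((DTen.resCx φ).obj (𝟙_ (DRing.Cx A)) ◁ α) ≫ ExtTen.θ φ (𝟙_ (DRing.Cx A)) Q := by
      rw [sq, IsIso.inv_hom_id_assoc]
    rw [h2]
    infer_instance
  have h3 : (DTen.extCx φ).map α =
      (λ_ ((DTen.extCx φ).obj P)).inv ≫ (𝟙_ (DRing.Cx A) ◁ (DTen.extCx φ).map α) ≫
        (λ_ ((DTen.extCx φ).obj Q)).hom := by
    rw [MonoidalCategory.leftUnitor_naturality, Iso.inv_hom_id_assoc]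
  rw [h3, Functor.map_comp, Functor.map_comp]
  infer_instance

/-- **Tor independence.** Let `t : F ⟶ R'` be a K-flat resolution (over `R`) of `R'` such that
`A ⊗_R t` is still a quasi-isomorphism.  Then for every K-flat complex `P` of `A`-modules and every
K-flat resolution `s : G ⟶ P|_R` over `R`, the map `s ⊗_R R'` is a quasi-isomorphism. -/
theorem quasiIso_ext_res {F : DRing.Cx R} (t : F ⟶ (DTen.resCx ρ).obj (𝟙_ (DRing.Cx R')))
    (hF : KFlat F) (ht : QuasiIso t) (ht' : QuasiIso ((DTen.extCx φ).map t))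
    (P : DRing.Cx A) (hP : KFlat P) {G : DRing.Cx R} (s : G ⟶ (DTen.resCx φ).obj P)
    (hG : KFlat G) (hs : QuasiIso s) : QuasiIso ((DTen.extCx ρ).map s) := by
  apply quasiIso_ext_of_whiskerLeft ρ
  -- step (iv): `X ◁ t` is a quasi-isomorphism
  have h4 : QuasiIso ((DTen.resCx φ).obj P ◁ t) := by
    haveI q1 : QuasiIso (P ◁ (DTen.extCx φ).map t) := quasiIso_whiskerLeft hP _ ht'
    haveI q2 : QuasiIso ((DTen.resCx φ).map (P ◁ (DTen.extCx φ).map t)) := inferInstance
    have sq := ExtTen.θ_naturality_right φ P t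
    have e : (DTen.resCx φ).obj P ◁ t = ExtTen.θ φ P F ≫ (DTen.resCx φ).map (P ◁ (DTen.extCx φ).map t) ≫
        inv (ExtTen.θ φ P ((DTen.resCx ρ).obj (𝟙_ (DRing.Cx R')))) := by
      rw [← Category.assoc, ← sq, Category.assoc, IsIso.hom_inv_id, Category.comp_id]
    rw [e]
    infer_instance
  -- step (iii): `t ▷ X` is a quasi-isomorphism
  have h3 : QuasiIso (t ▷ (DTen.resCx φ).obj P) := by
    have hb := DTen.braidCx_naturality t (𝟙 ((DTen.resCx φ).obj P))
    rw [MonoidalCategory.tensorHom_id, MonoidalCategory.id_tensorHom] at hb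
    have e : t ▷ (DTen.resCx φ).obj P = (DTen.braidCx F ((DTen.resCx φ).obj P)).hom ≫ ((DTen.resCx φ).obj P ◁ t) ≫ (DTen.braidCx ((DTen.resCx ρ).obj (𝟙_ (DRing.Cx R'))) ((DTen.resCx φ).obj P)).inv := by
      rw [← Category.assoc, ← hb, Category.assoc, Iso.hom_inv_id, Category.comp_id]
    rw [e]
    infer_instance
  -- step (ii): exchange
  haveI q3 : QuasiIso (t ▷ G) := quasiIso_whiskerRight hG t ht
  haveI q4 : QuasiIso (F ◁ s) := quasiIso_whiskerLeft hF s hs
  have sq : (F ◁ s) ≫ (t ▷ (DTen.resCx φ).obj P) = (t ▷ G) ≫ ((DTen.resCx ρ).obj (𝟙_ (DRing.Cx R')) ◁ s) := MonoidalCategory.whisker_exchange t s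
  haveI : QuasiIso ((t ▷ G) ≫ ((DTen.resCx ρ).obj (𝟙_ (DRing.Cx R')) ◁ s)) := by
    rw [← sq]
    infer_instance
  exact quasiIso_of_comp_left (t ▷ G) ((DTen.resCx ρ).obj (𝟙_ (DRing.Cx R')) ◁ s)

end Groth.Agent.Helper9.TBC4
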