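import Mathlib

set_option autoImplicit false
set_option linter.style.haveILetI false
set_option linter.unusedSectionVars false
set_option linter.unusedVariables false

/-!
# A right exact functor with vanishing higher derived functors at `X` preserves the
quasi-isomorphism from a projective resolution of `X` (as cochain complexes indexed by `ℤ`)
-/

open CategoryTheory CategoryTheory.Limits

universe v₁ v₂ u₁ u₂

namespace Groth.Agent.Helper9.TBC5

variable {C : Type u₁} [Category.{v₁} C] [Abelian C] {D : Type u₂} [Category.{v₂} D] [Abelian D]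
  (T : C ⥤ D) [T.Additive] {X : C} (P : ProjectiveResolution X)

/-- the short complexes of `T(P.cochainComplex)` and `T(P.complex)` -/
noncomputable def scIso (n₁ n₂ n₃ : ℤ) (k₁ k₂ k₃ : ℕ) (h₁ : -(k₁ : ℤ) = n₁) (h₂ : -(k₂ : ℤ) = n₂)
    (h₃ : -(k₃ : ℤ) = n₃) :
    ((T.mapHomologicalComplex (ComplexShape.up ℤ)).obj P.cochainComplex).sc' n₁ n₂ n₃ ≅
      ((T.mapHomologicalComplex (ComplexShape.down ℕ)).obj P.complex).sc' k₁ k₂ k₃ :=
  ShortComplex.isoMk (T.mapIso (P.cochainComplexXIso n₁ k₁ h₁))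
    (T.mapIso (P.cochainComplexXIso n₂ k₂ h₂)) (T.mapIso (P.cochainComplexXIso n₃ k₃ h₃))
    (by
      change T.map (P.cochainComplexXIso n₁ k₁ h₁).hom ≫ T.map (P.complex.d k₁ k₂) =
        T.map (P.cochainComplex.d n₁ n₂) ≫ T.map (P.cochainComplexXIso n₂ k₂ h₂).hom
      rw [P.cochainComplex_d n₁ n₂ k₁ k₂ h₁ h₂, ← T.map_comp, ← T.map_comp]
      simp)
    (by
      change T.map (P.cochainComplexXIso n₂ k₂ h₂).hom ≫ T.map (P.complex.d k₂ k₃) =
        T.map (P.cochainComplex.d n₂ n₃) ≫ T.map (P.cochainComplexXIso n₃ k₃ h₃).hom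
      rw [P.cochainComplex_d n₂ n₃ k₂ k₃ h₂ h₃, ← T.map_comp, ← T.map_comp]
      simp)

lemma exactAt_neg (k : ℕ)
    (hT : IsZero (((T.mapHomologicalComplex (ComplexShape.down ℕ)).obj P.complex).homology (k + 1))) :
    ((T.mapHomologicalComplex (ComplexShape.up ℤ)).obj P.cochainComplex).ExactAt (-((k : ℤ) + 1)) := by
  rw [HomologicalComplex.exactAt_iff' _ (-((k : ℤ) + 2)) (-((k : ℤ) + 1)) (-(k : ℤ))
    (by simp; ring) (by simp)]
  rw [ShortComplex.exact_iff_of_iso (scIso T P _ _ _ (k + 2) (k + 1) k (by simp) (by simp) rfl)]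
  rw [← HomologicalComplex.exactAt_iff' _ (k + 2) (k + 1) k (by simp) (by simp)]
  rw [HomologicalComplex.exactAt_iff_isZero_homology]
  exact hT

lemma exactAt_of_isZero {ι : Type*} {c : ComplexShape ι} (K : HomologicalComplex D c) (i : ι)
    (h : IsZero (K.X i)) : K.ExactAt i :=
  ShortComplex.exact_of_isZero_X₂ _ h

/-- the augmentation `P₀ ⟶ X` -/
noncomputable def p0 : P.complex.X 0 ⟶ X := P.π.f 0

lemma d_p0 : P.complex.d 1 0 ≫ p0 P = 0 := P.complex_d_comp_π_f_zero

variable (X) in
/-- the degree zero term of `X[0]` -/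
noncomputable def sX : ((CochainComplex.singleFunctor C 0).obj X).X 0 ≅ X :=
  HomologicalComplex.singleObjXSelf (ComplexShape.up ℤ) 0 X

lemma π'_f_zero' : P.π'.f 0 = (P.cochainComplexXIso 0 0 (by simp)).hom ≫ p0 P ≫
    (sX X).inv := P.π'_f_zero

variable [PreservesFiniteColimits T]

/-- the right exact functor `T` applied to `P₁ ⟶ P₀ ⟶ X` -/
lemma exact_and_epi :
    (ShortComplex.mk (T.map (P.complex.d 1 0)) (T.map (p0 P))
      (by rw [← T.map_comp, d_p0, T.map_zero])).Exact ∧
      Epi (T.map (p0 P)) := by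
  rw [ShortComplex.exact_and_epi_g_iff_g_is_cokernel]
  exact ⟨CokernelCofork.mapIsColimit _ (P.isColimitCokernelCofork) T⟩

theorem quasiIso_map_π'
    (hT : ∀ k : ℕ, IsZero (((T.mapHomologicalComplex (ComplexShape.down ℕ)).obj
      P.complex).homology (k + 1))) :
    QuasiIso ((T.mapHomologicalComplex (ComplexShape.up ℤ)).map P.π') := by
  rw [quasiIso_iff]
  intro n
  rcases lt_trichotomy n 0 with hn | rfl | hn
  · obtain ⟨k, rfl⟩ : ∃ k : ℕ, n = -((k : ℤ) + 1) := ⟨(-n - 1).toNat, by omega⟩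
    rw [quasiIsoAt_iff_exactAt _ _ (exactAt_neg T P k (hT k))]
    apply exactAt_of_isZero
    exact T.map_isZero (HomologicalComplex.isZero_single_obj_X (ComplexShape.up ℤ) 0 X _ (by omega))
  · have hg₁ : (((T.mapHomologicalComplex (ComplexShape.up ℤ)).obj P.cochainComplex).sc'
        (-1) 0 1).g = 0 :=
      (T.map_isZero (CochainComplex.isZero_of_isStrictlyLE P.cochainComplex 0 1
        (by omega))).eq_of_tgt _ _
    have hf₂ : (((T.mapHomologicalComplex (ComplexShape.up ℤ)).obj
        ((CochainComplex.singleFunctor C 0).obj X)).sc' (-1) 0 1).f = 0 :=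
      (T.map_isZero (HomologicalComplex.isZero_single_obj_X (ComplexShape.up ℤ) 0 X (-1)
        (by omega))).eq_of_src _ _
    have hg₂ : (((T.mapHomologicalComplex (ComplexShape.up ℤ)).obj
        ((CochainComplex.singleFunctor C 0).obj X)).sc' (-1) 0 1).g = 0 :=
      (T.map_isZero (HomologicalComplex.isZero_single_obj_X (ComplexShape.up ℤ) 0 X 1
        (by omega))).eq_of_tgt _ _
    rw [quasiIsoAt_iff' _ (-1) 0 1 (by simp) (by simp)]
    rw [ShortComplex.quasiIso_iff_of_zeros' _ hg₁ hf₂ hg₂]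
    obtain ⟨hex, hepi⟩ := exact_and_epi T P
    have hπ : P.π'.f 0 ≫ (sX X).hom =
        (P.cochainComplexXIso 0 0 (by simp)).hom ≫ p0 P := by
      rw [π'_f_zero', Category.assoc, Category.assoc, Iso.inv_hom_id, Category.comp_id]
    constructor
    · refine (ShortComplex.exact_iff_of_iso (ShortComplex.isoMk
        (T.mapIso (P.cochainComplexXIso (-1) 1 (by simp)))
        (T.mapIso (P.cochainComplexXIso 0 0 (by simp)))
        (T.mapIso (sX X)) ?_ ?_)).mpr hex
      · change T.map (P.cochainComplexXIso (-1) 1 (by simp)).hom ≫ T.map (P.complex.d 1 0) =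
          T.map (P.cochainComplex.d (-1) 0) ≫ T.map (P.cochainComplexXIso 0 0 (by simp)).hom
        rw [P.cochainComplex_d (-1) 0 1 0 (by simp) (by simp), ← T.map_comp, ← T.map_comp]
        simp
      · change T.map (P.cochainComplexXIso 0 0 (by simp)).hom ≫ T.map (p0 P) =
          T.map (P.π'.f 0) ≫ T.map (sX X).hom
        rw [← T.map_comp, ← T.map_comp, hπ]
    · change Epi (T.map (P.π'.f 0))
      have e : T.map (P.π'.f 0) = T.map (P.cochainComplexXIso 0 0 (by simp)).hom ≫
          T.map (p0 P) ≫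
          T.map (sX X).inv := by
        rw [← T.map_comp, ← T.map_comp, ← π'_f_zero']
      rw [e]
      infer_instance
  · rw [quasiIsoAt_iff_exactAt _ _ (exactAt_of_isZero _ _
      (T.map_isZero (CochainComplex.isZero_of_isStrictlyLE P.cochainComplex 0 n hn)))]
    apply exactAt_of_isZero
    exact T.map_isZero (HomologicalComplex.isZero_single_obj_X (ComplexShape.up ℤ) 0 X _ (by omega))

end Groth.Agent.Helper9.TBC5
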