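import Mathlib
import Groth.Prelude.Def_DTen4
import Groth.Prelude.Def_DRing2
import Groth.Agent.Helper6.ExtKFlat
import Groth.Agent.Helper3.DRingBC
import Groth.Agent.Helper6.TenCxBdd
import Groth.Agent.Helper9.TBC5

set_option autoImplicit false
set_option linter.style.haveILetI false
set_option linter.unusedSectionVars false
set_option linter.unusedVariables false

/-!
# Extension followed by restriction of scalars as a tensor product functor
-/

open CategoryTheory CategoryTheory.Limits MonoidalCategory TensorProduct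

universe u

namespace Groth.Agent.Helper9.TBC6

open Groth.Agent.Helper6 Groth.Agent.Helper6.TenCx Groth.Agent.Helper3.DRingLib

variable {R A : Type u} [CommRing R] [CommRing A] (φ : R →+* A)

/-- `A` as an `R`-module -/
noncomputable abbrev Y : ModuleCat.{u} R := (ModuleCat.restrictScalars.{u} φ).obj (ModuleCat.of A A)

/-- `A ⊗_R M` as an `R`-module is `(extendScalars M)|_R` -/
noncomputable def νEquiv (M : ModuleCat.{u} R) :
    ↑(Y φ ⊗ M) ≃ₗ[R]
      ↑((ModuleCat.restrictScalars.{u} φ).obj ((ModuleCat.extendScalars.{u, u, u} φ).obj M)) where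
  toFun x := x
  invFun x := x
  left_inv _ := rfl
  right_inv _ := rfl
  map_add' _ _ := rfl
  map_smul' r x := by
    dsimp only [RingHom.id_apply]
    change r • x = (φ r) • (show ↑((ModuleCat.extendScalars.{u, u, u} φ).obj M) from x)
    induction x using TensorProduct.induction_on with
    | zero =>
      rw [smul_zero]
      exact (smul_zero (A := ↑((ModuleCat.extendScalars.{u, u, u} φ).obj M)) (φ r)).symm
    | tmul a m =>
      rw [TensorProduct.smul_tmul']
      exact (ModuleCat.ExtendScalars.smul_tmul (f := φ) (φ r) a m).symm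
    | add x y hx hy =>
      rw [smul_add, hx, hy]
      exact (smul_add (A := ↑((ModuleCat.extendScalars.{u, u, u} φ).obj M)) (φ r) x y).symm

/-- `A ⊗_R -` is extension followed by restriction of scalars -/
noncomputable def ν : tensorLeft (Y φ) ≅
    ModuleCat.extendScalars.{u, u, u} φ ⋙ ModuleCat.restrictScalars.{u} φ :=
  NatIso.ofComponents (fun M => (νEquiv φ M).toModuleIso) (by
    intro M M' g
    refine ModuleCat.hom_ext (TensorProduct.ext' fun a m => ?_)
    rfl)

/-- the same for complexes -/
noncomputable def νCx (K : DRing.Cx R) :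
    ((tensorLeft (Y φ)).mapHomologicalComplex (ComplexShape.up ℤ)).obj K ≅
      (DTen.resCx φ).obj ((DTen.extCx φ).obj K) :=
  HomologicalComplex.Hom.isoOfComponents (fun i => (ν φ).app (K.X i))
    (fun i j _ => ((ν φ).hom.naturality (K.d i j)).symm)

lemma νCx_naturality {K K' : DRing.Cx R} (g : K ⟶ K') :
    ((tensorLeft (Y φ)).mapHomologicalComplex (ComplexShape.up ℤ)).map g ≫ (νCx φ K').hom =
      (νCx φ K).hom ≫ (DTen.resCx φ).map ((DTen.extCx φ).map g) := by
  ext i : 1
  exact (ν φ).hom.naturality (g.f i)

theorem quasiIso_ext_of_tensorLeft {K K' : DRing.Cx R} (g : K ⟶ K')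
    (hg : QuasiIso (((tensorLeft (Y φ)).mapHomologicalComplex (ComplexShape.up ℤ)).map g)) :
    QuasiIso ((DTen.extCx φ).map g) := by
  apply ExtKFlat.quasiIso_of_res φ
  have e : (DTen.resCx φ).map ((DTen.extCx φ).map g) =
      (νCx φ K).inv ≫ ((tensorLeft (Y φ)).mapHomologicalComplex (ComplexShape.up ℤ)).map g ≫
        (νCx φ K').hom := by
    rw [νCx_naturality, Iso.inv_hom_id_assoc]
  rw [e]
  infer_instance

section Tor

variable (R A R' : Type u) [CommRing R] [CommRing A] [CommRing R'] [Algebra R A] [Algebra R R']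

/-- `R'` as an `R`-module (restriction of the monoidal unit) -/
noncomputable abbrev Z : ModuleCat.{u} R :=
  (ModuleCat.restrictScalars.{u} (algebraMap R R')).obj (𝟙_ (ModuleCat.{u} R'))

variable {R A R'}

theorem isZero_homology_of_tor
    (htor : ∀ p : ℕ, 1 ≤ p → Subsingleton (DRing.Tor R p A R'))
    (P : ProjectiveResolution (Z R R')) (k : ℕ) :
    IsZero ((((tensorLeft (Y (algebraMap R A))).mapHomologicalComplex
      (ComplexShape.down ℕ)).obj P.complex).homology (k + 1)) := by
  have iso1 := P.isoLeftDerivedObj (tensorLeft (Y (algebraMap R A))) (k + 1)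
  refine IsZero.of_iso ?_ iso1.symm
  let iY : Y (algebraMap R A) ≅ ModuleCat.of R A :=
    (restrictSelfEquiv (A := R) (B := A)).toModuleIso
  let iZ : Z R R' ≅ ModuleCat.of R R' :=
    (restrictSelfEquiv (A := R) (B := R')).toModuleIso
  have iso2 : ((tensorLeft (Y (algebraMap R A))).leftDerived (k + 1)).obj (Z R R') ≅
      ((Tor (ModuleCat.{u} R) (k + 1)).obj (ModuleCat.of R A)).obj (ModuleCat.of R R') :=
    ((Tor (ModuleCat.{u} R) (k + 1)).mapIso iY).app (Z R R') ≪≫
      ((Tor (ModuleCat.{u} R) (k + 1)).obj (ModuleCat.of R A)).mapIso iZ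
  refine IsZero.of_iso ?_ iso2
  haveI := htor (k + 1) (by omega)
  exact ModuleCat.isZero_of_subsingleton _

/-- **Tor independence gives a K-flat resolution of `R'` which stays a resolution after
`A ⊗_R -`.** -/
theorem exists_resolution (htor : ∀ p : ℕ, 1 ≤ p → Subsingleton (DRing.Tor R p A R')) :
    ∃ (F : DRing.Cx R) (t : F ⟶ (DTen.resCx (algebraMap R R')).obj (𝟙_ (DRing.Cx R'))),
      KFlat F ∧ QuasiIso t ∧ QuasiIso ((DTen.extCx (algebraMap R A)).map t) := by
  let P : ProjectiveResolution (Z R R') := ProjectiveResolution.of _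
  let j : (CochainComplex.singleFunctor (ModuleCat.{u} R) 0).obj (Z R R') ≅
      (DTen.resCx (algebraMap R R')).obj (𝟙_ (DRing.Cx R')) :=
    ((HomologicalComplex.singleMapHomologicalComplex (ModuleCat.restrictScalars.{u}
      (algebraMap R R')) (ComplexShape.up ℤ) 0).app (𝟙_ (ModuleCat.{u} R'))).symm
  refine ⟨P.cochainComplex, P.π' ≫ j.hom, ?_, ?_, ?_⟩
  · apply TenCx.kflat_of_boundedAbove_flat _ 0
    · intro i hi
      exact CochainComplex.isZero_of_isStrictlyLE _ 0 i hi
    · intro i
      haveI : Projective (P.cochainComplex.X i) := inferInstance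
      haveI : Module.Projective R (P.cochainComplex.X i) :=
        (IsProjective.iff_projective (R := R) (P := ↑(P.cochainComplex.X i))).mpr this
      infer_instance
  · infer_instance
  · rw [Functor.map_comp]
    haveI := quasiIso_ext_of_tensorLeft (algebraMap R A) P.π'
      (TBC5.quasiIso_map_π' _ P (isZero_homology_of_tor htor P))
    infer_instance

end Tor

end Groth.Agent.Helper9.TBC6
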