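import Mathlib
import Groth.Prelude.Def_TrivBC
import Groth.Prelude.Def_DRing2
import Groth.Agent.Helper9.TBC1
import Groth.Agent.Helper9.TBC3
import Groth.Agent.Helper9.TBC4
import Groth.Agent.Helper9.TBC6

set_option autoImplicit false
set_option linter.style.haveILetI false
set_option linter.unusedSectionVars false
set_option linter.unusedVariables false

/-!
# Tor independent base change: the comparison `cmp` is an isomorphism
-/

open CategoryTheory CategoryTheory.Limits DerivedCategory

universe u

attribute [local instance] HasDerivedCategory.standard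

namespace Groth.Agent.Helper9.TBC7

open Groth.Agent.Helper6 Groth.Agent.Helper6.TenCx

section Nat

variable {R A R' A' : Type u} [CommRing R] [CommRing A] [CommRing R'] [CommRing A']
  {φ : R →+* A} {ρ : R →+* R'} {α : A →+* A'} {φ' : R' →+* A'}
  [DRing.HasLBaseChange ρ] [DRing.HasLBaseChange α]
  (adjρ : DRing.LBaseChange ρ ⊣ DRing.restrictD ρ) (adjα : DRing.LBaseChange α ⊣ DRing.restrictD α)
  (h : α.comp φ = φ'.comp ρ)

/-- naturality of the comparison map -/
lemma cmp_naturality {K K' : Dual.D A} (f : K ⟶ K') :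
    (DRing.LBaseChange ρ).map ((DRing.restrictD φ).map f) ≫ TrivBC.cmp adjρ adjα h K' =
      TrivBC.cmp adjρ adjα h K ≫ (DRing.restrictD φ').map ((DRing.LBaseChange α).map f) := by
  apply (adjρ.homEquiv _ _).injective
  rw [Adjunction.homEquiv_naturality_left, Adjunction.homEquiv_naturality_right]
  dsimp only [TrivBC.cmp]
  rw [Equiv.apply_symm_apply, Equiv.apply_symm_apply]
  have n1 := adjα.unit.naturality f
  have n2 := (TrivBC.resComm h).hom.naturality ((DRing.LBaseChange α).map f)
  dsimp at n1 n2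
  rw [Category.assoc, ← n2, ← Category.assoc, ← Category.assoc, ← Functor.map_comp,
    ← Functor.map_comp, n1]

lemma isIso_cmp_of_iso {K K' : Dual.D A} (e : K ≅ K') (hK : IsIso (TrivBC.cmp adjρ adjα h K)) :
    IsIso (TrivBC.cmp adjρ adjα h K') := by
  have hn := cmp_naturality adjρ adjα h e.hom
  have h2 : TrivBC.cmp adjρ adjα h K' =
      inv ((DRing.LBaseChange ρ).map ((DRing.restrictD φ).map e.hom)) ≫
        TrivBC.cmp adjρ adjα h K ≫ (DRing.restrictD φ').map ((DRing.LBaseChange α).map e.hom) := by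
    rw [← hn, IsIso.inv_hom_id_assoc]
  rw [h2]
  infer_instance

end Nat

theorem main (R A R' A' : Type u) [CommRing R] [CommRing A] [CommRing R'] [CommRing A']
    [Algebra R A] [Algebra R R'] [Algebra A A'] [Algebra R' A'] [Algebra R A']
    [IsScalarTower R A A'] [IsScalarTower R R' A'] [Algebra.IsPushout R A R' A']
    (htor : ∀ p : ℕ, 1 ≤ p → Subsingleton (DRing.Tor R p A R'))
    [DRing.HasLBaseChange (algebraMap R R')] [DRing.HasLBaseChange (algebraMap A A')]
    (adjρ : DRing.LBaseChange (algebraMap R R') ⊣ DRing.restrictD (algebraMap R R'))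
    (adjα : DRing.LBaseChange (algebraMap A A') ⊣ DRing.restrictD (algebraMap A A'))
    (h : (algebraMap A A').comp (algebraMap R A) = (algebraMap R' A').comp (algebraMap R R'))
    (K : Dual.D A) : IsIso (TrivBC.cmp adjρ adjα h K) := by
  haveI : Algebra.IsPushout R R' A A' := Algebra.IsPushout.symm inferInstance
  obtain ⟨P, hP, hPf, ⟨i⟩⟩ := LBCAdj.exists_kproj K
  haveI := hP
  obtain ⟨F, t, hF, ht, ht'⟩ := TBC6.exists_resolution (R := R) (A := A) (R' := R') htor
  obtain ⟨G, s, hG, hGf, -, hs, -⟩ :=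
    KProjRes.exists_resolution ((DTen.resCx (algebraMap R A)).obj P)
  haveI := hG
  have hs' : QuasiIso ((DTen.extCx (algebraMap R R')).map s) :=
    TBC4.quasiIso_ext_res (algebraMap R A) (algebraMap R R') t hF ht ht' P hPf s hGf hs
  have hbc : IsIso (TBC1.bc adjρ ((DTen.resCx (algebraMap R A)).obj P)) :=
    TBC1.isIso_bc_of_quasiIso adjρ _ s hs hs'
  have hQ : IsIso (TrivBC.cmp adjρ adjα h (Q.obj P)) :=
    TBC3.isIso_cmp_of_isIso_bc adjρ adjα h P hbc
  exact isIso_cmp_of_iso adjρ adjα h ((quotientCompQhIso _).symm.app P ≪≫ i) hQ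

end Groth.Agent.Helper9.TBC7
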