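import Mathlib
import Groth.Prelude.Def_TrivBC
import Groth.Prelude.Def_DRing2
import Groth.Agent.Helper9.TBC7

set_option autoImplicit false
set_option linter.style.haveILetI false
set_option linter.unusedSectionVars false
set_option linter.unusedVariables false

/-!
# Flat base change: the comparison `cmp` is an isomorphism (no Tor hypothesis)
-/

open CategoryTheory CategoryTheory.Limits DerivedCategory MonoidalCategory

universe u

attribute [local instance] HasDerivedCategory.standard

namespace Groth.Agent.Helper9.TBC9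

open Groth.Agent.Helper6 Groth.Agent.Helper6.TenCx Groth.Agent.Helper9.TBC6
  Groth.Agent.Helper3.DRingLib

/-- for flat `R'`, the complex `R'[0]` is a K-flat resolution of itself which stays a resolution
after `A ⊗_R -` -/
theorem exists_resolution (R A R' : Type u) [CommRing R] [CommRing A] [CommRing R']
    [Algebra R A] [Algebra R R'] [Module.Flat R R'] :
    ∃ (F : DRing.Cx R) (t : F ⟶ (DTen.resCx (algebraMap R R')).obj (𝟙_ (DRing.Cx R'))),
      KFlat F ∧ QuasiIso t ∧ QuasiIso ((DTen.extCx (algebraMap R A)).map t) := by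
  let j : (CochainComplex.singleFunctor (ModuleCat.{u} R) 0).obj (Z R R') ≅
      (DTen.resCx (algebraMap R R')).obj (𝟙_ (DRing.Cx R')) :=
    ((HomologicalComplex.singleMapHomologicalComplex (ModuleCat.restrictScalars.{u}
      (algebraMap R R')) (ComplexShape.up ℤ) 0).app (𝟙_ (ModuleCat.{u} R'))).symm
  refine ⟨_, j.hom, ?_, inferInstance, inferInstance⟩
  apply TenCx.kflat_of_boundedAbove_flat _ 0
  · intro i hi
    exact HomologicalComplex.isZero_single_obj_X (ComplexShape.up ℤ) 0 _ i (by omega)
  · intro i
    by_cases hi : i = 0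
    · subst hi
      let e : ((CochainComplex.singleFunctor (ModuleCat.{u} R) 0).obj (Z R R')).X 0 ≃ₗ[R] R' :=
        (HomologicalComplex.singleObjXSelf (ComplexShape.up ℤ) 0 (Z R R')).toLinearEquiv ≪≫ₗ
          (restrictSelfEquiv (A := R) (B := R'))
      exact Module.Flat.of_linearEquiv e
    · have hz : IsZero (((CochainComplex.singleFunctor (ModuleCat.{u} R) 0).obj (Z R R')).X i) :=
        HomologicalComplex.isZero_single_obj_X (ComplexShape.up ℤ) 0 (Z R R') i hi
      haveI : Subsingleton
          ↑(((CochainComplex.singleFunctor (ModuleCat.{u} R) 0).obj (Z R R')).X i) :=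
        ModuleCat.subsingleton_of_isZero hz
      haveI : Module.Free R
          ↑(((CochainComplex.singleFunctor (ModuleCat.{u} R) 0).obj (Z R R')).X i) :=
        Module.Free.of_subsingleton R _
      exact Module.Flat.of_free

theorem main (R A R' A' : Type u) [CommRing R] [CommRing A] [CommRing R'] [CommRing A']
    [Algebra R A] [Algebra R R'] [Algebra A A'] [Algebra R' A'] [Algebra R A']
    [IsScalarTower R A A'] [IsScalarTower R R' A'] [Algebra.IsPushout R A R' A']
    [Module.Flat R R']
    [DRing.HasLBaseChange (algebraMap R R')] [DRing.HasLBaseChange (algebraMap A A')]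
    (adjρ : DRing.LBaseChange (algebraMap R R') ⊣ DRing.restrictD (algebraMap R R'))
    (adjα : DRing.LBaseChange (algebraMap A A') ⊣ DRing.restrictD (algebraMap A A'))
    (h : (algebraMap A A').comp (algebraMap R A) = (algebraMap R' A').comp (algebraMap R R'))
    (K : Dual.D A) : IsIso (TrivBC.cmp adjρ adjα h K) := by
  haveI : Algebra.IsPushout R R' A A' := Algebra.IsPushout.symm inferInstance
  obtain ⟨P, hP, hPf, ⟨i⟩⟩ := LBCAdj.exists_kproj K
  haveI := hP
  obtain ⟨F, t, hF, ht, ht'⟩ := exists_resolution R A R'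
  obtain ⟨G, s, hG, hGf, -, hs, -⟩ :=
    KProjRes.exists_resolution ((DTen.resCx (algebraMap R A)).obj P)
  haveI := hG
  have hs' : QuasiIso ((DTen.extCx (algebraMap R R')).map s) :=
    TBC4.quasiIso_ext_res (algebraMap R A) (algebraMap R R') t hF ht ht' P hPf s hGf hs
  have hbc : IsIso (TBC1.bc adjρ ((DTen.resCx (algebraMap R A)).obj P)) :=
    TBC1.isIso_bc_of_quasiIso adjρ _ s hs hs'
  have hQ : IsIso (TrivBC.cmp adjρ adjα h (Q.obj P)) :=
    TBC3.isIso_cmp_of_isIso_bc adjρ adjα h P hbc
  exact TBC7.isIso_cmp_of_iso adjρ adjα h ((quotientCompQhIso _).symm.app P ≪≫ i) hQ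

end Groth.Agent.Helper9.TBC9
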