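import Mathlib
import Groth.Prelude.Def_TrivBC
import Groth.Prelude.Def_DRing2
import Groth.Agent.Helper9.FB4
import Groth.Agent.Helper9.TBC9
import Groth.Agent.Helper3.DRingRestr2

set_option autoImplicit false
set_option linter.style.haveILetI false
set_option linter.unusedSectionVars false

/-!
# Flat base change for the right adjoint of restriction (`RHom(A, -)`), pseudo-coherent case
-/

open CategoryTheory CategoryTheory.Limits DerivedCategory Pretriangulated

universe u

attribute [local instance] HasDerivedCategory.standard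

namespace Groth.Agent.Helper9.FB5

open TensorProduct Groth.Agent.Helper9.FB1 Groth.Agent.Helper9.FB2 Groth.Agent.Helper9.FB4
  Groth.Agent.Helper6 Groth.Agent.Helper6.DTenG

section semilinear

variable {R A : Type u} [CommRing R] [CommRing A] {φ : R →+* A}
  {G : Dual.D R ⥤ Dual.D A} (adj : DRing.restrictD φ ⊣ G)

lemma homEquiv_symm_smul {Y : Dual.D A} {K : Dual.D R} (r : R) (g : Y ⟶ G.obj K) :
    (adj.homEquiv Y K).symm (φ r • g) = r • (adj.homEquiv Y K).symm g := by
  rw [Adjunction.homEquiv_counit, Adjunction.homEquiv_counit, SV5.res_map_smul,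
    Linear.smul_comp]

lemma homEquiv_smul {Y : Dual.D A} {K : Dual.D R} (r : R) (f : (DRing.restrictD φ).obj Y ⟶ K) :
    adj.homEquiv Y K (r • f) = φ r • adj.homEquiv Y K f := by
  apply (adj.homEquiv Y K).symm.injective
  rw [homEquiv_symm_smul, Equiv.symm_apply_apply, Equiv.symm_apply_apply]

lemma homEquiv_add {Y : Dual.D A} {K : Dual.D R} (f f' : (DRing.restrictD φ).obj Y ⟶ K) :
    adj.homEquiv Y K (f + f') = adj.homEquiv Y K f + adj.homEquiv Y K f' := by
  apply (adj.homEquiv Y K).symm.injective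
  rw [Equiv.symm_apply_apply, Adjunction.homEquiv_counit, Functor.map_add,
    Preadditive.add_comp, ← Adjunction.homEquiv_counit, ← Adjunction.homEquiv_counit,
    Equiv.symm_apply_apply, Equiv.symm_apply_apply]

end semilinear

lemma isPseudoCoherent'_T (A : Type u) [CommRing A] (i : ℤ) : DRing.IsPseudoCoherent' A (T A i) := by
  refine ⟨Sg A i, i, ?_, ?_, ⟨Iso.refl _⟩⟩
  · intro j hj
    exact HomologicalComplex.isZero_single_obj_X (ComplexShape.up ℤ) i _ j (by omega)
  · intro j
    by_cases hj : j = i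
    · subst hj
      let e : (Sg A j).X j ≃ₗ[A] A :=
        (HomologicalComplex.singleObjXSelf (ComplexShape.up ℤ) j (ModuleCat.of A A)).toLinearEquiv
      exact ⟨Module.Finite.equiv e.symm, Module.Free.of_equiv e.symm⟩
    · have hz : IsZero ((Sg A i).X j) :=
        HomologicalComplex.isZero_single_obj_X (ComplexShape.up ℤ) i _ j hj
      haveI : Subsingleton ↑((Sg A i).X j) := ModuleCat.subsingleton_of_isZero hz
      exact ⟨inferInstance, Module.Free.of_subsingleton A _⟩

section main

variable {R A R' A' : Type u} [CommRing R] [CommRing A] [CommRing R'] [CommRing A']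
    [Algebra R A] [Algebra R R'] [Algebra A A'] [Algebra R' A'] [Algebra R A']
    [IsScalarTower R A A'] [IsScalarTower R R' A']
    [DRing.HasLBaseChange (algebraMap R R')] [DRing.HasLBaseChange (algebraMap A A')]
    [hFρ : (DRing.LBaseChange (algebraMap R R')).Additive]
    [hFα : (DRing.LBaseChange (algebraMap A A')).Additive]
    (adjρ : DRing.LBaseChange (algebraMap R R') ⊣ DRing.restrictD (algebraMap R R'))
    (adjα : DRing.LBaseChange (algebraMap A A') ⊣ DRing.restrictD (algebraMap A A'))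
    (h : (algebraMap A A').comp (algebraMap R A) = (algebraMap R' A').comp (algebraMap R R'))
    {Rφ : Dual.D R ⥤ Dual.D A} (adj : DRing.restrictD (algebraMap R A) ⊣ Rφ)
    {Rφ' : Dual.D R' ⥤ Dual.D A'} (adj' : DRing.restrictD (algebraMap R' A') ⊣ Rφ')

include h in
lemma alg_comm (r : R) : algebraMap A A' (algebraMap R A r) = algebraMap R' A' (algebraMap R R' r) :=
  congrArg (fun f => f r) h

/-- the map `r' ⊗ f ↦ φ'(r') • (f^♯ ⊗ A')` -/
noncomputable def Ψ (Y : Dual.D A) (K : Dual.D R) :
    R' ⊗[R] ((DRing.restrictD (algebraMap R A)).obj Y ⟶ K) →+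
      ((DRing.LBaseChange (algebraMap A A')).obj Y ⟶
        (DRing.LBaseChange (algebraMap A A')).obj (Rφ.obj K)) :=
  TensorProduct.liftAddHom
    (AddMonoidHom.mk' (fun r' => AddMonoidHom.mk'
      (fun f => algebraMap R' A' r' • (DRing.LBaseChange (algebraMap A A')).map
        (adj.homEquiv _ _ f))
      (fun f f' => by rw [homEquiv_add, Functor.map_add, smul_add]))
      (fun r' s' => by
        ext f
        change algebraMap R' A' (r' + s') • (DRing.LBaseChange (algebraMap A A')).map
            (adj.homEquiv _ _ f) =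
          algebraMap R' A' r' • (DRing.LBaseChange (algebraMap A A')).map (adj.homEquiv _ _ f) +
            algebraMap R' A' s' • (DRing.LBaseChange (algebraMap A A')).map (adj.homEquiv _ _ f)
        rw [map_add, add_smul]))
    (fun r r' f => by
      change algebraMap R' A' (r • r') • (DRing.LBaseChange (algebraMap A A')).map
          (adj.homEquiv _ _ f) =
        algebraMap R' A' r' • (DRing.LBaseChange (algebraMap A A')).map
          (adj.homEquiv _ _ (r • f))
      rw [homEquiv_smul, semilinear_of_adj adjα, Algebra.smul_def, map_mul, ← alg_comm h,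
        mul_comm, mul_smul])

lemma Ψ_tmul (Y : Dual.D A) (K : Dual.D R) (r' : R')
    (f : (DRing.restrictD (algebraMap R A)).obj Y ⟶ K) :
    Ψ adjα h adj Y K (r' ⊗ₜ[R] f) = algebraMap R' A' r' •
      (DRing.LBaseChange (algebraMap A A')).map (adj.homEquiv _ _ f) := by
  unfold Ψ
  rw [TensorProduct.liftAddHom_tmul]
  rfl

lemma u_eq (K : Dual.D R) (hc : IsIso (TrivBC.cmp adjρ adjα h (Rφ.obj K))) {Y' : Dual.D A'}
    (g : Y' ⟶ (DRing.LBaseChange (algebraMap A A')).obj (Rφ.obj K)) :
    (adj'.homEquiv _ _).symm (g ≫ TrivBC.bcMap adjρ adjα h adj adj' K hc) =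
      (DRing.restrictD (algebraMap R' A')).map g ≫ inv (TrivBC.cmp adjρ adjα h (Rφ.obj K)) ≫
        (DRing.LBaseChange (algebraMap R R')).map (adj.counit.app K) := by
  rw [Adjunction.homEquiv_naturality_left_symm]
  dsimp only [TrivBC.bcMap]
  rw [Equiv.symm_apply_apply]

lemma key (Y : Dual.D A) (K : Dual.D R) (hcY : IsIso (TrivBC.cmp adjρ adjα h Y))
    (hc : IsIso (TrivBC.cmp adjρ adjα h (Rφ.obj K)))
    (z : R' ⊗[R] ((DRing.restrictD (algebraMap R A)).obj Y ⟶ K)) :
    (adj'.homEquiv _ _).symm (Ψ adjα h adj Y K z ≫ TrivBC.bcMap adjρ adjα h adj adj' K hc) =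
      inv (TrivBC.cmp adjρ adjα h Y) ≫
        β (semilinear_of_adj adjρ) ((DRing.restrictD (algebraMap R A)).obj Y) K z := by
  rw [u_eq]
  induction z using TensorProduct.induction_on with
  | zero => simp
  | tmul r' f =>
    rw [Ψ_tmul, β_tmul, SV5.res_map_smul, Linear.smul_comp, Linear.comp_smul]
    congr 1
    have hn := TBC7.cmp_naturality adjρ adjα h (adj.homEquiv Y K f)
    have h1 : (DRing.restrictD (algebraMap R' A')).map
          ((DRing.LBaseChange (algebraMap A A')).map (adj.homEquiv Y K f)) ≫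
        inv (TrivBC.cmp adjρ adjα h (Rφ.obj K)) =
        inv (TrivBC.cmp adjρ adjα h Y) ≫ (DRing.LBaseChange (algebraMap R R')).map
          ((DRing.restrictD (algebraMap R A)).map (adj.homEquiv Y K f)) := by
      rw [IsIso.comp_inv_eq, Category.assoc, hn, IsIso.inv_hom_id_assoc]
    have h2 : (DRing.restrictD (algebraMap R A)).map (adj.homEquiv Y K f) ≫ adj.counit.app K =
        f := by
      have := Adjunction.homEquiv_counit adj Y K (adj.homEquiv Y K f)
      rw [Equiv.symm_apply_apply] at this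
      exact this.symm
    rw [reassoc_of% h1, ← Functor.map_comp, h2]
  | add x y hx hy =>
    rw [map_add, map_add, Functor.map_add, Preadditive.add_comp, hx, hy, Preadditive.comp_add]

variable [Algebra.IsPushout R A R' A'] [Module.Flat R R']

include adjα h in
lemma Ψ_surjective [Module.Flat A A'] (i : ℤ) (K : Dual.D R) :
    Function.Surjective (Ψ adjα h adj (T A i) K) := by
  have claim : ∀ (a' : A') (g₀ : T A i ⟶ Rφ.obj K),
      ∃ z, Ψ adjα h adj (T A i) K z =
        a' • (DRing.LBaseChange (algebraMap A A')).map g₀ := by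
    intro a'
    refine IsBaseChange.inductionOn (Algebra.IsPushout.out (R := R) (S := A) (R' := R') (S' := A'))
      a' (fun a' => ∀ g₀ : T A i ⟶ Rφ.obj K, ∃ z, Ψ adjα h adj (T A i) K z =
        a' • (DRing.LBaseChange (algebraMap A A')).map g₀) ?_ ?_ ?_ ?_
    · intro g₀
      exact ⟨0, by rw [map_zero, zero_smul]⟩
    · intro m g₀
      refine ⟨m ⊗ₜ[R] (adj.homEquiv _ _).symm g₀, ?_⟩
      rw [Ψ_tmul, Equiv.apply_symm_apply]
      rfl
    · intro s n hn g₀
      obtain ⟨z, hz⟩ := hn (s • g₀)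
      refine ⟨z, ?_⟩
      rw [hz, semilinear_of_adj adjα, Algebra.smul_def, mul_comm, mul_smul]
    · intro n₁ n₂ h₁ h₂ g₀
      obtain ⟨z₁, hz₁⟩ := h₁ g₀
      obtain ⟨z₂, hz₂⟩ := h₂ g₀
      exact ⟨z₁ + z₂, by rw [map_add, hz₁, hz₂, add_smul]⟩
  intro g
  obtain ⟨y, rfl⟩ := (bij_perfect adjα (isPerfect_T i) (Rφ.obj K)).2 g
  induction y using TensorProduct.induction_on with
  | zero => exact ⟨0, by rw [map_zero, map_zero]⟩
  | tmul a' g₀ =>
    obtain ⟨z, hz⟩ := claim a' g₀
    exact ⟨z, by rw [hz, β_tmul]⟩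
  | add x y hx hy =>
    obtain ⟨z₁, hz₁⟩ := hx
    obtain ⟨z₂, hz₂⟩ := hy
    exact ⟨z₁ + z₂, by rw [map_add, hz₁, hz₂, map_add]⟩

/-- **Flat base change for the right adjoint of restriction**: the base-change map of trivial
duality is an isomorphism for `A` pseudo-coherent over `R`, `R → R'` flat and `K` bounded
below. -/
theorem isIso_bcMap (hpc : DRing.IsPseudoCoherentModule' R A) (K : Dual.D R) (n : ℤ)
    (hK : K.IsGE n) (hc : IsIso (TrivBC.cmp adjρ adjα h (Rφ.obj K))) :
    IsIso (TrivBC.bcMap adjρ adjα h adj adj' K hc) := by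
  haveI : Module.Flat A A' :=
    Module.Flat.isBaseChange (R := R) (M := R') (S := A) A'
      (Algebra.IsPushout.out (R := R) (S := A) (R' := R') (S' := A'))
  apply isIso_of_bijective
  intro i
  let a : (DRing.LBaseChange (algebraMap A A')).obj (T A i) ≅ T A' i :=
    (adjα.leftAdjointUniq (FlatBC.adjD A A')).app (T A i) ≪≫ SV6.aIso (P := A) (Q := A') i
  have hX₀ : DRing.IsPseudoCoherent' R ((DRing.restrictD (algebraMap R A)).obj (T A i)) :=
    (Groth.Agent.Helper3.DRingLib.isPseudoCoherent'_rD_iff hpc (T A i)).mp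
      (isPseudoCoherent'_T A i)
  have hβ := bij_pc adjρ hX₀ K n hK
  have hcT : IsIso (TrivBC.cmp adjρ adjα h (T A i)) := TBC9.main R A R' A' adjρ adjα h _
  have hkey := key adjρ adjα h adj adj' (T A i) K hcT hc
  have hΨ := Ψ_surjective adjα h adj i K
  have hu : Function.Bijective (fun g : (DRing.LBaseChange (algebraMap A A')).obj (T A i) ⟶
      (DRing.LBaseChange (algebraMap A A')).obj (Rφ.obj K) =>
      (adj'.homEquiv _ _).symm (g ≫ TrivBC.bcMap adjρ adjα h adj adj' K hc)) := by
    constructor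
    · intro g g' hgg
      obtain ⟨z, rfl⟩ := hΨ g
      obtain ⟨z', rfl⟩ := hΨ g'
      have hgg' : (adj'.homEquiv _ _).symm
          (Ψ adjα h adj (T A i) K z ≫ TrivBC.bcMap adjρ adjα h adj adj' K hc) =
        (adj'.homEquiv _ _).symm
          (Ψ adjα h adj (T A i) K z' ≫ TrivBC.bcMap adjρ adjα h adj adj' K hc) := hgg
      rw [hkey, hkey, cancel_epi] at hgg'
      rw [hβ.1 hgg']
    · intro t
      obtain ⟨z, hz⟩ := hβ.2 (TrivBC.cmp adjρ adjα h (T A i) ≫ t)
      refine ⟨Ψ adjα h adj (T A i) K z, ?_⟩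
      change (adj'.homEquiv _ _).symm
          (Ψ adjα h adj (T A i) K z ≫ TrivBC.bcMap adjρ adjα h adj adj' K hc) = t
      rw [hkey, hz, IsIso.inv_hom_id_assoc]
  have hb : Function.Bijective (fun g : (DRing.LBaseChange (algebraMap A A')).obj (T A i) ⟶
      (DRing.LBaseChange (algebraMap A A')).obj (Rφ.obj K) =>
      g ≫ TrivBC.bcMap adjρ adjα h adj adj' K hc) :=
    (Function.Bijective.of_comp_iff' (adj'.homEquiv _ _).symm.bijective _).mp hu
  constructor
  · intro g g' hgg
    have := hb.1 (a₁ := a.hom ≫ g) (a₂ := a.hom ≫ g') (by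
      change (a.hom ≫ g) ≫ _ = (a.hom ≫ g') ≫ _
      rw [Category.assoc, Category.assoc]
      exact congrArg (a.hom ≫ ·) hgg)
    exact (cancel_epi a.hom).mp this
  · intro t
    obtain ⟨g, hg⟩ := hb.2 (a.hom ≫ t)
    refine ⟨a.inv ≫ g, ?_⟩
    change (a.inv ≫ g) ≫ _ = t
    rw [Category.assoc]
    have hg' : g ≫ TrivBC.bcMap adjρ adjα h adj adj' K hc = a.hom ≫ t := hg
    rw [hg', Iso.inv_hom_id_assoc]

end main

end Groth.Agent.Helper9.FB5
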