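import Mathlib
import Groth.Prelude.Def_DualSh
import Groth.Agent.Helper9.FB5
import Groth.Agent.Helper9.SV1
import Groth.Agent.Helper3.DRingPC4

set_option autoImplicit false
set_option linter.style.haveILetI false
set_option linter.unusedSectionVars false

/-!
# Flat base change for the upper shriek functor (via the base-changed presentation)
-/

open CategoryTheory CategoryTheory.Limits DerivedCategory Pretriangulated

universe u

attribute [local instance] HasDerivedCategory.standard

namespace Groth.Agent.Helper9.FB6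

open TensorProduct Groth.Agent.Helper6

attribute [local instance] Algebra.TensorProduct.rightAlgebra
attribute [local instance] MvPolynomial.algebraMvPolynomial

section general

variable {S T : Type u} [CommRing S] [CommRing T]

/-- derived base change commutes with shifts -/
lemma lbc_shift (f : S →+* T) [DRing.HasLBaseChange f] (X : Dual.D S) (n : ℤ) :
    Nonempty ((DRing.LBaseChange f).obj (X⟦n⟧) ≅ ((DRing.LBaseChange f).obj X)⟦n⟧) := by
  letI := (LBCAdj.adj f).leftAdjointCommShift ℤ
  exact ⟨((DRing.LBaseChange f).commShiftIso n).app X⟩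

lemma isGE_of_HD (K : Dual.D S) (c : ℤ) (hK : ∀ i : ℤ, i < c → Subsingleton (Dual.HD S K i)) :
    K.IsGE c := by
  rw [DerivedCategory.isGE_iff]
  intro i hi
  haveI := hK i hi
  exact ModuleCat.isZero_of_subsingleton _

/-- derived base change along a flat map preserves `IsGE` -/
lemma isGE_lbc [Algebra S T] [Module.Flat S T] [DRing.HasLBaseChange (algebraMap S T)]
    (K : Dual.D S) (c : ℤ) (hK : K.IsGE c) :
    ((DRing.LBaseChange (algebraMap S T)).obj K).IsGE c := by
  haveI := FB4.isGE_ED (R' := T) K c hK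
  exact TStructure.t.isGE_of_iso
    ((Adjunction.leftAdjointUniq (LBCAdj.adj (algebraMap S T)) (FlatBC.adjD S T)).app K).symm c

/-- finite modules over Noetherian rings are pseudo-coherent -/
lemma isPseudoCoherentModule'_of_finite [IsNoetherianRing S] (M : Type u) [AddCommGroup M]
    [Module S M] [Module.Finite S M] : DRing.IsPseudoCoherentModule' S M :=
  (Groth.Agent.Helper3.DRingLib.isPseudoCoherent'_iff_forall _).mpr
    (fun m => Groth.Agent.Helper3.DRingLib.isPseudoCoherent_inD_of_finite_noetherian' M m)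

end general

section thmC

variable {R A R' A' : Type u} [CommRing R] [CommRing A] [CommRing R'] [CommRing A']
    [Algebra R A] [Algebra R R'] [Algebra A A'] [Algebra R' A'] [Algebra R A']
    [IsScalarTower R A A'] [IsScalarTower R R' A'] [Algebra.IsPushout R A R' A']
    [Module.Flat R R']
    [DRing.HasLBaseChange (algebraMap R R')] [DRing.HasLBaseChange (algebraMap A A')]

/-- **Flat base change of the right adjoint of restriction**, isomorphism form -/
theorem nonempty_bcIso
    {Rφ : Dual.D R ⥤ Dual.D A} (adj : DRing.restrictD (algebraMap R A) ⊣ Rφ)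
    {Rφ' : Dual.D R' ⥤ Dual.D A'} (adj' : DRing.restrictD (algebraMap R' A') ⊣ Rφ')
    (hpc : DRing.IsPseudoCoherentModule' R A) (K : Dual.D R) (n : ℤ) (hK : K.IsGE n) :
    Nonempty ((DRing.LBaseChange (algebraMap A A')).obj (Rφ.obj K) ≅
      Rφ'.obj ((DRing.LBaseChange (algebraMap R R')).obj K)) := by
  have h : (algebraMap A A').comp (algebraMap R A) =
      (algebraMap R' A').comp (algebraMap R R') := by
    ext r
    change algebraMap A A' (algebraMap R A r) = algebraMap R' A' (algebraMap R R' r)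
    rw [← IsScalarTower.algebraMap_apply, ← IsScalarTower.algebraMap_apply]
  haveI := (LBCAdj.adj (algebraMap R R')).left_adjoint_additive
  haveI := (LBCAdj.adj (algebraMap A A')).left_adjoint_additive
  have hc := TBC9.main R A R' A' (LBCAdj.adj _) (LBCAdj.adj _) h (Rφ.obj K)
  haveI := FB5.isIso_bcMap (LBCAdj.adj _) (LBCAdj.adj _) h adj adj' hpc K n hK hc
  exact ⟨asIso (TrivBC.bcMap (LBCAdj.adj _) (LBCAdj.adj _) h adj adj' K hc)⟩

end thmC

section baseChangePresentation

variable (R R' A : Type u) [CommRing R] [CommRing R'] [CommRing A] [Algebra R R'] [Algebra R A]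
  (n : ℕ) (ψ : MvPolynomial (Fin n) R →ₐ[R] A)

/-- the base change of a presentation -/
noncomputable def ψ' : MvPolynomial (Fin n) R' →ₐ[R'] (R' ⊗[R] A) :=
  MvPolynomial.aeval (fun i => (1 : R') ⊗ₜ[R] ψ (MvPolynomial.X i))

lemma ψ'_map (p : MvPolynomial (Fin n) R) :
    ψ' R R' A n ψ (MvPolynomial.map (algebraMap R R') p) = (1 : R') ⊗ₜ[R] ψ p := by
  induction p using MvPolynomial.induction_on with
  | C a =>
    have h1 : ψ (MvPolynomial.C a) = algebraMap R A a := by
      rw [← MvPolynomial.algebraMap_eq, AlgHom.commutes]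
    rw [MvPolynomial.map_C, h1]
    unfold ψ'
    rw [MvPolynomial.aeval_C, Algebra.TensorProduct.algebraMap_apply,
      Algebra.algebraMap_eq_smul_one (A := A) a, ← TensorProduct.smul_tmul, Algebra.smul_def,
      mul_one]
    rfl
  | add p q hp hq => rw [map_add, map_add, hp, hq, map_add, TensorProduct.tmul_add]
  | mul_X p i hp =>
    rw [map_mul, map_mul, hp, MvPolynomial.map_X, map_mul]
    unfold ψ'
    rw [MvPolynomial.aeval_X, Algebra.TensorProduct.tmul_mul_tmul, one_mul]

variable {R R' A n ψ} in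
lemma ψ'_surjective (hψ : Function.Surjective ψ) : Function.Surjective (ψ' R R' A n ψ) := by
  intro x
  induction x using TensorProduct.induction_on with
  | zero => exact ⟨0, map_zero _⟩
  | tmul r' a =>
    obtain ⟨p, rfl⟩ := hψ a
    refine ⟨r' • MvPolynomial.map (algebraMap R R') p, ?_⟩
    rw [map_smul, ψ'_map, TensorProduct.smul_tmul', smul_eq_mul, mul_one]
  | add x y hx hy =>
    obtain ⟨p, rfl⟩ := hx
    obtain ⟨q, rfl⟩ := hy
    exact ⟨p + q, map_add _ _ _⟩

end baseChangePresentation

section main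

variable (R R' A : Type u) [CommRing R] [CommRing R'] [CommRing A] [IsNoetherianRing R]
  [Algebra R R'] [Module.Flat R R'] [Algebra R A]
  (n : ℕ) (ψ : MvPolynomial (Fin n) R →ₐ[R] A) (hψ : Function.Surjective ψ)

include hψ in
/-- the pushout square `P → A`, `P → P'`, `A → A'`, `P' → A'` and the resulting base change
isomorphism -/
theorem core
    {Rψ : Dual.D (MvPolynomial (Fin n) R) ⥤ Dual.D A} (adj : DRing.restrictD ψ.toRingHom ⊣ Rψ)
    {Rψ' : Dual.D (MvPolynomial (Fin n) R') ⥤ Dual.D (R' ⊗[R] A)}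
    (adj' : DRing.restrictD (ψ' R R' A n ψ).toRingHom ⊣ Rψ')
    [DRing.HasLBaseChange (Algebra.TensorProduct.includeRight : A →ₐ[R] R' ⊗[R] A).toRingHom]
    [DRing.HasLBaseChange (algebraMap (MvPolynomial (Fin n) R) (MvPolynomial (Fin n) R'))]
    (L : Dual.D (MvPolynomial (Fin n) R)) (c : ℤ) (hL : L.IsGE c) :
    Nonempty ((DRing.LBaseChange
        (Algebra.TensorProduct.includeRight : A →ₐ[R] R' ⊗[R] A).toRingHom).obj (Rψ.obj L) ≅
      Rψ'.obj ((DRing.LBaseChange
        (algebraMap (MvPolynomial (Fin n) R) (MvPolynomial (Fin n) R'))).obj L)) := by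
  letI algPA : Algebra (MvPolynomial (Fin n) R) A := ψ.toRingHom.toAlgebra
  letI algP'A' : Algebra (MvPolynomial (Fin n) R') (R' ⊗[R] A) :=
    (ψ' R R' A n ψ).toRingHom.toAlgebra
  letI algPA' : Algebra (MvPolynomial (Fin n) R) (R' ⊗[R] A) :=
    ((algebraMap A (R' ⊗[R] A)).comp ψ.toRingHom).toAlgebra
  haveI t1 : IsScalarTower (MvPolynomial (Fin n) R) A (R' ⊗[R] A) :=
    IsScalarTower.of_algebraMap_eq (fun x => rfl)
  haveI t2 : IsScalarTower (MvPolynomial (Fin n) R) (MvPolynomial (Fin n) R') (R' ⊗[R] A) :=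
    IsScalarTower.of_algebraMap_eq (fun x => (ψ'_map R R' A n ψ x).symm)
  haveI t3 : IsScalarTower R (MvPolynomial (Fin n) R) A :=
    IsScalarTower.of_algebraMap_eq (fun x => (ψ.commutes x).symm)
  haveI t4 : IsScalarTower R' (MvPolynomial (Fin n) R') (R' ⊗[R] A) :=
    IsScalarTower.of_algebraMap_eq (fun x => ((ψ' R R' A n ψ).commutes x).symm)
  haveI t5 : IsScalarTower R (MvPolynomial (Fin n) R') (R' ⊗[R] A) :=
    IsScalarTower.of_algebraMap_eq (fun x => by
      rw [IsScalarTower.algebraMap_apply R R' (MvPolynomial (Fin n) R'),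
        ← IsScalarTower.algebraMap_apply R' (MvPolynomial (Fin n) R') (R' ⊗[R] A),
        ← IsScalarTower.algebraMap_apply R R' (R' ⊗[R] A)])
  haveI hpush : Algebra.IsPushout (MvPolynomial (Fin n) R) A (MvPolynomial (Fin n) R')
      (R' ⊗[R] A) :=
    (Algebra.IsPushout.comp_iff R (MvPolynomial (Fin n) R) R'
      (S' := MvPolynomial (Fin n) R') (T := A) (T' := R' ⊗[R] A)).mp inferInstance
  haveI hflat : Module.Flat (MvPolynomial (Fin n) R) (MvPolynomial (Fin n) R') :=
    Module.Flat.isBaseChange (R := R) (M := R') (S := MvPolynomial (Fin n) R)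
      (MvPolynomial (Fin n) R')
      (Algebra.IsPushout.out (R := R) (S := MvPolynomial (Fin n) R) (R' := R')
        (S' := MvPolynomial (Fin n) R'))
  haveI hfin : Module.Finite (MvPolynomial (Fin n) R) A :=
    Module.Finite.of_surjective (Algebra.linearMap (MvPolynomial (Fin n) R) A) hψ
  exact nonempty_bcIso (R := MvPolynomial (Fin n) R) (A := A) (R' := MvPolynomial (Fin n) R')
    (A' := R' ⊗[R] A) adj adj' (isPseudoCoherentModule'_of_finite A) L c hL

include hψ in
/-- **flat base change of the upper shriek** (for the base-changed presentation) -/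
theorem main
    [DRing.HasLBaseChange (algebraMap R (MvPolynomial (Fin n) R))]
    {Rψ : Dual.D (MvPolynomial (Fin n) R) ⥤ Dual.D A} (adj : DRing.restrictD ψ.toRingHom ⊣ Rψ)
    [DRing.HasLBaseChange (algebraMap R' (MvPolynomial (Fin n) R'))]
    {Rψ' : Dual.D (MvPolynomial (Fin n) R') ⥤ Dual.D (R' ⊗[R] A)}
    (adj' : DRing.restrictD (ψ' R R' A n ψ).toRingHom ⊣ Rψ')
    [DRing.HasLBaseChange (Algebra.TensorProduct.includeRight : A →ₐ[R] R' ⊗[R] A).toRingHom]
    [DRing.HasLBaseChange (algebraMap R R')]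
    (K : Dual.D R) (c : ℤ) (hK : K.IsGE c) :
    Nonempty ((DRing.LBaseChange
        (Algebra.TensorProduct.includeRight : A →ₐ[R] R' ⊗[R] A).toRingHom).obj
          (Dual2.shriekVia n Rψ K) ≅
      Dual2.shriekVia n Rψ' ((DRing.LBaseChange (algebraMap R R')).obj K)) := by
  haveI := HasLBC.hasLBaseChange
    (algebraMap (MvPolynomial (Fin n) R) (MvPolynomial (Fin n) R'))
  haveI := HasLBC.hasLBaseChange (algebraMap R (MvPolynomial (Fin n) R'))
  have hL := isGE_lbc (T := MvPolynomial (Fin n) R) K c hK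
  obtain ⟨e1⟩ := core R R' A n ψ hψ adj adj' _ c hL
  obtain ⟨e2⟩ := lbc_shift (Algebra.TensorProduct.includeRight : A →ₐ[R] R' ⊗[R] A).toRingHom
    (Rψ.obj ((DRing.LBaseChange (algebraMap R (MvPolynomial (Fin n) R))).obj K)) n
  obtain ⟨c1⟩ := SV1.lbc_comp (algebraMap R (MvPolynomial (Fin n) R))
    (algebraMap (MvPolynomial (Fin n) R) (MvPolynomial (Fin n) R'))
    (algebraMap R (MvPolynomial (Fin n) R'))
    (IsScalarTower.algebraMap_eq R (MvPolynomial (Fin n) R) (MvPolynomial (Fin n) R'))
  obtain ⟨c2⟩ := SV1.lbc_comp (algebraMap R R') (algebraMap R' (MvPolynomial (Fin n) R'))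
    (algebraMap R (MvPolynomial (Fin n) R'))
    (IsScalarTower.algebraMap_eq R R' (MvPolynomial (Fin n) R'))
  exact ⟨e2 ≪≫ (shiftFunctor _ (n : ℤ)).mapIso
    (e1 ≪≫ Rψ'.mapIso ((c1.app K).symm ≪≫ c2.app K))⟩

end main

end Groth.Agent.Helper9.FB6
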