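import Mathlib
import Groth.Prelude.Def_DTen5
import Groth.Agent.Helper6.ExtTen
import Groth.Agent.Helper6.TenCx
import Groth.Agent.Helper6.DTenSymm

set_option autoImplicit false

/-!
# The right-handed projection formula for complexes: `P ⊗_R res W ≅ res (ext P ⊗_A W)`
-/

open CategoryTheory CategoryTheory.Limits MonoidalCategory

universe u

namespace Groth.Agent.Helper9.RHR1

open Groth.Agent.Helper6 Groth.Agent.Helper6.TenCx

variable {R A : Type u} [CommRing R] [CommRing A] (φ : R →+* A)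

/-- module level: the lax monoidal structure of restriction is braided -/
lemma resTen₀app_braid (M N : ModuleCat.{u} A) :
    DTen.resTen₀app φ M N ≫ (DTen.resM φ).map (β_ M N).hom =
      (β_ ((DTen.resM φ).obj M) ((DTen.resM φ).obj N)).hom ≫ DTen.resTen₀app φ N M :=
  ModuleCat.hom_ext (TensorProduct.ext' (fun _ _ => rfl))

/-- the lax monoidal structure of restriction on complexes is braided -/
lemma resTenCx_braid (Y Y' : DRing.Cx A) :
    DTen.resTenCx φ Y Y' ≫ (DTen.resCx φ).map (DTen.braidCx Y Y').hom =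
      (DTen.braidCx ((DTen.resCx φ).obj Y) ((DTen.resCx φ).obj Y')).hom ≫
        DTen.resTenCx φ Y' Y := by
  refine HomologicalComplex.hom_ext _ _ (fun n => TenCx.hom_ext (fun p q h => ?_))
  rw [HomologicalComplex.comp_f, HomologicalComplex.comp_f]
  erw [DTen.ι_resTenCx_assoc φ Y Y' p q n h]
  erw [DTen.ι_braidCx_hom_assoc ((DTen.resCx φ).obj Y) ((DTen.resCx φ).obj Y') p q n h]
  erw [Functor.mapHomologicalComplex_map_f, ← Functor.map_comp, DTen.ι_braidCx_hom Y Y' p q n h]
  rw [Functor.map_units_smul]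
  erw [Linear.comp_units_smul, Linear.units_smul_comp]
  congr 1
  rw [Functor.map_comp, Category.assoc]
  erw [DTen.ι_resTenCx φ Y' Y q p n (by omega)]
  exact (reassoc_of% (resTen₀app_braid φ (Y.X p) (Y'.X q))) _

/-- the comparison `P ⊗_R res W ⟶ res (ext P ⊗_A W)` -/
noncomputable def θ' (P : DRing.Cx R) (W : DRing.Cx A) :
    P ⊗ (DTen.resCx φ).obj W ⟶ (DTen.resCx φ).obj ((DTen.extCx φ).obj P ⊗ W) :=
  ((DTen.unitCx φ).app P ▷ (DTen.resCx φ).obj W) ≫ DTen.resTenCx φ ((DTen.extCx φ).obj P) W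

lemma θ'_eq (P : DRing.Cx R) (W : DRing.Cx A) :
    θ' φ P W = (DTen.braidCx P ((DTen.resCx φ).obj W)).hom ≫ ExtTen.θ φ W P ≫
      (DTen.resCx φ).map (DTen.braidCx W ((DTen.extCx φ).obj P)).hom := by
  have h1 := DTen.braidCx_naturality ((DTen.unitCx φ).app P) (𝟙 ((DTen.resCx φ).obj W))
  rw [MonoidalCategory.tensorHom_id, MonoidalCategory.id_tensorHom] at h1
  have h2 := resTenCx_braid φ W ((DTen.extCx φ).obj P)
  rw [θ', ExtTen.θ, Category.assoc]
  erw [h2]
  erw [← reassoc_of% h1]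
  erw [reassoc_of% (DTenSymm.braidCx_invol ((DTen.resCx φ).obj ((DTen.extCx φ).obj P))
    ((DTen.resCx φ).obj W))]

instance isIso_θ' (P : DRing.Cx R) (W : DRing.Cx A) : IsIso (θ' φ P W) := by
  rw [θ'_eq]
  infer_instance

/-- naturality in `P` -/
lemma θ'_naturality_left {P P' : DRing.Cx R} (f : P ⟶ P') (W : DRing.Cx A) :
    (f ▷ (DTen.resCx φ).obj W) ≫ θ' φ P' W =
      θ' φ P W ≫ (DTen.resCx φ).map ((DTen.extCx φ).map f ▷ W) := by
  have h1 := (DTen.unitCx φ).naturality f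
  have h2 := DTen.resTenCx_naturality φ ((DTen.extCx φ).map f) (𝟙 W)
  simp only [Functor.id_obj, Functor.id_map, Functor.comp_obj, Functor.comp_map] at h1
  rw [CategoryTheory.Functor.map_id, MonoidalCategory.tensorHom_id, MonoidalCategory.tensorHom_id]
    at h2
  rw [θ', θ', ← Category.assoc, ← MonoidalCategory.comp_whiskerRight, h1,
    MonoidalCategory.comp_whiskerRight, Category.assoc, Category.assoc, h2]

/-- the module-level comparison `M ⊗_R res N ⟶ res (ext M ⊗_A N)`, `m ⊗ n ↦ (1 ⊗ m) ⊗ n` -/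
noncomputable def μ' (M : ModuleCat.{u} R) (N : ModuleCat.{u} A) :
    M ⊗ (DTen.resM φ).obj N ⟶
      (DTen.resM φ).obj ((ModuleCat.extendScalars.{u, u, u} φ).obj M ⊗ N) :=
  ((ModuleCat.extendRestrictScalarsAdj.{u, u, u} φ).unit.app M ▷ (DTen.resM φ).obj N) ≫
    DTen.resTen₀app φ ((ModuleCat.extendScalars.{u, u, u} φ).obj M) N

lemma ι_θ' (P : DRing.Cx R) (W : DRing.Cx A) (p q n : ℤ) (h : p + q = n) :
    ι P ((DTen.resCx φ).obj W) p q n h ≫ (θ' φ P W).f n =
      μ' φ (P.X p) (W.X q) ≫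
        (DTen.resM φ).map (ι ((DTen.extCx φ).obj P) W p q n h) := by
  rw [θ', HomologicalComplex.comp_f, ← Category.assoc, ι_whiskerRight, Category.assoc]
  erw [DTen.ι_resTenCx φ ((DTen.extCx φ).obj P) W p q n h]
  exact (Category.assoc _ _ _).symm

end Groth.Agent.Helper9.RHR1
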