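import Mathlib
import Groth.Prelude.Def_DTen4
import Groth.Agent.Helper9.RHR1
import Groth.Agent.Helper6.MixCompute
import Groth.Agent.Helper6.TenCxQis
import Groth.Agent.Helper6.KProjQ
import Groth.Agent.Helper6.KProjRes

set_option autoImplicit false
set_option linter.style.haveILetI false

/-!
# The counit-like maps `res (QP ⊗^L_R ω) ⟶ QP` for K-flat `P`
-/

open CategoryTheory CategoryTheory.Limits MonoidalCategory DerivedCategory

universe u

attribute [local instance] HasDerivedCategory.standard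

namespace Groth.Agent.Helper9.RHR2

open Groth.Agent.Helper6 Groth.Agent.Helper6.TenCx Groth.Agent.Helper9.RHR1

variable {R A : Type u} [CommRing R] [CommRing A] (φ : R →+* A) [DTen.HasRHomRel φ]

/-- the object `ω = RHom(A, R)` -/
noncomputable abbrev ω : Dual.D A := (DTen.RHomRel φ).obj (DTen.unit R)

/-- a representative `W` of `ω` together with a roof representing the evaluation `res ω ⟶ R` -/
structure Roof where
  W : DRing.Cx A
  w : Q.obj W ≅ ω φ
  V' : DRing.Cx R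
  s : V' ⟶ (DTen.resCx φ).obj W
  g : V' ⟶ 𝟙_ (DRing.Cx R)
  hs : QuasiIso s
  hg : Q.map g = Q.map s ≫ (DTen.resFactors φ).inv.app W ≫ (DRing.restrictD φ).map w.hom ≫
    DTen.relEv φ (DTen.unit R)

lemma exists_roof : Nonempty (Roof φ) := by
  let W := Q.objPreimage (ω φ)
  let w : Q.obj W ≅ ω φ := Q.objObjPreimageIso (ω φ)
  obtain ⟨V', s, hV', -, -, hs, -⟩ := KProjRes.exists_resolution ((DTen.resCx φ).obj W)
  haveI := hV'
  obtain ⟨g, hg⟩ := KProjQ.Q_map_surjective V' (𝟙_ (DRing.Cx R))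
    (Q.map s ≫ (DTen.resFactors φ).inv.app W ≫ (DRing.restrictD φ).map w.hom ≫
      DTen.relEv φ (DTen.unit R))
  exact ⟨⟨W, w, V', s, g, hs, hg⟩⟩

variable {φ} (r : Roof φ)

lemma isIso_Q_whiskerLeft_s (P : DRing.Cx R) (hP : KFlat P) : IsIso (Q.map (P ◁ r.s)) := by
  rw [DerivedCategory.isIso_Q_map_iff_quasiIso]
  exact quasiIso_whiskerLeft hP r.s r.hs

/-- the iso `Q(P ⊗ V') ≅ Q(P ⊗ res W)` for K-flat `P` -/
noncomputable def isoS (P : DRing.Cx R) (hP : KFlat P) :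
    Q.obj (P ⊗ r.V') ≅ Q.obj (P ⊗ (DTen.resCx φ).obj r.W) :=
  haveI := isIso_Q_whiskerLeft_s r P hP
  asIso (Q.map (P ◁ r.s))

/-- the iso `Q(P ⊗ res W) ≅ Q(res (ext P ⊗ W))` -/
noncomputable def isoθ (P : DRing.Cx R) :
    Q.obj (P ⊗ (DTen.resCx φ).obj r.W) ≅
      Q.obj ((DTen.resCx φ).obj ((DTen.mixT φ).obj (P, r.W))) :=
  Q.mapIso (asIso (θ' φ P r.W))

/-- the chain-level part of the counit-like map -/
noncomputable def c (P : DRing.Cx R) (hP : KFlat P) :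
    (DRing.restrictD φ).obj (Q.obj ((DTen.mixT φ).obj (P, r.W))) ⟶ Q.obj P :=
  (DTen.resFactors φ).hom.app ((DTen.mixT φ).obj (P, r.W)) ≫ (isoθ r P).inv ≫ (isoS r P hP).inv ≫
    Q.map (P ◁ r.g) ≫ Q.map (ρ_ P).hom

lemma c_naturality {P P' : DRing.Cx R} (f : P ⟶ P') (hP : KFlat P) (hP' : KFlat P') :
    (DRing.restrictD φ).map (Q.map ((DTen.mixT φ).map (Prod.mkHom f (𝟙 r.W)))) ≫ c r P' hP' =
      c r P hP ≫ Q.map f := by
  have hm : (DTen.mixT φ).map (Prod.mkHom f (𝟙 r.W)) = (DTen.extCx φ).map f ▷ r.W := by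
    rw [TenHtpy.mixT_map]
    exact MonoidalCategory.tensorHom_id _ _
  have e1 : (DRing.restrictD φ).map (Q.map ((DTen.mixT φ).map (Prod.mkHom f (𝟙 r.W)))) ≫
      (DTen.resFactors φ).hom.app ((DTen.mixT φ).obj (P', r.W)) =
      (DTen.resFactors φ).hom.app ((DTen.mixT φ).obj (P, r.W)) ≫
        Q.map ((DTen.resCx φ).map ((DTen.mixT φ).map (Prod.mkHom f (𝟙 r.W)))) :=
    (DTen.resFactors φ).hom.naturality ((DTen.mixT φ).map (Prod.mkHom f (𝟙 r.W)))
  have e2 : Q.map ((DTen.resCx φ).map ((DTen.mixT φ).map (Prod.mkHom f (𝟙 r.W)))) ≫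
      (isoθ r P').inv = (isoθ r P).inv ≫ Q.map (f ▷ (DTen.resCx φ).obj r.W) := by
    rw [Iso.comp_inv_eq, Category.assoc, Iso.eq_inv_comp]
    dsimp only [isoθ, Functor.mapIso_hom, asIso_hom]
    rw [← Functor.map_comp, ← Functor.map_comp, hm, θ'_naturality_left]
  have e3 : Q.map (f ▷ (DTen.resCx φ).obj r.W) ≫ (isoS r P' hP').inv =
      (isoS r P hP).inv ≫ Q.map (f ▷ r.V') := by
    rw [Iso.comp_inv_eq, Category.assoc, Iso.eq_inv_comp]
    dsimp only [isoS, asIso_hom]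
    rw [← Functor.map_comp, ← Functor.map_comp, MonoidalCategory.whisker_exchange]
  have e4 : Q.map (f ▷ r.V') ≫ Q.map (P' ◁ r.g) = Q.map (P ◁ r.g) ≫ Q.map (f ▷ 𝟙_ (DRing.Cx R)) := by
    rw [← Functor.map_comp, ← Functor.map_comp, MonoidalCategory.whisker_exchange]
  have e5 : Q.map (f ▷ 𝟙_ (DRing.Cx R)) ≫ Q.map (ρ_ P').hom = Q.map (ρ_ P).hom ≫ Q.map f := by
    rw [← Functor.map_comp, ← Functor.map_comp, MonoidalCategory.rightUnitor_naturality]
  dsimp only [c]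
  simp only [Category.assoc]
  rw [← Category.assoc, e1, Category.assoc]
  congr 1
  rw [← Category.assoc, e2, Category.assoc]
  congr 1
  rw [← Category.assoc, e3, Category.assoc]
  congr 1
  rw [← Category.assoc, e4, Category.assoc]
  congr 1

variable [DTen.HasLTenMix φ]

/-- the iso `QP ⊗^L_R ω ≅ Q(ext P ⊗ W)` for K-flat `P` -/
noncomputable def isoε (P : DRing.Cx R) (hP : KFlat P) :
    (DTen.LTenMix φ).obj (Q.obj P, ω φ) ≅ Q.obj ((DTen.mixT φ).obj (P, r.W)) :=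
  haveI := MixCompute.isIso_εMix_of_kflat φ P r.W hP
  (DTen.LTenMix φ).mapIso (Iso.prod (Iso.refl (Q.obj P)) r.w.symm) ≪≫
    asIso ((DTen.εMix φ).app (P, r.W))

lemma isoε_naturality {P P' : DRing.Cx R} (f : P ⟶ P') (hP : KFlat P) (hP' : KFlat P') :
    (DTen.LTenMix φ).map (Prod.mkHom (Q.map f) (𝟙 (ω φ))) ≫ (isoε r P' hP').hom =
      (isoε r P hP).hom ≫ Q.map ((DTen.mixT φ).map (Prod.mkHom f (𝟙 r.W))) := by
  have e := (DTen.εMix φ).naturality (Prod.mkHom f (𝟙 r.W) : (P, r.W) ⟶ (P', r.W))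
  dsimp only [isoε, Iso.trans_hom, Functor.mapIso_hom, asIso_hom, Iso.prod_hom, Iso.refl_hom,
    Iso.symm_hom]
  rw [Category.assoc]
  erw [← e]
  rw [← Category.assoc, ← Category.assoc]
  congr 1
  dsimp only [Functor.comp_map]
  rw [← Functor.map_comp, ← Functor.map_comp]
  congr 1
  refine Prod.ext ?_ ?_
  · change Q.map f ≫ 𝟙 _ = 𝟙 _ ≫ Q.map f
    rw [Category.comp_id, Category.id_comp]
  · change 𝟙 _ ≫ r.w.inv = r.w.inv ≫ Q.map (𝟙 r.W)
    rw [Category.id_comp, CategoryTheory.Functor.map_id, Category.comp_id]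

/-- the counit-like map `res (QP ⊗^L_R ω) ⟶ QP` for K-flat `P` -/
noncomputable def ν (P : DRing.Cx R) (hP : KFlat P) :
    (DRing.restrictD φ).obj ((DTen.LTenMix φ).obj (Q.obj P, ω φ)) ⟶ Q.obj P :=
  (DRing.restrictD φ).map (isoε r P hP).hom ≫ c r P hP

lemma ν_naturality {P P' : DRing.Cx R} (f : P ⟶ P') (hP : KFlat P) (hP' : KFlat P') :
    (DRing.restrictD φ).map ((DTen.LTenMix φ).map (Prod.mkHom (Q.map f) (𝟙 (ω φ)))) ≫ ν r P' hP' =
      ν r P hP ≫ Q.map f := by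
  dsimp only [ν]
  rw [← Category.assoc, ← Functor.map_comp, isoε_naturality r f hP hP', Functor.map_comp,
    Category.assoc, c_naturality r f hP hP', Category.assoc]

end Groth.Agent.Helper9.RHR2
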