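import Mathlib
import Groth.Prelude.Def_DTen4
import Groth.Agent.Helper9.RHR2
import Groth.Agent.Helper6.SplitIso

set_option autoImplicit false
set_option linter.style.haveILetI false

/-!
# The natural transformation `- ⊗^L_R ω ⟶ RHom(A, -)`
-/

open CategoryTheory CategoryTheory.Limits MonoidalCategory DerivedCategory

universe u

attribute [local instance] HasDerivedCategory.standard

namespace Groth.Agent.Helper9.RHR3

open Groth.Agent.Helper6 Groth.Agent.Helper6.TenCx Groth.Agent.Helper9.RHR1 Groth.Agent.Helper9.RHR2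

variable {R A : Type u} [CommRing R] [CommRing A] (φ : R →+* A) [DTen.HasRHomRel φ]
  [DTen.HasLTenMix φ]

/-- the functor `K ↦ K ⊗^L_R ω` -/
noncomputable abbrev F : Dual.D R ⥤ Dual.D A :=
  (Functor.curry.obj (DTen.LTenMix φ)).flip.obj (ω φ)

lemma F_map {K K' : Dual.D R} (f : K ⟶ K') :
    (F φ).map f = (DTen.LTenMix φ).map (Prod.mkHom f (𝟙 (ω φ))) := rfl

/-- a chosen K-projective representative -/
noncomputable def rep (K : Dual.D R) : DRing.Cx R := (SplitIso.exists_kproj_Q K).choose

instance (K : Dual.D R) : (rep K).IsKProjective := (SplitIso.exists_kproj_Q K).choose_spec.1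

lemma rep_kflat (K : Dual.D R) : KFlat (rep K) := (SplitIso.exists_kproj_Q K).choose_spec.2.1

noncomputable def repIso (K : Dual.D R) : Q.obj (rep K) ≅ K :=
  (SplitIso.exists_kproj_Q K).choose_spec.2.2.some

variable {φ} (r : Roof φ)

/-- the adjunct of `ν` -/
noncomputable def νa (P : DRing.Cx R) (hP : KFlat P) :
    (F φ).obj (Q.obj P) ⟶ (DTen.RHomRel φ).obj (Q.obj P) :=
  (DTen.relAdj φ).homEquiv _ _ (ν r P hP)

lemma νa_naturality {P P' : DRing.Cx R} (f : P ⟶ P') (hP : KFlat P) (hP' : KFlat P') :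
    (F φ).map (Q.map f) ≫ νa r P' hP' = νa r P hP ≫ (DTen.RHomRel φ).map (Q.map f) := by
  dsimp only [νa]
  rw [← Adjunction.homEquiv_naturality_left, ← Adjunction.homEquiv_naturality_right, F_map,
    ν_naturality r f hP hP']

/-- the components of the natural transformation -/
noncomputable def ηapp (K : Dual.D R) : (F φ).obj K ⟶ (DTen.RHomRel φ).obj K :=
  (F φ).map (repIso K).inv ≫ νa r (rep K) (rep_kflat K) ≫ (DTen.RHomRel φ).map (repIso K).hom

lemma ηapp_eq (K : Dual.D R) (P : DRing.Cx R) [P.IsKProjective] (hP : KFlat P)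
    (p : Q.obj P ≅ K) :
    ηapp r K = (F φ).map p.inv ≫ νa r P hP ≫ (DTen.RHomRel φ).map p.hom := by
  obtain ⟨f, hf⟩ := KProjQ.Q_map_surjective (rep K) P ((repIso K).hom ≫ p.inv)
  have h := νa_naturality r f (rep_kflat K) hP
  rw [hf] at h
  dsimp only [ηapp]
  have h2 : (repIso K).hom = ((repIso K).hom ≫ p.inv) ≫ p.hom := by
    rw [Category.assoc, Iso.inv_hom_id, Category.comp_id]
  conv_lhs => rw [h2, Functor.map_comp, ← Category.assoc (νa r (rep K) (rep_kflat K)), ← h,
    Category.assoc, ← Category.assoc, ← Functor.map_comp, Iso.inv_hom_id_assoc]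

/-- the natural transformation `- ⊗^L_R ω ⟶ RHom(A, -)` -/
noncomputable def η : F φ ⟶ DTen.RHomRel φ where
  app K := ηapp r K
  naturality K K' f := by
    obtain ⟨f', hf'⟩ := KProjQ.Q_map_surjective (rep K) (rep K')
      ((repIso K).hom ≫ f ≫ (repIso K').inv)
    have h := νa_naturality r f' (rep_kflat K) (rep_kflat K')
    rw [hf'] at h
    have h1 : f ≫ (repIso K').inv = (repIso K).inv ≫ ((repIso K).hom ≫ f ≫ (repIso K').inv) := by
      rw [Iso.inv_hom_id_assoc]
    have h2 : ((repIso K).hom ≫ f ≫ (repIso K').inv) ≫ (repIso K').hom = (repIso K).hom ≫ f := by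
      simp
    dsimp only [ηapp]
    rw [← Category.assoc, ← Functor.map_comp, h1, Functor.map_comp, Category.assoc,
      reassoc_of% h, ← Functor.map_comp, h2, Functor.map_comp, Category.assoc, Category.assoc]

lemma η_app_Q (P : DRing.Cx R) [P.IsKProjective] (hP : KFlat P) :
    (η r).app (Q.obj P) = νa r P hP := by
  have := ηapp_eq r (Q.obj P) P hP (Iso.refl _)
  dsimp only [Iso.refl_hom, Iso.refl_inv] at this
  rw [CategoryTheory.Functor.map_id, CategoryTheory.Functor.map_id, Category.id_comp,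
    Category.comp_id] at this
  exact this

/-- `η` at `K` is an isomorphism iff `νa` at a K-projective representative is -/
lemma isIso_η_app_iff (K : Dual.D R) (P : DRing.Cx R) [P.IsKProjective] (hP : KFlat P)
    (p : Q.obj P ≅ K) : IsIso ((η r).app K) ↔ IsIso (νa r P hP) := by
  rw [← NatTrans.isIso_app_iff_of_iso (η r) p, η_app_Q r P hP]

end Groth.Agent.Helper9.RHR3
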