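import Mathlib
import Groth.Prelude.Def_DTen4
import Groth.Agent.Helper9.RHR3
import Groth.Agent.Helper6.HomTenC

set_option autoImplicit false
set_option linter.style.haveILetI false
set_option linter.unusedSectionVars false

/-!
# Abstract models of `K ↦ K ⊗^L_R ω`: the natural transformation to `RHom(A, -)`

A *model* is a functor `F : D(R) ⥤ D(A)` whose values on K-projective complexes `P` are
identified, naturally in `P`, with `Q (ext P ⊗_A W)` for a representative `W` of
`ω = RHom(A, R)`.  (The functor `LTenMix(-, ω)` of `RHR3` is one example; no derived bifunctor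
is needed here.)
-/

open CategoryTheory CategoryTheory.Limits MonoidalCategory DerivedCategory

universe u

attribute [local instance] HasDerivedCategory.standard

namespace Groth.Agent.Helper9.RHA1

open Groth.Agent.Helper6 Groth.Agent.Helper6.TenCx Groth.Agent.Helper9.RHR1 Groth.Agent.Helper9.RHR2
open Groth.Agent.Helper9.RHR3

variable {R A : Type u} [CommRing R] [CommRing A] {φ : R →+* A} [DTen.HasRHomRel φ]

/-- a model of `K ↦ K ⊗^L_R ω` relative to the roof `r` -/
structure Model (r : Roof φ) where
  F : Dual.D R ⥤ Dual.D A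
  isoε : ∀ (P : DRing.Cx R) [P.IsKProjective],
    F.obj (Q.obj P) ≅ Q.obj ((DTen.mixT φ).obj (P, r.W))
  isoε_naturality : ∀ {P P' : DRing.Cx R} [P.IsKProjective] [P'.IsKProjective] (f : P ⟶ P'),
    F.map (Q.map f) ≫ (isoε P').hom =
      (isoε P).hom ≫ Q.map ((DTen.mixT φ).map (Prod.mkHom f (𝟙 r.W)))

variable {r : Roof φ} (m : Model r)

lemma kflat (P : DRing.Cx R) [P.IsKProjective] : KFlat P := HomTen.kflat_of_isKProjective P

/-- the counit-like map `res (F (QP)) ⟶ QP` for K-projective `P` -/
noncomputable def ν (P : DRing.Cx R) [P.IsKProjective] :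
    (DRing.restrictD φ).obj (m.F.obj (Q.obj P)) ⟶ Q.obj P :=
  (DRing.restrictD φ).map (m.isoε P).hom ≫ c r P (kflat P)

lemma ν_naturality {P P' : DRing.Cx R} [P.IsKProjective] [P'.IsKProjective] (f : P ⟶ P') :
    (DRing.restrictD φ).map (m.F.map (Q.map f)) ≫ ν m P' = ν m P ≫ Q.map f := by
  dsimp only [ν]
  rw [← Category.assoc, ← Functor.map_comp, m.isoε_naturality f, Functor.map_comp,
    Category.assoc, c_naturality r f (kflat P) (kflat P'), Category.assoc]

/-- the adjunct of `ν` -/
noncomputable def νa (P : DRing.Cx R) [P.IsKProjective] :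
    m.F.obj (Q.obj P) ⟶ (DTen.RHomRel φ).obj (Q.obj P) :=
  (DTen.relAdj φ).homEquiv _ _ (ν m P)

lemma νa_naturality {P P' : DRing.Cx R} [P.IsKProjective] [P'.IsKProjective] (f : P ⟶ P') :
    m.F.map (Q.map f) ≫ νa m P' = νa m P ≫ (DTen.RHomRel φ).map (Q.map f) := by
  dsimp only [νa]
  rw [← Adjunction.homEquiv_naturality_left, ← Adjunction.homEquiv_naturality_right,
    ν_naturality m f]

/-- the components of the natural transformation -/
noncomputable def ηapp (K : Dual.D R) : m.F.obj K ⟶ (DTen.RHomRel φ).obj K :=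
  m.F.map (repIso K).inv ≫ νa m (rep K) ≫ (DTen.RHomRel φ).map (repIso K).hom

lemma ηapp_eq (K : Dual.D R) (P : DRing.Cx R) [P.IsKProjective] (p : Q.obj P ≅ K) :
    ηapp m K = m.F.map p.inv ≫ νa m P ≫ (DTen.RHomRel φ).map p.hom := by
  obtain ⟨f, hf⟩ := KProjQ.Q_map_surjective (rep K) P ((repIso K).hom ≫ p.inv)
  have h := νa_naturality m f
  rw [hf] at h
  dsimp only [ηapp]
  have h2 : (repIso K).hom = ((repIso K).hom ≫ p.inv) ≫ p.hom := by
    rw [Category.assoc, Iso.inv_hom_id, Category.comp_id]
  conv_lhs => rw [h2, Functor.map_comp, ← Category.assoc (νa m (rep K)), ← h,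
    Category.assoc, ← Category.assoc, ← Functor.map_comp, Iso.inv_hom_id_assoc]

/-- the natural transformation `F ⟶ RHom(A, -)` -/
noncomputable def η : m.F ⟶ DTen.RHomRel φ where
  app K := ηapp m K
  naturality K K' f := by
    obtain ⟨f', hf'⟩ := KProjQ.Q_map_surjective (rep K) (rep K')
      ((repIso K).hom ≫ f ≫ (repIso K').inv)
    have h := νa_naturality m f'
    rw [hf'] at h
    have h1 : f ≫ (repIso K').inv = (repIso K).inv ≫ ((repIso K).hom ≫ f ≫ (repIso K').inv) := by
      rw [Iso.inv_hom_id_assoc]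
    have h2 : ((repIso K).hom ≫ f ≫ (repIso K').inv) ≫ (repIso K').hom = (repIso K).hom ≫ f := by
      simp
    dsimp only [ηapp]
    rw [← Category.assoc, ← Functor.map_comp, h1, Functor.map_comp, Category.assoc,
      reassoc_of% h, ← Functor.map_comp, h2, Functor.map_comp, Category.assoc, Category.assoc]

lemma η_app_Q (P : DRing.Cx R) [P.IsKProjective] : (η m).app (Q.obj P) = νa m P := by
  have := ηapp_eq m (Q.obj P) P (Iso.refl _)
  dsimp only [Iso.refl_hom, Iso.refl_inv] at this
  rw [CategoryTheory.Functor.map_id, CategoryTheory.Functor.map_id, Category.id_comp,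
    Category.comp_id] at this
  exact this

/-- `η` at `K` is an isomorphism iff `νa` at a K-projective representative is -/
lemma isIso_η_app_iff (K : Dual.D R) (P : DRing.Cx R) [P.IsKProjective] (p : Q.obj P ≅ K) :
    IsIso ((η m).app K) ↔ IsIso (νa m P) := by
  rw [← NatTrans.isIso_app_iff_of_iso (η m) p, η_app_Q m P]

end Groth.Agent.Helper9.RHA1
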