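import Mathlib
import Groth.Prelude.Def_DTen4
import Groth.Agent.Helper9.RHR3
import Groth.Agent.Helper9.RHR4
import Groth.Agent.Helper6.HomTenC

set_option autoImplicit false
set_option linter.style.haveILetI false
set_option linter.unusedSectionVars false

/-!
# Mid-exactness of `K ↦ K ⊗^L_R ω`
-/

open CategoryTheory CategoryTheory.Limits MonoidalCategory DerivedCategory Pretriangulated

universe u

attribute [local instance] HasDerivedCategory.standard

namespace Groth.Agent.Helper9.RHR6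

open Groth.Agent.Helper6 Groth.Agent.Helper6.TenCx Groth.Agent.Helper6.DTenX
open Groth.Agent.Helper9.RHR1 Groth.Agent.Helper9.RHR2 Groth.Agent.Helper9.RHR3

section chain

variable {A : Type u} [CommRing A]

lemma zero_whiskerRight' (K K' W : DRing.Cx A) : (0 : K ⟶ K') ▷ W = 0 := by
  refine HomologicalComplex.hom_ext _ _ (fun n => TenCx.hom_ext (fun p q hpq => ?_))
  rw [ι_whiskerRight, HomologicalComplex.zero_f, HomologicalComplex.zero_f,
    MonoidalPreadditive.zero_whiskerRight, zero_comp, comp_zero]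

/-- `- ⊗ W` applied to a short complex of complexes -/
noncomputable def tenSCR (S : ShortComplex (DRing.Cx A)) (W : DRing.Cx A) :
    ShortComplex (DRing.Cx A) :=
  ShortComplex.mk (S.f ▷ W) (S.g ▷ W) (by
    rw [← MonoidalCategory.comp_whiskerRight, S.zero, zero_whiskerRight'])

lemma braid_whiskerRight {K K' : DRing.Cx A} (f : K ⟶ K') (W : DRing.Cx A) :
    (f ▷ W) ≫ (DTen.braidCx K' W).hom = (DTen.braidCx K W).hom ≫ (W ◁ f) := by
  have h := DTen.braidCx_naturality f (𝟙 W)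
  rwa [MonoidalCategory.tensorHom_id, MonoidalCategory.id_tensorHom] at h

/-- the braiding identifies `S ⊗ W` with `W ⊗ S` -/
noncomputable def tenSCRIso (S : ShortComplex (DRing.Cx A)) (W : DRing.Cx A) :
    tenSCR S W ≅ tenSC W S :=
  ShortComplex.isoMk (DTen.braidCx S.X₁ W) (DTen.braidCx S.X₂ W) (DTen.braidCx S.X₃ W)
    (braid_whiskerRight S.f W).symm (braid_whiskerRight S.g W).symm

theorem tenSCR_shortExact_of_split {S : ShortComplex (DRing.Cx A)} (hS : S.ShortExact)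
    (σ : ∀ n, (S.map (HomologicalComplex.eval _ _ n)).Splitting) (W : DRing.Cx A) :
    (tenSCR S W).ShortExact :=
  ShortComplex.shortExact_of_iso (tenSCRIso S W).symm (tenSC_shortExact_of_split W hS σ)

end chain

section mix

variable {R A : Type u} [CommRing R] [CommRing A] (φ : R →+* A)

/-- `ext(-) ⊗ W` applied to a degreewise split short exact sequence of complexes -/
theorem mixSC_shortExact {S : ShortComplex (DRing.Cx R)}
    (σ : ∀ n, (S.map (HomologicalComplex.eval _ _ n)).Splitting) (W : DRing.Cx A) :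
    (tenSCR (S.map (DTen.extCx φ)) W).ShortExact := by
  have σ' : ∀ n, ((S.map (DTen.extCx φ)).map (HomologicalComplex.eval _ _ n)).Splitting :=
    fun n => (σ n).map (ModuleCat.extendScalars.{u, u, u} φ)
  have hS' : (S.map (DTen.extCx φ)).ShortExact :=
    HomologicalComplex.shortExact_of_degreewise_shortExact _ (fun n => (σ' n).shortExact)
  exact tenSCR_shortExact_of_split hS' σ' W

lemma mixT_map_whisker {P P' : DRing.Cx R} (f : P ⟶ P') (W : DRing.Cx A) :
    (DTen.mixT φ).map (Prod.mkHom f (𝟙 W)) = (DTen.extCx φ).map f ▷ W := by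
  rw [TenHtpy.mixT_map]
  exact MonoidalCategory.tensorHom_id _ _

variable {φ} [DTen.HasRHomRel φ] [DTen.HasLTenMix φ]

lemma exists_lift_SES (r : Roof φ) (S : ShortComplex (DRing.Cx R))
    (σ : ∀ n, (S.map (HomologicalComplex.eval _ _ n)).Splitting)
    (h1 : KFlat S.X₁) (h2 : KFlat S.X₂) (h3 : KFlat S.X₃)
    (W' : Dual.D A) (g : W' ⟶ (F φ).obj (Q.obj S.X₂))
    (hg : g ≫ (F φ).map (Q.map S.g) = 0) :
    ∃ k : W' ⟶ (F φ).obj (Q.obj S.X₁), k ≫ (F φ).map (Q.map S.f) = g := by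
  have hS' := mixSC_shortExact φ σ r.W
  have hT' := DerivedCategory.triangleOfSES_distinguished hS'
  have n2 : (F φ).map (Q.map S.g) ≫ (isoε r S.X₃ h3).hom =
      (isoε r S.X₂ h2).hom ≫ Q.map ((DTen.extCx φ).map S.g ▷ r.W) := by
    rw [F_map, isoε_naturality r S.g h2 h3, mixT_map_whisker]
  have n1 : (F φ).map (Q.map S.f) ≫ (isoε r S.X₂ h2).hom =
      (isoε r S.X₁ h1).hom ≫ Q.map ((DTen.extCx φ).map S.f ▷ r.W) := by
    rw [F_map, isoε_naturality r S.f h1 h2, mixT_map_whisker]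
  have e : (g ≫ (isoε r S.X₂ h2).hom) ≫ (triangleOfSES hS').mor₂ = 0 := by
    show (g ≫ (isoε r S.X₂ h2).hom) ≫ Q.map ((DTen.extCx φ).map S.g ▷ r.W) = 0
    rw [Category.assoc, ← n2, reassoc_of% hg, zero_comp]
  obtain ⟨k, hk⟩ : ∃ k : W' ⟶ Q.obj ((DTen.mixT φ).obj (S.X₁, r.W)),
      g ≫ (isoε r S.X₂ h2).hom = k ≫ Q.map ((DTen.extCx φ).map S.f ▷ r.W) :=
    Triangle.coyoneda_exact₂ _ hT' _ e
  refine ⟨k ≫ (isoε r S.X₁ h1).inv, ?_⟩
  rw [← cancel_mono (isoε r S.X₂ h2).hom, Category.assoc, Category.assoc, n1,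
    Iso.inv_hom_id_assoc, hk]

lemma midExactAt_rotate (r : Roof φ) {P P' : DRing.Cx R} [P.IsKProjective] [P'.IsKProjective]
    (ψ : P ⟶ P') :
    MidExactAt (F φ) (Q.mapTriangle.obj (CochainComplex.mappingCone.triangle ψ)).rotate := by
  intro W' g hg
  let S := CochainComplex.mappingCone.triangleRotateShortComplex ψ
  haveI : (CochainComplex.mappingCone ψ).IsKProjective := KProjRes.isKProjective_mappingCone ψ
  have h1 : KFlat S.X₁ := HomTen.kflat_of_isKProjective P'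
  have h2 : KFlat S.X₂ := HomTen.kflat_of_isKProjective (CochainComplex.mappingCone ψ)
  have h3 : KFlat S.X₃ := HomTen.kflat_of_isKProjective (P⟦(1 : ℤ)⟧)
  obtain ⟨g', hg'⟩ : ∃ g' : W' ⟶ (F φ).obj (Q.obj S.X₂), g' = g := ⟨_, rfl⟩
  obtain ⟨c, hc⟩ : ∃ c : Q.obj S.X₃ ≅ (Q.obj P)⟦(1 : ℤ)⟧, c = (Q.commShiftIso (1 : ℤ)).app P :=
    ⟨_, rfl⟩
  have h0 : g' ≫ (F φ).map (Q.map S.g ≫ c.hom) = 0 := by
    rw [hg', hc]; exact hg
  rw [Functor.map_comp, ← Category.assoc] at h0
  have h1' : g' ≫ (F φ).map (Q.map S.g) = 0 :=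
    (cancel_mono _).mp (h0.trans (zero_comp).symm)
  obtain ⟨k, hk⟩ := exists_lift_SES r S
    (CochainComplex.mappingCone.triangleRotateShortComplexSplitting ψ) h1 h2 h3 W' g' h1'
  exact ⟨k, hk.trans hg'⟩

variable (φ) in
theorem midExact_F : MidExact (F φ) := by
  obtain ⟨r⟩ := exists_roof φ
  intro T hT
  have hTi := inv_rot_of_distTriang _ hT
  obtain ⟨K, L, ψ, ⟨e⟩⟩ := (DerivedCategory.mem_distTriang_iff _).mp hTi
  obtain ⟨P, p, hP, -, -, hp, -⟩ := KProjRes.exists_resolution K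
  obtain ⟨P', p', hP', -, -, hp', -⟩ := KProjRes.exists_resolution L
  haveI := hP
  haveI := hP'
  have ip : IsIso (Q.map p) := by
    rw [DerivedCategory.isIso_Q_map_iff_quasiIso]; exact hp
  have ip' : IsIso (Q.map p') := by
    rw [DerivedCategory.isIso_Q_map_iff_quasiIso]; exact hp'
  let ep : Q.obj P ≅ Q.obj K := @asIso _ _ _ _ (Q.map p) ip
  let ep' : Q.obj P' ≅ Q.obj L := @asIso _ _ _ _ (Q.map p') ip'
  obtain ⟨ψ', hψ'⟩ := KProjQ.Q_map_surjective P P' (ep.hom ≫ Q.map ψ ≫ ep'.inv)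
  have hT₁ : Q.mapTriangle.obj (CochainComplex.mappingCone.triangle ψ') ∈ distTriang _ :=
    (DerivedCategory.mem_distTriang_iff _).mpr ⟨_, _, ψ', ⟨Iso.refl _⟩⟩
  have hT₂ : Q.mapTriangle.obj (CochainComplex.mappingCone.triangle ψ) ∈ distTriang _ :=
    (DerivedCategory.mem_distTriang_iff _).mpr ⟨_, _, ψ, ⟨Iso.refl _⟩⟩
  have comm : (Q.mapTriangle.obj (CochainComplex.mappingCone.triangle ψ')).mor₁ ≫
      ep'.hom = ep.hom ≫
        (Q.mapTriangle.obj (CochainComplex.mappingCone.triangle ψ)).mor₁ := by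
    change Q.map ψ' ≫ ep'.hom = ep.hom ≫ Q.map ψ
    rw [hψ', Category.assoc, Category.assoc, Iso.inv_hom_id, Category.comp_id]
  let e₁₂ := isoTriangleOfIso₁₂ _ _ hT₁ hT₂ ep ep' comm
  have e' : T ≅ (Q.mapTriangle.obj (CochainComplex.mappingCone.triangle ψ')).rotate :=
    ((triangleRotation (Dual.D R)).counitIso.app T).symm ≪≫
      (rotate (Dual.D R)).mapIso (e ≪≫ e₁₂.symm)
  exact (midExactAt_rotate r ψ').of_iso e'

end mix

end Groth.Agent.Helper9.RHR6
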