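import Mathlib
import Groth.Prelude.Def_DTen4
import Groth.Agent.Helper9.RHA1
import Groth.Agent.Helper9.RHR6

set_option autoImplicit false
set_option linter.style.haveILetI false
set_option linter.unusedSectionVars false

/-!
# Mid-exactness of an abstract model of `K ↦ K ⊗^L_R ω`
-/

open CategoryTheory CategoryTheory.Limits MonoidalCategory DerivedCategory Pretriangulated

universe u

attribute [local instance] HasDerivedCategory.standard

namespace Groth.Agent.Helper9.RHA2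

open Groth.Agent.Helper6 Groth.Agent.Helper6.TenCx Groth.Agent.Helper6.DTenX
open Groth.Agent.Helper9.RHR1 Groth.Agent.Helper9.RHR2 Groth.Agent.Helper9.RHR3
open Groth.Agent.Helper9.RHR6 Groth.Agent.Helper9.RHA1

variable {R A : Type u} [CommRing R] [CommRing A] {φ : R →+* A} [DTen.HasRHomRel φ]
  {r : Roof φ} (m : Model r)

lemma exists_lift_SES (S : ShortComplex (DRing.Cx R))
    (σ : ∀ n, (S.map (HomologicalComplex.eval _ _ n)).Splitting)
    [S.X₁.IsKProjective] [S.X₂.IsKProjective] [S.X₃.IsKProjective]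
    (W' : Dual.D A) (g : W' ⟶ m.F.obj (Q.obj S.X₂))
    (hg : g ≫ m.F.map (Q.map S.g) = 0) :
    ∃ k : W' ⟶ m.F.obj (Q.obj S.X₁), k ≫ m.F.map (Q.map S.f) = g := by
  have hS' := mixSC_shortExact φ σ r.W
  have hT' := DerivedCategory.triangleOfSES_distinguished hS'
  have n2 : m.F.map (Q.map S.g) ≫ (m.isoε S.X₃).hom =
      (m.isoε S.X₂).hom ≫ Q.map ((DTen.extCx φ).map S.g ▷ r.W) := by
    rw [m.isoε_naturality S.g, mixT_map_whisker]
  have n1 : m.F.map (Q.map S.f) ≫ (m.isoε S.X₂).hom =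
      (m.isoε S.X₁).hom ≫ Q.map ((DTen.extCx φ).map S.f ▷ r.W) := by
    rw [m.isoε_naturality S.f, mixT_map_whisker]
  have e : (g ≫ (m.isoε S.X₂).hom) ≫ (triangleOfSES hS').mor₂ = 0 := by
    show (g ≫ (m.isoε S.X₂).hom) ≫ Q.map ((DTen.extCx φ).map S.g ▷ r.W) = 0
    rw [Category.assoc, ← n2, reassoc_of% hg, zero_comp]
  obtain ⟨k, hk⟩ : ∃ k : W' ⟶ Q.obj ((DTen.mixT φ).obj (S.X₁, r.W)),
      g ≫ (m.isoε S.X₂).hom = k ≫ Q.map ((DTen.extCx φ).map S.f ▷ r.W) :=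
    Triangle.coyoneda_exact₂ _ hT' _ e
  refine ⟨k ≫ (m.isoε S.X₁).inv, ?_⟩
  rw [← cancel_mono (m.isoε S.X₂).hom, Category.assoc, Category.assoc, n1,
    Iso.inv_hom_id_assoc, hk]

lemma midExactAt_rotate {P P' : DRing.Cx R} [P.IsKProjective] [P'.IsKProjective]
    (ψ : P ⟶ P') :
    MidExactAt m.F (Q.mapTriangle.obj (CochainComplex.mappingCone.triangle ψ)).rotate := by
  intro W' g hg
  let S := CochainComplex.mappingCone.triangleRotateShortComplex ψ
  haveI : (CochainComplex.mappingCone ψ).IsKProjective := KProjRes.isKProjective_mappingCone ψ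
  haveI h1 : S.X₁.IsKProjective := (inferInstance : P'.IsKProjective)
  haveI h2 : S.X₂.IsKProjective := (inferInstance : (CochainComplex.mappingCone ψ).IsKProjective)
  haveI h3 : S.X₃.IsKProjective := (inferInstance : (P⟦(1 : ℤ)⟧).IsKProjective)
  obtain ⟨g', hg'⟩ : ∃ g' : W' ⟶ m.F.obj (Q.obj S.X₂), g' = g := ⟨_, rfl⟩
  obtain ⟨c, hc⟩ : ∃ c : Q.obj S.X₃ ≅ (Q.obj P)⟦(1 : ℤ)⟧, c = (Q.commShiftIso (1 : ℤ)).app P :=
    ⟨_, rfl⟩
  have h0 : g' ≫ m.F.map (Q.map S.g ≫ c.hom) = 0 := by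
    rw [hg', hc]; exact hg
  rw [Functor.map_comp, ← Category.assoc] at h0
  have h1' : g' ≫ m.F.map (Q.map S.g) = 0 :=
    (cancel_mono _).mp (h0.trans (zero_comp).symm)
  obtain ⟨k, hk⟩ := exists_lift_SES m S
    (CochainComplex.mappingCone.triangleRotateShortComplexSplitting ψ) W' g' h1'
  exact ⟨k, hk.trans hg'⟩

theorem midExact_F : MidExact m.F := by
  intro T hT
  have hTi := inv_rot_of_distTriang _ hT
  obtain ⟨K, L, ψ, ⟨e⟩⟩ := (DerivedCategory.mem_distTriang_iff _).mp hTi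
  obtain ⟨P, p, hP, -, -, hp, -⟩ := KProjRes.exists_resolution K
  obtain ⟨P', p', hP', -, -, hp', -⟩ := KProjRes.exists_resolution L
  haveI := hP
  haveI := hP'
  have ip : IsIso (Q.map p) := by
    rw [DerivedCategory.isIso_Q_map_iff_quasiIso]; exact hp
  have ip' : IsIso (Q.map p') := by
    rw [DerivedCategory.isIso_Q_map_iff_quasiIso]; exact hp'
  let ep : Q.obj P ≅ Q.obj K := @asIso _ _ _ _ (Q.map p) ip
  let ep' : Q.obj P' ≅ Q.obj L := @asIso _ _ _ _ (Q.map p') ip'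
  obtain ⟨ψ', hψ'⟩ := KProjQ.Q_map_surjective P P' (ep.hom ≫ Q.map ψ ≫ ep'.inv)
  have hT₁ : Q.mapTriangle.obj (CochainComplex.mappingCone.triangle ψ') ∈ distTriang _ :=
    (DerivedCategory.mem_distTriang_iff _).mpr ⟨_, _, ψ', ⟨Iso.refl _⟩⟩
  have hT₂ : Q.mapTriangle.obj (CochainComplex.mappingCone.triangle ψ) ∈ distTriang _ :=
    (DerivedCategory.mem_distTriang_iff _).mpr ⟨_, _, ψ, ⟨Iso.refl _⟩⟩
  have comm : (Q.mapTriangle.obj (CochainComplex.mappingCone.triangle ψ')).mor₁ ≫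
      ep'.hom = ep.hom ≫
        (Q.mapTriangle.obj (CochainComplex.mappingCone.triangle ψ)).mor₁ := by
    change Q.map ψ' ≫ ep'.hom = ep.hom ≫ Q.map ψ
    rw [hψ', Category.assoc, Category.assoc, Iso.inv_hom_id, Category.comp_id]
  let e₁₂ := isoTriangleOfIso₁₂ _ _ hT₁ hT₂ ep ep' comm
  have e' : T ≅ (Q.mapTriangle.obj (CochainComplex.mappingCone.triangle ψ')).rotate :=
    ((triangleRotation (Dual.D R)).counitIso.app T).symm ≪≫
      (rotate (Dual.D R)).mapIso (e ≪≫ e₁₂.symm)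
  exact (midExactAt_rotate m ψ').of_iso e'

end Groth.Agent.Helper9.RHA2
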