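import Mathlib
import Groth.Prelude.Def_DTen4
import Groth.Agent.Helper9.RHR6
import Groth.Agent.Helper1.DCoprod
import Groth.Agent.Helper6.HomTenA
import Groth.Agent.Helper6.AdjHC

set_option autoImplicit false
set_option linter.style.haveILetI false
set_option linter.unusedSectionVars false

/-!
# `K ↦ K ⊗^L_R ω` preserves coproducts
-/

open CategoryTheory CategoryTheory.Limits MonoidalCategory DerivedCategory Pretriangulated
open ZeroObject

universe u

attribute [local instance] HasDerivedCategory.standard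

namespace Groth.Agent.Helper9.RHR7

open Groth.Agent.Helper1 Groth.Agent.Helper6 Groth.Agent.Helper6.TenCx Groth.Agent.Helper6.DTenX
open Groth.Agent.Helper9.RHR1 Groth.Agent.Helper9.RHR2 Groth.Agent.Helper9.RHR3
open Groth.Agent.Helper9.RHR4 Groth.Agent.Helper9.RHR6

section cat

variable {C : Type*} [Category C]

/-- transport of a coproduct cofan along isomorphisms of the summands and of the vertex -/
noncomputable def isColimitCofanOfIso {J : Type*} {X Y : J → C} (e : ∀ j, X j ≅ Y j)
    (c : Cofan X) (d : Cofan Y) (hd : IsColimit d) (u : c.pt ≅ d.pt)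
    (h : ∀ j, c.inj j ≫ u.hom = (e j).hom ≫ d.inj j) : IsColimit c :=
  Cofan.IsColimit.mk c (fun s => u.hom ≫ Cofan.IsColimit.desc hd (fun j => (e j).inv ≫ s.inj j))
    (fun s j => by
      rw [← Category.assoc, h, Category.assoc, Cofan.IsColimit.fac, Iso.hom_inv_id_assoc])
    (fun s m hm => by
      have h' : ∀ j, d.inj j ≫ u.inv = (e j).inv ≫ c.inj j := fun j => by
        rw [Iso.comp_inv_eq, Category.assoc, h, Iso.inv_hom_id_assoc]
      rw [← Iso.inv_comp_eq]
      apply Cofan.IsColimit.hom_ext hd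
      intro j
      rw [Cofan.IsColimit.fac, ← hm j, ← Category.assoc, h', Category.assoc])

/-- two coproduct cofans of isomorphic families have isomorphic vertices -/
noncomputable def cofanPtIso {J : Type*} {X Y : J → C} (e : ∀ j, X j ≅ Y j)
    (c : Cofan X) (hc : IsColimit c) (d : Cofan Y) (hd : IsColimit d) : c.pt ≅ d.pt where
  hom := Cofan.IsColimit.desc hc (fun j => (e j).hom ≫ d.inj j)
  inv := Cofan.IsColimit.desc hd (fun j => (e j).inv ≫ c.inj j)
  hom_inv_id := by
    apply Cofan.IsColimit.hom_ext hc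
    intro j
    rw [← Category.assoc, Cofan.IsColimit.fac, Category.assoc, Cofan.IsColimit.fac,
      Iso.hom_inv_id_assoc, Category.comp_id]
  inv_hom_id := by
    apply Cofan.IsColimit.hom_ext hd
    intro j
    rw [← Category.assoc, Cofan.IsColimit.fac, Category.assoc, Cofan.IsColimit.fac,
      Iso.inv_hom_id_assoc, Category.comp_id]

lemma inj_cofanPtIso_hom {J : Type*} {X Y : J → C} (e : ∀ j, X j ≅ Y j)
    (c : Cofan X) (hc : IsColimit c) (d : Cofan Y) (hd : IsColimit d) (j : J) :
    c.inj j ≫ (cofanPtIso e c hc d hd).hom = (e j).hom ≫ d.inj j :=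
  Cofan.IsColimit.fac hc _ j

end cat

section general

variable {A : Type u} [CommRing A]

/-- sums of K-projective complexes are K-projective -/
lemma isKProjective_sig {J : Type u} (K : J → DRing.Cx A) (hK : ∀ j, (K j).IsKProjective) :
    (DCoprod.sig K).IsKProjective where
  nonempty_homotopy_zero {L} f hL :=
    ⟨DCoprod.homotopyDesc f (fun n =>
      haveI := hK n
      CochainComplex.IsKProjective.homotopyZero _ hL)⟩

/-- the termwise coproduct is a coproduct of complexes -/
noncomputable def isColimitSig {J : Type u} (K : J → DRing.Cx A) :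
    IsColimit (Cofan.mk (DCoprod.sig K) (DCoprod.ι K)) :=
  Cofan.IsColimit.mk _ (fun s => DCoprod.desc s.inj) (fun s j => DCoprod.ι_desc _ j)
    (fun s m hm => DCoprod.hom_ext (fun j => by rw [DCoprod.ι_desc]; exact hm j))

/-- a coproduct in the category of complexes gives a coproduct in the derived category -/
noncomputable def isColimitQ {J : Type u} {K : J → DRing.Cx A} (c : Cofan K) (hc : IsColimit c) :
    IsColimit (Cofan.mk (Q.obj c.pt) (fun j => Q.map (c.inj j))) := by
  let e : c.pt ≅ DCoprod.sig K :=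
    cofanPtIso (fun j => Iso.refl _) c hc _ (isColimitSig K)
  have he : ∀ j, c.inj j ≫ e.hom = DCoprod.ι K j := fun j => by
    have := inj_cofanPtIso_hom (fun j => Iso.refl (K j)) c hc _ (isColimitSig K) j
    simpa using this
  refine isColimitCofanOfIso (fun j => Iso.refl _) _ _ (DCoprod.isColimitCofan K) (Q.mapIso e)
    (fun j => ?_)
  change Q.map (c.inj j) ≫ Q.map e.hom = 𝟙 _ ≫ Q.map (DCoprod.ι K j)
  rw [← Functor.map_comp, he, Category.id_comp]

end general

section mix

variable {R A : Type u} [CommRing R] [CommRing A] (φ : R →+* A)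

/-- `ext(-) ⊗ W` -/
noncomputable abbrev G (W : DRing.Cx A) : DRing.Cx R ⥤ DRing.Cx A :=
  DTen.extCx φ ⋙ tensorRight W

noncomputable def adjG (W : DRing.Cx A) : G φ W ⊣ DRing.homCxFunctor W ⋙ DTen.resCx φ :=
  (AdjHC.adjHC (ModuleCat.extendRestrictScalarsAdj.{u, u, u} φ) (ComplexShape.up ℤ)).comp
    (HomTen.adjC W)

instance (W : DRing.Cx A) : (G φ W).IsLeftAdjoint := (adjG φ W).isLeftAdjoint

lemma G_map {P P' : DRing.Cx R} (f : P ⟶ P') (W : DRing.Cx A) :
    (G φ W).map f = (DTen.mixT φ).map (Prod.mkHom f (𝟙 W)) :=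
  (mixT_map_whisker φ f W).symm

/-- `Q(ext(ΣP) ⊗ W)` is the coproduct of the `Q(ext(P j) ⊗ W)` -/
noncomputable def isColimitMix {J : Type u} (P : J → DRing.Cx R) (W : DRing.Cx A) :
    IsColimit (Cofan.mk (Q.obj ((DTen.mixT φ).obj (DCoprod.sig P, W)))
      (fun j => Q.map ((DTen.mixT φ).map (Prod.mkHom (DCoprod.ι P j) (𝟙 W))))) := by
  have h1 := isColimitCofanMkObjOfIsColimit (G φ W) _ _ (isColimitSig P)
  have h2 := isColimitQ _ h1
  refine IsColimit.ofIsoColimit h2 (Cofan.ext (Iso.refl _) (fun j => ?_))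
  change Q.map ((G φ W).map (DCoprod.ι P j)) ≫ 𝟙 _ = _
  rw [Category.comp_id, G_map]
  rfl

variable {φ} [DTen.HasRHomRel φ] [DTen.HasLTenMix φ]

/-- the model case -/
noncomputable def isColimitFModel (r : Roof φ) {J : Type u} (P : J → DRing.Cx R)
    (hP : ∀ j, (P j).IsKProjective) :
    IsColimit (Cofan.mk ((F φ).obj (Q.obj (DCoprod.sig P)))
      (fun j => (F φ).map (Q.map (DCoprod.ι P j)))) := by
  haveI := isKProjective_sig P hP
  have hf : ∀ j, KFlat (P j) := fun j => haveI := hP j; HomTen.kflat_of_isKProjective (P j)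
  have hs : KFlat (DCoprod.sig P) := HomTen.kflat_of_isKProjective _
  refine isColimitCofanOfIso (fun j => isoε r (P j) (hf j)) _ _ (isColimitMix φ P r.W)
    (isoε r _ hs) (fun j => ?_)
  change (F φ).map (Q.map (DCoprod.ι P j)) ≫ (isoε r _ hs).hom = (isoε r (P j) (hf j)).hom ≫
    Q.map ((DTen.mixT φ).map (Prod.mkHom (DCoprod.ι P j) (𝟙 r.W)))
  rw [F_map, isoε_naturality r (DCoprod.ι P j) (hf j) hs]

variable (φ) in
theorem presCoprod_F : PresCoprod (F φ) := by
  obtain ⟨r⟩ := exists_roof φ
  intro J N c hc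
  let P : J → DRing.Cx R := fun j => rep (N j)
  have hP : ∀ j, (P j).IsKProjective := fun j => inferInstance
  let u : c.pt ≅ Q.obj (DCoprod.sig P) :=
    cofanPtIso (fun j => (repIso (N j)).symm) c hc _ (DCoprod.isColimitCofan P)
  have hu : ∀ j, c.inj j ≫ u.hom = (repIso (N j)).inv ≫ Q.map (DCoprod.ι P j) := fun j =>
    inj_cofanPtIso_hom (fun j => (repIso (N j)).symm) c hc _ (DCoprod.isColimitCofan P) j
  refine ⟨isColimitCofanOfIso (fun j => (F φ).mapIso (repIso (N j)).symm) _ _
    (isColimitFModel r P hP) ((F φ).mapIso u) (fun j => ?_)⟩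
  change (F φ).map (c.inj j) ≫ (F φ).map u.hom = (F φ).map (repIso (N j)).inv ≫
    (F φ).map (Q.map (DCoprod.ι P j))
  rw [← Functor.map_comp, hu, Functor.map_comp]

variable (φ) in
/-- `F` kills the zero object -/
lemma isZero_F_zero : IsZero ((F φ).obj 0) := by
  obtain ⟨h⟩ := presCoprod_F φ (J := PEmpty.{u + 1}) (fun j => j.elim)
    (Cofan.mk (0 : Dual.D R) (fun j => j.elim))
    (Cofan.IsColimit.mk _ (fun s => 0) (fun s j => j.elim) (fun s m _ => (isZero_zero _).eq_of_src _ _))
  refine (IsZero.iff_id_eq_zero _).mpr ?_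
  apply Cofan.IsColimit.hom_ext h
  intro j
  exact j.elim

variable (φ) in
instance preservesZeroMorphisms_F : (F φ).PreservesZeroMorphisms :=
  Functor.preservesZeroMorphisms_of_map_zero_object ((isZero_F_zero φ).isoZero)

end mix

end Groth.Agent.Helper9.RHR7
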