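import Mathlib
import Groth.Prelude.Def_DTen4
import Groth.Agent.Helper9.RHA1
import Groth.Agent.Helper9.RHR7

set_option autoImplicit false
set_option linter.style.haveILetI false
set_option linter.unusedSectionVars false

/-!
# An abstract model of `K ↦ K ⊗^L_R ω` preserves coproducts
-/

open CategoryTheory CategoryTheory.Limits MonoidalCategory DerivedCategory Pretriangulated
open ZeroObject

universe u

attribute [local instance] HasDerivedCategory.standard

namespace Groth.Agent.Helper9.RHA3

open Groth.Agent.Helper1 Groth.Agent.Helper6 Groth.Agent.Helper6.TenCx Groth.Agent.Helper6.DTenX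
open Groth.Agent.Helper9.RHR1 Groth.Agent.Helper9.RHR2 Groth.Agent.Helper9.RHR3
open Groth.Agent.Helper9.RHR4 Groth.Agent.Helper9.RHR6 Groth.Agent.Helper9.RHR7
open Groth.Agent.Helper9.RHA1

variable {R A : Type u} [CommRing R] [CommRing A] {φ : R →+* A} [DTen.HasRHomRel φ]
  {r : Roof φ} (m : Model r)

/-- the model case -/
noncomputable def isColimitFModel {J : Type u} (P : J → DRing.Cx R)
    (hP : ∀ j, (P j).IsKProjective) :
    IsColimit (Cofan.mk (m.F.obj (Q.obj (DCoprod.sig P)))
      (fun j => m.F.map (Q.map (DCoprod.ι P j)))) := by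
  haveI := isKProjective_sig P hP
  haveI := hP
  refine isColimitCofanOfIso (fun j => m.isoε (P j)) _ _ (isColimitMix φ P r.W)
    (m.isoε _) (fun j => ?_)
  change m.F.map (Q.map (DCoprod.ι P j)) ≫ (m.isoε _).hom = (m.isoε (P j)).hom ≫
    Q.map ((DTen.mixT φ).map (Prod.mkHom (DCoprod.ι P j) (𝟙 r.W)))
  rw [m.isoε_naturality (DCoprod.ι P j)]

theorem presCoprod_F : PresCoprod m.F := by
  intro J N c hc
  let P : J → DRing.Cx R := fun j => rep (N j)
  have hP : ∀ j, (P j).IsKProjective := fun j => inferInstance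
  let u : c.pt ≅ Q.obj (DCoprod.sig P) :=
    cofanPtIso (fun j => (repIso (N j)).symm) c hc _ (DCoprod.isColimitCofan P)
  have hu : ∀ j, c.inj j ≫ u.hom = (repIso (N j)).inv ≫ Q.map (DCoprod.ι P j) := fun j =>
    inj_cofanPtIso_hom (fun j => (repIso (N j)).symm) c hc _ (DCoprod.isColimitCofan P) j
  refine ⟨isColimitCofanOfIso (fun j => m.F.mapIso (repIso (N j)).symm) _ _
    (isColimitFModel m P hP) (m.F.mapIso u) (fun j => ?_)⟩
  change m.F.map (c.inj j) ≫ m.F.map u.hom = m.F.map (repIso (N j)).inv ≫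
    m.F.map (Q.map (DCoprod.ι P j))
  rw [← Functor.map_comp, hu, Functor.map_comp]

/-- `F` kills the zero object -/
lemma isZero_F_zero : IsZero (m.F.obj 0) := by
  obtain ⟨h⟩ := presCoprod_F m (J := PEmpty.{u + 1}) (fun j => j.elim)
    (Cofan.mk (0 : Dual.D R) (fun j => j.elim))
    (Cofan.IsColimit.mk _ (fun s => 0) (fun s j => j.elim) (fun s m _ => (isZero_zero _).eq_of_src _ _))
  refine (IsZero.iff_id_eq_zero _).mpr ?_
  apply Cofan.IsColimit.hom_ext h
  intro j
  exact j.elim

lemma preservesZeroMorphisms_F : m.F.PreservesZeroMorphisms :=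
  Functor.preservesZeroMorphisms_of_map_zero_object ((isZero_F_zero m).isoZero)

end Groth.Agent.Helper9.RHA3
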