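import Mathlib
import Groth.Prelude.Def_DRing4
import Groth.Agent.Helper6.TenCx

/-!
# Element-level description of associator / unitors for tensor products of complexes of modules
-/

universe u
open CategoryTheory CategoryTheory.Limits MonoidalCategory
open Groth.Agent.Helper6

namespace Groth.Agent.Helper9.CxPair

variable {R : Type u} [CommRing R]

/-- associator on the summands -/
lemma ι_associator_hom (L K P : DRing.Cx R) (p q r pq qr n : ℤ) (h₁ : p + q = pq) (h₂ : q + r = qr)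
    (h₃ : pq + r = n) (h₄ : p + qr = n) :
    (TenCx.ι L K p q pq h₁ ▷ P.X r) ≫ TenCx.ι (L ⊗ K) P pq r n h₃ ≫ (α_ L K P).hom.f n =
      (α_ (L.X p) (K.X q) (P.X r)).hom ≫ (L.X p ◁ TenCx.ι K P q r qr h₂) ≫
        TenCx.ι L (K ⊗ P) p qr n h₄ := by
  have h : ComplexShape.r (ComplexShape.up ℤ) (ComplexShape.up ℤ) (ComplexShape.up ℤ)
      (ComplexShape.up ℤ) (ComplexShape.up ℤ) (p, q, r) = n := by
    change p + q + r = n
    omega
  have e1 := HomologicalComplex.ι_mapBifunctorAssociatorX_hom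
    (curriedAssociatorNatIso (ModuleCat.{u} R)) L K P (ComplexShape.up ℤ) (ComplexShape.up ℤ)
    (ComplexShape.up ℤ) p q r n h
  have e2 := HomologicalComplex.mapBifunctor₁₂.ι_eq (curriedTensor (ModuleCat.{u} R))
    (curriedTensor (ModuleCat.{u} R)) L K P (ComplexShape.up ℤ) (ComplexShape.up ℤ) p q r pq n h₁ h₃
  have e3 := HomologicalComplex.mapBifunctor₂₃.ι_eq (curriedTensor (ModuleCat.{u} R))
    (curriedTensor (ModuleCat.{u} R)) L K P (ComplexShape.up ℤ) (ComplexShape.up ℤ)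
    (ComplexShape.up ℤ) p q r qr n h₂ h₄
  rw [e2, e3] at e1
  simp only [Category.assoc, curriedTensor_obj_obj, curriedTensor_obj_map, curriedTensor_map_app, curriedAssociatorNatIso_hom_app_app_app] at e1
  exact e1


/-- the unit element of `(𝟙_ (Cx R)).X 0` -/
noncomputable def one' : ((𝟙_ (DRing.Cx R) : DRing.Cx R).X 0 : Type u) :=
  (HomologicalComplex.singleObjXSelf (ComplexShape.up ℤ) 0 (𝟙_ (ModuleCat.{u} R))).inv (1 : R)

lemma rightUnitor_inv_f (K : DRing.Cx R) (n : ℤ) :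
    (ρ_ K).inv.f n = (ρ_ (K.X n)).inv ≫
      (K.X n ◁ (HomologicalComplex.singleObjXSelf (ComplexShape.up ℤ) 0 (𝟙_ (ModuleCat.{u} R))).inv) ≫
      TenCx.ι K (𝟙_ (DRing.Cx R)) n 0 n (add_zero n) :=
  HomologicalComplex.rightUnitor'_inv K n

lemma leftUnitor_inv_f (K : DRing.Cx R) (n : ℤ) :
    (λ_ K).inv.f n = (λ_ (K.X n)).inv ≫
      ((HomologicalComplex.singleObjXSelf (ComplexShape.up ℤ) 0 (𝟙_ (ModuleCat.{u} R))).inv ▷ K.X n) ≫
      TenCx.ι (𝟙_ (DRing.Cx R)) K 0 n n (zero_add n) :=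
  HomologicalComplex.leftUnitor'_inv K n


open scoped TensorProduct

lemma rightUnitor_inv_apply (K : DRing.Cx R) (n : ℤ) (x : K.X n) :
    (ρ_ K).inv.f n x = TenCx.ι K (𝟙_ (DRing.Cx R)) n 0 n (add_zero n) (x ⊗ₜ[R] one') := by
  rw [rightUnitor_inv_f]
  rfl

lemma leftUnitor_inv_apply (K : DRing.Cx R) (n : ℤ) (x : K.X n) :
    (λ_ K).inv.f n x = TenCx.ι (𝟙_ (DRing.Cx R)) K 0 n n (zero_add n) (one' ⊗ₜ[R] x) := by
  rw [leftUnitor_inv_f]
  rfl

lemma associator_hom_apply (L K P : DRing.Cx R) (p q r pq qr n : ℤ) (h₁ : p + q = pq)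
    (h₂ : q + r = qr) (h₃ : pq + r = n) (h₄ : p + qr = n) (x : L.X p) (y : K.X q) (z : P.X r) :
    (α_ L K P).hom.f n (TenCx.ι (L ⊗ K) P pq r n h₃ (TenCx.ι L K p q pq h₁ (x ⊗ₜ[R] y) ⊗ₜ[R] z)) =
      TenCx.ι L (K ⊗ P) p qr n h₄ (x ⊗ₜ[R] TenCx.ι K P q r qr h₂ (y ⊗ₜ[R] z)) := by
  have := congrArg (fun f => f.hom ((x ⊗ₜ[R] y) ⊗ₜ[R] z))
    (ι_associator_hom L K P p q r pq qr n h₁ h₂ h₃ h₄)
  exact this

lemma associator_inv_apply (L K P : DRing.Cx R) (p q r pq qr n : ℤ) (h₁ : p + q = pq)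
    (h₂ : q + r = qr) (h₃ : pq + r = n) (h₄ : p + qr = n) (x : L.X p) (y : K.X q) (z : P.X r) :
    (α_ L K P).inv.f n (TenCx.ι L (K ⊗ P) p qr n h₄ (x ⊗ₜ[R] TenCx.ι K P q r qr h₂ (y ⊗ₜ[R] z))) =
      TenCx.ι (L ⊗ K) P pq r n h₃ (TenCx.ι L K p q pq h₁ (x ⊗ₜ[R] y) ⊗ₜ[R] z) := by
  rw [← associator_hom_apply L K P p q r pq qr n h₁ h₂ h₃ h₄]
  have : (α_ L K P).hom.f n ≫ (α_ L K P).inv.f n = 𝟙 _ := by
    rw [← HomologicalComplex.comp_f, Iso.hom_inv_id]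
    rfl
  exact congrArg (fun f => f.hom (TenCx.ι (L ⊗ K) P pq r n h₃ (TenCx.ι L K p q pq h₁ (x ⊗ₜ[R] y) ⊗ₜ[R] z))) this

lemma whiskerRight_apply {L L' : DRing.Cx R} (g : L ⟶ L') (K : DRing.Cx R) (p q n : ℤ)
    (h : p + q = n) (x : L.X p) (y : K.X q) :
    (g ▷ K).f n (TenCx.ι L K p q n h (x ⊗ₜ[R] y)) = TenCx.ι L' K p q n h (g.f p x ⊗ₜ[R] y) :=
  congrArg (fun f => f.hom (x ⊗ₜ[R] y)) (TenCx.ι_whiskerRight g K p q n h)

lemma whiskerLeft_apply (L : DRing.Cx R) {K K' : DRing.Cx R} (f : K ⟶ K') (p q n : ℤ)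
    (h : p + q = n) (x : L.X p) (y : K.X q) :
    (L ◁ f).f n (TenCx.ι L K p q n h (x ⊗ₜ[R] y)) = TenCx.ι L K' p q n h (x ⊗ₜ[R] f.f q y) :=
  congrArg (fun f => f.hom (x ⊗ₜ[R] y)) (TenCx.ι_whiskerLeft L f p q n h)

/-- the coordinate of an element of the unit in degree `0` -/
noncomputable def coord : ((𝟙_ (DRing.Cx R) : DRing.Cx R).X 0 : Type u) →ₗ[R] R :=
  (HomologicalComplex.singleObjXSelf (ComplexShape.up ℤ) 0 (𝟙_ (ModuleCat.{u} R))).hom.hom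

lemma coord_smul_one' (r : ((𝟙_ (DRing.Cx R) : DRing.Cx R).X 0 : Type u)) :
    coord r • one' = r := by
  have h : (HomologicalComplex.singleObjXSelf (ComplexShape.up ℤ) 0 (𝟙_ (ModuleCat.{u} R))).inv
      ((HomologicalComplex.singleObjXSelf (ComplexShape.up ℤ) 0 (𝟙_ (ModuleCat.{u} R))).hom r) = r :=
    congrArg (fun f => f.hom r)
      (HomologicalComplex.singleObjXSelf (ComplexShape.up ℤ) 0 (𝟙_ (ModuleCat.{u} R))).hom_inv_id
  refine Eq.trans ?_ h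
  unfold one' coord
  rw [← map_smul]
  congr 1
  exact mul_one _

lemma unit_eq_zero (k : ℤ) (hk : k ≠ 0) (r : ((𝟙_ (DRing.Cx R) : DRing.Cx R).X k : Type u)) :
    r = 0 := by
  have hz : IsZero ((𝟙_ (DRing.Cx R) : DRing.Cx R).X k) :=
    HomologicalComplex.isZero_single_obj_X (ComplexShape.up ℤ) 0 (𝟙_ (ModuleCat.{u} R)) k hk
  have := ModuleCat.subsingleton_of_isZero hz
  exact Subsingleton.elim _ _


section FF

variable {M : Type u} [AddCommGroup M] [Module R M]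

/-- an endomorphism factoring through a finite free module -/
def IsFF (f : M →ₗ[R] M) : Prop :=
  ∃ (k : ℕ) (s : M →ₗ[R] (Fin k → R)) (r : (Fin k → R) →ₗ[R] M), f = r ∘ₗ s

lemma isFF_zero : IsFF (0 : M →ₗ[R] M) := ⟨0, 0, 0, by simp⟩

lemma isFF_add {f g : M →ₗ[R] M} (hf : IsFF f) (hg : IsFF g) : IsFF (f + g) := by
  obtain ⟨k, s, r, rfl⟩ := hf
  obtain ⟨k', s', r', rfl⟩ := hg
  let e : (Fin (k + k') → R) ≃ₗ[R] ((Fin k → R) × (Fin k' → R)) :=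
    (LinearEquiv.funCongrLeft R R finSumFinEquiv) ≪≫ₗ (LinearEquiv.sumArrowLequivProdArrow _ _ R R)
  refine ⟨k + k', e.symm.toLinearMap ∘ₗ (s.prod s'), (r.coprod r') ∘ₗ e.toLinearMap, ?_⟩
  ext m
  simp

lemma isFF_smulRight (φ : M →ₗ[R] R) (x : M) : IsFF (φ.smulRight x) := by
  refine ⟨1, LinearMap.pi (fun _ => φ), (LinearMap.proj 0).smulRight x, ?_⟩
  ext m
  simp

lemma finite_projective_of_isFF_id (h : IsFF (LinearMap.id : M →ₗ[R] M)) :
    Module.Finite R M ∧ Module.Projective R M := by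
  obtain ⟨k, s, r, hrs⟩ := h
  refine ⟨Module.Finite.of_surjective r (fun x => ⟨s x, (LinearMap.congr_fun hrs x).symm⟩), ?_⟩
  exact Module.Projective.of_split s r hrs.symm

end FF

end Groth.Agent.Helper9.CxPair
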