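import Mathlib
import Groth.Prelude.Def_DTen4
import Groth.Agent.Helper9.RHR2
import Groth.Agent.Helper9.CxPair1

set_option autoImplicit false
set_option linter.style.haveILetI false
set_option linter.unusedSectionVars false

/-!
# The counit-like map `c` at the unit complex
-/

open CategoryTheory CategoryTheory.Limits MonoidalCategory DerivedCategory

universe u

attribute [local instance] HasDerivedCategory.standard

namespace Groth.Agent.Helper9.RHR10

open Groth.Agent.Helper6 Groth.Agent.Helper6.TenCx Groth.Agent.Helper9.RHR1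
  Groth.Agent.Helper9.RHR2
open scoped TensorProduct ChangeOfRings

section chain

variable {R A : Type u} [CommRing R] [CommRing A] (φ : R →+* A)

/-- `ext(𝟙) ≅ 𝟙` -/
noncomputable def κ₀ : (DTen.extCx φ).obj (𝟙_ (DRing.Cx R)) ≅ 𝟙_ (DRing.Cx A) :=
  (HomologicalComplex.singleMapHomologicalComplex (ModuleCat.extendScalars.{u, u, u} φ)
      (ComplexShape.up ℤ) 0).app (𝟙_ (ModuleCat.{u} R)) ≪≫
    (HomologicalComplex.single _ _ 0).mapIso
      (Functor.Monoidal.εIso (ModuleCat.extendScalars.{u, u, u} φ)).symm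

lemma κ₀_inv_one :
    (κ₀ φ).inv.f 0 CxPair.one' =
      ((1 : A) ⊗ₜ[R, φ] (CxPair.one' : ((𝟙_ (DRing.Cx R) : DRing.Cx R).X 0 : Type u))) := by
  have h1 := HomologicalComplex.singleMapHomologicalComplex_inv_app_self
    (ModuleCat.extendScalars.{u, u, u} φ) (ComplexShape.up ℤ) 0 (𝟙_ (ModuleCat.{u} R))
  have h2 := HomologicalComplex.single_map_f_self (V := ModuleCat.{u} A)
    (c := ComplexShape.up ℤ) 0 (Functor.LaxMonoidal.ε (ModuleCat.extendScalars.{u, u, u} φ))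
  have e1 : (κ₀ φ).inv.f 0 CxPair.one' =
      ((HomologicalComplex.singleMapHomologicalComplex (ModuleCat.extendScalars.{u, u, u} φ)
        (ComplexShape.up ℤ) 0).inv.app (𝟙_ (ModuleCat.{u} R))).f 0
        (((HomologicalComplex.single (ModuleCat.{u} A) (ComplexShape.up ℤ) 0).map
          (Functor.LaxMonoidal.ε (ModuleCat.extendScalars.{u, u, u} φ))).f 0 CxPair.one') := rfl
  have e2 := congrArg (fun f => f.hom (CxPair.one' : ((𝟙_ (DRing.Cx A) : DRing.Cx A).X 0 : Type u))) h2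
  have e3 : (HomologicalComplex.singleObjXSelf (ComplexShape.up ℤ) 0 (𝟙_ (ModuleCat.{u} A))).hom
      (CxPair.one' : ((𝟙_ (DRing.Cx A) : DRing.Cx A).X 0 : Type u)) = (1 : A) :=
    congrArg (fun f => f.hom (1 : A))
      (HomologicalComplex.singleObjXSelf (ComplexShape.up ℤ) 0 (𝟙_ (ModuleCat.{u} A))).inv_hom_id
  refine e1.trans ?_
  refine (congrArg _ e2).trans ?_
  generalize hy : (ModuleCat.Hom.hom
    ((HomologicalComplex.singleObjXSelf (ComplexShape.up ℤ) 0 (𝟙_ (ModuleCat.{u} A))).hom ≫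
      Functor.LaxMonoidal.ε (ModuleCat.extendScalars.{u, u, u} φ) ≫
        (HomologicalComplex.singleObjXSelf (ComplexShape.up ℤ) 0
          ((ModuleCat.extendScalars.{u, u, u} φ).obj (𝟙_ (ModuleCat.{u} R)))).inv))
      CxPair.one' = y
  refine (congrArg (fun f => f.hom y) h1).trans ?_
  subst hy
  change (ModuleCat.extendScalars.{u, u, u} φ).map
      (HomologicalComplex.singleObjXSelf (ComplexShape.up ℤ) 0 (𝟙_ (ModuleCat.{u} R))).inv
    ((HomologicalComplex.singleObjXSelf (ComplexShape.up ℤ) 0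
        ((ModuleCat.extendScalars.{u, u, u} φ).obj (𝟙_ (ModuleCat.{u} R)))).hom
      ((HomologicalComplex.singleObjXSelf (ComplexShape.up ℤ) 0
        ((ModuleCat.extendScalars.{u, u, u} φ).obj (𝟙_ (ModuleCat.{u} R)))).inv
        (Functor.LaxMonoidal.ε (ModuleCat.extendScalars.{u, u, u} φ)
          ((HomologicalComplex.singleObjXSelf (ComplexShape.up ℤ) 0 (𝟙_ (ModuleCat.{u} A))).hom
            CxPair.one')))) = _
  rw [e3]
  have e4 : ∀ z, (HomologicalComplex.singleObjXSelf (ComplexShape.up ℤ) 0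
        ((ModuleCat.extendScalars.{u, u, u} φ).obj (𝟙_ (ModuleCat.{u} R)))).hom
      ((HomologicalComplex.singleObjXSelf (ComplexShape.up ℤ) 0
        ((ModuleCat.extendScalars.{u, u, u} φ).obj (𝟙_ (ModuleCat.{u} R)))).inv z) = z := fun z =>
    congrArg (fun f => f.hom z)
      (HomologicalComplex.singleObjXSelf (ComplexShape.up ℤ) 0
        ((ModuleCat.extendScalars.{u, u, u} φ).obj (𝟙_ (ModuleCat.{u} R)))).inv_hom_id
  rw [e4]
  rfl

/-- `ext(𝟙) ⊗ W ≅ W` -/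
noncomputable def κ (W : DRing.Cx A) : (DTen.mixT φ).obj (𝟙_ (DRing.Cx R), W) ≅ W :=
  whiskerRightIso (κ₀ φ) W ≪≫ λ_ W

lemma μ'_one (M : ModuleCat.{u} R) (N : ModuleCat.{u} A) (m : M) (w : N) :
    (μ' φ M N).hom (m ⊗ₜ[R] (show (DTen.resM φ).obj N from w)) =
      (show (DTen.resM φ).obj ((ModuleCat.extendScalars.{u, u, u} φ).obj M ⊗ N) from
        (((1 : A) ⊗ₜ[R, φ] m : (ModuleCat.extendScalars.{u, u, u} φ).obj M) ⊗ₜ[A] w)) := rfl

lemma θ'_one (W : DRing.Cx A) (n : ℤ) (w : W.X n) :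
    (θ' φ (𝟙_ (DRing.Cx R)) W).f n
      (ι (𝟙_ (DRing.Cx R)) ((DTen.resCx φ).obj W) 0 n n (zero_add n)
        ((CxPair.one' : ((𝟙_ (DRing.Cx R) : DRing.Cx R).X 0 : Type u)) ⊗ₜ[R]
          (show ((DTen.resCx φ).obj W).X n from w))) =
    (show ((DTen.resCx φ).obj ((DTen.mixT φ).obj (𝟙_ (DRing.Cx R), W))).X n from
      ((κ₀ φ).inv ▷ W).f n (ι (𝟙_ (DRing.Cx A)) W 0 n n (zero_add n)
        ((CxPair.one' : ((𝟙_ (DRing.Cx A) : DRing.Cx A).X 0 : Type u)) ⊗ₜ[A] w))) := by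
  rw [CxPair.whiskerRight_apply, κ₀_inv_one]
  exact congrArg (fun f => f.hom ((CxPair.one' : ((𝟙_ (DRing.Cx R) : DRing.Cx R).X 0 : Type u)) ⊗ₜ[R]
    (show (DTen.resM φ).obj (W.X n) from w)))
    (ι_θ' φ (𝟙_ (DRing.Cx R)) W 0 n n (zero_add n))

lemma leftUnitor_inv_θ' (W : DRing.Cx A) :
    (λ_ ((DTen.resCx φ).obj W)).inv ≫ θ' φ (𝟙_ (DRing.Cx R)) W =
      (DTen.resCx φ).map (κ φ W).inv := by
  refine HomologicalComplex.hom_ext _ _ (fun n => ?_)
  refine ModuleCat.hom_ext (LinearMap.ext (fun w => ?_))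
  have h1 : ((λ_ ((DTen.resCx φ).obj W)).inv ≫ θ' φ (𝟙_ (DRing.Cx R)) W).f n w =
      (θ' φ (𝟙_ (DRing.Cx R)) W).f n ((λ_ ((DTen.resCx φ).obj W)).inv.f n w) := rfl
  have h2 : ((DTen.resCx φ).map (κ φ W).inv).f n w =
      ((κ₀ φ).inv ▷ W).f n ((λ_ W).inv.f n (show W.X n from w)) := rfl
  refine h1.trans (Eq.trans ?_ h2.symm)
  rw [CxPair.leftUnitor_inv_apply, CxPair.leftUnitor_inv_apply]
  exact θ'_one φ W n w

lemma θ'_κ (W : DRing.Cx A) :
    θ' φ (𝟙_ (DRing.Cx R)) W ≫ (DTen.resCx φ).map (κ φ W).hom =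
      (λ_ ((DTen.resCx φ).obj W)).hom := by
  have h := leftUnitor_inv_θ' φ W
  rw [Iso.inv_comp_eq] at h
  rw [h, Category.assoc, ← Functor.map_comp, Iso.inv_hom_id, CategoryTheory.Functor.map_id,
    Category.comp_id]

end chain

section derived

variable {R A : Type u} [CommRing R] [CommRing A] {φ : R →+* A} [DTen.HasRHomRel φ]
  (r : Roof φ)

theorem c_unit (hU : KFlat (𝟙_ (DRing.Cx R))) :
    c r (𝟙_ (DRing.Cx R)) hU =
      (DRing.restrictD φ).map (Q.map (κ φ r.W).hom ≫ r.w.hom) ≫ DTen.relEv φ (DTen.unit R) := by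
  have e1 : (𝟙_ (DRing.Cx R) ◁ r.g) ≫ (ρ_ (𝟙_ (DRing.Cx R))).hom = (λ_ r.V').hom ≫ r.g := by
    rw [← MonoidalCategory.unitors_equal, MonoidalCategory.leftUnitor_naturality]
  have e2 : (𝟙_ (DRing.Cx R) ◁ r.s) ≫ (λ_ ((DTen.resCx φ).obj r.W)).hom = (λ_ r.V').hom ≫ r.s :=
    MonoidalCategory.leftUnitor_naturality r.s
  have e3 := θ'_κ φ r.W
  have e5 := (DTen.resFactors φ).hom.naturality (κ φ r.W).hom
  dsimp only [Functor.comp_map] at e5
  have a1 : Q.map (𝟙_ (DRing.Cx R) ◁ r.g) ≫ Q.map (ρ_ (𝟙_ (DRing.Cx R))).hom =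
      Q.map (λ_ r.V').hom ≫ Q.map r.g := by
    rw [← Functor.map_comp, e1, Functor.map_comp]
  have a2 : Q.map (λ_ r.V').hom ≫ Q.map r.s =
      (isoS r (𝟙_ (DRing.Cx R)) hU).hom ≫ Q.map (λ_ ((DTen.resCx φ).obj r.W)).hom := by
    dsimp only [isoS, asIso_hom]
    rw [← Functor.map_comp, ← e2, Functor.map_comp]
  have a3 : (isoθ r (𝟙_ (DRing.Cx R))).hom ≫ Q.map ((DTen.resCx φ).map (κ φ r.W).hom) =
      Q.map (λ_ ((DTen.resCx φ).obj r.W)).hom := by
    dsimp only [isoθ, Functor.mapIso_hom, asIso_hom]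
    rw [← Functor.map_comp, e3]
  dsimp only [c]
  rw [a1, r.hg, ← Category.assoc (Q.map (λ_ r.V').hom), a2, Category.assoc,
    Iso.inv_hom_id_assoc, ← a3, Category.assoc, Iso.inv_hom_id_assoc, ← Category.assoc,
    ← e5, Category.assoc, Iso.hom_inv_id_app_assoc, Functor.map_comp, Category.assoc]

end derived

end Groth.Agent.Helper9.RHR10
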