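import Mathlib
import Groth.Prelude.Def_DTen4
import Groth.Agent.Helper9.RHR1
import Groth.Agent.Helper9.CxPair1

set_option autoImplicit false
set_option linter.style.haveILetI false
set_option linter.unusedSectionVars false

/-!
# Chain-level compatibility with the shift in the first variable
-/

open CategoryTheory CategoryTheory.Limits MonoidalCategory

universe u

namespace Groth.Agent.Helper9.RHR8

open Groth.Agent.Helper6 Groth.Agent.Helper6.TenCx Groth.Agent.Helper9.RHR1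

section one

variable {R : Type u} [CommRing R]

/-- shift in the first variable of the tensor product of complexes (no signs) -/
noncomputable abbrev σT (P X : DRing.Cx R) (n : ℤ) : P⟦n⟧ ⊗ X ≅ (P ⊗ X)⟦n⟧ :=
  CochainComplex.mapBifunctorShift₁Iso P X (curriedTensor (ModuleCat.{u} R)) n

@[reassoc]
lemma ι_σT (P X : DRing.Cx R) (n p q m : ℤ) (h : p + q = m) :
    ι (P⟦n⟧) X p q m h ≫ (σT P X n).hom.f m = ι P X (p + n) q (m + n) (by omega) := by
  have := CochainComplex.ι_mapBifunctorShift₁Iso_hom_f P X (curriedTensor (ModuleCat.{u} R)) n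
    p q m h (p + n) (m + n) rfl rfl
  refine this.trans ?_
  simp only [CochainComplex.shiftFunctorObjXIso, HomologicalComplex.XIsoOfEq, eqToIso_refl,
    Iso.refl_hom, Iso.refl_inv]
  erw [CategoryTheory.Functor.map_id, NatTrans.id_app, Category.id_comp, Category.comp_id]

/-- naturality in the second variable -/
lemma σT_naturality_right (P : DRing.Cx R) {X Y : DRing.Cx R} (f : X ⟶ Y) (n : ℤ) :
    (P⟦n⟧ ◁ f) ≫ (σT P Y n).hom = (σT P X n).hom ≫ (P ◁ f)⟦n⟧' := by
  refine HomologicalComplex.hom_ext _ _ (fun m => TenCx.hom_ext (fun p q h => ?_))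
  rw [HomologicalComplex.comp_f, HomologicalComplex.comp_f, ← Category.assoc, ι_whiskerLeft,
    Category.assoc, ι_σT, ← Category.assoc, ι_σT]
  exact (ι_whiskerLeft P f (p + n) q (m + n) (by omega)).symm

/-- naturality in the first variable -/
lemma σT_naturality_left {P P' : DRing.Cx R} (f : P ⟶ P') (X : DRing.Cx R) (n : ℤ) :
    (f⟦n⟧' ▷ X) ≫ (σT P' X n).hom = (σT P X n).hom ≫ (f ▷ X)⟦n⟧' := by
  refine HomologicalComplex.hom_ext _ _ (fun m => TenCx.hom_ext (fun p q h => ?_))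
  rw [HomologicalComplex.comp_f, HomologicalComplex.comp_f, ← Category.assoc, ι_whiskerRight,
    Category.assoc, ι_σT, ← Category.assoc, ι_σT]
  exact (ι_whiskerRight f X (p + n) q (m + n) (by omega)).symm

lemma σT_apply (P X : DRing.Cx R) (n p q m : ℤ) (h : p + q = m)
    (t : ↑((P⟦n⟧).X p ⊗ X.X q)) :
    (σT P X n).hom.f m (ι (P⟦n⟧) X p q m h t) = ι P X (p + n) q (m + n) (by omega) t :=
  congrArg (fun f => f.hom t) (ι_σT P X n p q m h)

/-- the right unitor is compatible with the shift -/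
lemma rightUnitor_inv_shift (P : DRing.Cx R) (n : ℤ) :
    (ρ_ (P⟦n⟧)).inv ≫ (σT P (𝟙_ (DRing.Cx R)) n).hom = (ρ_ P).inv⟦n⟧' := by
  refine HomologicalComplex.hom_ext _ _ (fun m => ?_)
  refine ModuleCat.hom_ext (LinearMap.ext (fun x => ?_))
  change (σT P _ n).hom.f m ((ρ_ (P⟦n⟧)).inv.f m x) = (ρ_ P).inv.f (m + n) x
  rw [CxPair.rightUnitor_inv_apply]
  refine Eq.trans ?_ (CxPair.rightUnitor_inv_apply P (m + n) x).symm
  exact σT_apply P _ n m 0 m (add_zero m) _

lemma rightUnitor_shift (P : DRing.Cx R) (n : ℤ) :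
    (ρ_ (P⟦n⟧)).hom = (σT P (𝟙_ (DRing.Cx R)) n).hom ≫ (ρ_ P).hom⟦n⟧' := by
  have h := rightUnitor_inv_shift P n
  rw [← Iso.inv_comp_eq, ← cancel_mono ((ρ_ P).inv⟦n⟧'), Category.assoc,
    ← Functor.map_comp, Iso.hom_inv_id, CategoryTheory.Functor.map_id, ← h,
    Iso.hom_inv_id_assoc, Iso.inv_hom_id]

end one

section two

variable {R A : Type u} [CommRing R] [CommRing A] (φ : R →+* A)

/-- `ext(P⟦n⟧) ⊗ W ≅ (ext P ⊗ W)⟦n⟧` -/
noncomputable def σW (P : DRing.Cx R) (W : DRing.Cx A) (n : ℤ) :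
    (DTen.mixT φ).obj (P⟦n⟧, W) ≅ ((DTen.mixT φ).obj (P, W))⟦n⟧ :=
  whiskerRightIso (((DTen.extCx φ).commShiftIso n).app P) W ≪≫ σT ((DTen.extCx φ).obj P) W n

lemma ι_σW (P : DRing.Cx R) (W : DRing.Cx A) (n p q m : ℤ) (h : p + q = m) :
    ι ((DTen.extCx φ).obj (P⟦n⟧)) W p q m h ≫ (σW φ P W n).hom.f m =
      ι ((DTen.extCx φ).obj P) W (p + n) q (m + n) (by omega) := by
  have h1 : ι ((DTen.extCx φ).obj (P⟦n⟧)) W p q m h ≫
      ((((DTen.extCx φ).commShiftIso n).hom.app P) ▷ W).f m =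
      ι (((DTen.extCx φ).obj P)⟦n⟧) W p q m h := by
    refine (ι_whiskerRight _ W p q m h).trans ?_
    erw [Functor.mapHomologicalComplex_commShiftIso_hom_app_f, id_whiskerRight, Category.id_comp]
    rfl
  have h2 := ι_σT ((DTen.extCx φ).obj P) W n p q m h
  have h3 : ι ((DTen.extCx φ).obj (P⟦n⟧)) W p q m h ≫ (σW φ P W n).hom.f m =
      (ι ((DTen.extCx φ).obj (P⟦n⟧)) W p q m h ≫
        ((((DTen.extCx φ).commShiftIso n).hom.app P) ▷ W).f m) ≫
        (σT ((DTen.extCx φ).obj P) W n).hom.f m := by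
    rw [Category.assoc]; rfl
  exact h3.trans ((congrArg (· ≫ (σT ((DTen.extCx φ).obj P) W n).hom.f m) h1).trans h2)

/-- the projection formula map is compatible with the shift -/
lemma θ'_shift (P : DRing.Cx R) (W : DRing.Cx A) (n : ℤ) :
    θ' φ (P⟦n⟧) W ≫ (DTen.resCx φ).map (σW φ P W n).hom ≫
        ((DTen.resCx φ).commShiftIso n).hom.app ((DTen.mixT φ).obj (P, W)) =
      (σT P ((DTen.resCx φ).obj W) n).hom ≫ (θ' φ P W)⟦n⟧' := by
  refine HomologicalComplex.hom_ext _ _ (fun m => TenCx.hom_ext (fun p q h => ?_))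
  have h1 : ι (P⟦n⟧) ((DTen.resCx φ).obj W) p q m h ≫
      ((σT P ((DTen.resCx φ).obj W) n).hom ≫ (θ' φ P W)⟦n⟧').f m =
      μ' φ (P.X (p + n)) (W.X q) ≫
        (DTen.resM φ).map (ι ((DTen.extCx φ).obj P) W (p + n) q (m + n) (by omega)) := by
    rw [HomologicalComplex.comp_f, ← Category.assoc, ι_σT]
    exact ι_θ' φ P W (p + n) q (m + n) (by omega)
  have h2 : ι (P⟦n⟧) ((DTen.resCx φ).obj W) p q m h ≫
      (θ' φ (P⟦n⟧) W ≫ (DTen.resCx φ).map (σW φ P W n).hom).f m =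
      μ' φ (P.X (p + n)) (W.X q) ≫
        (DTen.resM φ).map (ι ((DTen.extCx φ).obj P) W (p + n) q (m + n) (by omega)) := by
    have e1 := ι_θ' φ (P⟦n⟧) W p q m h
    have e2 := ι_σW φ P W n p q m h
    have e3 : (DTen.resM φ).map (ι ((DTen.extCx φ).obj (P⟦n⟧)) W p q m h) ≫
        ((DTen.resCx φ).map (σW φ P W n).hom).f m =
        (DTen.resM φ).map (ι ((DTen.extCx φ).obj P) W (p + n) q (m + n) (by omega)) := by
      refine Eq.trans ?_ (congrArg (DTen.resM φ).map e2)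
      exact ((DTen.resM φ).map_comp _ _).symm
    have e4 : ι (P⟦n⟧) ((DTen.resCx φ).obj W) p q m h ≫
          (θ' φ (P⟦n⟧) W ≫ (DTen.resCx φ).map (σW φ P W n).hom).f m
        = (ι (P⟦n⟧) ((DTen.resCx φ).obj W) p q m h ≫ (θ' φ (P⟦n⟧) W).f m) ≫
            ((DTen.resCx φ).map (σW φ P W n).hom).f m := by
      rw [HomologicalComplex.comp_f, Category.assoc]
    refine e4.trans ?_
    refine (congrArg (· ≫ ((DTen.resCx φ).map (σW φ P W n).hom).f m) e1).trans ?_
    refine (Category.assoc _ _ _).trans ?_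
    exact congrArg (μ' φ ((P⟦n⟧).X p) (W.X q) ≫ ·) e3
  have h3 : (θ' φ (P⟦n⟧) W ≫ (DTen.resCx φ).map (σW φ P W n).hom ≫
        ((DTen.resCx φ).commShiftIso n).hom.app ((DTen.mixT φ).obj (P, W))).f m =
      (θ' φ (P⟦n⟧) W ≫ (DTen.resCx φ).map (σW φ P W n).hom).f m := by
    rw [← Category.assoc, HomologicalComplex.comp_f,
      Functor.mapHomologicalComplex_commShiftIso_hom_app_f]
    exact Category.comp_id _
  rw [h3]
  exact h2.trans h1.symm

end two

end Groth.Agent.Helper9.RHR8
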