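import Mathlib
import Groth.Prelude.Def_DTen4
import Groth.Agent.Helper9.RHR2
import Groth.Agent.Helper9.RHR8

set_option autoImplicit false
set_option linter.style.haveILetI false
set_option linter.unusedSectionVars false

/-!
# The counit-like maps `c` are compatible with the shift
-/

open CategoryTheory CategoryTheory.Limits MonoidalCategory DerivedCategory

universe u

attribute [local instance] HasDerivedCategory.standard

namespace Groth.Agent.Helper9.RHR9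

open Groth.Agent.Helper6 Groth.Agent.Helper6.TenCx Groth.Agent.Helper9.RHR1
  Groth.Agent.Helper9.RHR2 Groth.Agent.Helper9.RHR8

section q

variable {R : Type u} [CommRing R]

/-- for `σ : X ≅ Y⟦n⟧` in complexes, the induced isomorphism `Q X ≅ (Q Y)⟦n⟧` -/
noncomputable def qσ {X Y : DRing.Cx R} {n : ℤ} (σ : X ≅ Y⟦n⟧) : Q.obj X ≅ (Q.obj Y)⟦n⟧ :=
  Q.mapIso σ ≪≫ (Q.commShiftIso n).app Y

lemma q_comm {X X' Y Y' : DRing.Cx R} {n : ℤ} (a : X ⟶ X') (b : Y ⟶ Y') (σ : X ≅ Y⟦n⟧)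
    (σ' : X' ≅ Y'⟦n⟧) (h : a ≫ σ'.hom = σ.hom ≫ b⟦n⟧') :
    Q.map a ≫ (qσ σ').hom = (qσ σ).hom ≫ (Q.map b)⟦n⟧' := by
  have e := (Q.commShiftIso n).hom.naturality b
  dsimp only [Functor.comp_map] at e
  dsimp only [qσ, Iso.trans_hom, Functor.mapIso_hom, Iso.app_hom]
  rw [← Category.assoc, ← Functor.map_comp, h, Functor.map_comp, Category.assoc, e, Category.assoc]

/-- the inverse version -/
lemma q_comm_inv {X X' Y Y' : DRing.Cx R} {n : ℤ} (a : X ⟶ X') (b : Y ⟶ Y') (σ : X ≅ Y⟦n⟧)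
    (σ' : X' ≅ Y'⟦n⟧) (h : a ≫ σ'.hom = σ.hom ≫ b⟦n⟧') (ia : Q.obj X ≅ Q.obj X')
    (ib : Q.obj Y ≅ Q.obj Y') (ha : ia.hom = Q.map a) (hb : ib.hom = Q.map b) :
    ia.inv ≫ (qσ σ).hom = (qσ σ').hom ≫ ib.inv⟦n⟧' := by
  have e := q_comm a b σ σ' h
  rw [← ha, ← hb] at e
  rw [Iso.inv_comp_eq, ← Category.assoc, e, Category.assoc, ← Functor.map_comp, Iso.hom_inv_id,
    CategoryTheory.Functor.map_id, Category.comp_id]

end q

section main

variable {R A : Type u} [CommRing R] [CommRing A] {φ : R →+* A} [DTen.HasRHomRel φ]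
  (r : Roof φ)

/-- `res(ext(P⟦n⟧) ⊗ W) ≅ (res(ext P ⊗ W))⟦n⟧` -/
noncomputable def σR (P : DRing.Cx R) (n : ℤ) :
    (DTen.resCx φ).obj ((DTen.mixT φ).obj (P⟦n⟧, r.W)) ≅
      ((DTen.resCx φ).obj ((DTen.mixT φ).obj (P, r.W)))⟦n⟧ :=
  (DTen.resCx φ).mapIso (σW φ P r.W n) ≪≫
    ((DTen.resCx φ).commShiftIso n).app ((DTen.mixT φ).obj (P, r.W))

lemma resFactors_shift (P : DRing.Cx R) (n : ℤ) :
    (DTen.resFactors φ).hom.app ((DTen.mixT φ).obj (P⟦n⟧, r.W)) ≫ (qσ (σR r P n)).hom =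
      (DRing.restrictD φ).map (qσ (σW φ P r.W n)).hom ≫
        ((DRing.restrictD φ).commShiftIso n).hom.app (Q.obj ((DTen.mixT φ).obj (P, r.W))) ≫
          ((DTen.resFactors φ).hom.app ((DTen.mixT φ).obj (P, r.W)))⟦n⟧' := by
  have e1 := (DTen.resFactors φ).hom.naturality (σW φ P r.W n).hom
  have e2 := NatTrans.shift_app_comm (DTen.resFactors φ).hom n ((DTen.mixT φ).obj (P, r.W))
  rw [Functor.commShiftIso_comp_hom_app, Functor.commShiftIso_comp_hom_app] at e2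
  dsimp only [Functor.comp_map] at e1
  dsimp only [qσ, σR, Iso.trans_hom, Functor.mapIso_hom, Iso.app_hom]
  rw [Functor.map_comp, Functor.map_comp, Category.assoc, Category.assoc, ← Category.assoc,
    ← e1, Category.assoc]
  congr 1
  simp only [Category.assoc] at e2
  exact e2.symm

theorem c_shift (P : DRing.Cx R) (n : ℤ) (hP : KFlat P) (hP' : KFlat (P⟦n⟧)) :
    c r (P⟦n⟧) hP' ≫ (Q.commShiftIso n).hom.app P =
      (DRing.restrictD φ).map (qσ (σW φ P r.W n)).hom ≫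
        ((DRing.restrictD φ).commShiftIso n).hom.app (Q.obj ((DTen.mixT φ).obj (P, r.W))) ≫
          (c r P hP)⟦n⟧' := by
  -- the five squares
  have Q1 : Q.map (ρ_ (P⟦n⟧)).hom ≫ (qσ (Iso.refl (P⟦n⟧))).hom =
      (qσ (σT P (𝟙_ (DRing.Cx R)) n)).hom ≫ (Q.map (ρ_ P).hom)⟦n⟧' :=
    q_comm _ _ _ _ (by
      rw [Iso.refl_hom, Category.comp_id]
      exact rightUnitor_shift P n)
  have Q2 : Q.map (P⟦n⟧ ◁ r.g) ≫ (qσ (σT P (𝟙_ (DRing.Cx R)) n)).hom =
      (qσ (σT P r.V' n)).hom ≫ (Q.map (P ◁ r.g))⟦n⟧' :=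
    q_comm _ _ _ _ (σT_naturality_right P r.g n)
  have Q3 : (isoS r (P⟦n⟧) hP').inv ≫ (qσ (σT P r.V' n)).hom =
      (qσ (σT P ((DTen.resCx φ).obj r.W) n)).hom ≫ (isoS r P hP).inv⟦n⟧' :=
    q_comm_inv _ _ _ _ (σT_naturality_right P r.s n) _ _ rfl rfl
  have Q4 : (isoθ r (P⟦n⟧)).inv ≫ (qσ (σT P ((DTen.resCx φ).obj r.W) n)).hom =
      (qσ (σR r P n)).hom ≫ (isoθ r P).inv⟦n⟧' :=
    q_comm_inv (θ' φ (P⟦n⟧) r.W) (θ' φ P r.W) _ _ (by
      dsimp only [σR, Iso.trans_hom, Functor.mapIso_hom, Iso.app_hom]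
      exact θ'_shift φ P r.W n) _ _ rfl rfl
  have Q5 := resFactors_shift r P n
  have e0 : (qσ (Iso.refl (P⟦n⟧))).hom = (Q.commShiftIso n).hom.app P := by
    dsimp only [qσ, Iso.trans_hom, Functor.mapIso_hom, Iso.app_hom, Iso.refl_hom]
    rw [CategoryTheory.Functor.map_id, Category.id_comp]
  rw [← e0]
  dsimp only [c]
  simp only [Category.assoc, Functor.map_comp]
  rw [Q1, ← Category.assoc (Q.map (P⟦n⟧ ◁ r.g)), Q2, Category.assoc,
    ← Category.assoc (isoS r (P⟦n⟧) hP').inv, Q3, Category.assoc,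
    ← Category.assoc (isoθ r (P⟦n⟧)).inv, Q4, Category.assoc, ← Category.assoc, Q5]
  simp only [Category.assoc]

end main

end Groth.Agent.Helper9.RHR9
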