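import Mathlib
import Groth.Prelude.Def_DTen4
import Groth.Agent.Helper9.RHR3
import Groth.Agent.Helper9.RHR4
import Groth.Agent.Helper9.RHR5
import Groth.Agent.Helper9.RHR6
import Groth.Agent.Helper9.RHR7
import Groth.Agent.Helper9.RHR9
import Groth.Agent.Helper9.RHR10

set_option autoImplicit false
set_option linter.style.haveILetI false
set_option linter.unusedSectionVars false

/-!
# `RHom(A, -) ≅ - ⊗^L_R RHom(A, R)` for `A` perfect over `R`
-/

open CategoryTheory CategoryTheory.Limits MonoidalCategory DerivedCategory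

universe u

attribute [local instance] HasDerivedCategory.standard

namespace Groth.Agent.Helper9.RHR11

open Groth.Agent.Helper6 Groth.Agent.Helper6.TenCx Groth.Agent.Helper6.DTenX
open Groth.Agent.Helper9.RHR1 Groth.Agent.Helper9.RHR2 Groth.Agent.Helper9.RHR3
open Groth.Agent.Helper9.RHR4 Groth.Agent.Helper9.RHR8 Groth.Agent.Helper9.RHR9
open Groth.Agent.Helper9.RHR10

section adj

variable {C D : Type*} [Category C] [Category D] [HasShift C ℤ] [HasShift D ℤ]
  {L : C ⥤ D} {G : D ⥤ C} (adj : L ⊣ G) [L.CommShift ℤ]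

/-- adjuncts are compatible with shifts -/
lemma isIso_homEquiv_shift {X : C} {Y : D} (g : L.obj X ⟶ Y) (n : ℤ)
    (h : IsIso (adj.homEquiv X Y g)) :
    IsIso (adj.homEquiv (X⟦n⟧) (Y⟦n⟧) ((L.commShiftIso n).hom.app X ≫ g⟦n⟧')) := by
  letI := adj.rightAdjointCommShift ℤ
  haveI := adj.commShift_of_leftAdjoint ℤ
  have e : adj.homEquiv (X⟦n⟧) (Y⟦n⟧) ((L.commShiftIso n).hom.app X ≫ g⟦n⟧') ≫
      (G.commShiftIso n).hom.app Y = (adj.homEquiv X Y g)⟦n⟧' := by
    have e1 := (G.commShiftIso n).hom.naturality g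
    dsimp only [Functor.comp_map] at e1
    rw [Adjunction.homEquiv_unit, Adjunction.homEquiv_unit, Functor.map_comp, Functor.map_comp,
      Adjunction.shift_unit_app adj n X, Category.assoc, Category.assoc, Category.assoc, e1]
    simp only [Category.assoc]
  have h2 : IsIso ((adj.homEquiv X Y g)⟦n⟧') := inferInstance
  rw [← e] at h2
  exact IsIso.of_isIso_comp_right _ ((G.commShiftIso n).hom.app Y)

end adj

section main

variable {R A : Type u} [CommRing R] [CommRing A] {φ : R →+* A} [DTen.HasRHomRel φ]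
  [DTen.HasLTenMix φ]

lemma isIso_homEquiv_c_unit (r : Roof φ) (hU : KFlat (𝟙_ (DRing.Cx R))) :
    IsIso ((DTen.relAdj φ).homEquiv _ _ (c r (𝟙_ (DRing.Cx R)) hU)) := by
  have e : (DTen.relAdj φ).homEquiv _ _ (c r (𝟙_ (DRing.Cx R)) hU) =
      Q.map (κ φ r.W).hom ≫ r.w.hom := by
    rw [c_unit r hU, Adjunction.homEquiv_naturality_left]
    have : (DTen.relAdj φ).homEquiv _ _ (DTen.relEv φ (DTen.unit R)) = 𝟙 _ := by
      dsimp only [DTen.relEv]
      rw [← Adjunction.homEquiv_symm_id, Equiv.apply_symm_apply]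
    rw [this, Category.comp_id]
  rw [e]
  infer_instance

theorem isIso_η_unit_shift (r : Roof φ) (n : ℤ) : IsIso ((η r).app ((DTen.unit R)⟦n⟧)) := by
  have hU : KFlat (𝟙_ (DRing.Cx R)) := HomTen.kflat_of_isKProjective (U R)
  have hP' : KFlat ((U R)⟦n⟧) := HomTen.kflat_of_isKProjective ((U R)⟦n⟧)
  refine (isIso_η_app_iff r ((DTen.unit R)⟦n⟧) ((U R)⟦n⟧) hP'
    ((Q.commShiftIso n).app (U R))).mpr ?_
  have e1 : νa r ((U R)⟦n⟧) hP' = (isoε r _ hP').hom ≫
      (DTen.relAdj φ).homEquiv _ _ (c r ((U R)⟦n⟧) hP') := by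
    dsimp only [νa, ν]
    rw [Adjunction.homEquiv_naturality_left]
  rw [e1]
  suffices IsIso ((DTen.relAdj φ).homEquiv _ _ (c r ((U R)⟦n⟧) hP')) from inferInstance
  have e2 := c_shift r (U R) n hU hP'
  have e3 : c r ((U R)⟦n⟧) hP' = (DRing.restrictD φ).map (qσ (σW φ (U R) r.W n)).hom ≫
      (((DRing.restrictD φ).commShiftIso n).hom.app _ ≫ (c r (U R) hU)⟦n⟧') ≫
        (Q.commShiftIso n).inv.app (U R) := by
    rw [← cancel_mono ((Q.commShiftIso n).hom.app (U R)), e2]
    simp only [Category.assoc, Iso.inv_hom_id_app]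
    erw [Category.comp_id]
  rw [e3, Adjunction.homEquiv_naturality_left, Adjunction.homEquiv_naturality_right]
  haveI := isIso_homEquiv_shift (DTen.relAdj φ) (c r (U R) hU) n (isIso_homEquiv_c_unit r hU)
  infer_instance

/-- **`RHom(A, -) ≅ - ⊗^L_R RHom(A, R)`** for `A` perfect over `R`. -/
theorem main (hA : DRing.IsPerfect R ((DRing.restrictD φ).obj (DTen.unit A))) :
    Nonempty (DTen.RHomRel φ ≅
      (Functor.curry.obj (DTen.LTenMix φ)).flip.obj ((DTen.RHomRel φ).obj (DTen.unit R))) := by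
  obtain ⟨r⟩ := exists_roof φ
  haveI := RHR7.preservesZeroMorphisms_F φ
  have h : ∀ K, IsIso ((η r).app K) :=
    isIso_app (RHR6.midExact_F φ) (RHR5.midExact_RHomRel φ) (RHR7.presCoprod_F φ)
      (RHR5.presCoprod_RHomRel φ hA) (isIso_η_unit_shift r)
  haveI : IsIso (η r) := NatIso.isIso_of_isIso_app _
  exact ⟨(asIso (η r)).symm⟩

end main

end Groth.Agent.Helper9.RHR11
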