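import Mathlib
import Groth.Prelude.Def_DTen4
import Groth.Agent.Helper9.RHA1
import Groth.Agent.Helper9.RHA2
import Groth.Agent.Helper9.RHA3
import Groth.Agent.Helper9.RHR11

set_option autoImplicit false
set_option linter.style.haveILetI false
set_option linter.unusedSectionVars false

/-!
# Any model of `K ↦ K ⊗^L_R ω` is isomorphic to `RHom(A, -)` for `A` perfect over `R`
-/

open CategoryTheory CategoryTheory.Limits MonoidalCategory DerivedCategory

universe u

attribute [local instance] HasDerivedCategory.standard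

namespace Groth.Agent.Helper9.RHA4

open Groth.Agent.Helper6 Groth.Agent.Helper6.TenCx Groth.Agent.Helper6.DTenX
open Groth.Agent.Helper9.RHR1 Groth.Agent.Helper9.RHR2 Groth.Agent.Helper9.RHR3
open Groth.Agent.Helper9.RHR4 Groth.Agent.Helper9.RHR8 Groth.Agent.Helper9.RHR9
open Groth.Agent.Helper9.RHR10 Groth.Agent.Helper9.RHR11 Groth.Agent.Helper9.RHA1

variable {R A : Type u} [CommRing R] [CommRing A] {φ : R →+* A} [DTen.HasRHomRel φ]

lemma isIso_homEquiv_c_unit (r : Roof φ) (hU : KFlat (𝟙_ (DRing.Cx R))) :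
    IsIso ((DTen.relAdj φ).homEquiv _ _ (c r (𝟙_ (DRing.Cx R)) hU)) := by
  have e : (DTen.relAdj φ).homEquiv _ _ (c r (𝟙_ (DRing.Cx R)) hU) =
      Q.map (κ φ r.W).hom ≫ r.w.hom := by
    rw [c_unit r hU, Adjunction.homEquiv_naturality_left]
    have : (DTen.relAdj φ).homEquiv _ _ (DTen.relEv φ (DTen.unit R)) = 𝟙 _ := by
      dsimp only [DTen.relEv]
      rw [← Adjunction.homEquiv_symm_id, Equiv.apply_symm_apply]
    rw [this, Category.comp_id]
  rw [e]
  infer_instance

variable {r : Roof φ} (m : Model r)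

theorem isIso_η_unit_shift (n : ℤ) : IsIso ((RHA1.η m).app ((DTen.unit R)⟦n⟧)) := by
  have hU : KFlat (𝟙_ (DRing.Cx R)) := HomTen.kflat_of_isKProjective (U R)
  haveI : ((U R)⟦n⟧).IsKProjective := inferInstance
  have hP' : KFlat ((U R)⟦n⟧) := RHA1.kflat ((U R)⟦n⟧)
  refine (RHA1.isIso_η_app_iff m ((DTen.unit R)⟦n⟧) ((U R)⟦n⟧)
    ((Q.commShiftIso n).app (U R))).mpr ?_
  have e1 : RHA1.νa m ((U R)⟦n⟧) = (m.isoε _).hom ≫
      (DTen.relAdj φ).homEquiv _ _ (c r ((U R)⟦n⟧) hP') := by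
    dsimp only [RHA1.νa, RHA1.ν]
    rw [Adjunction.homEquiv_naturality_left]
  rw [e1]
  suffices IsIso ((DTen.relAdj φ).homEquiv _ _ (c r ((U R)⟦n⟧) hP')) from inferInstance
  have e2 := c_shift r (U R) n hU hP'
  have e3 : c r ((U R)⟦n⟧) hP' = (DRing.restrictD φ).map (qσ (σW φ (U R) r.W n)).hom ≫
      (((DRing.restrictD φ).commShiftIso n).hom.app _ ≫ (c r (U R) hU)⟦n⟧') ≫
        (Q.commShiftIso n).inv.app (U R) := by
    rw [← cancel_mono ((Q.commShiftIso n).hom.app (U R)), e2]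
    simp only [Category.assoc, Iso.inv_hom_id_app]
    erw [Category.comp_id]
  rw [e3, Adjunction.homEquiv_naturality_left, Adjunction.homEquiv_naturality_right]
  haveI := isIso_homEquiv_shift (DTen.relAdj φ) (c r (U R) hU) n (isIso_homEquiv_c_unit r hU)
  infer_instance

/-- **Any model is `RHom(A, -)`** for `A` perfect over `R`. -/
theorem main (hA : DRing.IsPerfect R ((DRing.restrictD φ).obj (DTen.unit A))) :
    Nonempty (DTen.RHomRel φ ≅ m.F) := by
  haveI := RHA3.preservesZeroMorphisms_F m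
  have h : ∀ K, IsIso ((RHA1.η m).app K) :=
    isIso_app (RHA2.midExact_F m) (RHR5.midExact_RHomRel φ) (RHA3.presCoprod_F m)
      (RHR5.presCoprod_RHomRel φ hA) (isIso_η_unit_shift m)
  haveI : IsIso (RHA1.η m) := NatIso.isIso_of_isIso_app _
  exact ⟨(asIso (RHA1.η m)).symm⟩

end Groth.Agent.Helper9.RHA4
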