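import Mathlib
import Groth.Prelude.Def_DTen4
import Groth.Agent.Helper6.TenCx

set_option autoImplicit false
set_option linter.style.haveILetI false
set_option linter.unusedSectionVars false

/-!
# Chain-level compatibility of the tensor product of complexes with the shift in the second variable
-/

open CategoryTheory CategoryTheory.Limits MonoidalCategory

universe u

namespace Groth.Agent.Helper9.RHB1

open Groth.Agent.Helper6 Groth.Agent.Helper6.TenCx

variable {A : Type u} [CommRing A]

/-- shift in the second variable of the tensor product of complexes (with signs) -/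
noncomputable abbrev σ₂ (X W : DRing.Cx A) (n : ℤ) : X ⊗ (W⟦n⟧) ≅ (X ⊗ W)⟦n⟧ :=
  CochainComplex.mapBifunctorShift₂Iso X W (curriedTensor (ModuleCat.{u} A)) n

@[reassoc]
lemma ι_σ₂ (X W : DRing.Cx A) (n p q m : ℤ) (h : p + q = m) :
    ι X (W⟦n⟧) p q m h ≫ (σ₂ X W n).hom.f m =
      (p * n).negOnePow • ι X W p (q + n) (m + n) (by omega) := by
  have := CochainComplex.ι_mapBifunctorShift₂Iso_hom_f X W (curriedTensor (ModuleCat.{u} A)) n
    p q m h (q + n) (m + n) rfl rfl
  refine this.trans ?_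
  simp only [CochainComplex.shiftFunctorObjXIso, HomologicalComplex.XIsoOfEq, eqToIso_refl,
    Iso.refl_hom, Iso.refl_inv]
  erw [CategoryTheory.Functor.map_id, Category.id_comp, Category.comp_id]
  rfl

/-- naturality in the first variable -/
lemma σ₂_naturality_left {X X' : DRing.Cx A} (f : X ⟶ X') (W : DRing.Cx A) (n : ℤ) :
    (f ▷ (W⟦n⟧)) ≫ (σ₂ X' W n).hom = (σ₂ X W n).hom ≫ (f ▷ W)⟦n⟧' := by
  refine HomologicalComplex.hom_ext _ _ (fun m => TenCx.hom_ext (fun p q h => ?_))
  rw [HomologicalComplex.comp_f, HomologicalComplex.comp_f, ← Category.assoc, ι_whiskerRight,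
    Category.assoc, ι_σ₂, ← Category.assoc, ι_σ₂]
  change (f.f p ▷ W.X (q + n)) ≫ ((p * n).negOnePow • ι X' W p (q + n) (m + n) (by omega)) =
    ((p * n).negOnePow • ι X W p (q + n) (m + n) (by omega)) ≫ (f ▷ W).f (m + n)
  rw [Linear.comp_units_smul, Linear.units_smul_comp]
  congr 1
  exact (ι_whiskerRight f W p (q + n) (m + n) (by omega)).symm

lemma σ₂_inv_naturality_left {X X' : DRing.Cx A} (f : X ⟶ X') (W : DRing.Cx A) (n : ℤ) :
    (f ▷ W)⟦n⟧' ≫ (σ₂ X' W n).inv = (σ₂ X W n).inv ≫ (f ▷ (W⟦n⟧)) := by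
  rw [Iso.comp_inv_eq, Category.assoc, Iso.eq_inv_comp, σ₂_naturality_left]

end Groth.Agent.Helper9.RHB1
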