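import Mathlib
import Groth.Prelude.Def_DTen4
import Groth.Agent.Helper9.RHA4
import Groth.Agent.Helper9.RHB1
import Groth.Agent.Helper9.TBC1
import Groth.Agent.Helper6.LTenCxCompute
import Groth.Agent.Helper6.LBaseCmp
import Groth.Agent.Helper9.RHR6

set_option autoImplicit false
set_option linter.style.haveILetI false
set_option linter.unusedSectionVars false

/-!
# The model `K ↦ ((K ⊗^L_R A) ⊗^L_A W)[k]` of `K ↦ K ⊗^L_R ω`
-/

open CategoryTheory CategoryTheory.Limits MonoidalCategory DerivedCategory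

universe u

attribute [local instance] HasDerivedCategory.standard

namespace Groth.Agent.Helper9.RHB2

open Groth.Agent.Helper6 Groth.Agent.Helper6.TenCx Groth.Agent.Helper9.RHR1 Groth.Agent.Helper9.RHR2
open Groth.Agent.Helper9.RHA1 Groth.Agent.Helper9.RHB1 Groth.Agent.Helper6.LBaseCmp

variable {R A : Type u} [CommRing R] [CommRing A] {φ : R →+* A} [DTen.HasRHomRel φ]
  [DRing.HasLBaseChange φ] (adjL : DRing.LBaseChange φ ⊣ DRing.restrictD φ)
  (W : DRing.Cx A) [DRing.HasLTensorCx A W] (k : ℤ) (r : Roof φ) (e : r.W ≅ W⟦k⟧)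

/-- the functor `K ↦ ((K ⊗^L_R A) ⊗^L_A W)[k]` -/
noncomputable abbrev modelF : Dual.D R ⥤ Dual.D A :=
  DRing.LBaseChange φ ⋙ DRing.LTensorCx A W ⋙ shiftFunctor (Dual.D A) k

noncomputable def isoε (P : DRing.Cx R) [P.IsKProjective] :
    (modelF (φ := φ) W k).obj (Q.obj P) ≅ Q.obj ((DTen.mixT φ).obj (P, r.W)) :=
  haveI := TBC1.isIso_bc_of_isKProjective adjL P
  (shiftFunctor (Dual.D A) k).mapIso ((DRing.LTensorCx A W).mapIso (asIso (TBC1.bc adjL P)) ≪≫
      LTenCxCompute.ltcIso W ((DTen.extCx φ).obj P)) ≪≫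
    ((Q.commShiftIso k).app (((DTen.extCx φ).obj P) ⊗ W)).symm ≪≫
    Q.mapIso ((σ₂ ((DTen.extCx φ).obj P) W k).symm ≪≫
      whiskerLeftIso ((DTen.extCx φ).obj P) e.symm)

lemma isoε_hom (P : DRing.Cx R) [P.IsKProjective] :
    (isoε adjL W k r e P).hom =
      ((DRing.LTensorCx A W).map (TBC1.bc adjL P) ≫
        (LTenCxCompute.counit W).app ((DTen.extCx φ).obj P))⟦k⟧' ≫
      (Q.commShiftIso k).inv.app (((DTen.extCx φ).obj P) ⊗ W) ≫
      Q.map ((σ₂ ((DTen.extCx φ).obj P) W k).inv ≫ ((DTen.extCx φ).obj P) ◁ e.inv) := rfl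

lemma isoε_naturality {P P' : DRing.Cx R} [P.IsKProjective] [P'.IsKProjective] (f : P ⟶ P') :
    (modelF (φ := φ) W k).map (Q.map f) ≫ (isoε adjL W k r e P').hom =
      (isoε adjL W k r e P).hom ≫ Q.map ((DTen.mixT φ).map (Prod.mkHom f (𝟙 r.W))) := by
  rw [isoε_hom, isoε_hom, RHR6.mixT_map_whisker]
  set g := (DTen.extCx φ).map f with hg
  have s1 : (DRing.LTensorCx A W).map ((DRing.LBaseChange φ).map (Q.map f)) ≫
      (DRing.LTensorCx A W).map (TBC1.bc adjL P') ≫
        (LTenCxCompute.counit W).app ((DTen.extCx φ).obj P') =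
      ((DRing.LTensorCx A W).map (TBC1.bc adjL P) ≫
        (LTenCxCompute.counit W).app ((DTen.extCx φ).obj P)) ≫ Q.map (g ▷ W) := by
    rw [← Category.assoc, ← Functor.map_comp, TBC1.bc_naturality adjL f, Functor.map_comp,
      Category.assoc, Category.assoc]
    congr 1
    exact (LTenCxCompute.counit W).naturality g
  have s3 : (Q.map (g ▷ W))⟦k⟧' ≫ (Q.commShiftIso k).inv.app (((DTen.extCx φ).obj P') ⊗ W) =
      (Q.commShiftIso k).inv.app (((DTen.extCx φ).obj P) ⊗ W) ≫ Q.map ((g ▷ W)⟦k⟧') :=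
    (Q.commShiftIso k).inv.naturality (g ▷ W)
  have s4 : Q.map ((g ▷ W)⟦k⟧') ≫
      Q.map ((σ₂ ((DTen.extCx φ).obj P') W k).inv ≫ ((DTen.extCx φ).obj P') ◁ e.inv) =
      Q.map ((σ₂ ((DTen.extCx φ).obj P) W k).inv ≫ ((DTen.extCx φ).obj P) ◁ e.inv) ≫
        Q.map (g ▷ r.W) := by
    rw [← Functor.map_comp, ← Functor.map_comp, ← Category.assoc, σ₂_inv_naturality_left,
      Category.assoc, Category.assoc, MonoidalCategory.whisker_exchange]
  have s0 : (modelF (φ := φ) W k).map (Q.map f) =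
      ((DRing.LTensorCx A W).map ((DRing.LBaseChange φ).map (Q.map f)))⟦k⟧' := rfl
  rw [s0]
  simp only [Category.assoc]
  rw [← Functor.map_comp_assoc, s1, Functor.map_comp_assoc, reassoc_of% s3, s4]

/-- the model -/
noncomputable def model : Model r where
  F := modelF (φ := φ) W k
  isoε P _ := isoε adjL W k r e P
  isoε_naturality f := isoε_naturality adjL W k r e f

include adjL e in
/-- `RHom(A, K) ≅ ((K ⊗^L_R A) ⊗^L_A W)[k]` for `A` perfect over `R` and `W[-k] ≅ RHom(A, R)`-/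
theorem main (hA : DRing.IsPerfect R ((DRing.restrictD φ).obj (DTen.unit A))) :
    Nonempty (DTen.RHomRel φ ≅ modelF (φ := φ) W k) :=
  RHA4.main (model adjL W k r e) hA

end Groth.Agent.Helper9.RHB2
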