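import Mathlib
import Groth.Prelude.Def_DualSh
import Groth.Prelude.Def_DRing4
import Groth.Agent.Helper9.RHB2
import Groth.Agent.Helper9.BR3
import Groth.Agent.Helper9.SV1
import Groth.Agent.Helper9.FB6
import Groth.Agent.Helper9.RHR10
import Groth.Agent.Helper3.TorDimMv
import Groth.Agent.Helper6.HasLBC

set_option autoImplicit false
set_option linter.style.haveILetI false
set_option linter.unusedSectionVars false
set_option linter.unusedVariables false

/-!
# `φ^!(K) ≅ (K ⊗^L_R A) ⊗^L_A ω_{A/R}` for `R → A` flat of finite type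
-/

open CategoryTheory CategoryTheory.Limits MonoidalCategory DerivedCategory

universe u

attribute [local instance] HasDerivedCategory.standard

namespace Groth.Agent.Helper9.RHB3

open Groth.Agent.Helper6 Groth.Agent.Helper6.TenCx Groth.Agent.Helper9.RHR1 Groth.Agent.Helper9.RHR2

section roof

variable {R A : Type u} [CommRing R] [CommRing A] (φ : R →+* A) [DTen.HasRHomRel φ]

/-- a roof with prescribed representative of `ω` -/
lemma exists_roof_of (W₀ : DRing.Cx A) (w : Q.obj W₀ ≅ ω φ) : ∃ r : Roof φ, r.W = W₀ := by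
  obtain ⟨V', s, hV', -, -, hs, -⟩ := KProjRes.exists_resolution ((DTen.resCx φ).obj W₀)
  haveI := hV'
  obtain ⟨g, hg⟩ := KProjQ.Q_map_surjective V' (𝟙_ (DRing.Cx R))
    (Q.map s ≫ (DTen.resFactors φ).inv.app W₀ ≫ (DRing.restrictD φ).map w.hom ≫
      DTen.relEv φ (DTen.unit R))
  exact ⟨⟨W₀, w, V', s, g, hs, hg⟩, rfl⟩

variable {L : Dual.D R ⥤ Dual.D A} (adj : L ⊣ DRing.restrictD φ)

/-- derived base change of the unit -/
noncomputable def lbcUnit : L.obj (DTen.unit R) ≅ DTen.unit A :=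
  haveI : (𝟙_ (DRing.Cx R)).IsKProjective := inferInstanceAs (DTenX.U (A := R)).IsKProjective
  haveI := TBC1.isIso_bc_of_isKProjective adj (𝟙_ (DRing.Cx R))
  asIso (TBC1.bc adj (𝟙_ (DRing.Cx R))) ≪≫ Q.mapIso (RHR10.κ₀ φ)

end roof

section perfect

variable (R A : Type u) [CommRing R] [CommRing A] [IsNoetherianRing R] [Algebra R A]
  [Module.Flat R A] (n : ℕ) (ψ : MvPolynomial (Fin n) R →ₐ[R] A) (hψ : Function.Surjective ψ)

include hψ in
/-- a flat algebra of finite type over a Noetherian ring is perfect over the polynomial ring of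
any presentation -/
theorem isPerfect_of_flat :
    DRing.IsPerfect (MvPolynomial (Fin n) R)
      ((DRing.restrictD ψ.toRingHom).obj (DTen.unit A)) := by
  letI : Algebra (MvPolynomial (Fin n) R) A := ψ.toRingHom.toAlgebra
  haveI : IsScalarTower R (MvPolynomial (Fin n) R) A :=
    IsScalarTower.of_algebraMap_eq (fun a => (ψ.commutes a).symm)
  haveI : Module.Finite (MvPolynomial (Fin n) R) A :=
    Module.Finite.of_surjective (Algebra.linearMap (MvPolynomial (Fin n) R) A) hψ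
  have h1 := Groth.Agent.Helper3.TorDim.hasFiniteTorDim_mvPolynomial n R A
    (Groth.Agent.Helper3.TorDim.hasFiniteTorDim_of_flat A)
  rw [Groth.Agent.Helper3.TorDim.hasFiniteTorDim_iff] at h1
  obtain ⟨d, hd⟩ := h1
  have hperf : DRing.IsPerfect (MvPolynomial (Fin n) R) (Dual.inD (MvPolynomial (Fin n) R) A) := by
    rw [Groth.Agent.Helper3.DRingLib.isPerfect_iff_pc_and_torDim]
    exact ⟨FB6.isPseudoCoherentModule'_of_finite A, ⟨_, _, hd⟩⟩
  let e0 : (ModuleCat.restrictScalars.{u} ψ.toRingHom).obj (ModuleCat.of A A) ≅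
      ModuleCat.of (MvPolynomial (Fin n) R) A :=
    LinearEquiv.toModuleIso
      { toFun := fun x => x
        invFun := fun x => x
        map_add' := fun _ _ => rfl
        map_smul' := fun _ _ => rfl
        left_inv := fun _ => rfl
        right_inv := fun _ => rfl }
  exact Groth.Agent.Helper3.DRingLib.isPerfect_of_iso
    ((Groth.Agent.Helper3.DRingLib.rDSingle ψ.toRingHom 0 (ModuleCat.of A A)) ≪≫
      (DerivedCategory.singleFunctor _ 0).mapIso e0).symm hperf

end perfect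

section main

variable (R A : Type u) [CommRing R] [CommRing A] [IsNoetherianRing R] [Algebra R A]
  [Module.Flat R A] (n : ℕ) (ψ : MvPolynomial (Fin n) R →ₐ[R] A) (hψ : Function.Surjective ψ)
  [DRing.HasLBaseChange (algebraMap R (MvPolynomial (Fin n) R))]
  (Rψ : Dual.D (MvPolynomial (Fin n) R) ⥤ Dual.D A) (adj : DRing.restrictD ψ.toRingHom ⊣ Rψ)

include hψ adj in
/-- `RHom_P(A, M)[n] ≅ (M ⊗^L_P A) ⊗^L_A W` when `W` represents `RHom_P(A, P)[n]` -/
theorem shriek_formula (W : DRing.Cx A)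
    (hW : Nonempty (DRing.toD W ≅ (Rψ.obj (DTen.unit (MvPolynomial (Fin n) R)))⟦(n : ℤ)⟧))
    [DRing.HasLTensorCx A W] [DRing.HasLBaseChange ψ.toRingHom]
    (M : Dual.D (MvPolynomial (Fin n) R)) :
    Nonempty ((Rψ.obj M)⟦(n : ℤ)⟧ ≅
      (DRing.LTensorCx A W).obj ((DRing.LBaseChange ψ.toRingHom).obj M)) := by
  haveI : DTen.HasRHomRel ψ.toRingHom := BR3.hasRHomRel ψ.toRingHom
  have adjL := LBCAdj.adj ψ.toRingHom
  have hA := isPerfect_of_flat R A n ψ hψ
  let u : Rψ ≅ DTen.RHomRel ψ.toRingHom := adj.rightAdjointUniq (DTen.relAdj ψ.toRingHom)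
  obtain ⟨hW⟩ := hW
  let w : Q.obj (W⟦-(n : ℤ)⟧) ≅ ω ψ.toRingHom :=
    (Q.commShiftIso (-(n : ℤ))).app W ≪≫ (shiftFunctor _ (-(n : ℤ))).mapIso hW ≪≫
      shiftShiftNeg _ (n : ℤ) ≪≫ u.app _
  obtain ⟨r, hr⟩ := exists_roof_of ψ.toRingHom (W⟦-(n : ℤ)⟧) w
  obtain ⟨E⟩ := RHB2.main adjL W (-(n : ℤ)) r (eqToIso hr) hA
  exact ⟨(shiftFunctor _ (n : ℤ)).mapIso (u.app M ≪≫ E.app M) ≪≫ shiftNegShift _ (n : ℤ)⟩

end main

end Groth.Agent.Helper9.RHB3
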