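import Mathlib
import Groth.Prelude.Def_DDual2
import Groth.Agent.Helper3.DRingBC
import Groth.Agent.Helper9.SV3

set_option autoImplicit false
set_option linter.style.haveILetI false
set_option linter.unusedSectionVars false

/-!
# The natural short exact sequence `0 → W ⊗ N → W ⊗ N → W' ⊗ N → 0` for `W' = W/(t)`
-/

open CategoryTheory CategoryTheory.Limits
open scoped TensorProduct

universe u

namespace Groth.Agent.Helper9.FN1

section Alg

variable {S W W' : Type u} [CommRing S] [CommRing W] [CommRing W'] [Algebra S W] [Algebra S W']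
  [Algebra W W'] [IsScalarTower S W W'] (t : W)
  (hsurj : Function.Surjective (algebraMap W W'))
  (hker : RingHom.ker (algebraMap W W') = Ideal.span {t})
  (r : W →ₗ[S] W) (hr : ∀ w, r (t * w) = w)
  (N : Type u) [AddCommGroup N] [Module S N]

variable (S W W') in
/-- the projection as an `S`-linear map -/
noncomputable def πl : W →ₗ[S] W' := (IsScalarTower.toAlgHom S W W').toLinearMap

variable (W W') in
/-- `w ⊗ n ↦ π w ⊗ n` -/
noncomputable def ρN : W ⊗[S] N →ₗ[S] W' ⊗[S] N := (πl S W W').rTensor N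

lemma ρN_tmul (w : W) (n : N) : ρN W W' N (w ⊗ₜ[S] n) = (algebraMap W W' w) ⊗ₜ[S] n := rfl

lemma ρN_smul (w : W) (x : W ⊗[S] N) :
    ρN W W' N (w • x) = (algebraMap W W' w) • ρN W W' N x := by
  induction x using TensorProduct.induction_on with
  | zero => simp
  | tmul a n =>
    rw [TensorProduct.smul_tmul', ρN_tmul, ρN_tmul, TensorProduct.smul_tmul', smul_eq_mul, map_mul,
      smul_eq_mul]
  | add a b ha hb => rw [smul_add, map_add, ha, hb, map_add, smul_add]

lemma rTensor_mulLeft (x : W ⊗[S] N) : (LinearMap.mulLeft S t).rTensor N x = t • x := by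
  induction x using TensorProduct.induction_on with
  | zero => simp
  | tmul a n => rw [LinearMap.rTensor_tmul, TensorProduct.smul_tmul', LinearMap.mulLeft_apply,
      smul_eq_mul]
  | add a b ha hb => rw [map_add, ha, hb, smul_add]

include hker in
lemma exact_mul_π : Function.Exact (LinearMap.mulLeft S t) (πl S W W') := by
  intro w
  constructor
  · intro h
    have h1 : w ∈ RingHom.ker (algebraMap W W') := h
    rw [hker, Ideal.mem_span_singleton'] at h1
    obtain ⟨a, ha⟩ := h1
    exact ⟨a, by rw [LinearMap.mulLeft_apply, mul_comm, ha]⟩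
  · rintro ⟨a, rfl⟩
    have h1 : t * a ∈ RingHom.ker (algebraMap W W') := by
      rw [hker]
      exact Ideal.mul_mem_right _ _ (Ideal.mem_span_singleton_self t)
    exact h1

include hker hsurj in
lemma exists_of_ρN_eq_zero (x : W ⊗[S] N) (h : ρN W W' N x = 0) :
    ∃ y : W ⊗[S] N, t • y = x := by
  have hex := rTensor_exact N (exact_mul_π (S := S) t hker) (fun y => hsurj y)
  obtain ⟨y, hy⟩ := (hex x).mp h
  exact ⟨y, (rTensor_mulLeft (S := S) t N y).symm.trans hy⟩

include hker in
lemma ρN_t_smul (x : W ⊗[S] N) : ρN W W' N (t • x) = 0 := by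
  have ht : algebraMap W W' t = 0 := by
    rw [← RingHom.mem_ker, hker]
    exact Ideal.mem_span_singleton_self t
  rw [ρN_smul, ht, zero_smul]

include hsurj in
lemma ρN_surjective : Function.Surjective (ρN (S := S) W W' N) :=
  LinearMap.rTensor_surjective (R := S) N (g := πl S W W') (fun y => hsurj y)

end Alg


section Mod

open Groth.Agent.Helper3.DRingLib ChangeOfRings Groth.Agent.Helper9.SV3

variable {S W W' : Type u} [CommRing S] [CommRing W] [CommRing W'] [Algebra S W] [Algebra S W']
  [Algebra W W'] [IsScalarTower S W W'] (t : W)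
  (hsurj : Function.Surjective (algebraMap W W'))
  (hker : RingHom.ker (algebraMap W W') = Ideal.span {t})
  (r : W →ₗ[S] W) (hr : ∀ w, r (t * w) = w)

variable (W W') in
/-- restriction of scalars along the projection -/
noncomputable abbrev Rπ : ModuleCat.{u} W' ⥤ ModuleCat.{u} W :=
  ModuleCat.restrictScalars.{u} (algebraMap W W')

lemma e_symm_smul' (N : ModuleCat.{u} S) (q : W') (y : W' ⊗[S] N) :
    (extendScalarsEquiv (B := W') N).symm (q • y) =
      q • ((extendScalarsEquiv (B := W') N).symm y : (E S W').obj N) :=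
  (extendScalarsEquiv (B := W') N).symm.map_smul q y

variable (W W') in
/-- `ρN` as a `W`-linear map to the restriction of scalars -/
noncomputable def ρNQ (N : ModuleCat.{u} S) :
    W ⊗[S] N →ₗ[W] ((Rπ W W').obj ((E S W').obj N)) where
  toFun := fun x => (extendScalarsEquiv (B := W') N).symm (ρN W W' N x)
  map_add' := fun x y => by
    rw [map_add, map_add]
    rfl
  map_smul' := fun w x => by
    rw [ρN_smul, e_symm_smul']
    rfl

variable (W W') in
/-- the components of `ρ` -/
noncomputable def ρapp (N : ModuleCat.{u} S) :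
    (E S W).obj N ⟶ (Rπ W W').obj ((E S W').obj N) :=
  ModuleCat.ofHom (X := (E S W).obj N) (Y := (Rπ W W').obj ((E S W').obj N))
    (ρNQ W W' N ∘ₗ (extendScalarsEquiv (B := W) N).toLinearMap)

lemma ρapp_apply (N : ModuleCat.{u} S) (x : (E S W).obj N) :
    (ρapp W W' N).hom x =
      (extendScalarsEquiv (B := W') N).symm (ρN W W' N (extendScalarsEquiv (B := W) N x)) := rfl

lemma ρapp_one_tmul (N : ModuleCat.{u} S) (m : N) :
    (ρapp W W' N).hom ((1 : W) ⊗ₜ[S, algebraMap S W] m) =
      ((1 : W') ⊗ₜ[S, algebraMap S W'] m : (E S W').obj N) := by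
  show (extendScalarsEquiv (B := W') N).symm (ρN W W' N ((1 : W) ⊗ₜ[S] m)) = _
  rw [ρN_tmul, map_one]
  rfl

variable (S W W') in
/-- `w ⊗ n ↦ π w ⊗ n` as a natural transformation -/
noncomputable def ρ : E S W ⟶ E S W' ⋙ Rπ W W' where
  app N := ρapp W W' N
  naturality N N' f := by
    apply ModuleCat.ExtendScalars.hom_ext
    intro m
    have h1 : ((E S W).map f ≫ ρapp W W' N').hom ((1 : W) ⊗ₜ[S, algebraMap S W] m) =
        (ρapp W W' N').hom ((1 : W) ⊗ₜ[S, algebraMap S W] (f.hom m)) := rfl
    have h2 : (ρapp W W' N ≫ (E S W' ⋙ Rπ W W').map f).hom ((1 : W) ⊗ₜ[S, algebraMap S W] m) =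
        ((E S W').map f).hom ((ρapp W W' N).hom ((1 : W) ⊗ₜ[S, algebraMap S W] m)) := rfl
    refine h1.trans (Eq.trans ?_ h2.symm)
    rw [ρapp_one_tmul, ρapp_one_tmul]
    rfl

include hker in
lemma μ_ρ_app (N : ModuleCat.{u} S) : (μ (P := S) t).app N ≫ (ρ S W W').app N = 0 := by
  apply ModuleCat.hom_ext
  apply LinearMap.ext
  intro x
  change (ρapp W W' N).hom (((μ (P := S) t).app N).hom x) = 0
  rw [μ_app_apply, ρapp_apply, e_smul, ρN_t_smul t hker, map_zero]
  rfl

/-- the short complex `W ⊗ N → W ⊗ N → W' ⊗ N` -/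
noncomputable def Sm (N : ModuleCat.{u} S) : ShortComplex (ModuleCat.{u} W) :=
  ShortComplex.mk ((μ (P := S) t).app N) ((ρ S W W').app N) (μ_ρ_app t hker N)

include hr hsurj in
theorem Sm_shortExact (N : ModuleCat.{u} S) : (Sm t hker N).ShortExact := by
  have hmono : Mono (Sm t hker N).f := by
    rw [ModuleCat.mono_iff_injective]
    intro x y hxy
    obtain ⟨x', rfl⟩ : ∃ x' : (E S W).obj N, x' = x := ⟨x, rfl⟩
    obtain ⟨y', rfl⟩ : ∃ y' : (E S W).obj N, y' = y := ⟨y, rfl⟩
    have hxy' : t • x' = t • y' := hxy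
    have h0 : t • (x' - y') = 0 := by rw [smul_sub, hxy', sub_self]
    have h1 : t • (extendScalarsEquiv (B := W) N (x' - y')) = 0 :=
      (e_smul N t (x' - y')).symm.trans
        ((congrArg (extendScalarsEquiv (B := W) N) h0).trans (map_zero _))
    have h2 := t_smul_injective t r hr N _ h1
    have h3 : x' - y' = 0 :=
      (extendScalarsEquiv (B := W) N).injective (h2.trans (map_zero _).symm)
    exact sub_eq_zero.mp h3
  have hepi : Epi (Sm t hker N).g := by
    rw [ModuleCat.epi_iff_surjective]
    intro n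
    obtain ⟨n', rfl⟩ : ∃ n' : (E S W').obj N, n' = n := ⟨n, rfl⟩
    obtain ⟨x, hx⟩ := ρN_surjective (S := S) (W := W) hsurj N
      (extendScalarsEquiv (B := W') N n')
    refine ⟨(extendScalarsEquiv (B := W) N).symm x, ?_⟩
    change (ρapp W W' N).hom _ = n'
    rw [ρapp_apply, LinearEquiv.apply_symm_apply, hx, LinearEquiv.symm_apply_apply]
  have hex : (Sm t hker N).Exact := by
    rw [ShortComplex.moduleCat_exact_iff]
    intro x hx
    obtain ⟨x', rfl⟩ : ∃ x' : (E S W).obj N, x' = x := ⟨x, rfl⟩
    have hx0 : (ρapp W W' N).hom x' = 0 := hx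
    have hx' : ρN W W' N (extendScalarsEquiv (B := W) N x') = 0 := by
      rw [ρapp_apply] at hx0
      have hx1 : (extendScalarsEquiv (B := W') N).symm
          (ρN W W' N (extendScalarsEquiv (B := W) N x')) = (0 : (E S W').obj N) := hx0
      have := congrArg (extendScalarsEquiv (B := W') N) hx1
      rw [LinearEquiv.apply_symm_apply, map_zero] at this
      exact this
    obtain ⟨y, hy⟩ := exists_of_ρN_eq_zero t hsurj hker N _ hx'
    refine ⟨(extendScalarsEquiv (B := W) N).symm y, ?_⟩
    change t • ((extendScalarsEquiv (B := W) N).symm y : (E S W).obj N) = x'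
    rw [← e_symm_smul, hy, LinearEquiv.symm_apply_apply]
  exact { exact := hex, mono_f := hmono, epi_g := hepi }

end Mod

end Groth.Agent.Helper9.FN1
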