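import Mathlib
import Groth.Prelude.Def_DDual2
import Groth.Agent.Helper9.SV4
import Groth.Agent.Helper9.FN1

set_option autoImplicit false
set_option linter.style.haveILetI false
set_option linter.unusedSectionVars false
set_option warn.classDefReducibility false

/-!
# The natural distinguished triangle `W ⊗ K → W ⊗ K → W' ⊗ K → (W ⊗ K)[1]` in `D(W)`, `W' = W/(t)`
-/

open CategoryTheory CategoryTheory.Limits DerivedCategory Pretriangulated
open scoped TensorProduct

universe u

attribute [local instance] HasDerivedCategory.standard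

namespace Groth.Agent.Helper9.FN2

open Groth.Agent.Helper9.SV3 Groth.Agent.Helper9.SV4 Groth.Agent.Helper9.FN1

variable {S W W' : Type u} [CommRing S] [CommRing W] [CommRing W'] [Algebra S W] [Algebra S W']
  [Algebra W W'] [IsScalarTower S W W'] (t : W)
  (hsurj : Function.Surjective (algebraMap W W'))
  (hker : RingHom.ker (algebraMap W W') = Ideal.span {t})
  (r : W →ₗ[S] W) (hr : ∀ w, r (t * w) = w)

variable (S W W') in
/-- `K ↦ W' ⊗ K` regarded as a complex of `W`-modules -/
noncomputable abbrev RECx : DRing.Cx S ⥤ DRing.Cx W :=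
  (E S W' ⋙ Rπ W W').mapHomologicalComplex (ComplexShape.up ℤ)

variable (S W W') in
/-- the projection on complexes -/
noncomputable def ρCx : ECx S W ⟶ RECx S W W' :=
  NatTrans.mapHomologicalComplex (ρ S W W') (ComplexShape.up ℤ)

/-- the short complex of complexes -/
noncomputable def Sc (K : DRing.Cx S) : ShortComplex (DRing.Cx W) :=
  ShortComplex.mk ((μCx (P := S) t).app K) ((ρCx S W W').app K) (by
    apply HomologicalComplex.hom_ext
    intro i
    exact μ_ρ_app t hker (K.X i))

include hr hsurj in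
theorem Sc_shortExact (K : DRing.Cx S) : (Sc (S := S) (W' := W') t hker K).ShortExact :=
  HomologicalComplex.shortExact_of_degreewise_shortExact _
    (fun i => Sm_shortExact t hsurj hker r hr (K.X i))

/-- functoriality of the short complex -/
noncomputable def ScMap {K K' : DRing.Cx S} (f : K ⟶ K') :
    Sc (S := S) (W' := W') t hker K ⟶ Sc (S := S) (W' := W') t hker K' where
  τ₁ := (ECx S W).map f
  τ₂ := (ECx S W).map f
  τ₃ := (RECx S W W').map f
  comm₁₂ := (μCx (P := S) t).naturality f
  comm₂₃ := (ρCx S W W').naturality f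

variable [PreservesFiniteLimits (ModuleCat.extendScalars.{u, u, u} (algebraMap S W))]
  [PreservesFiniteLimits (ModuleCat.extendScalars.{u, u, u} (algebraMap S W'))]

variable (S W W') in
/-- the lifting datum for `K ↦ (W' ⊗ K)|_W` -/
noncomputable def liftingRE : Localization.Lifting DerivedCategory.Q
    (HomologicalComplex.quasiIso (ModuleCat.{u} S) (ComplexShape.up ℤ))
    (RECx S W W' ⋙ DerivedCategory.Q)
    (ED S W' ⋙ DRing.restrictD (algebraMap W W')) :=
  ⟨(Functor.associator _ _ _).symm ≪≫
    Functor.isoWhiskerRight (E S W').mapDerivedCategoryFactors _ ≪≫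
    Functor.associator _ _ _ ≪≫
    Functor.isoWhiskerLeft _ (Rπ W W').mapDerivedCategoryFactors ≪≫
    (Functor.associator _ _ _).symm⟩

/-- `(ED' (Q K))|_W ≅ Q (RECx K)` -/
noncomputable def eR (K : DRing.Cx S) :
    (DRing.restrictD (algebraMap W W')).obj ((ED S W').obj (DerivedCategory.Q.obj K)) ≅
      DerivedCategory.Q.obj ((RECx S W W').obj K) :=
  (liftingRE S W W').iso.app K

/-- the connecting morphism of the short exact sequence of complexes -/
noncomputable def δK (hr : ∀ w, r (t * w) = w) (K : DRing.Cx S) :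
    DerivedCategory.Q.obj ((RECx S W W').obj K) ⟶
      (DerivedCategory.Q.obj ((ECx S W).obj K))⟦(1 : ℤ)⟧ :=
  triangleOfSESδ (Sc_shortExact t hsurj hker r hr K)

/-- the connecting morphism, before localization -/
noncomputable def δ₀ (hr : ∀ w, r (t * w) = w) : RECx S W W' ⋙ DerivedCategory.Q ⟶
    (ECx S W ⋙ DerivedCategory.Q) ⋙ shiftFunctor (Dual.D W) (1 : ℤ) where
  app K := δK t hsurj hker r hr K
  naturality K K' f :=
    (triangleOfSESδ_naturality (Sc_shortExact t hsurj hker r hr K)
      (Sc_shortExact t hsurj hker r hr K') (ScMap t hker f)).symm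

/-- the connecting morphism `(W' ⊗ -)|_W ⟶ (W ⊗ -)[1]` on `D(S)` -/
noncomputable def δ (hr : ∀ w, r (t * w) = w) :
    ED S W' ⋙ DRing.restrictD (algebraMap W W') ⟶
      ED S W ⋙ shiftFunctor (Dual.D W) (1 : ℤ) :=
  letI := liftingRE S W W'
  Localization.liftNatTrans DerivedCategory.Q
    (HomologicalComplex.quasiIso (ModuleCat.{u} S) (ComplexShape.up ℤ))
    (RECx S W W' ⋙ DerivedCategory.Q)
    ((ECx S W ⋙ DerivedCategory.Q) ⋙ shiftFunctor (Dual.D W) (1 : ℤ))
    (ED S W' ⋙ DRing.restrictD (algebraMap W W'))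
    (ED S W ⋙ shiftFunctor (Dual.D W) (1 : ℤ))
    (δ₀ t hsurj hker r hr)

variable (S W W') in
/-- the projection on `D(S)` -/
noncomputable def ρD : ED S W ⟶ ED S W' ⋙ DRing.restrictD (algebraMap W W') :=
  letI := liftingRE S W W'
  Localization.liftNatTrans DerivedCategory.Q
    (HomologicalComplex.quasiIso (ModuleCat.{u} S) (ComplexShape.up ℤ))
    (ECx S W ⋙ DerivedCategory.Q) (RECx S W W' ⋙ DerivedCategory.Q)
    (ED S W) (ED S W' ⋙ DRing.restrictD (algebraMap W W'))
    (Functor.whiskerRight (ρCx S W W') DerivedCategory.Q)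

lemma δ_app (K : DRing.Cx S) :
    (δ t hsurj hker r hr).app (DerivedCategory.Q.obj K) =
      (eR K).hom ≫ δK t hsurj hker r hr K ≫ ((eE K).inv)⟦(1 : ℤ)⟧' := by
  dsimp only [δ]
  rw [Localization.liftNatTrans_app]
  rfl

lemma ρD_app (K : DRing.Cx S) :
    (ρD S W W').app (DerivedCategory.Q.obj K) =
      (eE K).hom ≫ DerivedCategory.Q.map ((ρCx S W W').app K) ≫ (eR K).inv := by
  dsimp only [ρD]
  rw [Localization.liftNatTrans_app]
  rfl

/-- **The distinguished triangle** -/
theorem dist (K : DRing.Cx S) :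
    Triangle.mk (t • 𝟙 ((ED S W).obj (DerivedCategory.Q.obj K)))
      ((ρD S W W').app (DerivedCategory.Q.obj K))
      ((δ t hsurj hker r hr).app (DerivedCategory.Q.obj K)) ∈ distTriang (Dual.D W) := by
  refine isomorphic_distinguished _
    (triangleOfSES_distinguished (Sc_shortExact t hsurj hker r hr K)) _
    (Triangle.isoMk _ _ (eE K) (eE K) (eR K) ?_ ?_ ?_)
  · change (t • 𝟙 _) ≫ (eE K).hom = (eE K).hom ≫ DerivedCategory.Q.map ((μCx (P := S) t).app K)
    rw [μCx_app, Functor.map_smul, CategoryTheory.Functor.map_id, Linear.smul_comp,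
      Linear.comp_smul, Category.id_comp, Category.comp_id]
  · change (ρD S W W').app (DerivedCategory.Q.obj K) ≫ (eR K).hom =
      (eE K).hom ≫ DerivedCategory.Q.map ((ρCx S W W').app K)
    rw [ρD_app, Category.assoc, Category.assoc, Iso.inv_hom_id, Category.comp_id]
  · change (δ t hsurj hker r hr).app (DerivedCategory.Q.obj K) ≫ ((eE K).hom)⟦(1 : ℤ)⟧' =
      (eR K).hom ≫ δK t hsurj hker r hr K
    rw [δ_app, Category.assoc, Category.assoc, ← Functor.map_comp, Iso.inv_hom_id,
      CategoryTheory.Functor.map_id, Category.comp_id]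

end Groth.Agent.Helper9.FN2
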