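import Mathlib
import Groth.Prelude.Def_DDual2
import Groth.Agent.Helper9.SV6
import Groth.Agent.Helper9.FN2

set_option autoImplicit false
set_option linter.style.haveILetI false
set_option linter.unusedSectionVars false

/-!
# `RHom_W(W', (W ⊗_S K)[1]) ≅ W' ⊗_S K` for `W' = W/(t)`, `t` "monic"
-/

open CategoryTheory CategoryTheory.Limits DerivedCategory Pretriangulated
open scoped TensorProduct

universe u

attribute [local instance] HasDerivedCategory.standard

namespace Groth.Agent.Helper9.FN3

open Groth.Agent.Helper6 Groth.Agent.Helper6.DTenG Groth.Agent.Helper6.DTenX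
  Groth.Agent.Helper9.RHR4 Groth.Agent.Helper9.SV3 Groth.Agent.Helper9.SV4
  Groth.Agent.Helper9.FN1 Groth.Agent.Helper9.FN2 Groth.Agent.Helper3.DRingLib

variable {S W W' : Type u} [CommRing S] [CommRing W] [CommRing W'] [Algebra S W] [Algebra S W']
  [Algebra W W'] [IsScalarTower S W W'] [Module.Flat S W] [Module.Flat S W'] (t : W)
  (hsurj : Function.Surjective (algebraMap W W'))
  (hker : RingHom.ker (algebraMap W W') = Ideal.span {t})
  (r : W →ₗ[S] W) (hr : ∀ w, r (t * w) = w)


/-- the projection at the generators -/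
noncomputable def ρT (j : ℤ) : (ED S W).obj (T S j) ⟶ (DRing.restrictD (algebraMap W W')).obj (T W' j) :=
  (ρD S W W').app (T S j) ≫ (DRing.restrictD (algebraMap W W')).map (SV6.aIso (P := S) (Q := W') j).hom

/-- the connecting morphism at the generators -/
noncomputable def δT (hr : ∀ w, r (t * w) = w) (j : ℤ) :
    (DRing.restrictD (algebraMap W W')).obj (T W' j) ⟶ ((ED S W).obj (T S j))⟦(1 : ℤ)⟧ :=
  (DRing.restrictD (algebraMap W W')).map (SV6.aIso (P := S) (Q := W') j).inv ≫ (δ t hsurj hker r hr).app (T S j)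

lemma distT (j : ℤ) :
    Triangle.mk (t • 𝟙 ((ED S W).obj (T S j))) (ρT (W := W) (W' := W') j)
      (δT t hsurj hker r hr j) ∈ distTriang (Dual.D W) := by
  refine isomorphic_distinguished _ (dist t hsurj hker r hr (Sg S j)) _
    (Triangle.isoMk _ _ (Iso.refl _) (Iso.refl _)
      ((DRing.restrictD (algebraMap W W')).mapIso (SV6.aIso (P := S) (Q := W') j).symm) ?_ ?_ ?_)
  · exact (Category.comp_id _).trans (Category.id_comp _).symm
  · change ρT (W := W) (W' := W') j ≫ (DRing.restrictD (algebraMap W W')).map (SV6.aIso (P := S) (Q := W') j).inv =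
      𝟙 _ ≫ (ρD S W W').app (T S j)
    dsimp only [ρT]
    rw [Category.assoc, ← Functor.map_comp, Iso.hom_inv_id, CategoryTheory.Functor.map_id]
    exact (Category.comp_id _).trans (Category.id_comp _).symm
  · change δT t hsurj hker r hr j ≫ (𝟙 _)⟦(1 : ℤ)⟧' =
      (DRing.restrictD (algebraMap W W')).map (SV6.aIso (P := S) (Q := W') j).inv ≫ (δ t hsurj hker r hr).app (T S j)
    rw [CategoryTheory.Functor.map_id, Category.comp_id]
    rfl

include hr in
lemma t_regular (w : W) (h : t * w = 0) : w = 0 := by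
  rw [← hr w, h, map_zero]

include hsurj hker hr in
/-- restriction along `π` sends the generators to perfect complexes -/
lemma isPerfect_res_T (j : ℤ) : DRing.IsPerfect W ((DRing.restrictD (algebraMap W W')).obj (T W' j)) := by
  have h1 : DRing.IsPerfect W ((ED S W).obj (T S j)) :=
    isPerfect_of_iso (SV6.aIso (P := S) (Q := W) j).symm (isPerfect_T j)
  exact isPerfect_obj₃ _ (distT t hsurj hker r hr j) h1 h1

variable {G : Dual.D W ⥤ Dual.D W'} (adj : DRing.restrictD (algebraMap W W') ⊣ G)

/-- the comparison `W' ⊗ K ⟶ RHom_W(W', (W ⊗ K)[1])` -/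
noncomputable def η (hr : ∀ w, r (t * w) = w) :
    ED S W' ⟶ (ED S W ⋙ shiftFunctor (Dual.D W) (1 : ℤ)) ⋙ G where
  app K := adj.unit.app ((ED S W').obj K) ≫ G.map ((δ t hsurj hker r hr).app K)
  naturality K K' f := by
    have h1 : (ED S W').map f ≫ adj.unit.app ((ED S W').obj K') =
        adj.unit.app ((ED S W').obj K) ≫ G.map ((DRing.restrictD (algebraMap W W')).map ((ED S W').map f)) :=
      adj.unit.naturality ((ED S W').map f)
    have h2 : (DRing.restrictD (algebraMap W W')).map ((ED S W').map f) ≫ (δ t hsurj hker r hr).app K' =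
        (δ t hsurj hker r hr).app K ≫ ((ED S W).map f)⟦(1 : ℤ)⟧' :=
      (δ t hsurj hker r hr).naturality f
    rw [← Category.assoc, h1, Category.assoc, ← G.map_comp, h2, G.map_comp, Category.assoc]
    rfl

lemma comp_η_app {X : Dual.D W'} {K : Dual.D S} (g : X ⟶ (ED S W').obj K) :
    g ≫ (η t hsurj hker r adj hr).app K =
      adj.homEquiv X _ ((DRing.restrictD (algebraMap W W')).map g ≫ (δ t hsurj hker r hr).app K) := by
  have h1 : g ≫ adj.unit.app ((ED S W').obj K) = adj.unit.app X ≫ G.map ((DRing.restrictD (algebraMap W W')).map g) :=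
    adj.unit.naturality g
  rw [Adjunction.homEquiv_unit, Functor.map_comp, ← Category.assoc, ← h1, Category.assoc]
  rfl

lemma isIso_η_T (j : ℤ) : IsIso ((η t hsurj hker r adj hr).app (T S j)) := by
  refine isIso_of_bijective _ (fun i => ?_)
  have h : (fun g : T W' i ⟶ (ED S W').obj (T S j) =>
        g ≫ (η t hsurj hker r adj hr).app (T S j)) =
      adj.homEquiv (T W' i) _ ∘
        (fun g₀ : T W' i ⟶ T W' j => (DRing.restrictD (algebraMap W W')).map g₀ ≫ δT t hsurj hker r hr j) ∘
          (fun g => g ≫ (SV6.aIso (P := S) (Q := W') j).hom) := by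
    funext g
    rw [comp_η_app]
    dsimp only [Function.comp_apply, δT]
    congr 1
    have h3 : (DRing.restrictD (algebraMap W W')).map (g ≫ (SV6.aIso (P := S) (Q := W') j).hom) ≫
        (DRing.restrictD (algebraMap W W')).map (SV6.aIso (P := S) (Q := W') j).inv =
        (DRing.restrictD (algebraMap W W')).map g := by
      rw [← Functor.map_comp, Category.assoc, Iso.hom_inv_id, Category.comp_id]
    rw [← Category.assoc, h3]
  refine Eq.mpr (congrArg Function.Bijective h) ?_
  refine (Equiv.bijective _).comp (Function.Bijective.comp ?_ ?_)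
  · exact SV5.bijective (algebraMap W W') hsurj t hker (t_regular t r hr)
      (fun k => (ED S W).obj (T S k)) (fun k => SV6.aIso (P := S) (Q := W) k)
      (fun k => ρT (W := W) (W' := W') k) (fun k => δT t hsurj hker r hr k)
      (fun k => distT t hsurj hker r hr k) i j
  · exact ⟨fun g g' hgg => (cancel_mono _).mp hgg,
      fun g₀ => ⟨g₀ ≫ (SV6.aIso (P := S) (Q := W') j).inv, by
        dsimp only
        rw [Category.assoc, Iso.inv_hom_id, Category.comp_id]⟩⟩

/-- **Lemma C'** -/
theorem isIso_η (K : Dual.D S) : IsIso ((η t hsurj hker r adj hr).app K) := by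
  haveI : G.Additive := adj.right_adjoint_additive
  have hF1 : MidExact (ED S W') := SV6.midExact_of_isTriangulated _
  have adj' : DRing.restrictD (algebraMap W W') ⋙ shiftFunctor (Dual.D W) (-1 : ℤ) ⊣
      shiftFunctor (Dual.D W) (1 : ℤ) ⋙ G :=
    adj.comp (shiftEquiv (Dual.D W) (1 : ℤ)).symm.toAdjunction
  have hG1 : MidExact ((ED S W ⋙ shiftFunctor (Dual.D W) (1 : ℤ)) ⋙ G) :=
    MidExact.of_natIso (Functor.associator _ _ _)
      ((SV6.midExact_of_isTriangulated (ED S W)).comp_rightAdjoint adj')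
  have hF2 : PresCoprod (ED S W') := SV6.presCoprod_of_adj (FlatBC.adjD S W')
  have hE : PresCoprod (ED S W) := SV6.presCoprod_of_adj (FlatBC.adjD S W)
  have hS : PresCoprod (shiftFunctor (Dual.D W) (1 : ℤ)) :=
    SV6.presCoprod_of_adj (shiftEquiv (Dual.D W) (1 : ℤ)).toAdjunction
  have hG0 : PresCoprod G := RHR5.presCoprod_rightAdjoint adj
    (fun i => compact_of_isPerfect (isPerfect_res_T t hsurj hker r hr i))
  have hG2 : PresCoprod ((ED S W ⋙ shiftFunctor (Dual.D W) (1 : ℤ)) ⋙ G) :=
    SV6.presCoprod_comp (SV6.presCoprod_comp @hE @hS) @hG0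
  refine isIso_app hF1 hG1 @hF2 @hG2 (fun n => ?_) K
  have e : T S (-n) ≅ (DTen.unit S)⟦-(-n)⟧ :=
    (Groth.Agent.Helper3.DRingLib.singleShiftIso (ModuleCat.of S S) (-n)).symm
  have e' : T S (-n) ≅ (DTen.unit S)⟦n⟧ := by
    have e2 := e
    rw [neg_neg] at e2
    exact e2
  haveI := isIso_η_T t hsurj hker r hr adj (-n)
  exact (NatTrans.isIso_app_iff_of_iso (η t hsurj hker r adj hr) e').mp inferInstance

include hsurj hker hr adj in
theorem lemmaC' (K : Dual.D S) :
    Nonempty ((ED S W').obj K ≅ G.obj (((ED S W).obj K)⟦(1 : ℤ)⟧)) := by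
  haveI := isIso_η t hsurj hker r hr adj K
  exact ⟨asIso ((η t hsurj hker r adj hr).app K)⟩

end Groth.Agent.Helper9.FN3
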