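import Mathlib

set_option autoImplicit false
set_option linter.style.haveILetI false
set_option linter.unusedSectionVars false

/-!
# A ring with a power basis is a Frobenius algebra: `s ↦ τ(s · -)` is a bijection `S' → Hom_S(S', S)`,
where `τ` is the top coefficient
-/

universe u

namespace Groth.Agent.Helper9.FN4

variable {S S' : Type u} [CommRing S] [CommRing S'] [Algebra S S'] (pb : PowerBasis S S')
  (hd : 0 < pb.dim)

/-- the top index -/
def top : Fin pb.dim := ⟨pb.dim - 1, by omega⟩

/-- the top coefficient functional -/
noncomputable def τ : S' →ₗ[S] S := pb.basis.coord (top pb hd)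

/-- `s ↦ τ(s · -)` -/
noncomputable def θ : S' →ₗ[S] Module.Dual S S' :=
  (LinearMap.mul S S').compr₂ (τ pb hd)

lemma θ_apply (s s' : S') : θ pb hd s s' = τ pb hd (s * s') := rfl

lemma τ_pow (m : ℕ) (hm : m < pb.dim) :
    τ pb hd (pb.gen ^ m) = if m = pb.dim - 1 then 1 else 0 := by
  have h1 : pb.gen ^ m = pb.basis ⟨m, hm⟩ := by rw [pb.basis_eq_pow]
  rw [h1, τ, Module.Basis.coord_apply, Module.Basis.repr_self, Finsupp.single_apply]
  by_cases h : m = pb.dim - 1
  · rw [if_pos h, if_pos]
    exact Fin.ext h
  · rw [if_neg h, if_neg]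
    intro h2
    exact h (congrArg Fin.val h2)

/-- the filtration step -/
lemma mem_range_θ_aux (k : ℕ) (hk : k ≤ pb.dim) :
    ∀ l : Module.Dual S S', (∀ j : ℕ, j < pb.dim - k → l (pb.gen ^ j) = 0) →
      l ∈ LinearMap.range (θ pb hd) := by
  induction k with
  | zero =>
    intro l hl
    have : l = 0 := by
      apply pb.basis.ext
      intro i
      rw [pb.basis_eq_pow, LinearMap.zero_apply]
      exact hl i (by have := i.2; omega)
    rw [this]
    exact Submodule.zero_mem _
  | succ k ih =>
    intro l hl
    -- the first index on which `l` may be nonzero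
    have hk' : pb.dim - (k + 1) < pb.dim := by omega
    set m := pb.dim - (k + 1) with hm
    let c : S := l (pb.gen ^ m)
    let u : S' := pb.gen ^ (pb.dim - 1 - m)
    have h1 : l - θ pb hd (c • u) ∈ LinearMap.range (θ pb hd) := by
      apply ih (by omega)
      intro j hj
      rw [LinearMap.sub_apply, map_smul, LinearMap.smul_apply, θ_apply, ← pow_add, smul_eq_mul]
      have hj' : pb.dim - 1 - m + j < pb.dim := by omega
      rw [τ_pow pb hd _ hj']
      by_cases hjm : j = m
      · subst hjm
        rw [if_pos (by omega), mul_one, sub_self]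
      · have hjlt : j < m := by omega
        rw [if_neg (by omega), mul_zero, sub_zero]
        exact hl j (by omega)
    have h2 : l = (l - θ pb hd (c • u)) + θ pb hd (c • u) := by abel
    rw [h2]
    exact Submodule.add_mem _ h1 (LinearMap.mem_range_self _ _)

theorem θ_surjective : Function.Surjective (θ pb hd) := by
  intro l
  have := mem_range_θ_aux pb hd pb.dim le_rfl l (fun j hj => by omega)
  exact this

theorem θ_bijective : Function.Bijective (θ pb hd) := by
  refine ⟨?_, θ_surjective pb hd⟩
  haveI : Module.Finite S S' := pb.finite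
  let e : S' ≃ₗ[S] Module.Dual S S' := pb.basis.toDualEquiv
  have h1 : Function.Surjective (e.symm.toLinearMap ∘ₗ θ pb hd) :=
    e.symm.surjective.comp (θ_surjective pb hd)
  have h2 : Function.Injective (e.symm.toLinearMap ∘ₗ θ pb hd) :=
    OrzechProperty.injective_of_surjective_endomorphism _ h1
  intro x y hxy
  apply h2
  simp only [LinearMap.comp_apply]
  rw [hxy]

/-- the Frobenius isomorphism -/
noncomputable def θe : S' ≃ₗ[S] Module.Dual S S' :=
  LinearEquiv.ofBijective (θ pb hd) (θ_bijective pb hd)

lemma θe_apply (s s' : S') : θe pb hd s s' = τ pb hd (s * s') := rfl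

end Groth.Agent.Helper9.FN4
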