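import Mathlib
import Groth.Prelude.Def_DDual2
import Groth.Agent.Helper3.DRingBC
import Groth.Agent.Helper6.FlatBC
import Groth.Agent.Helper6.AdjHC
import Groth.Agent.Helper9.SV3
import Groth.Agent.Helper9.FN4

set_option autoImplicit false
set_option linter.style.haveILetI false
set_option linter.unusedSectionVars false

/-!
# For a ring `S'` with a power basis over `S`, extension of scalars is right adjoint to restriction
-/

open CategoryTheory CategoryTheory.Limits
open scoped TensorProduct

universe u

namespace Groth.Agent.Helper9.FN5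

open Groth.Agent.Helper9.FN4 Groth.Agent.Helper3.DRingLib Groth.Agent.Helper9.SV3

variable {S S' : Type u} [CommRing S] [CommRing S'] [Algebra S S'] (pb : PowerBasis S S')
  (hd : 0 < pb.dim)

section Unbundled

variable (N : Type u) [AddCommGroup N] [Module S N]

/-- `S' ⊗ N ≃ Hom_S(S', N)`, `s ⊗ n ↦ (s' ↦ τ(s s') n)` -/
noncomputable def ΨN : S' ⊗[S] N ≃ₗ[S] (S' →ₗ[S] N) :=
  haveI : Module.Finite S S' := pb.finite
  haveI : Module.Free S S' := Module.Free.of_basis pb.basis
  (TensorProduct.congr (θe pb hd) (LinearEquiv.refl S N)) ≪≫ₗ dualTensorHomEquiv S S' N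

lemma ΨN_tmul (s s' : S') (n : N) : ΨN pb hd N (s ⊗ₜ[S] n) s' = τ pb hd (s * s') • n := by
  haveI : Module.Finite S S' := pb.finite
  haveI : Module.Free S S' := Module.Free.of_basis pb.basis
  simp [ΨN, θe_apply]

lemma ΨN_smul (s₁ : S') (x : S' ⊗[S] N) (s' : S') :
    ΨN pb hd N (s₁ • x) s' = ΨN pb hd N x (s' * s₁) := by
  induction x using TensorProduct.induction_on with
  | zero => simp
  | tmul a n =>
    rw [TensorProduct.smul_tmul', ΨN_tmul, ΨN_tmul, smul_eq_mul]
    congr 2
    ring
  | add a b ha hb =>
    rw [smul_add, map_add, LinearMap.add_apply, ha, hb, map_add, LinearMap.add_apply]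

end Unbundled


section Bundled

open ChangeOfRings

variable (N : ModuleCat.{u} S)

/-- `S'` as an `S`-module by restriction of scalars -/
noncomputable abbrev rS' : ModuleCat.{u} S :=
  (ModuleCat.restrictScalars (algebraMap S S')).obj (ModuleCat.of S' S')

/-- the middle equivalence, `S'`-linear for the coextension module structure -/
noncomputable def mid : S' ⊗[S] N ≃ₗ[S'] ((rS' (S := S) (S' := S')) →ₗ[S] N) where
  toFun x := (ΨN pb hd N x) ∘ₗ (restrictSelfEquiv (A := S) (B := S')).toLinearMap
  invFun g := (ΨN pb hd N).symm (g ∘ₗ (restrictSelfEquiv (A := S) (B := S')).symm.toLinearMap)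
  map_add' x y := by
    rw [map_add, LinearMap.add_comp]
  map_smul' s₁ x := by
    apply LinearMap.ext
    intro s'
    exact ΨN_smul pb hd N s₁ x (show S' from s')
  left_inv x := by
    have h : ((ΨN pb hd N x) ∘ₗ (restrictSelfEquiv (A := S) (B := S')).toLinearMap) ∘ₗ
        (restrictSelfEquiv (A := S) (B := S')).symm.toLinearMap = ΨN pb hd N x := by
      apply LinearMap.ext
      intro s'
      rfl
    dsimp only
    rw [h, LinearEquiv.symm_apply_apply]
  right_inv g := by
    dsimp only
    rw [LinearEquiv.apply_symm_apply]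
    apply LinearMap.ext
    intro s'
    rfl

lemma mid_apply (x : S' ⊗[S] N) (s' : S') : mid pb hd N x s' = ΨN pb hd N x s' := rfl

/-- the isomorphism `S' ⊗ N ≅ Hom_S(S', N)` of `S'`-modules -/
noncomputable def isoN :
    (E S S').obj N ≅ (ModuleCat.coextendScalars (algebraMap S S')).obj N :=
  ((extendScalarsEquiv (B := S') N) ≪≫ₗ mid pb hd N ≪≫ₗ
    (ModuleCat.CoextendScalars.equiv (algebraMap S S') N).symm).toModuleIso

lemma isoN_hom_apply (x : (E S S').obj N) (s' : S') :
    ((isoN pb hd N).hom.hom x : (ModuleCat.coextendScalars (algebraMap S S')).obj N) s' =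
      ΨN pb hd N (extendScalarsEquiv (B := S') N x) s' := rfl

lemma isoN_hom_one_tmul (m : N) (s' : S') :
    ((isoN pb hd N).hom.hom ((1 : S') ⊗ₜ[S, algebraMap S S'] m) :
      (ModuleCat.coextendScalars (algebraMap S S')).obj N) s' = τ pb hd s' • m := by
  show ΨN pb hd N ((1 : S') ⊗ₜ[S] m) s' = _
  rw [ΨN_tmul, one_mul]

/-- extension and coextension of scalars agree -/
noncomputable def extCoextIso :
    E S S' ≅ ModuleCat.coextendScalars.{u, u, u} (algebraMap S S') :=
  NatIso.ofComponents (fun N => isoN pb hd N) (by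
    intro N N' φ
    apply ModuleCat.ExtendScalars.hom_ext
    intro m
    apply ModuleCat.CoextendScalars.ext
    apply LinearMap.ext
    intro s'
    have h1 : (((E S S').map φ ≫ (isoN pb hd N').hom).hom ((1 : S') ⊗ₜ[S, algebraMap S S'] m) :
        (ModuleCat.coextendScalars (algebraMap S S')).obj N') s' =
        ((isoN pb hd N').hom.hom ((1 : S') ⊗ₜ[S, algebraMap S S'] (φ.hom m)) :
          (ModuleCat.coextendScalars (algebraMap S S')).obj N') s' := rfl
    have h2 : (((isoN pb hd N).hom ≫ (ModuleCat.coextendScalars (algebraMap S S')).map φ).hom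
        ((1 : S') ⊗ₜ[S, algebraMap S S'] m) :
          (ModuleCat.coextendScalars (algebraMap S S')).obj N') s' =
        φ.hom (((isoN pb hd N).hom.hom ((1 : S') ⊗ₜ[S, algebraMap S S'] m) :
          (ModuleCat.coextendScalars (algebraMap S S')).obj N) s') := rfl
    refine h1.trans (Eq.trans ?_ h2.symm)
    exact (isoN_hom_one_tmul pb hd N' (φ.hom m) s').trans
      ((map_smul φ.hom _ _).symm.trans
        (congrArg φ.hom (isoN_hom_one_tmul pb hd N m s').symm)))

/-- restriction of scalars is left adjoint to extension of scalars -/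
noncomputable def adjMod :
    ModuleCat.restrictScalars.{u} (algebraMap S S') ⊣ E S S' :=
  (ModuleCat.restrictCoextendScalarsAdj.{u, u, u} (algebraMap S S')).ofNatIsoRight
    (extCoextIso pb hd).symm

end Bundled


section Derived

attribute [local instance] HasDerivedCategory.standard

open Groth.Agent.Helper6

variable [Module.Flat S S']

/-- the adjunction on complexes -/
noncomputable def adjCx :
    (FlatBC.Rf S S').mapHomologicalComplex (ComplexShape.up ℤ) ⊣
      (FlatBC.Ef S S').mapHomologicalComplex (ComplexShape.up ℤ) :=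
  Groth.Agent.Helper6.AdjHC.adjHC (adjMod pb hd) (ComplexShape.up ℤ)

/-- **Frobenius duality**: for `S'` with a power basis over `S`, extension of scalars
`D(S) ⥤ D(S')` is right adjoint to restriction of scalars. -/
noncomputable def adjD : DRing.restrictD (algebraMap S S') ⊣ FlatBC.ED S S' :=
  (adjCx pb hd).localization DerivedCategory.Q
    (HomologicalComplex.quasiIso (ModuleCat.{u} S') (ComplexShape.up ℤ)) DerivedCategory.Q
    (HomologicalComplex.quasiIso (ModuleCat.{u} S) (ComplexShape.up ℤ))
    (FlatBC.RD S S') (FlatBC.ED S S')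

end Derived

end Groth.Agent.Helper9.FN5
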