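import Mathlib
import Groth.Prelude.Def_DDual2
import Groth.Agent.Helper6.LBCAdj
import Groth.Agent.Helper6.HasLBC

set_option autoImplicit false
set_option linter.style.haveILetI false
set_option linter.unusedSectionVars false

/-!
# Derived base change along a flat ring map is induced by the exact functor
-/

open CategoryTheory CategoryTheory.Limits DerivedCategory

universe u

attribute [local instance] HasDerivedCategory.standard

namespace Groth.Agent.Helper9.SV2

variable {A B : Type u} [CommRing A] [CommRing B] (φ : A →+* B)
  [PreservesFiniteLimits (ModuleCat.extendScalars.{u, u, u} φ)]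

/-- extension of scalars along a flat map, on derived categories -/
noncomputable abbrev extD : Dual.D A ⥤ Dual.D B :=
  (ModuleCat.extendScalars.{u, u, u} φ).mapDerivedCategory

/-- `Qh ⋙ extD ≅ baseChangeKh` -/
noncomputable def extDFac : Qh ⋙ extD φ ≅ DRing.baseChangeKh φ :=
  (ModuleCat.extendScalars.{u, u, u} φ).mapDerivedCategoryFactorsh

instance : (extD φ).IsLeftDerivedFunctor (extDFac φ).hom
    (HomotopyCategory.quasiIso (ModuleCat.{u} A) (ComplexShape.up ℤ)) :=
  Functor.isLeftDerivedFunctor_of_inverts _ _ _

/-- derived base change along a flat map is extension of scalars -/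
noncomputable def lbcIso [DRing.HasLBaseChange φ] : DRing.LBaseChange φ ≅ extD φ :=
  Functor.leftDerivedUnique (extD φ) (DRing.LBaseChange φ)
    ((DRing.baseChangeKh φ).totalLeftDerivedCounit Qh
      (HomotopyCategory.quasiIso (ModuleCat.{u} A) (ComplexShape.up ℤ)))
    (extDFac φ).hom
    (HomotopyCategory.quasiIso (ModuleCat.{u} A) (ComplexShape.up ℤ))

end Groth.Agent.Helper9.SV2
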