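import Mathlib
import Groth.Prelude.Def_DDual2
import Groth.Agent.Helper9.SV1
import Groth.Agent.Helper9.SV2
import Groth.Agent.Helper9.FN3
import Groth.Agent.Helper9.FN5
import Groth.Agent.Helper9.BR3

set_option autoImplicit false
set_option linter.style.haveILetI false
set_option linter.unusedSectionVars false

/-!
# Killing a monic polynomial in one of the variables
-/

open CategoryTheory CategoryTheory.Limits DerivedCategory Pretriangulated Polynomial
open scoped TensorProduct

universe u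

attribute [local instance] HasDerivedCategory.standard

namespace Groth.Agent.Helper9.FN6

open Groth.Agent.Helper6

section Div

variable {S : Type u} [CommRing S] (f : S[X]) (hf : f.Monic)

lemma key_div (q : S[X]) : f * (q /ₘ f) = q - q %ₘ f := by
  rw [eq_sub_iff_add_eq, add_comm]
  exact modByMonic_add_div q f

/-- division by a monic polynomial as a linear map -/
noncomputable def rDiv (hf : f.Monic) : S[X] →ₗ[S] S[X] where
  toFun q := q /ₘ f
  map_add' a b := by
    apply hf.isRegular.left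
    dsimp only
    rw [mul_add, key_div, key_div, key_div, add_modByMonic]
    ring
  map_smul' c a := by
    apply hf.isRegular.left
    dsimp only
    rw [RingHom.id_apply, mul_smul_comm, key_div, key_div, smul_modByMonic, smul_sub]

lemma rDiv_mul (q : S[X]) : rDiv f hf (f * q) = q :=
  mul_divByMonic_cancel_left q hf

variable (n : ℕ)

/-- coefficientwise division on `S[x][z_1, …, z_n]` -/
noncomputable def rW (hf : f.Monic) :
    MvPolynomial (Fin n) S[X] →ₗ[S] MvPolynomial (Fin n) S[X] :=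
  (AddMonoidAlgebra.coeffLinearEquiv S).symm.toLinearMap ∘ₗ
    Finsupp.mapRange.linearMap (rDiv f hf) ∘ₗ
      (AddMonoidAlgebra.coeffLinearEquiv S).toLinearMap

lemma coeff_rW (w : MvPolynomial (Fin n) S[X]) (m : Fin n →₀ ℕ) :
    MvPolynomial.coeff m (rW f n hf w) = rDiv f hf (MvPolynomial.coeff m w) := rfl

lemma rW_mul (w : MvPolynomial (Fin n) S[X]) : rW f n hf (MvPolynomial.C f * w) = w := by
  apply MvPolynomial.ext
  intro m
  rw [coeff_rW, MvPolynomial.coeff_C_mul, rDiv_mul]

lemma ker_map : RingHom.ker (MvPolynomial.map (σ := Fin n) (AdjoinRoot.mk f)) =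
    Ideal.span {MvPolynomial.C f} := by
  have h1 : RingHom.ker (AdjoinRoot.mk f) = Ideal.span {f} := by
    ext g
    rw [RingHom.mem_ker, AdjoinRoot.mk_eq_zero, Ideal.mem_span_singleton]
  rw [MvPolynomial.ker_map, h1, Ideal.map_span, Set.image_singleton]

end Div


section Step

variable {S A : Type u} [CommRing S] [CommRing A] (f : S[X]) (hf : f.Monic)
  (hd : 0 < f.natDegree) (n : ℕ)

/-- the projection `S[x][z] → (S[x]/f)[z]` -/
noncomputable abbrev πW : MvPolynomial (Fin n) S[X] →+* MvPolynomial (Fin n) (AdjoinRoot f) :=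
  MvPolynomial.map (AdjoinRoot.mk f)

instance flatW : Module.Flat S (MvPolynomial (Fin n) S[X]) := by
  haveI : Module.Free S ((Fin n →₀ ℕ) →₀ S[X]) := inferInstance
  haveI : Module.Free S (MvPolynomial (Fin n) S[X]) :=
    Module.Free.of_equiv (AddMonoidAlgebra.coeffLinearEquiv S).symm
  infer_instance

include hf in
lemma flatW' : Module.Flat S (MvPolynomial (Fin n) (AdjoinRoot f)) := by
  haveI : Module.Free S (AdjoinRoot f) := Module.Free.of_basis (AdjoinRoot.powerBasis' hf).basis
  haveI : Module.Free S ((Fin n →₀ ℕ) →₀ AdjoinRoot f) := inferInstance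
  haveI : Module.Free S (MvPolynomial (Fin n) (AdjoinRoot f)) :=
    Module.Free.of_equiv (AddMonoidAlgebra.coeffLinearEquiv S).symm
  infer_instance

include hf in
lemma flatS' : Module.Flat S (AdjoinRoot f) := by
  haveI : Module.Free S (AdjoinRoot f) := Module.Free.of_basis (AdjoinRoot.powerBasis' hf).basis
  infer_instance

include hf hd in
/-- **The step**: killing the monic polynomial `f(x)`. -/
theorem step (β' : MvPolynomial (Fin n) (AdjoinRoot f) →+* A)
    {Gβ' : Dual.D (MvPolynomial (Fin n) (AdjoinRoot f)) ⥤ Dual.D A}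
    (adjβ' : DRing.restrictD β' ⊣ Gβ')
    {Gβ : Dual.D (MvPolynomial (Fin n) S[X]) ⥤ Dual.D A}
    (adjβ : DRing.restrictD (β'.comp (πW f n)) ⊣ Gβ)
    {GS : Dual.D S ⥤ Dual.D (AdjoinRoot f)}
    (adjS : DRing.restrictD (algebraMap S (AdjoinRoot f)) ⊣ GS)
    [DRing.HasLBaseChange (algebraMap S (MvPolynomial (Fin n) S[X]))]
    [DRing.HasLBaseChange (algebraMap (AdjoinRoot f) (MvPolynomial (Fin n) (AdjoinRoot f)))]
    (N : Dual.D S) :
    Nonempty ((Gβ.obj ((DRing.LBaseChange
        (algebraMap S (MvPolynomial (Fin n) S[X]))).obj N))⟦(1 : ℤ)⟧ ≅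
      Gβ'.obj ((DRing.LBaseChange
        (algebraMap (AdjoinRoot f) (MvPolynomial (Fin n) (AdjoinRoot f)))).obj (GS.obj N))) := by
  letI : Algebra (MvPolynomial (Fin n) S[X]) (MvPolynomial (Fin n) (AdjoinRoot f)) :=
    (πW f n).toAlgebra
  haveI : IsScalarTower S (MvPolynomial (Fin n) S[X]) (MvPolynomial (Fin n) (AdjoinRoot f)) :=
    IsScalarTower.of_algebraMap_eq (fun s => by
      change algebraMap S (MvPolynomial (Fin n) (AdjoinRoot f)) s =
        πW f n (algebraMap S (MvPolynomial (Fin n) S[X]) s)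
      simp [AdjoinRoot.algebraMap_eq])
  haveI := flatW' f hf n
  haveI := flatS' f hf
  have hsurj : Function.Surjective (algebraMap (MvPolynomial (Fin n) S[X])
      (MvPolynomial (Fin n) (AdjoinRoot f))) :=
    MvPolynomial.map_surjective _ AdjoinRoot.mk_surjective
  have hker : RingHom.ker (algebraMap (MvPolynomial (Fin n) S[X])
      (MvPolynomial (Fin n) (AdjoinRoot f))) = Ideal.span {MvPolynomial.C f} := ker_map f n
  haveI := BR3.isLeftAdjoint_restrictD (algebraMap (MvPolynomial (Fin n) S[X])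
    (MvPolynomial (Fin n) (AdjoinRoot f)))
  let Gπ := (DRing.restrictD (algebraMap (MvPolynomial (Fin n) S[X])
    (MvPolynomial (Fin n) (AdjoinRoot f)))).rightAdjoint
  have adjπ : DRing.restrictD (algebraMap (MvPolynomial (Fin n) S[X])
      (MvPolynomial (Fin n) (AdjoinRoot f))) ⊣ Gπ := Adjunction.ofIsLeftAdjoint _
  obtain ⟨e1⟩ := SV1.rightAdj_comp (algebraMap (MvPolynomial (Fin n) S[X])
    (MvPolynomial (Fin n) (AdjoinRoot f))) β' (β'.comp (πW f n)) rfl adjπ adjβ' adjβ
  obtain ⟨e2⟩ := FN3.lemmaC' (MvPolynomial.C f) hsurj hker (rW f n hf) (rW_mul f hf n) adjπ N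
  let e3 := SV2.lbcIso (algebraMap S (MvPolynomial (Fin n) S[X]))
  obtain ⟨e4⟩ := SV1.rightAdj_shift adjβ
    ((DRing.LBaseChange (algebraMap S (MvPolynomial (Fin n) S[X]))).obj N) 1
  haveI := HasLBC.hasLBaseChange (algebraMap S (MvPolynomial (Fin n) (AdjoinRoot f)))
  haveI := HasLBC.hasLBaseChange (algebraMap S (AdjoinRoot f))
  let e5 := SV2.lbcIso (algebraMap S (MvPolynomial (Fin n) (AdjoinRoot f)))
  obtain ⟨e6⟩ := SV1.lbc_comp (algebraMap S (AdjoinRoot f))
    (algebraMap (AdjoinRoot f) (MvPolynomial (Fin n) (AdjoinRoot f)))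
    (algebraMap S (MvPolynomial (Fin n) (AdjoinRoot f)))
    (IsScalarTower.algebraMap_eq S (AdjoinRoot f) (MvPolynomial (Fin n) (AdjoinRoot f)))
  let e7 := SV2.lbcIso (algebraMap S (AdjoinRoot f))
  have hdim : 0 < (AdjoinRoot.powerBasis' hf).dim := by
    rw [AdjoinRoot.powerBasis'_dim]
    exact hd
  let e8 : GS ≅ FlatBC.ED S (AdjoinRoot f) :=
    Adjunction.rightAdjointUniq adjS (FN5.adjD (AdjoinRoot.powerBasis' hf) hdim)
  exact ⟨e4.symm ≪≫ e1.app _ ≪≫
    Gβ'.mapIso (Gπ.mapIso ((shiftFunctor _ (1 : ℤ)).mapIso (e3.app N)) ≪≫ e2.symm ≪≫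
      (e5.app N).symm ≪≫ e6.app N ≪≫
      (DRing.LBaseChange (algebraMap (AdjoinRoot f)
        (MvPolynomial (Fin n) (AdjoinRoot f)))).mapIso (e7.app N ≪≫ (e8.app N).symm))⟩

end Step

end Groth.Agent.Helper9.FN6
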