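import Mathlib
import Groth.Prelude.Def_DDual2
import Groth.Agent.Helper9.SV1
import Groth.Agent.Helper9.SV2
import Groth.Agent.Helper9.SV6
import Groth.Agent.Helper9.BR3

set_option autoImplicit false
set_option linter.style.haveILetI false
set_option linter.unusedSectionVars false

/-!
# Adding one polynomial variable does not change `RHom_P(A, K ⊗ P)[dim]`
-/

open CategoryTheory CategoryTheory.Limits DerivedCategory Pretriangulated Polynomial
open scoped TensorProduct

universe u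

attribute [local instance] HasDerivedCategory.standard

namespace Groth.Agent.Helper9.SV7

open Groth.Agent.Helper6

section Div

variable {B : Type u} [CommRing B] (g : B)

lemma key_div (q : B[X]) : (X - C g) * (q /ₘ (X - C g)) = q - q %ₘ (X - C g) := by
  rw [eq_sub_iff_add_eq, add_comm]
  exact modByMonic_add_div q (X - C g)

/-- division by `X - g` as a linear map -/
noncomputable def rDiv : B[X] →ₗ[B] B[X] where
  toFun q := q /ₘ (X - C g)
  map_add' a b := by
    apply (monic_X_sub_C g).isRegular.left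
    dsimp only
    rw [mul_add, key_div, key_div, key_div, add_modByMonic]
    ring
  map_smul' c a := by
    apply (monic_X_sub_C g).isRegular.left
    dsimp only
    rw [RingHom.id_apply, mul_smul_comm, key_div, key_div, smul_modByMonic, smul_sub]

lemma rDiv_mul (q : B[X]) : rDiv g ((X - C g) * q) = q :=
  mul_divByMonic_cancel_left q (monic_X_sub_C g)

end Div


section OneVar

variable {R B A : Type u} [CommRing R] [CommRing B] [CommRing A] [Algebra R B]

/-- **Adding one variable.** -/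
theorem oneVar (β : B →+* A) (hβ : Function.Surjective β) (β' : B[X] →+* A)
    (hββ' : β'.comp (algebraMap B B[X]) = β)
    {Gβ : Dual.D B ⥤ Dual.D A} (adjβ : DRing.restrictD β ⊣ Gβ)
    {Gβ' : Dual.D B[X] ⥤ Dual.D A} (adjβ' : DRing.restrictD β' ⊣ Gβ')
    [DRing.HasLBaseChange (algebraMap R B)] [DRing.HasLBaseChange (algebraMap R B[X])]
    (K : Dual.D R) (d d' : ℤ) (hd : d' = d + 1) :
    Nonempty ((Gβ'.obj ((DRing.LBaseChange (algebraMap R B[X])).obj K))⟦d'⟧ ≅
      (Gβ.obj ((DRing.LBaseChange (algebraMap R B)).obj K))⟦d⟧) := by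
  obtain ⟨g, hg⟩ := hβ (β' X)
  -- the retraction
  let π : B[X] →+* B := evalRingHom g
  have hπ : ∀ p, π (algebraMap B B[X] p) = p := fun p => eval_C
  have hker : RingHom.ker π = Ideal.span {X - C g} := ker_evalRingHom g
  have hcomp : β' = β.comp π := by
    apply Polynomial.ringHom_ext
    · intro b
      have h1 : β' (C b) = β b := by
        rw [← hββ']
        rfl
      rw [h1]
      simp [π]
    · simp [π, hg]
  haveI := BR3.isLeftAdjoint_restrictD π
  let Gπ := (DRing.restrictD π).rightAdjoint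
  have adjπ : DRing.restrictD π ⊣ Gπ := Adjunction.ofIsLeftAdjoint _
  obtain ⟨e1⟩ := SV1.rightAdj_comp π β β' hcomp adjπ adjβ adjβ'
  haveI := HasLBC.hasLBaseChange (algebraMap B B[X])
  obtain ⟨e2⟩ := SV1.lbc_comp (algebraMap R B) (algebraMap B B[X]) (algebraMap R B[X])
    (IsScalarTower.algebraMap_eq R B B[X])
  let M := (DRing.LBaseChange (algebraMap R B)).obj K
  let e3 := SV2.lbcIso (algebraMap B B[X])
  obtain ⟨e4⟩ := SV6.lemmaC π hπ (X - C g) hker (rDiv g) (rDiv_mul g) adjπ M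
  obtain ⟨e5⟩ := SV1.rightAdj_shift adjπ ((SV4.ED B B[X]).obj M) 1
  obtain ⟨e6⟩ := SV1.rightAdj_shift adjβ M (-1)
  -- `Gπ (E M) ≅ M[-1]`
  let e7 : Gπ.obj ((SV4.ED B B[X]).obj M) ≅ M⟦(-1 : ℤ)⟧ :=
    (shiftShiftNeg (Gπ.obj ((SV4.ED B B[X]).obj M)) (1 : ℤ)).symm ≪≫
      (shiftFunctor _ (-1 : ℤ)).mapIso (e4 ≪≫ e5).symm
  let e8 : Gβ'.obj ((DRing.LBaseChange (algebraMap R B[X])).obj K) ≅ (Gβ.obj M)⟦(-1 : ℤ)⟧ :=
    e1.app _ ≪≫ Gβ.mapIso (Gπ.mapIso (e2.app K ≪≫ e3.app M) ≪≫ e7) ≪≫ e6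
  exact ⟨(shiftFunctor _ d').mapIso e8 ≪≫
    ((shiftFunctorAdd' (Dual.D A) (-1 : ℤ) d' d (by omega)).app (Gβ.obj M)).symm⟩

end OneVar

end Groth.Agent.Helper9.SV7
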