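import Mathlib
import Groth.Prelude.Def_DualSh
import Groth.Agent.Helper9.SV7

set_option autoImplicit false
set_option linter.style.haveILetI false
set_option linter.unusedSectionVars false

/-!
# Independence of the presentation for `RHom_P(A, K ⊗ P)[n]`
-/

open CategoryTheory CategoryTheory.Limits DerivedCategory Pretriangulated
open scoped TensorProduct

universe u

attribute [local instance] HasDerivedCategory.standard

namespace Groth.Agent.Helper9.SV8

open Groth.Agent.Helper6

variable {R A : Type u} [CommRing R] [CommRing A]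

/-- invariance under isomorphisms of the presenting ring -/
theorem isoInv {B B' : Type u} [CommRing B] [CommRing B'] [Algebra R B] [Algebra R B']
    (e : B ≃+* B') (he : algebraMap R B' = e.toRingHom.comp (algebraMap R B))
    (β : B →+* A) (β' : B' →+* A) (hβ : β = β'.comp e.toRingHom)
    {Gβ : Dual.D B ⥤ Dual.D A} (adjβ : DRing.restrictD β ⊣ Gβ)
    {Gβ' : Dual.D B' ⥤ Dual.D A} (adjβ' : DRing.restrictD β' ⊣ Gβ')
    [DRing.HasLBaseChange (algebraMap R B)] [DRing.HasLBaseChange (algebraMap R B')]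
    (K : Dual.D R) :
    Nonempty (Gβ.obj ((DRing.LBaseChange (algebraMap R B)).obj K) ≅
      Gβ'.obj ((DRing.LBaseChange (algebraMap R B')).obj K)) := by
  haveI := HasLBC.hasLBaseChange e.toRingHom
  haveI := BR3.isLeftAdjoint_restrictD e.toRingHom
  let Ge := (DRing.restrictD e.toRingHom).rightAdjoint
  have adje : DRing.restrictD e.toRingHom ⊣ Ge := Adjunction.ofIsLeftAdjoint _
  obtain ⟨e1⟩ := SV1.rightAdj_comp e.toRingHom β' β hβ adje adjβ' adjβ
  obtain ⟨e2⟩ := SV1.rightAdj_ringEquiv e adje
  obtain ⟨e3⟩ := SV1.lbc_comp (algebraMap R B) e.toRingHom (algebraMap R B') he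
  exact ⟨e1.app _ ≪≫ Gβ'.mapIso (e2.app _ ≪≫ (e3.app K).symm)⟩


/-- **Adding `k` variables.** -/
theorem mvStep {B : Type u} [CommRing B] [Algebra R B] (β : B →+* A)
    (hβ : Function.Surjective β) {Gβ : Dual.D B ⥤ Dual.D A} (adjβ : DRing.restrictD β ⊣ Gβ)
    [DRing.HasLBaseChange (algebraMap R B)] (K : Dual.D R) (d : ℤ) :
    ∀ (k : ℕ) (β' : MvPolynomial (Fin k) B →+* A)
      (_ : β'.comp (algebraMap B (MvPolynomial (Fin k) B)) = β)
      {Gβ' : Dual.D (MvPolynomial (Fin k) B) ⥤ Dual.D A} (_ : DRing.restrictD β' ⊣ Gβ')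
      [DRing.HasLBaseChange (algebraMap R (MvPolynomial (Fin k) B))] (d' : ℤ) (_ : d' = d + k),
      Nonempty ((Gβ'.obj ((DRing.LBaseChange
        (algebraMap R (MvPolynomial (Fin k) B))).obj K))⟦d'⟧ ≅
        (Gβ.obj ((DRing.LBaseChange (algebraMap R B)).obj K))⟦d⟧) := by
  intro k
  induction k with
  | zero =>
    intro β' hββ' Gβ' adjβ' _ d' hd
    let e : MvPolynomial (Fin 0) B ≃ₐ[B] B := MvPolynomial.isEmptyAlgEquiv B (Fin 0)
    have he : algebraMap R B = e.toRingEquiv.toRingHom.comp
        (algebraMap R (MvPolynomial (Fin 0) B)) := by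
      apply RingHom.ext
      intro r
      have h1 : algebraMap R (MvPolynomial (Fin 0) B) r =
          algebraMap B (MvPolynomial (Fin 0) B) (algebraMap R B r) :=
        IsScalarTower.algebraMap_apply R B (MvPolynomial (Fin 0) B) r
      change algebraMap R B r = e (algebraMap R (MvPolynomial (Fin 0) B) r)
      rw [h1, e.commutes]
      rfl
    have hb : β' = β.comp e.toRingEquiv.toRingHom := by
      ext x
      · change β' (MvPolynomial.C x) = β (e (MvPolynomial.C x))
        have h2 : e (MvPolynomial.C x) = x := e.commutes x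
        rw [h2, ← hββ']
        rfl
      · exact Fin.elim0 ‹_›
    obtain ⟨e1⟩ := isoInv (R := R) e.toRingEquiv he β' β hb adjβ' adjβ K
    have hd' : d' = d := by simpa using hd
    subst hd'
    exact ⟨(shiftFunctor _ d').mapIso e1⟩
  | succ k ih =>
    intro β' hββ' Gβ' adjβ' _ d' hd
    let e : MvPolynomial (Fin (k + 1)) B ≃ₐ[B] Polynomial (MvPolynomial (Fin k) B) :=
      MvPolynomial.finSuccEquiv B k
    let β'' : Polynomial (MvPolynomial (Fin k) B) →+* A := β'.comp e.symm.toRingEquiv.toRingHom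
    let βk : MvPolynomial (Fin k) B →+* A :=
      β''.comp (algebraMap (MvPolynomial (Fin k) B) (Polynomial (MvPolynomial (Fin k) B)))
    have hβk : βk.comp (algebraMap B (MvPolynomial (Fin k) B)) = β := by
      ext b
      have h1 : algebraMap (MvPolynomial (Fin k) B) (Polynomial (MvPolynomial (Fin k) B))
          (algebraMap B (MvPolynomial (Fin k) B) b) =
            algebraMap B (Polynomial (MvPolynomial (Fin k) B)) b :=
        (IsScalarTower.algebraMap_apply B (MvPolynomial (Fin k) B)
          (Polynomial (MvPolynomial (Fin k) B)) b).symm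
      change β' (e.symm (algebraMap (MvPolynomial (Fin k) B)
        (Polynomial (MvPolynomial (Fin k) B)) (algebraMap B (MvPolynomial (Fin k) B) b))) = β b
      rw [h1, e.symm.commutes, ← hββ']
      rfl
    have hβks : Function.Surjective βk := by
      intro a
      obtain ⟨b, hb⟩ := hβ a
      refine ⟨algebraMap B (MvPolynomial (Fin k) B) b, ?_⟩
      rw [← hb, ← hβk]
      rfl
    haveI := BR3.isLeftAdjoint_restrictD β''
    haveI := BR3.isLeftAdjoint_restrictD βk
    have adj'' : DRing.restrictD β'' ⊣ (DRing.restrictD β'').rightAdjoint :=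
      Adjunction.ofIsLeftAdjoint _
    have adjk : DRing.restrictD βk ⊣ (DRing.restrictD βk).rightAdjoint :=
      Adjunction.ofIsLeftAdjoint _
    haveI := HasLBC.hasLBaseChange (algebraMap R (MvPolynomial (Fin k) B))
    haveI := HasLBC.hasLBaseChange (algebraMap R (Polynomial (MvPolynomial (Fin k) B)))
    obtain ⟨i1⟩ := ih βk hβk adjk (d + k) rfl
    obtain ⟨i2⟩ := SV7.oneVar (R := R) βk hβks β'' rfl adjk adj'' K (d + k) d'
      (by rw [hd]; push_cast; ring)
    have he : algebraMap R (Polynomial (MvPolynomial (Fin k) B)) =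
        e.toRingEquiv.toRingHom.comp (algebraMap R (MvPolynomial (Fin (k + 1)) B)) := by
      apply RingHom.ext
      intro r
      have h1 : algebraMap R (MvPolynomial (Fin (k + 1)) B) r =
          algebraMap B (MvPolynomial (Fin (k + 1)) B) (algebraMap R B r) :=
        IsScalarTower.algebraMap_apply R B (MvPolynomial (Fin (k + 1)) B) r
      have h2 : algebraMap R (Polynomial (MvPolynomial (Fin k) B)) r =
          algebraMap B (Polynomial (MvPolynomial (Fin k) B)) (algebraMap R B r) :=
        IsScalarTower.algebraMap_apply R B (Polynomial (MvPolynomial (Fin k) B)) r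
      change algebraMap R (Polynomial (MvPolynomial (Fin k) B)) r =
        e (algebraMap R (MvPolynomial (Fin (k + 1)) B) r)
      rw [h1, h2, e.commutes]
    have hb : β' = β''.comp e.toRingEquiv.toRingHom := by
      ext x
      · change β' (MvPolynomial.C x) = β' (e.symm (e (MvPolynomial.C x)))
        rw [e.symm_apply_apply]
      · change β' (MvPolynomial.X _) = β' (e.symm (e (MvPolynomial.X _)))
        rw [e.symm_apply_apply]
    obtain ⟨i3⟩ := isoInv (R := R) e.toRingEquiv he β' β'' hb adjβ' adj'' K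
    exact ⟨(shiftFunctor _ d').mapIso i3 ≪≫ i2 ≪≫ i1⟩


/-- **Independence of the presentation.** -/
theorem main [Algebra R A] (n : ℕ) (ψ : MvPolynomial (Fin n) R →ₐ[R] A)
    (hψ : Function.Surjective ψ) [DRing.HasLBaseChange (algebraMap R (MvPolynomial (Fin n) R))]
    (Rψ : Dual.D (MvPolynomial (Fin n) R) ⥤ Dual.D A) (adj : DRing.restrictD ψ.toRingHom ⊣ Rψ)
    (m : ℕ) (ψ' : MvPolynomial (Fin m) R →ₐ[R] A) (hψ' : Function.Surjective ψ')
    [DRing.HasLBaseChange (algebraMap R (MvPolynomial (Fin m) R))]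
    (Rψ' : Dual.D (MvPolynomial (Fin m) R) ⥤ Dual.D A)
    (adj' : DRing.restrictD ψ'.toRingHom ⊣ Rψ') (K : Dual.D R) :
    Nonempty (Dual2.shriekVia n Rψ K ≅ Dual2.shriekVia m Rψ' K) := by
  -- the two big polynomial rings
  let χ : MvPolynomial (Fin m) (MvPolynomial (Fin n) R) →+* A :=
    MvPolynomial.eval₂Hom ψ.toRingHom (fun j => ψ' (MvPolynomial.X j))
  let χ' : MvPolynomial (Fin n) (MvPolynomial (Fin m) R) →+* A :=
    MvPolynomial.eval₂Hom ψ'.toRingHom (fun i => ψ (MvPolynomial.X i))
  have hχ : χ.comp (algebraMap (MvPolynomial (Fin n) R)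
      (MvPolynomial (Fin m) (MvPolynomial (Fin n) R))) = ψ.toRingHom := by
    apply RingHom.ext
    intro p
    exact MvPolynomial.eval₂Hom_C _ _ p
  have hχ' : χ'.comp (algebraMap (MvPolynomial (Fin m) R)
      (MvPolynomial (Fin n) (MvPolynomial (Fin m) R))) = ψ'.toRingHom := by
    apply RingHom.ext
    intro p
    exact MvPolynomial.eval₂Hom_C _ _ p
  haveI := BR3.isLeftAdjoint_restrictD χ
  haveI := BR3.isLeftAdjoint_restrictD χ'
  have adjχ : DRing.restrictD χ ⊣ (DRing.restrictD χ).rightAdjoint :=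
    Adjunction.ofIsLeftAdjoint _
  have adjχ' : DRing.restrictD χ' ⊣ (DRing.restrictD χ').rightAdjoint :=
    Adjunction.ofIsLeftAdjoint _
  haveI := HasLBC.hasLBaseChange
    (algebraMap R (MvPolynomial (Fin m) (MvPolynomial (Fin n) R)))
  haveI := HasLBC.hasLBaseChange
    (algebraMap R (MvPolynomial (Fin n) (MvPolynomial (Fin m) R)))
  obtain ⟨i1⟩ := mvStep (R := R) ψ.toRingHom hψ adj K (n : ℤ) m χ hχ adjχ ((n : ℤ) + m) rfl
  obtain ⟨i2⟩ := mvStep (R := R) ψ'.toRingHom hψ' adj' K (m : ℤ) n χ' hχ' adjχ' ((n : ℤ) + m)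
    (add_comm _ _)
  let e : MvPolynomial (Fin m) (MvPolynomial (Fin n) R) ≃ₐ[R]
      MvPolynomial (Fin n) (MvPolynomial (Fin m) R) := MvPolynomial.commAlgEquiv R (Fin m) (Fin n)
  have he : algebraMap R (MvPolynomial (Fin n) (MvPolynomial (Fin m) R)) =
      e.toRingEquiv.toRingHom.comp
        (algebraMap R (MvPolynomial (Fin m) (MvPolynomial (Fin n) R))) := by
    apply RingHom.ext
    intro r
    exact (e.commutes r).symm
  have key : ∀ p : MvPolynomial (Fin n) R, ψ p = χ' (e (MvPolynomial.C p)) := by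
    intro p
    induction p using MvPolynomial.induction_on with
    | C r =>
      have h2 : e (MvPolynomial.C (MvPolynomial.C r)) =
          MvPolynomial.C (MvPolynomial.C r) := by
        simp [e]
      rw [h2]
      have h3 : χ' (MvPolynomial.C (MvPolynomial.C r)) = ψ' (MvPolynomial.C r) :=
        MvPolynomial.eval₂Hom_C _ _ _
      rw [h3]
      have h4 : ψ (MvPolynomial.C r) = algebraMap R A r := ψ.commutes r
      have h5 : ψ' (MvPolynomial.C r) = algebraMap R A r := ψ'.commutes r
      rw [h4, h5]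
    | add p q hp hq =>
      rw [map_add, map_add, map_add, map_add, hp, hq]
    | mul_X p i hp =>
      rw [map_mul, map_mul, map_mul, map_mul, hp]
      congr 1
      have h2 : e (MvPolynomial.C (MvPolynomial.X i)) = MvPolynomial.X i :=
        MvPolynomial.commAlgEquiv_C_X i
      rw [h2]
      have h3 : χ' (MvPolynomial.X i) = ψ (MvPolynomial.X i) :=
        MvPolynomial.eval₂Hom_X' ψ'.toRingHom (fun i => ψ (MvPolynomial.X i)) i
      exact h3.symm
  have hb : χ = χ'.comp e.toRingEquiv.toRingHom := by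
    apply MvPolynomial.ringHom_ext
    · intro p
      change χ (MvPolynomial.C p) = χ' (e (MvPolynomial.C p))
      have h1 : χ (MvPolynomial.C p) = ψ p := MvPolynomial.eval₂Hom_C _ _ p
      rw [h1]
      exact key p
    · intro j
      change χ (MvPolynomial.X j) = χ' (e (MvPolynomial.X j))
      have h2 : e (MvPolynomial.X j) = MvPolynomial.C (MvPolynomial.X j) :=
        MvPolynomial.commAlgEquiv_X j
      rw [h2]
      have h3 : χ' (MvPolynomial.C (MvPolynomial.X j)) = ψ' (MvPolynomial.X j) :=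
        MvPolynomial.eval₂Hom_C _ _ _
      rw [h3]
      exact MvPolynomial.eval₂Hom_X' ψ.toRingHom (fun j => ψ' (MvPolynomial.X j)) j
  obtain ⟨i3⟩ := isoInv (R := R) e.toRingEquiv he χ χ' hb adjχ adjχ' K
  exact ⟨i1.symm ≪≫ (shiftFunctor _ ((n : ℤ) + m)).mapIso i3 ≪≫ i2⟩

end Groth.Agent.Helper9.SV8
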