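import Mathlib
import Groth.Prelude.Def_DualSh
import Groth.Agent.Helper9.SV8
import Groth.Agent.Helper9.FN6

set_option autoImplicit false
set_option linter.style.haveILetI false
set_option linter.unusedSectionVars false

/-!
# For a finite ring map, `RHom_P(A, K ⊗ P)[n] ≅ RHom_R(A, K)`
-/

open CategoryTheory CategoryTheory.Limits DerivedCategory Pretriangulated
open scoped TensorProduct

universe u

attribute [local instance] HasDerivedCategory.standard

namespace Groth.Agent.Helper9.FN7

open Groth.Agent.Helper6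

/-- over the zero ring all objects of the derived category are isomorphic -/
lemma nonempty_iso_of_subsingleton {A : Type u} [CommRing A] [Subsingleton A] (X Y : Dual.D A) :
    Nonempty (X ≅ Y) := by
  have hz : ∀ Z : Dual.D A, IsZero Z := fun Z => by
    rw [IsZero.iff_id_eq_zero]
    have h1 : 𝟙 Z = (1 : A) • 𝟙 Z := (one_smul _ _).symm
    rw [h1, Subsingleton.elim (1 : A) 0, zero_smul]
  exact ⟨(hz X).iso (hz Y)⟩

/-- the reordering `S[z_0, …, z_n] ≃ S[x][z_1, …, z_n]` -/
noncomputable def eW (S : Type u) [CommRing S] (n : ℕ) :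
    MvPolynomial (Fin (n + 1)) S ≃ₐ[S] MvPolynomial (Fin n) (Polynomial S) :=
  (MvPolynomial.renameEquiv S (_root_.finSuccEquiv n)).trans
    (MvPolynomial.optionEquivRight S (Fin n))

lemma eW_X_zero (S : Type u) [CommRing S] (n : ℕ) :
    eW S n (MvPolynomial.X 0) = MvPolynomial.C Polynomial.X := by
  simp [eW]

lemma eW_X_succ (S : Type u) [CommRing S] (n : ℕ) (j : Fin n) :
    eW S n (MvPolynomial.X j.succ) = MvPolynomial.X j := by
  simp [eW]


/-- **Induction on the number of (integral) generators.** -/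
theorem claim (n : ℕ) : ∀ (S A : Type u) [CommRing S] [CommRing A] (σ : S →+* A)
    (ψ : MvPolynomial (Fin n) S →+* A)
    (_ : ψ.comp (algebraMap S (MvPolynomial (Fin n) S)) = σ)
    (_ : ∀ i, σ.IsIntegralElem (ψ (MvPolynomial.X i)))
    (_ : Function.Surjective ψ)
    {Gψ : Dual.D (MvPolynomial (Fin n) S) ⥤ Dual.D A} (_ : DRing.restrictD ψ ⊣ Gψ)
    {Gσ : Dual.D S ⥤ Dual.D A} (_ : DRing.restrictD σ ⊣ Gσ)
    [DRing.HasLBaseChange (algebraMap S (MvPolynomial (Fin n) S))] (N : Dual.D S),
    Nonempty ((Gψ.obj ((DRing.LBaseChange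
      (algebraMap S (MvPolynomial (Fin n) S))).obj N))⟦(n : ℤ)⟧ ≅ Gσ.obj N) := by
  induction n with
  | zero =>
    intro S A _ _ σ ψ hψσ _ _ Gψ adjψ Gσ adjσ _ N
    let e : MvPolynomial (Fin 0) S ≃ₐ[S] S := MvPolynomial.isEmptyAlgEquiv S (Fin 0)
    have he : algebraMap S S = e.toRingEquiv.toRingHom.comp
        (algebraMap S (MvPolynomial (Fin 0) S)) := by
      apply RingHom.ext
      intro r
      exact (e.commutes r).symm
    have hb : ψ = σ.comp e.toRingEquiv.toRingHom := by
      ext x
      · change ψ (MvPolynomial.C x) = σ (e (MvPolynomial.C x))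
        have h2 : e (MvPolynomial.C x) = x := e.commutes x
        rw [h2, ← hψσ]
        rfl
      · exact Fin.elim0 ‹_›
    haveI := HasLBC.hasLBaseChange (algebraMap S S)
    obtain ⟨e1⟩ := SV8.isoInv (R := S) e.toRingEquiv he ψ σ hb adjψ adjσ N
    obtain ⟨e2⟩ := SV1.lbc_id (algebraMap S S) rfl
    exact ⟨(shiftFunctorZero' (Dual.D A) ((0 : ℕ) : ℤ) (by simp)).app _ ≪≫ e1 ≪≫
      Gσ.mapIso (e2.app N)⟩
  | succ n ih =>
    intro S A _ _ σ ψ hψσ hint hsurj Gψ adjψ Gσ adjσ _ N
    rcases subsingleton_or_nontrivial S with hS | hS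
    · haveI : Subsingleton A := by
        refine ⟨fun a b => ?_⟩
        have h1 : (1 : A) = 0 := by
          rw [← map_one σ, Subsingleton.elim (1 : S) 0, map_zero]
        rw [← mul_one a, ← mul_one b, h1, mul_zero, mul_zero]
      exact nonempty_iso_of_subsingleton _ _
    -- the monic equation of the first generator
    obtain ⟨p, hp, hp0⟩ := hint 0
    let f : Polynomial S := p * Polynomial.X
    have hf : f.Monic := hp.mul Polynomial.monic_X
    have hd : 0 < f.natDegree := by
      rw [hp.natDegree_mul Polynomial.monic_X, Polynomial.natDegree_X]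
      omega
    have hf0 : f.eval₂ σ (ψ (MvPolynomial.X 0)) = 0 := by
      rw [Polynomial.eval₂_mul, hp0, zero_mul]
    let σ' : AdjoinRoot f →+* A := AdjoinRoot.lift σ (ψ (MvPolynomial.X 0)) hf0
    have hσ' : σ = σ'.comp (algebraMap S (AdjoinRoot f)) := by
      rw [AdjoinRoot.algebraMap_eq]
      exact (AdjoinRoot.lift_comp_of hf0).symm
    let ψ' : MvPolynomial (Fin n) (AdjoinRoot f) →+* A :=
      MvPolynomial.eval₂Hom σ' (fun i => ψ (MvPolynomial.X i.succ))
    have hψ'σ' : ψ'.comp (algebraMap (AdjoinRoot f) (MvPolynomial (Fin n) (AdjoinRoot f))) = σ' := by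
      apply RingHom.ext
      intro x
      exact MvPolynomial.eval₂Hom_C _ _ x
    let β : MvPolynomial (Fin n) (Polynomial S) →+* A := ψ'.comp (FN6.πW f n)
    have hb : ψ = β.comp (eW S n).toRingEquiv.toRingHom := by
      apply MvPolynomial.ringHom_ext
      · intro s
        have h1 : ψ (MvPolynomial.C s) = σ s := by
          rw [← hψσ]
          rfl
        have h2 : (eW S n) (MvPolynomial.C s) = MvPolynomial.C (Polynomial.C s) :=
          (eW S n).commutes s
        change ψ (MvPolynomial.C s) = ψ' (FN6.πW f n ((eW S n) (MvPolynomial.C s)))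
        rw [h1, h2]
        simp [ψ', σ', FN6.πW]
      · intro i
        change ψ (MvPolynomial.X i) = ψ' (FN6.πW f n ((eW S n) (MvPolynomial.X i)))
        refine Fin.cases ?_ (fun j => ?_) i
        · rw [eW_X_zero]
          simp [ψ', σ', FN6.πW]
        · rw [eW_X_succ]
          simp [ψ', FN6.πW]
    have hsurj' : Function.Surjective ψ' := by
      have h1 : Function.Surjective (ψ' ∘ (fun w => FN6.πW f n ((eW S n) w))) := by
        have : (ψ' ∘ (fun w => FN6.πW f n ((eW S n) w))) = ψ := by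
          funext w
          rw [hb]
          rfl
        rw [this]
        exact hsurj
      exact Function.Surjective.of_comp h1
    have hint' : ∀ j, σ'.IsIntegralElem (ψ' (MvPolynomial.X j)) := by
      intro j
      obtain ⟨q, hq, hq0⟩ := hint j.succ
      refine ⟨q.map (AdjoinRoot.of f), hq.map _, ?_⟩
      have h1 : ψ' (MvPolynomial.X j) = ψ (MvPolynomial.X j.succ) :=
        MvPolynomial.eval₂Hom_X' _ _ j
      rw [h1, Polynomial.eval₂_map, AdjoinRoot.lift_comp_of]
      exact hq0
    -- adjoints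
    haveI := BR3.isLeftAdjoint_restrictD ψ'
    haveI := BR3.isLeftAdjoint_restrictD σ'
    haveI := BR3.isLeftAdjoint_restrictD β
    haveI := BR3.isLeftAdjoint_restrictD (algebraMap S (AdjoinRoot f))
    have adjψ' : DRing.restrictD ψ' ⊣ (DRing.restrictD ψ').rightAdjoint :=
      Adjunction.ofIsLeftAdjoint _
    have adjσ' : DRing.restrictD σ' ⊣ (DRing.restrictD σ').rightAdjoint :=
      Adjunction.ofIsLeftAdjoint _
    have adjβ : DRing.restrictD β ⊣ (DRing.restrictD β).rightAdjoint :=
      Adjunction.ofIsLeftAdjoint _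
    have adjS : DRing.restrictD (algebraMap S (AdjoinRoot f)) ⊣
        (DRing.restrictD (algebraMap S (AdjoinRoot f))).rightAdjoint :=
      Adjunction.ofIsLeftAdjoint _
    haveI := HasLBC.hasLBaseChange (algebraMap S (MvPolynomial (Fin n) (Polynomial S)))
    haveI := HasLBC.hasLBaseChange
      (algebraMap (AdjoinRoot f) (MvPolynomial (Fin n) (AdjoinRoot f)))
    -- the induction hypothesis over `S' = S[x]/(f)`
    obtain ⟨i1⟩ := ih (AdjoinRoot f) A σ' ψ' hψ'σ' hint' hsurj' adjψ' adjσ'
      ((DRing.restrictD (algebraMap S (AdjoinRoot f))).rightAdjoint.obj N)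
    obtain ⟨i2⟩ := SV1.rightAdj_comp (algebraMap S (AdjoinRoot f)) σ' σ hσ' adjS adjσ' adjσ
    obtain ⟨i3⟩ := FN6.step f hf hd n ψ' adjψ' adjβ adjS N
    have he : algebraMap S (MvPolynomial (Fin n) (Polynomial S)) =
        (eW S n).toRingEquiv.toRingHom.comp (algebraMap S (MvPolynomial (Fin (n + 1)) S)) := by
      apply RingHom.ext
      intro r
      exact ((eW S n).commutes r).symm
    obtain ⟨i4⟩ := SV8.isoInv (R := S) (eW S n).toRingEquiv he ψ β hb adjψ adjβ N
    exact ⟨(shiftFunctor _ (((n + 1 : ℕ)) : ℤ)).mapIso i4 ≪≫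
      (shiftFunctorAdd' (Dual.D A) (1 : ℤ) (n : ℤ) ((n + 1 : ℕ) : ℤ)
        (by push_cast; ring)).app _ ≪≫
      (shiftFunctor _ (n : ℤ)).mapIso i3 ≪≫ i1 ≪≫ (i2.app N).symm⟩


/-- **The finite case.** -/
theorem main (R A : Type u) [CommRing R] [CommRing A] [Algebra R A] (n : ℕ)
    (ψ : MvPolynomial (Fin n) R →ₐ[R] A) (hψ : Function.Surjective ψ)
    [DRing.HasLBaseChange (algebraMap R (MvPolynomial (Fin n) R))]
    (Rψ : Dual.D (MvPolynomial (Fin n) R) ⥤ Dual.D A) (adj : DRing.restrictD ψ.toRingHom ⊣ Rψ)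
    [Module.Finite R A] (R' : Dual.D R ⥤ Dual.D A)
    (adjR : DRing.restrictD (algebraMap R A) ⊣ R') (K : Dual.D R) :
    Nonempty (Dual2.shriekVia n Rψ K ≅ R'.obj K) := by
  haveI : Algebra.IsIntegral R A := Algebra.IsIntegral.of_finite R A
  exact claim n R A (algebraMap R A) ψ.toRingHom ψ.comp_algebraMap
    (fun i => Algebra.IsIntegral.isIntegral (ψ (MvPolynomial.X i))) hψ adj adjR K

end Groth.Agent.Helper9.FN7
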