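import Mathlib
import Groth.Prelude.Def_DualSh
import Groth.Agent.Helper9.FB6
import Groth.Agent.Helper9.SV8
import Groth.Agent.Helper9.BR3

set_option autoImplicit false
set_option linter.style.haveILetI false
set_option linter.unusedSectionVars false

/-!
# Composition of upper shriek functors
-/

open CategoryTheory CategoryTheory.Limits DerivedCategory Pretriangulated

universe u

attribute [local instance] HasDerivedCategory.standard

namespace Groth.Agent.Helper9.FB7

open TensorProduct Groth.Agent.Helper6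

attribute [local instance] MvPolynomial.algebraMvPolynomial

section step

variable (A B C : Type u) [CommRing A] [CommRing B] [CommRing C] [IsNoetherianRing A]
  [Algebra A B] [Algebra B C] [Algebra A C] [IsScalarTower A B C]
  (n : ℕ) (ψ : MvPolynomial (Fin n) A →ₐ[A] B) (hψ : Function.Surjective ψ)
  (m : ℕ) (χ : MvPolynomial (Fin m) B →ₐ[B] C)

/-- the composite presentation `A[x][y] → B[y] → C` -/
noncomputable def θ' : MvPolynomial (Fin m) (MvPolynomial (Fin n) A) →+* C :=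
  χ.toRingHom.comp (MvPolynomial.map ψ.toRingHom)

include hψ in
/-- the iterated shriek in terms of the composite presentation -/
theorem iter
    [DRing.HasLBaseChange (algebraMap A (MvPolynomial (Fin n) A))]
    {Rψ : Dual.D (MvPolynomial (Fin n) A) ⥤ Dual.D B} (adj : DRing.restrictD ψ.toRingHom ⊣ Rψ)
    [DRing.HasLBaseChange (algebraMap B (MvPolynomial (Fin m) B))]
    {Rχ : Dual.D (MvPolynomial (Fin m) B) ⥤ Dual.D C} (adjχ : DRing.restrictD χ.toRingHom ⊣ Rχ)
    [DRing.HasLBaseChange (algebraMap A (MvPolynomial (Fin m) (MvPolynomial (Fin n) A)))]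
    {Rθ' : Dual.D (MvPolynomial (Fin m) (MvPolynomial (Fin n) A)) ⥤ Dual.D C}
    (adjθ' : DRing.restrictD (θ' A B C n ψ m χ) ⊣ Rθ')
    (K : Dual.D A) (c : ℤ) (hK : K.IsGE c) :
    Nonempty (Dual2.shriekVia m Rχ (Dual2.shriekVia n Rψ K) ≅
      ((Rθ'.obj ((DRing.LBaseChange
        (algebraMap A (MvPolynomial (Fin m) (MvPolynomial (Fin n) A)))).obj K))⟦(n : ℤ)⟧)⟦(m : ℤ)⟧) := by
  letI algPB : Algebra (MvPolynomial (Fin n) A) B := ψ.toRingHom.toAlgebra
  haveI hfin : Module.Finite (MvPolynomial (Fin n) A) B :=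
    Module.Finite.of_surjective (Algebra.linearMap (MvPolynomial (Fin n) A) B) hψ
  haveI := HasLBC.hasLBaseChange (algebraMap (MvPolynomial (Fin n) A)
    (MvPolynomial (Fin m) (MvPolynomial (Fin n) A)))
  haveI := BR3.isLeftAdjoint_restrictD (algebraMap (MvPolynomial (Fin m) (MvPolynomial (Fin n) A))
    (MvPolynomial (Fin m) B))
  have adjY := Adjunction.ofIsLeftAdjoint (DRing.restrictD
    (algebraMap (MvPolynomial (Fin m) (MvPolynomial (Fin n) A)) (MvPolynomial (Fin m) B)))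
  have hL := FB6.isGE_lbc (T := MvPolynomial (Fin n) A) K c hK
  -- Theorem C
  obtain ⟨e1⟩ := FB6.nonempty_bcIso (R := MvPolynomial (Fin n) A) (A := B)
    (R' := MvPolynomial (Fin m) (MvPolynomial (Fin n) A)) (A' := MvPolynomial (Fin m) B)
    adj adjY (FB6.isPseudoCoherentModule'_of_finite B) _ c hL
  obtain ⟨e2⟩ := FB6.lbc_shift (algebraMap B (MvPolynomial (Fin m) B))
    (Rψ.obj ((DRing.LBaseChange (algebraMap A (MvPolynomial (Fin n) A))).obj K)) n
  obtain ⟨e3⟩ := SV1.rightAdj_shift adjχ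
    ((DRing.restrictD (algebraMap (MvPolynomial (Fin m) (MvPolynomial (Fin n) A))
      (MvPolynomial (Fin m) B))).rightAdjoint.obj
        ((DRing.LBaseChange (algebraMap (MvPolynomial (Fin n) A)
          (MvPolynomial (Fin m) (MvPolynomial (Fin n) A)))).obj
            ((DRing.LBaseChange (algebraMap A (MvPolynomial (Fin n) A))).obj K))) n
  obtain ⟨e4⟩ := SV1.rightAdj_comp
    (algebraMap (MvPolynomial (Fin m) (MvPolynomial (Fin n) A)) (MvPolynomial (Fin m) B))
    χ.toRingHom (θ' A B C n ψ m χ) rfl adjY adjχ adjθ'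
  obtain ⟨e5⟩ := SV1.lbc_comp (algebraMap A (MvPolynomial (Fin n) A))
    (algebraMap (MvPolynomial (Fin n) A) (MvPolynomial (Fin m) (MvPolynomial (Fin n) A)))
    (algebraMap A (MvPolynomial (Fin m) (MvPolynomial (Fin n) A)))
    (IsScalarTower.algebraMap_eq A (MvPolynomial (Fin n) A)
      (MvPolynomial (Fin m) (MvPolynomial (Fin n) A)))
  exact ⟨(shiftFunctor _ (m : ℤ)).mapIso
    (Rχ.mapIso (e2 ≪≫ (shiftFunctor _ (n : ℤ)).mapIso e1) ≪≫ e3 ≪≫
      (shiftFunctor _ (n : ℤ)).mapIso ((e4.app _).symm ≪≫ Rθ'.mapIso (e5.app K).symm))⟩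

lemma θ'_algebraMap (a : A) :
    θ' A B C n ψ m χ (algebraMap A (MvPolynomial (Fin m) (MvPolynomial (Fin n) A)) a) =
      algebraMap A C a := by
  have h1 : algebraMap A (MvPolynomial (Fin m) (MvPolynomial (Fin n) A)) a =
      MvPolynomial.C (MvPolynomial.C a) := by
    rw [MvPolynomial.algebraMap_apply, MvPolynomial.algebraMap_apply]
    rfl
  have h2 : ψ (MvPolynomial.C a) = algebraMap A B a := ψ.commutes a
  have h3 : χ (MvPolynomial.C (algebraMap A B a)) = algebraMap B C (algebraMap A B a) :=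
    χ.commutes _
  change χ (MvPolynomial.map ψ.toRingHom _) = _
  rw [h1, MvPolynomial.map_C]
  change χ (MvPolynomial.C (ψ (MvPolynomial.C a))) = _
  rw [h2, h3, ← IsScalarTower.algebraMap_apply]

include hψ in
lemma θ'_surjective (hχ : Function.Surjective χ) : Function.Surjective (θ' A B C n ψ m χ) :=
  hχ.comp (MvPolynomial.map_surjective ψ.toRingHom hψ)

/-- `A[z_1..z_{m+n}] ≃ A[x_1..x_n][y_1..y_m]` -/
noncomputable def eQ : MvPolynomial (Fin (m + n)) A ≃ₐ[A]
    MvPolynomial (Fin m) (MvPolynomial (Fin n) A) :=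
  (MvPolynomial.renameEquiv A finSumFinEquiv.symm).trans (MvPolynomial.sumAlgEquiv A (Fin m) (Fin n))

/-- the composite presentation on `A[z_1..z_{m+n}]` -/
noncomputable def θ'' : MvPolynomial (Fin (m + n)) A →ₐ[A] C where
  toRingHom := (θ' A B C n ψ m χ).comp (eQ A n m).toRingEquiv.toRingHom
  commutes' a := by
    change θ' A B C n ψ m χ ((eQ A n m) (algebraMap A _ a)) = _
    rw [(eQ A n m).commutes, θ'_algebraMap]

include hψ in
/-- **composition of upper shrieks** -/
theorem main [IsNoetherianRing C]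
    [DRing.HasLBaseChange (algebraMap A (MvPolynomial (Fin n) A))]
    (Rψ : Dual.D (MvPolynomial (Fin n) A) ⥤ Dual.D B) (adj : DRing.restrictD ψ.toRingHom ⊣ Rψ)
    (hχ : Function.Surjective χ)
    [DRing.HasLBaseChange (algebraMap B (MvPolynomial (Fin m) B))]
    (Rχ : Dual.D (MvPolynomial (Fin m) B) ⥤ Dual.D C) (adjχ : DRing.restrictD χ.toRingHom ⊣ Rχ)
    (k : ℕ) (θ : MvPolynomial (Fin k) A →ₐ[A] C) (hθ : Function.Surjective θ)
    [DRing.HasLBaseChange (algebraMap A (MvPolynomial (Fin k) A))]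
    (Rθ : Dual.D (MvPolynomial (Fin k) A) ⥤ Dual.D C) (adjθ : DRing.restrictD θ.toRingHom ⊣ Rθ)
    (K : Dual.D A) (c : ℤ) (hK : K.IsGE c) :
    Nonempty (Dual2.shriekVia k Rθ K ≅ Dual2.shriekVia m Rχ (Dual2.shriekVia n Rψ K)) := by
  haveI := HasLBC.hasLBaseChange (algebraMap A (MvPolynomial (Fin m) (MvPolynomial (Fin n) A)))
  haveI := HasLBC.hasLBaseChange (algebraMap A (MvPolynomial (Fin (m + n)) A))
  haveI := BR3.isLeftAdjoint_restrictD (θ' A B C n ψ m χ)
  haveI := BR3.isLeftAdjoint_restrictD (θ'' A B C n ψ m χ).toRingHom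
  have adjθ' := Adjunction.ofIsLeftAdjoint (DRing.restrictD (θ' A B C n ψ m χ))
  have adjθ'' := Adjunction.ofIsLeftAdjoint (DRing.restrictD (θ'' A B C n ψ m χ).toRingHom)
  have hθ'' : Function.Surjective (θ'' A B C n ψ m χ) :=
    (θ'_surjective A B C n ψ hψ m χ hχ).comp (eQ A n m).surjective
  have he : algebraMap A (MvPolynomial (Fin m) (MvPolynomial (Fin n) A)) =
      (eQ A n m).toRingEquiv.toRingHom.comp (algebraMap A (MvPolynomial (Fin (m + n)) A)) := by
    apply RingHom.ext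
    intro a
    exact ((eQ A n m).commutes a).symm
  obtain ⟨i1⟩ := SV8.main k θ hθ Rθ adjθ (m + n) (θ'' A B C n ψ m χ) hθ'' _ adjθ'' K
  obtain ⟨i2⟩ := SV8.isoInv (R := A) (eQ A n m).toRingEquiv he (θ'' A B C n ψ m χ).toRingHom
    (θ' A B C n ψ m χ) rfl adjθ'' adjθ' K
  obtain ⟨i3⟩ := iter A B C n ψ hψ m χ adj adjχ adjθ' K c hK
  exact ⟨i1 ≪≫ (shiftFunctor _ (((m + n : ℕ)) : ℤ)).mapIso i2 ≪≫
    (shiftFunctorAdd' (Dual.D C) (n : ℤ) (m : ℤ) ((m + n : ℕ) : ℤ)
      (by push_cast; ring)).app _ ≪≫ i3.symm⟩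

end step

end Groth.Agent.Helper9.FB7
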