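import Mathlib
import Groth.Prelude.Def_DualSh
import Groth.Agent.S1800
import Groth.Agent.S1799
import Groth.Agent.S1784
import Groth.Agent.Helper9.RD3
import Groth.Agent.Helper9.RHB3

/-!
# `RHom_{A⊗A}(A, ω ⊗_A (A⊗A)) ≅ A` for `ω = φ^!(R)`, `φ` flat of finite type
-/

set_option autoImplicit false
set_option linter.style.haveILetI false
set_option linter.unusedSectionVars false

universe u
open CategoryTheory CategoryTheory.Limits DerivedCategory TensorProduct
attribute [local instance] HasDerivedCategory.standard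

namespace Groth.Agent.Helper9.RD4
open Groth.Agent.Helper6

section general

variable {S T : Type u} [CommRing S] [CommRing T] [Algebra S T]

/-- the presentation with no variables of a quotient -/
noncomputable def pres0 : MvPolynomial (Fin 0) S →ₐ[S] T :=
  (Algebra.ofId S T).comp (MvPolynomial.isEmptyAlgEquiv S (Fin 0)).toAlgHom

lemma pres0_surjective (h : Function.Surjective (algebraMap S T)) :
    Function.Surjective (pres0 (S := S) (T := T)) := by
  intro t
  obtain ⟨s, rfl⟩ := h t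
  refine ⟨MvPolynomial.C s, ?_⟩
  simp [pres0]

lemma subsingleton_HD_inD_neg (i : ℤ) (hi : i < 0) : Subsingleton (Dual.HD S (Dual.inD S S) i) :=
  ModuleCat.subsingleton_of_isZero (isZero_of_isGE _ 0 i hi)

end general

variable (R A : Type u) [CommRing R] [CommRing A] [IsNoetherianRing R] [IsNoetherianRing A]
  [Algebra R A] [Module.Flat R A] (n : ℕ) (ψ : MvPolynomial (Fin n) R →ₐ[R] A)
  (hψ : Function.Surjective ψ)
  [DRing.HasLBaseChange (algebraMap R (MvPolynomial (Fin n) R))]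
  (Rψ : Dual.D (MvPolynomial (Fin n) R) ⥤ Dual.D A) (adj : DRing.restrictD ψ.toRingHom ⊣ Rψ)
  [DRing.HasLBaseChange (Algebra.TensorProduct.includeLeftRingHom : A →+* A ⊗[R] A)]
  (Rμ : Dual.D (A ⊗[R] A) ⥤ Dual.D A)
  (adjμ : DRing.restrictD (Algebra.TensorProduct.lmul' R (S := A)).toRingHom ⊣ Rμ)

include hψ adj adjμ in
theorem main :
    Nonempty (Rμ.obj ((DRing.LBaseChange
      (Algebra.TensorProduct.includeLeftRingHom : A →+* A ⊗[R] A)).obj
        (Dual2.shriekVia n Rψ (Dual.inD R R))) ≅ Dual.inD A A) := by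
  haveI : Algebra.FiniteType R A := Algebra.FiniteType.of_surjective ψ hψ
  haveI : Algebra.FiniteType A (A ⊗[R] A) := inferInstance
  haveI : IsNoetherianRing (A ⊗[R] A) := Algebra.FiniteType.isNoetherianRing A (A ⊗[R] A)
  obtain ⟨m, ψ', hψ'⟩ := Algebra.FiniteType.iff_quotient_mvPolynomial''.mp
    (inferInstance : Algebra.FiniteType A (A ⊗[R] A))
  haveI := HasLBC.hasLBaseChange (algebraMap A (MvPolynomial (Fin m) A))
  haveI := HasLBC.hasLBaseChange
    (Algebra.TensorProduct.includeRight : A →ₐ[R] A ⊗[R] A).toRingHom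
  haveI := HasLBC.hasLBaseChange (algebraMap R A)
  haveI := BR3.isLeftAdjoint_restrictD ψ'.toRingHom
  let Rψ' := (DRing.restrictD ψ'.toRingHom).rightAdjoint
  have adj' : DRing.restrictD ψ'.toRingHom ⊣ Rψ' := Adjunction.ofIsLeftAdjoint _
  -- flat base change along `R → A`
  obtain ⟨e1⟩ := Groth.Agent.S1800.result R A A n ψ hψ Rψ adj m ψ' hψ' Rψ' adj'
    (Dual.inD R R) 0 (fun i hi => subsingleton_HD_inD_neg i hi)
  let u : (DRing.LBaseChange (algebraMap R A)).obj (Dual.inD R R) ≅ Dual.inD A A :=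
    Groth.Agent.Helper9.RHB3.lbcUnit (algebraMap R A) (LBCAdj.adj _)
  let e2 : Dual2.shriekVia m Rψ' ((DRing.LBaseChange (algebraMap R A)).obj (Dual.inD R R)) ≅
      Dual2.shriekVia m Rψ' (Dual.inD A A) :=
    (CategoryTheory.shiftFunctor _ (m : ℤ)).mapIso (Rψ'.mapIso
      ((DRing.LBaseChange (algebraMap A (MvPolynomial (Fin m) A))).mapIso u))
  -- the multiplication map
  letI algμ : Algebra (A ⊗[R] A) A := (Algebra.TensorProduct.lmul' R (S := A)).toRingHom.toAlgebra
  haveI : IsScalarTower A (A ⊗[R] A) A := IsScalarTower.of_algebraMap_eq (fun a => by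
    change a = (Algebra.TensorProduct.lmul' R (S := A)) (a ⊗ₜ[R] (1 : A))
    simp)
  have hμ : Function.Surjective (algebraMap (A ⊗[R] A) A) := fun a => ⟨a ⊗ₜ[R] (1 : A), by
    change (Algebra.TensorProduct.lmul' R (S := A)) (a ⊗ₜ[R] (1 : A)) = a
    simp⟩
  haveI : Module.Finite (A ⊗[R] A) A :=
    Module.Finite.of_surjective (Algebra.linearMap (A ⊗[R] A) A) hμ
  let χ : MvPolynomial (Fin 0) (A ⊗[R] A) →ₐ[A ⊗[R] A] A := pres0
  have hχ : Function.Surjective χ := pres0_surjective hμ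
  let θ : MvPolynomial (Fin 0) A →ₐ[A] A := pres0
  have hθ : Function.Surjective θ := pres0_surjective (fun a => ⟨a, rfl⟩)
  haveI := HasLBC.hasLBaseChange (algebraMap (A ⊗[R] A) (MvPolynomial (Fin 0) (A ⊗[R] A)))
  haveI := HasLBC.hasLBaseChange (algebraMap A (MvPolynomial (Fin 0) A))
  haveI := BR3.isLeftAdjoint_restrictD χ.toRingHom
  let Rχ := (DRing.restrictD χ.toRingHom).rightAdjoint
  have adjχ : DRing.restrictD χ.toRingHom ⊣ Rχ := Adjunction.ofIsLeftAdjoint _
  haveI := BR3.isLeftAdjoint_restrictD θ.toRingHom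
  let Rθ := (DRing.restrictD θ.toRingHom).rightAdjoint
  have adjθ : DRing.restrictD θ.toRingHom ⊣ Rθ := Adjunction.ofIsLeftAdjoint _
  -- composition `A → A ⊗ A → A`
  obtain ⟨e3⟩ := Groth.Agent.S1799.result A (A ⊗[R] A) A m ψ' hψ' Rψ' adj' 0 χ hχ Rχ adjχ
    0 θ hθ Rθ adjθ (Dual.inD A A) 0 (fun i hi => subsingleton_HD_inD_neg i hi)
  -- the identity map
  have adjId : DRing.restrictD (algebraMap A A) ⊣ 𝟭 (Dual.D A) :=
    (Adjunction.id (C := Dual.D A)).ofNatIsoLeft (SV1.restrictDId (algebraMap A A) rfl).symm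
  obtain ⟨e4⟩ := Groth.Agent.S1784.result A A 0 θ hθ Rθ adjθ (𝟭 (Dual.D A)) adjId (Dual.inD A A)
  -- the finite map `μ`
  obtain ⟨e5⟩ := Groth.Agent.S1784.result (A ⊗[R] A) A 0 χ hχ Rχ adjχ Rμ adjμ
    (Dual2.shriekVia m Rψ' (Dual.inD A A))
  obtain ⟨e6⟩ := RD3.swap_iso R A Rμ adjμ (Dual2.shriekVia n Rψ (Dual.inD R R))
  exact ⟨e6 ≪≫ Rμ.mapIso (e1 ≪≫ e2) ≪≫ e5.symm ≪≫ e3.symm ≪≫ e4⟩

end Groth.Agent.Helper9.RD4
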