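import Mathlib

/-!
# Mates for a commutative square of adjunctions, and compatibility with shifts
-/

set_option autoImplicit false
set_option linter.unusedSectionVars false
set_option linter.style.haveILetI false

open CategoryTheory

namespace Groth.Agent.Helper9.BCA1

variable {C₁ C₂ C₃ C₄ : Type*} [Category C₁] [Category C₂] [Category C₃] [Category C₄]
  {φs : C₂ ⥤ C₁} {ρs : C₃ ⥤ C₁} {αs : C₄ ⥤ C₂} {φs' : C₄ ⥤ C₃}
  {Lρ : C₁ ⥤ C₃} {Lα : C₂ ⥤ C₄} {Rφ : C₁ ⥤ C₂} {Rφ' : C₃ ⥤ C₄}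
  (adjρ : Lρ ⊣ ρs) (adjα : Lα ⊣ αs) (adj : φs ⊣ Rφ) (adj' : φs' ⊣ Rφ')
  (e : αs ⋙ φs ≅ φs' ⋙ ρs)

/-- the base change comparison `φ_* ⋙ Lρ ⟶ Lα ⋙ φ'_*` as a natural transformation -/
def cmpN : φs ⋙ Lρ ⟶ Lα ⋙ φs' :=
  (Functor.leftUnitor _).inv ≫ Functor.whiskerRight adjα.unit (φs ⋙ Lρ) ≫
    (Functor.associator _ _ _).hom ≫ Functor.whiskerLeft Lα (Functor.associator _ _ _).inv ≫
    Functor.whiskerLeft Lα (Functor.whiskerRight e.hom Lρ) ≫
    Functor.whiskerLeft Lα (Functor.associator _ _ _).hom ≫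
    Functor.whiskerLeft Lα (Functor.whiskerLeft φs' adjρ.counit) ≫
    Functor.whiskerLeft Lα (Functor.rightUnitor _).hom

lemma cmpN_app (K : C₂) :
    (cmpN adjρ adjα e).app K =
      (adjρ.homEquiv _ _).symm (φs.map (adjα.unit.app K) ≫ e.hom.app (Lα.obj K)) := by
  rw [Adjunction.homEquiv_counit]
  simp [cmpN]

variable [IsIso (cmpN adjρ adjα e)]

/-- the base change map for the right adjoints `Rφ ⋙ Lα ⟶ Lρ ⋙ Rφ'` -/
noncomputable def bcN : Rφ ⋙ Lα ⟶ Lρ ⋙ Rφ' :=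
  (Functor.rightUnitor _).inv ≫ Functor.whiskerLeft (Rφ ⋙ Lα) adj'.unit ≫
    (Functor.associator _ _ _).hom ≫ Functor.whiskerLeft Rφ (Functor.associator _ _ _).inv ≫
    Functor.whiskerLeft Rφ (Functor.whiskerRight (inv (cmpN adjρ adjα e)) Rφ') ≫
    Functor.whiskerLeft Rφ (Functor.associator _ _ _).hom ≫
    (Functor.associator _ _ _).inv ≫ Functor.whiskerRight adj.counit (Lρ ⋙ Rφ') ≫
    (Functor.leftUnitor _).hom

lemma bcN_app (K : C₁) :
    (bcN adjρ adjα adj adj' e).app K =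
      adj'.homEquiv _ _ (inv ((cmpN adjρ adjα e).app (Rφ.obj K)) ≫ Lρ.map (adj.counit.app K)) := by
  rw [Adjunction.homEquiv_unit]
  simp [bcN]

section shift

variable [HasShift C₁ ℤ] [HasShift C₂ ℤ] [HasShift C₃ ℤ] [HasShift C₄ ℤ]
  [φs.CommShift ℤ] [ρs.CommShift ℤ] [αs.CommShift ℤ] [φs'.CommShift ℤ]
  [Lρ.CommShift ℤ] [Lα.CommShift ℤ] [Rφ.CommShift ℤ] [Rφ'.CommShift ℤ]
  [adjρ.CommShift ℤ] [adjα.CommShift ℤ] [adj.CommShift ℤ] [adj'.CommShift ℤ]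
  [NatTrans.CommShift e.hom ℤ]

omit [IsIso (cmpN adjρ adjα e)] in
instance commShift_cmpN : NatTrans.CommShift (cmpN adjρ adjα e) ℤ := by
  unfold cmpN
  infer_instance

instance commShift_bcN : NatTrans.CommShift (bcN adjρ adjα adj adj' e) ℤ := by
  haveI : NatTrans.CommShift (inv (cmpN adjρ adjα e)) ℤ := NatTrans.CommShift.of_isIso _ ℤ
  unfold bcN
  infer_instance

/-- the base change map at a shifted object -/
lemma isIso_bcN_app_shift (K : C₁) (n : ℤ) (h : IsIso ((bcN adjρ adjα adj adj' e).app K)) :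
    IsIso ((bcN adjρ adjα adj adj' e).app (K⟦n⟧)) := by
  rw [NatTrans.app_shift (bcN adjρ adjα adj adj' e) n K]
  infer_instance

end shift

end Groth.Agent.Helper9.BCA1
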