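import Mathlib
import Groth.Prelude.Def_TrivBC

/-!
# The commutation isomorphism `resComm` of restriction functors commutes with shifts
-/

set_option autoImplicit false
set_option linter.unusedSectionVars false
set_option linter.style.haveILetI false

universe u

open CategoryTheory CategoryTheory.Limits

attribute [local instance] HasDerivedCategory.standard

namespace Groth.Agent.Helper9.BCA2

section general

variable {C D E : Type*} [Category C] [Category D] [Category E]
  [HasShift C ℤ] [HasShift D ℤ] [HasShift E ℤ]
  (L : C ⥤ D) [L.CommShift ℤ] [L.EssSurj] {F G : D ⥤ E} [F.CommShift ℤ] [G.CommShift ℤ]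
  (τ : F ⟶ G)

/-- compatibility with shifts can be checked after precomposition with an essentially
surjective functor -/
lemma commShift_of_whiskerLeft [NatTrans.CommShift (Functor.whiskerLeft L τ) ℤ] :
    NatTrans.CommShift τ ℤ := by
  refine ⟨fun n => ?_⟩
  ext Y
  obtain ⟨X, ⟨i⟩⟩ : ∃ X, Nonempty (L.obj X ≅ Y) := ⟨_, ⟨L.objObjPreimageIso Y⟩⟩
  have h := NatTrans.shift_app_comm (Functor.whiskerLeft L τ) n X
  rw [Functor.commShiftIso_comp_hom_app, Functor.commShiftIso_comp_hom_app] at h
  dsimp only [Functor.whiskerLeft_app] at h
  rw [Category.assoc, ← τ.naturality_assoc, cancel_epi] at h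
  -- transport along `i`
  dsimp only [NatTrans.comp_app, Functor.whiskerRight_app, Functor.whiskerLeft_app]
  have n1 := (F.commShiftIso n).hom.naturality i.hom
  have n2 := (G.commShiftIso n).hom.naturality i.hom
  dsimp only [Functor.comp_map] at n1 n2
  rw [← cancel_epi (F.map (i.hom⟦n⟧')), reassoc_of% n1, ← Functor.map_comp, τ.naturality,
    Functor.map_comp, reassoc_of% h, ← n2, τ.naturality_assoc]

end general

section termwise

variable {V W W' : Type*} [Category V] [Category W] [Category W'] [Preadditive V] [Preadditive W]
  [Preadditive W'] {F : V ⥤ W} {G : W ⥤ W'} {H : V ⥤ W'} (e : F ⋙ G ≅ H)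
  [F.Additive] [G.Additive] [H.Additive]

instance commShift_mapHomologicalComplexCompIso :
    NatTrans.CommShift (Functor.mapHomologicalComplexCompIso e (ComplexShape.up ℤ)).hom ℤ := by
  refine ⟨fun n => ?_⟩
  ext K i
  simp [Functor.commShiftIso_comp_hom_app]
  erw [G.map_id, Category.id_comp, Category.id_comp, Category.comp_id]

end termwise

section resComm

variable {R A R' A' : Type u} [CommRing R] [CommRing A] [CommRing R'] [CommRing A']
  {φ : R →+* A} {ρ : R →+* R'} {α : A →+* A'} {φ' : R' →+* A'} (h : α.comp φ = φ'.comp ρ)

instance commShift_resCommCx : NatTrans.CommShift (TrivBC.resCommCx h).hom ℤ := by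
  unfold TrivBC.resCommCx
  simp only [Iso.trans_hom, Iso.symm_hom, Functor.isoWhiskerRight_hom]
  infer_instance

/-- the lifting isomorphism of a composite of restriction functors -/
noncomputable abbrev liftIso {B C E : Type u} [CommRing B] [CommRing C] [CommRing E]
    (g : C →+* E) (f : B →+* C) :
    DerivedCategory.Q ⋙ (DRing.restrictD g ⋙ DRing.restrictD f) ≅
      (ModuleCat.restrictScalars.{u} g).mapHomologicalComplex (ComplexShape.up ℤ) ⋙
        (ModuleCat.restrictScalars.{u} f).mapHomologicalComplex (ComplexShape.up ℤ) ⋙
          DerivedCategory.Q :=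
  (Functor.associator _ _ _).symm ≪≫
    Functor.isoWhiskerRight (ModuleCat.restrictScalars.{u} g).mapDerivedCategoryFactors _ ≪≫
      Functor.associator _ _ _ ≪≫
        Functor.isoWhiskerLeft _ (ModuleCat.restrictScalars.{u} f).mapDerivedCategoryFactors

instance commShift_liftIso {B C E : Type u} [CommRing B] [CommRing C] [CommRing E]
    (g : C →+* E) (f : B →+* C) : NatTrans.CommShift (liftIso g f).hom ℤ := by
  unfold liftIso
  simp only [Iso.trans_hom, Iso.symm_hom, Functor.isoWhiskerRight_hom, Functor.isoWhiskerLeft_hom]
  infer_instance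

lemma whiskerLeft_resComm :
    Functor.whiskerLeft DerivedCategory.Q (TrivBC.resComm h).hom =
      (liftIso α φ).hom ≫ (TrivBC.resCommCx h).hom ≫ (liftIso φ' ρ).inv := by
  ext X
  dsimp only [TrivBC.resComm, Localization.liftNatIso, Functor.whiskerLeft_app]
  rw [Localization.liftNatTrans_app]
  rfl

/-- **The commutation isomorphism of restriction functors commutes with shifts.** -/
instance commShift_resComm : NatTrans.CommShift (TrivBC.resComm h).hom ℤ := by
  haveI : NatTrans.CommShift
      (Functor.whiskerLeft DerivedCategory.Q (TrivBC.resComm h).hom) ℤ := by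
    rw [whiskerLeft_resComm]
    infer_instance
  exact commShift_of_whiskerLeft DerivedCategory.Q _

end resComm

end Groth.Agent.Helper9.BCA2
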