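import Mathlib
import Groth.Prelude.Def_TrivBC
import Groth.Agent.Helper9.BCA1
import Groth.Agent.Helper9.BCA2
import Groth.Agent.Helper9.RHR4
import Groth.Agent.Helper9.RHR5
import Groth.Agent.Helper9.SV6

/-!
# The base change map of trivial duality: reduction to the unit object
-/

set_option autoImplicit false
set_option linter.unusedSectionVars false
set_option linter.style.haveILetI false

universe u

open CategoryTheory CategoryTheory.Limits

attribute [local instance] HasDerivedCategory.standard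

namespace Groth.Agent.Helper9.BCA3

open Groth.Agent.Helper9.BCA1 Groth.Agent.Helper9.BCA2 Groth.Agent.Helper9.RHR4
  Groth.Agent.Helper6.DTenX

variable {R A R' A' : Type u} [CommRing R] [CommRing A] [CommRing R'] [CommRing A']
  {φ : R →+* A} {ρ : R →+* R'} {α : A →+* A'} {φ' : R' →+* A'}
  [DRing.HasLBaseChange ρ] [DRing.HasLBaseChange α]
  (adjρ : DRing.LBaseChange ρ ⊣ DRing.restrictD ρ) (adjα : DRing.LBaseChange α ⊣ DRing.restrictD α)
  (h : α.comp φ = φ'.comp ρ) {Rφ : Dual.D R ⥤ Dual.D A} (adj : DRing.restrictD φ ⊣ Rφ)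
  {Rφ' : Dual.D R' ⥤ Dual.D A'} (adj' : DRing.restrictD φ' ⊣ Rφ')

lemma cmpN_app_eq (K : Dual.D A) :
    (cmpN adjρ adjα (TrivBC.resComm h)).app K = TrivBC.cmp adjρ adjα h K :=
  cmpN_app adjρ adjα (TrivBC.resComm h) K

variable (hcmp : ∀ K : Dual.D A, IsIso (TrivBC.cmp adjρ adjα h K))

include hcmp in
lemma isIso_cmpN : IsIso (cmpN adjρ adjα (TrivBC.resComm h)) := by
  haveI : ∀ K, IsIso ((cmpN adjρ adjα (TrivBC.resComm h)).app K) := fun K => by
    rw [cmpN_app_eq]
    exact hcmp K
  exact NatIso.isIso_of_isIso_app _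

lemma bcN_app_eq (K : Dual.D R) :
    haveI := isIso_cmpN adjρ adjα h hcmp
    (bcN adjρ adjα adj adj' (TrivBC.resComm h)).app K =
      TrivBC.bcMap adjρ adjα h adj adj' K (hcmp _) := by
  haveI := isIso_cmpN adjρ adjα h hcmp
  rw [bcN_app]
  dsimp only [TrivBC.bcMap]
  congr 2
  haveI := hcmp (Rφ.obj K)
  rw [← cancel_mono (TrivBC.cmp adjρ adjα h (Rφ.obj K)), IsIso.inv_hom_id, ← cmpN_app_eq,
    IsIso.inv_hom_id]

include hcmp in
/-- **Reduction to the unit**: if the base change map of trivial duality is an isomorphism at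
`R`, then it is an isomorphism everywhere, provided `A` is perfect over `R` and `A'` is perfect
over `R'`. -/
theorem isIso_bcMap_of_unit
    (hA : DRing.IsPerfect R ((DRing.restrictD φ).obj (DTen.unit A)))
    (hA' : DRing.IsPerfect R' ((DRing.restrictD φ').obj (DTen.unit A')))
    (h1 : IsIso (TrivBC.bcMap adjρ adjα h adj adj' (DTen.unit R) (hcmp _))) (K : Dual.D R) :
    IsIso (TrivBC.bcMap adjρ adjα h adj adj' K (hcmp _)) := by
  haveI := isIso_cmpN adjρ adjα h hcmp
  letI : (DRing.LBaseChange ρ).CommShift ℤ := adjρ.leftAdjointCommShift ℤ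
  haveI : adjρ.CommShift ℤ := adjρ.commShift_of_rightAdjoint ℤ
  letI : (DRing.LBaseChange α).CommShift ℤ := adjα.leftAdjointCommShift ℤ
  haveI : adjα.CommShift ℤ := adjα.commShift_of_rightAdjoint ℤ
  letI : Rφ.CommShift ℤ := adj.rightAdjointCommShift ℤ
  haveI : adj.CommShift ℤ := adj.commShift_of_leftAdjoint ℤ
  letI : Rφ'.CommShift ℤ := adj'.rightAdjointCommShift ℤ
  haveI : adj'.CommShift ℤ := adj'.commShift_of_leftAdjoint ℤ
  haveI : (DRing.LBaseChange ρ).IsTriangulated := adjρ.isTriangulated_leftAdjoint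
  haveI : (DRing.LBaseChange α).IsTriangulated := adjα.isTriangulated_leftAdjoint
  haveI : Rφ.IsTriangulated := adj.isTriangulated_rightAdjoint
  haveI : Rφ'.IsTriangulated := adj'.isTriangulated_rightAdjoint
  haveI : (Rφ ⋙ DRing.LBaseChange α).PreservesZeroMorphisms := inferInstance
  haveI : (DRing.LBaseChange ρ ⋙ Rφ').PreservesZeroMorphisms := inferInstance
  have hgen : ∀ n : ℤ, IsIso ((bcN adjρ adjα adj adj' (TrivBC.resComm h)).app
      ((DTen.unit R)⟦n⟧)) := fun n => by
    apply isIso_bcN_app_shift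
    rw [bcN_app_eq adjρ adjα h adj adj' hcmp]
    exact h1
  have hF : MidExact (Rφ ⋙ DRing.LBaseChange α) :=
    Groth.Agent.Helper9.SV6.midExact_of_isTriangulated _
  have hG : MidExact (DRing.LBaseChange ρ ⋙ Rφ') :=
    Groth.Agent.Helper9.SV6.midExact_of_isTriangulated _
  have hF' : PresCoprod (Rφ ⋙ DRing.LBaseChange α) :=
    Groth.Agent.Helper9.SV6.presCoprod_comp
      (Groth.Agent.Helper9.RHR5.presCoprod_rightAdjoint adj
        (fun i => Groth.Agent.Helper9.RHR5.compact_restrict_T φ hA i))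
      (Groth.Agent.Helper9.SV6.presCoprod_of_adj adjα)
  have hG' : PresCoprod (DRing.LBaseChange ρ ⋙ Rφ') :=
    Groth.Agent.Helper9.SV6.presCoprod_comp (Groth.Agent.Helper9.SV6.presCoprod_of_adj adjρ)
      (Groth.Agent.Helper9.RHR5.presCoprod_rightAdjoint adj'
        (fun i => Groth.Agent.Helper9.RHR5.compact_restrict_T φ' hA' i))
  have := isIso_app hF hG hF' hG' hgen K
  rw [bcN_app_eq adjρ adjα h adj adj' hcmp] at this
  exact this

end Groth.Agent.Helper9.BCA3
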