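import Mathlib
import Groth.Prelude.Def_TrivBC
import Groth.Prelude.Def_DTen4
import Groth.Agent.Helper6.ExtKFlat
import Groth.Agent.Helper9.TBC7

/-!
# Formal lemmas for the base change map of trivial duality

* restriction of scalars on derived categories reflects isomorphisms;
* the conjugate comparison `α_* Rφ' Z ⟶ Rφ ρ_* Z` is an isomorphism when `cmp` is;
* the base change map of trivial duality is independent of the right adjoint chosen.
-/

set_option autoImplicit false
set_option linter.unusedSectionVars false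
set_option linter.style.haveILetI false

universe u

open CategoryTheory CategoryTheory.Limits DerivedCategory

attribute [local instance] HasDerivedCategory.standard

namespace Groth.Agent.Helper9.BCB1

open Groth.Agent.Helper6

section conservative

variable {R A : Type u} [CommRing R] [CommRing A] (φ : R →+* A)

/-- restriction of scalars on derived categories reflects isomorphisms -/
theorem isIso_of_isIso_restrictD {X Y : Dual.D A} (f : X ⟶ Y)
    (hf : IsIso ((DRing.restrictD φ).map f)) : IsIso f := by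
  let eX : Q.obj (Q.objPreimage X) ≅ X := Q.objObjPreimageIso X
  let eY : Q.obj (Q.objPreimage Y) ≅ Y := Q.objObjPreimageIso Y
  obtain ⟨L', s, hs, g, hfg⟩ := DerivedCategory.right_fac (eX.hom ≫ f ≫ eY.inv)
  haveI := hs
  have h1 : IsIso ((DRing.restrictD φ).map (eX.hom ≫ f ≫ eY.inv)) := by
    rw [Functor.map_comp, Functor.map_comp]
    infer_instance
  have h2 : (DRing.restrictD φ).map (Q.map g) =
      (DRing.restrictD φ).map (Q.map s) ≫ (DRing.restrictD φ).map (eX.hom ≫ f ≫ eY.inv) := by
    rw [← Functor.map_comp, hfg, IsIso.hom_inv_id_assoc]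
  have h3 : IsIso ((DRing.restrictD φ).map (Q.map g)) := by
    rw [h2]
    infer_instance
  have n := (DTen.resFactors φ).hom.naturality g
  dsimp only [Functor.comp_map] at n
  have h4 : IsIso (Q.map ((DTen.resCx φ).map g)) := by
    have e : Q.map ((DTen.resCx φ).map g) =
        (DTen.resFactors φ).inv.app L' ≫ (DRing.restrictD φ).map (Q.map g) ≫
          (DTen.resFactors φ).hom.app _ := by
      rw [n, Iso.inv_hom_id_app_assoc]
    rw [e]
    infer_instance
  rw [DerivedCategory.isIso_Q_map_iff_quasiIso] at h4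
  have h5 : QuasiIso g := ExtKFlat.quasiIso_of_res φ g h4
  have h6 : IsIso (Q.map g) := by
    rw [DerivedCategory.isIso_Q_map_iff_quasiIso]
    exact h5
  have h7 : IsIso (eX.hom ≫ f ≫ eY.inv) := by
    rw [hfg]
    infer_instance
  have h8 : f = eX.inv ≫ (eX.hom ≫ f ≫ eY.inv) ≫ eY.hom := by simp
  rw [h8]
  infer_instance

end conservative

section square

variable {R A R' A' : Type u} [CommRing R] [CommRing A] [CommRing R'] [CommRing A']
  {φ : R →+* A} {ρ : R →+* R'} {α : A →+* A'} {φ' : R' →+* A'}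
  [DRing.HasLBaseChange ρ] [DRing.HasLBaseChange α]
  (adjρ : DRing.LBaseChange ρ ⊣ DRing.restrictD ρ) (adjα : DRing.LBaseChange α ⊣ DRing.restrictD α)
  (h : α.comp φ = φ'.comp ρ) {Rφ : Dual.D R ⥤ Dual.D A} (adj : DRing.restrictD φ ⊣ Rφ)
  {Rφ' : Dual.D R' ⥤ Dual.D A'} (adj' : DRing.restrictD φ' ⊣ Rφ')

/-- the conjugate comparison `α_* Rφ' Z ⟶ Rφ ρ_* Z` -/
noncomputable def conj (Z : Dual.D R') :
    (DRing.restrictD α).obj (Rφ'.obj Z) ⟶ Rφ.obj ((DRing.restrictD ρ).obj Z) :=
  adj.homEquiv _ _ ((TrivBC.resComm h).hom.app (Rφ'.obj Z) ≫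
    (DRing.restrictD ρ).map (adj'.counit.app Z))

lemma comp_conj (Z : Dual.D R') {Y : Dual.D A} (f : Y ⟶ (DRing.restrictD α).obj (Rφ'.obj Z)) :
    f ≫ conj h adj adj' Z =
      adj.homEquiv _ _ (adjρ.homEquiv _ _ (TrivBC.cmp adjρ adjα h Y ≫
        (adj'.homEquiv _ _).symm ((adjα.homEquiv _ _).symm f))) := by
  dsimp only [conj]
  rw [← Adjunction.homEquiv_naturality_left]
  congr 1
  rw [Adjunction.homEquiv_naturality_right]
  dsimp only [TrivBC.cmp]
  rw [Equiv.apply_symm_apply, Adjunction.homEquiv_counit, Functor.map_comp]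
  simp only [Category.assoc]
  have n := (TrivBC.resComm h).hom.naturality ((adjα.homEquiv Y (Rφ'.obj Z)).symm f)
  dsimp only [Functor.comp_map] at n
  rw [← reassoc_of% n, ← Functor.map_comp_assoc]
  congr 2
  have := (adjα.homEquiv Y (Rφ'.obj Z)).apply_symm_apply f
  rw [Adjunction.homEquiv_unit] at this
  exact this.symm

/-- the conjugate comparison is an isomorphism when the base change comparison is -/
theorem isIso_conj (hcmp : ∀ K : Dual.D A, IsIso (TrivBC.cmp adjρ adjα h K)) (Z : Dual.D R') :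
    IsIso (conj h adj adj' Z) := by
  apply isIso_of_yoneda_map_bijective
  intro Y
  have e : (fun f : Y ⟶ (DRing.restrictD α).obj (Rφ'.obj Z) => f ≫ conj h adj adj' Z) =
      (fun f => adj.homEquiv _ _ (adjρ.homEquiv _ _ (TrivBC.cmp adjρ adjα h Y ≫
        (adj'.homEquiv _ _).symm ((adjα.homEquiv _ _).symm f)))) := by
    funext f
    exact comp_conj adjρ adjα h adj adj' Z f
  rw [e]
  haveI := hcmp Y
  have b1 := (adjα.homEquiv Y (Rφ'.obj Z)).symm.bijective
  have b2 := (adj'.homEquiv ((DRing.LBaseChange α).obj Y) Z).symm.bijective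
  have b3 : Function.Bijective (fun g : (DRing.restrictD φ').obj ((DRing.LBaseChange α).obj Y) ⟶ Z =>
      TrivBC.cmp adjρ adjα h Y ≫ g) := by
    constructor
    · intro g g' hg
      exact (cancel_epi _).mp hg
    · intro g
      exact ⟨inv (TrivBC.cmp adjρ adjα h Y) ≫ g, by simp⟩
  have b4 := (adjρ.homEquiv ((DRing.restrictD φ).obj Y) Z).bijective
  have b5 := (adj.homEquiv Y ((DRing.restrictD ρ).obj Z)).bijective
  exact b5.comp (b4.comp (b3.comp (b2.comp b1)))

/-- the `adj`-adjunct of `α_* (bcMap) ≫ conj` -/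
lemma map_bcMap_comp_conj (K : Dual.D R) (hc : IsIso (TrivBC.cmp adjρ adjα h (Rφ.obj K))) :
    (DRing.restrictD α).map (TrivBC.bcMap adjρ adjα h adj adj' K hc) ≫
        conj h adj adj' ((DRing.LBaseChange ρ).obj K) =
      adj.homEquiv _ _ ((TrivBC.resComm h).hom.app ((DRing.LBaseChange α).obj (Rφ.obj K)) ≫
        (DRing.restrictD ρ).map (inv (TrivBC.cmp adjρ adjα h (Rφ.obj K)) ≫
          (DRing.LBaseChange ρ).map (adj.counit.app K))) := by
  haveI := hc
  dsimp only [conj]
  rw [← Adjunction.homEquiv_naturality_left]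
  congr 1
  have n := (TrivBC.resComm h).hom.naturality (TrivBC.bcMap adjρ adjα h adj adj' K hc)
  dsimp only [Functor.comp_map] at n
  rw [reassoc_of% n, ← Functor.map_comp]
  congr 2
  have e := (adj'.homEquiv _ _).symm_apply_apply (inv (TrivBC.cmp adjρ adjα h (Rφ.obj K)) ≫
    (DRing.LBaseChange ρ).map (adj.counit.app K))
  rw [Adjunction.homEquiv_counit] at e
  exact e

/-- change of the right adjoint `Rφ` -/
lemma bcMap_of_iso {G : Dual.D R ⥤ Dual.D A} (adjG : DRing.restrictD φ ⊣ G) (K : Dual.D R)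
    (hc : IsIso (TrivBC.cmp adjρ adjα h (Rφ.obj K)))
    (hcG : IsIso (TrivBC.cmp adjρ adjα h (G.obj K))) :
    TrivBC.bcMap adjρ adjα h adj adj' K hc =
      (DRing.LBaseChange α).map ((adj.rightAdjointUniq adjG).hom.app K) ≫
        TrivBC.bcMap adjρ adjα h adjG adj' K hcG := by
  haveI := hc
  haveI := hcG
  dsimp only [TrivBC.bcMap]
  rw [← Adjunction.homEquiv_naturality_left]
  congr 1
  have n := TBC7.cmp_naturality adjρ adjα h ((adj.rightAdjointUniq adjG).hom.app K)
  have e1 : (DRing.restrictD φ').map ((DRing.LBaseChange α).map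
        ((adj.rightAdjointUniq adjG).hom.app K)) ≫ inv (TrivBC.cmp adjρ adjα h (G.obj K)) =
      inv (TrivBC.cmp adjρ adjα h (Rφ.obj K)) ≫ (DRing.LBaseChange ρ).map
        ((DRing.restrictD φ).map ((adj.rightAdjointUniq adjG).hom.app K)) := by
    rw [IsIso.comp_inv_eq, Category.assoc, n, IsIso.inv_hom_id_assoc]
  rw [reassoc_of% e1, ← Functor.map_comp]
  congr 2
  exact (Adjunction.rightAdjointUniq_hom_app_counit adj adjG K).symm

lemma isIso_bcMap_of_iso {G : Dual.D R ⥤ Dual.D A} (adjG : DRing.restrictD φ ⊣ G) (K : Dual.D R)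
    (hc : IsIso (TrivBC.cmp adjρ adjα h (Rφ.obj K)))
    (hcG : IsIso (TrivBC.cmp adjρ adjα h (G.obj K)))
    (hG : IsIso (TrivBC.bcMap adjρ adjα h adjG adj' K hcG)) :
    IsIso (TrivBC.bcMap adjρ adjα h adj adj' K hc) := by
  rw [bcMap_of_iso adjρ adjα h adj adj' adjG K hc hcG]
  infer_instance

end square

end Groth.Agent.Helper9.BCB1
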