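import Mathlib
import Groth.Prelude.Def_DTen5
import Groth.Agent.Helper9.RHR10
import Groth.Agent.Helper9.CxPair1
import Groth.Agent.Helper9.TBC3
import Groth.Agent.Helper6.ExtTen

/-!
# Chain level identities for the base change of trivial duality at the unit
-/

set_option autoImplicit false
set_option linter.unusedSectionVars false
set_option linter.style.haveILetI false

universe u

open CategoryTheory CategoryTheory.Limits MonoidalCategory

namespace Groth.Agent.Helper9.BCB2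

open Groth.Agent.Helper6 Groth.Agent.Helper6.TenCx Groth.Agent.Helper9.RHR1
  Groth.Agent.Helper9.CxPair
open scoped TensorProduct ChangeOfRings

section unitor

variable {S : Type u} [CommRing S]

lemma leftUnitor_hom_apply (K : DRing.Cx S) (n : ℤ)
    (u : ((𝟙_ (DRing.Cx S) : DRing.Cx S).X 0 : Type u)) (x : K.X n) :
    (λ_ K).hom.f n (ι (𝟙_ (DRing.Cx S)) K 0 n n (zero_add n) (u ⊗ₜ[S] x)) = coord u • x := by
  have h1 : u ⊗ₜ[S] x = (one' : ((𝟙_ (DRing.Cx S) : DRing.Cx S).X 0 : Type u)) ⊗ₜ[S] (coord u • x) := by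
    conv_lhs => rw [← coord_smul_one' u]
    rw [TensorProduct.smul_tmul]
  rw [h1, ← leftUnitor_inv_apply K n (coord u • x)]
  have : (λ_ K).inv.f n ≫ (λ_ K).hom.f n = 𝟙 _ := by
    rw [← HomologicalComplex.comp_f, Iso.inv_hom_id]
    rfl
  exact congrArg (fun f => f.hom (coord u • x)) this

end unitor

section act

variable {S S' : Type u} [CommRing S] [CommRing S'] (ψ : S →+* S')

/-- the action map `res 𝟙 ⊗_S res Z ⟶ res Z` -/
noncomputable def act (Z : DRing.Cx S') :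
    (DTen.resCx ψ).obj (𝟙_ (DRing.Cx S')) ⊗ (DTen.resCx ψ).obj Z ⟶ (DTen.resCx ψ).obj Z :=
  DTen.resTenCx ψ (𝟙_ (DRing.Cx S')) Z ≫ (DTen.resCx ψ).map (λ_ Z).hom

lemma act_apply (Z : DRing.Cx S') (n : ℤ)
    (u : ((𝟙_ (DRing.Cx S') : DRing.Cx S').X 0 : Type u)) (z : Z.X n) :
    (act ψ Z).f n (ι ((DTen.resCx ψ).obj (𝟙_ (DRing.Cx S'))) ((DTen.resCx ψ).obj Z) 0 n n (zero_add n)
      ((show ((DTen.resCx ψ).obj (𝟙_ (DRing.Cx S'))).X 0 from u) ⊗ₜ[S]
        (show ((DTen.resCx ψ).obj Z).X n from z))) =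
    (show ((DTen.resCx ψ).obj Z).X n from coord u • z) := by
  have h1 := congrArg (fun f => f.hom ((show (DTen.resM ψ).obj ((𝟙_ (DRing.Cx S') : DRing.Cx S').X 0) from u) ⊗ₜ[S]
        (show (DTen.resM ψ).obj (Z.X n) from z)))
    (DTen.ι_resTenCx ψ (𝟙_ (DRing.Cx S')) Z 0 n n (zero_add n))
  have h2 := leftUnitor_hom_apply Z n u z
  refine Eq.trans ?_ h2
  exact congrArg (fun t => (λ_ Z).hom.f n t) h1

lemma act_naturality {Z Z' : DRing.Cx S'} (f : Z ⟶ Z') :
    ((DTen.resCx ψ).obj (𝟙_ (DRing.Cx S')) ◁ (DTen.resCx ψ).map f) ≫ act ψ Z' =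
      act ψ Z ≫ (DTen.resCx ψ).map f := by
  have h2 := DTen.resTenCx_naturality ψ (𝟙 (𝟙_ (DRing.Cx S'))) f
  rw [CategoryTheory.Functor.map_id, MonoidalCategory.id_tensorHom, MonoidalCategory.id_tensorHom]
    at h2
  dsimp only [act]
  rw [reassoc_of% h2, Category.assoc, ← Functor.map_comp, ← Functor.map_comp,
    MonoidalCategory.leftUnitor_naturality]

end act

section d0

variable {S S' : Type u} [CommRing S] [CommRing S'] (ψ : S →+* S')

/-- the map `res 𝟙 ⊗_S X ⟶ res (ext X)`, `u ⊗ x ↦ u • (1 ⊗ x)` -/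
noncomputable def d₀ (X : DRing.Cx S) :
    (DTen.resCx ψ).obj (𝟙_ (DRing.Cx S')) ⊗ X ⟶ (DTen.resCx ψ).obj ((DTen.extCx ψ).obj X) :=
  ((DTen.resCx ψ).obj (𝟙_ (DRing.Cx S')) ◁ (DTen.unitCx ψ).app X) ≫ act ψ ((DTen.extCx ψ).obj X)

lemma d₀_naturality {X X' : DRing.Cx S} (f : X ⟶ X') :
    ((DTen.resCx ψ).obj (𝟙_ (DRing.Cx S')) ◁ f) ≫ d₀ ψ X' =
      d₀ ψ X ≫ (DTen.resCx ψ).map ((DTen.extCx ψ).map f) := by
  have h1 := (DTen.unitCx ψ).naturality f
  simp only [Functor.id_obj, Functor.id_map, Functor.comp_obj, Functor.comp_map] at h1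
  dsimp only [d₀]
  rw [← Category.assoc, ← MonoidalCategory.whiskerLeft_comp, h1,
    MonoidalCategory.whiskerLeft_comp, Category.assoc, act_naturality, Category.assoc]

lemma d₀_apply (X : DRing.Cx S) (n : ℤ)
    (u : ((𝟙_ (DRing.Cx S') : DRing.Cx S').X 0 : Type u)) (x : X.X n) :
    (d₀ ψ X).f n (ι ((DTen.resCx ψ).obj (𝟙_ (DRing.Cx S'))) X 0 n n (zero_add n)
      ((show ((DTen.resCx ψ).obj (𝟙_ (DRing.Cx S'))).X 0 from u) ⊗ₜ[S] x)) =
    (show ((DTen.resCx ψ).obj ((DTen.extCx ψ).obj X)).X n from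
      coord u • (show (ModuleCat.extendScalars.{u, u, u} ψ).obj (X.X n) from (1 : S') ⊗ₜ[S, ψ] x)) := by
  dsimp only [d₀]
  rw [HomologicalComplex.comp_f]
  refine Eq.trans (congrArg (fun t => (act ψ ((DTen.extCx ψ).obj X)).f n t)
    (whiskerLeft_apply ((DTen.resCx ψ).obj (𝟙_ (DRing.Cx S'))) ((DTen.unitCx ψ).app X) 0 n n
      (zero_add n) u x)) ?_
  exact act_apply ψ ((DTen.extCx ψ).obj X) n u _

/-- right unitality -/
lemma rightUnitor_inv_d₀ :
    (ρ_ ((DTen.resCx ψ).obj (𝟙_ (DRing.Cx S')))).inv ≫ d₀ ψ (𝟙_ (DRing.Cx S)) =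
      (DTen.resCx ψ).map (RHR10.κ₀ ψ).inv := by
  refine HomologicalComplex.hom_ext _ _ (fun n => ?_)
  refine ModuleCat.hom_ext (LinearMap.ext (fun u => ?_))
  by_cases hn : n = 0
  · subst hn
    have h1 : ((ρ_ ((DTen.resCx ψ).obj (𝟙_ (DRing.Cx S')))).inv ≫ d₀ ψ (𝟙_ (DRing.Cx S))).f 0 u =
        (d₀ ψ (𝟙_ (DRing.Cx S))).f 0 ((ρ_ ((DTen.resCx ψ).obj (𝟙_ (DRing.Cx S')))).inv.f 0 u) := rfl
    refine h1.trans ?_
    rw [rightUnitor_inv_apply ((DTen.resCx ψ).obj (𝟙_ (DRing.Cx S'))) 0 u]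
    refine (d₀_apply ψ (𝟙_ (DRing.Cx S)) 0 u one').trans ?_
    have h2 : ((DTen.resCx ψ).map (RHR10.κ₀ ψ).inv).f 0 u =
        (RHR10.κ₀ ψ).inv.f 0 (show ((𝟙_ (DRing.Cx S') : DRing.Cx S').X 0 : Type u) from u) := rfl
    refine Eq.trans ?_ h2.symm
    conv_rhs => rw [← coord_smul_one' (show ((𝟙_ (DRing.Cx S') : DRing.Cx S').X 0 : Type u) from u)]
    rw [map_smul, RHR10.κ₀_inv_one]
    rfl
  · have hu : u = 0 := unit_eq_zero (R := S') n hn u
    rw [hu, map_zero, map_zero]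

lemma d₀_unit :
    d₀ ψ (𝟙_ (DRing.Cx S)) ≫ (DTen.resCx ψ).map (RHR10.κ₀ ψ).hom =
      (ρ_ ((DTen.resCx ψ).obj (𝟙_ (DRing.Cx S')))).hom := by
  have h := rightUnitor_inv_d₀ ψ
  rw [Iso.inv_comp_eq] at h
  rw [h, Category.assoc, ← Functor.map_comp, Iso.inv_hom_id, CategoryTheory.Functor.map_id,
    Category.comp_id]

lemma one_tmul_eq (M : ModuleCat.{u} S) (c : S) (m : M) :
    (show (ModuleCat.extendScalars.{u, u, u} ψ).obj M from (1 : S') ⊗ₜ[S, ψ] (c • m)) =
      ψ c • (show (ModuleCat.extendScalars.{u, u, u} ψ).obj M from (1 : S') ⊗ₜ[S, ψ] m) := by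
  refine Eq.trans ?_ (ModuleCat.ExtendScalars.smul_tmul (f := ψ) (ψ c) 1 m).symm
  have h1 : ((c • (show ↑((ModuleCat.restrictScalars ψ).obj (ModuleCat.of S' S')) from (1 : S')))
      ⊗ₜ[S] m) =
      (show ↑((ModuleCat.restrictScalars ψ).obj (ModuleCat.of S' S')) from (1 : S')) ⊗ₜ[S] (c • m) :=
    TensorProduct.smul_tmul c _ m
  exact h1.symm

lemma κ₀_hom_one_tmul (u : ((𝟙_ (DRing.Cx S) : DRing.Cx S).X 0 : Type u)) :
    (RHR10.κ₀ ψ).hom.f 0 ((1 : S') ⊗ₜ[S, ψ] u) =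
      ψ (coord u) • (one' : ((𝟙_ (DRing.Cx S') : DRing.Cx S').X 0 : Type u)) := by
  have h0 : (RHR10.κ₀ ψ).hom.f 0 ((1 : S') ⊗ₜ[S, ψ]
      (one' : ((𝟙_ (DRing.Cx S) : DRing.Cx S).X 0 : Type u))) = one' := by
    refine (congrArg (fun t => (RHR10.κ₀ ψ).hom.f 0 t) (RHR10.κ₀_inv_one ψ).symm).trans ?_
    have : (RHR10.κ₀ ψ).inv.f 0 ≫ (RHR10.κ₀ ψ).hom.f 0 = 𝟙 _ := by
      rw [← HomologicalComplex.comp_f, Iso.inv_hom_id]
      rfl
    exact congrArg (fun f => f.hom (one' : ((𝟙_ (DRing.Cx S') : DRing.Cx S').X 0 : Type u))) this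
  have h1 : ((1 : S') ⊗ₜ[S, ψ] u) = ((1 : S') ⊗ₜ[S, ψ] (coord u • (one' :
      ((𝟙_ (DRing.Cx S) : DRing.Cx S).X 0 : Type u)))) := by
    rw [coord_smul_one' u]
  refine (congrArg (fun t => (RHR10.κ₀ ψ).hom.f 0 t) h1).trans ?_
  refine (congrArg (fun t => (RHR10.κ₀ ψ).hom.f 0 t)
    (one_tmul_eq ψ ((𝟙_ (DRing.Cx S) : DRing.Cx S).X 0) (coord u) one')).trans ?_
  refine (map_smul ((RHR10.κ₀ ψ).hom.f 0).hom (ψ (coord u)) _).trans ?_
  exact congrArg (fun t => ψ (coord u) • t) h0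

lemma coord_one' : coord (one' : ((𝟙_ (DRing.Cx S) : DRing.Cx S).X 0 : Type u)) = 1 := by
  unfold coord one'
  exact congrArg (fun f => f.hom (1 : S))
    (HomologicalComplex.singleObjXSelf (ComplexShape.up ℤ) 0 (𝟙_ (ModuleCat.{u} S))).inv_hom_id

end d0

section square

variable {R A R' A' : Type u} [CommRing R] [CommRing A] [CommRing R'] [CommRing A']
  [Algebra R A] [Algebra R R'] [Algebra R' A'] [Algebra A A'] [Algebra R A']
  [IsScalarTower R R' A'] [IsScalarTower R A A'] [Algebra.IsPushout R R' A A']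
  [Algebra.IsPushout R A R' A']

variable (R A R' A') in
/-- `A ⊗_R R' ≅ A'` on unit complexes -/
noncomputable def j :
    (DTen.extCx (algebraMap R A)).obj ((DTen.resCx (algebraMap R R')).obj (𝟙_ (DRing.Cx R'))) ≅
      (DTen.resCx (algebraMap A A')).obj (𝟙_ (DRing.Cx A')) :=
  FlatPC1.Θ (R := R) (A := R') A A' (𝟙_ (DRing.Cx R')) ≪≫
    (DTen.resCx (algebraMap A A')).mapIso (RHR10.κ₀ (algebraMap R' A'))

lemma j_apply (u : ((𝟙_ (DRing.Cx R') : DRing.Cx R').X 0 : Type u)) :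
    (j R A R' A').hom.f 0 ((1 : A) ⊗ₜ[R, algebraMap R A]
      (show ((DTen.resCx (algebraMap R R')).obj (𝟙_ (DRing.Cx R'))).X 0 from u)) =
    (show ((DTen.resCx (algebraMap A A')).obj (𝟙_ (DRing.Cx A'))).X 0 from
      algebraMap R' A' (coord u) • (one' : ((𝟙_ (DRing.Cx A') : DRing.Cx A').X 0 : Type u))) := by
  have e1 := TBC3.bcEquiv_one_tmul (R := R) (A := R') (R' := A) (A' := A')
    ((𝟙_ (DRing.Cx R') : DRing.Cx R').X 0) u
  have e2 := κ₀_hom_one_tmul (algebraMap R' A') u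
  refine Eq.trans ?_ e2
  exact congrArg (fun t => (RHR10.κ₀ (algebraMap R' A')).hom.f 0 t) e1

variable (R' A') in
/-- the map `(A ⊗_R R') ⊗_A W ⟶ A' ⊗_A W` -/
noncomputable def m₀ (W : DRing.Cx A) :
    (DTen.extCx (algebraMap R A)).obj ((DTen.resCx (algebraMap R R')).obj (𝟙_ (DRing.Cx R'))) ⊗ W ⟶
      (DTen.resCx (algebraMap A A')).obj ((DTen.extCx (algebraMap A A')).obj W) :=
  ((j R A R' A').hom ▷ W) ≫ d₀ (algebraMap A A') W

instance (W : DRing.Cx A) : IsIso ((j R A R' A').hom ▷ W) := inferInstance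

lemma coord_smul_one'' {S : Type u} [CommRing S] (c : S) :
    coord (c • (one' : ((𝟙_ (DRing.Cx S) : DRing.Cx S).X 0 : Type u))) = c := by
  rw [map_smul, coord_one', smul_eq_mul, mul_one]

theorem key_identity
    (h : (algebraMap A A').comp (algebraMap R A) = (algebraMap R' A').comp (algebraMap R R'))
    (W : DRing.Cx A) :
    θ' (algebraMap R A) ((DTen.resCx (algebraMap R R')).obj (𝟙_ (DRing.Cx R'))) W ≫
        (DTen.resCx (algebraMap R A)).map (m₀ R' A' W) ≫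
          TBC2.κ h ((DTen.extCx (algebraMap A A')).obj W) =
      d₀ (algebraMap R R') ((DTen.resCx (algebraMap R A)).obj W) ≫
        (DTen.resCx (algebraMap R R')).map (FlatPC1.Θ R' A' W).hom := by
  refine HomologicalComplex.hom_ext _ _ (fun n => TenCx.hom_ext (fun p q hpq => ?_))
  refine ModuleCat.hom_ext (TensorProduct.ext' (fun u w => ?_))
  by_cases hp : p = 0
  · subst hp
    obtain rfl : q = n := by omega
    -- left hand side
    have l1 : (θ' (algebraMap R A) ((DTen.resCx (algebraMap R R')).obj (𝟙_ (DRing.Cx R'))) W).f q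
        (ι ((DTen.resCx (algebraMap R R')).obj (𝟙_ (DRing.Cx R')))
          ((DTen.resCx (algebraMap R A)).obj W) 0 q q hpq (u ⊗ₜ[R] w)) =
        (show ((DTen.resCx (algebraMap R A)).obj ((DTen.extCx (algebraMap R A)).obj
            ((DTen.resCx (algebraMap R R')).obj (𝟙_ (DRing.Cx R'))) ⊗ W)).X q from
          ι ((DTen.extCx (algebraMap R A)).obj
            ((DTen.resCx (algebraMap R R')).obj (𝟙_ (DRing.Cx R')))) W 0 q q hpq
            ((show ((DTen.extCx (algebraMap R A)).obj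
              ((DTen.resCx (algebraMap R R')).obj (𝟙_ (DRing.Cx R')))).X 0 from
                (1 : A) ⊗ₜ[R, algebraMap R A] u) ⊗ₜ[A] (show W.X q from w))) :=
      congrArg (fun f => f.hom (u ⊗ₜ[R] w))
        (ι_θ' (algebraMap R A) ((DTen.resCx (algebraMap R R')).obj (𝟙_ (DRing.Cx R'))) W 0 q q hpq)
    have l2 := whiskerRight_apply (j R A R' A').hom W 0 q q hpq
      (show ((DTen.extCx (algebraMap R A)).obj
        ((DTen.resCx (algebraMap R R')).obj (𝟙_ (DRing.Cx R')))).X 0 from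
          (1 : A) ⊗ₜ[R, algebraMap R A] u) (show W.X q from w)
    have l3 := j_apply (R := R) (A := A) (R' := R') (A' := A') u
    have l4 := d₀_apply (algebraMap A A') W q
      (algebraMap R' A' (coord (show ((𝟙_ (DRing.Cx R') : DRing.Cx R').X 0 : Type u) from u)) •
        (one' : ((𝟙_ (DRing.Cx A') : DRing.Cx A').X 0 : Type u))) (show W.X q from w)
    rw [coord_smul_one''] at l4
    -- right hand side
    have r1 := d₀_apply (algebraMap R R') ((DTen.resCx (algebraMap R A)).obj W) q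
      (show ((𝟙_ (DRing.Cx R') : DRing.Cx R').X 0 : Type u) from u) w
    have r2 := TBC3.bcEquiv_one_tmul (R := R) (A := A) (R' := R') (A' := A') (W.X q) w
    have hL : (ModuleCat.Hom.hom
        (ι ((DTen.resCx (algebraMap R R')).obj (𝟙_ (DRing.Cx R')))
          ((DTen.resCx (algebraMap R A)).obj W) 0 q q hpq ≫
          (θ' (algebraMap R A) ((DTen.resCx (algebraMap R R')).obj (𝟙_ (DRing.Cx R'))) W ≫
            (DTen.resCx (algebraMap R A)).map (m₀ R' A' W) ≫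
              TBC2.κ h ((DTen.extCx (algebraMap A A')).obj W)).f q)) (u ⊗ₜ[R] w) =
        (TBC2.κ h ((DTen.extCx (algebraMap A A')).obj W)).f q
          ((d₀ (algebraMap A A') W).f q (((j R A R' A').hom ▷ W).f q
            ((θ' (algebraMap R A) ((DTen.resCx (algebraMap R R')).obj (𝟙_ (DRing.Cx R'))) W).f q
              (ι ((DTen.resCx (algebraMap R R')).obj (𝟙_ (DRing.Cx R')))
                ((DTen.resCx (algebraMap R A)).obj W) 0 q q hpq (u ⊗ₜ[R] w))))) := rfl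
    have hR : (ModuleCat.Hom.hom
        (ι ((DTen.resCx (algebraMap R R')).obj (𝟙_ (DRing.Cx R')))
          ((DTen.resCx (algebraMap R A)).obj W) 0 q q hpq ≫
          (d₀ (algebraMap R R') ((DTen.resCx (algebraMap R A)).obj W) ≫
            (DTen.resCx (algebraMap R R')).map (FlatPC1.Θ R' A' W).hom).f q)) (u ⊗ₜ[R] w) =
        (FlatPC1.Θ R' A' W).hom.f q
          ((d₀ (algebraMap R R') ((DTen.resCx (algebraMap R A)).obj W)).f q
            (ι ((DTen.resCx (algebraMap R R')).obj (𝟙_ (DRing.Cx R')))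
              ((DTen.resCx (algebraMap R A)).obj W) 0 q q hpq (u ⊗ₜ[R] w))) := rfl
    refine hL.trans (Eq.trans ?_ hR.symm)
    refine (TBC2.κ_f_apply h _ q _).trans ?_
    refine (congrArg (fun t => (d₀ (algebraMap A A') W).f q (((j R A R' A').hom ▷ W).f q t)) l1).trans ?_
    refine (congrArg (fun t => (d₀ (algebraMap A A') W).f q t) l2).trans ?_
    refine (congrArg (fun t => (d₀ (algebraMap A A') W).f q
      (ι ((DTen.resCx (algebraMap A A')).obj (𝟙_ (DRing.Cx A'))) W 0 q q hpq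
        (t ⊗ₜ[A] (show W.X q from w)))) l3).trans ?_
    refine l4.trans ?_
    refine Eq.trans ?_ (congrArg (fun t => (FlatPC1.Θ R' A' W).hom.f q t) r1).symm
    refine Eq.trans ?_ (map_smul ((FlatPC1.Θ R' A' W).hom.f q).hom
      (coord (show ((𝟙_ (DRing.Cx R') : DRing.Cx R').X 0 : Type u) from u)) _).symm
    refine Eq.trans ?_ (congrArg (fun t =>
      (coord (show ((𝟙_ (DRing.Cx R') : DRing.Cx R').X 0 : Type u) from u)) • t) r2.symm)
    rfl
  · have hu : u = 0 := unit_eq_zero (R := R') p hp u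
    rw [hu, TensorProduct.zero_tmul, map_zero, map_zero]

end square

section iso

variable {S S' : Type u} [CommRing S] [CommRing S'] (ψ : S →+* S')

lemma d₀_eq (X : DRing.Cx S) :
    d₀ ψ X = ExtTen.θ ψ (𝟙_ (DRing.Cx S')) X ≫
      (DTen.resCx ψ).map (λ_ ((DTen.extCx ψ).obj X)).hom := by
  dsimp only [d₀, act, ExtTen.θ]
  rw [Category.assoc]

instance isIso_d₀ (X : DRing.Cx S) : IsIso (d₀ ψ X) := by
  rw [d₀_eq]
  infer_instance

end iso

section withπ

variable {R A R' A' : Type u} [CommRing R] [CommRing A] [CommRing R'] [CommRing A']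
  [Algebra R A] [Algebra R R'] [Algebra R' A'] [Algebra A A'] [Algebra R A']
  [IsScalarTower R R' A'] [IsScalarTower R A A'] [Algebra.IsPushout R R' A A']
  [Algebra.IsPushout R A R' A']
  {P : DRing.Cx R} (π : P ⟶ (DTen.resCx (algebraMap R R')).obj (𝟙_ (DRing.Cx R')))

/-- `P ⊗_R X ⟶ (R' ⊗_R X)|_R`, `p ⊗ x ↦ π p ⊗ x` -/
noncomputable def d (X : DRing.Cx R) :
    P ⊗ X ⟶ (DTen.resCx (algebraMap R R')).obj ((DTen.extCx (algebraMap R R')).obj X) :=
  (π ▷ X) ≫ d₀ (algebraMap R R') X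

lemma d_naturality {X X' : DRing.Cx R} (f : X ⟶ X') :
    (P ◁ f) ≫ d π X' =
      d π X ≫ (DTen.resCx (algebraMap R R')).map ((DTen.extCx (algebraMap R R')).map f) := by
  dsimp only [d]
  rw [← Category.assoc, MonoidalCategory.whisker_exchange, Category.assoc, d₀_naturality,
    Category.assoc]

lemma d_unit :
    d π (𝟙_ (DRing.Cx R)) ≫ (DTen.resCx (algebraMap R R')).map (RHR10.κ₀ (algebraMap R R')).hom =
      (ρ_ P).hom ≫ π := by
  dsimp only [d]
  rw [Category.assoc, d₀_unit, MonoidalCategory.rightUnitor_naturality]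

lemma quasiIso_d (X : DRing.Cx R) (hX : KFlat X) (hπ : QuasiIso π) : QuasiIso (d π X) := by
  haveI := quasiIso_whiskerRight hX π hπ
  dsimp only [d]
  infer_instance

variable (A') in
/-- `(A ⊗_R P) ⊗_A W ⟶ A' ⊗_A W` -/
noncomputable def m (W : DRing.Cx A) :
    (DTen.extCx (algebraMap R A)).obj P ⊗ W ⟶
      (DTen.resCx (algebraMap A A')).obj ((DTen.extCx (algebraMap A A')).obj W) :=
  ((DTen.extCx (algebraMap R A)).map π ▷ W) ≫ m₀ R' A' W

lemma quasiIso_m (W : DRing.Cx A) (hW : KFlat W)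
    (hπ' : QuasiIso ((DTen.extCx (algebraMap R A)).map π)) : QuasiIso (m A' π W) := by
  haveI := quasiIso_whiskerRight hW _ hπ'
  dsimp only [m, m₀]
  infer_instance

theorem m_identity
    (h : (algebraMap A A').comp (algebraMap R A) = (algebraMap R' A').comp (algebraMap R R'))
    (W : DRing.Cx A) :
    θ' (algebraMap R A) P W ≫ (DTen.resCx (algebraMap R A)).map (m A' π W) ≫
        TBC2.κ h ((DTen.extCx (algebraMap A A')).obj W) =
      d π ((DTen.resCx (algebraMap R A)).obj W) ≫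
        (DTen.resCx (algebraMap R R')).map (FlatPC1.Θ R' A' W).hom := by
  have h1 := θ'_naturality_left (algebraMap R A) π W
  have h2 := key_identity h W
  dsimp only [m, d]
  rw [Functor.map_comp]
  simp only [Category.assoc]
  rw [← reassoc_of% h1, h2]

end withπ

end Groth.Agent.Helper9.BCB2
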