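import Mathlib
import Groth.Prelude.Def_TrivBC
import Groth.Prelude.Def_DTen4
import Groth.Agent.Helper9.BCB1
import Groth.Agent.Helper9.BCB2
import Groth.Agent.Helper9.RHB2
import Groth.Agent.Helper9.RHB3
import Groth.Agent.Helper9.TBC7
import Groth.Agent.Helper6.HasLBC
import Groth.Agent.Helper6.LBCAdj

/-!
# Preparations for the base change of trivial duality at the unit: roofs with K-projective
representatives, the resolution of `R'`, and the isomorphisms `Q (ext P ⊗ W) ≅ RHom(A, Q P)`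
-/

set_option autoImplicit false
set_option linter.unusedSectionVars false
set_option linter.style.haveILetI false

universe u

open CategoryTheory CategoryTheory.Limits MonoidalCategory DerivedCategory

attribute [local instance] HasDerivedCategory.standard

namespace Groth.Agent.Helper9.BCB3

open Groth.Agent.Helper6 Groth.Agent.Helper6.TenCx Groth.Agent.Helper9.RHR1
  Groth.Agent.Helper9.RHR2 Groth.Agent.Helper9.RHR4 Groth.Agent.Helper9.RHA1

section ltensor

variable {A : Type u} [CommRing A]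

/-- the left derived functor of `- ⊗ W` exists for `W` K-flat -/
lemma hasLTensorCx_of_kflat (W : DRing.Cx A) (hW : KFlat W) : DRing.HasLTensorCx A W := by
  have hinv : (HomologicalComplex.quasiIso (ModuleCat.{u} A) (ComplexShape.up ℤ)).IsInvertedBy
      (DRing.tensorCxQ A W) := by
    intro X Y f hf
    have hf' : QuasiIso f := hf
    have : QuasiIso (f ▷ W) := quasiIso_whiskerRight hW f hf'
    exact (DerivedCategory.isIso_Q_map_iff_quasiIso (φ := f ▷ W)).mpr this
  haveI := Functor.hasPointwiseLeftDerivedFunctor_of_inverts (DRing.tensorCxQ A W) hinv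
  exact Functor.hasLeftDerivedFunctor_of_hasPointwiseLeftDerivedFunctor _ _

end ltensor

section roof

variable {R A : Type u} [CommRing R] [CommRing A] (φ : R →+* A) [DTen.HasRHomRel φ]

/-- a roof whose representatives are K-projective -/
lemma exists_roof_kproj :
    ∃ r : Roof φ, r.W.IsKProjective ∧ KFlat r.W ∧ r.V'.IsKProjective := by
  obtain ⟨P, hP, hPf, ⟨i⟩⟩ := LBCAdj.exists_kproj (ω φ)
  let w : Q.obj P ≅ ω φ := (quotientCompQhIso _).symm.app P ≪≫ i
  obtain ⟨V', s, hV', -, -, hs, -⟩ := KProjRes.exists_resolution ((DTen.resCx φ).obj P)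
  haveI := hV'
  obtain ⟨g, hg⟩ := KProjQ.Q_map_surjective V' (𝟙_ (DRing.Cx R))
    (Q.map s ≫ (DTen.resFactors φ).inv.app P ≫ (DRing.restrictD φ).map w.hom ≫
      DTen.relEv φ (DTen.unit R))
  exact ⟨⟨P, w, V', s, g, hs, hg⟩, hP, hPf, hV'⟩

variable {φ}

/-- for `A` perfect over `R`, the adjunct of the counit-like map `c` is an isomorphism at every
K-projective complex -/
theorem isIso_homEquiv_c (r : Roof φ) (hW : KFlat r.W)
    (hA : DRing.IsPerfect R ((DRing.restrictD φ).obj (DTen.unit A)))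
    (P : DRing.Cx R) [P.IsKProjective] :
    IsIso ((DTen.relAdj φ).homEquiv _ _ (c r P (RHA1.kflat P))) := by
  haveI : DRing.HasLBaseChange φ := HasLBC.hasLBaseChange φ
  have adjL := LBCAdj.adj φ
  haveI : DRing.HasLTensorCx A r.W := hasLTensorCx_of_kflat r.W hW
  let m : Model r := RHB2.model adjL r.W 0 r ((shiftFunctorZero (DRing.Cx A) ℤ).symm.app r.W)
  haveI := RHA3.preservesZeroMorphisms_F m
  have h : ∀ K, IsIso ((RHA1.η m).app K) :=
    isIso_app (RHA2.midExact_F m) (RHR5.midExact_RHomRel φ) (RHA3.presCoprod_F m)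
      (RHR5.presCoprod_RHomRel φ hA) (RHA4.isIso_η_unit_shift m)
  have h1 := h (Q.obj P)
  rw [RHA1.η_app_Q m P] at h1
  have e1 : RHA1.νa m P = (m.isoε P).hom ≫
      (DTen.relAdj φ).homEquiv _ _ (c r P (RHA1.kflat P)) := by
    dsimp only [RHA1.νa, RHA1.ν]
    rw [Adjunction.homEquiv_naturality_left]
  rw [e1] at h1
  exact IsIso.of_isIso_comp_left (m.isoε P).hom _

end roof

section Tor

variable {R A R' : Type u} [CommRing R] [CommRing A] [CommRing R'] [Algebra R A] [Algebra R R']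

/-- Tor independence gives a K-projective resolution of `R'` which stays a resolution after
`A ⊗_R -` -/
theorem exists_resolution' (htor : ∀ p : ℕ, 1 ≤ p → Subsingleton (DRing.Tor R p A R')) :
    ∃ (F : DRing.Cx R) (t : F ⟶ (DTen.resCx (algebraMap R R')).obj (𝟙_ (DRing.Cx R'))),
      F.IsKProjective ∧ KFlat F ∧ QuasiIso t ∧ QuasiIso ((DTen.extCx (algebraMap R A)).map t) := by
  let P : ProjectiveResolution (TBC6.Z R R') := ProjectiveResolution.of _
  let j : (CochainComplex.singleFunctor (ModuleCat.{u} R) 0).obj (TBC6.Z R R') ≅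
      (DTen.resCx (algebraMap R R')).obj (𝟙_ (DRing.Cx R')) :=
    ((HomologicalComplex.singleMapHomologicalComplex (ModuleCat.restrictScalars.{u}
      (algebraMap R R')) (ComplexShape.up ℤ) 0).app (𝟙_ (ModuleCat.{u} R'))).symm
  refine ⟨P.cochainComplex, P.π' ≫ j.hom, inferInstance, ?_, ?_, ?_⟩
  · apply TenCx.kflat_of_boundedAbove_flat _ 0
    · intro i hi
      exact CochainComplex.isZero_of_isStrictlyLE _ 0 i hi
    · intro i
      haveI : Projective (P.cochainComplex.X i) := inferInstance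
      haveI : Module.Projective R (P.cochainComplex.X i) :=
        (IsProjective.iff_projective (R := R) (P := ↑(P.cochainComplex.X i))).mpr this
      infer_instance
  · infer_instance
  · rw [Functor.map_comp]
    haveI := TBC6.quasiIso_ext_of_tensorLeft (algebraMap R A) P.π'
      (TBC5.quasiIso_map_π' _ P (TBC6.isZero_homology_of_tor htor P))
    infer_instance

end Tor

section assembly

variable {R A R' A' : Type u} [CommRing R] [CommRing A] [CommRing R'] [CommRing A']
  [Algebra R A] [Algebra R R'] [Algebra R' A'] [Algebra A A'] [Algebra R A']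
  [IsScalarTower R R' A'] [IsScalarTower R A A'] [Algebra.IsPushout R R' A A']
  [Algebra.IsPushout R A R' A']
  [DRing.HasLBaseChange (algebraMap R R')] [DRing.HasLBaseChange (algebraMap A A')]
  (adjρ : DRing.LBaseChange (algebraMap R R') ⊣ DRing.restrictD (algebraMap R R'))
  (adjα : DRing.LBaseChange (algebraMap A A') ⊣ DRing.restrictD (algebraMap A A'))
  (h : (algebraMap A A').comp (algebraMap R A) = (algebraMap R' A').comp (algebraMap R R'))
  [DTen.HasRHomRel (algebraMap R A)] (r : Roof (algebraMap R A))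
  [hWp : r.W.IsKProjective] [hVp : r.V'.IsKProjective]
  [hcmp : ∀ K : Dual.D A, IsIso (TrivBC.cmp adjρ adjα h K)]

variable (R' A') in
/-- the base change of the roof map `s` -/
noncomputable def sT : (DTen.extCx (algebraMap R R')).obj r.V' ⟶
    (DTen.resCx (algebraMap R' A')).obj ((DTen.extCx (algebraMap A A')).obj r.W) :=
  (DTen.extCx (algebraMap R R')).map r.s ≫ (FlatPC1.Θ R' A' r.W).hom

variable (R') in
/-- the base change of the roof map `g` -/
noncomputable def gT : (DTen.extCx (algebraMap R R')).obj r.V' ⟶ 𝟙_ (DRing.Cx R') :=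
  (DTen.extCx (algebraMap R R')).map r.g ≫ (RHR10.κ₀ (algebraMap R R')).hom

lemma bc_comp_Q_sT :
    TBC1.bc adjρ r.V' ≫ Q.map (sT R' A' r) =
      (DRing.LBaseChange (algebraMap R R')).map
          (Q.map r.s ≫ (DTen.resFactors (algebraMap R A)).inv.app r.W) ≫
        TrivBC.cmp adjρ adjα h (Q.obj r.W) ≫
        (DRing.restrictD (algebraMap R' A')).map (TBC1.bc adjα r.W) ≫
        (DTen.resFactors (algebraMap R' A')).hom.app ((DTen.extCx (algebraMap A A')).obj r.W) := by
  have hs := TBC3.star adjρ adjα h r.W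
  have n := TBC1.bc_naturality adjρ r.s
  dsimp only [sT]
  rw [Functor.map_comp, ← Category.assoc, ← n, hs, Functor.map_comp]
  simp only [Category.assoc]
  congr 1
  rw [← Functor.map_comp_assoc, Iso.inv_hom_id_app]
  erw [CategoryTheory.Functor.map_id, Category.id_comp]

instance isIso_bc_W : IsIso (TBC1.bc adjα r.W) := TBC1.isIso_bc_of_isKProjective adjα r.W

instance isIso_bc_V : IsIso (TBC1.bc adjρ r.V') := TBC1.isIso_bc_of_isKProjective adjρ r.V'

instance isKProjective_unit : (𝟙_ (DRing.Cx R)).IsKProjective :=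
  inferInstanceAs (DTenX.U (A := R)).IsKProjective

instance isIso_bc_unit : IsIso (TBC1.bc adjρ (𝟙_ (DRing.Cx R))) :=
  TBC1.isIso_bc_of_isKProjective adjρ (𝟙_ (DRing.Cx R))

instance isIso_Q_s : IsIso (Q.map r.s) := by
  rw [DerivedCategory.isIso_Q_map_iff_quasiIso]
  exact r.hs

include hcmp in
lemma isIso_Q_sT : IsIso (Q.map (sT R' A' r)) := by
  have e := bc_comp_Q_sT adjρ adjα h r
  have e2 : Q.map (sT R' A' r) = inv (TBC1.bc adjρ r.V') ≫
      ((DRing.LBaseChange (algebraMap R R')).map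
          (Q.map r.s ≫ (DTen.resFactors (algebraMap R A)).inv.app r.W) ≫
        TrivBC.cmp adjρ adjα h (Q.obj r.W) ≫
        (DRing.restrictD (algebraMap R' A')).map (TBC1.bc adjα r.W) ≫
        (DTen.resFactors (algebraMap R' A')).hom.app ((DTen.extCx (algebraMap A A')).obj r.W)) := by
    rw [← e, IsIso.inv_hom_id_assoc]
  rw [e2]
  infer_instance

include hcmp in
lemma key_B :
    Q.map (sT R' A' r) ≫
      (DTen.resFactors (algebraMap R' A')).inv.app ((DTen.extCx (algebraMap A A')).obj r.W) ≫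
      (DRing.restrictD (algebraMap R' A')).map
        (inv (TBC1.bc adjα r.W) ≫ (DRing.LBaseChange (algebraMap A A')).map r.w.hom) ≫
      inv (TrivBC.cmp adjρ adjα h (ω (algebraMap R A))) ≫
      (DRing.LBaseChange (algebraMap R R')).map (DTen.relEv (algebraMap R A) (DTen.unit R)) ≫
      TBC1.bc adjρ (𝟙_ (DRing.Cx R)) ≫ Q.map (RHR10.κ₀ (algebraMap R R')).hom =
    Q.map (gT R' r) := by
  rw [← cancel_epi (TBC1.bc adjρ r.V'), reassoc_of% (bc_comp_Q_sT adjρ adjα h r)]
  have n1 := TBC7.cmp_naturality adjρ adjα h r.w.hom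
  have n2 := TBC1.bc_naturality adjρ r.g
  have e1 : (DRing.restrictD (algebraMap R' A')).map (TBC1.bc adjα r.W) ≫
      (DTen.resFactors (algebraMap R' A')).hom.app ((DTen.extCx (algebraMap A A')).obj r.W) ≫
      (DTen.resFactors (algebraMap R' A')).inv.app ((DTen.extCx (algebraMap A A')).obj r.W) ≫
      (DRing.restrictD (algebraMap R' A')).map
        (inv (TBC1.bc adjα r.W) ≫ (DRing.LBaseChange (algebraMap A A')).map r.w.hom) =
      (DRing.restrictD (algebraMap R' A')).map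
        ((DRing.LBaseChange (algebraMap A A')).map r.w.hom) := by
    rw [Iso.hom_inv_id_app_assoc, ← Functor.map_comp, IsIso.hom_inv_id_assoc]
  rw [reassoc_of% e1, ← reassoc_of% n1, IsIso.hom_inv_id_assoc, ← Functor.map_comp_assoc,
    ← Functor.map_comp_assoc]
  simp only [Category.assoc]
  rw [← r.hg, reassoc_of% n2]
  dsimp only [gT]
  rw [Functor.map_comp]

section withP

variable {P : DRing.Cx R} [hPp : P.IsKProjective]
  (π : P ⟶ (DTen.resCx (algebraMap R R')).obj (𝟙_ (DRing.Cx R')))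

local notation "φ₀" => algebraMap R A
local notation "ρ₀" => algebraMap R R'
local notation "α₀" => algebraMap A A'
local notation "φ₁" => algebraMap R' A'

/-- the comparison `Q (ext P ⊗ W) ⟶ α_* Lα ω` -/
noncomputable def μ : Q.obj ((DTen.mixT φ₀).obj (P, r.W)) ⟶
    (DRing.restrictD α₀).obj ((DRing.LBaseChange α₀).obj (ω φ₀)) :=
  Q.map (BCB2.m A' π r.W) ≫ (DTen.resFactors α₀).inv.app ((DTen.extCx α₀).obj r.W) ≫
    (DRing.restrictD α₀).map (inv (TBC1.bc adjα r.W) ≫ (DRing.LBaseChange α₀).map r.w.hom)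

/-- the comparison `Q P ⟶ ρ_* Lρ R` -/
noncomputable def ν' : Q.obj P ⟶ (DRing.restrictD ρ₀).obj ((DRing.LBaseChange ρ₀).obj (DTen.unit R)) :=
  Q.map π ≫ (DTen.resFactors ρ₀).inv.app (𝟙_ (DRing.Cx R')) ≫
    (DRing.restrictD ρ₀).map (Q.map (RHR10.κ₀ ρ₀).inv ≫ inv (TBC1.bc adjρ (𝟙_ (DRing.Cx R))))

/-- the adjunct of `α_* (bcMap) ≫ conj` -/
noncomputable def tt : (DRing.restrictD φ₀).obj ((DRing.restrictD α₀).obj
      ((DRing.LBaseChange α₀).obj (ω φ₀))) ⟶
    (DRing.restrictD ρ₀).obj ((DRing.LBaseChange ρ₀).obj (DTen.unit R)) :=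
  (TrivBC.resComm h).hom.app ((DRing.LBaseChange α₀).obj (ω φ₀)) ≫
    (DRing.restrictD ρ₀).map (inv (TrivBC.cmp adjρ adjα h (ω φ₀)) ≫
      (DRing.LBaseChange ρ₀).map (DTen.relEv φ₀ (DTen.unit R)))

omit hWp hVp hcmp hPp in
/-- the main diagram chase, in a form with opaque derived category maps -/
lemma key_C_gen {Y' : Dual.D A'} (y : Q.obj ((DTen.extCx α₀).obj r.W) ⟶ Y') {Z : Dual.D R'}
    (t' : (DRing.restrictD φ₁).obj Y' ⟶ Z) (g' : Q.obj ((DTen.extCx ρ₀).obj r.V') ⟶ Z)
    (a4 : Q.map (sT R' A' r) ≫ (DTen.resFactors φ₁).inv.app ((DTen.extCx α₀).obj r.W) ≫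
      (DRing.restrictD φ₁).map y ≫ t' = g') :
    Q.map (P ◁ r.s) ≫ Q.map (θ' φ₀ P r.W) ≫
      (DTen.resFactors φ₀).inv.app ((DTen.extCx φ₀).obj P ⊗ r.W) ≫
      (DRing.restrictD φ₀).map (Q.map (BCB2.m A' π r.W) ≫
        (DTen.resFactors α₀).inv.app ((DTen.extCx α₀).obj r.W) ≫ (DRing.restrictD α₀).map y) ≫
      (TrivBC.resComm h).hom.app Y' ≫ (DRing.restrictD ρ₀).map t' =
    Q.map (BCB2.d π r.V') ≫ (DTen.resFactors ρ₀).inv.app ((DTen.extCx ρ₀).obj r.V') ≫
      (DRing.restrictD ρ₀).map g' := by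
  have a1 := (DTen.resFactors φ₀).inv.naturality (BCB2.m A' π r.W)
  have a2 := (TrivBC.resComm h).hom.naturality y
  have a3 := TBC2.resComm_app h ((DTen.extCx α₀).obj r.W)
  have a5 : (P ◁ r.s) ≫ θ' φ₀ P r.W ≫ (DTen.resCx φ₀).map (BCB2.m A' π r.W) ≫
      TBC2.κ h ((DTen.extCx α₀).obj r.W) =
      BCB2.d π r.V' ≫ (DTen.resCx ρ₀).map (sT R' A' r) := by
    rw [BCB2.m_identity π h r.W, ← Category.assoc, BCB2.d_naturality π r.s, Category.assoc,
      ← Functor.map_comp]
    rfl
  have a6 := (DTen.resFactors ρ₀).inv.naturality (sT R' A' r)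
  dsimp only [Functor.comp_map] at a1 a2 a6
  have b1 : (DRing.restrictD φ₀).map ((DTen.resFactors α₀).inv.app ((DTen.extCx α₀).obj r.W)) ≫
      (TrivBC.resComm h).hom.app (Q.obj ((DTen.extCx α₀).obj r.W)) =
      (DTen.resFactors φ₀).hom.app ((DTen.resCx α₀).obj ((DTen.extCx α₀).obj r.W)) ≫
        Q.map (TBC2.κ h ((DTen.extCx α₀).obj r.W)) ≫
          (DTen.resFactors ρ₀).inv.app ((DTen.resCx φ₁).obj ((DTen.extCx α₀).obj r.W)) ≫
            (DRing.restrictD ρ₀).map ((DTen.resFactors φ₁).inv.app ((DTen.extCx α₀).obj r.W)) := by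
    rw [a3, ← Functor.map_comp_assoc, Iso.inv_hom_id_app]
    erw [CategoryTheory.Functor.map_id, Category.id_comp]
  have b2 : Q.map (P ◁ r.s) ≫ Q.map (θ' φ₀ P r.W) ≫ Q.map ((DTen.resCx φ₀).map (BCB2.m A' π r.W)) ≫
      Q.map (TBC2.κ h ((DTen.extCx α₀).obj r.W)) =
      Q.map (BCB2.d π r.V') ≫ Q.map ((DTen.resCx ρ₀).map (sT R' A' r)) := by
    rw [← Functor.map_comp, ← Functor.map_comp, ← Functor.map_comp, a5, Functor.map_comp]
  simp only [Functor.map_comp, Category.assoc]
  rw [← reassoc_of% a1, reassoc_of% a2, reassoc_of% b1, Iso.inv_hom_id_app_assoc,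
    reassoc_of% b2, reassoc_of% a6, ← a4]
  simp only [Functor.map_comp]

omit hWp hVp hcmp hPp in
lemma key_C_right {Z : Dual.D R'} (z : Q.obj (𝟙_ (DRing.Cx R')) ⟶ Z) :
    Q.map (P ◁ r.g) ≫ Q.map (ρ_ P).hom ≫ Q.map π ≫
      (DTen.resFactors ρ₀).inv.app (𝟙_ (DRing.Cx R')) ≫ (DRing.restrictD ρ₀).map z =
    Q.map (BCB2.d π r.V') ≫ (DTen.resFactors ρ₀).inv.app ((DTen.extCx ρ₀).obj r.V') ≫
      (DRing.restrictD ρ₀).map (Q.map (gT R' r) ≫ z) := by
  have c1 : (P ◁ r.g) ≫ (ρ_ P).hom ≫ π = BCB2.d π r.V' ≫ (DTen.resCx ρ₀).map (gT R' r) := by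
    rw [← BCB2.d_unit π, ← Category.assoc, BCB2.d_naturality π r.g, Category.assoc,
      ← Functor.map_comp]
    rfl
  have c2 := (DTen.resFactors ρ₀).inv.naturality (gT R' r)
  dsimp only [Functor.comp_map] at c2
  have c3 : Q.map (P ◁ r.g) ≫ Q.map (ρ_ P).hom ≫ Q.map π =
      Q.map (BCB2.d π r.V') ≫ Q.map ((DTen.resCx ρ₀).map (gT R' r)) := by
    rw [← Functor.map_comp, ← Functor.map_comp, c1, Functor.map_comp]
  simp only [Functor.map_comp]
  rw [reassoc_of% c3, reassoc_of% c2]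

include hcmp in
/-- the main identity -/
theorem key_C :
    (DRing.restrictD φ₀).map (μ adjα r π) ≫ tt adjρ adjα h =
      c r P (RHA1.kflat P) ≫ ν' adjρ π := by
  have hL := key_C_gen h r π
    (inv (TBC1.bc adjα r.W) ≫ (DRing.LBaseChange α₀).map r.w.hom)
    (inv (TrivBC.cmp adjρ adjα h (ω φ₀)) ≫
      (DRing.LBaseChange ρ₀).map (DTen.relEv φ₀ (DTen.unit R)))
    (Q.map (gT R' r) ≫ Q.map (RHR10.κ₀ ρ₀).inv ≫ inv (TBC1.bc adjρ (𝟙_ (DRing.Cx R))))
    (by
      rw [← key_B adjρ adjα h r]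
      simp only [Category.assoc]
      have e : Q.map (RHR10.κ₀ ρ₀).hom ≫ Q.map (RHR10.κ₀ ρ₀).inv ≫
          inv (TBC1.bc adjρ (𝟙_ (DRing.Cx R))) = inv (TBC1.bc adjρ (𝟙_ (DRing.Cx R))) := by
        rw [← Functor.map_comp_assoc, Iso.hom_inv_id, CategoryTheory.Functor.map_id,
          Category.id_comp]
      rw [e, IsIso.hom_inv_id, Category.comp_id])
  have hR := key_C_right r π
    (Q.map (RHR10.κ₀ ρ₀).inv ≫ inv (TBC1.bc adjρ (𝟙_ (DRing.Cx R))))
  have hLR := hL.trans hR.symm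
  have hLR' : (isoS r P (RHA1.kflat P)).hom ≫ (isoθ r P).hom ≫
      (DTen.resFactors φ₀).inv.app ((DTen.mixT φ₀).obj (P, r.W)) ≫
      (DRing.restrictD φ₀).map (μ adjα r π) ≫ tt adjρ adjα h =
      Q.map (P ◁ r.g) ≫ Q.map (ρ_ P).hom ≫ ν' adjρ π := hLR
  dsimp only [c]
  simp only [Category.assoc]
  rw [← hLR', Iso.inv_hom_id_assoc, Iso.inv_hom_id_assoc, Iso.hom_inv_id_app_assoc]

include hcmp in
theorem isIso_homEquiv_tt (hW : KFlat r.W)
    (hA : DRing.IsPerfect R ((DRing.restrictD φ₀).obj (DTen.unit A)))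
    (hπ : QuasiIso π) (hπ' : QuasiIso ((DTen.extCx φ₀).map π)) :
    IsIso ((DTen.relAdj φ₀).homEquiv _ _ (tt adjρ adjα h)) := by
  haveI : IsIso (Q.map (BCB2.m A' π r.W)) := by
    rw [DerivedCategory.isIso_Q_map_iff_quasiIso]
    exact BCB2.quasiIso_m π r.W hW hπ'
  haveI : IsIso (Q.map π) := by
    rw [DerivedCategory.isIso_Q_map_iff_quasiIso]
    exact hπ
  haveI : IsIso (μ adjα r π) := by
    dsimp only [μ]
    infer_instance
  haveI : IsIso (ν' adjρ π) := by
    dsimp only [ν']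
    infer_instance
  haveI := isIso_homEquiv_c r hW hA P
  have e := congrArg ((DTen.relAdj φ₀).homEquiv _ _) (key_C adjρ adjα h r π)
  rw [Adjunction.homEquiv_naturality_left, Adjunction.homEquiv_naturality_right] at e
  have e2 : (DTen.relAdj φ₀).homEquiv _ _ (tt adjρ adjα h) =
      inv (μ adjα r π) ≫ (DTen.relAdj φ₀).homEquiv _ _ (c r P (RHA1.kflat P)) ≫
        (DTen.RHomRel φ₀).map (ν' adjρ π) := by
    rw [← e, IsIso.inv_hom_id_assoc]
  rw [e2]
  infer_instance

end withP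

include hcmp in
/-- **The unit case**: for `A` perfect over `R` and tor independent of `R'`, the base change map
of trivial duality is an isomorphism at the unit (for the canonical right adjoint). -/
theorem isIso_bcMap_unit_rel
    (htor : ∀ p : ℕ, 1 ≤ p → Subsingleton (DRing.Tor R p A R'))
    (hA : DRing.IsPerfect R ((DRing.restrictD (algebraMap R A)).obj (DTen.unit A)))
    {Rφ' : Dual.D R' ⥤ Dual.D A'} (adj' : DRing.restrictD (algebraMap R' A') ⊣ Rφ') :
    IsIso (TrivBC.bcMap adjρ adjα h (DTen.relAdj (algebraMap R A)) adj' (DTen.unit R)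
      (hcmp _)) := by
  obtain ⟨r, hWp, hW, hVp⟩ := exists_roof_kproj (algebraMap R A)
  obtain ⟨P, π, hPp, -, hπ, hπ'⟩ := exists_resolution' (R := R) (A := A) (R' := R') htor
  haveI := hWp
  haveI := hVp
  haveI := hPp
  have h1 := isIso_homEquiv_tt adjρ adjα h r π hW hA hπ hπ'
  have h2 := BCB1.map_bcMap_comp_conj adjρ adjα h (DTen.relAdj (algebraMap R A)) adj'
    (DTen.unit R) (hcmp _)
  have h3 : IsIso ((DRing.restrictD (algebraMap A A')).map
      (TrivBC.bcMap adjρ adjα h (DTen.relAdj (algebraMap R A)) adj' (DTen.unit R) (hcmp _)) ≫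
        BCB1.conj h (DTen.relAdj (algebraMap R A)) adj'
          ((DRing.LBaseChange (algebraMap R R')).obj (DTen.unit R))) := by
    rw [h2]
    exact h1
  haveI := BCB1.isIso_conj adjρ adjα h (DTen.relAdj (algebraMap R A)) adj' hcmp
    ((DRing.LBaseChange (algebraMap R R')).obj (DTen.unit R))
  have h4 : IsIso ((DRing.restrictD (algebraMap A A')).map
      (TrivBC.bcMap adjρ adjα h (DTen.relAdj (algebraMap R A)) adj' (DTen.unit R) (hcmp _))) :=
    IsIso.of_isIso_comp_right _ (BCB1.conj h (DTen.relAdj (algebraMap R A)) adj'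
      ((DRing.LBaseChange (algebraMap R R')).obj (DTen.unit R)))
  exact BCB1.isIso_of_isIso_restrictD (algebraMap A A') _ h4

end assembly

end Groth.Agent.Helper9.BCB3
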