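import Mathlib
import Groth.Prelude.Def_TrivBC
import Groth.Prelude.Def_DRing2
import Groth.Agent.Helper9.BCA3
import Groth.Agent.Helper9.BCB3
import Groth.Agent.Helper9.BR3
import Groth.Agent.Helper6.LBCPerf

/-!
# Tor independent base change for trivial duality `RHom(A, -)`, `A` perfect over `R`
-/

set_option autoImplicit false
set_option linter.unusedSectionVars false
set_option linter.style.haveILetI false

universe u

open CategoryTheory CategoryTheory.Limits MonoidalCategory DerivedCategory

attribute [local instance] HasDerivedCategory.standard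

namespace Groth.Agent.Helper9.BCB4

open Groth.Agent.Helper6 Groth.Agent.Helper3.DRingLib

section perfect

variable {R A : Type u} [CommRing R] [CommRing A] [Algebra R A]

/-- `A` perfect as an `R`-module means the restriction of the unit of `D(A)` is perfect -/
lemma isPerfect_restrict_unit (hperf : DRing.IsPerfectModule R A) :
    DRing.IsPerfect R ((DRing.restrictD (algebraMap R A)).obj (DTen.unit A)) := by
  let e0 : (ModuleCat.restrictScalars.{u} (algebraMap R A)).obj (ModuleCat.of A A) ≅
      ModuleCat.of R A := (restrictSelfEquiv (A := R) (B := A)).toModuleIso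
  exact isPerfect_of_iso
    ((rDSingle (algebraMap R A) 0 (ModuleCat.of A A)) ≪≫
      (DerivedCategory.singleFunctor _ 0).mapIso e0).symm hperf

end perfect

theorem main (R A R' A' : Type u) [CommRing R] [CommRing A] [CommRing R'] [CommRing A']
    [Algebra R A] [Algebra R R'] [Algebra A A'] [Algebra R' A'] [Algebra R A']
    [IsScalarTower R A A'] [IsScalarTower R R' A']
    [Algebra.IsPushout R A R' A']
    (hperf : DRing.IsPerfectModule R A)
    (htor : ∀ p : ℕ, 1 ≤ p → Subsingleton (DRing.Tor R p A R'))
    [DRing.HasLBaseChange (algebraMap R R')] [DRing.HasLBaseChange (algebraMap A A')]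
    (adjρ : DRing.LBaseChange (algebraMap R R') ⊣ DRing.restrictD (algebraMap R R'))
    (adjα : DRing.LBaseChange (algebraMap A A') ⊣ DRing.restrictD (algebraMap A A'))
    (h : (algebraMap A A').comp (algebraMap R A) = (algebraMap R' A').comp (algebraMap R R'))
    (Rφ : Dual.D R ⥤ Dual.D A) (adj : DRing.restrictD (algebraMap R A) ⊣ Rφ)
    (Rφ' : Dual.D R' ⥤ Dual.D A') (adj' : DRing.restrictD (algebraMap R' A') ⊣ Rφ')
    (K : Dual.D R) (hc : IsIso (TrivBC.cmp adjρ adjα h (Rφ.obj K))) :
    IsIso (TrivBC.bcMap adjρ adjα h adj adj' K hc) := by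
  haveI : Algebra.IsPushout R R' A A' := Algebra.IsPushout.symm inferInstance
  have hcmp : ∀ K : Dual.D A, IsIso (TrivBC.cmp adjρ adjα h K) := fun K =>
    TBC7.main R A R' A' htor adjρ adjα h K
  have hA := isPerfect_restrict_unit hperf
  -- `A'` is perfect over `R'`
  have hA' : DRing.IsPerfect R' ((DRing.restrictD (algebraMap R' A')).obj (DTen.unit A')) := by
    haveI := hcmp (DTen.unit A)
    have e : (DRing.LBaseChange (algebraMap R R')).obj
        ((DRing.restrictD (algebraMap R A)).obj (DTen.unit A)) ≅
        (DRing.restrictD (algebraMap R' A')).obj (DTen.unit A') :=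
      asIso (TrivBC.cmp adjρ adjα h (DTen.unit A)) ≪≫
        (DRing.restrictD (algebraMap R' A')).mapIso (RHB3.lbcUnit (algebraMap A A') adjα)
    exact isPerfect_of_iso e (LBCPerf.isPerfect_LBaseChange (algebraMap R R') _ hA)
  -- the unit case for the canonical right adjoint
  haveI : DTen.HasRHomRel (algebraMap R A) := BR3.hasRHomRel (algebraMap R A)
  have hunit_rel := BCB3.isIso_bcMap_unit_rel (hcmp := hcmp) adjρ adjα h htor hA adj'
  -- the unit case for the given right adjoint
  have hunit : IsIso (TrivBC.bcMap adjρ adjα h adj adj' (DTen.unit R) (hcmp _)) :=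
    BCB1.isIso_bcMap_of_iso adjρ adjα h adj adj' (DTen.relAdj (algebraMap R A)) (DTen.unit R)
      (hcmp _) (hcmp _) hunit_rel
  exact BCA3.isIso_bcMap_of_unit adjρ adjα h adj adj' hcmp hA hA' hunit K

end Groth.Agent.Helper9.BCB4
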