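import Mathlib

/-! Base change of modules along a cocartesian square of rings:
`P' ⊗_P N ≅ C' ⊗_C N` for a `C`-module `N` when `C' = P' ⊗_P C`. -/

set_option autoImplicit false
set_option linter.style.haveILetI false
set_option linter.unusedVariables false
set_option linter.unusedSectionVars false
universe u

namespace Groth.Agent.Helper9.FBC2a

noncomputable section

open CategoryTheory CategoryTheory.Limits TensorProduct ChangeOfRings

variable {P C P' C' : Type u} [CommRing P] [CommRing C] [CommRing P'] [CommRing C']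
  (α : P →+* C) (ρ : P →+* P') (α' : P' →+* C') (c : C →+* C') (hsq : α'.comp ρ = c.comp α)

/-- `n ↦ 1 ⊗ n`, as a `P`-linear map -/
def gMap (N : ModuleCat.{u} C) :
    (ModuleCat.restrictScalars α).obj N ⟶
      (ModuleCat.restrictScalars ρ).obj
        ((ModuleCat.restrictScalars α').obj ((ModuleCat.extendScalars c).obj N)) :=
  ModuleCat.ofHom (X := (ModuleCat.restrictScalars α).obj N)
    (Y := (ModuleCat.restrictScalars ρ).obj
        ((ModuleCat.restrictScalars α').obj ((ModuleCat.extendScalars c).obj N)))
    { toFun := fun (n : (ModuleCat.restrictScalars α).obj N) =>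
        ((1 : C') ⊗ₜ[C,c] (n : N) : (ModuleCat.extendScalars c).obj N)
      map_add' := fun x y => by
        letI := Module.compHom C' c
        exact TensorProduct.tmul_add _ _ _
      map_smul' := fun p n => by
        letI := Module.compHom C' c
        let x : (ModuleCat.extendScalars c).obj N := (1 : C') ⊗ₜ[C] (n : N)
        let y : (ModuleCat.extendScalars c).obj N := (1 : C') ⊗ₜ[C] (α p • (n : N))
        show y = α' (ρ p) • x
        have h1 : α' (ρ p) = c (α p) := by
          have := congrArg (fun t : P →+* C' => t p) hsq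
          exact this
        have h2 : α' (ρ p) • x = ((α' (ρ p) * 1 : C') ⊗ₜ[C] (n : N) :
            (ModuleCat.extendScalars c).obj N) :=
          ModuleCat.ExtendScalars.smul_tmul c _ _ _
        rw [h2, mul_one, h1]
        show (1 : C') ⊗ₜ[C] (α p • (n : N)) = (c (α p)) ⊗ₜ[C] (n : N)
        rw [← TensorProduct.smul_tmul]
        congr 1
        show c (α p) * 1 = c (α p)
        rw [mul_one] }

/-- the canonical map `P' ⊗_P N ⟶ C' ⊗_C N` -/
def tauApp (N : ModuleCat.{u} C) :
    (ModuleCat.extendScalars ρ).obj ((ModuleCat.restrictScalars α).obj N) ⟶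
      (ModuleCat.restrictScalars α').obj ((ModuleCat.extendScalars c).obj N) :=
  (ModuleCat.ExtendRestrictScalarsAdj.homEquiv ρ).symm (gMap α ρ α' c hsq N)

lemma tauApp_tmul (N : ModuleCat.{u} C) (s : P') (n : N) :
    (tauApp α ρ α' c hsq N).hom
      ((s ⊗ₜ[P,ρ] (n : (ModuleCat.restrictScalars α).obj N) :
        (ModuleCat.extendScalars ρ).obj ((ModuleCat.restrictScalars α).obj N))) =
      ((α' s ⊗ₜ[C,c] (n : N) : (ModuleCat.extendScalars c).obj N)) := by
  letI := Module.compHom C' c
  letI := Module.compHom P' ρ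
  unfold tauApp
  erw [ModuleCat.ExtendRestrictScalarsAdj.HomEquiv.fromExtendScalars_hom_apply]
  let x : (ModuleCat.extendScalars c).obj N := (1 : C') ⊗ₜ[C] (n : N)
  show α' s • x = _
  have h2 : α' s • x = ((α' s * 1 : C') ⊗ₜ[C] (n : N) : (ModuleCat.extendScalars c).obj N) :=
    ModuleCat.ExtendScalars.smul_tmul c _ _ _
  rw [h2, mul_one]
  rfl

/-- the square `P → C`, `P → P'`, `P' → C'`, `C → C'` is cocartesian -/
def PushoutSq : Prop :=
  letI := ρ.toAlgebra
  letI := α.toAlgebra
  letI := (c.comp α).toAlgebra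
  letI := α'.toAlgebra
  letI := c.toAlgebra
  haveI : IsScalarTower P P' C' := IsScalarTower.of_algebraMap_eq' hsq.symm
  haveI : IsScalarTower P C C' := IsScalarTower.of_algebraMap_eq' rfl
  Algebra.IsPushout P P' C C'

theorem bijective_tauApp (hpo : PushoutSq α ρ α' c hsq) (N : ModuleCat.{u} C) :
    Function.Bijective (tauApp α ρ α' c hsq N).hom := by
  letI := ρ.toAlgebra
  letI := α.toAlgebra
  letI := (c.comp α).toAlgebra
  letI := α'.toAlgebra
  letI := c.toAlgebra
  haveI : IsScalarTower P P' C' := IsScalarTower.of_algebraMap_eq' hsq.symm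
  haveI : IsScalarTower P C C' := IsScalarTower.of_algebraMap_eq' rfl
  haveI : Algebra.IsPushout P P' C C' := hpo
  letI : Module P N := Module.compHom N α
  haveI : IsScalarTower P C N := IsScalarTower.of_algebraMap_smul fun r x => rfl
  let e := (Algebra.IsPushout.cancelBaseChange P P' C C' N).symm
  have he : ∀ z : P' ⊗[P] N, (tauApp α ρ α' c hsq N).hom z = e z := by
    intro z
    induction z using TensorProduct.induction_on with
    | zero => exact ((tauApp α ρ α' c hsq N).hom.map_zero).trans e.map_zero.symm
    | tmul s n =>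
      rw [Algebra.IsPushout.cancelBaseChange_symm_tmul]
      exact tauApp_tmul α ρ α' c hsq N s n
    | add x y hx hy =>
      refine ((tauApp α ρ α' c hsq N).hom.map_add x y).trans ?_
      refine Eq.trans ?_ (e.map_add x y).symm
      exact congrArg₂ (· + ·) hx hy
  have : ⇑(tauApp α ρ α' c hsq N).hom = ⇑e := funext he
  rw [this]
  exact e.bijective

theorem isIso_tauApp (hpo : PushoutSq α ρ α' c hsq) (N : ModuleCat.{u} C) :
    IsIso (tauApp α ρ α' c hsq N) := by
  rw [ConcreteCategory.isIso_iff_bijective]
  exact bijective_tauApp α ρ α' c hsq hpo N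

lemma tauApp_naturality {N N' : ModuleCat.{u} C} (k : N ⟶ N') :
    (ModuleCat.extendScalars ρ).map ((ModuleCat.restrictScalars α).map k) ≫
        tauApp α ρ α' c hsq N' =
      tauApp α ρ α' c hsq N ≫
        (ModuleCat.restrictScalars α').map ((ModuleCat.extendScalars c).map k) := by
  apply ModuleCat.ExtendScalars.hom_ext
  intro n
  have h1 := tauApp_tmul α ρ α' c hsq N (1 : P') n
  have h2 := tauApp_tmul α ρ α' c hsq N' (1 : P') (k.hom n)
  refine Eq.trans (b := ((α' 1 ⊗ₜ[C,c] (k.hom n : N') : (ModuleCat.extendScalars c).obj N'))) ?_ ?_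
  · exact h2
  · refine Eq.trans ?_ (congrArg
      ((ModuleCat.restrictScalars α').map ((ModuleCat.extendScalars c).map k)).hom h1).symm
    rfl

/-- **base change along a cocartesian square of rings** -/
def bcIso (hpo : PushoutSq α ρ α' c hsq) :
    ModuleCat.restrictScalars.{u} α ⋙ ModuleCat.extendScalars.{u, u, u} ρ ≅
      ModuleCat.extendScalars.{u, u, u} c ⋙ ModuleCat.restrictScalars.{u} α' :=
  NatIso.ofComponents
    (fun N => haveI := isIso_tauApp α ρ α' c hsq hpo N; asIso (tauApp α ρ α' c hsq N))
    (fun k => tauApp_naturality α ρ α' c hsq k)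

end

end Groth.Agent.Helper9.FBC2a
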