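import Mathlib
import Groth.Agent.Helper9.FBC2a

/-! Lifting a presentation `A[x] ↠ C` along a cocartesian square `C' = A' ⊗_A C`. -/

set_option autoImplicit false
set_option linter.style.haveILetI false
set_option linter.unusedVariables false
set_option linter.unusedSectionVars false
universe u

namespace Groth.Agent.Helper9.FBC2b

noncomputable section

open CategoryTheory CategoryTheory.Limits TensorProduct MvPolynomial
open Groth.Agent.Helper9.FBC2a

variable {A A' C C' : Type u} [CommRing A] [CommRing A'] [CommRing C] [CommRing C']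
  (a : A →+* A') (f : A →+* C) (f' : A' →+* C') (c : C →+* C')
  (hpo : IsPushout (CommRingCat.ofHom f) (CommRingCat.ofHom a) (CommRingCat.ofHom c)
    (CommRingCat.ofHom f'))
  {n : ℕ} (α : MvPolynomial (Fin n) A →+* C) (hα : α.comp MvPolynomial.C = f)

/-- `A[x] → A'[x]` -/
def rho : MvPolynomial (Fin n) A →+* MvPolynomial (Fin n) A' := MvPolynomial.map a

/-- the lifted presentation `A'[x] → C'` -/
def alpha' : MvPolynomial (Fin n) A' →+* C' :=
  MvPolynomial.eval₂Hom f' (fun i => c (α (X i)))

include hpo in
lemma comm_sq : c.comp f = f'.comp a := by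
  have := hpo.w
  exact congrArg CommRingCat.Hom.hom this

include hpo hα in
lemma sq : (alpha' f' c α).comp (rho (n := n) a) = c.comp α := by
  apply MvPolynomial.ringHom_ext
  · intro r
    have h1 : c (f r) = f' (a r) := congrArg (fun t : A →+* C' => t r) (comm_sq a f f' c hpo)
    have h2 : α (MvPolynomial.C r) = f r := congrArg (fun t : A →+* C => t r) hα
    simp [alpha', rho, h1, h2]
  · intro i
    simp [alpha', rho]

lemma alpha'_C : (alpha' f' c α).comp (MvPolynomial.C : A' →+* MvPolynomial (Fin n) A') = f' := by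
  ext r
  simp [alpha']

include hpo in
/-- the algebra form of the cocartesian square -/
lemma algIsPushout :
    letI := f.toAlgebra
    letI := a.toAlgebra
    letI := (c.comp f).toAlgebra
    letI := c.toAlgebra
    letI := f'.toAlgebra
    haveI : IsScalarTower A C C' := IsScalarTower.of_algebraMap_eq' rfl
    haveI : IsScalarTower A A' C' := IsScalarTower.of_algebraMap_eq' (comm_sq a f f' c hpo)
    Algebra.IsPushout A C A' C' := by
  letI := f.toAlgebra
  letI := a.toAlgebra
  letI := (c.comp f).toAlgebra
  letI := c.toAlgebra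
  letI := f'.toAlgebra
  haveI : IsScalarTower A C C' := IsScalarTower.of_algebraMap_eq' rfl
  haveI : IsScalarTower A A' C' := IsScalarTower.of_algebraMap_eq' (comm_sq a f f' c hpo)
  exact CommRingCat.isPushout_iff_isPushout.mp hpo

include hpo hα in
lemma alpha'_surjective (hs : Function.Surjective α) : Function.Surjective (alpha' f' c α) := by
  letI := f.toAlgebra
  letI := a.toAlgebra
  letI := (c.comp f).toAlgebra
  letI := c.toAlgebra
  letI := f'.toAlgebra
  haveI : IsScalarTower A C C' := IsScalarTower.of_algebraMap_eq' rfl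
  haveI : IsScalarTower A A' C' := IsScalarTower.of_algebraMap_eq' (comm_sq a f f' c hpo)
  have h1 : Algebra.IsPushout A C A' C' := algIsPushout a f f' c hpo
  have h2 : Algebra.IsPushout A A' C C' := h1.symm
  have hb : IsBaseChange A' (IsScalarTower.toAlgHom A C C').toLinearMap := h2.out
  intro y
  refine hb.inductionOn y (motive := fun y => ∃ x, alpha' f' c α x = y) ⟨0, map_zero _⟩ ?_ ?_ ?_
  · intro x₀
    obtain ⟨p, rfl⟩ := hs x₀
    refine ⟨rho a p, ?_⟩
    exact congrArg (fun t : MvPolynomial (Fin n) A →+* C' => t p) (sq a f f' c hpo α hα)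
  · rintro s y ⟨x, rfl⟩
    refine ⟨MvPolynomial.C s * x, ?_⟩
    rw [map_mul]
    have : alpha' f' c α (MvPolynomial.C s) = f' s :=
      congrArg (fun t : A' →+* C' => t s) (alpha'_C f' c α)
    rw [this]
    rfl
  · rintro y₁ y₂ ⟨x₁, rfl⟩ ⟨x₂, rfl⟩
    exact ⟨x₁ + x₂, map_add _ _ _⟩

include hpo hα in
/-- the lifted square `A[x] → C`, `A[x] → A'[x]`, `A'[x] → C'`, `C → C'` is cocartesian -/
theorem pushoutSq :
    PushoutSq α (rho a) (alpha' f' c α) c (sq a f f' c hpo α hα) := by
  letI := f.toAlgebra
  letI := a.toAlgebra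
  letI := (c.comp f).toAlgebra
  letI := c.toAlgebra
  letI := f'.toAlgebra
  haveI : IsScalarTower A C C' := IsScalarTower.of_algebraMap_eq' rfl
  haveI : IsScalarTower A A' C' := IsScalarTower.of_algebraMap_eq' (comm_sq a f f' c hpo)
  have h1 : Algebra.IsPushout A C A' C' := algIsPushout a f f' c hpo
  letI : Algebra (MvPolynomial (Fin n) A) C := α.toAlgebra
  letI : Algebra (MvPolynomial (Fin n) A) C' := (c.comp α).toAlgebra
  letI : Algebra (MvPolynomial (Fin n) A') C' := (alpha' f' c α).toAlgebra
  letI : Algebra (MvPolynomial (Fin n) A) (MvPolynomial (Fin n) A') :=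
    MvPolynomial.algebraMvPolynomial
  have hsq := sq a f f' c hpo α hα
  haveI : IsScalarTower (MvPolynomial (Fin n) A) C C' := IsScalarTower.of_algebraMap_eq' rfl
  haveI : IsScalarTower (MvPolynomial (Fin n) A) (MvPolynomial (Fin n) A') C' :=
    IsScalarTower.of_algebraMap_eq' hsq.symm
  haveI : IsScalarTower A (MvPolynomial (Fin n) A) C :=
    IsScalarTower.of_algebraMap_eq' hα.symm
  haveI : IsScalarTower A' (MvPolynomial (Fin n) A') C' :=
    IsScalarTower.of_algebraMap_eq' (alpha'_C f' c α).symm
  haveI : IsScalarTower A (MvPolynomial (Fin n) A) C' := by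
    refine IsScalarTower.of_algebraMap_eq' ?_
    show c.comp f = (c.comp α).comp MvPolynomial.C
    rw [RingHom.comp_assoc, hα]
  haveI : IsScalarTower A (MvPolynomial (Fin n) A') C' := by
    refine IsScalarTower.of_algebraMap_eq' ?_
    show c.comp f = (alpha' f' c α).comp (algebraMap A (MvPolynomial (Fin n) A'))
    have : (algebraMap A (MvPolynomial (Fin n) A')) =
        (MvPolynomial.C : A' →+* MvPolynomial (Fin n) A').comp a := rfl
    rw [this, ← RingHom.comp_assoc, alpha'_C, comm_sq a f f' c hpo]
  have h3 : Algebra.IsPushout (MvPolynomial (Fin n) A) C (MvPolynomial (Fin n) A') C' :=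
    (Algebra.IsPushout.comp_iff A (MvPolynomial (Fin n) A) A' (S' := MvPolynomial (Fin n) A')
      (T := C) (T' := C')).mp h1
  exact h3.symm

end

end Groth.Agent.Helper9.FBC2b
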