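import Mathlib
import Groth.Prelude.Def_TrivBC
import Groth.Prelude.Def_DRing2
import Groth.Prelude.Def_DerCA
import Groth.Agent.Helper9.TBC7
import Groth.Agent.Helper9.FBC2b
import Groth.Agent.Helper1.TorBC2
import Groth.Agent.Helper6.LBCPC
import Groth.Agent.Helper6.HasLBC
import Groth.Agent.Helper6.LBCAdj

set_option autoImplicit false
set_option linter.style.haveILetI false
set_option linter.unusedSectionVars false
set_option linter.unusedVariables false

/-!
# Tor independent base change of relative pseudo-coherence (ring level)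
-/

open CategoryTheory CategoryTheory.Limits DerivedCategory TensorProduct MvPolynomial

universe u

attribute [local instance] HasDerivedCategory.standard
attribute [local instance] MvPolynomial.algebraMvPolynomial

namespace Groth.Agent.Helper9.TBC8

open Groth.Agent.Helper9.FBC2a Groth.Agent.Helper9.FBC2b Groth.Agent.Helper3.DRingLib
  Groth.Agent.Helper1.TorLib

section TorTransfer

variable {A A' C : Type u} [CommRing A] [CommRing A'] [CommRing C] [Algebra A A'] [Algebra A C]
  {n : ℕ} [Algebra (MvPolynomial (Fin n) A) C] [IsScalarTower A (MvPolynomial (Fin n) A) C]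

/-- Tor independence passes to polynomial rings -/
theorem tor_poly (htor : ∀ p : ℕ, 1 ≤ p → Subsingleton (DRing.Tor A p C A')) (p : ℕ) (hp : 1 ≤ p) :
    Subsingleton (DRing.Tor (MvPolynomial (Fin n) A) p C (MvPolynomial (Fin n) A')) := by
  obtain ⟨φ, hφ⟩ := exists_semilinear_tor_flat_left (A := A) (A' := MvPolynomial (Fin n) A) C A' p
  haveI := htor p hp
  haveI h1 : Subsingleton (((Tor (ModuleCat.{u} (MvPolynomial (Fin n) A)) p).obj
      (ModuleCat.of (MvPolynomial (Fin n) A) C)).obj
      (ModuleCat.of (MvPolynomial (Fin n) A) (MvPolynomial (Fin n) A ⊗[A] A'))) :=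
    ⟨fun x y => by
      obtain ⟨x', rfl⟩ := hφ.2 x
      obtain ⟨y', rfl⟩ := hφ.2 y
      rw [Subsingleton.elim x' y']⟩
  have hbc : IsBaseChange (MvPolynomial (Fin n) A)
      (IsScalarTower.toAlgHom A A' (MvPolynomial (Fin n) A')).toLinearMap :=
    (inferInstance : Algebra.IsPushout A (MvPolynomial (Fin n) A) A' (MvPolynomial (Fin n) A')).out
  have e := ((Tor (ModuleCat.{u} (MvPolynomial (Fin n) A)) p).obj
      (ModuleCat.of (MvPolynomial (Fin n) A) C)).mapIso hbc.equiv.toModuleIso
  exact e.symm.toLinearEquiv.toEquiv.subsingleton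

end TorTransfer

section Restr

variable {A B B' : Type u} [CommRing A] [CommRing B] [CommRing B'] [Algebra A B] [Algebra A B']

/-- `Tor` of the algebras, in terms of restriction of scalars -/
noncomputable def torRestrIso (p : ℕ) :
    ((Tor (ModuleCat.{u} A) p).obj ((ModuleCat.restrictScalars (algebraMap A B)).obj
      (ModuleCat.of B B))).obj ((ModuleCat.restrictScalars (algebraMap A B')).obj
        (ModuleCat.of B' B')) ≅
    ((Tor (ModuleCat.{u} A) p).obj (ModuleCat.of A B)).obj (ModuleCat.of A B') :=
  ((Tor (ModuleCat.{u} A) p).mapIso (restrictSelfEquiv (A := A) (B := B)).toModuleIso).app _ ≪≫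
    ((Tor (ModuleCat.{u} A) p).obj (ModuleCat.of A B)).mapIso
      (restrictSelfEquiv (A := A) (B := B')).toModuleIso

lemma subsingleton_tor_iff (p : ℕ) :
    Subsingleton (((Tor (ModuleCat.{u} A) p).obj ((ModuleCat.restrictScalars (algebraMap A B)).obj
      (ModuleCat.of B B))).obj ((ModuleCat.restrictScalars (algebraMap A B')).obj
        (ModuleCat.of B' B'))) ↔ Subsingleton (DRing.Tor A p B B') :=
  (torRestrIso (A := A) (B := B) (B' := B') p).toLinearEquiv.toEquiv.subsingleton_congr

end Restr

section Lift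

variable {A A' C C' : Type u} [CommRing A] [CommRing A'] [CommRing C] [CommRing C']
  (a : A →+* A') (f : A →+* C) (f' : A' →+* C') (c : C →+* C')
  (hpo : IsPushout (CommRingCat.ofHom f) (CommRingCat.ofHom a) (CommRingCat.ofHom c)
    (CommRingCat.ofHom f'))
  {n : ℕ} (α : MvPolynomial (Fin n) A →+* C) (hα : α.comp MvPolynomial.C = f)

include hpo hα in
/-- pseudo-coherence along the lifted presentation, Tor independent case -/
theorem pc_lift_tor [DRing.HasLBaseChange c]
    (htor : ∀ p : ℕ, 1 ≤ p → Subsingleton (((Tor (ModuleCat.{u} A) p).obj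
      ((ModuleCat.restrictScalars f).obj (ModuleCat.of C C))).obj
        ((ModuleCat.restrictScalars a).obj (ModuleCat.of A' A'))))
    (K : Dual.D C) (m : ℤ)
    (h : DRing.IsPseudoCoherent (MvPolynomial (Fin n) A) m ((DRing.restrictD α).obj K)) :
    DRing.IsPseudoCoherent (MvPolynomial (Fin n) A') m
      ((DRing.restrictD (alpha' f' c α)).obj ((DRing.LBaseChange c).obj K)) := by
  letI := f.toAlgebra
  letI := a.toAlgebra
  letI := (c.comp f).toAlgebra
  letI := c.toAlgebra
  letI := f'.toAlgebra
  haveI : IsScalarTower A C C' := IsScalarTower.of_algebraMap_eq' rfl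
  haveI : IsScalarTower A A' C' := IsScalarTower.of_algebraMap_eq' (comm_sq a f f' c hpo)
  have h1 : Algebra.IsPushout A C A' C' := algIsPushout a f f' c hpo
  letI : Algebra (MvPolynomial (Fin n) A) C := α.toAlgebra
  letI : Algebra (MvPolynomial (Fin n) A) C' := (c.comp α).toAlgebra
  letI : Algebra (MvPolynomial (Fin n) A') C' := (alpha' f' c α).toAlgebra
  have hsq := sq a f f' c hpo α hα
  haveI : IsScalarTower (MvPolynomial (Fin n) A) C C' := IsScalarTower.of_algebraMap_eq' rfl
  haveI : IsScalarTower (MvPolynomial (Fin n) A) (MvPolynomial (Fin n) A') C' :=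
    IsScalarTower.of_algebraMap_eq' hsq.symm
  haveI : IsScalarTower A (MvPolynomial (Fin n) A) C :=
    IsScalarTower.of_algebraMap_eq' hα.symm
  haveI : IsScalarTower A' (MvPolynomial (Fin n) A') C' :=
    IsScalarTower.of_algebraMap_eq' (alpha'_C f' c α).symm
  haveI : IsScalarTower A (MvPolynomial (Fin n) A) C' := by
    refine IsScalarTower.of_algebraMap_eq' ?_
    show c.comp f = (c.comp α).comp MvPolynomial.C
    rw [RingHom.comp_assoc, hα]
  haveI : IsScalarTower A (MvPolynomial (Fin n) A') C' := by
    refine IsScalarTower.of_algebraMap_eq' ?_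
    show c.comp f = (alpha' f' c α).comp (algebraMap A (MvPolynomial (Fin n) A'))
    have : (algebraMap A (MvPolynomial (Fin n) A')) =
        (MvPolynomial.C : A' →+* MvPolynomial (Fin n) A').comp a := rfl
    rw [this, ← RingHom.comp_assoc, alpha'_C, comm_sq a f f' c hpo]
  haveI h3 : Algebra.IsPushout (MvPolynomial (Fin n) A) C (MvPolynomial (Fin n) A') C' :=
    (Algebra.IsPushout.comp_iff A (MvPolynomial (Fin n) A) A' (S' := MvPolynomial (Fin n) A')
      (T := C) (T' := C')).mp h1
  have htor₀ : ∀ p : ℕ, 1 ≤ p → Subsingleton (DRing.Tor A p C A') := fun p hp =>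
    (subsingleton_tor_iff (A := A) (B := C) (B' := A') p).mp (htor p hp)
  have htor' := tor_poly (n := n) (A := A) (A' := A') (C := C) htor₀
  haveI hL1 : DRing.HasLBaseChange (algebraMap (MvPolynomial (Fin n) A) (MvPolynomial (Fin n) A')) :=
    Groth.Agent.Helper6.HasLBC.hasLBaseChange _
  haveI hL2 : DRing.HasLBaseChange (algebraMap C C') := ‹DRing.HasLBaseChange c›
  have hsq' : (algebraMap C C').comp (algebraMap (MvPolynomial (Fin n) A) C) =
      (algebraMap (MvPolynomial (Fin n) A') C').comp
        (algebraMap (MvPolynomial (Fin n) A) (MvPolynomial (Fin n) A')) := hsq.symm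
  haveI hcmp := TBC7.main (MvPolynomial (Fin n) A) C (MvPolynomial (Fin n) A') C' htor'
    (Groth.Agent.Helper6.LBCAdj.adj
      (algebraMap (MvPolynomial (Fin n) A) (MvPolynomial (Fin n) A')))
    (Groth.Agent.Helper6.LBCAdj.adj (algebraMap C C')) hsq' K
  have h2 := Groth.Agent.Helper6.LBCPC.isPseudoCoherent_LBaseChange
    (algebraMap (MvPolynomial (Fin n) A) (MvPolynomial (Fin n) A')) _ m h
  exact isPseudoCoherent_of_iso (asIso (TrivBC.cmp (Groth.Agent.Helper6.LBCAdj.adj
      (algebraMap (MvPolynomial (Fin n) A) (MvPolynomial (Fin n) A')))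
    (Groth.Agent.Helper6.LBCAdj.adj (algebraMap C C')) hsq' K)) h2

end Lift

section Main

variable {R A R' : Type u} [CommRing R] [CommRing A] [CommRing R'] [Algebra R A] [Algebra R R']

/-- **relative pseudo-coherence is preserved by Tor independent base change** -/
theorem relPC_baseChange_tor
    (htor : ∀ p : ℕ, 0 < p → Subsingleton (DRing.Tor R p A R'))
    [DRing.HasLBaseChange
      (Algebra.TensorProduct.includeRight : A →ₐ[R] TensorProduct R R' A).toRingHom]
    (K : Dual.D A) (m : ℤ) (h : DerCA.IsRelPseudoCoherent R A m K) :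
    DerCA.IsRelPseudoCoherent R' (TensorProduct R R' A) m
      ((DRing.LBaseChange
        (Algebra.TensorProduct.includeRight : A →ₐ[R] TensorProduct R R' A).toRingHom).obj K) := by
  obtain ⟨n, α, hs, h⟩ := h
  have hpo := (CommRingCat.isPushout_tensorProduct R R' A).flip
  have hα : (α : MvPolynomial (Fin n) R →+* A).comp MvPolynomial.C = algebraMap R A := by
    ext r
    exact α.commutes r
  have htor' : ∀ p : ℕ, 1 ≤ p → Subsingleton (((Tor (ModuleCat.{u} R) p).obj
      ((ModuleCat.restrictScalars (algebraMap R A)).obj (ModuleCat.of A A))).obj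
        ((ModuleCat.restrictScalars (algebraMap R R')).obj (ModuleCat.of R' R'))) := fun p hp =>
    (subsingleton_tor_iff (A := R) (B := A) (B' := R') p).mpr (htor p hp)
  refine ⟨n, { alpha' (Algebra.TensorProduct.includeLeftRingHom : R' →+* TensorProduct R R' A)
      (Algebra.TensorProduct.includeRight : A →ₐ[R] TensorProduct R R' A).toRingHom
      (α : MvPolynomial (Fin n) R →+* A) with
    commutes' := fun r => congrArg (fun t : R' →+* TensorProduct R R' A => t r)
      (alpha'_C _ _ _) }, ?_, ?_⟩
  · exact alpha'_surjective _ _ _ _ hpo _ hα hs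
  · exact pc_lift_tor _ _ _ _ hpo _ hα htor' K m h

end Main

end Groth.Agent.Helper9.TBC8
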