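import Mathlib
import Groth.Prelude.Def_DualSh
import Groth.Agent.Helper9.BCB4
import Groth.Agent.Helper9.FB6
import Groth.Agent.Helper9.RHB3
import Groth.Agent.Helper9.TBC8
import Groth.Agent.Helper9.SV1
import Groth.Agent.Helper6.TorAmpBridge

set_option autoImplicit false
set_option linter.style.haveILetI false
set_option linter.unusedSectionVars false

/-!
# Base change for the upper shriek functor of a flat morphism of finite type
(via the base-changed presentation), along an arbitrary ring map `R → R'`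
-/

open CategoryTheory CategoryTheory.Limits DerivedCategory Pretriangulated

universe u

attribute [local instance] HasDerivedCategory.standard

namespace Groth.Agent.Helper9.FC1

open TensorProduct Groth.Agent.Helper6

attribute [local instance] Algebra.TensorProduct.rightAlgebra
attribute [local instance] MvPolynomial.algebraMvPolynomial

section perfect

variable (R A : Type u) [CommRing R] [CommRing A] [IsNoetherianRing R] [Algebra R A]
  [Module.Flat R A] (n : ℕ) [Algebra (MvPolynomial (Fin n) R) A]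
  [IsScalarTower R (MvPolynomial (Fin n) R) A] [Module.Finite (MvPolynomial (Fin n) R) A]

/-- a flat algebra of finite type over a Noetherian ring is a perfect module over the polynomial
ring of any presentation -/
theorem isPerfectModule_of_flat : DRing.IsPerfectModule (MvPolynomial (Fin n) R) A := by
  have h1 := Groth.Agent.Helper3.TorDim.hasFiniteTorDim_mvPolynomial n R A
    (Groth.Agent.Helper3.TorDim.hasFiniteTorDim_of_flat A)
  rw [Groth.Agent.Helper3.TorDim.hasFiniteTorDim_iff] at h1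
  obtain ⟨d, hd⟩ := h1
  change DRing.IsPerfect (MvPolynomial (Fin n) R) (Dual.inD (MvPolynomial (Fin n) R) A)
  rw [Groth.Agent.Helper3.DRingLib.isPerfect_iff_pc_and_torDim]
  exact ⟨FB6.isPseudoCoherentModule'_of_finite A, ⟨_, _, hd⟩⟩

end perfect

section main

variable (R R' A : Type u) [CommRing R] [CommRing R'] [CommRing A] [IsNoetherianRing R]
  [Algebra R R'] [Algebra R A] [Module.Flat R A]
  (n : ℕ) (ψ : MvPolynomial (Fin n) R →ₐ[R] A) (hψ : Function.Surjective ψ)

include hψ in
/-- the pushout square `P → A`, `P → P'`, `A → A'`, `P' → A'` and the resulting base change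
isomorphism -/
theorem core
    {Rψ : Dual.D (MvPolynomial (Fin n) R) ⥤ Dual.D A} (adj : DRing.restrictD ψ.toRingHom ⊣ Rψ)
    {Rψ' : Dual.D (MvPolynomial (Fin n) R') ⥤ Dual.D (R' ⊗[R] A)}
    (adj' : DRing.restrictD (FB6.ψ' R R' A n ψ).toRingHom ⊣ Rψ')
    [DRing.HasLBaseChange (Algebra.TensorProduct.includeRight : A →ₐ[R] R' ⊗[R] A).toRingHom]
    [DRing.HasLBaseChange (algebraMap (MvPolynomial (Fin n) R) (MvPolynomial (Fin n) R'))]
    (L : Dual.D (MvPolynomial (Fin n) R)) :
    Nonempty ((DRing.LBaseChange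
        (Algebra.TensorProduct.includeRight : A →ₐ[R] R' ⊗[R] A).toRingHom).obj (Rψ.obj L) ≅
      Rψ'.obj ((DRing.LBaseChange
        (algebraMap (MvPolynomial (Fin n) R) (MvPolynomial (Fin n) R'))).obj L)) := by
  letI algPA : Algebra (MvPolynomial (Fin n) R) A := ψ.toRingHom.toAlgebra
  letI algP'A' : Algebra (MvPolynomial (Fin n) R') (R' ⊗[R] A) :=
    (FB6.ψ' R R' A n ψ).toRingHom.toAlgebra
  letI algPA' : Algebra (MvPolynomial (Fin n) R) (R' ⊗[R] A) :=
    ((algebraMap A (R' ⊗[R] A)).comp ψ.toRingHom).toAlgebra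
  haveI t1 : IsScalarTower (MvPolynomial (Fin n) R) A (R' ⊗[R] A) :=
    IsScalarTower.of_algebraMap_eq (fun x => rfl)
  haveI t2 : IsScalarTower (MvPolynomial (Fin n) R) (MvPolynomial (Fin n) R') (R' ⊗[R] A) :=
    IsScalarTower.of_algebraMap_eq (fun x => (FB6.ψ'_map R R' A n ψ x).symm)
  haveI t3 : IsScalarTower R (MvPolynomial (Fin n) R) A :=
    IsScalarTower.of_algebraMap_eq (fun x => (ψ.commutes x).symm)
  haveI t4 : IsScalarTower R' (MvPolynomial (Fin n) R') (R' ⊗[R] A) :=
    IsScalarTower.of_algebraMap_eq (fun x => ((FB6.ψ' R R' A n ψ).commutes x).symm)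
  haveI t5 : IsScalarTower R (MvPolynomial (Fin n) R') (R' ⊗[R] A) :=
    IsScalarTower.of_algebraMap_eq (fun x => by
      rw [IsScalarTower.algebraMap_apply R R' (MvPolynomial (Fin n) R'),
        ← IsScalarTower.algebraMap_apply R' (MvPolynomial (Fin n) R') (R' ⊗[R] A),
        ← IsScalarTower.algebraMap_apply R R' (R' ⊗[R] A)])
  haveI hpush : Algebra.IsPushout (MvPolynomial (Fin n) R) A (MvPolynomial (Fin n) R')
      (R' ⊗[R] A) :=
    (Algebra.IsPushout.comp_iff R (MvPolynomial (Fin n) R) R'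
      (S' := MvPolynomial (Fin n) R') (T := A) (T' := R' ⊗[R] A)).mp inferInstance
  haveI hfin : Module.Finite (MvPolynomial (Fin n) R) A :=
    Module.Finite.of_surjective (Algebra.linearMap (MvPolynomial (Fin n) R) A) hψ
  have hperf := isPerfectModule_of_flat R A n
  have htor0 : ∀ p : ℕ, 1 ≤ p → Subsingleton (DRing.Tor R p A R') := fun p hp =>
    ((Groth.Agent.Helper6.TorAmpBridge.main2 A 0).2.mpr inferInstance) R' p (by omega)
  have htor := TBC8.tor_poly (A := R) (A' := R') (C := A) (n := n) htor0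
  have h : (algebraMap A (R' ⊗[R] A)).comp (algebraMap (MvPolynomial (Fin n) R) A) =
      (algebraMap (MvPolynomial (Fin n) R') (R' ⊗[R] A)).comp
        (algebraMap (MvPolynomial (Fin n) R) (MvPolynomial (Fin n) R')) := by
    refine RingHom.ext (fun r => ?_)
    change algebraMap A (R' ⊗[R] A) (algebraMap (MvPolynomial (Fin n) R) A r) =
      algebraMap (MvPolynomial (Fin n) R') (R' ⊗[R] A)
        (algebraMap (MvPolynomial (Fin n) R) (MvPolynomial (Fin n) R') r)
    rw [← IsScalarTower.algebraMap_apply, ← IsScalarTower.algebraMap_apply]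
  have hc := TBC7.main (MvPolynomial (Fin n) R) A (MvPolynomial (Fin n) R') (R' ⊗[R] A) htor
    (LBCAdj.adj _) (LBCAdj.adj _) h (Rψ.obj L)
  haveI := BCB4.main (MvPolynomial (Fin n) R) A (MvPolynomial (Fin n) R') (R' ⊗[R] A) hperf htor
    (LBCAdj.adj _) (LBCAdj.adj _) h Rψ adj Rψ' adj' L hc
  exact ⟨asIso (TrivBC.bcMap (LBCAdj.adj _) (LBCAdj.adj _) h adj adj' L hc)⟩

include hψ in
/-- **base change of the upper shriek of a flat morphism** (for the base-changed presentation) -/
theorem main
    [DRing.HasLBaseChange (algebraMap R (MvPolynomial (Fin n) R))]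
    {Rψ : Dual.D (MvPolynomial (Fin n) R) ⥤ Dual.D A} (adj : DRing.restrictD ψ.toRingHom ⊣ Rψ)
    [DRing.HasLBaseChange (algebraMap R' (MvPolynomial (Fin n) R'))]
    {Rψ' : Dual.D (MvPolynomial (Fin n) R') ⥤ Dual.D (R' ⊗[R] A)}
    (adj' : DRing.restrictD (FB6.ψ' R R' A n ψ).toRingHom ⊣ Rψ')
    [DRing.HasLBaseChange (Algebra.TensorProduct.includeRight : A →ₐ[R] R' ⊗[R] A).toRingHom]
    [DRing.HasLBaseChange (algebraMap R R')]
    (K : Dual.D R) :
    Nonempty ((DRing.LBaseChange
        (Algebra.TensorProduct.includeRight : A →ₐ[R] R' ⊗[R] A).toRingHom).obj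
          (Dual2.shriekVia n Rψ K) ≅
      Dual2.shriekVia n Rψ' ((DRing.LBaseChange (algebraMap R R')).obj K)) := by
  haveI := HasLBC.hasLBaseChange
    (algebraMap (MvPolynomial (Fin n) R) (MvPolynomial (Fin n) R'))
  haveI := HasLBC.hasLBaseChange (algebraMap R (MvPolynomial (Fin n) R'))
  obtain ⟨e1⟩ := core R R' A n ψ hψ adj adj'
    ((DRing.LBaseChange (algebraMap R (MvPolynomial (Fin n) R))).obj K)
  obtain ⟨e2⟩ := FB6.lbc_shift
    (Algebra.TensorProduct.includeRight : A →ₐ[R] R' ⊗[R] A).toRingHom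
    (Rψ.obj ((DRing.LBaseChange (algebraMap R (MvPolynomial (Fin n) R))).obj K)) n
  obtain ⟨c1⟩ := SV1.lbc_comp (algebraMap R (MvPolynomial (Fin n) R))
    (algebraMap (MvPolynomial (Fin n) R) (MvPolynomial (Fin n) R'))
    (algebraMap R (MvPolynomial (Fin n) R'))
    (IsScalarTower.algebraMap_eq R (MvPolynomial (Fin n) R) (MvPolynomial (Fin n) R'))
  obtain ⟨c2⟩ := SV1.lbc_comp (algebraMap R R') (algebraMap R' (MvPolynomial (Fin n) R'))
    (algebraMap R (MvPolynomial (Fin n) R'))
    (IsScalarTower.algebraMap_eq R R' (MvPolynomial (Fin n) R'))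
  exact ⟨e2 ≪≫ (shiftFunctor _ (n : ℤ)).mapIso
    (e1 ≪≫ Rψ'.mapIso ((c1.app K).symm ≪≫ c2.app K))⟩

end main

end Groth.Agent.Helper9.FC1
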