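import Mathlib
import Groth.Prelude.Def_DualSh
import Groth.Agent.Helper6.PerfDual
import Groth.Agent.Helper6.Coext4
import Groth.Agent.Helper6.RHomProj

/-!
# `RHom_P(A, P)` restricted to `P` is the dual of a perfect resolution of `A`
-/

set_option autoImplicit false
set_option linter.style.haveILetI false
set_option linter.unusedSectionVars false

universe u
open CategoryTheory CategoryTheory.Limits DerivedCategory CochainComplex
  CochainComplex.HomComplex
attribute [local instance] HasDerivedCategory.standard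

namespace Groth.Agent.Helper9.RD1
open Groth.Agent.Helper3.DRingLib Groth.Agent.Helper6.Coext Groth.Agent.Helper6.DualCx
  Groth.Agent.Helper6.HomCxPre

variable {P A : Type u} [CommRing P] [CommRing A] (ψ : P →+* A)

/-- the comparison `restrict (Hom_P(A, I)) ≅ Hom•(A[0], I)` in `D(P)` -/
noncomputable def ιIso (I : DRing.Cx P) :
    (DRing.restrictD ψ).obj (DRing.toD ((cCx ψ).obj I)) ≅
      DRing.toD (DRing.homCx (SB ψ) I) :=
  rDToD ψ ((cCx ψ).obj I) ≪≫ Q.mapIso (κ ψ I)

/-- `restrict (A[0]) ≅ (A_P)[0]` as the class of a complex -/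
noncomputable def resUnitIso :
    (DRing.restrictD ψ).obj (Dual.inD A A) ≅ DRing.toD (SB ψ) :=
  rDSingle ψ 0 (ModuleCat.of A A) ≪≫
    (DerivedCategory.singleFunctorIsoCompQ (ModuleCat.{u} P) 0).app (BA ψ)

variable (Rψ : Dual.D P ⥤ Dual.D A) (adj : DRing.restrictD ψ ⊣ Rψ)

include adj in
/-- an injective resolution `I` of `P` with `RHom_P(A, P) ≅ Hom_P(A, I)` -/
theorem exists_injective_model :
    ∃ (I : DRing.Cx P), (∀ i : ℤ, i < 0 → IsZero (I.X i)) ∧
      (∀ i : ℤ, Module.Injective P (I.X i)) ∧ I.IsKInjective ∧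
      Nonempty (DRing.toD I ≅ Dual.inD P P) ∧
      Nonempty (Rψ.obj (Dual.inD P P) ≅ DRing.toD ((cCx ψ).obj I)) := by
  obtain ⟨I, hI0, hIinj, ⟨eI⟩⟩ := exists_injective_rep (Dual.inD P P) 0
  haveI : I.IsKInjective := isKInjective_of_vanishesBelow I 0 hI0 hIinj
  have hco := (isCoext_cCx ψ I).of_iso eI
  have h2 := isCoext_of_adj ψ Rψ adj (Dual.inD P P)
  exact ⟨I, hI0, hIinj, inferInstance, ⟨eI⟩, h2.nonempty_iso hco⟩

include adj in
/-- `restrict (RHom_P(A, P)) ≅ Hom•(V, P[0])` for a bounded above complex of projectives `V`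
representing `A` -/
theorem nonempty_iso_dual (V : DRing.Cx P) (b : ℤ) (hVb : DRing.VanishesAbove V b)
    (hVp : ∀ i, Module.Projective P (V.X i))
    (eV : DRing.toD V ≅ (DRing.restrictD ψ).obj (Dual.inD A A)) :
    Nonempty ((DRing.restrictD ψ).obj (Rψ.obj (Dual.inD P P)) ≅
      DRing.toD (DRing.homCx V (sg (ModuleCat.of P P)))) := by
  obtain ⟨I, hI0, hIinj, hKI, ⟨eI⟩, ⟨eR⟩⟩ := exists_injective_model ψ Rψ adj
  haveI := hKI
  haveI : V.IsKProjective := isKProjective_of_vanishesAbove V b hVb hVp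
  obtain ⟨s, hs⟩ := Groth.Agent.Helper6.KProjQ.Q_map_surjective V (SB ψ)
    (eV.hom ≫ (resUnitIso ψ).hom)
  haveI : IsIso (Q.map s) := by
    rw [hs]
    infer_instance
  haveI : QuasiIso s := (isIso_Q_map_iff_quasiIso (ModuleCat.{u} P) s).mp inferInstance
  let eω : Dual.inD P P ≅ Q.obj (sg (ModuleCat.of P P)) :=
    (DerivedCategory.singleFunctorIsoCompQ (ModuleCat.{u} P) 0).app (ModuleCat.of P P)
  obtain ⟨t, ht⟩ := Groth.Agent.Helper9.PerfCone.exists_map_eq_of_isKInjective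
    (sg (ModuleCat.of P P)) I (eω.inv ≫ eI.inv)
  haveI : IsIso (Q.map t) := by
    rw [ht]
    infer_instance
  haveI : QuasiIso t := (isIso_Q_map_iff_quasiIso (ModuleCat.{u} P) t).mp inferInstance
  haveI := quasiIso_homCxPre s I
  haveI := Groth.Agent.Helper6.RHomProj.quasiIso_homCxMap V t
  haveI : IsIso (Q.map (homCxPre s I)) :=
    (isIso_Q_map_iff_quasiIso (ModuleCat.{u} P) _).mpr inferInstance
  haveI : IsIso (Q.map (DRing.homCxMap V t)) :=
    (isIso_Q_map_iff_quasiIso (ModuleCat.{u} P) _).mpr inferInstance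
  exact ⟨(DRing.restrictD ψ).mapIso eR ≪≫ ιIso ψ I ≪≫ asIso (Q.map (homCxPre s I)) ≪≫
    (asIso (Q.map (DRing.homCxMap V t))).symm⟩

include adj in
/-- **`RHom_P(A, P)` is perfect over `P` when `A` is.** -/
theorem exists_dual_rep (hA : DRing.IsPerfect P ((DRing.restrictD ψ).obj (Dual.inD A A))) :
    ∃ (D : DRing.Cx P) (a b : ℤ), DRing.VanishesOutside D a b ∧
      DRing.TermwiseFiniteProjective D ∧
      Nonempty ((DRing.restrictD ψ).obj (Rψ.obj (Dual.inD P P)) ≅ DRing.toD D) := by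
  obtain ⟨V, a, b, hv, hp, ⟨eV⟩⟩ := hA
  have hVb : DRing.VanishesAbove V b := fun i hi => hv i (Or.inr hi)
  obtain ⟨φ⟩ := nonempty_iso_dual ψ Rψ adj V b hVb (fun i => (hp i).2) eV
  have hPdv : DRing.VanishesOutside (DRing.homCx V (sg (ModuleCat.of P P))) (-b) (-a) := by
    intro i hi
    refine dual_term_isZero V (ModuleCat.of P P) (show -i + i = 0 by omega) (hv (-i) ?_)
    omega
  have hPdp : DRing.TermwiseFiniteProjective (DRing.homCx V (sg (ModuleCat.of P P))) :=
    fun i => dual_term_props V (show -i + i = 0 by omega) (hp (-i)).1 (hp (-i)).2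
  exact ⟨_, -b, -a, hPdv, hPdp, ⟨φ⟩⟩

end Groth.Agent.Helper9.RD1
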