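import Mathlib
import Groth.Prelude.Def_DualSh
import Groth.Agent.Helper9.RD1
import Groth.Agent.Helper9.RHB3
import Groth.Agent.Helper3.DRingRestr2

/-!
# `ω = φ^!(R)` is `R`-perfect for `φ` flat of finite type
-/

set_option autoImplicit false
set_option linter.style.haveILetI false
set_option linter.unusedSectionVars false

universe u
open CategoryTheory CategoryTheory.Limits DerivedCategory
attribute [local instance] HasDerivedCategory.standard

namespace Groth.Agent.Helper9.RD2
open Groth.Agent.Helper3.DRingLib Groth.Agent.Helper6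

variable (R A : Type u) [CommRing R] [CommRing A] [IsNoetherianRing R] [Algebra R A]
  [Module.Flat R A] (n : ℕ) (ψ : MvPolynomial (Fin n) R →ₐ[R] A) (hψ : Function.Surjective ψ)
  [DRing.HasLBaseChange (algebraMap R (MvPolynomial (Fin n) R))]
  (Rψ : Dual.D (MvPolynomial (Fin n) R) ⥤ Dual.D A) (adj : DRing.restrictD ψ.toRingHom ⊣ Rψ)

/-- `φ^!(R) ≅ RHom_P(A, P)[n]` -/
noncomputable def shriekUnitIso :
    Dual2.shriekVia n Rψ (Dual.inD R R) ≅
      (Rψ.obj (Dual.inD (MvPolynomial (Fin n) R) (MvPolynomial (Fin n) R)))⟦(n : ℤ)⟧ :=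
  (CategoryTheory.shiftFunctor _ (n : ℤ)).mapIso
    (Rψ.mapIso (Groth.Agent.Helper9.RHB3.lbcUnit (algebraMap R (MvPolynomial (Fin n) R))
      (Groth.Agent.Helper6.LBCAdj.adj _)))

include hψ adj in
/-- the restriction of `ω` to `P` is perfect -/
theorem isPerfect_restrict_shriek :
    DRing.IsPerfect (MvPolynomial (Fin n) R)
      ((DRing.restrictD ψ.toRingHom).obj (Dual2.shriekVia n Rψ (Dual.inD R R))) := by
  have hA := Groth.Agent.Helper9.RHB3.isPerfect_of_flat R A n ψ hψ
  obtain ⟨D, a, b, hv, hfp, ⟨e⟩⟩ := Groth.Agent.Helper9.RD1.exists_dual_rep ψ.toRingHom Rψ adj hA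
  have h1 : DRing.IsPerfect (MvPolynomial (Fin n) R)
      ((DRing.restrictD ψ.toRingHom).obj
        (Rψ.obj (Dual.inD (MvPolynomial (Fin n) R) (MvPolynomial (Fin n) R)))) :=
    ⟨D, a, b, hv, hfp, ⟨e.symm⟩⟩
  refine isPerfect_of_iso ((DRing.restrictD ψ.toRingHom).mapIso
    (shriekUnitIso R A n Rψ).symm) ?_
  exact isPerfect_of_iso (((DRing.restrictD ψ.toRingHom).commShiftIso (n : ℤ)).symm.app _)
    (isPerfect_shift (n : ℤ) h1)

include hψ adj in
/-- **`ω = φ^!(R)` is `R`-perfect.** -/
theorem isRelPerfect_shriek [IsNoetherianRing A] :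
    Dual2.IsRelPerfect R A (Dual2.shriekVia n Rψ (Dual.inD R R)) := by
  have hperf := isPerfect_restrict_shriek R A n ψ hψ Rψ adj
  letI : Algebra (MvPolynomial (Fin n) R) A := ψ.toRingHom.toAlgebra
  haveI : IsScalarTower R (MvPolynomial (Fin n) R) A :=
    IsScalarTower.of_algebraMap_eq (fun a => (ψ.commutes a).symm)
  haveI : Module.Finite (MvPolynomial (Fin n) R) A :=
    Module.Finite.of_surjective (Algebra.linearMap (MvPolynomial (Fin n) R) A) hψ
  have hB : DRing.IsPseudoCoherent' (MvPolynomial (Fin n) R)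
      (Dual.inD (MvPolynomial (Fin n) R) A) :=
    Groth.Agent.Helper9.FB6.isPseudoCoherentModule'_of_finite A
  refine ⟨?_, ?_⟩
  · rw [isPseudoCoherent'_rD_iff hB]
    exact ((isPerfect_iff_pc_and_torDim _).1 hperf).1
  · obtain ⟨D, a, b, hv, hfp, ⟨e⟩⟩ := hperf
    let e1 : (DRing.restrictD (algebraMap R A)).obj (Dual2.shriekVia n Rψ (Dual.inD R R)) ≅
        DRing.toD ((rCx (algebraMap R (MvPolynomial (Fin n) R))).obj D) :=
      (Groth.Agent.Helper9.SV1.restrictDComp (algebraMap R (MvPolynomial (Fin n) R))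
        ψ.toRingHom (algebraMap R A) (by
          ext x
          exact (ψ.commutes x).symm)).app _ ≪≫
      (DRing.restrictD (algebraMap R (MvPolynomial (Fin n) R))).mapIso e.symm ≪≫
      rDToD (algebraMap R (MvPolynomial (Fin n) R)) D
    refine ⟨a, b, _, ?_, ?_, ⟨e1.symm⟩⟩
    · intro i hi
      exact Functor.map_isZero (rF (algebraMap R (MvPolynomial (Fin n) R))) (hv i hi)
    · intro i
      letI : Module R (D.X i) := Module.compHom (D.X i) (algebraMap R (MvPolynomial (Fin n) R))
      haveI : IsScalarTower R (MvPolynomial (Fin n) R) (D.X i) :=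
        IsScalarTower.of_algebraMap_smul (fun r m => rfl)
      haveI : Module.Projective (MvPolynomial (Fin n) R) (D.X i) := (hfp i).2
      exact (Module.Flat.trans R (MvPolynomial (Fin n) R) (D.X i) :
        Module.Flat R (D.X i))

end Groth.Agent.Helper9.RD2
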