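import Mathlib
import Groth.Prelude.Def_DRing4
import Groth.Agent.Helper6.BiD8
import Groth.Agent.Helper6.DualFun1
import Groth.Agent.Helper6.DTenX4
import Groth.Agent.Helper6.Coext3

/-!
# Biduality for perfect complexes with respect to a K-injective complex `I` whose class has
endomorphism ring `A` and no higher self-extensions (no boundedness of `I` needed)
-/

set_option autoImplicit false
set_option linter.style.haveILetI false
set_option linter.unusedSectionVars false

universe u
open CategoryTheory CategoryTheory.Limits CochainComplex CochainComplex.HomComplex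
  Pretriangulated DerivedCategory
attribute [local instance] HasDerivedCategory.standard

namespace Groth.Agent.Helper9.RE1
open Groth.Agent.Helper3.DRingLib Groth.Agent.Helper6.BiD Groth.Agent.Helper6.DualFun
  Groth.Agent.Helper6.LocExt HomologicalComplex

variable {A : Type u} [CommRing A] (I : DRing.Cx A) [I.IsKInjective]

/-- the zero object satisfies biduality (for any K-injective `I`) -/
lemma etaAll_of_isZero' (K : Dual.D A) (hK : IsZero K) : EtaAll I K := by
  intro k j W₀ ⟨e⟩
  have hz : IsZero (DRing.toD W₀) := (Functor.map_isZero _ hK).of_iso e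
  have hs : IsZero (W₀.homology j) :=
    (Functor.map_isZero (homologyFunctor (ModuleCat.{u} A) j) hz).of_iso
      (homologyToDIso W₀ j).symm
  have hD : IsZero (DRing.toD (DRing.homCx W₀ I)) := by
    haveI : (DRing.toD (DRing.homCx W₀ I)).IsLE 0 := by
      apply isLE_of_HD
      intro i _
      haveI : Subsingleton (DRing.toD W₀ ⟶ (DRing.toD I)⟦i⟧) :=
        ⟨fun f g => hz.eq_of_src f g⟩
      exact (Psi' W₀ I i).toEquiv.subsingleton
    haveI : (DRing.toD (DRing.homCx W₀ I)).IsGE 1 := by
      apply isGE_of_HD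
      intro i _
      haveI : Subsingleton (DRing.toD W₀ ⟶ (DRing.toD I)⟦i⟧) :=
        ⟨fun f g => hz.eq_of_src f g⟩
      exact (Psi' W₀ I i).toEquiv.subsingleton
    exact TStructure.t.isZero _ 0 1
  have ht : IsZero ((DRing.homCx (DRing.homCx W₀ I) I).homology j) := by
    haveI : Subsingleton (DRing.toD (DRing.homCx W₀ I) ⟶ (DRing.toD I)⟦j⟧) :=
      ⟨fun f g => hD.eq_of_src f g⟩
    haveI : Subsingleton (Dual.HD A (DRing.toD (DRing.homCx (DRing.homCx W₀ I) I)) j) :=
      (Psi' (DRing.homCx W₀ I) I j).toEquiv.subsingleton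
    exact (ModuleCat.isZero_of_subsingleton _).of_iso (homologyToDIso _ j).symm
  exact isIso_of_isZero_homology _ j hs ht

/-- relation between the homology map of a chain map and of its class -/
lemma isIso_homologyMap_iff {V W : DRing.Cx A} (f : V ⟶ W) (j : ℤ) :
    IsIso (homologyMap f j) ↔ IsIso ((homologyFunctor (ModuleCat.{u} A) j).map (Q.map f)) := by
  have n := (homologyFunctorFactors (ModuleCat.{u} A) j).hom.naturality f
  dsimp only [Functor.comp_map] at n
  constructor
  · intro h
    have h' : IsIso ((HomologicalComplex.homologyFunctor (ModuleCat.{u} A) (ComplexShape.up ℤ) j).map f) := h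
    have e : (homologyFunctor (ModuleCat.{u} A) j).map (Q.map f) =
        (homologyFunctorFactors (ModuleCat.{u} A) j).hom.app V ≫
          (HomologicalComplex.homologyFunctor (ModuleCat.{u} A) (ComplexShape.up ℤ) j).map f ≫
          (homologyFunctorFactors (ModuleCat.{u} A) j).inv.app W := by
      rw [← reassoc_of% n]
      erw [Iso.hom_inv_id_app, Category.comp_id]
    rw [e]
    infer_instance
  · intro h
    have e : (HomologicalComplex.homologyFunctor (ModuleCat.{u} A) (ComplexShape.up ℤ) j).map f =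
        (homologyFunctorFactors (ModuleCat.{u} A) j).inv.app V ≫
          (homologyFunctor (ModuleCat.{u} A) j).map (Q.map f) ≫
          (homologyFunctorFactors (ModuleCat.{u} A) j).hom.app W := by
      rw [n, Iso.inv_hom_id_app_assoc]
    show IsIso ((HomologicalComplex.homologyFunctor (ModuleCat.{u} A) (ComplexShape.up ℤ) j).map f)
    rw [e]
    infer_instance

/-- biduality passes to retracts -/
lemma etaAll_of_retract (K Z : Dual.D A) (i : K ⟶ Z) (r : Z ⟶ K) (hir : i ≫ r = 𝟙 K)
    (hZ : EtaAll I Z) : EtaAll I K := by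
  intro k j W₀ ⟨e⟩
  let Z₀ : DRing.Cx A := Q.objPreimage (Z⟦k⟧)
  let eZ : Q.obj Z₀ ≅ Z⟦k⟧ := Q.objObjPreimageIso (Z⟦k⟧)
  let i' : Q.obj W₀ ⟶ Q.obj Z₀ := e.hom ≫ i⟦k⟧' ≫ eZ.inv
  let r' : Q.obj Z₀ ⟶ Q.obj W₀ := eZ.hom ≫ r⟦k⟧' ≫ e.inv
  have hir' : i' ≫ r' = 𝟙 _ := by
    dsimp only [i', r']
    simp only [Category.assoc, Iso.inv_hom_id_assoc]
    rw [← Functor.map_comp_assoc, hir, CategoryTheory.Functor.map_id, Category.id_comp,
      Iso.hom_inv_id]
  have hg : IsIso (homologyMap (eta Z₀ I) j) := hZ k j Z₀ ⟨eZ⟩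
  rw [isIso_homologyMap_iff] at hg ⊢
  have n1 := eta_natural I i'
  have n2 := eta_natural I r'
  have hDD : dmap I (dmap I i') ≫ dmap I (dmap I r') = 𝟙 _ := by
    rw [← dmap_comp, ← dmap_comp, hir', dmap_id, dmap_id]
  set F := homologyFunctor (ModuleCat.{u} A) j with hF
  refine ⟨⟨F.map (dmap I (dmap I i')) ≫ inv (F.map (Q.map (eta Z₀ I))) ≫ F.map r', ?_, ?_⟩⟩
  · rw [← Functor.map_comp_assoc, ← n1, Functor.map_comp_assoc, IsIso.hom_inv_id_assoc,
      ← Functor.map_comp, hir', CategoryTheory.Functor.map_id]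
  · rw [Category.assoc, Category.assoc, ← Functor.map_comp, n2, Functor.map_comp,
      IsIso.inv_hom_id_assoc, ← Functor.map_comp, hDD, CategoryTheory.Functor.map_id]

variable (hI : ∀ q, Injective (I.X q))
  (hend : Function.Bijective (fun a : A => a • 𝟙 (DRing.toD I)))
  (hext : ∀ i : ℤ, i ≠ 0 → Subsingleton (DRing.toD I ⟶ (DRing.toD I)⟦i⟧))

include hI hend hext in
/-- **biduality for perfect complexes** -/
theorem etaAll_of_isPerfect {K : Dual.D A} (hK : DRing.IsPerfect A K) : EtaAll I K :=
  Groth.Agent.Helper6.DTenX.perfect_induction (EtaAll I)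
    (fun e h => etaAll_of_iso I e h)
    (fun K hK => etaAll_of_isZero' I K hK)
    (fun T hT h1 h3 => etaAll_ext I hI T hT h1 h3)
    (fun K n h => etaAll_shift I K n h)
    (fun K Z i r hir h => etaAll_of_retract I K Z i r hir h)
    (etaAll_single I hend hext) hK

include hI hend hext in
theorem quasiIso_eta_of_isPerfect (K₀ : DRing.Cx A) (hK : DRing.IsPerfect A (DRing.toD K₀)) :
    QuasiIso (eta K₀ I) := by
  rw [quasiIso_iff]
  intro j
  rw [quasiIsoAt_iff_isIso_homologyMap]
  exact etaIso_of_etaAll I (etaAll_of_isPerfect I hI hend hext hK) j K₀ ⟨Iso.refl _⟩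

end Groth.Agent.Helper9.RE1
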