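import Mathlib
import Groth.Prelude.Def_DRing4
import Groth.Agent.Helper6.Coext4
import Groth.Agent.Helper9.RD1

/-!
# Endomorphisms and self-extensions of `Hom_P(A, I)` for a general ring map `ψ : P → A`,
assuming biduality `A ≃ Hom•(Hom•(A[0], I), I)` over `P`
-/

set_option autoImplicit false
set_option linter.style.haveILetI false
set_option linter.unusedSectionVars false

universe u
open CategoryTheory CategoryTheory.Limits Pretriangulated DerivedCategory CochainComplex
  CochainComplex.HomComplex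
attribute [local instance] HasDerivedCategory.standard

namespace Groth.Agent.Helper9.RE2
open Groth.Agent.Helper3.DRingLib Groth.Agent.Helper6.BiD Groth.Agent.Helper6.Coext
  Groth.Agent.Helper6.LocExt

section Bidual

variable {A : Type u} [CommRing A] (I : DRing.Cx A) [I.IsKInjective]
  (N : ModuleCat.{u} A) (hq : QuasiIso (eta (SN N) I))

include hq in
/-- `Ext^n(Hom•(N[0], I), I) = 0` for `n ≠ 0` -/
theorem subsingleton_hom_dual (n : ℤ) (hn : n ≠ 0) :
    Subsingleton (DRing.toD (DRing.homCx (SN N) I) ⟶ (DRing.toD I)⟦n⟧) := by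
  haveI : IsIso (Q.map (eta (SN N) I)) :=
    (DerivedCategory.isIso_Q_map_iff_quasiIso (φ := eta (SN N) I)).mpr hq
  haveI := subsingleton_HD_single N n hn
  have e1 : Dual.HD A (DRing.toD (SN N)) n ≃ₗ[A]
      Dual.HD A (DRing.toD (DRing.homCx (DRing.homCx (SN N) I) I)) n :=
    ((homologyFunctor (ModuleCat.{u} A) n).mapIso (asIso (Q.map (eta (SN N) I)))).toLinearEquiv
  exact (e1.symm.toEquiv.symm.trans (Psi' (DRing.homCx (SN N) I) I n).toEquiv).symm.subsingleton

include hq in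
/-- `N ≃ Hom(Hom•(N[0], I), I)` via evaluation -/
theorem ev_bijective :
    Function.Bijective (fun x : (SN N).X 0 =>
      (Q.map (evHom (SN N) I x (d_single N x)) :
        DRing.toD (DRing.homCx (SN N) I) ⟶ DRing.toD I)) := by
  haveI := hq
  obtain ⟨hI, hS⟩ := elementwise_of_quasiIsoAt (eta (SN N) I) (-1) 0 (0 + 1) (by norm_num) rfl
    inferInstance
  constructor
  · intro x₁ x₂ h12
    obtain ⟨H⟩ := Groth.Agent.Helper9.InjAmp.homotopy_of_Q_map_eq_of_isKInjective _ I _ _ h12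
    obtain ⟨z, hz⟩ := Cochain.equivHomotopy _ _ H
    rw [ofHom_evHom, ofHom_evHom] at hz
    have h1 : ∃ y' : (DRing.homCx (DRing.homCx (SN N) I) I).X (-1),
        ((DRing.homCx (DRing.homCx (SN N) I) I).d (-1) 0).hom y' =
          ((eta (SN N) I).f 0).hom (x₁ - x₂) := by
      refine ⟨z, ?_⟩
      show δ (-1) 0 z = etaLin (SN N) I 0 (x₁ - x₂)
      rw [map_sub]
      show δ (-1) 0 z = evCochain (SN N) I 0 x₁ - evCochain (SN N) I 0 x₂
      rw [hz, add_sub_cancel_right]
    obtain ⟨y, hy⟩ := hI (x₁ - x₂) (d_single N _) h1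
    haveI := subsingleton_single_X N (-1) (by norm_num)
    have hy0 : y = 0 := Subsingleton.elim _ _
    rw [hy0, map_zero] at hy
    exact sub_eq_zero.mp hy.symm
  · intro g
    obtain ⟨c, rfl⟩ := Groth.Agent.Helper9.PerfCone.exists_map_eq_of_isKInjective
      (DRing.homCx (SN N) I) I g
    have hc : ((DRing.homCx (DRing.homCx (SN N) I) I).d 0 (0 + 1)).hom (Cochain.ofHom c) = 0 := by
      show δ 0 (0 + 1) (Cochain.ofHom c) = 0
      exact δ_ofHom c
    obtain ⟨x, hx, w, hw⟩ := hS (Cochain.ofHom c) hc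
    refine ⟨x, ?_⟩
    have hw' : δ (-1) 0 w = Cochain.ofHom c - evCochain (SN N) I 0 x := hw
    have hz : Cochain.ofHom c = δ (-1) 0 w +
        Cochain.ofHom (evHom (SN N) I x (d_single N x)) := by
      rw [ofHom_evHom, hw', sub_add_cancel]
    have H : Homotopy c (evHom (SN N) I x (d_single N x)) :=
      (Cochain.equivHomotopy _ _).symm ⟨w, hz⟩
    exact (Groth.Agent.Helper6.KProjQ.Q_map_eq_of_homotopy H).symm

end Bidual

section Main

variable {P A : Type u} [CommRing P] [CommRing A] (ψ : P →+* A) (I : DRing.Cx P)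
  [I.IsKInjective] (hq : QuasiIso (eta (SN (BA ψ)) I))

include hq in
/-- `A ≃ End(Hom_P(A, I))` -/
theorem end_bijective :
    Function.Bijective (fun x : A => x • 𝟙 (DRing.toD ((cCx ψ).obj I))) := by
  have hco := isCoext_cCx ψ I
  have hΦ := hco (DRing.toD ((cCx ψ).obj I))
  refine (Function.Bijective.of_comp_iff' hΦ _).mp ?_
  have hcomp : (fun g : DRing.toD ((cCx ψ).obj I) ⟶ DRing.toD ((cCx ψ).obj I) =>
        (DRing.restrictD ψ).map g ≫ ε₀ ψ I) ∘
      (fun x : A => x • 𝟙 (DRing.toD ((cCx ψ).obj I))) =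
      (fun t : DRing.toD (DRing.homCx (SB ψ) I) ⟶ DRing.toD I =>
        (Groth.Agent.Helper9.RD1.ιIso ψ I).hom ≫ t) ∘
      (fun x : (SN (BA ψ)).X 0 =>
        (Q.map (evHom (SN (BA ψ)) I x (d_single _ x)) :
          DRing.toD (DRing.homCx (SN (BA ψ)) I) ⟶ DRing.toD I)) ∘
      xB ψ := by
    funext x
    show (DRing.restrictD ψ).map (x • 𝟙 (DRing.toD ((cCx ψ).obj I))) ≫ ε₀ ψ I =
      (Groth.Agent.Helper9.RD1.ιIso ψ I).hom ≫ Q.map (evHom (SB ψ) I (xB ψ x) (d_xB _ _))
    have h1 : x • 𝟙 (DRing.toD ((cCx ψ).obj I)) = Q.map (x • 𝟙 ((cCx ψ).obj I)) := by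
      rw [Functor.map_smul, CategoryTheory.Functor.map_id]
    rw [h1, rD_map_comp_ε₀, smul_counit_eq, Functor.map_comp]
    simp only [Groth.Agent.Helper9.RD1.ιIso, Iso.trans_hom, Functor.mapIso_hom, Category.assoc]
  rw [hcomp]
  refine Function.Bijective.comp ⟨?_, ?_⟩ (Function.Bijective.comp
    (ev_bijective I (BA ψ) hq) (xB_bijective ψ))
  · intro t t' htt
    exact (cancel_epi (Groth.Agent.Helper9.RD1.ιIso ψ I).hom).mp htt
  · intro t
    exact ⟨(Groth.Agent.Helper9.RD1.ιIso ψ I).inv ≫ t, by simp⟩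

include hq in
/-- no higher self-extensions of `Hom_P(A, I)` -/
theorem ext_subsingleton (n : ℤ) (hn : n ≠ 0) :
    Subsingleton (DRing.toD ((cCx ψ).obj I) ⟶ (DRing.toD ((cCx ψ).obj I))⟦n⟧) := by
  have hco := isCoext_cCx ψ I
  haveI := subsingleton_hom_dual I (BA ψ) hq n hn
  haveI : Subsingleton ((DRing.restrictD ψ).obj (DRing.toD ((cCx ψ).obj I)) ⟶
      (DRing.toD I)⟦n⟧) :=
    (Iso.homCongr (Groth.Agent.Helper9.RD1.ιIso ψ I) (Iso.refl ((DRing.toD I)⟦n⟧))).subsingleton
  exact (hco.homShiftEquiv _ n).subsingleton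

end Main

end Groth.Agent.Helper9.RE2
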