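import Mathlib
import Groth.Prelude.Def_DualSh
import Groth.Agent.Helper9.RE1
import Groth.Agent.Helper9.RE2
import Groth.Agent.Helper9.RD2
import Groth.Agent.Helper6.DualSelf
import Groth.Agent.Helper6.LD5

/-!
# `ω = φ^!(R)` for `φ` flat of finite type: `End(ω) = A` and no self-extensions
-/

set_option autoImplicit false
set_option linter.style.haveILetI false
set_option linter.unusedSectionVars false

universe u
open CategoryTheory CategoryTheory.Limits DerivedCategory Abelian
attribute [local instance] HasDerivedCategory.standard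

namespace Groth.Agent.Helper9.RE3
open Groth.Agent.Helper3.DRingLib Groth.Agent.Helper6 Groth.Agent.Helper6.Coext

section Generic

variable {A : Type u} [CommRing A]

/-- `A ≃ End(X)` via scalars and `X` has no self-maps of nonzero degree -/
def SelfDual (X : Dual.D A) : Prop :=
  Function.Bijective (fun a : A => a • 𝟙 X) ∧ ∀ i : ℤ, i ≠ 0 → Subsingleton (X ⟶ X⟦i⟧)

lemma selfDual_of_iso {X Y : Dual.D A} (e : X ≅ Y) (h : SelfDual X) : SelfDual Y := by
  obtain ⟨hbij, hext⟩ := h
  refine ⟨?_, ?_⟩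
  · have h1 : (fun x : A => x • 𝟙 Y) = (Iso.homCongr e e) ∘ (fun x : A => x • 𝟙 X) := by
      funext x
      show x • 𝟙 Y = e.inv ≫ (x • 𝟙 X) ≫ e.hom
      rw [Linear.smul_comp, Linear.comp_smul, Category.id_comp, e.inv_hom_id]
    rw [h1]
    exact (Iso.homCongr e e).bijective.comp hbij
  · intro i hi
    haveI := hext i hi
    exact (Iso.homCongr e ((shiftFunctor (Dual.D A) i).mapIso e)).symm.subsingleton

lemma selfDual_shift (X : Dual.D A) (h : SelfDual X) (n : ℤ) : SelfDual (X⟦n⟧) := by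
  refine ⟨⟨fun x y hxy => ?_, fun g => ?_⟩, fun i hi => ?_⟩
  · have hxy' : x • 𝟙 (X⟦n⟧) = y • 𝟙 (X⟦n⟧) := hxy
    have h' := Groth.Agent.Helper6.BiD.smul_id_shift_eq_zero X h.1.1 n (x - y)
      (by rw [sub_smul]; exact sub_eq_zero.mpr hxy')
    exact sub_eq_zero.mp h'
  · obtain ⟨c, hc⟩ := Groth.Agent.Helper6.BiD.end_shift_eq_smul X h.1.2 n g
    exact ⟨c, hc.symm⟩
  · haveI := Groth.Agent.Helper6.BiD.subsingleton_hom_shift X h.2 n (n + i) (by omega)
    exact (Groth.Agent.Helper6.LD.homShiftShiftEquiv (X⟦n⟧) X n i (n + i) rfl).toEquiv.subsingleton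

variable (A) in
lemma selfDual_unit : SelfDual (Dual.inD A A) := by
  letI hExt : HasExt.{u + 1} (ModuleCat.{u} A) := hasExt_of_hasDerivedCategory _
  refine ⟨DualSelf.smul_id_inD_bijective A, ?_⟩
  intro i hi
  rcases lt_or_gt_of_ne hi with h | h
  · exact DualSelf.subsingleton_neg A _ _ i h
  · obtain ⟨k, rfl⟩ := Int.eq_ofNat_of_zero_le (by omega : 0 ≤ i)
    rw [DualSelf.subsingleton_iff]
    obtain ⟨r, rfl⟩ : ∃ r, k = r + 1 := ⟨k - 1, by omega⟩
    have hP : Projective (ModuleCat.of A A) := (IsProjective.iff_projective _).1 inferInstance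
    exact ⟨fun x y => by
      rw [Ext.eq_zero_of_projective (P := ModuleCat.of A A) x,
        Ext.eq_zero_of_projective (P := ModuleCat.of A A) y]⟩

end Generic

section RHomUnit

variable {P A : Type u} [CommRing P] [CommRing A] (ψ : P →+* A)
  (Rψ : Dual.D P ⥤ Dual.D A) (adj : DRing.restrictD ψ ⊣ Rψ)
  (hA : DRing.IsPerfect P ((DRing.restrictD ψ).obj (Dual.inD A A)))

include adj hA in
/-- `RHom_P(A, P)` has endomorphism ring `A` and no self-extensions when `A` is perfect
over `P` -/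
theorem selfDual_rhom_unit : SelfDual (Rψ.obj (Dual.inD P P)) := by
  obtain ⟨I, hI0, hIinj, hKI, ⟨eI⟩, ⟨eR⟩⟩ :=
    Groth.Agent.Helper9.RD1.exists_injective_model ψ Rψ adj
  haveI := hKI
  have hI : ∀ q, Injective (I.X q) := Groth.Agent.Helper6.BiD.injective_X I hIinj
  have hsd : SelfDual (DRing.toD I) := selfDual_of_iso eI.symm (selfDual_unit P)
  have hperf : DRing.IsPerfect P (DRing.toD (SN (BA ψ))) :=
    isPerfect_of_iso (Groth.Agent.Helper9.RD1.resUnitIso ψ) hA
  have hq := Groth.Agent.Helper9.RE1.quasiIso_eta_of_isPerfect I hI hsd.1 hsd.2 (SN (BA ψ)) hperf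
  refine selfDual_of_iso eR.symm ⟨?_, ?_⟩
  · exact Groth.Agent.Helper9.RE2.end_bijective ψ I hq
  · exact Groth.Agent.Helper9.RE2.ext_subsingleton ψ I hq

end RHomUnit

section Shriek

variable (R A : Type u) [CommRing R] [CommRing A] [IsNoetherianRing R] [Algebra R A]
  [Module.Flat R A] (n : ℕ) (ψ : MvPolynomial (Fin n) R →ₐ[R] A) (hψ : Function.Surjective ψ)
  [DRing.HasLBaseChange (algebraMap R (MvPolynomial (Fin n) R))]
  (Rψ : Dual.D (MvPolynomial (Fin n) R) ⥤ Dual.D A) (adj : DRing.restrictD ψ.toRingHom ⊣ Rψ)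

include hψ adj in
/-- **`End(ω) = A` and `Ext^i(ω, ω) = 0` for `ω = φ^!(R)`, `φ` flat of finite type.** -/
theorem selfDual_shriek : SelfDual (Dual2.shriekVia n Rψ (Dual.inD R R)) := by
  have hA := Groth.Agent.Helper9.RHB3.isPerfect_of_flat R A n ψ hψ
  have h1 := selfDual_rhom_unit ψ.toRingHom Rψ adj hA
  exact selfDual_of_iso (Groth.Agent.Helper9.RD2.shriekUnitIso R A n Rψ).symm
    (selfDual_shift _ h1 (n : ℤ))

end Shriek

end Groth.Agent.Helper9.RE3
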