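import Mathlib
import Groth.Prelude.Def_DualSh
import Groth.Agent.Helper9.RE3
import Groth.Agent.Helper9.FC1
import Groth.Agent.Helper9.BR3
import Groth.Agent.Helper6.DFinExt
import Groth.Agent.Helper6.LocExt4
import Groth.Agent.S1782

/-!
# Properties of `ω = φ^!(R)` for `φ` flat of finite type (assembly for S1801)
-/

set_option autoImplicit false
set_option linter.style.haveILetI false
set_option linter.unusedSectionVars false

universe u
open CategoryTheory CategoryTheory.Limits DerivedCategory Abelian
open scoped TensorProduct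
attribute [local instance] HasDerivedCategory.standard

namespace Groth.Agent.Helper9.RE4
open Groth.Agent.Helper3.DRingLib Groth.Agent.Helper6

section Generic

variable {A : Type u} [CommRing A]

/-- cohomology of a complex of finite modules over a Noetherian ring is finite -/
lemma finite_HD_toD [IsNoetherianRing A] (E : DRing.Cx A) (hE : ∀ i, Module.Finite A (E.X i))
    (i : ℤ) : Module.Finite A (Dual.HD A (DRing.toD E) i) := by
  let e := ((homologyToDIso E i) ≪≫ homologyIsoQuot E i).toLinearEquiv
  suffices h : Module.Finite A ((E.sc' (i - 1) i (i + 1)).moduleCatLeftHomologyData.H) from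
    Module.Finite.equiv e.symm
  change Module.Finite A (LinearMap.ker (E.sc' (i - 1) i (i + 1)).g.hom ⧸
    LinearMap.range (E.sc' (i - 1) i (i + 1)).moduleCatToCycles)
  haveI : Module.Finite A (E.sc' (i - 1) i (i + 1)).X₂ := hE i
  haveI : IsNoetherian A (E.sc' (i - 1) i (i + 1)).X₂ :=
    isNoetherian_of_isNoetherianRing_of_finite A _
  infer_instance

/-- pseudo-coherent objects over a Noetherian ring have finite cohomology modules -/
lemma finite_HD_of_isPseudoCoherent' [IsNoetherianRing A] (K : Dual.D A)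
    (hK : DRing.IsPseudoCoherent' A K) (i : ℤ) : Module.Finite A (Dual.HD A K i) := by
  obtain ⟨E, b, -, hff, ⟨e⟩⟩ := hK
  haveI := finite_HD_toD E (fun j => (hff j).1) i
  exact Module.Finite.equiv ((homologyFunctor (ModuleCat.{u} A) i).mapIso e).toLinearEquiv

/-- a field is a dualizing complex over itself -/
lemma isDualizing_field (k : Type u) [Field k] : Dual.IsDualizing k (Dual.inD k k) := by
  haveI : Module.Injective k (ModuleCat.of k k) := Module.injective_of_isSemisimpleRing k k
  haveI : Injective (ModuleCat.of k k) := Module.injective_object_of_injective_module k _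
  exact DualSelf.isDualizing_of_injdim k 1 inferInstance

end Generic

section Main

variable (R A : Type u) [CommRing R] [CommRing A] [IsNoetherianRing R] [IsNoetherianRing A]
  [Algebra R A] [Module.Flat R A] (n : ℕ) (ψ : MvPolynomial (Fin n) R →ₐ[R] A)
  (hψ : Function.Surjective ψ)
  [DRing.HasLBaseChange (algebraMap R (MvPolynomial (Fin n) R))]
  (Rψ : Dual.D (MvPolynomial (Fin n) R) ⥤ Dual.D A) (adj : DRing.restrictD ψ.toRingHom ⊣ Rψ)

include hψ adj in
/-- `ω` has bounded cohomology -/
theorem bounded :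
    ∃ a b : ℤ, ∀ i : ℤ, (i < a ∨ b < i) →
      Subsingleton (Dual.HD A (Dual2.shriekVia n Rψ (Dual.inD R R)) i) := by
  obtain ⟨D, a, b, hv, -, ⟨e⟩⟩ := Groth.Agent.Helper9.RD2.isPerfect_restrict_shriek R A n ψ hψ Rψ adj
  refine ⟨a, b, fun i hi => ?_⟩
  haveI := DFinExt.subsingleton_HD_toD D i (hv i hi)
  haveI : Subsingleton (Dual.HD (MvPolynomial (Fin n) R) ((DRing.restrictD ψ.toRingHom).obj
      (Dual2.shriekVia n Rψ (Dual.inD R R))) i) :=
    ((homologyFunctor (ModuleCat.{u} (MvPolynomial (Fin n) R)) i).mapIso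
      e).toLinearEquiv.symm.toEquiv.subsingleton
  exact (subsingleton_HD_rD_iff ψ.toRingHom _ i).mp inferInstance

include hψ adj in
/-- `ω` has finite cohomology modules -/
theorem finite (i : ℤ) :
    Module.Finite A (Dual.HD A (Dual2.shriekVia n Rψ (Dual.inD R R)) i) :=
  finite_HD_of_isPseudoCoherent' _
    (Groth.Agent.Helper9.RD2.isRelPerfect_shriek R A n ψ hψ Rψ adj).1 i

include hψ adj in
/-- the base change of `ω` to a fibre is dualizing -/
theorem fibre (k : Type u) [Field k] [Algebra R k]
    [DRing.HasLBaseChange (Algebra.TensorProduct.includeRight : A →ₐ[R] k ⊗[R] A).toRingHom] :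
    Dual.IsDualizing (k ⊗[R] A)
      ((DRing.LBaseChange (Algebra.TensorProduct.includeRight : A →ₐ[R] k ⊗[R] A).toRingHom).obj
        (Dual2.shriekVia n Rψ (Dual.inD R R))) := by
  haveI := HasLBC.hasLBaseChange (algebraMap k (MvPolynomial (Fin n) k))
  haveI := HasLBC.hasLBaseChange (algebraMap R k)
  haveI := Groth.Agent.Helper9.BR3.isLeftAdjoint_restrictD
    (Groth.Agent.Helper9.FB6.ψ' R k A n ψ).toRingHom
  have adj'' := Adjunction.ofIsLeftAdjoint
    (DRing.restrictD (Groth.Agent.Helper9.FB6.ψ' R k A n ψ).toRingHom)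
  obtain ⟨e1⟩ := Groth.Agent.Helper9.FC1.main R k A n ψ hψ adj adj'' (Dual.inD R R)
  have hsurj := Groth.Agent.Helper9.FB6.ψ'_surjective (R' := k) hψ
  haveI : IsNoetherianRing (k ⊗[R] A) :=
    isNoetherianRing_of_surjective _ _ (Groth.Agent.Helper9.FB6.ψ' R k A n ψ).toRingHom hsurj
  have hd := Groth.Agent.S1782.result k (k ⊗[R] A) n (Groth.Agent.Helper9.FB6.ψ' R k A n ψ) hsurj
    _ adj'' (Dual.inD k k) (isDualizing_field k)
  let u := Groth.Agent.Helper9.RHB3.lbcUnit (algebraMap R k) (LBCAdj.adj _)
  refine LocExt.isDualizing_of_iso ?_ hd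
  exact ((shiftFunctor _ (n : ℤ)).mapIso ((Functor.rightAdjoint
    (DRing.restrictD (Groth.Agent.Helper9.FB6.ψ' R k A n ψ).toRingHom)).mapIso
    ((DRing.LBaseChange (algebraMap k (MvPolynomial (Fin n) k))).mapIso u))).symm ≪≫ e1.symm

end Main

end Groth.Agent.Helper9.RE4
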