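import Groth.Agent.Helper9.NoethObj
import Mathlib

/-!
# Object properties closed under quotients and extensions: finite sups and finite biproducts
-/

set_option autoImplicit false

namespace Groth.Agent.Helper9.NoethObj

open CategoryTheory CategoryTheory.Limits
open Groth.Agent.Helper9.FM

universe v u

variable {C : Type u} [Category.{v} C] [Abelian C]

attribute [local instance] Abelian.hasFiniteBiproducts

theorem m_sum {ι : Type*} (s : Finset ι) {X Y : C} (f : ι → (X ⟶ Y)) :
    m (∑ i ∈ s, f i) = ∑ i ∈ s, m (f i) := by
  classical
  induction s using Finset.induction_on with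
  | empty => simp
  | insert a s ha ih => rw [Finset.sum_insert ha, Finset.sum_insert ha, m_add, ih]

/-- A class of objects closed under zero objects, quotients and extensions. -/
structure QEClass (P : C → Prop) : Prop where
  zero : ∀ X : C, IsZero X → P X
  epi : ∀ {X Y : C} (p : X ⟶ Y), Epi p → P X → P Y
  ext : ∀ S : ShortComplex C, S.ShortExact → P S.X₁ → P S.X₃ → P S.X₂

theorem qe_noeth : QEClass (fun X : C => IsNoetherianObject X) where
  zero X hX := isNoetherianObject_of_isZero hX
  epi p _ h := by haveI := h; exact isNoetherianObject_of_epi p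
  ext S hS h1 h3 := by haveI := h1; haveI := h3; exact isNoetherianObject_of_shortExact S hS

theorem qe_art : QEClass (fun X : C => IsArtinianObject X) where
  zero X hX := isArtinianObject_of_isZero hX
  epi p _ h := by haveI := h; exact isArtinianObject_of_epi p
  ext S hS h1 h3 := by haveI := h1; haveI := h3; exact isArtinianObject_of_shortExact S hS

variable {P : C → Prop} (hP : QEClass P)

include hP in
theorem QEClass.of_iso {X Y : C} (e : X ≅ Y) (h : P X) : P Y :=
  hP.epi e.hom inferInstance h

include hP in
/-- sup of a subobject in the class with the image of a map from an object of the class -/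
theorem QEClass.sup_image {X N : C} (T : Subobject X) (hT : P (T : C)) (g : N ⟶ X) (hN : P N) :
    P ((T ⊔ imageSubobject g : Subobject X) : C) := by
  set U : Subobject X := T ⊔ imageSubobject g with hU
  let i : (T : C) ⟶ (U : C) := Subobject.ofLE T U le_sup_left
  have hfac0 : (imageSubobject g).Factors g := by
    have := Subobject.factors_comp_arrow (P := imageSubobject g) (factorThruImageSubobject g)
    rwa [imageSubobject_arrow_comp] at this
  have hfac : U.Factors g := Subobject.factors_of_le _ le_sup_right hfac0
  let e : N ⟶ (U : C) := U.factorThru g hfac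
  have he : e ≫ U.arrow = g := Subobject.factorThru_arrow _ _ _
  have hi : i ≫ U.arrow = T.arrow := Subobject.ofLE_arrow _
  let S : ShortComplex C := ShortComplex.mk i (cokernel.π i) (cokernel.condition i)
  have hS : S.ShortExact :=
    { exact := ShortComplex.exact_of_g_is_cokernel _ (cokernelIsCokernel i)
      mono_f := by dsimp [S]; infer_instance
      epi_g := by dsimp [S]; infer_instance }
  refine hP.ext S hS hT ?_
  refine hP.epi (e ≫ cokernel.π i) ?_ hN
  rw [epi_iff]
  intro q
  obtain ⟨x, rfl⟩ := (epi_iff (cokernel.π i)).1 inferInstance q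
  have hx : m U.arrow x ∈ sub T ⊔ LinearMap.range (m g) := by
    rw [← sub_image, ← FM.sub_sup]; exact ⟨x, rfl⟩
  obtain ⟨t', ⟨t, rfl⟩, y', ⟨y, rfl⟩, hty⟩ := Submodule.mem_sup.1 hx
  have hinj : Function.Injective (m U.arrow) := (mono_iff _).1 inferInstance
  have hxe : x = m i t + m e y := by
    apply hinj
    rw [map_add, ← m_comp_apply, ← m_comp_apply, hi, he]
    exact hty.symm
  refine ⟨y, ?_⟩
  rw [m_comp_apply, hxe, map_add, ← m_comp_apply i, cokernel.condition]
  simp

include hP in
theorem QEClass.finset_sup {X : C} {ι : Type*} (s : Finset ι) (N : ι → C) (g : ∀ i, N i ⟶ X)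
    (hN : ∀ i, P (N i)) : P ((s.sup (fun i => imageSubobject (g i)) : Subobject X) : C) := by
  classical
  induction s using Finset.induction_on with
  | empty =>
    rw [Finset.sup_empty]
    apply hP.zero
    rw [isZero_iff]
    refine ⟨fun a b => ?_⟩
    have hinj : Function.Injective (m (⊥ : Subobject X).arrow) := (mono_iff _).1 inferInstance
    apply hinj
    rw [Subobject.bot_arrow]; simp
  | insert a s ha ih =>
    rw [Finset.sup_insert, sup_comm]
    exact hP.sup_image _ ih (g a) (hN a)

include hP in
/-- if every element is a finite sum of images from objects of the class, the target is in the class -/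
theorem QEClass.of_span {X : C} {ι : Type*} [Fintype ι] (N : ι → C) (g : ∀ i, N i ⟶ X)
    (hN : ∀ i, P (N i))
    (hspan : ∀ x : (F C).obj X, ∃ y : ∀ i, (F C).obj (N i), x = ∑ i, m (g i) (y i)) : P X := by
  have h := hP.finset_sup (Finset.univ : Finset ι) N g hN
  have htop : (Finset.univ.sup (fun i => imageSubobject (g i)) : Subobject X) = ⊤ := by
    rw [eq_iff_sub_eq, sub_top, eq_top_iff]
    intro x _
    obtain ⟨y, rfl⟩ := hspan x
    apply Submodule.sum_mem
    intro i _
    have hle : imageSubobject (g i) ≤ Finset.univ.sup (fun i => imageSubobject (g i)) :=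
      Finset.le_sup (f := fun i => imageSubobject (g i)) (Finset.mem_univ i)
    apply (sub_le_iff _ _).1 hle
    rw [sub_image]
    exact ⟨_, rfl⟩
  rw [htop] at h
  exact hP.of_iso (asIso (⊤ : Subobject X).arrow) h

theorem biproduct_elem {ι : Type} [Fintype ι] (f : ι → C) (w : (F C).obj (⨁ f)) :
    w = ∑ i, m (biproduct.ι f i) (m (biproduct.π f i) w) := by
  classical
  have h : (𝟙 (⨁ f) : ⨁ f ⟶ ⨁ f) = ∑ i, biproduct.π f i ≫ biproduct.ι f i := biproduct.total.symm
  have := congrArg (fun φ => m φ w) h
  simp only [m_id, LinearMap.id_apply] at this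
  rw [m_sum, LinearMap.sum_apply] at this
  simp only [m_comp_apply] at this
  exact this

include hP in
theorem QEClass.biproduct {ι : Type} [Fintype ι] (f : ι → C) (hf : ∀ i, P (f i)) : P (⨁ f) := by
  refine hP.of_span f (fun i => biproduct.ι f i) hf (fun w => ⟨fun i => m (biproduct.π f i) w, ?_⟩)
  exact biproduct_elem f w

end Groth.Agent.Helper9.NoethObj
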