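import Groth.Agent.Helper9.FM2
import Mathlib

set_option autoImplicit false

namespace Groth.Agent.Helper9.ConstChain

open CategoryTheory CategoryTheory.Limits Opposite
open Groth.Agent.Helper9.FM

universe v u

variable {C : Type u} [Category.{v} C] [Abelian C] (M : C)

/-- the range of the `n`-th component of a subobject of the constant diagram -/
noncomputable def rg (Z : Subobject ((Functor.const ℕ).obj M : ℕ ⥤ C)) (n : ℕ) :
    Submodule (R C) ((F C).obj M) :=
  LinearMap.range (m (Z.arrow.app n))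

instance (Z : Subobject ((Functor.const ℕ).obj M : ℕ ⥤ C)) (n : ℕ) : Mono (Z.arrow.app n) :=
  (NatTrans.mono_iff_mono_app Z.arrow).1 inferInstance n

/-- the `n`-th component as a subobject of `M` -/
noncomputable def comp (Z : Subobject ((Functor.const ℕ).obj M : ℕ ⥤ C)) (n : ℕ) : Subobject M :=
  Subobject.mk (Z.arrow.app n)

theorem sub_comp (Z : Subobject ((Functor.const ℕ).obj M : ℕ ⥤ C)) (n : ℕ) :
    sub (comp M Z n) = rg M Z n := sub_mk _

theorem rg_mono_left {Z Z' : Subobject ((Functor.const ℕ).obj M : ℕ ⥤ C)} (h : Z ≤ Z') (n : ℕ) :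
    rg M Z n ≤ rg M Z' n := by
  rintro _ ⟨x, rfl⟩
  refine ⟨m ((Subobject.ofLE Z Z' h).app n) x, ?_⟩
  rw [← m_comp_apply, ← NatTrans.comp_app, Subobject.ofLE_arrow]

theorem rg_mono_right (Z : Subobject ((Functor.const ℕ).obj M : ℕ ⥤ C)) {n n' : ℕ} (h : n ≤ n') :
    rg M Z n ≤ rg M Z n' := by
  rintro _ ⟨x, rfl⟩
  refine ⟨m ((Subobject.underlying.obj Z).map (homOfLE h)) x, ?_⟩
  rw [← m_comp_apply]
  have := Z.arrow.naturality (homOfLE h)
  rw [this]
  simp

theorem le_of_rg_le {Z Z' : Subobject ((Functor.const ℕ).obj M : ℕ ⥤ C)}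
    (h : ∀ n, rg M Z n ≤ rg M Z' n) : Z ≤ Z' := by
  have hex : ∀ n : ℕ, ∃ l : (Subobject.underlying.obj Z).obj n ⟶ (Subobject.underlying.obj Z').obj n,
      l ≫ Z'.arrow.app n = Z.arrow.app n := fun n => exists_lift_of_range_le _ _ (h n)
  let g : ∀ n : ℕ, (Subobject.underlying.obj Z).obj n ⟶ (Subobject.underlying.obj Z').obj n :=
    fun n => (hex n).choose
  have hg : ∀ n : ℕ, g n ≫ Z'.arrow.app n = Z.arrow.app n := fun n => (hex n).choose_spec
  let G : Subobject.underlying.obj Z ⟶ Subobject.underlying.obj Z' :=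
    { app := g
      naturality := fun n n' f => by
        rw [← cancel_mono (Z'.arrow.app n'), Category.assoc, Category.assoc, hg,
          Z'.arrow.naturality f, ← Category.assoc, hg, Z.arrow.naturality f] }
  refine Subobject.le_of_comm G ?_
  apply NatTrans.ext
  funext n
  exact hg n

theorem comp_mono_left {Z Z' : Subobject ((Functor.const ℕ).obj M : ℕ ⥤ C)} (h : Z ≤ Z') (n : ℕ) :
    comp M Z n ≤ comp M Z' n := by
  rw [sub_le_iff, sub_comp, sub_comp]; exact rg_mono_left M h n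

theorem comp_mono_right (Z : Subobject ((Functor.const ℕ).obj M : ℕ ⥤ C)) {n n' : ℕ} (h : n ≤ n') :
    comp M Z n ≤ comp M Z n' := by
  rw [sub_le_iff, sub_comp, sub_comp]; exact rg_mono_right M Z h

theorem le_of_comp_le {Z Z' : Subobject ((Functor.const ℕ).obj M : ℕ ⥤ C)}
    (h : ∀ n, comp M Z n ≤ comp M Z' n) : Z ≤ Z' := by
  apply le_of_rg_le
  intro n
  have := (sub_le_iff _ _).1 (h n)
  rwa [sub_comp, sub_comp] at this

/-- two-dimensional stabilization in a Noetherian poset -/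
theorem stab2 {P : Type*} [PartialOrder P] [WellFoundedGT P] (T : ℕ → ℕ → P)
    (h1 : ∀ n, Monotone (fun i => T i n)) (h2 : ∀ i, Monotone (T i)) :
    ∃ i₀ : ℕ, ∀ i, i₀ ≤ i → ∀ n, T i n = T i₀ n := by
  have hcc := (wellFoundedGT_iff_monotone_chain_condition (α := P)).1 inferInstance
  -- the limit of each row
  have hrow : ∀ i, ∃ n, ∀ n', n ≤ n' → T i n = T i n' := fun i => hcc ⟨T i, h2 i⟩
  choose N hN using hrow
  let L : ℕ → P := fun i => T i (N i)
  have hLmax : ∀ i n, T i n ≤ L i := by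
    intro i n
    rcases le_total n (N i) with h | h
    · exact h2 i h
    · exact (hN i n h).symm.le
  have hLmono : Monotone L := by
    intro i i' hii'
    exact (h1 (N i) hii').trans (hLmax i' (N i))
  obtain ⟨i₀, hi₀⟩ := hcc ⟨L, hLmono⟩
  -- columns below N i₀
  have hcol : ∀ n, ∃ i, ∀ i', i ≤ i' → T i n = T i' n := fun n => hcc ⟨fun i => T i n, h1 n⟩
  choose I hI using hcol
  let i₁ := (Finset.range (N i₀)).sup I ⊔ i₀
  refine ⟨i₁, fun i hi n => ?_⟩
  have hi₀i₁ : i₀ ≤ i₁ := le_sup_right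
  by_cases hn : n < N i₀
  · have hIn : I n ≤ i₁ := le_trans (Finset.le_sup (f := I) (Finset.mem_range.2 hn)) le_sup_left
    rw [← hI n i (hIn.trans hi), ← hI n i₁ hIn]
  · rw [not_lt] at hn
    have e1 : T i₀ (N i₀) ≤ T i₁ n := (h1 (N i₀) hi₀i₁).trans (h2 i₁ hn)
    have e2 : T i n ≤ T i₀ (N i₀) := (hLmax i n).trans (hi₀ i (hi₀i₁.trans hi)).symm.le
    have e3 : T i₁ n ≤ T i n := h1 n hi
    exact le_antisymm (e2.trans e1) e3

theorem S3161 [IsNoetherianObject M] :
    IsNoetherianObject ((Functor.const ℕ).obj M : ℕ ⥤ C) := by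
  rw [isNoetherianObject_iff_monotone_chain_condition]
  intro f
  obtain ⟨i₀, hi₀⟩ := stab2 (fun i n => comp M (f i) n)
    (fun n i i' h => comp_mono_left M (f.monotone h) n)
    (fun i n n' h => comp_mono_right M (f i) h)
  refine ⟨i₀, fun i hi => ?_⟩
  apply le_antisymm (f.monotone hi)
  apply le_of_comp_le
  intro n
  exact (hi₀ i hi n).le

/-- objects of the diagram `S, M, M, …` -/
noncomputable def Xs (S : Subobject M) : ℕ → C
  | 0 => (S : C)
  | _ + 1 => M

/-- transition maps of the diagram `S, M, M, …` -/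
noncomputable def fs (S : Subobject M) : ∀ n : ℕ, Xs M S n ⟶ Xs M S (n + 1)
  | 0 => S.arrow
  | _ + 1 => 𝟙 M

/-- the inclusion of `S, M, M, …` into the constant diagram -/
noncomputable def αs (S : Subobject M) : ∀ n : ℕ, Xs M S n ⟶ M
  | 0 => S.arrow
  | _ + 1 => 𝟙 M

noncomputable def αN (S : Subobject M) :
    Functor.ofSequence (fs M S) ⟶ ((Functor.const ℕ).obj M : ℕ ⥤ C) :=
  NatTrans.ofSequence (F := Functor.ofSequence (fs M S)) (G := (Functor.const ℕ).obj M)
    (αs M S) (fun n => by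
      rw [Functor.ofSequence_map_homOfLE_succ]
      cases n with
      | zero => rfl
      | succ k => rfl)

instance (S : Subobject M) (n : ℕ) : Mono ((αN M S).app n) := by
  cases n with
  | zero => exact inferInstanceAs (Mono S.arrow)
  | succ k => exact inferInstanceAs (Mono (𝟙 M))

instance (S : Subobject M) : Mono (αN M S) := NatTrans.mono_of_mono_app _

theorem rg_mk {G : ℕ ⥤ C} (α : G ⟶ (Functor.const ℕ).obj M) [Mono α] (n : ℕ) :
    rg M (Subobject.mk α) n = LinearMap.range (m (α.app n)) := by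
  unfold rg
  have e : (Subobject.mk α).arrow = (Subobject.underlyingIso α).hom ≫ α :=
    (Subobject.underlyingIso_hom_comp_eq_mk α).symm
  have e2 : (Subobject.mk α).arrow.app n = (Subobject.underlyingIso α).hom.app n ≫ α.app n := by
    rw [e]; rfl
  rw [e2, m_comp]
  apply LinearMap.range_comp_of_range_eq_top
  rw [eq_top_iff]
  intro x _
  refine ⟨m ((Subobject.underlyingIso α).inv.app n) x, ?_⟩
  rw [← m_comp_apply, ← NatTrans.comp_app, Iso.inv_hom_id, NatTrans.id_app, m_id]
  rfl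

theorem rg_top (n : ℕ) : rg M (⊤ : Subobject ((Functor.const ℕ).obj M : ℕ ⥤ C)) n = ⊤ := by
  rw [eq_top_iff]
  intro x _
  have h : (Subobject.mk (𝟙 ((Functor.const ℕ).obj M : ℕ ⥤ C))) = ⊤ := Subobject.mk_eq_top_of_isIso _
  rw [← h, rg_mk]
  refine ⟨x, ?_⟩
  simp [m_id]

theorem S8641 (hM : ∀ N : ℕ →o Subobject M, IsLUB (Set.range N) ⊤ → ∃ p : ℕ, N p = ⊤)
    (N : ℕ →o Subobject ((Functor.const ℕ).obj M : ℕ ⥤ C)) (hN : IsLUB (Set.range N) ⊤) :
    ∃ p : ℕ, N p = ⊤ := by
  let N' : ℕ →o Subobject M :=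
    ⟨fun p => comp M (N p) 0, fun p p' h => comp_mono_left M (N.monotone h) 0⟩
  have hlub : IsLUB (Set.range N') ⊤ := by
    refine ⟨fun _ _ => le_top, fun S hS => ?_⟩
    have hub : Subobject.mk (αN M S) ∈ upperBounds (Set.range N) := by
      rintro _ ⟨p, rfl⟩
      apply le_of_rg_le
      intro n
      rw [rg_mk]
      cases n with
      | zero =>
        have h1 : comp M (N p) 0 ≤ S := hS ⟨p, rfl⟩
        have h2 := (sub_le_iff _ _).1 h1
        rw [sub_comp] at h2
        exact h2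
      | succ k =>
        intro x _
        refine ⟨x, ?_⟩
        show m (𝟙 M) x = x
        simp [m_id]
    have htop := hN.2 hub
    have h3 := rg_mono_left M htop 0
    rw [rg_top, rg_mk] at h3
    rw [sub_le_iff, sub_top]
    exact h3
  obtain ⟨p, hp⟩ := hM N' hlub
  refine ⟨p, ?_⟩
  rw [eq_top_iff]
  apply le_of_rg_le
  intro n
  have h1 : comp M (N p) 0 = ⊤ := hp
  have h2 : rg M (N p) 0 = ⊤ := by rw [← sub_comp, h1, sub_top]
  have h3 := rg_mono_right M (N p) (Nat.zero_le n)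
  rw [h2] at h3
  exact le_trans le_top h3

end Groth.Agent.Helper9.ConstChain
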