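import Mathlib
import Groth.Agent.Helper9.ConstChain

set_option autoImplicit false

namespace Groth.Agent.Helper9.HilbB

universe u₁ u₂

/-- graded lattice with degree-one operators having right adjoints -/
structure Ops (ι : Type u₁) (L : ℕ → Type u₂) [∀ q, Lattice (L q)] [∀ q, OrderBot (L q)] where
  τ : ι → ∀ q, L q → L (q + 1)
  ρ : ι → ∀ q, L (q + 1) → L q
  gc : ∀ j q, GaloisConnection (τ j q) (ρ j q)
  frob : ∀ j q (a : L q) (b : L (q + 1)), τ j q a ⊓ b ≤ τ j q (a ⊓ ρ j q b)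
  comm : ∀ i j q (a : L q), τ i (q + 1) (τ j q a) = τ j (q + 1) (τ i q a)

variable {ι : Type u₁} {L : ℕ → Type u₂} [∀ q, Lattice (L q)] [∀ q, OrderBot (L q)]

instance instModFam [∀ q, IsModularLattice (L q)] : IsModularLattice (∀ q, L q) :=
  ⟨@fun _ y _ hxz q => sup_inf_le_assoc_of_le (y q) (hxz q)⟩

variable (O : Ops ι L)

/-- the operator on families -/
def T (j : ι) (S : ∀ q, L q) : ∀ q, L q
  | 0 => ⊥
  | q + 1 => O.τ j q (S q)

/-- its right adjoint -/
def P (j : ι) (S : ∀ q, L q) : ∀ q, L q := fun q => O.ρ j q (S (q + 1))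

theorem T_gc (j : ι) : GaloisConnection (T O j) (P O j) := by
  intro S S'
  constructor
  · intro h q
    exact (O.gc j q _ _).1 (h (q + 1))
  · intro h q
    cases q with
    | zero => exact bot_le
    | succ q => exact (O.gc j q _ _).2 (h q)

theorem T_frob (j : ι) (A B : ∀ q, L q) : T O j A ⊓ B ≤ T O j (A ⊓ P O j B) := by
  intro q
  cases q with
  | zero => exact inf_le_left
  | succ q => exact O.frob j q (A q) (B (q + 1))

theorem T_comm (i j : ι) (S : ∀ q, L q) : T O i (T O j S) = T O j (T O i S) := by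
  funext q
  match q with
  | 0 => rfl
  | 1 =>
    show O.τ i 0 ⊥ = O.τ j 0 ⊥
    rw [(O.gc i 0).l_bot, (O.gc j 0).l_bot]
  | q + 2 => exact O.comm i j q (S q)

theorem gc_iter (j : ι) (d : ℕ) : GaloisConnection ((T O j)^[d]) ((P O j)^[d]) := by
  induction d with
  | zero => exact GaloisConnection.id
  | succ d ih =>
    rw [Function.iterate_succ', Function.iterate_succ]
    exact ih.compose (T_gc O j)

theorem frob_iter (j : ι) (d : ℕ) : ∀ (A B : ∀ q, L q),
    (T O j)^[d] A ⊓ B ≤ (T O j)^[d] (A ⊓ (P O j)^[d] B) := by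
  induction d with
  | zero => intro A B; exact le_rfl
  | succ d ih =>
    intro A B
    rw [Function.iterate_succ_apply, Function.iterate_succ_apply, Function.iterate_succ_apply']
    refine (ih _ _).trans ?_
    exact (gc_iter O j d).monotone_l (T_frob O j A _)

theorem comm_iter (i j : ι) (d : ℕ) (S : ∀ q, L q) :
    T O i ((T O j)^[d] S) = (T O j)^[d] (T O i S) := by
  induction d generalizing S with
  | zero => rfl
  | succ d ih =>
    rw [Function.iterate_succ_apply, Function.iterate_succ_apply, ih, T_comm]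


section Step

variable (t : ι) (G' : ∀ q, L q)

/-- filtration by `t`-degree -/
def Fil : ℕ → (∀ q, L q)
  | 0 => ⊥
  | d + 1 => Fil d ⊔ (T O t)^[d] G'

/-- leading parts -/
def Ld (d : ℕ) (N : ∀ q, L q) : ∀ q, L q := G' ⊓ (P O t)^[d] (N ⊔ Fil O t G' d)

theorem T_Fil_le (j : ι) (hj : T O j G' ≤ G') (d : ℕ) :
    T O j (Fil O t G' d) ≤ Fil O t G' d := by
  induction d with
  | zero =>
    show T O j ⊥ ≤ ⊥
    rw [(T_gc O j).l_bot]
  | succ d ih =>
    show T O j (Fil O t G' d ⊔ (T O t)^[d] G') ≤ Fil O t G' d ⊔ (T O t)^[d] G'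
    rw [(T_gc O j).l_sup]
    refine sup_le_sup ih ?_
    rw [comm_iter]
    exact (gc_iter O t d).monotone_l hj

theorem Tt_Fil_le (d : ℕ) : T O t (Fil O t G' d) ≤ Fil O t G' (d + 1) := by
  induction d with
  | zero =>
    show T O t ⊥ ≤ _
    rw [(T_gc O t).l_bot]
    exact bot_le
  | succ d ih =>
    show T O t (Fil O t G' d ⊔ (T O t)^[d] G') ≤ Fil O t G' (d + 1) ⊔ (T O t)^[d + 1] G'
    rw [(T_gc O t).l_sup, Function.iterate_succ_apply']
    exact sup_le_sup_right ih _

theorem Ld_le (d : ℕ) (N : ∀ q, L q) : Ld O t G' d N ≤ G' := inf_le_left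

theorem Ld_mono_N (d : ℕ) {N N' : ∀ q, L q} (h : N ≤ N') : Ld O t G' d N ≤ Ld O t G' d N' :=
  inf_le_inf_left _ ((gc_iter O t d).monotone_u (sup_le_sup_right h _))

theorem Ld_mono_d (d : ℕ) (N : ∀ q, L q) (hN : T O t N ≤ N) :
    Ld O t G' d N ≤ Ld O t G' (d + 1) N := by
  refine inf_le_inf_left _ ?_
  rw [Function.iterate_succ_apply]
  refine (gc_iter O t d).monotone_u ?_
  rw [← (T_gc O t) _ _, (T_gc O t).l_sup]
  exact sup_le_sup hN (Tt_Fil_le O t G' d)

theorem Ld_stable (d : ℕ) (N : ∀ q, L q) (j : ι) (hjG : T O j G' ≤ G') (hjN : T O j N ≤ N) :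
    T O j (Ld O t G' d N) ≤ Ld O t G' d N := by
  refine le_inf ?_ ?_
  · exact ((T_gc O j).monotone_l inf_le_left).trans hjG
  · rw [← (gc_iter O t d) _ _, ← comm_iter]
    have h1 : (T O t)^[d] (Ld O t G' d N) ≤ N ⊔ Fil O t G' d := by
      rw [(gc_iter O t d) _ _]
      exact inf_le_right
    refine ((T_gc O j).monotone_l h1).trans ?_
    rw [(T_gc O j).l_sup]
    exact sup_le_sup hjN (T_Fil_le O t G' j hjG d)

theorem strict [∀ q, IsModularLattice (L q)] {N N' : ∀ q, L q} (hNN' : N ≤ N')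
    (hL : ∀ d, Ld O t G' d N' ≤ Ld O t G' d N) (d : ℕ) : N' ⊓ Fil O t G' d ≤ N := by
  induction d with
  | zero =>
    show N' ⊓ ⊥ ≤ N
    rw [inf_bot_eq]
    exact bot_le
  | succ d ih =>
    show N' ⊓ (Fil O t G' d ⊔ (T O t)^[d] G') ≤ N
    have s1 : N' ⊓ (Fil O t G' d ⊔ (T O t)^[d] G') ≤
        Fil O t G' d ⊔ (T O t)^[d] G' ⊓ (N' ⊔ Fil O t G' d) := by
      refine le_trans ?_ (sup_inf_le_assoc_of_le ((T O t)^[d] G')
        (le_sup_right : Fil O t G' d ≤ N' ⊔ Fil O t G' d))
      exact le_inf inf_le_right (inf_le_left.trans le_sup_left)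
    have s2 : (T O t)^[d] G' ⊓ (N' ⊔ Fil O t G' d) ≤ N ⊔ Fil O t G' d := by
      refine (frob_iter O t d G' (N' ⊔ Fil O t G' d)).trans ?_
      refine ((gc_iter O t d).monotone_l (hL d)).trans ?_
      rw [(gc_iter O t d) _ _]
      exact inf_le_right
    have s3 : N' ⊓ (Fil O t G' d ⊔ (T O t)^[d] G') ≤ (N ⊔ Fil O t G' d) ⊓ N' :=
      le_inf (s1.trans (sup_le le_sup_right s2)) inf_le_left
    refine s3.trans ((sup_inf_le_assoc_of_le (Fil O t G' d) hNN').trans ?_)
    exact sup_le le_rfl (by rw [inf_comm]; exact ih)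

end Step

/-- finite sups over a list -/
def ssup {α : Type*} [SemilatticeSup α] [OrderBot α] : List ι → (ι → α) → α
  | [], _ => ⊥
  | j :: l, f => f j ⊔ ssup l f

theorem le_ssup {α : Type*} [SemilatticeSup α] [OrderBot α] {l : List ι} {f : ι → α} {j : ι}
    (h : j ∈ l) : f j ≤ ssup l f := by
  induction l with
  | nil => simp at h
  | cons i l ih =>
    rcases List.mem_cons.1 h with rfl | h
    · exact le_sup_left
    · exact (ih h).trans le_sup_right

theorem ssup_le {α : Type*} [SemilatticeSup α] [OrderBot α] {l : List ι} {f : ι → α} {a : α}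
    (h : ∀ j ∈ l, f j ≤ a) : ssup l f ≤ a := by
  induction l with
  | nil => exact bot_le
  | cons i l ih =>
    exact sup_le (h i List.mem_cons_self) (ih fun j hj => h j (List.mem_cons_of_mem _ hj))

/-- the family generated by `g0` under the operators in `l` -/
def genFam (l : List ι) (g0 : L 0) : ∀ q, L q
  | 0 => g0
  | q + 1 => ssup l (fun j => O.τ j q (genFam l g0 q))

theorem genFam_stable (l : List ι) (g0 : L 0) (j : ι) (hj : j ∈ l) :
    T O j (genFam O l g0) ≤ genFam O l g0 := by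
  intro q
  cases q with
  | zero => exact bot_le
  | succ q => exact le_ssup (f := fun j => O.τ j q (genFam O l g0 q)) hj

theorem G_le_Fil (t : ι) (l' : List ι) (G' G : ∀ q, L q) (hG0 : G 0 ≤ G' 0)
    (hGen : ∀ q, G (q + 1) ≤ ssup (t :: l') (fun j => O.τ j q (G q)))
    (hG' : ∀ j ∈ l', T O j G' ≤ G') : ∀ q, G q ≤ Fil O t G' (q + 1) q := by
  intro q
  induction q with
  | zero => exact hG0.trans le_sup_right
  | succ q ih =>
    refine (hGen q).trans (sup_le ?_ (ssup_le fun j hj => ?_))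
    · have h1 : O.τ t q (G q) ≤ T O t (Fil O t G' (q + 1)) (q + 1) := (O.gc t q).monotone_l ih
      exact h1.trans (Tt_Fil_le O t G' (q + 1) (q + 1))
    · have h1 : O.τ j q (G q) ≤ T O j (Fil O t G' (q + 1)) (q + 1) := (O.gc j q).monotone_l ih
      refine (h1.trans (T_Fil_le O t G' j (hG' j hj) (q + 1) (q + 1))).trans ?_
      exact (le_sup_left : Fil O t G' (q + 1) ≤ Fil O t G' (q + 2)) (q + 1)

/-- abstract graded Hilbert basis theorem -/
theorem HB [∀ q, IsModularLattice (L q)] [WellFoundedGT (L 0)] :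
    ∀ (l : List ι) (G : ∀ q, L q), (∀ q, G (q + 1) ≤ ssup l (fun j => O.τ j q (G q))) →
      WellFoundedGT {N : ∀ q, L q // (∀ j ∈ l, T O j N ≤ N) ∧ N ≤ G} := by
  intro l
  induction l with
  | nil =>
    intro G hG
    let f : {N : ∀ q, L q // (∀ j ∈ ([] : List ι), T O j N ≤ N) ∧ N ≤ G} → L 0 := fun N => N.1 0
    have hf : StrictMono f := by
      intro N N' h
      rw [lt_iff_le_not_ge] at h ⊢
      refine ⟨h.1 0, fun h0 => h.2 ?_⟩
      intro q
      cases q with
      | zero => exact h0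
      | succ q => exact ((N'.2.2 (q + 1)).trans (hG q)).trans bot_le
    exact hf.wellFoundedGT
  | cons t l' ih =>
    intro G hG
    rw [wellFoundedGT_iff_monotone_chain_condition]
    intro f
    set G' : ∀ q, L q := genFam O l' (G 0) with hG'def
    have hG' : ∀ j ∈ l', T O j G' ≤ G' := fun j hj => genFam_stable O l' (G 0) j hj
    haveI IH := ih G' (fun q => le_rfl)
    let Tt : ℕ → ℕ → {N : ∀ q, L q // (∀ j ∈ l', T O j N ≤ N) ∧ N ≤ G'} := fun i d =>
      ⟨Ld O t G' d (f i).1, fun j hj => Ld_stable O t G' d (f i).1 j (hG' j hj)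
        ((f i).2.1 j (List.mem_cons_of_mem _ hj)), Ld_le O t G' d (f i).1⟩
    obtain ⟨i₀, hi₀⟩ := ConstChain.stab2 Tt
      (fun d i i' h => Ld_mono_N O t G' d (f.monotone h))
      (fun i => monotone_nat_of_le_succ fun d =>
        Ld_mono_d O t G' d (f i).1 ((f i).2.1 t List.mem_cons_self))
    refine ⟨i₀, fun i hi => ?_⟩
    apply le_antisymm (f.monotone hi)
    show (f i).1 ≤ (f i₀).1
    intro q
    have h1 := strict O t G' (N := (f i₀).1) (N' := (f i).1) (f.monotone hi)
      (fun d => (congrArg Subtype.val (hi₀ i hi d)).le) (q + 1)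
    have hq : (f i).1 q ≤ Fil O t G' (q + 1) q :=
      ((f i).2.2 q).trans (G_le_Fil O t l' G' G le_rfl hG hG' q)
    exact (le_inf le_rfl hq).trans (h1 q)

end Groth.Agent.Helper9.HilbB
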