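import Groth.Agent.Helper9.ARLin
import Mathlib

set_option autoImplicit false

namespace Groth.Agent.Helper9.ARAdapt

open CategoryTheory CategoryTheory.Limits Opposite
open Groth.Agent.Helper9.FM Groth.Agent.Helper9.ARSysML Groth.Agent.Helper9.ARLin

universe w v u

variable {C : Type u} [Category.{v} C] [Abelian C] {A : Type w} [CommRing A] [Linear A C]

theorem tr_refl_apply (X : ARSys.PS C) (n : ℕ) (x : (F C).obj (X.obj (op n))) :
    m (ARSys.tr X (le_refl n)) x = x := by
  have : ARSys.tr X (le_refl n) = 𝟙 _ := by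
    change X.map (homOfLE (le_refl n)).op = 𝟙 _
    have : (homOfLE (le_refl n)).op = 𝟙 (op n) := rfl
    rw [this, X.map_id]
  rw [this, m_id]; rfl

theorem mem_Fsub_iff (X : ARSys.PS C) (q n : ℕ) (x : (F C).obj (X.obj (op n))) :
    x ∈ sub (ARSys.Fsub X q n) ↔
      (∀ (k : ℕ) (h : k ≤ n), k + 1 = q → m (ARSys.tr X h) x = 0) ∧ (n + 1 < q → x = 0) := by
  cases q with
  | zero =>
    have : ARSys.Fsub X 0 n = ⊤ := rfl
    rw [this, sub_top]
    simp
  | succ k =>
    by_cases h : k ≤ n
    · have : ARSys.Fsub X (k + 1) n = kernelSubobject (ARSys.tr X h) := by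
        change (if h : k ≤ n then kernelSubobject (ARSys.tr X h) else ⊥) = _
        rw [dif_pos h]
      rw [this, sub_kernel, LinearMap.mem_ker]
      constructor
      · intro hx
        refine ⟨fun k' h' e => ?_, fun hlt => by omega⟩
        obtain rfl : k' = k := by omega
        exact hx
      · intro hx
        exact hx.1 k h rfl
    · have : ARSys.Fsub X (k + 1) n = ⊥ := by
        change (if h : k ≤ n then kernelSubobject (ARSys.tr X h) else ⊥) = _
        rw [dif_neg h]
      rw [this, sub_bot, Submodule.mem_bot]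
      constructor
      · rintro rfl
        exact ⟨fun _ _ _ => map_zero _, fun _ => rfl⟩
      · intro hx
        exact hx.2 (by omega)

theorem adapted_iff (J : Ideal A) (X : ARSys.PS C) :
    ARSys.IsAdapted J X ↔ ∀ (n p : ℕ), p ≤ n + 1 → ∀ a ∈ J ^ p,
      ∀ x ∈ sub (ARSys.Fsub X (n + 1 - p) n), m (act a (X.obj (op n))) x = 0 := by
  unfold ARSys.IsAdapted
  refine forall_congr' fun n => forall_congr' fun p => forall_congr' fun hp =>
    forall_congr' fun a => forall_congr' fun ha => ?_
  rw [comp_eq_zero_iff]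
  constructor
  · rintro h _ ⟨y, rfl⟩
    exact h y
  · intro h y
    exact h _ ⟨y, rfl⟩

theorem S3185 (J : Ideal A) (X : ARSys.PS C) :
    ARSys.IsAdapted J X ↔ ∀ (n p q : ℕ), ∀ a ∈ J ^ p,
      imageSubobject ((ARSys.Fsub X q n).arrow ≫ (a • 𝟙 (X.obj (op n)))) ≤
        ARSys.Fsub X (p + q) n := by
  rw [adapted_iff]
  constructor
  · intro hAd n p q a ha
    rw [sub_le_iff, sub_image_comp]
    rintro _ ⟨x, hx, rfl⟩
    rw [SetLike.mem_coe, mem_Fsub_iff] at hx
    rw [mem_Fsub_iff]
    constructor
    · intro k h e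
      change m (ARSys.tr X h) (m (act a _) x) = 0
      rw [act_nat_apply]
      have hp : p ≤ k + 1 := by omega
      have hq : k + 1 - p = q := by omega
      have := hAd k p hp a ha (m (ARSys.tr X h) x)
      rw [hq] at this
      apply this
      rw [mem_Fsub_iff]
      refine ⟨fun k' h' e' => ?_, fun hlt => by omega⟩
      rw [tr_tr_apply]
      exact hx.1 k' _ e'
    · intro hlt
      by_cases hq : n + 1 < q
      · rw [hx.2 hq, map_zero]
      · have hp' : n + 1 - q ≤ n + 1 := by omega
        have ha' : a ∈ J ^ (n + 1 - q) := Ideal.pow_le_pow_right (by omega) ha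
        have := hAd n (n + 1 - q) hp' a ha' x
        have hq' : n + 1 - (n + 1 - q) = q := by omega
        rw [hq'] at this
        apply this
        rw [mem_Fsub_iff]
        exact hx
  · intro h n p hp a ha x hx
    have h1 := h n p (n + 1 - p) a ha
    rw [sub_le_iff, sub_image_comp] at h1
    have h2 : m (act a (X.obj (op n))) x ∈ sub (ARSys.Fsub X (p + (n + 1 - p)) n) :=
      h1 ⟨x, hx, rfl⟩
    rw [mem_Fsub_iff] at h2
    have := h2.1 n le_rfl (by omega)
    rw [tr_refl_apply] at this
    exact this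

end Groth.Agent.Helper9.ARAdapt
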