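import Groth.Agent.Helper9.ARShift
import Groth.Agent.Helper9.FM3
import Mathlib

set_option autoImplicit false

namespace Groth.Agent.Helper9.ARQuot

open CategoryTheory CategoryTheory.Limits Opposite
open Groth.Agent.Helper9.FM Groth.Agent.Helper9.ARSysML Groth.Agent.Helper9.ARLin
open Groth.Agent.Helper9.ARShift
open Groth.Agent.Helper4.ARSysBasic

universe w v u

variable {C : Type u} [Category.{v} C]

/-- a morphism of projective systems from its components -/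
def mkNat {X Y : ARSys.PS C} (f : ∀ n : ℕ, X.obj (op n) ⟶ Y.obj (op n))
    (h : ∀ (n k : ℕ) (hnk : n ≤ k), ARSys.tr X hnk ≫ f n = f k ≫ ARSys.tr Y hnk) : X ⟶ Y where
  app := fun k => f k.unop
  naturality := fun k l g => by
    have hh : l.unop ≤ k.unop := leOfHom g.unop
    have hg : g = (homOfLE hh).op := Subsingleton.elim _ _
    rw [hg]
    exact h l.unop k.unop hh

@[simp] theorem mkNat_app {X Y : ARSys.PS C} (f : ∀ n : ℕ, X.obj (op n) ⟶ Y.obj (op n))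
    (h : ∀ (n k : ℕ) (hnk : n ≤ k), ARSys.tr X hnk ≫ f n = f k ≫ ARSys.tr Y hnk) (n : ℕ) :
    (mkNat f h).app (op n) = f n := rfl

variable [Abelian C] {A : Type w} [CommRing A] [Linear A C]

theorem adic_strict (J : Ideal A) (hJ : J.FG ∨ HasCoproducts.{w} C) {Y : ARSys.PS C}
    (hY : ARSys.IsAdic J Y) {n k : ℕ} (h : n ≤ k) : Function.Surjective (m (ARSys.tr Y h)) := by
  obtain ⟨D⟩ := pow_mulData (C := C) J hJ (n + 1)
  exact D.isQuot_surj (hY.2 n k h)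

theorem S3157_mpr (J : Ideal A) (hJ : J.FG ∨ HasCoproducts.{w} C) (X : ARSys.PS C)
    (hX : ARSys.IsStrict X) (kX : ARSys.TermKilled J X) (r : ℕ) (Y : ARSys.PS C)
    (q : (ARSys.shift C r).obj X ⟶ Y)
    (hq : ∀ n : ℕ, ARSys.IsQuot (J ^ (n + 1)) (q.app (op n))) (hY : ARSys.IsAdic J Y) :
    ARSys.IsARAdic J X := by
  refine ⟨kX, Y, ?_⟩
  let qa : ∀ n : ℕ, X.obj (op (n + r)) ⟶ Y.obj (op n) := fun n => q.app (op n)
  have hqa : ∀ n : ℕ, ARSys.IsQuot (J ^ (n + 1)) (qa n) := hq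
  have hqa_nat : ∀ (n k : ℕ) (h : n ≤ k), ARSys.tr X (show n + r ≤ k + r by omega) ≫ qa n =
      qa k ≫ ARSys.tr Y h := fun n k h => q.naturality (homOfLE h).op
  clear_value qa
  have hsurj : ∀ n : ℕ, Function.Surjective (m (qa n)) := by
    intro n
    obtain ⟨D⟩ := pow_mulData (C := C) J hJ (n + 1)
    exact D.isQuot_surj (hqa n)
  have hepi : ∀ n : ℕ, Epi (qa n) := fun n => (epi_iff _).2 (hsurj n)
  have hex : ∀ n : ℕ, ∃! ψ : Y.obj (op n) ⟶ X.obj (op n),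
      qa n ≫ ψ = ARSys.tr X (Nat.le_add_right n r) :=
    fun n => (hqa n).2 _ _ (KilledBy.hom' (kX n) _)
  let ua : ∀ n : ℕ, Y.obj (op n) ⟶ X.obj (op n) := fun n => (hex n).choose
  have hua : ∀ n : ℕ, qa n ≫ ua n = ARSys.tr X (Nat.le_add_right n r) :=
    fun n => (hex n).choose_spec.1
  clear_value ua
  have hnat : ∀ (n k : ℕ) (hnk : n ≤ k), ARSys.tr Y hnk ≫ ua n = ua k ≫ ARSys.tr X hnk := by
    intro n k hnk
    haveI := hepi k
    rw [← cancel_epi (qa k), ← Category.assoc, ← hqa_nat n k hnk, Category.assoc, hua,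
      ← Category.assoc, hua, tr_comp, tr_comp]
  refine ⟨mkNat ua hnat, hY, ?_, ?_⟩
  · rw [isARNull_kernel_iff]
    refine ⟨r, fun n y hy => ?_⟩
    obtain ⟨x, rfl⟩ := hsurj (n + r) y
    rw [mkNat_app, ← m_comp_apply, hua] at hy
    rw [← m_comp_apply, ← hqa_nat n (n + r) (Nat.le_add_right n r), m_comp_apply]
    have : m (ARSys.tr X (show n + r ≤ n + r + r by omega)) x = 0 := hy
    rw [this, map_zero]
  · rw [isARNull_cokernel_iff]
    refine ⟨0, fun n x => ?_⟩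
    obtain ⟨x', hx'⟩ := (epi_iff _).1 (hX n (n + r) (Nat.le_add_right n r))
      (m (ARSys.tr X (Nat.le_add_right n 0)) x)
    refine ⟨m (qa n) x', ?_⟩
    rw [mkNat_app, ← m_comp_apply, hua]
    exact hx'

theorem S3157_mp (J : Ideal A) (hJ : J.FG ∨ HasCoproducts.{w} C) (X : ARSys.PS C)
    (hX : ARSys.IsStrict X) (h : ARSys.IsARAdic J X) :
    ∃ (r : ℕ) (Y : ARSys.PS C) (q : (ARSys.shift C r).obj X ⟶ Y),
      (∀ n : ℕ, ARSys.IsQuot (J ^ (n + 1)) (q.app (op n))) ∧ ARSys.IsAdic J Y := by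
  obtain ⟨kX, Y, u, hY, hu⟩ := h
  obtain ⟨r, hr⟩ := (isARNull_kernel_iff u).1 hu.1
  obtain ⟨r₂, hr₂⟩ := (isARNull_cokernel_iff u).1 hu.2
  have husurj : ∀ n : ℕ, Function.Surjective (m (u.app (op n))) := by
    intro n x
    obtain ⟨x', rfl⟩ := (epi_iff _).1 (hX n (n + r₂) (Nat.le_add_right n r₂)) x
    exact hr₂ n x'
  have huepi : ∀ n : ℕ, Epi (u.app (op n)) := fun n => (epi_iff _).2 (husurj n)
  have hex : ∀ n : ℕ, ∃ l : X.obj (op (n + r)) ⟶ Y.obj (op n),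
      u.app (op (n + r)) ≫ l = ARSys.tr Y (Nat.le_add_right n r) := by
    intro n
    haveI := huepi (n + r)
    apply exists_desc_of_ker_le
    intro y hy
    exact hr n y hy
  let wa : ∀ n : ℕ, X.obj (op (n + r)) ⟶ Y.obj (op n) := fun n => (hex n).choose
  have hwa : ∀ n : ℕ, u.app (op (n + r)) ≫ wa n = ARSys.tr Y (Nat.le_add_right n r) :=
    fun n => (hex n).choose_spec
  clear_value wa
  have hnat : ∀ (n k : ℕ) (hnk : n ≤ k),
      ARSys.tr ((ARSys.shift C r).obj X) hnk ≫ wa n = wa k ≫ ARSys.tr Y hnk := by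
    intro n k hnk
    haveI := huepi (k + r)
    show ARSys.tr X (show n + r ≤ k + r by omega) ≫ wa n = wa k ≫ ARSys.tr Y hnk
    rw [← cancel_epi (u.app (op (k + r))), ← Category.assoc, ← tr_nat, Category.assoc, hwa,
      ← Category.assoc, hwa, tr_comp, tr_comp]
  refine ⟨r, Y, mkNat wa hnat, fun n => ?_, hY⟩
  obtain ⟨D⟩ := pow_mulData (C := C) J hJ (n + 1)
  have hYq := (D.isQuot_iff _).1 (hY.2 n (n + r) (Nat.le_add_right n r))
  show ARSys.IsQuot (J ^ (n + 1)) (wa n)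
  rw [D.isQuot_iff]
  refine ⟨?_, hY.1 n, ?_⟩
  · intro y
    obtain ⟨y', rfl⟩ := hYq.1 y
    refine ⟨m (u.app (op (n + r))) y', ?_⟩
    rw [← m_comp_apply, hwa]
  · intro x hx
    have hx' : m (wa n) x = 0 := hx
    obtain ⟨y, rfl⟩ := husurj (n + r) x
    rw [← m_comp_apply, hwa] at hx'
    obtain ⟨v, hv⟩ := hYq.2.2 hx'
    refine ⟨m (D.P.map (u.app (op (n + r)))) v, ?_⟩
    rw [D.μ_nat_apply, hv]

theorem S3157 (J : Ideal A)
    (hJ : J.FG ∨ HasCoproducts.{w} C) (X : ARSys.PS C) (hX : ARSys.IsStrict X)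
    (kX : ARSys.TermKilled J X) :
    ARSys.IsARAdic J X ↔ ∃ (r : ℕ) (Y : ARSys.PS C) (q : (ARSys.shift C r).obj X ⟶ Y),
      (∀ n : ℕ, ARSys.IsQuot (J ^ (n + 1)) (q.app (op n))) ∧ ARSys.IsAdic J Y := by
  constructor
  · exact S3157_mp J hJ X hX
  · rintro ⟨r, Y, q, hq, hY⟩
    exact S3157_mpr J hJ X hX kX r Y q hq hY

end Groth.Agent.Helper9.ARQuot
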