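import Mathlib
import Groth.Prelude.Def_ARSys
import Groth.Agent.Helper9.HilbB
import Groth.Agent.Helper9.FM3
import Groth.Agent.Helper9.ARQuot
import Groth.Agent.Helper9.ARAdapt

set_option autoImplicit false

namespace Groth.Agent.Helper9.ARHilb

open CategoryTheory CategoryTheory.Limits Opposite
open Groth.Agent.Helper9.FM

universe w v u

section Mod

variable {R : Type*} [Ring R] {V W : Type*} [AddCommGroup V] [Module R V] [AddCommGroup W]
  [Module R W] (π : V →ₗ[R] W) (α : V →ₗ[R] V)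

theorem mod_gc (hπ : Function.Surjective π) (hk : ∀ v, π v = 0 → α v = 0) (S : Submodule R W)
    (S' : Submodule R V) : (S.comap π).map α ≤ S' ↔ S ≤ (S'.comap α).map π := by
  constructor
  · intro h s hs
    obtain ⟨v, rfl⟩ := hπ s
    exact ⟨v, h ⟨v, hs, rfl⟩, rfl⟩
  · rintro h _ ⟨v, hv, rfl⟩
    obtain ⟨v', hv', e⟩ := h hv
    have : α (v - v') = 0 := hk _ (by rw [map_sub, e, sub_self])
    rw [map_sub, sub_eq_zero] at this
    rw [this]
    exact hv'

theorem mod_frob (a : Submodule R W) (b : Submodule R V) :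
    (a.comap π).map α ⊓ b ≤ ((a ⊓ (b.comap α).map π).comap π).map α := by
  rintro _ ⟨⟨v, hv, rfl⟩, hb⟩
  exact ⟨v, ⟨hv, ⟨v, hb, rfl⟩⟩, rfl⟩

variable {U : Type*} [AddCommGroup U] [Module R U] (π₂ : U →ₗ[R] V) (α₂ β₂ : U →ₗ[R] U)

theorem mod_comm (hπ₂ : Function.Surjective π₂) (hk : ∀ v, π₂ v = 0 → α₂ v = 0)
    (hβ : ∀ v, π₂ (β₂ v) = α (π₂ v)) (S : Submodule R W) :
    (((S.comap π).map α).comap π₂).map α₂ = (S.comap (π ∘ₗ π₂)).map (α₂ ∘ₗ β₂) := by
  apply le_antisymm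
  · rintro _ ⟨w, ⟨y, hy, e⟩, rfl⟩
    obtain ⟨y', rfl⟩ := hπ₂ y
    refine ⟨y', hy, ?_⟩
    have : α₂ (w - β₂ y') = 0 := hk _ (by rw [map_sub, hβ, e, sub_self])
    rw [map_sub, sub_eq_zero] at this
    rw [this]; rfl
  · rintro _ ⟨y', hy, rfl⟩
    exact ⟨β₂ y', ⟨π₂ y', hy, (hβ y').symm⟩, rfl⟩

end Mod

variable {C : Type u} [Category.{v} C] [Abelian C] {A : Type w} [CommRing A] [Linear A C]

instance instModSub (Y : C) : IsModularLattice (Subobject Y) :=
  ⟨@fun x y z hxz => by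
    rw [sub_le_iff, FM.sub_inf, FM.sub_sup, FM.sub_sup, FM.sub_inf]
    exact sup_inf_le_assoc_of_le (sub y) ((sub_le_iff _ _).1 hxz)⟩

variable (X : ARSys.PS C)

/-- multiply lifts by `a` -/
noncomputable def tau (a : A) (q : ℕ) (S : Subobject (X.obj (op q))) :
    Subobject (X.obj (op (q + 1))) :=
  imageSubobject (((Subobject.pullback (ARSys.tr X (Nat.le_succ q))).obj S).arrow ≫
    (a • 𝟙 (X.obj (op (q + 1)))))

/-- right adjoint of `tau` -/
noncomputable def rho (a : A) (q : ℕ) (S' : Subobject (X.obj (op (q + 1)))) :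
    Subobject (X.obj (op q)) :=
  imageSubobject (((Subobject.pullback (a • 𝟙 (X.obj (op (q + 1))))).obj S').arrow ≫
    ARSys.tr X (Nat.le_succ q))

theorem sub_tau (a : A) (q : ℕ) (S : Subobject (X.obj (op q))) :
    sub (tau X a q S) = ((sub S).comap (m (ARSys.tr X (Nat.le_succ q)))).map
      (m (a • 𝟙 (X.obj (op (q + 1))))) := by
  rw [tau, sub_image_comp, sub_pullback]

theorem sub_rho (a : A) (q : ℕ) (S' : Subobject (X.obj (op (q + 1)))) :
    sub (rho X a q S') = ((sub S').comap (m (a • 𝟙 (X.obj (op (q + 1)))))).map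
      (m (ARSys.tr X (Nat.le_succ q))) := by
  rw [rho, sub_image_comp, sub_pullback]

theorem act_tr (a : A) {n k : ℕ} (h : n ≤ k) (x : (F C).obj (X.obj (op k))) :
    m (ARSys.tr X h) (m (a • 𝟙 (X.obj (op k))) x) = m (a • 𝟙 (X.obj (op n))) (m (ARSys.tr X h) x) := by
  rw [← m_comp_apply, ← m_comp_apply]
  congr 2
  rw [Linear.smul_comp, Linear.comp_smul, Category.id_comp, Category.comp_id]

theorem act_act (a b : A) (Y : C) (x : (F C).obj Y) :
    m (a • 𝟙 Y) (m (b • 𝟙 Y) x) = m ((b * a) • 𝟙 Y) x := by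
  rw [← m_comp_apply]
  congr 2
  rw [Linear.smul_comp, Linear.comp_smul, Category.id_comp, smul_smul]

variable {X} (J : Ideal A)

theorem adic_kills (hX : ARSys.IsAdic J X) (a : A) (ha : a ∈ J) (q : ℕ)
    (x : (F C).obj (X.obj (op (q + 1)))) (hx : m (ARSys.tr X (Nat.le_succ q)) x = 0) :
    m (a • 𝟙 (X.obj (op (q + 1)))) x = 0 := by
  have hk : ARSys.HomKilledBy (J ^ (q + 1)) (a • 𝟙 (X.obj (op (q + 1)))) := by
    intro b hb
    rw [smul_smul]
    exact hX.1 (q + 1) (b * a) (by rw [pow_succ]; exact Ideal.mul_mem_mul hb ha)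
  obtain ⟨ψ, hψ, -⟩ := (hX.2 q (q + 1) (Nat.le_succ q)).2 _ _ hk
  rw [← hψ, m_comp_apply, hx, map_zero]


/-- the operator system attached to an adic system -/
noncomputable def adicOps (hX : ARSys.IsAdic J X) (hJ : J.FG) :
    HilbB.Ops (↥J) (fun q => Subobject (X.obj (op q))) where
  τ j q := tau X j.1 q
  ρ j q := rho X j.1 q
  gc j q := by
    intro S S'
    rw [sub_le_iff, sub_le_iff, sub_tau, sub_rho]
    exact mod_gc _ _ (ARQuot.adic_strict J (Or.inl hJ) hX (Nat.le_succ q))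
      (adic_kills J hX j.1 j.2 q) _ _
  frob j q a b := by
    rw [sub_le_iff, FM.sub_inf, sub_tau, sub_tau, FM.sub_inf, sub_rho]
    exact mod_frob _ _ _ _
  comm i j q a := by
    rw [eq_iff_sub_eq, sub_tau, sub_tau, sub_tau, sub_tau]
    rw [mod_comm (m (ARSys.tr X (Nat.le_succ q))) (m (j.1 • 𝟙 (X.obj (op (q + 1)))))
      (m (ARSys.tr X (Nat.le_succ (q + 1)))) (m (i.1 • 𝟙 (X.obj (op (q + 1 + 1)))))
      (m (j.1 • 𝟙 (X.obj (op (q + 1 + 1)))))
      (ARQuot.adic_strict J (Or.inl hJ) hX (Nat.le_succ (q + 1)))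
      (adic_kills J hX i.1 i.2 (q + 1)) (fun v => act_tr X j.1 _ v)]
    rw [mod_comm (m (ARSys.tr X (Nat.le_succ q))) (m (i.1 • 𝟙 (X.obj (op (q + 1)))))
      (m (ARSys.tr X (Nat.le_succ (q + 1)))) (m (j.1 • 𝟙 (X.obj (op (q + 1 + 1)))))
      (m (i.1 • 𝟙 (X.obj (op (q + 1 + 1)))))
      (ARQuot.adic_strict J (Or.inl hJ) hX (Nat.le_succ (q + 1)))
      (adic_kills J hX j.1 j.2 (q + 1)) (fun v => act_tr X i.1 _ v)]
    congr 1
    apply LinearMap.ext
    intro x
    show m (i.1 • 𝟙 _) (m (j.1 • 𝟙 _) x) = m (j.1 • 𝟙 _) (m (i.1 • 𝟙 _) x)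
    rw [act_act, act_act, mul_comm]

theorem genLE (hX : ARSys.IsAdic J X) (l : List ↥J)
    (hl : J = Ideal.span {r | ∃ j ∈ l, (j : A) = r}) (q : ℕ) :
    ARSys.Fsub X (q + 1) (q + 1) ≤
      HilbB.ssup l (fun j => tau X j.1 q (ARSys.Fsub X q q)) := by
  set W := HilbB.ssup l (fun j => tau X j.1 q (ARSys.Fsub X q q)) with hW
  -- products `c * r` act into `W`
  have hgen : ∀ r ∈ J, ∀ c ∈ J ^ q, ∀ x : (F C).obj (X.obj (op (q + 1))),
      m ((c * r) • 𝟙 (X.obj (op (q + 1)))) x ∈ sub W := by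
    intro r hr
    rw [hl] at hr
    induction hr using Submodule.span_induction with
    | mem r hr =>
      obtain ⟨j, hj, rfl⟩ := hr
      intro c hc x
      rw [← act_act]
      have h1 : tau X j.1 q (ARSys.Fsub X q q) ≤ W :=
        HilbB.le_ssup (f := fun j : ↥J => tau X j.1 q (ARSys.Fsub X q q)) hj
      refine sub_mono h1 ?_
      rw [sub_tau]
      refine ⟨m (c • 𝟙 (X.obj (op (q + 1)))) x, ?_, rfl⟩
      show m (ARSys.tr X (Nat.le_succ q)) _ ∈ sub (ARSys.Fsub X q q)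
      rw [ARAdapt.mem_Fsub_iff]
      refine ⟨fun k h e => ?_, fun h => by omega⟩
      rw [act_tr, act_tr]
      have : (c • 𝟙 (X.obj (op k)) : X.obj (op k) ⟶ X.obj (op k)) = 0 :=
        hX.1 k c (by rw [e]; exact hc)
      rw [this]
      simp
    | zero =>
      intro c hc x
      rw [mul_zero, zero_smul]
      simp
    | add r r' _ _ ih ih' =>
      intro c hc x
      rw [mul_add, add_smul, m_add]
      exact (sub W).add_mem (ih c hc x) (ih' c hc x)
    | smul s r _ ih =>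
      intro c hc x
      rw [smul_eq_mul, ← mul_assoc]
      exact ih (c * s) (Ideal.mul_mem_right s _ hc) x
  have hall : ∀ b ∈ J ^ (q + 1), ∀ x : (F C).obj (X.obj (op (q + 1))),
      m (b • 𝟙 (X.obj (op (q + 1)))) x ∈ sub W := by
    intro b hb
    rw [pow_succ] at hb
    refine Submodule.mul_induction_on hb (fun c hc r hr => hgen r hr c hc) ?_
    intro b b' ih ih' x
    rw [add_smul, m_add]
    exact (sub W).add_mem (ih x) (ih' x)
  have hk : ARSys.HomKilledBy (J ^ (q + 1)) (cokernel.π W.arrow) := by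
    intro b hb
    rw [eq_zero_iff]
    intro x
    have : b • cokernel.π W.arrow = (b • 𝟙 (X.obj (op (q + 1)))) ≫ cokernel.π W.arrow := by
      rw [Linear.smul_comp, Category.id_comp]
    rw [this, m_comp_apply, cokernel_π_eq_zero_iff]
    exact hall b hb x
  obtain ⟨ψ, hψ, -⟩ := (hX.2 q (q + 1) (Nat.le_succ q)).2 _ _ hk
  rw [sub_le_iff]
  intro x hx
  rw [ARAdapt.mem_Fsub_iff] at hx
  have hx0 : m (ARSys.tr X (Nat.le_succ q)) x = 0 := hx.1 q (Nat.le_succ q) rfl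
  have : m (cokernel.π W.arrow) x = 0 := by
    rw [← hψ, m_comp_apply, hx0, map_zero]
  rwa [cokernel_π_eq_zero_iff] at this

theorem grSub_stable {N : (q : ℕ) → Subobject (X.obj (op q))} (hN : ARSys.IsGrSub J X N)
    (a : A) (ha : a ∈ J) (q : ℕ) : tau X a q (N q) ≤ N (q + 1) := by
  have key : ∀ (n : ℕ) (hn : q ≤ n) (_ : 1 + q = n),
      imageSubobject (((Subobject.pullback (ARSys.tr X hn)).obj (N q)).arrow ≫
        (a • 𝟙 (X.obj (op n)))) ≤ N n := by
    intro n hn e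
    subst e
    exact hN.2 1 q a (by rwa [pow_one])
  exact key (q + 1) (Nat.le_succ q) (Nat.add_comm 1 q)

theorem chain_stationary [IsNoetherianRing A] (X : ARSys.PS C) (hX : ARSys.IsAdicNoeth J X)
    (M : ℕ → (q : ℕ) → Subobject (X.obj (op q)))
    (hle : ∀ i q, M i q ≤ ARSys.Fsub X q q)
    (hstab : ∀ i, ∀ a ∈ J, ∀ q, tau X a q (M i q) ≤ M i (q + 1))
    (hmono : Monotone M) :
    ∃ i₀ : ℕ, ∀ i : ℕ, i₀ ≤ i → M i = M i₀ := by
  have hJ : J.FG := IsNoetherian.noetherian J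
  obtain ⟨s, hs⟩ := hJ
  have hsJ : ∀ r ∈ s, r ∈ J := fun r hr => by
    rw [← hs]; exact Ideal.subset_span hr
  let l : List ↥J := s.attach.toList.map (fun r => ⟨r.1, hsJ r.1 r.2⟩)
  have hl : J = Ideal.span {r | ∃ j ∈ l, (j : A) = r} := by
    refine hs.symm.trans ?_
    congr 1
    ext r
    constructor
    · intro hr
      refine ⟨⟨r, hsJ r hr⟩, ?_, rfl⟩
      simp only [l, List.mem_map, Finset.mem_toList]
      exact ⟨⟨r, hr⟩, Finset.mem_attach _ _, rfl⟩
    · rintro ⟨j, hj, rfl⟩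
      simp only [l, List.mem_map, Finset.mem_toList] at hj
      obtain ⟨r', -, rfl⟩ := hj
      exact r'.2
  let O := adicOps J hX.1 ⟨s, hs⟩
  haveI : IsNoetherianObject (X.obj (op 0)) := hX.2 0
  haveI : WellFoundedGT (Subobject (X.obj (op 0))) := inferInstance
  have hwf := HilbB.HB O l (fun q => ARSys.Fsub X q q) (fun q => genLE J hX.1 l hl q)
  rw [wellFoundedGT_iff_monotone_chain_condition] at hwf
  have hst : ∀ i, ∀ j ∈ l, HilbB.T O j (M i) ≤ M i := by
    intro i j _ q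
    cases q with
    | zero => exact bot_le
    | succ q => exact hstab i j.1 j.2 q
  obtain ⟨i₀, hi₀⟩ := hwf ⟨fun i => ⟨M i, hst i, hle i⟩, fun i i' h => hmono h⟩
  refine ⟨i₀, fun i hi => ?_⟩
  exact (congrArg Subtype.val (hi₀ i hi)).symm

theorem S8632 [IsNoetherianRing A] (X : ARSys.PS C) (hX : ARSys.IsAdicNoeth J X)
    (M : ℕ → (q : ℕ) → Subobject (X.obj (op q))) (hM : ∀ i : ℕ, ARSys.IsGrSub J X (M i))
    (hmono : Monotone M) :
    ∃ i₀ : ℕ, ∀ i : ℕ, i₀ ≤ i → M i = M i₀ :=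
  chain_stationary J X hX M (fun i => (hM i).1)
    (fun i a ha q => grSub_stable J (hM i) a ha q) hmono

end Groth.Agent.Helper9.ARHilb
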