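import Groth.Agent.Helper9.FM
import Mathlib

/-!
# More Freyd–Mitchell toolkit
-/

set_option autoImplicit false

namespace Groth.Agent.Helper9.FM

open CategoryTheory CategoryTheory.Limits

universe v u

variable {C : Type u} [Category.{v} C] [Abelian C]

theorem sub_image_comp {X Y : C} (S : Subobject X) (f : X ⟶ Y) :
    sub (imageSubobject (S.arrow ≫ f)) = (sub S).map (m f) := by
  rw [sub_image, m_comp, LinearMap.range_comp]
  rfl

theorem mem_sub_iff {X : C} (S : Subobject X) (x : (F C).obj X) :
    x ∈ sub S ↔ ∃ y, m S.arrow y = x := Iff.rfl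

theorem sub_mono {X : C} {S T : Subobject X} (h : S ≤ T) : sub S ≤ sub T := (sub_le_iff S T).1 h

theorem eq_iff_sub_eq {X : C} (S T : Subobject X) : S = T ↔ sub S = sub T :=
  sub_injective.eq_iff.symm

end Groth.Agent.Helper9.FM
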