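import Mathlib
import Groth.Prelude.Def_EtCore
import Groth.Agent.Helper9.EtMV2

/-! Relative Mayer–Vietoris for the sheaves `ℤ_O = j_! ℤ` attached to open subsets `O` of a scheme:
transition maps, transitivity, the relative short exact sequence and an injectivity consequence. -/

set_option autoImplicit false
set_option linter.style.haveILetI false
set_option linter.unusedSectionVars false
universe u

namespace Groth.Agent.Helper9.GabA

open CategoryTheory CategoryTheory.Limits AlgebraicGeometry Opposite Abelian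
open Groth.Agent.Helper9.EtMV1 Groth.Agent.Helper9.EtMV2 Groth.Agent.Helper9.EtStalkExact

variable {X : Scheme.{u}}

/-- `ℤ_O` -/
noncomputable abbrev KO (O : X.Opens) : EtCoh.Ab X := K O.ι

/-- `ℤ_O ⟶ ℤ_X` -/
noncomputable abbrev cO (O : X.Opens) : KO O ⟶ EtCoh.const X ℤ := c O.ι

/-- `ℤ_{O'} ⟶ ℤ_O` for `O' ≤ O` -/
noncomputable def aO {O' O : X.Opens} (hle : O' ≤ O) : KO O' ⟶ KO O :=
  a (X.homOfLE hle) O.ι O'.ι (X.homOfLE_ι hle)

theorem aO_c {O' O : X.Opens} (hle : O' ≤ O) : aO hle ≫ cO O = cO O' := a_c _ _ _ _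

section Stalk

variable {Ω : Type u} [Field Ω] [IsSepClosed Ω] (ξ : Spec (CommRingCat.of Ω) ⟶ X)

theorem isIso_stalk_cO (O : X.Opens) (h : ξ.base default ∈ O) :
    IsIso ((EtCoh.stalk ξ).map (cO O)) := by
  obtain ⟨u, hu⟩ := exists_lift ξ O h
  have := isIso_stalk_c O.ι u
  rw [hu] at this
  exact this

theorem isZero_stalk_KO (O : X.Opens) (h : ξ.base default ∉ O) :
    IsZero ((EtCoh.stalk ξ).obj (KO O)) :=
  isZero_stalk_K _ ξ (disjoint_of_not_mem ξ _ h)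

theorem injective_stalk_cO (O : X.Opens) : Function.Injective ((EtCoh.stalk ξ).map (cO O)) := by
  by_cases h : ξ.base default ∈ O
  · have := isIso_stalk_cO ξ O h
    exact (AddCommGrpCat.mono_iff_injective _).1 inferInstance
  · have hz := isZero_stalk_KO ξ O h
    have : Subsingleton ↑((EtCoh.stalk ξ).obj (KO O)) := AddCommGrpCat.subsingleton_of_isZero hz
    exact Function.injective_of_subsingleton _

theorem isIso_stalk_aO {O' O : X.Opens} (hle : O' ≤ O)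
    (h : ξ.base default ∈ O' ∨ ξ.base default ∉ O) :
    IsIso ((EtCoh.stalk ξ).map (aO hle)) := by
  rcases h with h | h
  · have i1 := isIso_stalk_cO ξ O' h
    have i2 := isIso_stalk_cO ξ O (hle h)
    have hcomp : IsIso ((EtCoh.stalk ξ).map (aO hle) ≫ (EtCoh.stalk ξ).map (cO O)) := by
      rw [← Functor.map_comp, aO_c]
      exact i1
    exact IsIso.of_isIso_comp_right _ ((EtCoh.stalk ξ).map (cO O))
  · exact isIso_of_isZero _ (isZero_stalk_KO ξ O' (fun h' => h (hle h'))) (isZero_stalk_KO ξ O h)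

end Stalk

instance mono_cO (O : X.Opens) : Mono (cO O) :=
  (mono_iff_stalks _).2 (fun _ _ _ ξ => injective_stalk_cO ξ O)

theorem aO_trans {O'' O' O : X.Opens} (h' : O'' ≤ O') (h : O' ≤ O) :
    aO h' ≫ aO h = aO (h'.trans h) := by
  rw [← cancel_mono (cO O), Category.assoc, aO_c, aO_c, aO_c]

theorem isIso_cO_top (O : X.Opens) (hO : O = ⊤) : IsIso (cO O) := by
  have h1 : Mono (cO O) := inferInstance
  have h2 : Epi (cO O) := (epi_iff_stalks _).2 (fun Ω _ _ ξ => by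
    have := isIso_stalk_cO ξ O (hO ▸ trivial)
    exact (AddCommGrpCat.epi_iff_surjective _).1 inferInstance)
  exact isIso_of_mono_of_epi _

section Rel

variable (U V O : X.Opens) (hU : U ≤ O) (hV : V ≤ O)

/-- the relative Mayer–Vietoris short complex -/
noncomputable def SR : ShortComplex (EtCoh.Ab X) :=
  ShortComplex.mk
    (biprod.lift (aO (inf_le_left : U ⊓ V ≤ U)) (-(aO (inf_le_right : U ⊓ V ≤ V))))
    (biprod.desc (aO hU) (aO hV)) (by
      rw [biprod.lift_desc, Preadditive.neg_comp, aO_trans, aO_trans, add_neg_cancel])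

variable {Ω : Type u} [Field Ω] [IsSepClosed Ω] (ξ : Spec (CommRingCat.of Ω) ⟶ X)

theorem shortExact_stalk (hUV : U ⊔ V = O) :
    ((SR U V O hU hV).map (EtCoh.stalk ξ)).ShortExact := by
  let Φ := EtCoh.stalk ξ
  have h1 : Φ.map (biprod.inl : KO U ⟶ KO U ⊞ KO V) ≫ Φ.map biprod.fst = 𝟙 _ := by
    rw [← Φ.map_comp, biprod.inl_fst, Φ.map_id]
  have h2 : Φ.map (biprod.inl : KO U ⟶ KO U ⊞ KO V) ≫ Φ.map biprod.snd = 0 := by
    rw [← Φ.map_comp, biprod.inl_snd, Φ.map_zero]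
  have h3 : Φ.map (biprod.inr : KO V ⟶ KO U ⊞ KO V) ≫ Φ.map biprod.fst = 0 := by
    rw [← Φ.map_comp, biprod.inr_fst, Φ.map_zero]
  have h4 : Φ.map (biprod.inr : KO V ⟶ KO U ⊞ KO V) ≫ Φ.map biprod.snd = 𝟙 _ := by
    rw [← Φ.map_comp, biprod.inr_snd, Φ.map_id]
  have h5 : Φ.map (biprod.fst : KO U ⊞ KO V ⟶ KO U) ≫ Φ.map biprod.inl +
      Φ.map (biprod.snd : KO U ⊞ KO V ⟶ KO V) ≫ Φ.map biprod.inr = 𝟙 _ := by
    rw [← Φ.map_comp, ← Φ.map_comp, ← Φ.map_add, biprod.total, Φ.map_id]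
  have hc : Φ.map (aO (inf_le_left : U ⊓ V ≤ U)) ≫ Φ.map (aO hU) =
      Φ.map (aO (inf_le_right : U ⊓ V ≤ V)) ≫ Φ.map (aO hV) := by
    rw [← Φ.map_comp, ← Φ.map_comp, aO_trans, aO_trans]
  have hf : Φ.map (biprod.lift (aO (inf_le_left : U ⊓ V ≤ U))
      (-(aO (inf_le_right : U ⊓ V ≤ V)))) =
      Φ.map (aO (inf_le_left : U ⊓ V ≤ U)) ≫ Φ.map biprod.inl -
      Φ.map (aO (inf_le_right : U ⊓ V ≤ V)) ≫ Φ.map biprod.inr := by
    rw [biprod.lift_eq, Φ.map_add, Φ.map_comp, Φ.map_comp, Φ.map_neg, Preadditive.neg_comp,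
      sub_eq_add_neg]
  have hg : Φ.map (biprod.desc (aO hU) (aO hV)) = Φ.map biprod.fst ≫ Φ.map (aO hU) +
      Φ.map biprod.snd ≫ Φ.map (aO hV) := by
    rw [biprod.desc_eq, Φ.map_add, Φ.map_comp, Φ.map_comp]
  by_cases hxU : ξ.base default ∈ U
  · have icU : IsIso (Φ.map (aO hU)) := isIso_stalk_aO ξ hU (Or.inl hxU)
    have iaV : IsIso (Φ.map (aO (inf_le_right : U ⊓ V ≤ V))) := by
      by_cases hxV : ξ.base default ∈ V
      · exact isIso_stalk_aO ξ _ (Or.inl ⟨hxU, hxV⟩)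
      · exact isIso_stalk_aO ξ _ (Or.inr hxV)
    exact Groth.Agent.Helper9.SplitLemma.shortExact₁ _ _ _ _ h1 h2 h3 h4 h5 _ _ _ _ hc _ _ hf hg _
  · have iaU : IsIso (Φ.map (aO (inf_le_left : U ⊓ V ≤ U))) :=
      isIso_stalk_aO ξ _ (Or.inr hxU)
    have icV : IsIso (Φ.map (aO hV)) := by
      by_cases hxV : ξ.base default ∈ V
      · exact isIso_stalk_aO ξ hV (Or.inl hxV)
      · refine isIso_stalk_aO ξ hV (Or.inr ?_)
        rw [← hUV]
        rintro (h | h)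
        · exact hxU h
        · exact hxV h
    exact Groth.Agent.Helper9.SplitLemma.shortExact₂ _ _ _ _ h1 h2 h3 h4 h5 _ _ _ _ hc _ _ hf hg _

theorem shortExactRel (hUV : U ⊔ V = O) : (SR U V O hU hV).ShortExact := by
  have key := fun (Ω : Type u) [Field Ω] [IsSepClosed Ω] (ξ : Spec (CommRingCat.of Ω) ⟶ X) =>
    shortExact_stalk U V O hU hV ξ hUV
  exact
    { exact := (exact_iff_stalks _).2 (fun Ω _ _ ξ => (key Ω ξ).exact)
      mono_f := (mono_iff_stalks _).2 (fun Ω _ _ ξ =>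
        (AddCommGrpCat.mono_iff_injective _).1 (key Ω ξ).mono_f)
      epi_g := (epi_iff_stalks _).2 (fun Ω _ _ ξ =>
        (AddCommGrpCat.epi_iff_surjective _).1 (key Ω ξ).epi_g) }

/-- Mayer–Vietoris injectivity: if `Ext^q(ℤ_{U∩V}, F) = 0`, a class in `Ext^{q+1}(ℤ_O, F)` restricting
to zero on `U` and `V` vanishes. -/
theorem mv_inj (hUV : U ⊔ V = O) (F : EtCoh.Ab X) (q : ℕ)
    (hW : ∀ w : Ext (KO (U ⊓ V)) F q, w = 0) (y : Ext (KO O) F (q + 1))
    (h1 : (Ext.mk₀ (aO hU)).comp y (zero_add (q + 1)) = 0)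
    (h2 : (Ext.mk₀ (aO hV)).comp y (zero_add (q + 1)) = 0) : y = 0 := by
  have hS := shortExactRel U V O hU hV hUV
  have h0 : (Ext.mk₀ (biprod.desc (aO hU) (aO hV))).comp y (zero_add (q + 1)) = 0 := by
    have h3 : (Ext.mk₀ (biprod.desc (aO hU) (aO hV))).comp y (zero_add (q + 1)) =
        (Ext.mk₀ (𝟙 (KO U ⊞ KO V))).comp
          ((Ext.mk₀ (biprod.desc (aO hU) (aO hV))).comp y (zero_add (q + 1))) (zero_add (q + 1)) :=
      (Ext.mk₀_id_comp _).symm
    rw [h3, ← biprod.total, Ext.mk₀_add, Ext.add_comp, ← Ext.mk₀_comp_mk₀, ← Ext.mk₀_comp_mk₀,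
      Ext.comp_assoc_of_second_deg_zero, Ext.comp_assoc_of_second_deg_zero,
      ← Ext.comp_assoc_of_second_deg_zero (Ext.mk₀ biprod.inl),
      ← Ext.comp_assoc_of_second_deg_zero (Ext.mk₀ biprod.inr), Ext.mk₀_comp_mk₀,
      Ext.mk₀_comp_mk₀, biprod.inl_desc, biprod.inr_desc, h1, h2, Ext.comp_zero, Ext.comp_zero,
      add_zero]
  obtain ⟨(x₁ : Ext (KO (U ⊓ V)) F q), hx₁⟩ :=
    Ext.contravariant_sequence_exact₃ hS F y h0 (add_comm 1 q)
  rw [← hx₁, hW x₁]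
  exact Ext.comp_zero _ _ _ _ _

end Rel

end Groth.Agent.Helper9.GabA
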