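import Mathlib
import Groth.Prelude.Def_EtCore
import Groth.Agent.Helper9.GabA
import Groth.Agent.Helper9.StrictHensNbhd
import Groth.Agent.Helper9.EtAlmostCocont

/-! Morphisms out of `ℤ_O = j_! ℤ` are sections over `O`; lifting through epimorphisms Zariski
locally at points with strictly henselian local rings. -/

set_option autoImplicit false
set_option linter.style.haveILetI false
set_option linter.unusedSectionVars false
universe u

namespace Groth.Agent.Helper9.GabB

open CategoryTheory CategoryTheory.Limits AlgebraicGeometry Opposite Abelian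
open Groth.Agent.Helper9.EtMV1 Groth.Agent.Helper9.GabA

variable {X : Scheme.{u}}

/-- the open `O` as an object of the small étale site -/
noncomputable abbrev Oobj (O : X.Opens) : X.Etale :=
  (EtShriek.compEtale O.ι).obj (EtCoh.top ↑O)

/-- the generator `ℤ` -/
abbrev ZZ : AddCommGrpCat.{u + 1} := AddCommGrpCat.of (ULift.{u + 1} ℤ)

/-- evaluation of a morphism `ℤ_O ⟶ G` on the tautological section -/
noncomputable def ev (O : X.Opens) (G : EtCoh.Ab X) (z : KO O ⟶ G) : G.obj.obj (op (Oobj O)) :=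
  ((EtCore.constAdj ↑O).homEquiv ZZ _ ((EtShriek.extZeroAdj O.ι).homEquiv _ _ z)).hom ⟨1⟩

theorem ev_naturality (O : X.Opens) {G G' : EtCoh.Ab X} (z : KO O ⟶ G) (φ : G ⟶ G') :
    ev O G' (z ≫ φ) = φ.hom.app (op (Oobj O)) (ev O G z) := by
  unfold ev
  rw [Adjunction.homEquiv_naturality_right, Adjunction.homEquiv_naturality_right]
  rfl

theorem hom_ext_ZZ {A : AddCommGrpCat.{u + 1}} (f g : ZZ ⟶ A) (h : f.hom ⟨1⟩ = g.hom ⟨1⟩) :
    f = g := by
  ext ⟨n⟩
  have hn : (⟨n⟩ : ULift.{u + 1} ℤ) = n • ⟨1⟩ := by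
    apply ULift.ext
    simp
  rw [hn, map_zsmul, map_zsmul, h]

theorem ev_injective (O : X.Opens) (G : EtCoh.Ab X) : Function.Injective (ev O G) := by
  intro z z' h
  apply ((EtShriek.extZeroAdj O.ι).homEquiv _ _).injective
  apply ((EtCore.constAdj ↑O).homEquiv ZZ _).injective
  exact hom_ext_ZZ _ _ h

theorem ev_surjective (O : X.Opens) (G : EtCoh.Ab X) : Function.Surjective (ev O G) := by
  intro t
  let f : ZZ ⟶ (EtCore.gsec ↑O).obj ((EtShriek.restrAlong O.ι).obj G) :=
    AddCommGrpCat.ofHom ((zmultiplesHom _ t).comp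
      (AddMonoidHom.mk' (fun n : ULift.{u + 1} ℤ => n.down) (fun _ _ => rfl)))
  refine ⟨((EtShriek.extZeroAdj O.ι).homEquiv _ _).symm
    (((EtCore.constAdj ↑O).homEquiv ZZ _).symm f), ?_⟩
  unfold ev
  rw [Equiv.apply_symm_apply, Equiv.apply_symm_apply]
  show (zmultiplesHom _ t) 1 = t
  simp

/-- the canonical section `1` of the constant sheaf `ℤ_X` -/
noncomputable def oneX : (EtCoh.const X ℤ).obj.obj (op (EtCoh.top X)) :=
  ((EtCore.constAdj X).unit.app ZZ).hom ⟨1⟩

/-- the structure map `O ⟶ X` in the small étale site -/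
noncomputable def tO (O : X.Opens) : Oobj O ⟶ EtCoh.top X := (EtCore.topIsTerminal X).from _

section Coh

open Groth.Agent.Helper9.EtShriekOpen Groth.Agent.Helper9.AdjCoh

variable (O : X.Opens)

theorem homEquiv_cO : (EtShriek.extZeroAdj O.ι).homEquiv _ _ (cO O) =
    (EtCore.pullConst O.ι ℤ).inv ≫ (pullIsoRestr O.ι).hom.app (EtCoh.const X ℤ) := by
  have h : cO O = ((EtShriek.extZeroAdj O.ι).homEquiv _ _).symm
      ((EtCore.pullConst O.ι ℤ).inv ≫ (pullIsoRestr O.ι).hom.app (EtCoh.const X ℤ)) := by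
    show c O.ι = _
    unfold c adj
    rw [Adjunction.homEquiv_ofNatIsoRight_symm_apply]
    rfl
  rw [h, Equiv.apply_symm_apply]

set_option backward.isDefEq.respectTransparency false in
lemma sheafAdj_unit_app_hom_app (G : EtCoh.Ab X) (V : X.Etale) :
    (((sheafAdj O.ι).unit.app G).hom).app (op V) = G.obj.map ((siteAdj O.ι).counit.app V).op := by
  dsimp [sheafAdj]
  simp

theorem unit_chain :
    (EtCore.constAdj ↑O).homEquiv ZZ _ ((EtCore.pullConst O.ι ℤ).inv ≫
      (pullIsoRestr O.ι).hom.app (EtCoh.const X ℤ)) =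
    (EtCore.constAdj X).unit.app ZZ ≫
      (EtCore.gsec X).map ((sheafAdj O.ι).unit.app (EtCoh.const X ℤ)) ≫
        (EtCore.pushGsecIso O.ι).hom.app ((EtShriek.restrAlong O.ι).obj (EtCoh.const X ℤ)) := by
  rw [Adjunction.homEquiv_unit, Functor.map_comp, ← Category.assoc]
  have k1 : (EtCore.constAdj ↑O).unit.app ZZ ≫
      (EtCore.gsec ↑O).map (EtCore.pullConst O.ι ℤ).inv =
      (((EtCore.constAdj X).comp (EtCoh.pullPushAdj O.ι)).ofNatIsoRight
        (EtCore.pushGsecIso O.ι)).unit.app ZZ := by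
    have h := Adjunction.unit_leftAdjointUniq_hom_app
      (((EtCore.constAdj X).comp (EtCoh.pullPushAdj O.ι)).ofNatIsoRight (EtCore.pushGsecIso O.ι))
      (EtCore.constAdj ↑O) ZZ
    rw [← h, Category.assoc, ← Functor.map_comp]
    have h2 : (Adjunction.leftAdjointUniq
        (((EtCore.constAdj X).comp (EtCoh.pullPushAdj O.ι)).ofNatIsoRight
          (EtCore.pushGsecIso O.ι)) (EtCore.constAdj ↑O)).hom.app ZZ ≫
        (EtCore.pullConst O.ι ℤ).inv = 𝟙 _ := (EtCore.pullConst O.ι ℤ).hom_inv_id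
    rw [h2, CategoryTheory.Functor.map_id]
    exact Category.comp_id _
  rw [k1, ofNatIsoRight_unit_app, Adjunction.comp_unit_app, Category.assoc, Category.assoc]
  congr 1
  have k2 := (EtCore.pushGsecIso O.ι).hom.naturality
    ((pullIsoRestr O.ι).hom.app (EtCoh.const X ℤ))
  have k3 := Adjunction.unit_leftAdjointUniq_hom_app (EtCoh.pullPushAdj O.ι) (sheafAdj O.ι)
    (EtCoh.const X ℤ)
  rw [← k3, Functor.map_comp, Category.assoc]
  congr 1
  exact k2.symm

set_option backward.isDefEq.respectTransparency.types false in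
theorem ev_cO : ev O (EtCoh.const X ℤ) (cO O) = (EtCoh.const X ℤ).obj.map (tO O).op oneX := by
  unfold ev
  rw [homEquiv_cO, unit_chain]
  let G := EtCoh.const X ℤ
  have e1 : ∀ s : G.obj.obj (op (EtCoh.top X)),
      ((EtCore.gsec X).map ((sheafAdj O.ι).unit.app G) ≫
        (EtCore.pushGsecIso O.ι).hom.app ((EtShriek.restrAlong O.ι).obj G)).hom s =
      G.obj.map (tO O).op s := by
    intro s
    have h1 : (EtCore.gsec X).map ((sheafAdj O.ι).unit.app G) =
        G.obj.map ((siteAdj O.ι).counit.app (EtCoh.top X)).op :=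
      sheafAdj_unit_app_hom_app O G (EtCoh.top X)
    have h2 : (EtCore.pushGsecIso O.ι).hom.app ((EtShriek.restrAlong O.ι).obj G) =
        G.obj.map ((EtShriek.compEtale O.ι).map (EtCore.bcTopIso O.ι).inv).op := rfl
    have h3 : (EtShriek.compEtale O.ι).map (EtCore.bcTopIso O.ι).inv ≫
        (siteAdj O.ι).counit.app (EtCoh.top X) = tO O := (EtCore.topIsTerminal X).hom_ext _ _
    have h4 : G.obj.map ((siteAdj O.ι).counit.app (EtCoh.top X)).op ≫
        G.obj.map ((EtShriek.compEtale O.ι).map (EtCore.bcTopIso O.ι).inv).op =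
        G.obj.map (tO O).op := by
      rw [← Functor.map_comp, ← op_comp, h3]
    have h5 : (EtCore.gsec X).map ((sheafAdj O.ι).unit.app G) ≫
        (EtCore.pushGsecIso O.ι).hom.app ((EtShriek.restrAlong O.ι).obj G) =
        G.obj.map (tO O).op :=
      (congrArg₂ (fun a b => a ≫ b) h1 h2).trans h4
    rw [h5]
    rfl
  exact e1 oneX

end Coh

section Restr

variable {O' O : X.Opens} (hle : O' ≤ O)

set_option backward.isDefEq.respectTransparency.types false in
/-- the inclusion `O' ⟶ O` in the small étale site -/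
noncomputable def ιO : Oobj O' ⟶ Oobj O :=
  MorphismProperty.Over.homMk (X.homOfLE hle) (by
    show X.homOfLE hle ≫ (𝟙 _ ≫ O.ι) = 𝟙 _ ≫ O'.ι
    rw [Category.id_comp, Category.id_comp, X.homOfLE_ι])

theorem injective_app_of_mono {F G : EtCoh.Ab X} (φ : F ⟶ G) [Mono φ] (V : X.Etaleᵒᵖ) :
    Function.Injective (φ.hom.app V) := by
  have h1 : Mono ((sheafToPresheaf _ _).map φ) := inferInstance
  have h2 := (NatTrans.mono_iff_mono_app _).1 h1 V
  exact (AddCommGrpCat.mono_iff_injective _).1 h2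

theorem ev_aO_id : ev O' (KO O) (aO hle) = (KO O).obj.map (ιO hle).op (ev O (KO O) (𝟙 _)) := by
  apply injective_app_of_mono (cO O) (op (Oobj O'))
  have h1 : (cO O).hom.app (op (Oobj O')) (ev O' (KO O) (aO hle)) =
      (EtCoh.const X ℤ).obj.map (tO O').op oneX := by
    rw [← ev_naturality, aO_c, ev_cO]
  have h2 : (cO O).hom.app (op (Oobj O')) ((KO O).obj.map (ιO hle).op (ev O (KO O) (𝟙 _))) =
      (EtCoh.const X ℤ).obj.map (tO O').op oneX := by
    have n := NatTrans.naturality_apply (cO O).hom (ιO hle).op (ev O (KO O) (𝟙 _))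
    rw [n, ← ev_naturality, Category.id_comp, ev_cO]
    have e : ιO hle ≫ tO O = tO O' := (EtCore.topIsTerminal X).hom_ext _ _
    rw [← e, op_comp, Functor.map_comp]
    rfl
  rw [h1, h2]

theorem ev_aO (G : EtCoh.Ab X) (z : KO O ⟶ G) :
    ev O' G (aO hle ≫ z) = G.obj.map (ιO hle).op (ev O G z) := by
  rw [ev_naturality, ev_aO_id]
  have n := NatTrans.naturality_apply z.hom (ιO hle).op (ev O (KO O) (𝟙 _))
  rw [n, ← ev_naturality, Category.id_comp]

end Restr

section Lift

open Groth.Agent.Helper9.EtAlmostCocont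

set_option backward.isDefEq.respectTransparency.types false in
theorem exists_lift_epi (O : X.Opens) {A' : EtCoh.Ab X} (p : A' ⟶ KO O) [Epi p] (x : X)
    (hx : x ∈ O) (hs : EtCoh.IsStrictlyHenselianLocalRing (X.presheaf.stalk x)) :
    ∃ (O' : X.Opens) (hle : O' ≤ O) (_ : x ∈ O') (ℓ : KO O' ⟶ A'), ℓ ≫ p = aO hle := by
  have hls : Sheaf.IsLocallySurjective p :=
    (Sheaf.isLocallySurjective_iff_epi' _ p).2 inferInstance
  have hmem := Presheaf.imageSieve_mem X.smallEtaleTopology p.hom (ev O (KO O) (𝟙 _))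
  obtain ⟨V, g, v, ⟨t, ht⟩, -, hv⟩ := (mem_iff (Oobj O) _).1 hmem ⟨x, hx⟩
  have hw : g.left ≫ (Oobj O).hom = V.hom := MorphismProperty.Over.w g
  have hOhom : (Oobj O).hom = O.ι := Category.id_comp _
  have hVx : V.hom.base v = x := by
    rw [← hw, hOhom, Scheme.Hom.comp_apply, hv]
    rfl
  let gV : V.left ⟶ X := V.hom
  have : Etale gV := V.prop
  obtain ⟨W, hxW, σ, hσ1, hσ2⟩ :=
    Groth.Agent.Helper9.StrictHensNbhd.exists_section_nbhd gV x hs v hVx
  have hσO : (σ ≫ g.left) ≫ O.ι = W.ι := by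
    rw [Category.assoc, ← hOhom, hw, hσ1]
  have hle : W ≤ O := by
    intro y hy
    have e1 : W.ι.base ⟨y, hy⟩ = y := rfl
    rw [← e1, ← hσO, Scheme.Hom.comp_apply]
    exact ((σ ≫ g.left).base ⟨y, hy⟩).2
  let s : Oobj W ⟶ V := MorphismProperty.Over.homMk σ (by
    show σ ≫ V.hom = 𝟙 _ ≫ W.ι
    rw [Category.id_comp, hσ1])
  have hsg : s ≫ g = ιO hle := by
    apply MorphismProperty.Over.Hom.ext
    show σ ≫ g.left = X.homOfLE hle
    exact (cancel_mono O.ι).1 (hσO.trans (X.homOfLE_ι hle).symm)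
  obtain ⟨ℓ, hℓ⟩ := ev_surjective W A' (A'.obj.map s.op t)
  refine ⟨W, hle, hxW, ℓ, ?_⟩
  apply ev_injective W (KO O)
  rw [ev_naturality, hℓ, ev_aO_id, ← hsg, op_comp, Functor.map_comp]
  have n := NatTrans.naturality_apply p.hom s.op t
  rw [n, ht]
  rfl

end Lift

end Groth.Agent.Helper9.GabB
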