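import Mathlib
import Groth.Agent.Helper1.Horseshoe

/-! The adjunction map `Ext^n(A, R F) → Ext^n(L A, F)` for `L ⊣ R` with `L` exact is bijective
when the higher right derived functors of `R` vanish on `F` (degenerate Leray). -/

set_option autoImplicit false
universe w v₁ v₂ u₁ u₂

open CategoryTheory CategoryTheory.Limits Abelian

namespace Groth.Agent.Helper9.AdjExtMap

variable {𝒜 : Type u₁} [Category.{v₁} 𝒜] [Abelian 𝒜] {ℬ : Type u₂} [Category.{v₂} ℬ] [Abelian ℬ]
  [HasExt.{w} 𝒜] [HasExt.{w} ℬ] {L : 𝒜 ⥤ ℬ} {R : ℬ ⥤ 𝒜} (adj : L ⊣ R) [L.Additive] [R.Additive]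
  [PreservesFiniteLimits L] [PreservesFiniteColimits L]

/-- the adjunction map on Ext -/
noncomputable def φ (A : 𝒜) (F : ℬ) (n : ℕ) (e : Ext.{w} A (R.obj F) n) : Ext.{w} (L.obj A) F n :=
  (e.mapExactFunctor L).comp (Ext.mk₀ (adj.counit.app F)) (add_zero n)

lemma φ_zero (A : 𝒜) (F : ℬ) (n : ℕ) : φ adj A F n 0 = 0 := by
  simp [φ]

lemma φ_add (A : 𝒜) (F : ℬ) (n : ℕ) (e e' : Ext.{w} A (R.obj F) n) :
    φ adj A F n (e + e') = φ adj A F n e + φ adj A F n e' := by
  simp [φ, Ext.add_comp]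

lemma φ_mk₀ (A : 𝒜) (F : ℬ) (g : A ⟶ R.obj F) :
    φ adj A F 0 (Ext.mk₀ g) = Ext.mk₀ ((adj.homEquiv A F).symm g) := by
  rw [φ, Ext.mapExactFunctor_mk₀, Ext.mk₀_comp_mk₀, Adjunction.homEquiv_counit]

lemma φ_zero_bijective (A : 𝒜) (F : ℬ) : Function.Bijective (φ adj A F 0) := by
  constructor
  · intro x y h
    obtain ⟨f, rfl⟩ := (Ext.mk₀_bijective _ _).2 x
    obtain ⟨g, rfl⟩ := (Ext.mk₀_bijective _ _).2 y
    rw [φ_mk₀, φ_mk₀] at h
    have := (Ext.mk₀_bijective _ _).1 h
    rw [(adj.homEquiv A F).symm.injective this]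
  · intro y
    obtain ⟨g, rfl⟩ := (Ext.mk₀_bijective _ _).2 y
    refine ⟨Ext.mk₀ (adj.homEquiv A F g), ?_⟩
    rw [φ_mk₀, Equiv.symm_apply_apply]

lemma φ_comp_mk₀ (A : 𝒜) {F G : ℬ} (g : F ⟶ G) (n : ℕ) (e : Ext.{w} A (R.obj F) n) :
    φ adj A G n (e.comp (Ext.mk₀ (R.map g)) (add_zero n)) =
      (φ adj A F n e).comp (Ext.mk₀ g) (add_zero n) := by
  rw [φ, φ, Ext.mapExactFunctor_comp, Ext.mapExactFunctor_mk₀, Ext.comp_assoc_of_third_deg_zero,
    Ext.comp_assoc_of_third_deg_zero, Ext.mk₀_comp_mk₀, Ext.mk₀_comp_mk₀]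
  congr 2
  exact adj.counit.naturality g

/-- the counit as a morphism of short complexes -/
noncomputable def counitHom (S : ShortComplex ℬ) : (S.map R).map L ⟶ S where
  τ₁ := adj.counit.app S.X₁
  τ₂ := adj.counit.app S.X₂
  τ₃ := adj.counit.app S.X₃
  comm₁₂ := (adj.counit.naturality S.f).symm
  comm₂₃ := (adj.counit.naturality S.g).symm

omit [R.Additive] in
lemma map_comp_aux {A X₃ X₁ : 𝒜} {n : ℕ} (e : Ext.{w} A X₃ n) (c : Ext.{w} X₃ X₁ 1) {F₁ : ℬ}
    (ε : L.obj X₁ ⟶ F₁) :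
    ((e.comp c rfl).mapExactFunctor L).comp (Ext.mk₀ ε) (add_zero (n + 1)) =
      (e.mapExactFunctor L).comp ((c.mapExactFunctor L).comp (Ext.mk₀ ε) (add_zero 1)) rfl := by
  rw [Ext.mapExactFunctor_comp, Ext.comp_assoc_of_third_deg_zero]

lemma φ_comp_extClass (A : 𝒜) {S : ShortComplex ℬ} (hS : S.ShortExact)
    (hRS : (S.map R).ShortExact) (n : ℕ) (e : Ext.{w} A (S.map R).X₃ n) :
    φ adj A S.X₁ (n + 1) (e.comp hRS.extClass rfl) =
      (φ adj A S.X₃ n e).comp hS.extClass rfl := by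
  have hnat := ShortComplex.ShortExact.extClass_naturality (hRS.map_of_exact L) hS
    (counitHom adj S)
  refine (map_comp_aux e hRS.extClass (adj.counit.app S.X₁)).trans ?_
  rw [Ext.mapExactFunctor_extClass]
  erw [hnat]
  exact (Ext.comp_assoc_of_second_deg_zero (e.mapExactFunctor L)
    (Ext.mk₀ (adj.counit.app S.X₃)) hS.extClass rfl).symm

section main

variable [EnoughInjectives ℬ]

/-- the class of `R`-acyclic objects -/
def Acyc (R : ℬ ⥤ 𝒜) [R.Additive] (F : ℬ) : Prop :=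
  ∀ q : ℕ, IsZero ((R.rightDerived (q + 1)).obj F)

lemma acyc_of_injective (I : ℬ) [Injective I] : Acyc R I :=
  fun q => Functor.isZero_rightDerived_obj_injective_succ R q I

include adj in
lemma shortExact_map_of_acyc {S : ShortComplex ℬ} (hS : S.ShortExact) (h : Acyc R S.X₁) :
    (S.map R).ShortExact := by
  haveI : PreservesFiniteLimits R := ⟨fun J _ _ => adj.rightAdjoint_preservesLimits.1⟩
  obtain ⟨hex, hmono⟩ :=
    (Functor.preservesFiniteLimits_iff_forall_exact_map_and_mono R).1 inferInstance S hS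
  obtain ⟨δ, w₁, w₂, h₁, h₂⟩ := Groth.Agent.Helper1.Horseshoe.hasLES_rightDerived R S hS 0
  have hepi0 : Epi ((R.rightDerived 0).map S.g) := h₁.epi_f ((h 0).eq_of_tgt _ _)
  have hepi : Epi (R.map S.g) := by
    have e := R.rightDerivedZeroIsoSelf
    have : R.map S.g = e.inv.app _ ≫ (R.rightDerived 0).map S.g ≫ e.hom.app _ := by
      rw [e.hom.naturality, Iso.inv_hom_id_app_assoc]
    rw [this]
    infer_instance
  exact { exact := hex, mono_f := hmono, epi_g := hepi }

lemma acyc_X₃ {S : ShortComplex ℬ} (hS : S.ShortExact) (h : Acyc R S.X₁) [Injective S.X₂] :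
    Acyc R S.X₃ := by
  intro q
  obtain ⟨δ, w₁, w₂, h₁, h₂⟩ := Groth.Agent.Helper1.Horseshoe.hasLES_rightDerived R S hS (q + 1)
  have hmono : Mono δ := h₁.mono_g ((acyc_of_injective (R := R) S.X₂ q).eq_of_src _ _)
  exact IsZero.of_mono δ (h (q + 1))

theorem bijective (n : ℕ) : ∀ (F : ℬ), Acyc R F → ∀ A : 𝒜, Function.Bijective (φ.{w} adj A F n) := by
  induction n with
  | zero => exact fun F _ A => φ_zero_bijective adj A F
  | succ n ih =>
    intro F hF A
    let S : ShortComplex ℬ :=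
      ShortComplex.mk (Injective.ι F) (cokernel.π (Injective.ι F)) (cokernel.condition _)
    have hS : S.ShortExact :=
      { exact := ShortComplex.exact_cokernel _
        mono_f := by dsimp [S]; infer_instance
        epi_g := by dsimp [S]; infer_instance }
    haveI : Injective S.X₂ := by dsimp [S]; infer_instance
    have hRS : (S.map R).ShortExact := shortExact_map_of_acyc adj hS hF
    have hQ : Acyc R S.X₃ := acyc_X₃ hS hF
    haveI : Injective (R.obj S.X₂) := Injective.injective_of_adjoint adj _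
    haveI : Injective (S.map R).X₂ := inferInstanceAs (Injective (R.obj S.X₂))
    have ih₂ := ih S.X₂ (acyc_of_injective _) A
    have ih₃ := ih S.X₃ hQ A
    constructor
    · -- injectivity
      intro x y hxy
      have hsub : φ adj A F (n + 1) (x - y) = 0 := by
        have := φ_add adj A F (n + 1) (x - y) y
        rw [sub_add_cancel] at this
        rw [hxy] at this
        exact (add_eq_right.1 this.symm)
      suffices h0 : x - y = 0 from sub_eq_zero.1 h0
      generalize x - y = z at hsub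
      obtain ⟨w, rfl⟩ := Ext.covariant_sequence_exact₁ A hRS z
        (Ext.eq_zero_of_injective _) rfl
      have h1 : (φ adj A S.X₃ n w).comp hS.extClass rfl = 0 := by
        rw [← φ_comp_extClass adj A hS hRS n w]; exact hsub
      obtain ⟨v, hv⟩ := Ext.covariant_sequence_exact₃ (L.obj A) hS _ rfl h1
      obtain ⟨v', rfl⟩ := ih₂.2 v
      have h2 : φ adj A S.X₃ n (v'.comp (Ext.mk₀ (R.map S.g)) (add_zero n)) =
          φ adj A S.X₃ n w := by
        rw [φ_comp_mk₀]; exact hv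
      have h3 := ih₃.1 h2
      rw [← h3]
      have := hRS.comp_extClass
      erw [Ext.comp_assoc_of_second_deg_zero, this]
      exact Ext.comp_zero v' _ _ _ _
    · -- surjectivity
      intro y
      obtain ⟨z, rfl⟩ := Ext.covariant_sequence_exact₁ (L.obj A) hS y
        (Ext.eq_zero_of_injective _) rfl
      obtain ⟨w, rfl⟩ := ih₃.2 z
      exact ⟨w.comp hRS.extClass rfl, φ_comp_extClass adj A hS hRS n w⟩

end main

end Groth.Agent.Helper9.AdjExtMap
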