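import Mathlib
import Groth.Prelude.Def_EtAcyc
import Groth.Prelude.Def_FinFr
import Groth.Agent.Helper9.EtAlmostCocont

/-! Pull-back on étale cohomology and the long exact sequence; a four-lemma style consequence. -/

set_option autoImplicit false
set_option linter.style.haveILetI false
universe u

namespace Groth.Agent.Helper9.HpullLES

open CategoryTheory CategoryTheory.Limits AlgebraicGeometry Opposite Abelian

section
variable {X Y : Scheme.{u}} (h : Y ⟶ X) [PreservesFiniteLimits (EtCoh.pull h)]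

theorem Hpull_delta {S : ShortComplex (EtCoh.Ab X)} (hS : S.ShortExact) {n n' : ℕ}
    (x : EtCoh.H X S.X₃ n) (hn : n + 1 = n') :
    EtCore.Hpull h S.X₁ n' (x.comp hS.extClass hn) =
      (EtCore.Hpull h S.X₃ n x).comp (hS.map_of_exact (EtCoh.pull h)).extClass hn := by
  simp only [EtCore.Hpull, AddMonoidHom.coe_comp, AddMonoidHom.mk'_apply, Function.comp_apply,
    Functor.mapExtAddHom_apply, Abelian.Ext.mapExactFunctor_comp,
    Abelian.Ext.mapExactFunctor_extClass]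
  exact (Ext.comp_assoc _ _ _ (zero_add n) hn (by omega)).symm

end

set_option backward.isDefEq.respectTransparency.types false in
theorem isLTorsion_of_epi {X : Scheme.{u}} (L : Set ℕ) {G Q : EtCoh.Ab X} (π : G ⟶ Q) [Epi π]
    (hG : EtAcyc.IsLTorsion L G) : EtAcyc.IsLTorsion L Q := by
  intro U s x
  have hls : Sheaf.IsLocallySurjective π := (Sheaf.isLocallySurjective_iff_epi' _ π).2 inferInstance
  have hmem := Presheaf.imageSieve_mem X.smallEtaleTopology π.hom s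
  obtain ⟨V, g, v, ⟨t, ht⟩, -, hv⟩ := (EtAlmostCocont.mem_iff U _).1 hmem x
  obtain ⟨W, g', m, ⟨w, hw⟩, hm, hz⟩ := hG V t v
  refine ⟨W, g' ≫ g, m, ⟨w, ?_⟩, hm, ?_⟩
  · have e0 : (g' ≫ g).left w = g.left (g'.left w) := rfl
    rw [e0, hw, hv]
  · have e1 : Q.obj.map (g' ≫ g).op s = Q.obj.map g'.op (Q.obj.map g.op s) := by
      rw [op_comp, Functor.map_comp]; rfl
    have e2 : Q.obj.map g'.op (π.hom.app (op V) t) = π.hom.app (op W) (G.obj.map g'.op t) :=
      (ConcreteCategory.congr_hom (π.hom.naturality g'.op) t).symm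
    rw [e1, ← ht, e2, ← map_nsmul, hz, map_zero]

theorem main {X Y : Scheme.{u}} (h : Y ⟶ X) (L : Set ℕ) (n : ℕ) (hc : EtAcyc.CompN h L n)
    [PreservesFiniteLimits (EtCoh.pull h)] {F G : EtCoh.Ab X} (u : F ⟶ G) [Mono u]
    (_hF : EtAcyc.IsLTorsion L F) (hG : EtAcyc.IsLTorsion L G)
    (ξ : EtCoh.H Y ((EtCoh.pull h).obj F) (n + 1))
    (hξ : (EtCoh.HF Y (n + 1)).map ((EtCoh.pull h).map u) ξ ∈
      Set.range (EtCore.Hpull h G (n + 1))) :
    ξ ∈ Set.range (EtCore.Hpull h F (n + 1)) := by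
  obtain ⟨η, hη⟩ := hξ
  replace hη : EtCore.Hpull h G (n + 1) η = Sheaf.H.map ((EtCoh.pull h).map u) (n + 1) ξ := hη
  let S : ShortComplex (EtCoh.Ab X) := ShortComplex.mk u (cokernel.π u) (cokernel.condition u)
  have hS : S.ShortExact := ⟨ShortComplex.exact_cokernel u⟩
  have hQ : EtAcyc.IsLTorsion L S.X₃ := isLTorsion_of_epi L (cokernel.π u) hG
  obtain ⟨hQb, hQi⟩ := hc S.X₃ hQ
  -- η maps to zero in H^{n+1}(X, Q)
  have h0 : Sheaf.H.map S.g (n + 1) η = 0 := by
    apply hQi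
    rw [map_zero, EtCore.Hpull_natural, hη, ← Sheaf.H.map_comp_apply, ← Functor.map_comp]
    have : S.f ≫ S.g = 0 := S.zero
    rw [this, Functor.map_zero]
    simp [Sheaf.H.map_apply]
  obtain ⟨ζ, hζ⟩ := Ext.covariant_sequence_exact₂ _ hS η h0
  -- d := h^* ζ - ξ maps to zero in H^{n+1}(Y, h^* G)
  have hd : (EtCore.Hpull h F (n + 1) ζ - ξ).comp (Ext.mk₀ (S.map (EtCoh.pull h)).f)
      (add_zero (n + 1)) = 0 := by
    have e1 : Sheaf.H.map ((EtCoh.pull h).map u) (n + 1) (EtCore.Hpull h F (n + 1) ζ - ξ) = 0 := by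
      rw [map_sub, ← EtCore.Hpull_natural, ← hη, sub_eq_zero]
      exact congrArg _ hζ
    exact e1
  obtain ⟨x₃, hx₃⟩ := Ext.covariant_sequence_exact₁ _ (hS.map_of_exact (EtCoh.pull h)) _ hd (rfl : n + 1 = n + 1)
  obtain ⟨q, hq⟩ := (hQb n le_rfl).2 x₃
  refine ⟨ζ - q.comp hS.extClass rfl, ?_⟩
  rw [map_sub, Hpull_delta h hS q rfl, hq]
  exact (congrArg (fun z => EtCore.Hpull h F (n + 1) ζ - z) hx₃).trans (sub_sub_cancel _ _)

end Groth.Agent.Helper9.HpullLES
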