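import Groth.Agent.Helper9.FM2
import Mathlib

/-!
# Noetherian and Artinian objects of abelian categories: quotients, extensions, finite sups
-/

set_option autoImplicit false

namespace Groth.Agent.Helper9.NoethObj

open CategoryTheory CategoryTheory.Limits
open Groth.Agent.Helper9.FM

universe v u

variable {C : Type u} [Category.{v} C] [Abelian C]

theorem noeth_iff (X : C) : IsNoetherianObject X ↔ WellFoundedGT (Subobject X) :=
  ObjectProperty.is_iff _ _

theorem art_iff (X : C) : IsArtinianObject X ↔ WellFoundedLT (Subobject X) :=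
  ObjectProperty.is_iff _ _

/-- pullback of subobjects along an epimorphism is strictly monotone -/
theorem pullback_strictMono {X Y : C} (p : X ⟶ Y) [Epi p] :
    StrictMono (fun T : Subobject Y => (Subobject.pullback p).obj T) := by
  have hs : Function.Surjective (m p) := (epi_iff p).1 inferInstance
  have hle : ∀ S T : Subobject Y, (Subobject.pullback p).obj S ≤ (Subobject.pullback p).obj T ↔ S ≤ T := by
    intro S T
    rw [sub_le_iff, sub_le_iff, sub_pullback, sub_pullback]
    exact Submodule.comap_le_comap_iff_of_surjective hs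
  intro S T hST
  rw [lt_iff_le_not_ge] at hST ⊢
  exact ⟨(hle S T).2 hST.1, fun h => hST.2 ((hle T S).1 h)⟩

theorem isNoetherianObject_of_epi {X Y : C} (p : X ⟶ Y) [Epi p] [IsNoetherianObject X] :
    IsNoetherianObject Y := by
  rw [noeth_iff]
  exact (pullback_strictMono p).wellFoundedGT

theorem isArtinianObject_of_epi {X Y : C} (p : X ⟶ Y) [Epi p] [IsArtinianObject X] :
    IsArtinianObject Y := by
  rw [art_iff]
  exact (pullback_strictMono p).wellFoundedLT

/-- the pair (restriction to the sub, image in the quotient) -/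
noncomputable def pair {X' X X'' : C} (i : X' ⟶ X) (p : X ⟶ X'') (S : Subobject X) :
    Subobject X' × Subobject X'' :=
  ((Subobject.pullback i).obj S, imageSubobject (S.arrow ≫ p))

theorem pair_strictMono (S : ShortComplex C) (hS : S.ShortExact) :
    StrictMono (pair S.f S.g) := by
  have hinj : Function.Injective (m S.f) := (mono_iff _).1 hS.mono_f
  have hex := (exact_iff S).1 hS.exact
  have hmono : ∀ A B : Subobject S.X₂, A ≤ B → pair S.f S.g A ≤ pair S.f S.g B := by
    intro A B hAB
    constructor
    · show (Subobject.pullback S.f).obj A ≤ (Subobject.pullback S.f).obj B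
      rw [sub_le_iff, sub_pullback, sub_pullback]
      exact Submodule.comap_mono ((sub_le_iff _ _).1 hAB)
    · show imageSubobject (A.arrow ≫ S.g) ≤ imageSubobject (B.arrow ≫ S.g)
      rw [sub_le_iff, sub_image_comp, sub_image_comp]
      exact Submodule.map_mono ((sub_le_iff _ _).1 hAB)
  intro A B hAB
  rw [lt_iff_le_not_ge] at hAB ⊢
  refine ⟨hmono A B hAB.1, fun h => hAB.2 ?_⟩
  -- B ≤ A
  have h1 : sub ((Subobject.pullback S.f).obj B) ≤ sub ((Subobject.pullback S.f).obj A) :=
    (sub_le_iff _ _).1 h.1
  have h2 : sub (imageSubobject (B.arrow ≫ S.g)) ≤ sub (imageSubobject (A.arrow ≫ S.g)) :=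
    (sub_le_iff _ _).1 h.2
  rw [sub_pullback, sub_pullback] at h1
  rw [sub_image_comp, sub_image_comp] at h2
  have hAB' := (sub_le_iff _ _).1 hAB.1
  rw [sub_le_iff]
  intro x hx
  obtain ⟨x', hx', hxx'⟩ := h2 ⟨x, hx, rfl⟩
  have hd : m S.g (x - x') = 0 := by rw [map_sub, hxx', sub_self]
  obtain ⟨u, hu⟩ := hex _ hd
  have huB : u ∈ Submodule.comap (m S.f) (sub B) := by
    show m S.f u ∈ sub B
    rw [hu]
    exact Submodule.sub_mem _ hx (hAB' hx')
  have huA := h1 huB
  have : x = x' + m S.f u := by rw [hu]; abel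
  rw [this]
  exact Submodule.add_mem _ hx' huA

theorem isNoetherianObject_of_shortExact (S : ShortComplex C) (hS : S.ShortExact)
    [IsNoetherianObject S.X₁] [IsNoetherianObject S.X₃] : IsNoetherianObject S.X₂ := by
  rw [noeth_iff]
  exact (pair_strictMono S hS).wellFoundedGT

theorem isArtinianObject_of_shortExact (S : ShortComplex C) (hS : S.ShortExact)
    [IsArtinianObject S.X₁] [IsArtinianObject S.X₃] : IsArtinianObject S.X₂ := by
  rw [art_iff]
  exact (pair_strictMono S hS).wellFoundedLT

/-- a convenient form: mono `i`, epi `p`, exact in the middle (elementwise) -/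
theorem isNoetherianObject_of_ext {X' X X'' : C} (i : X' ⟶ X) (p : X ⟶ X'') (w : i ≫ p = 0)
    (hi : Mono i) (hp : Epi p) (hex : (ShortComplex.mk i p w).Exact)
    [IsNoetherianObject X'] [IsNoetherianObject X''] : IsNoetherianObject X :=
  isNoetherianObject_of_shortExact (ShortComplex.mk i p w) ⟨hex⟩

theorem isArtinianObject_of_ext {X' X X'' : C} (i : X' ⟶ X) (p : X ⟶ X'') (w : i ≫ p = 0)
    (hi : Mono i) (hp : Epi p) (hex : (ShortComplex.mk i p w).Exact)
    [IsArtinianObject X'] [IsArtinianObject X''] : IsArtinianObject X :=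
  isArtinianObject_of_shortExact (ShortComplex.mk i p w) ⟨hex⟩

end Groth.Agent.Helper9.NoethObj
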