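import Groth.Agent.Helper9.ARSerre
import Groth.Agent.Helper9.NoethObj
import Mathlib

set_option autoImplicit false

namespace Groth.Agent.Helper9.ARExt

open CategoryTheory CategoryTheory.Limits Opposite ZeroObject
open Groth.Agent.Helper9.FM Groth.Agent.Helper9.ARSysML Groth.Agent.Helper9.ARLin
open Groth.Agent.Helper9.ARShift Groth.Agent.Helper9.ARQuot Groth.Agent.Helper9.ARAdapt
open Groth.Agent.Helper9.ARFker Groth.Agent.Helper9.ARSes Groth.Agent.Helper9.ARSerre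
open Groth.Agent.Helper4.ARSysBasic

universe w v u

variable {C : Type u} [Category.{v} C] [Abelian C]

theorem app_comp_apply {X Y Z : ARSys.PS C} (f : X ⟶ Y) (g : Y ⟶ Z) (n : ℕ)
    (x : (F C).obj (X.obj (op n))) :
    m ((f ≫ g).app (op n)) x = m (g.app (op n)) (m (f.app (op n)) x) := by
  rw [NatTrans.comp_app, m_comp_apply]

theorem app_zero_of_eq {X Y Z : ARSys.PS C} (f : X ⟶ Y) (g : Y ⟶ Z) (h : f ≫ g = 0) (n : ℕ)
    (x : (F C).obj (X.obj (op n))) : m (g.app (op n)) (m (f.app (op n)) x) = 0 := by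
  rw [← app_comp_apply, h]; simp

theorem biprod_app_ext {X Y : ARSys.PS C} (n : ℕ) (z : (F C).obj ((X ⊞ Y).obj (op n)))
    (h1 : m ((biprod.fst : X ⊞ Y ⟶ X).app (op n)) z = 0)
    (h2 : m ((biprod.snd : X ⊞ Y ⟶ Y).app (op n)) z = 0) : z = 0 := by
  have h : m ((𝟙 (X ⊞ Y) : X ⊞ Y ⟶ X ⊞ Y).app (op n)) z = z := by
    rw [NatTrans.id_app, m_id]; rfl
  rw [← h, ← biprod.total, NatTrans.app_add, m_add, LinearMap.add_apply, app_comp_apply,
    app_comp_apply, h1, h2, map_zero, map_zero, add_zero]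

theorem biprod_app_exists {X Y : ARSys.PS C} (n : ℕ) (x : (F C).obj (X.obj (op n)))
    (y : (F C).obj (Y.obj (op n))) :
    ∃ z : (F C).obj ((X ⊞ Y).obj (op n)),
      m ((biprod.fst : X ⊞ Y ⟶ X).app (op n)) z = x ∧
      m ((biprod.snd : X ⊞ Y ⟶ Y).app (op n)) z = y := by
  refine ⟨m ((biprod.inl : X ⟶ X ⊞ Y).app (op n)) x + m ((biprod.inr : Y ⟶ X ⊞ Y).app (op n)) y,
    ?_, ?_⟩
  · rw [map_add, ← app_comp_apply, ← app_comp_apply, biprod.inl_fst, biprod.inr_fst]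
    simp
  · rw [map_add, ← app_comp_apply, ← app_comp_apply, biprod.inl_snd, biprod.inr_snd]
    simp

/-- the fibre product of `f` and `g`, as a kernel -/
noncomputable abbrev fib {X Y Z : ARSys.PS C} (f : X ⟶ Z) (g : Y ⟶ Z) : ARSys.PS C :=
  kernel (biprod.desc f (-g))

noncomputable def fib₁ {X Y Z : ARSys.PS C} (f : X ⟶ Z) (g : Y ⟶ Z) : fib f g ⟶ X :=
  kernel.ι _ ≫ biprod.fst

noncomputable def fib₂ {X Y Z : ARSys.PS C} (f : X ⟶ Z) (g : Y ⟶ Z) : fib f g ⟶ Y :=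
  kernel.ι _ ≫ biprod.snd

theorem fib_comm {X Y Z : ARSys.PS C} (f : X ⟶ Z) (g : Y ⟶ Z) :
    fib₁ f g ≫ f = fib₂ f g ≫ g := by
  have e : biprod.desc f (-g) = biprod.fst ≫ f - biprod.snd ≫ g := by
    apply biprod.hom_ext' <;> simp
  have h : kernel.ι (biprod.desc f (-g)) ≫ (biprod.fst ≫ f - biprod.snd ≫ g) = 0 := by
    rw [← e]; exact kernel.condition _
  rw [Preadditive.comp_sub, sub_eq_zero] at h
  unfold fib₁ fib₂
  rw [Category.assoc, Category.assoc]
  exact h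

theorem fib_comm_apply {X Y Z : ARSys.PS C} (f : X ⟶ Z) (g : Y ⟶ Z) (n : ℕ)
    (p : (F C).obj ((fib f g).obj (op n))) :
    m (f.app (op n)) (m ((fib₁ f g).app (op n)) p) =
      m (g.app (op n)) (m ((fib₂ f g).app (op n)) p) := by
  rw [← app_comp_apply, ← app_comp_apply, fib_comm]

theorem fib_ext {X Y Z : ARSys.PS C} (f : X ⟶ Z) (g : Y ⟶ Z) (n : ℕ)
    (p : (F C).obj ((fib f g).obj (op n)))
    (h1 : m ((fib₁ f g).app (op n)) p = 0) (h2 : m ((fib₂ f g).app (op n)) p = 0) : p = 0 := by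
  apply (mono_iff _).1 (ker_mono (biprod.desc f (-g)) (op n))
  rw [map_zero]
  apply biprod_app_ext
  · rw [← app_comp_apply]; exact h1
  · rw [← app_comp_apply]; exact h2

theorem fib_ext' {X Y Z : ARSys.PS C} (f : X ⟶ Z) (g : Y ⟶ Z) (n : ℕ)
    (p p' : (F C).obj ((fib f g).obj (op n)))
    (h1 : m ((fib₁ f g).app (op n)) p = m ((fib₁ f g).app (op n)) p')
    (h2 : m ((fib₂ f g).app (op n)) p = m ((fib₂ f g).app (op n)) p') : p = p' := by
  rw [← sub_eq_zero]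
  apply fib_ext f g n
  · rw [map_sub, h1, sub_self]
  · rw [map_sub, h2, sub_self]

theorem fib_exists {X Y Z : ARSys.PS C} (f : X ⟶ Z) (g : Y ⟶ Z) (n : ℕ)
    (x : (F C).obj (X.obj (op n))) (y : (F C).obj (Y.obj (op n)))
    (h : m (f.app (op n)) x = m (g.app (op n)) y) :
    ∃ p : (F C).obj ((fib f g).obj (op n)),
      m ((fib₁ f g).app (op n)) p = x ∧ m ((fib₂ f g).app (op n)) p = y := by
  obtain ⟨z, hz1, hz2⟩ := biprod_app_exists (X := X) (Y := Y) n x y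
  have e : biprod.desc f (-g) = biprod.fst ≫ f - biprod.snd ≫ g := by
    apply biprod.hom_ext' <;> simp
  have hz : m ((biprod.desc f (-g)).app (op n)) z = 0 := by
    rw [e, NatTrans.app_sub, m_sub, LinearMap.sub_apply, app_comp_apply, app_comp_apply, hz1, hz2,
      h, sub_self]
  obtain ⟨p, hp⟩ := (exact_iff _).1 (ker_exact (biprod.desc f (-g)) (op n)) z hz
  refine ⟨p, ?_, ?_⟩
  · show m ((kernel.ι (biprod.desc f (-g)) ≫ biprod.fst).app (op n)) p = x
    rw [app_comp_apply]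
    have : m ((kernel.ι (biprod.desc f (-g))).app (op n)) p = z := hp
    rw [this, hz1]
  · show m ((kernel.ι (biprod.desc f (-g)) ≫ biprod.snd).app (op n)) p = y
    rw [app_comp_apply]
    have : m ((kernel.ι (biprod.desc f (-g))).app (op n)) p = z := hp
    rw [this, hz2]

/-- lifting into the fibre product -/
noncomputable def fibLift {W X Y Z : ARSys.PS C} (f : X ⟶ Z) (g : Y ⟶ Z) (a : W ⟶ X) (b : W ⟶ Y)
    (h : a ≫ f = b ≫ g) : W ⟶ fib f g :=
  kernel.lift _ (biprod.lift a b) (by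
    have e : biprod.desc f (-g) = biprod.fst ≫ f - biprod.snd ≫ g := by
      apply biprod.hom_ext' <;> simp
    rw [e, Preadditive.comp_sub, sub_eq_zero, biprod.lift_fst_assoc, biprod.lift_snd_assoc, h])

theorem fibLift_fst {W X Y Z : ARSys.PS C} (f : X ⟶ Z) (g : Y ⟶ Z) (a : W ⟶ X) (b : W ⟶ Y)
    (h : a ≫ f = b ≫ g) : fibLift f g a b h ≫ fib₁ f g = a := by
  unfold fibLift fib₁
  rw [kernel.lift_ι_assoc, biprod.lift_fst]

theorem fibLift_snd {W X Y Z : ARSys.PS C} (f : X ⟶ Z) (g : Y ⟶ Z) (a : W ⟶ X) (b : W ⟶ Y)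
    (h : a ≫ f = b ≫ g) : fibLift f g a b h ≫ fib₂ f g = b := by
  unfold fibLift fib₂
  rw [kernel.lift_ι_assoc, biprod.lift_snd]

/-- base change of an isomorphism up to translation -/
theorem fib₁_isARIso {X Y Z : ARSys.PS C} (f : X ⟶ Z) (g : Y ⟶ Z) (hg : ARSys.IsARIso g) :
    ARSys.IsARIso (fib₁ f g) := by
  obtain ⟨r, hr⟩ := (isARNull_kernel_iff g).1 hg.1
  obtain ⟨s, hs⟩ := (isARNull_cokernel_iff g).1 hg.2
  constructor
  · rw [isARNull_kernel_iff]
    refine ⟨r, fun n p hp => ?_⟩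
    apply fib_ext f g n
    · rw [nat_apply, hp, map_zero]
    · rw [nat_apply]
      apply hr
      rw [← fib_comm_apply, hp, map_zero]
  · rw [isARNull_cokernel_iff]
    refine ⟨s, fun n x => ?_⟩
    obtain ⟨y, hy⟩ := hs n (m (f.app (op (n + s))) x)
    obtain ⟨p, hp1, -⟩ := fib_exists f g n (m (ARSys.tr X (Nat.le_add_right n s)) x) y
      (by rw [hy, nat_apply])
    exact ⟨p, hp1⟩

theorem fib₂_surj {X Y Z : ARSys.PS C} (f : X ⟶ Z) (g : Y ⟶ Z)
    (hf : ∀ n : ℕ, Function.Surjective (m (f.app (op n)))) (n : ℕ) :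
    Function.Surjective (m ((fib₂ f g).app (op n))) := by
  intro y
  obtain ⟨x, hx⟩ := hf n (m (g.app (op n)) y)
  obtain ⟨p, -, hp2⟩ := fib_exists f g n x y hx
  exact ⟨p, hp2⟩

theorem fib_hom_ext {W X Y Z : ARSys.PS C} (f : X ⟶ Z) (g : Y ⟶ Z) (a a' : W ⟶ fib f g)
    (h1 : a ≫ fib₁ f g = a' ≫ fib₁ f g) (h2 : a ≫ fib₂ f g = a' ≫ fib₂ f g) : a = a' := by
  rw [← cancel_mono (kernel.ι (biprod.desc f (-g)))]
  apply biprod.hom_ext
  · rw [Category.assoc, Category.assoc]; exact h1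
  · rw [Category.assoc, Category.assoc]; exact h2

/-- joint injectivity on elements of the category of systems -/
theorem fib_elem_ext {X Y Z : ARSys.PS C} (f : X ⟶ Z) (g : Y ⟶ Z)
    (p p' : (F (ARSys.PS C)).obj (fib f g))
    (h1 : m (fib₁ f g) p = m (fib₁ f g) p') (h2 : m (fib₂ f g) p = m (fib₂ f g) p') : p = p' := by
  apply (mono_iff (kernel.ι (biprod.desc f (-g)))).1 inferInstance
  rw [← sub_eq_zero, ← map_sub]
  apply biprod_elem_eq_zero
  · rw [← m_comp_apply, map_sub, sub_eq_zero]; exact h1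
  · rw [← m_comp_apply, map_sub, sub_eq_zero]; exact h2

variable {A : Type w} [CommRing A] [Linear A C]

theorem S3165 (J : Ideal A) (hJ : J.FG ∨ HasCoproducts.{w} C) (S : ShortComplex (ARSys.PS C))
    (hS : S.ShortExact) (k₂ : ARSys.TermKilled J S.X₂) (h₁ : ARSys.IsARAdic J S.X₁)
    (h₃ : ARSys.IsARAdic J S.X₃) : ARSys.IsARAdic J S.X₂ := by
  have E := sesElem S hS
  haveI := hS.mono_f
  obtain ⟨-, W, u, hW, hu⟩ := h₁
  obtain ⟨-, Z, v, hZ, hv⟩ := h₃
  obtain ⟨bu, hbu⟩ := (isARNull_cokernel_iff u).1 hu.2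
  let uf : W ⟶ S.X₂ := u ≫ S.f
  have huf : ∀ (n : ℕ) (w : (F C).obj (W.obj (op n))),
      m (uf.app (op n)) w = m (S.f.app (op n)) (m (u.app (op n)) w) :=
    fun n w => app_comp_apply u S.f n w
  have hufg : uf ≫ S.g = 0 := by rw [Category.assoc, S.zero, comp_zero]
  have hku : kernel.ι u ≫ uf = 0 := by
    show kernel.ι u ≫ u ≫ S.f = 0
    rw [kernel.condition_assoc, zero_comp]
  have hufP : ∀ x : (F (ARSys.PS C)).obj W, m uf x = m S.f (m u x) := fun x => m_comp_apply u S.f x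
  clear_value uf
  let π : S.X₂ ⟶ cokernel uf := cokernel.π uf
  let g' : cokernel uf ⟶ S.X₃ := cokernel.desc uf S.g hufg
  have hπg' : π ≫ g' = S.g := cokernel.π_desc _ _ _
  have π_surj : ∀ n : ℕ, Function.Surjective (m (π.app (op n))) :=
    fun n => (epi_iff _).1 (coker_epi uf (op n))
  have π_zero : ∀ (n : ℕ) (w : (F C).obj (W.obj (op n))),
      m (π.app (op n)) (m (uf.app (op n)) w) = 0 :=
    fun n w => app_zero_of_eq uf π (cokernel.condition uf) n w
  have hg' : ∀ (n : ℕ) (x₂ : (F C).obj (S.X₂.obj (op n))),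
      m (g'.app (op n)) (m (π.app (op n)) x₂) = m (S.g.app (op n)) x₂ := by
    intro n x₂
    rw [← app_comp_apply, hπg']
  have g'_surj : ∀ n : ℕ, Function.Surjective (m (g'.app (op n))) := by
    intro n x₃
    obtain ⟨x₂, rfl⟩ := E.surj n x₃
    exact ⟨_, hg' n x₂⟩
  have g'_ker : ∀ (n : ℕ) (q : (F C).obj ((cokernel uf).obj (op (n + bu)))),
      m (g'.app (op (n + bu))) q = 0 → m (ARSys.tr (cokernel uf) (Nat.le_add_right n bu)) q = 0 := by
    intro n q hq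
    obtain ⟨x₂, rfl⟩ := π_surj _ q
    rw [hg'] at hq
    obtain ⟨x₁, rfl⟩ := E.exact _ x₂ hq
    obtain ⟨w, hw⟩ := hbu n x₁
    rw [← nat_apply, ← nat_apply, ← hw, ← huf, π_zero]
  have hg'iso : ARSys.IsARIso g' := by
    refine ⟨(isARNull_kernel_iff g').2 ⟨bu, g'_ker⟩, (isARNull_cokernel_iff g').2 ⟨0, fun n x => ?_⟩⟩
    obtain ⟨q, hq⟩ := g'_surj n (m (ARSys.tr S.X₃ (Nat.le_add_right n 0)) x)
    exact ⟨q, hq⟩
  have kQ : ARSys.TermKilled J (cokernel uf) := fun n => by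
    haveI := coker_epi uf (op n)
    exact KilledBy.of_epi ((cokernel.π uf).app (op n)) (k₂ n)
  have g'_epi : ∀ n : ℕ, Epi (g'.app (op n)) := fun n => (epi_iff _).2 (g'_surj n)
  have hψex : ∀ n : ℕ, ∃ l : S.X₃.obj (op (n + bu)) ⟶ (cokernel uf).obj (op n),
      g'.app (op (n + bu)) ≫ l = ARSys.tr (cokernel uf) (Nat.le_add_right n bu) := by
    intro n
    haveI := g'_epi (n + bu)
    apply exists_desc_of_ker_le
    intro q hq
    exact g'_ker n q hq
  let ψa : ∀ n : ℕ, S.X₃.obj (op (n + bu)) ⟶ (cokernel uf).obj (op n) := fun n => (hψex n).choose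
  have hψa : ∀ n : ℕ, g'.app (op (n + bu)) ≫ ψa n =
      ARSys.tr (cokernel uf) (Nat.le_add_right n bu) := fun n => (hψex n).choose_spec
  clear_value ψa
  have hψnat : ∀ (n k : ℕ) (hnk : n ≤ k),
      ARSys.tr ((ARSys.shift C bu).obj S.X₃) hnk ≫ ψa n = ψa k ≫ ARSys.tr (cokernel uf) hnk := by
    intro n k hnk
    haveI := g'_epi (k + bu)
    show ARSys.tr S.X₃ (show n + bu ≤ k + bu by omega) ≫ ψa n = ψa k ≫ ARSys.tr (cokernel uf) hnk
    rw [← cancel_epi (g'.app (op (k + bu))), ← Category.assoc, ← tr_nat, Category.assoc, hψa,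
      ← Category.assoc, hψa, tr_comp, tr_comp]
  have hψg : ∀ n : ℕ, ψa n ≫ g'.app (op n) = ARSys.tr S.X₃ (Nat.le_add_right n bu) := by
    intro n
    haveI := g'_epi (n + bu)
    rw [← cancel_epi (g'.app (op (n + bu))), ← Category.assoc, hψa, tr_nat]
  let φ : (ARSys.shift C bu).obj Z ⟶ cokernel uf :=
    (ARSys.shift C bu).map v ≫ mkNat (X := (ARSys.shift C bu).obj S.X₃) ψa hψnat
  have hφ : φ ≫ g' = Groth.Agent.Helper4.ARSysFrac.sigma Z bu ≫ v := by
    apply NatTrans.ext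
    funext k
    obtain ⟨n⟩ := k
    show (v.app (op (n + bu)) ≫ ψa n) ≫ g'.app (op n) =
      ARSys.tr Z (Nat.le_add_right n bu) ≫ v.app (op n)
    rw [Category.assoc, hψg, tr_nat]
  have hφiso : ARSys.IsARIso φ :=
    isARIso_of_postcomp φ g' hg'iso (by rw [hφ]; exact isARIso_comp _ _ (sigma_isARIso Z bu) hv)
  obtain ⟨vQ, hvQ⟩ := S3178 J hJ (cokernel uf) Z kQ hZ bu φ hφiso
  -- the fibre product
  have hp₁ : ARSys.IsARIso (fib₁ π vQ) := fib₁_isARIso π vQ hvQ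
  let b : W ⟶ fib π vQ := fibLift π vQ uf 0 (by rw [cokernel.condition, zero_comp])
  have hb1 : b ≫ fib₁ π vQ = uf := fibLift_fst _ _ _ _ _
  have hb2 : b ≫ fib₂ π vQ = 0 := fibLift_snd _ _ _ _ _
  clear_value b
  have p₂_surj := fib₂_surj π vQ π_surj
  haveI : ∀ k : ℕᵒᵖ, Epi ((fib₂ π vQ).app k) := by
    intro k
    obtain ⟨n⟩ := k
    exact (epi_iff _).2 (p₂_surj n)
  haveI : Epi (fib₂ π vQ) := NatTrans.epi_of_epi_app _
  have wab : kernel.ι u ≫ b = 0 := by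
    apply fib_hom_ext π vQ
    · rw [Category.assoc, hb1, hku, zero_comp]
    · rw [Category.assoc, hb2, comp_zero, zero_comp]
  have hab : (ShortComplex.mk (kernel.ι u) b wab).Exact := by
    rw [exact_iff]
    intro x hx
    have hx' : m b x = 0 := hx
    have h1 : m S.f (m u x) = 0 := by
      rw [← hufP, ← hb1, m_comp_apply, hx', map_zero]
    have h2 : m u x = 0 := (mono_iff S.f).1 inferInstance (by rw [h1, map_zero])
    exact exists_kernel_ι_eq u x h2
  have hbc : (ShortComplex.mk b (fib₂ π vQ) hb2).Exact := by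
    rw [exact_iff]
    intro x hx
    have hx' : m (fib₂ π vQ) x = 0 := hx
    have h1 : m π (m (fib₁ π vQ) x) = 0 := by
      rw [← m_comp_apply, fib_comm, m_comp_apply, hx', map_zero]
    obtain ⟨w, hw⟩ := (cokernel_π_eq_zero_iff uf _).1 h1
    refine ⟨w, ?_⟩
    apply fib_elem_ext π vQ
    · rw [← m_comp_apply, hb1, hw]
    · rw [← m_comp_apply, hb2, hx']; simp
  have kP : ARSys.TermKilled J (fib π vQ) := by
    intro n a ha
    rw [eq_zero_iff]
    intro p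
    apply fib_ext π vQ n
    · have := act_nat_apply a ((fib₁ π vQ).app (op n)) p
      rw [this]
      have h0 : act a (S.X₂.obj (op n)) = 0 := k₂ n a ha
      rw [h0]; simp
    · have := act_nat_apply a ((fib₂ π vQ).app (op n)) p
      rw [this]
      have h0 : act a (Z.obj (op n)) = 0 := hZ.1 n a ha
      rw [h0]; simp
  obtain ⟨-, Y', u', hY', hu'⟩ :=
    S8633 J hJ (kernel.ι u) b (fib₂ π vQ) wab hb2 hab hbc hu.1 hW kP hZ
  exact ⟨k₂, Y', u' ≫ fib₁ π vQ, hY', isARIso_comp _ _ hu' hp₁⟩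

theorem S8642 (J : Ideal A) (hJ : J.FG ∨ HasCoproducts.{w} C) (S : ShortComplex (ARSys.PS C))
    (hS : S.ShortExact) (k₂ : ARSys.TermKilled J S.X₂)
    (h₁ : ARSys.IsARAdicArt J S.X₁) (h₃ : ARSys.IsARAdicArt J S.X₃) :
    ARSys.IsARAdicArt J S.X₂ := by
  refine ⟨S3165 J hJ S hS k₂ h₁.1 h₃.1, fun n => ?_⟩
  have hex : (S.map ((evaluation ℕᵒᵖ C).obj (op n))).ShortExact := hS.map_of_exact _
  haveI : IsArtinianObject (S.map ((evaluation ℕᵒᵖ C).obj (op n))).X₁ := h₁.2 n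
  haveI : IsArtinianObject (S.map ((evaluation ℕᵒᵖ C).obj (op n))).X₃ := h₃.2 n
  exact Groth.Agent.Helper9.NoethObj.isArtinianObject_of_shortExact _ hex

theorem S3166 (J : Ideal A) (hJ : J.FG ∨ HasCoproducts.{w} C) (S : ShortComplex (ARSys.PS C))
    (hS : S.ShortExact) (k₂ : ARSys.TermKilled J S.X₂)
    (h₁' : ARSys.IsARAdicNoeth J S.X₁) (h₃ : ARSys.IsARAdicNoeth J S.X₃) :
    ARSys.IsARAdicNoeth J S.X₂ := by
  refine ⟨S3165 J hJ S hS k₂ h₁'.1 h₃.1, fun n => ?_⟩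
  have hex : (S.map ((evaluation ℕᵒᵖ C).obj (op n))).ShortExact := hS.map_of_exact _
  haveI : IsNoetherianObject (S.map ((evaluation ℕᵒᵖ C).obj (op n))).X₁ := h₁'.2 n
  haveI : IsNoetherianObject (S.map ((evaluation ℕᵒᵖ C).obj (op n))).X₃ := h₃.2 n
  exact Groth.Agent.Helper9.NoethObj.isNoetherianObject_of_shortExact _ hex

end Groth.Agent.Helper9.ARExt
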