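import Groth.Agent.Helper9.ARFker
import Mathlib

set_option autoImplicit false

namespace Groth.Agent.Helper9.ARSes

open CategoryTheory CategoryTheory.Limits Opposite
open Groth.Agent.Helper9.FM Groth.Agent.Helper9.ARSysML Groth.Agent.Helper9.ARLin
open Groth.Agent.Helper9.ARShift Groth.Agent.Helper9.ARQuot Groth.Agent.Helper9.ARAdapt
open Groth.Agent.Helper9.ARFker
open Groth.Agent.Helper4.ARSysBasic

universe w v u

variable {C : Type u} [Category.{v} C] [Abelian C] {A : Type w} [CommRing A] [Linear A C]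

theorem InI.eq_zero_of_killed {I : Ideal A} {X : C} (hX : ARSys.KilledBy I X) {x : (F C).obj X}
    (hx : InI I x) : x = 0 := by
  have := hx X (𝟙 X) hX
  rwa [m_id] at this

theorem S3156 (J : Ideal A)
    (hJ : J.FG ∨ HasCoproducts.{w} C) (S : ShortComplex (ARSys.PS C)) (hS : S.ShortExact)
    (k₂ : ARSys.TermKilled J S.X₂)
    (h₂ : ARSys.IsMLAR S.X₂) (h₃ : ARSys.IsARAdic J S.X₃) : ARSys.IsMLAR S.X₁ := by
  have E := sesElem S hS
  obtain ⟨r₂, hr₂⟩ := (isMLAR_iff _).1 h₂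
  obtain ⟨-, Z, v, hZ, hv⟩ := h₃
  obtain ⟨a, ha⟩ := (isARNull_kernel_iff v).1 hv.1
  obtain ⟨b, hb⟩ := (isARNull_cokernel_iff v).1 hv.2
  rw [isMLAR_iff]
  refine ⟨a + r₂, fun n k l h₁ h₂' hk => ?_⟩
  rintro _ ⟨x, rfl⟩
  have hp1 : n ≤ n + a := Nat.le_add_right _ _
  have hp2 : n + a ≤ k := by omega
  have hl : n + a ≤ l := by omega
  have hlb : l ≤ l + b := Nat.le_add_right _ _
  have h1 : m (ARSys.tr S.X₂ hp2) (m (S.f.app (op k)) x) ∈
      LinearMap.range (m (ARSys.tr S.X₂ (hp2.trans (h₂'.trans hlb)))) :=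
    hr₂ (n + a) k (l + b) hp2 (h₂'.trans hlb) (by omega) ⟨_, rfl⟩
  obtain ⟨y', hy'⟩ := h1
  obtain ⟨ζ, hζ⟩ := hb l (m (S.g.app (op (l + b))) y')
  have h2 : m (v.app (op (n + a))) (m (ARSys.tr Z hl) ζ) = 0 := by
    rw [nat_apply, hζ, tr_tr_apply, ← nat_apply, hy', nat_apply, E.zero]
    simp
  have h3 := ha n _ h2
  rw [tr_tr_apply] at h3
  obtain ⟨D⟩ := pow_mulData (C := C) J hJ (n + 1)
  have hq := (isQuot_iff' D _).1 (hZ.2 n l (hp1.trans hl))
  have h4 : InI (J ^ (n + 1)) ζ := hq.2.2 ζ h3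
  have h5 : InI (J ^ (n + 1)) (m (v.app (op l)) ζ) := h4.map _
  obtain ⟨y₂, hy₂, hy₂I⟩ := InI.lift D (S.g.app (op l)) (E.surj l) h5
  have h6 : m (S.g.app (op l)) (m (ARSys.tr S.X₂ hlb) y' - y₂) = 0 := by
    rw [map_sub, nat_apply, hy₂, hζ, sub_self]
  obtain ⟨x'', hx''⟩ := E.exact l _ h6
  refine ⟨x'', ?_⟩
  apply E.inj n
  have h7 : m (ARSys.tr S.X₂ (hp1.trans hl)) y₂ = 0 :=
    InI.eq_zero_of_killed (k₂ n) (hy₂I.map _)
  rw [nat_apply, hx'', map_sub, h7, sub_zero, tr_tr_apply, nat_apply,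
    ← tr_tr_apply S.X₂ hp1 (hp2.trans (h₂'.trans hlb)), hy', tr_tr_apply]

theorem S3155 (J : Ideal A)
    (hJ : J.FG ∨ HasCoproducts.{w} C) (S : ShortComplex (ARSys.PS C)) (hS : S.ShortExact)
    (k₃ : ARSys.TermKilled J S.X₃)
    (h₁ : ARSys.IsMLAR S.X₁) (h₂ : ARSys.IsARAdic J S.X₂) : ARSys.IsARAdic J S.X₃ := by
  have E := sesElem S hS
  obtain ⟨r, hr⟩ := (isMLAR_iff _).1 h₁
  obtain ⟨-, Y, u, hY, hu⟩ := h₂
  obtain ⟨a, ha⟩ := (isARNull_kernel_iff u).1 hu.1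
  obtain ⟨b, hb⟩ := (isARNull_cokernel_iff u).1 hu.2
  let wm : Y ⟶ S.X₃ := u ≫ S.g
  have hw : ∀ (n : ℕ) (y : (F C).obj (Y.obj (op n))),
      m (wm.app (op n)) y = m (S.g.app (op n)) (m (u.app (op n)) y) := by
    intro n y
    rw [← m_comp_apply]; rfl
  clear_value wm
  have ι_inj : ∀ n : ℕ, Function.Injective (m ((kernel.ι wm).app (op n))) :=
    fun n => (mono_iff _).1 (ker_mono wm (op n))
  have ι_zero : ∀ (n : ℕ) (κ : (F C).obj ((kernel wm).obj (op n))),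
      m (wm.app (op n)) (m ((kernel.ι wm).app (op n)) κ) = 0 := by
    intro n κ
    rw [← m_comp_apply, ← NatTrans.comp_app, kernel.condition]
    simp
  have ι_exact : ∀ (n : ℕ) (y : (F C).obj (Y.obj (op n))), m (wm.app (op n)) y = 0 →
      ∃ κ, m ((kernel.ι wm).app (op n)) κ = y :=
    fun n => (exact_iff _).1 (ker_exact wm (op n))
  -- the kernel satisfies the uniform Mittag-Leffler condition
  have hK : ∀ (n k l : ℕ) (h₁ : n ≤ k) (h₂ : k ≤ l), n + (a + b + r) ≤ k →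
      LinearMap.range (m (ARSys.tr (kernel wm) h₁)) ≤
        LinearMap.range (m (ARSys.tr (kernel wm) (h₁.trans h₂))) := by
    intro n k l h₁ h₂ hk
    rintro _ ⟨κ, rfl⟩
    obtain ⟨x, hx⟩ := E.exact k (m (u.app (op k)) (m ((kernel.ι wm).app (op k)) κ))
      (by rw [← hw]; exact ι_zero k κ)
    have hp : n + a + b ≤ k := by omega
    have hlb : l ≤ l + b := Nat.le_add_right _ _
    obtain ⟨x', hx'⟩ := hr (n + a + b) k (l + b) hp (h₂.trans hlb) (by omega) ⟨x, rfl⟩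
    obtain ⟨y', hy'⟩ := hb l (m (S.f.app (op (l + b))) x')
    have hy'0 : m (wm.app (op l)) y' = 0 := by
      rw [hw, hy', nat_apply, E.zero]; simp
    obtain ⟨κ', hκ'⟩ := ι_exact l y' hy'0
    refine ⟨κ', ?_⟩
    apply ι_inj n
    rw [nat_apply, nat_apply, hκ']
    have hna : n ≤ n + a := Nat.le_add_right _ _
    have hal : n + a ≤ l := by omega
    have hak : n + a ≤ k := by omega
    have hap : n + a ≤ n + a + b := Nat.le_add_right _ _
    have h0 : m (u.app (op (n + a))) (m (ARSys.tr Y hal) y' -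
        m (ARSys.tr Y hak) (m ((kernel.ι wm).app (op k)) κ)) = 0 := by
      rw [map_sub, nat_apply, nat_apply, hy', ← hx, tr_tr_apply, ← nat_apply, ← nat_apply,
        ← tr_tr_apply S.X₁ hap (hp.trans (h₂.trans hlb)), hx', tr_tr_apply, sub_self]
    have h1 := ha n _ h0
    rw [map_sub, tr_tr_apply, tr_tr_apply, sub_eq_zero] at h1
    exact h1
  obtain ⟨K', i, hm, hmono, hrange, hnull⟩ := exists_univIm (kernel wm) (a + b + r)
  have hK' : ARSys.IsStrict K' := strict_of_range i hmono _ hrange hK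
  let j : K' ⟶ Y := i ≫ kernel.ι wm
  haveI : Mono j := mono_comp _ _
  have hjw : j ≫ wm = 0 := by rw [Category.assoc, kernel.condition, comp_zero]
  let T : ShortComplex (ARSys.PS C) := ShortComplex.mk j (cokernel.π j) (cokernel.condition j)
  have hT : T.ShortExact :=
    { exact := ShortComplex.exact_of_g_is_cokernel _ (cokernelIsCokernel j)
      mono_f := inferInstanceAs (Mono j)
      epi_g := inferInstanceAs (Epi (cokernel.π j)) }
  have hZ : ARSys.IsAdic J (cokernel j) := S3152 J hJ T hT hK' hY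
  let vm : cokernel j ⟶ S.X₃ := cokernel.desc j wm hjw
  have hv : ∀ (n : ℕ) (y : (F C).obj (Y.obj (op n))),
      m (vm.app (op n)) (m ((cokernel.π j).app (op n)) y) = m (wm.app (op n)) y := by
    intro n y
    rw [← m_comp_apply, ← NatTrans.comp_app, cokernel.π_desc]
  have hj : ∀ (n : ℕ) (κ' : (F C).obj (K'.obj (op n))),
      m (j.app (op n)) κ' = m ((kernel.ι wm).app (op n)) (m (i.app (op n)) κ') := by
    intro n κ'
    rw [← m_comp_apply]; rfl
  have hπj : ∀ (n : ℕ) (κ' : (F C).obj (K'.obj (op n))),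
      m ((cokernel.π j).app (op n)) (m (j.app (op n)) κ') = 0 := by
    intro n κ'
    rw [← m_comp_apply, ← NatTrans.comp_app, cokernel.condition]; simp
  clear_value vm j
  refine ⟨k₃, cokernel j, vm, hZ, ?_, ?_⟩
  · rw [isARNull_kernel_iff]
    refine ⟨a + b + r, fun n z hz => ?_⟩
    obtain ⟨y, rfl⟩ := (epi_iff _).1 (coker_epi j (op (n + (a + b + r)))) z
    rw [hv] at hz
    obtain ⟨κ, rfl⟩ := ι_exact _ y hz
    have h1 : m (ARSys.tr (kernel wm) (Nat.le_add_right n (a + b + r))) κ ∈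
        LinearMap.range (m (i.app (op n))) := by
      rw [hrange]; exact ⟨κ, rfl⟩
    obtain ⟨κ', hκ'⟩ := h1
    rw [← nat_apply, ← nat_apply, ← hκ', ← hj, hπj]
  · rw [isARNull_cokernel_iff]
    refine ⟨b, fun n x₃ => ?_⟩
    obtain ⟨x₂, rfl⟩ := E.surj (n + b) x₃
    obtain ⟨y, hy⟩ := hb n x₂
    refine ⟨m ((cokernel.π j).app (op n)) y, ?_⟩
    rw [hv, hw, hy, nat_apply]

end Groth.Agent.Helper9.ARSes
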