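import Mathlib

/-!
# Freyd–Mitchell toolkit: transfer diagram chases in an abelian category to modules
-/

set_option autoImplicit false

namespace Groth.Agent.Helper9.FM

open CategoryTheory CategoryTheory.Limits

universe v u

variable (C : Type u) [Category.{v} C] [Abelian C]

/-- The embedding ring. -/
abbrev R : Type (max u v) := Abelian.FreydMitchell.EmbeddingRing C

/-- The Freyd–Mitchell embedding. -/
noncomputable abbrev F : C ⥤ ModuleCat.{max u v} (R C) := Abelian.FreydMitchell.functor C

variable {C}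

instance : (F C).Additive := Functor.additive_of_preserves_binary_products _

/-- the underlying linear map -/
noncomputable abbrev m {X Y : C} (f : X ⟶ Y) : (F C).obj X →ₗ[R C] (F C).obj Y := ((F C).map f).hom

@[simp] theorem m_id (X : C) : m (𝟙 X) = LinearMap.id := by
  simp [m]

theorem m_comp {X Y Z : C} (f : X ⟶ Y) (g : Y ⟶ Z) : m (f ≫ g) = (m g).comp (m f) := by
  simp [m]

@[simp] theorem m_comp_apply {X Y Z : C} (f : X ⟶ Y) (g : Y ⟶ Z) (x : (F C).obj X) :
    m (f ≫ g) x = m g (m f x) := by
  rw [m_comp]; rfl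

@[simp] theorem m_zero {X Y : C} : m (0 : X ⟶ Y) = 0 := by
  simp [m]

theorem m_add {X Y : C} (f g : X ⟶ Y) : m (f + g) = m f + m g := by
  simp [m]

theorem m_sub {X Y : C} (f g : X ⟶ Y) : m (f - g) = m f - m g := by
  simp [m]

theorem m_neg {X Y : C} (f : X ⟶ Y) : m (-f) = - m f := by
  simp [m]

theorem ext_iff {X Y : C} (f g : X ⟶ Y) : f = g ↔ ∀ x, m f x = m g x := by
  constructor
  · rintro rfl x; rfl
  · intro h
    apply (F C).map_injective
    apply ModuleCat.hom_ext
    exact LinearMap.ext h

theorem eq_zero_iff {X Y : C} (f : X ⟶ Y) : f = 0 ↔ ∀ x, m f x = 0 := by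
  rw [ext_iff]; simp

theorem comp_eq_zero_iff {X Y Z : C} (f : X ⟶ Y) (g : Y ⟶ Z) :
    f ≫ g = 0 ↔ ∀ x, m g (m f x) = 0 := by
  rw [eq_zero_iff]; simp

theorem mono_iff {X Y : C} (f : X ⟶ Y) : Mono f ↔ Function.Injective (m f) := by
  rw [← ModuleCat.mono_iff_injective]
  constructor
  · intro h; infer_instance
  · intro h; exact (F C).mono_of_mono_map h

theorem epi_iff {X Y : C} (f : X ⟶ Y) : Epi f ↔ Function.Surjective (m f) := by
  rw [← ModuleCat.epi_iff_surjective]
  constructor
  · intro h; infer_instance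
  · intro h; exact (F C).epi_of_epi_map h

theorem isIso_iff {X Y : C} (f : X ⟶ Y) : IsIso f ↔ Function.Bijective (m f) := by
  constructor
  · intro h
    exact ⟨(mono_iff f).1 inferInstance, (epi_iff f).1 inferInstance⟩
  · rintro ⟨h1, h2⟩
    haveI := (mono_iff f).2 h1
    haveI := (epi_iff f).2 h2
    exact isIso_of_mono_of_epi f

theorem exact_iff (S : ShortComplex C) :
    S.Exact ↔ ∀ y, m S.g y = 0 → ∃ x, m S.f x = y := by
  rw [← ShortComplex.exact_map_iff_of_faithful S (F C), ShortComplex.moduleCat_exact_iff]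
  rfl

theorem exact_iff_ker_le_range (S : ShortComplex C) :
    S.Exact ↔ LinearMap.ker (m S.g) ≤ LinearMap.range (m S.f) := by
  rw [exact_iff]
  constructor
  · intro h y hy; exact h y hy
  · intro h y hy; exact h hy

theorem isZero_iff (X : C) : IsZero X ↔ Subsingleton ((F C).obj X) := by
  rw [IsZero.iff_id_eq_zero, eq_zero_iff]
  constructor
  · intro h
    refine ⟨fun a b => ?_⟩
    have ha := h a
    have hb := h b
    simp only [m_id, LinearMap.id_apply] at ha hb
    rw [ha, hb]
  · intro h x
    exact Subsingleton.elim _ _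

/-- lifting along a mono from a range inclusion -/
theorem exists_lift_of_range_le {A B X : C} (f : A ⟶ X) (g : B ⟶ X) [Mono g]
    (h : LinearMap.range (m f) ≤ LinearMap.range (m g)) : ∃ l : A ⟶ B, l ≫ g = f := by
  have hz : f ≫ cokernel.π g = 0 := by
    rw [comp_eq_zero_iff]
    intro x
    obtain ⟨y, hy⟩ := h ⟨x, rfl⟩
    rw [← hy, ← m_comp_apply, cokernel.condition]
    simp
  exact ⟨Abelian.monoLift g f hz, Abelian.monoLift_comp g f hz⟩

/-- the submodule attached to a subobject -/
noncomputable def sub {X : C} (S : Subobject X) : Submodule (R C) ((F C).obj X) :=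
  LinearMap.range (m S.arrow)

theorem sub_mk {A X : C} (f : A ⟶ X) [Mono f] : sub (Subobject.mk f) = LinearMap.range (m f) := by
  unfold sub
  apply le_antisymm
  · rintro _ ⟨x, rfl⟩
    refine ⟨m (Subobject.underlyingIso f).hom x, ?_⟩
    rw [← m_comp_apply]
    simp
  · rintro _ ⟨x, rfl⟩
    refine ⟨m (Subobject.underlyingIso f).inv x, ?_⟩
    rw [← m_comp_apply]
    simp

theorem sub_le_iff {X : C} (S T : Subobject X) : S ≤ T ↔ sub S ≤ sub T := by
  constructor
  · intro h
    rintro _ ⟨x, rfl⟩
    refine ⟨m (Subobject.ofLE S T h) x, ?_⟩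
    rw [← m_comp_apply, Subobject.ofLE_arrow]
  · intro h
    obtain ⟨l, hl⟩ := exists_lift_of_range_le S.arrow T.arrow h
    exact Subobject.le_of_comm l hl

theorem sub_injective {X : C} : Function.Injective (sub : Subobject X → _) := by
  intro S T h
  apply le_antisymm
  · rw [sub_le_iff, h]
  · rw [sub_le_iff, h]

theorem sub_image {A X : C} (f : A ⟶ X) : sub (imageSubobject f) = LinearMap.range (m f) := by
  unfold sub
  apply le_antisymm
  · rintro _ ⟨x, rfl⟩
    haveI : Epi (factorThruImageSubobject f) := inferInstance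
    obtain ⟨y, rfl⟩ := (epi_iff (factorThruImageSubobject f)).1 inferInstance x
    refine ⟨y, ?_⟩
    rw [← m_comp_apply, imageSubobject_arrow_comp]
  · rintro _ ⟨x, rfl⟩
    refine ⟨m (factorThruImageSubobject f) x, ?_⟩
    rw [← m_comp_apply, imageSubobject_arrow_comp]

theorem sub_kernel {X Y : C} (f : X ⟶ Y) : sub (kernelSubobject f) = LinearMap.ker (m f) := by
  unfold sub
  apply le_antisymm
  · rintro _ ⟨x, rfl⟩
    rw [LinearMap.mem_ker, ← m_comp_apply, kernelSubobject_arrow_comp]
    simp
  · intro y hy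
    have hex : (ShortComplex.mk (kernelSubobject f).arrow f (kernelSubobject_arrow_comp f)).Exact := by
      apply ShortComplex.exact_of_f_is_kernel
      exact IsLimit.ofIsoLimit (kernelIsKernel f)
        (Fork.ext (kernelSubobjectIso f).symm (by simp))
    exact (exact_iff _).1 hex y hy

theorem image_le_iff {A B X : C} (f : A ⟶ X) (g : B ⟶ X) :
    imageSubobject f ≤ imageSubobject g ↔ LinearMap.range (m f) ≤ LinearMap.range (m g) := by
  rw [sub_le_iff, sub_image, sub_image]

theorem image_eq_iff {A B X : C} (f : A ⟶ X) (g : B ⟶ X) :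
    imageSubobject f = imageSubobject g ↔ LinearMap.range (m f) = LinearMap.range (m g) := by
  rw [← sub_image, ← sub_image]
  exact sub_injective.eq_iff.symm

theorem sub_top (X : C) : sub (⊤ : Subobject X) = ⊤ := by
  unfold sub
  rw [LinearMap.range_eq_top]
  exact (epi_iff _).1 inferInstance

theorem sub_bot (X : C) : sub (⊥ : Subobject X) = ⊥ := by
  unfold sub
  rw [Subobject.bot_arrow]
  simp

theorem range_le_of_factors {A X : C} (S : Subobject X) (f : A ⟶ X) (h : S.Factors f) :
    LinearMap.range (m f) ≤ sub S := by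
  rintro _ ⟨x, rfl⟩
  refine ⟨m (S.factorThru f h) x, ?_⟩
  rw [← m_comp_apply, Subobject.factorThru_arrow]

theorem factors_iff {A X : C} (S : Subobject X) (f : A ⟶ X) :
    S.Factors f ↔ LinearMap.range (m f) ≤ sub S := by
  constructor
  · exact range_le_of_factors S f
  · intro h
    obtain ⟨l, hl⟩ := exists_lift_of_range_le f S.arrow h
    exact hl ▸ Subobject.factors_comp_arrow l

/-- elements killed by `g` come from the kernel -/
theorem exists_kernel_lift {X Y : C} (g : X ⟶ Y) (x : (F C).obj X) (hx : m g x = 0) :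
    ∃ k : (F C).obj (kernel g), m (kernel.ι g) k = x := by
  have hex : (ShortComplex.mk (kernel.ι g) g (kernel.condition g)).Exact :=
    ShortComplex.exact_of_f_is_kernel _ (kernelIsKernel g)
  exact (exact_iff _).1 hex x hx

theorem sub_inf {X : C} (S T : Subobject X) : sub (S ⊓ T) = sub S ⊓ sub T := by
  apply le_antisymm
  · exact le_inf ((sub_le_iff _ _).1 inf_le_left) ((sub_le_iff _ _).1 inf_le_right)
  · intro y hy
    obtain ⟨⟨a, ha⟩, ⟨b, hb⟩⟩ := hy
    set g := S.arrow ≫ cokernel.π T.arrow with hg
    have hga : m g a = 0 := by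
      rw [hg, m_comp_apply, ha, ← hb, ← m_comp_apply, cokernel.condition]; simp
    obtain ⟨k, hk⟩ := exists_kernel_lift g a hga
    have hfac : (S ⊓ T).Factors (kernel.ι g ≫ S.arrow) := by
      rw [Subobject.inf_factors]
      constructor
      · exact Subobject.factors_comp_arrow _
      · have hz : (kernel.ι g ≫ S.arrow) ≫ cokernel.π T.arrow = 0 := by
          rw [Category.assoc]; exact kernel.condition g
        exact (Abelian.monoLift_comp T.arrow _ hz) ▸ Subobject.factors_comp_arrow _
    apply range_le_of_factors _ _ hfac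
    exact ⟨k, by rw [m_comp_apply, hk, ha]⟩

theorem sub_sup {X : C} (S T : Subobject X) : sub (S ⊔ T) = sub S ⊔ sub T := by
  apply le_antisymm
  · set g : (S : C) ⊞ (T : C) ⟶ X := biprod.desc S.arrow T.arrow with hg
    have hle : S ⊔ T ≤ imageSubobject g := by
      apply sup_le
      · apply Subobject.le_of_comm (biprod.inl ≫ factorThruImageSubobject g)
        rw [Category.assoc, imageSubobject_arrow_comp, hg, biprod.inl_desc]
      · apply Subobject.le_of_comm (biprod.inr ≫ factorThruImageSubobject g)
        rw [Category.assoc, imageSubobject_arrow_comp, hg, biprod.inr_desc]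
    refine ((sub_le_iff _ _).1 hle).trans ?_
    rw [sub_image]
    rintro _ ⟨z, rfl⟩
    have : g = biprod.fst ≫ S.arrow + biprod.snd ≫ T.arrow := by
      rw [hg]; exact biprod.desc_eq
    rw [this, m_add, LinearMap.add_apply, m_comp_apply, m_comp_apply]
    exact Submodule.add_mem_sup ⟨_, rfl⟩ ⟨_, rfl⟩
  · exact sup_le ((sub_le_iff _ _).1 le_sup_left) ((sub_le_iff _ _).1 le_sup_right)

theorem sub_pullback {X Y : C} (f : X ⟶ Y) (S : Subobject Y) :
    sub ((Subobject.pullback f).obj S) = (sub S).comap (m f) := by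
  have hpb := Subobject.isPullback f S
  apply le_antisymm
  · rintro _ ⟨x, rfl⟩
    refine ⟨m (Subobject.pullbackπ f S) x, ?_⟩
    rw [← m_comp_apply, hpb.w, m_comp_apply]
  · intro y hy
    obtain ⟨a, ha⟩ := hy
    set g := f ≫ cokernel.π S.arrow with hg
    have hgy : m g y = 0 := by
      rw [hg, m_comp_apply, ← ha, ← m_comp_apply, cokernel.condition]; simp
    obtain ⟨k, hk⟩ := exists_kernel_lift g y hgy
    have hz : (kernel.ι g ≫ f) ≫ cokernel.π S.arrow = 0 := by
      rw [Category.assoc]; exact kernel.condition g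
    let l := Abelian.monoLift S.arrow _ hz
    have hl : l ≫ S.arrow = kernel.ι g ≫ f := Abelian.monoLift_comp _ _ hz
    refine ⟨m (hpb.lift l (kernel.ι g) hl) k, ?_⟩
    rw [← m_comp_apply, hpb.lift_snd, hk]

end Groth.Agent.Helper9.FM
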