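import Groth.Prelude.Def_ARSys
import Groth.Agent.Helper9.FM
import Groth.Agent.Helper4.ARSysBasic
import Groth.Agent.Helper4.ARSysFrac
import Mathlib

/-!
# Mittag-Leffler–Artin–Rees systems (non-linear part)
-/

set_option autoImplicit false

namespace Groth.Agent.Helper9.ARSysML

open CategoryTheory CategoryTheory.Limits Opposite
open Groth.Agent.Helper9.FM Groth.Agent.Helper4.ARSysBasic

universe v u

variable {C : Type u} [Category.{v} C] [Abelian C]

/-- componentwise exactness of `u, cokernel.π u` -/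
theorem coker_exact {X Y : ARSys.PS C} (u : Y ⟶ X) (k : ℕᵒᵖ) :
    (ShortComplex.mk (u.app k) ((cokernel.π u).app k)
      (by rw [← NatTrans.comp_app, cokernel.condition]; rfl)).Exact := by
  have h : (ShortComplex.mk u (cokernel.π u) (cokernel.condition u)).Exact :=
    ShortComplex.exact_of_g_is_cokernel _ (cokernelIsCokernel u)
  exact h.map ((evaluation ℕᵒᵖ C).obj k)

theorem coker_epi {X Y : ARSys.PS C} (u : Y ⟶ X) (k : ℕᵒᵖ) : Epi ((cokernel.π u).app k) :=
  (NatTrans.epi_iff_epi_app (cokernel.π u)).1 inferInstance k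

theorem ker_exact {X Y : ARSys.PS C} (u : Y ⟶ X) (k : ℕᵒᵖ) :
    (ShortComplex.mk ((kernel.ι u).app k) (u.app k)
      (by rw [← NatTrans.comp_app, kernel.condition]; rfl)).Exact := by
  have h : (ShortComplex.mk (kernel.ι u) u (kernel.condition u)).Exact :=
    ShortComplex.exact_of_f_is_kernel _ (kernelIsKernel u)
  exact h.map ((evaluation ℕᵒᵖ C).obj k)

theorem ker_mono {X Y : ARSys.PS C} (u : Y ⟶ X) (k : ℕᵒᵖ) : Mono ((kernel.ι u).app k) :=
  (NatTrans.mono_iff_mono_app (kernel.ι u)).1 inferInstance k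

/-- elementwise naturality -/
theorem nat_apply {X Y : ARSys.PS C} (f : X ⟶ Y) {n k : ℕ} (h : n ≤ k) (x : (F C).obj (X.obj (op k))) :
    m (f.app (op n)) (m (ARSys.tr X h) x) = m (ARSys.tr Y h) (m (f.app (op k)) x) := by
  rw [← m_comp_apply, ← m_comp_apply, tr_nat]

theorem tr_tr_apply (X : ARSys.PS C) {n k l : ℕ} (h₁ : n ≤ k) (h₂ : k ≤ l) (x : (F C).obj (X.obj (op l))) :
    m (ARSys.tr X h₁) (m (ARSys.tr X h₂) x) = m (ARSys.tr X (h₁.trans h₂)) x := by
  rw [← m_comp_apply, tr_comp]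

/-- the image of a long transition map is contained in the image of a shorter one -/
theorem range_tr_anti (X : ARSys.PS C) {n k l : ℕ} (h₁ : n ≤ k) (h₂ : k ≤ l) :
    LinearMap.range (m (ARSys.tr X (h₁.trans h₂))) ≤ LinearMap.range (m (ARSys.tr X h₁)) := by
  rintro _ ⟨x, rfl⟩
  exact ⟨m (ARSys.tr X h₂) x, tr_tr_apply X h₁ h₂ x⟩

theorem range_shiftMap (X : ARSys.PS C) (s n : ℕ) :
    LinearMap.range (m (ARSys.shiftMap X s n)) =
      LinearMap.range (m (ARSys.tr X (Nat.le_add_right n s))) := rfl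

theorem range_tr_congr (X : ARSys.PS C) {n k k' : ℕ} (e : k = k') (h : n ≤ k) (h' : n ≤ k') :
    LinearMap.range (m (ARSys.tr X h)) = LinearMap.range (m (ARSys.tr X h')) := by
  subst e; rfl

/-- elementwise reformulation of the uniform Mittag-Leffler condition -/
theorem isMLAR_iff (X : ARSys.PS C) :
    ARSys.IsMLAR X ↔ ∃ r : ℕ, ∀ (n k l : ℕ) (h₁ : n ≤ k) (h₂ : k ≤ l), n + r ≤ k →
      LinearMap.range (m (ARSys.tr X h₁)) ≤ LinearMap.range (m (ARSys.tr X (h₁.trans h₂))) := by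
  constructor
  · rintro ⟨r, hr⟩
    refine ⟨r, fun n k l h₁ h₂ hk => ?_⟩
    have e1 := hr (l - n) (by omega) n
    rw [image_eq_iff, range_shiftMap, range_shiftMap] at e1
    have hl : n + (l - n) = l := by omega
    have e2 : LinearMap.range (m (ARSys.tr X (h₁.trans h₂))) =
        LinearMap.range (m (ARSys.tr X (Nat.le_add_right n r))) := by
      rw [← e1]
      exact range_tr_congr X hl.symm _ _
    rw [e2]
    exact range_tr_anti X (Nat.le_add_right n r) hk
  · rintro ⟨r, hr⟩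
    refine ⟨r, fun s hs n => ?_⟩
    rw [image_eq_iff, range_shiftMap, range_shiftMap]
    apply le_antisymm
    · exact range_tr_anti X (Nat.le_add_right n r) (by omega : n + r ≤ n + s)
    · exact hr n (n + r) (n + s) (Nat.le_add_right n r) (by omega) le_rfl

/-- if the cokernel of `u` is killed by translation by `r`, images of transition maps of length
`≥ r` are inside the image of `u` -/
theorem range_tr_le_of_coker_null {X Y : ARSys.PS C} (u : Y ⟶ X) (r : ℕ)
    (hr : ∀ n : ℕ, ARSys.shiftMap (cokernel u) r n = 0) {n k : ℕ} (h : n ≤ k) (hk : n + r ≤ k) :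
    LinearMap.range (m (ARSys.tr X h)) ≤ LinearMap.range (m (u.app (op n))) := by
  rintro _ ⟨x, rfl⟩
  have h0 : ARSys.tr (cokernel u) h = 0 := by
    rw [← tr_comp (cokernel u) (Nat.le_add_right n r) hk]
    have : ARSys.tr (cokernel u) (Nat.le_add_right n r) = 0 := hr n
    rw [this, comp_zero]
  apply (exact_iff _).1 (coker_exact u (op n))
  show m ((cokernel.π u).app (op n)) (m (ARSys.tr X h) x) = 0
  rw [nat_apply, h0]
  simp

theorem range_le_tr_of_strict {X Y : ARSys.PS C} (u : Y ⟶ X) (hY : ARSys.IsStrict Y)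
    {n k : ℕ} (h : n ≤ k) :
    LinearMap.range (m (u.app (op n))) ≤ LinearMap.range (m (ARSys.tr X h)) := by
  rintro _ ⟨y, rfl⟩
  obtain ⟨y', rfl⟩ := (epi_iff _).1 (hY n k h) y
  exact ⟨m (u.app (op k)) y', (nat_apply u h y').symm⟩

theorem S8631 {X Y : ARSys.PS C} (u : Y ⟶ X) (hY : ARSys.IsStrict Y) (hu : ARSys.IsARIso u) :
    ∃ r : ℕ, ∀ s : ℕ, r ≤ s → ∀ n : ℕ,
      imageSubobject (ARSys.shiftMap X s n) = imageSubobject (u.app (op n)) := by
  obtain ⟨r, hr⟩ := hu.2
  refine ⟨r, fun s hs n => ?_⟩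
  rw [image_eq_iff, range_shiftMap]
  apply le_antisymm
  · exact range_tr_le_of_coker_null u r hr _ (by omega)
  · exact range_le_tr_of_strict u hY _

theorem isMLAR_of_strict_arIso {X Y : ARSys.PS C} (u : Y ⟶ X) (hY : ARSys.IsStrict Y)
    (hu : ARSys.IsARIso u) : ARSys.IsMLAR X := by
  obtain ⟨r, hr⟩ := S8631 u hY hu
  exact ⟨r, fun s hs n => by rw [hr s hs n, hr r le_rfl n]⟩

/-- the kernel of a mono is null -/
theorem isARNull_of_isZero (K : ARSys.PS C) (hK : IsZero K) : ARSys.IsARNull K := by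
  refine ⟨0, fun n => ?_⟩
  exact ((Functor.isZero_iff K).1 hK _).eq_of_src _ _

theorem isARNull_kernel_of_mono {X Y : ARSys.PS C} (u : Y ⟶ X) [Mono u] :
    ARSys.IsARNull (kernel u) :=
  isARNull_of_isZero _ (isZero_kernel_of_mono u)

/-- The system of images of translation by `r`. -/
theorem exists_univIm (X : ARSys.PS C) (r : ℕ) :
    ∃ (Y : ARSys.PS C) (u : Y ⟶ X), Mono u ∧ (∀ k, Mono (u.app k)) ∧
      (∀ n : ℕ, LinearMap.range (m (u.app (op n))) =
        LinearMap.range (m (ARSys.tr X (Nat.le_add_right n r)))) ∧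
      (∀ n : ℕ, ARSys.shiftMap (cokernel u) r n = 0) := by
  let σ := Groth.Agent.Helper4.ARSysFrac.sigma X r
  let u : Limits.image σ ⟶ X := Limits.image.ι σ
  haveI hm : Mono u := inferInstance
  have hmono : ∀ k, Mono (u.app k) := fun k => (NatTrans.mono_iff_mono_app u).1 hm k
  have hrange : ∀ n : ℕ, LinearMap.range (m (u.app (op n))) =
        LinearMap.range (m (ARSys.tr X (Nat.le_add_right n r))) := by
    intro n
    have hfac : factorThruImage σ ≫ u = σ := image.fac _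
    have hepi : Epi ((factorThruImage σ).app (op n)) :=
      (NatTrans.epi_iff_epi_app _).1 inferInstance _
    have happ : (factorThruImage σ).app (op n) ≫ u.app (op n) =
        ARSys.tr X (Nat.le_add_right n r) := by
      rw [← NatTrans.comp_app, hfac]; rfl
    have happ' : ∀ x : (F C).obj (((ARSys.shift C r).obj X).obj (op n)),
        m (u.app (op n)) (m ((factorThruImage σ).app (op n)) x) =
          m (ARSys.tr X (Nat.le_add_right n r)) x := by
      intro x
      rw [← m_comp_apply]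
      exact congrArg (fun f => m f x) happ
    apply le_antisymm
    · rintro _ ⟨y, rfl⟩
      obtain ⟨x, rfl⟩ := (epi_iff _).1 hepi y
      exact ⟨x, (happ' x).symm⟩
    · rintro _ ⟨x, rfl⟩
      exact ⟨_, happ' x⟩
  refine ⟨_, u, hm, hmono, hrange, fun n => ?_⟩
  haveI := coker_epi u (op (n + r))
  have : ARSys.tr (cokernel u) (Nat.le_add_right n r) = 0 := by
    rw [← cancel_epi ((cokernel.π u).app (op (n + r))), comp_zero, ← tr_nat, eq_zero_iff]
    intro x
    rw [m_comp_apply]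
    have : m (ARSys.tr X (Nat.le_add_right n r)) x ∈ LinearMap.range (m (u.app (op n))) := by
      rw [hrange]; exact ⟨x, rfl⟩
    obtain ⟨y, hy⟩ := this
    rw [← hy, ← m_comp_apply, ← NatTrans.comp_app, cokernel.condition]
    simp
  exact this

theorem strict_of_range {X Y : ARSys.PS C} (u : Y ⟶ X) (hmono : ∀ k, Mono (u.app k)) (r : ℕ)
    (hrange : ∀ n : ℕ, LinearMap.range (m (u.app (op n))) =
        LinearMap.range (m (ARSys.tr X (Nat.le_add_right n r))))
    (hr : ∀ (n k l : ℕ) (h₁ : n ≤ k) (h₂ : k ≤ l), n + r ≤ k →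
      LinearMap.range (m (ARSys.tr X h₁)) ≤ LinearMap.range (m (ARSys.tr X (h₁.trans h₂)))) :
    ARSys.IsStrict Y := by
  intro n k h
  rw [epi_iff]
  intro y
  have h1 : m (u.app (op n)) y ∈ LinearMap.range (m (ARSys.tr X (Nat.le_add_right n r))) := by
    rw [← hrange]; exact ⟨y, rfl⟩
  have h2 := hr n (n + r) (k + r) (Nat.le_add_right n r) (by omega) le_rfl h1
  obtain ⟨x, hx⟩ := h2
  have h3 : m (ARSys.tr X (Nat.le_add_right k r)) x ∈ LinearMap.range (m (u.app (op k))) := by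
    rw [hrange]; exact ⟨x, rfl⟩
  obtain ⟨y', hy'⟩ := h3
  refine ⟨y', ?_⟩
  haveI := hmono (op n)
  apply (mono_iff (u.app (op n))).1 inferInstance
  rw [nat_apply, hy', tr_tr_apply, hx]

theorem S3151 (X : ARSys.PS C) :
    ARSys.IsMLAR X ↔ ∃ (Y : ARSys.PS C) (u : Y ⟶ X), ARSys.IsStrict Y ∧ ARSys.IsARIso u := by
  constructor
  · intro h
    obtain ⟨r, hr⟩ := (isMLAR_iff X).1 h
    obtain ⟨Y, u, hm, hmono, hrange, hnull⟩ := exists_univIm X r
    exact ⟨Y, u, strict_of_range u hmono r hrange hr, isARNull_kernel_of_mono _, ⟨r, hnull⟩⟩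
  · rintro ⟨Y, u, hY, hu⟩
    exact isMLAR_of_strict_arIso u hY hu

theorem S3188 (X : ARSys.PS C) :
    ARSys.IsMLAR X ↔ (ARSys.IsML X ∧ ∃ (X' : ARSys.PS C) (ι : X' ⟶ X), Mono ι ∧
      (∀ n : ℕ, ∃ r₀ : ℕ, ∀ r : ℕ, r₀ ≤ r →
        imageSubobject (ι.app (op n)) = imageSubobject (ARSys.shiftMap X r n)) ∧
      ARSys.IsARNull (cokernel ι)) := by
  constructor
  · intro h
    obtain ⟨r, hr⟩ := h
    obtain ⟨Y, u, hm, hmono, hrange, hnull⟩ := exists_univIm X r
    refine ⟨fun n => ⟨r, fun s hs => hr s hs n⟩, Y, u, hm, ?_, ⟨r, hnull⟩⟩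
    intro n
    refine ⟨r, fun s hs => ?_⟩
    rw [hr s hs n, image_eq_iff, range_shiftMap]
    exact hrange n
  · rintro ⟨-, X', ι, -, him, ⟨r, hr⟩⟩
    have key : ∀ (s : ℕ), r ≤ s → ∀ n : ℕ,
        imageSubobject (ARSys.shiftMap X s n) = imageSubobject (ι.app (op n)) := by
      intro s hs n
      rw [image_eq_iff, range_shiftMap]
      apply le_antisymm
      · exact range_tr_le_of_coker_null ι r hr _ (by omega)
      · obtain ⟨r₀, hr₀⟩ := him n
        have := hr₀ (max r₀ s) (le_max_left _ _)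
        rw [image_eq_iff, range_shiftMap] at this
        rw [this]
        exact range_tr_anti X (Nat.le_add_right n s) (by have := le_max_right r₀ s; omega)
    exact ⟨r, fun s hs n => by rw [key s hs n, key r le_rfl n]⟩

theorem S8639 (S : ShortComplex (ARSys.PS C)) (hS : S.ShortExact) (hX : ARSys.IsMLAR S.X₁)
    (hZ : ARSys.IsMLAR S.X₃) : ARSys.IsMLAR S.X₂ := by
  obtain ⟨r₁, hr₁⟩ := (isMLAR_iff _).1 hX
  obtain ⟨r₃, hr₃⟩ := (isMLAR_iff _).1 hZ
  have hex : ∀ n : ℕ, (S.map ((evaluation ℕᵒᵖ C).obj (op n))).ShortExact :=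
    fun n => hS.map_of_exact _
  have hepi : ∀ n : ℕ, Function.Surjective (m (S.g.app (op n))) :=
    fun n => (epi_iff _).1 (hex n).epi_g
  have hexact : ∀ n : ℕ, ∀ y, m (S.g.app (op n)) y = 0 → ∃ x, m (S.f.app (op n)) x = y :=
    fun n => (exact_iff _).1 (hex n).exact
  rw [isMLAR_iff]
  refine ⟨r₁ + r₃, fun n k l h₁ h₂ hk => ?_⟩
  rintro _ ⟨y, rfl⟩
  -- y ∈ Y_k, k ≥ n + r₁ + r₃. Let p = n + r₁.
  have hp1 : n ≤ n + r₁ := Nat.le_add_right _ _
  have hp2 : n + r₁ ≤ k := by omega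
  -- image of y in Z_k, pushed to Z_p, lies in the image of Z_l
  have hz : m (ARSys.tr S.X₃ hp2) (m (S.g.app (op k)) y) ∈
      LinearMap.range (m (ARSys.tr S.X₃ (hp2.trans h₂))) :=
    hr₃ (n + r₁) k l hp2 h₂ (by omega) ⟨_, rfl⟩
  obtain ⟨z', hz'⟩ := hz
  obtain ⟨y', rfl⟩ := hepi l z'
  -- difference in Y_p comes from X_p
  have hd : m (S.g.app (op (n + r₁))) (m (ARSys.tr S.X₂ hp2) y - m (ARSys.tr S.X₂ (hp2.trans h₂)) y') = 0 := by
    rw [map_sub, nat_apply, nat_apply, hz', sub_self]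
  obtain ⟨x, hx⟩ := hexact _ _ hd
  -- image of x in X_n lies in the image of X_l
  have hx' : m (ARSys.tr S.X₁ hp1) x ∈ LinearMap.range (m (ARSys.tr S.X₁ (hp1.trans (hp2.trans h₂)))) :=
    hr₁ n (n + r₁) l hp1 (hp2.trans h₂) le_rfl ⟨_, rfl⟩
  obtain ⟨x', hx'⟩ := hx'
  refine ⟨y' + m (S.f.app (op l)) x', ?_⟩
  rw [map_add, ← nat_apply, hx', nat_apply, hx, map_sub, tr_tr_apply, tr_tr_apply]
  abel

end Groth.Agent.Helper9.ARSysML
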