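import Groth.Prelude.Def_ARSys
import Groth.Agent.Helper9.FM2
import Groth.Agent.Helper9.ARSysML
import Mathlib

/-!
# Linear part of the theory of projective systems up to translation
-/

set_option autoImplicit false

namespace Groth.Agent.Helper9.ARLin

open CategoryTheory CategoryTheory.Limits Opposite
open Groth.Agent.Helper9.FM

universe w v u

variable {C : Type u} [Category.{v} C] [Abelian C] {A : Type w} [CommRing A] [Linear A C]

/-- the action endomorphism -/
abbrev act (a : A) (X : C) : X ⟶ X := a • 𝟙 X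

theorem act_comp (a : A) {X Y : C} (f : X ⟶ Y) : act a X ≫ f = a • f := by
  simp [act]

theorem comp_act (a : A) {X Y : C} (f : X ⟶ Y) : f ≫ act a Y = a • f := by
  simp [act]

theorem act_nat (a : A) {X Y : C} (f : X ⟶ Y) : act a X ≫ f = f ≫ act a Y := by
  rw [act_comp, comp_act]

theorem act_nat_apply (a : A) {X Y : C} (f : X ⟶ Y) (x : (F C).obj X) :
    m f (m (act a X) x) = m (act a Y) (m f x) := by
  rw [← m_comp_apply, ← m_comp_apply, act_nat]

theorem homKilledBy_iff (I : Ideal A) {X Y : C} (φ : X ⟶ Y) :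
    ARSys.HomKilledBy I φ ↔ ∀ a ∈ I, act a X ≫ φ = 0 := by
  unfold ARSys.HomKilledBy
  simp only [act_comp]

theorem killedBy_iff_hom (I : Ideal A) (X : C) :
    ARSys.KilledBy I X ↔ ARSys.HomKilledBy I (𝟙 X) := Iff.rfl

theorem KilledBy.of_epi {I : Ideal A} {X Y : C} (p : X ⟶ Y) [Epi p] (h : ARSys.KilledBy I X) :
    ARSys.KilledBy I Y := by
  intro a ha
  rw [← cancel_epi p]
  have : p ≫ act a Y = 0 := by rw [← act_nat]; show (a • 𝟙 X) ≫ p = 0; rw [h a ha, zero_comp]
  rw [comp_zero]; exact this

theorem KilledBy.of_mono {I : Ideal A} {X Y : C} (i : X ⟶ Y) [Mono i] (h : ARSys.KilledBy I Y) :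
    ARSys.KilledBy I X := by
  intro a ha
  rw [← cancel_mono i]
  have : act a X ≫ i = 0 := by rw [act_nat]; show i ≫ (a • 𝟙 Y) = 0; rw [h a ha, comp_zero]
  rw [zero_comp]; exact this

theorem KilledBy.hom {I : Ideal A} {X Y : C} (h : ARSys.KilledBy I X) (φ : X ⟶ Y) :
    ARSys.HomKilledBy I φ := by
  intro a ha
  rw [← act_comp]; show (a • 𝟙 X) ≫ φ = 0; rw [h a ha, zero_comp]

theorem KilledBy.hom' {I : Ideal A} {X Y : C} (h : ARSys.KilledBy I Y) (φ : X ⟶ Y) :
    ARSys.HomKilledBy I φ := by
  intro a ha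
  rw [← comp_act]; show φ ≫ (a • 𝟙 Y) = 0; rw [h a ha, comp_zero]

theorem KilledBy.anti {I I' : Ideal A} (hI : I' ≤ I) {X : C} (h : ARSys.KilledBy I X) :
    ARSys.KilledBy I' X := fun a ha => h a (hI ha)

/-- Multiplication data for an ideal. -/
structure MulData (C : Type u) [Category.{v} C] [Abelian C] [Linear A C] (I : Ideal A) where
  P : C ⥤ C
  μ : ∀ X : C, P.obj X ⟶ X
  μ_nat : ∀ {X Y : C} (f : X ⟶ Y), P.map f ≫ μ Y = μ X ≫ f
  epi : ∀ {X Y : C} (f : X ⟶ Y) [Epi f], Epi (P.map f)
  killed_iff : ∀ {X Y : C} (φ : X ⟶ Y), ARSys.HomKilledBy I φ ↔ μ X ≫ φ = 0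

/-- construction from a spanning family -/
noncomputable def MulData.ofFamily {ι : Type*} (a : ι → A) [HasCoproductsOfShape ι C]
    (I : Ideal A) (hI : Ideal.span (Set.range a) = I) : MulData C I where
  P := { obj := fun X => ∐ (fun _ : ι => X)
         map := fun f => Limits.Sigma.map (fun _ => f)
         map_id := fun X => by ext; simp
         map_comp := fun f g => by ext; simp }
  μ := fun X => Limits.Sigma.desc (fun i => act (a i) X)
  μ_nat := fun {X Y} f => by
           apply Limits.Sigma.hom_ext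
           intro i
           change Limits.Sigma.ι (fun _ : ι => X) i ≫ Limits.Sigma.map (fun _ => f) ≫
             Limits.Sigma.desc (fun i => act (a i) Y) =
             Limits.Sigma.ι (fun _ : ι => X) i ≫ Limits.Sigma.desc (fun i => act (a i) X) ≫ f
           rw [Limits.Sigma.ι_map_assoc, Limits.Sigma.ι_desc, Limits.Sigma.ι_desc_assoc]
           exact (act_nat (a i) f).symm
  epi := fun {X Y} f _ => by
    change Epi (Limits.Sigma.map (fun _ : ι => f))
    infer_instance
  killed_iff := fun {X Y} φ => by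
    have key : (Limits.Sigma.desc (fun i => act (a i) X) ≫ φ = 0) ↔ ∀ i, a i • φ = 0 := by
      constructor
      · intro h i
        have := congrArg (fun g => Limits.Sigma.ι (fun _ : ι => X) i ≫ g) h
        simp only [Limits.Sigma.ι_desc_assoc, comp_zero] at this
        rw [← act_comp]; exact this
      · intro h
        apply Limits.Sigma.hom_ext
        intro i
        rw [Limits.Sigma.ι_desc_assoc, comp_zero, act_comp]
        exact h i
    change _ ↔ (Limits.Sigma.desc (fun i => act (a i) X) ≫ φ = 0)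
    rw [key]
    constructor
    · intro h i
      exact h (a i) (hI ▸ Ideal.subset_span ⟨i, rfl⟩)
    · intro hi b hb
      rw [← hI] at hb
      refine Submodule.span_induction (p := fun b _ => b • φ = 0) ?_ ?_ ?_ ?_ hb
      · rintro _ ⟨i, rfl⟩; exact hi i
      · simp
      · intro x y _ _ hx hy; rw [add_smul, hx, hy, add_zero]
      · intro c x _ hx; rw [smul_eq_mul, mul_smul, hx, smul_zero]

theorem exists_mulData (I : Ideal A) (h : I.FG ∨ HasCoproducts.{w} C) : Nonempty (MulData C I) := by
  rcases h with h | h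
  · obtain ⟨s, hs⟩ := h
    exact ⟨MulData.ofFamily (fun i : s => (i : A)) I (by rw [show (fun i : s => (i : A)) = Subtype.val from rfl, Subtype.range_coe]; exact hs)⟩
  · exact ⟨MulData.ofFamily (fun i : I => (i : A)) I (by rw [show (fun i : I => (i : A)) = Subtype.val from rfl, Subtype.range_coe]; exact Ideal.span_eq I)⟩

namespace MulData

variable {I : Ideal A} (D : MulData C I)

theorem μ_nat_apply {X Y : C} (f : X ⟶ Y) (w : (F C).obj (D.P.obj X)) :
    m (D.μ Y) (m (D.P.map f) w) = m f (m (D.μ X) w) := by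
  rw [← m_comp_apply, ← m_comp_apply, D.μ_nat]

theorem surj {X Y : C} (f : X ⟶ Y) (hf : Function.Surjective (m f)) :
    Function.Surjective (m (D.P.map f)) := by
  haveI := (epi_iff f).2 hf
  exact (epi_iff _).1 (D.epi f)

theorem killedBy_iff (X : C) : ARSys.KilledBy I X ↔ D.μ X = 0 := by
  rw [killedBy_iff_hom, D.killed_iff, Category.comp_id]

/-- elements in the image of μ are killed by any morphism killed by `I` -/
theorem hom_μ_apply {X Y : C} (φ : X ⟶ Y) (h : ARSys.HomKilledBy I φ) (w : (F C).obj (D.P.obj X)) :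
    m φ (m (D.μ X) w) = 0 := by
  rw [← m_comp_apply, (D.killed_iff φ).1 h]; simp

/-- elementwise characterization of universal quotients -/
theorem isQuot_iff {X Q : C} (p : X ⟶ Q) :
    ARSys.IsQuot I p ↔ Function.Surjective (m p) ∧ ARSys.KilledBy I Q ∧
      LinearMap.ker (m p) ≤ LinearMap.range (m (D.μ X)) := by
  constructor
  · rintro ⟨hQ, huniv⟩
    have hepi : Epi p := by
      constructor
      intro Z g h hgh
      have hk : ARSys.HomKilledBy I (p ≫ g) := fun a ha => by
        rw [← comp_act, Category.assoc, comp_act, (KilledBy.hom hQ g) a ha, comp_zero]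
      obtain ⟨ψ, _, hψ⟩ := huniv Z (p ≫ g) hk
      rw [hψ g rfl, hψ h hgh.symm]
    refine ⟨(epi_iff p).1 hepi, hQ, ?_⟩
    -- compare with the cokernel of μ
    have hk : ARSys.HomKilledBy I (cokernel.π (D.μ X)) :=
      (D.killed_iff _).2 (cokernel.condition _)
    obtain ⟨ψ, hψ, -⟩ := huniv _ _ hk
    intro x hx
    have hx' : m p x = 0 := hx
    have : m (cokernel.π (D.μ X)) x = 0 := by
      rw [← hψ, m_comp_apply, hx']; simp
    have hex : (ShortComplex.mk (D.μ X) (cokernel.π (D.μ X)) (cokernel.condition _)).Exact :=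
      ShortComplex.exact_of_g_is_cokernel _ (cokernelIsCokernel _)
    exact (exact_iff _).1 hex x this
  · rintro ⟨hs, hQ, hker⟩
    haveI hepi : Epi p := (epi_iff p).2 hs
    refine ⟨hQ, fun Y φ hφ => ?_⟩
    -- φ vanishes on the kernel of p
    have hz : kernel.ι p ≫ φ = 0 := by
      rw [comp_eq_zero_iff]
      intro k
      have hk : m (kernel.ι p) k ∈ LinearMap.ker (m p) := by
        rw [LinearMap.mem_ker, ← m_comp_apply, kernel.condition]; simp
      obtain ⟨w, hw⟩ := hker hk
      rw [← hw]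
      exact D.hom_μ_apply φ hφ w
    have hex : (ShortComplex.mk (kernel.ι p) p (kernel.condition p)).Exact :=
      ShortComplex.exact_of_f_is_kernel _ (kernelIsKernel p)
    refine ⟨hex.desc φ hz, hex.g_desc φ hz, fun ψ hψ => ?_⟩
    rw [← cancel_epi p, hψ, hex.g_desc]

theorem isQuot_ker {X Q : C} {p : X ⟶ Q} (h : ARSys.IsQuot I p) (x : (F C).obj X) (hx : m p x = 0) :
    ∃ w, m (D.μ X) w = x :=
  ((D.isQuot_iff p).1 h).2.2 hx

include D in
theorem isQuot_surj {X Q : C} {p : X ⟶ Q} (h : ARSys.IsQuot I p) : Function.Surjective (m p) :=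
  ((D.isQuot_iff p).1 h).1

/-- the canonical quotient -/
theorem isQuot_cokernel (X : C) : ARSys.IsQuot I (cokernel.π (D.μ X)) := by
  rw [D.isQuot_iff]
  refine ⟨(epi_iff _).1 inferInstance, ?_, ?_⟩
  · rw [D.killedBy_iff]
    haveI := D.epi (cokernel.π (D.μ X))
    rw [← cancel_epi (D.P.map (cokernel.π (D.μ X))), D.μ_nat, cokernel.condition, comp_zero]
  · intro x hx
    have hex : (ShortComplex.mk (D.μ X) (cokernel.π (D.μ X)) (cokernel.condition _)).Exact :=
      ShortComplex.exact_of_g_is_cokernel _ (cokernelIsCokernel _)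
    exact (exact_iff _).1 hex x hx

/-- if `X` is killed by `I`, μ vanishes elementwise -/
theorem μ_apply_of_killed {X : C} (h : ARSys.KilledBy I X) (w : (F C).obj (D.P.obj X)) :
    m (D.μ X) w = 0 := by
  rw [(D.killedBy_iff X).1 h]; simp

end MulData

end Groth.Agent.Helper9.ARLin
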