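import Groth.Prelude.Def_ARSys
import Groth.Agent.Helper9.ARLin
import Mathlib

/-!
# J-adic systems in short exact sequences
-/

set_option autoImplicit false

namespace Groth.Agent.Helper9.ARLin

open CategoryTheory CategoryTheory.Limits Opposite
open Groth.Agent.Helper9.FM Groth.Agent.Helper9.ARSysML

universe w v u

variable {C : Type u} [Category.{v} C] [Abelian C] {A : Type w} [CommRing A] [Linear A C]

/-- elementwise facts about a short exact sequence of systems -/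
structure SesElem (S : ShortComplex (ARSys.PS C)) : Prop where
  inj : ∀ n : ℕ, Function.Injective (m (S.f.app (op n)))
  surj : ∀ n : ℕ, Function.Surjective (m (S.g.app (op n)))
  exact : ∀ (n : ℕ) (y : (F C).obj (S.X₂.obj (op n))), m (S.g.app (op n)) y = 0 →
    ∃ x, m (S.f.app (op n)) x = y
  zero : ∀ (n : ℕ) (x : (F C).obj (S.X₁.obj (op n))), m (S.g.app (op n)) (m (S.f.app (op n)) x) = 0
  mono : ∀ n : ℕ, Mono (S.f.app (op n))
  epi : ∀ n : ℕ, Epi (S.g.app (op n))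

theorem sesElem (S : ShortComplex (ARSys.PS C)) (hS : S.ShortExact) : SesElem S := by
  have hex : ∀ n : ℕ, (S.map ((evaluation ℕᵒᵖ C).obj (op n))).ShortExact :=
    fun n => hS.map_of_exact _
  refine ⟨fun n => (mono_iff _).1 (hex n).mono_f, fun n => (epi_iff _).1 (hex n).epi_g,
    fun n => (exact_iff _).1 (hex n).exact, fun n x => ?_, fun n => (hex n).mono_f,
    fun n => (hex n).epi_g⟩
  have : S.f.app (op n) ≫ S.g.app (op n) = 0 := by
    rw [← NatTrans.comp_app, S.zero]; rfl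
  rw [← m_comp_apply, this]; simp

theorem pow_mulData (J : Ideal A) (hJ : J.FG ∨ HasCoproducts.{w} C) (k : ℕ) :
    Nonempty (MulData C (J ^ k)) := by
  apply exists_mulData
  rcases hJ with h | h
  · exact Or.inl (h.pow)
  · exact Or.inr h

theorem S3152 (J : Ideal A) (hJ : J.FG ∨ HasCoproducts.{w} C) (S : ShortComplex (ARSys.PS C))
    (hS : S.ShortExact) (h₁ : ARSys.IsStrict S.X₁) (h₂ : ARSys.IsAdic J S.X₂) :
    ARSys.IsAdic J S.X₃ := by
  have E := sesElem S hS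
  refine ⟨fun n => ?_, fun n k h => ?_⟩
  · haveI := E.epi n
    exact KilledBy.of_epi (S.g.app (op n)) (h₂.1 n)
  · obtain ⟨D⟩ := pow_mulData (C := C) J hJ (n + 1)
    have hY := (D.isQuot_iff _).1 (h₂.2 n k h)
    rw [D.isQuot_iff]
    refine ⟨?_, ?_, ?_⟩
    · intro z
      obtain ⟨y, rfl⟩ := E.surj n z
      obtain ⟨y', rfl⟩ := hY.1 y
      exact ⟨m (S.g.app (op k)) y', (nat_apply S.g h y').symm⟩
    · haveI := E.epi n
      exact KilledBy.of_epi (S.g.app (op n)) (h₂.1 n)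
    · intro z hz
      have hz' : m (ARSys.tr S.X₃ h) z = 0 := hz
      obtain ⟨y, rfl⟩ := E.surj k z
      have h1 : m (S.g.app (op n)) (m (ARSys.tr S.X₂ h) y) = 0 := by
        rw [nat_apply]; exact hz'
      obtain ⟨x, hx⟩ := E.exact n _ h1
      obtain ⟨x', rfl⟩ := (epi_iff _).1 (h₁ n k h) x
      have h2 : m (ARSys.tr S.X₂ h) (y - m (S.f.app (op k)) x') = 0 := by
        rw [map_sub, ← nat_apply, hx, sub_self]
      obtain ⟨w, hw⟩ := hY.2.2 h2
      refine ⟨m (D.P.map (S.g.app (op k))) w, ?_⟩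
      rw [D.μ_nat_apply, hw, map_sub, E.zero, sub_zero]

theorem S3153 (J : Ideal A) (hJ : J.FG ∨ HasCoproducts.{w} C) (S : ShortComplex (ARSys.PS C))
    (hS : S.ShortExact) (k₂ : ARSys.TermKilled J S.X₂) (h₂ : ARSys.IsStrict S.X₂)
    (h₃ : ARSys.IsAdic J S.X₃) : ARSys.IsStrict S.X₁ := by
  have E := sesElem S hS
  intro n k h
  rw [epi_iff]
  intro x
  obtain ⟨D⟩ := pow_mulData (C := C) J hJ (n + 1)
  have hZ := (D.isQuot_iff _).1 (h₃.2 n k h)
  obtain ⟨y, hy⟩ := (epi_iff _).1 (h₂ n k h) (m (S.f.app (op n)) x)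
  have h1 : m (ARSys.tr S.X₃ h) (m (S.g.app (op k)) y) = 0 := by
    rw [← nat_apply, hy, E.zero]
  obtain ⟨w, hw⟩ := hZ.2.2 h1
  obtain ⟨w', rfl⟩ := D.surj _ (E.surj k) w
  rw [D.μ_nat_apply] at hw
  have h2 : m (S.g.app (op k)) (y - m (D.μ _) w') = 0 := by
    rw [map_sub, hw, sub_self]
  obtain ⟨x', hx'⟩ := E.exact k _ h2
  refine ⟨x', ?_⟩
  apply E.inj n
  rw [nat_apply, hx', map_sub, hy, ← D.μ_nat_apply, D.μ_apply_of_killed (k₂ n), sub_zero]

theorem S3154 (J : Ideal A) (hJ : J.FG ∨ HasCoproducts.{w} C) (S : ShortComplex (ARSys.PS C))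
    (hS : S.ShortExact) (k₂ : ARSys.TermKilled J S.X₂) (h₁ : ARSys.IsAdic J S.X₁)
    (h₃ : ARSys.IsAdic J S.X₃) : ARSys.IsAdic J S.X₂ := by
  have E := sesElem S hS
  refine ⟨k₂, fun n k h => ?_⟩
  obtain ⟨D⟩ := pow_mulData (C := C) J hJ (n + 1)
  have hX := (D.isQuot_iff _).1 (h₁.2 n k h)
  have hZ := (D.isQuot_iff _).1 (h₃.2 n k h)
  rw [D.isQuot_iff]
  refine ⟨?_, k₂ n, ?_⟩
  · intro y
    obtain ⟨z, hz⟩ := hZ.1 (m (S.g.app (op n)) y)
    obtain ⟨y', rfl⟩ := E.surj k z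
    have h1 : m (S.g.app (op n)) (y - m (ARSys.tr S.X₂ h) y') = 0 := by
      rw [map_sub, nat_apply, hz, sub_self]
    obtain ⟨x, hx⟩ := E.exact n _ h1
    obtain ⟨x', rfl⟩ := hX.1 x
    refine ⟨y' + m (S.f.app (op k)) x', ?_⟩
    rw [map_add, ← nat_apply, hx]; abel
  · intro y hy
    have hy' : m (ARSys.tr S.X₂ h) y = 0 := hy
    have h1 : m (ARSys.tr S.X₃ h) (m (S.g.app (op k)) y) = 0 := by
      rw [← nat_apply, hy']; simp
    obtain ⟨w, hw⟩ := hZ.2.2 h1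
    obtain ⟨w', rfl⟩ := D.surj _ (E.surj k) w
    rw [D.μ_nat_apply] at hw
    have h2 : m (S.g.app (op k)) (y - m (D.μ _) w') = 0 := by
      rw [map_sub, hw, sub_self]
    obtain ⟨x, hx⟩ := E.exact k _ h2
    have h3 : m (ARSys.tr S.X₁ h) x = 0 := by
      apply E.inj n
      rw [nat_apply, hx, map_sub, hy', ← D.μ_nat_apply, D.μ_apply_of_killed (k₂ n)]
      simp
    obtain ⟨v, hv⟩ := hX.2.2 h3
    refine ⟨w' + m (D.P.map (S.f.app (op k))) v, ?_⟩
    rw [map_add, D.μ_nat_apply, hv, hx]; abel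

end Groth.Agent.Helper9.ARLin
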