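import Groth.Agent.Helper9.ARSes
import Mathlib

set_option autoImplicit false

namespace Groth.Agent.Helper9.ARSerre

open CategoryTheory CategoryTheory.Limits Opposite ZeroObject
open Groth.Agent.Helper9.FM Groth.Agent.Helper9.ARSysML Groth.Agent.Helper9.ARLin
open Groth.Agent.Helper9.ARShift Groth.Agent.Helper9.ARQuot Groth.Agent.Helper9.ARAdapt
open Groth.Agent.Helper9.ARFker Groth.Agent.Helper9.ARSes
open Groth.Agent.Helper4.ARSysBasic

universe w v u

variable {C : Type u} [Category.{v} C] [Abelian C]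

/-- systems that are null up to translation -/
def nullP : ObjectProperty (ARSys.PS C) := fun X => ARSys.IsARNull X

instance : (nullP (C := C)).IsSerreClass where
  exists_zero := ⟨0, isZero_zero _, isARNull_of_isZero _ (isZero_zero _)⟩
  prop_of_mono := fun {X Y} f _ hY => by
    let S : ShortComplex (ARSys.PS C) := ShortComplex.mk f (cokernel.π f) (cokernel.condition f)
    have hS : S.ShortExact :=
      { exact := ShortComplex.exact_of_g_is_cokernel _ (cokernelIsCokernel f)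
        mono_f := inferInstanceAs (Mono f)
        epi_g := inferInstanceAs (Epi (cokernel.π f)) }
    exact ((null_ses S hS).1 hY).1
  prop_of_epi := fun {X Y} f _ hX => by
    let S : ShortComplex (ARSys.PS C) := ShortComplex.mk (kernel.ι f) f (kernel.condition f)
    have hS : S.ShortExact :=
      { exact := ShortComplex.exact_of_f_is_kernel _ (kernelIsKernel f)
        mono_f := inferInstanceAs (Mono (kernel.ι f))
        epi_g := inferInstanceAs (Epi f) }
    exact ((null_ses S hS).1 hX).2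
  prop_X₂_of_shortExact := fun {S} hS h₁ h₃ => (null_ses S hS).2 ⟨h₁, h₃⟩

theorem isARIso_iff {X Y : ARSys.PS C} (u : X ⟶ Y) :
    ARSys.IsARIso u ↔ (nullP (C := C)).isoModSerre u := Iff.rfl

theorem isARIso_comp {X Y Z : ARSys.PS C} (u : X ⟶ Y) (v : Y ⟶ Z) (hu : ARSys.IsARIso u)
    (hv : ARSys.IsARIso v) : ARSys.IsARIso (u ≫ v) :=
  (nullP (C := C)).isoModSerre.comp_mem u v hu hv

theorem isARIso_of_postcomp {X Y Z : ARSys.PS C} (u : X ⟶ Y) (v : Y ⟶ Z) (hv : ARSys.IsARIso v)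
    (huv : ARSys.IsARIso (u ≫ v)) : ARSys.IsARIso u :=
  (nullP (C := C)).isoModSerre.of_postcomp (W' := (nullP (C := C)).isoModSerre) u v hv huv

theorem isARIso_of_precomp {X Y Z : ARSys.PS C} (u : X ⟶ Y) (v : Y ⟶ Z) (hu : ARSys.IsARIso u)
    (huv : ARSys.IsARIso (u ≫ v)) : ARSys.IsARIso v :=
  (nullP (C := C)).isoModSerre.of_precomp (W' := (nullP (C := C)).isoModSerre) u v hu huv

theorem sigma_isARIso (X : ARSys.PS C) (r : ℕ) :
    ARSys.IsARIso (Groth.Agent.Helper4.ARSysFrac.sigma X r) := by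
  constructor
  · rw [isARNull_kernel_iff]
    refine ⟨r, fun n y hy => ?_⟩
    exact hy
  · rw [isARNull_cokernel_iff]
    refine ⟨r, fun n x => ⟨x, rfl⟩⟩

variable {A : Type w} [CommRing A] [Linear A C]

theorem S8633 (J : Ideal A) (hJ : J.FG ∨ HasCoproducts.{w} C)
    {T X Y Z : ARSys.PS C} (a : T ⟶ X) (b : X ⟶ Y) (c : Y ⟶ Z) [Epi c]
    (wab : a ≫ b = 0) (wbc : b ≫ c = 0)
    (hab : (ShortComplex.mk a b wab).Exact) (hbc : (ShortComplex.mk b c wbc).Exact)
    (hT : ARSys.IsARNull T) (hX : ARSys.IsAdic J X) (hY : ARSys.TermKilled J Y)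
    (hZ : ARSys.IsAdic J Z) : ARSys.IsARAdic J Y := by
  have a_ex : ∀ (n : ℕ) (x : (F C).obj (X.obj (op n))), m (b.app (op n)) x = 0 →
      ∃ t, m (a.app (op n)) t = x :=
    fun n => (exact_iff _).1 (hab.map ((evaluation ℕᵒᵖ C).obj (op n)))
  have b_ex : ∀ (n : ℕ) (y : (F C).obj (Y.obj (op n))), m (c.app (op n)) y = 0 →
      ∃ x, m (b.app (op n)) x = y :=
    fun n => (exact_iff _).1 (hbc.map ((evaluation ℕᵒᵖ C).obj (op n)))
  have c_surj : ∀ n : ℕ, Function.Surjective (m (c.app (op n))) :=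
    fun n => (epi_iff _).1 ((NatTrans.epi_iff_epi_app c).1 inferInstance (op n))
  have hbc0 : ∀ (n : ℕ) (x : (F C).obj (X.obj (op n))),
      m (c.app (op n)) (m (b.app (op n)) x) = 0 := by
    intro n x
    rw [← m_comp_apply, ← NatTrans.comp_app, wbc]; simp
  obtain ⟨t, ht⟩ := (null_iff T).1 hT
  have hYs : ARSys.IsStrict Y := by
    intro n k h
    rw [epi_iff]
    intro y
    obtain ⟨z', hz'⟩ := adic_strict J hJ hZ h (m (c.app (op n)) y)
    obtain ⟨y', rfl⟩ := c_surj k z'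
    have h0 : m (c.app (op n)) (y - m (ARSys.tr Y h) y') = 0 := by
      rw [map_sub, nat_apply, hz', sub_self]
    obtain ⟨x, hx⟩ := b_ex n _ h0
    obtain ⟨x', rfl⟩ := adic_strict J hJ hX h x
    refine ⟨y' + m (b.app (op k)) x', ?_⟩
    rw [map_add, ← nat_apply, hx]; abel
  rw [S3158 J hJ Y hYs hY]
  refine ⟨t + 1, Nat.succ_pos _, fun n => ?_⟩
  rw [subLEIdeal_iff]
  intro y hy
  by_cases hn : n ≤ t + 1
  · have : n - (t + 1) = 0 := by omega
    rw [this, pow_zero, Ideal.one_eq_top]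
    exact inI_top y
  · obtain ⟨k, rfl⟩ : ∃ k, n = k + 1 := ⟨n - 1, by omega⟩
    have hy0 := (mem_Fker_iff Y _ y).1 hy k rfl
    obtain ⟨D⟩ := pow_mulData (C := C) J hJ (k + 1)
    have hZq := (isQuot_iff' D _).1 (hZ.2 k (k + 1) (Nat.le_succ k))
    have h1 : InI (J ^ (k + 1)) (m (c.app (op (k + 1))) y) := by
      apply hZq.2.2
      rw [← nat_apply, hy0, map_zero]
    obtain ⟨y₁, hy₁, hy₁I⟩ := InI.lift D (c.app (op (k + 1))) (c_surj _) h1
    have h2 : m (c.app (op (k + 1))) (y - y₁) = 0 := by rw [map_sub, hy₁, sub_self]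
    obtain ⟨x, hx⟩ := b_ex (k + 1) _ h2
    have hty₁ : m (ARSys.tr Y (show k ≤ k + 1 by omega)) y₁ = 0 :=
      InI.eq_zero_of_killed (hY k) (hy₁I.map _)
    have h3 : m (b.app (op k)) (m (ARSys.tr X (show k ≤ k + 1 by omega)) x) = 0 := by
      rw [nat_apply, hx, map_sub, hy0, hty₁, sub_zero]
    obtain ⟨τ, hτ⟩ := a_ex k _ h3
    have hkt : k - t ≤ k := Nat.sub_le _ _
    have hx0 : m (ARSys.tr X (hkt.trans (Nat.le_succ k))) x = 0 := by
      rw [← tr_tr_apply X hkt (Nat.le_succ k), ← hτ, ← nat_apply, ht (k - t) k hkt (by omega)]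
      simp
    obtain ⟨D'⟩ := pow_mulData (C := C) J hJ (k - t + 1)
    have hXq := (isQuot_iff' D' _).1 (hX.2 (k - t) (k + 1) (hkt.trans (Nat.le_succ k)))
    have h4 : InI (J ^ (k - t + 1)) x := hXq.2.2 x hx0
    have h5 : InI (J ^ (k + 1 - (t + 1))) (m (b.app (op (k + 1))) x) :=
      (h4.map _).mono (Ideal.pow_le_pow_right (by omega))
    have h6 : InI (J ^ (k + 1 - (t + 1))) y₁ := hy₁I.mono (Ideal.pow_le_pow_right (by omega))
    have := h5.add h6
    rwa [hx, sub_add_cancel] at this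

end Groth.Agent.Helper9.ARSerre
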