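import Groth.Agent.Helper9.ARQuot
import Groth.Agent.Helper9.ARAdapt
import Groth.Agent.Helper9.FM2
import Mathlib

set_option autoImplicit false

namespace Groth.Agent.Helper9.ARFker

open CategoryTheory CategoryTheory.Limits Opposite
open Groth.Agent.Helper9.FM Groth.Agent.Helper9.ARSysML Groth.Agent.Helper9.ARLin
open Groth.Agent.Helper9.ARShift Groth.Agent.Helper9.ARQuot Groth.Agent.Helper9.ARAdapt
open Groth.Agent.Helper4.ARSysBasic

universe w v u

variable {C : Type u} [Category.{v} C] [Abelian C] {A : Type w} [CommRing A] [Linear A C]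

/-- the element `x` lies in `I • X` -/
def InI (I : Ideal A) {X : C} (x : (F C).obj X) : Prop :=
  ∀ (Y : C) (φ : X ⟶ Y), ARSys.HomKilledBy I φ → m φ x = 0

theorem inI_iff {I : Ideal A} (D : MulData C I) {X : C} (x : (F C).obj X) :
    InI I x ↔ x ∈ LinearMap.range (m (D.μ X)) := by
  constructor
  · intro h
    have hk : ARSys.HomKilledBy I (cokernel.π (D.μ X)) :=
      (D.killed_iff _).2 (cokernel.condition _)
    exact (cokernel_π_eq_zero_iff _ _).1 (h _ _ hk)
  · rintro ⟨w, rfl⟩ Y φ hφ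
    exact D.hom_μ_apply φ hφ w

theorem InI.mono {I I' : Ideal A} (h : I' ≤ I) {X : C} {x : (F C).obj X} (hx : InI I' x) :
    InI I x := fun Y φ hφ => hx Y φ (fun a ha => hφ a (h ha))

theorem InI.zero (I : Ideal A) (X : C) : InI I (0 : (F C).obj X) := fun _ _ _ => map_zero _

theorem InI.add {I : Ideal A} {X : C} {x y : (F C).obj X} (hx : InI I x) (hy : InI I y) :
    InI I (x + y) := fun Y φ hφ => by rw [map_add, hx Y φ hφ, hy Y φ hφ, add_zero]

theorem InI.sub {I : Ideal A} {X : C} {x y : (F C).obj X} (hx : InI I x) (hy : InI I y) :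
    InI I (x - y) := fun Y φ hφ => by rw [map_sub, hx Y φ hφ, hy Y φ hφ, sub_zero]

theorem InI.map {I : Ideal A} {X X' : C} (f : X ⟶ X') {x : (F C).obj X} (hx : InI I x) :
    InI I (m f x) := by
  intro Y φ hφ
  rw [← m_comp_apply]
  apply hx
  intro a ha
  rw [← Linear.comp_smul, hφ a ha, comp_zero]

theorem InI.lift {I : Ideal A} (D : MulData C I) {X X' : C} (f : X ⟶ X')
    (hf : Function.Surjective (m f)) {x' : (F C).obj X'} (hx' : InI I x') :
    ∃ x, m f x = x' ∧ InI I x := by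
  obtain ⟨w, rfl⟩ := (inI_iff D x').1 hx'
  obtain ⟨w', rfl⟩ := D.surj f hf w
  exact ⟨m (D.μ X) w', (D.μ_nat_apply f w').symm, (inI_iff D _).2 ⟨w', rfl⟩⟩

theorem inI_top {X : C} (x : (F C).obj X) : InI (⊤ : Ideal A) x := by
  intro Y φ hφ
  have := hφ 1 Submodule.mem_top
  rw [one_smul] at this
  rw [this]; simp

theorem subLEIdeal_iff (I : Ideal A) {X : C} (S : Subobject X) :
    ARSys.SubLEIdeal I S ↔ ∀ x ∈ sub S, InI I x := by
  constructor
  · rintro h _ ⟨t, rfl⟩ Y φ hφ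
    rw [← m_comp_apply, h Y φ hφ]; simp
  · intro h Y φ hφ
    rw [comp_eq_zero_iff]
    intro t
    exact h _ ⟨t, rfl⟩ Y φ hφ

theorem isQuot_iff' {I : Ideal A} (D : MulData C I) {X Q : C} (p : X ⟶ Q) :
    ARSys.IsQuot I p ↔ Function.Surjective (m p) ∧ ARSys.KilledBy I Q ∧
      ∀ x, m p x = 0 → InI I x := by
  rw [D.isQuot_iff]
  refine and_congr Iff.rfl (and_congr Iff.rfl ?_)
  constructor
  · intro h x hx
    exact (inI_iff D x).2 (h hx)
  · intro h x hx
    exact (inI_iff D x).1 (h x hx)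

theorem mem_Fker_iff (X : ARSys.PS C) (n : ℕ) (x : (F C).obj (X.obj (op n))) :
    x ∈ sub (ARSys.Fker X n) ↔
      ∀ (k : ℕ) (h : k + 1 = n), m (ARSys.tr X (show k ≤ n by omega)) x = 0 := by
  cases n with
  | zero =>
    have : ARSys.Fker X 0 = ⊤ := rfl
    rw [this, sub_top]
    simp
  | succ k =>
    have : ARSys.Fker X (k + 1) = kernelSubobject (ARSys.tr X (Nat.le_succ k)) := rfl
    rw [this, sub_kernel, LinearMap.mem_ker]
    constructor
    · intro hx k' h'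
      obtain rfl : k' = k := by omega
      exact hx
    · intro hx
      exact hx k rfl

/-- construct a projective system from objects and transition maps -/
def mkPS (obj : ℕ → C) (map : ∀ (n k : ℕ), n ≤ k → (obj k ⟶ obj n))
    (map_id : ∀ n, map n n le_rfl = 𝟙 _)
    (map_comp : ∀ (n k l : ℕ) (h₁ : n ≤ k) (h₂ : k ≤ l),
      map k l h₂ ≫ map n k h₁ = map n l (h₁.trans h₂)) : ARSys.PS C where
  obj := fun a => obj a.unop
  map := fun {a b} f => map b.unop a.unop (leOfHom f.unop)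
  map_id := fun a => map_id a.unop
  map_comp := fun _ _ => (map_comp _ _ _ _ _).symm

theorem S3158_mp (J : Ideal A) (hJ : J.FG ∨ HasCoproducts.{w} C) (X : ARSys.PS C)
    (hX : ARSys.IsStrict X) (h : ARSys.IsARAdic J X) :
    ∃ r : ℕ, 0 < r ∧ ∀ n : ℕ, ARSys.SubLEIdeal (J ^ (n - r)) (ARSys.Fker X n) := by
  obtain ⟨r₀, Y, q, hq, hY⟩ := S3157_mp J hJ X hX h
  let qa : ∀ n : ℕ, X.obj (op (n + r₀)) ⟶ Y.obj (op n) := fun n => q.app (op n)
  have hqa : ∀ n : ℕ, ARSys.IsQuot (J ^ (n + 1)) (qa n) := hq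
  have hqa_nat : ∀ (n k : ℕ) (h : n ≤ k), ARSys.tr X (show n + r₀ ≤ k + r₀ by omega) ≫ qa n =
      qa k ≫ ARSys.tr Y h := fun n k h => q.naturality (homOfLE h).op
  clear_value qa
  refine ⟨r₀ + 1, Nat.succ_pos _, fun n => ?_⟩
  rw [subLEIdeal_iff]
  intro x hx
  by_cases hn : n ≤ r₀ + 1
  · have : n - (r₀ + 1) = 0 := by omega
    rw [this, pow_zero, Ideal.one_eq_top]
    exact inI_top x
  · obtain ⟨j, rfl⟩ : ∃ j, n = j + 1 + r₀ := ⟨n - r₀ - 1, by omega⟩
    have hx0 := (mem_Fker_iff X _ x).1 hx (j + r₀) (by omega)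
    obtain ⟨D1⟩ := pow_mulData (C := C) J hJ (j + 1)
    obtain ⟨D2⟩ := pow_mulData (C := C) J hJ (j + 1 + 1)
    have hq1 := (isQuot_iff' D2 _).1 (hqa (j + 1))
    have hYq := (isQuot_iff' D1 _).1 (hY.2 j (j + 1) (Nat.le_succ j))
    have hnat : ∀ z : (F C).obj (X.obj (op (j + 1 + r₀))),
        m (ARSys.tr Y (Nat.le_succ j)) (m (qa (j + 1)) z) =
          m (qa j) (m (ARSys.tr X (show j + r₀ ≤ j + 1 + r₀ by omega)) z) := by
      intro z
      rw [← m_comp_apply, ← m_comp_apply, hqa_nat j (j + 1) (Nat.le_succ j)]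
    have h1 : InI (J ^ (j + 1)) (m (qa (j + 1)) x) := by
      apply hYq.2.2
      rw [hnat, hx0, map_zero]
    obtain ⟨x', hx', hx'I⟩ := InI.lift D1 (qa (j + 1)) hq1.1 h1
    have h2 : InI (J ^ (j + 1 + 1)) (x - x') := by
      apply hq1.2.2
      rw [map_sub, hx', sub_self]
    have h3 : InI (J ^ (j + 1)) x := by
      have := (h2.mono (Ideal.pow_le_pow_right (Nat.le_succ (j + 1)))).add hx'I
      rwa [sub_add_cancel] at this
    exact h3.mono (Ideal.pow_le_pow_right (by omega))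

theorem key_claim (J : Ideal A) (hJ : J.FG ∨ HasCoproducts.{w} C) (X : ARSys.PS C)
    (hX : ARSys.IsStrict X) (r : ℕ)
    (h : ∀ n : ℕ, ARSys.SubLEIdeal (J ^ (n - r)) (ARSys.Fker X n)) :
    ∀ (d l : ℕ) (x : (F C).obj (X.obj (op (l + d)))),
      m (ARSys.tr X (Nat.le_add_right l d)) x = 0 → InI (J ^ (l + 1 - r)) x := by
  intro d
  induction d with
  | zero =>
    intro l x hx
    rw [tr_refl_apply] at hx
    rw [hx]
    exact InI.zero _ _
  | succ d ih =>
    intro l x hx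
    obtain ⟨D⟩ := pow_mulData (C := C) J hJ (l + 1 - r)
    have h1 : InI (J ^ (l + 1 - r)) (m (ARSys.tr X (Nat.le_succ (l + d))) x) := by
      apply ih l
      rw [tr_tr_apply]
      exact hx
    obtain ⟨x', hx', hx'I⟩ := InI.lift D (ARSys.tr X (Nat.le_succ (l + d)))
      ((epi_iff _).1 (hX _ _ _)) h1
    have h2 : x - x' ∈ sub (ARSys.Fker X (l + d + 1)) := by
      rw [mem_Fker_iff]
      intro k hk
      obtain rfl : k = l + d := by omega
      rw [map_sub, hx', sub_self]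
    have h3 := (subLEIdeal_iff _ _).1 (h (l + d + 1)) _ h2
    have := (h3.mono (Ideal.pow_le_pow_right (show l + 1 - r ≤ l + d + 1 - r by omega))).add hx'I
    rwa [sub_add_cancel] at this

theorem key_claim' (J : Ideal A) (hJ : J.FG ∨ HasCoproducts.{w} C) (X : ARSys.PS C)
    (hX : ARSys.IsStrict X) (r : ℕ)
    (h : ∀ n : ℕ, ARSys.SubLEIdeal (J ^ (n - r)) (ARSys.Fker X n))
    {n k : ℕ} (hnk : n ≤ k) (x : (F C).obj (X.obj (op k)))
    (hx : m (ARSys.tr X hnk) x = 0) : InI (J ^ (n + 1 - r)) x := by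
  obtain ⟨d, rfl⟩ := Nat.exists_eq_add_of_le hnk
  exact key_claim J hJ X hX r h d n x hx

theorem S3158_mpr (J : Ideal A) (hJ : J.FG ∨ HasCoproducts.{w} C) (X : ARSys.PS C)
    (hX : ARSys.IsStrict X) (kX : ARSys.TermKilled J X) (r : ℕ)
    (h : ∀ n : ℕ, ARSys.SubLEIdeal (J ^ (n - r)) (ARSys.Fker X n)) :
    ARSys.IsARAdic J X := by
  -- the quotients
  let D : ∀ n : ℕ, MulData C (J ^ (n + 1)) := fun n => (pow_mulData (C := C) J hJ (n + 1)).some
  let Yo : ℕ → C := fun n => cokernel ((D n).μ (X.obj (op (n + r))))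
  let qa : ∀ n : ℕ, X.obj (op (n + r)) ⟶ Yo n := fun n => cokernel.π _
  have hqa : ∀ n : ℕ, ARSys.IsQuot (J ^ (n + 1)) (qa n) := fun n => (D n).isQuot_cokernel _
  clear_value qa
  clear_value Yo
  have hq' := fun n => (isQuot_iff' (D n) _).1 (hqa n)
  have hepi : ∀ n : ℕ, Epi (qa n) := fun n => (epi_iff _).2 (hq' n).1
  have hex : ∀ (n k : ℕ) (hnk : n ≤ k), ∃! ψ : Yo k ⟶ Yo n,
      qa k ≫ ψ = ARSys.tr X (show n + r ≤ k + r by omega) ≫ qa n := by
    intro n k hnk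
    apply (hqa k).2
    exact KilledBy.hom' (KilledBy.anti (Ideal.pow_le_pow_right (by omega)) (hqa n).1) _
  let t : ∀ (n k : ℕ), n ≤ k → (Yo k ⟶ Yo n) := fun n k hnk => (hex n k hnk).choose
  have ht : ∀ (n k : ℕ) (hnk : n ≤ k),
      qa k ≫ t n k hnk = ARSys.tr X (show n + r ≤ k + r by omega) ≫ qa n :=
    fun n k hnk => (hex n k hnk).choose_spec.1
  clear_value t
  have t_id : ∀ n, t n n le_rfl = 𝟙 _ := by
    intro n
    haveI := hepi n
    rw [← cancel_epi (qa n), ht, Category.comp_id]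
    have : ARSys.tr X (show n + r ≤ n + r by omega) = 𝟙 _ := by
      rw [ext_iff]; intro x; rw [tr_refl_apply, m_id]; rfl
    rw [this, Category.id_comp]
  have t_comp : ∀ (n k l : ℕ) (h₁ : n ≤ k) (h₂ : k ≤ l),
      t k l h₂ ≫ t n k h₁ = t n l (h₁.trans h₂) := by
    intro n k l h₁ h₂
    haveI := hepi l
    rw [← cancel_epi (qa l), ← Category.assoc, ht, Category.assoc, ht, ht, ← Category.assoc, tr_comp]
  let Y : ARSys.PS C := mkPS Yo t t_id t_comp
  have hYtr : ∀ (n k : ℕ) (hnk : n ≤ k), ARSys.tr Y hnk = t n k hnk := fun n k hnk => rfl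
  have hYobj : ∀ n : ℕ, Y.obj (op n) = Yo n := fun n => rfl
  let q : (ARSys.shift C r).obj X ⟶ Y := mkNat (X := (ARSys.shift C r).obj X) (Y := Y) qa
    (fun n k hnk => (ht n k hnk).symm)
  have hqapp : ∀ n : ℕ, q.app (op n) = qa n := fun n => rfl
  refine S3157_mpr J hJ X hX kX r Y q (fun n => by rw [hqapp]; exact hqa n) ⟨fun n => (hqa n).1, ?_⟩
  intro n k hnk
  show ARSys.IsQuot (X := Yo k) (Q := Yo n) (J ^ (n + 1)) (t n k hnk)
  rw [isQuot_iff' (D n)]
  have htel : ∀ x : (F C).obj (X.obj (op (k + r))),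
      m (t n k hnk) (m (qa k) x) = m (qa n) (m (ARSys.tr X (show n + r ≤ k + r by omega)) x) := by
    intro x
    rw [← m_comp_apply, ← m_comp_apply, ht]
  refine ⟨?_, (hqa n).1, ?_⟩
  · intro y
    obtain ⟨x, rfl⟩ := (hq' n).1 y
    obtain ⟨x', rfl⟩ := (epi_iff _).1 (hX (n + r) (k + r) (by omega)) x
    exact ⟨m (qa k) x', htel x'⟩
  · intro y hy
    obtain ⟨x, rfl⟩ := (hq' k).1 y
    rw [htel] at hy
    have h1 := (hq' n).2.2 _ hy
    obtain ⟨x', hx', hx'I⟩ := InI.lift (D n) (ARSys.tr X (show n + r ≤ k + r by omega))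
      ((epi_iff _).1 (hX _ _ _)) h1
    have h2 : InI (J ^ (n + r + 1 - r)) (x - x') := by
      apply key_claim' J hJ X hX r h (show n + r ≤ k + r by omega)
      rw [map_sub, hx', sub_self]
    have h3 : InI (J ^ (n + 1)) x := by
      have := (h2.mono (Ideal.pow_le_pow_right (show n + 1 ≤ n + r + 1 - r by omega))).add hx'I
      rwa [sub_add_cancel] at this
    exact h3.map _

theorem S3158 (J : Ideal A)
    (hJ : J.FG ∨ HasCoproducts.{w} C) (X : ARSys.PS C) (hX : ARSys.IsStrict X)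
    (kX : ARSys.TermKilled J X) :
    ARSys.IsARAdic J X ↔ ∃ r : ℕ, 0 < r ∧
      ∀ n : ℕ, ARSys.SubLEIdeal (J ^ (n - r)) (ARSys.Fker X n) := by
  constructor
  · exact S3158_mp J hJ X hX
  · rintro ⟨r, -, h⟩
    exact S3158_mpr J hJ X hX kX r h

end Groth.Agent.Helper9.ARFker
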