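import Mathlib
import Groth.Prelude.Def_AlgSt5
import Groth.Prelude.Def_ChGrp

set_option autoImplicit false
set_option linter.unusedSimpArgs false

namespace Groth.Agent.Helper9.QuotStk

open CategoryTheory CategoryTheory.Limits MonoidalCategory CartesianMonoidalCategory MonObj GrpObj
  AlgebraicGeometry AlgSt

universe u

variable {S : Scheme.{u}} (K : Precoverage Scheme.{u}) [K.HasIsos] (G : Over S) [GrpObj G]
  {X : Over S} (aX : AlgGrp.Action G X)

/-- the morphism from the trivial object attached to `s ≫ φ` to `A` determined by a point `s` of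
the torsor -/
theorem exists_hom_of_section (A : AlgSt.QuotObj K G aX) {T : Over S} (s : T ⟶ A.P) :
    ∃ h : (AlgSt.quotMap K G aX).obj ((AlgSt.ofOverCat X).obj (Over.mk (s ≫ A.φ))) ⟶ A,
      h.base = s ≫ A.π ∧ h.top = (G ◁ s) ≫ A.act.act := by
  refine ⟨⟨s ≫ A.π, (G ◁ s) ≫ A.act.act, ?_, ?_, ?_⟩, rfl, rfl⟩
  · -- equivariance
    change (AlgSt.leftMul G T).act ≫ (G ◁ s) ≫ A.act.act = (G ◁ ((G ◁ s) ≫ A.act.act)) ≫ A.act.act
    have hμ : fst (G ⊗ G) A.P ≫ μ[G] = (fst _ _ ≫ fst G G) * (fst _ _ ≫ snd G G) := by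
      rw [Hom.mul_def, ← comp_lift, lift_fst_snd, Category.comp_id]
    have h : (AlgSt.leftMul G T).act ≫ (G ◁ s) =
        (G ◁ (G ◁ s)) ≫ (α_ G G A.P).inv ≫ (μ[G] ▷ A.P) := by
      apply CartesianMonoidalCategory.hom_ext
      · simp only [AlgSt.leftMul, Category.assoc, lift_fst, lift_snd, lift_fst_assoc, lift_snd_assoc, comp_lift, comp_mul, whiskerLeft_fst, whiskerLeft_snd, whiskerLeft_fst_assoc, whiskerLeft_snd_assoc, whiskerRight_fst, whiskerRight_snd, whiskerRight_fst_assoc, whiskerRight_snd_assoc, associator_inv_fst_fst, associator_inv_fst_snd, associator_inv_snd, associator_inv_fst_fst_assoc, associator_inv_fst_snd_assoc, associator_inv_snd_assoc, hμ]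
      · simp only [AlgSt.leftMul, Category.assoc, lift_fst, lift_snd, lift_fst_assoc, lift_snd_assoc, comp_lift, comp_mul, whiskerLeft_fst, whiskerLeft_snd, whiskerLeft_fst_assoc, whiskerLeft_snd_assoc, whiskerRight_fst, whiskerRight_snd, whiskerRight_fst_assoc, whiskerRight_snd_assoc, associator_inv_fst_fst, associator_inv_fst_snd, associator_inv_snd, associator_inv_fst_fst_assoc, associator_inv_fst_snd_assoc, associator_inv_snd_assoc]
    have hm : (G ◁ A.act.act) ≫ A.act.act = (α_ G G A.P).inv ≫ (μ[G] ▷ A.P) ≫ A.act.act := by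
      rw [A.act.mul_act, Iso.inv_hom_id_assoc]
    rw [MonoidalCategory.whiskerLeft_comp, Category.assoc, hm, reassoc_of% h]
  · -- cartesian
    have h1 : IsPullback (G ◁ s) (snd G T) (snd G A.P) s := AlgSt.isPullback_whiskerLeft s
    exact h1.paste_horiz A.cart
  · -- compatibility with the maps to X
    change ((G ◁ s) ≫ A.act.act) ≫ A.φ = (G ◁ (s ≫ A.φ)) ≫ aX.act
    rw [Category.assoc, A.eqv, MonoidalCategory.whiskerLeft_comp, Category.assoc]


section Two

variable {T T' : Over S} (f : T ⟶ T') (x : T ⟶ X) (x' : T' ⟶ X)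

theorem leftMul_pt {U W : Over S} (k m : U ⟶ G) (t : U ⟶ W) :
    lift k (lift m t) ≫ (AlgSt.leftMul G W).act = lift (k * m) t := by
  simp only [AlgSt.leftMul, comp_lift, comp_mul, lift_fst, lift_snd, lift_snd_assoc]

/-- every morphism between trivial objects lying over `f` is a right multiplication -/
theorem hom_top_eq
    (h : (AlgSt.quotMap K G aX).obj ((AlgSt.ofOverCat X).obj (Over.mk x)) ⟶
      (AlgSt.quotMap K G aX).obj ((AlgSt.ofOverCat X).obj (Over.mk x')))
    (hf : h.base = f) :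
    ∃ g : T ⟶ G, lift g (f ≫ x') ≫ aX.act = x ∧
      h.top = lift (fst G T * (snd G T ≫ g)) (snd G T ≫ f) := by
  let top : G ⊗ T ⟶ G ⊗ T' := h.top
  have hsnd : top ≫ snd G T' = snd G T ≫ f := by
    have := h.cart.w
    rw [hf] at this
    exact this
  have heqv : (AlgSt.leftMul G T).act ≫ top = (G ◁ top) ≫ (AlgSt.leftMul G T').act := h.eqv
  have hφ : top ≫ (G ◁ x') ≫ aX.act = (G ◁ x) ≫ aX.act := h.wφ
  let e : T ⟶ G ⊗ T := lift 1 (𝟙 T)
  let g : T ⟶ G := e ≫ top ≫ fst G T'
  have het : e ≫ top = lift g f := by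
    apply CartesianMonoidalCategory.hom_ext
    · rw [lift_fst, Category.assoc]
    · rw [lift_snd, Category.assoc, hsnd, lift_snd_assoc, Category.id_comp]
  have hpt : ∀ {U : Over S} (k : U ⟶ G) (t : U ⟶ T),
      lift k t ≫ top = lift (k * (t ≫ g)) (t ≫ f) := by
    intro U k t
    have h1 : lift k t = lift k (lift 1 t) ≫ (AlgSt.leftMul G T).act := by
      rw [leftMul_pt, _root_.mul_one]
    have h2 : lift (1 : U ⟶ G) t = t ≫ e := by
      rw [comp_lift, MonObj.comp_one, Category.comp_id]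
    rw [h1, Category.assoc, heqv, lift_whiskerLeft_assoc, h2, Category.assoc, het, comp_lift,
      leftMul_pt]
  refine ⟨g, ?_, ?_⟩
  · have h1 := congrArg (fun m => e ≫ m) hφ
    beta_reduce at h1
    rw [← Category.assoc, het, lift_whiskerLeft_assoc, lift_whiskerLeft_assoc, Category.id_comp,
      AlgGrp.Action.lift_one_act] at h1
    exact h1
  · have h1 := hpt (fst G T) (snd G T)
    rw [lift_fst_snd, Category.id_comp] at h1
    exact h1

/-- a point `g` of `G` with `g • (x' ∘ f) = x` defines a morphism of trivial objects over `f` -/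
theorem exists_hom_of_point (g : T ⟶ G) (hg : lift g (f ≫ x') ≫ aX.act = x) :
    ∃ h : (AlgSt.quotMap K G aX).obj ((AlgSt.ofOverCat X).obj (Over.mk x)) ⟶
      (AlgSt.quotMap K G aX).obj ((AlgSt.ofOverCat X).obj (Over.mk x')),
      h.base = f ∧ h.top = lift (fst G T * (snd G T ≫ g)) (snd G T ≫ f) := by
  let top : G ⊗ T ⟶ G ⊗ T' := lift (fst G T * (snd G T ≫ g)) (snd G T ≫ f)
  have hpt : ∀ {U : Over S} (k : U ⟶ G) (t : U ⟶ T),
      lift k t ≫ top = lift (k * (t ≫ g)) (t ≫ f) := by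
    intro U k t
    simp only [top, comp_lift, comp_mul, lift_fst, lift_snd_assoc]
  refine ⟨⟨f, top, ?_, ?_, ?_⟩, rfl, rfl⟩
  · change (AlgSt.leftMul G T).act ≫ top = (G ◁ top) ≫ (AlgSt.leftMul G T').act
    have e1 : 𝟙 (G ⊗ (G ⊗ T)) = lift (fst G (G ⊗ T)) (lift (snd G (G ⊗ T) ≫ fst G T)
        (snd G (G ⊗ T) ≫ snd G T)) := by
      rw [← comp_lift, lift_fst_snd, Category.comp_id, lift_fst_snd]
    rw [← Category.id_comp ((AlgSt.leftMul G T).act ≫ top),
      ← Category.id_comp ((G ◁ top) ≫ (AlgSt.leftMul G T').act), e1, ← Category.assoc,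
      leftMul_pt, hpt, lift_whiskerLeft_assoc, hpt, leftMul_pt, _root_.mul_assoc]
  · have h1 : IsPullback (G ◁ f) (snd G T) (snd G T') f := AlgSt.isPullback_whiskerLeft f
    let ρ : G ⊗ T ⟶ G ⊗ T := lift (fst G T * (snd G T ≫ g)) (snd G T)
    let ρ' : G ⊗ T ⟶ G ⊗ T := lift (fst G T * (snd G T ≫ g)⁻¹) (snd G T)
    haveI : IsIso ρ := by
      refine ⟨⟨ρ', ?_, ?_⟩⟩
      · simp only [ρ, ρ', comp_lift, comp_mul, comp_inv, lift_fst, lift_snd, lift_snd_assoc,
          mul_inv_cancel_right, lift_fst_snd]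
      · simp only [ρ, ρ', comp_lift, comp_mul, comp_inv, lift_fst, lift_snd, lift_snd_assoc,
          inv_mul_cancel_right, lift_fst_snd]
    have h0 : IsPullback ρ (snd G T) (snd G T) (𝟙 T) :=
      IsPullback.of_horiz_isIso ⟨by rw [Category.comp_id]; exact lift_snd _ _⟩
    have h2 := h0.paste_horiz h1
    rw [Category.id_comp] at h2
    have h3 : ρ ≫ (G ◁ f) = top := by
      simp only [ρ, top, lift_whiskerLeft]
    rw [h3] at h2
    exact h2
  · change top ≫ (G ◁ x') ≫ aX.act = (G ◁ x) ≫ aX.act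
    have h1 : top ≫ (G ◁ x') = lift (fst G T * (snd G T ≫ g)) (snd G T ≫ f ≫ x') := by
      simp only [top, lift_whiskerLeft, Category.assoc]
    have h2 : G ◁ x = lift (fst G T) (snd G T ≫ x) := by
      apply CartesianMonoidalCategory.hom_ext
      · rw [whiskerLeft_fst, lift_fst]
      · rw [whiskerLeft_snd, lift_snd]
    rw [← Category.assoc, h1, AlgGrp.Action.lift_mul_act, h2, ← hg, ← comp_lift_assoc]

end Two

end Groth.Agent.Helper9.QuotStk
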