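import Mathlib

set_option autoImplicit false

namespace Groth.Agent.Helper9.FppfLocal

open CategoryTheory CategoryTheory.Limits AlgebraicGeometry MorphismProperty

universe u

set_option backward.isDefEq.respectTransparency false in
/-- A Zariski-local property that descends along single fppf morphisms can be checked on the
members of an fppf covering family of the target. -/
theorem of_fppf_cover (P : MorphismProperty Scheme.{u}) [IsZariskiLocalAtTarget P]
    [P.DescendsAlong (@Surjective ⊓ @Flat ⊓ @LocallyOfFinitePresentation)]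
    {X Y : Scheme.{u}} (m : X ⟶ Y) (R : Presieve Y) (hR : R ∈ Scheme.fppfPrecoverage Y)
    (h : ∀ ⦃U : Scheme.{u}⦄ (k : U ⟶ Y), R k → P (pullback.snd m k)) : P m := by
  obtain ⟨hsurj, hprop⟩ := hR
  rw [Scheme.jointlySurjectivePrecoverage, Presieve.mem_comap_jointlySurjectivePrecoverage_iff]
    at hsurj
  choose U k hk hy using hsurj
  let p : ∐ U ⟶ Y := Sigma.desc k
  have hιp : ∀ y, Sigma.ι U y ≫ p = k y := fun y => Sigma.ι_desc _ _
  have hp : (@Surjective ⊓ @Flat ⊓ @LocallyOfFinitePresentation : MorphismProperty Scheme.{u}) p := by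
    refine ⟨⟨⟨fun y => ?_⟩, ?_⟩, ?_⟩
    · obtain ⟨x, hx⟩ := hy y
      refine ⟨Sigma.ι U y x, ?_⟩
      rw [← Scheme.Hom.comp_apply, hιp]
      exact hx
    · rw [IsZariskiLocalAtSource.iff_of_openCover (P := @Flat) (sigmaOpenCover U)]
      intro y
      change Flat (Sigma.ι U y ≫ p)
      rw [hιp]
      exact (hprop (hk y)).1
    · rw [IsZariskiLocalAtSource.iff_of_openCover (P := @LocallyOfFinitePresentation)
        (sigmaOpenCover U)]
      intro y
      change LocallyOfFinitePresentation (Sigma.ι U y ≫ p)
      rw [hιp]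
      exact (hprop (hk y)).2
  apply MorphismProperty.of_pullback_snd_of_descendsAlong
    (Q := @Surjective ⊓ @Flat ⊓ @LocallyOfFinitePresentation) hp
  rw [IsZariskiLocalAtTarget.iff_of_openCover (P := P) (sigmaOpenCover U)]
  intro y
  change P (pullback.snd (pullback.snd m p) (Sigma.ι U y))
  have sq1 : IsPullback (pullback.fst m p) (pullback.snd m p) m p := IsPullback.of_hasPullback _ _
  have sq2 : IsPullback (pullback.fst (pullback.snd m p) (Sigma.ι U y))
      (pullback.snd (pullback.snd m p) (Sigma.ι U y)) (pullback.snd m p) (Sigma.ι U y) :=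
    IsPullback.of_hasPullback _ _
  have sq3 := sq2.paste_horiz sq1
  rw [hιp] at sq3
  have sq4 := sq3
  rw [← sq4.isoPullback_hom_snd, P.cancel_left_of_respectsIso]
  exact h (k y) (hk y)

set_option backward.isDefEq.respectTransparency false in
/-- a monomorphism which is a closed immersion fppf-locally on the target is a closed immersion -/
theorem isClosedImmersion_of_fppf_cover {X Y : Scheme.{u}} (m : X ⟶ Y) [Mono m]
    (R : Presieve Y) (hR : R ∈ Scheme.fppfPrecoverage Y)
    (h : ∀ ⦃U : Scheme.{u}⦄ (k : U ⟶ Y), R k → IsClosedImmersion (pullback.snd m k)) :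
    IsClosedImmersion m := by
  rw [IsClosedImmersion.iff_isProper_and_mono]
  refine ⟨?_, inferInstance⟩
  haveI : UniversallyClosed m := by
    apply of_fppf_cover @UniversallyClosed m R hR
    intro U k hk
    haveI := h k hk
    infer_instance
  haveI : LocallyOfFiniteType m := by
    apply of_fppf_cover @LocallyOfFiniteType m R hR
    intro U k hk
    haveI := h k hk
    infer_instance
  exact { }

end Groth.Agent.Helper9.FppfLocal
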