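import Mathlib
import Groth.Prelude.Def_SiteCmp
import Groth.Prelude.Def_CohSite
import Groth.Agent.Helper6.RelocA
import Groth.Prelude.Def_WeakSerre

/-! S9077 conditional on the vanishing of `Rⁱε_*`. -/

set_option autoImplicit false

namespace Groth.Agent.Helper9.Cmp77

open CategoryTheory Limits Opposite

universe u
variable {D : Type u} [SmallCategory D] {K K' : GrothendieckTopology D} (hle : K' ≤ K)

/-- `ε_*` is fully faithful -/
def epsFF : (SiteCmp.epsSh hle AddCommGrpCat.{u}).FullyFaithful where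
  preimage f := ⟨f.hom⟩

instance : (SiteCmp.epsSh hle AddCommGrpCat.{u}).Full := (epsFF hle).full
instance : (SiteCmp.epsSh hle AddCommGrpCat.{u}).Faithful := (epsFF hle).faithful

variable (F' : Sheaf K' AddCommGrpCat.{u}) (hF' : Presheaf.IsSheaf K F'.obj)

/-- `F'` regarded as a `K`-sheaf -/
def up : Sheaf K AddCommGrpCat.{u} := ⟨F'.obj, hF'⟩

/-- `ε_*` of `F'` regarded as a `K`-sheaf is `F'` -/
def epsUpIso : (SiteCmp.epsSh hle AddCommGrpCat.{u}).obj (up F' hF') ≅ F' :=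
  (fullyFaithfulSheafToPresheaf K' AddCommGrpCat.{u}).preimageIso (Iso.refl _)

variable [haveI := SiteCmp.idContinuous hle;
  ((𝟭 D).sheafPushforwardContinuous AddCommGrpCat.{u} K' K).IsRightAdjoint]

/-- `ε⁻¹F' ≅ F'` when `F'` is a `K`-sheaf -/
noncomputable def invIso : (SiteCmp.epsShInv hle AddCommGrpCat.{u}).obj F' ≅ up F' hF' :=
  (SiteCmp.epsShInv hle AddCommGrpCat.{u}).mapIso (epsUpIso hle F' hF').symm ≪≫
    asIso ((SiteCmp.epsShAdj hle AddCommGrpCat.{u}).counit.app (up F' hF'))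

/-- `ε_*ε⁻¹F' ≅ F'` when `F'` is a `K`-sheaf -/
noncomputable def epsInvIso :
    (SiteCmp.epsSh hle AddCommGrpCat.{u}).obj ((SiteCmp.epsShInv hle AddCommGrpCat.{u}).obj F') ≅ F' :=
  (SiteCmp.epsSh hle AddCommGrpCat.{u}).mapIso (invIso hle F' hF') ≪≫ epsUpIso hle F' hF'

include hF' in
theorem nonempty_addEquiv (n : ℕ) (T : D)
    (hV : ∀ i : ℕ, 1 ≤ i → IsZero (((SiteCmp.epsSh hle AddCommGrpCat.{u}).rightDerived i).obj
      ((SiteCmp.epsShInv hle AddCommGrpCat.{u}).obj F'))) :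
    Nonempty (CohSite.HU F' n T ≃+
      CohSite.HU ((SiteCmp.epsShInv hle AddCommGrpCat.{u}).obj F') n T) := by
  obtain ⟨i⟩ := Groth.Agent.Helper6.RelocA.nonempty_iso_cohPre hle n
    ((SiteCmp.epsShInv hle AddCommGrpCat.{u}).obj F') (fun q h1 _ => hV q h1)
  let j := (Sheaf.cohomologyPresheafFunctor.{u} K' n).mapIso (epsInvIso hle F' hF')
  let k := (i ≪≫ j).app (op T)
  exact ⟨k.symm.addCommGroupIsoToAddEquiv⟩

end Groth.Agent.Helper9.Cmp77

namespace Groth.Agent.Helper9.Cmp77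

open CategoryTheory Limits Opposite

universe u

theorem main {C : Type u} [SmallCategory C] {J J' : GrothendieckTopology C} (h : J' ≤ J)
    (A' : ∀ X : C, ObjectProperty (Sheaf (J'.over X) AddCommGrpCat.{u}))
    [∀ X : C, WSerre.IsWeakSerre (A' X)]
    (h3 : ∀ (X : C) (F' : Sheaf (J'.over X) AddCommGrpCat.{u}), A' X F' →
      Presheaf.IsSheaf (J.over X) F'.obj)
    (hV : ∀ (X : C) (F : Sheaf (J.over X) AddCommGrpCat.{u}),
      A' X ((SiteCmp.epsSh (SiteCmp.over_le h X) AddCommGrpCat.{u}).obj F) → ∀ i : ℕ, 1 ≤ i →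
      IsZero (((SiteCmp.epsSh (SiteCmp.over_le h X) AddCommGrpCat.{u}).rightDerived i).obj F))
    (X : C) (F' : Sheaf (J'.over X) AddCommGrpCat.{u}) (hF' : A' X F') (n : ℕ) :
    Nonempty (CohSite.HU F' n (Over.mk (𝟙 X)) ≃+
      CohSite.HU ((SiteCmp.epsShInv (SiteCmp.over_le h X) AddCommGrpCat.{u}).obj F') n
        (Over.mk (𝟙 X))) := by
  refine nonempty_addEquiv (SiteCmp.over_le h X) F' (h3 X F' hF') n (Over.mk (𝟙 X)) ?_
  intro i hi
  refine hV X _ ?_ i hi
  exact (A' X).prop_of_iso (epsInvIso (SiteCmp.over_le h X) F' (h3 X F' hF')).symm hF'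

end Groth.Agent.Helper9.Cmp77
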