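import Mathlib
import Groth.Prelude.Def_EtBase
import Groth.Agent.Helper9.EtStrictHensCoh
import Groth.Agent.Helper9.EtSectSupp
import Groth.Agent.Helper9.EtAlmostCocont
import Groth.Agent.Helper9.EtDisjGlue
import Groth.Agent.Helper9.EtPropA

/-! Schemes covered by disjoint étale pieces which are spectra of strictly henselian local rings:
global sections preserve epimorphisms, hence higher cohomology vanishes. -/

set_option autoImplicit false
universe u

open CategoryTheory CategoryTheory.Limits Opposite AlgebraicGeometry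

namespace Groth.Agent.Helper9.EtStrictHensCover

open Groth.Agent.Helper9.EtStrictHensSect Groth.Agent.Helper9.EtStalkExact

variable {X : Scheme.{u}}

section Piece

variable (A : Type u) [CommRing A] [HenselianLocalRing A]
  [IsSepClosed (IsLocalRing.ResidueField A)]
  (c : Spec (CommRingCat.of A) ⟶ X) [Etale c]

omit [IsSepClosed (IsLocalRing.ResidueField A)] in
theorem xbar_default : (xbar A) default = IsLocalRing.closedPoint A := by
  have h1 : (default : Spec (CommRingCat.of (IsLocalRing.ResidueField A))) =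
      IsLocalRing.closedPoint (IsLocalRing.ResidueField A) := Subsingleton.elim _ _
  rw [h1]
  exact IsLocalRing.comap_closedPoint (IsLocalRing.residue A)

set_option backward.isDefEq.respectTransparency.types false in
/-- Any covering sieve of a strictly henselian étale piece contains the identity. -/
theorem top_mem_of_mem (S : Sieve (Scheme.Etale.mk c : X.Etale))
    (hS : S ∈ X.smallEtaleTopology (Scheme.Etale.mk c)) : S (𝟙 _) := by
  let U : X.Etale := Scheme.Etale.mk c
  obtain ⟨V, g, v, hg, hge, hv⟩ :=
    (Groth.Agent.Helper9.EtAlmostCocont.mem_iff U S).1 hS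
      (IsLocalRing.closedPoint A)
  let gl : V.left ⟶ Spec (CommRingCat.of A) := g.left
  have : Etale gl := Groth.Agent.Helper9.EtPropA.etale_left g
  let V' : (Spec (CommRingCat.of A)).Etale := Scheme.Etale.mk gl
  let g' : V' ⟶ EtCoh.top (Spec (CommRingCat.of A)) :=
    MorphismProperty.Over.homMk gl (Category.comp_id _) trivial
  obtain ⟨l', hl', -⟩ := Groth.Agent.Helper9.EtSectSupp.exists_lift_fiber (xbar A) g' (l₀ A) v
    (by
      show gl v = (xbar A) default
      rw [xbar_default]
      exact hv)
  obtain ⟨σ, -⟩ := exists_section A V' l'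
  let σl : Spec (CommRingCat.of A) ⟶ V.left := σ.left
  have hσ : σl ≫ gl = 𝟙 _ := by
    have h1 : σ.left ≫ V'.hom = (EtCoh.top (Spec (CommRingCat.of A))).hom :=
      MorphismProperty.Over.w σ
    exact h1
  have hgc : gl ≫ c = V.hom := MorphismProperty.Over.w g
  let τ : U ⟶ V := MorphismProperty.Over.homMk σl (by
    show σl ≫ V.hom = c
    rw [← hgc, ← Category.assoc, hσ, Category.id_comp]) trivial
  have hτ : τ ≫ g = 𝟙 U := by
    apply MorphismProperty.Over.Hom.ext
    exact hσ
  have := S.downward_closed hg τ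
  rwa [hτ] at this

end Piece

section Cover

variable {μ : Type*} (A : μ → Type u) [∀ a, CommRing (A a)] [∀ a, HenselianLocalRing (A a)]
  [∀ a, IsSepClosed (IsLocalRing.ResidueField (A a))]
  (c : ∀ a, Spec (CommRingCat.of (A a)) ⟶ X) [∀ a, IsOpenImmersion (c a)]
  (hsurj : ∀ x : X, ∃ (a : μ) (z : Spec (CommRingCat.of (A a))), c a z = x)
  (hdisj : ∀ a b, a ≠ b → ∀ (za : Spec (CommRingCat.of (A a))) (zb : Spec (CommRingCat.of (A b))),
    c a za ≠ c b zb)

include hsurj hdisj in
set_option backward.isDefEq.respectTransparency.types false in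
/-- global sections send epimorphisms to surjections -/
theorem surjective_sections_of_epi {F G : EtCoh.Ab X} (φ : F ⟶ G) [Epi φ] :
    Function.Surjective (φ.hom.app (op (EtCoh.top X))) := by
  intro t
  let U : μ → X.Etale := fun a => Scheme.Etale.mk (c a)
  let ι : ∀ a, U a ⟶ EtCoh.top X := fun a =>
    MorphismProperty.Over.homMk (c a) (Category.comp_id _) trivial
  have hloc : Presheaf.IsLocallySurjective X.smallEtaleTopology φ.hom :=
    (Sheaf.isLocallySurjective_iff_epi' AddCommGrpCat.{u + 1} φ).2 inferInstance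
  have hlift : ∀ a, ∃ s : F.obj.obj (op (U a)), φ.hom.app _ s = G.obj.map (ι a).op t := by
    intro a
    have h1 := top_mem_of_mem (A a) (c a) _ (hloc.imageSieve_mem (G.obj.map (ι a).op t))
    obtain ⟨s, hs⟩ := h1
    refine ⟨s, hs.trans ?_⟩
    rw [op_id, CategoryTheory.Functor.map_id]
    rfl
  choose s hs using hlift
  have hmono : ∀ a, Mono (ι a) := fun a =>
    Groth.Agent.Helper9.EtDisjGlue.mono_of_mono_left (ι a)
      (show Mono (c a) from inferInstance)
  obtain ⟨s₀, hs₀, -⟩ := Groth.Agent.Helper9.EtDisjGlue.existsUnique_glue U ι hmono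
    (fun x => hsurj x) (fun a b hab za zb => hdisj a b hab za zb)
    (F.obj ⋙ forget AddCommGrpCat) (Groth.Agent.Helper9.EtPropA.isSheaf_forget F) s
  obtain ⟨t₀, -, ht₀⟩ := Groth.Agent.Helper9.EtDisjGlue.existsUnique_glue U ι hmono
    (fun x => hsurj x) (fun a b hab za zb => hdisj a b hab za zb)
    (G.obj ⋙ forget AddCommGrpCat) (Groth.Agent.Helper9.EtPropA.isSheaf_forget G)
    (fun a => G.obj.map (ι a).op t)
  refine ⟨s₀, ?_⟩
  have e1 : φ.hom.app (op (EtCoh.top X)) s₀ = t₀ := by
    apply ht₀
    intro a
    have := NatTrans.naturality_apply φ.hom (ι a).op s₀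
    refine this.symm.trans ?_
    rw [← hs a]
    exact congrArg (φ.hom.app (op (U a))) (hs₀ a)
  have e2 : t = t₀ := ht₀ t (fun a => rfl)
  rw [e1, e2]

end Cover

section Vanish

open Groth.Agent.Helper9.EtStrictHensCoh

/-- if global sections send epimorphisms to surjections, higher cohomology vanishes -/
theorem subsingleton_H_of_surjective (X : Scheme.{u})
    (h : ∀ {F G : EtCoh.Ab X} (φ : F ⟶ G) [Epi φ],
      Function.Surjective (φ.hom.app (op (EtCoh.top X))))
    (F : EtCoh.Ab X) (p : ℕ) (hp : 1 ≤ p) : Subsingleton (EtCoh.H X F p) := by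
  have : ((sheafSections X.smallEtaleTopology AddCommGrpCat.{u + 1}).obj
      (op (EtCoh.top X))).PreservesEpimorphisms :=
    ⟨fun φ hφ => by
      rw [AddCommGrpCat.epi_iff_surjective]
      exact h φ⟩
  have hT : IsTerminal (EtCoh.top X) := MorphismProperty.Over.mkIdTerminal EtCoh.etaleMP.{u} _
  have : Projective ((constantSheaf X.smallEtaleTopology
      AddCommGrpCat.{u + 1}).obj (AddCommGrpCat.of (ULift.{u + 1} ℤ))) :=
    (constantSheafAdj X.smallEtaleTopology AddCommGrpCat.{u + 1}
      hT).map_projective _ projective_ulift_int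
  obtain ⟨n, rfl⟩ : ∃ n, p = n + 1 := ⟨p - 1, by omega⟩
  exact Abelian.Ext.subsingleton_of_projective _ _ _

end Vanish

end Groth.Agent.Helper9.EtStrictHensCover
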