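import Mathlib

/-! The adjunction ("edge") map on Ext groups for an adjunction `L ⊣ R` with `L` exact:
`Extᵐ(A, R E) → Extᵐ(L A, E)`, and its compatibility with connecting maps. -/

set_option autoImplicit false

namespace Groth.Agent.Helper9.EdgeA

open CategoryTheory Limits Abelian

universe w w' v v' u u'
variable {𝒜 : Type u} [Category.{v} 𝒜] [Abelian 𝒜] [HasExt.{w} 𝒜]
  {ℬ : Type u'} [Category.{v'} ℬ] [Abelian ℬ] [HasExt.{w'} ℬ]
  {L : ℬ ⥤ 𝒜} {R : 𝒜 ⥤ ℬ} (adj : L ⊣ R)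
  [L.Additive] [PreservesFiniteLimits L] [PreservesFiniteColimits L]

/-- the edge map `Extᵐ(A, R E) → Extᵐ(L A, E)` -/
noncomputable def edge {A : ℬ} {E : 𝒜} {m : ℕ} (η : Ext.{w'} A (R.obj E) m) :
    Ext.{w} (L.obj A) E m :=
  (η.mapExactFunctor L).comp (Ext.mk₀ (adj.counit.app E)) (add_zero m)

lemma edge_zero {A : ℬ} {E : 𝒜} {m : ℕ} : edge adj (0 : Ext.{w'} A (R.obj E) m) = 0 := by
  simp [edge, Ext.mapExactFunctor_zero]

lemma edge_precomp {A A' : ℬ} (g : A' ⟶ A) {E : 𝒜} {m : ℕ} (η : Ext.{w'} A (R.obj E) m) :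
    edge adj ((Ext.mk₀ g).comp η (zero_add m)) =
      (Ext.mk₀ (L.map g)).comp (edge adj η) (zero_add m) := by
  simp only [edge, Ext.mapExactFunctor_comp, Ext.mapExactFunctor_mk₀]
  rw [Ext.comp_assoc _ _ _ (zero_add m) (add_zero m) (by lia)]

lemma edge_postcomp {A : ℬ} {E E' : 𝒜} (φ : E ⟶ E') {m : ℕ} (η : Ext.{w'} A (R.obj E) m) :
    edge adj (η.comp (Ext.mk₀ (R.map φ)) (add_zero m)) =
      (edge adj η).comp (Ext.mk₀ φ) (add_zero m) := by
  simp only [edge, Ext.mapExactFunctor_comp, Ext.mapExactFunctor_mk₀]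
  rw [Ext.comp_assoc _ _ _ (add_zero m) (add_zero 0) (by lia),
    Ext.comp_assoc _ _ _ (add_zero m) (add_zero 0) (by lia), Ext.mk₀_comp_mk₀, Ext.mk₀_comp_mk₀,
    show L.map (R.map φ) ≫ adj.counit.app E' = adj.counit.app E ≫ φ from
      adj.counit_naturality φ]

lemma edge_mk₀ {A : ℬ} {E : 𝒜} (g : A ⟶ R.obj E) :
    edge adj (Ext.mk₀ g) = Ext.mk₀ ((adj.homEquiv A E).symm g) := by
  simp only [edge, Ext.mapExactFunctor_mk₀, Ext.mk₀_comp_mk₀, Adjunction.homEquiv_counit]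

lemma edge_bijective₀ {A : ℬ} {E : 𝒜} :
    Function.Bijective (edge adj : Ext.{w'} A (R.obj E) 0 → Ext.{w} (L.obj A) E 0) := by
  constructor
  · intro x y hxy
    obtain ⟨x, rfl⟩ := (Ext.mk₀_bijective _ _).2 x
    obtain ⟨y, rfl⟩ := (Ext.mk₀_bijective _ _).2 y
    rw [edge_mk₀, edge_mk₀] at hxy
    have := (Ext.mk₀_bijective _ _).1 hxy
    rw [(adj.homEquiv A E).symm.injective this]
  · intro y
    obtain ⟨y, rfl⟩ := (Ext.mk₀_bijective _ _).2 y
    exact ⟨Ext.mk₀ (adj.homEquiv A E y), by rw [edge_mk₀, Equiv.symm_apply_apply]⟩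

/-- compatibility with connecting maps: `S` short exact in `𝒜`, `T` short exact in `ℬ`, with
`T.X₁ = R S.X₁`, `T.X₂ = R S.X₂`, `T.f = R S.f` and `j : T.X₃ ⟶ R S.X₃` with `T.g ≫ j = R S.g`. -/
lemma edge_extClass {S : ShortComplex 𝒜} (hS : S.ShortExact) {B : ℬ} (p : R.obj S.X₂ ⟶ B)
    (wp : R.map S.f ≫ p = 0) (hT : (ShortComplex.mk (R.map S.f) p wp).ShortExact)
    (j : B ⟶ R.obj S.X₃) (hj : p ≫ j = R.map S.g)
    {A : ℬ} {m : ℕ} (b : Ext.{w'} A B m) {m' : ℕ} (hm : m + 1 = m') :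
    edge adj (b.comp hT.extClass hm) =
      (edge adj (b.comp (Ext.mk₀ j) (add_zero m))).comp hS.extClass hm := by
  -- the morphism of short exact sequences `L T ⟶ S`
  let T : ShortComplex ℬ := ShortComplex.mk (R.map S.f) p wp
  let φ : T.map L ⟶ S :=
    { τ₁ := adj.counit.app S.X₁
      τ₂ := adj.counit.app S.X₂
      τ₃ := L.map j ≫ adj.counit.app S.X₃
      comm₁₂ := (adj.counit_naturality S.f).symm
      comm₂₃ := by
        show _ = L.map p ≫ L.map j ≫ _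
        rw [← Category.assoc, ← L.map_comp, hj]
        exact (adj.counit_naturality S.g).symm }
  have nat := ShortComplex.ShortExact.extClass_naturality (hT.map_of_exact L) hS φ
  simp only [edge, Ext.mapExactFunctor_comp, Ext.mapExactFunctor_mk₀]
  rw [Ext.mapExactFunctor_extClass]
  rw [Ext.comp_assoc _ _ _ hm (add_zero 1) (by lia)]
  erw [nat]
  rw [Ext.comp_assoc _ _ _ (add_zero m) (add_zero 0) (by lia), Ext.mk₀_comp_mk₀,
    Ext.comp_assoc _ _ _ (add_zero m) (zero_add 1) (by lia)]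
  rfl

end Groth.Agent.Helper9.EdgeA
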