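import Mathlib
import Groth.Agent.Helper9.EdgeA

/-! Dimension shifting for the kernel of the edge map: classes in `Extⁿ⁺¹(Z U, R E)` killed by the
edge map are locally trivial under suitable hypotheses on the syzygies of `E`. -/

set_option autoImplicit false

namespace Groth.Agent.Helper9.EdgeB

open CategoryTheory Limits Abelian Groth.Agent.Helper9.EdgeA

universe w w' v v' u u' v₁ u₁
variable {𝒜 : Type u} [Category.{v} 𝒜] [Abelian 𝒜] [HasExt.{w} 𝒜] [EnoughInjectives 𝒜]
  {ℬ : Type u'} [Category.{v'} ℬ] [Abelian ℬ] [HasExt.{w'} ℬ]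
  {D : Type u₁} [Category.{v₁} D] (K' : GrothendieckTopology D) (Z : D ⥤ ℬ)

section LT

/-- a class is locally trivial -/
def LT {U : D} {G : ℬ} {m : ℕ} (η : Ext.{w'} (Z.obj U) G m) : Prop :=
  ∃ S ∈ K' U, ∀ ⦃V : D⦄ (g : V ⟶ U), S g → (Ext.mk₀ (Z.map g)).comp η (zero_add m) = 0

variable {K' Z}

lemma LT_zero {U : D} {G : ℬ} {m : ℕ} : LT K' Z (0 : Ext.{w'} (Z.obj U) G m) :=
  ⟨⊤, K'.top_mem U, fun _ _ _ => Ext.comp_zero _ _ _ _ _⟩

lemma LT_of_eq_zero {U : D} {G : ℬ} {m : ℕ} {η : Ext.{w'} (Z.obj U) G m} (h : η = 0) :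
    LT K' Z η := h ▸ LT_zero

lemma res_comp {U V : D} (g : V ⟶ U) {G G' : ℬ} {m m' m'' : ℕ} (η : Ext.{w'} (Z.obj U) G m)
    (x : Ext.{w'} G G' m') (h : m + m' = m'') :
    (Ext.mk₀ (Z.map g)).comp (η.comp x h) (zero_add m'') =
      ((Ext.mk₀ (Z.map g)).comp η (zero_add m)).comp x h := by
  rw [Ext.comp_assoc _ _ _ (zero_add m) h (by lia)]

lemma LT_postcomp {U : D} {G G' : ℬ} {m m' m'' : ℕ} {η : Ext.{w'} (Z.obj U) G m}
    (hη : LT K' Z η) (x : Ext.{w'} G G' m') (h : m + m' = m'') : LT K' Z (η.comp x h) := by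
  obtain ⟨S, hS, H⟩ := hη
  refine ⟨S, hS, fun V g hg => ?_⟩
  rw [res_comp, H g hg, Ext.zero_comp]

lemma LT_of_local {U : D} {G : ℬ} {m : ℕ} {η : Ext.{w'} (Z.obj U) G m} (S : Sieve U)
    (hS : S ∈ K' U)
    (H : ∀ ⦃V : D⦄ (g : V ⟶ U), S g → LT K' Z ((Ext.mk₀ (Z.map g)).comp η (zero_add m))) :
    LT K' Z η := by
  choose R hR hR' using H
  refine ⟨Sieve.bind S R, K'.bind_covering hS (fun _ _ hg => hR _ hg), ?_⟩
  rintro V _ ⟨W, k, g, hg, hk, rfl⟩
  have := hR' g hg k hk
  rw [← Ext.comp_assoc _ _ _ (zero_add 0) (zero_add m) (by lia), Ext.mk₀_comp_mk₀,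
    ← Z.map_comp] at this
  exact this

end LT

variable {L : ℬ ⥤ 𝒜} {R : 𝒜 ⥤ ℬ} (adj : L ⊣ R)
  [L.Additive] [PreservesFiniteLimits L] [PreservesFiniteColimits L]

section Syzygy

variable (E : 𝒜)

/-- the first cosyzygy -/
noncomputable abbrev E₁ : 𝒜 := cokernel (Injective.ι E)

/-- `0 → E → I → E₁ → 0` -/
noncomputable abbrev SE : ShortComplex 𝒜 :=
  ShortComplex.mk (Injective.ι E) (cokernel.π (Injective.ι E)) (cokernel.condition _)

lemma SE_shortExact : (SE E).ShortExact :=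
  { exact := ShortComplex.exact_cokernel _
    mono_f := by dsimp; infer_instance
    epi_g := by dsimp; infer_instance }

variable (R)

/-- the image of `R I → R E₁` -/
noncomputable abbrev BE : ℬ := cokernel (R.map (Injective.ι E))

noncomputable abbrev pE : R.obj (Injective.under E) ⟶ BE R E := cokernel.π _

variable {R}
include adj

lemma R_additive : R.Additive := adj.right_adjoint_additive

lemma mono_R_map {X Y : 𝒜} (f : X ⟶ Y) [Mono f] : Mono (R.map f) := by
  haveI := adj.isRightAdjoint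
  infer_instance

/-- `0 → R E → R I → B → 0` -/
noncomputable abbrev TE : ShortComplex ℬ :=
  ShortComplex.mk (R.map (Injective.ι E)) (pE R E) (cokernel.condition _)

lemma TE_shortExact : (TE (R := R) E).ShortExact :=
  { exact := ShortComplex.exact_cokernel _
    mono_f := mono_R_map adj _
    epi_g := by dsimp; infer_instance }

/-- `B ⟶ R E₁` -/
noncomputable def jE : BE R E ⟶ R.obj (E₁ E) :=
  cokernel.desc _ (R.map (cokernel.π (Injective.ι E))) (by
    haveI := R_additive adj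
    rw [← R.map_comp, cokernel.condition, R.map_zero])

lemma pE_jE : pE R E ≫ jE adj E = R.map (cokernel.π (Injective.ι E)) := by
  simp [jE]

instance mono_jE : Mono (jE adj E) := by
  haveI := R_additive adj
  haveI := adj.isRightAdjoint
  have hex : ((SE E).map R).Exact :=
    (SE_shortExact E).exact.map_of_mono_of_preservesKernel R (SE_shortExact E).mono_f
      inferInstance
  exact hex.mono_cokernelDesc

/-- `R¹R(E)` -/
noncomputable abbrev RQ : ℬ := cokernel (jE adj E)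

noncomputable abbrev qE : R.obj (E₁ E) ⟶ RQ adj E := cokernel.π _

/-- `0 → B → R E₁ → RQ → 0` -/
noncomputable abbrev T'E : ShortComplex ℬ :=
  ShortComplex.mk (jE adj E) (qE adj E) (cokernel.condition _)

lemma T'E_shortExact : (T'E adj E).ShortExact :=
  { exact := ShortComplex.exact_cokernel _
    mono_f := by dsimp; infer_instance
    epi_g := by dsimp; infer_instance }

lemma injective_R_obj (I : 𝒜) [Injective I] : Injective (R.obj I) :=
  Injective.injective_of_adjoint adj I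

end Syzygy

/-- the hypotheses on the cosyzygies -/
noncomputable def Hyp : ℕ → 𝒜 → Prop
  | 0, _ => True
  | 1, E => ∀ (U : D) (r : Z.obj U ⟶ RQ adj E), ∃ S ∈ K' U, ∀ ⦃V : D⦄ (g : V ⟶ U), S g →
      ∃ t : Z.obj V ⟶ R.obj (E₁ E), t ≫ qE adj E = Z.map g ≫ r
  | (n + 2), E => (∀ (U : D) (r : Ext.{w'} (Z.obj U) (RQ adj E) (n + 1)), LT K' Z r) ∧
      Hyp (n + 1) (E₁ E)

lemma hyp_succ (n : ℕ) (E : 𝒜) (h : Hyp K' Z adj (n + 1) E) : Hyp K' Z adj n (E₁ E) := by
  cases n with
  | zero => trivial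
  | succ n => exact h.2

/-- writing a class as a boundary -/
lemma exists_boundary (E : 𝒜) {A : ℬ} {n : ℕ} (η : Ext.{w'} A (R.obj E) (n + 1)) :
    ∃ b : Ext.{w'} A (BE R E) n, b.comp (TE_shortExact adj E).extClass rfl = η := by
  haveI := injective_R_obj adj (Injective.under E)
  exact Ext.covariant_sequence_exact₁ _ (TE_shortExact adj E) η
    (Ext.eq_zero_of_injective _) rfl

lemma edge_boundary (E : 𝒜) {A : ℬ} {n : ℕ} (b : Ext.{w'} A (BE R E) n) :
    edge adj (b.comp (TE_shortExact adj E).extClass rfl) =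
      (edge adj (b.comp (Ext.mk₀ (jE adj E)) (add_zero n))).comp
        (SE_shortExact E).extClass rfl :=
  edge_extClass adj (SE_shortExact E) (pE R E) (cokernel.condition _) (TE_shortExact adj E)
    (jE adj E) (pE_jE adj E) b rfl

theorem main (n : ℕ) : ∀ (E : 𝒜), Hyp K' Z adj n E → ∀ (U : D)
    (η : Ext.{w'} (Z.obj U) (R.obj E) (n + 1)), edge adj η = 0 → LT K' Z η := by
  induction n with
  | zero =>
    intro E _ U η hη
    obtain ⟨b, rfl⟩ := exists_boundary adj E η
    rw [edge_boundary] at hη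
    obtain ⟨a, ha⟩ := Ext.covariant_sequence_exact₃ _ (SE_shortExact E) _ rfl hη
    obtain ⟨a', rfl⟩ := (edge_bijective₀ adj).2 a
    have h1 : edge adj (a'.comp (Ext.mk₀ (R.map (cokernel.π (Injective.ι E)))) (add_zero 0)) =
        edge adj (b.comp (Ext.mk₀ (jE adj E)) (add_zero 0)) := by
      rw [edge_postcomp]; exact ha
    have h2 := (edge_bijective₀ adj).1 h1
    rw [← pE_jE adj E, ← Ext.mk₀_comp_mk₀,
      ← Ext.comp_assoc _ _ _ (add_zero 0) (add_zero 0) (by lia)] at h2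
    have h3 : a'.comp (Ext.mk₀ (pE R E)) (add_zero 0) = b :=
      Ext.postcomp_mk₀_injective_of_mono _ (jE adj E) h2
    apply LT_of_eq_zero
    rw [← h3, Ext.comp_assoc _ _ _ (add_zero 0) (zero_add 1) (by lia)]
    erw [(TE_shortExact adj E).comp_extClass]
    rw [Ext.comp_zero]
  | succ n ih =>
    intro E hE U η hη
    obtain ⟨b, rfl⟩ := exists_boundary adj E η
    rw [edge_boundary] at hη
    -- the connecting map on the `𝒜` side is injective
    have h0 : edge adj (b.comp (Ext.mk₀ (jE adj E)) (add_zero (n + 1))) = 0 := by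
      obtain ⟨y, hy⟩ := Ext.covariant_sequence_exact₃ _ (SE_shortExact E) _ rfl hη
      rw [← hy, Ext.eq_zero_of_injective y, Ext.zero_comp]
    have hLT := ih (E₁ E) (hyp_succ K' Z adj n E hE) U _ h0
    refine LT_postcomp ?_ _ _
    obtain ⟨S, hS, H⟩ := hLT
    refine LT_of_local S hS (fun V g hg => ?_)
    have hg' := H g hg
    rw [← Ext.comp_assoc _ _ _ (zero_add (n + 1)) (add_zero (n + 1)) (by lia)] at hg'
    obtain ⟨r, hr⟩ := Ext.covariant_sequence_exact₁ _ (T'E_shortExact adj E) _ hg' rfl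
    rw [← hr]
    cases n with
    | zero =>
      obtain ⟨r₀, rfl⟩ := (Ext.mk₀_bijective _ _).2 r
      obtain ⟨S', hS', H'⟩ := hE V r₀
      refine ⟨S', hS', fun V' g' hg'' => ?_⟩
      obtain ⟨t, ht⟩ := H' g' hg''
      rw [← Ext.comp_assoc _ _ _ (zero_add 0) (zero_add 1) (by lia), Ext.mk₀_comp_mk₀, ← ht,
        ← Ext.mk₀_comp_mk₀, Ext.comp_assoc _ _ _ (zero_add 0) (zero_add 1) (by lia)]
      erw [(T'E_shortExact adj E).comp_extClass]
      rw [Ext.comp_zero]
    | succ n =>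
      exact LT_postcomp (hE.1 V r) _ _

end Groth.Agent.Helper9.EdgeB
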