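import Mathlib
import Groth.Agent.Helper9.EdgeB

/-! Abstract "step 3": a class on `U` which dies on `W' → U` is locally trivial, given the
hypotheses of `EdgeB.main` for `L F` and control of the cokernel of the unit `F → R L F`. -/

set_option autoImplicit false

namespace Groth.Agent.Helper9.EdgeC

open CategoryTheory Limits Abelian Groth.Agent.Helper9.EdgeA Groth.Agent.Helper9.EdgeB

universe w w' v v' u u' v₁ u₁
variable {𝒜 : Type u} [Category.{v} 𝒜] [Abelian 𝒜] [HasExt.{w} 𝒜] [EnoughInjectives 𝒜]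
  {ℬ : Type u'} [Category.{v'} ℬ] [Abelian ℬ] [HasExt.{w'} ℬ]
  {D : Type u₁} [Category.{v₁} D] (K' : GrothendieckTopology D) (Z : D ⥤ ℬ)
  {L : ℬ ⥤ 𝒜} {R : 𝒜 ⥤ ℬ} (adj : L ⊣ R)
  [L.Additive] [PreservesFiniteLimits L] [PreservesFiniteColimits L]

/-- the hypothesis on the cokernel `Q` of the unit `F → R L F` -/
noncomputable def HypQ (F : ℬ) : ℕ → Prop
  | 0 => ∀ (U : D) (r : Z.obj U ⟶ cokernel (adj.unit.app F)), ∃ S ∈ K' U,
      ∀ ⦃V : D⦄ (g : V ⟶ U), S g →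
        ∃ t : Z.obj V ⟶ R.obj (L.obj F), t ≫ cokernel.π (adj.unit.app F) = Z.map g ≫ r
  | (n + 1) => ∀ (U : D) (r : Ext.{w'} (Z.obj U) (cokernel (adj.unit.app F)) (n + 1)), LT K' Z r

lemma edge_unit {A F : ℬ} {m : ℕ} (θ : Ext.{w'} A F m) :
    edge adj (θ.comp (Ext.mk₀ (adj.unit.app F)) (add_zero m)) = θ.mapExactFunctor L := by
  simp only [edge, Ext.mapExactFunctor_comp, Ext.mapExactFunctor_mk₀]
  rw [Ext.comp_assoc _ _ _ (add_zero m) (add_zero 0) (by lia), Ext.mk₀_comp_mk₀]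
  erw [adj.left_triangle_components F]
  rw [Ext.comp_mk₀_id]

theorem step3 (F : ℬ) (n : ℕ) [Mono (adj.unit.app F)]
    (hyp : Hyp K' Z adj n (L.obj F)) (hQ : HypQ K' Z adj F n)
    {U W' : D} (π : W' ⟶ U) (s : L.obj (Z.obj U) ⟶ L.obj (Z.obj W'))
    (hs : s ≫ L.map (Z.map π) = 𝟙 _)
    (θ : Ext.{w'} (Z.obj U) F (n + 1))
    (hθ : (Ext.mk₀ (Z.map π)).comp θ (zero_add (n + 1)) = 0) : LT K' Z θ := by
  -- `L θ = 0`
  have hL : θ.mapExactFunctor L = 0 := by
    have h1 := congrArg (fun t => t.mapExactFunctor L) hθ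
    simp only [Ext.mapExactFunctor_comp, Ext.mapExactFunctor_mk₀, Ext.mapExactFunctor_zero] at h1
    have h2 : (Ext.mk₀ (s ≫ L.map (Z.map π))).comp (θ.mapExactFunctor L) (zero_add (n + 1)) = 0 := by
      rw [← Ext.mk₀_comp_mk₀, Ext.comp_assoc _ _ _ (zero_add 0) (zero_add (n + 1)) (by lia), h1,
        Ext.comp_zero]
    rw [hs, Ext.mk₀_id_comp] at h2
    exact h2
  have hG : LT K' Z (θ.comp (Ext.mk₀ (adj.unit.app F)) (add_zero (n + 1))) :=
    EdgeB.main K' Z adj n (L.obj F) hyp U _ (by rw [edge_unit, hL])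
  -- the short exact sequence `0 → F → R L F → Q → 0`
  let S : ShortComplex ℬ := ShortComplex.mk (adj.unit.app F) (cokernel.π (adj.unit.app F))
    (cokernel.condition _)
  have hS : S.ShortExact :=
    { exact := ShortComplex.exact_cokernel _
      mono_f := by dsimp [S]; infer_instance
      epi_g := by dsimp [S]; infer_instance }
  obtain ⟨T, hT, H⟩ := hG
  refine LT_of_local T hT (fun V g hg => ?_)
  have hg' := H g hg
  rw [← Ext.comp_assoc _ _ _ (zero_add (n + 1)) (add_zero (n + 1)) (by lia)] at hg'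
  obtain ⟨q, hq⟩ := Ext.covariant_sequence_exact₁ _ hS _ hg' rfl
  rw [← hq]
  cases n with
  | zero =>
    obtain ⟨r₀, rfl⟩ := (Ext.mk₀_bijective _ _).2 q
    obtain ⟨S', hS', H'⟩ := hQ V r₀
    refine ⟨S', hS', fun V' g' hg'' => ?_⟩
    obtain ⟨t, ht⟩ := H' g' hg''
    rw [← Ext.comp_assoc _ _ _ (zero_add 0) (zero_add 1) (by lia), Ext.mk₀_comp_mk₀, ← ht,
      ← Ext.mk₀_comp_mk₀, Ext.comp_assoc _ _ _ (zero_add 0) (zero_add 1) (by lia)]
    erw [hS.comp_extClass]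
    rw [Ext.comp_zero]
  | succ n =>
    exact LT_postcomp (hQ V q) _ _

end Groth.Agent.Helper9.EdgeC
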