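import Mathlib
import Groth.Prelude.Def_SGA4b
import Groth.Prelude.Def_Hens2
import Groth.Agent.Helper9.EtStalkPull
import Groth.Agent.Helper9.EtStrictHensSect

/-! The fibre functor at the geometric point of a strict localisation is global sections of the
inverse image on the strict localisation (sheaves of sets). -/

set_option autoImplicit false
universe u

open CategoryTheory CategoryTheory.Limits Opposite AlgebraicGeometry

namespace Groth.Agent.Helper9.EtStrictLocFiber

open Groth.Agent.Helper9.EtStalkPull Groth.Agent.Helper9.EtStrictHensSect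

section Pull

variable {X Y : Scheme.{u}} (f : X ⟶ Y) {Ω : Type u} [Field Ω] [IsSepClosed Ω]
  (ξ : Spec (CommRingCat.of Ω) ⟶ X)

/-- `(f⁻¹ -)_ξ ≅ (-)_{ξ ≫ f}` for sheaves of sets -/
noncomputable def stalkPullIsoSh :
    EtDesc.pullSh f ⋙ (Scheme.pointSmallEtale ξ).sheafFiber (A := Type (u + 1)) ≅
      (Scheme.pointSmallEtale (ξ ≫ f)).sheafFiber (A := Type (u + 1)) :=
  haveI : ((EtCoh.bc f).sheafPushforwardContinuous (Type (u + 1))
      Y.smallEtaleTopology X.smallEtaleTopology).IsRightAdjoint :=
    (EtDesc.adjSh f).isRightAdjoint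
  (GrothendieckTopology.Point.sheafFiberComapIso (Scheme.pointSmallEtale ξ) (EtCoh.bc f)
    (EtCoh.coverPreserving_bc f) (Type (u + 1))).symm ≪≫
    (sheafFiberIsoOfIso (pointIso f ξ)).symm

end Pull

section Sections

variable (R : Type u) [CommRing R] [HenselianLocalRing R]
  [IsSepClosed (IsLocalRing.ResidueField R)]

/-- global sections on a strictly henselian local scheme are the stalk at the closed point -/
noncomputable def sectionsIsoFiber :
    (sheafSections (Spec (CommRingCat.of R)).smallEtaleTopology (Type (u + 1))).obj
        (op (EtCoh.top (Spec (CommRingCat.of R)))) ≅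
      (Scheme.pointSmallEtale (xbar R)).sheafFiber (A := Type (u + 1)) :=
  NatIso.ofComponents
    (fun G => (Equiv.ofBijective _ (bijective_toPresheafFiber R G.obj)).toIso)
    (by
      intro G G' φ
      ext s
      exact ((Scheme.pointSmallEtale (xbar R)).toPresheafFiber_naturality_apply φ.hom
        (EtCoh.top (Spec (CommRingCat.of R))) (l₀ R) s).symm)

end Sections

end Groth.Agent.Helper9.EtStrictLocFiber
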