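import Mathlib
import Groth.Prelude.Def_SGA4b
import Groth.Agent.Helper9.EtClosedStalk
import Groth.Agent.Helper9.PointComapCounit
import Groth.Agent.Helper9.EtStrictLocFiber
import Groth.Agent.Helper9.EtClosedEss
import Groth.Agent.Helper9.EtPushClosedZero

/-! Direct image of étale sheaves of sets along a closed immersion: fully faithful, and essential
image = sheaves whose restriction to the open complement is terminal. -/

set_option autoImplicit false
universe u

open CategoryTheory CategoryTheory.Limits Opposite AlgebraicGeometry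

namespace Groth.Agent.Helper9.EtClosedSets

open Groth.Agent.Helper9.EtStalkPull Groth.Agent.Helper9.EtStalkExact
  Groth.Agent.Helper9.EtPushClosedZero Groth.Agent.Helper9.EtClosedEss
  Groth.Agent.Helper9.EtStrictLocFiber

/-- the stalk functor on sheaves of sets -/
noncomputable abbrev stalkSh {X : Scheme.{u}} {Ω : Type u} [Field Ω] [IsSepClosed Ω]
    (ξ : Spec (CommRingCat.of Ω) ⟶ X) : EtDesc.Sh X ⥤ Type (u + 1) :=
  (Scheme.pointSmallEtale ξ).sheafFiber (A := Type (u + 1))

theorem ab5_type : AB5OfSize.{u, u} (Type (u + 1)) := AB5OfSize_shrink.{u, u, u + 1, u + 1} _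

attribute [local instance] ab5_type

section Iso

variable {X : Scheme.{u}}

/-- a morphism of étale sheaves of sets which is bijective on all geometric stalks is an iso -/
theorem isIso_of_stalks {F G : EtDesc.Sh X} (v : F ⟶ G)
    (h : ∀ (Ω : Type u) [Field Ω] [IsSepClosed Ω] (ξ : Spec (CommRingCat.of Ω) ⟶ X),
      Function.Bijective ((stalkSh ξ).map v)) : IsIso v := by
  have h1 : Presheaf.IsLocallyInjective X.smallEtaleTopology v.hom :=
    isLocallyInjective_of_stalk v.hom (fun Ω _ _ ξ => (h Ω ξ).1)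
  have h2 : Presheaf.IsLocallySurjective X.smallEtaleTopology v.hom :=
    isLocallySurjective_of_stalk v.hom (fun Ω _ _ ξ => (h Ω ξ).2)
  exact (Sheaf.isLocallyBijective_iff_isIso v).1 ⟨h1, h2⟩

/-- the stalks of a terminal sheaf are singletons -/
theorem unique_stalk_of_isTerminal {T : EtDesc.Sh X} (hT : IsTerminal T)
    {Ω : Type u} [Field Ω] [IsSepClosed Ω] (ξ : Spec (CommRingCat.of Ω) ⟶ X) :
    Nonempty (Unique ((stalkSh ξ).obj T)) :=
  ⟨Types.isTerminalEquivUnique _ (IsTerminal.isTerminalObj (stalkSh ξ) T hT)⟩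

theorem isIso_terminal_from_of_stalks (F : EtDesc.Sh X)
    (h : ∀ (Ω : Type u) [Field Ω] [IsSepClosed Ω] (ξ : Spec (CommRingCat.of Ω) ⟶ X),
      Nonempty (Unique ((stalkSh ξ).obj F))) : IsIso (terminal.from F) := by
  apply isIso_of_stalks
  intro Ω _ _ ξ
  obtain ⟨h1⟩ := h Ω ξ
  obtain ⟨h2⟩ := unique_stalk_of_isTerminal (terminalIsTerminal (C := EtDesc.Sh X)) ξ
  exact ⟨fun a b _ => h1.instSubsingleton.elim a b, fun y => ⟨h1.default, h2.instSubsingleton.elim _ _⟩⟩

theorem unique_stalk_of_isIso_terminal_from (F : EtDesc.Sh X) [IsIso (terminal.from F)]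
    {Ω : Type u} [Field Ω] [IsSepClosed Ω] (ξ : Spec (CommRingCat.of Ω) ⟶ X) :
    Nonempty (Unique ((stalkSh ξ).obj F)) :=
  unique_stalk_of_isTerminal
    (IsTerminal.ofIso terminalIsTerminal (asIso (terminal.from F)).symm) ξ

end Iso

variable {Z X : Scheme.{u}} (i : Z ⟶ X) [IsClosedImmersion i]

section FF

theorem isIso_stalk_map_counit (G : EtDesc.Sh Z) {Ω : Type u} [Field Ω] [IsSepClosed Ω]
    (ζ : Spec (CommRingCat.of Ω) ⟶ Z) :
    IsIso ((stalkSh ζ).map ((EtDesc.adjSh i).counit.app G)) := by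
  have : ((EtCoh.bc i).sheafPushforwardContinuous (Type (u + 1))
      X.smallEtaleTopology Z.smallEtaleTopology).IsRightAdjoint :=
    (EtDesc.adjSh i).isRightAdjoint
  have h := Groth.Agent.Helper9.PointComapCounit.hom_app_comp_map_counit
    (Scheme.pointSmallEtale ζ) (EtCoh.bc i) (EtCoh.coverPreserving_bc i) (Type (u + 1)) G
  have hc : IsIso (Groth.Agent.Helper9.PointComapCounit.comp (Scheme.pointSmallEtale ζ)
      (EtCoh.bc i) (EtCoh.coverPreserving_bc i) (Type (u + 1)) G.obj) :=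
    (isIso_iff_bijective _).2
      (Groth.Agent.Helper9.EtClosedStalk.comp_bijective i ζ G.obj)
  rw [← h] at hc
  exact @IsIso.of_isIso_comp_left _ _ _ _ _
    (((Scheme.pointSmallEtale ζ).sheafFiberComapIso (EtCoh.bc i) (EtCoh.coverPreserving_bc i)
      (Type (u + 1))).hom.app ((EtDesc.pushSh i).obj G)) _ inferInstance hc

theorem isIso_counit_app (G : EtDesc.Sh Z) : IsIso ((EtDesc.adjSh i).counit.app G) := by
  apply isIso_of_stalks
  intro Ω _ _ ζ
  have := isIso_stalk_map_counit i G ζ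
  exact (isIso_iff_bijective _).1 this

instance isIso_counit : IsIso (EtDesc.adjSh i).counit :=
  haveI := isIso_counit_app i
  NatIso.isIso_of_isIso_app _

/-- `i_*` is fully faithful on sheaves of sets -/
noncomputable def fullyFaithful : (EtDesc.pushSh i).FullyFaithful :=
  (EtDesc.adjSh i).fullyFaithfulROfIsIsoCounit

theorem full_and_faithful : (EtDesc.pushSh i).Full ∧ (EtDesc.pushSh i).Faithful :=
  ⟨(fullyFaithful i).full, (fullyFaithful i).faithful⟩

end FF

section Outside

/-- sections of a sheaf of sets over an empty étale scheme form a singleton -/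
@[instance_reducible]
noncomputable def uniqueOfIsEmpty {X : Scheme.{u}} (G : EtDesc.Sh X) (V : X.Etale) [IsEmpty V.left] :
    Unique (G.obj.obj (op V)) :=
  Types.isTerminalEquivUnique _ (Sheaf.isTerminalOfBotCover G V (bot_mem_of_isEmpty V))

/-- the stalk of `i_* G` at a geometric point outside the closed subscheme is a singleton -/
theorem unique_stalk_push_of_disjoint (G : EtDesc.Sh Z) {Ω : Type u} [Field Ω] [IsSepClosed Ω]
    (ξ : Spec (CommRingCat.of Ω) ⟶ X)
    (hξ : Disjoint (Set.range ξ.base) (Set.range i.base)) :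
    Nonempty (Unique ((stalkSh ξ).obj ((EtDesc.pushSh i).obj G))) := by
  have hsub : Subsingleton ((stalkSh ξ).obj ((EtDesc.pushSh i).obj G)) := by
    refine ⟨fun t₁ t₂ => ?_⟩
    obtain ⟨U, l, s₁, s₂, rfl, rfl⟩ :=
      (Scheme.pointSmallEtale ξ).toPresheafFiber_jointly_surjective₂
        (P := ((EtDesc.pushSh i).obj G).obj) t₁ t₂
    obtain ⟨lW, hl⟩ := exists_away_lift i ξ hξ U l
    have e₁ := (Scheme.pointSmallEtale ξ).toPresheafFiber_w_apply (awayι i U) lW
      ((EtDesc.pushSh i).obj G).obj s₁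
    have e₂ := (Scheme.pointSmallEtale ξ).toPresheafFiber_w_apply (awayι i U) lW
      ((EtDesc.pushSh i).obj G).obj s₂
    rw [hl] at e₁ e₂
    rw [← e₁, ← e₂]
    congr 1
    exact (uniqueOfIsEmpty G ((EtCoh.bc i).obj (away i U))).instSubsingleton.elim _ _
  let l₀ : (Scheme.pointSmallEtale ξ).fiber.obj (EtCoh.top X) := Over.homMk ξ (Category.comp_id _)
  obtain ⟨lW, -⟩ := exists_away_lift i ξ hξ (EtCoh.top X) l₀
  exact ⟨@Unique.mk' _ ⟨(Scheme.pointSmallEtale ξ).toPresheafFiber (away i (EtCoh.top X)) lW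
      ((EtDesc.pushSh i).obj G).obj
      (uniqueOfIsEmpty G ((EtCoh.bc i).obj (away i (EtCoh.top X)))).default⟩ hsub⟩

end Outside

section Unit

theorem isIso_pull_map_unit (F : EtDesc.Sh X) :
    IsIso ((EtDesc.pullSh i).map ((EtDesc.adjSh i).unit.app F)) := by
  have h := (EtDesc.adjSh i).left_triangle_components F
  have : IsIso ((EtDesc.adjSh i).counit.app ((EtDesc.pullSh i).obj F)) :=
    isIso_counit_app i _
  have h3 : IsIso ((EtDesc.pullSh i).map ((EtDesc.adjSh i).unit.app F) ≫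
      (EtDesc.adjSh i).counit.app ((EtDesc.pullSh i).obj F)) := by
    rw [h]
    exact IsIso.id _
  exact IsIso.of_isIso_comp_right ((EtDesc.pullSh i).map ((EtDesc.adjSh i).unit.app F))
    ((EtDesc.adjSh i).counit.app ((EtDesc.pullSh i).obj F))

theorem isIso_stalk_map_unit (F : EtDesc.Sh X) {Ω : Type u} [Field Ω] [IsSepClosed Ω]
    (ζ : Spec (CommRingCat.of Ω) ⟶ Z) :
    IsIso ((stalkSh (ζ ≫ i)).map ((EtDesc.adjSh i).unit.app F)) := by
  have h1 := isIso_pull_map_unit i F
  have h2 : IsIso ((EtDesc.pullSh i ⋙ stalkSh ζ).map ((EtDesc.adjSh i).unit.app F)) := by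
    rw [Functor.comp_map]
    infer_instance
  exact (NatIso.isIso_map_iff (stalkPullIsoSh i ζ) ((EtDesc.adjSh i).unit.app F)).1 h2

theorem isIso_unit_of_unique (F : EtDesc.Sh X)
    (hF : ∀ (Ω : Type u) [Field Ω] [IsSepClosed Ω] (ξ : Spec (CommRingCat.of Ω) ⟶ X),
      Disjoint (Set.range ξ.base) (Set.range i.base) → Nonempty (Unique ((stalkSh ξ).obj F))) :
    IsIso ((EtDesc.adjSh i).unit.app F) := by
  apply isIso_of_stalks
  intro Ω _ _ ξ
  by_cases hξ : Disjoint (Set.range ξ.base) (Set.range i.base)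
  · obtain ⟨h1⟩ := hF Ω ξ hξ
    obtain ⟨h2⟩ := unique_stalk_push_of_disjoint i ((EtDesc.pullSh i).obj F) ξ hξ
    exact ⟨fun a b _ => h1.instSubsingleton.elim a b,
      fun y => ⟨h1.default, h2.instSubsingleton.elim _ _⟩⟩
  · obtain ⟨ζ, rfl⟩ := exists_lift_geomPt i ξ hξ
    exact (isIso_iff_bijective _).1 (isIso_stalk_map_unit i F ζ)

end Unit

section Main

variable {U : Scheme.{u}} (j : U ⟶ X) [IsOpenImmersion j]

theorem essImage_iff (hU : Set.range j.base = (Set.range i.base)ᶜ) (F : EtDesc.Sh X) :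
    (EtDesc.pushSh i).essImage F ↔ IsIso (terminal.from ((EtDesc.pullSh j).obj F)) := by
  constructor
  · rintro ⟨G, ⟨e⟩⟩
    apply isIso_terminal_from_of_stalks
    intro Ω _ _ η
    have hd : Disjoint (Set.range (η ≫ j).base) (Set.range i.base) := by
      rw [Set.disjoint_left]
      rintro _ ⟨p, rfl⟩ hcon
      have h1 : (η ≫ j).base p ∈ Set.range j.base := ⟨η.base p, by simp⟩
      rw [hU] at h1
      exact h1 hcon
    obtain ⟨h1⟩ := unique_stalk_push_of_disjoint i G (η ≫ j) hd
    exact ⟨(((stalkPullIsoSh j η).app F) ≪≫ (stalkSh (η ≫ j)).mapIso e.symm).toEquiv.unique⟩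
  · intro h
    have := isIso_unit_of_unique i F (by
      intro Ω _ _ ξ hξ
      have hr : Set.range ξ.base ⊆ Set.range j.base := by
        rw [hU]
        intro x hx hcon
        exact (Set.disjoint_left.1 hξ) hx hcon
      obtain ⟨η, hη⟩ : ∃ η : Spec (CommRingCat.of Ω) ⟶ U, η ≫ j = ξ :=
        ⟨IsOpenImmersion.lift j ξ hr, IsOpenImmersion.lift_fac j ξ hr⟩
      obtain ⟨h1⟩ := unique_stalk_of_isIso_terminal_from ((EtDesc.pullSh j).obj F) η
      subst hη
      exact ⟨((stalkPullIsoSh j η).app F).symm.toEquiv.unique⟩)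
    exact ⟨(EtDesc.pullSh i).obj F, ⟨(asIso ((EtDesc.adjSh i).unit.app F)).symm⟩⟩

theorem main (hU : Set.range j.base = (Set.range i.base)ᶜ) :
    (EtDesc.pushSh i).Full ∧ (EtDesc.pushSh i).Faithful ∧
    ∀ F : EtDesc.Sh X, (EtDesc.pushSh i).essImage F ↔
      IsIso (terminal.from ((EtDesc.pullSh j).obj F)) :=
  ⟨(fullyFaithful i).full, (fullyFaithful i).faithful, essImage_iff i j hU⟩

end Main

end Groth.Agent.Helper9.EtClosedSets
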