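import Mathlib
import Groth.Prelude.Def_SGA4b
import Groth.Agent.Helper9.EtStalkFamily
import Groth.Agent.Helper9.EtClosedSets
import Groth.Agent.Helper9.LanExactType

/-! Inverse image of étale sheaves of sets along a surjective morphism is faithful and
conservative. -/

set_option autoImplicit false
universe u

open CategoryTheory CategoryTheory.Limits Opposite AlgebraicGeometry

namespace Groth.Agent.Helper9.EtPullSurjSets

open Groth.Agent.Helper9.EtStalkPull Groth.Agent.Helper9.EtStalkExact
  Groth.Agent.Helper9.EtStalkFamily Groth.Agent.Helper9.EtStrictLocFiber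
  Groth.Agent.Helper9.EtClosedSets

attribute [local instance] ab5_type

variable {X : Scheme.{u}}

/-- a morphism of étale sheaves of sets bijective on the stalks of a family of geometric points
hitting every point is an isomorphism -/
theorem isIso_of_family {F G : EtDesc.Sh X} (v : F ⟶ G)
    (h : ∀ x : X, ∃ (Ω : Type u) (_ : Field Ω) (_ : IsSepClosed Ω)
      (ξ : Spec (CommRingCat.of Ω) ⟶ X), ξ default = x ∧
      Function.Bijective ((stalkSh ξ).map v)) : IsIso v := by
  have h1 : Presheaf.IsLocallyInjective X.smallEtaleTopology v.hom :=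
    isLocallyInjective_of_family v.hom (fun x => by
      obtain ⟨Ω, i1, i2, ξ, hξ, h⟩ := h x
      exact ⟨Ω, i1, i2, ξ, hξ, h.1⟩)
  have h2 : Presheaf.IsLocallySurjective X.smallEtaleTopology v.hom :=
    isLocallySurjective_of_family v.hom (fun x => by
      obtain ⟨Ω, i1, i2, ξ, hξ, h⟩ := h x
      exact ⟨Ω, i1, i2, ξ, hξ, h.2⟩)
  exact (Sheaf.isLocallyBijective_iff_isIso v).1 ⟨h1, h2⟩

variable {X' : Scheme.{u}} (f : X' ⟶ X) [Surjective f]

theorem isIso_of_isIso_pull {F G : EtDesc.Sh X} (v : F ⟶ G)
    (hv : IsIso ((EtDesc.pullSh f).map v)) : IsIso v := by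
  apply isIso_of_family
  intro x
  obtain ⟨x', hx'⟩ := f.surjective x
  refine ⟨_, inferInstance, inferInstance, geomPt x' ≫ f, ?_, ?_⟩
  · rw [Scheme.Hom.comp_apply, geomPt_default, hx']
  · have h2 : IsIso ((EtDesc.pullSh f ⋙ stalkSh (geomPt x')).map v) := by
      rw [Functor.comp_map]
      infer_instance
    exact (isIso_iff_bijective _).1
      ((NatIso.isIso_map_iff (stalkPullIsoSh f (geomPt x')) v).1 h2)

instance preservesFiniteLimits_pullSh {X Y : Scheme.{u}} (f : X ⟶ Y) :
    PreservesFiniteLimits (EtDesc.pullSh f) :=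
  Groth.Agent.Helper9.LanExactType.sheafPullback_preservesFiniteLimits (EtCoh.bc f)
    Y.smallEtaleTopology X.smallEtaleTopology

instance reflectsIsomorphisms : (EtDesc.pullSh f).ReflectsIsomorphisms :=
  ⟨fun v hv => isIso_of_isIso_pull f v hv⟩

theorem faithful : (EtDesc.pullSh f).Faithful := by
  have hJ : JointlyFaithful (fun _ : Unit => EtDesc.pullSh f) :=
    JointlyFaithful.of_jointly_reflects_isIso_of_mono
      (fun _ _ v _ hv => isIso_of_isIso_pull f v (hv ()))
  exact ⟨fun h => hJ.map_injective (fun _ => h)⟩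

theorem main : (EtDesc.pullSh f).Faithful ∧ (EtDesc.pullSh f).ReflectsIsomorphisms :=
  ⟨faithful f, reflectsIsomorphisms f⟩

end Groth.Agent.Helper9.EtPullSurjSets
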