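import Mathlib
import Groth.Prelude.Def_SGA4b
import Groth.Agent.Helper9.EtStrictLocFiber
import Groth.Agent.Helper9.EtPullSurjSets

/-! For a separably closed field `k`, global sections is an equivalence from étale sheaves of sets
on `Spec k` to sets. -/

set_option autoImplicit false
universe u

open CategoryTheory CategoryTheory.Limits Opposite AlgebraicGeometry

namespace Groth.Agent.Helper9.EtSepClosedSections

open Groth.Agent.Helper9.EtStrictHensSect Groth.Agent.Helper9.EtStrictLocFiber
  Groth.Agent.Helper9.EtClosedSets Groth.Agent.Helper9.EtPullSurjSets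

theorem isSepClosed_of_ringEquiv {k K : Type*} [Field k] [Field K] (e : k ≃+* K)
    [IsSepClosed k] : IsSepClosed K := by
  apply IsSepClosed.of_exists_root
  intro p _ hirr hsep
  have hsep' : (p.map (e.symm : K →+* k)).Separable := hsep.map
  have hdeg : (p.map (e.symm : K →+* k)).degree ≠ 0 := by
    rw [Polynomial.degree_map]
    exact (Polynomial.degree_pos_of_irreducible hirr).ne'
  obtain ⟨x, hx⟩ := IsSepClosed.exists_root _ hdeg hsep'
  refine ⟨e x, ?_⟩
  have hx' : Polynomial.eval x (p.map (e.symm : K →+* k)) = 0 := hx
  have h1 := congrArg (e : k →+* K) hx'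
  rw [Polynomial.eval_map, Polynomial.hom_eval₂, map_zero] at h1
  have h2 : ((e : k →+* K).comp (e.symm : K →+* k)) = RingHom.id K := by
    ext y
    simp
  rw [h2] at h1
  exact h1

variable (k : Type u) [Field k] [IsSepClosed k]

/-- the residue field of a field is the field -/
noncomputable def residueEquiv : k ≃+* IsLocalRing.ResidueField k :=
  RingEquiv.ofBijective (IsLocalRing.residue k)
    ⟨(IsLocalRing.residue k).injective, Ideal.Quotient.mk_surjective⟩

instance : IsSepClosed (IsLocalRing.ResidueField k) := isSepClosed_of_ringEquiv (residueEquiv k)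

attribute [local instance] ab5_type

/-- global sections, abbreviated -/
noncomputable abbrev Γ : EtDesc.Sh (Spec (CommRingCat.of k)) ⥤ Type (u + 1) :=
  (sheafSections (Spec (CommRingCat.of k)).smallEtaleTopology (Type (u + 1))).obj
    (op (EtCoh.top (Spec (CommRingCat.of k))))

noncomputable def isTerminalTop : IsTerminal (EtCoh.top (Spec (CommRingCat.of k))) :=
  MorphismProperty.Over.mkIdTerminal EtCoh.etaleMP.{u} _

/-- the constant sheaf adjunction -/
noncomputable abbrev adj :
    constantSheaf (Spec (CommRingCat.of k)).smallEtaleTopology (Type (u + 1)) ⊣ Γ k :=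
  constantSheafAdj _ _ (isTerminalTop k)

theorem reflects_iso {F G : EtDesc.Sh (Spec (CommRingCat.of k))} (v : F ⟶ G)
    (hv : IsIso ((Γ k).map v)) : IsIso v := by
  apply isIso_of_family
  intro x
  refine ⟨_, inferInstance, inferInstance, xbar k, Subsingleton.elim _ _, ?_⟩
  have h2 : IsIso ((stalkSh (xbar k)).map v) :=
    (NatIso.isIso_map_iff (sectionsIsoFiber k) v).1 hv
  exact (isIso_iff_bijective _).1 h2

theorem bijective_unit (S : Type (u + 1)) : Function.Bijective ((adj k).unit.app S) := by
  let J := (Spec (CommRingCat.of k)).smallEtaleTopology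
  let P : (Spec (CommRingCat.of k)).Etaleᵒᵖ ⥤ Type (u + 1) := (Functor.const _).obj S
  let Φ := Scheme.pointSmallEtale (xbar k)
  have hu : ∀ s : S, (adj k).unit.app S s =
      (toSheafify J P).app (op (EtCoh.top (Spec (CommRingCat.of k)))) s := by
    intro s
    rfl
  have h1 := bijective_toPresheafFiber k P
  have h2 := bijective_toPresheafFiber k ((presheafToSheaf J (Type (u + 1))).obj P).obj
  have h3 : Function.Bijective (Φ.presheafFiber.map (toSheafify J P)) :=
    (isIso_iff_bijective _).1 inferInstance
  have hcomm : ∀ s : S, Φ.toPresheafFiber _ (l₀ k)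
      ((presheafToSheaf J (Type (u + 1))).obj P).obj ((adj k).unit.app S s) =
      Φ.presheafFiber.map (toSheafify J P) (Φ.toPresheafFiber _ (l₀ k) P s) := by
    intro s
    rw [hu]
    exact (Φ.toPresheafFiber_naturality_apply (toSheafify J P) _ (l₀ k) s).symm
  have h4 : Function.Bijective (fun s : S => Φ.toPresheafFiber _ (l₀ k)
      ((presheafToSheaf J (Type (u + 1))).obj P).obj ((adj k).unit.app S s)) := by
    have : (fun s : S => Φ.toPresheafFiber _ (l₀ k)
        ((presheafToSheaf J (Type (u + 1))).obj P).obj ((adj k).unit.app S s)) =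
        (Φ.presheafFiber.map (toSheafify J P)) ∘ (Φ.toPresheafFiber _ (l₀ k) P) := by
      funext s
      exact hcomm s
    rw [this]
    exact h3.comp h1
  exact (Function.Bijective.of_comp_iff' h2 _).1 h4

instance isIso_unit_app (S : Type (u + 1)) : IsIso ((adj k).unit.app S) :=
  (isIso_iff_bijective _).2 (bijective_unit k S)

instance isIso_counit_app (F : EtDesc.Sh (Spec (CommRingCat.of k))) :
    IsIso ((adj k).counit.app F) := by
  apply reflects_iso
  have h := (adj k).right_triangle_components F
  have h3 : IsIso ((adj k).unit.app ((Γ k).obj F) ≫ (Γ k).map ((adj k).counit.app F)) := by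
    rw [h]
    exact IsIso.id _
  exact IsIso.of_isIso_comp_left ((adj k).unit.app ((Γ k).obj F)) _

theorem main : (Γ k).IsEquivalence :=
  (adj k).toEquivalence.isEquivalence_inverse

end Groth.Agent.Helper9.EtSepClosedSections
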