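import Mathlib
import Groth.Prelude.Def_BigSite
import Groth.Agent.Helper9.GAffine

/-! Condition (A) for integral morphisms. -/

set_option autoImplicit false
set_option linter.style.haveILetI false
universe u

open CategoryTheory CategoryTheory.Limits AlgebraicGeometry TensorProduct

namespace Groth.Agent.Helper9.LocalG

open Groth.Agent.Helper9.PropAQF2

theorem propA_of_isIntegralHom {X Y : Scheme.{u}} (f : X ⟶ Y) [IsIntegralHom f] :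
    BigSite.PropA f := by
  intro U g _ u
  obtain ⟨_, ⟨Y₀', hY₀, rfl⟩, hy, -⟩ := Y.isBasis_affineOpens.exists_subset_of_mem_open
    (Set.mem_univ (f (g u))) isOpen_univ
  obtain ⟨Y₀, rfl⟩ : ∃ Y₀ : Y.Opens, Y₀ = Y₀' := ⟨_, rfl⟩
  have hY₀aff : IsAffineOpen Y₀ := hY₀
  let X₀ : X.Opens := f ⁻¹ᵁ Y₀
  have hX₀aff : IsAffineOpen X₀ := hY₀aff.preimage f
  haveI : IsAffine (Y₀ : Scheme.{u}) := hY₀aff
  haveI : IsAffine (X₀ : Scheme.{u}) := hX₀aff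
  let f₀ : (X₀ : Scheme.{u}) ⟶ Y₀ := f ∣_ Y₀
  haveI : IsIntegralHom f₀ := inferInstance
  have hf₀ : f₀ ≫ Y₀.ι = X₀.ι ≫ f := morphismRestrict_ι f Y₀
  haveI : LocallyQuasiFinite g := Groth.Agent.Helper4.SchLQF.locallyQuasiFinite_of_etale g
  obtain ⟨O, hO, hOF⟩ := isOpen_inter_eq_singleton_of_mem_discrete
    (g.isDiscrete_preimage_singleton (g u)) (x := u) rfl
  have huO : u ∈ O := by
    have h1 : u ∈ O ∩ g ⁻¹' {g u} := by rw [hOF]; rfl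
    exact h1.1
  have hu_mem : u ∈ O ∩ ((g ⁻¹ᵁ X₀ : U.Opens) : Set U) := ⟨huO, hy⟩
  obtain ⟨_, ⟨U₁', hU₁, rfl⟩, hu1, hsub⟩ := U.isBasis_affineOpens.exists_subset_of_mem_open
    hu_mem (hO.inter (g ⁻¹ᵁ X₀).2)
  obtain ⟨U₁, rfl⟩ : ∃ U₁ : U.Opens, U₁ = U₁' := ⟨_, rfl⟩
  have hU₁aff : IsAffineOpen U₁ := hU₁
  haveI : IsAffine (U₁ : Scheme.{u}) := hU₁aff
  have hr : Set.range (U₁.ι ≫ g) ⊆ Set.range X₀.ι := by
    rintro _ ⟨z, rfl⟩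
    rw [Scheme.Opens.range_ι]
    exact (hsub z.2).2
  let g' : (U₁ : Scheme.{u}) ⟶ X₀ := IsOpenImmersion.lift X₀.ι (U₁.ι ≫ g) hr
  have hg' : g' ≫ X₀.ι = U₁.ι ≫ g := IsOpenImmersion.lift_fac _ _ _
  haveI : Etale g' := by
    have h1 : Etale (g' ≫ X₀.ι) := by rw [hg']; infer_instance
    exact MorphismProperty.of_postcomp (W := @Etale) (W' := @Etale) g' X₀.ι inferInstance h1
  obtain ⟨V, v, pt, hv, hpt, P, p₁, p₂, sq, W, hWcl, hcov, h, hh⟩ :=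
    gConcl_affine f₀ g' ⟨f (g u), hy⟩
  haveI := hv
  have sq0 : IsPullback X₀.ι f₀ f Y₀.ι := (isPullback_morphismRestrict f Y₀).flip
  have sq' : IsPullback (p₁ ≫ X₀.ι) p₂ f (v ≫ Y₀.ι) := sq.paste_horiz sq0
  let E := sq'.isoPullback
  have hE1 : E.inv ≫ p₁ ≫ X₀.ι = pullback.fst f (v ≫ Y₀.ι) := sq'.isoPullback_inv_fst
  refine ⟨V, v ≫ Y₀.ι, inferInstance, E.inv ⁻¹ᵁ W, hWcl.preimage E.inv.continuous,
    (E.inv ∣_ W) ≫ h ≫ U₁.ι, ?_, ?_⟩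
  · rw [Category.assoc, Category.assoc, ← hg', ← Category.assoc h, hh, Category.assoc,
      morphismRestrict_ι_assoc, hE1]
  · -- the point
    let x₀ : (X₀ : Scheme.{u}) := ⟨g u, hy⟩
    have hx₀ : f₀ x₀ = v pt := by
      rw [hpt]
      apply Subtype.ext
      have h1 : (f₀ ≫ Y₀.ι) x₀ = (X₀.ι ≫ f) x₀ := by rw [hf₀]
      exact h1
    obtain ⟨z, hz1, hz2⟩ := exists_preimage_of_isPullback sq x₀ pt hx₀
    have hg'u : g' ⟨u, hu1⟩ = x₀ := by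
      apply Subtype.ext
      have h1 : (g' ≫ X₀.ι) ⟨u, hu1⟩ = (U₁.ι ≫ g) ⟨u, hu1⟩ := by rw [hg']
      exact h1
    have hzW : z ∈ W := hcov z hz2 ⟨⟨u, hu1⟩, by rw [hg'u, hz1]⟩
    have hEz : E.inv (E.hom z) = z := by
      rw [← Scheme.Hom.comp_apply, Iso.hom_inv_id]; rfl
    have hmem : E.hom z ∈ E.inv ⁻¹ᵁ W := by
      show E.inv (E.hom z) ∈ W
      rw [hEz]; exact hzW
    refine ⟨⟨E.hom z, hmem⟩, ?_⟩
    have h2 : (E.inv ∣_ W) ⟨E.hom z, hmem⟩ = ⟨z, hzW⟩ := by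
      apply Subtype.ext
      have h3 : ((E.inv ∣_ W) ≫ W.ι) ⟨E.hom z, hmem⟩ = ((E.inv ⁻¹ᵁ W).ι ≫ E.inv) ⟨E.hom z, hmem⟩ := by
        rw [morphismRestrict_ι]
      exact h3.trans hEz
    have h8 : ((E.inv ∣_ W) ≫ h ≫ U₁.ι) ⟨E.hom z, hmem⟩ =
        U₁.ι (h ((E.inv ∣_ W) ⟨E.hom z, hmem⟩)) := rfl
    refine h8.trans ?_
    rw [h2]
    set u' := h ⟨z, hzW⟩ with hu'
    have h4 : U₁.ι u' ∈ O ∩ g ⁻¹' {g u} := by
      refine ⟨(hsub u'.2).1, ?_⟩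
      show g (U₁.ι u') = g u
      have h5 : (U₁.ι ≫ g) u' = (g' ≫ X₀.ι) u' := by rw [hg']
      have h6 : (h ≫ g') ⟨z, hzW⟩ = (W.ι ≫ p₁) ⟨z, hzW⟩ := by rw [hh]
      have h7 : g' u' = x₀ := h6.trans hz1
      refine h5.trans ?_
      show X₀.ι (g' u') = g u
      rw [h7]
      rfl
    rw [hOF] at h4
    exact h4

end Groth.Agent.Helper9.LocalG
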