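import Mathlib
import Groth.Prelude.Def_EtBase
import Groth.Agent.Helper9.PointComapUnit
import Groth.Agent.Helper9.EtSectSupp
import Groth.Agent.Helper9.EtStalkPull
import Groth.Agent.Helper9.EtPropA

/-! The locus where two global sections of an abelian étale sheaf agree is open and commutes
with arbitrary base change. -/

set_option autoImplicit false
universe u

open CategoryTheory CategoryTheory.Limits Opposite AlgebraicGeometry

namespace Groth.Agent.Helper9.EtSectAgree

open Groth.Agent.Helper9.EtStalkExact Groth.Agent.Helper9.EtStalkPull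

variable {S : Scheme.{u}} (F : EtCoh.Ab S) (s t : EtCoh.sect F (EtCoh.top S))

attribute [local instance] preservesFilteredColimits_forget_ab

set_option backward.isDefEq.respectTransparency.types false in
/-- the unique morphism to the terminal object -/
noncomputable def toTop (V : S.Etale) : V ⟶ EtCoh.top S :=
  MorphismProperty.Over.homMk V.hom (Category.comp_id _) trivial

set_option backward.isDefEq.respectTransparency.types false in
theorem eq_toTop {V : S.Etale} (g : V ⟶ EtCoh.top S) : g = toTop V := by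
  apply MorphismProperty.Over.Hom.ext
  have h1 : g.left ≫ (EtCoh.top S).hom = V.hom := MorphismProperty.Over.w g
  exact (Category.comp_id _).symm.trans h1

/-- the locus where `s` and `t` agree étale locally -/
def agreeSet : Set S :=
  {x | ∃ (V : S.Etale) (v : V.left), V.hom v = x ∧
    F.obj.map (toTop V).op s = F.obj.map (toTop V).op t}

theorem isOpen_agreeSet : IsOpen (agreeSet F s t) := by
  rw [isOpen_iff_forall_mem_open]
  rintro x ⟨V, v, rfl, hV⟩
  have : Etale V.hom := V.prop
  refine ⟨Set.range V.hom.base, ?_, V.hom.isOpenMap.isOpen_range, ⟨v, rfl⟩⟩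
  rintro _ ⟨v', rfl⟩
  exact ⟨V, v', rfl, hV⟩

section Germ

variable {T : Scheme.{u}} (f : T ⟶ S) {Ω : Type u} [Field Ω] [IsSepClosed Ω]
  (ζ : Spec (CommRingCat.of Ω) ⟶ T)

/-- germs of `η(x)` at `ζ` are the images of the germs of `x` at the transported point -/
theorem germ_unit (V : S.Etale) (y : (comapPt f ζ).fiber.obj V) (x : F.obj.obj (op V)) :
    haveI : ((EtCoh.bc f).sheafPushforwardContinuous AddCommGrpCat.{u + 1}
        S.smallEtaleTopology T.smallEtaleTopology).IsRightAdjoint :=
      (EtCoh.pullPushAdj f).isRightAdjoint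
    ((Scheme.pointSmallEtale ζ).sheafFiberComapIso (EtCoh.bc f) (EtCoh.coverPreserving_bc f)
      AddCommGrpCat.{u + 1}).hom.app F ((comapPt f ζ).toPresheafFiber V y F.obj x) =
    (Scheme.pointSmallEtale ζ).toPresheafFiber ((EtCoh.bc f).obj V) y
      ((EtCoh.pull f).obj F).obj (((EtCoh.pullPushAdj f).unit.app F).hom.app (op V) x) := by
  haveI : ((EtCoh.bc f).sheafPushforwardContinuous AddCommGrpCat.{u + 1}
      S.smallEtaleTopology T.smallEtaleTopology).IsRightAdjoint :=
    (EtCoh.pullPushAdj f).isRightAdjoint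
  have h := Groth.Agent.Helper9.PointComapUnit.toPresheafFiber_hom_app
    (Scheme.pointSmallEtale ζ) (EtCoh.bc f) (EtCoh.coverPreserving_bc f) AddCommGrpCat.{u + 1} F V y
  exact ConcreteCategory.congr_hom h x

theorem germ_eq_iff (V : S.Etale) (y : (comapPt f ζ).fiber.obj V) (x x' : F.obj.obj (op V)) :
    (Scheme.pointSmallEtale ζ).toPresheafFiber ((EtCoh.bc f).obj V) y
        ((EtCoh.pull f).obj F).obj (((EtCoh.pullPushAdj f).unit.app F).hom.app (op V) x) =
      (Scheme.pointSmallEtale ζ).toPresheafFiber ((EtCoh.bc f).obj V) y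
        ((EtCoh.pull f).obj F).obj (((EtCoh.pullPushAdj f).unit.app F).hom.app (op V) x') ↔
    (comapPt f ζ).toPresheafFiber V y F.obj x = (comapPt f ζ).toPresheafFiber V y F.obj x' := by
  haveI : ((EtCoh.bc f).sheafPushforwardContinuous AddCommGrpCat.{u + 1}
      S.smallEtaleTopology T.smallEtaleTopology).IsRightAdjoint :=
    (EtCoh.pullPushAdj f).isRightAdjoint
  rw [← germ_unit, ← germ_unit]
  have hbij := (ConcreteCategory.isIso_iff_bijective
    (((Scheme.pointSmallEtale ζ).sheafFiberComapIso (EtCoh.bc f) (EtCoh.coverPreserving_bc f)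
      AddCommGrpCat.{u + 1}).hom.app F)).1 inferInstance
  exact hbij.1.eq_iff

end Germ

section Main

variable {T : Scheme.{u}} (f : T ⟶ S)

set_option backward.isDefEq.respectTransparency.types false in
theorem subset_of_eq
    (h : ((EtCoh.pullPushAdj f).unit.app F).hom.app (op (EtCoh.top S)) s =
      ((EtCoh.pullPushAdj f).unit.app F).hom.app (op (EtCoh.top S)) t) :
    Set.range f.base ⊆ agreeSet F s t := by
  rintro _ ⟨τ, rfl⟩
  let ζ := geomPt τ
  have hζ : ζ default = τ := geomPt_default τ
  -- the tautological lift of `ζ` to `(bc f) (top S)`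
  let y₀ : Spec (CommRingCat.of (SeparableClosure (T.residueField τ))) ⟶
      pullback (EtCoh.top S).hom f := pullback.lift (ζ ≫ f) ζ (by
    show (ζ ≫ f) ≫ 𝟙 S = ζ ≫ f
    rw [Category.comp_id])
  let y : (comapPt f ζ).fiber.obj (EtCoh.top S) := Over.homMk y₀ (pullback.lift_snd _ _ _)
  have h1 := (germ_eq_iff F f ζ (EtCoh.top S) y s t).1 (by rw [h])
  obtain ⟨V, g, y', hy', hg⟩ := ((comapPt f ζ).toPresheafFiber_eq_iff' (EtCoh.top S) y s t).1 h1
  let yL : Spec (CommRingCat.of (SeparableClosure (T.residueField τ))) ⟶ pullback V.hom f :=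
    y'.left
  have hyL : yL ≫ pullback.snd V.hom f = ζ := Over.w y'
  refine ⟨V, (pullback.fst V.hom f) (yL default), ?_, ?_⟩
  · rw [← Scheme.Hom.comp_apply, pullback.condition, Scheme.Hom.comp_apply,
      ← Scheme.Hom.comp_apply yL, hyL, hζ]
  · rw [← eq_toTop g]
    exact hg

set_option backward.isDefEq.respectTransparency.types false in
theorem eq_of_subset (h : Set.range f.base ⊆ agreeSet F s t) :
    ((EtCoh.pullPushAdj f).unit.app F).hom.app (op (EtCoh.top S)) s =
      ((EtCoh.pullPushAdj f).unit.app F).hom.app (op (EtCoh.top S)) t := by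
  set G := (EtCoh.pull f).obj F with hG
  set a := ((EtCoh.pullPushAdj f).unit.app F).hom.app (op (EtCoh.top S)) s with ha
  set b := ((EtCoh.pullPushAdj f).unit.app F).hom.app (op (EtCoh.top S)) t with hb
  let T' : T.Etale := (EtCoh.bc f).obj (EtCoh.top S)
  have hcov : Presheaf.equalizerSieve (F := G.obj) (X := op T') a b ∈
      T.smallEtaleTopology T' := by
    apply mem_of_forall_geomPt
    intro Ω _ _ ζ l
    let y : (comapPt f ζ).fiber.obj (EtCoh.top S) := l
    let yL : Spec (CommRingCat.of Ω) ⟶ pullback (EtCoh.top S).hom f := l.left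
    have hyL : yL ≫ pullback.snd (EtCoh.top S).hom f = ζ := Over.w l
    obtain ⟨V, v, hv, hV⟩ := h ⟨ζ default, rfl⟩
    -- a point of `(bc f) V` above `yL default`
    have sq := EtCoh.isPullback_bc_map f (toTop V)
    let p1 : pullback (EtCoh.top S).hom f ⟶ S := pullback.fst (EtCoh.top S).hom f
    let p2 : pullback (EtCoh.top S).hom f ⟶ T := pullback.snd (EtCoh.top S).hom f
    have hc : p1 ≫ 𝟙 S = p2 ≫ f := pullback.condition
    have hc' : p1 = p2 ≫ f := (Category.comp_id _).symm.trans hc
    have hfst : p1 (yL default) = (toTop V).left v := by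
      show p1 (yL default) = V.hom v
      rw [hv]
      calc p1 (yL default) = (p2 ≫ f) (yL default) := by rw [hc']
        _ = f (p2 (yL default)) := Scheme.Hom.comp_apply p2 f _
        _ = f ((yL ≫ p2) default) := by rw [Scheme.Hom.comp_apply]
        _ = f (ζ default) := by rw [hyL]
    obtain ⟨w, hw1, -⟩ := Scheme.Pullback.exists_preimage_pullback
      (f := p1) (g := (toTop V).left) (yL default) v hfst
    have hw : ((EtCoh.bc f).map (toTop V)).left (sq.isoPullback.inv w) = yL default := by
      have e1 : sq.isoPullback.inv ≫ ((EtCoh.bc f).map (toTop V)).left =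
          pullback.fst p1 (toTop V).left := IsPullback.isoPullback_inv_fst sq
      calc ((EtCoh.bc f).map (toTop V)).left (sq.isoPullback.inv w)
          = (sq.isoPullback.inv ≫ ((EtCoh.bc f).map (toTop V)).left) w :=
            (Scheme.Hom.comp_apply _ _ _).symm
        _ = (pullback.fst p1 (toTop V).left) w := by rw [e1]; rfl
        _ = yL default := hw1
    obtain ⟨y', hy', -⟩ := Groth.Agent.Helper9.EtSectSupp.exists_lift_fiber ζ
      ((EtCoh.bc f).map (toTop V)) l (sq.isoPullback.inv w) hw
    have h1 : (comapPt f ζ).toPresheafFiber (EtCoh.top S) y F.obj s =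
        (comapPt f ζ).toPresheafFiber (EtCoh.top S) y F.obj t :=
      ((comapPt f ζ).toPresheafFiber_eq_iff' (EtCoh.top S) y s t).2 ⟨V, toTop V, y', hy', hV⟩
    have h2 := (germ_eq_iff F f ζ (EtCoh.top S) y s t).2 h1
    obtain ⟨V', g', v', hv', hg'⟩ :=
      ((Scheme.pointSmallEtale ζ).toPresheafFiber_eq_iff' T' l a b).1 h2
    exact ⟨V', g', hg', v', hv'⟩
  exact ((Groth.Agent.Helper9.EtPropA.isSheaf_forget G) _ hcov).isSeparatedFor.ext
    (fun Z g hg => hg)

theorem main : ∃ W : S.Opens, ∀ (T : Scheme.{u}) (f : T ⟶ S),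
    Set.range f.base ⊆ (W : Set S) ↔
      ((EtCoh.pullPushAdj f).unit.app F).hom.app (op (EtCoh.top S)) s =
        ((EtCoh.pullPushAdj f).unit.app F).hom.app (op (EtCoh.top S)) t :=
  ⟨⟨agreeSet F s t, isOpen_agreeSet F s t⟩, fun T f =>
    ⟨fun h => eq_of_subset F s t f h, fun h => subset_of_eq F s t f h⟩⟩

end Main

end Groth.Agent.Helper9.EtSectAgree
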