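import Mathlib
import Groth.Agent.Helper9.LanMono

/-! For `f : X ⟶ Y` in a category `𝒮` (homs one universe below objects), the left adjoint
`f_!` of restriction along `Over.map f` on abelian sheaves (for any topologies making `Over.map f`
continuous) is exact. -/

set_option autoImplicit false
set_option backward.isDefEq.respectTransparency false
universe u

open CategoryTheory CategoryTheory.Limits Opposite

namespace Groth.Agent.Helper9.OverMapShriek

open Groth.Agent.Helper9.LanMono

variable {𝒮 : Type (u + 1)} [Category.{u} 𝒮] {X Y : 𝒮} (f : X ⟶ Y)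

/-- the functor along which we extend -/
abbrev L : (Over X)ᵒᵖ ⥤ (Over Y)ᵒᵖ := (Over.map f).op

variable (W : Over Y)

/-- index category -/
abbrev K := CostructuredArrow (L f) (op W)

/-- lifts of the structure map -/
abbrev Idx := {φ : W.left ⟶ X // φ ≫ f = W.hom}

variable {f W}

/-- the tautological map `W ⟶ f_!(V_φ)` -/
def tautHom (φ : Idx f W) : W ⟶ (Over.map f).obj (Over.mk φ.1) :=
  Over.homMk (𝟙 W.left) (by
    change 𝟙 W.left ≫ φ.1 ≫ f = W.hom
    rw [Category.id_comp]; exact φ.2)

/-- objects of the locally terminal family -/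
def ΦObj (φ : Idx f W) : K f W :=
  CostructuredArrow.mk (S := L f) (Y := op (Over.mk φ.1)) (T := op W) (tautHom φ).op

/-- the lift attached to an object of the comma category -/
def idxOf (k : K f W) : Idx f W :=
  ⟨k.hom.unop.left ≫ k.left.unop.hom, by
    have h := Over.w k.hom.unop
    rw [Category.assoc]
    exact h⟩

lemma hom_left_eq {k : K f W} {φ : Idx f W} (m : k ⟶ ΦObj φ) :
    m.left.unop.left = k.hom.unop.left := by
  have h := CostructuredArrow.w m
  have h2 : (tautHom φ) ≫ (Over.map f).map m.left.unop = k.hom.unop :=
    congrArg Quiver.Hom.unop h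
  have h3 := congrArg (fun t => t.left) h2
  dsimp [tautHom] at h3
  rw [← h3]
  exact (Category.id_comp _).symm

lemma idx_eq {k : K f W} {φ : Idx f W} (m : k ⟶ ΦObj φ) : φ = idxOf k := by
  apply Subtype.ext
  have h := Over.w m.left.unop
  rw [hom_left_eq m] at h
  exact h.symm

lemma hom_unique {k : K f W} {φ : Idx f W} (m m' : k ⟶ ΦObj φ) : m = m' := by
  apply CostructuredArrow.hom_ext
  apply Quiver.Hom.unop_inj
  apply Over.OverMorphism.ext
  rw [hom_left_eq m, hom_left_eq m']

/-- the canonical morphism to the terminal object of the component -/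
def toΦ (k : K f W) : k ⟶ ΦObj (idxOf k) :=
  CostructuredArrow.homMk
    (Over.homMk (U := Over.mk (idxOf k).1) (V := k.left.unop) k.hom.unop.left rfl).op
    (by
      apply Quiver.Hom.unop_inj
      apply Over.OverMorphism.ext
      exact Category.id_comp _)

variable (f W)

/-- the locally terminal family -/
def locTerm : LocTerm.{u} (K f W) where
  ι := Idx f W
  obj := ΦObj
  idx := idxOf
  toObj := toΦ
  idx_eq := idx_eq
  hom_unique := hom_unique

/-- the locally terminal family over an arbitrary object of the opposite category -/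
def locTerm' (Z : (Over Y)ᵒᵖ) : LocTerm.{u} (CostructuredArrow (L f) Z) :=
  locTerm f Z.unop

lemma preservesMono_colim (ι : Type u) :
    (colim (J := Discrete ι) (C := AddCommGrpCat.{u + 1})).PreservesMonomorphisms := by
  haveI : AB4OfSize.{u} AddCommGrpCat.{u + 1} := AB4OfSize_shrink.{u, u + 1} AddCommGrpCat.{u + 1}
  haveI : PreservesFiniteLimits (colim (J := Discrete ι) (C := AddCommGrpCat.{u + 1})) :=
    HasExactColimitsOfShape.preservesFiniteLimits
  infer_instance

theorem mono_lan_map {G G' : (Over X)ᵒᵖ ⥤ AddCommGrpCat.{u + 1}} (α : G ⟶ G') [Mono α] :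
    Mono ((L f).lan.map α) := by
  haveI : ∀ Z, Mono (α.app Z) := fun Z => inferInstance
  haveI : ∀ Z, Mono (((L f).lan.map α).app Z) :=
    LanMono.mono_lan_map (L f) (locTerm' f) (fun Z => preservesMono_colim _) α
  exact NatTrans.mono_of_mono_app _

section Sheaf

variable (J : GrothendieckTopology (Over X)) (K' : GrothendieckTopology (Over Y))
  [(Over.map f).IsContinuous J K']

/-- restriction -/
abbrev jstar : Sheaf K' AddCommGrpCat.{u + 1} ⥤ Sheaf J AddCommGrpCat.{u + 1} :=
  (Over.map f).sheafPushforwardContinuous AddCommGrpCat.{u + 1} J K'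

/-- the constructed extension by zero -/
noncomputable abbrev jshriek : Sheaf J AddCommGrpCat.{u + 1} ⥤ Sheaf K' AddCommGrpCat.{u + 1} :=
  Functor.sheafPullbackConstruction.sheafPullback (Over.map f) AddCommGrpCat.{u + 1} J K'

/-- the adjunction -/
noncomputable abbrev jadj : jshriek f J K' ⊣ jstar f J K' :=
  Functor.sheafPullbackConstruction.sheafAdjunctionContinuous (Over.map f)
    AddCommGrpCat.{u + 1} J K'

instance preservesMonomorphisms_jshriek : (jshriek f J K').PreservesMonomorphisms := by
  constructor
  intro G G' g hg
  haveI : Mono ((sheafToPresheaf J AddCommGrpCat.{u + 1}).map g) := inferInstance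
  haveI := mono_lan_map f (α := (sheafToPresheaf J AddCommGrpCat.{u + 1}).map g)
  exact (presheafToSheaf K' AddCommGrpCat.{u + 1}).map_mono _

instance isLeftAdjoint_jshriek : (jshriek f J K').IsLeftAdjoint := (jadj f J K').isLeftAdjoint

instance isRightAdjoint_jstar : (jstar f J K').IsRightAdjoint := (jadj f J K').isRightAdjoint

instance additive_jstar : (jstar f J K').Additive :=
  Functor.additive_of_preserves_binary_products _

instance additive_jshriek : (jshriek f J K').Additive := (jadj f J K').left_adjoint_additive

instance preservesFiniteLimits_jshriek : PreservesFiniteLimits (jshriek f J K') := by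
  rw [Functor.preservesFiniteLimits_iff_forall_exact_map_and_mono]
  intro S hS
  haveI := hS.mono_f
  have hc : PreservesFiniteColimits (jshriek f J K') := inferInstance
  exact ⟨((Functor.preservesFiniteColimits_iff_forall_exact_map_and_epi _).1 hc S hS).1,
    (jshriek f J K').map_mono S.f⟩

theorem preservesFiniteLimits_sheafPullback :
    PreservesFiniteLimits ((Over.map f).sheafPullback AddCommGrpCat.{u + 1} J K') :=
  preservesFiniteLimits_of_natIso
    (Functor.sheafPullbackConstruction.sheafPullbackIso (Over.map f)
      AddCommGrpCat.{u + 1} J K').symm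

end Sheaf

end Groth.Agent.Helper9.OverMapShriek
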