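import Mathlib
import Groth.Prelude.Def_BigSite
import Groth.Agent.Helper4.LanExact
import Groth.Agent.Helper9.OverMapShriek
import Groth.Agent.Helper9.KInjAdj

/-! Restriction from the big site to small étale sites preserves injectives and K-injectives
(S6685, S6697). -/

set_option autoImplicit false
set_option backward.isDefEq.respectTransparency false
universe u

open CategoryTheory CategoryTheory.Limits Opposite AlgebraicGeometry

namespace Groth.Agent.Helper9.BigSmallEt

variable (K : Precoverage Scheme.{u}) (S : Scheme.{u})

instance preservesFiniteLimits_a : PreservesFiniteLimits (EtFppf.a S) :=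
  inferInstanceAs (PreservesFiniteLimits (Scheme.Etale.forget S))

instance representablyFlat_a : RepresentablyFlat (EtFppf.a S) :=
  flat_of_preservesFiniteLimits _

section

variable [BigSite.AEtCont K S]

instance preservesFiniteLimits_piEtPull : PreservesFiniteLimits (BigSite.piEtPull K S) :=
  Groth.Agent.Helper4.LanExact.sheafPullback_preservesFiniteLimits (EtFppf.a S)
    S.smallEtaleTopology (QuotSh.J K S)

instance isLeftAdjoint_piEtPull : (BigSite.piEtPull K S).IsLeftAdjoint :=
  (BigSite.piEtAdj K S).isLeftAdjoint

instance additive_piEtPull : (BigSite.piEtPull K S).Additive :=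
  (BigSite.piEtAdj K S).left_adjoint_additive

end

variable {S} {T : Scheme.{u}} (f : T ⟶ S)

instance preservesFiniteLimits_shriekAb : PreservesFiniteLimits (BigSite.shriekAb K f) :=
  Groth.Agent.Helper9.OverMapShriek.preservesFiniteLimits_sheafPullback f
    (QuotSh.J K T) (QuotSh.J K S)

instance isLeftAdjoint_shriekAb : (BigSite.shriekAb K f).IsLeftAdjoint :=
  (BigSite.shriekAbAdj K f).isLeftAdjoint

instance additive_shriekAb : (BigSite.shriekAb K f).Additive :=
  (BigSite.shriekAbAdj K f).left_adjoint_additive

variable [BigSite.AEtCont K T]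

/-- the composite adjunction `f_big! π_T⁻¹ ⊣ i_f⁻¹` -/
noncomputable def alongAdj :
    BigSite.piEtPull K T ⋙ BigSite.shriekAb K f ⊣ BigSite.resEtAlong K f :=
  (BigSite.piEtAdj K T).comp (BigSite.shriekAbAdj K f)

theorem injective_resEt [BigSite.AEtCont K S] (I : BigSite.Ab K S) [Injective I] :
    Injective ((BigSite.resEt K S).obj I) :=
  Injective.injective_of_adjoint (BigSite.piEtAdj K S) I

theorem injective_resEtAlong (I : BigSite.Ab K S) [Injective I] :
    Injective ((BigSite.resEtAlong K f).obj I) :=
  Injective.injective_of_adjoint (alongAdj K f) I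

theorem isKInjective_resEt [BigSite.AEtCont K S] (I : CochainComplex (BigSite.Ab K S) ℤ)
    [I.IsKInjective] :
    CochainComplex.IsKInjective
      (((BigSite.resEt K S).mapHomologicalComplex (ComplexShape.up ℤ)).obj I) :=
  Groth.Agent.Helper9.KInjAdj.isKInjective_map (BigSite.piEtAdj K S) I

instance additive_resEtAlong : (BigSite.resEtAlong K f).Additive := inferInstance

theorem isKInjective_resEtAlong (I : CochainComplex (BigSite.Ab K S) ℤ) [I.IsKInjective] :
    CochainComplex.IsKInjective
      (((BigSite.resEtAlong K f).mapHomologicalComplex (ComplexShape.up ℤ)).obj I) :=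
  Groth.Agent.Helper9.KInjAdj.isKInjective_map (alongAdj K f) I

end Groth.Agent.Helper9.BigSmallEt
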