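import Mathlib

/-! Beck–Chevalley isomorphism of functors between slice categories for a cartesian square. -/

set_option autoImplicit false
set_option backward.isDefEq.respectTransparency false
universe v u

open CategoryTheory CategoryTheory.Limits Opposite

namespace Groth.Agent.Helper9.OverBC

variable {𝒮 : Type u} [Category.{v} 𝒮] [HasPullbacks 𝒮] {T S T' S' : 𝒮}
  (f : T ⟶ S) (g : S' ⟶ S) (g' : T' ⟶ T) (f' : T' ⟶ S') (c : IsPullback g' f' f g)

@[reassoc]
lemma pullback_map_left_fst {X Y : 𝒮} (f : X ⟶ Y) {A B : Over Y} (k : A ⟶ B) :
    ((Over.pullback f).map k).left ≫ pullback.fst B.hom f = pullback.fst A.hom f ≫ k.left := by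
  dsimp [Over.pullback]
  exact pullback.lift_fst _ _ _

@[reassoc]
lemma pullback_map_left_snd {X Y : 𝒮} (f : X ⟶ Y) {A B : Over Y} (k : A ⟶ B) :
    ((Over.pullback f).map k).left ≫ pullback.snd B.hom f = pullback.snd A.hom f := by
  dsimp [Over.pullback]
  exact pullback.lift_snd _ _ _

include c in
lemma isPullback_paste (V : Over S') :
    IsPullback (pullback.fst V.hom f') (pullback.snd V.hom f' ≫ g') (V.hom ≫ g) f :=
  (IsPullback.of_hasPullback V.hom f').paste_vert c.flip

/-- the comparison of the two fibre products -/
noncomputable def eV (V : Over S') : pullback V.hom f' ≅ pullback (V.hom ≫ g) f :=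
  (isPullback_paste f g g' f' c V).isoPullback

/-- the two composite functors `Over S' ⥤ Over T` -/
noncomputable abbrev F1 : Over S' ⥤ Over T := Over.pullback f' ⋙ Over.map g'

noncomputable abbrev F2 : Over S' ⥤ Over T := Over.map g ⋙ Over.pullback f

/-- objectwise isomorphism -/
noncomputable def βObj (V : Over S') : (F1 g' f').obj V ≅ (F2 f g).obj V :=
  Over.isoMk (eV f g g' f' c V) (by
    change (eV f g g' f' c V).hom ≫ pullback.snd (V.hom ≫ g) f = pullback.snd V.hom f' ≫ g'
    exact IsPullback.isoPullback_hom_snd _)

/-- the natural isomorphism -/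
noncomputable def β : F1 g' f' ≅ F2 f g :=
  NatIso.ofComponents (βObj f g g' f' c) (by
    intro V V' k
    apply Over.OverMorphism.ext
    change ((Over.pullback f').map k).left ≫ (eV f g g' f' c V').hom =
      (eV f g g' f' c V).hom ≫ ((Over.pullback f).map ((Over.map g).map k)).left
    apply pullback.hom_ext
    · rw [Category.assoc, Category.assoc]
      erw [IsPullback.isoPullback_hom_fst, pullback_map_left_fst f' k,
        pullback_map_left_fst f ((Over.map g).map k), IsPullback.isoPullback_hom_fst_assoc]
      rfl
    · rw [Category.assoc, Category.assoc]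
      erw [IsPullback.isoPullback_hom_snd, pullback_map_left_snd_assoc f' k,
        pullback_map_left_snd f ((Over.map g).map k), IsPullback.isoPullback_hom_snd])

end Groth.Agent.Helper9.OverBC
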