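import Mathlib
import Groth.Prelude.Def_BigSite
import Groth.Agent.Helper1.DeltaComp
import Groth.Agent.Helper9.OverBC
import Groth.Agent.Helper9.BigSmallEt

/-! Base change for higher direct images on big sites (S6696). -/

set_option autoImplicit false
set_option backward.isDefEq.respectTransparency false
universe u

open CategoryTheory CategoryTheory.Limits Opposite AlgebraicGeometry

namespace Groth.Agent.Helper9.BigBC

open Groth.Agent.Helper1.DeltaFun

variable (K : Precoverage Scheme.{u}) {T S T' S' : Scheme.{u}}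
  (f : T ⟶ S) (g : S' ⟶ S) (g' : T' ⟶ T) (f' : T' ⟶ S') (c : IsPullback g' f' f g)

abbrev A := AddCommGrpCat.{u + 1}

/-- base change on the level of sheaves -/
noncomputable def pushPullIso :
    BigSite.pushBig K f A.{u} ⋙ BigSite.pullBig K g A.{u} ≅
      BigSite.pullBig K g' A.{u} ⋙ BigSite.pushBig K f' A.{u} := by
  haveI : (OverBC.F2 f g).IsContinuous (QuotSh.J K S') (QuotSh.J K T) :=
    Functor.isContinuous_comp _ _ _ (QuotSh.J K S) _
  exact Functor.sheafPushforwardContinuousComp (Over.map g) (Over.pullback f) A.{u}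
      (QuotSh.J K S') (QuotSh.J K S) (QuotSh.J K T) ≪≫
    (Functor.sheafPushforwardContinuousComp' (OverBC.β f g g' f' c) A.{u}
      (QuotSh.J K S') (QuotSh.J K T') (QuotSh.J K T)).symm

instance isLeftAdjoint_pullBig : (BigSite.pullBig K g A.{u}).IsLeftAdjoint :=
  (BigSite.bigAdj K g A.{u}).isLeftAdjoint

instance isRightAdjoint_pullBig : (BigSite.pullBig K g A.{u}).IsRightAdjoint :=
  (BigSite.shriekAbAdj K g).isRightAdjoint

instance isRightAdjoint_pushBig : (BigSite.pushBig K f A.{u}).IsRightAdjoint :=
  (BigSite.bigAdj K f A.{u}).isRightAdjoint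

instance preservesFiniteLimits_pullBig : PreservesFiniteLimits (BigSite.pullBig K g A.{u}) :=
  inferInstance

instance preservesFiniteColimits_pullBig : PreservesFiniteColimits (BigSite.pullBig K g A.{u}) :=
  inferInstance

instance preservesFiniteLimits_pushBig : PreservesFiniteLimits (BigSite.pushBig K f A.{u}) :=
  inferInstance

theorem injective_pullBig (I : BigSite.Ab K S) [Injective I] :
    Injective ((BigSite.pullBig K g A.{u}).obj I) :=
  Injective.injective_of_adjoint (BigSite.shriekAbAdj K g) I

/-- the first δ-functor `g⁻¹ ∘ R^q f_*` -/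
noncomputable def T₁ : DeltaFunctor (BigSite.Ab K T) (BigSite.Ab K S') :=
  (rightDerivedDelta (BigSite.pushBig K f A.{u})).postcomp (BigSite.pullBig K g A.{u})

/-- the second δ-functor `R^q f'_* ∘ g'⁻¹` -/
noncomputable def T₂ : DeltaFunctor (BigSite.Ab K T) (BigSite.Ab K S') :=
  (rightDerivedDelta (BigSite.pushBig K f' A.{u})).precomp (BigSite.pullBig K g' A.{u})
    (fun _ hS => hS.map_of_exact _)

lemma T₁_effaceable : (T₁ K f g).Effaceable := by
  intro I _ n
  exact Functor.map_isZero (BigSite.pullBig K g A.{u})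
    (rightDerivedDelta_effaceable (BigSite.pushBig K f A.{u}) I n)

lemma T₂_effaceable : (T₂ K g' f').Effaceable := by
  intro I _ n
  haveI := injective_pullBig K g' I
  exact rightDerivedDelta_effaceable (BigSite.pushBig K f' A.{u}) _ n

include c in
theorem nonempty_natIso (q : ℕ) : Nonempty ((T₁ K f g).T q ≅ (T₂ K g' f').T q) := by
  refine nonempty_iso_of_effaceable (T₁ K f g) (T₂ K g' f') (T₁_effaceable K f g)
    (T₂_effaceable K g' f') ?_ q
  exact Functor.isoWhiskerRight (BigSite.pushBig K f A.{u}).rightDerivedZeroIsoSelf _ ≪≫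
    pushPullIso K f g g' f' c ≪≫
    Functor.isoWhiskerLeft _ (BigSite.pushBig K f' A.{u}).rightDerivedZeroIsoSelf.symm

include c in
theorem nonempty_iso (F : BigSite.Ab K T) (q : ℕ) :
    Nonempty ((BigSite.pullBig K g A.{u}).obj ((BigSite.RpushBig K f q).obj F) ≅
      (BigSite.RpushBig K f' q).obj ((BigSite.pullBig K g' A.{u}).obj F)) := by
  obtain ⟨e⟩ := nonempty_natIso K f g g' f' c q
  exact ⟨e.app F⟩

end Groth.Agent.Helper9.BigBC
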