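import Groth.Agent.Helper9.ComodAlg
set_option autoImplicit false

namespace Groth.Agent.Helper9

open TensorProduct

universe u v w

section

variable {k : Type u} [Field k] {C : Type v} [AddCommGroup C] [Module k C] [Coalgebra k C]
variable {V : Type w} [AddCommGroup V] [Module k V] [HopfRep.Comod k C V]

/-- convolution of functionals -/
noncomputable def conv (ψ φ : C →ₗ[k] k) : C →ₗ[k] k :=
  (TensorProduct.lid k k).toLinearMap ∘ₗ TensorProduct.map ψ φ ∘ₗ Coalgebra.comul

omit [Coalgebra k C] [HopfRep.Comod k C V] in
lemma act_act_aux1 (ψ φ : C →ₗ[k] k) (w : V) (t : C ⊗[k] C) :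
    TensorProduct.rid k V (ψ.lTensor V (TensorProduct.rid k (V ⊗[k] C) (φ.lTensor (V ⊗[k] C)
      ((TensorProduct.assoc k V C C).symm (w ⊗ₜ[k] t))))) =
      (TensorProduct.lid k k (TensorProduct.map ψ φ t)) • w := by
  induction t using TensorProduct.induction_on with
  | zero => simp
  | tmul c c' =>
    simp [smul_smul, mul_comm]
  | add z₁ z₂ h₁ h₂ => simp only [TensorProduct.tmul_add, map_add, h₁, h₂, add_smul]

omit [HopfRep.Comod k C V] in
lemma act_act_aux2 (ψ φ : C →ₗ[k] k) (y : V ⊗[k] C) :
    TensorProduct.rid k V (ψ.lTensor V (TensorProduct.rid k (V ⊗[k] C) (φ.lTensor (V ⊗[k] C)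
      ((TensorProduct.assoc k V C C).symm ((Coalgebra.comul (R := k) (A := C)).lTensor V y))))) =
      TensorProduct.rid k V ((conv ψ φ).lTensor V y) := by
  induction y using TensorProduct.induction_on with
  | zero => simp
  | tmul w c =>
    rw [LinearMap.lTensor_tmul, act_act_aux1]
    simp [conv]
  | add z₁ z₂ h₁ h₂ => simp only [map_add, h₁, h₂]

theorem act_comp (ψ φ : C →ₗ[k] k) (v : V) :
    act k C V ψ (act k C V φ v) = act k C V (conv ψ φ) v := by
  rw [act_apply, act_apply, act_apply, ← rid_lTensor_rTensor, ← act_act_aux2]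
  have h := LinearMap.congr_fun (HopfRep.Comod.coassoc (k := k) (A := C) (V := V)) v
  simp only [LinearMap.comp_apply, LinearEquiv.coe_coe] at h
  rw [← h, LinearEquiv.symm_apply_apply]

theorem act_counit (v : V) : act k C V (Coalgebra.counit (R := k) (A := C)) v = v := by
  rw [act_apply]
  have h := LinearMap.congr_fun (HopfRep.Comod.counit_comp (k := k) (A := C) (V := V)) v
  simp only [LinearMap.comp_apply] at h
  rw [h]
  simp

variable (k C) in
/-- the subcomodule generated by a vector -/
noncomputable def gen (v : V) : Submodule k V :=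
  Submodule.span k (Set.range (fun φ : C →ₗ[k] k => act k C V φ v))

theorem isSubcomod_gen (v : V) : HopfRep.IsSubcomod (k := k) (A := C) (gen k C v) := by
  rw [isSubcomod_iff_act]
  intro ψ w hw
  have : (gen k C v).map (act k C V ψ) ≤ gen k C v := by
    unfold gen
    rw [Submodule.map_span_le]
    rintro _ ⟨φ, rfl⟩
    rw [act_comp]
    exact Submodule.subset_span ⟨_, rfl⟩
  exact this (Submodule.mem_map_of_mem hw)

theorem mem_gen (v : V) : v ∈ gen k C v := by
  have : act k C V (Coalgebra.counit (R := k) (A := C)) v ∈ gen k C v :=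
    Submodule.subset_span ⟨_, rfl⟩
  rwa [act_counit] at this

theorem finite_gen (v : V) : Module.Finite k (gen k C v) := by
  classical
  obtain ⟨S, hS⟩ := TensorProduct.exists_finset (HopfRep.Comod.coact (k := k) (A := C) v)
  have hle : gen k C v ≤ Submodule.span k (S.image Prod.fst : Set V) := by
    unfold gen
    rw [Submodule.span_le]
    rintro _ ⟨φ, rfl⟩
    show act k C V φ v ∈ _
    rw [act_apply, hS, map_sum, map_sum]
    apply Submodule.sum_mem
    intro i hi
    rw [LinearMap.lTensor_tmul, TensorProduct.rid_tmul]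
    apply Submodule.smul_mem
    apply Submodule.subset_span
    exact Finset.mem_coe.mpr (Finset.mem_image_of_mem _ hi)
  have : Module.Finite k (Submodule.span k (S.image Prod.fst : Set V)) :=
    Module.Finite.span_finset k _
  exact Submodule.finiteDimensional_of_le hle

end

end Groth.Agent.Helper9
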