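import Groth.Agent.Helper9.Orbit
set_option autoImplicit false

namespace Groth.Agent.Helper9

open TensorProduct WithConv

universe u v w

section

variable {k : Type u} [Field k] {A : Type v} [CommRing A] [HopfAlgebra k A]
variable {R : Type w} [CommRing R] [Algebra k R] [HopfRep.Comod k A R] [GLin.IsCoactAlg k A R]

lemma convMul_apply_eq (g h : A →ₐ[k] k) (a : A) :
    (toConv g * toConv h).ofConv a = conv g.toLinearMap h.toLinearMap a := by
  show Algebra.TensorProduct.lmul' k (Algebra.TensorProduct.map g h (Coalgebra.comul (R := k) a)) =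
    TensorProduct.lid k k (TensorProduct.map g.toLinearMap h.toLinearMap (Coalgebra.comul (R := k) a))
  generalize Coalgebra.comul (R := k) a = t
  induction t using TensorProduct.induction_on with
  | zero => simp
  | tmul a b => simp
  | add x y hx hy => simp only [map_add, hx, hy]

theorem actPt_mul (g h : A →ₐ[k] k) (x : R →ₐ[k] k) :
    GLin.actPt k (toConv g * toConv h).ofConv x = GLin.actPt k h (GLin.actPt k g x) := by
  apply AlgHom.ext
  intro f
  show (toConv g * toConv h).ofConv (GLin.orbitHom k A x f) =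
    h (GLin.orbitHom k A (GLin.actPt k g x) f)
  rw [convMul_apply_eq, apply_orbitHom, ← act_comp]
  have e1 := apply_orbitHom (GLin.actPt k g x) h.toLinearMap f
  have e2 := apply_orbitHom x g.toLinearMap (act k A R h.toLinearMap f)
  simp only [AlgHom.toLinearMap_apply] at e1 e2
  rw [e1]
  show _ = g (GLin.orbitHom k A x _)
  rw [e2]

theorem actPt_one (x : R →ₐ[k] k) :
    GLin.actPt k (1 : WithConv (A →ₐ[k] k)).ofConv x = x := by
  apply AlgHom.ext
  intro f
  show (1 : WithConv (A →ₐ[k] k)).ofConv (GLin.orbitHom k A x f) = x f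
  have e1 := apply_orbitHom x (Coalgebra.counit (R := k) (A := A)) f
  rw [act_counit] at e1
  rw [← e1]
  rfl

/-- if two points have a common translate they are in the same orbit -/
theorem same_orbit (x x' : R →ₐ[k] k) (g g' : A →ₐ[k] k)
    (h : GLin.actPt k g x = GLin.actPt k g' x') : ∃ h' : A →ₐ[k] k, x' = GLin.actPt k h' x := by
  refine ⟨(toConv g * (toConv g')⁻¹).ofConv, ?_⟩
  have e : (toConv g * (toConv g')⁻¹).ofConv = (toConv g * toConv ((toConv g')⁻¹).ofConv).ofConv := rfl
  rw [e, actPt_mul, h, ← actPt_mul]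
  have : toConv g' * toConv ((toConv g')⁻¹).ofConv = 1 := mul_inv_cancel (toConv g')
  rw [this, actPt_one]

end

end Groth.Agent.Helper9

namespace Groth.Agent.Helper9

universe u v w

section

variable {k : Type u} [Field k] {A : Type v} [CommRing A] [Bialgebra k A]
variable {R : Type w} [CommRing R] [Algebra k R] [HopfRep.Comod k A R] [GLin.IsCoactAlg k A R]

theorem exists_actPt_of_closed [IsAlgClosed k] [Algebra.FiniteType k A] (x z : R →ₐ[k] k)
    (hcl : GLin.IsClosedOrbit k A x) (hz : GLin.InOrbitClosure k A x z) :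
    ∃ g : A →ₐ[k] k, GLin.actPt k g x = z := by
  let pz : PrimeSpectrum R := ⟨RingHom.ker z, RingHom.ker_isPrime z⟩
  have h1 : pz ∈ closure (Set.range (PrimeSpectrum.comap (GLin.orbitHom k A x).toRingHom)) := by
    rw [PrimeSpectrum.closure_range_comap, PrimeSpectrum.mem_zeroLocus]
    exact hz
  rw [IsClosed.closure_eq hcl] at h1
  obtain ⟨q, hq⟩ := h1
  have hq' : RingHom.ker z = Ideal.comap (GLin.orbitHom k A x).toRingHom q.asIdeal := by
    have := congrArg PrimeSpectrum.asIdeal hq
    exact this.symm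
  have hne : Ideal.map (GLin.orbitHom k A x).toRingHom (RingHom.ker z) ≠ ⊤ := by
    intro htop
    have hle : Ideal.map (GLin.orbitHom k A x).toRingHom (RingHom.ker z) ≤ q.asIdeal := by
      rw [Ideal.map_le_iff_le_comap, hq']
    rw [htop] at hle
    exact q.isPrime.ne_top (top_le_iff.mp hle)
  obtain ⟨g, hg⟩ := exists_point_of_ne_top (k := k) _ hne
  refine ⟨g, ?_⟩
  apply AlgHom.ext
  intro f
  have hmem : f - algebraMap k R (z f) ∈ RingHom.ker z := by
    rw [RingHom.mem_ker, map_sub, AlgHom.commutes]
    simp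
  have h2 := hg (Ideal.mem_map_of_mem (GLin.orbitHom k A x).toRingHom hmem)
  rw [RingHom.mem_ker] at h2
  have h3 : g (GLin.orbitHom k A x (f - algebraMap k R (z f))) = 0 := h2
  rw [map_sub, map_sub, AlgHom.commutes, AlgHom.commutes, sub_eq_zero] at h3
  have h4 : g (GLin.orbitHom k A x f) = z f := by simpa using h3
  exact h4

end

end Groth.Agent.Helper9

namespace Groth.Agent.Helper9

universe u v w

section

variable {k : Type u} [Field k] {A : Type v} [CommRing A] [Bialgebra k A]
variable {R : Type w} [CommRing R] [Algebra k R] [HopfRep.Comod k A R] [GLin.IsCoactAlg k A R]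

/-- `(I·R) ∩ R^G = I` for a semisimple comodule algebra -/
theorem comap_map_invariants (hss : HopfRep.IsSemisimpleComod k A R)
    (I : Ideal (GLin.invariants k A R)) :
    Ideal.comap (GLin.invariants k A R).val.toRingHom
        (Ideal.map (GLin.invariants k A R).val.toRingHom I) = I := by
  obtain ⟨E, hE₁, hE₂, hE₃⟩ := exists_reynolds hss
  apply le_antisymm _ Ideal.le_comap_map
  intro f hf
  rw [Ideal.mem_comap] at hf
  have key : ∀ x ∈ Ideal.map (GLin.invariants k A R).val.toRingHom I, ∀ r : R,
      ∃ y ∈ I, (y : R) = E (r * x) := by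
    intro x hx
    unfold Ideal.map at hx
    induction hx using Submodule.span_induction with
    | mem x hx =>
      obtain ⟨i, hi, rfl⟩ := hx
      intro r
      refine ⟨i * ⟨E r, (hE₃ _).mp (hE₂ r)⟩, I.mul_mem_right _ hi, ?_⟩
      show (i : R) * E r = E (r * (i : R))
      rw [mul_comm r, reynolds_mul hss E hE₁ hE₂ hE₃ i.1 i.2]
    | zero =>
      intro r
      exact ⟨0, I.zero_mem, by simp⟩
    | add x y _ _ hx hy =>
      intro r
      obtain ⟨a, ha, hax⟩ := hx r
      obtain ⟨b, hb, hby⟩ := hy r
      refine ⟨a + b, I.add_mem ha hb, ?_⟩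
      rw [mul_add, map_add, ← hax, ← hby]
      rfl
    | smul s x _ hx =>
      intro r
      obtain ⟨a, ha, hax⟩ := hx (r * s)
      exact ⟨a, ha, by rw [hax, smul_eq_mul, mul_assoc]⟩
  obtain ⟨y, hy, hyf⟩ := key _ hf 1
  rw [one_mul] at hyf
  have h1 : E (f : R) = f := (hE₃ _).mpr f.2
  have h2 : y = f := Subtype.ext (hyf.trans h1)
  rw [← h2]
  exact hy

end

end Groth.Agent.Helper9
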