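import Groth.Agent.Helper9.GrpPt
set_option autoImplicit false
set_option linter.unusedSectionVars false

namespace Groth.Agent.Helper9

open TensorProduct MvPolynomial

universe u v w

section

variable {k : Type u} [Field k] {A : Type v} [CommRing A] [Bialgebra k A]
variable {ι : Type w} [Fintype ι] [HopfRep.Comod k A (MvPolynomial ι k)]
  [GLin.IsCoactAlg k A (MvPolynomial ι k)]

local notation "ρ" => (HopfRep.Comod.coact (k := k) (A := A) (V := MvPolynomial ι k))

variable (k A ι) in
/-- span of pure tensors with homogeneous first factor -/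
noncomputable def TT (d : ℕ) : Submodule k (MvPolynomial ι k ⊗[k] A) :=
  Submodule.span k {z | ∃ p ∈ homogeneousSubmodule ι k d, ∃ a : A, z = p ⊗ₜ[k] a}

omit [Fintype ι] [HopfRep.Comod k A (MvPolynomial ι k)] [GLin.IsCoactAlg k A (MvPolynomial ι k)] in
lemma TT_le (d : ℕ) :
    TT k A ι d ≤ LinearMap.range ((homogeneousSubmodule ι k d).subtype.rTensor A) := by
  unfold TT
  rw [Submodule.span_le]
  rintro _ ⟨p, hp, a, rfl⟩
  exact ⟨(⟨p, hp⟩ : homogeneousSubmodule ι k d) ⊗ₜ[k] a, rfl⟩

omit [Fintype ι] [HopfRep.Comod k A (MvPolynomial ι k)] [GLin.IsCoactAlg k A (MvPolynomial ι k)] in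
lemma TT_mul {a b : ℕ} {x y : MvPolynomial ι k ⊗[k] A} (hx : x ∈ TT k A ι a) (hy : y ∈ TT k A ι b) :
    x * y ∈ TT k A ι (a + b) := by
  have h : TT k A ι a * TT k A ι b ≤ TT k A ι (a + b) := by
    unfold TT
    rw [Submodule.span_mul_span]
    apply Submodule.span_mono
    rintro _ ⟨_, ⟨p, hp, c, rfl⟩, _, ⟨q, hq, c', rfl⟩, rfl⟩
    refine ⟨p * q, ?_, c * c', ?_⟩
    · exact IsHomogeneous.mul hp hq
    · simp
  exact h (Submodule.mul_mem_mul hx hy)

lemma coact_X_mem (hlin : GLin.IsLinear k A ι) (i : ι) : ρ (X i) ∈ TT k A ι 1 := by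
  obtain ⟨m, hm⟩ := hlin i
  rw [hm]
  apply Submodule.sum_mem
  intro j _
  apply Submodule.subset_span
  exact ⟨X j, isHomogeneous_X k j, m j, rfl⟩

lemma coact_monomial_mem (hlin : GLin.IsLinear k A ι) :
    ∀ (n : ℕ) (s : ι →₀ ℕ), s.degree = n → ∀ c : k, ρ (monomial s c) ∈ TT k A ι n := by
  intro n
  induction n with
  | zero =>
    intro s hs c
    have : s = 0 := (Finsupp.degree_eq_zero_iff s).mp hs
    subst this
    have e : (monomial (0 : ι →₀ ℕ) c : MvPolynomial ι k) = c • 1 := by
      rw [← C_apply, Algebra.smul_def, mul_one]; rfl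
    rw [e, map_smul, GLin.IsCoactAlg.coact_one (k := k) (A := A)]
    apply Submodule.smul_mem
    apply Submodule.subset_span
    exact ⟨1, isHomogeneous_one ι k, 1, by rw [Algebra.TensorProduct.one_def]⟩
  | succ n ih =>
    intro s hs c
    have hne : s ≠ 0 := by
      intro h; rw [h] at hs; simp at hs
    obtain ⟨i, hi⟩ := Finsupp.support_nonempty_iff.mpr hne
    have hi' : 1 ≤ s i := Nat.one_le_iff_ne_zero.mpr (Finsupp.mem_support_iff.mp hi)
    have hs' : s = (s - Finsupp.single i 1) + Finsupp.single i 1 := by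
      ext j
      by_cases hj : j = i
      · subst hj; simp; omega
      · simp [Ne.symm hj]
    have hdeg : (s - Finsupp.single i 1).degree = n := by
      have h1 : s.degree = (s - Finsupp.single i 1).degree + (Finsupp.single i 1).degree := by
        conv_lhs => rw [hs']
        exact map_add _ _ _
      rw [Finsupp.degree_single] at h1
      omega
    rw [hs', monomial_add_single, pow_one, GLin.IsCoactAlg.coact_mul]
    exact TT_mul (ih _ hdeg c) (coact_X_mem hlin i)

theorem isSubcomod_homogeneous (hlin : GLin.IsLinear k A ι) (d : ℕ) :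
    HopfRep.IsSubcomod (k := k) (A := A) (homogeneousSubmodule ι k d) := by
  intro p hp
  apply TT_le
  rw [as_sum p, map_sum]
  apply Submodule.sum_mem
  intro s hs
  apply coact_monomial_mem hlin d s _ _
  by_contra hne
  have := IsHomogeneous.coeff_eq_zero hp hne
  exact (mem_support_iff.mp hs) this

theorem homogeneousComponent_act (hlin : GLin.IsLinear k A ι) (d : ℕ) (φ : A →ₗ[k] k)
    (p : MvPolynomial ι k) :
    homogeneousComponent d (act k A (MvPolynomial ι k) φ p) =
      act k A (MvPolynomial ι k) φ (homogeneousComponent d p) := by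
  classical
  have hmem : ∀ e, act k A (MvPolynomial ι k) φ (homogeneousComponent e p) ∈
      homogeneousSubmodule ι k e := fun e =>
    (isSubcomod_iff_act _).mp (isSubcomod_homogeneous hlin e) φ _ (homogeneousComponent_mem e p)
  conv_lhs => rw [← sum_homogeneousComponent p, map_sum, map_sum]
  rw [Finset.sum_congr rfl (fun e _ => homogeneousComponent_of_mem (m := d) (hmem e))]
  rw [Finset.sum_ite_eq]
  split_ifs with h
  · rfl
  · rw [Finset.mem_range, not_lt] at h
    rw [homogeneousComponent_eq_zero d p (by omega), map_zero]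

theorem isComodHom_homogeneousComponent (hlin : GLin.IsLinear k A ι) (d : ℕ) :
    Hoch.IsComodHom A (homogeneousComponent d : MvPolynomial ι k →ₗ[k] MvPolynomial ι k) :=
  isComodHom_of_act _ (fun φ p => homogeneousComponent_act hlin d φ p)

/-- the ideal of the origin is a subcomodule -/
theorem isSubcomod_ker_zero (hlin : GLin.IsLinear k A ι) :
    HopfRep.IsSubcomod (k := k) (A := A)
      ((RingHom.ker (GLin.vecPt k ι (fun _ => (0 : k)))).restrictScalars k) := by
  have e : (RingHom.ker (GLin.vecPt k ι (fun _ => (0 : k)))).restrictScalars k =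
      LinearMap.ker (homogeneousComponent 0 : MvPolynomial ι k →ₗ[k] MvPolynomial ι k) := by
    ext p
    show (GLin.vecPt k ι (fun _ => (0 : k))) p = 0 ↔ homogeneousComponent 0 p = 0
    rw [homogeneousComponent_zero]
    show MvPolynomial.aeval (fun _ => (0 : k)) p = 0 ↔ _
    rw [MvPolynomial.aeval_eq_eval, MvPolynomial.eval_zero', constantCoeff_eq]
    constructor
    · intro h; rw [h, map_zero]
    · intro h
      have := congrArg (coeff 0) h
      simpa using this
  rw [e]
  exact isSubcomod_ker (isComodHom_homogeneousComponent hlin 0)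

end

section

variable {k : Type u} [Field k] {A : Type v} [CommRing A] [Bialgebra k A]
variable {R : Type w} [CommRing R] [Algebra k R] [HopfRep.Comod k A R] [GLin.IsCoactAlg k A R]

theorem apply_eq_zero_of_invariant_of_mem_ker (x : R →ₐ[k] k) (f : R)
    (hf : f ∈ GLin.invariants k A R) (hker : f ∈ RingHom.ker (GLin.orbitHom k A x)) : x f = 0 := by
  rw [RingHom.mem_ker, orbitHom_invariant x f hf] at hker
  have := congrArg (Coalgebra.counit (R := k) (A := A)) hker
  rw [Algebra.algebraMap_eq_smul_one, map_smul, Bialgebra.counit_one, map_zero, smul_eq_mul,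
    mul_one] at this
  exact this

end

end Groth.Agent.Helper9
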