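import Groth.Agent.Helper9.Comod

/-! Subcomodules of a comodule over a coalgebra over a field are the submodules for the algebra of
operators generated by the "slices" of the coaction (helper9). -/

set_option autoImplicit false

namespace Groth.Agent.Helper9

open TensorProduct

universe u v w

section

variable (k : Type u) [Field k] (C : Type v) [AddCommGroup C] [Module k C] [Coalgebra k C]
variable (V : Type w) [AddCommGroup V] [Module k V] [HopfRep.Comod k C V]

/-- The operator on `V` attached to a functional on `C`. -/
noncomputable def act (φ : C →ₗ[k] k) : V →ₗ[k] V :=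
  (TensorProduct.rid k V).toLinearMap ∘ₗ φ.lTensor V ∘ₗ HopfRep.Comod.coact (k := k) (A := C)

/-- The algebra of operators generated by the `act φ`. -/
noncomputable def actAlg : Subalgebra k (Module.End k V) :=
  Algebra.adjoin k (Set.range (act k C V))

variable {k C V}

theorem act_apply (φ : C →ₗ[k] k) (v : V) :
    act k C V φ v = TensorProduct.rid k V (φ.lTensor V (HopfRep.Comod.coact (k := k) (A := C) v)) :=
  rfl

theorem isSubcomod_iff_act (W : Submodule k V) :
    HopfRep.IsSubcomod (k := k) (A := C) W ↔ ∀ φ : C →ₗ[k] k, ∀ w ∈ W, act k C V φ w ∈ W := by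
  constructor
  · intro hW φ w hw
    obtain ⟨y, hy⟩ := hW w hw
    rw [act_apply, ← hy, rid_lTensor_rTensor]
    exact Submodule.coe_mem _
  · intro h w hw
    exact mem_range_rTensor_subtype_of_forall_functional W _ fun φ => h φ w hw

theorem act_mem_actAlg (φ : C →ₗ[k] k) : act k C V φ ∈ actAlg k C V :=
  Algebra.subset_adjoin ⟨φ, rfl⟩

theorem actAlg_smul_def (a : actAlg k C V) (v : V) : a • v = (a : Module.End k V) v := rfl

/-- A subcomodule, as a submodule over the operator algebra. -/
noncomputable def toSub (W : Submodule k V) (hW : HopfRep.IsSubcomod (k := k) (A := C) W) :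
    Submodule (actAlg k C V) V where
  carrier := W
  add_mem' := W.add_mem
  zero_mem' := W.zero_mem
  smul_mem' := by
    rintro ⟨a, ha⟩ w hw
    show a w ∈ W
    have hW' := (isSubcomod_iff_act W).mp hW
    induction ha using Algebra.adjoin_induction generalizing w with
    | mem x hx =>
      obtain ⟨φ, rfl⟩ := hx
      exact hW' φ w hw
    | algebraMap r =>
      rw [Module.algebraMap_end_apply]
      exact W.smul_mem r hw
    | add x y _ _ hx hy =>
      rw [LinearMap.add_apply]
      exact W.add_mem (hx hw) (hy hw)
    | mul x y _ _ hx hy =>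
      rw [Module.End.mul_apply]
      exact hx (hy hw)

@[simp] theorem mem_toSub {W : Submodule k V} {hW : HopfRep.IsSubcomod (k := k) (A := C) W} {x : V} :
    x ∈ toSub W hW ↔ x ∈ W := Iff.rfl

theorem isSubcomod_restrictScalars (N : Submodule (actAlg k C V) V) :
    HopfRep.IsSubcomod (k := k) (A := C) (N.restrictScalars k) := by
  rw [isSubcomod_iff_act]
  intro φ w hw
  have : (⟨act k C V φ, act_mem_actAlg φ⟩ : actAlg k C V) • w ∈ N := N.smul_mem _ hw
  exact this

theorem isCompl_iff_mem {R M : Type*} [Ring R] [AddCommGroup M] [Module R M]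
    (p q : Submodule R M) :
    IsCompl p q ↔ (∀ x, x ∈ p → x ∈ q → x = 0) ∧ (∀ x : M, ∃ y ∈ p, ∃ z ∈ q, y + z = x) := by
  rw [isCompl_iff, Submodule.disjoint_def, codisjoint_iff, Submodule.eq_top_iff']
  simp only [Submodule.mem_sup]

theorem isSemisimpleComod_iff :
    HopfRep.IsSemisimpleComod k C V ↔ IsSemisimpleModule (actAlg k C V) V := by
  rw [isSemisimpleModule_iff]
  constructor
  · intro h
    refine ⟨fun N => ?_⟩
    obtain ⟨W', hW', hc⟩ := h _ (isSubcomod_restrictScalars N)
    refine ⟨toSub W' hW', ?_⟩
    rw [isCompl_iff_mem] at hc ⊢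
    exact hc
  · intro h W hW
    obtain ⟨N', hN'⟩ := h.exists_isCompl (toSub W hW)
    refine ⟨N'.restrictScalars k, isSubcomod_restrictScalars N', ?_⟩
    rw [isCompl_iff_mem] at hN' ⊢
    exact hN'

/-- Simple subcomodules (in the minimal sense) correspond to simple submodules. -/
theorem isSimpleModule_toSub_iff (W : Submodule k V)
    (hW : HopfRep.IsSubcomod (k := k) (A := C) W) :
    IsSimpleModule (actAlg k C V) (toSub W hW) ↔
      (W ≠ ⊥ ∧ ∀ W' : Submodule k V, HopfRep.IsSubcomod (k := k) (A := C) W' → W' ≤ W →
        W' = ⊥ ∨ W' = W) := by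
  rw [isSimpleModule_iff_isAtom]
  constructor
  · intro h
    refine ⟨?_, fun W' hW' hle => ?_⟩
    · intro h0
      apply h.1
      rw [eq_bot_iff]
      intro x hx
      have : x ∈ W := hx
      rw [h0] at this
      exact this
    · have hle' : toSub W' hW' ≤ toSub W hW := hle
      rcases eq_or_lt_of_le hle' with h1 | h1
      · right
        apply le_antisymm hle
        intro x hx
        have : x ∈ toSub W' hW' := by rw [h1]; exact hx
        exact this
      · left
        have := h.2 _ h1
        rw [eq_bot_iff]
        intro x hx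
        have hx' : x ∈ toSub W' hW' := hx
        rw [this] at hx'
        exact hx'
  · rintro ⟨h0, hmin⟩
    refine ⟨?_, fun N hN => ?_⟩
    · intro hb
      apply h0
      rw [eq_bot_iff]
      intro x hx
      have : x ∈ toSub W hW := hx
      rw [hb] at this
      exact this
    · have hle : N.restrictScalars k ≤ W := fun x hx => hN.le hx
      rcases hmin _ (isSubcomod_restrictScalars N) hle with h1 | h1
      · rw [eq_bot_iff]
        intro x hx
        have : x ∈ N.restrictScalars k := hx
        rw [h1] at this
        exact this
      · exfalso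
        apply hN.ne
        apply le_antisymm hN.le
        intro x hx
        have : x ∈ W := hx
        rw [← h1] at this
        exact this

end

end Groth.Agent.Helper9
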