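import Mathlib
import Groth.Agent.Helper9.RLT1

/-! Tor amplitude of a restriction of scalars can be checked after localizing at the maximal
ideals of the upper ring. -/

set_option autoImplicit false
set_option linter.style.haveILetI false
set_option linter.unusedVariables false
set_option linter.unusedSectionVars false
universe u

namespace Groth.Agent.Helper9.RLT2

open CategoryTheory CategoryTheory.Limits MonoidalCategory HomologicalComplex TensorProduct
open Groth.Agent.Helper6.TenCx Groth.Agent.Helper3.DRingLib Groth.Agent.Helper9.RingProj1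
  Groth.Agent.Helper9.RingProj2 Groth.Agent.Helper9.RLT1

attribute [local instance] HasDerivedCategory.standard

section JF

variable (B : Type u) [CommRing B]

/-- the localizations at the maximal ideals are jointly faithful -/
lemma jointlyFaithful_maximal :
    JointlyFaithful B (fun m : MaximalSpectrum B => Localization.AtPrime m.asIdeal) := by
  intro M _ _ h
  exact Module.subsingleton_of_localization_maximal
    (fun (P : Ideal B) [P.IsMaximal] => Localization.AtPrime P ⊗[B] M)
    (fun (P : Ideal B) [P.IsMaximal] => TensorProduct.mk B (Localization.AtPrime P) M 1)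
    (fun P hP => h ⟨P, hP⟩)

end JF

section Main

variable {A B : Type u} [CommRing A] [CommRing B] [Algebra A B]

/-- a quasi-isomorphism onto a module in degree `0` stays one after flat base change -/
theorem exists_bc_resolution (S : Type u) [CommRing S] [Algebra A S] [Module.Flat A S]
    (N : ModuleCat.{u} A) (N' : DRing.Cx A) (π : N' ⟶ Groth.Agent.Helper6.SingleTen.sN N)
    (hπ : QuasiIso π) :
    ∃ π' : (extCx (algebraMap A S)).obj N' ⟶
        Groth.Agent.Helper6.SingleTen.sN ((ext (algebraMap A S)).obj N), QuasiIso π' := by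
  haveI := preservesHomology_bcF (A := A) S
  haveI := hπ
  haveI h1 : QuasiIso ((extCx (algebraMap A S)).map π) :=
    quasiIso_map_of_preservesHomology π (bcF A S)
  exact ⟨(extCx (algebraMap A S)).map π ≫
    ((HomologicalComplex.singleMapHomologicalComplex (ext (algebraMap A S))
      (ComplexShape.up ℤ) 0).hom.app N), inferInstance⟩

theorem main (K : DRing.Cx B) (a b : ℤ)
    (h3 : ∀ (m : Ideal B) [m.IsMaximal],
      DRing.HasTorAmplitudeIn (Localization.AtPrime (m.comap (algebraMap A B))) a b
        (DRing.toD ((rCx (Localization.localRingHom (m.comap (algebraMap A B)) m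
          (algebraMap A B) rfl)).obj
          ((extCx (algebraMap B (Localization.AtPrime m))).obj K)))) :
    DRing.HasTorAmplitudeIn A a b (DRing.toD ((rCx (algebraMap A B)).obj K)) := by
  set φ : A →+* B := algebraMap A B with hφ
  have hJF := jointlyFaithful_maximal B
  -- exactness of `K` outside `[a, b]`
  have hKex : ∀ j : ℤ, j < a ∨ b < j → K.ExactAt j := by
    intro j hj
    apply exactAt_of_forall_bcCx hJF K j
    intro m
    haveI := m.isMaximal
    exact (exactAt_rCx_iff _ _ j).1 (exactAt_of_hasTorAmplitudeIn _ a b (h3 m.asIdeal) j hj)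
  haveI hXle : ((rCx φ).obj K).IsLE b :=
    (CochainComplex.isLE_iff _ _).2 (fun i hi => (exactAt_rCx_iff φ K i).2 (hKex i (Or.inr hi)))
  have hXle' : (DRing.toD ((rCx φ).obj K)).IsLE b := inferInstance
  obtain ⟨P, q, hP, pP, hq⟩ := exists_projective_resolution ((rCx φ).obj K) b hXle'
  have fP : DRing.TermwiseFlat P := fun i => by
    have := pP i
    infer_instance
  haveI : IsIso (DerivedCategory.Q.map q) :=
    (DerivedCategory.isIso_Q_map_iff_quasiIso (ModuleCat.{u} A) _).mpr hq
  rw [hasTorAmplitudeIn_iff']
  refine ⟨hXle', ⟨P, b, hP, fP, ⟨asIso (DerivedCategory.Q.map q)⟩, fun N i hi => ?_⟩⟩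
  apply Groth.Agent.Helper6.SingleTen.exactAt_tensorCx_of_exactAt N P i
  obtain ⟨N', π, hN'v, hN'p, hπ⟩ := exists_module_resolution N
  have hN'fl : DRing.TermwiseFlat N' := fun i => by
    have := hN'p i
    infer_instance
  have hN'k : KFlat N' := kflat_of_flat N' 0 hN'v hN'fl
  have hPk : KFlat P := kflat_of_flat P b hP fP
  refine (exactAt_iff_of_quasiIso _ (quasiIso_whiskerRight hPk π hπ) i).1 ?_
  refine (exactAt_iff_of_quasiIso _ (quasiIso_whiskerLeft hN'k q hq) i).2 ?_
  refine ExactAt.of_iso ?_ (projCxIso φ K N' ≪≫ DTen.braidCx _ _)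
  rw [exactAt_rCx_iff]
  apply exactAt_of_forall_bcCx hJF _ i
  intro m
  haveI := m.isMaximal
  -- notation
  let p : Ideal A := m.asIdeal.comap (algebraMap A B)
  let Ap := Localization.AtPrime p
  let Bm := Localization.AtPrime m.asIdeal
  let lam : B →+* Bm := algebraMap B Bm
  let mu : A →+* Ap := algebraMap A Ap
  let psi : Ap →+* Bm := Localization.localRingHom p m.asIdeal (algebraMap A B) rfl
  have hχ : lam.comp φ = psi.comp mu := by
    ext x
    exact (Localization.localRingHom_to_map p m.asIdeal (algebraMap A B) rfl x).symm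
  -- the base-changed resolution
  obtain ⟨π', hπ'⟩ := exists_bc_resolution Ap N N' π hπ
  have hk' : KFlat ((extCx mu).obj N') :=
    kflat_of_flat _ 0 (bcCx_vanishesAbove Ap N' 0 hN'v) (bcCx_termwiseFlat Ap N' hN'fl)
  have key : (((rCx psi).obj ((extCx lam).obj K)) ⊗ (extCx mu).obj N').ExactAt i :=
    exactAt_tensor_resolution_of_lt _ a b (h3 m.asIdeal) ((ext mu).obj N) _ π' hk' hπ' i
      (Or.inl hi)
  have key2 : ((extCx lam).obj K ⊗ (extCx psi).obj ((extCx mu).obj N')).ExactAt i := by
    rw [← exactAt_rCx_iff psi]
    exact ExactAt.of_iso key (projCxIso psi ((extCx lam).obj K) ((extCx mu).obj N')).symm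
  refine ExactAt.of_iso key2 ?_
  exact (extTensorIso lam K ((extCx φ).obj N') ≪≫
    whiskerLeftIso _ ((extCompIso φ lam (lam.comp φ) rfl N').symm ≪≫
      extCompIso mu psi (lam.comp φ) hχ N')).symm

end Main

end Groth.Agent.Helper9.RLT2
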