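import Mathlib
import Groth.Prelude.Def_DRing2
import Groth.Agent.Helper3.DRingTor3
import Groth.Agent.Helper3.DRingTor4
import Groth.Agent.Helper9.RLT3
import Groth.Agent.Helper9.FlatPC2
import Groth.Agent.Helper2.FlatDescApp

/-! Openness of the locus where a pseudo-coherent complex over a finitely presented flat algebra
has tor amplitude `≥ a` over the base. -/

set_option autoImplicit false
set_option linter.style.haveILetI false
set_option linter.unusedVariables false
set_option linter.unusedSectionVars false
set_option linter.unusedSimpArgs false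
universe u

namespace Groth.Agent.Helper9.TorOpen1

open CategoryTheory CategoryTheory.Limits HomologicalComplex TensorProduct
open Groth.Agent.Helper3.DRingLib Groth.Agent.Helper9.RingProj1 Groth.Agent.Helper9.RingProj2
  Groth.Agent.Helper9.RLT3

attribute [local instance] HasDerivedCategory.standard

section General

variable {A : Type u} [CommRing A]

/-- a bounded above complex of flat modules of tor amplitude `≥ a` has flat `opcycles` in degree
`a` -/
theorem flat_opcycles_of_hasTorAmplitudeIn (F : DRing.Cx A) (b : ℤ) (hv : DRing.VanishesAbove F b)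
    (hf : DRing.TermwiseFlat F) (a b' : ℤ)
    (h : DRing.HasTorAmplitudeIn A a b' (DRing.toD F)) : Module.Flat A (F.opcycles a) := by
  have h1 : IsTorGE a (DRing.toD F) := ((hasTorAmplitudeIn_iff' a b' _).1 h).2
  have hex := h1.forall_rep F b hv hf (Iso.refl _)
  have h2 : Module.Flat A (F.X a ⧸ LinearMap.range (F.d (a - 1) a).hom) :=
    flat_coker_of_exactAt_tensorCx F a (hf a) (fun N => hex N (a - 1) (by omega))
  exact Module.Flat.of_linearEquiv (opcyclesIsoQuot F (a - 1) a (by omega)).toLinearEquiv

/-- conversely -/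
theorem hasTorAmplitudeIn_of_flat_opcycles (F : DRing.Cx A) (b : ℤ)
    (hv : DRing.VanishesAbove F b) (hf : DRing.TermwiseFlat F) (a : ℤ)
    (hex : ∀ i, i < a → F.ExactAt i) (h : Module.Flat A (F.opcycles a)) :
    DRing.HasTorAmplitudeIn A a b (DRing.toD F) := by
  haveI hGE : F.IsGE a := by
    rw [CochainComplex.isGE_iff]
    exact hex
  have hq : QuasiIso (F.πTruncGE a) := inferInstance
  have hiso : IsIso (DerivedCategory.Q.map (F.πTruncGE a)) :=
    (DerivedCategory.isIso_Q_map_iff_quasiIso (ModuleCat.{u} A) _).mpr hq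
  refine ⟨F.truncGE a, ?_, ?_, ⟨(asIso (DerivedCategory.Q.map (F.πTruncGE a))).symm⟩⟩
  · intro i hi
    rcases hi with hi | hi
    · exact (F.truncGE a).isZero_of_isStrictlyGE a i hi
    · by_cases hia : a < i
      · exact (hv i hi).of_iso (F.truncGEXIso a i hia)
      · by_cases hia' : i = a
        · subst hia'
          refine IsZero.of_iso ?_ (F.truncGEXIsoOpcycles i)
          exact IsZero.of_epi (F.pOpcycles i) (hv i hi)
        · exact (F.truncGE a).isZero_of_isStrictlyGE a i (by omega)
  · intro i
    by_cases h1 : i < a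
    · have := ModuleCat.subsingleton_of_isZero ((F.truncGE a).isZero_of_isStrictlyGE a i h1)
      infer_instance
    · by_cases h2 : i = a
      · subst h2
        exact Module.Flat.of_linearEquiv (F.truncGEXIsoOpcycles i).toLinearEquiv
      · have := hf i
        exact Module.Flat.of_linearEquiv (F.truncGEXIso a i (by omega)).toLinearEquiv

end General

section Loc

variable {A P : Type u} [CommRing A] [CommRing P] [Algebra A P]

variable (𝔭 : Ideal P) [𝔭.IsPrime]

/-- the complex localized at `𝔭`, as a complex of `A`-modules -/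
noncomputable abbrev Floc (E : DRing.Cx P) : DRing.Cx A :=
  (Groth.Agent.Helper9.RingProj1.rCx (algebraMap A (Localization.AtPrime 𝔭))).obj
    ((extCx (algebraMap P (Localization.AtPrime 𝔭))).obj E)

lemma flat_algebraMap_loc : (algebraMap P (Localization.AtPrime 𝔭)).Flat := by
  rw [RingHom.flat_algebraMap_iff]
  exact IsLocalization.flat (Localization.AtPrime 𝔭) 𝔭.primeCompl

lemma vanishesAbove_Floc (E : DRing.Cx P) (b : ℤ) (hv : DRing.VanishesAbove E b) :
    DRing.VanishesAbove (Floc (A := A) 𝔭 E) b := fun i hi =>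
  Functor.map_isZero (rs (algebraMap A (Localization.AtPrime 𝔭)))
    (vanishesAbove_extCx (algebraMap P (Localization.AtPrime 𝔭)) E b hv i hi)

lemma termwiseFlat_Floc [Module.Flat A P] (E : DRing.Cx P) (hf : DRing.TermwiseFlat E) :
    DRing.TermwiseFlat (Floc (A := A) 𝔭 E) := by
  intro i
  haveI : Module.Flat (Localization.AtPrime 𝔭)
      (((extCx (algebraMap P (Localization.AtPrime 𝔭))).obj E).X i) :=
    termwiseFlat_extCx (algebraMap P (Localization.AtPrime 𝔭)) E hf i
  exact Groth.Agent.Helper9.FlatPC2.flat_rF (R := A) (A := Localization.AtPrime 𝔭) _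

lemma exactAt_Floc (E : DRing.Cx P) (i : ℤ) (h : E.ExactAt i) :
    (Floc (A := A) 𝔭 E).ExactAt i :=
  (exactAt_rCx_iff (algebraMap A (Localization.AtPrime 𝔭)) _ i).2
    (exactAt_extCx (algebraMap P (Localization.AtPrime 𝔭)) (flat_algebraMap_loc 𝔭) E i h)

/-- `opcycles` of the localized complex -/
noncomputable def opcyclesFlocIso (E : DRing.Cx P) (a : ℤ) :
    (Floc (A := A) 𝔭 E).opcycles a ≅
      (rs (algebraMap A (Localization.AtPrime 𝔭))).obj
        ((ext (algebraMap P (Localization.AtPrime 𝔭))).obj (E.opcycles a)) := by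
  haveI : Module.Flat P (Localization.AtPrime 𝔭) :=
    IsLocalization.flat (Localization.AtPrime 𝔭) 𝔭.primeCompl
  haveI := preservesHomology_bcF (A := P) (Localization.AtPrime 𝔭)
  haveI := preservesHomology_rF (algebraMap A (Localization.AtPrime 𝔭))
  exact (((extCx (algebraMap P (Localization.AtPrime 𝔭))).obj E).sc a).mapOpcyclesIso
      (rs (algebraMap A (Localization.AtPrime 𝔭))) ≪≫
    (rs (algebraMap A (Localization.AtPrime 𝔭))).mapIso
      ((E.sc a).mapOpcyclesIso (ext (algebraMap P (Localization.AtPrime 𝔭))))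

/-- the localized module, two ways -/
theorem flat_loc_iff (M : ModuleCat.{u} P) [Module A M] [IsScalarTower A P M] :
    Module.Flat A ((rs (algebraMap A (Localization.AtPrime 𝔭))).obj
        ((ext (algebraMap P (Localization.AtPrime 𝔭))).obj M)) ↔
      Module.Flat A (LocalizedModule 𝔭.primeCompl M) := by
  let e1 := extendScalarsEquiv (B := Localization.AtPrime 𝔭) M
  let e2 := (IsLocalizedModule.isBaseChange 𝔭.primeCompl (Localization.AtPrime 𝔭)
    (LocalizedModule.mkLinearMap 𝔭.primeCompl M)).equiv
  let e : ((rs (algebraMap A (Localization.AtPrime 𝔭))).obj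
        ((ext (algebraMap P (Localization.AtPrime 𝔭))).obj M)) ≃ₗ[A]
      LocalizedModule 𝔭.primeCompl M :=
    { toFun := fun x => e2 (e1 x)
      invFun := fun y => e1.symm (e2.symm y)
      left_inv := fun x => by
        let x' : ((ext (algebraMap P (Localization.AtPrime 𝔭))).obj M) := x
        show e1.symm (e2.symm (e2 (e1 x'))) = x'
        rw [LinearEquiv.symm_apply_apply, LinearEquiv.symm_apply_apply]
      right_inv := fun y => by
        show e2 (e1 (e1.symm (e2.symm y))) = y
        rw [LinearEquiv.apply_symm_apply, LinearEquiv.apply_symm_apply]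
      map_add' := fun x y => by
        let x' : ((ext (algebraMap P (Localization.AtPrime 𝔭))).obj M) := x
        let y' : ((ext (algebraMap P (Localization.AtPrime 𝔭))).obj M) := y
        show e2 (e1 (x' + y')) = e2 (e1 x') + e2 (e1 y')
        rw [map_add, map_add]
      map_smul' := fun a x => by
        let x' : ((ext (algebraMap P (Localization.AtPrime 𝔭))).obj M) := x
        show e2 (e1 ((algebraMap A (Localization.AtPrime 𝔭) a) • x')) = a • e2 (e1 x')
        rw [map_smul, map_smul, algebraMap_smul] }
  exact ⟨fun h => Module.Flat.of_linearEquiv e.symm, fun h => Module.Flat.of_linearEquiv e⟩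

end Loc

section Core

variable {A P : Type u} [CommRing A] [CommRing P] [Algebra A P]

lemma finitePresentation_opcycles (E : DRing.Cx P) (hff : DRing.TermwiseFiniteFree E) (a : ℤ) :
    Module.FinitePresentation P (E.opcycles a) := by
  haveI := (hff a).1
  haveI := (hff a).2
  haveI := (hff (a - 1)).1
  haveI : Module.FinitePresentation P (E.X a) := Module.finitePresentation_of_projective P _
  haveI : Module.FinitePresentation P (E.X a ⧸ LinearMap.range (E.d (a - 1) a).hom) := by
    refine Module.finitePresentation_of_surjective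
      (LinearMap.range (E.d (a - 1) a).hom).mkQ (Submodule.mkQ_surjective _) ?_
    rw [Submodule.ker_mkQ, LinearMap.range_eq_map]
    exact Submodule.FG.map _ Module.Finite.fg_top
  exact Module.FinitePresentation.of_equiv
    (opcyclesIsoQuot E (a - 1) a (by omega)).toLinearEquiv.symm

/-- **openness**: around a prime where the localized complex has tor amplitude `≥ a` over `A`
there is a basic open on which this holds -/
theorem core [Algebra.FinitePresentation A P] [Module.Flat A P] (E : DRing.Cx P) (b : ℤ)
    (hv : DRing.VanishesAbove E b) (hff : DRing.TermwiseFiniteFree E) (a : ℤ)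
    (hex : ∀ i, i < a → E.ExactAt i) (𝔭₀ : Ideal P) [𝔭₀.IsPrime] (b' : ℤ)
    (h₀ : DRing.HasTorAmplitudeIn A a b' (DRing.toD (Floc (A := A) 𝔭₀ E))) :
    ∃ g : P, g ∉ 𝔭₀ ∧ ∀ (𝔭 : Ideal P) [𝔭.IsPrime], g ∉ 𝔭 →
      DRing.HasTorAmplitudeIn A a b (DRing.toD (Floc (A := A) 𝔭 E)) := by
  letI : Module A (E.opcycles a) := Module.compHom (E.opcycles a) (algebraMap A P)
  haveI : IsScalarTower A P (E.opcycles a) := IsScalarTower.of_algebraMap_smul (fun r m => rfl)
  haveI : Module.FinitePresentation P (E.opcycles a) := finitePresentation_opcycles E hff a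
  have hopen := Groth.Agent.Helper2.FlatDescApp.isOpen_flatLocus_fp (R := A) (S := P)
    (M := E.opcycles a)
  have hf : DRing.TermwiseFlat E := fun i => by
    haveI := (hff i).2
    infer_instance
  have h1 : Module.Flat A ((Floc (A := A) 𝔭₀ E).opcycles a) :=
    flat_opcycles_of_hasTorAmplitudeIn _ b (vanishesAbove_Floc 𝔭₀ E b hv)
      (termwiseFlat_Floc 𝔭₀ E hf) a b' h₀
  have h2 : Module.Flat A ((rs (algebraMap A (Localization.AtPrime 𝔭₀))).obj
      ((ext (algebraMap P (Localization.AtPrime 𝔭₀))).obj (E.opcycles a))) :=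
    Module.Flat.of_linearEquiv (opcyclesFlocIso 𝔭₀ E a).symm.toLinearEquiv
  have h3 : (⟨𝔭₀, inferInstance⟩ : PrimeSpectrum P) ∈
      {q : PrimeSpectrum P | Module.Flat A (LocalizedModule q.asIdeal.primeCompl (E.opcycles a))} :=
    (flat_loc_iff 𝔭₀ (E.opcycles a)).1 h2
  obtain ⟨_, ⟨g, rfl⟩, hg1, hg2⟩ :=
    PrimeSpectrum.isTopologicalBasis_basic_opens.exists_subset_of_mem_open h3 hopen
  refine ⟨g, hg1, fun 𝔭 _ hg => ?_⟩
  have h4 : Module.Flat A (LocalizedModule 𝔭.primeCompl (E.opcycles a)) :=
    hg2 (show (⟨𝔭, inferInstance⟩ : PrimeSpectrum P) ∈ _ from hg)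
  have h5 := (flat_loc_iff 𝔭 (E.opcycles a)).2 h4
  have h6 : Module.Flat A ((Floc (A := A) 𝔭 E).opcycles a) :=
    Module.Flat.of_linearEquiv (opcyclesFlocIso 𝔭 E a).toLinearEquiv
  exact hasTorAmplitudeIn_of_flat_opcycles _ b (vanishesAbove_Floc 𝔭 E b hv)
    (termwiseFlat_Floc 𝔭 E hf) a (fun i hi => exactAt_Floc 𝔭 E i (hex i hi)) h6

end Core

end Groth.Agent.Helper9.TorOpen1
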