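import Mathlib
import Groth.Prelude.Def_DRing2
import Groth.Prelude.Def_MoreMor
import Groth.Agent.Helper9.TorOpen1
import Groth.Agent.Helper9.RLT2
import Groth.Agent.Helper3.TorDimA
import Groth.Agent.Helper3.DRingRestr

/-! A pseudo-coherent ring map whose localizations at all primes of the target have finite tor
dimension over the source has finite tor dimension. -/

set_option autoImplicit false
set_option linter.style.haveILetI false
set_option linter.unusedVariables false
set_option linter.unusedSectionVars false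
set_option linter.unusedSimpArgs false
universe u

namespace Groth.Agent.Helper9.TorOpen2

open CategoryTheory CategoryTheory.Limits HomologicalComplex TensorProduct
open Groth.Agent.Helper3.DRingLib Groth.Agent.Helper9.RingProj1 Groth.Agent.Helper9.RingProj2
  Groth.Agent.Helper9.RLT3 Groth.Agent.Helper9.TorOpen1 Groth.Agent.Helper3.TorDim
  DerivedCategory

attribute [local instance] HasDerivedCategory.standard

section Ex

variable {A : Type u} [CommRing A]

/-- a complex representing a module placed in degree `0` is exact in the other degrees -/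
lemma exactAt_of_iso_inD (E : DRing.Cx A) (M : Type u) [AddCommGroup M] [Module A M]
    (e : DRing.toD E ≅ Dual.inD A M) (i : ℤ) (hi : i ≠ 0) : E.ExactAt i := by
  rw [exactAt_iff_isZero_homology]
  have e1 : E.homology i ≅ (DerivedCategory.homologyFunctor (ModuleCat.{u} A) i).obj
      (DRing.toD E) := ((DerivedCategory.homologyFunctorFactors (ModuleCat.{u} A) i).app E).symm
  have e2 := (DerivedCategory.homologyFunctor (ModuleCat.{u} A) i).mapIso
    (e ≪≫ (DerivedCategory.singleFunctorIsoCompQ (ModuleCat.{u} A) 0).app (ModuleCat.of A M))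
  have e3 := (DerivedCategory.homologyFunctorFactors (ModuleCat.{u} A) i).app
    ((CochainComplex.singleFunctor (ModuleCat.{u} A) 0).obj (ModuleCat.of A M))
  refine IsZero.of_iso ?_ (e1 ≪≫ e2 ≪≫ e3)
  exact (exactAt_iff_isZero_homology _ _).1
    (exactAt_of_isZero_X _ i (HomologicalComplex.isZero_single_obj_X _ _ _ i hi))

end Ex

section Chain

variable {A P : Type u} [CommRing A] [CommRing P] [Algebra A P] (𝔭 : Ideal P) [𝔭.IsPrime]

/-- the localization of a resolution of a module, as an object of `D(A)` -/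
theorem nonempty_toD_Floc_iso (E : DRing.Cx P) (M : Type u) [AddCommGroup M] [Module P M]
    (e : DRing.toD E ≅ Dual.inD P M) :
    Nonempty (DRing.toD (Floc (A := A) 𝔭 E) ≅
      (singleFunctor (ModuleCat.{u} A) 0).obj
        ((rF (algebraMap A (Localization.AtPrime 𝔭))).obj
          (ModuleCat.of (Localization.AtPrime 𝔭) (Localization.AtPrime 𝔭 ⊗[P] M)))) := by
  haveI : Module.Flat P (Localization.AtPrime 𝔭) :=
    IsLocalization.flat (Localization.AtPrime 𝔭) 𝔭.primeCompl
  exact ⟨(rDToD (algebraMap A (Localization.AtPrime 𝔭)) _).symm ≪≫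
    (DRing.restrictD (algebraMap A (Localization.AtPrime 𝔭))).mapIso
      ((bcDToD (B := Localization.AtPrime 𝔭) E).symm ≪≫
        (bcD P (Localization.AtPrime 𝔭)).mapIso e ≪≫ bcDInD (Localization.AtPrime 𝔭) M) ≪≫
    rDSingle (algebraMap A (Localization.AtPrime 𝔭)) 0 _⟩

end Chain

section LocTensor

variable {A P B : Type u} [CommRing A] [CommRing P] [CommRing B] [Algebra A P] [Algebra P B]
  [Algebra A B] [IsScalarTower A P B] (𝔭 : Ideal P) [𝔭.IsPrime]

attribute [local instance] Algebra.TensorProduct.rightAlgebra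

omit [𝔭.IsPrime] in
/-- the two actions of `A` on `L ⊗_P B` agree -/
lemma smul_left_eq_right (S : Submonoid P) (a : A) (t : Localization S ⊗[P] B) :
    (algebraMap A (Localization S) a) • t = (1 ⊗ₜ[P] (algebraMap A B a)) * t := by
  induction t using TensorProduct.induction_on with
  | zero => rw [smul_zero, mul_zero]
  | tmul l b =>
    rw [TensorProduct.smul_tmul', Algebra.TensorProduct.tmul_mul_tmul, one_mul, smul_eq_mul,
      IsScalarTower.algebraMap_apply A P (Localization S), ← Algebra.smul_def,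
      TensorProduct.smul_tmul, Algebra.smul_def, ← IsScalarTower.algebraMap_apply]
  | add x y hx hy => rw [smul_add, mul_add, hx, hy]

/-- if `𝔭` does not contain the kernel of `P → B`, then `P_𝔭 ⊗_P B = 0` -/
lemma subsingleton_of_not_le (s : P) (hs : algebraMap P B s = 0) (hs' : s ∉ 𝔭) :
    Subsingleton (Localization.AtPrime 𝔭 ⊗[P] B) := by
  have hu : IsUnit (algebraMap P (Localization.AtPrime 𝔭) s) :=
    IsLocalization.map_units (Localization.AtPrime 𝔭) (⟨s, hs'⟩ : 𝔭.primeCompl)
  obtain ⟨u, hu⟩ := hu.exists_left_inv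
  refine ⟨fun x y => ?_⟩
  suffices h : ∀ t : Localization.AtPrime 𝔭 ⊗[P] B, t = 0 by rw [h x, h y]
  intro t
  induction t using TensorProduct.induction_on with
  | zero => rfl
  | tmul l b =>
    have h1 : l = s • (l * u) := by
      rw [Algebra.smul_def, mul_comm, mul_assoc, hu, mul_one]
    rw [h1, TensorProduct.smul_tmul, Algebra.smul_def, hs, zero_mul, TensorProduct.tmul_zero]
  | add x y hx hy => rw [hx, hy, add_zero]

/-- the localization at a prime of `P` of a quotient `B` of `P` whose local rings have finite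
tor dimension over `A` has finite tor dimension over `A` -/
theorem exists_amp_loc (hsurj : Function.Surjective (algebraMap P B))
    (hloc : ∀ (𝔮 : Ideal B) [𝔮.IsPrime], DRing.HasFiniteTorDim A (Localization.AtPrime 𝔮)) :
    ∃ d : ℕ, DRing.HasTorAmplitudeIn A (-(d : ℤ)) 0
      ((singleFunctor (ModuleCat.{u} A) 0).obj
        ((rF (algebraMap A (Localization.AtPrime 𝔭))).obj
          (ModuleCat.of (Localization.AtPrime 𝔭) (Localization.AtPrime 𝔭 ⊗[P] B)))) := by
  by_cases hk : RingHom.ker (algebraMap P B) ≤ 𝔭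
  · let 𝔮 : Ideal B := Ideal.map (algebraMap P B) 𝔭
    haveI h𝔮 : 𝔮.IsPrime := Ideal.map_isPrime_of_surjective hsurj hk
    have hcomap : 𝔮.comap (algebraMap P B) = 𝔭 := by
      rw [Ideal.comap_map_of_surjective _ hsurj]
      exact sup_eq_left.2 hk
    have hsub : Algebra.algebraMapSubmonoid B 𝔭.primeCompl = 𝔮.primeCompl := by
      ext x
      constructor
      · rintro ⟨p, hp, rfl⟩ hx
        apply hp
        rw [← hcomap]
        exact hx
      · intro hx
        obtain ⟨p, rfl⟩ := hsurj x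
        refine ⟨p, fun hp => hx ?_, rfl⟩
        exact Ideal.mem_map_of_mem _ hp
    haveI loc : IsLocalization (Algebra.algebraMapSubmonoid B 𝔭.primeCompl)
        (Localization.AtPrime 𝔭 ⊗[P] B) :=
      IsLocalization.tensorRight (R := P) (S := B) (Localization.AtPrime 𝔭) 𝔭.primeCompl
    haveI loc' : IsLocalization 𝔮.primeCompl (Localization.AtPrime 𝔭 ⊗[P] B) := hsub ▸ loc
    let e : Localization.AtPrime 𝔮 ≃ₐ[B] Localization.AtPrime 𝔭 ⊗[P] B :=
      IsLocalization.algEquiv 𝔮.primeCompl _ _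
    let e' : Localization.AtPrime 𝔮 ≃ₗ[A]
        ((rF (algebraMap A (Localization.AtPrime 𝔭))).obj
          (ModuleCat.of (Localization.AtPrime 𝔭) (Localization.AtPrime 𝔭 ⊗[P] B))) :=
      { toFun := fun x => e x
        invFun := fun y => e.symm y
        left_inv := fun x => e.symm_apply_apply x
        right_inv := fun y => e.apply_symm_apply y
        map_add' := fun x y => map_add e x y
        map_smul' := fun a x => by
          show e (a • x) = (algebraMap A (Localization.AtPrime 𝔭) a) • (e x)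
          rw [smul_left_eq_right, ← algebraMap_smul B a x, map_smul, Algebra.smul_def]
          rfl }
    have h1 := hasFiniteTorDim_of_linearEquiv e' (hloc 𝔮)
    obtain ⟨d, hd⟩ := (hasFiniteTorDim_iff _).1 h1
    exact ⟨d, hd⟩
  · obtain ⟨s, hs, hs'⟩ := Set.not_subset.1 hk
    haveI := subsingleton_of_not_le 𝔭 s hs hs'
    refine ⟨0, hasTorAmplitudeIn_of_isZero ?_ _ _⟩
    apply Functor.map_isZero
    apply Functor.map_isZero
    exact ModuleCat.isZero_of_subsingleton _

end LocTensor

section Main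

variable {A B : Type u} [CommRing A] [CommRing B] [Algebra A B]

/-- **a pseudo-coherent ring map with local rings of finite tor dimension has finite tor
dimension** -/
theorem hasFiniteTorDim_of_local (hpc : MoreMor.IsPseudoCoherentHom A B)
    (hloc : ∀ (𝔮 : Ideal B) [𝔮.IsPrime], DRing.HasFiniteTorDim A (Localization.AtPrime 𝔮)) :
    DRing.HasFiniteTorDim A B := by
  obtain ⟨n, π, hπ, hpcm⟩ := hpc
  letI algPB : Algebra (MvPolynomial (Fin n) A) B := π.toRingHom.toAlgebra
  haveI : IsScalarTower A (MvPolynomial (Fin n) A) B :=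
    IsScalarTower.of_algebraMap_eq (fun a => (π.commutes a).symm)
  obtain ⟨E, b, hv, hff, ⟨e⟩⟩ := hpcm
  have hπ' : Function.Surjective (algebraMap (MvPolynomial (Fin n) A) B) := hπ
  -- pointwise
  have hpt : ∀ (𝔭 : Ideal (MvPolynomial (Fin n) A)) [𝔭.IsPrime], ∃ d : ℕ,
      DRing.HasTorAmplitudeIn A (-(d : ℤ)) 0 (DRing.toD (Floc (A := A) 𝔭 E)) := by
    intro 𝔭 _
    obtain ⟨d, hd⟩ := exists_amp_loc (A := A) 𝔭 hπ' hloc
    obtain ⟨ε⟩ := nonempty_toD_Floc_iso (A := A) 𝔭 E B e
    exact ⟨d, hasTorAmplitudeIn_of_iso ε.symm _ _ hd⟩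
  -- open neighbourhoods
  have hnhd : ∀ 𝔭 : PrimeSpectrum (MvPolynomial (Fin n) A), ∃ (g : MvPolynomial (Fin n) A)
      (d : ℕ), g ∉ 𝔭.asIdeal ∧ ∀ (𝔭' : Ideal (MvPolynomial (Fin n) A)) [𝔭'.IsPrime], g ∉ 𝔭' →
        DRing.HasTorAmplitudeIn A (-(d : ℤ)) b (DRing.toD (Floc (A := A) 𝔭' E)) := by
    intro 𝔭
    obtain ⟨d, hd⟩ := hpt 𝔭.asIdeal
    obtain ⟨g, hg, hg'⟩ := core (A := A) E b hv hff (-(d : ℤ))
      (fun i hi => exactAt_of_iso_inD E B e i (by omega)) 𝔭.asIdeal 0 hd
    exact ⟨g, d, hg, hg'⟩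
  choose g d hg hgd using hnhd
  -- compactness
  obtain ⟨t, ht⟩ := isCompact_univ.elim_finite_subcover
    (fun 𝔭 : PrimeSpectrum (MvPolynomial (Fin n) A) =>
      (PrimeSpectrum.basicOpen (g 𝔭) : Set (PrimeSpectrum (MvPolynomial (Fin n) A))))
    (fun 𝔭 => (PrimeSpectrum.basicOpen (g 𝔭)).isOpen)
    (fun 𝔭 _ => Set.mem_iUnion.2 ⟨𝔭, hg 𝔭⟩)
  have hall : ∀ (𝔪 : MaximalSpectrum (MvPolynomial (Fin n) A)),
      DRing.HasTorAmplitudeIn A (-((t.sup d : ℕ) : ℤ)) b
        (DRing.toD (Floc (A := A) 𝔪.asIdeal E)) := by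
    intro 𝔪
    have h1 := ht (Set.mem_univ (⟨𝔪.asIdeal, 𝔪.isMaximal.isPrime⟩ : PrimeSpectrum _))
    simp only [Set.mem_iUnion] at h1
    obtain ⟨𝔭, h𝔭t, h𝔭⟩ := h1
    haveI := 𝔪.isMaximal.isPrime
    have h2 := hgd 𝔭 𝔪.asIdeal h𝔭
    have h3 : d 𝔭 ≤ t.sup d := Finset.le_sup h𝔭t
    exact Groth.Agent.Helper3.DRingLib.hasTorAmplitudeIn_mono (by omega) le_rfl h2
  have hup := Groth.Agent.Helper9.RLT3.up (algebraMap A (MvPolynomial (Fin n) A))
    (fun 𝔪 : MaximalSpectrum (MvPolynomial (Fin n) A) => Localization.AtPrime 𝔪.asIdeal)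
    (fun _ => A) (fun _ => RingHom.id A) (fun _ => RingHom.Flat.id A)
    (fun 𝔪 => algebraMap A (Localization.AtPrime 𝔪.asIdeal))
    (fun 𝔪 => RingHom.ext fun a =>
      (IsScalarTower.algebraMap_apply A (MvPolynomial (Fin n) A)
        (Localization.AtPrime 𝔪.asIdeal) a).symm)
    (Groth.Agent.Helper9.RLT2.jointlyFaithful_maximal (MvPolynomial (Fin n) A)) E
    (-((t.sup d : ℕ) : ℤ)) b hall
  -- back to the module
  let eM : ((rF (algebraMap A (MvPolynomial (Fin n) A))).obj
      (ModuleCat.of (MvPolynomial (Fin n) A) B)) ≃ₗ[A] B :=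
    { toFun := fun m => m
      invFun := fun m => m
      map_add' := fun _ _ => rfl
      map_smul' := fun c m => by
        show ((algebraMap A (MvPolynomial (Fin n) A) c) • (show B from m) : B) =
          (c • (show B from m) : B)
        rw [algebraMap_smul]
      left_inv := fun _ => rfl
      right_inv := fun _ => rfl }
  have e1 : DRing.toD ((Groth.Agent.Helper3.DRingLib.rCx
      (algebraMap A (MvPolynomial (Fin n) A))).obj E) ≅ Dual.inD A B :=
    (rDToD (algebraMap A (MvPolynomial (Fin n) A)) E).symm ≪≫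
      (DRing.restrictD (algebraMap A (MvPolynomial (Fin n) A))).mapIso e ≪≫
      rDSingle (algebraMap A (MvPolynomial (Fin n) A)) 0
        (ModuleCat.of (MvPolynomial (Fin n) A) B) ≪≫
      (singleFunctor (ModuleCat.{u} A) 0).mapIso eM.toModuleIso
  exact hasFiniteTorDim_of_amp B _ _ (hasTorAmplitudeIn_of_iso e1 _ _ hup)

end Main

end Groth.Agent.Helper9.TorOpen2
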