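import Mathlib
import Groth.Prelude.Def_SGA3b

set_option autoImplicit false
universe u

namespace Groth.Agent.Helper9.PowConv

open WithConv

variable (R : Type u) [CommRing R] (A : Type u) [CommRing A] [HopfAlgebra R A]

theorem comp_convPow {B : Type u} [CommRing B] [Algebra R B] (h : A →ₐ[R] B)
    (f : WithConv (A →ₐ[R] A)) (n : ℕ) :
    h.comp (f ^ n).ofConv = ((toConv (h.comp f.ofConv)) ^ n).ofConv := by
  induction n with
  | zero =>
    rw [pow_zero, pow_zero]
    ext a
    simp
  | succ n ih =>
    rw [pow_succ, pow_succ, AlgHom.comp_convMul_distrib, ih]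

theorem powConv_zero : SGA3b.powConv R A 0 = (Algebra.ofId R A).comp (Bialgebra.counitAlgHom R A) := by
  unfold SGA3b.powConv
  rw [pow_zero]
  rfl

theorem powConv_one : SGA3b.powConv R A 1 = AlgHom.id R A := by
  unfold SGA3b.powConv
  rw [pow_one]

theorem powConv_mul (m n : ℕ) :
    SGA3b.powConv R A (m * n) = (SGA3b.powConv R A m).comp (SGA3b.powConv R A n) := by
  unfold SGA3b.powConv
  rw [comp_convPow, pow_mul]
  rfl

theorem powConv_add_of_pow_eq_one (p : ℕ) (hp : (toConv (AlgHom.id R A)) ^ p = 1) (k : ℕ) :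
    SGA3b.powConv R A (k + p) = SGA3b.powConv R A k := by
  unfold SGA3b.powConv
  rw [pow_add, hp, mul_one]

theorem powConv_mod (p : ℕ) (hp : (toConv (AlgHom.id R A)) ^ p = 1) (k : ℕ) :
    SGA3b.powConv R A (k % p) = SGA3b.powConv R A k := by
  unfold SGA3b.powConv
  conv_rhs => rw [← Nat.div_add_mod k p, pow_add, pow_mul, hp, one_pow, one_mul]

theorem counit_powConv (n : ℕ) (a : A) :
    Coalgebra.counit (R := R) (SGA3b.powConv R A n a) = Coalgebra.counit (R := R) a := by
  have h := comp_convPow R A (Bialgebra.counitAlgHom R A) (toConv (AlgHom.id R A)) n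
  have h1 : (toConv ((Bialgebra.counitAlgHom R A).comp (toConv (AlgHom.id R A)).ofConv) :
      WithConv (A →ₐ[R] R)) = 1 := by
    apply WithConv.ofConv_injective
    ext a
    simp
  rw [h1, one_pow] at h
  have := congrArg (fun F : A →ₐ[R] R => F a) h
  simpa [SGA3b.powConv] using this

end Groth.Agent.Helper9.PowConv
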