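import Mathlib
import Groth.Prelude.Def_ChGrp
import Groth.Prelude.Def_W4bk4git07Quot

set_option autoImplicit false
set_option linter.unusedSectionVars false

namespace Groth.Agent.Helper9.BalDesc

open CategoryTheory CategoryTheory.Limits MonoidalCategory CartesianMonoidalCategory MonObj GrpObj
  AlgebraicGeometry

universe u

namespace BalProdAux

variable {S : Scheme.{u}} {A B C Y : Over S}

theorem hom_ext_lift₃' {f g : A ⊗ (B ⊗ C) ⟶ Y}
    (h : ∀ (T : Over S) (a : T ⟶ A) (b : T ⟶ B) (c : T ⟶ C),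
      lift a (lift b c) ≫ f = lift a (lift b c) ≫ g) : f = g := by
  have e : lift (fst A (B ⊗ C)) (lift (snd A (B ⊗ C) ≫ fst B C) (snd A (B ⊗ C) ≫ snd B C))
      = 𝟙 (A ⊗ (B ⊗ C)) := by
    rw [← comp_lift, lift_fst_snd, Category.comp_id, lift_fst_snd]
  simpa [e] using h (A ⊗ (B ⊗ C)) (fst _ _) (snd _ _ ≫ fst B C) (snd _ _ ≫ snd B C)

end BalProdAux

section Sch

variable {E Y W : Scheme.{u}} (j : E ⟶ Y) (R : Presieve Y)
  (hR : R ∈ Scheme.fpqcPrecoverage Y)
  (hsec : ∀ ⦃U : Scheme.{u}⦄ (t : U ⟶ Y), R t → ∃ s : U ⟶ E, s ≫ j = t)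

include hR hsec in
/-- a morphism with fpqc-local sections is an epimorphism of schemes -/
theorem epi_of_local_sections (u v : Y ⟶ W) (huv : j ≫ u = j ≫ v) : u = v := by
  have hgen : Sieve.generate R ∈ Scheme.fpqcTopology Y := Precoverage.generate_mem_toGrothendieck hR
  have hsep : Presieve.IsSeparatedFor (yoneda.obj W) R := by
    have h1 : Presieve.IsSheafFor (yoneda.obj W) R := by
      rw [Presieve.isSheafFor_iff_generate]
      exact (GrothendieckTopology.Subcanonical.isSheaf_of_isRepresentable (yoneda.obj W)) _ hgen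
    exact h1.isSeparatedFor
  refine hsep (fun U t _ => t ≫ u) u v ?_ ?_
  · intro U t ht
    rfl
  · intro U t ht
    obtain ⟨s, hs⟩ := hsec t ht
    change t ≫ v = t ≫ u
    rw [← hs, Category.assoc, Category.assoc, huv]

include hR hsec in
/-- a morphism with fpqc-local sections is an effective epimorphism of schemes -/
theorem desc_of_local_sections (f : E ⟶ W)
    (hf : ∀ ⦃T : Scheme.{u}⦄ (e₁ e₂ : T ⟶ E), e₁ ≫ j = e₂ ≫ j → e₁ ≫ f = e₂ ≫ f) :
    ∃ ρ : Y ⟶ W, j ≫ ρ = f := by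
  have hgen : Sieve.generate R ∈ Scheme.fpqcTopology Y := Precoverage.generate_mem_toGrothendieck hR
  have hsh : Presieve.IsSheafFor (yoneda.obj W) R := by
    rw [Presieve.isSheafFor_iff_generate]
    exact (GrothendieckTopology.Subcanonical.isSheaf_of_isRepresentable (yoneda.obj W)) _ hgen
  let x : Presieve.FamilyOfElements (yoneda.obj W) R := fun U t ht => (hsec t ht).choose ≫ f
  have hx : ∀ ⦃U : Scheme.{u}⦄ (t : U ⟶ Y) (ht : R t), (hsec t ht).choose ≫ j = t :=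
    fun U t ht => (hsec t ht).choose_spec
  have hcomp : x.Compatible := by
    intro Y₁ Y₂ Z g₁ g₂ f₁ f₂ h₁ h₂ hc
    change g₁ ≫ (hsec f₁ h₁).choose ≫ f = g₂ ≫ (hsec f₂ h₂).choose ≫ f
    rw [← Category.assoc, ← Category.assoc]
    apply hf
    rw [Category.assoc, Category.assoc, hx f₁ h₁, hx f₂ h₂, hc]
  obtain ⟨ρ, hρ, -⟩ := hsh x hcomp
  have hρ' : ∀ ⦃U : Scheme.{u}⦄ (t : U ⟶ Y) (ht : R t), t ≫ ρ = (hsec t ht).choose ≫ f :=
    fun U t ht => hρ t ht
  refine ⟨ρ, ?_⟩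
  have hR' : R.pullbackArrows j ∈ Scheme.fpqcPrecoverage E := Precoverage.pullbackArrows_mem j hR
  have hgen' : Sieve.generate (R.pullbackArrows j) ∈ Scheme.fpqcTopology E :=
    Precoverage.generate_mem_toGrothendieck hR'
  have hsep : Presieve.IsSeparatedFor (yoneda.obj W) (R.pullbackArrows j) := by
    have h1 : Presieve.IsSheafFor (yoneda.obj W) (R.pullbackArrows j) := by
      rw [Presieve.isSheafFor_iff_generate]
      exact (GrothendieckTopology.Subcanonical.isSheaf_of_isRepresentable (yoneda.obj W)) _ hgen'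
    exact h1.isSeparatedFor
  refine hsep (fun U t _ => t ≫ f) (j ≫ ρ) f ?_ ?_
  · rintro U t ⟨V, k, hk⟩
    change pullback.snd k j ≫ j ≫ ρ = pullback.snd k j ≫ f
    rw [← pullback.condition_assoc, hρ' k hk, ← Category.assoc]
    apply hf
    rw [Category.assoc, hx k hk, pullback.condition]
  · intro U t ht
    rfl

end Sch

section Ov

variable {S : Scheme.{u}} {E B W : Over S} (j : E ⟶ B)
  (hloc : NonAbH1.IsLocallyTrivialFor Scheme.fppfPrecoverage (Over.mk j.left : Over B.left))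

include hloc in
theorem over_epi (u v : B ⟶ W) (huv : j ≫ u = j ≫ v) : u = v := by
  obtain ⟨R, hR, hsec⟩ := hloc
  ext
  refine epi_of_local_sections j.left R (Scheme.fppfPrecoverage_le_fpqcPrecoverage _ hR)
    (fun U t ht => hsec t ht) u.left v.left ?_
  rw [← Over.comp_left, ← Over.comp_left, huv]

include hloc in
theorem over_desc_aux (f : E ⟶ W)
    (hf : ∀ ⦃T : Over S⦄ (e₁ e₂ : T ⟶ E), e₁ ≫ j = e₂ ≫ j → e₁ ≫ f = e₂ ≫ f) :
    ∃ ρ : B ⟶ W, j ≫ ρ = f := by
  obtain ⟨R, hR, hsec⟩ := hloc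
  have hR' := Scheme.fppfPrecoverage_le_fpqcPrecoverage _ hR
  obtain ⟨ρ, hρ⟩ := desc_of_local_sections j.left R hR' (fun U t ht => hsec t ht) f.left (by
    intro T e₁ e₂ h12
    let T' : Over S := Over.mk (e₁ ≫ E.hom)
    let e₁' : T' ⟶ E := Over.homMk e₁ rfl
    let e₂' : T' ⟶ E := Over.homMk e₂ (by
      change e₂ ≫ E.hom = e₁ ≫ E.hom
      rw [← Over.w j, ← Category.assoc, ← h12, Category.assoc])
    have h1 : e₁' ≫ j = e₂' ≫ j := by
      ext
      exact h12
    exact congrArg CommaMorphism.left (hf e₁' e₂' h1))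
  have hw : ρ ≫ W.hom = B.hom := by
    refine epi_of_local_sections j.left R hR' (fun U t ht => hsec t ht) _ _ ?_
    rw [← Category.assoc, hρ, Over.w, Over.w]
  refine ⟨Over.homMk ρ hw, ?_⟩
  ext
  exact hρ

variable {H : Over S} [GrpObj H] (aE : AlgGrp.Action H E)
  (hpb : IsPullback aE.act (snd H E) j j)

include hloc hpb in
theorem over_desc (f : E ⟶ W) (hf : aE.act ≫ f = snd H E ≫ f) :
    ∃ ρ : B ⟶ W, j ≫ ρ = f := by
  apply over_desc_aux j hloc f
  intro T e₁ e₂ h12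
  rw [← hpb.lift_fst e₁ e₂ h12, Category.assoc, hf, ← Category.assoc, hpb.lift_snd]

include hloc in
theorem whisker_loc (G : Over S) :
    NonAbH1.IsLocallyTrivialFor Scheme.fppfPrecoverage
      (Over.mk (G ◁ j).left : Over (G ⊗ B).left) := by
  obtain ⟨R, hR, hsec⟩ := hloc
  refine ⟨R.pullbackArrows (snd G B).left, Precoverage.pullbackArrows_mem _ hR, ?_⟩
  rintro V t ⟨U, k, hk⟩
  obtain ⟨s, hs⟩ := hsec k hk
  change s ≫ j.left = k at hs
  let T : Over S := Over.mk (pullback.snd k (snd G B).left ≫ (G ⊗ B).hom)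
  let p : T ⟶ G ⊗ B := Over.homMk (pullback.snd k (snd G B).left) rfl
  let e : T ⟶ E := Over.homMk (pullback.fst k (snd G B).left ≫ s) (by
    change (pullback.fst k (snd G B).left ≫ s) ≫ E.hom = pullback.snd k (snd G B).left ≫ (G ⊗ B).hom
    rw [← Over.w j, Category.assoc, reassoc_of% hs, pullback.condition_assoc, Over.w])
  have he : e ≫ j = p ≫ snd G B := by
    ext
    change (pullback.fst k (snd G B).left ≫ s) ≫ j.left = pullback.snd k (snd G B).left ≫ (snd G B).left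
    rw [Category.assoc, hs, pullback.condition]
  refine ⟨(lift (p ≫ fst G B) e).left, ?_⟩
  change (lift (p ≫ fst G B) e).left ≫ (G ◁ j).left = pullback.snd k (snd G B).left
  have h1 : lift (p ≫ fst G B) e ≫ (G ◁ j) = p := by
    rw [lift_whiskerLeft, he, ← comp_lift, lift_fst_snd, Category.comp_id]
  exact congrArg CommaMorphism.left h1

end Ov

section Quot

variable {S : Scheme.{u}} {G H Z Y P Q : Over S} [GrpObj G] [GrpObj H]
    (i : H ⟶ G) [IsMonHom i]
    (aZ : AlgGrp.Action H Z) (aY : AlgGrp.Action G Y) (j : G ⊗ Z ⟶ Y)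
    (hY : ChGrp.IsBalProd Scheme.fppfPrecoverage i aZ aY j)

include hY in
theorem j_twist {T : Over S} (h : T ⟶ H) (g : T ⟶ G) (z : T ⟶ Z) :
    lift (g * (h ≫ i)⁻¹) (lift h z ≫ aZ.act) ≫ j = lift g z ≫ j := by
  have h1 := congrArg (fun f => lift h (lift g z) ≫ f) hY.2.1.w
  beta_reduce at h1
  rwa [ChGrp.lift_twist_act_assoc, lift_snd_assoc] at h1

include hY in
theorem j_equiv {T : Over S} (g' g : T ⟶ G) (z : T ⟶ Z) :
    lift (g' * g) z ≫ j = lift g' (lift g z ≫ j) ≫ aY.act := by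
  have h0 : ((NonAbH1.trivialAction G).prod (AlgGrp.Action.trivial G Z)).act ≫ j
      = (G ◁ j) ≫ aY.act := hY.1
  have h1 := congrArg (fun f => lift g' (lift g z) ≫ f) h0
  beta_reduce at h1
  have e1 : lift g' g ≫ (NonAbH1.trivialAction G).act = g' * g := by
    change lift g' g ≫ μ[G] = _
    rw [Hom.mul_def]
  rwa [AlgGrp.Action.lift_prod_act_assoc, e1, AlgGrp.Action.lift_trivial_act,
    lift_whiskerLeft_assoc] at h1

include hY in
theorem catQuot_iso (πZ : Z ⟶ P) (hP : GIT.IsCatQuot aZ πZ) (πY : Y ⟶ Q)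
    (hQ : GIT.IsCatQuot aY πY) :
    ∃ (φ : P ⟶ Q) (χ : Q ⟶ P), φ ≫ χ = 𝟙 P ∧ χ ≫ φ = 𝟙 Q ∧
      πZ ≫ φ = lift (toUnit Z ≫ η[G]) (𝟙 Z) ≫ j ≫ πY ∧ j ≫ πY ≫ χ = snd G Z ≫ πZ := by
  obtain ⟨hPinv, hPuniv⟩ := hP
  obtain ⟨hQinv, hQuniv⟩ := hQ
  have hPinv' : aZ.act ≫ πZ = snd H Z ≫ πZ := hPinv
  have hQinv' : aY.act ≫ πY = snd G Y ≫ πY := hQinv
  have hpt : ∀ {T : Over S} (u : T ⟶ Z), u ≫ lift (toUnit Z ≫ η[G]) (𝟙 Z) = lift (1 : T ⟶ G) u := by
    intro T u
    rw [comp_lift, Category.comp_id, ← Category.assoc, toUnit_unique (u ≫ toUnit Z) (toUnit T),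
      Hom.one_def]
  have hpt' : ∀ {T W : Over S} (u : T ⟶ Z) (k : G ⊗ Z ⟶ W),
      u ≫ lift (toUnit Z ≫ η[G]) (𝟙 Z) ≫ k = lift (1 : T ⟶ G) u ≫ k := by
    intro T W u k
    rw [← Category.assoc, hpt]
  -- step 1
  have hψ₁ : GIT.IsInvariant aZ (lift (toUnit Z ≫ η[G]) (𝟙 Z) ≫ j ≫ πY) := by
    change aZ.act ≫ _ = snd H Z ≫ _
    apply AlgGrp.Action.hom_ext_lift₂
    intro T h z
    rw [lift_snd_assoc, ← Category.assoc (lift h z), hpt', hpt']
    have h1 := j_twist i aZ aY j hY h (h ≫ i) z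
    rw [mul_inv_cancel] at h1
    have h2 := j_equiv i aZ aY j hY (h ≫ i) 1 z
    rw [_root_.mul_one] at h2
    rw [← Category.assoc _ j, h1, h2, Category.assoc, hQinv', lift_snd_assoc,
      Category.assoc]
  obtain ⟨φ, hφ, -⟩ := hPuniv Q _ hψ₁
  -- step 2
  obtain ⟨ρ, hρ⟩ := over_desc j hY.2.2 (ChGrp.twist i aZ) hY.2.1 (snd G Z ≫ πZ) (by
    apply BalProdAux.hom_ext_lift₃'
    intro T h g z
    rw [ChGrp.lift_twist_act_assoc, lift_snd_assoc, lift_snd_assoc, lift_snd_assoc, Category.assoc,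
      hPinv', lift_snd_assoc])
  -- step 3
  have hρinv : GIT.IsInvariant aY ρ := by
    change aY.act ≫ ρ = snd G Y ≫ ρ
    apply over_epi (G ◁ j) (whisker_loc j hY.2.2 G)
    apply BalProdAux.hom_ext_lift₃'
    intro T g' g z
    rw [lift_whiskerLeft_assoc, lift_whiskerLeft_assoc, lift_snd_assoc, ← Category.assoc,
      ← j_equiv i aZ aY j hY, Category.assoc, Category.assoc, hρ, lift_snd_assoc, lift_snd_assoc]
  obtain ⟨χ, hχ, -⟩ := hQuniv P ρ hρinv
  refine ⟨φ, χ, ?_, ?_, hφ, ?_⟩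
  · apply (hPuniv P πZ hPinv).unique
    · rw [← Category.assoc, hφ, Category.assoc, Category.assoc, hχ, hρ, lift_snd_assoc,
        Category.id_comp]
    · rw [Category.comp_id]
  · apply (hQuniv Q πY hQinv).unique
    · rw [← Category.assoc, hχ]
      apply over_epi j hY.2.2
      rw [← Category.assoc, hρ, Category.assoc, hφ]
      apply AlgGrp.Action.hom_ext_lift₂
      intro T g z
      rw [lift_snd_assoc, hpt']
      have h2 := j_equiv i aZ aY j hY g 1 z
      rw [_root_.mul_one] at h2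
      rw [← Category.assoc (lift g z), h2, Category.assoc, hQinv', lift_snd_assoc, Category.assoc]
    · rw [Category.comp_id]
  · rw [hχ, hρ]

end Quot

end Groth.Agent.Helper9.BalDesc
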