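import Mathlib
import Groth.Prelude.Def_ChGrp
import Groth.Agent.Helper9.BalDesc
import Groth.Agent.Helper9.FppfLocal

set_option autoImplicit false
set_option linter.unusedSectionVars false

namespace Groth.Agent.Helper9.BalFix

open CategoryTheory CategoryTheory.Limits MonoidalCategory CartesianMonoidalCategory MonObj GrpObj
  AlgebraicGeometry
open Groth.Agent.Helper9.BalDesc

universe u

section Sch

theorem isSep_yoneda {T W : Scheme.{u}} (R : Presieve T) (hR : R ∈ Scheme.fpqcPrecoverage T) :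
    Presieve.IsSeparatedFor (yoneda.obj W) R := by
  have hgen : Sieve.generate R ∈ Scheme.fpqcTopology T := Precoverage.generate_mem_toGrothendieck hR
  have h1 : Presieve.IsSheafFor (yoneda.obj W) R := by
    rw [Presieve.isSheafFor_iff_generate]
    exact (GrothendieckTopology.Subcanonical.isSheaf_of_isRepresentable (yoneda.obj W)) _ hgen
  exact h1.isSeparatedFor

theorem eq_of_local {T W : Scheme.{u}} (R : Presieve T) (hR : R ∈ Scheme.fpqcPrecoverage T)
    (u v : T ⟶ W) (h : ∀ ⦃V : Scheme.{u}⦄ (t : V ⟶ T), R t → t ≫ u = t ≫ v) : u = v := by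
  refine isSep_yoneda R hR (fun V t _ => t ≫ u) u v ?_ ?_
  · intro V t ht
    rfl
  · intro V t ht
    exact (h t ht).symm

variable {E' Y' : Scheme.{u}} (j' : E' ⟶ Y') (R' : Presieve Y')
  (hR' : R' ∈ Scheme.fpqcPrecoverage Y')
  (hsec : ∀ ⦃U : Scheme.{u}⦄ (t : U ⟶ Y'), R' t → ∃ s : U ⟶ E', s ≫ j' = t)

include hR' hsec in
theorem eq_of_local_lift {T : Scheme.{u}} (u v : T ⟶ Y')
    (H : ∀ ⦃V : Scheme.{u}⦄ (t : V ⟶ T) (e₁ e₂ : V ⟶ E'), e₁ ≫ j' = t ≫ u → e₂ ≫ j' = t ≫ v →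
      t ≫ u = t ≫ v) : u = v := by
  apply eq_of_local (R'.pullbackArrows u) (Precoverage.pullbackArrows_mem u hR')
  rintro V₁ t₁ ⟨U₁, k₁, hk₁⟩
  obtain ⟨s₁, hs₁⟩ := hsec k₁ hk₁
  apply eq_of_local (R'.pullbackArrows (pullback.snd k₁ u ≫ v))
    (Precoverage.pullbackArrows_mem _ hR')
  rintro V₂ t₂ ⟨U₂, k₂, hk₂⟩
  obtain ⟨s₂, hs₂⟩ := hsec k₂ hk₂
  rw [← Category.assoc, ← Category.assoc]
  refine H _ (pullback.snd k₂ (pullback.snd k₁ u ≫ v) ≫ pullback.fst k₁ u ≫ s₁)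
    (pullback.fst k₂ (pullback.snd k₁ u ≫ v) ≫ s₂) ?_ ?_
  · rw [Category.assoc, Category.assoc, hs₁, pullback.condition, Category.assoc]
  · rw [Category.assoc, hs₂, pullback.condition, Category.assoc]

include hR' hsec in
theorem mono_of_local {Y : Scheme.{u}} (m : Y' ⟶ Y)
    (H : ∀ ⦃V : Scheme.{u}⦄ (e₁ e₂ : V ⟶ E'), e₁ ≫ j' ≫ m = e₂ ≫ j' ≫ m → e₁ ≫ j' = e₂ ≫ j') :
    Mono m := by
  refine ⟨fun {T} u v huv => ?_⟩
  apply eq_of_local_lift j' R' hR' hsec u v
  intro V t e₁ e₂ h₁ h₂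
  rw [← h₁, ← h₂]
  apply H
  rw [← Category.assoc, ← Category.assoc, h₁, h₂, Category.assoc, Category.assoc, huv]

theorem factors_of_local {Y'' Y T : Scheme.{u}} (m : Y'' ⟶ Y) [Mono m] (y : T ⟶ Y)
    (R : Presieve T) (hR : R ∈ Scheme.fpqcPrecoverage T)
    (hlift : ∀ ⦃V : Scheme.{u}⦄ (t : V ⟶ T), R t → ∃ x : V ⟶ Y'', x ≫ m = t ≫ y) :
    ∃ y' : T ⟶ Y'', y' ≫ m = y := by
  have hgen : Sieve.generate R ∈ Scheme.fpqcTopology T := Precoverage.generate_mem_toGrothendieck hR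
  have hsh : Presieve.IsSheafFor (yoneda.obj Y'') R := by
    rw [Presieve.isSheafFor_iff_generate]
    exact (GrothendieckTopology.Subcanonical.isSheaf_of_isRepresentable (yoneda.obj Y'')) _ hgen
  let x : Presieve.FamilyOfElements (yoneda.obj Y'') R := fun V t ht => (hlift t ht).choose
  have hx : ∀ ⦃V : Scheme.{u}⦄ (t : V ⟶ T) (ht : R t), x t ht ≫ m = t ≫ y :=
    fun V t ht => (hlift t ht).choose_spec
  have hcomp : x.Compatible := by
    intro Y₁ Y₂ Z g₁ g₂ f₁ f₂ h₁ h₂ hc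
    change g₁ ≫ x f₁ h₁ = g₂ ≫ x f₂ h₂
    rw [← cancel_mono m, Category.assoc, Category.assoc, hx f₁ h₁, hx f₂ h₂, ← Category.assoc,
      ← Category.assoc, hc]
  obtain ⟨g, hg, -⟩ := hsh x hcomp
  have hg' : ∀ ⦃V : Scheme.{u}⦄ (t : V ⟶ T) (ht : R t), t ≫ g = x t ht := fun V t ht => hg t ht
  refine ⟨g, ?_⟩
  apply eq_of_local R hR
  intro V t ht
  rw [← Category.assoc, hg' t ht, hx t ht]

end Sch

section Gen

variable {S : Scheme.{u}} {G H Z Y : Over S} [GrpObj G] [GrpObj H]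
    (i : H ⟶ G) [IsMonHom i]
    (aZ : AlgGrp.Action H Z) (aY : AlgGrp.Action G Y) (j : G ⊗ Z ⟶ Y)
    (hY : ChGrp.IsBalProd Scheme.fppfPrecoverage i aZ aY j)

include hY in
theorem exists_twist {T : Over S} (p₁ p₂ : T ⟶ G ⊗ Z) (h12 : p₁ ≫ j = p₂ ≫ j) :
    ∃ h : T ⟶ H, lift h p₂ ≫ (ChGrp.twist i aZ).act = p₁ := by
  have hpb := hY.2.1
  refine ⟨hpb.lift p₁ p₂ h12 ≫ fst _ _, ?_⟩
  have h1 := hpb.lift_fst p₁ p₂ h12
  have h2 := hpb.lift_snd p₁ p₂ h12
  have h3 : lift (hpb.lift p₁ p₂ h12 ≫ fst _ _) p₂ = hpb.lift p₁ p₂ h12 := by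
    ext1
    · rw [lift_fst]
    · rw [lift_snd, h2]
  rw [h3, h1]

end Gen

section Main

variable {S : Scheme.{u}} {Q G X Xh Y Y' : Over S} [GrpObj Q] [GrpObj G]
    (i : G ⟶ Q) [IsMonHom i] [Mono i]
    (h : 𝟙_ (Over S) ⟶ G)
    (hcent : ∀ (T : Over S) (q : T ⟶ Q), q * (toUnit T ≫ h ≫ i) = (toUnit T ≫ h ≫ i) * q)
    (a : AlgGrp.Action G X)
    (incl : Xh ⟶ X) [Mono incl]
    (hXh : ∀ (T : Over S) (x : T ⟶ X),
      (∃ y : T ⟶ Xh, y ≫ incl = x) ↔ lift (toUnit T ≫ h) x ≫ a.act = x)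
    (aXh : AlgGrp.Action G Xh) (hincl : AlgGrp.Action.IsEquivariant aXh a incl)
    (aY : AlgGrp.Action Q Y) (j : Q ⊗ X ⟶ Y)
    (hY : ChGrp.IsBalProd Scheme.fppfPrecoverage i a aY j)
    (aY' : AlgGrp.Action Q Y') (j' : Q ⊗ Xh ⟶ Y')
    (hY' : ChGrp.IsBalProd Scheme.fppfPrecoverage i aXh aY' j')
    (m : Y' ⟶ Y) (hm : j' ≫ m = (Q ◁ incl) ≫ j)

include hincl in
theorem incl_pt {T : Over S} (g : T ⟶ G) (x : T ⟶ Xh) :
    (lift g x ≫ aXh.act) ≫ incl = lift g (x ≫ incl) ≫ a.act := by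
  have h1 : aXh.act ≫ incl = (G ◁ incl) ≫ a.act := hincl
  rw [Category.assoc, h1, lift_whiskerLeft_assoc]

include hm in
theorem jm_pt {T : Over S} (q : T ⟶ Q) (x : T ⟶ Xh) :
    lift q x ≫ j' ≫ m = lift q (x ≫ incl) ≫ j := by
  rw [hm, lift_whiskerLeft_assoc]

include hincl hY hY' hm in
theorem j'_eq_of_m_eq {T : Over S} (e₁ e₂ : T ⟶ Q ⊗ Xh)
    (h12 : e₁ ≫ j' ≫ m = e₂ ≫ j' ≫ m) : e₁ ≫ j' = e₂ ≫ j' := by
  have e1 : ∀ p : T ⟶ Q ⊗ Xh, p = lift (p ≫ fst _ _) (p ≫ snd _ _) := by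
    intro p
    rw [← comp_lift, lift_fst_snd, Category.comp_id]
  rw [e1 e₁, e1 e₂, jm_pt incl j j' m hm, jm_pt incl j j' m hm] at h12
  obtain ⟨g, hg⟩ := exists_twist i a aY j hY _ _ h12
  rw [ChGrp.lift_twist_act] at hg
  have h4 := congrArg (fun f => f ≫ fst _ _) hg
  have h5 := congrArg (fun f => f ≫ snd _ _) hg
  simp only [lift_fst, lift_snd] at h4 h5
  rw [← incl_pt a incl aXh hincl, cancel_mono] at h5
  have h6 : lift g e₂ ≫ (ChGrp.twist i aXh).act = e₁ := by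
    rw [e1 e₂, ChGrp.lift_twist_act, e1 e₁, h4, h5]
  rw [← h6, Category.assoc, hY'.2.1.w, lift_snd_assoc]

include hincl hY hY' hm in
theorem mono_m_left : Mono m.left := by
  obtain ⟨R', hR', hsec'⟩ := hY'.2.2
  · refine mono_of_local j'.left R' (Scheme.fppfPrecoverage_le_fpqcPrecoverage _ hR')
      (fun U t ht => hsec' t ht) m.left ?_
    intro V e₁ e₂ h12
    let T' : Over S := Over.mk (e₁ ≫ (Q ⊗ Xh).hom)
    let e₁' : T' ⟶ Q ⊗ Xh := Over.homMk e₁ rfl
    let e₂' : T' ⟶ Q ⊗ Xh := Over.homMk e₂ (by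
      change e₂ ≫ (Q ⊗ Xh).hom = e₁ ≫ (Q ⊗ Xh).hom
      rw [← Over.w (j' ≫ m), Over.comp_left]
      simp only [Category.assoc]
      rw [reassoc_of% h12])
    have h1 : e₁' ≫ j' ≫ m = e₂' ≫ j' ≫ m := by
      ext
      exact h12
    exact congrArg CommaMorphism.left
      (j'_eq_of_m_eq i a incl aXh hincl aY j hY aY' j' hY' m hm e₁' e₂' h1)

include hincl hY hY' hm in
theorem mono_m : Mono m := by
  haveI := mono_m_left i a incl aXh hincl aY j hY aY' j' hY' m hm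
  exact (Over.forget S).mono_of_mono_map (by change Mono m.left; infer_instance)

include hcent hXh hY hY' hm in
theorem fixed_of_m : lift (toUnit Y' ≫ h ≫ i) m ≫ aY.act = m := by
  apply over_epi j' hY'.2.2
  apply AlgGrp.Action.hom_ext_lift₂
  intro T q x
  have hpt : ∀ (w : T ⟶ Y'), w ≫ lift (toUnit Y' ≫ h ≫ i) m
      = lift (toUnit T ≫ h ≫ i) (w ≫ m) := by
    intro w
    rw [comp_lift, ← Category.assoc w, toUnit_unique (w ≫ toUnit Y') (toUnit T)]
  rw [← Category.assoc, ← Category.assoc, hpt, Category.assoc,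
    jm_pt incl j j' m hm, ← j_equiv i a aY j hY, ← hcent]
  have h1 := j_twist i a aY j hY (toUnit T ≫ h) (q * (toUnit T ≫ h ≫ i)) (x ≫ incl)
  rw [(hXh T (x ≫ incl)).mp ⟨x, rfl⟩, Category.assoc, mul_inv_cancel_right] at h1
  exact h1.symm

include hcent hXh hY in
theorem fixed_lift {T : Over S} (p : T ⟶ Q ⊗ X)
    (hfix : lift (toUnit T ≫ h ≫ i) (p ≫ j) ≫ aY.act = p ≫ j) :
    ∃ x'' : T ⟶ Xh, x'' ≫ incl = p ≫ snd Q X := by
  have e1 : p = lift (p ≫ fst _ _) (p ≫ snd _ _) := by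
    rw [← comp_lift, lift_fst_snd, Category.comp_id]
  rw [e1, ← j_equiv i a aY j hY, ← hcent] at hfix
  obtain ⟨g, hg⟩ := exists_twist i a aY j hY _ _ hfix
  rw [ChGrp.lift_twist_act] at hg
  have h4 := congrArg (fun f => f ≫ fst _ _) hg
  have h5 := congrArg (fun f => f ≫ snd _ _) hg
  simp only [lift_fst, lift_snd] at h4 h5
  rw [mul_right_inj, ← Category.assoc, ← GrpObj.inv_comp, cancel_mono] at h4
  apply (hXh T (p ≫ snd Q X)).mpr
  rw [← h4]
  calc lift g⁻¹ (p ≫ snd Q X) ≫ a.act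
      = lift g⁻¹ (lift g (p ≫ snd Q X) ≫ a.act) ≫ a.act := by rw [h5]
    _ = p ≫ snd Q X := by
      rw [← AlgGrp.Action.lift_mul_act, inv_mul_cancel, AlgGrp.Action.lift_one_act]

include hcent hXh hincl hY hY' hm in
theorem part2 (T : Over S) (y : T ⟶ Y) :
    (∃ y' : T ⟶ Y', y' ≫ m = y) ↔ lift (toUnit T ≫ h ≫ i) y ≫ aY.act = y := by
  constructor
  · rintro ⟨y', rfl⟩
    have h1 := congrArg (fun f => y' ≫ f)
      (fixed_of_m i h hcent a incl hXh aXh aY j hY aY' j' hY' m hm)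
    beta_reduce at h1
    rw [← Category.assoc, comp_lift, ← Category.assoc y',
      toUnit_unique (y' ≫ toUnit Y') (toUnit T)] at h1
    exact h1
  · intro hfix
    obtain ⟨R, hR, hsec⟩ := hY.2.2
    haveI := mono_m_left i a incl aXh hincl aY j hY aY' j' hY' m hm
    have hex : ∃ y'' : T.left ⟶ Y'.left, y'' ≫ m.left = y.left := by
      apply factors_of_local m.left y.left (R.pullbackArrows y.left)
        (Precoverage.pullbackArrows_mem _ (Scheme.fppfPrecoverage_le_fpqcPrecoverage _ hR))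
      rintro V t ⟨U, k, hk⟩
      obtain ⟨s, hs⟩ := hsec k hk
      change s ≫ j.left = k at hs
      let T' : Over S := Over.mk (pullback.snd k y.left ≫ T.hom)
      let tV : T' ⟶ T := Over.homMk (pullback.snd k y.left) rfl
      let p : T' ⟶ Q ⊗ X := Over.homMk (pullback.fst k y.left ≫ s) (by
        change (pullback.fst k y.left ≫ s) ≫ (Q ⊗ X).hom = pullback.snd k y.left ≫ T.hom
        rw [← Over.w j, Category.assoc, reassoc_of% hs, pullback.condition_assoc, Over.w y])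
      have hp : p ≫ j = tV ≫ y := by
        ext
        change (pullback.fst k y.left ≫ s) ≫ j.left = pullback.snd k y.left ≫ y.left
        rw [Category.assoc, hs, pullback.condition]
      have hfix' : lift (toUnit T' ≫ h ≫ i) (p ≫ j) ≫ aY.act = p ≫ j := by
        rw [hp]
        have h1 := congrArg (fun f => tV ≫ f) hfix
        beta_reduce at h1
        rw [← Category.assoc, comp_lift, ← Category.assoc tV,
          toUnit_unique (tV ≫ toUnit T) (toUnit T')] at h1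
        exact h1
      obtain ⟨x'', hx''⟩ := fixed_lift i h hcent a incl hXh aY j hY p hfix'
      refine ⟨(lift (p ≫ fst _ _) x'' ≫ j').left, ?_⟩
      have h2 : (lift (p ≫ fst _ _) x'' ≫ j') ≫ m = tV ≫ y := by
        rw [Category.assoc, jm_pt incl j j' m hm, hx'', ← hp, ← comp_lift, lift_fst_snd,
          Category.comp_id]
      exact congrArg CommaMorphism.left h2
    obtain ⟨y'', hy''⟩ := hex
    refine ⟨Over.homMk y'' (by rw [← Over.w m, ← Category.assoc, hy'', Over.w]), ?_⟩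
    ext
    exact hy''

omit [GrpObj Q] in
theorem isPullback_whiskerLeft : IsPullback (snd Q Xh) (Q ◁ incl) incl (snd Q X) := by
  refine ⟨⟨(whiskerLeft_snd _ _).symm⟩, ⟨PullbackCone.IsLimit.mk _
    (fun s => lift (s.snd ≫ fst Q X) s.fst) ?_ ?_ ?_⟩⟩
  · intro s
    rw [lift_snd]
  · intro s
    rw [lift_whiskerLeft, s.condition, ← comp_lift, lift_fst_snd, Category.comp_id]
  · intro s m' h1 h2
    ext1
    · rw [lift_fst, ← h2, Category.assoc, whiskerLeft_fst]
    · rw [lift_snd, h1]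

include hcent hXh hincl hY hY' hm in
theorem isPullback_SQ : IsPullback j' (Q ◁ incl) m j := by
  haveI := mono_m i a incl aXh hincl aY j hY aY' j' hY' m hm
  have key : ∀ s : PullbackCone m j, ∃ x'' : s.pt ⟶ Xh, x'' ≫ incl = s.snd ≫ snd Q X := by
    intro s
    apply fixed_lift i h hcent a incl hXh aY j hY s.snd
    rw [← s.condition]
    exact (part2 i h hcent a incl hXh aXh hincl aY j hY aY' j' hY' m hm _ _).mp ⟨s.fst, rfl⟩
  refine ⟨⟨hm⟩, ⟨PullbackCone.IsLimit.mk _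
    (fun s => lift (s.snd ≫ fst Q X) (key s).choose) ?_ ?_ ?_⟩⟩
  · intro s
    rw [← cancel_mono m, Category.assoc, jm_pt incl j j' m hm, (key s).choose_spec, ← comp_lift,
      lift_fst_snd, Category.comp_id, s.condition]
  · intro s
    rw [lift_whiskerLeft, (key s).choose_spec, ← comp_lift, lift_fst_snd, Category.comp_id]
  · intro s m' h1 h2
    ext1
    · rw [lift_fst, ← h2, Category.assoc, whiskerLeft_fst]
    · rw [lift_snd, ← cancel_mono incl, (key s).choose_spec, ← h2, Category.assoc,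
        Category.assoc, whiskerLeft_snd]

include hcent hXh hincl hY hY' hm in
theorem closedImm (hci : IsClosedImmersion incl.left) : IsClosedImmersion m.left := by
  obtain ⟨R, hR, hsec⟩ := hY.2.2
  haveI := mono_m_left i a incl aXh hincl aY j hY aY' j' hY' m hm
  have hQ : IsClosedImmersion (Q ◁ incl).left :=
    MorphismProperty.of_isPullback (P := @IsClosedImmersion)
      ((isPullback_whiskerLeft (Q := Q) incl).map (Over.forget S)) hci
  apply FppfLocal.isClosedImmersion_of_fppf_cover m.left R hR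
  intro U k hk
  obtain ⟨s, hs⟩ := hsec k hk
  change s ≫ j.left = k at hs
  have SQl : IsPullback j'.left (Q ◁ incl).left m.left j.left :=
    (isPullback_SQ i h hcent a incl hXh aXh hincl aY j hY aY' j' hY' m hm).map (Over.forget S)
  have hcond : pullback.fst m.left k ≫ m.left = (pullback.snd m.left k ≫ s) ≫ j.left := by
    rw [pullback.condition, Category.assoc, hs]
  have outer : IsPullback (SQl.lift _ _ hcond ≫ j'.left) (pullback.snd m.left k) m.left
      (s ≫ j.left) := by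
    rw [hs, SQl.lift_fst]
    exact IsPullback.of_hasPullback _ _
  have left := IsPullback.of_right outer (SQl.lift_snd _ _ hcond) SQl
  exact MorphismProperty.of_isPullback (P := @IsClosedImmersion) left hQ

end Main

end Groth.Agent.Helper9.BalFix
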