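import Mathlib
import Groth.Prelude.Def_ChGrp
import Groth.Agent.Helper9.BalDesc

set_option autoImplicit false
set_option linter.unusedSectionVars false

namespace Groth.Agent.Helper9.BalSub

open CategoryTheory CategoryTheory.Limits MonoidalCategory CartesianMonoidalCategory MonObj GrpObj
  AlgebraicGeometry
open Groth.Agent.Helper9.BalDesc

universe u

noncomputable section

section ActMono

variable {S : Scheme.{u}} {H Z Z' : Over S} [GrpObj H] (aZ : AlgGrp.Action H Z)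
  (c' : Z' ⟶ Z) [Mono c'] (act' : H ⊗ Z' ⟶ Z') (hact : act' ≫ c' = (H ◁ c') ≫ aZ.act)

include hact in
theorem act'_pt {T : Over S} (h : T ⟶ H) (z : T ⟶ Z') :
    (lift h z ≫ act') ≫ c' = lift h (z ≫ c') ≫ aZ.act := by
  rw [Category.assoc, hact, lift_whiskerLeft_assoc]

/-- an action restricted to a stable subobject -/
def actOfMono : AlgGrp.Action H Z' where
  act := act'
  one_act := by
    rw [← cancel_mono c', Category.assoc, hact, ← whisker_exchange_assoc, aZ.one_act,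
      leftUnitor_naturality]
  mul_act := by
    apply AlgGrp.Action.hom_ext_lift₃
    intro T h h' z
    rw [← cancel_mono c']
    simp only [Category.assoc]
    rw [lift_whiskerRight_assoc, ← Hom.mul_def, ← Category.assoc, act'_pt aZ c' act' hact,
      lift_lift_associator_hom_assoc, lift_whiskerLeft_assoc, ← Category.assoc,
      act'_pt aZ c' act' hact, act'_pt aZ c' act' hact, AlgGrp.Action.lift_mul_act]

@[simp] theorem actOfMono_act : (actOfMono aZ c' act' hact).act = act' := rfl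

end ActMono

section Main

variable {S : Scheme.{u}} {G H Z Y Y' : Over S} [GrpObj G] [GrpObj H]
    (i : H ⟶ G) [IsMonHom i]
    (aZ : AlgGrp.Action H Z) (aY : AlgGrp.Action G Y) (j : G ⊗ Z ⟶ Y)
    (hY : ChGrp.IsBalProd Scheme.fppfPrecoverage i aZ aY j)
    (c : Y' ⟶ Y) [Mono c]
    (aY' : AlgGrp.Action G Y') (hc : AlgGrp.Action.IsEquivariant aY' aY c)

/-- `z ↦ j(e, z)` -/
def eZ : Z ⟶ Y := lift (toUnit Z ≫ η[G]) (𝟙 Z) ≫ j

omit [IsMonHom i] in
theorem eZ_pt {T : Over S} (u : T ⟶ Z) : u ≫ eZ j = lift (1 : T ⟶ G) u ≫ j := by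
  rw [eZ, ← Category.assoc, comp_lift, Category.comp_id, ← Category.assoc,
    toUnit_unique (u ≫ toUnit Z) (toUnit T), Hom.one_def]

include hc in
theorem c_pt {T : Over S} (g : T ⟶ G) (w : T ⟶ Y') :
    (lift g w ≫ aY'.act) ≫ c = lift g (w ≫ c) ≫ aY.act := by
  have h1 : aY'.act ≫ c = (G ◁ c) ≫ aY.act := hc
  rw [Category.assoc, h1, lift_whiskerLeft_assoc]

/-- the closed subscheme `Z'` of `Z` -/
abbrev Z' : Over S := pullback (eZ j) c
abbrev c' : Z' j c ⟶ Z := pullback.fst (eZ j) c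
abbrev y' : Z' j c ⟶ Y' := pullback.snd (eZ j) c

theorem cond_pt {T : Over S} (z : T ⟶ Z' j c) :
    lift (1 : T ⟶ G) (z ≫ c' j c) ≫ j = (z ≫ y' j c) ≫ c := by
  rw [← eZ_pt, Category.assoc, Category.assoc, pullback.condition]

include hY hc in
theorem act'_wd :
    (lift (fst H (Z' j c)) (snd H (Z' j c) ≫ c' j c) ≫ aZ.act) ≫ eZ j
      = (lift (fst H (Z' j c) ≫ i) (snd H (Z' j c) ≫ y' j c) ≫ aY'.act) ≫ c := by
  apply AlgGrp.Action.hom_ext_lift₂
  intro T h z
  rw [← Category.assoc, ← Category.assoc, ← Category.assoc, ← Category.assoc, comp_lift, comp_lift,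
    lift_fst, lift_fst_assoc, lift_snd_assoc, lift_snd_assoc, eZ_pt, c_pt aY c aY' hc]
  have h1 := j_twist i aZ aY j hY h (h ≫ i) (z ≫ c' j c)
  rw [mul_inv_cancel] at h1
  have h2 := j_equiv i aZ aY j hY (h ≫ i) 1 (z ≫ c' j c)
  rw [_root_.mul_one] at h2
  rw [h1, h2, cond_pt]

/-- the action map on `Z'` -/
def act' : H ⊗ Z' j c ⟶ Z' j c :=
  pullback.lift _ _ (act'_wd i aZ aY j hY c aY' hc)

theorem act'_c' : act' i aZ aY j hY c aY' hc ≫ c' j c = (H ◁ c' j c) ≫ aZ.act := by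
  rw [act', pullback.lift_fst]
  apply AlgGrp.Action.hom_ext_lift₂
  intro T h z
  rw [← Category.assoc, comp_lift, lift_fst, lift_snd_assoc, lift_whiskerLeft_assoc]

theorem act'_y' : act' i aZ aY j hY c aY' hc ≫ y' j c
    = lift (fst H (Z' j c) ≫ i) (snd H (Z' j c) ≫ y' j c) ≫ aY'.act := by
  rw [act', pullback.lift_snd]

/-- the induced action on `Z'` -/
def aZ' : AlgGrp.Action H (Z' j c) :=
  actOfMono aZ (c' j c) (act' i aZ aY j hY c aY' hc) (act'_c' i aZ aY j hY c aY' hc)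

theorem aZ'_equivariant :
    AlgGrp.Action.IsEquivariant (aZ' i aZ aY j hY c aY' hc) aZ (c' j c) :=
  act'_c' i aZ aY j hY c aY' hc

theorem aZ'_pt_c' {T : Over S} (h : T ⟶ H) (z : T ⟶ Z' j c) :
    (lift h z ≫ (aZ' i aZ aY j hY c aY' hc).act) ≫ c' j c = lift h (z ≫ c' j c) ≫ aZ.act :=
  act'_pt aZ (c' j c) _ (act'_c' i aZ aY j hY c aY' hc) h z

theorem aZ'_pt_y' {T : Over S} (h : T ⟶ H) (z : T ⟶ Z' j c) :
    (lift h z ≫ (aZ' i aZ aY j hY c aY' hc).act) ≫ y' j c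
      = lift (h ≫ i) (z ≫ y' j c) ≫ aY'.act := by
  change (lift h z ≫ act' i aZ aY j hY c aY' hc) ≫ y' j c = _
  rw [Category.assoc, act'_y', ← Category.assoc, comp_lift, lift_fst_assoc, lift_snd_assoc]

/-- the map `(g, z') ↦ g • y'(z')` -/
def j' : G ⊗ Z' j c ⟶ Y' := (G ◁ y' j c) ≫ aY'.act

omit [IsMonHom i] in
theorem j'_pt {T : Over S} (g : T ⟶ G) (z : T ⟶ Z' j c) :
    lift g z ≫ j' j c aY' = lift g (z ≫ y' j c) ≫ aY'.act := by
  rw [j', lift_whiskerLeft_assoc]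

include hY hc in
theorem j'_pt_c {T : Over S} (g : T ⟶ G) (z : T ⟶ Z' j c) :
    (lift g z ≫ j' j c aY') ≫ c = lift g (z ≫ c' j c) ≫ j := by
  rw [j'_pt, c_pt aY c aY' hc, ← cond_pt, ← j_equiv i aZ aY j hY, _root_.mul_one]

include hY hc in
theorem j'_c : j' j c aY' ≫ c = (G ◁ c' j c) ≫ j := by
  apply AlgGrp.Action.hom_ext_lift₂
  intro T g z
  rw [← Category.assoc, j'_pt_c i aZ aY j hY c aY' hc, lift_whiskerLeft_assoc]

omit [IsMonHom i] in
theorem j'_equivariant :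
    AlgGrp.Action.IsEquivariant
      ((NonAbH1.trivialAction G).prod (AlgGrp.Action.trivial G (Z' j c))) aY' (j' j c aY') := by
  change ((NonAbH1.trivialAction G).prod (AlgGrp.Action.trivial G (Z' j c))).act ≫ j' j c aY'
    = (G ◁ j' j c aY') ≫ aY'.act
  apply BalProdAux.hom_ext_lift₃'
  intro T g' g z
  have e1 : lift g' g ≫ (NonAbH1.trivialAction G).act = g' * g := by
    change lift g' g ≫ μ[G] = _
    rw [Hom.mul_def]
  rw [AlgGrp.Action.lift_prod_act_assoc, e1, AlgGrp.Action.lift_trivial_act, j'_pt,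
    lift_whiskerLeft_assoc, j'_pt, AlgGrp.Action.lift_mul_act]

theorem twist'_w :
    (ChGrp.twist i (aZ' i aZ aY j hY c aY' hc)).act ≫ j' j c aY'
      = snd H (G ⊗ Z' j c) ≫ j' j c aY' := by
  rw [← cancel_mono c]
  apply BalProdAux.hom_ext_lift₃'
  intro T h g z
  simp only [Category.assoc]
  rw [ChGrp.lift_twist_act_assoc, lift_snd_assoc, ← Category.assoc, ← Category.assoc (lift g z),
    j'_pt_c i aZ aY j hY c aY' hc, j'_pt_c i aZ aY j hY c aY' hc, aZ'_pt_c',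
    j_twist i aZ aY j hY]

theorem key_exists {T : Over S} (p₁ p₂ : T ⟶ G ⊗ Z' j c)
    (h12 : p₁ ≫ j' j c aY' = p₂ ≫ j' j c aY') :
    ∃ h : T ⟶ H, lift h p₂ ≫ (ChGrp.twist i (aZ' i aZ aY j hY c aY' hc)).act = p₁ := by
  have e1 : ∀ p : T ⟶ G ⊗ Z' j c, p = lift (p ≫ fst _ _) (p ≫ snd _ _) := by
    intro p
    rw [← comp_lift, lift_fst_snd, Category.comp_id]
  have h3 := congrArg (fun f => f ≫ c) h12
  beta_reduce at h3
  rw [e1 p₁, e1 p₂, j'_pt_c i aZ aY j hY c aY' hc, j'_pt_c i aZ aY j hY c aY' hc] at h3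
  have hpb := hY.2.1
  have hm1 := hpb.lift_fst _ _ h3
  have hm2 := hpb.lift_snd _ _ h3
  set m := hpb.lift _ _ h3 with hm
  have hm3 : m = lift (m ≫ fst _ _) (lift (p₂ ≫ fst _ _) ((p₂ ≫ snd _ _) ≫ c' j c)) := by
    rw [← hm2, ← comp_lift, lift_fst_snd, Category.comp_id]
  rw [hm3, ChGrp.lift_twist_act] at hm1
  have h4 := congrArg (fun f => f ≫ fst G Z) hm1
  have h5 := congrArg (fun f => f ≫ snd G Z) hm1
  simp only [lift_fst, lift_snd] at h4 h5
  refine ⟨m ≫ fst _ _, ?_⟩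
  rw [e1 p₂, ChGrp.lift_twist_act, e1 p₁]
  congr 1
  rw [← cancel_mono (c' j c), aZ'_pt_c', h5]

theorem key_unique {T : Over S} (m m' : T ⟶ H ⊗ (G ⊗ Z' j c))
    (h1 : m ≫ (ChGrp.twist i (aZ' i aZ aY j hY c aY' hc)).act
      = m' ≫ (ChGrp.twist i (aZ' i aZ aY j hY c aY' hc)).act)
    (h2 : m ≫ snd H (G ⊗ Z' j c) = m' ≫ snd H (G ⊗ Z' j c)) : m = m' := by
  have e1 : ∀ p : T ⟶ H ⊗ (G ⊗ Z' j c), p = lift (p ≫ fst _ _)
      (lift (p ≫ snd _ _ ≫ fst _ _) (p ≫ snd _ _ ≫ snd _ _)) := by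
    intro p
    ext1
    · rw [lift_fst]
    · rw [lift_snd]
      ext1
      · rw [lift_fst, Category.assoc]
      · rw [lift_snd, Category.assoc]
  have hg : m ≫ snd _ _ ≫ fst _ _ = m' ≫ snd _ _ ≫ fst _ _ := by
    rw [← Category.assoc, h2, Category.assoc]
  have hx : m ≫ snd _ _ ≫ snd _ _ = m' ≫ snd _ _ ≫ snd _ _ := by
    rw [← Category.assoc, h2, Category.assoc]
  rw [e1 m, e1 m', ChGrp.lift_twist_act, ChGrp.lift_twist_act] at h1
  have h3 := congrArg (fun f => f ≫ fst _ _) h1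
  have h4 := congrArg (fun f => (f ≫ snd _ _) ≫ c' j c) h1
  simp only [lift_fst, lift_snd] at h3 h4
  rw [aZ'_pt_c', aZ'_pt_c'] at h4
  have hpb := hY.2.1
  have h5 : lift (m ≫ fst _ _) (lift (m ≫ snd _ _ ≫ fst _ _) ((m ≫ snd _ _ ≫ snd _ _) ≫ c' j c))
      = lift (m' ≫ fst _ _)
        (lift (m' ≫ snd _ _ ≫ fst _ _) ((m' ≫ snd _ _ ≫ snd _ _) ≫ c' j c)) := by
    apply hpb.hom_ext
    · rw [ChGrp.lift_twist_act, ChGrp.lift_twist_act, h3, h4]
    · rw [lift_snd, lift_snd, hg, hx]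
  have h6 := congrArg (fun f => f ≫ fst _ _) h5
  simp only [lift_fst] at h6
  rw [e1 m, e1 m', h6, hg, hx]

theorem isPullback_twist' :
    IsPullback (ChGrp.twist i (aZ' i aZ aY j hY c aY' hc)).act (snd H (G ⊗ Z' j c))
      (j' j c aY') (j' j c aY') := by
  have hw := twist'_w i aZ aY j hY c aY' hc
  refine ⟨⟨hw⟩, ⟨PullbackCone.IsLimit.mk hw
    (fun s => lift (key_exists i aZ aY j hY c aY' hc s.fst s.snd s.condition).choose s.snd)
    ?_ ?_ ?_⟩⟩
  · intro s
    exact (key_exists i aZ aY j hY c aY' hc s.fst s.snd s.condition).choose_spec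
  · intro s
    rw [lift_snd]
  · intro s m hm1 hm2
    apply key_unique i aZ aY j hY c aY' hc
    · rw [hm1]
      exact (key_exists i aZ aY j hY c aY' hc s.fst s.snd s.condition).choose_spec.symm
    · rw [hm2, lift_snd]

include hY hc in
theorem loc' :
    NonAbH1.IsLocallyTrivialFor Scheme.fppfPrecoverage
      (Over.mk (j' j c aY').left : Over Y'.left) := by
  obtain ⟨R, hR, hsec⟩ := hY.2.2
  refine ⟨R.pullbackArrows c.left, Precoverage.pullbackArrows_mem c.left hR, ?_⟩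
  rintro V t ⟨U, k, hk⟩
  obtain ⟨s, hs⟩ := hsec k hk
  change s ≫ j.left = k at hs
  let T : Over S := Over.mk (pullback.snd k c.left ≫ Y'.hom)
  let w : T ⟶ Y' := Over.homMk (pullback.snd k c.left) rfl
  let p : T ⟶ G ⊗ Z := Over.homMk (pullback.fst k c.left ≫ s) (by
    change (pullback.fst k c.left ≫ s) ≫ (G ⊗ Z).hom = pullback.snd k c.left ≫ Y'.hom
    rw [← Over.w j, Category.assoc, reassoc_of% hs, pullback.condition_assoc, Over.w c])
  have hpw : p ≫ j = w ≫ c := by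
    ext
    change (pullback.fst k c.left ≫ s) ≫ j.left = pullback.snd k c.left ≫ c.left
    rw [Category.assoc, hs, pullback.condition]
  have hp : lift (p ≫ fst G Z) (p ≫ snd G Z) = p := by
    rw [← comp_lift, lift_fst_snd, Category.comp_id]
  let z' : T ⟶ Z' j c := pullback.lift (p ≫ snd G Z)
    (lift (p ≫ fst G Z)⁻¹ w ≫ aY'.act) (by
      rw [eZ_pt, c_pt aY c aY' hc, ← hpw]
      nth_rewrite 3 [← hp]
      rw [← j_equiv i aZ aY j hY, inv_mul_cancel])
  have hz' : z' ≫ y' j c = lift (p ≫ fst G Z)⁻¹ w ≫ aY'.act := pullback.lift_snd _ _ _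
  refine ⟨(lift (p ≫ fst G Z) z').left, ?_⟩
  change (lift (p ≫ fst G Z) z').left ≫ (j' j c aY').left = pullback.snd k c.left
  have h2 : lift (p ≫ fst G Z) z' ≫ j' j c aY' = w := by
    rw [j'_pt, hz', ← AlgGrp.Action.lift_mul_act, mul_inv_cancel, AlgGrp.Action.lift_one_act]
  exact congrArg CommaMorphism.left h2

theorem main_sub :
    AlgGrp.Action.IsEquivariant (aZ' i aZ aY j hY c aY' hc) aZ (c' j c) ∧
      j' j c aY' ≫ c = (G ◁ c' j c) ≫ j ∧
      ChGrp.IsBalProd Scheme.fppfPrecoverage i (aZ' i aZ aY j hY c aY' hc) aY' (j' j c aY') :=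
  ⟨aZ'_equivariant i aZ aY j hY c aY' hc, j'_c i aZ aY j hY c aY' hc,
    j'_equivariant j c aY', isPullback_twist' i aZ aY j hY c aY' hc,
    loc' i aZ aY j hY c aY' hc⟩

omit [IsMonHom i] in
theorem closedImm_c' [IsClosedImmersion c.left] : IsClosedImmersion (c' j c).left := by
  have sq : IsPullback (pullback.snd (eZ j) c) (pullback.fst (eZ j) c) c (eZ j) :=
    (IsPullback.of_hasPullback (eZ j) c).flip
  have sq' := sq.map (Over.forget S)
  exact MorphismProperty.of_isPullback (P := @IsClosedImmersion) sq' ‹_›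

end Main

end

end Groth.Agent.Helper9.BalSub
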