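import Mathlib
import Groth.Prelude.Def_ChGrp

set_option autoImplicit false
set_option linter.unusedSectionVars false

namespace Groth.Agent.Helper9.TorsorComp

open CategoryTheory CategoryTheory.Limits MonoidalCategory CartesianMonoidalCategory MonObj GrpObj
  AlgebraicGeometry

universe u

section Gen

variable {S : Scheme.{u}} {G X Z : Over S} [GrpObj G] (a : AlgGrp.Action G X) (f : X ⟶ Z)

theorem exists_act (hpb : IsPullback a.act (snd G X) f f) {T : Over S} (u v : T ⟶ X)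
    (h : u ≫ f = v ≫ f) : ∃ g : T ⟶ G, lift g v ≫ a.act = u := by
  refine ⟨hpb.lift u v h ≫ fst _ _, ?_⟩
  have h1 := hpb.lift_fst u v h
  have h2 := hpb.lift_snd u v h
  have h3 : lift (hpb.lift u v h ≫ fst _ _) v = hpb.lift u v h := by
    ext1
    · rw [lift_fst]
    · rw [lift_snd, h2]
  rw [h3, h1]

theorem act_unique (hpb : IsPullback a.act (snd G X) f f) {T : Over S} (g g' : T ⟶ G)
    (v : T ⟶ X) (h : lift g v ≫ a.act = lift g' v ≫ a.act) : g = g' := by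
  have h1 : lift g v = lift g' v := by
    apply hpb.hom_ext
    · exact h
    · rw [lift_snd, lift_snd]
  have h2 := congrArg (fun k => k ≫ fst _ _) h1
  simpa using h2

theorem isPullback_of_exists_unique (hw : a.act ≫ f = snd G X ≫ f)
    (hex : ∀ ⦃T : Over S⦄ (u v : T ⟶ X), u ≫ f = v ≫ f → ∃ g : T ⟶ G, lift g v ≫ a.act = u)
    (hun : ∀ ⦃T : Over S⦄ (g g' : T ⟶ G) (v : T ⟶ X),
      lift g v ≫ a.act = lift g' v ≫ a.act → g = g') :
    IsPullback a.act (snd G X) f f := by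
  refine ⟨⟨hw⟩, ⟨PullbackCone.IsLimit.mk hw
    (fun s => lift (hex s.fst s.snd s.condition).choose s.snd) ?_ ?_ ?_⟩⟩
  · intro s
    exact (hex s.fst s.snd s.condition).choose_spec
  · intro s
    rw [lift_snd]
  · intro s m hm1 hm2
    have e1 : m = lift (m ≫ fst _ _) (m ≫ snd _ _) := by
      rw [← comp_lift, lift_fst_snd, Category.comp_id]
    rw [e1, hm2]
    congr 1
    apply hun _ _ s.snd
    rw [(hex s.fst s.snd s.condition).choose_spec, ← hm2, ← comp_lift, lift_fst_snd,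
      Category.comp_id, hm1]

end Gen

section Loc

theorem loc_comp {X Y Z : Scheme.{u}} (f₁ : X ⟶ Y) (f₂ : Y ⟶ Z) (K : Precoverage Scheme.{u})
    [K.IsStableUnderComposition] [K.IsStableUnderBaseChange] [K.HasPullbacks]
    (h₁ : ∃ R ∈ K Y, ∀ ⦃U : Scheme.{u}⦄ (t : U ⟶ Y), R t → ∃ s : U ⟶ X, s ≫ f₁ = t)
    (h₂ : ∃ R ∈ K Z, ∀ ⦃U : Scheme.{u}⦄ (t : U ⟶ Z), R t → ∃ s : U ⟶ Y, s ≫ f₂ = t) :
    ∃ R ∈ K Z, ∀ ⦃U : Scheme.{u}⦄ (t : U ⟶ Z), R t → ∃ s : U ⟶ X, s ≫ f₁ ≫ f₂ = t := by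
  obtain ⟨R₁, hR₁, hs₁⟩ := h₁
  obtain ⟨R₂, hR₂, hs₂⟩ := h₂
  obtain ⟨I, U, k, rfl⟩ := R₂.exists_eq_ofArrows
  choose s₂ hs₂' using fun i => hs₂ (k i) (Presieve.ofArrows.mk i)
  have key : ∀ (i : I) ⦃W : Scheme.{u}⦄ (t : W ⟶ U i), R₁.pullbackArrows (s₂ i) t →
      ∃ s : W ⟶ X, s ≫ f₁ = t ≫ s₂ i := by
    rintro i W t ⟨W', w, hw⟩
    obtain ⟨s, hs⟩ := hs₁ w hw
    exact ⟨pullback.fst w (s₂ i) ≫ s, by rw [Category.assoc, hs, pullback.condition]⟩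
  have hex := fun i => (R₁.pullbackArrows (s₂ i)).exists_eq_ofArrows
  choose σ V g hg using hex
  have hmem := K.comp_mem_coverings k hR₂ g (fun i => by
    rw [← hg i]
    exact Precoverage.pullbackArrows_mem _ hR₁)
  refine ⟨_, hmem, ?_⟩
  rintro W t ⟨p⟩
  have h3 : R₁.pullbackArrows (s₂ p.1) (g p.1 p.2) := by
    rw [hg p.1]
    exact ⟨p.2⟩
  obtain ⟨s, hs⟩ := key p.1 _ h3
  exact ⟨s, by rw [← Category.assoc, hs, Category.assoc, hs₂']⟩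

end Loc

section Main

variable {S : Scheme.{u}} {G N Q H X Y Z : Over S} [GrpObj G] [GrpObj N] [GrpObj Q] [GrpObj H]
    (iN : N ⟶ G) [IsMonHom iN]
    (q : G ⟶ Q) [IsMonHom q] (hker : AlgGrp.IsKernel iN q)
    (iH : H ⟶ G) [IsMonHom iH] [IsIso (iH ≫ q)]
    (a : AlgGrp.Action G X) (φ₁ : X ⟶ Y)
    (h₁ : IsPullback (a.restrict iN).act (snd N X) φ₁ φ₁)
    (aY : AlgGrp.Action Q Y) (hequiv : (q ⊗ₘ φ₁) ≫ aY.act = a.act ≫ φ₁)
    (φ₂ : Y ⟶ Z) (h₂ : IsPullback aY.act (snd Q Y) φ₂ φ₂)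

include hequiv in
theorem phi1_pt {T : Over S} (g : T ⟶ G) (x : T ⟶ X) :
    (lift g x ≫ a.act) ≫ φ₁ = lift (g ≫ q) (x ≫ φ₁) ≫ aY.act := by
  rw [Category.assoc, ← hequiv, lift_map_assoc]

include hequiv h₂ in
theorem comp_w : a.act ≫ φ₁ ≫ φ₂ = snd G X ≫ φ₁ ≫ φ₂ := by
  apply AlgGrp.Action.hom_ext_lift₂
  intro T g x
  rw [← Category.assoc, ← Category.assoc, phi1_pt q a φ₁ aY hequiv, Category.assoc, h₂.w,
    lift_snd_assoc, lift_snd_assoc, Category.assoc]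

include iH hequiv h₁ h₂ in
theorem comp_exists {T : Over S} (u v : T ⟶ X) (h : u ≫ φ₁ ≫ φ₂ = v ≫ φ₁ ≫ φ₂) :
    ∃ g : T ⟶ G, lift g v ≫ a.act = u := by
  obtain ⟨c, hc⟩ := exists_act aY φ₂ h₂ (u ≫ φ₁) (v ≫ φ₁) (by simpa using h)
  have hg₀ : (c ≫ inv (iH ≫ q) ≫ iH) ≫ q = c := by
    simp only [Category.assoc, IsIso.inv_hom_id, Category.comp_id]
  have h3 : (lift (c ≫ inv (iH ≫ q) ≫ iH) v ≫ a.act) ≫ φ₁ = u ≫ φ₁ := by
    rw [phi1_pt q a φ₁ aY hequiv, hg₀, hc]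
  obtain ⟨n, hn⟩ := exists_act (a.restrict iN) φ₁ h₁ u _ h3.symm
  rw [AlgGrp.Action.lift_restrict_act, ← AlgGrp.Action.lift_mul_act] at hn
  exact ⟨_, hn⟩

include hequiv h₁ h₂ hker in
theorem comp_unique {T : Over S} (g g' : T ⟶ G) (v : T ⟶ X)
    (h : lift g v ≫ a.act = lift g' v ≫ a.act) : g = g' := by
  have h1 := congrArg (fun k => k ≫ φ₁) h
  beta_reduce at h1
  rw [phi1_pt q a φ₁ aY hequiv, phi1_pt q a φ₁ aY hequiv] at h1
  have h2 := act_unique aY φ₂ h₂ _ _ _ h1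
  have h3 : (g' * g⁻¹) ≫ q = toUnit T ≫ η[Q] := by
    rw [MonObj.mul_comp, GrpObj.inv_comp, h2, mul_inv_cancel, Hom.one_def]
  have hker' : IsPullback iN (toUnit N) q η[Q] := hker
  have h4 := hker'.lift_fst (g' * g⁻¹) (toUnit T) h3
  set n := hker'.lift (g' * g⁻¹) (toUnit T) h3 with hn
  have h5 : lift n (lift g v ≫ a.act) ≫ (a.restrict iN).act
      = lift (1 : T ⟶ N) (lift g v ≫ a.act) ≫ (a.restrict iN).act := by
    rw [AlgGrp.Action.lift_restrict_act, ← AlgGrp.Action.lift_mul_act, h4, inv_mul_cancel_right,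
      AlgGrp.Action.lift_one_act, h]
  have h6 := act_unique (a.restrict iN) φ₁ h₁ _ _ _ h5
  rw [h6, MonObj.one_comp] at h4
  exact (mul_inv_eq_one.mp h4.symm).symm

include iH hequiv h₁ h₂ hker in
theorem comp_isPullback : IsPullback a.act (snd G X) (φ₁ ≫ φ₂) (φ₁ ≫ φ₂) :=
  isPullback_of_exists_unique a (φ₁ ≫ φ₂) (comp_w q a φ₁ aY hequiv φ₂ h₂)
    (fun _ u v h => comp_exists iN q iH a φ₁ h₁ aY hequiv φ₂ h₂ u v h)
    (fun _ g g' v h => comp_unique iN q hker a φ₁ h₁ aY hequiv φ₂ h₂ g g' v h)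

omit [GrpObj G] [GrpObj N] [GrpObj Q] [GrpObj H] in
theorem comp_loc (K : Precoverage Scheme.{u})
    [K.IsStableUnderComposition] [K.IsStableUnderBaseChange] [K.HasPullbacks]
    (h₁loc : NonAbH1.IsLocallyTrivialFor K (Over.mk φ₁.left : Over Y.left))
    (h₂loc : NonAbH1.IsLocallyTrivialFor K (Over.mk φ₂.left : Over Z.left)) :
    NonAbH1.IsLocallyTrivialFor K (Over.mk (φ₁ ≫ φ₂).left : Over Z.left) := by
  obtain ⟨R, hR, hs⟩ := loc_comp φ₁.left φ₂.left K h₁loc h₂loc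
  exact ⟨R, hR, fun U t ht => hs t ht⟩

end Main

end Groth.Agent.Helper9.TorsorComp
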