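import Mathlib
import Groth.Prelude.Def_NonAbH2
import Groth.Prelude.Def_ChGrp
import Groth.Agent.Helper9.BalDesc
import Groth.Agent.Helper9.BalFix
import Groth.Agent.Helper9.TorsorComp
import Groth.Agent.Helper9.BalSub

set_option autoImplicit false
set_option linter.unusedSectionVars false

namespace Groth.Agent.Helper9.ExactH1

open CategoryTheory CategoryTheory.Limits MonoidalCategory CartesianMonoidalCategory MonObj GrpObj
  AlgebraicGeometry
open Groth.Agent.Helper9.BalDesc Groth.Agent.Helper9.BalFix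

universe u

section Ov

variable {S : Scheme.{u}} {E B W : Over S} (j : E ⟶ B)
  (hloc : NonAbH1.IsLocallyTrivialFor Scheme.fpqcPrecoverage (Over.mk j.left : Over B.left))

include hloc in
theorem over_epi_q (u v : B ⟶ W) (huv : j ≫ u = j ≫ v) : u = v := by
  obtain ⟨R, hR, hsec⟩ := hloc
  ext
  refine epi_of_local_sections j.left R hR (fun U t ht => hsec t ht) u.left v.left ?_
  rw [← Over.comp_left, ← Over.comp_left, huv]

include hloc in
theorem over_desc_q (f : E ⟶ W)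
    (hf : ∀ ⦃T : Over S⦄ (e₁ e₂ : T ⟶ E), e₁ ≫ j = e₂ ≫ j → e₁ ≫ f = e₂ ≫ f) :
    ∃ ρ : B ⟶ W, j ≫ ρ = f := by
  obtain ⟨R, hR, hsec⟩ := hloc
  obtain ⟨ρ, hρ⟩ := desc_of_local_sections j.left R hR (fun U t ht => hsec t ht) f.left (by
    intro T e₁ e₂ h12
    let T' : Over S := Over.mk (e₁ ≫ E.hom)
    let e₁' : T' ⟶ E := Over.homMk e₁ rfl
    let e₂' : T' ⟶ E := Over.homMk e₂ (by
      change e₂ ≫ E.hom = e₁ ≫ E.hom
      rw [← Over.w j, ← Category.assoc, ← h12, Category.assoc])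
    have h1 : e₁' ≫ j = e₂' ≫ j := by
      ext
      exact h12
    exact congrArg CommaMorphism.left (hf e₁' e₂' h1))
  have hw : ρ ≫ W.hom = B.hom := by
    refine epi_of_local_sections j.left R hR (fun U t ht => hsec t ht) _ _ ?_
    rw [← Category.assoc, hρ, Over.w, Over.w]
  refine ⟨Over.homMk ρ hw, ?_⟩
  ext
  exact hρ

end Ov

section Pseudo

variable {S : Scheme.{u}} {G X : Over S} [GrpObj G] (a : AlgGrp.Action G X)
  (hps : NonAbH1.IsPseudoTorsorSch a)

include hps in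
theorem exists_act_ps {T : Over S} (x y : T ⟶ X) : ∃ g : T ⟶ G, lift g y ≫ a.act = x := by
  haveI : IsIso (lift a.act (snd G X)) := hps
  set w := lift x y ≫ inv (lift a.act (snd G X)) with hw
  have h1 : w ≫ lift a.act (snd G X) = lift x y := by
    rw [hw, Category.assoc, IsIso.inv_hom_id, Category.comp_id]
  have h2 : w ≫ a.act = x := by
    have := congrArg (fun f => f ≫ fst X X) h1
    simpa using this
  have h3 : w ≫ snd G X = y := by
    have := congrArg (fun f => f ≫ snd X X) h1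
    simpa using this
  refine ⟨w ≫ fst G X, ?_⟩
  rw [← h2]
  congr 1
  rw [← h3, ← comp_lift, lift_fst_snd, Category.comp_id]

include hps in
theorem act_unique_ps {T : Over S} (g g' : T ⟶ G) (y : T ⟶ X)
    (h : lift g y ≫ a.act = lift g' y ≫ a.act) : g = g' := by
  haveI : IsIso (lift a.act (snd G X)) := hps
  have h1 : lift g y ≫ lift a.act (snd G X) = lift g' y ≫ lift a.act (snd G X) := by
    rw [comp_lift, comp_lift, h, lift_snd, lift_snd]
  have h2 : lift g y = lift g' y := by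
    rwa [cancel_mono] at h1
  have h3 := congrArg (fun f => f ≫ fst G X) h2
  simpa using h3

end Pseudo

section Pseudo2

variable {S : Scheme.{u}} {G X : Over S} [GrpObj G] (a : AlgGrp.Action G X)

theorem isPseudoTorsor_of_exists_unique
    (hex : ∀ ⦃T : Over S⦄ (x y : T ⟶ X), ∃ g : T ⟶ G, lift g y ≫ a.act = x)
    (hun : ∀ ⦃T : Over S⦄ (g g' : T ⟶ G) (y : T ⟶ X),
      lift g y ≫ a.act = lift g' y ≫ a.act → g = g') :
    NonAbH1.IsPseudoTorsorSch a := by
  obtain ⟨g₀, hg₀⟩ := hex (fst X X) (snd X X)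
  refine ⟨⟨lift g₀ (snd X X), ?_, ?_⟩⟩
  · apply AlgGrp.Action.hom_ext_lift₂
    intro T g y
    have e0 : lift g y ≫ lift a.act (snd G X) = lift (lift g y ≫ a.act) y := by
      rw [comp_lift, lift_snd]
    rw [Category.comp_id, ← Category.assoc, e0, comp_lift, lift_snd]
    congr 1
    apply hun _ _ y
    have h1 := congrArg (fun k => lift (lift g y ≫ a.act) y ≫ k) hg₀
    beta_reduce at h1
    rw [← Category.assoc, comp_lift, lift_snd, lift_fst] at h1
    exact h1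
  · rw [comp_lift, lift_snd, hg₀, lift_fst_snd]

/-- the section-over-the-base form of local triviality transfers to `snd` -/
theorem snd_loc (hloc : NonAbH1.IsLocallyTrivialFor Scheme.fpqcPrecoverage X) (B : Over S) :
    NonAbH1.IsLocallyTrivialFor Scheme.fpqcPrecoverage
      (Over.mk (snd X B).left : Over B.left) := by
  obtain ⟨R, hR, hsec⟩ := hloc
  refine ⟨R.pullbackArrows B.hom, Precoverage.pullbackArrows_mem _ hR, ?_⟩
  rintro V t ⟨U, k, hk⟩
  obtain ⟨s, hs⟩ := hsec k hk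
  let T : Over S := Over.mk (pullback.snd k B.hom ≫ B.hom)
  let y : T ⟶ B := Over.homMk (pullback.snd k B.hom) rfl
  let x : T ⟶ X := Over.homMk (pullback.fst k B.hom ≫ s) (by
    change (pullback.fst k B.hom ≫ s) ≫ X.hom = pullback.snd k B.hom ≫ B.hom
    rw [Category.assoc, hs, pullback.condition])
  refine ⟨(lift x y).left, ?_⟩
  change (lift x y).left ≫ (snd X B).left = pullback.snd k B.hom
  have h1 : lift x y ≫ snd X B = y := lift_snd _ _
  exact congrArg CommaMorphism.left h1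

end Pseudo2

section Exact

variable {S : Scheme.{u}} {G G' G'' : Over S} [GrpObj G] [GrpObj G'] [GrpObj G'']
    (u : G' ⟶ G) (v : G ⟶ G'') [IsMonHom u] [IsMonHom v]
    (hpb : IsPullback (fst G G') ((G ◁ u) ≫ μ[G]) v v)

include hpb in
theorem ex_pt {T : Over S} (a b : T ⟶ G) (hab : a ≫ v = b ≫ v) :
    ∃ g' : T ⟶ G', b = a * (g' ≫ u) := by
  refine ⟨hpb.lift a b hab ≫ snd G G', ?_⟩
  have h1 := hpb.lift_snd a b hab
  have h2 := hpb.lift_fst a b hab
  have h3 : hpb.lift a b hab = lift a (hpb.lift a b hab ≫ snd G G') := by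
    ext1
    · rw [lift_fst, h2]
    · rw [lift_snd]
  rw [h3, lift_whiskerLeft_assoc, ← Hom.mul_def] at h1
  exact h1.symm

include hpb in
theorem ex_pt_unique {T : Over S} (a : T ⟶ G) (g₁ g₂ : T ⟶ G')
    (h : a * (g₁ ≫ u) = a * (g₂ ≫ u)) : g₁ = g₂ := by
  have h1 : lift a g₁ = lift a g₂ := by
    apply hpb.hom_ext
    · rw [lift_fst, lift_fst]
    · rw [lift_whiskerLeft_assoc, lift_whiskerLeft_assoc, ← Hom.mul_def, ← Hom.mul_def, h]
  have h2 := congrArg (fun f => f ≫ snd G G') h1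
  simpa using h2

include hpb in
theorem u_inj {T : Over S} (g₁ g₂ : T ⟶ G') (h : g₁ ≫ u = g₂ ≫ u) : g₁ = g₂ :=
  ex_pt_unique u v hpb 1 g₁ g₂ (by rw [h])

end Exact

section S6009

variable {S : Scheme.{u}} {G G' G'' : Over S} [GrpObj G] [GrpObj G'] [GrpObj G'']
    (u : G' ⟶ G) (v : G ⟶ G'') (hex : NonAbH1.IsExactSeq Scheme.fpqcPrecoverage u v)
    (Q : NonAbH1.TorsorSch G' Scheme.fpqcPrecoverage)

theorem s6009_mpr (f'' : 𝟙_ (Over S) ⟶ G'') (i : Q.X ⟶ G)
    (h : NonAbH1.IsPullbackTorsor u v f'' i Q.act) :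
    NonAbH1.IsPushforwardAlongSch u Q.act (NonAbH1.trivialAction G) := by
  obtain ⟨hu, hv, -, heq⟩ := h
  refine ⟨i⁻¹, ?_⟩
  change Q.act.act ≫ i⁻¹ = lift (fst G' Q.X ≫ u) (snd G' Q.X ≫ i⁻¹) ≫ μ[G]
  apply AlgGrp.Action.hom_ext_lift₂
  intro T g' q
  rw [← Category.assoc, comp_inv, Category.assoc, heq, ← Category.assoc, comp_lift,
    lift_fst_assoc, lift_snd_assoc, ← Hom.mul_def, comp_inv, _root_.mul_inv_rev, _root_.inv_inv]

include hex in
theorem s6009_mp (h : NonAbH1.IsPushforwardAlongSch u Q.act (NonAbH1.trivialAction G)) :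
    ∃ (f'' : 𝟙_ (Over S) ⟶ G'') (i : Q.X ⟶ G), NonAbH1.IsPullbackTorsor u v f'' i Q.act := by
  obtain ⟨hu, hv, huv, hpb, hvloc⟩ := hex
  obtain ⟨f, hf⟩ := h
  obtain ⟨hps, R, hR, hsec⟩ := Q.isTorsor
  have hf' : ∀ {T : Over S} (g' : T ⟶ G') (q : T ⟶ Q.X),
      (lift g' q ≫ Q.act.act) ≫ f = (g' ≫ u) * (q ≫ f) := by
    intro T g' q
    have h1 : Q.act.act ≫ f = lift (fst G' Q.X ≫ u) (snd G' Q.X ≫ f) ≫ μ[G] := hf
    rw [Category.assoc, h1, ← Category.assoc, comp_lift, lift_fst_assoc, lift_snd_assoc,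
      ← Hom.mul_def]
  -- equivariance of i = f⁻¹
  have hi : ∀ (T : Over S) (g' : T ⟶ G') (q : T ⟶ Q.X),
      lift g' q ≫ Q.act.act ≫ f⁻¹ = (q ≫ f⁻¹) * (g' ≫ u)⁻¹ := by
    intro T g' q
    rw [← Category.assoc, comp_inv, hf', comp_inv, _root_.mul_inv_rev]
  -- invariance of i ≫ v
  have hinv : ∀ ⦃T : Over S⦄ (e₁ e₂ : T ⟶ Q.X), e₁ ≫ toUnit Q.X = e₂ ≫ toUnit Q.X →
      e₁ ≫ f⁻¹ ≫ v = e₂ ≫ f⁻¹ ≫ v := by
    intro T e₁ e₂ _
    obtain ⟨g', hg'⟩ := exists_act_ps Q.act hps e₁ e₂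
    have h2 : (g' ≫ u) ≫ v = 1 := by
      rw [Category.assoc, huv, MonObj.comp_one]
    rw [← hg', Category.assoc, ← Category.assoc Q.act.act, ← Category.assoc (lift g' e₂),
      ← Category.assoc (lift g' e₂), Category.assoc (lift g' e₂) Q.act.act, hi, MonObj.mul_comp,
      GrpObj.inv_comp, h2, inv_one, _root_.mul_one, Category.assoc]
  have hloc1 : NonAbH1.IsLocallyTrivialFor Scheme.fpqcPrecoverage
      (Over.mk (toUnit Q.X).left : Over (𝟙_ (Over S)).left) := by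
    refine ⟨R, hR, ?_⟩
    intro U t ht
    obtain ⟨s, hs⟩ := hsec t ht
    exact ⟨s, by simpa using hs⟩
  obtain ⟨f'', hf''⟩ := over_desc_q (toUnit Q.X) hloc1 (f⁻¹ ≫ v) hinv
  refine ⟨f'', f⁻¹, hu, hv, ?_, hi⟩
  -- i is a monomorphism
  have hmono : ∀ ⦃T : Over S⦄ (q q' : T ⟶ Q.X), q ≫ f⁻¹ = q' ≫ f⁻¹ → q = q' := by
    intro T q q' hqq
    obtain ⟨g', hg'⟩ := exists_act_ps Q.act hps q' q
    have h3 : (q ≫ f⁻¹) * (g' ≫ u)⁻¹ = q ≫ f⁻¹ := by
      rw [← hi, ← Category.assoc, hg', hqq]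
    have h4 : g' ≫ u = (1 : T ⟶ G') ≫ u := by
      rw [MonObj.one_comp]
      have := mul_eq_left.mp h3
      exact inv_eq_one.mp this
    have h5 := u_inj u v hpb _ _ h4
    rw [← hg', h5, AlgGrp.Action.lift_one_act]
  haveI : Mono (f⁻¹ : Q.X ⟶ G) := ⟨fun q q' hqq => hmono q q' hqq⟩
  haveI : Mono (f⁻¹ : Q.X ⟶ G).left := inferInstance
  -- existence of lifts
  have hexist : ∀ ⦃T : Over S⦄ (g : T ⟶ G), g ≫ v = toUnit T ≫ f'' →
      ∃ q : T ⟶ Q.X, q ≫ f⁻¹ = g := by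
    intro T g hg
    have hex1 : ∃ q' : T.left ⟶ Q.X.left, q' ≫ (f⁻¹ : Q.X ⟶ G).left = g.left := by
      apply factors_of_local (f⁻¹ : Q.X ⟶ G).left g.left (R.pullbackArrows T.hom)
        (Precoverage.pullbackArrows_mem _ hR)
      rintro V t ⟨U, k, hk⟩
      obtain ⟨s, hs⟩ := hsec k hk
      let T' : Over S := Over.mk (pullback.snd k T.hom ≫ T.hom)
      let tV : T' ⟶ T := Over.homMk (pullback.snd k T.hom) rfl
      let q₀ : T' ⟶ Q.X := Over.homMk (pullback.fst k T.hom ≫ s) (by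
        change (pullback.fst k T.hom ≫ s) ≫ Q.X.hom = pullback.snd k T.hom ≫ T.hom
        rw [Category.assoc, hs, pullback.condition])
      have h6 : (q₀ ≫ f⁻¹) ≫ v = (tV ≫ g) ≫ v := by
        rw [Category.assoc, ← hf'', ← Category.assoc, toUnit_unique (q₀ ≫ toUnit Q.X) (toUnit T'),
          Category.assoc, hg, ← Category.assoc, toUnit_unique (tV ≫ toUnit T) (toUnit T')]
      obtain ⟨g', hg'⟩ := ex_pt u v hpb _ _ h6
      refine ⟨(lift g'⁻¹ q₀ ≫ Q.act.act).left, ?_⟩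
      have h7 : (lift g'⁻¹ q₀ ≫ Q.act.act) ≫ f⁻¹ = tV ≫ g := by
        rw [Category.assoc, hi, GrpObj.inv_comp, _root_.inv_inv, ← hg']
      exact congrArg CommaMorphism.left h7
    obtain ⟨q', hq'⟩ := hex1
    refine ⟨Over.homMk q' (by
      rw [← Over.w (f⁻¹ : Q.X ⟶ G), ← Category.assoc, hq', Over.w]), ?_⟩
    ext
    exact hq'
  have hcond : ∀ s : PullbackCone v f'', s.fst ≫ v = toUnit s.pt ≫ f'' := by
    intro s
    rw [s.condition, toUnit_unique s.snd (toUnit s.pt)]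
  refine ⟨⟨hf''.symm⟩, ⟨PullbackCone.IsLimit.mk _
    (fun s => (hexist s.fst (hcond s)).choose) ?_ ?_ ?_⟩⟩
  · intro s
    exact (hexist s.fst (hcond s)).choose_spec
  · intro s
    exact toUnit_unique _ _
  · intro s m hm1 _
    apply hmono
    rw [hm1, (hexist s.fst (hcond s)).choose_spec]

end S6009

section S6010

variable {S : Scheme.{u}} {G G' G'' : Over S} [GrpObj G] [GrpObj G'] [GrpObj G'']
    (u : G' ⟶ G) (v : G ⟶ G'') (hex : NonAbH1.IsExactSeq Scheme.fpqcPrecoverage u v)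
    (P : NonAbH1.TorsorSch G Scheme.fpqcPrecoverage)

include hex in
theorem s6010_mpr (Q : NonAbH1.TorsorSch G' Scheme.fpqcPrecoverage)
    (h : NonAbH1.IsPushforwardAlongSch u Q.act P.act) :
    NonAbH1.IsPushforwardAlongSch v P.act (NonAbH1.trivialAction G'') := by
  obtain ⟨hu, hv, huv, hpb, hvloc⟩ := hex
  obtain ⟨hm, hhm⟩ := h
  obtain ⟨hpsQ, hlocQ⟩ := Q.isTorsor
  obtain ⟨hpsP, hlocP⟩ := P.isTorsor
  haveI : IsIso (lift P.act.act (snd G P.X)) := hpsP
  have hhm' : ∀ {T : Over S} (g' : T ⟶ G') (q : T ⟶ Q.X),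
      (lift g' q ≫ Q.act.act) ≫ hm = lift (g' ≫ u) (q ≫ hm) ≫ P.act.act := by
    intro T g' q
    have h1 : Q.act.act ≫ hm = lift (fst G' Q.X ≫ u) (snd G' Q.X ≫ hm) ≫ P.act.act := hhm
    rw [Category.assoc, h1, ← Category.assoc, comp_lift, lift_fst_assoc, lift_snd_assoc]
  let δ : P.X ⊗ P.X ⟶ G := inv (lift P.act.act (snd G P.X)) ≫ fst G P.X
  have hδ' : ∀ {T : Over S} (g : T ⟶ G) (y : T ⟶ P.X),
      lift (lift g y ≫ P.act.act) y ≫ δ = g := by
    intro T g y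
    have e0 : lift (lift g y ≫ P.act.act) y = lift g y ≫ lift P.act.act (snd G P.X) := by
      rw [comp_lift, lift_snd]
    rw [e0, Category.assoc, IsIso.hom_inv_id_assoc, lift_fst]
  have hδ : ∀ {T : Over S} (x y : T ⟶ P.X), lift (lift x y ≫ δ) y ≫ P.act.act = x := by
    intro T x y
    obtain ⟨g, hg⟩ := exists_act_ps P.act hpsP x y
    rw [← hg, hδ']
  let F : Q.X ⊗ P.X ⟶ G'' := lift (snd Q.X P.X) (fst Q.X P.X ≫ hm) ≫ δ ≫ v
  have hF : ∀ {T : Over S} (q : T ⟶ Q.X) (p : T ⟶ P.X),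
      lift q p ≫ F = (lift p (q ≫ hm) ≫ δ) ≫ v := by
    intro T q p
    change lift q p ≫ lift (snd Q.X P.X) (fst Q.X P.X ≫ hm) ≫ δ ≫ v = _
    rw [← Category.assoc, comp_lift, lift_snd, lift_fst_assoc, Category.assoc]
    simp only [δ, Category.assoc]
  clear_value F
  obtain ⟨f, hf⟩ := over_desc_q (snd Q.X P.X) (snd_loc hlocQ P.X) F (by
    intro T e₁ e₂ h12
    have e1 : ∀ e : T ⟶ Q.X ⊗ P.X, e = lift (e ≫ fst _ _) (e ≫ snd _ _) := by
      intro e
      rw [← comp_lift, lift_fst_snd, Category.comp_id]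
    obtain ⟨g', hg'⟩ := exists_act_ps Q.act hpsQ (e₁ ≫ fst _ _) (e₂ ≫ fst _ _)
    rw [e1 e₁, e1 e₂, hF, hF, ← h12, ← hg', hhm']
    set p := e₁ ≫ snd Q.X P.X with hp
    set y := (e₂ ≫ fst Q.X P.X) ≫ hm with hy
    have h3 : lift p y ≫ δ = (lift p (lift (g' ≫ u) y ≫ P.act.act) ≫ δ) * (g' ≫ u) := by
      have h4 := hδ p (lift (g' ≫ u) y ≫ P.act.act)
      rw [← AlgGrp.Action.lift_mul_act] at h4
      conv_lhs => rw [← h4]
      rw [hδ']
    rw [h3, MonObj.mul_comp, Category.assoc (g'), huv, MonObj.comp_one, _root_.mul_one])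
  have hf' : ∀ {T : Over S} (q : T ⟶ Q.X) (p : T ⟶ P.X),
      p ≫ f = (lift p (q ≫ hm) ≫ δ) ≫ v := by
    intro T q p
    rw [← hF, ← hf, lift_snd_assoc]
  refine ⟨f, ?_⟩
  change P.act.act ≫ f = lift (fst G P.X ≫ v) (snd G P.X ≫ f) ≫ μ[G'']
  apply over_epi_q (snd Q.X (G ⊗ P.X)) (snd_loc hlocQ (G ⊗ P.X))
  apply BalProdAux.hom_ext_lift₃'
  intro T q g p
  rw [lift_snd_assoc, lift_snd_assoc, ← Category.assoc, hf' q, ← Category.assoc (lift g p),
    comp_lift, lift_fst_assoc, lift_snd_assoc, ← Hom.mul_def, hf' q p]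
  have h5 : lift (lift g p ≫ P.act.act) (q ≫ hm) ≫ δ = g * (lift p (q ≫ hm) ≫ δ) := by
    have h6 := hδ p (q ≫ hm)
    conv_lhs => rw [← h6]
    rw [← AlgGrp.Action.lift_mul_act, hδ']
  rw [h5, MonObj.mul_comp]

include hex in
theorem s6010_mp (h : NonAbH1.IsPushforwardAlongSch v P.act (NonAbH1.trivialAction G'')) :
    ∃ Q : NonAbH1.TorsorSch G' Scheme.fpqcPrecoverage,
      NonAbH1.IsPushforwardAlongSch u Q.act P.act := by
  obtain ⟨hu, hv, huv, hpb, hvloc⟩ := hex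
  obtain ⟨f, hf⟩ := h
  obtain ⟨hpsP, hlocP⟩ := P.isTorsor
  have hf' : ∀ {T : Over S} (g : T ⟶ G) (p : T ⟶ P.X),
      (lift g p ≫ P.act.act) ≫ f = (g ≫ v) * (p ≫ f) := by
    intro T g p
    have h1 : P.act.act ≫ f = lift (fst G P.X ≫ v) (snd G P.X ≫ f) ≫ μ[G''] := hf
    rw [Category.assoc, h1, ← Category.assoc, comp_lift, lift_fst_assoc, lift_snd_assoc,
      ← Hom.mul_def]
  haveI : Mono (η[G''] : 𝟙_ (Over S) ⟶ G'') :=
    (SplitMono.mk (toUnit G'') (toUnit_unique _ _)).mono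
  let QX : Over S := pullback f η[G'']
  let inc : QX ⟶ P.X := pullback.fst f η[G'']
  haveI : Mono inc := inferInstanceAs (Mono (pullback.fst f η[G'']))
  have hinc : inc ≫ f = 1 := by
    have h1 : inc ≫ f = pullback.snd f η[G''] ≫ η[G''] := pullback.condition
    rw [h1, Hom.one_def]
    congr 1
    exact toUnit_unique _ _
  have hQpt : ∀ {T : Over S} (p : T ⟶ P.X), p ≫ f = 1 → ∃ q : T ⟶ QX, q ≫ inc = p := by
    intro T p hp
    exact ⟨pullback.lift p (toUnit T) (by rw [hp, Hom.one_def]), pullback.lift_fst _ _ _⟩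
  have hwd : ((G' ◁ inc) ≫ (P.act.restrict u).act) ≫ f = toUnit _ ≫ η[G''] := by
    apply AlgGrp.Action.hom_ext_lift₂
    intro T g' q
    rw [← Hom.one_def, MonObj.comp_one, ← Category.assoc, lift_whiskerLeft_assoc,
      AlgGrp.Action.lift_restrict_act, hf', Category.assoc, huv, MonObj.comp_one,
      Category.assoc, hinc, MonObj.comp_one, _root_.mul_one]
  let act' : G' ⊗ QX ⟶ QX := pullback.lift ((G' ◁ inc) ≫ (P.act.restrict u).act) (toUnit _) hwd
  have hact : act' ≫ inc = (G' ◁ inc) ≫ (P.act.restrict u).act := pullback.lift_fst _ _ _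
  let aQ : AlgGrp.Action G' QX := BalSub.actOfMono (P.act.restrict u) inc act' hact
  have haQ : ∀ {T : Over S} (g' : T ⟶ G') (q : T ⟶ QX),
      (lift g' q ≫ aQ.act) ≫ inc = lift (g' ≫ u) (q ≫ inc) ≫ P.act.act := by
    intro T g' q
    change (lift g' q ≫ act') ≫ inc = _
    rw [BalSub.act'_pt (P.act.restrict u) inc act' hact, AlgGrp.Action.lift_restrict_act]
  have hpsQ : NonAbH1.IsPseudoTorsorSch aQ := by
    apply isPseudoTorsor_of_exists_unique
    · intro T x y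
      obtain ⟨g, hg⟩ := exists_act_ps P.act hpsP (x ≫ inc) (y ≫ inc)
      have h1 := congrArg (fun k => k ≫ f) hg
      beta_reduce at h1
      rw [hf', Category.assoc, Category.assoc, hinc, MonObj.comp_one, MonObj.comp_one,
        _root_.mul_one] at h1
      have h2 : (1 : T ⟶ G) ≫ v = g ≫ v := by rw [h1, MonObj.one_comp]
      obtain ⟨g', hg'⟩ := ex_pt u v hpb _ _ h2
      rw [_root_.one_mul] at hg'
      refine ⟨g', ?_⟩
      rw [← cancel_mono inc, haQ, ← hg', hg]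
    · intro T g g' y hgg
      have h1 := congrArg (fun k => k ≫ inc) hgg
      beta_reduce at h1
      rw [haQ, haQ] at h1
      exact u_inj u v hpb _ _ (act_unique_ps P.act hpsP _ _ _ h1)
  have hlocQ : NonAbH1.IsLocallyTrivialFor Scheme.fpqcPrecoverage QX := by
    obtain ⟨R'', hR'', hsec''⟩ := hvloc
    have h₁ : ∃ R ∈ Scheme.fpqcPrecoverage P.X.left, ∀ ⦃U : Scheme.{u}⦄ (t : U ⟶ P.X.left),
        R t → ∃ s : U ⟶ pullback f.left v.left, s ≫ pullback.fst f.left v.left = t := by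
      refine ⟨R''.pullbackArrows f.left, Precoverage.pullbackArrows_mem _ hR'', ?_⟩
      rintro V t ⟨U, k, hk⟩
      obtain ⟨σ, hσ⟩ := hsec'' k hk
      have hσ' : σ ≫ v.left = k := hσ
      exact ⟨pullback.lift (pullback.snd k f.left) (pullback.fst k f.left ≫ σ) (by
        rw [Category.assoc, hσ', pullback.condition]), pullback.lift_fst _ _ _⟩
    obtain ⟨R, hR, hsec⟩ := TorsorComp.loc_comp (pullback.fst f.left v.left) P.X.hom
      Scheme.fpqcPrecoverage h₁ hlocP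
    refine ⟨R, hR, ?_⟩
    intro U t ht
    obtain ⟨s, hs⟩ := hsec t ht
    let T : Over S := Over.mk t
    let p : T ⟶ P.X := Over.homMk (s ≫ pullback.fst f.left v.left) (by
      change (s ≫ pullback.fst f.left v.left) ≫ P.X.hom = t
      rw [Category.assoc, hs])
    let g : T ⟶ G := Over.homMk (s ≫ pullback.snd f.left v.left) (by
      change (s ≫ pullback.snd f.left v.left) ≫ G.hom = t
      rw [← Over.w v, Category.assoc, ← pullback.condition_assoc, Over.w f, hs])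
    have hpg : p ≫ f = g ≫ v := by
      ext
      change (s ≫ pullback.fst f.left v.left) ≫ f.left = (s ≫ pullback.snd f.left v.left) ≫ v.left
      rw [Category.assoc, Category.assoc, pullback.condition]
    obtain ⟨q, hq⟩ := hQpt (lift g⁻¹ p ≫ P.act.act) (by
      rw [hf', hpg, GrpObj.inv_comp, inv_mul_cancel])
    exact ⟨q.left, Over.w q⟩
  refine ⟨⟨QX, aQ, hpsQ, hlocQ⟩, inc, ?_⟩
  change aQ.act ≫ inc = lift (fst G' QX ≫ u) (snd G' QX ≫ inc) ≫ P.act.act
  apply AlgGrp.Action.hom_ext_lift₂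
  intro T g' q
  rw [← Category.assoc, haQ, ← Category.assoc, comp_lift, lift_fst_assoc, lift_snd_assoc]

end S6010

end Groth.Agent.Helper9.ExactH1
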