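import Mathlib
import Groth.Prelude.Def_NonAbH2
import Groth.Prelude.Def_ChGrp
import Groth.Agent.Helper9.ExactH1
import Groth.Agent.Helper9.TorsorComp

set_option autoImplicit false
set_option linter.unusedSectionVars false

namespace Groth.Agent.Helper9.DescTools

open CategoryTheory CategoryTheory.Limits MonoidalCategory CartesianMonoidalCategory MonObj
  AlgebraicGeometry

universe u

variable {S : Scheme.{u}}

/-- abbreviation: `j` has sections over the members of a `K`-covering family of its target -/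
abbrev Loc (K : Precoverage Scheme.{u}) {E B : Over S} (j : E ⟶ B) : Prop :=
  NonAbH1.IsLocallyTrivialFor K (Over.mk j.left : Over B.left)

/-- local triviality is stable under base change -/
theorem pullback_loc (K : Precoverage Scheme.{u}) [K.IsStableUnderBaseChange] [K.HasPullbacks]
    {E B E' B' : Over S} {a : E' ⟶ B'} {b : E' ⟶ E} {c : B' ⟶ B} {j : E ⟶ B}
    (sq : IsPullback a b c j) (hloc : Loc K j) : Loc K a := by
  obtain ⟨R, hR, hsec⟩ := hloc
  refine ⟨R.pullbackArrows c.left, Precoverage.pullbackArrows_mem _ hR, ?_⟩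
  rintro V t ⟨U, k, hk⟩
  obtain ⟨s, hs⟩ := hsec k hk
  change s ≫ j.left = k at hs
  let T : Over S := Over.mk (pullback.snd k c.left ≫ B'.hom)
  let y : T ⟶ B' := Over.homMk (pullback.snd k c.left) rfl
  let x : T ⟶ E := Over.homMk (pullback.fst k c.left ≫ s) (by
    change (pullback.fst k c.left ≫ s) ≫ E.hom = pullback.snd k c.left ≫ B'.hom
    rw [← Over.w j, Category.assoc, reassoc_of% hs, pullback.condition_assoc, Over.w])
  have hxy : y ≫ c = x ≫ j := by
    ext
    change pullback.snd k c.left ≫ c.left = (pullback.fst k c.left ≫ s) ≫ j.left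
    rw [Category.assoc, hs, pullback.condition]
  refine ⟨(sq.lift y x hxy).left, ?_⟩
  change (sq.lift y x hxy).left ≫ a.left = pullback.snd k c.left
  exact congrArg CommaMorphism.left (sq.lift_fst y x hxy)

theorem isPullback_whiskerRight {E B : Over S} (j : E ⟶ B) (W : Over S) :
    IsPullback (j ▷ W) (fst E W) (fst B W) j := by
  refine ⟨⟨by rw [whiskerRight_fst]⟩, ⟨PullbackCone.IsLimit.mk _
    (fun s => lift s.snd (s.fst ≫ snd B W)) ?_ ?_ ?_⟩⟩
  · intro s
    rw [lift_whiskerRight]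
    have h1 : s.snd ≫ j = s.fst ≫ fst B W := s.condition.symm
    rw [h1, ← comp_lift, lift_fst_snd, Category.comp_id]
  · intro s
    rw [lift_fst]
  · intro s m hm1 hm2
    ext1
    · rw [lift_fst, hm2]
    · rw [lift_snd, ← hm1, Category.assoc, whiskerRight_snd]

theorem isPullback_whiskerLeft {E B : Over S} (j : E ⟶ B) (W : Over S) :
    IsPullback (W ◁ j) (snd W E) (snd W B) j := by
  refine ⟨⟨by rw [whiskerLeft_snd]⟩, ⟨PullbackCone.IsLimit.mk _
    (fun s => lift (s.fst ≫ fst W B) s.snd) ?_ ?_ ?_⟩⟩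
  · intro s
    rw [lift_whiskerLeft]
    have h1 : s.snd ≫ j = s.fst ≫ snd W B := s.condition.symm
    rw [h1, ← comp_lift, lift_fst_snd, Category.comp_id]
  · intro s
    rw [lift_snd]
  · intro s m hm1 hm2
    ext1
    · rw [lift_fst, ← hm1, Category.assoc, whiskerLeft_fst]
    · rw [lift_snd, hm2]

theorem whiskerRight_loc (K : Precoverage Scheme.{u}) [K.IsStableUnderBaseChange] [K.HasPullbacks]
    {E B : Over S} (j : E ⟶ B) (hloc : Loc K j) (W : Over S) : Loc K (j ▷ W) :=
  pullback_loc K (isPullback_whiskerRight j W) hloc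

theorem whiskerLeft_loc (K : Precoverage Scheme.{u}) [K.IsStableUnderBaseChange] [K.HasPullbacks]
    {E B : Over S} (j : E ⟶ B) (hloc : Loc K j) (W : Over S) : Loc K (W ◁ j) :=
  pullback_loc K (isPullback_whiskerLeft j W) hloc

theorem tensor_loc (K : Precoverage Scheme.{u}) [K.IsStableUnderBaseChange] [K.HasPullbacks]
    [K.IsStableUnderComposition]
    {E₁ B₁ E₂ B₂ : Over S} (j₁ : E₁ ⟶ B₁) (j₂ : E₂ ⟶ B₂) (h₁ : Loc K j₁) (h₂ : Loc K j₂) :
    Loc K (j₁ ⊗ₘ j₂) := by
  rw [MonoidalCategory.tensorHom_def]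
  exact TorsorComp.comp_loc (φ₁ := j₁ ▷ E₂) (φ₂ := B₁ ◁ j₂) K (whiskerRight_loc K j₁ h₁ E₂)
    (whiskerLeft_loc K j₂ h₂ B₁)

/-- a flat, surjective, quasi-compact morphism is fpqc-locally trivial -/
theorem loc_of_fpqc {E B : Over S} (j : E ⟶ B) [Flat j.left] [Surjective j.left]
    [QuasiCompact j.left] : Loc Scheme.fpqcPrecoverage j := by
  refine ⟨Presieve.singleton j.left, Scheme.Hom.singleton_mem_fpqcPrecoverage _, ?_⟩
  rintro U t ⟨⟩
  exact ⟨𝟙 _, Category.id_comp _⟩

end Groth.Agent.Helper9.DescTools
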