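import Mathlib
import Groth.Prelude.Def_AlgGrp
import Groth.Agent.Helper9.DescTools
import Groth.Agent.Helper9.BalFix

set_option autoImplicit false
set_option linter.unusedSectionVars false

namespace Groth.Agent.Helper9.LocFactor

open CategoryTheory CategoryTheory.Limits MonoidalCategory CartesianMonoidalCategory MonObj GrpObj
  AlgebraicGeometry
open Groth.Agent.Helper9.DescTools

universe u

variable {S : Scheme.{u}}

/-- a morphism which factors through a monomorphism after pulling back along a locally split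
fpqc cover factors through it -/
theorem factor_of_loc {X Y'' Y E : Over S} (m : Y'' ⟶ Y) [Mono m] (y : X ⟶ Y) (j : E ⟶ X)
    (hj : Loc Scheme.fpqcPrecoverage j) (x : E ⟶ Y'') (hx : x ≫ m = j ≫ y) :
    ∃ y' : X ⟶ Y'', y' ≫ m = y := by
  haveI : Mono m.left := inferInstance
  obtain ⟨R, hR, hsec⟩ := hj
  obtain ⟨y', hy'⟩ := Groth.Agent.Helper9.BalFix.factors_of_local m.left y.left R hR
    (fun V t ht => by
      obtain ⟨s, hs⟩ := hsec t ht
      change s ≫ j.left = t at hs
      refine ⟨s ≫ x.left, ?_⟩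
      rw [Category.assoc, ← Over.comp_left, hx, Over.comp_left, ← Category.assoc, hs])
  refine ⟨Over.homMk y' (by rw [← Over.w m, ← Category.assoc, hy', Over.w y]), ?_⟩
  ext
  exact hy'

/-- a monomorphism `u : N ⟶ G` and a morphism `p` whose fibres are the `N`-cosets form a cartesian
square -/
theorem isPullback_of_fib {G N Q : Over S} [GrpObj G] (u : N ⟶ G) [Mono u] (p : G ⟶ Q)
    (h : ∀ ⦃T : Over S⦄ (a b : T ⟶ G), a ≫ p = b ≫ p ↔ ∃ n : T ⟶ N, b = a * (n ≫ u)) :
    IsPullback (fst G N) ((G ◁ u) ≫ μ[G]) p p := by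
  have hw : fst G N ≫ p = ((G ◁ u) ≫ μ[G]) ≫ p := by
    refine (h (fst G N) ((G ◁ u) ≫ μ[G])).mpr ⟨snd G N, ?_⟩
    rw [Hom.mul_def]
    congr 1
  refine ⟨⟨hw⟩, ⟨PullbackCone.IsLimit.mk _
    (fun s => lift s.fst ((h s.fst s.snd).mp s.condition).choose) ?_ ?_ ?_⟩⟩
  · intro s
    rw [lift_fst]
  · intro s
    rw [lift_whiskerLeft_assoc, ← Hom.mul_def]
    exact ((h s.fst s.snd).mp s.condition).choose_spec.symm
  · intro s m hm1 hm2
    have e : m = lift (m ≫ fst G N) (m ≫ snd G N) := by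
      rw [← comp_lift, lift_fst_snd, Category.comp_id]
    rw [e, hm1]
    congr 1
    rw [← cancel_mono u]
    have h1 := ((h s.fst s.snd).mp s.condition).choose_spec
    rw [e, lift_whiskerLeft_assoc, ← Hom.mul_def, hm1] at hm2
    have h2 : s.fst * ((m ≫ snd G N) ≫ u) = s.fst * (((h s.fst s.snd).mp s.condition).choose ≫ u) := by
      rw [hm2, ← h1]
    exact mul_left_cancel h2

/-- local triviality passes to the second factor of a composite -/
theorem loc_of_comp {E F B : Over S} (K : Precoverage Scheme.{u}) (a : E ⟶ F) (b : F ⟶ B)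
    (h : Loc K (a ≫ b)) : Loc K b := by
  obtain ⟨R, hR, hsec⟩ := h
  refine ⟨R, hR, fun U t ht => ?_⟩
  obtain ⟨s, hs⟩ := hsec t ht
  change s ≫ (a ≫ b).left = t at hs
  refine ⟨s ≫ a.left, ?_⟩
  change (s ≫ a.left) ≫ b.left = t
  rw [Category.assoc, ← Over.comp_left, hs]

end Groth.Agent.Helper9.LocFactor
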