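import Mathlib
import Groth.Prelude.Def_AlgGrp
import Groth.Prelude.Def_ChGrp
import Groth.Agent.Helper2.FFDesc

set_option autoImplicit false
set_option linter.unusedSectionVars false

namespace Groth.Agent.Helper9.HNQuot

open CategoryTheory CategoryTheory.Limits MonoidalCategory CartesianMonoidalCategory MonObj GrpObj
  AlgebraicGeometry

universe u

theorem ringHom_flat_of_comp {A B C : Type u} [CommRing A] [CommRing B] [CommRing C]
    (f : A →+* B) (g : B →+* C) (hg : g.FaithfullyFlat) (hgf : (g.comp f).Flat) : f.Flat := by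
  algebraize [f, g, g.comp f]
  exact Groth.Agent.Helper2.FFDesc.flat_of_flat_comp A B C

/-- Flatness descends along flat surjective morphisms on the source. -/
theorem flat_of_comp_surjective_flat {U' U W : Scheme.{u}} (e : U' ⟶ U) (h : U ⟶ W)
    [Flat e] [Surjective e] [Flat (e ≫ h)] : Flat h := by
  rw [Flat.iff_flat_stalkMap]
  intro u
  obtain ⟨u', rfl⟩ := e.surjective u
  have h1 : ((e ≫ h).stalkMap u').hom.Flat := Flat.stalkMap _ u'
  rw [Scheme.Hom.stalkMap_comp] at h1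
  have h2 : (e.stalkMap u').hom.Flat := Flat.stalkMap _ u'
  have h3 : (e.stalkMap u').hom.FaithfullyFlat := by
    algebraize [(e.stalkMap u').hom]
    have : IsLocalHom (algebraMap (U.presheaf.stalk (e u')) (U'.presheaf.stalk u')) := by
      show IsLocalHom (e.stalkMap u').hom
      infer_instance
    exact (RingHom.faithfullyFlat_algebraMap_iff).2 Module.FaithfullyFlat.of_flat_of_isLocalHom
  exact ringHom_flat_of_comp _ _ h3 h1

variable {S : Scheme.{u}} {G H N M P Q : Over S} [GrpObj G] [GrpObj H] [GrpObj N] [GrpObj M]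
  [GrpObj P] [GrpObj Q]
  (iH : H ⟶ G) [IsMonHom iH] (iN : N ⟶ G) [IsMonHom iN] [Mono iN]
  (hnorm : ∀ (T : Over S) (h : T ⟶ H) (n : T ⟶ N), ∃ n' : T ⟶ N,
      (h ≫ iH) * (n ≫ iN) * (h ≫ iH)⁻¹ = n' ≫ iN)
  (jM : M ⟶ G) [IsMonHom jM] [Mono jM]
  (aH : H ⟶ M) [IsMonHom aH] (haH : aH ≫ jM = iH) (aN : N ⟶ M) [IsMonHom aN] (haN : aN ≫ jM = iN)
  (p : P ⟶ H) (p' : P ⟶ N) [IsMonHom p] (hP : IsPullback p p' iH iN)
  (r : M ⟶ Q) [IsMonHom r] (hr : AlgGrp.IsKernel aN r)

include hnorm hP in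
theorem normal : AlgGrp.IsNormalHom p := by
  intro T g n
  obtain ⟨n'', hn''⟩ := hnorm T g (n ≫ p')
  have h1 : (g * (n ≫ p) * g⁻¹) ≫ iH = n'' ≫ iN := by
    rw [MonObj.mul_comp, MonObj.mul_comp, GrpObj.inv_comp, Category.assoc, hP.w, ← hn'',
      Category.assoc]
  exact ⟨hP.lift _ _ h1, (hP.lift_fst _ _ h1).symm⟩

include haH haN hP hr in
theorem kernel : AlgGrp.IsKernel p (aH ≫ r) := by
  haveI : Mono p := ⟨fun a b hab => by
    apply hP.hom_ext hab
    rw [← cancel_mono iN, Category.assoc, Category.assoc, ← hP.w, ← Category.assoc, hab,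
      Category.assoc]⟩
  have hw : p ≫ aH = p' ≫ aN := by
    rw [← cancel_mono jM, Category.assoc, Category.assoc, haH, haN, hP.w]
  have hexist : ∀ ⦃W : Over S⦄ (h : W ⟶ H), h ≫ aH ≫ r = toUnit W ≫ η[Q] →
      ∃ l : W ⟶ P, l ≫ p = h := by
    intro W h hh
    have h2 : (h ≫ aH) ≫ r = toUnit W ≫ η[Q] := by rw [Category.assoc, hh]
    have h3 : hr.lift _ _ h2 ≫ iN = h ≫ iH := by
      rw [← haN, ← Category.assoc, hr.lift_fst, Category.assoc, haH]
    exact ⟨hP.lift _ _ h3.symm, hP.lift_fst _ _ _⟩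
  have hcond : ∀ s : PullbackCone (aH ≫ r) η[Q], s.fst ≫ aH ≫ r = toUnit s.pt ≫ η[Q] := by
    intro s
    rw [s.condition, toUnit_unique s.snd (toUnit s.pt)]
  refine ⟨⟨?_⟩, ⟨PullbackCone.IsLimit.mk _ (fun s => (hexist s.fst (hcond s)).choose) ?_ ?_ ?_⟩⟩
  · rw [← Category.assoc, hw, Category.assoc, hr.w, ← Category.assoc,
      toUnit_unique (p' ≫ toUnit N) (toUnit P)]
  · intro s
    exact (hexist s.fst (hcond s)).choose_spec
  · intro s
    exact toUnit_unique _ _
  · intro s m hm1 _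
    rw [← cancel_mono p, hm1, (hexist s.fst (hcond s)).choose_spec]

include hr in
theorem mult_r : (lift (fst N H ≫ aN) (snd N H ≫ aH) ≫ μ[M]) ≫ r = snd N H ≫ aH ≫ r := by
  apply AlgGrp.Action.hom_ext_lift₂
  intro T n h
  rw [← Category.assoc, ← Category.assoc, comp_lift, lift_fst_assoc, lift_snd_assoc, ← Hom.mul_def,
    MonObj.mul_comp, Category.assoc n, hr.w, lift_snd_assoc, ← Category.assoc n,
    toUnit_unique (n ≫ toUnit N) (toUnit T), ← Hom.one_def, _root_.one_mul, Category.assoc]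

include hr in
theorem flat_surj [Flat (lift (fst N H ≫ aN) (snd N H ≫ aH) ≫ μ[M]).left]
    [Surjective (lift (fst N H ≫ aN) (snd N H ≫ aH) ≫ μ[M]).left] [Flat r.left] [Surjective r.left]
    [Flat N.hom] :
    Flat (aH ≫ r).left ∧ Surjective (aH ≫ r).left := by
  have h1 : (lift (fst N H ≫ aN) (snd N H ≫ aH) ≫ μ[M]).left ≫ r.left =
      (snd N H).left ≫ (aH ≫ r).left := congrArg CommaMorphism.left (mult_r aH aN r hr)
  have hf : Flat ((snd N H).left ≫ (aH ≫ r).left) := by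
    rw [← h1]
    infer_instance
  have hs : Surjective ((snd N H).left ≫ (aH ≫ r).left) := by
    rw [← h1]
    infer_instance
  haveI : Flat (snd N H).left := by
    change Flat (pullback.snd N.hom H.hom)
    infer_instance
  haveI : Surjective (snd N H).left := by
    have h2 : lift (toUnit H ≫ η[N]) (𝟙 H) ≫ snd N H = 𝟙 H := lift_snd _ _
    have h3 : (lift (toUnit H ≫ η[N]) (𝟙 H)).left ≫ (snd N H).left = 𝟙 H.left :=
      congrArg CommaMorphism.left h2
    refine ⟨fun x => ⟨(lift (toUnit H ≫ η[N]) (𝟙 H)).left x, ?_⟩⟩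
    rw [← Scheme.Hom.comp_apply, h3]
    rfl
  exact ⟨flat_of_comp_surjective_flat (snd N H).left (aH ≫ r).left,
    Surjective.of_comp (snd N H).left (aH ≫ r).left⟩

end Groth.Agent.Helper9.HNQuot
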