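import Mathlib
import Groth.Agent.Helper9.DescTools
import Groth.Agent.Helper9.FpqcLocal
import Groth.Agent.Lead.SchDescent

set_option autoImplicit false
set_option linter.unusedSectionVars false

namespace Groth.Agent.Helper9.LocDesc

open CategoryTheory CategoryTheory.Limits MonoidalCategory CartesianMonoidalCategory MonObj
  AlgebraicGeometry
open Groth.Agent.Helper9.DescTools

universe u

variable {S : Scheme.{u}}

/-- A Zariski-local, base-change-stable property that descends along fpqc morphisms descends along
morphisms having sections over an fpqc covering family. -/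
theorem desc_of_loc (P : MorphismProperty Scheme.{u}) [IsZariskiLocalAtTarget P]
    [P.DescendsAlong (@Surjective ⊓ @Flat ⊓ @QuasiCompact)] [P.IsStableUnderBaseChange]
    {E B : Over S} (j : E ⟶ B) (hloc : Loc Scheme.fpqcPrecoverage j)
    {A A' : Scheme.{u}} {g : A ⟶ B.left} {a : A' ⟶ A} {b : A' ⟶ E.left}
    (sq : IsPullback a b g j.left) (h : P b) : P g := by
  obtain ⟨R, hR, hsec⟩ := hloc
  apply FpqcLocal.of_fpqc_cover P g R hR
  intro U t ht
  obtain ⟨s, hs⟩ := hsec t ht
  change s ≫ j.left = t at hs
  subst hs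
  have sq1 : IsPullback (pullback.fst b s) (pullback.snd b s) b s := IsPullback.of_hasPullback _ _
  have sq2 := sq1.paste_horiz sq
  have h2 : P (pullback.snd b s) := P.of_isPullback sq1 h
  rw [← FpqcLocal.of_isPullback_iff P sq2]
  exact h2

theorem diag_isPullback {X Y K : Over S} (p : X ⟶ Y) {a b : K ⟶ X} (sq : IsPullback a b p p) :
    IsPullback (a ≫ p) (lift a b) (lift (𝟙 Y) (𝟙 Y)) (p ⊗ₘ p) := by
  refine ⟨⟨?_⟩, ⟨PullbackCone.IsLimit.mk _
    (fun s => sq.lift (s.snd ≫ fst X X) (s.snd ≫ snd X X) ?_) ?_ ?_ ?_⟩⟩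
  · ext1
    · rw [Category.assoc, lift_fst, Category.comp_id, Category.assoc, tensorHom_fst, lift_fst_assoc]
    · rw [Category.assoc, lift_snd, Category.comp_id, Category.assoc, tensorHom_snd, lift_snd_assoc,
        sq.w]
  · have h1 := s.condition
    have h2 := congrArg (fun e => e ≫ fst Y Y) h1
    have h3 := congrArg (fun e => e ≫ snd Y Y) h1
    simp only [Category.assoc, lift_fst, lift_snd, tensorHom_fst, tensorHom_snd,
      Category.comp_id] at h2 h3
    rw [Category.assoc, Category.assoc, ← h2, ← h3]
  · intro s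
    have h1 := s.condition
    have h2 := congrArg (fun e => e ≫ fst Y Y) h1
    simp only [Category.assoc, lift_fst, tensorHom_fst, Category.comp_id] at h2
    rw [← Category.assoc, IsPullback.lift_fst, Category.assoc, h2]
  · intro s
    rw [comp_lift, IsPullback.lift_fst, IsPullback.lift_snd, ← comp_lift, lift_fst_snd,
      Category.comp_id]
  · intro s m hm1 hm2
    apply sq.hom_ext
    · rw [IsPullback.lift_fst, ← hm2, Category.assoc, lift_fst]
    · rw [IsPullback.lift_snd, ← hm2, Category.assoc, lift_snd]

theorem left_isPullback {A B C D : Over S} {a : A ⟶ B} {b : A ⟶ C} {c : B ⟶ D} {d : C ⟶ D}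
    (sq : IsPullback a b c d) : IsPullback a.left b.left c.left d.left :=
  sq.map (Over.forget S)

theorem diag_left (Y : Over S) : (lift (𝟙 Y) (𝟙 Y)).left = pullback.diagonal Y.hom := rfl

theorem immersion_graph {X Y K : Over S} (p : X ⟶ Y) {a b : K ⟶ X} (sq : IsPullback a b p p) :
    IsImmersion (lift a b).left := by
  have h1 := left_isPullback (diag_isPullback p sq)
  rw [diag_left] at h1
  exact MorphismProperty.of_isPullback h1 inferInstance

theorem closedImmersion_graph {X Y K : Over S} (p : X ⟶ Y) {a b : K ⟶ X} (sq : IsPullback a b p p)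
    [IsSeparated Y.hom] : IsClosedImmersion (lift a b).left := by
  have h1 := left_isPullback (diag_isPullback p sq)
  rw [diag_left] at h1
  exact MorphismProperty.of_isPullback h1 inferInstance

theorem separated_of_graph {X Y K : Over S} (p : X ⟶ Y) (hloc : Loc Scheme.fpqcPrecoverage p)
    {a b : K ⟶ X} (sq : IsPullback a b p p)
    (h : IsClosedImmersion (lift a b).left) : IsSeparated Y.hom := by
  have h1 := left_isPullback (diag_isPullback p sq)
  rw [diag_left] at h1
  have h2 : Loc Scheme.fpqcPrecoverage (p ⊗ₘ p) := tensor_loc _ p p hloc hloc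
  exact ⟨desc_of_loc @IsClosedImmersion (p ⊗ₘ p) h2 h1 h⟩

end Groth.Agent.Helper9.LocDesc
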