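import Mathlib
import Groth.Prelude.Def_AlgGrp
import Groth.Agent.Helper9.DescTools

set_option autoImplicit false
set_option linter.unusedSectionVars false

namespace Groth.Agent.Helper9.QuotGrp

open CategoryTheory CategoryTheory.Limits MonoidalCategory CartesianMonoidalCategory MonObj GrpObj
  AlgebraicGeometry
open Groth.Agent.Helper9.DescTools Groth.Agent.Helper9.ExactH1 Groth.Agent.Helper9.BalDesc

universe u

variable {S : Scheme.{u}} {G N Q : Over S} [GrpObj G] [GrpObj N] (u : N ⟶ G) [IsMonHom u]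
  (p : G ⟶ Q) (hloc : Loc Scheme.fpqcPrecoverage p)
  (hfib : ∀ ⦃T : Over S⦄ (a b : T ⟶ G), a ≫ p = b ≫ p ↔ ∃ h : T ⟶ N, b = a * (h ≫ u))
  (hN : AlgGrp.IsNormalHom u)

include hloc hfib hN in
theorem exists_mul : ∃ m : Q ⊗ Q ⟶ Q, (p ⊗ₘ p) ≫ m = μ[G] ≫ p := by
  apply over_desc_q (p ⊗ₘ p) (tensor_loc _ p p hloc hloc) (μ[G] ≫ p)
  intro T e₁ e₂ h12
  have e1 : ∀ e : T ⟶ G ⊗ G, e = lift (e ≫ fst _ _) (e ≫ snd _ _) := by
    intro e
    rw [← comp_lift, lift_fst_snd, Category.comp_id]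
  rw [e1 e₁, e1 e₂] at h12 ⊢
  set a₁ := e₁ ≫ fst G G
  set b₁ := e₁ ≫ snd G G
  set a₂ := e₂ ≫ fst G G
  set b₂ := e₂ ≫ snd G G
  rw [lift_map, lift_map] at h12
  have ha : a₁ ≫ p = a₂ ≫ p := by
    have := congrArg (fun e => e ≫ fst Q Q) h12
    simpa using this
  have hb : b₁ ≫ p = b₂ ≫ p := by
    have := congrArg (fun e => e ≫ snd Q Q) h12
    simpa using this
  obtain ⟨h, hh⟩ := (hfib a₁ a₂).mp ha
  obtain ⟨k, hk⟩ := (hfib b₁ b₂).mp hb
  obtain ⟨h', hh'⟩ := hN T b₁⁻¹ h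
  rw [_root_.inv_inv] at hh'
  rw [← Category.assoc, ← Category.assoc, ← Hom.mul_def, ← Hom.mul_def]
  apply (hfib _ _).mpr
  refine ⟨h' * k, ?_⟩
  rw [hh, hk, MonObj.mul_comp, ← hh']
  simp only [_root_.mul_assoc, mul_inv_cancel_left]

include hloc hfib hN in
theorem exists_inv : ∃ j : Q ⟶ Q, p ≫ j = ι[G] ≫ p := by
  apply over_desc_q p hloc (ι[G] ≫ p)
  intro T a₁ a₂ ha
  obtain ⟨h, hh⟩ := (hfib a₁ a₂).mp ha
  obtain ⟨h', hh'⟩ := hN T a₁ h⁻¹
  rw [← Category.assoc, ← Category.assoc, ← Hom.inv_def, ← Hom.inv_def]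
  apply (hfib _ _).mpr
  refine ⟨h', ?_⟩
  rw [hh, ← hh', GrpObj.inv_comp]
  simp only [_root_.mul_assoc, _root_.mul_inv_rev, inv_mul_cancel_left]

section Build

variable (m : Q ⊗ Q ⟶ Q) (hm : (p ⊗ₘ p) ≫ m = μ[G] ≫ p) (j : Q ⟶ Q) (hj : p ≫ j = ι[G] ≫ p)

include hm in
theorem m_pt {T : Over S} (a b : T ⟶ G) : lift (a ≫ p) (b ≫ p) ≫ m = (a * b) ≫ p := by
  rw [← lift_map, Category.assoc, hm, ← Category.assoc, ← Hom.mul_def]

include hj in
theorem j_pt {T : Over S} (a : T ⟶ G) : (a ≫ p) ≫ j = a⁻¹ ≫ p := by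
  rw [Category.assoc, hj, ← Category.assoc, ← Hom.inv_def]

include hloc hm hj in
/-- the quotient group structure -/
@[instance_reducible]
noncomputable def quotGrp : GrpObj Q where
  one := η[G] ≫ p
  mul := m
  one_mul := by
    apply over_epi_q (𝟙_ (Over S) ◁ p) (whiskerLeft_loc _ p hloc _)
    apply AlgGrp.Action.hom_ext_lift₂
    intro T t g
    rw [← Category.assoc, lift_whiskerLeft, ← Category.assoc, lift_whiskerRight,
      ← Category.assoc t, m_pt p m hm, toUnit_unique t (toUnit T), ← Hom.one_def,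
      _root_.one_mul, ← Category.assoc, lift_whiskerLeft, leftUnitor_hom, lift_snd]
  mul_one := by
    apply over_epi_q (p ▷ 𝟙_ (Over S)) (whiskerRight_loc _ p hloc _)
    apply AlgGrp.Action.hom_ext_lift₂
    intro T g t
    rw [← Category.assoc, lift_whiskerRight, ← Category.assoc, lift_whiskerLeft,
      ← Category.assoc t, m_pt p m hm, toUnit_unique t (toUnit T), ← Hom.one_def,
      _root_.mul_one, ← Category.assoc, lift_whiskerRight, rightUnitor_hom, lift_fst]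
  mul_assoc := by
    apply over_epi_q ((p ⊗ₘ p) ⊗ₘ p)
      (tensor_loc _ (p ⊗ₘ p) p (tensor_loc _ p p hloc hloc) hloc)
    apply AlgGrp.Action.hom_ext_lift₃
    intro T a b c
    rw [← Category.assoc, lift_map, lift_map, ← Category.assoc, lift_whiskerRight, m_pt p m hm,
      m_pt p m hm, ← Category.assoc, lift_map, lift_map, lift_lift_associator_hom_assoc,
      ← Category.assoc, lift_whiskerLeft, m_pt p m hm, m_pt p m hm, _root_.mul_assoc]
  inv := j
  left_inv := by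
    apply over_epi_q p hloc
    rw [← Category.assoc, comp_lift, Category.comp_id]
    have h1 : p ≫ j = (𝟙 G ≫ p) ≫ j := by rw [Category.id_comp]
    have h2 : lift ((𝟙 G)⁻¹ ≫ p) p = lift ((𝟙 G)⁻¹ ≫ p) (𝟙 G ≫ p) := by rw [Category.id_comp]
    rw [h1, j_pt p j hj, h2, m_pt p m hm, inv_mul_cancel, ← Category.assoc,
      toUnit_unique (p ≫ toUnit Q) (toUnit G), Hom.one_def, Category.assoc]
  right_inv := by
    apply over_epi_q p hloc
    rw [← Category.assoc, comp_lift, Category.comp_id]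
    have h1 : p ≫ j = (𝟙 G ≫ p) ≫ j := by rw [Category.id_comp]
    have h2 : lift p ((𝟙 G)⁻¹ ≫ p) = lift (𝟙 G ≫ p) ((𝟙 G)⁻¹ ≫ p) := by rw [Category.id_comp]
    rw [h1, j_pt p j hj, h2, m_pt p m hm, mul_inv_cancel, ← Category.assoc,
      toUnit_unique (p ≫ toUnit Q) (toUnit G), Hom.one_def, Category.assoc]

end Build

include hloc hfib hN in
theorem main : ∃ inst : GrpObj Q, @IsMonHom _ _ _ G Q _ inst.toMonObj p ∧
    ∀ m' : Q ⊗ Q ⟶ Q, (p ⊗ₘ p) ≫ m' = μ[G] ≫ p → m' = @MonObj.mul _ _ _ Q inst.toMonObj := by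
  obtain ⟨m, hm⟩ := exists_mul u p hloc hfib hN
  obtain ⟨j, hj⟩ := exists_inv u p hloc hfib hN
  refine ⟨quotGrp p hloc m hm j hj, ?_, ?_⟩
  · exact @IsMonHom.mk _ _ _ G Q _ (quotGrp p hloc m hm j hj).toMonObj p rfl hm.symm
  · intro m' hm'
    apply over_epi_q (p ⊗ₘ p) (tensor_loc _ p p hloc hloc)
    rw [hm']
    exact hm.symm

include hloc hfib hN in
theorem main_unique : ∃! s : GrpObj Q, @IsMonHom _ _ _ G Q _ s.toMonObj p := by
  obtain ⟨inst, h1, h2⟩ := main u p hloc hfib hN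
  refine ⟨inst, h1, ?_⟩
  intro s hs
  apply GrpObj.ext
  apply MonObj.ext
  have h3 := h2 (@MonObj.mul _ _ _ Q s.toMonObj)
    (@IsMonHom.mul_hom _ _ _ G Q _ s.toMonObj p hs).symm
  exact h3

section Assemble

theorem singleton_mem_fpqc {Z Y : Scheme.{u}} (q : Z ⟶ Y) (hs : Surjective q) (hf : Flat q)
    (h : ∀ V : Y.Opens, IsAffineOpen V →
      ∃ W : Z.Opens, IsCompact (W : Set Z) ∧ q.base '' (W : Set Z) = (V : Set Y)) :
    Presieve.singleton q ∈ Scheme.fpqcPrecoverage Y := by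
  refine ⟨?_, ?_⟩
  · rw [← PreZeroHypercover.presieve₀_singleton.{_, _, u}, Scheme.presieve₀_mem_qcPrecoverage_iff]
    refine ⟨fun {V} hV => ?_⟩
    rw [IsCompactOpenCovered.iff_of_unique]
    exact h V hV
  · exact (Scheme.singleton_mem_precoverage_iff (P := @Flat) q).mpr ⟨hs.surj, hf⟩

theorem loc_of_cov {E B : Over S} (p : E ⟶ B)
    (hcov : ∃ (Z : Scheme.{u}) (q : Z ⟶ B.left) (r : Z ⟶ E.left), r ≫ p.left = q ∧ Surjective q ∧
      Flat q ∧ ∀ V : B.left.Opens, IsAffineOpen V →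
        ∃ W : Z.Opens, IsCompact (W : Set Z) ∧ q.base '' (W : Set Z) = (V : Set B.left)) :
    Loc Scheme.fpqcPrecoverage p := by
  obtain ⟨Z, q, r, hr, hs, hf, hqc⟩ := hcov
  refine ⟨Presieve.singleton q, singleton_mem_fpqc q hs hf hqc, ?_⟩
  rintro U t ⟨⟩
  exact ⟨r, hr⟩

theorem fib_of_isPullback (hpb : IsPullback (fst G N) ((G ◁ u) ≫ μ[G]) p p)
    ⦃T : Over S⦄ (a b : T ⟶ G) : a ≫ p = b ≫ p ↔ ∃ h : T ⟶ N, b = a * (h ≫ u) := by
  constructor
  · intro hab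
    refine ⟨hpb.lift a b hab ≫ snd G N, ?_⟩
    have h1 := hpb.lift_snd a b hab
    have h2 := hpb.lift_fst a b hab
    have h3 : hpb.lift a b hab = lift a (hpb.lift a b hab ≫ snd G N) := by
      ext1
      · rw [lift_fst, h2]
      · rw [lift_snd]
    rw [h3, lift_whiskerLeft_assoc, ← Hom.mul_def] at h1
    exact h1.symm
  · rintro ⟨h, rfl⟩
    have h1 := congrArg (fun e => lift a h ≫ e) hpb.w
    beta_reduce at h1
    rw [lift_fst_assoc, Category.assoc, lift_whiskerLeft_assoc, ← Category.assoc,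
      ← Hom.mul_def] at h1
    exact h1

end Assemble

end Groth.Agent.Helper9.QuotGrp
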