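import Mathlib
import Groth.Prelude.Def_AlgGrp
import Groth.Agent.Helper9.DescTools
import Groth.Agent.Helper9.LocDesc
import Groth.Agent.Helper9.QuotGrp
import Groth.Agent.Helper9.HNQuot
import Groth.Agent.Helper5.FlatCodescent

set_option autoImplicit false
set_option linter.unusedSectionVars false

namespace Groth.Agent.Helper9.QuotFlat

open CategoryTheory CategoryTheory.Limits MonoidalCategory CartesianMonoidalCategory MonObj GrpObj
  AlgebraicGeometry
open Groth.Agent.Helper9.DescTools Groth.Agent.Helper9.LocDesc

universe u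

theorem stalkMap_injective_of_flat {X Y : Scheme.{u}} (f : X ⟶ Y) [Flat f] (x : X) :
    Function.Injective (f.stalkMap x).hom := by
  algebraize [(f.stalkMap x).hom]
  have : Module.FaithfullyFlat (Y.presheaf.stalk (f x)) (X.presheaf.stalk x) :=
    @Module.FaithfullyFlat.of_flat_of_isLocalHom _ _ _ _ _ _ _
      (Flat.stalkMap f x) (f.toLRSHom.prop x)
  exact ‹RingHom.FaithfullyFlat _›.injective

variable {S : Scheme.{u}}

/-- unpacking an fpqc covering family with sections -/
theorem loc_family {E B : Over S} (j : E ⟶ B) (hloc : Loc Scheme.fpqcPrecoverage j) :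
    ∀ y : B.left, ∃ (U : Scheme.{u}) (s : U ⟶ E.left) (x : U), Flat (s ≫ j.left) ∧
      (s ≫ j.left) x = y := by
  obtain ⟨R, hR, hsec⟩ := hloc
  obtain ⟨I, U, k, rfl⟩ := R.exists_eq_ofArrows
  have h2 := (Scheme.ofArrows_mem_precoverage_iff _).mp hR.2
  intro y
  obtain ⟨i, x, hx⟩ := h2.1 y
  obtain ⟨s, hs⟩ := hsec (k i) (Presieve.ofArrows.mk i)
  change s ≫ j.left = k i at hs
  refine ⟨U i, s, x, ?_, ?_⟩
  · rw [hs]
    exact h2.2 i
  · rw [hs]
    exact hx

/-- the target of a morphism with sections over an fpqc covering family is covered by the source -/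
theorem surjective_of_loc {E B : Over S} (j : E ⟶ B) (hloc : Loc Scheme.fpqcPrecoverage j) :
    Surjective j.left := by
  refine ⟨fun y => ?_⟩
  obtain ⟨U, s, x, -, hx⟩ := loc_family j hloc y
  exact ⟨s x, hx⟩

theorem reduced_of_loc {E B : Over S} (j : E ⟶ B) (hloc : Loc Scheme.fpqcPrecoverage j)
    [IsReduced E.left] : IsReduced B.left := by
  haveI : ∀ y : B.left, _root_.IsReduced (B.left.presheaf.stalk y) := by
    intro y
    obtain ⟨U, s, x, hfl, rfl⟩ := loc_family j hloc y
    have h1 : Function.Injective (j.left.stalkMap (s x) ≫ s.stalkMap x).hom := by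
      have h0 : Function.Injective ((s ≫ j.left).stalkMap x).hom := stalkMap_injective_of_flat _ x
      rw [Scheme.Hom.stalkMap_comp] at h0
      exact h0
    have h2 : Function.Injective (j.left.stalkMap (s x)).hom := by
      intro a b hab
      apply h1
      change (s.stalkMap x).hom ((j.left.stalkMap (s x)).hom a) =
        (s.stalkMap x).hom ((j.left.stalkMap (s x)).hom b)
      rw [hab]
    exact isReduced_of_injective (j.left.stalkMap (s x)).hom h2
  exact isReduced_of_isReduced_stalk B.left

section Quot

variable {G N Q : Over S} [GrpObj G] [GrpObj N] (u : N ⟶ G) [IsMonHom u] [Mono u]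
  (p : G ⟶ Q) (hloc : Loc Scheme.fpqcPrecoverage p)
  (hpb : IsPullback (fst G N) ((G ◁ u) ≫ μ[G]) p p)

theorem unit_sq : IsPullback (lift (1 : N ⟶ G) (𝟙 N)) (toUnit N) (fst G N) η[G] := by
  have e1 : ∀ T : Over S, (1 : T ⟶ G) = toUnit T ≫ η[G] := fun T => rfl
  refine ⟨⟨by rw [lift_fst, e1]⟩, ⟨PullbackCone.IsLimit.mk _
    (fun s => s.fst ≫ snd G N) ?_ ?_ ?_⟩⟩
  · intro s
    have h1 := s.condition
    rw [comp_lift, Category.comp_id, MonObj.comp_one]
    ext1
    · rw [lift_fst, h1, e1]
      congr 1
      exact toUnit_unique _ _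
    · rw [lift_snd]
  · intro s
    exact toUnit_unique _ _
  · intro s m hm1 hm2
    rw [← hm1, Category.assoc, lift_snd, Category.comp_id]

theorem toUnit_left (X : Over S) : (toUnit X).left = X.hom := by
  have h := Over.w (toUnit X)
  rw [← h]
  exact (Category.comp_id _).symm

include hpb in
theorem flat_N_of_flat_p (h : Flat p.left) : Flat N.hom := by
  have h1 : Flat (fst G N).left :=
    MorphismProperty.of_isPullback (left_isPullback hpb).flip h
  have h2 : Flat (toUnit N).left :=
    MorphismProperty.of_isPullback (left_isPullback (unit_sq (G := G) (N := N))) h1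
  exact h2

set_option backward.isDefEq.respectTransparency false in
include hpb hloc in
theorem flat_p_of_flat_N (h : Flat N.hom) : Flat p.left := by
  have h1 : Flat (fst G N).left := inferInstanceAs (Flat (pullback.fst G.hom N.hom))
  exact desc_of_loc @Flat p hloc (left_isPullback hpb).flip h1

include hloc in
theorem flat_Q_iff (h : Flat p.left) : Flat Q.hom ↔ Flat G.hom := by
  haveI := h
  haveI := surjective_of_loc p hloc
  constructor
  · intro hQ
    rw [← Over.w p]
    infer_instance
  · intro hG
    haveI : Flat (p.left ≫ Q.hom) := by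
      rw [Over.w p]
      exact hG
    exact HNQuot.flat_of_comp_surjective_flat p.left Q.hom

end Quot

end Groth.Agent.Helper9.QuotFlat
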