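import Mathlib
import Groth.Prelude.Def_NonAbH2
import Groth.Prelude.Def_ChGrp
import Groth.Agent.Helper9.LocFactor
import Groth.Agent.Helper9.QuotFlat

set_option autoImplicit false
set_option linter.unusedSectionVars false

namespace Groth.Agent.Helper9.Reduction

open CategoryTheory CategoryTheory.Limits MonoidalCategory CartesianMonoidalCategory MonObj
  AlgebraicGeometry
open Groth.Agent.Helper9.DescTools Groth.Agent.Helper9.ExactH1

universe u

variable {S : Scheme.{u}}

theorem etale_le_fpqc : Scheme.etalePrecoverage.{u} ≤ Scheme.fpqcPrecoverage :=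
  le_trans (Scheme.precoverage_mono fun X Y f hf => by
    haveI : Etale f := hf
    exact ⟨inferInstance, inferInstance⟩) Scheme.fppfPrecoverage_le_fpqcPrecoverage

set_option backward.isDefEq.respectTransparency false in
instance etale_stable : Scheme.etalePrecoverage.{u}.IsStableUnderBaseChange := by
  unfold Scheme.etalePrecoverage
  infer_instance

set_option backward.isDefEq.respectTransparency false in
instance etale_hasPullbacks : Scheme.etalePrecoverage.{u}.HasPullbacks := by
  unfold Scheme.etalePrecoverage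
  infer_instance

theorem loc_mono {K K' : Precoverage Scheme.{u}} (hle : K ≤ K') {E B : Over S} (j : E ⟶ B)
    (h : Loc K j) : Loc K' j := by
  obtain ⟨R, hR, hsec⟩ := h
  exact ⟨R, hle _ hR, hsec⟩

/-- local triviality of `X ⟶ S` as local triviality of `toUnit X` -/
theorem loc_toUnit_iff (K : Precoverage Scheme.{u}) (X : Over S) :
    Loc K (toUnit X) ↔ NonAbH1.IsLocallyTrivialFor K X := by
  have h0 : (toUnit X).left = X.hom := QuotFlat.toUnit_left X
  constructor
  · rintro ⟨R, hR, hsec⟩
    refine ⟨R, hR, fun S' f hf => ?_⟩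
    obtain ⟨s, hs⟩ := hsec f hf
    change s ≫ (toUnit X).left = f at hs
    exact ⟨s, by rw [← h0]; exact hs⟩
  · rintro ⟨R, hR, hsec⟩
    refine ⟨R, hR, fun S' f hf => ?_⟩
    obtain ⟨s, hs⟩ := hsec f hf
    refine ⟨s, ?_⟩
    change s ≫ (toUnit X).left = f
    rw [h0]
    exact hs

section ActMono

variable {G F E : Over S} [GrpObj G] (a : AlgGrp.Action G F) (φ : E ⟶ F) [Mono φ]
  (act' : G ⊗ E ⟶ E) (hact : act' ≫ φ = (G ◁ φ) ≫ a.act)

include hact in
theorem act'_pt {T : Over S} (g : T ⟶ G) (e : T ⟶ E) :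
    (lift g e ≫ act') ≫ φ = lift g (e ≫ φ) ≫ a.act := by
  rw [Category.assoc, hact, lift_whiskerLeft_assoc]

/-- an action restricts to a stable subobject -/
noncomputable def actOfMono : AlgGrp.Action G E where
  act := act'
  one_act := by
    rw [← cancel_mono φ]
    apply AlgGrp.Action.hom_ext_lift₂
    intro T t e
    have ht : t ≫ η[G] = 1 := by rw [Hom.one_def, toUnit_unique t (toUnit T)]
    rw [← Category.assoc, ← Category.assoc, lift_whiskerRight, act'_pt a φ act' hact, ht,
      AlgGrp.Action.lift_one_act, ← Category.assoc, leftUnitor_hom, lift_snd]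
  mul_act := by
    rw [← cancel_mono φ]
    apply AlgGrp.Action.hom_ext_lift₃
    intro T g h e
    have e1 : (lift (lift g h) e ≫ (μ[G] ▷ E) ≫ act') ≫ φ = lift (g * h) (e ≫ φ) ≫ a.act := by
      rw [← Category.assoc, lift_whiskerRight, ← Hom.mul_def, act'_pt a φ act' hact]
    have e2 : (lift (lift g h) e ≫ (α_ G G E).hom ≫ (G ◁ act') ≫ act') ≫ φ =
        lift g (lift h (e ≫ φ) ≫ a.act) ≫ a.act := by
      rw [lift_lift_associator_hom_assoc, ← Category.assoc, lift_whiskerLeft,
        act'_pt a φ act' hact, act'_pt a φ act' hact]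
    simp only [Category.assoc] at e1 e2 ⊢
    rw [e1, e2, AlgGrp.Action.lift_mul_act]

end ActMono

section Main

variable {G H F Q : Over S} [GrpObj G] [GrpObj H] (i : G ⟶ H) [IsMonHom i]
  (aF : AlgGrp.Action H F) (π : F ⟶ Q)
  (hsq : IsPullback (aF.restrict i).act (snd G F) π π)

section Fibre

variable {E : Over S} (φ : E ⟶ F) (σ : 𝟙_ (Over S) ⟶ Q) (sqE : IsPullback φ (toUnit E) π σ)

include sqE in
theorem mono_fib : Mono φ := by
  refine ⟨fun {T} x y hxy => ?_⟩
  apply sqE.hom_ext hxy
  exact toUnit_unique _ _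

include hsq sqE in
theorem fib_w : ((G ◁ φ) ≫ (aF.restrict i).act) ≫ π = toUnit (G ⊗ E) ≫ σ := by
  rw [Category.assoc, hsq.w, ← Category.assoc, whiskerLeft_snd, Category.assoc, sqE.w,
    ← Category.assoc]
  congr 1
  exact toUnit_unique _ _

/-- the induced action on a fibre of the quotient map -/
noncomputable def fibAct' : G ⊗ E ⟶ E :=
  sqE.lift ((G ◁ φ) ≫ (aF.restrict i).act) (toUnit (G ⊗ E)) (fib_w i aF π hsq φ σ sqE)

theorem fibAct'_comp :
    fibAct' i aF π hsq φ σ sqE ≫ φ = (G ◁ φ) ≫ (aF.restrict i).act :=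
  sqE.lift_fst _ _ _

/-- the induced action on a fibre of the quotient map -/
noncomputable def fibAct : AlgGrp.Action G E :=
  haveI := mono_fib π φ σ sqE
  actOfMono (aF.restrict i) φ (fibAct' i aF π hsq φ σ sqE) (fibAct'_comp i aF π hsq φ σ sqE)

theorem fibAct_equivariant :
    AlgGrp.Action.IsEquivariant (fibAct i aF π hsq φ σ sqE) (aF.restrict i) φ :=
  fibAct'_comp i aF π hsq φ σ sqE

theorem fibAct_pseudo : NonAbH1.IsPseudoTorsorSch (fibAct i aF π hsq φ σ sqE) := by
  haveI := mono_fib π φ σ sqE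
  have hpt : ∀ {T : Over S} (g : T ⟶ G) (e : T ⟶ E),
      (lift g e ≫ (fibAct i aF π hsq φ σ sqE).act) ≫ φ =
        lift g (e ≫ φ) ≫ (aF.restrict i).act := by
    intro T g e
    exact act'_pt (aF.restrict i) φ _ (fibAct'_comp i aF π hsq φ σ sqE) g e
  apply isPseudoTorsor_of_exists_unique
  · intro T x y
    have h1 : (x ≫ φ) ≫ π = (y ≫ φ) ≫ π := by
      rw [Category.assoc, Category.assoc, sqE.w, ← Category.assoc, ← Category.assoc,
        toUnit_unique (x ≫ toUnit E) (y ≫ toUnit E)]
    obtain ⟨g, hg⟩ := TorsorComp.exists_act (aF.restrict i) π hsq _ _ h1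
    refine ⟨g, ?_⟩
    rw [← cancel_mono φ, hpt, hg]
  · intro T g g' y h
    apply TorsorComp.act_unique (aF.restrict i) π hsq g g' (y ≫ φ)
    rw [← hpt, ← hpt, h]

end Fibre

include hsq in
/-- a section of the quotient `F/G` gives a reduction of structure group -/
theorem exists_reduction (K : Precoverage Scheme.{u}) [K.IsStableUnderBaseChange] [K.HasPullbacks]
    (hloc : Loc K π) (σ : 𝟙_ (Over S) ⟶ Q) :
    ∃ (E : Over S) (aE : AlgGrp.Action G E) (φ : E ⟶ F),
      NonAbH1.IsTorsorFor K aE ∧ AlgGrp.Action.IsEquivariant aE (aF.restrict i) φ ∧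
      IsPullback φ (toUnit E) π σ := by
  have sqE : IsPullback (pullback.fst π σ) (toUnit (pullback π σ)) π σ := by
    have e : pullback.snd π σ = toUnit _ := toUnit_unique _ _
    rw [← e]
    exact IsPullback.of_hasPullback π σ
  refine ⟨pullback π σ, fibAct i aF π hsq _ σ sqE, pullback.fst π σ,
    ⟨fibAct_pseudo i aF π hsq _ σ sqE, ?_⟩, fibAct_equivariant i aF π hsq _ σ sqE, sqE⟩
  exact (loc_toUnit_iff K _).mp (pullback_loc K sqE.flip hloc)

end Main

end Groth.Agent.Helper9.Reduction
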