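import Groth.Agent.Helper9.FMH
import Groth.Prelude.Def_SpSeq
import Mathlib

/-!
# Elementwise (Freyd–Mitchell) description of the terms of the spectral sequence of a filtered
complex, and convergence criteria
-/

set_option autoImplicit false

namespace Groth.Agent.Helper9.FilCxFM

open CategoryTheory CategoryTheory.Limits SpSeq SpSeq.FilCx
open Groth.Agent.Helper9.FM Groth.Agent.Helper9.FMH

universe v u

variable {A : Type u} [Category.{v} A] [Abelian A]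

section General

theorem isZero_subquot_of_eq {X : A} (Z B : Subobject X) (h : B ≤ Z) (e : B = Z) :
    IsZero (subquot Z B h) := by
  subst e
  unfold subquot
  have : IsIso (B.ofLE B h) := by rw [Subobject.ofLE_refl]; infer_instance
  exact isZero_cokernel_of_epi _

theorem isSeparated_of_isDiscrete (K : FilObj A) (h : K.IsDiscrete) : K.IsSeparated := by
  obtain ⟨b, hb⟩ := h
  refine ⟨fun _ _ => bot_le, fun S hS => ?_⟩
  exact hb ▸ hS ⟨b, rfl⟩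

theorem isExhaustive_of_isCodiscrete (K : FilObj A) (h : K.IsCodiscrete) : K.IsExhaustive := by
  obtain ⟨a, ha⟩ := h
  refine ⟨fun _ _ => le_top, fun S hS => ?_⟩
  exact ha ▸ hS ⟨a, rfl⟩

theorem arrow_eq_zero_of_eq_bot {X : A} (S : Subobject X) (h : S = ⊥) : S.arrow = 0 := by
  subst h; exact Subobject.bot_arrow

theorem isIso_cokernel_π_of_eq_bot {X : A} (S : Subobject X) (h : S = ⊥) :
    IsIso (cokernel.π S.arrow) := by
  subst h
  rw [isIso_iff]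
  constructor
  · rw [← mono_iff]
    refine Preadditive.mono_of_cancel_zero _ (fun g hg => ?_)
    have hex : (ShortComplex.mk _ _ (cokernel.condition (⊥ : Subobject X).arrow)).Exact :=
      ShortComplex.exact_of_g_is_cokernel _ (cokernelIsCokernel _)
    have hm : Mono (⊥ : Subobject X).arrow := inferInstance
    have := hex.lift g hg
    rw [← hex.lift_f g hg]
    simp [Subobject.bot_arrow]
  · rw [← epi_iff]; infer_instance

theorem quotMap_π (K : FilObj A) {p q : ℤ} (h : p ≤ q) :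
    cokernel.π (K.fil q).arrow ≫ K.quotMap h = cokernel.π (K.fil p).arrow := by
  unfold FilObj.quotMap
  exact cokernel.π_desc _ _ _

theorem isComplete_of_isDiscrete (K : FilObj A) (h : K.IsDiscrete) : K.IsComplete := by
  obtain ⟨b, hb⟩ := h
  intro T f hf
  have hiso : ∀ p, b ≤ p → IsIso (cokernel.π (K.fil p).arrow) := fun p hp =>
    isIso_cokernel_π_of_eq_bot _ (le_bot_iff.1 (hb ▸ K.anti hp))
  haveI := hiso b le_rfl
  refine ⟨f b ≫ inv (cokernel.π (K.fil b).arrow), fun p => ?_⟩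
  rcases le_total p b with hp | hp
  · rw [← hf p b hp, Category.assoc]
    congr 1
    rw [IsIso.inv_comp_eq, quotMap_π]
  · haveI := hiso p hp
    have hq : IsIso (K.quotMap hp) := by
      have : K.quotMap hp = inv (cokernel.π (K.fil p).arrow) ≫ cokernel.π (K.fil b).arrow := by
        rw [IsIso.eq_inv_comp, quotMap_π]
      rw [this]; infer_instance
    rw [← cancel_mono (K.quotMap hp), Category.assoc, quotMap_π, hf b p hp, Category.assoc,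
      IsIso.inv_hom_id, Category.comp_id]

end General

variable (K : SpSeq.FilCx A)

/-- the inclusion of the `p`-th step of the filtration -/
noncomputable abbrev ι (p : ℤ) : (K.fil p : CochainComplex A ℤ) ⟶ K.obj := (K.fil p).arrow

/-- the submodule of `F^p K^n` -/
noncomputable def Fm (p n : ℤ) : Submodule (R A) ((F A).obj (K.obj.X n)) := sub (K.filX p n)

theorem mem_Fm_iff (p n : ℤ) (x : (F A).obj (K.obj.X n)) :
    x ∈ Fm K p n ↔ ∃ x', m ((ι K p).f n) x' = x := by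
  unfold Fm filX; rw [sub_mk]; rfl

theorem ι_injective (p n : ℤ) : Function.Injective (m ((ι K p).f n)) :=
  (mono_iff _).1 inferInstance

theorem Fm_anti (n : ℤ) {p q : ℤ} (h : p ≤ q) : Fm K q n ≤ Fm K p n := sub_mono (K.filX_anti n h)

theorem ι_d (p i j : ℤ) (x' : (F A).obj ((K.fil p : CochainComplex A ℤ).X i)) :
    m (K.obj.d i j) (m ((ι K p).f i) x') =
      m ((ι K p).f j) (m ((K.fil p : CochainComplex A ℤ).d i j) x') := by
  rw [← m_comp_apply, ← m_comp_apply, (ι K p).comm]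

theorem d_mem {p i j : ℤ} {x : (F A).obj (K.obj.X i)} (hx : x ∈ Fm K p i) :
    m (K.obj.d i j) x ∈ Fm K p j := by
  obtain ⟨x', rfl⟩ := (mem_Fm_iff ..).1 hx
  exact (mem_Fm_iff ..).2 ⟨_, (ι_d K p i j x').symm⟩

theorem d_d (i j k : ℤ) (x : (F A).obj (K.obj.X i)) : m (K.obj.d j k) (m (K.obj.d i j) x) = 0 := by
  rw [← m_comp_apply, K.obj.d_comp_d]; simp

theorem Fm_eq_top {p n : ℤ} (h : K.filX p n = ⊤) : Fm K p n = ⊤ := by
  unfold Fm; rw [h, sub_top]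

theorem Fm_eq_bot {p n : ℤ} (h : K.filX p n = ⊥) : Fm K p n = ⊥ := by
  unfold Fm; rw [h, sub_bot]

theorem sub_ZSub (r : ℕ) (p n : ℤ) :
    sub (K.ZSub r p n) =
      (Fm K p n ⊓ (Fm K (p + r) (n + 1)).comap (m (K.obj.d n (n + 1)))) ⊔ Fm K (p + 1) n := by
  unfold ZSub Fm; rw [FM.sub_sup, FM.sub_inf, sub_pullback]

theorem sub_ZTop (p n : ℤ) :
    sub (K.ZTop p n) = (Fm K p n ⊓ LinearMap.ker (m (K.obj.d n (n + 1)))) ⊔ Fm K (p + 1) n := by
  unfold ZTop Fm; rw [FM.sub_sup, FM.sub_inf, sub_kernel]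

theorem sub_BSub (r : ℕ) (p n : ℤ) :
    sub (K.BSub r p n) =
      (Fm K p n ⊓ (Fm K (p - r + 1) (n - 1)).map (m (K.obj.d (n - 1) n))) ⊔ Fm K (p + 1) n := by
  unfold BSub Fm; rw [FM.sub_sup, FM.sub_inf, sub_image_comp]

theorem sub_BBot (p n : ℤ) :
    sub (K.BBot p n) =
      (Fm K p n ⊓ LinearMap.range (m (K.obj.d (n - 1) n))) ⊔ Fm K (p + 1) n := by
  unfold BBot Fm; rw [FM.sub_sup, FM.sub_inf, sub_image]

theorem ZTop_le_ZSub (r : ℕ) (p n : ℤ) : K.ZTop p n ≤ K.ZSub r p n :=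
  sup_le_sup_right (inf_le_inf_left _ (kernelSubobject_le_pullback _ _)) _

theorem BSub_le_BBot (r : ℕ) (p n : ℤ) : K.BSub r p n ≤ K.BBot p n :=
  sup_le_sup_right (inf_le_inf_left _ (imageSubobject_comp_le _ _)) _

/-- `H^n(F^p K) = 0`, elementwise -/
def Acyc (p n : ℤ) : Prop :=
  ∀ i : ℤ, i + 1 = n → ∀ x ∈ Fm K p n, m (K.obj.d n (n + 1)) x = 0 →
    ∃ y ∈ Fm K p i, m (K.obj.d i n) y = x

/-- `H^n(F^p K) → H^n(K)` injective, elementwise -/
def InjH (p n : ℤ) : Prop :=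
  ∀ i : ℤ, i + 1 = n → ∀ x ∈ Fm K p n, (∃ y, m (K.obj.d i n) y = x) →
    ∃ y ∈ Fm K p i, m (K.obj.d i n) y = x

/-- `H^n(F^p K) → H^n(K)` surjective, elementwise -/
def SurjH (p n : ℤ) : Prop :=
  ∀ i : ℤ, i + 1 = n → ∀ x, m (K.obj.d n (n + 1)) x = 0 →
    ∃ w ∈ Fm K p n, m (K.obj.d n (n + 1)) w = 0 ∧ ∃ y, m (K.obj.d i n) y = x - w

theorem acyc_of_eq_bot {p n : ℤ} (h : K.filX p n = ⊥) : Acyc K p n := by
  intro i _ x hx _
  rw [Fm_eq_bot K h, Submodule.mem_bot] at hx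
  exact ⟨0, zero_mem _, by rw [hx, map_zero]⟩

theorem injH_of_eq_top {p n : ℤ} (h : ∀ i : ℤ, i + 1 = n → K.filX p i = ⊤) : InjH K p n := by
  rintro i hi x _ ⟨y, hy⟩
  exact ⟨y, by rw [Fm_eq_top K (h i hi)]; trivial, hy⟩

theorem surjH_of_eq_top {p n : ℤ} (h : K.filX p n = ⊤) : SurjH K p n := by
  intro i _ x hx
  exact ⟨x, by rw [Fm_eq_top K h]; trivial, hx, 0, by simp⟩

theorem cocycle_of_ι {p n : ℤ} {x' : (F A).obj ((K.fil p : CochainComplex A ℤ).X n)}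
    (h : m (K.obj.d n (n + 1)) (m ((ι K p).f n) x') = 0) :
    m ((K.fil p : CochainComplex A ℤ).d n (n + 1)) x' = 0 := by
  apply ι_injective K p (n + 1)
  rw [← ι_d, h, map_zero]

theorem acyc_of_isZero {p n : ℤ} (h : IsZero ((K.fil p : CochainComplex A ℤ).homology n)) :
    Acyc K p n := by
  intro i hi x hx hdx
  obtain rfl : i = n - 1 := by omega
  obtain ⟨x', rfl⟩ := (mem_Fm_iff ..).1 hx
  have hx' := cocycle_of_ι K hdx
  haveI := (isZero_iff _).1 h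
  have h0 : cls _ n x' hx' = 0 := Subsingleton.elim _ _
  obtain ⟨y', hy'⟩ := (cls_eq_zero_iff _ n hx').1 h0
  exact ⟨m ((ι K p).f (n - 1)) y', (mem_Fm_iff ..).2 ⟨_, rfl⟩, by rw [ι_d, hy']⟩

theorem injH_of_mono {p n : ℤ} (h : Mono (HomologicalComplex.homologyMap (ι K p) n)) :
    InjH K p n := by
  rintro i hi x hx ⟨y, hy⟩
  obtain rfl : i = n - 1 := by omega
  obtain ⟨x', rfl⟩ := (mem_Fm_iff ..).1 hx
  have hdx : m (K.obj.d n (n + 1)) (m ((ι K p).f n) x') = 0 := by rw [← hy, d_d]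
  have hx' := cocycle_of_ι K hdx
  have h0 : m (HomologicalComplex.homologyMap (ι K p) n) (cls _ n x' hx') = 0 := by
    rw [homologyMap_cls, cls_eq_zero_iff]
    exact ⟨y, hy⟩
  have h1 : cls _ n x' hx' = 0 := by
    apply (mono_iff _).1 h
    rw [h0, map_zero]
  obtain ⟨y', hy'⟩ := (cls_eq_zero_iff _ n hx').1 h1
  exact ⟨m ((ι K p).f (n - 1)) y', (mem_Fm_iff ..).2 ⟨_, rfl⟩, by rw [ι_d, hy']⟩

theorem surjH_of_epi {p n : ℤ} (h : Epi (HomologicalComplex.homologyMap (ι K p) n)) :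
    SurjH K p n := by
  intro i hi x hx
  obtain rfl : i = n - 1 := by omega
  obtain ⟨h', hh'⟩ := (epi_iff _).1 h (cls K.obj n x hx)
  obtain ⟨x', hx', rfl⟩ := exists_cls _ n h'
  rw [homologyMap_cls, cls_eq_cls_iff] at hh'
  obtain ⟨y, hy⟩ := hh'
  refine ⟨m ((ι K p).f n) x', (mem_Fm_iff ..).2 ⟨_, rfl⟩, ?_, -y, ?_⟩
  · rw [ι_d, hx', map_zero]
  · rw [map_neg, hy]; abel

theorem filH_eq_bot {p n : ℤ} (h : Acyc K p n) : K.filH p n = ⊥ := by
  rw [eq_iff_sub_eq, sub_bot]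
  unfold filH
  rw [sub_image, eq_bot_iff]
  rintro _ ⟨h', rfl⟩
  obtain ⟨x', hx', rfl⟩ := exists_cls _ n h'
  rw [Submodule.mem_bot]
  change m (HomologicalComplex.homologyMap (ι K p) n) _ = 0
  rw [homologyMap_cls, cls_eq_zero_iff]
  obtain ⟨y, -, hy⟩ := h (n - 1) (by omega) (m ((ι K p).f n) x') ((mem_Fm_iff ..).2 ⟨_, rfl⟩)
    (by rw [ι_d, hx', map_zero])
  exact ⟨y, hy⟩

theorem filH_eq_top {p n : ℤ} (h : SurjH K p n) : K.filH p n = ⊤ := by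
  rw [eq_iff_sub_eq, sub_top]
  unfold filH
  rw [sub_image, eq_top_iff]
  rintro c -
  obtain ⟨x, hx, rfl⟩ := exists_cls _ n c
  obtain ⟨w, hw, hdw, y, hy⟩ := h (n - 1) (by omega) x hx
  obtain ⟨w', rfl⟩ := (mem_Fm_iff ..).1 hw
  refine ⟨cls _ n w' (cocycle_of_ι K hdw), ?_⟩
  change m (HomologicalComplex.homologyMap (ι K p) n) _ = _
  rw [homologyMap_cls, eq_comm, cls_eq_cls_iff]
  exact ⟨y, hy⟩

theorem Z_eq (r : ℕ) (p n : ℤ) (hr : 1 ≤ r) (h : Acyc K (p + r) (n + 1)) :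
    K.ZSub r p n = K.ZTop p n := by
  refine le_antisymm ?_ (ZTop_le_ZSub K r p n)
  rw [sub_le_iff, sub_ZSub, sub_ZTop]
  refine sup_le ?_ le_sup_right
  rintro x ⟨hx1, hx2⟩
  obtain ⟨y, hy, hdy⟩ := h n rfl _ hx2 (d_d K _ _ _ x)
  have : x = (x - y) + y := by abel
  rw [this]
  refine Submodule.add_mem_sup ⟨sub_mem hx1 (Fm_anti K n (by omega) hy), ?_⟩
    (Fm_anti K n (by omega) hy)
  rw [SetLike.mem_coe, LinearMap.mem_ker, map_sub, hdy, sub_self]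

theorem B_eq (r : ℕ) (p n : ℤ) (hr : 1 ≤ r) (h : InjH K (p - r + 1) n) :
    K.BSub r p n = K.BBot p n := by
  refine le_antisymm (BSub_le_BBot K r p n) ?_
  rw [sub_le_iff, sub_BSub, sub_BBot]
  refine sup_le ?_ le_sup_right
  rintro x ⟨hx1, ⟨y, hy⟩⟩
  obtain ⟨y', hy', hdy'⟩ := h (n - 1) (by omega) x (Fm_anti K n (by omega) hx1) ⟨y, hy⟩
  exact Submodule.mem_sup_left ⟨hx1, ⟨y', hy', hdy'⟩⟩

theorem converges_of (hA : ∀ n : ℤ, ∃ p₀ : ℤ, ∀ p : ℤ, p₀ ≤ p → Acyc K p n)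
    (hI : ∀ n : ℤ, ∃ p₁ : ℤ, ∀ p : ℤ, p ≤ p₁ → InjH K p n)
    (hF : ∀ n : ℤ, (K.HFil n).IsFinite) : K.Converges := by
  refine ⟨?_, ⟨?_, fun n => ⟨isSeparated_of_isDiscrete _ (hF n).2,
    isExhaustive_of_isCodiscrete _ (hF n).1⟩⟩, fun n => isComplete_of_isDiscrete _ (hF n).2⟩
  · intro p n
    obtain ⟨p₀, h₀⟩ := hA (n + 1)
    refine ⟨(p₀ - p).toNat + 1, fun r hr => ?_⟩
    rw [Z_eq K r p n (by omega) (h₀ _ (by omega)), Z_eq K _ p n (by omega) (h₀ _ (by omega))]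
  · intro p n
    constructor
    · obtain ⟨p₀, h₀⟩ := hA (n + 1)
      have := Z_eq K ((p₀ - p).toNat + 1) p n (by omega) (h₀ _ (by omega))
      refine IsLeast.isGLB ⟨⟨_, this⟩, ?_⟩
      rintro _ ⟨r, rfl⟩
      exact ZTop_le_ZSub K r p n
    · obtain ⟨p₁, h₁⟩ := hI n
      have := B_eq K ((p - p₁).toNat + 1) p n (by omega) (h₁ _ (by omega))
      refine IsGreatest.isLUB ⟨⟨_, this⟩, ?_⟩
      rintro _ ⟨r, rfl⟩
      exact BSub_le_BBot K r p n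

theorem E_isZero_of_le (r : ℕ) (p n : ℤ) (h : sub (K.ZSub r p n) ≤ sub (K.BSub r p n)) :
    IsZero (K.E r p n) :=
  isZero_subquot_of_eq _ _ _ (le_antisymm (K.BSub_le_ZSub r p n) ((sub_le_iff _ _).2 h))

theorem E0_isZero_of_bot (p n : ℤ) (h : K.filX p n = ⊥) : IsZero (K.E 0 p n) := by
  apply E_isZero_of_le
  rw [sub_ZSub, sub_BSub, Fm_eq_bot K h]
  simp

theorem E0_isZero_of_top (p n : ℤ) (h : K.filX (p + 1) n = ⊤) : IsZero (K.E 0 p n) := by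
  apply E_isZero_of_le
  rw [sub_ZSub, sub_BSub, Fm_eq_top K h]
  simp

theorem isBounded_zero (hK : ∀ n : ℤ, (K.XFil n).IsFinite) : K.IsBounded 0 := by
  intro n
  obtain ⟨⟨a, ha⟩, ⟨b, hb⟩⟩ := hK n
  change K.filX a n = ⊤ at ha
  change K.filX b n = ⊥ at hb
  refine (Set.finite_Ico a b).subset ?_
  intro p hp
  by_contra hc
  apply hp
  rw [Set.mem_Ico, not_and_or, not_le, not_lt] at hc
  rcases hc with hc | hc
  · exact E0_isZero_of_top K p n (top_le_iff.1 (ha ▸ K.filX_anti n (show p + 1 ≤ a by omega)))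
  · exact E0_isZero_of_bot K p n (le_bot_iff.1 (hb ▸ K.filX_anti n hc))

theorem E1_isZero_large (p n : ℤ) (h1 : Acyc K p n) (h2 : Acyc K (p + 1) (n + 1)) :
    IsZero (K.E 1 p n) := by
  apply E_isZero_of_le
  rw [sub_ZSub, sub_BSub]
  simp only [Nat.cast_one, sub_add_cancel]
  refine sup_le ?_ le_sup_right
  rintro x ⟨hx1, hx2⟩
  obtain ⟨y, hy, hdy⟩ := h2 n rfl _ hx2 (d_d K _ _ _ x)
  obtain ⟨z, hz, hdz⟩ := h1 (n - 1) (by omega) (x - y)
    (sub_mem hx1 (Fm_anti K n (by omega) hy)) (by rw [map_sub, hdy, sub_self])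
  have : x = m (K.obj.d (n - 1) n) z + y := by rw [hdz]; abel
  rw [this]
  exact Submodule.add_mem_sup ⟨d_mem K hz, ⟨z, hz, rfl⟩⟩ hy

theorem E1_isZero_small (p n : ℤ) (h1 : InjH K (p + 1) (n + 1)) (h2 : SurjH K (p + 1) n)
    (h3 : InjH K p n) : IsZero (K.E 1 p n) := by
  apply E_isZero_of_le
  rw [sub_ZSub, sub_BSub]
  simp only [Nat.cast_one, sub_add_cancel]
  refine sup_le ?_ le_sup_right
  rintro x ⟨hx1, hx2⟩
  obtain ⟨y, hy, hdy⟩ := h1 n rfl _ hx2 ⟨x, rfl⟩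
  obtain ⟨w, hw, hdw, u, hu⟩ := h2 (n - 1) (by omega) (x - y) (by rw [map_sub, hdy, sub_self])
  obtain ⟨z, hz, hdz⟩ := h3 (n - 1) (by omega) (x - y - w)
    (sub_mem (sub_mem hx1 (Fm_anti K n (by omega) hy)) (Fm_anti K n (by omega) hw)) ⟨u, hu⟩
  have : x = m (K.obj.d (n - 1) n) z + (y + w) := by rw [hdz]; abel
  rw [this]
  exact Submodule.add_mem_sup ⟨d_mem K hz, ⟨z, hz, rfl⟩⟩ (add_mem hy hw)

theorem S6792 (hK : ∀ n : ℤ, (K.XFil n).IsFinite) :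
    K.IsBounded 0 ∧ (∀ n : ℤ, (K.HFil n).IsFinite) ∧ K.Converges := by
  have hA : ∀ n : ℤ, ∃ p₀ : ℤ, ∀ p : ℤ, p₀ ≤ p → Acyc K p n := by
    intro n
    obtain ⟨-, ⟨b, hb⟩⟩ := hK n
    change K.filX b n = ⊥ at hb
    exact ⟨b, fun p hp => acyc_of_eq_bot K (le_bot_iff.1 (hb ▸ K.filX_anti n hp))⟩
  have hI : ∀ n : ℤ, ∃ p₁ : ℤ, ∀ p : ℤ, p ≤ p₁ → InjH K p n := by
    intro n
    obtain ⟨⟨a, ha⟩, -⟩ := hK (n - 1)
    change K.filX a (n - 1) = ⊤ at ha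
    refine ⟨a, fun p hp => injH_of_eq_top K ?_⟩
    intro i hi
    obtain rfl : i = n - 1 := by omega
    exact top_le_iff.1 (ha ▸ K.filX_anti (n - 1) hp)
  have hF : ∀ n : ℤ, (K.HFil n).IsFinite := by
    intro n
    obtain ⟨⟨a, ha⟩, -⟩ := hK n
    change K.filX a n = ⊤ at ha
    obtain ⟨p₀, h₀⟩ := hA n
    exact ⟨⟨a, filH_eq_top K (surjH_of_eq_top K ha)⟩, ⟨p₀, filH_eq_bot K (h₀ p₀ le_rfl)⟩⟩
  exact ⟨isBounded_zero K hK, hF, converges_of K hA hI hF⟩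

theorem S6794
    (h0 : ∀ n : ℤ, ∃ p₀ : ℤ, ∀ p : ℤ, p₀ ≤ p →
      IsZero ((K.fil p : CochainComplex A ℤ).homology n))
    (h1 : ∀ n : ℤ, ∃ p₁ : ℤ, ∀ p : ℤ, p ≤ p₁ →
      IsIso (HomologicalComplex.homologyMap (K.fil p).arrow n)) :
    K.IsBounded 1 ∧ (∀ n : ℤ, (K.HFil n).IsFinite) ∧ K.Converges := by
  have hA : ∀ n : ℤ, ∃ p₀ : ℤ, ∀ p : ℤ, p₀ ≤ p → Acyc K p n := fun n => by
    obtain ⟨p₀, h⟩ := h0 n
    exact ⟨p₀, fun p hp => acyc_of_isZero K (h p hp)⟩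
  have hI : ∀ n : ℤ, ∃ p₁ : ℤ, ∀ p : ℤ, p ≤ p₁ → InjH K p n ∧ SurjH K p n := fun n => by
    obtain ⟨p₁, h⟩ := h1 n
    refine ⟨p₁, fun p hp => ?_⟩
    haveI := h p hp
    exact ⟨injH_of_mono K inferInstance, surjH_of_epi K inferInstance⟩
  have hF : ∀ n : ℤ, (K.HFil n).IsFinite := by
    intro n
    obtain ⟨p₀, h₀⟩ := hA n
    obtain ⟨p₁, h₁⟩ := hI n
    exact ⟨⟨p₁, filH_eq_top K (h₁ p₁ le_rfl).2⟩, ⟨p₀, filH_eq_bot K (h₀ p₀ le_rfl)⟩⟩
  refine ⟨?_, hF, converges_of K hA (fun n => ?_) hF⟩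
  · intro n
    obtain ⟨a0, ha0⟩ := hA n
    obtain ⟨a1, ha1⟩ := hA (n + 1)
    obtain ⟨b0, hb0⟩ := hI n
    obtain ⟨b1, hb1⟩ := hI (n + 1)
    refine (Set.finite_Icc (min b0 b1 - 1) (max a0 a1)).subset ?_
    intro p hp
    by_contra hc
    apply hp
    rw [Set.mem_Icc, not_and_or, not_le, not_le] at hc
    rcases hc with hc | hc
    · have h1 : p + 1 ≤ b0 := by have := min_le_left b0 b1; omega
      have h2 : p + 1 ≤ b1 := by have := min_le_right b0 b1; omega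
      exact E1_isZero_small K p n (hb1 _ h2).1 (hb0 _ h1).2 (hb0 _ (by omega)).1
    · have h1 : a0 ≤ p := by have := le_max_left a0 a1; omega
      have h2 : a1 ≤ p + 1 := by have := le_max_right a0 a1; omega
      exact E1_isZero_large K p n (ha0 _ h1) (ha1 _ h2)
  · obtain ⟨p₁, h⟩ := hI n
    exact ⟨p₁, fun p hp => (h p hp).1⟩

end Groth.Agent.Helper9.FilCxFM
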