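import Mathlib
import Groth.Prelude.Def_SGA1
import Groth.Agent.Helper6.QuotBasis
import Groth.Agent.Helper9.EffEpiQ

/-!
# IsQuot can be checked on charts

`isQuot_of_charts`: a `G`-invariant morphism `p : X ⟶ Y` is a quotient as soon as `Y` is covered by
open immersions `jY i : Yc i ⟶ Y` over which `p` restricts (along open immersions `jX i`, with
`p⁻¹(range jY i) = range jX i`) to quotient morphisms `pc i : Xc i ⟶ Yc i` for compatible actions.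
-/

universe u

namespace Groth.Agent.Helper9.QuotCharts

open CategoryTheory AlgebraicGeometry Opposite TopologicalSpace
open Groth.Agent.Helper6.QuotAct Groth.Agent.Helper6.QuotBasis

variable {X Y : Scheme.{u}} {G : Type u} [Group G] (ρ : G →* Aut X) (p : X ⟶ Y)
  (hinv : ∀ g : G, (ρ g).hom ≫ p = p)

section OneChart

variable {Xc Yc : Scheme.{u}} (jX : Xc ⟶ X) (jY : Yc ⟶ Y) [IsOpenImmersion jX] [IsOpenImmersion jY]
  (pc : Xc ⟶ Yc) (hsq : jX ≫ p = pc ≫ jY) (hpre : p ⁻¹ᵁ jY.opensRange = jX.opensRange)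
  (ρc : G →* Aut Xc) (hρc : ∀ g, (ρc g).hom ≫ jX = jX ≫ (ρ g).hom)

include hsq in
theorem le_preimage (V : Y.Opens) : pc ⁻¹ᵁ (jY ⁻¹ᵁ V) ≤ jX ⁻¹ᵁ (p ⁻¹ᵁ V) := by
  rw [← Scheme.Hom.comp_preimage, ← Scheme.Hom.comp_preimage, hsq]

include hsq hpre in
theorem chart_injective (hq : SGA1.IsQuot ρc pc) (V : Y.Opens) (hV : V ≤ jY.opensRange) :
    Function.Injective (p.app V).hom := by
  -- φ : Γ(X, p⁻¹V) → Γ(Xc, pc⁻¹ jY⁻¹ V), ψ : Γ(Y, V) → Γ(Yc, jY⁻¹V)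
  have e := le_preimage p jX jY pc hsq V
  have hcomm : p.app V ≫ jX.appLE (p ⁻¹ᵁ V) (pc ⁻¹ᵁ (jY ⁻¹ᵁ V)) e =
      jY.app V ≫ pc.app (jY ⁻¹ᵁ V) := by
    rw [Scheme.Hom.app_eq_appLE, Scheme.Hom.app_eq_appLE, Scheme.Hom.app_eq_appLE,
      Scheme.Hom.appLE_comp_appLE, Scheme.Hom.appLE_comp_appLE]
    exact Groth.Agent.Helper9.EffEpiQ.appLE_congr_hom _ _ hsq _ _ _ _
  haveI : IsIso (jY.app V) := jY.isIso_app V hV
  have hψ : Function.Injective (jY.app V).hom := (ConcreteCategory.bijective_of_isIso _).1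
  intro t₁ t₂ h
  apply hψ
  apply hq.injective (jY ⁻¹ᵁ V)
  have h1 := congrArg (fun φ => φ.hom t₁) hcomm
  have h2 := congrArg (fun φ => φ.hom t₂) hcomm
  simp only [CommRingCat.hom_comp, RingHom.coe_comp, Function.comp_apply] at h1 h2
  rw [← h1, ← h2, h]

include hsq hpre hρc in
theorem chart_range (hq : SGA1.IsQuot ρc pc) (V : Y.Opens) (hV : V ≤ jY.opensRange)
    (s : Γ(X, p ⁻¹ᵁ V)) (hs : ∀ g, (pb ρ p hinv g V).hom s = s) :
    s ∈ Set.range (p.app V).hom := by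
  have e := le_preimage p jX jY pc hsq V
  have heq : pc ⁻¹ᵁ (jY ⁻¹ᵁ V) = jX ⁻¹ᵁ (p ⁻¹ᵁ V) := by
    rw [← Scheme.Hom.comp_preimage, ← Scheme.Hom.comp_preimage, hsq]
  have hcomm : p.app V ≫ jX.appLE (p ⁻¹ᵁ V) (pc ⁻¹ᵁ (jY ⁻¹ᵁ V)) e =
      jY.app V ≫ pc.app (jY ⁻¹ᵁ V) := by
    rw [Scheme.Hom.app_eq_appLE, Scheme.Hom.app_eq_appLE, Scheme.Hom.app_eq_appLE,
      Scheme.Hom.appLE_comp_appLE, Scheme.Hom.appLE_comp_appLE]
    exact Groth.Agent.Helper9.EffEpiQ.appLE_congr_hom _ _ hsq _ _ _ _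
  haveI : IsIso (jY.app V) := jY.isIso_app V hV
  have hψ : Function.Surjective (jY.app V).hom := (ConcreteCategory.bijective_of_isIso _).2
  -- φ is injective
  have hφ : Function.Injective (jX.appLE (p ⁻¹ᵁ V) (pc ⁻¹ᵁ (jY ⁻¹ᵁ V)) e).hom := by
    have hle : p ⁻¹ᵁ V ≤ jX.opensRange := by
      rw [← hpre]; exact p.preimage_mono hV
    haveI : IsIso (jX.app (p ⁻¹ᵁ V)) := jX.isIso_app _ hle
    have h1 : Function.Injective (jX.app (p ⁻¹ᵁ V)).hom :=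
      (ConcreteCategory.bijective_of_isIso _).1
    have h2 : homOfLE e = eqToHom heq := Subsingleton.elim _ _
    haveI : IsIso (Xc.presheaf.map (homOfLE e).op) := by rw [h2]; infer_instance
    have h3 : Function.Injective (Xc.presheaf.map (homOfLE e).op).hom :=
      (ConcreteCategory.bijective_of_isIso _).1
    change Function.Injective (jX.app (p ⁻¹ᵁ V) ≫ Xc.presheaf.map (homOfLE e).op).hom
    rw [CommRingCat.hom_comp, RingHom.coe_comp]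
    exact h3.comp h1
  -- equivariance of φ
  have hequiv : ∀ g : G, pb ρ p hinv g V ≫ jX.appLE (p ⁻¹ᵁ V) (pc ⁻¹ᵁ (jY ⁻¹ᵁ V)) e =
      jX.appLE (p ⁻¹ᵁ V) (pc ⁻¹ᵁ (jY ⁻¹ᵁ V)) e ≫ pb ρc pc hq.inv g (jY ⁻¹ᵁ V) := by
    intro g
    unfold pb
    rw [Scheme.Hom.appLE_comp_appLE, Scheme.Hom.appLE_comp_appLE]
    exact Groth.Agent.Helper9.EffEpiQ.appLE_congr_hom _ _ (hρc g).symm _ _ _ _
  have hfix : ∀ g : G, (pb ρc pc hq.inv g (jY ⁻¹ᵁ V)).hom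
      ((jX.appLE (p ⁻¹ᵁ V) (pc ⁻¹ᵁ (jY ⁻¹ᵁ V)) e).hom s) =
      (jX.appLE (p ⁻¹ᵁ V) (pc ⁻¹ᵁ (jY ⁻¹ᵁ V)) e).hom s := by
    intro g
    have h1 := congrArg (fun φ => φ.hom s) (hequiv g)
    simp only [CommRingCat.hom_comp, RingHom.coe_comp, Function.comp_apply] at h1
    rw [← h1, hs g]
  obtain ⟨t', ht'⟩ := (hq.range_iff (jY ⁻¹ᵁ V) _).mpr hfix
  obtain ⟨t, rfl⟩ := hψ t'
  refine ⟨t, hφ ?_⟩
  have h1 := congrArg (fun φ => φ.hom t) hcomm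
  simp only [CommRingCat.hom_comp, RingHom.coe_comp, Function.comp_apply] at h1
  rw [h1, ht']

include hsq hpre in
theorem chart_affine (hq : SGA1.IsQuot ρc pc) (W' : Yc.Opens) (hW' : IsAffineOpen W') :
    IsAffineOpen (jY ''ᵁ W') ∧ IsAffineOpen (p ⁻¹ᵁ (jY ''ᵁ W')) := by
  refine ⟨hW'.image_of_isOpenImmersion jY, ?_⟩
  haveI := hq.affine
  have h1 : IsAffineOpen (jX ''ᵁ (pc ⁻¹ᵁ W')) := (hW'.preimage pc).image_of_isOpenImmersion jX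
  have h2 : p ⁻¹ᵁ (jY ''ᵁ W') = jX ''ᵁ (pc ⁻¹ᵁ W') := by
    ext x
    constructor
    · rintro ⟨w, hw, hwx⟩
      have hx : x ∈ p ⁻¹ᵁ jY.opensRange := ⟨w, hwx⟩
      rw [hpre] at hx
      obtain ⟨x', rfl⟩ := hx
      refine ⟨x', ?_, rfl⟩
      have h3 : jY (pc x') = p (jX x') := by
        rw [← Scheme.Hom.comp_apply, ← Scheme.Hom.comp_apply, hsq]
      have h4 : w = pc x' := jY.isOpenEmbedding.injective (hwx.trans h3.symm)
      change pc x' ∈ W'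
      rw [← h4]; exact hw
    · rintro ⟨x', hx', rfl⟩
      have h3 : jY (pc x') = p (jX x') := by
        rw [← Scheme.Hom.comp_apply, ← Scheme.Hom.comp_apply, hsq]
      exact ⟨pc x', hx', h3⟩
  rw [h2]; exact h1

end OneChart

include hinv in
theorem isQuot_of_charts {I : Type*} (Xc Yc : I → Scheme.{u}) (jX : ∀ i, Xc i ⟶ X)
    (jY : ∀ i, Yc i ⟶ Y) [∀ i, IsOpenImmersion (jX i)] [∀ i, IsOpenImmersion (jY i)]
    (pc : ∀ i, Xc i ⟶ Yc i) (hsq : ∀ i, jX i ≫ p = pc i ≫ jY i)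
    (hpre : ∀ i, p ⁻¹ᵁ (jY i).opensRange = (jX i).opensRange)
    (hcov : ∀ y : Y, ∃ i, y ∈ (jY i).opensRange)
    (ρc : ∀ i, G →* Aut (Xc i)) (hρc : ∀ i g, ((ρc i) g).hom ≫ jX i = jX i ≫ (ρ g).hom)
    (hq : ∀ i, SGA1.IsQuot (ρc i) (pc i)) : SGA1.IsQuot ρ p := by
  haveI : IsAffineHom p := by
    apply isAffineHom_of_forall_exists_isAffineOpen
    intro y
    obtain ⟨i, y', rfl⟩ := hcov y
    obtain ⟨_, ⟨W', hW', rfl⟩, hyW', -⟩ :=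
      (Yc i).isBasis_affineOpens.exists_subset_of_mem_open (Set.mem_univ y') isOpen_univ
    obtain ⟨h1, h2⟩ := chart_affine p (jX i) (jY i) (pc i) (hsq i) (hpre i) (ρc i) (hq i) W' hW'
    exact ⟨(jY i) ''ᵁ W', ⟨y', hyW', rfl⟩, h1, h2⟩
  refine isQuot_of_basis ρ p hinv {V | ∃ i, V ≤ (jY i).opensRange} ?_ ?_ ?_
  · rw [Opens.isBasis_iff_nbhd]
    intro U y hy
    obtain ⟨i, hi⟩ := hcov y
    exact ⟨U ⊓ (jY i).opensRange, ⟨i, inf_le_right⟩, ⟨hy, hi⟩, inf_le_left⟩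
  · rintro V ⟨i, hV⟩
    exact chart_injective p (jX i) (jY i) (pc i) (hsq i) (hpre i) (ρc i) (hq i) V hV
  · rintro V ⟨i, hV⟩ s hs
    exact chart_range ρ p hinv (jX i) (jY i) (pc i) (hsq i) (hpre i) (ρc i) (hρc i) (hq i) V hV s hs

end Groth.Agent.Helper9.QuotCharts
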