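import Mathlib
set_option autoImplicit false
universe u v w
open TensorProduct MulOpposite

namespace Groth.Agent.Helper9.AzuEnd

variable (R : Type u) [CommRing R]
    (P : Type v) [AddCommGroup P] [Module R P] [Module.Finite R P] [Module.Projective R P]

lemma transpose_bijective :
    Function.Bijective (Module.Dual.transpose (R := R) (M := P) (M' := P)) := by
  constructor
  · rw [injective_iff_map_eq_zero]
    intro g hg
    apply LinearMap.ext
    intro q
    apply (Module.evalEquiv R P).injective
    apply LinearMap.ext
    intro φ
    have := LinearMap.congr_fun (LinearMap.congr_fun hg φ) q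
    simpa [Module.Dual.transpose_apply] using this
  · intro h
    refine ⟨(Module.evalEquiv R P).symm.toLinearMap ∘ₗ h.dualMap ∘ₗ
      (Module.evalEquiv R P).toLinearMap, ?_⟩
    apply LinearMap.ext
    intro φ
    apply LinearMap.ext
    intro q
    simp [Module.Dual.transpose_apply, Module.apply_evalEquiv_symm_apply]

noncomputable def transEquiv : Module.End R P ≃ₗ[R] Module.End R (Module.Dual R P) :=
  LinearEquiv.ofBijective Module.Dual.transpose (transpose_bijective R P)

lemma mLR_eq (f : Module.End R P) (g : (Module.End R P)ᵐᵒᵖ) :
    AlgHom.mulLeftRight R (Module.End R P) (f ⊗ₜ g) =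
      (dualTensorHomEquiv R P P).conj (TensorProduct.map (Module.Dual.transpose g.unop) f) := by
  apply LinearMap.ext
  intro x
  obtain ⟨y, rfl⟩ := (dualTensorHomEquiv R P P).surjective x
  induction y using TensorProduct.induction_on with
  | zero => simp
  | add y z hy hz => simp only [map_add, hy, hz]
  | tmul φ p =>
    apply LinearMap.ext
    intro q
    simp [LinearEquiv.conj_apply, Module.Dual.transpose_apply]

/-- the composite equivalence -/
noncomputable def bigEquiv :
    (Module.End R P ⊗[R] (Module.End R P)ᵐᵒᵖ) ≃ₗ[R] Module.End R (Module.End R P) :=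
  TensorProduct.congr (LinearEquiv.refl R _) (opLinearEquiv R).symm ≪≫ₗ
    TensorProduct.comm R _ _ ≪≫ₗ
    TensorProduct.congr (transEquiv R P) (LinearEquiv.refl R _) ≪≫ₗ
    homTensorHomEquiv R (Module.Dual R P) P (Module.Dual R P) P ≪≫ₗ
    (dualTensorHomEquiv R P P).conj

lemma bigEquiv_eq :
    (AlgHom.mulLeftRight R (Module.End R P)).toLinearMap = (bigEquiv R P).toLinearMap := by
  apply TensorProduct.ext'
  intro f g
  simp only [AlgHom.toLinearMap_apply, LinearEquiv.coe_coe]
  rw [mLR_eq]
  simp [bigEquiv, transEquiv]

instance : Module.Finite R (Module.End R P) :=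
  Module.Finite.equiv (dualTensorHomEquiv R P P)

instance : Module.Projective R (Module.End R P) :=
  Module.Projective.of_equiv (dualTensorHomEquiv R P P)

theorem endAzumaya [FaithfulSMul R P] : IsAzumaya R (Module.End R P) where
  eq_of_smul_eq_smul := by
    intro r s h
    apply FaithfulSMul.eq_of_smul_eq_smul (α := P)
    intro p
    have := LinearMap.congr_fun (h 1) p
    simpa using this
  bij := by
    have h : Function.Bijective (AlgHom.mulLeftRight R (Module.End R P)).toLinearMap := by
      rw [bigEquiv_eq]
      exact LinearEquiv.bijective _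
    exact h

end Groth.Agent.Helper9.AzuEnd
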