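import Mathlib

/-! Exactness of complexes of abelian sheaves tested on weakly contractible objects (S19540). -/

set_option autoImplicit false
universe w v u

open CategoryTheory CategoryTheory.Limits Opposite

namespace Groth.Agent.Helper9.WContr

variable {C : Type u} [Category.{v} C] (J : GrothendieckTopology C) [HasSheafify J AddCommGrpCat.{w}]
  [J.WEqualsLocallyBijective AddCommGrpCat.{w}]

/-- sections over `U` -/
abbrev Γ (U : C) : Sheaf J AddCommGrpCat.{w} ⥤ AddCommGrpCat.{w} :=
  sheafToPresheaf J AddCommGrpCat.{w} ⋙ (evaluation Cᵒᵖ AddCommGrpCat.{w}).obj (op U)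

/-- sections over a weakly contractible object preserve epimorphisms -/
theorem epi_map_of_weaklyContractible (U : C)
    (hU : ∀ (P Q : Sheaf J (Type w)) (ψ : P ⟶ Q), Epi ψ → Function.Surjective (ψ.hom.app (op U)))
    {F G : Sheaf J AddCommGrpCat.{w}} (φ : F ⟶ G) [Epi φ] : Epi ((Γ J U).map φ) := by
  haveI : Sheaf.IsLocallySurjective φ := (Sheaf.isLocallySurjective_iff_epi' (φ := φ)).2 inferInstance
  have h1 : Epi ((sheafCompose J (forget AddCommGrpCat.{w})).map φ) := inferInstance
  have h2 := hU _ _ _ h1
  rw [AddCommGrpCat.epi_iff_surjective]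
  exact h2

theorem exact_map_of_weaklyContractible (U : C)
    (hU : ∀ (P Q : Sheaf J (Type w)) (ψ : P ⟶ Q), Epi ψ → Function.Surjective (ψ.hom.app (op U)))
    (S : ShortComplex (Sheaf J AddCommGrpCat.{w})) (hS : S.Exact) : (S.map (Γ J U)).Exact := by
  have hlim : PreservesFiniteLimits (Γ J U) := inferInstance
  have hcolim : PreservesFiniteColimits (Γ J U) :=
    (Functor.preservesFiniteColimits_iff_forall_exact_map_and_epi _).2 (fun T hT =>
      ⟨((Functor.preservesFiniteLimits_iff_forall_exact_map_and_mono _).1 hlim T hT).1, by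
        haveI := hT.epi_g
        exact epi_map_of_weaklyContractible J U hU T.g⟩)
  have h := ((Γ J U).exact_tfae.out 3 1).1 (And.intro hlim hcolim)
  exact h S hS

theorem exact_of_sections (B : C → Prop)
    (hcov : ∀ V : C, ∃ S : Sieve V, S ∈ J V ∧ ∀ ⦃W : C⦄ (f : W ⟶ V), S.arrows f →
      ∃ (U : C) (g : W ⟶ U) (h : U ⟶ V), B U ∧ g ≫ h = f)
    (S : ShortComplex (Sheaf J AddCommGrpCat.{w}))
    (hB : ∀ U : C, B U → (S.map (Γ J U)).Exact) : S.Exact := by
  rw [S.exact_iff_epi_kernel_lift]
  haveI : Sheaf.IsLocallySurjective (kernel.lift S.g S.f S.zero) := by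
    constructor
    intro V s
    obtain ⟨R, hR, hfac⟩ := hcov V
    refine J.superset_covering ?_ hR
    intro W f hf
    obtain ⟨U, g, h', hU, rfl⟩ := hfac f hf
    -- the section restricted to `U`
    set k := kernel.lift S.g S.f S.zero with hk
    have hkι : k ≫ kernel.ι S.g = S.f := kernel.lift_ι _ _ _
    set sU := (kernel S.g).obj.map h'.op s with hsU
    set x := (kernel.ι S.g).hom.app (op U) sU with hx
    have hgx : S.g.hom.app (op U) x = 0 := by
      have h0 : kernel.ι S.g ≫ S.g = 0 := kernel.condition S.g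
      have h1 := congrArg (fun t => t.hom.app (op U)) h0
      exact ConcreteCategory.congr_hom h1 sU
    obtain ⟨t, ht⟩ := (ShortComplex.ab_exact_iff _).1 (hB U hU) x hgx
    have hinj : Function.Injective ((kernel.ι S.g).hom.app (op U)) := by
      have : Mono ((Γ J U).map (kernel.ι S.g)) := inferInstance
      exact (AddCommGrpCat.mono_iff_injective _).1 this
    have hkt : k.hom.app (op U) t = sU := by
      apply hinj
      have h1 := congrArg (fun t => t.hom.app (op U)) hkι
      have h2 := ConcreteCategory.congr_hom h1 t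
      exact h2.trans ht
    refine ⟨S.X₁.obj.map g.op t, ?_⟩
    have h3 := NatTrans.naturality_apply k.hom g.op t
    rw [h3, hkt, hsU, op_comp, Functor.map_comp]
    rfl
  infer_instance

end Groth.Agent.Helper9.WContr
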