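import Mathlib
import Groth.Agent.Helper9.WContr

/-! AB4* for abelian sheaves on a site with enough weakly contractible objects (S0492). -/

set_option autoImplicit false
universe u

open CategoryTheory CategoryTheory.Limits Opposite

namespace Groth.Agent.Helper9.AB4StarWC

open Groth.Agent.Helper9.WContr

variable {C : Type u} [SmallCategory C] (J : GrothendieckTopology C)

/-- on a weakly contractible object, sections of a product of epimorphisms are surjective -/
theorem surjective_lim_map (α : Type u) (U : C)
    (hU : ∀ (P Q : Sheaf J (Type u)) (ψ : P ⟶ Q), Epi ψ → Function.Surjective (ψ.hom.app (op U)))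
    {X Y : Discrete α ⥤ Sheaf J AddCommGrpCat.{u}} (f : X ⟶ Y) (hf : ∀ a, Epi (f.app a)) :
    Function.Surjective ((lim.map f).hom.app (op U)) := by
  let e := preservesLimitNatIso (J := Discrete α) (Γ J U)
  have h1 := e.hom.naturality f
  haveI : ∀ a, Epi ((Functor.whiskerRight f (Γ J U)).app a) := fun a => by
    haveI := hf a
    exact epi_map_of_weaklyContractible J U hU (f.app a)
  haveI : Epi (Functor.whiskerRight f (Γ J U)) := NatTrans.epi_of_epi_app _
  haveI : PreservesFiniteColimits (lim (J := Discrete α) (C := AddCommGrpCat.{u})) :=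
    HasExactLimitsOfShape.preservesFiniteColimits
  haveI : Epi (lim.map (Functor.whiskerRight f (Γ J U))) := inferInstance
  have h2 : (Γ J U).map (lim.map f) =
      e.hom.app X ≫ lim.map (Functor.whiskerRight f (Γ J U)) ≫ e.inv.app Y := by
    rw [← cancel_mono (e.hom.app Y)]
    simp only [Category.assoc, Iso.inv_hom_id_app]
    erw [Category.comp_id]
    exact h1
  have h3 : Epi ((Γ J U).map (lim.map f)) := by
    rw [h2]
    infer_instance
  exact (AddCommGrpCat.epi_iff_surjective _).1 h3

theorem ab4Star (B : Set C)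
    (hB : ∀ U ∈ B, ∀ (P Q : Sheaf J (Type u)) (ψ : P ⟶ Q), Epi ψ →
      Function.Surjective (ψ.hom.app (op U)))
    (hcov : ∀ V : C, ∃ (ι : Type u) (U : ι → C) (f : ∀ i, U i ⟶ V),
      (∀ i, U i ∈ B) ∧ Sieve.ofArrows U f ∈ J V) :
    AB4Star (Sheaf J AddCommGrpCat.{u}) := by
  constructor
  intro α
  apply +allowSynthFailures hasExactLimitsOfShape_of_preservesEpi
  constructor
  intro P Q f hf
  have hf' : ∀ a, Epi (f.app a) := fun a => inferInstance
  haveI : Sheaf.IsLocallySurjective (lim.map f) := by
    constructor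
    intro V t
    obtain ⟨ι, U, g, hUB, hcovV⟩ := hcov V
    refine J.superset_covering ?_ hcovV
    rw [Sieve.ofArrows, Sieve.generate_le_iff]
    intro W k hk
    obtain ⟨i⟩ := hk
    obtain ⟨s, hs⟩ := surjective_lim_map J α (U i) (hB _ (hUB i)) f hf'
      ((limit Q).obj.map (g i).op t)
    exact ⟨s, hs⟩
  infer_instance

end Groth.Agent.Helper9.AB4StarWC
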