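import Mathlib

/-!
# Absolutely integrally closed domains: retractions of integral extensions (helper9)
-/

set_option autoImplicit false
universe u
open CategoryTheory CategoryTheory.Limits AlgebraicGeometry TopologicalSpace Polynomial

namespace Groth.Agent.Helper9.AICLocal

/-- A section of `Spec φ` gives a retraction of `φ`. -/
theorem exists_retraction_of_section {A B : Type u} [CommRing A] [CommRing B] (φ : A →+* B)
    (h : Spec (CommRingCat.of A) ⟶ Spec (CommRingCat.of B))
    (hh : h ≫ Spec.map (CommRingCat.ofHom φ) = 𝟙 _) : ∃ ψ : B →+* A, ψ.comp φ = RingHom.id A := by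
  refine ⟨(Spec.preimage h).hom, ?_⟩
  have h1 : Spec.map (CommRingCat.ofHom φ ≫ Spec.preimage h) =
      Spec.map (𝟙 (CommRingCat.of A)) := by
    rw [Spec.map_comp, Spec.map_preimage, Spec.map_id]
    exact hh
  have h2 := Spec.map_injective h1
  exact congrArg CommRingCat.Hom.hom h2

/-- Over a ring in which every monic polynomial of positive degree has a root, an integral element
of a domain lies in the image. -/
theorem mem_range_of_isIntegral {A D : Type u} [CommRing A] [CommRing D] [IsDomain D]
    (φ : A →+* D) (hA : ∀ f : A[X], f.Monic → 0 < f.natDegree → ∃ r : A, f.eval r = 0)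
    (b : D) (hb : φ.IsIntegralElem b) : b ∈ Set.range φ := by
  haveI : Nontrivial A := φ.domain_nontrivial
  obtain ⟨G, hG, hGb⟩ := hb
  induction hn : G.natDegree generalizing G with
  | zero =>
    exfalso
    have h1 : G = 1 := by
      rw [Polynomial.eq_C_of_natDegree_eq_zero hn] at hG ⊢
      have : G.coeff 0 = 1 := by
        have h2 := hG
        rw [Polynomial.Monic, Polynomial.leadingCoeff_C] at h2
        exact h2
      rw [this, map_one]
    rw [h1, Polynomial.eval₂_one] at hGb
    exact one_ne_zero hGb
  | succ n ih =>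
    obtain ⟨a, ha⟩ := hA G hG (by omega)
    have hdvd : (X - C a) ∣ G := Polynomial.dvd_iff_isRoot.mpr ha
    obtain ⟨G₁, hG₁⟩ := hdvd
    have hG₁monic : G₁.Monic := by
      have h3 : (X - C a).Monic := Polynomial.monic_X_sub_C a
      exact h3.of_mul_monic_left (hG₁ ▸ hG)
    have hdeg : G₁.natDegree = n := by
      have h4 := congrArg Polynomial.natDegree hG₁
      rw [(Polynomial.monic_X_sub_C a).natDegree_mul hG₁monic, Polynomial.natDegree_X_sub_C, hn] at h4
      omega
    rw [hG₁, Polynomial.eval₂_mul, Polynomial.eval₂_sub, Polynomial.eval₂_X, Polynomial.eval₂_C,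
      mul_eq_zero] at hGb
    rcases hGb with h5 | h5
    · exact ⟨a, (sub_eq_zero.mp h5).symm⟩
    · exact ih G₁ hG₁monic h5 hdeg

/-- An integral ring map out of an absolutely integrally closed ring admits a retraction as soon as
some prime of the target lies over the zero ideal. -/
theorem exists_retraction_of_integral {A B : Type u} [CommRing A] [CommRing B] (φ : A →+* B)
    (hφ : φ.IsIntegral) (hA : ∀ f : A[X], f.Monic → 0 < f.natDegree → ∃ r : A, f.eval r = 0)
    (q : Ideal B) [q.IsPrime] (hq : q.comap φ = ⊥) : ∃ ψ : B →+* A, ψ.comp φ = RingHom.id A := by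
  let θ : A →+* B ⧸ q := (Ideal.Quotient.mk q).comp φ
  have hinj : Function.Injective θ := by
    rw [injective_iff_map_eq_zero]
    intro a ha
    have h1 : a ∈ q.comap φ := by
      rw [Ideal.mem_comap]
      exact Ideal.Quotient.eq_zero_iff_mem.mp ha
    rw [hq] at h1
    exact h1
  have hsurj : Function.Surjective θ := by
    intro d
    obtain ⟨b, rfl⟩ := Ideal.Quotient.mk_surjective d
    have hint : θ.IsIntegralElem (Ideal.Quotient.mk q b) := by
      obtain ⟨G, hG, hGb⟩ := hφ b
      refine ⟨G, hG, ?_⟩
      have h2 := congrArg (Ideal.Quotient.mk q) hGb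
      rw [Polynomial.hom_eval₂, map_zero] at h2
      exact h2
    exact mem_range_of_isIntegral θ hA _ hint
  let e : A ≃+* B ⧸ q := RingEquiv.ofBijective θ ⟨hinj, hsurj⟩
  refine ⟨e.symm.toRingHom.comp (Ideal.Quotient.mk q), ?_⟩
  ext a
  change e.symm (Ideal.Quotient.mk q (φ a)) = a
  exact e.symm_apply_apply a

end Groth.Agent.Helper9.AICLocal
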