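import Groth.Agent.Helper9.ARLin2
import Mathlib

set_option autoImplicit false

namespace Groth.Agent.Helper9.ARShift

open CategoryTheory CategoryTheory.Limits Opposite
open Groth.Agent.Helper9.FM Groth.Agent.Helper9.ARSysML Groth.Agent.Helper9.ARLin
open Groth.Agent.Helper4.ARSysBasic

universe w v u

variable {C : Type u} [Category.{v} C] [Abelian C]

theorem isARNull_kernel_iff {X Y : ARSys.PS C} (u : Y ⟶ X) :
    ARSys.IsARNull (kernel u) ↔ ∃ r : ℕ, ∀ (n : ℕ) (y : (F C).obj (Y.obj (op (n + r)))),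
      m (u.app (op (n + r))) y = 0 → m (ARSys.tr Y (Nat.le_add_right n r)) y = 0 := by
  constructor
  · rintro ⟨r, hr⟩
    refine ⟨r, fun n y hy => ?_⟩
    obtain ⟨k, rfl⟩ := (exact_iff _).1 (ker_exact u (op (n + r))) y hy
    change m (ARSys.tr Y (Nat.le_add_right n r)) (m ((kernel.ι u).app (op (n + r))) k) = 0
    rw [← nat_apply]
    have : ARSys.tr (kernel u) (Nat.le_add_right n r) = 0 := hr n
    rw [this]; simp
  · rintro ⟨r, hr⟩
    refine ⟨r, fun n => ?_⟩
    change ARSys.tr (kernel u) (Nat.le_add_right n r) = 0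
    rw [eq_zero_iff]
    intro k
    apply (mono_iff _).1 (ker_mono u (op n))
    rw [nat_apply, map_zero]
    apply hr
    have := congrArg (fun t => m t k) (show (kernel.ι u).app (op (n + r)) ≫ u.app (op (n + r)) = 0 by
      rw [← NatTrans.comp_app, kernel.condition]; rfl)
    simpa [m_comp_apply] using this

theorem isARNull_cokernel_iff {X Y : ARSys.PS C} (u : Y ⟶ X) :
    ARSys.IsARNull (cokernel u) ↔ ∃ r : ℕ, ∀ (n : ℕ) (x : (F C).obj (X.obj (op (n + r)))),
      ∃ y, m (u.app (op n)) y = m (ARSys.tr X (Nat.le_add_right n r)) x := by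
  constructor
  · rintro ⟨r, hr⟩
    refine ⟨r, fun n x => ?_⟩
    exact range_tr_le_of_coker_null u r hr (Nat.le_add_right n r) le_rfl ⟨x, rfl⟩
  · rintro ⟨r, hr⟩
    refine ⟨r, fun n => ?_⟩
    change ARSys.tr (cokernel u) (Nat.le_add_right n r) = 0
    rw [eq_zero_iff]
    intro c
    obtain ⟨x, rfl⟩ := (epi_iff _).1 (coker_epi u (op (n + r))) c
    rw [← nat_apply]
    obtain ⟨y, hy⟩ := hr n x
    rw [← hy]
    have := congrArg (fun t => m t y) (show u.app (op n) ≫ (cokernel.π u).app (op n) = 0 by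
      rw [← NatTrans.comp_app, cokernel.condition]; rfl)
    simpa [m_comp_apply] using this

variable {A : Type w} [CommRing A] [Linear A C]

theorem S3178 (J : Ideal A)
    (hJ : J.FG ∨ HasCoproducts.{w} C) (X Y : ARSys.PS C) (kX : ARSys.TermKilled J X)
    (hY : ARSys.IsAdic J Y) (r : ℕ)
    (v : (ARSys.shift C r).obj Y ⟶ X) (hv : ARSys.IsARIso v) :
    ∃ u : Y ⟶ X, ARSys.IsARIso u := by
  have hq : ∀ (n l : ℕ) (φ : Y.obj (op (n + r)) ⟶ X.obj (op l)), l ≤ n →
      ∃! ψ : Y.obj (op n) ⟶ X.obj (op l), ARSys.tr Y (Nat.le_add_right n r) ≫ ψ = φ :=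
    fun n l φ hl => (hY.2 n (n + r) (Nat.le_add_right n r)).2 _ φ
      (KilledBy.hom' (KilledBy.anti (Ideal.pow_le_pow_right (by omega)) (kX l)) _)
  have hsurj : ∀ n : ℕ, Function.Surjective (m (ARSys.tr Y (Nat.le_add_right n r))) := by
    intro n
    obtain ⟨D⟩ := pow_mulData (C := C) J hJ (n + 1)
    exact D.isQuot_surj (hY.2 n (n + r) (Nat.le_add_right n r))
  let va : ∀ n : ℕ, Y.obj (op (n + r)) ⟶ X.obj (op n) := fun n => v.app (op n)
  have hva_nat : ∀ (a b : ℕ) (h : b ≤ a), va a ≫ ARSys.tr X h =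
      ARSys.tr Y (show b + r ≤ a + r by omega) ≫ va b :=
    fun a b h => (v.naturality (homOfLE h).op).symm
  obtain ⟨s₁, hs₁⟩ := (isARNull_kernel_iff v).1 hv.1
  obtain ⟨s₂, hs₂⟩ := (isARNull_cokernel_iff v).1 hv.2
  have hs₁' : ∀ (n : ℕ) (y : (F C).obj (Y.obj (op (n + s₁ + r)))),
      m (va (n + s₁)) y = 0 → m (ARSys.tr Y (show n + r ≤ n + s₁ + r by omega)) y = 0 := hs₁
  have hs₂' : ∀ (n : ℕ) (x : (F C).obj (X.obj (op (n + s₂)))),
      ∃ y : (F C).obj (Y.obj (op (n + r))),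
        m (va n) y = m (ARSys.tr X (Nat.le_add_right n s₂)) x := hs₂
  clear_value va
  clear hs₁ hs₂
  let ua : ∀ n : ℕ, Y.obj (op n) ⟶ X.obj (op n) := fun n => (hq n n (va n) le_rfl).choose
  have hua : ∀ n : ℕ, ARSys.tr Y (Nat.le_add_right n r) ≫ ua n = va n :=
    fun n => (hq n n (va n) le_rfl).choose_spec.1
  have hnat : ∀ (a b : ℕ) (h : b ≤ a), ARSys.tr Y h ≫ ua b = ua a ≫ ARSys.tr X h := by
    intro a b h
    apply (hq a b (va a ≫ ARSys.tr X h) h).unique
    · rw [← Category.assoc, tr_comp, hva_nat a b h, ← hua b, ← Category.assoc, tr_comp]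
    · rw [← Category.assoc, hua]
  let u : Y ⟶ X :=
    { app := fun k => ua k.unop
      naturality := fun k l f => by
        have h : l.unop ≤ k.unop := leOfHom f.unop
        have hf : f = (homOfLE h).op := Subsingleton.elim _ _
        rw [hf]
        exact hnat k.unop l.unop h }
  have hu : ∀ n : ℕ, u.app (op n) = ua n := fun n => rfl
  refine ⟨u, ?_, ?_⟩
  · rw [isARNull_kernel_iff]
    refine ⟨s₁, fun n y hy => ?_⟩
    obtain ⟨y', rfl⟩ := hsurj (n + s₁) y
    rw [hu, ← m_comp_apply, hua] at hy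
    have h1 := hs₁' n y' hy
    rw [tr_tr_apply]
    have h2 := congrArg (m (ARSys.tr Y (Nat.le_add_right n r))) h1
    rw [tr_tr_apply, map_zero] at h2
    exact h2
  · rw [isARNull_cokernel_iff]
    refine ⟨s₂, fun n x => ?_⟩
    obtain ⟨y, hy⟩ := hs₂' n x
    refine ⟨m (ARSys.tr Y (Nat.le_add_right n r)) y, ?_⟩
    rw [hu, ← m_comp_apply, hua]
    exact hy

end Groth.Agent.Helper9.ARShift
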