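import Groth.Agent.Helper9.FM3
import Mathlib

set_option autoImplicit false

namespace Groth.Agent.Helper9.AbDiagA

open CategoryTheory CategoryTheory.Limits
open Groth.Agent.Helper9.FM

universe v u

theorem S14498
    {V : Type u} [Category.{v} V] [Abelian V] {F W E' E F' G G' : V}
    (a : F ⟶ W) (b : W ⟶ E') (c : E ⟶ W) (d : W ⟶ F') (e : F' ⟶ G) (g : G ⟶ G')
    [Mono a] [Epi b] (wab : a ≫ b = 0) (hab : (ShortComplex.mk a b wab).Exact)
    [Mono c] (wcd : c ≫ d = 0) (hcd : (ShortComplex.mk c d wcd).Exact)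
    (wde : d ≫ e = 0) (hde : (ShortComplex.mk d e wde).Exact)
    (weg : e ≫ g = 0) (heg : (ShortComplex.mk e g weg).Exact) [Epi g]
    (hmono : Mono (a ≫ d)) :
    Mono (c ≫ b) ∧
      ∃ (φ : cokernel (c ≫ b) ⟶ cokernel (a ≫ d)) (ψ : cokernel (a ≫ d) ⟶ kernel g)
        (w : φ ≫ ψ = 0),
        b ≫ cokernel.π (c ≫ b) ≫ φ = d ≫ cokernel.π (a ≫ d) ∧
        cokernel.π (a ≫ d) ≫ ψ ≫ kernel.ι g = e ∧
        (ShortComplex.mk φ ψ w).ShortExact := by
  have habe := (exact_iff _).1 hab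
  have hcde := (exact_iff _).1 hcd
  have hdee := (exact_iff _).1 hde
  have hege := (exact_iff _).1 heg
  have hc := (mono_iff c).1 inferInstance
  have had := (mono_iff _).1 hmono
  have hb := (epi_iff b).1 inferInstance
  dsimp only at habe hcde hdee hege
  have hcb : Mono (c ≫ b) := by
    rw [mono_iff, injective_iff_map_eq_zero]
    intro x hx
    rw [m_comp_apply] at hx
    obtain ⟨y, hy⟩ := habe _ hx
    have : m (a ≫ d) y = 0 := by
      rw [m_comp_apply, hy, ← m_comp_apply, wcd]; simp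
    have hy0 : y = 0 := by
      apply had; rw [this, map_zero]
    rw [hy0, map_zero] at hy
    apply hc; rw [← hy, map_zero]
  refine ⟨hcb, ?_⟩
  -- φ₀ : E' ⟶ coker (a ≫ d)
  have hz : a ≫ (d ≫ cokernel.π (a ≫ d)) = 0 := by
    rw [← Category.assoc, cokernel.condition]
  let φ₀ : E' ⟶ cokernel (a ≫ d) := hab.desc (d ≫ cokernel.π (a ≫ d)) hz
  have hφ₀ : b ≫ φ₀ = d ≫ cokernel.π (a ≫ d) := hab.g_desc _ hz
  have hz2 : (c ≫ b) ≫ φ₀ = 0 := by
    rw [Category.assoc, hφ₀, ← Category.assoc, wcd, zero_comp]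
  let φ : cokernel (c ≫ b) ⟶ cokernel (a ≫ d) := cokernel.desc (c ≫ b) φ₀ hz2
  have hφ : b ≫ cokernel.π (c ≫ b) ≫ φ = d ≫ cokernel.π (a ≫ d) := by
    rw [cokernel.π_desc, hφ₀]
  have hz3 : (a ≫ d) ≫ kernel.lift g e weg = 0 := by
    rw [← cancel_mono (kernel.ι g), Category.assoc, kernel.lift_ι, Category.assoc, wde,
      comp_zero, zero_comp]
  let ψ : cokernel (a ≫ d) ⟶ kernel g := cokernel.desc (a ≫ d) (kernel.lift g e weg) hz3
  have hψ : cokernel.π (a ≫ d) ≫ ψ ≫ kernel.ι g = e := by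
    rw [← Category.assoc, cokernel.π_desc, kernel.lift_ι]
  have hφe : ∀ w : (FM.F V).obj W,
      m φ (m (cokernel.π (c ≫ b)) (m b w)) = m (cokernel.π (a ≫ d)) (m d w) := by
    intro w
    have h := congrArg (fun t => m t w) hφ
    simp only [m_comp_apply] at h
    exact h
  have hψe : ∀ f' : (FM.F V).obj F',
      m (kernel.ι g) (m ψ (m (cokernel.π (a ≫ d)) f')) = m e f' := by
    intro f'
    have h := congrArg (fun t => m t f') hψ
    simp only [m_comp_apply] at h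
    exact h
  have w : φ ≫ ψ = 0 := by
    rw [comp_eq_zero_iff]
    intro x
    obtain ⟨x', rfl⟩ := cokernel_π_surjective _ x
    obtain ⟨w, rfl⟩ := hb x'
    apply kernel_ι_injective g
    rw [hφe, hψe, map_zero, ← m_comp_apply, wde]; simp
  refine ⟨φ, ψ, w, hφ, hψ, ?_⟩
  refine { exact := ?_, mono_f := ?_, epi_g := ?_ }
  · rw [exact_iff]
    intro y hy
    change m ψ y = 0 at hy
    obtain ⟨f', rfl⟩ := cokernel_π_surjective _ y
    have h1 : m e f' = 0 := by rw [← hψe, hy, map_zero]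
    obtain ⟨w, rfl⟩ := hdee f' h1
    exact ⟨_, hφe w⟩
  · change Mono φ
    rw [mono_iff, injective_iff_map_eq_zero]
    intro x hx
    obtain ⟨x', rfl⟩ := cokernel_π_surjective _ x
    obtain ⟨w, rfl⟩ := hb x'
    rw [hφe, cokernel_π_eq_zero_iff] at hx
    obtain ⟨y, hy⟩ := hx
    rw [m_comp_apply] at hy
    have h1 : m d (w - m a y) = 0 := by rw [map_sub, hy, sub_self]
    obtain ⟨x, hx⟩ := hcde _ h1
    rw [cokernel_π_eq_zero_iff]
    refine ⟨x, ?_⟩
    rw [m_comp_apply, hx, map_sub, ← m_comp_apply a b, wab]; simp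
  · change Epi ψ
    rw [epi_iff]
    intro k
    obtain ⟨f', hf'⟩ := hege _ (kernel_ι_apply g k)
    refine ⟨m (cokernel.π (a ≫ d)) f', ?_⟩
    apply kernel_ι_injective g
    rw [hψe, hf']

end Groth.Agent.Helper9.AbDiagA
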