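import Mathlib

/-! Abstract recollement: given adjunctions `iL ⊣ iR` and `jL ⊣ jR` out of a category `𝒜` with
invertible counits, `jL ∘ iR` inverting every map, `iL`, `jL` preserving pullbacks and jointly
conservative, the functor `X ↦ (iL X, jL X, iL X ⟶ iL jR jL X)` to the comma category
`(𝟭, jR ⋙ iL)` is an equivalence. -/

set_option autoImplicit false
open CategoryTheory Limits

namespace Groth.Agent.Helper9.AbsGlue

variable {𝒜 ℬ 𝒞 : Type*} [Category 𝒜] [Category ℬ] [Category 𝒞]
  {iL : 𝒜 ⥤ ℬ} {iR : ℬ ⥤ 𝒜} (adjI : iL ⊣ iR)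
  {jL : 𝒜 ⥤ 𝒞} {jR : 𝒞 ⥤ 𝒜} (adjJ : jL ⊣ jR)

/-- the gluing functor -/
def glueFunctor : 𝒜 ⥤ Comma (𝟭 ℬ) (jR ⋙ iL) where
  obj X := { left := iL.obj X, right := jL.obj X, hom := iL.map (adjJ.unit.app X) }
  map {X X₂} f :=
    { left := iL.map f
      right := jL.map f
      w := by
        show iL.map f ≫ iL.map (adjJ.unit.app X₂) =
          iL.map (adjJ.unit.app X) ≫ iL.map (jR.map (jL.map f))
        rw [← iL.map_comp, ← iL.map_comp]
        exact congrArg iL.map (adjJ.unit.naturality f) }
  map_id X := by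
    apply CommaMorphism.ext
    · exact iL.map_id X
    · exact jL.map_id X
  map_comp f g := by
    apply CommaMorphism.ext
    · exact iL.map_comp f g
    · exact jL.map_comp f g

section

variable [hI : IsIso adjI.counit] [hJ : IsIso adjJ.counit]

include hJ in
lemma isIso_jL_unit (X : 𝒜) : IsIso (jL.map (adjJ.unit.app X)) := by
  have h := adjJ.left_triangle_components X
  have h1 : IsIso (jL.map (adjJ.unit.app X) ≫ adjJ.counit.app (jL.obj X)) := by
    rw [h]
    exact IsIso.id _
  exact IsIso.of_isIso_comp_right _ (adjJ.counit.app (jL.obj X))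

include hI in
lemma isIso_iL_unit (A : 𝒜) : IsIso (iL.map (adjI.unit.app A)) := by
  have h := adjI.left_triangle_components A
  have h1 : IsIso (iL.map (adjI.unit.app A) ≫ adjI.counit.app (iL.obj A)) := by
    rw [h]
    exact IsIso.id _
  exact IsIso.of_isIso_comp_right _ (adjI.counit.app (iL.obj A))

variable [HasPullbacks 𝒜] [PreservesLimitsOfShape WalkingCospan iL]
  [PreservesLimitsOfShape WalkingCospan jL]
  (hz : ∀ {B B' : ℬ} (m : B ⟶ B'), IsIso (jL.map (iR.map m)))
  (hcons : ∀ {X Y : 𝒜} (c : X ⟶ Y), IsIso (jL.map c) → IsIso (iL.map c) → IsIso c)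

section Cons

variable (X' : 𝒞) (Y : ℬ) (u : Y ⟶ iL.obj (jR.obj X'))

/-- the glued object -/
noncomputable abbrev glueObj : 𝒜 :=
  pullback (adjI.unit.app (jR.obj X')) (iR.map u)

include hz in
omit hI [PreservesLimitsOfShape WalkingCospan iL] in
lemma cons_jL : IsIso (jL.map (pullback.fst (adjI.unit.app (jR.obj X')) (iR.map u))) := by
  have hpb := (IsPullback.of_hasPullback (adjI.unit.app (jR.obj X')) (iR.map u)).map jL
  have : IsIso (jL.map (iR.map u)) := hz u
  exact hpb.isIso_fst_of_isIso

include hI in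
omit [PreservesLimitsOfShape WalkingCospan jL] in
lemma cons_iL : IsIso (iL.map (pullback.snd (adjI.unit.app (jR.obj X')) (iR.map u))) := by
  have hpb := (IsPullback.of_hasPullback (adjI.unit.app (jR.obj X')) (iR.map u)).map iL
  have : IsIso (iL.map (adjI.unit.app (jR.obj X'))) := isIso_iL_unit adjI _
  exact hpb.isIso_snd_of_isIso

end Cons

include hI hJ hz hcons in
/-- the fundamental cartesian square -/
theorem key (X : 𝒜) :
    IsPullback (adjJ.unit.app X) (adjI.unit.app X)
      (adjI.unit.app (jR.obj (jL.obj X))) (iR.map (iL.map (adjJ.unit.app X))) := by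
  have comm : adjJ.unit.app X ≫ adjI.unit.app (jR.obj (jL.obj X)) =
      adjI.unit.app X ≫ iR.map (iL.map (adjJ.unit.app X)) :=
    adjI.unit.naturality (adjJ.unit.app X)
  let c : X ⟶ glueObj adjI (jL.obj X) (iL.obj X) (iL.map (adjJ.unit.app X)) :=
    pullback.lift _ _ comm
  have h1 : IsIso (jL.map c) := by
    haveI := cons_jL adjI hz (jL.obj X) (iL.obj X) (iL.map (adjJ.unit.app X))
    have e : jL.map c ≫ jL.map (pullback.fst _ _) = jL.map (adjJ.unit.app X) := by
      rw [← Functor.map_comp, pullback.lift_fst]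
    have h : IsIso (jL.map c ≫ jL.map (pullback.fst
        (adjI.unit.app (jR.obj (jL.obj X))) (iR.map (iL.map (adjJ.unit.app X))))) := by
      rw [e]
      exact isIso_jL_unit adjJ X
    exact IsIso.of_isIso_comp_right _ (jL.map (pullback.fst
        (adjI.unit.app (jR.obj (jL.obj X))) (iR.map (iL.map (adjJ.unit.app X)))))
  have h2 : IsIso (iL.map c) := by
    haveI := cons_iL adjI (jL.obj X) (iL.obj X) (iL.map (adjJ.unit.app X))
    have e : iL.map c ≫ iL.map (pullback.snd _ _) = iL.map (adjI.unit.app X) := by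
      rw [← Functor.map_comp, pullback.lift_snd]
    have h : IsIso (iL.map c ≫ iL.map (pullback.snd
        (adjI.unit.app (jR.obj (jL.obj X))) (iR.map (iL.map (adjJ.unit.app X))))) := by
      rw [e]
      exact isIso_iL_unit adjI X
    exact IsIso.of_isIso_comp_right _ (iL.map (pullback.snd
        (adjI.unit.app (jR.obj (jL.obj X))) (iR.map (iL.map (adjJ.unit.app X)))))
  have h3 : IsIso c := hcons c h1 h2
  exact IsPullback.of_iso_pullback ⟨comm⟩ (asIso c) (pullback.lift_fst _ _ _)
    (pullback.lift_snd _ _ _)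

include hI hJ hz hcons in
lemma glueFunctor_faithful : (glueFunctor (iL := iL) adjJ).Faithful where
  map_injective {X X₂} f g hfg := by
    have hl : iL.map f = iL.map g := congrArg CommaMorphism.left hfg
    have hr : jL.map f = jL.map g := congrArg CommaMorphism.right hfg
    apply (key adjI adjJ hz hcons X₂).hom_ext
    · have h1 := adjJ.unit.naturality f
      have h2 := adjJ.unit.naturality g
      simp only [Functor.id_map, Functor.comp_map] at h1 h2
      rw [h1, h2, hr]
    · have h1 := adjI.unit.naturality f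
      have h2 := adjI.unit.naturality g
      simp only [Functor.id_map, Functor.comp_map] at h1 h2
      rw [h1, h2, hl]

include hI hJ hz hcons in
lemma glueFunctor_full : (glueFunctor (iL := iL) adjJ).Full where
  map_surjective {X X₂} φ := by
    obtain ⟨a, ha⟩ : ∃ a : iL.obj X ⟶ iL.obj X₂, a = φ.left := ⟨_, rfl⟩
    obtain ⟨b, hb⟩ : ∃ b : jL.obj X ⟶ jL.obj X₂, b = φ.right := ⟨_, rfl⟩
    have hw : a ≫ iL.map (adjJ.unit.app X₂) =
        iL.map (adjJ.unit.app X) ≫ iL.map (jR.map b) := by
      rw [ha, hb]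
      exact φ.w
    have compat : (adjJ.unit.app X ≫ jR.map b) ≫ adjI.unit.app (jR.obj (jL.obj X₂)) =
        (adjI.unit.app X ≫ iR.map a) ≫ iR.map (iL.map (adjJ.unit.app X₂)) := by
      have h1 := adjI.unit.naturality (adjJ.unit.app X ≫ jR.map b)
      simp only [Functor.id_map, Functor.comp_map] at h1
      rw [h1, Category.assoc, ← Functor.map_comp, hw, iL.map_comp]
      rfl
    let f : X ⟶ X₂ := (key adjI adjJ hz hcons X₂).lift _ _ compat
    have hf1 : f ≫ adjJ.unit.app X₂ = adjJ.unit.app X ≫ jR.map b :=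
      (key adjI adjJ hz hcons X₂).lift_fst _ _ compat
    have hf2 : f ≫ adjI.unit.app X₂ = adjI.unit.app X ≫ iR.map a :=
      (key adjI adjJ hz hcons X₂).lift_snd _ _ compat
    refine ⟨f, ?_⟩
    apply CommaMorphism.ext
    · show iL.map f = φ.left
      rw [← ha]
      apply (adjI.homEquiv X (iL.obj X₂)).injective
      rw [Adjunction.homEquiv_unit, Adjunction.homEquiv_unit, ← hf2]
      exact (adjI.unit.naturality f).symm
    · show jL.map f = φ.right
      rw [← hb]
      apply (adjJ.homEquiv X (jL.obj X₂)).injective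
      rw [Adjunction.homEquiv_unit, Adjunction.homEquiv_unit, ← hf1]
      exact (adjJ.unit.naturality f).symm

include hI hJ hz in
lemma glueFunctor_essSurj : (glueFunctor (iL := iL) adjJ).EssSurj where
  mem_essImage T := by
    haveI h1 := cons_jL adjI hz T.right T.left T.hom
    haveI h2 := cons_iL adjI T.right T.left T.hom
    let X : 𝒜 := glueObj adjI T.right T.left T.hom
    let p₁ : X ⟶ jR.obj T.right := pullback.fst _ _
    let p₂ : X ⟶ iR.obj T.left := pullback.snd _ _
    have hcond : p₁ ≫ adjI.unit.app (jR.obj T.right) = p₂ ≫ iR.map T.hom := pullback.condition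
    haveI : IsIso (jL.map p₁) := h1
    haveI : IsIso (iL.map p₂) := h2
    let α : iL.obj X ≅ T.left := asIso (iL.map p₂) ≪≫ asIso (adjI.counit.app T.left)
    let β : jL.obj X ≅ T.right := asIso (jL.map p₁) ≪≫ asIso (adjJ.counit.app T.right)
    refine ⟨X, ⟨Comma.isoMk α β ?_⟩⟩
    show (iL.map p₂ ≫ adjI.counit.app T.left) ≫ T.hom =
      iL.map (adjJ.unit.app X) ≫ iL.map (jR.map (jL.map p₁ ≫ adjJ.counit.app T.right))
    have e1 : adjJ.unit.app X ≫ jR.map (jL.map p₁ ≫ adjJ.counit.app T.right) = p₁ := by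
      have h3 : p₁ ≫ adjJ.unit.app (jR.obj T.right) = adjJ.unit.app X ≫ jR.map (jL.map p₁) :=
        adjJ.unit.naturality p₁
      calc adjJ.unit.app X ≫ jR.map (jL.map p₁ ≫ adjJ.counit.app T.right)
          = (adjJ.unit.app X ≫ jR.map (jL.map p₁)) ≫ jR.map (adjJ.counit.app T.right) := by
            rw [Functor.map_comp, Category.assoc]
        _ = (p₁ ≫ adjJ.unit.app (jR.obj T.right)) ≫ jR.map (adjJ.counit.app T.right) := by
            rw [h3]
        _ = p₁ ≫ (adjJ.unit.app (jR.obj T.right) ≫ jR.map (adjJ.counit.app T.right)) :=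
            Category.assoc _ _ _
        _ = p₁ ≫ 𝟙 _ := congrArg (p₁ ≫ ·) (adjJ.right_triangle_components T.right)
        _ = p₁ := Category.comp_id _
    have e2 : (iL.map p₂ ≫ adjI.counit.app T.left) ≫ T.hom = iL.map p₁ := by
      have h4 : iL.map (iR.map T.hom) ≫ adjI.counit.app (iL.obj (jR.obj T.right)) =
          adjI.counit.app T.left ≫ T.hom := adjI.counit.naturality T.hom
      calc (iL.map p₂ ≫ adjI.counit.app T.left) ≫ T.hom
          = iL.map p₂ ≫ (adjI.counit.app T.left ≫ T.hom) := Category.assoc _ _ _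
        _ = iL.map p₂ ≫ (iL.map (iR.map T.hom) ≫
              adjI.counit.app (iL.obj (jR.obj T.right))) := by rw [h4]
        _ = iL.map (p₂ ≫ iR.map T.hom) ≫ adjI.counit.app (iL.obj (jR.obj T.right)) := by
            rw [iL.map_comp, Category.assoc]
        _ = iL.map (p₁ ≫ adjI.unit.app (jR.obj T.right)) ≫
              adjI.counit.app (iL.obj (jR.obj T.right)) := by rw [hcond]
        _ = iL.map p₁ ≫ (iL.map (adjI.unit.app (jR.obj T.right)) ≫
              adjI.counit.app (iL.obj (jR.obj T.right))) := by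
            rw [iL.map_comp, Category.assoc]
        _ = iL.map p₁ ≫ 𝟙 _ := congrArg (iL.map p₁ ≫ ·) (adjI.left_triangle_components _)
        _ = iL.map p₁ := Category.comp_id _
    rw [e2, ← iL.map_comp, e1]

include hI hJ hz hcons in
theorem isEquivalence : (glueFunctor (iL := iL) adjJ).IsEquivalence := by
  haveI := glueFunctor_faithful adjI adjJ hz hcons
  haveI := glueFunctor_full adjI adjJ hz hcons
  haveI := glueFunctor_essSurj adjI adjJ hz
  exact { }

end

end Groth.Agent.Helper9.AbsGlue
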