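import Mathlib
set_option autoImplicit false

namespace Groth.Agent.Helper9.AbsIrr

open scoped TensorProduct

universe u v w

variable {K : Type u} [Field K] {D : Type v} [Ring D] [Algebra K D]
  {E : Type w} [AddCommGroup E] [Module K E] [Module D E] [IsScalarTower K D E]

/-- irreducibility of the base change to `L` -/
def Irr (K : Type u) [Field K] (D : Type v) [Ring D] [Algebra K D]
    (E : Type w) [AddCommGroup E] [Module K E] [Module D E] [IsScalarTower K D E]
    (L : Type*) [Field L] [Algebra K L] : Prop :=
  Nontrivial (L ⊗[K] E) ∧ ∀ N : Submodule L (L ⊗[K] E),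
    (∀ (d : D) (x : L ⊗[K] E), x ∈ N → (DistribSMul.toLinearMap K E d).baseChange L x ∈ N) →
      N = ⊥ ∨ N = ⊤

section J

variable {L M : Type*} [Field L] [Field M] [Algebra K L] [Algebra K M] (ι : L →ₐ[K] M)

/-- the comparison map -/
noncomputable def j : L ⊗[K] E →ₗ[K] M ⊗[K] E := ι.toLinearMap.rTensor E

lemma j_tmul (l : L) (e : E) : j (E := E) ι (l ⊗ₜ e) = ι l ⊗ₜ e := rfl

lemma j_smul (l : L) (y : L ⊗[K] E) : j ι (l • y) = ι l • j ι y := by
  induction y using TensorProduct.induction_on with
  | zero => simp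
  | tmul a e => simp [j_tmul, TensorProduct.smul_tmul']
  | add x y hx hy => rw [smul_add, map_add, hx, hy, map_add, smul_add]

lemma j_act (d : D) (y : L ⊗[K] E) :
    j ι ((DistribSMul.toLinearMap K E d).baseChange L y) =
      (DistribSMul.toLinearMap K E d).baseChange M (j ι y) := by
  induction y using TensorProduct.induction_on with
  | zero => simp
  | tmul a e => simp [j_tmul]
  | add x y hx hy => rw [map_add, map_add, hx, hy, map_add, map_add]

lemma j_inj : Function.Injective (j (E := E) ι) :=
  Module.Flat.rTensor_preserves_injective_linearMap _ ι.toRingHom.injective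

end J

lemma nontrivial_of {M : Type*} [Field M] [Algebra K M] (h : Nontrivial (M ⊗[K] E)) :
    Nontrivial E := by
  by_contra hE
  rw [not_nontrivial_iff_subsingleton] at hE
  have : Subsingleton (M ⊗[K] E) := by
    refine ⟨fun a b => ?_⟩
    have h0 : ∀ x : M ⊗[K] E, x = 0 := by
      intro x
      induction x using TensorProduct.induction_on with
      | zero => rfl
      | tmul a e => rw [Subsingleton.elim e 0, TensorProduct.tmul_zero]
      | add x y hx hy => rw [hx, hy, add_zero]
    rw [h0 a, h0 b]
  exact not_subsingleton _ this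

theorem irr_descend {L M : Type*} [Field L] [Field M] [Algebra K L] [Algebra K M]
    (ι : L →ₐ[K] M) (h : Irr K D E M) : Irr K D E L := by
  obtain ⟨hnt, hM⟩ := h
  have hE : Nontrivial E := nontrivial_of hnt
  refine ⟨inferInstance, ?_⟩
  intro N hN
  let _ : Algebra L M := ι.toRingHom.toAlgebra
  have hst : IsScalarTower K L M := IsScalarTower.of_algebraMap_eq (fun c => (ι.commutes c).symm)
  obtain ⟨ρ, hρ⟩ := LinearMap.exists_leftInverse_of_injective (Algebra.linearMap L M)
    (LinearMap.ker_eq_bot.mpr ι.toRingHom.injective)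
  have hρ' : ∀ l : L, ρ (ι l) = l := fun l => LinearMap.congr_fun hρ l
  have hρmul : ∀ (l : L) (c : M), ρ (c * ι l) = ρ c * l := by
    intro l c
    have : c * ι l = l • c := by rw [Algebra.smul_def, mul_comm]; rfl
    rw [this, map_smul, smul_eq_mul, mul_comm]
  let N' : Submodule M (M ⊗[K] E) := Submodule.span M (j ι '' (N : Set (L ⊗[K] E)))
  have hN' : ∀ (d : D) (x : M ⊗[K] E), x ∈ N' →
      (DistribSMul.toLinearMap K E d).baseChange M x ∈ N' := by
    intro d x hx
    induction hx using Submodule.span_induction with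
    | mem x hx =>
      obtain ⟨n, hn, rfl⟩ := hx
      rw [← j_act]
      exact Submodule.subset_span ⟨_, hN d n hn, rfl⟩
    | zero => rw [map_zero]; exact zero_mem _
    | add x y _ _ hx hy => rw [map_add]; exact add_mem hx hy
    | smul c x _ hx => rw [map_smul]; exact Submodule.smul_mem _ _ hx
  rcases hM N' hN' with h0 | h1
  · left
    rw [eq_bot_iff]
    intro n hn
    have h2 : j ι n ∈ N' := Submodule.subset_span ⟨n, hn, rfl⟩
    rw [h0, Submodule.mem_bot] at h2
    rw [Submodule.mem_bot]
    exact j_inj ι (by rw [h2, map_zero])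
  · right
    rw [eq_top_iff]
    rintro y -
    let R : M ⊗[K] E →ₗ[K] L ⊗[K] E := (ρ.restrictScalars K).rTensor E
    have hR1 : ∀ y : L ⊗[K] E, R (j ι y) = y := by
      intro y
      induction y using TensorProduct.induction_on with
      | zero => simp
      | tmul a e => simp [R, j_tmul, hρ']
      | add x y hx hy => rw [map_add, map_add, hx, hy]
    have hR2 : ∀ (c : M) (n : L ⊗[K] E), R (c • j ι n) = ρ c • n := by
      intro c n
      induction n using TensorProduct.induction_on with
      | zero => simp
      | tmul a e =>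
        rw [j_tmul, TensorProduct.smul_tmul', TensorProduct.smul_tmul', smul_eq_mul, smul_eq_mul]
        show (ρ (c * ι a)) ⊗ₜ[K] e = _
        rw [hρmul]
      | add x y hx hy => rw [map_add, smul_add, map_add, hx, hy, smul_add]
    have key : ∀ x ∈ N', ∀ c : M, R (c • x) ∈ N := by
      intro x hx
      induction hx using Submodule.span_induction with
      | mem x hx =>
        obtain ⟨n, hn, rfl⟩ := hx
        intro c
        rw [hR2]
        exact N.smul_mem _ hn
      | zero => intro c; rw [smul_zero, map_zero]; exact zero_mem _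
      | add x y _ _ hx hy => intro c; rw [smul_add, map_add]; exact add_mem (hx c) (hy c)
      | smul c' x _ hx => intro c; rw [smul_smul]; exact hx _
    have := key (j ι y) (h1 ▸ Submodule.mem_top) 1
    rwa [one_smul, hR1] at this

lemma j_comp {L M P : Type*} [Field L] [Field M] [Field P] [Algebra K L] [Algebra K M] [Algebra K P]
    (f : L →ₐ[K] M) (g : M →ₐ[K] P) (y : L ⊗[K] E) :
    j (E := E) (g.comp f) y = j g (j f y) := by
  induction y using TensorProduct.induction_on with
  | zero => simp
  | tmul a e => rfl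
  | add x y hx hy => rw [map_add, map_add, map_add, hx, hy]

lemma exists_fin (x : AlgebraicClosure K ⊗[K] E) :
    ∃ L : IntermediateField K (AlgebraicClosure K), FiniteDimensional K L ∧
      x ∈ LinearMap.range (j (E := E) L.val) := by
  induction x using TensorProduct.induction_on with
  | zero => exact ⟨⊥, inferInstance, zero_mem _⟩
  | tmul c e =>
    refine ⟨IntermediateField.adjoin K {c},
      IntermediateField.adjoin.finiteDimensional (Algebra.IsIntegral.isIntegral c), ?_⟩
    exact ⟨(⟨c, IntermediateField.mem_adjoin_simple_self K c⟩ : IntermediateField.adjoin K {c}) ⊗ₜ e, rfl⟩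
  | add x y hx hy =>
    obtain ⟨L₁, h₁, x₁, rfl⟩ := hx
    obtain ⟨L₂, h₂, x₂, rfl⟩ := hy
    refine ⟨L₁ ⊔ L₂, IntermediateField.finiteDimensional_sup L₁ L₂, ?_⟩
    have e1 : L₁.val = (L₁ ⊔ L₂).val.comp (IntermediateField.inclusion le_sup_left) := by
      ext; rfl
    have e2 : L₂.val = (L₁ ⊔ L₂).val.comp (IntermediateField.inclusion le_sup_right) := by
      ext; rfl
    rw [e1, e2, j_comp, j_comp, ← map_add]
    exact ⟨_, rfl⟩

theorem irr_closure
    (h : ∀ L : IntermediateField K (AlgebraicClosure K), FiniteDimensional K L → Irr K D E L) :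
    Irr K D E (AlgebraicClosure K) := by
  have hE : Nontrivial E := nontrivial_of (h ⊥ inferInstance).1
  refine ⟨inferInstance, ?_⟩
  intro N hN
  by_cases hbot : N = ⊥
  · left; exact hbot
  right
  obtain ⟨x, hxN, hx0⟩ := (Submodule.ne_bot_iff N).mp hbot
  obtain ⟨L, hL, xL, hxL⟩ := exists_fin (E := E) x
  obtain ⟨-, hirr⟩ := h L hL
  let NL : Submodule L (L ⊗[K] E) :=
    { carrier := {y | j (E := E) L.val y ∈ N}
      add_mem' := by
        intro a b ha hb
        show j L.val (a + b) ∈ N
        rw [map_add]; exact add_mem ha hb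
      zero_mem' := by
        show j L.val 0 ∈ N
        rw [map_zero]; exact zero_mem _
      smul_mem' := by
        intro c a ha
        show j L.val (c • a) ∈ N
        rw [j_smul]; exact N.smul_mem _ ha }
  have hNL : ∀ (d : D) (y : L ⊗[K] E), y ∈ NL →
      (DistribSMul.toLinearMap K E d).baseChange L y ∈ NL := by
    intro d y hy
    show j L.val _ ∈ N
    rw [j_act]
    exact hN d _ hy
  have hxLmem : xL ∈ NL := by
    show j L.val xL ∈ N
    rw [hxL]; exact hxN
  have hNLtop : NL = ⊤ := by
    rcases hirr NL hNL with h0 | h1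
    · exfalso
      rw [h0, Submodule.mem_bot] at hxLmem
      rw [hxLmem, map_zero] at hxL
      exact hx0 hxL.symm
    · exact h1
  rw [eq_top_iff]
  rintro y -
  induction y using TensorProduct.induction_on with
  | zero => exact zero_mem _
  | tmul c e =>
    have h1 : ((1 : L) ⊗ₜ[K] e) ∈ NL := hNLtop ▸ Submodule.mem_top
    have h2 : j (E := E) L.val ((1 : L) ⊗ₜ[K] e) ∈ N := h1
    rw [j_tmul, map_one] at h2
    have h3 := N.smul_mem c h2
    rwa [TensorProduct.smul_tmul', smul_eq_mul, mul_one] at h3
  | add x y hx hy => exact add_mem hx hy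

theorem main [CharZero K] :
    (Nontrivial (AlgebraicClosure K ⊗[K] E) ∧ ∀ N : Submodule (AlgebraicClosure K) (AlgebraicClosure K ⊗[K] E), (∀ (d : D) (x : AlgebraicClosure K ⊗[K] E), x ∈ N → (DistribSMul.toLinearMap K E d).baseChange (AlgebraicClosure K) x ∈ N) → N = ⊥ ∨ N = ⊤) ↔
      ∀ (L : Type u) [Field L] [Algebra K L] [FiniteDimensional K L],
        (Nontrivial (L ⊗[K] E) ∧ ∀ N : Submodule (L) (L ⊗[K] E), (∀ (d : D) (x : L ⊗[K] E), x ∈ N → (DistribSMul.toLinearMap K E d).baseChange (L) x ∈ N) → N = ⊥ ∨ N = ⊤) := by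
  constructor
  · intro h L _ _ _
    have : Algebra.IsAlgebraic K L := Algebra.IsAlgebraic.of_finite K L
    exact irr_descend (IsAlgClosed.lift : L →ₐ[K] AlgebraicClosure K) h
  · intro h
    exact irr_closure (fun L hL => h L)

end Groth.Agent.Helper9.AbsIrr
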