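import Groth.Agent.Helper9.AbsIrr
import Mathlib
set_option autoImplicit false

namespace Groth.Agent.Helper9.AbsIrr

open scoped TensorProduct
open Polynomial

universe u v w

variable {K : Type u} [Field K] {D : Type v} [Ring D] [Algebra K D]
  {E : Type w} [AddCommGroup E] [Module K E] [Module D E] [IsScalarTower K D E]

/-- restriction of scalars as a `K`-algebra map on endomorphisms -/
def rs : Module.End D E →ₐ[K] Module.End K E where
  toFun f := f.restrictScalars K
  map_one' := rfl
  map_mul' _ _ := rfl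
  map_zero' := rfl
  map_add' _ _ := rfl
  commutes' c := by
    ext x
    simp [Algebra.algebraMap_eq_smul_one]

/-- evaluation of a functional after base change -/
noncomputable def ev (Kb : Type*) [Field Kb] [Algebra K Kb] (l : E →ₗ[K] K) : Kb ⊗[K] E →ₗ[Kb] Kb :=
  (TensorProduct.AlgebraTensorModule.rid K Kb Kb).toLinearMap ∘ₗ l.baseChange Kb

lemma ev_tmul (Kb : Type*) [Field Kb] [Algebra K Kb] (l : E →ₗ[K] K) (a : Kb) (x : E) :
    ev Kb l (a ⊗ₜ x) = l x • a := by
  simp [ev]

/-- an integral endomorphism of a nonzero vector space over an algebraically closed field has an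
eigenvector -/
lemma exists_eigen {Kb V : Type*} [Field Kb] [IsAlgClosed Kb] [AddCommGroup V] [Module Kb V] [Nontrivial V]
    (f : Module.End Kb V) (hf : IsIntegral Kb f) :
    ∃ (μ : Kb) (v : V), v ≠ 0 ∧ f v = μ • v := by
  obtain ⟨μ, hμ⟩ := IsAlgClosed.exists_root (minpoly Kb f) (minpoly.degree_pos hf).ne'
  obtain ⟨q, hq⟩ := dvd_iff_isRoot.mpr hμ
  obtain ⟨v, hv⟩ : ∃ v : V, q.aeval f v ≠ 0 := by
    by_contra! h_contra
    have := minpoly.min Kb f
      ((monic_X_sub_C μ).of_mul_monic_left (hq ▸ minpoly.monic hf))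
      (LinearMap.ext h_contra)
    rw [hq, degree_mul, degree_X_sub_C, degree_eq_natDegree] at this
    · norm_cast at this; grind
    · rintro rfl
      exact minpoly.ne_zero hf (mul_zero (X - C μ) ▸ hq)
  refine ⟨μ, q.aeval f v, hv, ?_⟩
  have := congr($(minpoly.aeval Kb f) v)
  rw [hq, map_mul] at this
  simpa [sub_eq_zero] using this

theorem scalar_of_absIrr
    (habs : Irr K D E (AlgebraicClosure K))
    (φ : E →ₗ[D] E) (hφ : IsIntegral K (show Module.End D E from φ)) :
    ∃ c : K, ∀ x : E, φ x = c • x := by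
  obtain ⟨hnt, hirr⟩ := habs
  have hE : Nontrivial E := nontrivial_of hnt
  let Ψ := Module.End.baseChangeHom K (AlgebraicClosure K) E
  let φb : Module.End (AlgebraicClosure K) (AlgebraicClosure K ⊗[K] E) := Ψ (rs (K := K) φ)
  have hφb_tmul : ∀ (a : AlgebraicClosure K) (x : E), φb (a ⊗ₜ x) = a ⊗ₜ φ x := fun a x => rfl
  have hint1 : IsIntegral K (rs (K := K) (D := D) (E := E) φ) := by
    obtain ⟨p, hp, h⟩ := hφ
    refine ⟨p, hp, ?_⟩
    rw [← Polynomial.aeval_def] at h ⊢
    have := Polynomial.aeval_algHom_apply (rs (K := K) (D := D) (E := E)) (show Module.End D E from φ) p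
    rw [this, h, map_zero]
  have hint2 : IsIntegral K (Module.End.baseChangeHom K (AlgebraicClosure K) E (rs (K := K) φ)) :=
    hint1.map (Module.End.baseChangeHom K (AlgebraicClosure K) E)
  have hint : IsIntegral (AlgebraicClosure K) φb := hint2.tower_top
  obtain ⟨μ, v, hv0, hv⟩ := exists_eigen φb hint
  let N : Submodule (AlgebraicClosure K) (AlgebraicClosure K ⊗[K] E) :=
    LinearMap.ker (φb - μ • (1 : Module.End (AlgebraicClosure K) (AlgebraicClosure K ⊗[K] E)))
  have hcomm : ∀ (d : D) (x : AlgebraicClosure K ⊗[K] E),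
      φb ((DistribSMul.toLinearMap K E d).baseChange (AlgebraicClosure K) x) =
        (DistribSMul.toLinearMap K E d).baseChange (AlgebraicClosure K) (φb x) := by
    intro d x
    induction x using TensorProduct.induction_on with
    | zero => simp
    | tmul a e =>
      rw [LinearMap.baseChange_tmul, hφb_tmul, hφb_tmul, LinearMap.baseChange_tmul]
      congr 1
      exact φ.map_smul d e
    | add x y hx hy => simp only [map_add, hx, hy]
  have hN : ∀ (d : D) (x : AlgebraicClosure K ⊗[K] E), x ∈ N →
      (DistribSMul.toLinearMap K E d).baseChange (AlgebraicClosure K) x ∈ N := by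
    intro d x hx
    simp only [N, LinearMap.mem_ker, LinearMap.sub_apply, LinearMap.smul_apply,
      Module.End.one_apply, sub_eq_zero] at hx ⊢
    rw [hcomm, hx, map_smul]
  have hNtop : N = ⊤ := by
    rcases hirr N hN with h0 | h1
    · exfalso
      have : v ∈ N := by
        simp only [N, LinearMap.mem_ker, LinearMap.sub_apply, LinearMap.smul_apply,
          Module.End.one_apply, sub_eq_zero]
        exact hv
      rw [h0, Submodule.mem_bot] at this
      exact hv0 this
    · exact h1
  have hall : ∀ x : AlgebraicClosure K ⊗[K] E, φb x = μ • x := by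
    intro x
    have : x ∈ N := hNtop ▸ Submodule.mem_top
    simpa only [N, LinearMap.mem_ker, LinearMap.sub_apply, LinearMap.smul_apply,
      Module.End.one_apply, sub_eq_zero] using this
  -- μ comes from K
  obtain ⟨e, he⟩ := exists_ne (0 : E)
  obtain ⟨l, hl⟩ : ∃ l : Module.Dual K E, l e ≠ 0 := by
    by_contra hcon
    push Not at hcon
    exact he ((Module.forall_dual_apply_eq_zero_iff K e).mp hcon)
  have h1 := congrArg (ev (AlgebraicClosure K) l) (hall (1 ⊗ₜ e))
  rw [hφb_tmul, map_smul, ev_tmul, ev_tmul, smul_eq_mul] at h1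
  let c : K := l (φ e) / l e
  have hμ : μ = algebraMap K (AlgebraicClosure K) c := by
    have h2 : (algebraMap K (AlgebraicClosure K) (l (φ e))) = μ * algebraMap K (AlgebraicClosure K) (l e) := by
      rw [Algebra.algebraMap_eq_smul_one, Algebra.algebraMap_eq_smul_one]; exact h1
    have h3 : algebraMap K (AlgebraicClosure K) (l e) ≠ 0 := by
      rw [Ne, map_eq_zero]; exact hl
    rw [map_div₀, h2, mul_div_cancel_right₀ _ h3]
  refine ⟨c, fun x => ?_⟩
  by_contra hx
  have hy : φ x - c • x ≠ 0 := sub_ne_zero.mpr hx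
  obtain ⟨l', hl'⟩ : ∃ l' : Module.Dual K E, l' (φ x - c • x) ≠ 0 := by
    by_contra hcon
    push Not at hcon
    exact hy ((Module.forall_dual_apply_eq_zero_iff K _).mp hcon)
  have h4 := congrArg (ev (AlgebraicClosure K) l') (hall (1 ⊗ₜ x))
  rw [hφb_tmul, map_smul, ev_tmul, ev_tmul, smul_eq_mul, hμ] at h4
  apply hl'
  rw [map_sub, map_smul, sub_eq_zero, smul_eq_mul]
  have h5 : algebraMap K (AlgebraicClosure K) (l' (φ x)) = algebraMap K (AlgebraicClosure K) (c * l' x) := by
    rw [map_mul, Algebra.algebraMap_eq_smul_one (l' (φ x)), h4, Algebra.algebraMap_eq_smul_one (l' x)]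
  exact (algebraMap K (AlgebraicClosure K)).injective h5

end Groth.Agent.Helper9.AbsIrr
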