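import Mathlib

/-!
# Exactness of adic completion under an abstract Artin–Rees hypothesis

Mathlib proves that adic completion is exact on finite modules over a Noetherian ring; the only
place where these hypotheses enter is the Artin–Rees lemma for the range of the injection.  Here
the proofs are redone with that property as a hypothesis (`ARCond`).
-/

set_option autoImplicit false

universe u

open LinearMap Submodule

namespace Groth.Agent.Helper9.AdicFlat1

variable {R : Type u} [CommRing R] (I : Ideal R)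
variable {M : Type u} [AddCommGroup M] [Module R M]
variable {N : Type u} [AddCommGroup N] [Module R N]
variable {P : Type u} [AddCommGroup P] [Module R P]

/-- the Artin–Rees property for the range of `f` -/
def ARCond (f : M →ₗ[R] N) : Prop :=
  ∃ k : ℕ, ∀ n ≥ k, (I ^ n • ⊤ ⊓ LinearMap.range f : Submodule R N) ≤
    I ^ (n - k) • LinearMap.range f

variable {I}

/-- Adic completion preserves injectivity under the Artin–Rees property. -/
theorem map_injective_of_AR {f : M →ₗ[R] N} (hf : Function.Injective f) (h : ARCond I f) :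
    Function.Injective (AdicCompletion.map I f) := by
  obtain ⟨k, hk⟩ := h
  rw [← LinearMap.ker_eq_bot, LinearMap.ker_eq_bot']
  intro x
  apply AdicCompletion.induction_on I M x (fun a ↦ ?_)
  intro hx
  refine AdicCompletion.mk_zero_of _ _ _ ⟨42, fun n _ ↦ ⟨n + k, by omega, n, by omega, ?_⟩⟩
  rw [← Submodule.comap_map_eq_of_injective hf (I ^ n • ⊤ : Submodule R M),
    Submodule.map_smul'', Submodule.map_top]
  have h1 : f (a (n + k)) ∈ (I ^ (n + k) • ⊤ ⊓ LinearMap.range f : Submodule R N) :=
    ⟨by simpa using congrArg (fun x ↦ x.val (n + k)) hx, ⟨a (n + k), rfl⟩⟩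
  have h2 := hk (n + k) (by omega) h1
  rwa [show n + k - k = n by omega] at h2

section

variable {f : M →ₗ[R] N} {g : N →ₗ[R] P} (hf : Function.Injective f)
  (hfg : Function.Exact f g) (hg : Function.Surjective g)

section

variable {k : ℕ}
  (hkn : ∀ n ≥ k, (I ^ n • ⊤ ⊓ LinearMap.range f : Submodule R N) ≤ I ^ (n - k) • LinearMap.range f)
  (x : AdicCompletion.AdicCauchySequence I N)
  (hker : ∀ (n : ℕ), g (x n) ∈ (I ^ n • ⊤ : Submodule R P))

include hf hkn in
/-- In each step, a preimage is constructed from the preimage of the previous step by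
adding this delta. -/
lemma exists_delta {n : ℕ} {d : N}
    (hdmem : d ∈ (I ^ (k + n + 1) • ⊤ : Submodule R N)) {y yₙ : M}
    (hd : f y = x (k + n + 1) - d) (hyₙ : f yₙ - x (k + n) ∈ (I ^ (k + n) • ⊤ : Submodule R N)) :
    ∃ d' : M, d' ∈ (I ^ n • ⊤ : Submodule R M) ∧
      f (yₙ + d') - x (k + n + 1) ∈ (I ^ (k + n + 1) • ⊤ : Submodule R N) := by
  have h : f (y - yₙ) ∈ (I ^ (k + n) • ⊤ : Submodule R N) := by
    simp only [map_sub, hd]
    have e : x (k + n + 1) - d - f yₙ =
        x (k + n + 1) - x (k + n) - d - (f yₙ - x (k + n)) := by abel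
    rw [e]
    refine Submodule.sub_mem _ (Submodule.sub_mem _ ?_ ?_) hyₙ
    · rw [← Submodule.Quotient.eq]
      exact AdicCompletion.AdicCauchySequence.mk_eq_mk (by omega) _
    · exact (Submodule.smul_mono_left (Ideal.pow_le_pow_right (by omega))) hdmem
  have hyyₙ : y - yₙ ∈ (I ^ n • ⊤ : Submodule R M) := by
    rw [← Submodule.comap_map_eq_of_injective hf (I ^ n • ⊤ : Submodule R M),
      Submodule.map_smul'', Submodule.map_top]
    have h2 := hkn (k + n) (by omega) ⟨h, ⟨y - yₙ, rfl⟩⟩
    rwa [show k + n - k = n by omega] at h2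
  refine ⟨y - yₙ, hyyₙ, ?_⟩
  have e : f (yₙ + (y - yₙ)) - x (k + n + 1) = -d := by
    rw [show yₙ + (y - yₙ) = y by abel, hd]
    abel
  rw [e]
  exact Submodule.neg_mem _ hdmem

include hfg hg hker in
lemma exists_pre (n : ℕ) : ∃ (d : N) (y : M),
    d ∈ (I ^ (k + n) • ⊤ : Submodule R N) ∧ f y = x (k + n) - d := by
  have h1 : g (x (k + n)) ∈ Submodule.map g (I ^ (k + n) • ⊤ : Submodule R N) := by
    rw [Submodule.map_smul'', Submodule.map_top, LinearMap.range_eq_top.mpr hg]
    exact hker (k + n)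
  obtain ⟨d, hdmem, hd⟩ := h1
  obtain ⟨y, hdy⟩ := (hfg (x (k + n) - d)).mp (by simp [hd])
  exact ⟨d, y, hdmem, hdy⟩

include hf hfg hg hkn hker in
/-- Inductively construct preimage of Cauchy sequence in kernel of `g.adicCompletion I`. -/
lemma exists_seq : ∃ a : ℕ → M,
    (∀ n, f (a n) - x (k + n) ∈ (I ^ (k + n) • ⊤ : Submodule R N)) ∧
    (∀ n, a (n + 1) - a n ∈ (I ^ n • ⊤ : Submodule R M)) := by
  have step : ∀ (n : ℕ) (yₙ : M),
      f yₙ - x (k + n) ∈ (I ^ (k + n) • ⊤ : Submodule R N) →
      ∃ y' : M, f y' - x (k + (n + 1)) ∈ (I ^ (k + (n + 1)) • ⊤ : Submodule R N) ∧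
        y' - yₙ ∈ (I ^ n • ⊤ : Submodule R M) := by
    intro n yₙ hyₙ
    obtain ⟨d, y, hdmem, hdy⟩ := exists_pre hfg hg x hker (k := k) (n + 1)
    obtain ⟨d', hd', hd'2⟩ := exists_delta hf hkn x hdmem hdy hyₙ
    exact ⟨yₙ + d', hd'2, by simpa using hd'⟩
  obtain ⟨d0, y0, hd0, hy0⟩ := exists_pre hfg hg x hker (k := k) 0
  have h0 : f y0 - x (k + 0) ∈ (I ^ (k + 0) • ⊤ : Submodule R N) := by
    rw [hy0]
    simpa using Submodule.neg_mem _ hd0
  -- build the sequence as a dependent recursion
  let S : ℕ → Type u := fun n =>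
    {y : M // f y - x (k + n) ∈ (I ^ (k + n) • ⊤ : Submodule R N)}
  let b : ∀ n, S n := fun n => Nat.rec (motive := S) ⟨y0, h0⟩
    (fun n yn => ⟨(step n yn.1 yn.2).choose, (step n yn.1 yn.2).choose_spec.1⟩) n
  refine ⟨fun n => (b n).1, fun n => (b n).2, fun n => ?_⟩
  exact (step n (b n).1 (b n).2).choose_spec.2

end

include hf hfg hg in
/-- Adic completion is exact on a short exact sequence whose injection has the Artin–Rees
property. -/
theorem map_exact_of_AR (h : ARCond I f) :
    Function.Exact (AdicCompletion.map I f) (AdicCompletion.map I g) := by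
  refine LinearMap.exact_of_comp_eq_zero_of_ker_le_range ?_ (fun y ↦ ?_)
  · rw [AdicCompletion.map_comp, hfg.linearMap_comp_eq_zero, AdicCompletion.map_zero]
  · apply AdicCompletion.induction_on I N y (fun b ↦ ?_)
    intro hz
    obtain ⟨k, hk⟩ := h
    have hb (n : ℕ) : g (b n) ∈ (I ^ n • ⊤ : Submodule R P) := by
      simpa using congrArg (fun x ↦ x.val n) hz
    obtain ⟨a, ha1, ha2⟩ := exists_seq hf hfg hg hk b hb
    refine ⟨AdicCompletion.mk I M (AdicCompletion.AdicCauchySequence.mk I M a ?_), ?_⟩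
    · intro n
      refine SModEq.symm ?_
      rw [SModEq.sub_mem]
      exact ha2 n
    · ext n
      suffices h : Submodule.Quotient.mk (p := (I ^ n • ⊤ : Submodule R N)) (f (a n)) =
            Submodule.Quotient.mk (p := (I ^ n • ⊤ : Submodule R N)) (b (k + n)) by
        simp [h, AdicCompletion.AdicCauchySequence.mk_eq_mk (show n ≤ k + n by omega)]
      rw [Submodule.Quotient.eq]
      have hle : (I ^ (k + n) • ⊤ : Submodule R N) ≤ (I ^ n • ⊤ : Submodule R N) :=
        Submodule.smul_mono_left (Ideal.pow_le_pow_right (by omega))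
      exact hle (ha1 n)

end

end Groth.Agent.Helper9.AdicFlat1
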