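import Mathlib
import Groth.Agent.Helper9.AdicFlat1

/-!
# Artin–Rees for `f ⊗ N` with `N` flat, and exactness of `M ↦ (M ⊗ N)^`
-/

set_option autoImplicit false
set_option linter.unusedSectionVars false

universe u

open LinearMap Submodule TensorProduct

namespace Groth.Agent.Helper9.AdicFlat2

open Groth.Agent.Helper9.AdicFlat1

variable {A : Type u} [CommRing A]
variable {M : Type u} [AddCommGroup M] [Module A M]
variable (N : Type u) [AddCommGroup N] [Module A N]

/-- the image of `S ⊗ N` in `M ⊗ N` -/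
def tens (S : Submodule A M) : Submodule A (M ⊗[A] N) :=
  LinearMap.range (S.subtype.rTensor N)

lemma tens_eq_span (S : Submodule A M) :
    tens N S = Submodule.span A {x | ∃ s ∈ S, ∃ n : N, x = s ⊗ₜ[A] n} := by
  unfold tens
  rw [LinearMap.range_eq_map, ← TensorProduct.span_tmul_eq_top, Submodule.map_span]
  congr 1
  ext x
  constructor
  · rintro ⟨_, ⟨s, n, rfl⟩, rfl⟩
    exact ⟨s.1, s.2, n, rfl⟩
  · rintro ⟨s, hs, n, rfl⟩
    exact ⟨(⟨s, hs⟩ : S) ⊗ₜ[A] n, ⟨⟨s, hs⟩, n, rfl⟩, rfl⟩

lemma tmul_mem_tens {S : Submodule A M} {s : M} (hs : s ∈ S) (n : N) :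
    s ⊗ₜ[A] n ∈ tens N S := by
  rw [tens_eq_span]
  exact Submodule.subset_span ⟨s, hs, n, rfl⟩

lemma tens_mono {S S' : Submodule A M} (h : S ≤ S') : tens N S ≤ tens N S' := by
  rw [tens_eq_span, tens_eq_span]
  apply Submodule.span_mono
  rintro x ⟨s, hs, n, rfl⟩
  exact ⟨s, h hs, n, rfl⟩

lemma tens_top : tens N (⊤ : Submodule A M) = ⊤ := by
  rw [tens_eq_span, eq_top_iff, ← TensorProduct.span_tmul_eq_top]
  apply Submodule.span_mono
  rintro x ⟨m, n, rfl⟩
  exact ⟨m, trivial, n, rfl⟩

lemma range_rTensor {M' : Type u} [AddCommGroup M'] [Module A M'] (f : M' →ₗ[A] M) :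
    LinearMap.range (f.rTensor N) = tens N (LinearMap.range f) := by
  rw [tens_eq_span]
  apply le_antisymm
  · rintro _ ⟨x, rfl⟩
    induction x using TensorProduct.induction_on with
    | zero => simp
    | tmul m n =>
      rw [LinearMap.rTensor_tmul]
      exact Submodule.subset_span ⟨f m, ⟨m, rfl⟩, n, rfl⟩
    | add x y hx hy =>
      rw [map_add]
      exact Submodule.add_mem _ hx hy
  · rw [Submodule.span_le]
    rintro _ ⟨_, ⟨m, rfl⟩, n, rfl⟩
    exact ⟨m ⊗ₜ[A] n, by simp⟩

lemma tens_smul (J : Ideal A) (S : Submodule A M) : tens N (J • S) = J • tens N S := by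
  apply le_antisymm
  · rw [tens_eq_span, Submodule.span_le]
    rintro _ ⟨x, hx, n, rfl⟩
    refine Submodule.smul_induction_on hx ?_ ?_
    · intro j hj s hs
      rw [← TensorProduct.smul_tmul']
      exact Submodule.smul_mem_smul hj (tmul_mem_tens N hs n)
    · intro x y hx hy
      rw [TensorProduct.add_tmul]
      exact Submodule.add_mem _ hx hy
  · rw [Submodule.smul_le]
    intro j hj t ht
    rw [tens_eq_span] at ht
    refine Submodule.span_induction ?_ ?_ ?_ ?_ ht
    · rintro _ ⟨s, hs, n, rfl⟩
      rw [TensorProduct.smul_tmul']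
      exact tmul_mem_tens N (Submodule.smul_mem_smul hj hs) n
    · simp
    · intro x y _ _ hx hy
      rw [smul_add]
      exact Submodule.add_mem _ hx hy
    · intro a x _ hx
      rw [smul_comm]
      exact Submodule.smul_mem _ _ hx

lemma smul_top_eq (J : Ideal A) :
    (J • ⊤ : Submodule A (M ⊗[A] N)) = tens N (J • ⊤ : Submodule A M) := by
  rw [tens_smul, tens_top]

/-- flat modules preserve intersections -/
theorem tens_inf [Module.Flat A N] (U S : Submodule A M) :
    tens N (U ⊓ S) = tens N U ⊓ tens N S := by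
  apply le_antisymm
  · exact le_inf (tens_mono N inf_le_left) (tens_mono N inf_le_right)
  · rintro x ⟨hxU, hxS⟩
    obtain ⟨y, rfl⟩ := hxS
    let ι : ↥(U ⊓ S) →ₗ[A] ↥S := Submodule.inclusion inf_le_right
    let g : ↥S →ₗ[A] M ⧸ U := U.mkQ ∘ₗ S.subtype
    have hex : Function.Exact ι g := by
      intro s
      constructor
      · intro hs
        have hs' : (s : M) ∈ U := by
          have : U.mkQ (s : M) = 0 := hs
          rwa [Submodule.mkQ_apply, Submodule.Quotient.mk_eq_zero] at this
        exact ⟨⟨s.1, ⟨hs', s.2⟩⟩, rfl⟩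
      · rintro ⟨z, rfl⟩
        show U.mkQ ((ι z : ↥S) : M) = 0
        rw [Submodule.mkQ_apply, Submodule.Quotient.mk_eq_zero]
        exact z.2.1
    have hex' := Module.Flat.rTensor_exact N hex
    have hy : (g.rTensor N) y = 0 := by
      have h1 : g.rTensor N = (U.mkQ.rTensor N) ∘ₗ (S.subtype.rTensor N) :=
        LinearMap.rTensor_comp N U.mkQ S.subtype
      rw [h1, LinearMap.comp_apply]
      have h2 : (S.subtype.rTensor N) y ∈ LinearMap.ker (U.mkQ.rTensor N) := by
        rw [rTensor_mkQ]
        exact hxU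
      exact h2
    obtain ⟨z, rfl⟩ := (hex' y).mp hy
    refine ⟨z, ?_⟩
    have h3 : (U ⊓ S).subtype = S.subtype ∘ₗ ι := rfl
    rw [h3, LinearMap.rTensor_comp, LinearMap.comp_apply]

variable (I : Ideal A)

/-- **Artin–Rees for `f ⊗ N`**, `N` flat, target finite over a Noetherian ring -/
theorem arCond_rTensor [IsNoetherianRing A] [Module.Finite A M] [Module.Flat A N]
    {M' : Type u} [AddCommGroup M'] [Module A M'] (f : M' →ₗ[A] M) :
    ARCond I (f.rTensor N) := by
  obtain ⟨k, hk⟩ := Ideal.exists_pow_inf_eq_pow_smul I (LinearMap.range f)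
  refine ⟨k, fun n hn => ?_⟩
  rw [range_rTensor, smul_top_eq, ← tens_inf, ← tens_smul]
  apply tens_mono
  rw [hk n hn]
  exact smul_mono_right _ inf_le_right

section Exact

variable [IsNoetherianRing A] [Module.Flat A N]
variable {M' M'' : Type u} [AddCommGroup M'] [Module A M'] [AddCommGroup M''] [Module A M'']
  [Module.Finite A M]

/-- `M ↦ (M ⊗ N)^` preserves injections into finite modules -/
theorem map_rTensor_injective {f : M' →ₗ[A] M} (hf : Function.Injective f) :
    Function.Injective (AdicCompletion.map I (f.rTensor N)) :=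
  map_injective_of_AR (Module.Flat.rTensor_preserves_injective_linearMap f hf)
    (arCond_rTensor N I f)

/-- `M ↦ (M ⊗ N)^` is exact on short exact sequences with finite middle term -/
theorem map_rTensor_exact {f : M' →ₗ[A] M} {g : M →ₗ[A] M''} (hf : Function.Injective f)
    (hfg : Function.Exact f g) (hg : Function.Surjective g) :
    Function.Exact (AdicCompletion.map I (f.rTensor N)) (AdicCompletion.map I (g.rTensor N)) :=
  map_exact_of_AR (Module.Flat.rTensor_preserves_injective_linearMap f hf)
    (Module.Flat.rTensor_exact N hfg) (LinearMap.rTensor_surjective N hg)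
    (arCond_rTensor N I f)

theorem map_rTensor_surjective {g : M →ₗ[A] M''} (hg : Function.Surjective g) :
    Function.Surjective (AdicCompletion.map I (g.rTensor N)) :=
  AdicCompletion.map_surjective I (LinearMap.rTensor_surjective N hg)

end Exact

end Groth.Agent.Helper9.AdicFlat2
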