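import Mathlib
import Groth.Agent.Helper9.AdicFlat2

/-!
# Completion of a flat module over a Noetherian ring is flat (Stacks 0AGW)

For a Noetherian ring `A`, an ideal `I`, a flat module `N` and a finite module `M` the comparison
map `M ⊗ N^ → (M ⊗ N)^` is bijective, and `N^` is flat.
-/

set_option autoImplicit false
set_option linter.unusedSectionVars false

universe u

open LinearMap Submodule TensorProduct

namespace Groth.Agent.Helper9.AdicFlat3

open Groth.Agent.Helper9.AdicFlat1 Groth.Agent.Helper9.AdicFlat2

variable {A : Type u} [CommRing A] (I : Ideal A)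

section MapL

variable {P Q : Type u} [AddCommGroup P] [Module A P] [AddCommGroup Q] [Module A Q]

lemma map_add' (f g : P →ₗ[A] Q) (x : AdicCompletion I P) :
    AdicCompletion.map I (f + g) x = AdicCompletion.map I f x + AdicCompletion.map I g x := by
  induction x using AdicCompletion.induction_on with
  | _ a =>
    ext n
    simp

lemma map_smul' (a : A) (f : P →ₗ[A] Q) (x : AdicCompletion I P) :
    AdicCompletion.map I (a • f) x = a • AdicCompletion.map I f x := by
  induction x using AdicCompletion.induction_on with
  | _ b =>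
    ext n
    simp [AdicCompletion.val_smul_apply]

variable (P Q) in
/-- `AdicCompletion.map` as a linear map in the map -/
noncomputable def mapL : (P →ₗ[A] Q) →ₗ[A] (AdicCompletion I P →ₗ[A] AdicCompletion I Q) where
  toFun f := (AdicCompletion.map I f).restrictScalars A
  map_add' f g := by
    apply LinearMap.ext
    intro x
    exact map_add' I f g x
  map_smul' a f := by
    apply LinearMap.ext
    intro x
    exact map_smul' I a f x

@[simp] lemma mapL_apply (f : P →ₗ[A] Q) (x : AdicCompletion I P) :
    mapL I P Q f x = AdicCompletion.map I f x := rfl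

end MapL

variable (N : Type u) [AddCommGroup N] [Module A N]

/-- the comparison map `M ⊗ N^ → (M ⊗ N)^` -/
noncomputable def cmp (M : Type u) [AddCommGroup M] [Module A M] :
    M ⊗[A] AdicCompletion I N →ₗ[A] AdicCompletion I (M ⊗[A] N) :=
  TensorProduct.lift ((mapL I N (M ⊗[A] N)) ∘ₗ TensorProduct.mk A M N)

variable {M M' : Type u} [AddCommGroup M] [Module A M] [AddCommGroup M'] [Module A M']

@[simp] lemma cmp_tmul (m : M) (x : AdicCompletion I N) :
    cmp I N M (m ⊗ₜ[A] x) = AdicCompletion.map I (TensorProduct.mk A M N m) x := rfl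

lemma cmp_tmul_of (m : M) (n : N) :
    cmp I N M (m ⊗ₜ[A] AdicCompletion.of I N n) = AdicCompletion.of I (M ⊗[A] N) (m ⊗ₜ[A] n) := by
  rw [cmp_tmul, AdicCompletion.map_of]
  rfl

lemma cmp_lTensor_of (t : M ⊗[A] N) :
    cmp I N M ((AdicCompletion.of I N).lTensor M t) = AdicCompletion.of I (M ⊗[A] N) t := by
  induction t using TensorProduct.induction_on with
  | zero => simp
  | tmul m n => rw [LinearMap.lTensor_tmul, cmp_tmul_of]
  | add x y hx hy => rw [map_add, map_add, hx, hy, map_add]

lemma cmp_naturality (f : M' →ₗ[A] M) (t : M' ⊗[A] AdicCompletion I N) :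
    cmp I N M (f.rTensor (AdicCompletion I N) t) =
      AdicCompletion.map I (f.rTensor N) (cmp I N M' t) := by
  induction t using TensorProduct.induction_on with
  | zero => simp
  | tmul m x =>
    rw [LinearMap.rTensor_tmul, cmp_tmul, cmp_tmul, AdicCompletion.map_comp_apply]
    congr 1
  | add x y hx hy => rw [map_add, map_add, hx, hy, map_add, map_add]

section Pi

variable (ι : Type) [Fintype ι] [DecidableEq ι]

/-- `(ι → A) ⊗ P ≃ (ι → P)` -/
noncomputable def piL (P : Type u) [AddCommGroup P] [Module A P] :
    (ι → A) ⊗[A] P ≃ₗ[A] (ι → P) :=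
  (TensorProduct.comm A (ι → A) P) ≪≫ₗ TensorProduct.piScalarRight A A P ι

@[simp] lemma piL_tmul (P : Type u) [AddCommGroup P] [Module A P] (f : ι → A) (p : P) (i : ι) :
    piL ι P (f ⊗ₜ[A] p) i = f i • p := by
  simp [piL]

lemma map_smul_id {P : Type u} [AddCommGroup P] [Module A P] (a : A) (x : AdicCompletion I P) :
    AdicCompletion.map I (a • (LinearMap.id : P →ₗ[A] P)) x = a • x := by
  rw [map_smul', AdicCompletion.map_id]
  rfl

lemma pi_eq_map {M : ι → Type u} [∀ i, AddCommGroup (M i)] [∀ i, Module A (M i)]
    (c : AdicCompletion I (∀ j, M j)) (i : ι) :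
    AdicCompletion.pi I M c i = AdicCompletion.map I (LinearMap.proj i) c := by
  ext n
  rw [AdicCompletion.pi_apply_coe, AdicCompletion.map_val_apply]

lemma pi_cmp_eq (t : (ι → A) ⊗[A] AdicCompletion I N) :
    AdicCompletion.piEquivOfFintype I (fun _ : ι => N)
        (AdicCompletion.map I (piL ι N).toLinearMap (cmp I N (ι → A) t)) =
      piL ι (AdicCompletion I N) t := by
  induction t using TensorProduct.induction_on with
  | zero => simp
  | tmul f x =>
    funext i
    rw [cmp_tmul, AdicCompletion.map_comp_apply, AdicCompletion.piEquivOfFintype_apply,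
      pi_eq_map, AdicCompletion.map_comp_apply, piL_tmul]
    rw [← map_smul_id I (f i) x]
    congr 1
  | add x y hx hy => simp only [map_add, hx, hy]

theorem cmp_bijective_pi : Function.Bijective (cmp I N (ι → A)) := by
  have h : (fun t => AdicCompletion.piEquivOfFintype I (fun _ : ι => N)
        (AdicCompletion.congr I (piL ι N) (cmp I N (ι → A) t))) =
      piL ι (AdicCompletion I N) := by
    funext t
    exact pi_cmp_eq I N ι t
  have h2 : Function.Bijective (fun t => AdicCompletion.piEquivOfFintype I (fun _ : ι => N)
        (AdicCompletion.congr I (piL ι N) (cmp I N (ι → A) t))) := by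
    rw [h]
    exact (piL ι (AdicCompletion I N)).bijective
  have h3 : Function.Bijective (fun x : AdicCompletion I ((ι → A) ⊗[A] N) =>
      AdicCompletion.piEquivOfFintype I (fun _ : ι => N) (AdicCompletion.congr I (piL ι N) x)) :=
    (AdicCompletion.piEquivOfFintype I (fun _ : ι => N)).bijective.comp
      (AdicCompletion.congr I (piL ι N)).bijective
  exact (Function.Bijective.of_comp_iff' h3 _).mp h2

end Pi

section Finite

variable [IsNoetherianRing A] [Module.Flat A N]

theorem cmp_surjective (M : Type u) [AddCommGroup M] [Module A M] [Module.Finite A M] :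
    Function.Surjective (cmp I N M) := by
  classical
  obtain ⟨n, f, hf⟩ := Module.Finite.exists_fin' A M
  intro y
  obtain ⟨y', rfl⟩ := map_rTensor_surjective N I hf y
  obtain ⟨t, rfl⟩ := (cmp_bijective_pi I N (Fin n)).2 y'
  exact ⟨f.rTensor _ t, cmp_naturality I N f t⟩

theorem cmp_injective (M : Type u) [AddCommGroup M] [Module A M] [Module.Finite A M] :
    Function.Injective (cmp I N M) := by
  classical
  obtain ⟨n, f, hf⟩ := Module.Finite.exists_fin' A M
  rw [injective_iff_map_eq_zero]
  intro x hx
  obtain ⟨y, rfl⟩ := LinearMap.rTensor_surjective (AdicCompletion I N) hf x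
  rw [cmp_naturality] at hx
  have hex : Function.Exact (LinearMap.ker f).subtype f := LinearMap.exact_subtype_ker_map f
  have hex' := map_rTensor_exact N I (Submodule.subtype_injective _) hex hf
  obtain ⟨w, hw⟩ := (hex' _).mp hx
  obtain ⟨z, rfl⟩ := cmp_surjective I N (LinearMap.ker f) w
  rw [← cmp_naturality] at hw
  have := (cmp_bijective_pi I N (Fin n)).1 hw
  rw [← this, ← LinearMap.comp_apply, ← LinearMap.rTensor_comp,
    hex.linearMap_comp_eq_zero, LinearMap.rTensor_zero, LinearMap.zero_apply]

theorem cmp_bijective (M : Type u) [AddCommGroup M] [Module A M] [Module.Finite A M] :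
    Function.Bijective (cmp I N M) :=
  ⟨cmp_injective I N M, cmp_surjective I N M⟩

/-- **Stacks 0AGW**: the completion of a flat module over a Noetherian ring is flat. -/
theorem flat_adicCompletion : Module.Flat A (AdicCompletion I N) := by
  rw [Module.Flat.iff_rTensor_injective]
  intro 𝔞 _
  have h1 : Function.Injective (fun t => cmp I N A (𝔞.subtype.rTensor (AdicCompletion I N) t)) := by
    have : (fun t => cmp I N A (𝔞.subtype.rTensor (AdicCompletion I N) t)) =
        (AdicCompletion.map I (𝔞.subtype.rTensor N)) ∘ (cmp I N 𝔞) := by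
      funext t
      exact cmp_naturality I N 𝔞.subtype t
    rw [this]
    exact (map_rTensor_injective N I (Submodule.subtype_injective _)).comp (cmp_injective I N 𝔞)
  exact Function.Injective.of_comp (f := cmp I N A) h1

/-- the comparison isomorphism `M ⊗ N^ ≃ (M ⊗ N)^` for finite `M` -/
noncomputable def cmpEquiv (M : Type u) [AddCommGroup M] [Module A M] [Module.Finite A M] :
    M ⊗[A] AdicCompletion I N ≃ₗ[A] AdicCompletion I (M ⊗[A] N) :=
  LinearEquiv.ofBijective (cmp I N M) (cmp_bijective I N M)

@[simp] lemma cmpEquiv_apply (M : Type u) [AddCommGroup M] [Module A M] [Module.Finite A M]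
    (t : M ⊗[A] AdicCompletion I N) : cmpEquiv I N M t = cmp I N M t := rfl

end Finite

end Groth.Agent.Helper9.AdicFlat3
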