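import Mathlib
import Groth.Prelude.Def_DRing4
import Groth.Prelude.Def_DTen4
import Groth.Agent.Helper3.DRingRestr
import Groth.Agent.Helper6.DCAdic2
import Groth.Agent.Helper6.DCAdic3
import Groth.Agent.Helper6.DCTen3
import Groth.Agent.Helper6.TenCxBdd
import Groth.Agent.Helper9.AdicFlat3

/-!
# Termwise adic completion of a bounded above complex of flat modules is its derived completion

`complF I` is the adic completion functor on modules, `complCx I` its termwise extension to
complexes and `complMap I G : G ⟶ Ĝ` the canonical map.  Over a Noetherian ring, for `G` bounded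
above with flat terms, `Q (complMap I G)` is an `EEq`.
-/

set_option autoImplicit false
set_option linter.style.haveILetI false
set_option linter.unusedSectionVars false
universe u
open CategoryTheory CategoryTheory.Limits DerivedCategory MonoidalCategory TensorProduct

attribute [local instance] HasDerivedCategory.standard

namespace Groth.Agent.Helper9.AdicEEq1

open Groth.Agent.Helper3.DRingLib Groth.Agent.Helper6.DComplAmp Groth.Agent.Helper6.DCAdic1
  Groth.Agent.Helper6.DCAdic2 Groth.Agent.Helper6.TenCx Groth.Agent.Helper9.AdicFlat3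

variable {A : Type u} [CommRing A] (I : Ideal A)

/-- the adic completion functor on modules -/
noncomputable def complF : ModuleCat.{u} A ⥤ ModuleCat.{u} A where
  obj X := ModuleCat.of A (AdicCompletion I X)
  map f := ModuleCat.ofHom ((AdicCompletion.map I f.hom).restrictScalars A)
  map_id X := by
    apply ModuleCat.hom_ext
    apply LinearMap.ext
    intro x
    show AdicCompletion.map I (LinearMap.id) x = x
    rw [AdicCompletion.map_id]
    rfl
  map_comp f g := by
    apply ModuleCat.hom_ext
    apply LinearMap.ext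
    intro x
    show AdicCompletion.map I (g.hom ∘ₗ f.hom) x =
      AdicCompletion.map I g.hom (AdicCompletion.map I f.hom x)
    rw [AdicCompletion.map_comp_apply]

lemma complF_map_apply {X Y : ModuleCat.{u} A} (f : X ⟶ Y) (x : AdicCompletion I X) :
    ((complF I).map f).hom x = AdicCompletion.map I f.hom x := rfl

instance : (complF I).Additive where
  map_add {X Y f g} := by
    apply ModuleCat.hom_ext
    apply LinearMap.ext
    intro x
    exact map_add' I f.hom g.hom x

/-- the canonical map to the completion, as a natural transformation -/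
noncomputable def ofNat : 𝟭 (ModuleCat.{u} A) ⟶ complF I where
  app X := ModuleCat.ofHom (AdicCompletion.of I X)
  naturality X Y f := by
    apply ModuleCat.hom_ext
    apply LinearMap.ext
    intro x
    show AdicCompletion.of I Y (f.hom x) = AdicCompletion.map I f.hom (AdicCompletion.of I X x)
    rw [AdicCompletion.map_of]

lemma ofNat_app_apply (X : ModuleCat.{u} A) (x : X) :
    ((ofNat I).app X).hom x = AdicCompletion.of I X x := rfl

section hom

variable (hI : I.FG)
include hI

lemma exists_of_sub_mem (X : Type u) [AddCommGroup X] [Module A X] (r : AdicCompletion I X) :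
    ∃ x : X, r - AdicCompletion.of I X x ∈ (I • ⊤ : Submodule A (AdicCompletion I X)) := by
  obtain ⟨x, hx⟩ := Submodule.mkQ_surjective _ (AdicCompletion.eval I X 1 r)
  refine ⟨x, ?_⟩
  have h1 : r - AdicCompletion.of I X x ∈ LinearMap.ker (AdicCompletion.eval I X 1) := by
    rw [LinearMap.mem_ker, map_sub, AdicCompletion.eval_of, hx, sub_self]
  rw [← AdicCompletion.pow_smul_top_eq_ker_eval hI, pow_one] at h1
  exact h1

lemma lin_ext_of {X W : Type u} [AddCommGroup X] [Module A X] [AddCommGroup W] [Module A W]
    (hW : ∀ f ∈ I, ∀ y : W, f • y = 0) (k₁ k₂ : AdicCompletion I X →ₗ[A] W)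
    (h : ∀ x, k₁ (AdicCompletion.of I X x) = k₂ (AdicCompletion.of I X x)) : k₁ = k₂ := by
  have h0 : ∀ (k : AdicCompletion I X →ₗ[A] W),
      ∀ c ∈ (I • ⊤ : Submodule A (AdicCompletion I X)), k c = 0 := by
    intro k c hc
    refine Submodule.smul_induction_on hc (fun i hi r' _ => ?_) (fun c₁ c₂ h1 h2 => ?_)
    · rw [map_smul]
      exact hW i hi _
    · rw [map_add, h1, h2, add_zero]
  apply LinearMap.ext
  intro r
  obtain ⟨x, hx⟩ := exists_of_sub_mem I hI X r
  have e : r = (r - AdicCompletion.of I X x) + AdicCompletion.of I X x := by abel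
  rw [e, map_add, map_add, h0 k₁ _ hx, h0 k₂ _ hx, h x]

lemma lin_exists_of {X W : Type u} [AddCommGroup X] [Module A X] [AddCommGroup W] [Module A W]
    (hW : ∀ f ∈ I, ∀ y : W, f • y = 0) (h : X →ₗ[A] W) :
    ∃ k : AdicCompletion I X →ₗ[A] W, ∀ x, k (AdicCompletion.of I X x) = h x := by
  have hle : (I ^ 1 • ⊤ : Submodule A X) ≤ LinearMap.ker h := by
    rw [pow_one, Submodule.smul_le]
    intro i hi x _
    rw [LinearMap.mem_ker, map_smul]
    exact hW i hi _
  refine ⟨(Submodule.liftQ _ h hle) ∘ₗ AdicCompletion.eval I X 1, fun x => ?_⟩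
  rw [LinearMap.comp_apply, AdicCompletion.eval_of]
  rfl

/-- `Hom(X^, Z) → Hom(X, Z)` is bijective for `Z` an `A/I`-module -/
theorem bijective_precomp_of (X : ModuleCat.{u} A) (Z : ModuleCat.{u} (A ⧸ I)) :
    Function.Bijective
      (fun k : (complF I).obj X ⟶ (rF (qm I)).obj Z => (ofNat I).app X ≫ k) := by
  have hZ : ∀ f ∈ I, ∀ y : (rF (qm I)).obj Z, f • y = 0 :=
    fun f hf y => smul_eq_zero_res I Z f hf y
  constructor
  · intro k₁ k₂ h
    apply ModuleCat.hom_ext
    refine lin_ext_of I hI hZ (X := X) k₁.hom k₂.hom (fun x => ?_)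
    exact congrArg (fun t => t.hom x) h
  · intro h
    obtain ⟨k, hk⟩ := lin_exists_of I hI hZ (X := X) h.hom
    refine ⟨ModuleCat.ofHom (X := AdicCompletion I X) (Y := ((rF (qm I)).obj Z)) k, ?_⟩
    apply ModuleCat.hom_ext
    apply LinearMap.ext
    intro x
    exact hk x

/-- base change to `A/I` inverts `X → X^` -/
theorem isIso_ext_of (X : ModuleCat.{u} A) :
    IsIso ((ModuleCat.extendScalars.{u, u, u} (qm I)).map ((ofNat I).app X)) := by
  apply isIso_of_coyoneda_map_bijective
  intro N
  let adj := ModuleCat.extendRestrictScalarsAdj.{u, u, u} (qm I)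
  have e : (adj.homEquiv X N) ∘
      (fun k : (ModuleCat.extendScalars.{u, u, u} (qm I)).obj ((complF I).obj X) ⟶ N =>
        (ModuleCat.extendScalars.{u, u, u} (qm I)).map ((ofNat I).app X) ≫ k) =
      (fun k' : (complF I).obj X ⟶ (rF (qm I)).obj N => (ofNat I).app X ≫ k') ∘
        (adj.homEquiv ((complF I).obj X) N) := by
    funext k
    simp only [Function.comp_apply]
    rw [Adjunction.homEquiv_naturality_left]
  have h2 : Function.Bijective ((adj.homEquiv X N) ∘
      (fun k : (ModuleCat.extendScalars.{u, u, u} (qm I)).obj ((complF I).obj X) ⟶ N =>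
        (ModuleCat.extendScalars.{u, u, u} (qm I)).map ((ofNat I).app X) ≫ k)) := by
    rw [e]
    exact (bijective_precomp_of I hI X N).comp (adj.homEquiv _ _).bijective
  exact (Function.Bijective.of_comp_iff' (adj.homEquiv X N).bijective _).mp h2

end hom

section cx

/-- termwise completion of complexes -/
noncomputable abbrev complCx : DRing.Cx A ⥤ DRing.Cx A :=
  (complF I).mapHomologicalComplex (ComplexShape.up ℤ)

/-- `G → Ĝ` -/
noncomputable def complMap (G : DRing.Cx A) : G ⟶ (complCx I).obj G where
  f i := (ofNat I).app (G.X i)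
  comm' i j _ := ((ofNat I).naturality (G.d i j)).symm

lemma complMap_naturality {G G' : DRing.Cx A} (g : G ⟶ G') :
    g ≫ complMap I G' = complMap I G ≫ (complCx I).map g := by
  refine HomologicalComplex.hom_ext _ _ (fun n => ?_)
  exact (ofNat I).naturality (g.f n)

lemma isIso_extCx_complMap (hI : I.FG) (G : DRing.Cx A) :
    IsIso ((DTen.extCx (qm I)).map (complMap I G)) := by
  haveI : ∀ i, IsIso (((DTen.extCx (qm I)).map (complMap I G)).f i) :=
    fun i => isIso_ext_of I hI (G.X i)
  exact HomologicalComplex.Hom.isIso_of_components _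

lemma vanishesAbove_complCx (G : DRing.Cx A) (b : ℤ) (hb : DRing.VanishesAbove G b) :
    DRing.VanishesAbove ((complCx I).obj G) b := fun i hi =>
  (complF I).map_isZero (hb i hi)

variable [IsNoetherianRing A]

lemma kflat_complCx (G : DRing.Cx A) (b : ℤ) (hb : DRing.VanishesAbove G b)
    (hG : DRing.TermwiseFlat G) : KFlat ((complCx I).obj G) := by
  refine kflat_of_boundedAbove_flat _ b (vanishesAbove_complCx I G b hb) (fun i => ?_)
  haveI := hG i
  exact flat_adicCompletion I (G.X i)

/-- `G → Ĝ` induces bijections on maps to objects restricted from `A/I` -/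
theorem eeq_complMap (G : DRing.Cx A) (b : ℤ) (hb : DRing.VanishesAbove G b)
    (hG : DRing.TermwiseFlat G) : EEq I (Q.map (complMap I G)) := by
  have k1 : KFlat G := kflat_of_boundedAbove_flat G b hb hG
  have k2 : KFlat ((complCx I).obj G) := kflat_complCx I G b hb hG
  rw [Groth.Agent.Helper6.DCTen3.eeq_iff_quasiIso_ext I (complMap I G) k1 k2]
  haveI := isIso_extCx_complMap I (IsNoetherian.noetherian I) G
  infer_instance

end cx

end Groth.Agent.Helper9.AdicEEq1
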