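import Mathlib
import Groth.Prelude.Def_DRing4
import Groth.Prelude.Def_DTen4
import Groth.Agent.Helper3.DRingSeq
import Groth.Agent.Helper3.DRingTor3
import Groth.Agent.Helper6.DCTen5
import Groth.Agent.Helper9.AdicEEq1

/-!
# The completed model `(G ⊗ M)^` of the derived completion of `G ⊗ M`

`A` Noetherian, `G` a bounded above complex of flat modules, `M` a finite module: the derived
completion of `Q (G ⊗ M)` is `Q` of the termwise completion of `G ⊗ M`.
-/

set_option autoImplicit false
set_option linter.style.haveILetI false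
set_option linter.unusedSectionVars false
universe u
open CategoryTheory CategoryTheory.Limits DerivedCategory MonoidalCategory TensorProduct

attribute [local instance] HasDerivedCategory.standard

namespace Groth.Agent.Helper9.AdicEEq2

open Groth.Agent.Helper3.DRingLib Groth.Agent.Helper6.DComplAmp Groth.Agent.Helper6.DCAdic1
  Groth.Agent.Helper6.DCAdic2 Groth.Agent.Helper6.TenCx Groth.Agent.Helper9.AdicFlat3
  Groth.Agent.Helper9.AdicEEq1 Groth.Agent.Helper6.LTenModCompute Groth.Agent.Helper6.SingleTen
  Groth.Agent.Helper6.DCTen3 Groth.Agent.Helper6.DCTen5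

variable {A : Type u} [CommRing A] (I : Ideal A)

/-- a complex whose terms are derived complete modules is derived complete -/
theorem isDerivedComplete_Q_of_terms (C : DRing.Cx A)
    (h : ∀ i, DRing.IsDerivedComplete I (Dual.inD A (C.X i))) :
    DRing.IsDerivedComplete I (Q.obj C) := by
  rw [isDerivedComplete_iff_homology]
  intro i
  rw [isDerivedComplete_module_iff]
  intro f hf
  exact seqOp_bijective_HD_toD f C
    (fun j => (isDerivedComplete_module_iff I _).mp (h j) f hf) i

/-- termwise completions are derived complete -/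
theorem isDerivedComplete_complCx (hI : I.FG) (C : DRing.Cx A) :
    DRing.IsDerivedComplete I (Q.obj ((complCx I).obj C)) := by
  apply isDerivedComplete_Q_of_terms
  intro i
  haveI : IsAdicComplete I (AdicCompletion I (C.X i)) := AdicCompletion.isAdicComplete hI
  exact isDerivedComplete_of_isAdicComplete I (AdicCompletion I (C.X i))

section cmpR

variable (X : Type u) [AddCommGroup X] [Module A X] (M : Type u) [AddCommGroup M] [Module A M]

/-- the comparison map `X^ ⊗ M → (X ⊗ M)^` -/
noncomputable def cmpR : AdicCompletion I X ⊗[A] M →ₗ[A] AdicCompletion I (X ⊗[A] M) :=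
  TensorProduct.lift ((mapL I X (X ⊗[A] M) ∘ₗ (TensorProduct.mk A X M).flip).flip)

@[simp] lemma cmpR_tmul (x : AdicCompletion I X) (m : M) :
    cmpR I X M (x ⊗ₜ[A] m) = AdicCompletion.map I ((TensorProduct.mk A X M).flip m) x := rfl

lemma cmpR_eq (t : AdicCompletion I X ⊗[A] M) :
    cmpR I X M t = AdicCompletion.map I (TensorProduct.comm A M X).toLinearMap
      (cmp I X M (TensorProduct.comm A (AdicCompletion I X) M t)) := by
  induction t using TensorProduct.induction_on with
  | zero => simp
  | tmul x m =>
    rw [cmpR_tmul, TensorProduct.comm_tmul, cmp_tmul, AdicCompletion.map_comp_apply]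
    congr 1
  | add x y hx hy => rw [map_add, hx, hy, map_add, map_add, map_add]

lemma cmpR_rTensor_of (t : X ⊗[A] M) :
    cmpR I X M ((AdicCompletion.of I X).rTensor M t) = AdicCompletion.of I (X ⊗[A] M) t := by
  induction t using TensorProduct.induction_on with
  | zero => simp
  | tmul x m =>
    rw [LinearMap.rTensor_tmul, cmpR_tmul, AdicCompletion.map_of]
    rfl
  | add x y hx hy => rw [map_add, map_add, hx, hy, map_add]

variable {X} in
lemma cmpR_naturality {Y : Type u} [AddCommGroup Y] [Module A Y] (g : X →ₗ[A] Y)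
    (t : AdicCompletion I X ⊗[A] M) :
    cmpR I Y M ((((AdicCompletion.map I g).restrictScalars A).rTensor M) t) =
      AdicCompletion.map I (g.rTensor M) (cmpR I X M t) := by
  induction t using TensorProduct.induction_on with
  | zero => simp
  | tmul x m =>
    rw [LinearMap.rTensor_tmul, cmpR_tmul, cmpR_tmul, AdicCompletion.map_comp_apply]
    show AdicCompletion.map I ((TensorProduct.mk A Y M).flip m) (AdicCompletion.map I g x) = _
    rw [AdicCompletion.map_comp_apply]
    congr 1
  | add x y hx hy => rw [map_add, map_add, hx, hy, map_add, map_add]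

theorem cmpR_bijective [IsNoetherianRing A] [Module.Flat A X] [Module.Finite A M] :
    Function.Bijective (cmpR I X M) := by
  have h : (cmpR I X M : _ → _) =
      (AdicCompletion.congr I (TensorProduct.comm A M X)) ∘ (cmp I X M) ∘
        (TensorProduct.comm A (AdicCompletion I X) M) := by
    funext t
    exact cmpR_eq I X M t
  rw [h]
  exact (AdicCompletion.congr I (TensorProduct.comm A M X)).bijective.comp
    ((cmp_bijective I X M).comp (TensorProduct.comm A (AdicCompletion I X) M).bijective)

end cmpR

section cx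

variable (M : Type u) [AddCommGroup M] [Module A M]

/-- `Ĝ ⊗ M → (G ⊗ M)^` -/
noncomputable def cmpCx (G : DRing.Cx A) :
    (tensF (ModuleCat.of A M)).obj ((complCx I).obj G) ⟶
      (complCx I).obj ((tensF (ModuleCat.of A M)).obj G) where
  f i := ModuleCat.ofHom (cmpR I (G.X i) M)
  comm' i j _ := by
    apply ModuleCat.hom_ext
    apply LinearMap.ext
    intro t
    exact (cmpR_naturality I M (G.d i j).hom t).symm

lemma tensF_complMap_cmpCx (G : DRing.Cx A) :
    (tensF (ModuleCat.of A M)).map (complMap I G) ≫ cmpCx I M G =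
      complMap I ((tensF (ModuleCat.of A M)).obj G) := by
  refine HomologicalComplex.hom_ext _ _ (fun n => ?_)
  apply ModuleCat.hom_ext
  apply LinearMap.ext
  intro t
  exact cmpR_rTensor_of I (G.X n) M t

variable [IsNoetherianRing A] [Module.Finite A M]

lemma isIso_cmpCx (G : DRing.Cx A) (hG : DRing.TermwiseFlat G) : IsIso (cmpCx I M G) := by
  haveI : ∀ i, IsIso ((cmpCx I M G).f i) := fun i => by
    haveI := hG i
    exact (ConcreteCategory.isIso_iff_bijective _).mpr (cmpR_bijective I (G.X i) M)
  exact HomologicalComplex.Hom.isIso_of_components _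

/-- **the key `EEq`**: `G ⊗ M → (G ⊗ M)^` for `G` bounded above flat and `M` finite -/
theorem eeq_complMap_tensF (G : DRing.Cx A) (b : ℤ) (hb : DRing.VanishesAbove G b)
    (hG : DRing.TermwiseFlat G) :
    EEq I (Q.map (complMap I ((tensF (ModuleCat.of A M)).obj G))) := by
  obtain ⟨F, c, ε, hFc, hFf, hε⟩ := exists_resolution (A := A) M
  have hF : KFlat F := kflat_of_boundedAbove_flat F c hFc (fun i => by
    have := (hFf i).2
    infer_instance)
  have kG : KFlat G := kflat_of_boundedAbove_flat G b hb hG
  have kG' : KFlat ((complCx I).obj G) := kflat_complCx I G b hb hG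
  let Mc : ModuleCat.{u} A := ModuleCat.of A M
  have q1 : QuasiIso (kappa Mc F ε G) := quasiIso_kappa Mc F ε hε G kG
  have q2 : QuasiIso (kappa Mc F ε ((complCx I).obj G)) := quasiIso_kappa Mc F ε hε _ kG'
  haveI i1 : IsIso (Q.map (kappa Mc F ε G)) :=
    (DerivedCategory.isIso_Q_map_iff_quasiIso _ _).mpr q1
  haveI i2 : IsIso (Q.map (kappa Mc F ε ((complCx I).obj G))) :=
    (DerivedCategory.isIso_Q_map_iff_quasiIso _ _).mpr q2
  haveI i3 : IsIso (cmpCx I M G) := isIso_cmpCx I M G hG
  have hE : EEq I (Q.map (complMap I G ▷ F)) :=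
    eeq_whiskerRight I (complMap I G) kG kG' hF (eeq_complMap I G b hb hG)
  have hnat := kappa_naturality Mc F ε (complMap I G)
  have key : Q.map (kappa Mc F ε G) ≫ Q.map (complMap I ((tensF Mc).obj G)) =
      Q.map (complMap I G ▷ F) ≫ Q.map (kappa Mc F ε ((complCx I).obj G)) ≫
        Q.map (cmpCx I M G) := by
    rw [← tensF_complMap_cmpCx I M G, ← Functor.map_comp, ← Functor.map_comp, ← Functor.map_comp,
      ← Category.assoc, ← hnat, Category.assoc]
  have h1 : EEq I (Q.map (kappa Mc F ε G) ≫ Q.map (complMap I ((tensF Mc).obj G))) := by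
    rw [key]
    exact EEq.comp hE (EEq.comp (eeq_of_isIso I _) (eeq_of_isIso I _))
  exact EEq.of_comp (eeq_of_isIso I (Q.map (kappa Mc F ε G))) h1

/-- **the completed model**: the derived completion of `Q (G ⊗ M)` is `Q ((G ⊗ M)^)` -/
theorem exists_iso_complCx_tensF [DRing.HasDerivedCompletion I] (G : DRing.Cx A) (b : ℤ)
    (hb : DRing.VanishesAbove G b) (hG : DRing.TermwiseFlat G) :
    ∃ ψ : ((DRing.derivedCompletion I).obj (Q.obj ((tensF (ModuleCat.of A M)).obj G))).obj ≅
        Q.obj ((complCx I).obj ((tensF (ModuleCat.of A M)).obj G)),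
      DRing.toDerivedCompletion I (Q.obj ((tensF (ModuleCat.of A M)).obj G)) ≫ ψ.hom =
        Q.map (complMap I ((tensF (ModuleCat.of A M)).obj G)) := by
  obtain ⟨fs, hfs⟩ := Groth.Agent.Helper6.DerNak.exists_list_of_fg I (IsNoetherian.noetherian I)
  have hspan : Ideal.span {a | a ∈ fs} = I := hfs.symm
  have hT : DRing.VanishesAbove ((tensF (ModuleCat.of A M)).obj G) b := fun i hi =>
    tensorCx_isZero_X G _ i (hb i hi)
  have hT' := vanishesAbove_complCx I _ b hT
  exact exists_iso_of_eeq I fs hspan _
    (isDerivedComplete_complCx I (IsNoetherian.noetherian I) _) b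
    (fun i hi => (hz_Q_iff _ i).mpr (exactAt_of_isZero_X _ i (hT i hi)))
    (fun i hi => (hz_Q_iff _ i).mpr (exactAt_of_isZero_X _ i (hT' i hi)))
    (eeq_complMap_tensF I M G b hb hG)

end cx

end Groth.Agent.Helper9.AdicEEq2
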