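import Mathlib
import Groth.Prelude.Def_DRing4
import Groth.Prelude.Def_DTen4
import Groth.Agent.Helper9.AdicEEq2

/-!
# Derived completion of `M ⊗ N` for `M` finite and `N` flat (Noetherian base)
-/

set_option autoImplicit false
set_option linter.style.haveILetI false
set_option linter.unusedSectionVars false
universe u
open CategoryTheory CategoryTheory.Limits DerivedCategory MonoidalCategory TensorProduct

attribute [local instance] HasDerivedCategory.standard

namespace Groth.Agent.Helper9.AdicEEq3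

open Groth.Agent.Helper3.DRingLib Groth.Agent.Helper6.DComplAmp Groth.Agent.Helper6.DCAdic1
  Groth.Agent.Helper6.DCAdic2 Groth.Agent.Helper6.TenCx Groth.Agent.Helper9.AdicFlat3
  Groth.Agent.Helper9.AdicEEq1 Groth.Agent.Helper9.AdicEEq2
  Groth.Agent.Helper6.LTenModCompute Groth.Agent.Helper6.SingleTen
  Groth.Agent.Helper6.DCTen3 Groth.Agent.Helper6.DCTen5

variable {A : Type u} [CommRing A] (I : Ideal A)

/-- completion of a single complex -/
lemma complMap_single (X : ModuleCat.{u} A) :
    complMap I (sN X) ≫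
        (HomologicalComplex.singleMapHomologicalComplex (complF I) (ComplexShape.up ℤ) 0).hom.app X =
      (HomologicalComplex.single (ModuleCat.{u} A) (ComplexShape.up ℤ) 0).map ((ofNat I).app X) := by
  apply HomologicalComplex.from_single_hom_ext
  rw [HomologicalComplex.comp_f, HomologicalComplex.singleMapHomologicalComplex_hom_app_self,
    HomologicalComplex.single_map_f_self]
  have h := (ofNat I).naturality (HomologicalComplex.singleObjXSelf (ComplexShape.up ℤ) 0 X).hom
  dsimp only [Functor.id_obj, Functor.id_map] at h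
  show ((ofNat I).app ((sN X).X 0) ≫
      (complF I).map (HomologicalComplex.singleObjXSelf (ComplexShape.up ℤ) 0 X).hom) ≫
      (HomologicalComplex.singleObjXSelf (ComplexShape.up ℤ) 0 ((complF I).obj X)).inv = _
  rw [← h]
  rfl

lemma hz_inD (X : Type u) [AddCommGroup X] [Module A X] (i : ℤ) (hi : i ≠ 0) :
    HZ (Dual.inD A X) i := by
  rcases lt_or_gt_of_ne hi with h | h
  · exact DerivedCategory.isZero_of_isGE (Dual.inD A X) 0 i h
  · exact DerivedCategory.isZero_of_isLE (Dual.inD A X) 0 i h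

section main

variable [IsNoetherianRing A]
variable (M N : Type u) [AddCommGroup M] [Module A M] [Module.Finite A M] [AddCommGroup N]
  [Module A N] [Module.Flat A N]

/-- the map `(M ⊗ N)[0] → (M ⊗ N)^[0]` -/
noncomputable def η' : Dual.inD A (M ⊗[A] N) ⟶ Dual.inD A (AdicCompletion I (M ⊗[A] N)) :=
  (DerivedCategory.singleFunctor (ModuleCat.{u} A) 0).map
    (ModuleCat.ofHom (AdicCompletion.of I (M ⊗[A] N)))

lemma termwiseFlat_sN : DRing.TermwiseFlat (sN (ModuleCat.of A N)) := by
  intro i
  by_cases hi : i = 0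
  · subst hi
    exact Module.Flat.of_linearEquiv
      (HomologicalComplex.singleObjXSelf (ComplexShape.up ℤ) 0 (ModuleCat.of A N)).toLinearEquiv
  · haveI : Subsingleton ((sN (ModuleCat.of A N)).X i) :=
      ModuleCat.subsingleton_of_isZero
        (HomologicalComplex.isZero_single_obj_X (ComplexShape.up ℤ) 0 _ i hi)
    infer_instance

theorem eeq_η'' : EEq I ((DerivedCategory.singleFunctor (ModuleCat.{u} A) 0).map
    ((ofNat I).app (ModuleCat.of A (M ⊗[A] N)))) := by
  let Nc : ModuleCat.{u} A := ModuleCat.of A N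
  let Mc : ModuleCat.{u} A := ModuleCat.of A M
  let Xc : ModuleCat.{u} A := ModuleCat.of A (M ⊗[A] N)
  let Xh : ModuleCat.{u} A := (complF I).obj Xc
  let η'' : (DerivedCategory.singleFunctor (ModuleCat.{u} A) 0).obj Xc ⟶
      (DerivedCategory.singleFunctor (ModuleCat.{u} A) 0).obj Xh :=
    (DerivedCategory.singleFunctor (ModuleCat.{u} A) 0).map ((ofNat I).app Xc)
  let G : DRing.Cx A := sN Nc
  have hb : DRing.VanishesAbove G 0 := fun i hi =>
    HomologicalComplex.isZero_single_obj_X (ComplexShape.up ℤ) 0 _ i (ne_of_gt hi)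
  have hG : DRing.TermwiseFlat G := termwiseFlat_sN N
  let T : DRing.Cx A := (tensF Mc).obj G
  let θ : sN Xc ≅ T :=
    (HomologicalComplex.single (ModuleCat.{u} A) (ComplexShape.up ℤ) 0).mapIso (β_ Mc Nc) ≪≫
      ((HomologicalComplex.singleMapHomologicalComplex (tensorRight Mc)
        (ComplexShape.up ℤ) 0).app Nc).symm
  let e : (DerivedCategory.singleFunctor (ModuleCat.{u} A) 0).obj Xc ≅ Q.obj (sN Xc) :=
    (DerivedCategory.singleFunctorIsoCompQ (ModuleCat.{u} A) 0).app Xc
  let eh : (DerivedCategory.singleFunctor (ModuleCat.{u} A) 0).obj Xh ≅ Q.obj (sN Xh) :=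
    (DerivedCategory.singleFunctorIsoCompQ (ModuleCat.{u} A) 0).app Xh
  let θh : sN Xh ≅ (complCx I).obj T :=
    ((HomologicalComplex.singleMapHomologicalComplex (complF I) (ComplexShape.up ℤ) 0).app
      Xc).symm ≪≫ (complCx I).mapIso θ
  have hE := eeq_complMap_tensF I M G 0 hb hG
  have c1 : θ.hom ≫ complMap I T =
      (HomologicalComplex.single (ModuleCat.{u} A) (ComplexShape.up ℤ) 0).map
        ((ofNat I).app Xc) ≫ θh.hom := by
    rw [complMap_naturality, ← complMap_single]
    show _ = (_ ≫ _) ≫ ((HomologicalComplex.singleMapHomologicalComplex (complF I)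
      (ComplexShape.up ℤ) 0).inv.app Xc ≫ (complCx I).map θ.hom)
    rw [Category.assoc, Iso.hom_inv_id_app_assoc]
  have c2 : η'' ≫ eh.hom = e.hom ≫
      Q.map ((HomologicalComplex.single (ModuleCat.{u} A) (ComplexShape.up ℤ) 0).map
        ((ofNat I).app Xc)) :=
    (DerivedCategory.singleFunctorIsoCompQ (ModuleCat.{u} A) 0).hom.naturality
      ((ofNat I).app Xc)
  have sq : η'' ≫ (eh.hom ≫ Q.map θh.hom) =
      (e.hom ≫ Q.map θ.hom) ≫ Q.map (complMap I T) := by
    rw [← Category.assoc, c2]
    simp only [Category.assoc]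
    rw [← Functor.map_comp, ← Functor.map_comp, c1]
  have h1 : EEq I (η'' ≫ (eh.hom ≫ Q.map θh.hom)) := by
    rw [sq]
    exact EEq.comp (eeq_of_isIso I _) hE
  have h2 : η'' = (η'' ≫ (eh.hom ≫ Q.map θh.hom)) ≫ inv (eh.hom ≫ Q.map θh.hom) := by
    rw [Category.assoc, IsIso.hom_inv_id, Category.comp_id]
  show EEq I η''
  rw [h2]
  exact EEq.comp h1 (eeq_of_isIso I _)

theorem eeq_η' : EEq I (η' I M N) := eeq_η'' I M N

variable [DRing.HasDerivedCompletion I]

/-- **Derived completion of `M ⊗ N`** (`M` finite, `N` flat) is the adic completion in degree `0`. -/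
theorem main :
    (∀ i : ℤ, i ≠ 0 → Subsingleton
        (Dual.HD A ((DRing.derivedCompletion I).obj (Dual.inD A (M ⊗[A] N))).obj i)) ∧
      ∃ e : Dual.HD A ((DRing.derivedCompletion I).obj (Dual.inD A (M ⊗[A] N))).obj 0 ≃ₗ[A]
          AdicCompletion I (M ⊗[A] N),
        ∀ x : M ⊗[A] N,
          e ((((DerivedCategory.singleFunctorCompHomologyFunctorIso (ModuleCat.{u} A) 0).inv.app
                (ModuleCat.of A (M ⊗[A] N))) ≫
              (DerivedCategory.homologyFunctor (ModuleCat.{u} A) 0).map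
                (DRing.toDerivedCompletion I (Dual.inD A (M ⊗[A] N)))).hom x) =
            AdicCompletion.of I (M ⊗[A] N) x := by
  obtain ⟨fs, hfs⟩ := Groth.Agent.Helper6.DerNak.exists_list_of_fg I (IsNoetherian.noetherian I)
  have hspan : Ideal.span {a | a ∈ fs} = I := hfs.symm
  have hI : I.FG := IsNoetherian.noetherian I
  haveI : IsAdicComplete I (AdicCompletion I (M ⊗[A] N)) := AdicCompletion.isAdicComplete hI
  obtain ⟨ψ, hψ⟩ := exists_iso_of_eeq I fs hspan (η' I M N)
    (isDerivedComplete_of_isAdicComplete I (AdicCompletion I (M ⊗[A] N))) 0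
    (fun i hi => hz_inD _ i (ne_of_gt hi)) (fun i hi => hz_inD _ i (ne_of_gt hi))
    (eeq_η' I M N)
  refine ⟨fun i hi => ?_, ?_⟩
  · exact (hz_iff_subsingleton _ i).mp (hz_of_iso ψ.symm i (hz_inD _ i hi))
  · let Xc : ModuleCat.{u} A := ModuleCat.of A (M ⊗[A] N)
    let Xh : ModuleCat.{u} A := ModuleCat.of A (AdicCompletion I (M ⊗[A] N))
    let H := DerivedCategory.homologyFunctor (ModuleCat.{u} A) 0
    let σ := DerivedCategory.singleFunctorCompHomologyFunctorIso (ModuleCat.{u} A) 0
    let e : H.obj ((DRing.derivedCompletion I).obj (Dual.inD A (M ⊗[A] N))).obj ≅ Xh :=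
      H.mapIso ψ ≪≫ σ.app Xh
    refine ⟨e.toLinearEquiv, fun x => ?_⟩
    have hn : σ.inv.app Xc ≫ H.map (η' I M N) =
        ModuleCat.ofHom (AdicCompletion.of I (M ⊗[A] N)) ≫ σ.inv.app Xh :=
      (σ.inv.naturality (ModuleCat.ofHom (AdicCompletion.of I (M ⊗[A] N)))).symm
    have key : (σ.inv.app Xc ≫ H.map (DRing.toDerivedCompletion I (Dual.inD A (M ⊗[A] N)))) ≫
        e.hom = ModuleCat.ofHom (AdicCompletion.of I (M ⊗[A] N)) := by
      simp only [e, Iso.trans_hom, Functor.mapIso_hom, Iso.app_hom, Category.assoc]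
      rw [← H.map_comp_assoc, hψ, ← Category.assoc, hn, Category.assoc, Iso.inv_hom_id_app]
      exact Category.comp_id _
    exact congrArg (fun t => t.hom x) key

end main

end Groth.Agent.Helper9.AdicEEq3
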