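import Mathlib

/-! For an adjunction of continuous site functors `F ⊣ G` with invertible unit, the counit of the
induced adjunction on sheaves `F_* ⊣ G_*` is invertible. Application: `Over.map f` for a mono `f`. -/

set_option autoImplicit false
set_option backward.isDefEq.respectTransparency false
universe v₁ v₂ v₃ u₁ u₂ u₃

open CategoryTheory CategoryTheory.Limits Opposite

namespace Groth.Agent.Helper9.AdjCounit

section General

variable {C : Type u₁} [Category.{v₁} C] {D : Type u₂} [Category.{v₂} D]
  {F : C ⥤ D} {G : D ⥤ C} (adj : F ⊣ G) (E : Type u₃) [Category.{v₃} E]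
  (J : GrothendieckTopology C) (K : GrothendieckTopology D)
  [F.IsContinuous J K] [G.IsContinuous K J]

lemma counit_app_hom_app (P : Sheaf J E) (V : C) :
    (((adj.sheafPushforwardContinuous (E := E) J K).counit.app P).hom).app (op V) =
      P.obj.map (adj.unit.app V).op := by
  dsimp [Adjunction.sheafPushforwardContinuous]
  simp

theorem isIso_counit_app [IsIso adj.unit] (P : Sheaf J E) :
    IsIso ((adj.sheafPushforwardContinuous (E := E) J K).counit.app P) := by
  haveI : IsIso ((sheafToPresheaf J E).map
      ((adj.sheafPushforwardContinuous (E := E) J K).counit.app P)) := by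
    haveI : ∀ V, IsIso (((sheafToPresheaf J E).map
        ((adj.sheafPushforwardContinuous (E := E) J K).counit.app P)).app V) := by
      rintro ⟨V⟩
      change IsIso ((((adj.sheafPushforwardContinuous (E := E) J K).counit.app P).hom).app (op V))
      rw [counit_app_hom_app]
      infer_instance
    exact NatIso.isIso_of_isIso_app _
  exact isIso_of_reflects_iso _ (sheafToPresheaf J E)

end General

section Over

variable {C : Type u₁} [Category.{v₁} C] {X Y : C} (f : X ⟶ Y) [Mono f]

instance full_map : (Over.map f).Full where
  map_surjective {V W} g := by
    refine ⟨Over.homMk g.left ?_, ?_⟩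
    · have h := Over.w g
      dsimp at h
      rw [← cancel_mono f, Category.assoc]
      exact h
    · apply Over.OverMorphism.ext
      rfl

instance faithful_map : (Over.map f).Faithful where
  map_injective {_ _} a b h := by
    apply Over.OverMorphism.ext
    exact congrArg (fun k => k.left) h

instance isIso_unit_mapPullbackAdj [HasPullbacksAlong f] : IsIso (Over.mapPullbackAdj f).unit :=
  inferInstance

end Over

end Groth.Agent.Helper9.AdjCounit
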