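import Mathlib

set_option autoImplicit false
open CategoryTheory CategoryTheory.Limits Opposite

universe w v v' u u'

namespace Groth.Agent.Helper9.AlgPtA

section precomp

variable {C : Type u} [Category.{v} C] {D : Type u'} [Category.{v'} D] (F : C ⥤ D)
  (G : D ⥤ Type w)

instance precomp_faithful [F.Faithful] : (Functor.Elements.precomp F G).Faithful where
  map_injective {x y} f g h := by
    apply Subtype.ext
    apply F.map_injective
    exact congrArg Subtype.val h

instance precomp_full [F.Full] : (Functor.Elements.precomp F G).Full where
  map_surjective {x y} f := by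
    obtain ⟨g, hg⟩ := F.map_surjective f.1
    refine ⟨⟨g, ?_⟩, ?_⟩
    · have := f.2
      rw [← hg] at this
      exact this
    · apply Subtype.ext
      exact hg

instance precomp_essSurj [F.EssSurj] : (Functor.Elements.precomp F G).EssSurj where
  mem_essImage z := by
    let c := F.objPreimage z.1
    let e : F.obj c ≅ z.1 := F.objObjPreimageIso z.1
    refine ⟨⟨c, G.map e.inv z.2⟩, ⟨CategoryOfElements.isoMk _ _ e ?_⟩⟩
    show G.map e.hom (G.map e.inv z.2) = z.2
    rw [← Functor.map_comp_apply, e.inv_hom_id, Functor.map_id_apply]

instance precomp_isEquivalence [F.IsEquivalence] :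
    (Functor.Elements.precomp F G).IsEquivalence where

end precomp

section pointOfOver

variable {C : Type u} [Category.{v} C] {J : GrothendieckTopology C} [LocallySmall.{w} C]
  (P : GrothendieckTopology.Point.{w} J) {E : C} (y : P.fiber.obj E)
  {D : Type u'} [Category.{v'} D] {K : GrothendieckTopology D}
  (F : D ⥤ Over E) [F.IsEquivalence] (hF : CoverPreserving K (J.over E) F)

/-- The point of a site `(D, K)` equivalent to the over-site `(C, J)/E` induced by a point of
`(C, J)` and an element of its fibre at `E`. -/
noncomputable def pointOfOver : GrothendieckTopology.Point.{w} K :=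
  haveI : InitiallySmall.{w} (F ⋙ (P.over y).fiber).Elements :=
    initiallySmall_of_initial_of_initiallySmall (Functor.Elements.precomp F (P.over y).fiber).inv
  (P.over y).comap F hF

theorem pointOfOver_fiber :
    (pointOfOver P y F hF).fiber = F ⋙ FunctorToTypes.fromOverFunctor P.fiber y := rfl

end pointOfOver

end Groth.Agent.Helper9.AlgPtA
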