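import Mathlib
import Groth.Prelude.Def_AlgSpOX3
import Groth.Agent.Helper9.AlgPtA

set_option autoImplicit false
open CategoryTheory CategoryTheory.Limits AlgebraicGeometry Opposite

universe u

namespace Groth.Agent.Helper9.AlgPtB

open AlgSp

set_option backward.isDefEq.respectTransparency false

variable {S : Scheme.{u}} {X : Sp S} (E : EtOver X)

/-- The chart functor of an object of the small étale site. -/
noncomputable abbrev chart : E.obj.left.left.Etale ⥤ EtOver X := EtOver.ofChart E.obj.hom E.property

/-- The structure morphism to `E`. -/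
noncomputable def σ (V : E.obj.left.left.Etale) : (chart E).obj V ⟶ E :=
  EtOver.homMk (EtOver.homOfEtale V) rfl

theorem σ_left (V : E.obj.left.left.Etale) : (σ E V).hom.left.left = V.hom := rfl

theorem chart_map_σ {V V' : E.obj.left.left.Etale} (φ : V ⟶ V') :
    (chart E).map φ ≫ σ E V' = σ E V := by
  apply EtOver.hom_ext
  apply Over.OverMorphism.ext
  exact MorphismProperty.Over.w φ

/-- The functor to the over category. -/
noncomputable def toOver : E.obj.left.left.Etale ⥤ Over E where
  obj V := Over.mk (σ E V)
  map φ := Over.homMk ((chart E).map φ) (chart_map_σ E φ)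
  map_id V := by
    apply Over.OverMorphism.ext
    exact (chart E).map_id V
  map_comp φ ψ := by
    apply Over.OverMorphism.ext
    exact (chart E).map_comp φ ψ

instance : (toOver E).Faithful where
  map_injective {V V'} φ ψ h := by
    apply (chart E).map_injective
    exact congrArg CommaMorphism.left h

instance : (toOver E).Full where
  map_surjective {V V'} h := by
    have h1 : h.left ≫ σ E V' = σ E V := Over.w h
    have h2 : h.left.hom.left.left ≫ V'.hom = V.hom := congrArg (fun k => k.hom.left.left) h1
    refine ⟨MorphismProperty.Over.homMk h.left.hom.left.left h2, ?_⟩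
    apply Over.OverMorphism.ext
    apply EtOver.hom_ext
    apply Over.OverMorphism.ext
    rfl

variable {E}

/-- The étale scheme over the chart attached to an object over `E`. -/
noncomputable def VV {W : EtOver X} (π : W ⟶ E) : E.obj.left.left.Etale :=
  @Scheme.Etale.mk _ _ π.hom.left.left (EtOver.etale_left π)

theorem VV_hom {W : EtOver X} (π : W ⟶ E) : (VV π).hom = π.hom.left.left := rfl

/-- The comparison isomorphism, the identity on underlying schemes. -/
noncomputable def ιι {W : EtOver X} (π : W ⟶ E) : (chart E).obj (VV π) ≅ W :=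
  (ObjectProperty.fullyFaithfulι _).preimageIso
    (CostructuredArrow.isoMk (Over.isoMk (Iso.refl W.obj.left.left) (by
      show 𝟙 _ ≫ W.obj.left.hom = π.hom.left.left ≫ E.obj.left.hom
      rw [Category.id_comp]; exact (Over.w π.hom.left).symm)) (by
      show (yon S).map _ ≫ W.obj.hom = (yon S).map (EtOver.homOfEtale (VV π)) ≫ E.obj.hom
      rw [← EtOver.w π, ← Category.assoc, ← Functor.map_comp]
      congr 2))

theorem ιι_hom_left {W : EtOver X} (π : W ⟶ E) : (ιι π).hom.hom.left.left = 𝟙 _ := rfl

theorem ιι_inv_left {W : EtOver X} (π : W ⟶ E) : (ιι π).inv.hom.left.left = 𝟙 _ := rfl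

theorem ιι_hom_comp {W : EtOver X} (π : W ⟶ E) : (ιι π).hom ≫ π = σ E (VV π) := by
  apply EtOver.hom_ext
  apply Over.OverMorphism.ext
  show 𝟙 _ ≫ π.hom.left.left = π.hom.left.left
  exact Category.id_comp _

theorem ιι_inv_comp {W : EtOver X} (π : W ⟶ E) : (ιι π).inv ≫ σ E (VV π) = π := by
  rw [← ιι_hom_comp, Iso.inv_hom_id_assoc]

instance : (toOver E).EssSurj where
  mem_essImage Z := ⟨VV Z.hom, ⟨Over.isoMk (ιι Z.hom) (ιι_hom_comp Z.hom)⟩⟩

instance : (toOver E).IsEquivalence where

variable (E) in
theorem coverPreserving_toOver :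
    CoverPreserving E.obj.left.left.smallEtaleTopology ((etTop X).over E) (toOver E) where
  cover_preserve {V R} hR := by
    obtain ⟨ι, Z, g, rfl⟩ := R.exists_eq_ofArrows
    rw [GrothendieckTopology.mem_over_iff, Sieve.functorPushforward_ofArrows,
      Sieve.overEquiv_ofArrows]
    exact EtOver.ofChart_sieve_mem E.obj.hom E.property Z g hR

end Groth.Agent.Helper9.AlgPtB
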