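import Mathlib
import Groth.Prelude.Def_AlgSpOX3

/-! Basic facts on the small étale site of a sheaf `X : AlgSp.Sp S`: membership in the topology,
gluing along disjoint decompositions. -/

set_option autoImplicit false
open CategoryTheory CategoryTheory.Limits AlgebraicGeometry Opposite

universe u w

namespace Groth.Agent.Helper9.AlgPushA

open AlgSp

set_option backward.isDefEq.respectTransparency false

variable {S : Scheme.{u}} {X : Sp S}

theorem mem_etTop_iff (E : EtOver X) (R : Sieve E) :
    R ∈ etTop X E ↔ ∀ x : E.obj.left.left, ∃ (E' : EtOver X) (g : E' ⟶ E),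
      R g ∧ x ∈ Set.range g.hom.left.left := by
  constructor
  · intro hR
    have h1 := (Precoverage.mem_toGrothendieck_iff_of_isStableUnderComposition
      (J := etPre X) (S := R)).1 hR
    obtain ⟨R', hR', hle⟩ := h1
    obtain ⟨ι, Z, g, rfl⟩ := R'.exists_eq_ofArrows
    rw [ofArrows_mem_etPre_iff] at hR'
    intro x
    obtain ⟨i, hi⟩ := hR' x
    exact ⟨Z i, g i, hle _ _ (Presieve.ofArrows.mk i), hi⟩
  · intro h
    choose E' g hg hx using h
    refine (etTop X).superset_covering ?_ (ofArrows_mem_etTop E' g (fun x => ⟨x, hx x⟩))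
    rw [Sieve.ofArrows, Sieve.generate_le_iff]
    rintro _ _ ⟨x⟩
    exact hg x

theorem bot_mem_of_isEmpty (E : EtOver X) [IsEmpty E.obj.left.left] : (⊥ : Sieve E) ∈ etTop X E := by
  rw [mem_etTop_iff]
  intro x
  exact (IsEmpty.false x).elim

theorem subsingleton_of_isEmpty (P : (EtOver X)ᵒᵖ ⥤ Type w)
    (hP : Presieve.IsSheaf (etTop X) P) (Z : EtOver X) [IsEmpty Z.obj.left.left] :
    Subsingleton (P.obj (op Z)) := by
  refine ⟨fun a b => ?_⟩
  have hsep := (hP _ (bot_mem_of_isEmpty Z)).isSeparatedFor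
  apply hsep.ext
  intro Y g hg
  exact hg.elim

theorem mono_of_mono_left {U T : EtOver X} (g : U ⟶ T) (h : Mono g.hom.left.left) : Mono g := by
  constructor
  intro Z a b hab
  apply EtOver.hom_ext
  apply Over.OverMorphism.ext
  have h1 : (a ≫ g).hom.left.left = (b ≫ g).hom.left.left := by rw [hab]
  exact (cancel_mono g.hom.left.left).1 h1

theorem existsUnique_glue {T : EtOver X} {μ : Type*} (O : μ → EtOver X) (ι : ∀ a, O a ⟶ T)
    (hmono : ∀ a, Mono (ι a))
    (hsurj : ∀ x : T.obj.left.left, ∃ (a : μ) (z : (O a).obj.left.left), (ι a).hom.left.left z = x)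
    (hdisj : ∀ a b, a ≠ b → ∀ (za : (O a).obj.left.left) (zb : (O b).obj.left.left),
      (ι a).hom.left.left za ≠ (ι b).hom.left.left zb)
    (P : (EtOver X)ᵒᵖ ⥤ Type w) (hP : Presieve.IsSheaf (etTop X) P)
    (s : ∀ a, P.obj (op (O a))) : ∃! t : P.obj (op T), ∀ a, P.map (ι a).op t = s a := by
  have hcov : Sieve.ofArrows O ι ∈ etTop X T := by
    apply ofArrows_mem_etTop
    intro x
    obtain ⟨a, z, hz⟩ := hsurj x
    exact ⟨a, z, hz⟩
  have hsh : Presieve.IsSheafFor P (Presieve.ofArrows O ι) :=
    (Presieve.isSheafFor_iff_generate _).2 (hP _ hcov)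
  refine (Presieve.isSheafFor_arrows_iff P ι).1 hsh s ?_
  intro a b Z ga gb hab
  by_cases hne : a = b
  · subst hne
    have : Mono (ι a) := hmono a
    rw [(cancel_mono (ι a)).1 hab]
  · have : IsEmpty Z.obj.left.left := by
      constructor
      intro z
      have h1 : (ga ≫ ι a).hom.left.left z = (gb ≫ ι b).hom.left.left z := by rw [hab]
      exact hdisj a b hne (ga.hom.left.left z) (gb.hom.left.left z) h1
    have := subsingleton_of_isEmpty P hP Z
    exact Subsingleton.elim _ _

end Groth.Agent.Helper9.AlgPushA
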