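import Mathlib
import Groth.Prelude.Def_AlgSpOX3
import Groth.Prelude.Def_AlgSpOX2
import Groth.Agent.Helper9.AlgPtB
import Groth.Agent.Helper9.AlgPushA
import Groth.Agent.Helper6.UHomA

/-! Étale neighbourhoods along an integral universally injective representable morphism of
sheaves: the key domination lemmas on the small étale sites. -/

set_option autoImplicit false
open CategoryTheory CategoryTheory.Limits AlgebraicGeometry Opposite

universe u

namespace Groth.Agent.Helper9.AlgFFA

open AlgSp Groth.Agent.Helper9.AlgPtB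

set_option backward.isDefEq.respectTransparency false

variable {S : Scheme.{u}}

/-- A morphism of schemes between two objects of the small étale site, compatible with morphisms
to a third object, is a morphism of the site. -/
theorem exists_lift {X : Sp S} {A B C : EtOver X} (g : B ⟶ C) (k : A ⟶ C)
    (h₀ : A.obj.left.left ⟶ B.obj.left.left) (hh : h₀ ≫ g.hom.left.left = k.hom.left.left) :
    ∃ h : A ⟶ B, h.hom.left.left = h₀ ∧ h ≫ g = k := by
  have e1 : g.hom.left.left ≫ C.obj.left.hom = B.obj.left.hom := Over.w g.hom.left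
  have e2 : k.hom.left.left ≫ C.obj.left.hom = A.obj.left.hom := Over.w k.hom.left
  have hS : h₀ ≫ B.obj.left.hom = A.obj.left.hom := by
    rw [← e1, ← Category.assoc, hh, e2]
  let h1 : A.obj.left ⟶ B.obj.left := Over.homMk h₀ hS
  have hh1 : h1 ≫ g.hom.left = k.hom.left := Over.OverMorphism.ext hh
  have hX : (yon S).map h1 ≫ B.obj.hom = A.obj.hom := by
    rw [← EtOver.w g, ← Category.assoc, ← Functor.map_comp, hh1, EtOver.w k]
  refine ⟨EtOver.homMk h1 hX, rfl, ?_⟩
  apply EtOver.hom_ext
  exact hh1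

variable {X Y : Sp S} {f : X ⟶ Y} (hf : Representable f)

/-- Scheme-level domination applied to an object of the small étale site of `Y`. -/
theorem key2 (hint : RepWith @IsIntegralHom f) (hinj : RepWith @UniversallyInjective f)
    (A : EtOver Y) (P : EtOver X) (g : P ⟶ (EtOver.bc hf).obj A) (p : P.obj.left.left) :
    ∃ (N : EtOver Y) (s : N ⟶ A) (h : (EtOver.bc hf).obj N ⟶ P),
      p ∈ Set.range h.hom.left.left ∧ h ≫ g = (EtOver.bc hf).map s := by
  let W : EtOver X := (EtOver.bc hf).obj A
  let f₀ : W.obj.left.left ⟶ A.obj.left.left := (hf.snd A.obj.hom).left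
  have hf₀int : IsIntegralHom f₀ := hint.property_snd A.obj.hom
  have hf₀inj : UniversallyInjective f₀ := hinj.property_snd A.obj.hom
  let Us : W.obj.left.left.Etale := @Scheme.Etale.mk _ _ g.hom.left.left (EtOver.etale_left g)
  obtain ⟨V₁, h₀, q, hq⟩ := Groth.Agent.Helper6.UHomA.key1 f₀ Us p
  let N : EtOver Y := (chart A).obj V₁
  let sN : N ⟶ A := σ A V₁
  have sq := EtOver.isPullback_bcMap_left hf sN
  have sq' : IsPullback (hf.snd N.obj.hom).left (EtOver.bcMap hf sN).hom.left.left V₁.hom f₀ :=
    sq.flip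
  let e : ((EtOver.bc hf).obj N).obj.left.left ≅ pullback V₁.hom f₀ := sq'.isoPullback
  have he2 : e.hom ≫ pullback.snd V₁.hom f₀ = (EtOver.bcMap hf sN).hom.left.left :=
    sq'.isoPullback_hom_snd
  have hw : h₀.left ≫ g.hom.left.left = pullback.snd V₁.hom f₀ := MorphismProperty.Over.w h₀
  have hcomp : (e.hom ≫ h₀.left) ≫ g.hom.left.left =
      ((EtOver.bc hf).map sN).hom.left.left := by
    rw [Category.assoc, hw, he2]
    rfl
  obtain ⟨h, hh1, hh2⟩ := exists_lift g ((EtOver.bc hf).map sN) (e.hom ≫ h₀.left) hcomp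
  refine ⟨N, sN, h, ⟨e.inv q, ?_⟩, hh2⟩
  rw [hh1, Scheme.Hom.comp_apply, ← Scheme.Hom.comp_apply e.inv e.hom, e.inv_hom_id]
  exact hq

/-- Every object of the small étale site of `X` is covered by base changes of objects of the
small étale site of `Y`. -/
theorem key1 (hY : IsAlgSpace Y) (hint : RepWith @IsIntegralHom f)
    (hinj : RepWith @UniversallyInjective f) (M : EtOver X) (m : M.obj.left.left) :
    ∃ (N : EtOver Y) (h : (EtOver.bc hf).obj N ⟶ M), m ∈ Set.range h.hom.left.left := by
  obtain ⟨U, a, haet, hasurj⟩ := hY.atlas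
  let A : EtOver Y := EtOver.mk a haet
  let W : EtOver X := (EtOver.bc hf).obj A
  have hWsurj : RepWith @Surjective W.obj.hom :=
    (repWith_isStableUnderBaseChange (S := S) @Surjective).of_isPullback
      (hf.isPullback a).flip hasurj
  have hsurj : Surjective (EtOver.prodFst M W).hom.left.left :=
    hWsurj.property M.obj.hom _ _ (W.property.1.isPullback M.obj.hom)
  obtain ⟨p, hp⟩ := hsurj.surj m
  obtain ⟨N, s, h, ⟨q, hq⟩, -⟩ := key2 hf hint hinj A (EtOver.prodObj M W) (EtOver.prodSnd M W) p
  refine ⟨N, h ≫ EtOver.prodFst M W, ⟨q, ?_⟩⟩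
  show (h.hom.left.left ≫ (EtOver.prodFst M W).hom.left.left) q = m
  rw [Scheme.Hom.comp_apply, hq, hp]

end Groth.Agent.Helper9.AlgFFA
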