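import Mathlib
import Groth.Prelude.Def_AlgSpOX3
import Groth.Prelude.Def_AlgSpOX2
import Groth.Agent.Helper9.AlgFFA

/-! Base change of the small étale site along an integral universally injective representable
morphism is cover dense and locally full; hence `f_*` is fully faithful. -/

set_option autoImplicit false
open CategoryTheory CategoryTheory.Limits AlgebraicGeometry Opposite

universe u

namespace Groth.Agent.Helper9.AlgFFB

open AlgSp Groth.Agent.Helper9.AlgPtB Groth.Agent.Helper9.AlgPushA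

set_option backward.isDefEq.respectTransparency false

variable {S : Scheme.{u}} {X Y : Sp S} {f : X ⟶ Y} (hf : Representable f)

/-- The graph of a morphism between base changes. -/
theorem exists_graph {U V : EtOver Y} (φ : (EtOver.bc hf).obj U ⟶ (EtOver.bc hf).obj V) :
    ∃ γ : (EtOver.bc hf).obj U ⟶ (EtOver.bc hf).obj (EtOver.prodObj U V),
      γ ≫ (EtOver.bc hf).map (EtOver.prodFst U V) = 𝟙 _ ∧
      γ ≫ (EtOver.bc hf).map (EtOver.prodSnd U V) = φ := by
  let T : Over S := ((EtOver.bc hf).obj U).obj.left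
  let t₁ : T ⟶ U.obj.left := hf.snd U.obj.hom
  let t₂ : T ⟶ V.obj.left := φ.hom.left ≫ hf.snd V.obj.hom
  have hφ : (yon S).map φ.hom.left ≫ hf.fst V.obj.hom = hf.fst U.obj.hom := EtOver.w φ
  have hc : (yon S).map t₂ ≫ V.obj.hom = (yon S).map t₁ ≫ U.obj.hom := by
    rw [Functor.map_comp, Category.assoc, ← hf.w, ← Category.assoc, hφ]
    exact hf.w _
  let h : T ⟶ (EtOver.prodObj U V).obj.left := V.property.1.lift' t₂ t₁ hc
  have h1 : h ≫ (EtOver.prodFst U V).hom.left = t₁ :=
    Functor.relativelyRepresentable.lift'_snd _ _ _ _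
  have h2 : h ≫ (EtOver.prodSnd U V).hom.left = t₂ :=
    Functor.relativelyRepresentable.lift'_fst _ _ _ _
  have hi : hf.fst U.obj.hom ≫ f = (yon S).map h ≫ (EtOver.prodObj U V).obj.hom := by
    have e1 : (yon S).map (EtOver.prodFst U V).hom.left ≫ U.obj.hom =
        (EtOver.prodObj U V).obj.hom := EtOver.w (EtOver.prodFst U V)
    rw [← e1, ← Category.assoc, ← Functor.map_comp, h1]
    exact hf.w _
  let γ₀ : T ⟶ ((EtOver.bc hf).obj (EtOver.prodObj U V)).obj.left :=
    hf.lift (hf.fst U.obj.hom) h hi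
  have hγ1 : (yon S).map γ₀ ≫ hf.fst (EtOver.prodObj U V).obj.hom = hf.fst U.obj.hom :=
    hf.lift_fst _ _ _
  have hγ2 : γ₀ ≫ hf.snd (EtOver.prodObj U V).obj.hom = h := hf.lift_snd _ _ _
  let γ : (EtOver.bc hf).obj U ⟶ (EtOver.bc hf).obj (EtOver.prodObj U V) :=
    EtOver.homMk γ₀ hγ1
  refine ⟨γ, ?_, ?_⟩
  · apply EtOver.hom_ext
    show γ₀ ≫ (EtOver.bcMap hf (EtOver.prodFst U V)).hom.left = 𝟙 _
    apply hf.hom_ext
    · rw [Functor.map_comp, Category.assoc, EtOver.map_bcMap_fst, hγ1, (yon S).map_id,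
        Category.id_comp]
    · rw [Category.assoc, EtOver.bcMap_snd, ← Category.assoc, hγ2, h1, Category.id_comp]
  · apply EtOver.hom_ext
    show γ₀ ≫ (EtOver.bcMap hf (EtOver.prodSnd U V)).hom.left = φ.hom.left
    apply hf.hom_ext
    · rw [Functor.map_comp, Category.assoc, EtOver.map_bcMap_fst, hγ1, hφ]
    · rw [Category.assoc, EtOver.bcMap_snd, ← Category.assoc, hγ2, h2]

variable (hY : IsAlgSpace Y) (hint : RepWith @IsIntegralHom f)
  (hinj : RepWith @UniversallyInjective f)

include hY hint hinj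

theorem isCoverDense : (EtOver.bc hf).IsCoverDense (etTop X) where
  is_cover M := by
    rw [mem_etTop_iff]
    intro m
    obtain ⟨N, h, hm⟩ := Groth.Agent.Helper9.AlgFFA.key1 hf hY hint hinj M m
    exact ⟨_, h, Presieve.in_coverByImage (EtOver.bc hf) h, hm⟩

omit hY in
theorem isLocallyFull : (EtOver.bc hf).IsLocallyFull (etTop X) where
  functorPushforward_imageSieve_mem {U V} φ := by
    rw [mem_etTop_iff]
    intro x
    obtain ⟨γ, hγ1, hγ2⟩ := exists_graph hf φ
    obtain ⟨N, s, h, hx, hh⟩ := Groth.Agent.Helper9.AlgFFA.key2 hf hint hinj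
      (EtOver.prodObj U V) ((EtOver.bc hf).obj U) γ x
    have e1 : (EtOver.bc hf).map (s ≫ EtOver.prodFst U V) = h := by
      rw [Functor.map_comp, ← hh, Category.assoc, hγ1, Category.comp_id]
    have e2 : (EtOver.bc hf).map (s ≫ EtOver.prodSnd U V) = h ≫ φ := by
      rw [Functor.map_comp, ← hh, Category.assoc, hγ2]
    refine ⟨_, (EtOver.bc hf).map (s ≫ EtOver.prodFst U V), ?_, ?_⟩
    · refine ⟨N, s ≫ EtOver.prodFst U V, 𝟙 _, ⟨s ≫ EtOver.prodSnd U V, ?_⟩, (Category.id_comp _).symm⟩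
      rw [e2, e1]
    · rw [e1]
      exact hx

end Groth.Agent.Helper9.AlgFFB
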