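import Mathlib
import Groth.Prelude.Def_AlgSpOX3
import Groth.Prelude.Def_AlgSpOX2
import Groth.Agent.Helper9.AlgFFB

/-! `f_*` is fully faithful for an integral universally injective representable morphism to an
algebraic space. -/

set_option autoImplicit false
open CategoryTheory CategoryTheory.Limits AlgebraicGeometry Opposite

universe u v' u'

namespace Groth.Agent.Helper9.AlgFFC

open AlgSp

set_option backward.isDefEq.respectTransparency false

variable {S : Scheme.{u}} {X Y : Sp S} {f : X ⟶ Y} (hf : Representable f)
  (hY : IsAlgSpace Y) (hint : RepWith @IsIntegralHom f)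
  (hinj : RepWith @UniversallyInjective f)

include hY hint hinj

theorem full_faithful (A : Type u') [Category.{v'} A] :
    (pushEt hf A).Full ∧ (pushEt hf A).Faithful := by
  haveI := Groth.Agent.Helper9.AlgFFB.isCoverDense hf hY hint hinj
  haveI := Groth.Agent.Helper9.AlgFFB.isLocallyFull hf hint hinj
  exact ⟨Functor.IsCoverDense.full_sheafPushforwardContinuous (etTop Y) (etTop X) (EtOver.bc hf),
    Functor.IsCoverDense.faithful_sheafPushforwardContinuous (etTop Y) (etTop X) (EtOver.bc hf)⟩

theorem isIso_counit (A : Type u') [Category.{v'} A]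
    [((EtOver.bc hf).sheafPushforwardContinuous A (etTop Y) (etTop X)).IsRightAdjoint] :
    IsIso (pullPushAdjEt hf A).counit := by
  obtain ⟨h1, h2⟩ := full_faithful hf hY hint hinj A
  infer_instance

end Groth.Agent.Helper9.AlgFFC
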