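import Mathlib
import Groth.Prelude.Def_AlgSpOX3
import Groth.Prelude.Def_AlgSpOX2
import Groth.Agent.Helper9.AlgFFA
import Groth.Agent.Helper5.EtPt4

/-! Stalks of `f_*` along an integral universally injective representable morphism of algebraic
spaces. -/

set_option autoImplicit false
open CategoryTheory CategoryTheory.Limits AlgebraicGeometry Opposite

universe u

namespace Groth.Agent.Helper9.AlgFFD

open AlgSp Groth.Agent.Helper5.EtPt

set_option backward.isDefEq.respectTransparency false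

variable {S : Scheme.{u}} {X Y : Space S} (f : X ⟶ Y) (hf : Representable f.hom)
  (z : FieldPt X.obj)

/-- The lift of the point to the base change of a neighbourhood of its image. -/
noncomputable def θl (N : EtNbhd (z.map f.hom)) :
    (FieldPt.liftsTo z).obj ((EtOver.bc hf).obj N.1) :=
  ⟨hf.lift z.toHom N.2.1 ((N.2.2.trans (FieldPt.toHom_map f.hom z)).symm), hf.lift_fst _ _ _⟩

theorem θl_snd (N : EtNbhd (z.map f.hom)) :
    (θl f hf z N).1 ≫ hf.snd N.1.obj.hom = N.2.1 := hf.lift_snd _ _ _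

theorem lift_ext {N : EtOver Y.obj} (a b : (FieldPt.liftsTo z).obj ((EtOver.bc hf).obj N))
    (h : a.1 ≫ hf.snd N.obj.hom = b.1 ≫ hf.snd N.obj.hom) : a = b := by
  apply Subtype.ext
  apply hf.hom_ext
  · exact a.2.trans b.2.symm
  · exact h

theorem θl_map {N N' : EtNbhd (z.map f.hom)} (g : N' ⟶ N) :
    (FieldPt.liftsTo z).map ((EtOver.bc hf).map g.1) (θl f hf z N') = θl f hf z N := by
  apply lift_ext
  show ((θl f hf z N').1 ≫ (EtOver.bcMap hf g.1).hom.left) ≫ hf.snd N.1.obj.hom = _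
  rw [Category.assoc, EtOver.bcMap_snd, ← Category.assoc, θl_snd, θl_snd]
  exact congrArg Subtype.val g.2

/-- A lift to a base change gives a lift of the image point. -/
noncomputable def down {N : EtOver Y.obj} (x' : (FieldPt.liftsTo z).obj ((EtOver.bc hf).obj N)) :
    (FieldPt.liftsTo (z.map f.hom)).obj N :=
  ⟨x'.1 ≫ hf.snd N.obj.hom, by
    have h2 : (yon S).map x'.1 ≫ hf.fst N.obj.hom = z.toHom := x'.2
    rw [Functor.map_comp, Category.assoc, ← hf.w, ← Category.assoc, h2]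
    exact (FieldPt.toHom_map f.hom z).symm⟩

theorem θl_down {N : EtOver Y.obj} (x' : (FieldPt.liftsTo z).obj ((EtOver.bc hf).obj N)) :
    θl f hf z ⟨N, down f hf z x'⟩ = x' :=
  lift_ext f hf z _ _ (θl_snd f hf z ⟨N, down f hf z x'⟩)

theorem down_map {N N' : EtOver Y.obj} (s : N' ⟶ N)
    (x' : (FieldPt.liftsTo z).obj ((EtOver.bc hf).obj N')) :
    (FieldPt.liftsTo (z.map f.hom)).map s (down f hf z x') =
      down f hf z ((FieldPt.liftsTo z).map ((EtOver.bc hf).map s) x') := by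
  apply Subtype.ext
  show (x'.1 ≫ hf.snd N'.obj.hom) ≫ s.hom.left =
    (x'.1 ≫ (EtOver.bcMap hf s).hom.left) ≫ hf.snd N.obj.hom
  rw [Category.assoc, Category.assoc, EtOver.bcMap_snd]

theorem down_θl (N : EtNbhd (z.map f.hom)) : down f hf z (θl f hf z N) = N.2 :=
  Subtype.ext (θl_snd f hf z N)


section Stalk

variable (hz : z.IsGeometric) (hint : RepWith @IsIntegralHom f.hom)
  (hinj : RepWith @UniversallyInjective f.hom) (F : EtSh X.obj (Type (u + 1)))

/-- The comparison map of stalks. -/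
noncomputable def φ₀ :
    stalkEt (z.map f.hom) ((pushEt hf (Type (u + 1))).obj F) ⟶ stalkEt z F :=
  (etPoint Y (z.map f.hom) hz).presheafFiberDesc (P := (EtOver.bc hf).op ⋙ F.obj)
    (T := (etPoint X z hz).presheafFiber.obj F.obj)
    (fun N l => (etPoint X z hz).toPresheafFiber ((EtOver.bc hf).obj N) (θl f hf z ⟨N, l⟩) F.obj)
    (by
      intro N N' g l
      have h1 := (etPoint X z hz).toPresheafFiber_w ((EtOver.bc hf).map g) (θl f hf z ⟨N, l⟩) F.obj
      have h2 : (etPoint X z hz).fiber.map ((EtOver.bc hf).map g) (θl f hf z ⟨N, l⟩) =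
          θl f hf z ⟨N', (etPoint Y (z.map f.hom) hz).fiber.map g l⟩ :=
        θl_map f hf z (N := ⟨N', (FieldPt.liftsTo (z.map f.hom)).map g l⟩) (N' := ⟨N, l⟩) ⟨g, rfl⟩
      rw [h2] at h1
      exact h1)

theorem φ₀_ι (N : EtNbhd (z.map f.hom)) (s : F.obj.obj (op ((EtOver.bc hf).obj N.1))) :
    φ₀ f hf z hz F (stalkEtι (z.map f.hom) ((pushEt hf (Type (u + 1))).obj F) N s) =
      stalkEtι z F ⟨(EtOver.bc hf).obj N.1, θl f hf z N⟩ s := by
  have h := (etPoint Y (z.map f.hom) hz).toPresheafFiber_presheafFiberDesc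
    (P := (EtOver.bc hf).op ⋙ F.obj)
    (T := (etPoint X z hz).presheafFiber.obj F.obj)
    (fun N l => (etPoint X z hz).toPresheafFiber ((EtOver.bc hf).obj N) (θl f hf z ⟨N, l⟩) F.obj)
    (by
      intro N N' g l
      have h1 := (etPoint X z hz).toPresheafFiber_w ((EtOver.bc hf).map g) (θl f hf z ⟨N, l⟩) F.obj
      have h2 : (etPoint X z hz).fiber.map ((EtOver.bc hf).map g) (θl f hf z ⟨N, l⟩) =
          θl f hf z ⟨N', (etPoint Y (z.map f.hom) hz).fiber.map g l⟩ :=
        θl_map f hf z (N := ⟨N', (FieldPt.liftsTo (z.map f.hom)).map g l⟩) (N' := ⟨N, l⟩) ⟨g, rfl⟩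
      rw [h2] at h1
      exact h1) N.1 N.2
  exact ConcreteCategory.congr_hom h s


include hint hinj in
theorem φ₀_bijective : Function.Bijective (φ₀ f hf z hz F) := by
  have hzK : IsAlgClosed z.K := hz
  constructor
  · intro t₁ t₂ ht
    obtain ⟨N, l, s₁, s₂, rfl, rfl⟩ :=
      (etPoint Y (z.map f.hom) hz).toPresheafFiber_jointly_surjective₂
        (P := (EtOver.bc hf).op ⋙ F.obj) t₁ t₂
    have e₁ := φ₀_ι f hf z hz F ⟨N, l⟩ s₁
    have e₂ := φ₀_ι f hf z hz F ⟨N, l⟩ s₂
    have ht' : (etPoint X z hz).toPresheafFiber ((EtOver.bc hf).obj N) (θl f hf z ⟨N, l⟩) F.obj s₁ =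
        (etPoint X z hz).toPresheafFiber ((EtOver.bc hf).obj N) (θl f hf z ⟨N, l⟩) F.obj s₂ :=
      e₁.symm.trans (ht.trans e₂)
    obtain ⟨M, g, m, hm, hg⟩ := ((etPoint X z hz).toPresheafFiber_eq_iff' _ _ s₁ s₂).1 ht'
    obtain ⟨N', s, h, ⟨q, hq⟩, hh⟩ := Groth.Agent.Helper9.AlgFFA.key2 hf hint hinj N M g
      (m.1.left (default : ↥(Spec (CommRingCat.of z.K))))
    obtain ⟨x', hx'⟩ := exists_lift_of_mem_range X z hz h m q hq
    have hl' : (FieldPt.liftsTo (z.map f.hom)).map s (down f hf z x') = l := by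
      rw [down_map, ← hh, Functor.map_comp]
      have h3 : (FieldPt.liftsTo z).map g ((FieldPt.liftsTo z).map h x') = θl f hf z ⟨N, l⟩ := by
        rw [hx']; exact hm
      have h4 : ((FieldPt.liftsTo z).map h ≫ (FieldPt.liftsTo z).map g) x' =
          (FieldPt.liftsTo z).map g ((FieldPt.liftsTo z).map h x') := rfl
      rw [h4, h3]
      exact down_θl f hf z ⟨N, l⟩
    have w₁ := (etPoint Y (z.map f.hom) hz).toPresheafFiber_w_apply s (down f hf z x')
      ((EtOver.bc hf).op ⋙ F.obj) s₁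
    have w₂ := (etPoint Y (z.map f.hom) hz).toPresheafFiber_w_apply s (down f hf z x')
      ((EtOver.bc hf).op ⋙ F.obj) s₂
    have hl'' : (etPoint Y (z.map f.hom) hz).fiber.map s (down f hf z x') = l := hl'
    rw [hl''] at w₁ w₂
    rw [← w₁, ← w₂]
    congr 1
    show F.obj.map ((EtOver.bc hf).map s).op s₁ = F.obj.map ((EtOver.bc hf).map s).op s₂
    rw [← hh, op_comp, Functor.map_comp_apply, Functor.map_comp_apply, hg]
  · intro t
    obtain ⟨M, m, s, rfl⟩ := (etPoint X z hz).toPresheafFiber_jointly_surjective (P := F.obj) t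
    obtain ⟨N, h, q, hq⟩ := Groth.Agent.Helper9.AlgFFA.key1 hf Y.property hint hinj M
      (m.1.left (default : ↥(Spec (CommRingCat.of z.K))))
    obtain ⟨x', hx'⟩ := exists_lift_of_mem_range X z hz h m q hq
    refine ⟨(etPoint Y (z.map f.hom) hz).toPresheafFiber N (down f hf z x')
      ((EtOver.bc hf).op ⋙ F.obj) (F.obj.map h.op s), ?_⟩
    have e₁ := φ₀_ι f hf z hz F ⟨N, down f hf z x'⟩ (F.obj.map h.op s)
    refine e₁.trans ?_
    show (etPoint X z hz).toPresheafFiber ((EtOver.bc hf).obj N) (θl f hf z ⟨N, down f hf z x'⟩)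
      F.obj (F.obj.map h.op s) = _
    rw [θl_down]
    have w := (etPoint X z hz).toPresheafFiber_w_apply h x' F.obj s
    have hx'' : (etPoint X z hz).fiber.map h x' = m := hx'
    rw [hx''] at w
    exact w

include hz hint hinj in
theorem exists_equiv :
    ∃ φ : stalkEt (z.map f.hom) ((pushEt hf (Type (u + 1))).obj F) ≃ stalkEt z F,
      ∀ (N : EtNbhd (z.map f.hom)) (s : F.obj.obj (op ((EtOver.bc hf).obj N.1))),
        φ (stalkEtι (z.map f.hom) ((pushEt hf (Type (u + 1))).obj F) N s) =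
          stalkEtι z F ⟨(EtOver.bc hf).obj N.1, θl f hf z N⟩ s :=
  ⟨Equiv.ofBijective _ (φ₀_bijective f hf z hz hint hinj F), fun N s => φ₀_ι f hf z hz F N s⟩

end Stalk

end Groth.Agent.Helper9.AlgFFD
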