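import Mathlib
import Groth.Prelude.Def_AlgSpOX3
import Groth.Prelude.Def_AlgSpOX2
import Groth.Agent.Helper9.AlgFFB

/-! Base change of the small étale site is locally faithful (for the étale topology of the
source), for every representable morphism. -/

set_option autoImplicit false
open CategoryTheory CategoryTheory.Limits AlgebraicGeometry Opposite

universe u

namespace Groth.Agent.Helper9.AlgFFE

open AlgSp Groth.Agent.Helper9.AlgPushA

set_option backward.isDefEq.respectTransparency false

variable {S : Scheme.{u}} {X Y : Sp S} {f : X ⟶ Y} (hf : Representable f)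

/-- Morphisms into the base change of a product are determined by their two components. -/
theorem bc_prod_hom_ext {U V : EtOver Y} {T : EtOver X}
    (a b : T ⟶ (EtOver.bc hf).obj (EtOver.prodObj U V))
    (h1 : a ≫ (EtOver.bc hf).map (EtOver.prodFst U V) = b ≫ (EtOver.bc hf).map (EtOver.prodFst U V))
    (h2 : a ≫ (EtOver.bc hf).map (EtOver.prodSnd U V) = b ≫ (EtOver.bc hf).map (EtOver.prodSnd U V)) :
    a = b := by
  apply EtOver.hom_ext
  apply hf.hom_ext
  · exact (EtOver.w a).trans (EtOver.w b).symm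
  · have k1 : a.hom.left ≫ (EtOver.bcMap hf (EtOver.prodFst U V)).hom.left =
        b.hom.left ≫ (EtOver.bcMap hf (EtOver.prodFst U V)).hom.left :=
      congrArg (fun k => k.hom.left) h1
    have k2 : a.hom.left ≫ (EtOver.bcMap hf (EtOver.prodSnd U V)).hom.left =
        b.hom.left ≫ (EtOver.bcMap hf (EtOver.prodSnd U V)).hom.left :=
      congrArg (fun k => k.hom.left) h2
    have k1' := congrArg (fun k => k ≫ hf.snd U.obj.hom) k1
    have k2' := congrArg (fun k => k ≫ hf.snd V.obj.hom) k2
    simp only [Category.assoc, EtOver.bcMap_snd] at k1' k2'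
    apply Functor.relativelyRepresentable.hom_ext' V.property.1
    · exact (Category.assoc _ _ _).trans (k2'.trans (Category.assoc _ _ _).symm)
    · exact (Category.assoc _ _ _).trans (k1'.trans (Category.assoc _ _ _).symm)

theorem isLocallyFaithful : (EtOver.bc hf).IsLocallyFaithful (etTop X) where
  functorPushforward_equalizer_mem {U V} g₁ g₂ hg := by
    -- the graphs
    let γ₁ : U ⟶ EtOver.prodObj U V :=
      (EtOver.prodIsLimit U V).lift (BinaryFan.mk (𝟙 U) g₁)
    let γ₂ : U ⟶ EtOver.prodObj U V :=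
      (EtOver.prodIsLimit U V).lift (BinaryFan.mk (𝟙 U) g₂)
    have a1 : γ₁ ≫ EtOver.prodFst U V = 𝟙 U :=
      (EtOver.prodIsLimit U V).fac (BinaryFan.mk (𝟙 U) g₁) ⟨WalkingPair.left⟩
    have a2 : γ₁ ≫ EtOver.prodSnd U V = g₁ :=
      (EtOver.prodIsLimit U V).fac (BinaryFan.mk (𝟙 U) g₁) ⟨WalkingPair.right⟩
    have b1 : γ₂ ≫ EtOver.prodFst U V = 𝟙 U :=
      (EtOver.prodIsLimit U V).fac (BinaryFan.mk (𝟙 U) g₂) ⟨WalkingPair.left⟩
    have b2 : γ₂ ≫ EtOver.prodSnd U V = g₂ :=
      (EtOver.prodIsLimit U V).fac (BinaryFan.mk (𝟙 U) g₂) ⟨WalkingPair.right⟩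
    have hγ : (EtOver.bc hf).map γ₁ = (EtOver.bc hf).map γ₂ := by
      apply bc_prod_hom_ext
      · rw [← Functor.map_comp, ← Functor.map_comp, a1, b1]
      · rw [← Functor.map_comp, ← Functor.map_comp, a2, b2, hg]
    -- the equalizer as a pullback
    let e₁ := EtOver.pullbackFst γ₁ γ₂
    let e₂ := EtOver.pullbackSnd γ₁ γ₂
    have hc : e₁ ≫ γ₁ = e₂ ≫ γ₂ := EtOver.pullback_condition γ₁ γ₂
    have he : e₁ = e₂ := by
      have := congrArg (fun k => k ≫ EtOver.prodFst U V) hc
      simpa only [Category.assoc, a1, b1, Category.comp_id] using this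
    have heq : e₁ ≫ g₁ = e₁ ≫ g₂ := by
      have := congrArg (fun k => k ≫ EtOver.prodSnd U V) hc
      simp only [Category.assoc, a2, b2] at this
      rw [this, he]
    have sq := EtOver.isPullback_bc_map_pullback hf γ₁ γ₂
    -- the section
    let s := sq.lift (𝟙 _) (𝟙 _) (by rw [hγ])
    have hs : s ≫ (EtOver.bc hf).map e₁ = 𝟙 _ := sq.lift_fst _ _ _
    have : ((Sieve.equalizer g₁ g₂).functorPushforward (EtOver.bc hf)) = ⊤ := by
      rw [← Sieve.id_mem_iff_eq_top]
      exact ⟨_, e₁, s, heq, hs.symm⟩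
    rw [this]
    exact (etTop X).top_mem _

end Groth.Agent.Helper9.AlgFFE
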