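import Mathlib
import Groth.Prelude.Def_AlgSpOX3
import Groth.Prelude.Def_AlgSpOX2
import Groth.Agent.Helper9.AlgFFB
import Groth.Agent.Helper9.AlgFFE

/-! Sheaves on the small étale site of the target which are trivial off the image are sheaves for
the topology induced from the source. -/

set_option autoImplicit false
open CategoryTheory CategoryTheory.Limits AlgebraicGeometry Opposite

universe u w

namespace Groth.Agent.Helper9.AlgFFF

open AlgSp Groth.Agent.Helper9.AlgPushA Groth.Agent.Helper9.AlgPtB

set_option backward.isDefEq.respectTransparency false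

variable {S : Scheme.{u}} {X Y : Sp S} {f : X ⟶ Y} (hf : Representable f)

theorem bcπ_map_apply {E' E : EtOver Y} (g : E' ⟶ E) (x : ((EtOver.bc hf).obj E').obj.left.left) :
    (hf.snd E.obj.hom).left (((EtOver.bc hf).map g).hom.left.left x) =
      g.hom.left.left ((hf.snd E'.obj.hom).left x) := by
  have h := congrArg (fun k => k.left) (EtOver.bcMap_snd hf g)
  exact congrArg (fun k : ((EtOver.bc hf).obj E').obj.left.left ⟶ E.obj.left.left => k x) h

theorem isSheafFor_of_forall_unique (P : (EtOver Y)ᵒᵖ ⥤ Type w) (E : EtOver Y) (T : Sieve E)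
    (hu : ∀ (E' : EtOver Y) (_ : E' ⟶ E), Nonempty (Unique (P.obj (op E')))) :
    Presieve.IsSheafFor P T.arrows := by
  intro x hx
  obtain ⟨u⟩ := hu E (𝟙 E)
  refine ⟨u.default, fun E' g hg => ?_, fun y _ => u.uniq y⟩
  obtain ⟨u'⟩ := hu E' g
  exact (u'.uniq _).trans (u'.uniq _).symm

variable (hY : IsAlgSpace Y) (hint : RepWith @IsIntegralHom f)
  (hinj : RepWith @UniversallyInjective f)

include hY hint hinj in
theorem isSheaf_restricted (P : (EtOver Y)ᵒᵖ ⥤ Type w) (hP : Presieve.IsSheaf (etTop Y) P)
    (hvan : ∀ E : EtOver Y, IsEmpty ((EtOver.bc hf).obj E).obj.left.left →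
      Nonempty (Unique (P.obj (op E)))) :
    Presieve.IsSheaf ((EtOver.bc hf).restrictedTopology (etTop X)) P := by
  haveI := Groth.Agent.Helper9.AlgFFB.isCoverDense hf hY hint hinj
  haveI := Groth.Agent.Helper9.AlgFFB.isLocallyFull hf hint hinj
  haveI := Groth.Agent.Helper9.AlgFFE.isLocallyFaithful hf
  intro N R hR
  rw [Functor.mem_restrictedTopology_iff] at hR
  let π : ((EtOver.bc hf).obj N).obj.left.left ⟶ N.obj.left.left := (hf.snd N.obj.hom).left
  have hπint : IsIntegralHom π := hint.property_snd N.obj.hom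
  have hcl : IsClosed (Set.range π) := π.isClosedMap.isClosed_range
  let U : N.obj.left.left.Opens := ⟨(Set.range π)ᶜ, hcl.isOpen_compl⟩
  let NU : EtOver Y := (chart N).obj (Scheme.Etale.mk U.ι)
  let jU : NU ⟶ N := σ N _
  have hjU : jU.hom.left.left = U.ι := rfl
  let R' : Sieve N := R ⊔ Sieve.generate (Presieve.singleton jU)
  have hR' : R' ∈ etTop Y N := by
    rw [mem_etTop_iff]
    intro n
    by_cases hn : n ∈ Set.range π
    · obtain ⟨m, rfl⟩ := hn
      obtain ⟨M, k, hk, ⟨m₀, hm₀⟩⟩ := (mem_etTop_iff _ _).1 hR m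
      obtain ⟨N', g, k', hg, rfl⟩ := hk
      refine ⟨N', g, Or.inl hg, ⟨(hf.snd N'.obj.hom).left (k'.hom.left.left m₀), ?_⟩⟩
      rw [← bcπ_map_apply]
      exact congrArg π hm₀
    · refine ⟨NU, jU, Or.inr (Sieve.le_generate _ _ _ (Presieve.singleton_self _)), ?_⟩
      have h0 : n ∈ Set.range U.ι.base := by
        rw [Scheme.Opens.range_ι]
        exact hn
      exact h0
  refine Presieve.isSheafFor_trans P R' R (hP _ hR') ?_ ?_
  · intro E g hg
    exact (hP _ ((etTop Y).pullback_stable g hR')).isSeparatedFor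
  · intro E g hg
    rcases hg with hg | hg
    · rw [Sieve.pullback_eq_top_of_mem R hg]
      exact Presieve.isSheafFor_top P
    · obtain ⟨E₀, a, b, hb, rfl⟩ := hg
      cases hb
      have hempty : IsEmpty ((EtOver.bc hf).obj E).obj.left.left := by
        constructor
        intro x
        have h1 := bcπ_map_apply hf (a ≫ jU) x
        have h2 : (a ≫ jU).hom.left.left ((hf.snd E.obj.hom).left x) ∈ (U : Set N.obj.left.left) := by
          show (a.hom.left.left ≫ jU.hom.left.left) _ ∈ _
          rw [hjU, Scheme.Hom.comp_apply]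
          have h0 : U.ι (a.hom.left.left ((hf.snd E.obj.hom).left x)) ∈ Set.range U.ι.base :=
            ⟨_, rfl⟩
          rw [Scheme.Opens.range_ι] at h0
          exact h0
        rw [← h1] at h2
        exact h2 ⟨_, rfl⟩
      apply isSheafFor_of_forall_unique
      intro E' g'
      apply hvan
      exact ⟨fun x => hempty.false (((EtOver.bc hf).map g').hom.left.left x)⟩

end Groth.Agent.Helper9.AlgFFF
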