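import Mathlib
import Groth.Prelude.Def_AlgSpOX3
import Groth.Prelude.Def_AlgSpOX2
import Groth.Agent.Helper9.AlgFFF
import Groth.Agent.Helper4.AlgSpPtsDesc

/-! Essential image of `f_*` for an integral universally injective representable morphism. -/

set_option autoImplicit false
open CategoryTheory CategoryTheory.Limits AlgebraicGeometry Opposite

universe u w

namespace Groth.Agent.Helper9.AlgFFG

open AlgSp Groth.Agent.Helper9.AlgPushA

set_option backward.isDefEq.respectTransparency false

variable {S : Scheme.{u}} {X Y : Sp S} {f : X ⟶ Y} (hf : Representable f)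

section Abstract

variable (hY : IsAlgSpace Y) (hint : RepWith @IsIntegralHom f)
  (hinj : RepWith @UniversallyInjective f)

include hY hint hinj

/-- A sheaf on the target which is a sheaf for the topology induced from the source is a direct
image. -/
theorem essImage_of_isSheaf {A : Type*} [Category A]
    [∀ M : (EtOver X)ᵒᵖ, HasLimitsOfShape (StructuredArrow M (EtOver.bc hf).op) A]
    (G : EtSh Y A)
    (hG : Presheaf.IsSheaf ((EtOver.bc hf).restrictedTopology (etTop X)) G.obj) :
    (pushEt hf A).essImage G := by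
  haveI := Groth.Agent.Helper9.AlgFFB.isCoverDense hf hY hint hinj
  haveI := Groth.Agent.Helper9.AlgFFB.isLocallyFull hf hint hinj
  haveI := Groth.Agent.Helper9.AlgFFE.isLocallyFaithful hf
  let J' := (EtOver.bc hf).restrictedTopology (etTop X)
  let G' : Sheaf J' A := ⟨G.obj, hG⟩
  obtain ⟨F, ⟨e⟩⟩ := Functor.EssSurj.mem_essImage
    (F := (EtOver.bc hf).sheafPushforwardContinuous A J' (etTop X)) G'
  have e' : (EtOver.bc hf).op ⋙ F.obj ≅ G.obj := (sheafToPresheaf J' A).mapIso e
  exact ⟨F, ⟨(fullyFaithfulSheafToPresheaf (etTop Y) A).preimageIso e'⟩⟩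

theorem essImage_type (G : EtSh Y (Type (u + 1)))
    (hvan : ∀ E : EtOver Y, IsEmpty ((EtOver.bc hf).obj E).obj.left.left →
      Nonempty (Unique (G.obj.obj (op E)))) :
    (pushEt hf (Type (u + 1))).essImage G := by
  apply essImage_of_isSheaf hf hY hint hinj
  rw [isSheaf_iff_isSheaf_of_type]
  exact Groth.Agent.Helper9.AlgFFF.isSheaf_restricted hf hY hint hinj G.obj
    ((isSheaf_iff_isSheaf_of_type _ _).1 G.property) hvan

theorem essImage_ab (G : AbEt Y)
    (hvan : ∀ E : EtOver Y, IsEmpty ((EtOver.bc hf).obj E).obj.left.left →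
      Subsingleton ↥(G.obj.obj (op E))) :
    (pushEt hf AddCommGrpCat.{u + 1}).essImage G := by
  apply essImage_of_isSheaf hf hY hint hinj
  rw [Presheaf.isSheaf_iff_isSheaf_forget _ _ (forget AddCommGrpCat.{u + 1}),
    isSheaf_iff_isSheaf_of_type]
  refine Groth.Agent.Helper9.AlgFFF.isSheaf_restricted hf hY hint hinj _
    ((isSheaf_iff_isSheaf_of_type _ _).1
      ((Presheaf.isSheaf_iff_isSheaf_forget _ _ (forget AddCommGrpCat.{u + 1})).1 G.property)) ?_
  intro E hE
  have := hvan E hE
  exact ⟨{ default := (0 : ↥(G.obj.obj (op E))), uniq := fun a => Subsingleton.elim _ _ }⟩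

end Abstract


section Converse

theorem unique_of_isEmpty {X : Sp S} (P : (EtOver X)ᵒᵖ ⥤ Type w)
    (hP : Presieve.IsSheaf (etTop X) P) (Z : EtOver X) [IsEmpty Z.obj.left.left] :
    Nonempty (Unique (P.obj (op Z))) := by
  have hsub := subsingleton_of_isEmpty P hP Z
  have hbot := bot_mem_of_isEmpty Z
  let x : Presieve.FamilyOfElements P (⊥ : Sieve Z).arrows := fun _ _ h => h.elim
  have hx : x.Compatible := fun _ _ _ _ _ _ _ h => h.elim
  exact ⟨{ default := (hP _ hbot).amalgamate x hx, uniq := fun a => Subsingleton.elim _ _ }⟩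

theorem unique_of_essImage_type (G : EtSh Y (Type (u + 1)))
    (h : (pushEt hf (Type (u + 1))).essImage G) (E : EtOver Y)
    (hE : IsEmpty ((EtOver.bc hf).obj E).obj.left.left) :
    Nonempty (Unique (G.obj.obj (op E))) := by
  obtain ⟨F, ⟨e⟩⟩ := h
  obtain ⟨u⟩ := unique_of_isEmpty F.obj ((isSheaf_iff_isSheaf_of_type _ _).1 F.property)
    ((EtOver.bc hf).obj E)
  have e' : F.obj.obj (op ((EtOver.bc hf).obj E)) ≅ G.obj.obj (op E) :=
    ((sheafToPresheaf _ _).mapIso e).app (op E)
  exact ⟨Equiv.unique e'.toEquiv.symm⟩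

theorem subsingleton_of_essImage_ab (G : AbEt Y)
    (h : (pushEt hf AddCommGrpCat.{u + 1}).essImage G) (E : EtOver Y)
    (hE : IsEmpty ((EtOver.bc hf).obj E).obj.left.left) :
    Subsingleton ↥(G.obj.obj (op E)) := by
  obtain ⟨F, ⟨e⟩⟩ := h
  have hF : Presieve.IsSheaf (etTop X) (F.obj ⋙ forget AddCommGrpCat.{u + 1}) :=
    (isSheaf_iff_isSheaf_of_type _ _).1
      ((Presheaf.isSheaf_iff_isSheaf_forget _ _ (forget AddCommGrpCat.{u + 1})).1 F.property)
  have hsub : Subsingleton ↥(F.obj.obj (op ((EtOver.bc hf).obj E))) :=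
    subsingleton_of_isEmpty _ hF ((EtOver.bc hf).obj E)
  have e' : F.obj.obj (op ((EtOver.bc hf).obj E)) ≅ G.obj.obj (op E) :=
    ((sheafToPresheaf _ _).mapIso e).app (op E)
  exact (((forget AddCommGrpCat.{u + 1}).mapIso e').toEquiv.symm).subsingleton

theorem isEmpty_iff_disjoint (E : EtOver Y) :
    IsEmpty ((EtOver.bc hf).obj E).obj.left.left ↔
      Disjoint (Set.range (Points.map E.obj.hom)) (Set.range (Points.map f)) := by
  constructor
  · intro hE
    rw [Set.disjoint_left]
    rintro _ ⟨y, rfl⟩ ⟨x, hx⟩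
    obtain ⟨p, -, -⟩ := Groth.Agent.Helper4.AlgSpPtsDesc.exists_point_of_isPullback
      (hf.isPullback E.obj.hom) x y hx
    exact hE.false ((Points.schemeEquiv _).symm p)
  · intro hd
    constructor
    intro w
    let p : Points ((yon S).obj (hf.pullback E.obj.hom)) := Points.ofScheme _ w
    have h : Points.map f (Points.map (hf.fst E.obj.hom) p) =
        Points.map E.obj.hom (Points.map ((yon S).map (hf.snd E.obj.hom)) p) := by
      rw [← Points.map_comp, ← Points.map_comp, hf.w]
    exact Set.disjoint_left.1 hd ⟨_, rfl⟩ ⟨_, h⟩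

end Converse

end Groth.Agent.Helper9.AlgFFG
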