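import Mathlib

/-! Abstract Mayer–Vietoris on a site with binary products: `U` subterminal, `{U, V}` "covering",
and pairs of maps to `V` agree locally off `U`. -/

set_option autoImplicit false
open CategoryTheory CategoryTheory.Limits Opposite

universe v u w

namespace Groth.Agent.Helper9.AlgMVB

variable {C : Type u} [Category.{v} C]

attribute [local simp] prod.lift_fst prod.lift_snd prod.lift_fst_assoc prod.lift_snd_assoc

/-- Arrows whose source maps to `U` or to `V`. -/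
def sieve1 (U V W : C) : Sieve W where
  arrows W' _ := Nonempty (W' ⟶ U) ∨ Nonempty (W' ⟶ V)
  downward_closed := by
    rintro Y Z f (⟨⟨a⟩⟩ | ⟨⟨a⟩⟩) g
    exacts [Or.inl ⟨g ≫ a⟩, Or.inr ⟨g ≫ a⟩]

/-- Arrows equalizing `v₁, v₂` or whose source maps to `U`. -/
def sieve2 (U : C) {Z V : C} (v₁ v₂ : Z ⟶ V) : Sieve Z where
  arrows Z' g := g ≫ v₁ = g ≫ v₂ ∨ Nonempty (Z' ⟶ U)
  downward_closed := by
    rintro Y Y' f (h | ⟨⟨a⟩⟩) g
    · exact Or.inl (by rw [Category.assoc, Category.assoc, h])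
    · exact Or.inr ⟨g ≫ a⟩

variable [HasBinaryProducts C] (J : GrothendieckTopology C)
variable {U V UV : C} (p : UV ⟶ U) (q : UV ⟶ V)

/-- The hypotheses. -/
structure MVData : Prop where
  sub : ∀ {Z : C} (a b : Z ⟶ U), a = b
  cov1 : ∀ W : C, sieve1 U V W ∈ J W
  cov2 : ∀ (Z : C) (v₁ v₂ : Z ⟶ V), sieve2 U v₁ v₂ ∈ J Z
  lim : Nonempty (IsLimit (BinaryFan.mk p q))

variable {J p q} (D : MVData J p q)

namespace MVData

include D

/-- Pairing into `UV`. -/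
noncomputable def pair {Z : C} (a : Z ⟶ U) (a' : Z ⟶ V) : Z ⟶ UV :=
  D.lim.some.lift (BinaryFan.mk a a')

@[reassoc (attr := simp)]
theorem pair_p {Z : C} (a : Z ⟶ U) (a' : Z ⟶ V) : D.pair a a' ≫ p = a :=
  D.lim.some.fac (BinaryFan.mk a a') ⟨WalkingPair.left⟩

@[reassoc (attr := simp)]
theorem pair_q {Z : C} (a : Z ⟶ U) (a' : Z ⟶ V) : D.pair a a' ≫ q = a' :=
  D.lim.some.fac (BinaryFan.mk a a') ⟨WalkingPair.right⟩

theorem uv_ext {Z : C} (m m' : Z ⟶ UV) (h : m ≫ q = m' ≫ q) : m = m' :=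
  BinaryFan.IsLimit.hom_ext D.lim.some (D.sub _ _) h

theorem uvw_ext {Z W : C} (m m' : Z ⟶ UV ⨯ W) (h1 : m ≫ prod.fst ≫ q = m' ≫ prod.fst ≫ q)
    (h2 : m ≫ prod.snd = m' ≫ prod.snd) : m = m' := by
  apply Limits.prod.hom_ext
  · apply D.uv_ext
    simpa using h1
  · exact h2

section Types

variable {F : Cᵒᵖ ⥤ Type w} (hF : Presieve.IsSheaf J F) {W : C}
  (b₁ : F.obj (op (U ⨯ W))) (b₂ : F.obj (op (V ⨯ W)))
  (hb : F.map (prod.map p (𝟙 W)).op b₁ = F.map (prod.map q (𝟙 W)).op b₂)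

include hb in
theorem key {W' : C} (g : W' ⟶ W) (a : W' ⟶ U) (a' : W' ⟶ V) :
    F.map (prod.lift a g).op b₁ = F.map (prod.lift a' g).op b₂ := by
  have e1 : prod.lift (D.pair a a') g ≫ prod.map p (𝟙 W) = prod.lift a g := by
    apply Limits.prod.hom_ext <;> simp
  have e2 : prod.lift (D.pair a a') g ≫ prod.map q (𝟙 W) = prod.lift a' g := by
    apply Limits.prod.hom_ext <;> simp
  rw [← e1, ← e2, op_comp, op_comp, F.map_comp, F.map_comp]
  exact congrArg (F.map (prod.lift (D.pair a a') g).op) hb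

include hF hb in
theorem key2 {W' : C} (g : W' ⟶ W) (a' a'' : W' ⟶ V) :
    F.map (prod.lift a' g).op b₂ = F.map (prod.lift a'' g).op b₂ := by
  apply (hF _ (D.cov2 W' a' a'')).isSeparatedFor.ext
  rintro Z' h (hh | ⟨⟨u⟩⟩)
  · rw [← Functor.map_comp_apply, ← Functor.map_comp_apply, ← op_comp, ← op_comp,
      prod.comp_lift, prod.comp_lift, hh]
  · rw [← Functor.map_comp_apply, ← Functor.map_comp_apply, ← op_comp, ← op_comp,
      prod.comp_lift, prod.comp_lift, ← D.key b₁ b₂ hb (h ≫ g) u (h ≫ a'),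
      ← D.key b₁ b₂ hb (h ≫ g) u (h ≫ a'')]

/-- The value of the glued family at `g`. -/
def IsVal {W' : C} (g : W' ⟶ W) (t : F.obj (op W')) : Prop :=
  (∀ a : W' ⟶ U, t = F.map (prod.lift a g).op b₁) ∧
    (∀ a' : W' ⟶ V, t = F.map (prod.lift a' g).op b₂)

omit D in
theorem IsVal.map {W' W'' : C} {g : W' ⟶ W} {t : F.obj (op W')}
    (ht : IsVal b₁ b₂ g t) (h : W'' ⟶ W') (hne : Nonempty (W' ⟶ U) ∨ Nonempty (W' ⟶ V))
    {t' : F.obj (op W'')} (ht' : IsVal b₁ b₂ (h ≫ g) t') : t' = F.map h.op t := by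
  rcases hne with ⟨⟨a⟩⟩ | ⟨⟨a⟩⟩
  · rw [ht.1 a, ht'.1 (h ≫ a), ← Functor.map_comp_apply, ← op_comp, prod.comp_lift]
  · rw [ht.2 a, ht'.2 (h ≫ a), ← Functor.map_comp_apply, ← op_comp, prod.comp_lift]

include hF hb in
theorem exists_isVal {W' : C} (g : W' ⟶ W) (hg : sieve1 U V W g) :
    ∃ t, IsVal b₁ b₂ g t := by
  rcases hg with ⟨⟨a⟩⟩ | ⟨⟨a'⟩⟩
  · refine ⟨F.map (prod.lift a g).op b₁, fun a₁ => by rw [D.sub a₁ a], fun a' => D.key b₁ b₂ hb g a a'⟩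
  · refine ⟨F.map (prod.lift a' g).op b₂, fun a => (D.key b₁ b₂ hb g a a').symm,
      fun a'' => D.key2 hF b₁ b₂ hb g a' a''⟩

include hF hb in
theorem existsUnique_glue :
    ∃! a : F.obj (op W), F.map (prod.snd : U ⨯ W ⟶ W).op a = b₁ ∧
      F.map (prod.snd : V ⨯ W ⟶ W).op a = b₂ := by
  classical
  let x : Presieve.FamilyOfElements F (sieve1 U V W).arrows := fun W' g hg =>
    (D.exists_isVal hF b₁ b₂ hb g hg).choose
  have hx : ∀ {W' : C} (g : W' ⟶ W) (hg : sieve1 U V W g), IsVal b₁ b₂ g (x g hg) := fun g hg =>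
    (D.exists_isVal hF b₁ b₂ hb g hg).choose_spec
  have hcompat : x.Compatible := by
    rw [Presieve.compatible_iff_sieveCompatible]
    intro W' W'' g h hg
    exact (hx g hg).map b₁ b₂ h hg (hx (h ≫ g) ((sieve1 U V W).downward_closed hg h))
  obtain ⟨a, ha, hauniq⟩ := hF _ (D.cov1 W) x hcompat
  have hU : sieve1 U V W (prod.snd : U ⨯ W ⟶ W) := Or.inl ⟨prod.fst⟩
  have hV : sieve1 U V W (prod.snd : V ⨯ W ⟶ W) := Or.inr ⟨prod.fst⟩
  refine ⟨a, ⟨?_, ?_⟩, ?_⟩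
  · rw [ha _ hU, (hx _ hU).1 prod.fst]
    simp
  · rw [ha _ hV, (hx _ hV).2 prod.fst]
    simp
  · rintro a' ⟨h1, h2⟩
    apply hauniq
    intro W' g hg
    rcases hg with ⟨⟨u⟩⟩ | ⟨⟨u⟩⟩
    · rw [(hx g (Or.inl ⟨u⟩)).1 u, ← h1, ← Functor.map_comp_apply, ← op_comp, prod.lift_snd]
    · rw [(hx g (Or.inr ⟨u⟩)).2 u, ← h2, ← Functor.map_comp_apply, ← op_comp, prod.lift_snd]

end Types

section Ab

variable {G : Cᵒᵖ ⥤ AddCommGrpCat.{w}}

omit D in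
theorem map_map_apply {A B E : C} (f : A ⟶ B) (g : B ⟶ E) (x : G.obj (op E)) :
    G.map f.op (G.map g.op x) = G.map (f ≫ g).op x := by
  rw [op_comp, G.map_comp]; rfl

/-- Arrows along which `c` becomes a difference. -/
def sieve3 (p : UV ⟶ U) (q : UV ⟶ V) {W : C} (c : G.obj (op (UV ⨯ W))) : Sieve W where
  arrows W' g := ∃ (b₁ : G.obj (op (U ⨯ W'))) (b₂ : G.obj (op (V ⨯ W'))),
    G.map (prod.map p (𝟙 W')).op b₁ - G.map (prod.map q (𝟙 W')).op b₂ =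
      G.map (prod.map (𝟙 UV) g).op c
  downward_closed := by
    rintro Y Z g ⟨b₁, b₂, h⟩ k
    refine ⟨G.map (prod.map (𝟙 U) k).op b₁, G.map (prod.map (𝟙 V) k).op b₂, ?_⟩
    have e1 : prod.map p (𝟙 Z) ≫ prod.map (𝟙 U) k = prod.map (𝟙 UV) k ≫ prod.map p (𝟙 Y) := by
      simp
    have e2 : prod.map q (𝟙 Z) ≫ prod.map (𝟙 V) k = prod.map (𝟙 UV) k ≫ prod.map q (𝟙 Y) := by
      simp
    have e3 : prod.map (𝟙 UV) k ≫ prod.map (𝟙 UV) g = prod.map (𝟙 UV) (k ≫ g) := by simp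
    rw [map_map_apply, map_map_apply, e1, e2, ← map_map_apply, ← map_map_apply (G := G), ← map_sub,
      h, map_map_apply, e3]

theorem pair_comp {Z Z' : C} (k : Z' ⟶ Z) (a : Z ⟶ U) (a' : Z ⟶ V) :
    k ≫ D.pair a a' = D.pair (k ≫ a) (k ≫ a') := by
  apply D.uv_ext
  simp

variable (hG : Presieve.IsSheaf J (G ⋙ forget AddCommGrpCat))

include hG in
/-- Gluing `d` with zero along the diagonal. -/
theorem exists_glue_zero {W' : C} (a' : W' ⟶ V) (d : G.obj (op (UV ⨯ W')))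
    (h0 : ∀ {Z' : C} (h : Z' ⟶ V ⨯ W') (u : Z' ⟶ U), h ≫ prod.fst = h ≫ prod.snd ≫ a' →
      G.map (prod.lift (D.pair u (h ≫ prod.fst)) (h ≫ prod.snd)).op d = 0) :
    ∃ b₂ : G.obj (op (V ⨯ W')), G.map (prod.map q (𝟙 W')).op b₂ = d := by
  classical
  let v₁ : V ⨯ W' ⟶ V := prod.fst
  let v₂ : V ⨯ W' ⟶ V := prod.snd ≫ a'
  let IsV : ∀ {Z' : C} (h : Z' ⟶ V ⨯ W'), G.obj (op Z') → Prop := fun {Z'} h t =>
    (∀ u : Z' ⟶ U, t = G.map (prod.lift (D.pair u (h ≫ prod.fst)) (h ≫ prod.snd)).op d) ∧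
      (h ≫ v₁ = h ≫ v₂ → t = 0)
  have hex : ∀ {Z' : C} (h : Z' ⟶ V ⨯ W'), sieve2 U v₁ v₂ h → ∃ t, IsV h t := by
    intro Z' h hh
    by_cases he : h ≫ v₁ = h ≫ v₂
    · exact ⟨0, fun u => (h0 h u he).symm, fun _ => rfl⟩
    · rcases hh with hh | ⟨⟨u₀⟩⟩
      · exact (he hh).elim
      · exact ⟨_, fun u => by rw [D.sub u u₀], fun he' => (he he').elim⟩
  let x : Presieve.FamilyOfElements (G ⋙ forget AddCommGrpCat) (sieve2 U v₁ v₂).arrows :=
    fun Z' h hh => (hex h hh).choose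
  have hx : ∀ {Z' : C} (h : Z' ⟶ V ⨯ W') (hh : sieve2 U v₁ v₂ h), IsV h (x h hh) := fun h hh =>
    (hex h hh).choose_spec
  have hcompat : x.Compatible := by
    rw [Presieve.compatible_iff_sieveCompatible]
    intro Z' Z'' h k hh
    have hkh := (sieve2 U v₁ v₂).downward_closed hh k
    change x (k ≫ h) hkh = G.map k.op (x h hh)
    rcases hh with he | ⟨⟨u⟩⟩
    · have he' : (k ≫ h) ≫ v₁ = (k ≫ h) ≫ v₂ := by
        rw [Category.assoc, Category.assoc, he]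
      rw [(hx h (Or.inl he)).2 he, (hx (k ≫ h) hkh).2 he', map_zero]
    · rw [(hx h (Or.inr ⟨u⟩)).1 u, (hx (k ≫ h) hkh).1 (k ≫ u), map_map_apply, prod.comp_lift,
        D.pair_comp]
      simp only [Category.assoc]
  obtain ⟨b₂, hb₂, -⟩ := hG _ (D.cov2 _ v₁ v₂) x hcompat
  refine ⟨b₂, ?_⟩
  have hh₀ : sieve2 U v₁ v₂ (prod.map q (𝟙 W')) := Or.inr ⟨prod.fst ≫ p⟩
  have h1 := hb₂ _ hh₀
  change G.map (prod.map q (𝟙 W')).op b₂ = x _ hh₀ at h1
  rw [h1, (hx _ hh₀).1 (prod.fst ≫ p)]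
  have e : prod.lift (D.pair (prod.fst ≫ p) (prod.map q (𝟙 W') ≫ prod.fst))
      (prod.map q (𝟙 W') ≫ prod.snd) = 𝟙 (UV ⨯ W') := by
    apply D.uvw_ext <;> simp
  rw [e]
  simp

include hG in
theorem sieve3_mem {W : C} (c : G.obj (op (UV ⨯ W))) : sieve3 p q c ∈ J W := by
  refine J.superset_covering ?_ (D.cov1 W)
  rintro W' g (⟨⟨a⟩⟩ | ⟨⟨a'⟩⟩)
  · let θ : V ⨯ W' ⟶ UV ⨯ W := prod.lift (D.pair (prod.snd ≫ a) prod.fst) (prod.snd ≫ g)
    have e : prod.map q (𝟙 W') ≫ θ = prod.map (𝟙 UV) g := by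
      apply D.uvw_ext <;> simp [θ]
    refine ⟨0, - G.map θ.op c, ?_⟩
    rw [map_zero, map_neg, map_map_apply, e]
    simp
  · let δ : U ⨯ W' ⟶ UV ⨯ W := prod.lift (D.pair prod.fst (prod.snd ≫ a')) (prod.snd ≫ g)
    let d : G.obj (op (UV ⨯ W')) :=
      G.map (prod.map p (𝟙 W')).op (G.map δ.op c) - G.map (prod.map (𝟙 UV) g).op c
    obtain ⟨b₂, hb₂⟩ := D.exists_glue_zero hG a' d (by
      intro Z' h u hh
      have e : prod.lift (D.pair u (h ≫ prod.fst)) (h ≫ prod.snd) ≫ prod.map p (𝟙 W') ≫ δ =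
          prod.lift (D.pair u (h ≫ prod.fst)) (h ≫ prod.snd) ≫ prod.map (𝟙 UV) g := by
        apply D.uvw_ext
        · simp [δ, hh]
        · simp [δ]
      change G.map _ (G.map _ (G.map δ.op c) - G.map _ c) = 0
      rw [map_sub, map_map_apply, map_map_apply, map_map_apply, Category.assoc, e, sub_self])
    refine ⟨G.map δ.op c, b₂, ?_⟩
    rw [hb₂]
    change _ - (_ - _) = _
    rw [sub_sub_cancel]

end Ab

end MVData

end Groth.Agent.Helper9.AlgMVB
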