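import Mathlib
import Groth.Prelude.Def_W4SpPerfMV
import Groth.Prelude.Def_AlgSpSub
import Groth.Agent.Helper9.AlgPushA
import Groth.Agent.Helper9.AlgMVB
import Groth.Agent.Helper4.AlgSpBasic
import Groth.Agent.Helper4.AlgSpPtsDesc

/-! Geometry of an elementary distinguished square on the small étale site of a sheaf. -/

set_option autoImplicit false
open CategoryTheory CategoryTheory.Limits AlgebraicGeometry Opposite

universe u

namespace Groth.Agent.Helper9.AlgMVA

open AlgSp Groth.Agent.Helper9.AlgPushA Groth.Agent.Helper9.AlgMVB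

set_option backward.isDefEq.respectTransparency false

variable {S : Scheme.{u}} {X : Sp S} (U V : EtOver X)

/-- Maps into an object whose structure map is a monomorphism are unique. -/
theorem hom_subsingleton (hmono : Mono U.obj.hom) {Z : EtOver X} (a b : Z ⟶ U) : a = b := by
  apply EtOver.hom_ext
  apply (yon S).map_injective
  rw [← cancel_mono U.obj.hom, EtOver.w a, EtOver.w b]

/-- The point of `X` under a point of an object of the site. -/
noncomputable def pt (W : EtOver X) (w : W.obj.left.left) : Points X := Points.ofPt W.obj.hom w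

theorem pt_map {W W' : EtOver X} (g : W' ⟶ W) (w' : W'.obj.left.left) :
    pt W (g.hom.left.left w') = pt W' w' := by
  unfold pt
  rw [← Groth.Agent.Helper4.AlgSpPtsDesc.ofPt_yon_map_comp, EtOver.w g]

/-- Two points over the same point of `X` come from a point of the product. -/
theorem exists_prod_point (W W' : EtOver X) (w : W.obj.left.left) (w' : W'.obj.left.left)
    (h : pt W w = pt W' w') :
    ∃ z : (EtOver.prodObj W W').obj.left.left,
      (EtOver.prodFst W W').hom.left.left z = w ∧ (EtOver.prodSnd W W').hom.left.left z = w' := by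
  have sq := W'.property.1.isPullback W.obj.hom
  obtain ⟨p, hp1, hp2⟩ := Groth.Agent.Helper4.AlgSpPtsDesc.exists_point_of_isPullback sq
    (Points.ofScheme _ w') (Points.ofScheme _ w) (by
      rw [Points.map_ofPt, Points.map_ofPt, Category.id_comp, Category.id_comp]
      exact h.symm)
  refine ⟨Points.toScheme _ p, ?_, ?_⟩
  · have h2 := congrArg (Points.toScheme _) hp2
    rw [← Points.ofScheme_toScheme _ p, Points.map_ofPt, Category.id_comp, Points.toScheme_ofPt,
      Points.toScheme_ofScheme] at h2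
    exact h2
  · have h1 := congrArg (Points.toScheme _) hp1
    rw [← Points.ofScheme_toScheme _ p, Points.map_ofPt, Category.id_comp,
      ← Functor.relativelyRepresentable.map_fst', Points.toScheme_ofPt,
      Points.toScheme_ofScheme] at h1
    exact h1

theorem pt_eq_map (W : EtOver X) (w : W.obj.left.left) :
    pt W w = Points.map W.obj.hom (Points.ofScheme _ w) :=
  Points.ofPt_eq_map_ofScheme _ _

theorem exists_pt_of_mem_range (W : EtOver X) {ξ : Points X}
    (h : ξ ∈ Set.range (Points.map W.obj.hom)) : ∃ w : W.obj.left.left, pt W w = ξ := by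
  obtain ⟨y, rfl⟩ := h
  refine ⟨Points.toScheme _ y, ?_⟩
  rw [pt_eq_map, Points.ofScheme_toScheme]

section Square

variable {U V}
variable {T P : Sp S} {i : T ⟶ X} {p₁ : P ⟶ T} {p₂ : P ⟶ (yon S).obj V.obj.left}
  (hrange : Set.range (Points.map i) = (Set.range (Points.map U.obj.hom))ᶜ)
  (hP : IsPullback p₁ p₂ i V.obj.hom) [IsIso p₁]

include hP in
/-- Over the closed complement, `V` has a point over every point. -/
theorem exists_pt_V {ξ : Points X} (h : ξ ∈ Set.range (Points.map i)) :
    ∃ v : V.obj.left.left, pt V v = ξ := by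
  obtain ⟨t, rfl⟩ := h
  apply exists_pt_of_mem_range
  refine ⟨Points.map p₂ (Points.map (inv p₁) t), ?_⟩
  rw [← Points.map_comp, ← Points.map_comp, ← hP.w, IsIso.inv_hom_id_assoc]

include hrange hP in
theorem cov1 (W : EtOver X) : sieve1 U V W ∈ etTop X W := by
  rw [mem_etTop_iff]
  intro w
  by_cases hξ : pt W w ∈ Set.range (Points.map U.obj.hom)
  · obtain ⟨u, hu⟩ := exists_pt_of_mem_range U hξ
    obtain ⟨z, hz, -⟩ := exists_prod_point W U w u hu.symm
    exact ⟨_, EtOver.prodFst W U, Or.inl ⟨EtOver.prodSnd W U⟩, z, hz⟩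
  · have hξ' : pt W w ∈ Set.range (Points.map i) := by rw [hrange]; exact hξ
    obtain ⟨v, hv⟩ := exists_pt_V hP hξ'
    obtain ⟨z, hz, -⟩ := exists_prod_point W V w v hv.symm
    exact ⟨_, EtOver.prodFst W V, Or.inr ⟨EtOver.prodSnd W V⟩, z, hz⟩

include hP in
/-- Two maps to `V` agree on the closed part. -/
theorem eq_on_closed (hi : RepWith @IsClosedImmersion i) {Z : EtOver X} (v₁ v₂ : Z ⟶ V) :
    hi.1.snd Z.obj.hom ≫ v₁.hom.left = hi.1.snd Z.obj.hom ≫ v₂.hom.left := by
  apply (yon S).map_injective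
  have hw : ∀ v : Z ⟶ V, hi.1.fst Z.obj.hom ≫ i =
      (yon S).map (hi.1.snd Z.obj.hom ≫ v.hom.left) ≫ V.obj.hom := by
    intro v
    rw [Functor.map_comp, Category.assoc, EtOver.w v]
    exact (hi.1.isPullback Z.obj.hom).w
  have h1 : hP.lift _ _ (hw v₁) = hP.lift _ _ (hw v₂) := by
    rw [← cancel_mono p₁, hP.lift_fst, hP.lift_fst]
  have h2 := congrArg (fun l => l ≫ p₂) h1
  simpa using h2

include hrange hP in
theorem cov2 (hi : RepWith @IsClosedImmersion i) (Z : EtOver X) (v₁ v₂ : Z ⟶ V) :
    sieve2 U v₁ v₂ ∈ etTop X Z := by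
  rw [mem_etTop_iff]
  intro z
  by_cases hξ : pt Z z ∈ Set.range (Points.map U.obj.hom)
  · obtain ⟨u, hu⟩ := exists_pt_of_mem_range U hξ
    obtain ⟨y, hy, -⟩ := exists_prod_point Z U z u hu.symm
    exact ⟨_, EtOver.prodFst Z U, Or.inr ⟨EtOver.prodSnd Z U⟩, y, hy⟩
  · have hξ' : pt Z z ∈ Set.range (Points.map i) := by rw [hrange]; exact hξ
    obtain ⟨t, ht⟩ := hξ'
    obtain ⟨p', -, hp'⟩ := Groth.Agent.Helper4.AlgSpPtsDesc.exists_point_of_isPullback
      (hi.1.isPullback Z.obj.hom) t (Points.ofScheme _ z) (by rw [ht, pt_eq_map])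
    have hz' : (hi.1.snd Z.obj.hom).left (Points.toScheme _ p') = z := by
      have h2 := congrArg (Points.toScheme _) hp'
      rw [← Points.ofScheme_toScheme _ p', Points.map_ofPt, Category.id_comp, Points.toScheme_ofPt,
        Points.toScheme_ofScheme] at h2
      exact h2
    let δ : V ⟶ EtOver.prodObj V V := (EtOver.prodIsLimit V V).lift (BinaryFan.mk (𝟙 V) (𝟙 V))
    let m : Z ⟶ EtOver.prodObj V V := (EtOver.prodIsLimit V V).lift (BinaryFan.mk v₁ v₂)
    have hδ1 : δ ≫ EtOver.prodFst V V = 𝟙 V :=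
      (EtOver.prodIsLimit V V).fac (BinaryFan.mk (𝟙 V) (𝟙 V)) ⟨WalkingPair.left⟩
    have hδ2 : δ ≫ EtOver.prodSnd V V = 𝟙 V :=
      (EtOver.prodIsLimit V V).fac (BinaryFan.mk (𝟙 V) (𝟙 V)) ⟨WalkingPair.right⟩
    have hm1 : m ≫ EtOver.prodFst V V = v₁ :=
      (EtOver.prodIsLimit V V).fac (BinaryFan.mk v₁ v₂) ⟨WalkingPair.left⟩
    have hm2 : m ≫ EtOver.prodSnd V V = v₂ :=
      (EtOver.prodIsLimit V V).fac (BinaryFan.mk v₁ v₂) ⟨WalkingPair.right⟩
    have hkey := eq_on_closed hP hi v₁ v₂
    have hcomm : (hi.1.snd Z.obj.hom ≫ v₁.hom.left) ≫ δ.hom.left =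
        hi.1.snd Z.obj.hom ≫ m.hom.left := by
      apply V.property.1.hom_ext' (g := V.obj.hom)
      · have e1 : δ.hom.left ≫ V.property.1.fst' V.obj.hom = 𝟙 _ :=
          congrArg (fun k => k.hom.left) hδ2
        have e2 : m.hom.left ≫ V.property.1.fst' V.obj.hom = v₂.hom.left :=
          congrArg (fun k => k.hom.left) hm2
        simp only [Category.assoc, e1, e2, Category.comp_id]
        exact hkey
      · have e1 : δ.hom.left ≫ V.property.1.snd V.obj.hom = 𝟙 _ :=
          congrArg (fun k => k.hom.left) hδ1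
        have e2 : m.hom.left ≫ V.property.1.snd V.obj.hom = v₁.hom.left :=
          congrArg (fun k => k.hom.left) hm1
        simp only [Category.assoc, e1, e2, Category.comp_id]
    refine ⟨EtOver.pullbackObj δ m, EtOver.pullbackSnd δ m, Or.inl ?_,
      (pullback.lift (hi.1.snd Z.obj.hom ≫ v₁.hom.left) (hi.1.snd Z.obj.hom) hcomm).left
        (Points.toScheme _ p'), ?_⟩
    · have hc := EtOver.pullback_condition δ m
      have h1 : EtOver.pullbackSnd δ m ≫ v₁ = EtOver.pullbackFst δ m := by
        rw [← hm1, ← Category.assoc, ← hc, Category.assoc, hδ1, Category.comp_id]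
      have h2 : EtOver.pullbackSnd δ m ≫ v₂ = EtOver.pullbackFst δ m := by
        rw [← hm2, ← Category.assoc, ← hc, Category.assoc, hδ2, Category.comp_id]
      rw [h1, h2]
    · change (pullback.lift _ _ hcomm ≫ pullback.snd δ.hom.left m.hom.left).left _ = z
      rw [pullback.lift_snd]
      exact hz'

end Square

/-- An elementary distinguished square gives Mayer–Vietoris data on the small étale site. -/
theorem mvData (hsq : IsElemDistSq U.obj.hom V.obj.hom) :
    MVData (etTop X) (EtOver.prodFst U V) (EtOver.prodSnd U V) := by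
  obtain ⟨hj, -, T, P, i, p₁, p₂, ⟨hi, hrange, -⟩, hP, hiso⟩ := hsq
  have hmono : Mono U.obj.hom := Groth.Agent.Helper4.AlgSpBasic.mono_of_repWith
    (P := @IsOpenImmersion) (fun g hg => by
      have : IsOpenImmersion g := hg
      infer_instance) _ hj
  exact
    { sub := fun a b => hom_subsingleton U hmono a b
      cov1 := cov1 hrange hP
      cov2 := cov2 hrange hP hi
      lim := ⟨EtOver.prodIsLimit U V⟩ }

end Groth.Agent.Helper9.AlgMVA
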