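import Mathlib
import Groth.Prelude.Def_W4SpPerfMV
import Groth.Prelude.Def_AlgSpSub
import Groth.Agent.Helper9.AlgMVA

/-! Mayer–Vietoris short exact sequence for modules on the small étale site. -/

set_option autoImplicit false
open CategoryTheory CategoryTheory.Limits AlgebraicGeometry Opposite

universe u

namespace Groth.Agent.Helper9.AlgMVC

open AlgSp Groth.Agent.Helper9.AlgMVA Groth.Agent.Helper9.AlgMVB

set_option backward.isDefEq.respectTransparency false

variable {S : Scheme.{u}} {X : Sp S} (U V : EtOver X)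

theorem isSheaf_types (F : ModEt X) :
    Presieve.IsSheaf (etTop X) (F.val.presheaf ⋙ forget AddCommGrpCat) :=
  (isSheaf_iff_isSheaf_of_type _ _).1
    ((Presheaf.isSheaf_iff_isSheaf_forget _ _ (forget AddCommGrpCat.{u+1})).1 F.isSheaf)

theorem isPullback (D : MVData (etTop X) (EtOver.prodFst U V) (EtOver.prodSnd U V)) (F : ModEt X) :
    IsPullback ((resPushAdjEt U).unit.app F) ((resPushAdjEt V).unit.app F)
      ((pushResNatTrans (EtOver.prodFst U V)).app F) ((pushResNatTrans (EtOver.prodSnd U V)).app F) := by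
  apply IsPullback.of_map_of_faithful (SheafOfModules.toSheaf.{u+1} (OEtRing X))
  apply IsPullback.of_map_of_faithful (sheafToPresheaf (etTop X) AddCommGrpCat.{u+1})
  apply IsPullback.of_forall_isPullback_app
  intro W
  apply IsPullback.of_map_of_faithful (forget AddCommGrpCat.{u+1})
  rw [Types.isPullback_iff]
  induction W using Opposite.rec with
  | op W =>
  let P := F.val.presheaf ⋙ forget AddCommGrpCat.{u+1}
  have hP : Presieve.IsSheaf (etTop X) P := isSheaf_types F
  have hcomm : ∀ x : P.obj (op W),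
      P.map (prod.map (EtOver.prodFst U V) (𝟙 W)).op (P.map (prod.snd : U ⨯ W ⟶ W).op x) =
        P.map (prod.map (EtOver.prodSnd U V) (𝟙 W)).op (P.map (prod.snd : V ⨯ W ⟶ W).op x) := by
    intro x
    rw [← Functor.map_comp_apply, ← Functor.map_comp_apply, ← op_comp, ← op_comp,
      prod.map_snd, prod.map_snd]
  refine ⟨?_, ?_, ?_⟩
  · ext x
    exact hcomm x
  · rintro x₁ y₁ ⟨h1, h2⟩
    have h1' : P.map (prod.snd : U ⨯ W ⟶ W).op x₁ = P.map (prod.snd : U ⨯ W ⟶ W).op y₁ := h1
    have h2' : P.map (prod.snd : V ⨯ W ⟶ W).op x₁ = P.map (prod.snd : V ⨯ W ⟶ W).op y₁ := h2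
    obtain ⟨a, -, hauniq⟩ := D.existsUnique_glue hP
      (P.map (prod.snd : U ⨯ W ⟶ W).op x₁) (P.map (prod.snd : V ⨯ W ⟶ W).op x₁) (hcomm x₁)
    have e1 : x₁ = a := hauniq x₁ ⟨rfl, rfl⟩
    have e2 : y₁ = a := hauniq y₁ ⟨h1'.symm, h2'.symm⟩
    exact e1.trans e2.symm
  · intro b₁ b₂ hb
    have hb' : P.map (prod.map (EtOver.prodFst U V) (𝟙 W)).op b₁ =
        P.map (prod.map (EtOver.prodSnd U V) (𝟙 W)).op b₂ := hb
    obtain ⟨a, ⟨ha1, ha2⟩, -⟩ := D.existsUnique_glue hP b₁ b₂ hb'
    exact ⟨a, ha1, ha2⟩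

theorem epi (D : MVData (etTop X) (EtOver.prodFst U V) (EtOver.prodSnd U V)) (F : ModEt X) :
    Epi (biprod.desc ((pushResNatTrans (EtOver.prodFst U V)).app F)
      (-((pushResNatTrans (EtOver.prodSnd U V)).app F))) := by
  apply Preadditive.epi_of_cancel_zero
  intro T φ hφ
  have h1 : (pushResNatTrans (EtOver.prodFst U V)).app F ≫ φ = 0 := by
    have := congrArg (fun k => biprod.inl ≫ k) hφ
    simpa using this
  have h2 : (pushResNatTrans (EtOver.prodSnd U V)).app F ≫ φ = 0 := by
    have := congrArg (fun k => biprod.inr ≫ k) hφ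
    simpa using this
  ext W c
  induction W using Opposite.rec with
  | op W =>
  have hT := isSheaf_types T
  change (ModuleCat.Hom.hom (φ.val.app (op W))) c = 0
  have hcov := D.sieve3_mem (G := F.val.presheaf) (isSheaf_types F) (W := W) c
  apply (hT _ hcov).isSeparatedFor.ext
  rintro W' g ⟨b₁, b₂, hb⟩
  let b₁' : ((resModEt U ⋙ pushOnModEt U).obj F).val.obj (op W') := b₁
  let b₂' : ((resModEt V ⋙ pushOnModEt V).obj F).val.obj (op W') := b₂
  have e1 : (ModuleCat.Hom.hom (φ.val.app (op W')))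
      ((ModuleCat.Hom.hom (((pushResNatTrans (EtOver.prodFst U V)).app F).val.app (op W'))) b₁') = 0 :=
    congrArg (fun k => (ModuleCat.Hom.hom (k.val.app (op W'))) b₁') h1
  have e2 : (ModuleCat.Hom.hom (φ.val.app (op W')))
      ((ModuleCat.Hom.hom (((pushResNatTrans (EtOver.prodSnd U V)).app F).val.app (op W'))) b₂') = 0 :=
    congrArg (fun k => (ModuleCat.Hom.hom (k.val.app (op W'))) b₂') h2
  have hnat := PresheafOfModules.naturality_apply φ.val g.op c
  change T.val.map g.op ((ModuleCat.Hom.hom (φ.val.app (op W))) c) = T.val.map g.op 0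
  rw [← hnat, map_zero]
  have hb' : ((resModEt (EtOver.prodObj U V) ⋙ pushOnModEt (EtOver.prodObj U V)).obj F).val.map g.op c =
      (ModuleCat.Hom.hom (((pushResNatTrans (EtOver.prodFst U V)).app F).val.app (op W'))) b₁' -
      (ModuleCat.Hom.hom (((pushResNatTrans (EtOver.prodSnd U V)).app F).val.app (op W'))) b₂' := hb.symm
  rw [hb', map_sub, e1, e2, sub_zero]

/-- The Mayer–Vietoris short exact sequence. -/
theorem shortExact (hsq : IsElemDistSq U.obj.hom V.obj.hom) (F : ModEt X) :
    ∃ h : biprod.lift ((resPushAdjEt U).unit.app F) ((resPushAdjEt V).unit.app F) ≫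
        biprod.desc ((pushResNatTrans (EtOver.prodFst U V)).app F)
          (-((pushResNatTrans (EtOver.prodSnd U V)).app F)) = 0,
      (ShortComplex.mk _ _ h).ShortExact := by
  have D := mvData U V hsq
  have sq := isPullback U V D F
  have hepi := epi U V D F
  refine ⟨sq.toCommSq.shortComplex'.zero, ?_⟩
  have hex : sq.toCommSq.shortComplex'.Exact := sq.exact_shortComplex'
  have hmono : Mono sq.toCommSq.shortComplex'.f := sq.mono_shortComplex'_f
  exact ShortComplex.ShortExact.mk' hex hmono hepi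

end Groth.Agent.Helper9.AlgMVC
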