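import Mathlib
import Groth.Prelude.Def_AlgSpOX3
import Groth.Prelude.Def_AlgSpOX2
import Groth.Agent.Helper9.AlgFFC

/-! Direct image of modules along a closed immersion of algebraic spaces is fully faithful:
affine domination and surjectivity of the ring map. -/

set_option autoImplicit false
open CategoryTheory CategoryTheory.Limits AlgebraicGeometry Opposite

universe u

namespace Groth.Agent.Helper9.AlgModFFA

open AlgSp Groth.Agent.Helper9.AlgPtB Groth.Agent.Helper9.AlgPushA

set_option backward.isDefEq.respectTransparency false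

variable {S : Scheme.{u}} {X Y : Sp S} {f : X ⟶ Y} (hf : Representable f)

/-- Every object of the small étale site of `X` is covered by base changes of affine objects. -/
theorem exists_affine_dom (hY : IsAlgSpace Y) (hint : RepWith @IsIntegralHom f)
    (hinj : RepWith @UniversallyInjective f) (M : EtOver X) (m : M.obj.left.left) :
    ∃ (N : EtOver Y) (h : (EtOver.bc hf).obj N ⟶ M), IsAffine N.obj.left.left ∧
      m ∈ Set.range h.hom.left.left := by
  obtain ⟨N₀, h₀, q, hq⟩ := Groth.Agent.Helper9.AlgFFA.key1 hf hY hint hinj M m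
  let n : N₀.obj.left.left := (hf.snd N₀.obj.hom).left q
  obtain ⟨V, hV, hnV⟩ : ∃ V : N₀.obj.left.left.Opens, IsAffineOpen V ∧ n ∈ V := by
    obtain ⟨_, ⟨V, hV, rfl⟩, hn, -⟩ :=
      (N₀.obj.left.left.isBasis_affineOpens).exists_subset_of_mem_open
        (Set.mem_univ n) isOpen_univ
    exact ⟨V, hV, hn⟩
  let N : EtOver Y := (chart N₀).obj (Scheme.Etale.mk V.ι)
  let s : N ⟶ N₀ := σ N₀ _
  have hs : s.hom.left.left = V.ι := rfl
  have sq := EtOver.isPullback_bcMap_left hf s
  obtain ⟨n', hn'⟩ : ∃ n' : V.toScheme, V.ι n' = n := by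
    have : n ∈ Set.range V.ι.base := by
      rw [Scheme.Opens.range_ι]
      exact hnV
    exact this
  obtain ⟨w, hw1, hw2⟩ := Scheme.Pullback.exists_preimage_pullback
    (f := (hf.snd N₀.obj.hom).left) (g := s.hom.left.left) q n' hn'.symm
  refine ⟨N, (EtOver.bc hf).map s ≫ h₀, hV, ⟨sq.isoPullback.inv w, ?_⟩⟩
  show (((EtOver.bc hf).map s).hom.left.left ≫ h₀.hom.left.left) (sq.isoPullback.inv w) = m
  rw [Scheme.Hom.comp_apply]
  have e1 : ((EtOver.bc hf).map s).hom.left.left (sq.isoPullback.inv w) = q := by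
    have := congrArg (fun k : pullback (hf.snd N₀.obj.hom).left s.hom.left.left ⟶ _ => k w)
      sq.isoPullback_inv_fst
    exact this.trans hw1
  rw [e1, hq]


/-- For a closed immersion, the ring map `O_Y(N) ⟶ O_X(N ×_Y X)` is surjective for affine `N`. -/
theorem bcRingHom_surjective (hcl : RepWith @IsClosedImmersion f) (N : EtOver Y)
    (hN : IsAffine N.obj.left.left) :
    Function.Surjective ((bcRingHom hf).hom.app (op N)).hom := by
  have hg : IsClosedImmersion (hf.snd N.obj.hom).left := hcl.property_snd N.obj.hom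
  obtain ⟨-, hs⟩ := IsClosedImmersion.isAffine_surjective_of_isAffine (hf.snd N.obj.hom).left
  intro y
  obtain ⟨x, hx⟩ := hs y.down
  refine ⟨ULift.up x, ?_⟩
  apply ULift.ext
  exact hx

end Groth.Agent.Helper9.AlgModFFA
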