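import Mathlib
import Groth.Prelude.Def_AlgSpOX3
import Groth.Prelude.Def_AlgSpOX2
import Groth.Agent.Helper9.AlgModFFA

/-! Direct image of modules along a closed immersion of algebraic spaces is fully faithful. -/

set_option autoImplicit false
open CategoryTheory CategoryTheory.Limits AlgebraicGeometry Opposite

universe u

namespace Groth.Agent.Helper9.AlgModFFB

open AlgSp Groth.Agent.Helper9.AlgPtB Groth.Agent.Helper9.AlgPushA

set_option backward.isDefEq.respectTransparency false

variable {S : Scheme.{u}} {X Y : Sp S} {f : X ⟶ Y} (hf : Representable f)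
  (hY : IsAlgSpace Y) (hcl : RepWith @IsClosedImmersion f)

include hY hcl

theorem faithful_pushModEt : (pushModEt hf).Faithful := by
  have hint : RepWith @IsIntegralHom f :=
    MorphismProperty.relative_monotone (fun (A B : Over S) (g : A ⟶ B)
      (hg : IsClosedImmersion g.left) => (show IsIntegralHom g.left from inferInstance)) _ hcl
  have hinj : RepWith @UniversallyInjective f :=
    MorphismProperty.relative_monotone (fun (A B : Over S) (g : A ⟶ B)
      (hg : IsClosedImmersion g.left) => (show UniversallyInjective g.left from inferInstance)) _ hcl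
  obtain ⟨-, hfa⟩ := Groth.Agent.Helper9.AlgFFC.full_faithful hf hY hint hinj AddCommGrpCat.{u + 1}
  constructor
  intro M N a b hab
  have h1 : (pushEt hf AddCommGrpCat.{u + 1}).map ((toAbEt X).map a) =
      (pushEt hf AddCommGrpCat.{u + 1}).map ((toAbEt X).map b) :=
    congrArg (fun k => (toAbEt Y).map k) hab
  exact (toAbEt X).map_injective ((pushEt hf AddCommGrpCat.{u + 1}).map_injective h1)


theorem full_pushModEt : (pushModEt hf).Full := by
  have hint : RepWith @IsIntegralHom f :=
    MorphismProperty.relative_monotone (fun (A B : Over S) (g : A ⟶ B)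
      (hg : IsClosedImmersion g.left) => (show IsIntegralHom g.left from inferInstance)) _ hcl
  have hinj : RepWith @UniversallyInjective f :=
    MorphismProperty.relative_monotone (fun (A B : Over S) (g : A ⟶ B)
      (hg : IsClosedImmersion g.left) => (show UniversallyInjective g.left from inferInstance)) _ hcl
  obtain ⟨hfu, -⟩ := Groth.Agent.Helper9.AlgFFC.full_faithful hf hY hint hinj AddCommGrpCat.{u + 1}
  constructor
  intro M N φ
  let φab : (pushEt hf AddCommGrpCat.{u + 1}).obj ((toAbEt X).obj M) ⟶
      (pushEt hf AddCommGrpCat.{u + 1}).obj ((toAbEt X).obj N) := (toAbEt Y).map φ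
  obtain ⟨ψab, hψ⟩ := (pushEt hf AddCommGrpCat.{u + 1}).map_surjective φab
  let ψp : M.val.presheaf ⟶ N.val.presheaf := ψab.hom
  -- linearity on base changes of affine objects
  have hlinV : ∀ (V : EtOver Y), IsAffine V.obj.left.left →
      ∀ (r : (OEtRing X).obj.obj (op ((EtOver.bc hf).obj V)))
        (m : M.val.obj (op ((EtOver.bc hf).obj V))),
        ψp.app (op ((EtOver.bc hf).obj V)) (r • m) =
          r • ψp.app (op ((EtOver.bc hf).obj V)) m := by
    intro V hV r m
    obtain ⟨a, ha⟩ := Groth.Agent.Helper9.AlgModFFA.bcRingHom_surjective hf hcl V hV r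
    subst ha
    have e1 : ψp.app (op ((EtOver.bc hf).obj V)) = φab.hom.app (op V) := by
      rw [← hψ]
      rfl
    rw [e1]
    exact (φ.val.app (op V)).hom.map_smul a m
  have hNsh : Presieve.IsSheaf (etTop X) (N.val.presheaf ⋙ forget AddCommGrpCat.{u + 1}) :=
    (isSheaf_iff_isSheaf_of_type _ _).1
      ((Presheaf.isSheaf_iff_isSheaf_forget _ _ (forget AddCommGrpCat.{u + 1})).1 N.isSheaf)
  have hlin : ∀ (W : (EtOver X)ᵒᵖ) (r : (OEtRing X).obj.obj W) (m : M.val.obj W),
      ψp.app W (r • m) = r • ψp.app W m := by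
    intro W r m
    choose Nw hw hNw hmem using fun w : W.unop.obj.left.left =>
      Groth.Agent.Helper9.AlgModFFA.exists_affine_dom hf hY hint hinj W.unop w
    have hcov : Sieve.ofArrows _ hw ∈ etTop X W.unop :=
      ofArrows_mem_etTop _ hw (fun w => ⟨w, hmem w⟩)
    have hsep : Presieve.IsSeparatedFor (N.val.presheaf ⋙ forget AddCommGrpCat.{u + 1})
        (Presieve.ofArrows _ hw) :=
      ((Presieve.isSheafFor_iff_generate _).2 (hNsh _ hcov)).isSeparatedFor
    apply hsep.ext
    rintro _ _ ⟨w⟩
    have n1 : ∀ x : M.val.obj W, N.val.map (hw w).op (ψp.app W x) =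
        ψp.app _ (M.val.map (hw w).op x) := fun x =>
      (NatTrans.naturality_apply ψp (hw w).op x).symm
    show N.val.map (hw w).op (ψp.app W (r • m)) = N.val.map (hw w).op (r • ψp.app W m)
    rw [n1, PresheafOfModules.map_smul, hlinV (Nw w) (hNw w), ← n1]
    exact (PresheafOfModules.map_smul N.val (hw w).op r (ψp.app W m)).symm
  let ψ : M ⟶ N := ⟨PresheafOfModules.homMk ψp hlin⟩
  refine ⟨ψ, ?_⟩
  apply (toAbEt Y).map_injective
  exact hψ


theorem isIso_counit [(SheafOfModules.pushforward.{u + 1} (bcRingHom hf)).IsRightAdjoint]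
    (G : ModEt X) : IsIso ((pullPushAdjModEt hf).counit.app G) := by
  haveI := full_pushModEt hf hY hcl
  haveI := faithful_pushModEt hf hY hcl
  infer_instance

end Groth.Agent.Helper9.AlgModFFB
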