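import Mathlib

set_option autoImplicit false
open CategoryTheory CategoryTheory.Limits AlgebraicGeometry Opposite

universe u

namespace Groth.Agent.Helper9.AlgPtC

/-- The spectrum of a field extension is an epimorphism of schemes. -/
theorem epi_specMap_field {K L : Type u} [Field K] [Field L] (ρ : K →+* L) :
    Epi (Spec.map (CommRingCat.ofHom ρ)) := by
  have h1 : Flat (Spec.map (CommRingCat.ofHom ρ)) := by
    rw [HasRingHomProperty.Spec_iff (P := @Flat)]
    letI := ρ.toAlgebra
    show RingHom.Flat (algebraMap K L)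
    rw [RingHom.flat_algebraMap_iff]
    infer_instance
  have h2 : Surjective (Spec.map (CommRingCat.ofHom ρ)) := by
    constructor
    intro x
    refine ⟨(⟨⊥, Ideal.isPrime_bot⟩ : PrimeSpectrum L), ?_⟩
    apply PrimeSpectrum.ext
    exact (Ideal.eq_bot_of_prime _).trans (Ideal.eq_bot_of_prime _).symm
  exact Flat.epi_of_flat_of_surjective _

theorem specField_eq {K : Type u} [Field K] (a b : Spec (CommRingCat.of K)) : a = b := by
  apply PrimeSpectrum.ext
  exact (Ideal.eq_bot_of_prime _).trans (Ideal.eq_bot_of_prime _).symm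

/-- Points with values in an extension of a separably closed field of a scheme étale over that
field descend. -/
theorem exists_section_of_etale_of_isSepClosed {κ L : Type u} [Field κ] [Field L] [IsSepClosed κ]
    (ρ : κ →+* L) {T : Scheme.{u}} (g : T ⟶ Spec (CommRingCat.of κ)) [Etale g]
    (s : Spec (CommRingCat.of L) ⟶ T) (hs : s ≫ g = Spec.map (CommRingCat.ofHom ρ)) :
    ∃ l : Spec (CommRingCat.of κ) ⟶ T, l ≫ g = 𝟙 _ ∧ Spec.map (CommRingCat.ofHom ρ) ≫ l = s := by
  let x₀ : Spec (CommRingCat.of L) := (⟨⊥, Ideal.isPrime_bot⟩ : PrimeSpectrum L)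
  obtain ⟨l, hl, hlx⟩ := Scheme.exists_fac_of_etale_of_isSepClosed g (𝟙 (Spec (CommRingCat.of κ)))
    (s x₀) (specField_eq _ _)
  have hle : Etale l := by
    refine MorphismProperty.HasOfPostcompProperty.of_postcomp (W := @Etale) l g ‹Etale g› ?_
    rw [hl]
    infer_instance
  have hlm : Mono l := mono_of_mono_fac hl
  have hlo : IsOpenImmersion l := IsOpenImmersion.of_flat_of_mono l
  have hrange : Set.range s ⊆ Set.range l := by
    rintro _ ⟨x, rfl⟩
    rw [specField_eq x x₀, ← hlx]
    exact ⟨_, rfl⟩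
  refine ⟨l, hl, ?_⟩
  have h1 : IsOpenImmersion.lift l s hrange ≫ l = s := IsOpenImmersion.lift_fac l s hrange
  have h2 : IsOpenImmersion.lift l s hrange = Spec.map (CommRingCat.ofHom ρ) := by
    have h3 := congrArg (· ≫ g) h1
    simp only [Category.assoc, hl, Category.comp_id] at h3
    rw [h3, hs]
  rw [← h2]
  exact h1

/-- Points of an étale scheme with values in an extension of a separably closed field descend to
the separably closed field. -/
theorem exists_descent_of_etale_of_isSepClosed {κ L : Type u} [Field κ] [Field L] [IsSepClosed κ]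
    (ρ : κ →+* L) {V U : Scheme.{u}} (f : V ⟶ U) [Etale f]
    (ξ : Spec (CommRingCat.of κ) ⟶ U) (s : Spec (CommRingCat.of L) ⟶ V)
    (hs : s ≫ f = Spec.map (CommRingCat.ofHom ρ) ≫ ξ) :
    ∃ t : Spec (CommRingCat.of κ) ⟶ V, t ≫ f = ξ ∧ Spec.map (CommRingCat.ofHom ρ) ≫ t = s := by
  let g := pullback.snd f ξ
  let s' : Spec (CommRingCat.of L) ⟶ pullback f ξ :=
    pullback.lift s (Spec.map (CommRingCat.ofHom ρ)) hs
  have hs' : s' ≫ g = Spec.map (CommRingCat.ofHom ρ) := pullback.lift_snd _ _ _
  obtain ⟨l, hl, hl2⟩ := exists_section_of_etale_of_isSepClosed ρ g s' hs'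
  refine ⟨l ≫ pullback.fst f ξ, ?_, ?_⟩
  · rw [Category.assoc, pullback.condition, ← Category.assoc]
    show (l ≫ g) ≫ ξ = ξ
    rw [hl, Category.id_comp]
  · rw [← Category.assoc, hl2]
    exact pullback.lift_fst _ _ _

end Groth.Agent.Helper9.AlgPtC
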