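import Mathlib
import Groth.Statements.S0656

set_option autoImplicit false
open CategoryTheory CategoryTheory.Limits AlgebraicGeometry Opposite

universe u

namespace Groth.Agent.Helper9.PtGeoA

variable {S : Scheme.{u}} (Φ : GrothendieckTopology.Point.{u} S.smallEtaleTopology)

/-- Jointly surjective families of morphisms in the small étale site lift elements of the fibre. -/
theorem exists_lift_of_family {W : S.Etale} {ι : Type*} {Z : ι → S.Etale} (f : ∀ i, Z i ⟶ W)
    (hf : ⋃ i, Set.range (f i).left = Set.univ) (x : Φ.fiber.obj W) :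
    ∃ (i : ι) (y : Φ.fiber.obj (Z i)), Φ.fiber.map (f i) y = x := by
  have h := (Scheme.ofArrows_mem_smallEtaleTopology_iff f).2 hf
  obtain ⟨Y, g, hg, y, hy⟩ := Φ.jointly_surjective _ h x
  obtain ⟨i, a, rfl⟩ : ∃ (i : ι) (a : Y ⟶ Z i), a ≫ f i = g := by
    obtain ⟨_, a, _, ⟨i⟩, fac⟩ := hg
    exact ⟨i, a, fac⟩
  exact ⟨i, Φ.fiber.map a y, by rw [← hy]; simp⟩

/-- A surjective morphism of the small étale site lifts elements of the fibre. -/
theorem exists_lift_of_surjective {W Z : S.Etale} (f : Z ⟶ W)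
    (hf : Function.Surjective f.left) (x : Φ.fiber.obj W) :
    ∃ (y : Φ.fiber.obj Z), Φ.fiber.map f y = x := by
  obtain ⟨_, y, hy⟩ := exists_lift_of_family Φ (ι := PUnit.{1}) (Z := fun _ => Z) (fun _ => f)
    (by
      ext w
      simp only [Set.mem_iUnion, Set.mem_range, Set.mem_univ, iff_true]
      obtain ⟨z, hz⟩ := hf w
      exact ⟨PUnit.unit, z, hz⟩) x
  exact ⟨y, hy⟩

/-- The fibre over an étale scheme with empty underlying space is empty. -/
theorem isEmpty_fiber_of_isEmpty (W : S.Etale) [IsEmpty W.left] : IsEmpty (Φ.fiber.obj W) := by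
  constructor
  intro x
  obtain ⟨i, _, _⟩ := exists_lift_of_family Φ (W := W) (ι := PEmpty.{1}) (Z := fun i => i.elim)
    (fun i => i.elim) (by
      ext w
      exact (IsEmpty.false w).elim) x
  exact i.elim

/-- The structure presheaf of rings on the small étale site. -/
noncomputable def ringPsh (S : Scheme.{u}) : S.Etaleᵒᵖ ⥤ CommRingCat.{u} :=
  (Scheme.Etale.forget S ⋙ Over.forget S).op ⋙ Scheme.Γ

/-- The local ring of the point: the fibre of the structure presheaf. -/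
noncomputable def O : CommRingCat.{u} := Φ.presheafFiber.obj (ringPsh S)

/-- Affine elements of the fibre functor. -/
structure Aff where
  R : CommRingCat.{u}
  f : Spec R ⟶ S
  et : Etale f
  x : Φ.fiber.obj (Scheme.Etale.mk f)

attribute [instance] Aff.et

variable {Φ}

/-- The object of the small étale site underlying an affine element. -/
noncomputable abbrev Aff.obj (e : Aff Φ) : S.Etale := Scheme.Etale.mk e.f

/-- The canonical ring map `R ⟶ O` of an affine element. -/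
noncomputable def Aff.ι (e : Aff Φ) : e.R ⟶ O Φ :=
  (Scheme.ΓSpecIso e.R).inv ≫ Φ.toPresheafFiber e.obj e.x (ringPsh S)

/-- Morphisms of affine elements. -/
structure Aff.Hom (e' e : Aff Φ) where
  φ : e.R ⟶ e'.R
  w : Spec.map φ ≫ e.f = e'.f
  hx : Φ.fiber.map (MorphismProperty.Over.homMk (Spec.map φ) w : e'.obj ⟶ e.obj) e'.x = e.x

/-- The morphism of the étale site underlying a morphism of affine elements. -/
noncomputable abbrev Aff.Hom.hom {e' e : Aff Φ} (h : Aff.Hom e' e) : e'.obj ⟶ e.obj :=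
  MorphismProperty.Over.homMk (Spec.map h.φ) h.w

theorem Aff.Hom.ι_comp {e' e : Aff Φ} (h : Aff.Hom e' e) : h.φ ≫ e'.ι = e.ι := by
  have h1 := Φ.toPresheafFiber_w h.hom e'.x (ringPsh S)
  rw [h.hx] at h1
  have h2 : h.φ ≫ (Scheme.ΓSpecIso e'.R).inv =
      (Scheme.ΓSpecIso e.R).inv ≫ (ringPsh S).map h.hom.op :=
    Scheme.ΓSpecIso_inv_naturality h.φ
  unfold Aff.ι
  rw [← h1]
  exact (Category.assoc _ _ _).symm.trans ((congrArg (· ≫ _) h2).trans (Category.assoc _ _ _))


/-- A morphism of the étale site between affine elements compatible with the chosen points gives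
a morphism of affine elements. -/
noncomputable def Aff.Hom.ofHom {e' e : Aff Φ} (g : e'.obj ⟶ e.obj)
    (hg : Φ.fiber.map g e'.x = e.x) : Aff.Hom e' e where
  φ := Spec.preimage g.left
  w := by
    rw [Spec.map_preimage]
    exact MorphismProperty.Over.w g
  hx := by
    convert hg
    apply MorphismProperty.Over.Hom.ext
    exact Spec.map_preimage _

theorem Aff.Hom.ofHom_hom {e' e : Aff Φ} (g : e'.obj ⟶ e.obj)
    (hg : Φ.fiber.map g e'.x = e.x) : (Aff.Hom.ofHom g hg).hom = g := by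
  apply MorphismProperty.Over.Hom.ext
  exact Spec.map_preimage _

/-- Every element of the fibre functor is refined by an affine element (along an open
immersion). -/
theorem exists_aff_refine (U : S.Etale) (x : Φ.fiber.obj U) :
    ∃ (e : Aff Φ) (g : e.obj ⟶ U), IsOpenImmersion g.left ∧ Φ.fiber.map g e.x = x := by
  let 𝒰 := U.left.affineOpenCover
  obtain ⟨i, y, hy⟩ := exists_lift_of_family Φ (W := U) (ι := 𝒰.I₀)
    (Z := fun i => Scheme.Etale.mk (𝒰.f i ≫ U.hom))
    (fun i => MorphismProperty.Over.homMk (𝒰.f i) rfl) (by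
      ext w
      simp only [Set.mem_iUnion, Set.mem_range, Set.mem_univ, iff_true]
      obtain ⟨z, hz⟩ := 𝒰.covers w
      exact ⟨𝒰.idx w, z, hz⟩) x
  exact ⟨⟨𝒰.X i, 𝒰.f i ≫ U.hom, inferInstance, y⟩, MorphismProperty.Over.homMk (𝒰.f i) rfl,
    (inferInstance : IsOpenImmersion (𝒰.f i)), hy⟩


theorem Aff.exists_common (e₁ e₂ : Aff Φ) :
    ∃ (e : Aff Φ), Nonempty (Aff.Hom e e₁) ∧ Nonempty (Aff.Hom e e₂) := by
  let p₁ : Φ.fiber.Elements := ⟨e₁.obj, e₁.x⟩
  let p₂ : Φ.fiber.Elements := ⟨e₂.obj, e₂.x⟩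
  let m := IsCofiltered.min p₁ p₂
  let a₁ : m ⟶ p₁ := IsCofiltered.minToLeft p₁ p₂
  let a₂ : m ⟶ p₂ := IsCofiltered.minToRight p₁ p₂
  obtain ⟨e, g, -, hg⟩ := exists_aff_refine m.1 m.2
  refine ⟨e, ⟨Aff.Hom.ofHom (g ≫ a₁.1) ?_⟩, ⟨Aff.Hom.ofHom (g ≫ a₂.1) ?_⟩⟩
  · rw [Functor.map_comp]
    show Φ.fiber.map a₁.1 (Φ.fiber.map g e.x) = e₁.x
    rw [hg]
    exact a₁.2
  · rw [Functor.map_comp]
    show Φ.fiber.map a₂.1 (Φ.fiber.map g e.x) = e₂.x
    rw [hg]
    exact a₂.2

theorem Aff.exists_equalizing {e : Aff Φ} {V : S.Etale} (a b : e.obj ⟶ V)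
    (hab : Φ.fiber.map a e.x = Φ.fiber.map b e.x) :
    ∃ (e' : Aff Φ) (h : Aff.Hom e' e), h.hom ≫ a = h.hom ≫ b := by
  let p : Φ.fiber.Elements := ⟨e.obj, e.x⟩
  let q : Φ.fiber.Elements := ⟨V, Φ.fiber.map a e.x⟩
  let fa : p ⟶ q := ⟨a, rfl⟩
  let fb : p ⟶ q := ⟨b, hab.symm⟩
  let m := IsCofiltered.eq fa fb
  let c : m ⟶ p := IsCofiltered.eqHom fa fb
  have hc : c ≫ fa = c ≫ fb := IsCofiltered.eq_condition fa fb
  obtain ⟨e', g, -, hg⟩ := exists_aff_refine m.1 m.2
  have h1 : Φ.fiber.map (g ≫ c.1) e'.x = e.x := by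
    rw [Functor.map_comp]
    show Φ.fiber.map c.1 (Φ.fiber.map g e'.x) = e.x
    rw [hg]
    exact c.2
  refine ⟨e', Aff.Hom.ofHom (g ≫ c.1) h1, ?_⟩
  rw [Aff.Hom.ofHom_hom, Category.assoc, Category.assoc]
  congr 1
  exact congrArg Subtype.val hc


theorem Aff.ι_apply (e : Aff Φ) (r : e.R) :
    e.ι r = Φ.toPresheafFiber e.obj e.x (ringPsh S) ((Scheme.ΓSpecIso e.R).inv r) := rfl

theorem toPresheafFiber_eq_ι {U : S.Etale} {x : Φ.fiber.obj U} (e : Aff Φ) (g : e.obj ⟶ U)
    (hg : Φ.fiber.map g e.x = x) (z : (ringPsh S).obj (op U)) :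
    Φ.toPresheafFiber U x (ringPsh S) z =
      e.ι ((Scheme.ΓSpecIso e.R).hom ((ringPsh S).map g.op z)) := by
  have h1 := Φ.toPresheafFiber_w g e.x (ringPsh S)
  rw [hg] at h1
  rw [Aff.ι_apply, ← h1]
  have : (Scheme.ΓSpecIso e.R).inv ((Scheme.ΓSpecIso e.R).hom ((ringPsh S).map g.op z)) =
      (ringPsh S).map g.op z := by
    rw [← CommRingCat.comp_apply, Iso.hom_inv_id]
    rfl
  rw [this]
  rfl

theorem exists_ι_eq (a : O Φ) : ∃ (e : Aff Φ) (r : e.R), e.ι r = a := by
  obtain ⟨U, x, z, rfl⟩ := Φ.toPresheafFiber_jointly_surjective (P := ringPsh S) a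
  obtain ⟨e, g, -, hg⟩ := exists_aff_refine U x
  exact ⟨e, _, (toPresheafFiber_eq_ι e g hg z).symm⟩

theorem Aff.Hom.ι_apply {e' e : Aff Φ} (h : Aff.Hom e' e) (r : e.R) : e'.ι (h.φ r) = e.ι r := by
  rw [← h.ι_comp]
  rfl

theorem Aff.ι_eq_iff (e : Aff Φ) (r r' : e.R) :
    e.ι r = e.ι r' ↔ ∃ (e' : Aff Φ) (h : Aff.Hom e' e), h.φ r = h.φ r' := by
  constructor
  · intro h
    obtain ⟨Y, f, y, hy, hf⟩ := (Φ.toPresheafFiber_eq_iff' (P := ringPsh S) e.obj e.x
      ((Scheme.ΓSpecIso e.R).inv r : (ringPsh S).obj (op e.obj))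
      ((Scheme.ΓSpecIso e.R).inv r' : (ringPsh S).obj (op e.obj))).1 h
    obtain ⟨e', g, -, hg⟩ := exists_aff_refine Y y
    have h1 : Φ.fiber.map (g ≫ f) e'.x = e.x := by
      rw [Functor.map_comp]
      show Φ.fiber.map f (Φ.fiber.map g e'.x) = e.x
      rw [hg, hy]
    refine ⟨e', Aff.Hom.ofHom (g ≫ f) h1, ?_⟩
    have nat : ∀ t : e.R, (Scheme.ΓSpecIso e'.R).inv ((Aff.Hom.ofHom (g ≫ f) h1).φ t) =
        (ringPsh S).map g.op ((ringPsh S).map f.op ((Scheme.ΓSpecIso e.R).inv t)) := by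
      intro t
      have h2 : (Aff.Hom.ofHom (g ≫ f) h1).φ ≫ (Scheme.ΓSpecIso e'.R).inv =
          (Scheme.ΓSpecIso e.R).inv ≫ (ringPsh S).map (Aff.Hom.ofHom (g ≫ f) h1).hom.op :=
        Scheme.ΓSpecIso_inv_naturality _
      have h3 := congrArg (fun k => k.hom t) h2
      simp only [CommRingCat.hom_comp, RingHom.coe_comp, Function.comp_apply] at h3
      rw [Aff.Hom.ofHom_hom] at h3
      rw [h3, op_comp, Functor.map_comp]
      rfl
    have h4 : (Scheme.ΓSpecIso e'.R).inv ((Aff.Hom.ofHom (g ≫ f) h1).φ r) =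
        (Scheme.ΓSpecIso e'.R).inv ((Aff.Hom.ofHom (g ≫ f) h1).φ r') := by
      rw [nat, nat, hf]
    have inj : Function.Injective (Scheme.ΓSpecIso e'.R).inv := by
      intro a b hab
      have := congrArg (Scheme.ΓSpecIso e'.R).hom hab
      simpa using this
    exact inj h4
  · rintro ⟨e', h, hr⟩
    rw [← h.ι_apply, ← h.ι_apply, hr]


theorem Aff.Hom.comp_w {e'' e' e : Aff Φ} (h' : Aff.Hom e'' e') (h : Aff.Hom e' e) :
    Spec.map (h.φ ≫ h'.φ) ≫ e.f = e''.f := by
  rw [Spec.map_comp, Category.assoc, h.w, h'.w]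

/-- Composition of morphisms of affine elements. -/
noncomputable def Aff.Hom.comp {e'' e' e : Aff Φ} (h' : Aff.Hom e'' e') (h : Aff.Hom e' e) :
    Aff.Hom e'' e where
  φ := h.φ ≫ h'.φ
  w := Aff.Hom.comp_w h' h
  hx := by
    have h1 : (MorphismProperty.Over.homMk (Spec.map (h.φ ≫ h'.φ))
        (Aff.Hom.comp_w h' h) : e''.obj ⟶ e.obj) = h'.hom ≫ h.hom := by
      apply MorphismProperty.Over.Hom.ext
      exact Spec.map_comp _ _
    rw [h1, Functor.map_comp]
    show Φ.fiber.map h.hom (Φ.fiber.map h'.hom e''.x) = e.x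
    rw [h'.hx, h.hx]

/-- An étale algebra over the ring of an affine element together with a lift of the point gives
a new affine element. -/
noncomputable def Aff.ext (e : Aff Φ) {B : CommRingCat.{u}} (φ : e.R ⟶ B) [Etale (Spec.map φ)]
    (y : Φ.fiber.obj (Scheme.Etale.mk (Spec.map φ ≫ e.f))) : Aff Φ :=
  ⟨B, Spec.map φ ≫ e.f, inferInstance, y⟩

noncomputable def Aff.extHom (e : Aff Φ) {B : CommRingCat.{u}} (φ : e.R ⟶ B) [Etale (Spec.map φ)]
    (y : Φ.fiber.obj (Scheme.Etale.mk (Spec.map φ ≫ e.f)))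
    (hy : Φ.fiber.map (MorphismProperty.Over.homMk (Spec.map φ) rfl :
      Scheme.Etale.mk (Spec.map φ ≫ e.f) ⟶ e.obj) y = e.x) : Aff.Hom (e.ext φ y) e :=
  ⟨φ, rfl, hy⟩

variable (Φ) in
theorem nonempty_aff : Nonempty (Aff Φ) := by
  obtain ⟨p⟩ := (IsCofiltered.nonempty : Nonempty Φ.fiber.Elements)
  obtain ⟨e, -⟩ := exists_aff_refine p.1 p.2
  exact ⟨e⟩

theorem Aff.nontrivial_R (e : Aff Φ) : Nontrivial e.R := by
  by_contra hn
  rw [not_nontrivial_iff_subsingleton] at hn
  have : IsEmpty e.obj.left := by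
    show IsEmpty (PrimeSpectrum e.R)
    infer_instance
  exact (isEmpty_fiber_of_isEmpty Φ e.obj).false e.x

instance : Nontrivial (O Φ) := by
  obtain ⟨e⟩ := nonempty_aff Φ
  refine ⟨⟨0, 1, fun h => ?_⟩⟩
  have h1 : e.ι 0 = e.ι 1 := by rw [map_zero, map_one]; exact h
  obtain ⟨e', k, hk⟩ := (e.ι_eq_iff 0 1).1 h1
  rw [map_zero, map_one] at hk
  have := e'.nontrivial_R
  exact zero_ne_one hk


/-- The localisation map of the ring of an affine element. -/
noncomputable abbrev Aff.awayMap (e : Aff Φ) (s : e.R) :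
    e.R ⟶ CommRingCat.of (Localization.Away s) :=
  CommRingCat.ofHom (algebraMap e.R (Localization.Away s))

instance (e : Aff Φ) (s : e.R) : IsOpenImmersion (Spec.map (e.awayMap s)) :=
  inferInstanceAs (IsOpenImmersion (Spec.map (CommRingCat.ofHom
    (algebraMap e.R (Localization.Away s)))))

/-- If a ring map out of the ring of an affine element factors a morphism of affine elements,
the point lifts. -/
theorem Aff.exists_lift_of_factor (e : Aff Φ) {B : CommRingCat.{u}} (φ : e.R ⟶ B)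
    [Etale (Spec.map φ)] {e' : Aff Φ} (h : Aff.Hom e' e) (ψ : B ⟶ e'.R) (hψ : φ ≫ ψ = h.φ) :
    ∃ y : Φ.fiber.obj (Scheme.Etale.mk (Spec.map φ ≫ e.f)),
      Φ.fiber.map (MorphismProperty.Over.homMk (Spec.map φ) rfl :
        Scheme.Etale.mk (Spec.map φ ≫ e.f) ⟶ e.obj) y = e.x := by
  have w : Spec.map ψ ≫ (Spec.map φ ≫ e.f) = e'.f := by
    rw [← Category.assoc, ← Spec.map_comp, hψ, h.w]
  let g : e'.obj ⟶ Scheme.Etale.mk (Spec.map φ ≫ e.f) :=
    MorphismProperty.Over.homMk (Spec.map ψ) w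
  refine ⟨Φ.fiber.map g e'.x, ?_⟩
  have h1 : g ≫ (MorphismProperty.Over.homMk (Spec.map φ) rfl :
      Scheme.Etale.mk (Spec.map φ ≫ e.f) ⟶ e.obj) = h.hom := by
    apply MorphismProperty.Over.Hom.ext
    show Spec.map ψ ≫ Spec.map φ = Spec.map h.φ
    rw [← Spec.map_comp, hψ]
  show (Φ.fiber.map g ≫ Φ.fiber.map _) e'.x = e.x
  rw [← Functor.map_comp, h1]
  exact h.hx

/-- (L1) If `s` becomes a unit in the local ring of the point, the point lifts to `D(s)`. -/
theorem Aff.exists_lift_away (e : Aff Φ) (s : e.R) (hs : IsUnit (e.ι s)) :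
    ∃ y : Φ.fiber.obj (Scheme.Etale.mk (Spec.map (e.awayMap s) ≫ e.f)),
      Φ.fiber.map (MorphismProperty.Over.homMk (Spec.map (e.awayMap s)) rfl :
        Scheme.Etale.mk (Spec.map (e.awayMap s) ≫ e.f) ⟶ e.obj) y = e.x := by
  obtain ⟨c, hc⟩ := hs.exists_right_inv
  obtain ⟨e₁, c₁, rfl⟩ := exists_ι_eq c
  obtain ⟨e₂, ⟨h⟩, ⟨h₁⟩⟩ := Aff.exists_common e e₁
  have h2 : e₂.ι (h.φ s * h₁.φ c₁) = e₂.ι 1 := by
    rw [map_mul, h.ι_apply, h₁.ι_apply, hc, map_one]
  obtain ⟨e₃, h₃, h4⟩ := (e₂.ι_eq_iff _ _).1 h2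
  rw [map_one, map_mul] at h4
  have hu : IsUnit ((h₃.comp h).φ s) := IsUnit.of_mul_eq_one _ h4
  let ψ : CommRingCat.of (Localization.Away s) ⟶ e₃.R :=
    CommRingCat.ofHom (IsLocalization.Away.lift (S := Localization.Away s) s
      (g := (h₃.comp h).φ.hom) hu)
  refine e.exists_lift_of_factor (e.awayMap s) (h₃.comp h) ψ ?_
  ext t
  exact IsLocalization.Away.lift_eq s hu t


theorem mem_range_awayMap {R : CommRingCat.{u}} (s : R) (x : Spec R) (hx : s ∉ x.asIdeal) :
    x ∈ Set.range (Spec.map (CommRingCat.ofHom (algebraMap R (Localization.Away s)))) := by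
  have := PrimeSpectrum.localization_away_comap_range (Localization.Away s) s
  exact (eq_iff_iff.mp congr(x ∈ $this)).mpr hx

theorem isUnit_ι_awayMap (e : Aff Φ) (s : e.R)
    (y : Φ.fiber.obj (Scheme.Etale.mk (Spec.map (e.awayMap s) ≫ e.f)))
    (hy : Φ.fiber.map (MorphismProperty.Over.homMk (Spec.map (e.awayMap s)) rfl :
        Scheme.Etale.mk (Spec.map (e.awayMap s) ≫ e.f) ⟶ e.obj) y = e.x) :
    IsUnit (e.ι s) := by
  rw [← (e.extHom (e.awayMap s) y hy).ι_apply]
  apply IsUnit.map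
  exact IsLocalization.Away.algebraMap_isUnit (S := Localization.Away s) s

instance : IsLocalRing (O Φ) := by
  refine IsLocalRing.of_isUnit_or_isUnit_one_sub_self fun a => ?_
  obtain ⟨e, r, rfl⟩ := exists_ι_eq a
  let t : Bool → e.R := fun b => cond b r (1 - r)
  obtain ⟨b, y, hy⟩ := exists_lift_of_family Φ (W := e.obj) (ι := Bool)
    (Z := fun b => Scheme.Etale.mk (Spec.map (e.awayMap (t b)) ≫ e.f))
    (fun b => MorphismProperty.Over.homMk (Spec.map (e.awayMap (t b))) rfl) (by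
      ext w
      simp only [Set.mem_iUnion, Set.mem_univ, iff_true]
      by_cases hw : r ∈ (show Spec e.R from w).asIdeal
      · refine ⟨false, mem_range_awayMap (1 - r) _ fun h1 => ?_⟩
        exact (show Spec e.R from w).2.ne_top ((Ideal.eq_top_iff_one _).2 (by
          have := Ideal.add_mem _ hw h1
          simpa using this))
      · exact ⟨true, mem_range_awayMap r _ hw⟩) e.x
  have hu := isUnit_ι_awayMap e (t b) y hy
  cases b
  · right
    have : (1 : O Φ) - e.ι r = e.ι (1 - r) := by rw [map_sub, map_one]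
    rw [this]
    exact hu
  · left
    exact hu


variable (Φ) in
/-- The residue field of the local ring of the point. -/
noncomputable abbrev κ : Type u := IsLocalRing.ResidueField (O Φ)

/-- The residue map of an affine element. -/
noncomputable def Aff.res (e : Aff Φ) : e.R →+* κ Φ :=
  (IsLocalRing.residue (O Φ)).comp e.ι.hom

theorem Aff.res_apply (e : Aff Φ) (r : e.R) : e.res r = IsLocalRing.residue (O Φ) (e.ι r) := rfl

theorem Aff.Hom.res_apply {e' e : Aff Φ} (h : Aff.Hom e' e) (r : e.R) :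
    e'.res (h.φ r) = e.res r := by
  rw [Aff.res_apply, Aff.res_apply, h.ι_apply]

theorem Aff.res_ne_zero_iff (e : Aff Φ) (r : e.R) : e.res r ≠ 0 ↔ IsUnit (e.ι r) := by
  rw [Aff.res_apply, ne_eq, IsLocalRing.residue_eq_zero_iff, IsLocalRing.notMem_maximalIdeal]

/-- The point of `Spec R` underlying an affine element. -/
noncomputable def Aff.pt (e : Aff Φ) : Spec e.R :=
  (⟨RingHom.ker e.res, RingHom.ker_isPrime _⟩ : PrimeSpectrum e.R)

theorem Aff.mem_pt_iff (e : Aff Φ) (r : e.R) : r ∈ e.pt.asIdeal ↔ e.res r = 0 :=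
  RingHom.mem_ker

/-- (L2) If the point of an affine element lies in the image of an étale `Spec B → Spec R`,
then the element of the fibre lifts to `Spec B`. -/
theorem Aff.exists_lift_of_mem_range (e : Aff Φ) {B : CommRingCat.{u}} (φ : e.R ⟶ B)
    [Etale (Spec.map φ)] (hpt : e.pt ∈ Set.range (Spec.map φ)) :
    ∃ y : Φ.fiber.obj (Scheme.Etale.mk (Spec.map φ ≫ e.f)),
      Φ.fiber.map (MorphismProperty.Over.homMk (Spec.map φ) rfl :
        Scheme.Etale.mk (Spec.map φ ≫ e.f) ⟶ e.obj) y = e.x := by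
  -- the image is open
  have hopen : IsOpen (Set.range (Spec.map φ)) := (Spec.map φ).isOpenMap.isOpen_range
  obtain ⟨_, ⟨s, rfl⟩, hs, hsub⟩ :=
    PrimeSpectrum.isTopologicalBasis_basic_opens.exists_subset_of_mem_open
      (show (e.pt : PrimeSpectrum e.R) ∈ Set.range (Spec.map φ) from hpt) hopen
  have hs' : s ∉ e.pt.asIdeal := hs
  have hu : IsUnit (e.ι s) := by
    rw [← Aff.res_ne_zero_iff]
    exact fun h => hs' ((e.mem_pt_iff s).2 h)
  obtain ⟨ys, hys⟩ := e.exists_lift_away s hu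
  -- the localised algebra
  let Bs : CommRingCat.{u} := CommRingCat.of (Localization.Away (φ s))
  let β : B ⟶ Bs := CommRingCat.ofHom (algebraMap B (Localization.Away (φ s)))
  have hunit : IsUnit (((algebraMap B (Localization.Away (φ s))).comp φ.hom) s) :=
    IsLocalization.Away.algebraMap_isUnit (S := Localization.Away (φ s)) (φ s)
  let ρ : CommRingCat.of (Localization.Away s) ⟶ Bs :=
    CommRingCat.ofHom (IsLocalization.Away.lift (S := Localization.Away s) s
      (g := (algebraMap B (Localization.Away (φ s))).comp φ.hom) hunit)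
  have hsq : e.awayMap s ≫ ρ = φ ≫ β :=
    CommRingCat.hom_ext (IsLocalization.Away.lift_comp s hunit)
  have : IsOpenImmersion (Spec.map β) :=
    inferInstanceAs (IsOpenImmersion (Spec.map (CommRingCat.ofHom
      (algebraMap B (Localization.Away (φ s))))))
  let T : S.Etale := Scheme.Etale.mk (Spec.map β ≫ Spec.map φ ≫ e.f)
  have w1 : Spec.map ρ ≫ (Spec.map (e.awayMap s) ≫ e.f) = Spec.map β ≫ Spec.map φ ≫ e.f := by
    rw [← Category.assoc, ← Spec.map_comp, hsq, Spec.map_comp, Category.assoc]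
  let g : T ⟶ Scheme.Etale.mk (Spec.map (e.awayMap s) ≫ e.f) :=
    MorphismProperty.Over.homMk (Spec.map ρ) w1
  have hsurj : Function.Surjective g.left := by
    intro q'
    let q : Spec e.R := Spec.map (e.awayMap s) q'
    have hq : q ∈ Set.range (Spec.map φ) := by
      apply hsub
      show s ∉ q.asIdeal
      intro hmem
      have : (e.awayMap s) s ∈ (show PrimeSpectrum _ from q').asIdeal := hmem
      exact (show PrimeSpectrum _ from q').2.ne_top (Ideal.eq_top_of_isUnit_mem _ this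
        (IsLocalization.Away.algebraMap_isUnit (S := Localization.Away s) s))
    obtain ⟨P, hP⟩ := hq
    have hP' : φ s ∉ (show PrimeSpectrum B from P).asIdeal := by
      intro hmem
      have h1 : s ∈ (Spec.map φ P).asIdeal := hmem
      rw [hP] at h1
      have : (e.awayMap s) s ∈ (show PrimeSpectrum _ from q').asIdeal := h1
      exact (show PrimeSpectrum _ from q').2.ne_top (Ideal.eq_top_of_isUnit_mem _ this
        (IsLocalization.Away.algebraMap_isUnit (S := Localization.Away s) s))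
    obtain ⟨P', hP'2⟩ := mem_range_awayMap (φ s) P hP'
    refine ⟨P', ?_⟩
    apply PrimeSpectrum.localization_comap_injective (Localization.Away s) (Submonoid.powers s)
    show Spec.map (e.awayMap s) (Spec.map ρ P') = Spec.map (e.awayMap s) q'
    have h2 : Spec.map (e.awayMap s) (Spec.map ρ P') = Spec.map φ (Spec.map β P') := by
      show (Spec.map ρ ≫ Spec.map (e.awayMap s)) P' = (Spec.map β ≫ Spec.map φ) P'
      rw [← Spec.map_comp, ← Spec.map_comp, hsq]
    rw [h2]
    have h3 : Spec.map β P' = P := hP'2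
    rw [h3, hP]
  obtain ⟨yT, hyT⟩ := exists_lift_of_surjective Φ g hsurj ys
  let k : T ⟶ Scheme.Etale.mk (Spec.map φ ≫ e.f) := MorphismProperty.Over.homMk (Spec.map β) rfl
  refine ⟨Φ.fiber.map k yT, ?_⟩
  have h5 : k ≫ (MorphismProperty.Over.homMk (Spec.map φ) rfl :
      Scheme.Etale.mk (Spec.map φ ≫ e.f) ⟶ e.obj) =
      g ≫ (MorphismProperty.Over.homMk (Spec.map (e.awayMap s)) rfl :
        Scheme.Etale.mk (Spec.map (e.awayMap s) ≫ e.f) ⟶ e.obj) := by
    apply MorphismProperty.Over.Hom.ext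
    show Spec.map β ≫ Spec.map φ = Spec.map ρ ≫ Spec.map (e.awayMap s)
    rw [← Spec.map_comp, ← Spec.map_comp, hsq]
  show (Φ.fiber.map k ≫ Φ.fiber.map _) yT = e.x
  rw [← Functor.map_comp, h5, Functor.map_comp]
  show Φ.fiber.map _ (Φ.fiber.map g yT) = e.x
  rw [hyT, hys]

end Groth.Agent.Helper9.PtGeoA
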