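import Mathlib
import Groth.Agent.Helper9.PtGeoA

set_option autoImplicit false
open CategoryTheory CategoryTheory.Limits AlgebraicGeometry Opposite Polynomial

universe u

namespace Groth.Agent.Helper9.PtGeoB

open Groth.Agent.Helper9.PtGeoA

variable {S : Scheme.{u}} {Φ : GrothendieckTopology.Point.{u} S.smallEtaleTopology}

theorem etale_specMap_algebraMap (R B : Type u) [CommRing R] [CommRing B] [Algebra R B]
    [Algebra.Etale R B] :
    Etale (Spec.map (CommRingCat.ofHom (algebraMap R B))) := by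
  rw [HasRingHomProperty.Spec_iff (P := @Etale)]
  exact RingHom.etale_algebraMap.2 inferInstance

/-- Lifting of simple roots (through standard étale algebras). -/
theorem Aff.exists_lift_root (e : Aff Φ) (f g p₁ p₂ : Polynomial e.R) (n : ℕ) (hf : f.Monic)
    (hcond : derivative f * p₁ + f * p₂ = g ^ n) (a₀ : e.R)
    (h0 : e.res (f.eval a₀) = 0) (h1 : e.res (g.eval a₀) ≠ 0) :
    ∃ (e' : Aff Φ) (h : Aff.Hom e' e) (a : e'.R),
      (f.map h.φ.hom).eval a = 0 ∧ IsUnit ((g.map h.φ.hom).eval a) ∧ e'.res a = e.res a₀ := by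
  set q := f /ₘ (X - C a₀) with hqdef
  have hdiv : f = (X - C a₀) * q + C (f.eval a₀) := by
    have := Polynomial.modByMonic_add_div f (X - C a₀)
    rw [Polynomial.modByMonic_X_sub_C_eq_C_eval, add_comm] at this
    exact this.symm
  have hq : q.eval a₀ = (derivative f).eval a₀ := by
    have := congrArg (fun p => (derivative p).eval a₀) hdiv
    simp only [derivative_add, derivative_mul, derivative_sub, derivative_X, derivative_C,
      sub_zero, one_mul, eval_add, eval_mul, eval_sub, eval_X, eval_C, sub_self, zero_mul,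
      add_zero] at this
    exact this.symm
  let P : StandardEtalePair e.R :=
    ⟨f, hf, g * q, p₁ * q ^ n, p₂ * q ^ n, n, by rw [mul_pow, ← hcond]; ring⟩
  let B : CommRingCat.{u} := CommRingCat.of P.Ring
  let φ : e.R ⟶ B := CommRingCat.ofHom (algebraMap e.R P.Ring)
  have : Etale (Spec.map φ) := etale_specMap_algebraMap e.R P.Ring
  letI : Algebra e.R (κ Φ) := e.res.toAlgebra
  have hres : ∀ r : e.R, algebraMap e.R (κ Φ) r = e.res r := fun _ => rfl
  have hd : e.res ((derivative f).eval a₀) ≠ 0 := by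
    intro hz
    have := congrArg (fun p => e.res (p.eval a₀)) hcond
    simp only [eval_add, eval_mul, eval_pow, map_add, map_mul, map_pow, h0, hz, zero_mul,
      add_zero] at this
    exact pow_ne_zero n h1 this.symm
  have hmap : P.HasMap (e.res a₀) := by
    constructor
    · show aeval (algebraMap e.R (κ Φ) a₀) f = 0
      rw [Polynomial.aeval_algebraMap_apply, Polynomial.coe_aeval_eq_eval, hres, h0]
    · show IsUnit (aeval (algebraMap e.R (κ Φ) a₀) (g * q))
      rw [Polynomial.aeval_algebraMap_apply, Polynomial.coe_aeval_eq_eval, hres, eval_mul,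
        map_mul, hq]
      exact (mul_ne_zero h1 hd).isUnit
  let ψ : P.Ring →ₐ[e.R] κ Φ := P.lift (e.res a₀) hmap
  let Q : PrimeSpectrum P.Ring := ⟨RingHom.ker ψ.toRingHom, RingHom.ker_isPrime _⟩
  have hQ : Spec.map φ (show Spec B from Q) = e.pt := by
    apply PrimeSpectrum.ext
    ext r
    show φ.hom r ∈ RingHom.ker ψ.toRingHom ↔ r ∈ RingHom.ker e.res
    rw [RingHom.mem_ker, RingHom.mem_ker]
    show ψ (algebraMap e.R P.Ring r) = 0 ↔ _
    rw [AlgHom.commutes, hres]
  obtain ⟨y, hy⟩ := e.exists_lift_of_mem_range φ ⟨_, hQ⟩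
  refine ⟨e.ext φ y, e.extHom φ y hy, (P.X : P.Ring), ?_, ?_, ?_⟩
  · show (f.map (algebraMap e.R P.Ring)).eval P.X = 0
    rw [Polynomial.eval_map_algebraMap]
    exact (StandardEtalePair.hasMap_X (P := P)).1
  · show IsUnit ((g.map (algebraMap e.R P.Ring)).eval P.X)
    rw [Polynomial.eval_map_algebraMap]
    have h2 : IsUnit (aeval P.X (g * q)) := (StandardEtalePair.hasMap_X (P := P)).2
    rw [map_mul] at h2
    exact isUnit_of_mul_isUnit_left h2
  · have h2 : IsUnit (aeval P.X (g * q)) := (StandardEtalePair.hasMap_X (P := P)).2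
    rw [map_mul] at h2
    have h3 : IsUnit (aeval (P.X : P.Ring) q) := isUnit_of_mul_isUnit_right h2
    have h4 : aeval (P.X : P.Ring) f = 0 := (StandardEtalePair.hasMap_X (P := P)).1
    have h5 := congrArg (aeval (P.X : P.Ring)) hdiv
    rw [h4, map_add, map_mul, map_sub, aeval_X, aeval_C, aeval_C] at h5
    let ρ : P.Ring →+* κ Φ := (e.ext φ y).res
    have hcomp : ∀ r : e.R, ρ (algebraMap e.R P.Ring r) = e.res r :=
      fun r => (e.extHom φ y hy).res_apply r
    have h6 : (0 : κ Φ) = (ρ P.X - e.res a₀) * ρ (aeval (P.X : P.Ring) q) := by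
      have := congrArg ρ h5
      rw [ρ.map_zero, ρ.map_add, ρ.map_mul, ρ.map_sub, hcomp, hcomp, h0, add_zero] at this
      exact this
    have h7 : ρ (aeval (P.X : P.Ring) q) ≠ 0 := (h3.map ρ).ne_zero
    have h8 := (mul_eq_zero.1 h6.symm).resolve_right h7
    exact sub_eq_zero.1 h8


variable (Φ) in
theorem exists_aff_res_range (s : Finset (κ Φ)) :
    ∃ e : Aff Φ, ∀ θ ∈ s, θ ∈ Set.range e.res := by
  classical
  induction s using Finset.induction_on with
  | empty =>
    obtain ⟨e⟩ := nonempty_aff Φ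
    exact ⟨e, by simp⟩
  | insert θ s _ ih =>
    obtain ⟨e₁, h₁⟩ := ih
    obtain ⟨o, rfl⟩ := IsLocalRing.residue_surjective (R := O Φ) θ
    obtain ⟨e₂, r, rfl⟩ := exists_ι_eq o
    obtain ⟨e₃, ⟨k₁⟩, ⟨k₂⟩⟩ := Aff.exists_common e₁ e₂
    refine ⟨e₃, fun θ' hθ' => ?_⟩
    rcases Finset.mem_insert.1 hθ' with rfl | hs
    · exact ⟨k₂.φ r, k₂.res_apply r⟩
    · obtain ⟨r', rfl⟩ := h₁ θ' hs
      exact ⟨k₁.φ r', k₁.res_apply r'⟩

theorem exists_hom_res_range (e : Aff Φ) (s : Finset (κ Φ)) :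
    ∃ (e' : Aff Φ) (_ : Aff.Hom e' e), ∀ θ ∈ s, θ ∈ Set.range e'.res := by
  obtain ⟨e₁, h₁⟩ := exists_aff_res_range Φ s
  obtain ⟨e₃, ⟨k⟩, ⟨k₁⟩⟩ := Aff.exists_common e e₁
  refine ⟨e₃, k, fun θ hθ => ?_⟩
  obtain ⟨r', rfl⟩ := h₁ θ hθ
  exact ⟨k₁.φ r', k₁.res_apply r'⟩

instance : IsSepClosed (κ Φ) := by
  refine IsSepClosed.of_exists_root _ fun p hm hirr hsep => ?_
  obtain ⟨e, he⟩ := exists_aff_res_range Φ p.coeffs
  have hl : p ∈ Polynomial.lifts e.res := by
    rw [Polynomial.lifts_iff_coeffs_subset_range]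
    intro θ hθ
    exact he θ hθ
  obtain ⟨q, hq, -, hqm⟩ := Polynomial.lifts_and_natDegree_eq_and_monic hl hm
  let P : StandardEtalePair e.R := ⟨q, hqm, derivative q, 1, 0, 1, by simp⟩
  let B : CommRingCat.{u} := CommRingCat.of P.Ring
  let φ : e.R ⟶ B := CommRingCat.ofHom (algebraMap e.R P.Ring)
  have : Etale (Spec.map φ) := etale_specMap_algebraMap e.R P.Ring
  let L := AlgebraicClosure (κ Φ)
  letI : Algebra e.R (κ Φ) := e.res.toAlgebra
  have hq' : q.map (algebraMap e.R (κ Φ)) = p := hq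
  obtain ⟨θ, hθ⟩ := IsAlgClosed.exists_aeval_eq_zero L p (Polynomial.degree_pos_of_irreducible hirr).ne'
  have hmap : P.HasMap θ := by
    constructor
    · show aeval θ q = 0
      rw [← Polynomial.aeval_map_algebraMap (κ Φ), hq', hθ]
    · show IsUnit (aeval θ (derivative q))
      rw [← Polynomial.aeval_map_algebraMap (κ Φ), ← Polynomial.derivative_map, hq']
      exact (hsep.aeval_derivative_ne_zero hθ).isUnit
  let ψ : P.Ring →ₐ[e.R] L := P.lift θ hmap
  let Q : PrimeSpectrum P.Ring := ⟨RingHom.ker ψ.toRingHom, RingHom.ker_isPrime _⟩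
  have hQ : Spec.map φ (show Spec B from Q) = e.pt := by
    apply PrimeSpectrum.ext
    ext r
    show φ.hom r ∈ RingHom.ker ψ.toRingHom ↔ r ∈ RingHom.ker e.res
    rw [RingHom.mem_ker, RingHom.mem_ker]
    show ψ (algebraMap e.R P.Ring r) = 0 ↔ _
    rw [AlgHom.commutes, IsScalarTower.algebraMap_apply e.R (κ Φ) L]
    show algebraMap (κ Φ) L (e.res r) = 0 ↔ _
    exact map_eq_zero_iff _ (algebraMap (κ Φ) L).injective
  obtain ⟨y, hy⟩ := e.exists_lift_of_mem_range φ ⟨_, hQ⟩
  let ρ : P.Ring →+* κ Φ := (e.ext φ y).res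
  have hcomp : ρ.comp (algebraMap e.R P.Ring) = e.res := by
    ext r
    exact (e.extHom φ y hy).res_apply r
  refine ⟨ρ P.X, ?_⟩
  rw [← hq, Polynomial.eval_map, ← hcomp, ← Polynomial.hom_eval₂]
  have h4 : aeval (P.X : P.Ring) q = 0 := (StandardEtalePair.hasMap_X (P := P)).1
  rw [Polynomial.aeval_def] at h4
  rw [h4, map_zero]

end Groth.Agent.Helper9.PtGeoB
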