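import Mathlib
import Groth.Agent.Helper9.PtGeoB

set_option autoImplicit false
open CategoryTheory CategoryTheory.Limits AlgebraicGeometry Opposite

universe u

namespace Groth.Agent.Helper9.PtGeoA

open Groth.Agent.Helper9.PtGeoB

variable {S : Scheme.{u}} {Φ : GrothendieckTopology.Point.{u} S.smallEtaleTopology}

/-- The geometric point of `Spec R` attached to an affine element. -/
noncomputable def Aff.geo (e : Aff Φ) : Spec (CommRingCat.of (κ Φ)) ⟶ Spec e.R :=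
  Spec.map (CommRingCat.ofHom e.res)

theorem Aff.Hom.geo_comp {e' e : Aff Φ} (h : Aff.Hom e' e) :
    Aff.geo e' ≫ Spec.map h.φ = Aff.geo e := by
  unfold Aff.geo
  rw [← Spec.map_comp]
  congr 1
  ext r
  exact h.res_apply r

theorem Aff.Hom.geo_comp_left {e' e : Aff Φ} (h : Aff.Hom e' e) :
    Aff.geo e' ≫ h.hom.left = Aff.geo e := h.geo_comp

theorem Aff.Hom.geo_comp_assoc {e' e : Aff Φ} (h : Aff.Hom e' e) {Z : Scheme.{u}}
    (m : Spec e.R ⟶ Z) : Aff.geo e' ≫ (Spec.map h.φ ≫ m) = Aff.geo e ≫ m := by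
  rw [← Category.assoc, h.geo_comp]

theorem Aff.geo_f (e e' : Aff Φ) : Aff.geo e ≫ e.f = Aff.geo e' ≫ e'.f := by
  obtain ⟨e'', ⟨h⟩, ⟨h'⟩⟩ := Aff.exists_common e e'
  rw [← h.geo_comp, ← h'.geo_comp, Category.assoc, Category.assoc, h.w, h'.w]

theorem geo_comp_eq {V : S.Etale} (e₁ e₂ : Aff Φ) (g₁ : e₁.obj ⟶ V) (g₂ : e₂.obj ⟶ V)
    (h : Φ.fiber.map g₁ e₁.x = Φ.fiber.map g₂ e₂.x) :
    Aff.geo e₁ ≫ g₁.left = Aff.geo e₂ ≫ g₂.left := by
  obtain ⟨e₃, ⟨h₁⟩, ⟨h₂⟩⟩ := Aff.exists_common e₁ e₂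
  have hab : Φ.fiber.map (h₁.hom ≫ g₁) e₃.x = Φ.fiber.map (h₂.hom ≫ g₂) e₃.x := by
    rw [Functor.map_comp, Functor.map_comp]
    show Φ.fiber.map g₁ (Φ.fiber.map h₁.hom e₃.x) = Φ.fiber.map g₂ (Φ.fiber.map h₂.hom e₃.x)
    rw [h₁.hx, h₂.hx, h]
  obtain ⟨e₄, k, hk⟩ := Aff.exists_equalizing (h₁.hom ≫ g₁) (h₂.hom ≫ g₂) hab
  have e1 : Aff.geo e₄ ≫ (k.hom ≫ h₁.hom ≫ g₁).left = Aff.geo e₁ ≫ g₁.left := by
    show Aff.geo e₄ ≫ (Spec.map k.φ ≫ Spec.map h₁.φ ≫ g₁.left) = _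
    rw [k.geo_comp_assoc, h₁.geo_comp_assoc]
  have e2 : Aff.geo e₄ ≫ (k.hom ≫ h₂.hom ≫ g₂).left = Aff.geo e₂ ≫ g₂.left := by
    show Aff.geo e₄ ≫ (Spec.map k.φ ≫ Spec.map h₂.φ ≫ g₂.left) = _
    rw [k.geo_comp_assoc, h₂.geo_comp_assoc]
  rw [← e1, ← e2]
  exact congrArg (fun m => Aff.geo e₄ ≫ m.left) hk


theorem Aff.geo_apply (e : Aff Φ) (x : Spec (CommRingCat.of (κ Φ))) : Aff.geo e x = e.pt := by
  apply PrimeSpectrum.ext
  ext r
  show e.res r ∈ (show PrimeSpectrum (κ Φ) from x).asIdeal ↔ r ∈ RingHom.ker e.res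
  have : (show PrimeSpectrum (κ Φ) from x).asIdeal = ⊥ :=
    Ideal.eq_bot_of_prime _
  rw [this, RingHom.mem_ker]
  rfl

/-- If two morphisms out of an affine element agree on the geometric point, they agree on the
element of the fibre. -/
theorem Aff.eq_of_geo_comp_eq (e : Aff Φ) {V : S.Etale} (a b : e.obj ⟶ V)
    (h : Aff.geo e ≫ a.left = Aff.geo e ≫ b.left) :
    Φ.fiber.map a e.x = Φ.fiber.map b e.x := by
  have hw : a.left ≫ V.hom = b.left ≫ V.hom := by
    rw [MorphismProperty.Over.w a, MorphismProperty.Over.w b]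
  let d := pullback.diagonal V.hom
  let c : Spec e.R ⟶ pullback V.hom V.hom := pullback.lift a.left b.left hw
  let ι : pullback c d ⟶ Spec e.R := pullback.fst c d
  have hι : ι ≫ a.left = ι ≫ b.left := by
    have h1 : ι ≫ c = pullback.snd c d ≫ d := pullback.condition
    have h2 := congrArg (· ≫ pullback.fst V.hom V.hom) h1
    have h3 := congrArg (· ≫ pullback.snd V.hom V.hom) h1
    simp only [Category.assoc, c, d, pullback.lift_fst, pullback.lift_snd,
      pullback.diagonal_fst, pullback.diagonal_snd, Category.comp_id] at h2 h3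
    rw [h2, h3]
  let z := Aff.geo e
  have hz : z ≫ c = (z ≫ a.left) ≫ d := by
    apply pullback.hom_ext
    · simp only [Category.assoc, c, d, pullback.lift_fst, pullback.diagonal_fst,
        Category.comp_id]
    · simp only [Category.assoc, c, d, pullback.lift_snd, pullback.diagonal_snd,
        Category.comp_id]
      exact h.symm
  let l : Spec (CommRingCat.of (κ Φ)) ⟶ pullback c d := pullback.lift z (z ≫ a.left) hz
  have hl : l ≫ ι = z := pullback.lift_fst _ _ _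
  let x₀ : Spec (CommRingCat.of (κ Φ)) := (⟨⊥, Ideal.isPrime_bot⟩ : PrimeSpectrum (κ Φ))
  have hpt : e.pt ∈ Set.range ι := by
    refine ⟨l x₀, ?_⟩
    rw [← Scheme.Hom.comp_apply, hl]
    exact e.geo_apply x₀
  have hopen : IsOpen (Set.range ι) := ι.isOpenEmbedding.isOpen_range
  obtain ⟨_, ⟨s, rfl⟩, hs, hsub⟩ :=
    PrimeSpectrum.isTopologicalBasis_basic_opens.exists_subset_of_mem_open
      (show (e.pt : PrimeSpectrum e.R) ∈ Set.range ι from hpt) hopen
  have hs' : s ∉ e.pt.asIdeal := hs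
  have hu : IsUnit (e.ι s) := by
    rw [← Aff.res_ne_zero_iff]
    exact fun h => hs' ((e.mem_pt_iff s).2 h)
  obtain ⟨ys, hys⟩ := e.exists_lift_away s hu
  let m : Spec (CommRingCat.of (Localization.Away s)) ⟶ Spec e.R := Spec.map (e.awayMap s)
  have hrange : Set.range m ⊆ Set.range ι := by
    refine subset_trans ?_ hsub
    rintro _ ⟨w, rfl⟩
    have := PrimeSpectrum.localization_away_comap_range (Localization.Away s) s
    exact (eq_iff_iff.mp congr((m w : PrimeSpectrum e.R) ∈ $this)).mp ⟨w, rfl⟩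
  have hm : m ≫ a.left = m ≫ b.left := by
    rw [← IsOpenImmersion.lift_fac ι m hrange, Category.assoc, Category.assoc, hι]
  have hm' : (MorphismProperty.Over.homMk m rfl :
      Scheme.Etale.mk (Spec.map (e.awayMap s) ≫ e.f) ⟶ e.obj) ≫ a =
      (MorphismProperty.Over.homMk m rfl :
      Scheme.Etale.mk (Spec.map (e.awayMap s) ≫ e.f) ⟶ e.obj) ≫ b := by
    apply MorphismProperty.Over.Hom.ext
    exact hm
  rw [← hys]
  show (Φ.fiber.map _ ≫ Φ.fiber.map a) ys = (Φ.fiber.map _ ≫ Φ.fiber.map b) ys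
  rw [← Functor.map_comp, ← Functor.map_comp]
  exact congrArg (fun k => (Φ.fiber.map k) ys) hm'


variable (Φ) in
/-- A chosen affine element. -/
noncomputable def e₀ : Aff Φ := Classical.choice (nonempty_aff Φ)

variable (Φ) in
/-- The geometric point of `S` attached to the point `Φ`. -/
noncomputable def ξ : Spec (CommRingCat.of (κ Φ)) ⟶ S := Aff.geo (e₀ Φ) ≫ (e₀ Φ).f

theorem Aff.geo_f_eq (e : Aff Φ) : Aff.geo e ≫ e.f = ξ Φ := Aff.geo_f e (e₀ Φ)

/-- The geometric point of `V` attached to an element of the fibre. -/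
noncomputable def toGeo (V : S.Etale) (y : Φ.fiber.obj V) :
    Spec (CommRingCat.of (κ Φ)) ⟶ V.left :=
  Aff.geo (exists_aff_refine V y).choose ≫ (exists_aff_refine V y).choose_spec.choose.left

theorem toGeo_eq (V : S.Etale) (y : Φ.fiber.obj V) (e : Aff Φ) (g : e.obj ⟶ V)
    (hg : Φ.fiber.map g e.x = y) : toGeo V y = Aff.geo e ≫ g.left :=
  geo_comp_eq _ _ _ _ (by rw [(exists_aff_refine V y).choose_spec.choose_spec.2, hg])

theorem toGeo_hom (V : S.Etale) (y : Φ.fiber.obj V) : toGeo V y ≫ V.hom = ξ Φ := by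
  obtain ⟨e, g, -, hg⟩ := exists_aff_refine V y
  rw [toGeo_eq V y e g hg, Category.assoc]
  have : g.left ≫ V.hom = e.f := MorphismProperty.Over.w g
  exact (congrArg (Aff.geo e ≫ ·) this).trans e.geo_f_eq

theorem toGeo_map {V V' : S.Etale} (k : V ⟶ V') (y : Φ.fiber.obj V) :
    toGeo V' (Φ.fiber.map k y) = toGeo V y ≫ k.left := by
  obtain ⟨e, g, -, hg⟩ := exists_aff_refine V y
  have hg' : Φ.fiber.map (g ≫ k) e.x = Φ.fiber.map k y := by
    rw [Functor.map_comp]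
    show Φ.fiber.map k (Φ.fiber.map g e.x) = _
    rw [hg]
  rw [toGeo_eq V y e g hg, toGeo_eq V' _ e (g ≫ k) hg', Category.assoc]
  rfl

theorem toGeo_injective (V : S.Etale) : Function.Injective (toGeo (Φ := Φ) V) := by
  intro y y' hyy
  obtain ⟨e, g, -, hg⟩ := exists_aff_refine V y
  obtain ⟨e', g', -, hg'⟩ := exists_aff_refine V y'
  obtain ⟨e₃, ⟨h⟩, ⟨h'⟩⟩ := Aff.exists_common e e'
  have ha : Φ.fiber.map (h.hom ≫ g) e₃.x = y := by
    rw [Functor.map_comp]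
    show Φ.fiber.map g (Φ.fiber.map h.hom e₃.x) = _
    rw [h.hx, hg]
  have hb : Φ.fiber.map (h'.hom ≫ g') e₃.x = y' := by
    rw [Functor.map_comp]
    show Φ.fiber.map g' (Φ.fiber.map h'.hom e₃.x) = _
    rw [h'.hx, hg']
  rw [← ha, ← hb]
  apply e₃.eq_of_geo_comp_eq
  rw [← toGeo_eq V y e₃ _ ha, ← toGeo_eq V y' e₃ _ hb, hyy]

end Groth.Agent.Helper9.PtGeoA
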