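import Mathlib
import Groth.Agent.Helper9.PtGeoB

set_option autoImplicit false
open CategoryTheory CategoryTheory.Limits AlgebraicGeometry Opposite Polynomial

universe u

namespace Groth.Agent.Helper9.PtGeoA

open Groth.Agent.Helper9.PtGeoB

variable {S : Scheme.{u}} {Φ : GrothendieckTopology.Point.{u} S.smallEtaleTopology}

/-- Lifting of residue-field points through étale algebras. -/
theorem Aff.exists_lift_etale (e : Aff Φ) {B : CommRingCat.{u}} (φ : e.R ⟶ B)
    [Etale (Spec.map φ)] (ζ : B →+* κ Φ) (hζ : ζ.comp φ.hom = e.res) :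
    ∃ (e' : Aff Φ) (h : Aff.Hom e' e) (χ : B →+* e'.R),
      χ.comp φ.hom = h.φ.hom ∧ e'.res.comp χ = ζ := by
  letI : Algebra e.R B := φ.hom.toAlgebra
  have hEt : Algebra.Etale e.R B := by
    have h1 : RingHom.Etale φ.hom := (HasRingHomProperty.Spec_iff (P := @Etale)).1 inferInstance
    exact h1
  let 𝔮 : Ideal B := RingHom.ker ζ
  have h𝔮 : 𝔮.IsPrime := RingHom.ker_isPrime ζ
  have hEtAt : Algebra.IsEtaleAt e.R 𝔮 := inferInstance
  obtain ⟨b, hb, hstd⟩ := Algebra.IsEtaleAt.exists_isStandardEtale (R := e.R) 𝔮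
  obtain ⟨P⟩ := hstd.nonempty_standardEtalePresentation
  letI : Algebra e.R (κ Φ) := e.res.toAlgebra
  have hres : ∀ r : e.R, algebraMap e.R (κ Φ) r = e.res r := fun _ => rfl
  have hφ : ∀ r : e.R, algebraMap e.R B r = φ.hom r := fun _ => rfl
  have hbu : IsUnit (ζ b) := by
    have : ζ b ≠ 0 := fun h0 => hb ((RingHom.mem_ker).2 h0)
    exact this.isUnit
  let ζb₀ : Localization.Away b →+* κ Φ := IsLocalization.Away.lift (S := Localization.Away b) b hbu
  have hζb₀ : ζb₀.comp (algebraMap B (Localization.Away b)) = ζ :=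
    IsLocalization.Away.lift_comp b hbu
  let ζb : Localization.Away b →ₐ[e.R] κ Φ :=
    { ζb₀ with
      commutes' := fun r => by
        show ζb₀ (algebraMap e.R (Localization.Away b) r) = _
        rw [IsScalarTower.algebraMap_apply e.R B (Localization.Away b), hres, ← hζ]
        exact congrArg (fun m : B →+* κ Φ => m (φ.hom r)) hζb₀ }
  let θ : κ Φ := ζb P.x
  have hθ : P.P.HasMap θ := P.hasMap.map ζb
  obtain ⟨p₁, p₂, n, hcond⟩ := P.P.cond
  obtain ⟨e₁, k, hk⟩ := exists_hom_res_range e {θ}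
  obtain ⟨a₀, ha₀⟩ := hk θ (Finset.mem_singleton_self θ)
  have hkres : e₁.res.comp k.φ.hom = e.res := RingHom.ext fun r => k.res_apply r
  have hcond₁ : derivative (P.P.f.map k.φ.hom) * (p₁.map k.φ.hom) +
      (P.P.f.map k.φ.hom) * (p₂.map k.φ.hom) = (P.P.g.map k.φ.hom) ^ n := by
    rw [Polynomial.derivative_map, ← Polynomial.map_mul, ← Polynomial.map_mul,
      ← Polynomial.map_add, ← Polynomial.map_pow, hcond]
  have hev : ∀ q : Polynomial e.R, e₁.res ((q.map k.φ.hom).eval a₀) = aeval θ q := by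
    intro q
    rw [Polynomial.eval_map, Polynomial.hom_eval₂, hkres, ha₀]
    rfl
  have h0 : e₁.res ((P.P.f.map k.φ.hom).eval a₀) = 0 := by
    rw [hev]; exact hθ.1
  have h1 : e₁.res ((P.P.g.map k.φ.hom).eval a₀) ≠ 0 := by
    rw [hev]; exact hθ.2.ne_zero
  obtain ⟨e', h, a, ha0, ha1, hares⟩ := Aff.exists_lift_root e₁ (P.P.f.map k.φ.hom)
    (P.P.g.map k.φ.hom) (p₁.map k.φ.hom) (p₂.map k.φ.hom) n (P.P.monic_f.map _) hcond₁ a₀ h0 h1
  let H : Aff.Hom e' e := h.comp k
  have hHφ : H.φ.hom = h.φ.hom.comp k.φ.hom := rfl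
  letI : Algebra e.R e'.R := H.φ.hom.toAlgebra
  have hH : ∀ r : e.R, algebraMap e.R e'.R r = H.φ.hom r := fun _ => rfl
  have hev' : ∀ q : Polynomial e.R, aeval a q = ((q.map k.φ.hom).map h.φ.hom).eval a := by
    intro q
    rw [Polynomial.map_map, Polynomial.eval_map]
    rfl
  have hmap : P.P.HasMap a := by
    constructor
    · rw [hev']; exact ha0
    · rw [hev']; exact ha1
  let χb : Localization.Away b →ₐ[e.R] e'.R := (P.P.lift a hmap).comp P.equivRing.toAlgHom
  let ρ : e'.R →ₐ[e.R] κ Φ :=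
    { e'.res with
      commutes' := fun r => by
        show e'.res (H.φ.hom r) = e.res r
        exact H.res_apply r }
  have hρχ : ρ.comp χb = ζb := by
    apply P.hom_ext
    show e'.res ((P.P.lift a hmap) (P.equivRing P.x)) = θ
    rw [P.equivRing_x, P.P.lift_X, hares, ha₀]
  refine ⟨e', H, (χb : Localization.Away b →+* e'.R).comp (algebraMap B (Localization.Away b)),
    ?_, ?_⟩
  · ext r
    show χb (algebraMap B (Localization.Away b) (algebraMap e.R B r)) = H.φ.hom r
    rw [← IsScalarTower.algebraMap_apply e.R B (Localization.Away b), χb.commutes]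
    rfl
  · ext x
    show ρ (χb (algebraMap B (Localization.Away b) x)) = ζ x
    have := congrArg (fun m : Localization.Away b →ₐ[e.R] κ Φ =>
      m (algebraMap B (Localization.Away b) x)) hρχ
    refine this.trans ?_
    exact congrArg (fun m : B →+* κ Φ => m x) hζb₀

end Groth.Agent.Helper9.PtGeoA
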