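import Mathlib
import Groth.Agent.Helper9.PtGeoC
import Groth.Agent.Helper9.PtGeoD

set_option autoImplicit false
open CategoryTheory CategoryTheory.Limits AlgebraicGeometry Opposite Polynomial

universe u

namespace Groth.Agent.Helper9.PtGeoA

open Groth.Agent.Helper9.PtGeoB

variable {S : Scheme.{u}} {Φ : GrothendieckTopology.Point.{u} S.smallEtaleTopology}

theorem toGeo_surjective (V : S.Etale) (t : Spec (CommRingCat.of (κ Φ)) ⟶ V.left)
    (ht : t ≫ V.hom = ξ Φ) : ∃ y : Φ.fiber.obj V, toGeo V y = t := by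
  let e := e₀ Φ
  have : Etale V.hom := V.prop
  let T := pullback V.hom e.f
  let pr₁ : T ⟶ V.left := pullback.fst V.hom e.f
  let pr₂ : T ⟶ Spec e.R := pullback.snd V.hom e.f
  have : Etale pr₂ := inferInstanceAs (Etale (pullback.snd V.hom e.f))
  let z : Spec (CommRingCat.of (κ Φ)) ⟶ T := pullback.lift t (Aff.geo e) (by rw [ht, e.geo_f_eq])
  let x₀ : Spec (CommRingCat.of (κ Φ)) := (⟨⊥, Ideal.isPrime_bot⟩ : PrimeSpectrum (κ Φ))
  let 𝒰 := T.affineOpenCover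
  let i := 𝒰.idx (z x₀)
  let j : Spec (𝒰.X i) ⟶ T := 𝒰.f i
  have hrange : Set.range z ⊆ Set.range j := by
    rintro _ ⟨x, rfl⟩
    have hx : x = x₀ := by
      apply PrimeSpectrum.ext
      exact (Ideal.eq_bot_of_prime _).trans (Ideal.eq_bot_of_prime _).symm
    rw [hx]
    exact 𝒰.covers (z x₀)
  let z' : Spec (CommRingCat.of (κ Φ)) ⟶ Spec (𝒰.X i) := IsOpenImmersion.lift j z hrange
  have hz' : z' ≫ j = z := IsOpenImmersion.lift_fac j z hrange
  let B : CommRingCat.{u} := 𝒰.X i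
  let φ : e.R ⟶ B := Spec.preimage (j ≫ pr₂)
  have hφ : Spec.map φ = j ≫ pr₂ := Spec.map_preimage _
  have : Etale (Spec.map φ) := by
    rw [hφ]; infer_instance
  let ζ₀ : B ⟶ CommRingCat.of (κ Φ) := Spec.preimage z'
  have hζ₀ : Spec.map ζ₀ = z' := Spec.map_preimage _
  have hcomp : φ ≫ ζ₀ = CommRingCat.ofHom e.res := by
    apply Spec.map_injective
    rw [Spec.map_comp, hζ₀, hφ, ← Category.assoc, hz']
    exact pullback.lift_snd _ _ _
  have hζ : ζ₀.hom.comp φ.hom = e.res := congrArg CommRingCat.Hom.hom hcomp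
  obtain ⟨e', h, χ, hχ, hres⟩ := Aff.exists_lift_etale e φ ζ₀.hom hζ
  let χ' : B ⟶ e'.R := CommRingCat.ofHom χ
  have hχ' : φ ≫ χ' = h.φ := CommRingCat.hom_ext hχ
  have hres' : χ' ≫ CommRingCat.ofHom e'.res = ζ₀ := CommRingCat.hom_ext hres
  have w : (Spec.map χ' ≫ j ≫ pr₁) ≫ V.hom = e'.f := by
    rw [Category.assoc, Category.assoc]
    have hc : pr₁ ≫ V.hom = pr₂ ≫ e.f := pullback.condition
    rw [hc, ← Category.assoc j, ← hφ, ← Category.assoc, ← Spec.map_comp, hχ', h.w]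
  let G : e'.obj ⟶ V := MorphismProperty.Over.homMk (Spec.map χ' ≫ j ≫ pr₁) w
  refine ⟨Φ.fiber.map G e'.x, ?_⟩
  rw [toGeo_eq V _ e' G rfl]
  show Aff.geo e' ≫ (Spec.map χ' ≫ j ≫ pr₁) = t
  unfold Aff.geo
  rw [← Category.assoc, ← Spec.map_comp, hres', hζ₀, ← Category.assoc, hz']
  exact pullback.lift_fst _ _ _

end Groth.Agent.Helper9.PtGeoA
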