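import Mathlib
import Groth.Agent.Helper9.PtGeoE

set_option autoImplicit false
open CategoryTheory CategoryTheory.Limits AlgebraicGeometry Opposite Polynomial

universe u

namespace Groth.Agent.Helper9.PtGeoA

open Groth.Agent.Helper9.PtGeoB

variable {S : Scheme.{u}} {Φ : GrothendieckTopology.Point.{u} S.smallEtaleTopology}

/-- The comparison map from the fibre of `Φ` to geometric points over `ξ Φ`. -/
noncomputable def toOver (V : S.Etale) (y : Φ.fiber.obj V) :
    (Scheme.pointSmallEtale (ξ Φ)).fiber.obj V :=
  Over.homMk (toGeo V y) (toGeo_hom V y)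

theorem toOver_bijective (V : S.Etale) : Function.Bijective (toOver (Φ := Φ) V) := by
  constructor
  · intro y y' h
    apply toGeo_injective V
    exact congrArg CommaMorphism.left h
  · intro t
    obtain ⟨y, hy⟩ := toGeo_surjective V t.left (Over.w t)
    refine ⟨y, ?_⟩
    apply Over.OverMorphism.ext
    exact hy

variable (Φ) in
theorem nonempty_iso : Nonempty (Φ.fiber ≅ (Scheme.pointSmallEtale (ξ Φ)).fiber) := by
  refine ⟨NatIso.ofComponents (fun V => (Equiv.ofBijective _ (toOver_bijective V)).toIso) ?_⟩
  intro V V' k
  ext y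
  apply Over.OverMorphism.ext
  exact toGeo_map k y

end Groth.Agent.Helper9.PtGeoA
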