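import Mathlib
import Groth.Agent.Helper9.AlgPtB
import Groth.Agent.Helper9.AlgPtC
import Groth.Agent.Helper9.PtGeoF
import Groth.Agent.Helper5.EtPt5

set_option autoImplicit false
open CategoryTheory CategoryTheory.Limits AlgebraicGeometry Opposite

universe u

namespace Groth.Agent.Helper9.AlgPtD

open AlgSp Groth.Agent.Helper9.AlgPtB Groth.Agent.Helper9.PtGeoA

set_option backward.isDefEq.respectTransparency false

variable {S : Scheme.{u}} {X : Sp S} (P : GrothendieckTopology.Point.{u} (etTop X))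
  {E : EtOver X} (y : P.fiber.obj E)

/-- The point of the small étale site of the chart induced by an element of the fibre. -/
noncomputable def Q : GrothendieckTopology.Point.{u} E.obj.left.left.smallEtaleTopology :=
  AlgPtA.pointOfOver P y (toOver E) (coverPreserving_toOver E)

variable {P y}

/-- Constructor for elements of the fibre of `Q`. -/
def Q.mk (V : E.obj.left.left.Etale) (w : P.fiber.obj ((chart E).obj V))
    (hw : P.fiber.map (σ E V) w = y) : (Q P y).fiber.obj V := ⟨w, hw⟩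

/-- The underlying element. -/
def Q.val {V : E.obj.left.left.Etale} (z : (Q P y).fiber.obj V) : P.fiber.obj ((chart E).obj V) :=
  z.1

theorem Q.val_prop {V : E.obj.left.left.Etale} (z : (Q P y).fiber.obj V) :
    P.fiber.map (σ E V) (Q.val z) = y := z.2

theorem Q.val_mk (V : E.obj.left.left.Etale) (w : P.fiber.obj ((chart E).obj V))
    (hw : P.fiber.map (σ E V) w = y) : Q.val (Q.mk V w hw) = w := rfl

theorem Q.ext {V : E.obj.left.left.Etale} (z z' : (Q P y).fiber.obj V)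
    (h : Q.val z = Q.val z') : z = z' := Subtype.ext h

theorem Q.val_map {V V' : E.obj.left.left.Etale} (φ : V ⟶ V') (z : (Q P y).fiber.obj V) :
    Q.val ((Q P y).fiber.map φ z) = P.fiber.map ((chart E).map φ) (Q.val z) := rfl

variable (P y)

/-- The algebraically closed field of the geometric point. -/
noncomputable abbrev KK : Type u := AlgebraicClosure (κ (Q P y))

/-- `Spec` of the algebraic closure over `Spec` of the residue field. -/
noncomputable def ρ : Spec (CommRingCat.of (KK P y)) ⟶ Spec (CommRingCat.of (κ (Q P y))) :=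
  Spec.map (CommRingCat.ofHom (algebraMap (κ (Q P y)) (KK P y)))

/-- The geometric point of the chart. -/
noncomputable def ubar : Spec (CommRingCat.of (KK P y)) ⟶ E.obj.left.left := ρ P y ≫ ξ (Q P y)

/-- Its structure morphism. -/
noncomputable def strK : Spec (CommRingCat.of (KK P y)) ⟶ S := ubar P y ≫ E.obj.left.hom

/-- The geometric point as a morphism over `S`. -/
noncomputable def mK : Over.mk (strK P y) ⟶ E.obj.left := Over.homMk (ubar P y) rfl

/-- The geometric point of `X`. -/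
noncomputable def pt : FieldPt X :=
  Groth.Agent.Helper5.EtPt.fieldPtOfHom E.obj.hom (strK P y) (mK P y)

theorem pt_isGeometric : (pt P y).IsGeometric := (inferInstance : IsAlgClosed (KK P y))

theorem pt_toHom : (pt P y).toHom = (yon S).map (mK P y) ≫ E.obj.hom :=
  Groth.Agent.Helper5.EtPt.toHom_fieldPtOfHom E.obj.hom (strK P y) (mK P y)

variable {P y}

/-- The lift of the geometric point to an étale scheme over the chart attached to an element of the
fibre. -/
noncomputable def τ (V : E.obj.left.left.Etale) (z : (Q P y).fiber.obj V) :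
    (pt P y).pt ⟶ EtOver.overOfEtale V :=
  Over.homMk (ρ P y ≫ toGeo V z) (by
    show (ρ P y ≫ toGeo V z) ≫ V.hom ≫ E.obj.left.hom = strK P y
    rw [Category.assoc, ← Category.assoc (toGeo V z), toGeo_hom]
    rfl)

theorem τ_comp (V : E.obj.left.left.Etale) (z : (Q P y).fiber.obj V) :
    τ V z ≫ EtOver.homOfEtale V = mK P y := by
  apply Over.OverMorphism.ext
  show (ρ P y ≫ toGeo V z) ≫ V.hom = ubar P y
  rw [Category.assoc, toGeo_hom]
  rfl

theorem τ_map {V V' : E.obj.left.left.Etale} (φ : V ⟶ V') (z : (Q P y).fiber.obj V) :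
    τ V' ((Q P y).fiber.map φ z) = τ V z ≫ ((chart E).map φ).hom.left := by
  apply Over.OverMorphism.ext
  show ρ P y ≫ toGeo V' ((Q P y).fiber.map φ z) = (ρ P y ≫ toGeo V z) ≫ φ.left
  rw [toGeo_map, Category.assoc]

/-- The lift of the geometric point to `E'` attached to an element of the fibre over the chart
and a morphism to `E'`. -/
noncomputable def liftOf (V : E.obj.left.left.Etale) (z : (Q P y).fiber.obj V) {E' : EtOver X}
    (g' : (chart E).obj V ⟶ E') : (FieldPt.liftsTo (pt P y)).obj E' :=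
  ⟨τ V z ≫ g'.hom.left, by
    rw [Functor.map_comp, Category.assoc, EtOver.w g']
    show (yon S).map (τ V z) ≫ (yon S).map (EtOver.homOfEtale V) ≫ E.obj.hom = (pt P y).toHom
    rw [← Category.assoc, ← Functor.map_comp, τ_comp, pt_toHom]⟩

theorem liftOf_val (V : E.obj.left.left.Etale) (z : (Q P y).fiber.obj V) {E' : EtOver X}
    (g' : (chart E).obj V ⟶ E') : (liftOf V z g').1 = τ V z ≫ g'.hom.left := rfl

/-- An element of the fibre of `P` over `E` gives an element of the fibre of `Q`. -/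
noncomputable def zz {W : EtOver X} (π : W ⟶ E) (yW : P.fiber.obj W) (h : P.fiber.map π yW = y) :
    (Q P y).fiber.obj (VV π) :=
  Q.mk (VV π) (P.fiber.map (ιι π).inv yW) (by
    rw [← Functor.map_comp_apply, ιι_inv_comp]
    exact h)

theorem zz_val {W : EtOver X} (π : W ⟶ E) (yW : P.fiber.obj W) (h : P.fiber.map π yW = y) :
    Q.val (zz π yW h) = P.fiber.map (ιι π).inv yW := rfl

/-- A morphism to a chart object gives a morphism of étale schemes over the chart. -/
noncomputable def cc {W : EtOver X} {V : E.obj.left.left.Etale} (k : W ⟶ (chart E).obj V) :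
    VV (k ≫ σ E V) ⟶ V :=
  MorphismProperty.Over.homMk k.hom.left.left rfl

theorem chart_map_cc {W : EtOver X} {V : E.obj.left.left.Etale} (k : W ⟶ (chart E).obj V) :
    (chart E).map (cc k) = (ιι (k ≫ σ E V)).hom ≫ k := by
  apply EtOver.hom_ext
  apply Over.OverMorphism.ext
  show k.hom.left.left = 𝟙 _ ≫ k.hom.left.left
  rw [Category.id_comp]

theorem map_cc_zz {W : EtOver X} {V : E.obj.left.left.Etale} (k : W ⟶ (chart E).obj V)
    (yW : P.fiber.obj W) (h : P.fiber.map (k ≫ σ E V) yW = y) :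
    Q.val ((Q P y).fiber.map (cc k) (zz (k ≫ σ E V) yW h)) = P.fiber.map k yW := by
  rw [Q.val_map, zz_val, chart_map_cc, ← Functor.map_comp_apply, Iso.inv_hom_id_assoc]

/-- (i) every element of the fibre of `P` is represented over the chart. -/
theorem exists_rep {E' : EtOver X} (w : P.fiber.obj E') :
    ∃ (V : E.obj.left.left.Etale) (z : (Q P y).fiber.obj V) (g' : (chart E).obj V ⟶ E'),
      P.fiber.map g' (Q.val z) = w := by
  let p₁ : P.fiber.Elements := ⟨E', w⟩
  let p₂ : P.fiber.Elements := ⟨E, y⟩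
  let m₀ := IsCofiltered.min p₁ p₂
  let a : m₀ ⟶ p₁ := IsCofiltered.minToLeft p₁ p₂
  let b : m₀ ⟶ p₂ := IsCofiltered.minToRight p₁ p₂
  refine ⟨VV b.1, zz b.1 m₀.2 b.2, (ιι b.1).hom ≫ a.1, ?_⟩
  rw [zz_val, ← Functor.map_comp_apply, Iso.inv_hom_id_assoc]
  exact a.2

/-- (iii) the lift attached to a representation only depends on the element of the fibre. -/
theorem liftOf_eq {E' : EtOver X} (V₁ V₂ : E.obj.left.left.Etale) (z₁ : (Q P y).fiber.obj V₁)
    (z₂ : (Q P y).fiber.obj V₂) (g₁ : (chart E).obj V₁ ⟶ E') (g₂ : (chart E).obj V₂ ⟶ E')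
    (h : P.fiber.map g₁ (Q.val z₁) = P.fiber.map g₂ (Q.val z₂)) :
    liftOf V₁ z₁ g₁ = liftOf V₂ z₂ g₂ := by
  -- common refinement in `Q`
  let q₁ : (Q P y).fiber.Elements := ⟨V₁, z₁⟩
  let q₂ : (Q P y).fiber.Elements := ⟨V₂, z₂⟩
  let q₃ := IsCofiltered.min q₁ q₂
  let a₁ : q₃ ⟶ q₁ := IsCofiltered.minToLeft q₁ q₂
  let a₂ : q₃ ⟶ q₂ := IsCofiltered.minToRight q₁ q₂
  let h₁ : (chart E).obj q₃.1 ⟶ E' := (chart E).map a₁.1 ≫ g₁
  let h₂ : (chart E).obj q₃.1 ⟶ E' := (chart E).map a₂.1 ≫ g₂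
  have e1 : P.fiber.map h₁ (Q.val q₃.2) = P.fiber.map g₁ (Q.val z₁) := by
    rw [Functor.map_comp_apply, ← Q.val_map]
    exact congrArg (fun t => P.fiber.map g₁ (Q.val t)) a₁.2
  have e2 : P.fiber.map h₂ (Q.val q₃.2) = P.fiber.map g₂ (Q.val z₂) := by
    rw [Functor.map_comp_apply, ← Q.val_map]
    exact congrArg (fun t => P.fiber.map g₂ (Q.val t)) a₂.2
  -- equalize in `P`
  let r : P.fiber.Elements := ⟨(chart E).obj q₃.1, Q.val q₃.2⟩
  let r' : P.fiber.Elements := ⟨E', P.fiber.map h₁ (Q.val q₃.2)⟩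
  let f₁ : r ⟶ r' := ⟨h₁, rfl⟩
  let f₂ : r ⟶ r' := ⟨h₂, by rw [e2, ← h, ← e1]⟩
  let r₄ := IsCofiltered.eq f₁ f₂
  let k : r₄ ⟶ r := IsCofiltered.eqHom f₁ f₂
  have hk : k.1 ≫ h₁ = k.1 ≫ h₂ := congrArg Subtype.val (IsCofiltered.eq_condition f₁ f₂)
  have hk2 : P.fiber.map (k.1 ≫ σ E q₃.1) r₄.2 = y := by
    rw [Functor.map_comp_apply]
    have : P.fiber.map k.1 r₄.2 = Q.val q₃.2 := k.2
    rw [this]
    exact Q.val_prop q₃.2
  let z₄ := zz (k.1 ≫ σ E q₃.1) r₄.2 hk2
  have hz₄ : (Q P y).fiber.map (cc k.1) z₄ = q₃.2 := by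
    apply Q.ext
    rw [map_cc_zz]
    exact k.2
  apply Subtype.ext
  rw [liftOf_val, liftOf_val]
  have t1 : τ V₁ z₁ = τ q₃.1 q₃.2 ≫ ((chart E).map a₁.1).hom.left := by
    rw [← τ_map]
    exact congrArg (τ V₁) a₁.2.symm
  have t2 : τ V₂ z₂ = τ q₃.1 q₃.2 ≫ ((chart E).map a₂.1).hom.left := by
    rw [← τ_map]
    exact congrArg (τ V₂) a₂.2.symm
  have t3 : τ q₃.1 q₃.2 = τ _ z₄ ≫ ((chart E).map (cc k.1)).hom.left := by
    rw [← τ_map]
    exact congrArg (τ q₃.1) hz₄.symm
  rw [t1, t2, t3, Category.assoc, Category.assoc, Category.assoc, Category.assoc]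
  congr 1
  have hk3 : (chart E).map (cc k.1) ≫ h₁ = (chart E).map (cc k.1) ≫ h₂ := by
    rw [chart_map_cc, Category.assoc, Category.assoc, hk]
  exact congrArg (fun m => m.hom.left) hk3

instance : Epi (ρ P y) := AlgPtC.epi_specMap_field _

/-- Two morphisms from a chart object agreeing on the geometric point agree on the element of the
fibre. -/
theorem map_eq_of_τ_comp_eq {E' : EtOver X} (V : E.obj.left.left.Etale) (z : (Q P y).fiber.obj V)
    (h₁ h₂ : (chart E).obj V ⟶ E') (h : τ V z ≫ h₁.hom.left = τ V z ≫ h₂.hom.left) :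
    P.fiber.map h₁ (Q.val z) = P.fiber.map h₂ (Q.val z) := by
  have hr := E.property.1
  let π₁ : EtOver.prodObj E' E ⟶ E' := EtOver.prodFst E' E
  let π₂ : EtOver.prodObj E' E ⟶ E := EtOver.prodSnd E' E
  obtain ⟨b₁, hb₁1, hb₁2⟩ := BinaryFan.IsLimit.lift' (EtOver.prodIsLimit E' E) h₁ (σ E V)
  obtain ⟨b₂, hb₂1, hb₂2⟩ := BinaryFan.IsLimit.lift' (EtOver.prodIsLimit E' E) h₂ (σ E V)
  have hb₁1' : b₁ ≫ π₁ = h₁ := hb₁1
  have hb₁2' : b₁ ≫ π₂ = σ E V := hb₁2
  have hb₂1' : b₂ ≫ π₁ = h₂ := hb₂1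
  have hb₂2' : b₂ ≫ π₂ = σ E V := hb₂2
  let c₁ : V ⟶ VV π₂ := MorphismProperty.Over.homMk b₁.hom.left.left
    (congrArg (fun k => k.hom.left.left) hb₁2')
  let c₂ : V ⟶ VV π₂ := MorphismProperty.Over.homMk b₂.hom.left.left
    (congrArg (fun k => k.hom.left.left) hb₂2')
  have hc₁ : (chart E).map c₁ ≫ (ιι π₂).hom = b₁ := by
    apply EtOver.hom_ext
    apply Over.OverMorphism.ext
    show b₁.hom.left.left ≫ 𝟙 _ = b₁.hom.left.left
    rw [Category.comp_id]
  have hc₂ : (chart E).map c₂ ≫ (ιι π₂).hom = b₂ := by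
    apply EtOver.hom_ext
    apply Over.OverMorphism.ext
    show b₂.hom.left.left ≫ 𝟙 _ = b₂.hom.left.left
    rw [Category.comp_id]
  have hτ : τ V z ≫ b₁.hom.left = τ V z ≫ b₂.hom.left := by
    apply Functor.relativelyRepresentable.hom_ext' E.property.1
    · have e1 : b₁.hom.left ≫ E.property.1.fst' E'.obj.hom = (σ E V).hom.left :=
        congrArg (fun k => k.hom.left) hb₁2'
      have e2 : b₂.hom.left ≫ E.property.1.fst' E'.obj.hom = (σ E V).hom.left :=
        congrArg (fun k => k.hom.left) hb₂2'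
      rw [Category.assoc, Category.assoc, e1, e2]
    · have e1 : b₁.hom.left ≫ E.property.1.snd E'.obj.hom = h₁.hom.left :=
        congrArg (fun k => k.hom.left) hb₁1'
      have e2 : b₂.hom.left ≫ E.property.1.snd E'.obj.hom = h₂.hom.left :=
        congrArg (fun k => k.hom.left) hb₂1'
      rw [Category.assoc, Category.assoc, e1, e2, h]
  have hgeo : toGeo V z ≫ c₁.left = toGeo V z ≫ c₂.left := by
    rw [← cancel_epi (ρ P y)]
    exact congrArg (fun k => k.left) hτ
  have hQ : (Q P y).fiber.map c₁ z = (Q P y).fiber.map c₂ z := by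
    apply toGeo_injective
    rw [toGeo_map, toGeo_map, hgeo]
  have hval := congrArg Q.val hQ
  rw [Q.val_map, Q.val_map] at hval
  have := congrArg (P.fiber.map ((ιι π₂).hom ≫ π₁)) hval
  rw [← Functor.map_comp_apply, ← Functor.map_comp_apply, ← Category.assoc, ← Category.assoc,
    hc₁, hc₂, hb₁1', hb₂1'] at this
  exact this

/-- (iv) the element of the fibre is determined by the lift. -/
theorem map_eq_of_liftOf_eq {E' : EtOver X} (V₁ V₂ : E.obj.left.left.Etale)
    (z₁ : (Q P y).fiber.obj V₁) (z₂ : (Q P y).fiber.obj V₂) (g₁ : (chart E).obj V₁ ⟶ E')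
    (g₂ : (chart E).obj V₂ ⟶ E') (h : liftOf V₁ z₁ g₁ = liftOf V₂ z₂ g₂) :
    P.fiber.map g₁ (Q.val z₁) = P.fiber.map g₂ (Q.val z₂) := by
  let q₁ : (Q P y).fiber.Elements := ⟨V₁, z₁⟩
  let q₂ : (Q P y).fiber.Elements := ⟨V₂, z₂⟩
  let q₃ := IsCofiltered.min q₁ q₂
  let a₁ : q₃ ⟶ q₁ := IsCofiltered.minToLeft q₁ q₂
  let a₂ : q₃ ⟶ q₂ := IsCofiltered.minToRight q₁ q₂
  let h₁ : (chart E).obj q₃.1 ⟶ E' := (chart E).map a₁.1 ≫ g₁
  let h₂ : (chart E).obj q₃.1 ⟶ E' := (chart E).map a₂.1 ≫ g₂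
  have e1 : P.fiber.map h₁ (Q.val q₃.2) = P.fiber.map g₁ (Q.val z₁) := by
    rw [Functor.map_comp_apply, ← Q.val_map]
    exact congrArg (fun t => P.fiber.map g₁ (Q.val t)) a₁.2
  have e2 : P.fiber.map h₂ (Q.val q₃.2) = P.fiber.map g₂ (Q.val z₂) := by
    rw [Functor.map_comp_apply, ← Q.val_map]
    exact congrArg (fun t => P.fiber.map g₂ (Q.val t)) a₂.2
  have t1 : τ V₁ z₁ = τ q₃.1 q₃.2 ≫ ((chart E).map a₁.1).hom.left := by
    rw [← τ_map]
    exact congrArg (τ V₁) a₁.2.symm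
  have t2 : τ V₂ z₂ = τ q₃.1 q₃.2 ≫ ((chart E).map a₂.1).hom.left := by
    rw [← τ_map]
    exact congrArg (τ V₂) a₂.2.symm
  have h' : τ V₁ z₁ ≫ g₁.hom.left = τ V₂ z₂ ≫ g₂.hom.left := congrArg Subtype.val h
  rw [t1, t2, Category.assoc, Category.assoc] at h'
  rw [← e1, ← e2]
  exact map_eq_of_τ_comp_eq q₃.1 q₃.2 h₁ h₂ h'

/-- (ii) every lift of the geometric point comes from an element of the fibre. -/
theorem exists_of_lift {E' : EtOver X} (l : (FieldPt.liftsTo (pt P y)).obj E') :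
    ∃ (V : E.obj.left.left.Etale) (z : (Q P y).fiber.obj V) (g' : (chart E).obj V ⟶ E'),
      liftOf V z g' = l := by
  let π₁ : EtOver.prodObj E' E ⟶ E' := EtOver.prodFst E' E
  let π₂ : EtOver.prodObj E' E ⟶ E := EtOver.prodSnd E' E
  have hi : (yon S).map (mK P y) ≫ E.obj.hom = (yon S).map l.1 ≫ E'.obj.hom := by
    rw [← pt_toHom]
    exact l.2.symm
  let sbar : (pt P y).pt ⟶ (EtOver.prodObj E' E).obj.left :=
    E.property.1.lift' (mK P y) l.1 hi
  have hs1 : sbar ≫ E.property.1.fst' E'.obj.hom = mK P y :=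
    Functor.relativelyRepresentable.lift'_fst _ _ _ _
  have hs2 : sbar ≫ E.property.1.snd E'.obj.hom = l.1 :=
    Functor.relativelyRepresentable.lift'_snd _ _ _ _
  have : Etale (VV π₂).hom := (VV π₂).prop
  have hs : sbar.left ≫ (VV π₂).hom =
      Spec.map (CommRingCat.ofHom (algebraMap (κ (Q P y)) (KK P y))) ≫ ξ (Q P y) :=
    congrArg (fun k => k.left) hs1
  obtain ⟨t, ht1, ht2⟩ := AlgPtC.exists_descent_of_etale_of_isSepClosed
    (algebraMap (κ (Q P y)) (KK P y)) (VV π₂).hom (ξ (Q P y)) sbar.left hs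
  obtain ⟨z, hz⟩ := toGeo_surjective (VV π₂) t ht1
  refine ⟨VV π₂, z, (ιι π₂).hom ≫ π₁, ?_⟩
  apply Subtype.ext
  apply Over.OverMorphism.ext
  show (ρ P y ≫ toGeo (VV π₂) z) ≫ (𝟙 _ ≫ π₁.hom.left.left) = l.1.left
  rw [Category.id_comp, hz, Category.assoc]
  have ht2' : ρ P y ≫ t = sbar.left := ht2
  rw [← Category.assoc, ht2']
  exact congrArg (fun k => k.left) hs2

/-- (v) naturality. -/
theorem liftOf_comp {E' E'' : EtOver X} (V : E.obj.left.left.Etale) (z : (Q P y).fiber.obj V)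
    (g' : (chart E).obj V ⟶ E') (k : E' ⟶ E'') :
    liftOf V z (g' ≫ k) = (FieldPt.liftsTo (pt P y)).map k (liftOf V z g') := by
  apply Subtype.ext
  show τ V z ≫ g'.hom.left ≫ k.hom.left = (τ V z ≫ g'.hom.left) ≫ k.hom.left
  rw [Category.assoc]

variable (P y) in
/-- The comparison map from the fibre of `P` to the lifts of the geometric point. -/
noncomputable def α (E' : EtOver X) (w : P.fiber.obj E') : (FieldPt.liftsTo (pt P y)).obj E' :=
  liftOf (exists_rep (y := y) w).choose (exists_rep (y := y) w).choose_spec.choose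
    (exists_rep (y := y) w).choose_spec.choose_spec.choose

theorem α_eq {E' : EtOver X} (w : P.fiber.obj E') (V : E.obj.left.left.Etale)
    (z : (Q P y).fiber.obj V) (g' : (chart E).obj V ⟶ E') (h : P.fiber.map g' (Q.val z) = w) :
    α P y E' w = liftOf V z g' :=
  liftOf_eq _ _ _ _ _ _
    ((exists_rep (y := y) w).choose_spec.choose_spec.choose_spec.trans h.symm)

theorem α_bijective (E' : EtOver X) : Function.Bijective (α P y E') := by
  constructor
  · intro w₁ w₂ h
    obtain ⟨V₁, z₁, g₁, hw₁⟩ := exists_rep (y := y) w₁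
    obtain ⟨V₂, z₂, g₂, hw₂⟩ := exists_rep (y := y) w₂
    rw [α_eq w₁ V₁ z₁ g₁ hw₁, α_eq w₂ V₂ z₂ g₂ hw₂] at h
    rw [← hw₁, ← hw₂]
    exact map_eq_of_liftOf_eq _ _ _ _ _ _ h
  · intro l
    obtain ⟨V, z, g', hl⟩ := exists_of_lift l
    exact ⟨P.fiber.map g' (Q.val z), (α_eq _ V z g' rfl).trans hl⟩

theorem α_natural {E' E'' : EtOver X} (k : E' ⟶ E'') (w : P.fiber.obj E') :
    α P y E'' (P.fiber.map k w) = (FieldPt.liftsTo (pt P y)).map k (α P y E' w) := by
  obtain ⟨V, z, g', hw⟩ := exists_rep (y := y) w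
  rw [α_eq w V z g' hw, ← liftOf_comp]
  apply α_eq
  rw [Functor.map_comp_apply, hw]

variable (P y) in
/-- The fibre functor of `P` is the functor of lifts of the geometric point. -/
noncomputable def fiberIso : P.fiber ≅ FieldPt.liftsTo (pt P y) :=
  NatIso.ofComponents (fun E' => (Equiv.ofBijective _ (α_bijective (P := P) (y := y) E')).toIso)
    (by
      intro E' E'' k
      ext w
      exact α_natural k w)

end Groth.Agent.Helper9.AlgPtD
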