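import Mathlib
import Groth.Agent.Helper9.AlgPtD

set_option autoImplicit false
open CategoryTheory CategoryTheory.Limits AlgebraicGeometry Opposite

universe u

namespace Groth.Agent.Helper9.AlgPtD

open AlgSp Groth.Agent.Helper9.AlgPtB Groth.Agent.Helper9.PtGeoA

set_option backward.isDefEq.respectTransparency false

variable {S : Scheme.{u}}

/-- Every point of the small étale site of an algebraic space is given by a geometric point. -/
theorem exists_geometric_point (X : Space S)
    (P : GrothendieckTopology.Point.{u} (etTop X.obj)) :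
    ∃ p : FieldPt X.obj, p.IsGeometric ∧
      Nonempty (P.sheafFiber (A := Type (u + 1)) ≅ stalkEtFunctor (Type (u + 1)) p) := by
  obtain ⟨q⟩ := (IsCofiltered.nonempty : Nonempty P.fiber.Elements)
  let p := pt P q.2
  have hp : p.IsGeometric := pt_isGeometric P q.2
  refine ⟨p, hp, ?_⟩
  let Φ' := Groth.Agent.Helper5.EtPt.etPoint X p hp
  let e : P.fiber ≅ Φ'.fiber := fiberIso P q.2
  let f : P ⟶ Φ' := ⟨e.inv⟩
  let g : Φ' ⟶ P := ⟨e.hom⟩
  have hfg : f ≫ g = 𝟙 P := by
    apply GrothendieckTopology.Point.hom_ext
    exact e.hom_inv_id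
  have hgf : g ≫ f = 𝟙 Φ' := by
    apply GrothendieckTopology.Point.hom_ext
    exact e.inv_hom_id
  have iso : P.sheafFiber (A := Type (u + 1)) ≅ Φ'.sheafFiber :=
    { hom := GrothendieckTopology.Point.Hom.sheafFiber g
      inv := GrothendieckTopology.Point.Hom.sheafFiber f
      hom_inv_id := by
        rw [← GrothendieckTopology.Point.Hom.sheafFiber_comp, hfg,
          GrothendieckTopology.Point.Hom.sheafFiber_id]
      inv_hom_id := by
        rw [← GrothendieckTopology.Point.Hom.sheafFiber_comp, hgf,
          GrothendieckTopology.Point.Hom.sheafFiber_id] }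
  rw [← Groth.Agent.Helper5.EtPt.sheafFiber_eq X p hp]
  exact ⟨iso⟩

end Groth.Agent.Helper9.AlgPtD
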