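import Mathlib
import Groth.Prelude.Def_AlgSpOX3

/-! Base changes of an integral morphism of sheaves to schemes are integral morphisms of schemes. -/

set_option autoImplicit false
open CategoryTheory CategoryTheory.Limits AlgebraicGeometry Opposite

universe u w

namespace Groth.Agent.Helper9.AlgPushB

open AlgSp

set_option backward.isDefEq.respectTransparency false

variable {S : Scheme.{u}} {X Y : Sp S} {f : X ⟶ Y}

theorem isIntegralHom_snd (hf : Representable f) (hint : IsIntegralMor f)
    {U : Over S} (a : (yon S).obj U ⟶ Y) : IsIntegralHom (hf.snd a).left := by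
  rw [IsZariskiLocalAtTarget.iff_of_openCover (P := @IsIntegralHom) U.left.affineCover]
  intro i
  let 𝒰 := U.left.affineCover
  let Z : Over S := Over.mk (𝒰.f i ≫ U.hom)
  let ιi : Z ⟶ U := Over.homMk (𝒰.f i) rfl
  have hZ : IsAffine Z.left := by
    show IsAffine (𝒰.X i)
    infer_instance
  obtain ⟨W, i', fst, hpb, haff, hint'⟩ := hint hZ ((yon S).map ιi ≫ a)
  have comm : fst ≫ f = (yon S).map (i' ≫ ιi) ≫ a := by
    rw [Functor.map_comp, Category.assoc]
    exact hpb.w
  let ℓ : W ⟶ hf.pullback a := hf.lift fst (i' ≫ ιi) comm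
  have hℓ1 : (yon S).map ℓ ≫ hf.fst a = fst := hf.lift_fst _ _ _
  have hℓ2 : ℓ ≫ hf.snd a = i' ≫ ιi := hf.lift_snd _ _ _
  have hsq : IsPullback ((yon S).map ℓ) ((yon S).map i') ((yon S).map (hf.snd a))
      ((yon S).map ιi) := by
    refine IsPullback.of_right ?_ ?_ (hf.isPullback a)
    · rw [hℓ1]
      exact hpb
    · rw [← Functor.map_comp, ← Functor.map_comp, hℓ2]
  have hsq' : IsPullback ℓ i' (hf.snd a) ιi := IsPullback.of_map (yon S) hℓ2 hsq
  have hsq'' : IsPullback ℓ.left i'.left (hf.snd a).left (𝒰.f i) := hsq'.map (Over.forget S)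
  have e : (𝒰.pullbackHom (hf.snd a).left i) = hsq''.isoPullback.inv ≫ i'.left := by
    rw [Iso.eq_inv_comp]
    exact hsq''.isoPullback_hom_snd
  rw [e]
  infer_instance

end Groth.Agent.Helper9.AlgPushB
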