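import Mathlib
import Groth.Prelude.Def_BigSite

/-! A convenient reformulation of condition (B) for arbitrary pullback squares. -/

set_option autoImplicit false
open CategoryTheory CategoryTheory.Limits AlgebraicGeometry Opposite

universe u

namespace Groth.Agent.Helper9.AlgPushC

theorem propB_cover {P B : Scheme.{u}} (φ : P ⟶ B) (hB : BigSite.PropB φ) {ι : Type u}
    (U : ι → Scheme.{u}) (g : ∀ i, U i ⟶ P) (hg : ∀ i, Etale (g i))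
    (hcov : ∀ x : P, ∃ i, x ∈ Set.range (g i).base) (b : B) :
    ∃ (B' : Scheme.{u}) (v' : B' ⟶ B) (_ : Etale v') (b' : B'), v' b' = b ∧
      ∀ (P' : Scheme.{u}) (p : P' ⟶ P) (φ' : P' ⟶ B'), IsPullback p φ' φ v' →
        ∃ (μ : Type u) (W : μ → P'.Opens), (∀ a b, a ≠ b → Disjoint (W a) (W b)) ∧
          (⨆ a, W a) = ⊤ ∧
          ∀ a, ∃ (i : ι) (h : ((W a : P'.Opens) : Scheme.{u}) ⟶ U i), h ≫ g i = (W a).ι ≫ p := by
  have hiso : IsIso (pullback.fst φ (𝟙 B)) := inferInstance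
  let g' : ∀ i, U i ⟶ pullback φ (𝟙 B) := fun i => g i ≫ inv (pullback.fst φ (𝟙 B))
  have hg' : ∀ i, Etale (g' i) := by
    intro i
    have := hg i
    infer_instance
  have hcov' : ∀ x : ↥(pullback φ (𝟙 B)), ∃ i, x ∈ Set.range (g' i).base := by
    intro x
    obtain ⟨i, z, hz⟩ := hcov ((pullback.fst φ (𝟙 B)) x)
    refine ⟨i, z, ?_⟩
    show (g i ≫ inv (pullback.fst φ (𝟙 B))) z = x
    rw [Scheme.Hom.comp_apply]
    have hz' : (g i) z = (pullback.fst φ (𝟙 B)) x := hz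
    rw [hz', ← Scheme.Hom.comp_apply, IsIso.hom_inv_id]
    rfl
  obtain ⟨κ, V', v', hv'et, hv'cov, hW⟩ := hB B (𝟙 B) ι U g' hg' hcov'
  obtain ⟨j, b', hb'⟩ := hv'cov b
  refine ⟨V' j, v' j, hv'et j, b', hb', ?_⟩
  intro P' p φ' hsq
  obtain ⟨μ, W, hdisj, hsup, hfac⟩ := hW j
  have hsq' : IsPullback p φ' φ (v' j ≫ 𝟙 B) := by
    rw [Category.comp_id]
    exact hsq
  let θ : P' ≅ pullback φ (v' j ≫ 𝟙 B) := hsq'.isoPullback
  have hθ1 : θ.hom ≫ pullback.fst φ (v' j ≫ 𝟙 B) = p := hsq'.isoPullback_hom_fst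
  refine ⟨μ, fun a => θ.hom ⁻¹ᵁ W a, ?_, ?_, ?_⟩
  · intro a c hac
    rw [disjoint_iff]
    have h1 := disjoint_iff.1 (hdisj a c hac)
    show θ.hom ⁻¹ᵁ W a ⊓ θ.hom ⁻¹ᵁ W c = ⊥
    rw [← Scheme.Hom.preimage_inf, h1]
    rfl
  · rw [← Scheme.Hom.preimage_iSup, hsup]
    rfl
  · intro a
    obtain ⟨i, h, hh⟩ := hfac a
    refine ⟨i, (θ.hom ∣_ W a) ≫ h, ?_⟩
    have e1 : g i = g' i ≫ pullback.fst φ (𝟙 B) := by
      show g i = (g i ≫ inv (pullback.fst φ (𝟙 B))) ≫ pullback.fst φ (𝟙 B)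
      rw [Category.assoc, IsIso.inv_hom_id, Category.comp_id]
    have e2 : pullback.map φ (v' j ≫ 𝟙 B) φ (𝟙 B) (𝟙 P) (v' j) (𝟙 B) (by simp) (by simp) ≫
        pullback.fst φ (𝟙 B) = pullback.fst φ (v' j ≫ 𝟙 B) := by
      rw [pullback.lift_fst]
      exact Category.comp_id _
    have e3 : (θ.hom ∣_ W a) ≫ (W a).ι = (θ.hom ⁻¹ᵁ W a).ι ≫ θ.hom := morphismRestrict_ι _ _
    calc ((θ.hom ∣_ W a) ≫ h) ≫ g i
        = (θ.hom ∣_ W a) ≫ (h ≫ g' i) ≫ pullback.fst φ (𝟙 B) := by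
          rw [e1]; simp only [Category.assoc]
      _ = (θ.hom ∣_ W a) ≫ ((W a).ι ≫ pullback.map φ (v' j ≫ 𝟙 B) φ (𝟙 B) (𝟙 P) (v' j) (𝟙 B)
            (by simp) (by simp)) ≫ pullback.fst φ (𝟙 B) := by rw [hh]
      _ = ((θ.hom ∣_ W a) ≫ (W a).ι) ≫ pullback.fst φ (v' j ≫ 𝟙 B) := by
          rw [Category.assoc, e2, Category.assoc]
      _ = (θ.hom ⁻¹ᵁ W a).ι ≫ p := by rw [e3, Category.assoc, hθ1]

end Groth.Agent.Helper9.AlgPushC
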