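import Mathlib
import Groth.Prelude.Def_AlgSpOX3
import Groth.Prelude.Def_AlgSpOX2
import Groth.Agent.Helper9.AlgPtB
import Groth.Agent.Helper9.AlgPushA
import Groth.Agent.Helper9.AlgPushB
import Groth.Agent.Helper9.AlgPushC
import Groth.Agent.Helper9.LocalBInt

/-! Direct image along an integral representable morphism of sheaves preserves epimorphisms of
sheaves of sets on the small étale sites. -/

set_option autoImplicit false
open CategoryTheory CategoryTheory.Limits AlgebraicGeometry Opposite

universe u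

namespace Groth.Agent.Helper9.AlgPushD

open AlgSp Groth.Agent.Helper9.AlgPtB Groth.Agent.Helper9.AlgPushA

set_option backward.isDefEq.respectTransparency false

variable {S : Scheme.{u}} {X Y : Sp S} {f : X ⟶ Y}

theorem epi_push_of_epi (hf : Representable f) (hint : IsIntegralMor f)
    {F G : EtSh X (Type (u + 1))} (a : F ⟶ G) [Epi a] :
    Epi ((pushEt hf (Type (u + 1))).map a) := by
  have hls : Sheaf.IsLocallySurjective a := (Sheaf.isLocallySurjective_iff_epi _).2 inferInstance
  rw [← Sheaf.isLocallySurjective_iff_epi]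
  constructor
  intro V t
  let T : EtOver X := (EtOver.bc hf).obj V
  let t' : G.obj.obj (op T) := t
  have hS : Presheaf.imageSieve a.hom t' ∈ etTop X T := Presheaf.imageSieve_mem _ a.hom t'
  have hS' := (mem_etTop_iff T _).1 hS
  choose U u hu hz using hS'
  choose sx hsx using hu
  -- the scheme level morphism
  let fV : T.obj.left.left ⟶ V.obj.left.left := (hf.snd V.obj.hom).left
  have hfV : IsIntegralHom fV := Groth.Agent.Helper9.AlgPushB.isIntegralHom_snd hf hint V.obj.hom
  have hB : BigSite.PropB fV := Groth.Agent.Helper9.LocalG.propB_of_isIntegralHom fV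
  rw [mem_etTop_iff]
  intro y
  obtain ⟨B', v', hv'et, b', hb', hW⟩ := Groth.Agent.Helper9.AlgPushC.propB_cover fV hB
    (fun x : T.obj.left.left => (U x).obj.left.left) (fun x => (u x).hom.left.left)
    (fun x => EtOver.etale_left (u x)) (fun x => ⟨x, hz x⟩) y
  let V'' : EtOver Y := (chart V).obj (@Scheme.Etale.mk _ _ v' hv'et)
  let gj : V'' ⟶ V := σ V _
  refine ⟨V'', gj, ?_, ⟨b', hb'⟩⟩
  let Tj : EtOver X := (EtOver.bc hf).obj V''
  let bcm : Tj ⟶ T := (EtOver.bc hf).map gj
  obtain ⟨μ, W, hdisj, hsup, hfac⟩ := hW Tj.obj.left.left bcm.hom.left.left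
    (hf.snd V''.obj.hom).left (EtOver.isPullback_bcMap_left hf gj)
  choose i h hh using hfac
  let O : μ → EtOver X := fun a => (chart Tj).obj (Scheme.Etale.mk (W a).ι)
  let ι : ∀ a, O a ⟶ Tj := fun a => σ Tj _
  have hιl : ∀ a, (ι a).hom.left.left = (W a).ι := fun a => rfl
  -- the morphisms to the members of the covering
  have hS1 : ∀ a, h a ≫ (U (i a)).obj.left.hom = (O a).obj.left.hom := by
    intro a
    have e1 : (u (i a)).hom.left.left ≫ T.obj.left.hom = (U (i a)).obj.left.hom :=
      Over.w (u (i a)).hom.left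
    have e2 : bcm.hom.left.left ≫ T.obj.left.hom = Tj.obj.left.hom := Over.w bcm.hom.left
    rw [← e1, ← Category.assoc, hh a, Category.assoc, e2]
    rfl
  let h0 : ∀ a, (O a).obj.left ⟶ (U (i a)).obj.left := fun a => Over.homMk (h a) (hS1 a)
  have hh0 : ∀ a, h0 a ≫ (u (i a)).hom.left = (ι a).hom.left ≫ bcm.hom.left := by
    intro a
    apply Over.OverMorphism.ext
    exact hh a
  have hX1 : ∀ a, (yon S).map (h0 a) ≫ (U (i a)).obj.hom = (O a).obj.hom := by
    intro a
    rw [← EtOver.w (u (i a)), ← Category.assoc, ← Functor.map_comp, hh0 a, Functor.map_comp,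
      Category.assoc, EtOver.w bcm, EtOver.w (ι a)]
  let h' : ∀ a, O a ⟶ U (i a) := fun a => EtOver.homMk (h0 a) (hX1 a)
  have hkey : ∀ a, h' a ≫ u (i a) = ι a ≫ bcm := by
    intro a
    apply EtOver.hom_ext
    exact hh0 a
  have hmono : ∀ a, Mono (ι a) := by
    intro a
    apply mono_of_mono_left
    show Mono (W a).ι
    infer_instance
  have hsurj : ∀ x : Tj.obj.left.left, ∃ (a : μ) (z : (O a).obj.left.left),
      (ι a).hom.left.left z = x := by
    intro x
    have hx : x ∈ (⨆ a, W a : Tj.obj.left.left.Opens) := by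
      rw [hsup]
      trivial
    obtain ⟨a, ha⟩ := TopologicalSpace.Opens.mem_iSup.1 hx
    have ha' : x ∈ Set.range (W a).ι.base := by
      rw [Scheme.Opens.range_ι]
      exact ha
    obtain ⟨z, hz⟩ := ha'
    exact ⟨a, z, hz⟩
  have hdisj' : ∀ a b, a ≠ b → ∀ (za : (O a).obj.left.left) (zb : (O b).obj.left.left),
      (ι a).hom.left.left za ≠ (ι b).hom.left.left zb := by
    intro a b hab za zb heq
    have h1 : (W a).ι za = (W b).ι zb := heq
    have h2 : (W a).ι za ∈ ((W a : Tj.obj.left.left.Opens) : Set _) := by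
      rw [← Scheme.Opens.range_ι]
      exact ⟨_, rfl⟩
    have h3 : (W a).ι za ∈ ((W b : Tj.obj.left.left.Opens) : Set _) := by
      rw [h1, ← Scheme.Opens.range_ι]
      exact ⟨_, rfl⟩
    exact (hdisj a b hab).le_bot ⟨h2, h3⟩
  have hFsh : Presieve.IsSheaf (etTop X) F.obj := (isSheaf_iff_isSheaf_of_type _ _).1 F.property
  have hGsh : Presieve.IsSheaf (etTop X) G.obj := (isSheaf_iff_isSheaf_of_type _ _).1 G.property
  obtain ⟨s, hs, -⟩ := existsUnique_glue O ι hmono hsurj hdisj' F.obj hFsh
    (fun a => F.obj.map (h' a).op (sx (i a)))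
  refine ⟨s, ?_⟩
  obtain ⟨r, -, hr⟩ := existsUnique_glue O ι hmono hsurj hdisj' G.obj hGsh
    (fun a => G.obj.map (ι a ≫ bcm).op t')
  have e1 : a.hom.app (op Tj) s = r := by
    apply hr
    intro b
    have n1 := NatTrans.naturality_apply a.hom (ι b).op s
    rw [← n1, hs b]
    have n2 := NatTrans.naturality_apply a.hom (h' b).op (sx (i b))
    rw [n2, hsx (i b), ← Functor.map_comp_apply, ← op_comp, hkey b]
  have e2 : G.obj.map bcm.op t' = r := by
    apply hr
    intro b
    rw [← Functor.map_comp_apply, ← op_comp]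
  exact e1.trans e2.symm

end Groth.Agent.Helper9.AlgPushD
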