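import Mathlib
import Groth.Prelude.Def_AlgSpOX3
import Groth.Prelude.Def_AlgSpOX2
import Groth.Agent.Helper9.AlgPushD
import Groth.Agent.Helper1.FunLES

/-! Direct image of abelian sheaves along an integral representable morphism of sheaves is exact and
has no higher derived functors. -/

set_option autoImplicit false
set_option linter.style.haveILetI false
open CategoryTheory CategoryTheory.Limits AlgebraicGeometry Opposite

universe u

namespace Groth.Agent.Helper9.AlgPushE

open AlgSp

set_option backward.isDefEq.respectTransparency false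

variable {S : Scheme.{u}} {X Y : Sp S} {f : X ⟶ Y}

theorem epi_push_of_epi (hf : Representable f) (hint : IsIntegralMor f)
    {F G : AbEt X} (a : F ⟶ G) [Epi a] :
    Epi ((pushEt hf AddCommGrpCat.{u + 1}).map a) := by
  have h1 : Sheaf.IsLocallySurjective a :=
    (Sheaf.isLocallySurjective_iff_epi' AddCommGrpCat.{u + 1} a).2 inferInstance
  have h2 : Sheaf.IsLocallySurjective
      ((sheafCompose (etTop X) (forget AddCommGrpCat.{u + 1})).map a) :=
    (Presheaf.isLocallySurjective_iff_whisker_forget _ a.hom).1 h1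
  have h3 : Epi ((sheafCompose (etTop X) (forget AddCommGrpCat.{u + 1})).map a) :=
    (Sheaf.isLocallySurjective_iff_epi _).1 h2
  have h4 : Epi ((pushEt hf (Type (u + 1))).map
      ((sheafCompose (etTop X) (forget AddCommGrpCat.{u + 1})).map a)) :=
    Groth.Agent.Helper9.AlgPushD.epi_push_of_epi hf hint _
  have h5 : Sheaf.IsLocallySurjective ((pushEt hf (Type (u + 1))).map
      ((sheafCompose (etTop X) (forget AddCommGrpCat.{u + 1})).map a)) :=
    (Sheaf.isLocallySurjective_iff_epi _).2 h4
  have h6 : Sheaf.IsLocallySurjective ((pushEt hf AddCommGrpCat.{u + 1}).map a) :=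
    (Presheaf.isLocallySurjective_iff_whisker_forget _
      ((pushEt hf AddCommGrpCat.{u + 1}).map a).hom).2 h5
  exact (Sheaf.isLocallySurjective_iff_epi' AddCommGrpCat.{u + 1} _).1 h6

theorem preservesFiniteColimits_push (hf : Representable f) (hint : IsIntegralMor f) :
    PreservesFiniteColimits (pushEt hf AddCommGrpCat.{u + 1}) := by
  haveI : (pushEt hf AddCommGrpCat.{u + 1}).PreservesEpimorphisms :=
    ⟨fun a _ => epi_push_of_epi hf hint a⟩
  haveI : (pushEt hf AddCommGrpCat.{u + 1}).IsRightAdjoint :=
    (pullPushAdjEt hf AddCommGrpCat.{u + 1}).isRightAdjoint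
  haveI : PreservesFiniteLimits (pushEt hf AddCommGrpCat.{u + 1}) := inferInstance
  rw [Functor.preservesFiniteColimits_iff_forall_exact_map_and_epi]
  intro T hT
  have h0 : PreservesFiniteLimits (pushEt hf AddCommGrpCat.{u + 1}) := inferInstance
  have h1 := (Functor.preservesFiniteLimits_iff_forall_exact_map_and_mono
    (pushEt hf AddCommGrpCat.{u + 1})).1 h0 T hT
  haveI := hT.epi_g
  exact ⟨h1.1, inferInstance⟩

theorem isZero_Rpush (hf : Representable f) (hint : IsIntegralMor f) (F : AbEt X) (q : ℕ)
    (hq : 0 < q) : IsZero ((RpushEt hf q).obj F) := by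
  haveI : PreservesFiniteColimits (pushEt hf AddCommGrpCat.{u + 1}) :=
    preservesFiniteColimits_push hf hint
  haveI : (pushEt hf AddCommGrpCat.{u + 1}).IsRightAdjoint :=
    (pullPushAdjEt hf AddCommGrpCat.{u + 1}).isRightAdjoint
  haveI : PreservesFiniteLimits (pushEt hf AddCommGrpCat.{u + 1}) := inferInstance
  obtain ⟨n, rfl⟩ : ∃ n, q = n + 1 := ⟨q - 1, by omega⟩
  exact Groth.Agent.Helper1.FunLES.isZero_rightDerived_of_exact
    (G := pushEt hf AddCommGrpCat.{u + 1}) n F

end Groth.Agent.Helper9.AlgPushE
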