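import Mathlib
import Groth.Prelude.Def_AlgSpCov
import Groth.Agent.Helper9.AlgPushA
import Groth.Agent.Helper5.Decent2
import Groth.Agent.Helper4.AlgSpPts

/-! Coverings of the big étale site of spaces pull back to coverings of the small étale site. -/

set_option autoImplicit false
open CategoryTheory CategoryTheory.Limits AlgebraicGeometry Opposite

universe u

namespace Groth.Agent.Helper9.AlgSiteA

open AlgSp Groth.Agent.Helper9.AlgPushA

set_option backward.isDefEq.respectTransparency false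

variable {S : Scheme.{u}} {Y : Sp S}

/-- The sieve on an object `E` of the small étale site pulled back from a sieve on a space `Z`
along a morphism `φ : h_E ⟶ Z`. -/
def pb {Z : Space S} (R : Sieve Z) (E : EtOver Y) (φ : (ofScheme S).obj E.obj.left ⟶ Z) :
    Sieve E where
  arrows E' g := R ((ofScheme S).map g.hom.left ≫ φ)
  downward_closed := by
    intro E' E'' g hg g'
    have e : (ofScheme S).map (g' ≫ g).hom.left ≫ φ =
        (ofScheme S).map g'.hom.left ≫ ((ofScheme S).map g.hom.left ≫ φ) := by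
      rw [← Category.assoc, ← Functor.map_comp]
      rfl
    show R ((ofScheme S).map (g' ≫ g).hom.left ≫ φ)
    rw [e]
    exact R.downward_closed hg _

theorem pb_apply {Z : Space S} (R : Sieve Z) (E : EtOver Y) (φ : (ofScheme S).obj E.obj.left ⟶ Z)
    {E' : EtOver Y} (g : E' ⟶ E) : pb R E φ g ↔ R ((ofScheme S).map g.hom.left ≫ φ) := Iff.rfl

theorem pb_generate_mem {Z : Space S} (P : Presieve Z) (hP : P ∈ spacesPre S IsEtaleMor Z)
    (E : EtOver Y) (φ : (ofScheme S).obj E.obj.left ⟶ Z) :
    pb (Sieve.generate P) E φ ∈ etTop Y E := by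
  rw [mem_etTop_iff]
  intro e
  obtain ⟨hPet, hPsurj⟩ := hP
  obtain ⟨Z', g, hg, z', hz'⟩ := hPsurj (Points.ofPt φ.hom e)
  obtain ⟨W, p, hpet, hpsurj⟩ := Z'.property.atlas
  obtain ⟨z, hz⟩ := Groth.Agent.Helper4.AlgSpPts.isSurjectiveMor_of_repWith p hpsurj z'
  obtain ⟨w, rfl⟩ := (Points.schemeEquiv W).surjective z
  have hw : Points.ofPt p w = z' := by
    rw [← hz]
    show Points.ofPt p w = Points.map p (Points.ofPt (𝟙 _) w)
    rw [Points.map_ofPt, Category.id_comp]
  have hψ : RepWith @Etale (p ≫ g.hom) := hPet g hg p hpet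
  let Q : Over S := hψ.rep.pullback φ.hom
  let snd : Q ⟶ E.obj.left := hψ.rep.snd φ.hom
  obtain ⟨q, hq⟩ := (yon S).map_surjective (hψ.rep.fst φ.hom)
  have sq : IsPullback ((yon S).map q) ((yon S).map snd) (p ≫ g.hom) φ.hom := by
    rw [hq]
    exact hψ.rep.isPullback φ.hom
  have hpt : Points.ofPt (p ≫ g.hom) w = Points.ofPt φ.hom e := by
    rw [← Points.map_ofPt, hw, hz']
  obtain ⟨r, hr1, hr2⟩ :=
    Groth.Agent.Helper5.Decent2.exists_scheme_point_of_isPullback sq w e hpt
  have hsnd : Etale snd.left := hψ.property φ.hom ((yon S).map q) snd sq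
  have hE' : RepWith @Etale ((yon S).map snd ≫ E.obj.hom) :=
    (repWith_isMultiplicative (S := S) @Etale).comp_mem _ _
      ((repWith_yon_map_iff _ _).2 hsnd) E.property
  let E' : EtOver Y := EtOver.mk ((yon S).map snd ≫ E.obj.hom) hE'
  let g' : E' ⟶ E := EtOver.homMk snd rfl
  refine ⟨E', g', ?_, ⟨r, hr2⟩⟩
  rw [pb_apply]
  let ℓ : (ofScheme S).obj E'.obj.left ⟶ Z' := ObjectProperty.homMk ((yon S).map q ≫ p)
  refine ⟨Z', ℓ, g, hg, ?_⟩
  apply ObjectProperty.hom_ext
  show ((yon S).map q ≫ p) ≫ g.hom = (yon S).map snd ≫ φ.hom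
  rw [Category.assoc]
  exact sq.w

theorem pb_mem {Z : Space S} {R : Sieve Z} (hR : (spacesPre S IsEtaleMor).Saturate Z R) :
    ∀ (E : EtOver Y) (φ : (ofScheme S).obj E.obj.left ⟶ Z), pb R E φ ∈ etTop Y E := by
  induction hR with
  | of Z P hP => exact fun E φ => pb_generate_mem P hP E φ
  | top Z =>
    intro E φ
    have : pb (⊤ : Sieve Z) E φ = ⊤ := by
      ext E' g
      simp [pb_apply]
    rw [this]
    exact (etTop Y).top_mem E
  | pullback Z R hR Z' f ih =>
    intro E φ
    have : pb (R.pullback f) E φ = pb R E (φ ≫ f) := by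
      ext E' g
      rw [pb_apply, pb_apply, Sieve.pullback_apply, Category.assoc]
    rw [this]
    exact ih E (φ ≫ f)
  | transitive Z R R' hR hR' ih1 ih2 =>
    intro E φ
    refine (etTop Y).transitive (ih1 E φ) _ ?_
    intro E' g hg
    have h2 := ih2 hg E' (𝟙 _)
    have : (pb R' E φ).pullback g = pb (R'.pullback ((ofScheme S).map g.hom.left ≫ φ)) E' (𝟙 _) := by
      ext E'' g'
      rw [Sieve.pullback_apply, pb_apply, pb_apply, Sieve.pullback_apply, Category.comp_id,
        ← Category.assoc, ← Functor.map_comp]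
      rfl
    rw [this]
    exact h2

end Groth.Agent.Helper9.AlgSiteA
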