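import Mathlib
import Groth.Prelude.Def_AlgSpCov
import Groth.Agent.Helper9.AlgSiteA

/-! The functor from the small étale site of `Y` to the big étale site of spaces over `X` is
cocontinuous. -/

set_option autoImplicit false
open CategoryTheory CategoryTheory.Limits AlgebraicGeometry Opposite

universe u

namespace Groth.Agent.Helper9.AlgSiteB

open AlgSp Groth.Agent.Helper9.AlgSiteA

set_option backward.isDefEq.respectTransparency false

variable {S : Scheme.{u}} {X Y : Space S} (f : Y ⟶ X)

/-- The comparison functor. -/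
noncomputable abbrev Φ : EtOver Y.obj ⥤ Over X :=
  EtOver.toEtSpOver Y ⋙ ObjectProperty.ι (fun E : Over Y => IsEtaleMor E.hom.hom) ⋙ Over.map f

theorem Φ_map_left {E E' : EtOver Y.obj} (g : E' ⟶ E) :
    ((Φ f).map g).left = (ofScheme S).map g.hom.left := rfl

theorem isCocontinuous :
    (Φ f).IsCocontinuous (etTop Y.obj) (spacesTopOver IsEtaleMor X) := by
  constructor
  intro E R hR
  obtain ⟨R₀, rfl⟩ := (Sieve.overEquiv _).symm.surjective R
  rw [GrothendieckTopology.mem_over_iff, OrderIso.apply_symm_apply] at hR
  have h := pb_mem (Y := Y.obj) hR E (𝟙 _)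
  refine (etTop Y.obj).superset_covering ?_ h
  intro E' g hg
  have hg' : R₀ ((ofScheme S).map g.hom.left ≫ 𝟙 _) := hg
  rw [Category.comp_id] at hg'
  exact hg'

end Groth.Agent.Helper9.AlgSiteB
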