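import Mathlib
import Groth.Prelude.Def_AlgSpCov
import Groth.Agent.Helper9.AlgSiteB

/-! The functor from the small étale site of `Y` to the big étale site of spaces over `X` is
continuous. -/

set_option autoImplicit false
open CategoryTheory CategoryTheory.Limits AlgebraicGeometry Opposite

universe u

namespace Groth.Agent.Helper9.AlgSiteC

open AlgSp Groth.Agent.Helper9.AlgSiteA Groth.Agent.Helper9.AlgSiteB

set_option backward.isDefEq.respectTransparency false

variable {S : Scheme.{u}} {X Y : Space S} (f : Y ⟶ X)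

theorem coverPreserving :
    CoverPreserving (etTop Y.obj) (spacesTopOver IsEtaleMor X) (Φ f) where
  cover_preserve {E R} hR := by
    have h1 := (Precoverage.mem_toGrothendieck_iff_of_isStableUnderComposition
      (J := etPre Y.obj) (S := R)).1 hR
    obtain ⟨R', hR', hle⟩ := h1
    obtain ⟨ι, Z, g, rfl⟩ := R'.exists_eq_ofArrows
    rw [ofArrows_mem_etPre_iff] at hR'
    have hle' : Sieve.ofArrows Z g ≤ R := by
      rw [Sieve.ofArrows, Sieve.generate_le_iff]
      exact hle
    refine (spacesTopOver IsEtaleMor X).superset_covering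
      (Sieve.functorPushforward_monotone (Φ f) _ hle') ?_
    rw [GrothendieckTopology.mem_over_iff, Sieve.functorPushforward_ofArrows,
      Sieve.overEquiv_ofArrows]
    refine Precoverage.Saturate.of _ _ ?_
    rw [mem_spacesPre_iff]
    constructor
    · rintro _ _ ⟨i⟩
      exact (isEtaleMor_yon_map_iff (g i).hom.left).2 (EtOver.etale_left (g i))
    · intro x
      obtain ⟨e, rfl⟩ := (Points.schemeEquiv E.obj.left).surjective x
      obtain ⟨i, z, hz⟩ := hR' e
      refine ⟨_, _, Presieve.ofArrows.mk i, Points.ofScheme _ z, ?_⟩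
      have := Points.map_yon_map_apply (g i).hom.left z
      rw [← hz]
      exact this

theorem compatiblePreserving :
    CompatiblePreserving.{u + 2} (spacesTopOver IsEtaleMor X) (Φ f) where
  compatible ℱ {Z T x} hx {Y₁ Y₂ W} f₁ f₂ {g₁ g₂} hg₁ hg₂ e := by
    have σ : IsPullback ((yon S).map (EtOver.pullbackFst g₁ g₂).hom.left)
        ((yon S).map (EtOver.pullbackSnd g₁ g₂).hom.left)
        ((yon S).map g₁.hom.left) ((yon S).map g₂.hom.left) :=
      ((EtOver.isPullback g₁ g₂).map (EtOver.forget Y.obj)).map (yon S)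
    have e' : f₁.left.hom ≫ (yon S).map g₁.hom.left = f₂.left.hom ≫ (yon S).map g₂.hom.left :=
      congrArg (fun k => k.left.hom) e
    let l : W.left.obj ⟶ (yon S).obj (EtOver.pullbackObj g₁ g₂).obj.left :=
      σ.lift f₁.left.hom f₂.left.hom e'
    have hl1 : l ≫ (yon S).map (EtOver.pullbackFst g₁ g₂).hom.left = f₁.left.hom := σ.lift_fst _ _ _
    have hl2 : l ≫ (yon S).map (EtOver.pullbackSnd g₁ g₂).hom.left = f₂.left.hom := σ.lift_snd _ _ _
    let l' : W.left ⟶ ((Φ f).obj (EtOver.pullbackObj g₁ g₂)).left := ObjectProperty.homMk l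
    have hw : l' ≫ ((Φ f).obj (EtOver.pullbackObj g₁ g₂)).hom = W.hom := by
      rw [← Over.w f₁]
      apply ObjectProperty.hom_ext
      show l ≫ ((EtOver.pullbackObj g₁ g₂).obj.hom ≫ f.hom) = f₁.left.hom ≫ (Y₁.obj.hom ≫ f.hom)
      rw [← hl1, ← EtOver.w (EtOver.pullbackFst g₁ g₂)]
      simp only [Category.assoc]
    let ℓ : W ⟶ (Φ f).obj (EtOver.pullbackObj g₁ g₂) := Over.homMk l' hw
    have hℓ1 : ℓ ≫ (Φ f).map (EtOver.pullbackFst g₁ g₂) = f₁ := by
      apply Over.OverMorphism.ext
      apply ObjectProperty.hom_ext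
      exact hl1
    have hℓ2 : ℓ ≫ (Φ f).map (EtOver.pullbackSnd g₁ g₂) = f₂ := by
      apply Over.OverMorphism.ext
      apply ObjectProperty.hom_ext
      exact hl2
    have hc := hx (EtOver.pullbackFst g₁ g₂) (EtOver.pullbackSnd g₁ g₂) hg₁ hg₂
      (EtOver.pullback_condition g₁ g₂)
    have hc' : ℱ.obj.map ((Φ f).map (EtOver.pullbackFst g₁ g₂)).op (x g₁ hg₁) =
        ℱ.obj.map ((Φ f).map (EtOver.pullbackSnd g₁ g₂)).op (x g₂ hg₂) := hc
    have := congrArg (ℱ.obj.map ℓ.op) hc'
    rw [← Functor.map_comp_apply, ← Functor.map_comp_apply, ← op_comp, ← op_comp, hℓ1, hℓ2] at this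
    exact this

theorem isContinuous :
    (Φ f).IsContinuous (etTop Y.obj) (spacesTopOver IsEtaleMor X) :=
  Functor.isContinuous_of_coverPreserving (compatiblePreserving f) (coverPreserving f)

end Groth.Agent.Helper9.AlgSiteC
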