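import Mathlib
import Groth.Prelude.Def_W4bk4git07Quot
import Groth.Prelude.Def_ChGrp
import Groth.Agent.Helper9.LocFactor
import Groth.Agent.Helper9.LocDesc

set_option autoImplicit false
set_option linter.unusedSectionVars false

namespace Groth.Agent.Helper9.AssocBundle

open CategoryTheory CategoryTheory.Limits MonoidalCategory CartesianMonoidalCategory MonObj GrpObj
  AlgebraicGeometry
open Groth.Agent.Helper9.DescTools Groth.Agent.Helper9.ExactH1 Groth.Agent.Helper9.LocDesc

universe u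

variable {S : Scheme.{u}}

section Psi

variable {H P Y : Over S} [GrpObj H] (a : AlgGrp.Action H P) (φ : P ⟶ Y)
  (hinv : GIT.IsInvariant a φ) (hiso : IsIso (GIT.PsiY a φ hinv))

include hiso in
/-- points of a principal bundle with the same image differ by a point of the group -/
theorem psi_pt {T : Over S} (y₁ y₂ : T ⟶ P) (h12 : y₁ ≫ φ = y₂ ≫ φ) :
    ∃ h : T ⟶ H, lift h y₂ ≫ a.act = y₁ := by
  have h12' : y₁.left ≫ φ.left = y₂.left ≫ φ.left := by
    rw [← Over.comp_left, ← Over.comp_left, h12]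
  let w : T.left ⟶ (H ⊗ P).left := pullback.lift y₁.left y₂.left h12' ≫ inv (GIT.PsiY a φ hinv)
  have hw1 : w ≫ a.act.left = y₁.left := by
    have : GIT.PsiY a φ hinv ≫ pullback.fst φ.left φ.left = a.act.left := pullback.lift_fst _ _ _
    rw [← this]
    simp only [w, Category.assoc, IsIso.inv_hom_id_assoc]
    exact pullback.lift_fst _ _ _
  have hw2 : w ≫ (snd H P).left = y₂.left := by
    have : GIT.PsiY a φ hinv ≫ pullback.snd φ.left φ.left = (snd H P).left := pullback.lift_snd _ _ _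
    rw [← this]
    simp only [w, Category.assoc, IsIso.inv_hom_id_assoc]
    exact pullback.lift_snd _ _ _
  let w' : T ⟶ H ⊗ P := Over.homMk w (by
    rw [← Over.w (snd H P), ← Category.assoc, hw2, Over.w])
  have hw1' : w' ≫ a.act = y₁ := by
    ext
    exact hw1
  have hw2' : w' ≫ snd H P = y₂ := by
    ext
    exact hw2
  refine ⟨w' ≫ fst H P, ?_⟩
  rw [← hw2', ← comp_lift, lift_fst_snd, Category.comp_id, hw1']

include hiso in
theorem psi_pt_unique {T : Over S} (h h' : T ⟶ H) (y : T ⟶ P)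
    (e : lift h y ≫ a.act = lift h' y ≫ a.act) : h = h' := by
  haveI : Mono (GIT.PsiY a φ hinv) := inferInstance
  have h1 : (lift h y).left = (lift h' y).left := by
    rw [← cancel_mono (GIT.PsiY a φ hinv)]
    apply pullback.hom_ext
    · rw [Category.assoc, Category.assoc]
      erw [pullback.lift_fst]
      rw [← Over.comp_left, ← Over.comp_left, e]
    · rw [Category.assoc, Category.assoc]
      erw [pullback.lift_snd]
      rw [← Over.comp_left, ← Over.comp_left, lift_snd, lift_snd]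
  have h2 : lift h y = lift h' y := Over.OverMorphism.ext h1
  have h3 := congrArg (fun m => m ≫ fst H P) h2
  simpa using h3

end Psi


section Core

variable {G H B X QX : Over S} [GrpObj G] [GrpObj H] (j : H ⟶ G) [IsMonHom j] [Mono j]
  (r : AlgGrp.Action H G)
  (hr : ∀ (T : Over S) (h : T ⟶ H) (g : T ⟶ G), lift h g ≫ r.act = g * (h ≫ j)⁻¹)
  (π : G ⟶ B) (hπinv : GIT.IsInvariant r π) (hπiso : IsIso (GIT.PsiY r π hπinv))
  (aX : AlgGrp.Action H X) (b : AlgGrp.Action H (G ⊗ X))
  (hb : ∀ (T : Over S) (h : T ⟶ H) (g : T ⟶ G) (x : T ⟶ X),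
    lift h (lift g x) ≫ b.act = lift (g * (h ≫ j)⁻¹) (lift h x ≫ aX.act))
  (qX : G ⊗ X ⟶ QX) (hqinv : GIT.IsInvariant b qX) (hqiso : IsIso (GIT.PsiY b qX hqinv))
  (hqloc : Loc Scheme.fpqcPrecoverage qX)
  (pX : QX ⟶ B) (hp : qX ≫ pX = fst G X ≫ π)

include hr hπiso hb hqiso hqloc hp in
/-- the associated bundle `G ×^H X` pulls back to `G × X` along `G ⟶ G/H` -/
theorem core : IsPullback qX (fst G X) pX π := by
  obtain ⟨P, p₁, p₂, sq⟩ : ∃ (P : Over S) (p₁ : P ⟶ QX) (p₂ : P ⟶ G), IsPullback p₁ p₂ pX π :=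
    ⟨_, _, _, IsPullback.of_hasPullback _ _⟩
  have hφ1 : sq.lift qX (fst G X) hp ≫ p₁ = qX := sq.lift_fst _ _ _
  have hφ2 : sq.lift qX (fst G X) hp ≫ p₂ = fst G X := sq.lift_snd _ _ _
  -- mono
  haveI : Mono (sq.lift qX (fst G X) hp) := by
    refine ⟨fun {T} y₁ y₂ h12 => ?_⟩
    have e1 : y₁ ≫ qX = y₂ ≫ qX := by
      rw [← hφ1, ← Category.assoc, h12, Category.assoc]
    have e2 : y₁ ≫ fst G X = y₂ ≫ fst G X := by
      rw [← hφ2, ← Category.assoc, h12, Category.assoc]
    obtain ⟨h, hh⟩ := psi_pt b qX hqinv hqiso y₁ y₂ e1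
    have e3 : y₂ = lift (y₂ ≫ fst G X) (y₂ ≫ snd G X) := by
      rw [← comp_lift, lift_fst_snd, Category.comp_id]
    rw [e3, hb] at hh
    have e4 : (y₂ ≫ fst G X) * (h ≫ j)⁻¹ = y₂ ≫ fst G X := by
      have h5 := congrArg (fun m => m ≫ fst G X) hh
      simp only [lift_fst] at h5
      rw [h5, e2]
    have e5 : h ≫ j = 1 := by
      have := mul_eq_left.mp e4
      exact inv_eq_one.mp this
    have e6 : h = 1 := by
      rw [← cancel_mono j, e5, MonObj.one_comp]
    rw [← hh, e6, AlgGrp.Action.lift_one_act, MonObj.one_comp, inv_one, _root_.mul_one, ← e3]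
  -- local sections
  obtain ⟨E, e, gam, sqE⟩ : ∃ (E : Over S) (e : E ⟶ P) (gam : E ⟶ G ⊗ X),
      IsPullback e gam p₁ qX := ⟨_, _, _, IsPullback.of_hasPullback _ _⟩
  have he : Loc Scheme.fpqcPrecoverage e := pullback_loc _ sqE hqloc
  have e1 : (e ≫ p₂) ≫ π = (gam ≫ fst G X) ≫ π := by
    rw [Category.assoc, ← sq.w, ← Category.assoc, sqE.w, Category.assoc, hp, Category.assoc]
  obtain ⟨h, hh⟩ := psi_pt r π hπinv hπiso (e ≫ p₂) (gam ≫ fst G X) e1
  rw [hr] at hh
  have e2 : (lift h gam ≫ b.act) ≫ sq.lift qX (fst G X) hp = e := by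
    apply sq.hom_ext
    · rw [Category.assoc, hφ1, Category.assoc, hqinv, lift_snd_assoc, sqE.w]
    · rw [Category.assoc, hφ2]
      have e3 : gam = lift (gam ≫ fst G X) (gam ≫ snd G X) := by
        rw [← comp_lift, lift_fst_snd, Category.comp_id]
      rw [e3, hb, lift_fst, hh]
  obtain ⟨σ, hσ⟩ := LocFactor.factor_of_loc (sq.lift qX (fst G X) hp) (𝟙 P) e he
    (lift h gam ≫ b.act) (by rw [e2, Category.comp_id])
  haveI : IsIso (sq.lift qX (fst G X) hp) := by
    refine ⟨⟨σ, ?_, hσ⟩⟩
    rw [← cancel_mono (sq.lift qX (fst G X) hp), Category.assoc, hσ, Category.comp_id,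
      Category.id_comp]
  exact IsPullback.of_iso sq (asIso (sq.lift qX (fst G X) hp)).symm (Iso.refl _) (Iso.refl _)
    (Iso.refl _) (by simp [hφ1]) (by simp [hφ2]) (by simp) (by simp)

set_option backward.isDefEq.respectTransparency false in
include hr hπiso hb hqiso hqloc hp in
theorem proper_pX (hπloc : Loc Scheme.fpqcPrecoverage π) [IsProper X.hom] : IsProper pX.left := by
  have hc := core j r hr π hπinv hπiso aX b hb qX hqinv hqiso hqloc pX hp
  have h1 : IsProper (fst G X).left := by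
    change IsProper (pullback.fst G.hom X.hom)
    infer_instance
  exact desc_of_loc @IsProper π hπloc (left_isPullback hc) h1

/-- fpqc morphisms between schemes of finite type over a common base are locally split covers -/
theorem loc_of_flat_surj {E F : Over S} (q : E ⟶ F) [QuasiCompact E.hom] [QuasiSeparated F.hom]
    (hs : Function.Surjective q.left.base) (hf : Flat q.left) : Loc Scheme.fpqcPrecoverage q := by
  haveI : Surjective q.left := ⟨hs⟩
  haveI : QuasiCompact (q.left ≫ F.hom) := by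
    rw [Over.w q]
    infer_instance
  haveI : QuasiCompact q.left := QuasiCompact.of_comp q.left F.hom
  exact loc_of_fpqc q

theorem mono_of_closedImmersion {A A' : Over S} (f : A ⟶ A') [IsClosedImmersion f.left] : Mono f :=
  (Over.forget S).mono_of_mono_map (inferInstanceAs (Mono f.left))

end Core

end Groth.Agent.Helper9.AssocBundle
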