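import Mathlib
import Groth.Agent.Helper9.AssocBundle

set_option autoImplicit false
set_option linter.unusedSectionVars false

namespace Groth.Agent.Helper9.AssocBundle

open CategoryTheory CategoryTheory.Limits MonoidalCategory CartesianMonoidalCategory MonObj GrpObj
  AlgebraicGeometry
open Groth.Agent.Helper9.DescTools Groth.Agent.Helper9.ExactH1 Groth.Agent.Helper9.LocDesc

universe u

variable {S : Scheme.{u}}

section Map

variable {G H B X Y QX QY : Over S} [GrpObj G] [GrpObj H] (j : H ⟶ G) [IsMonHom j] [Mono j]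
  (r : AlgGrp.Action H G)
  (hr : ∀ (T : Over S) (h : T ⟶ H) (g : T ⟶ G), lift h g ≫ r.act = g * (h ≫ j)⁻¹)
  (π : G ⟶ B) (hπinv : GIT.IsInvariant r π) (hπiso : IsIso (GIT.PsiY r π hπinv))
  (aX : AlgGrp.Action H X) (aY : AlgGrp.Action H Y) (i : X ⟶ Y)
  (b : AlgGrp.Action H (G ⊗ X))
  (hb : ∀ (T : Over S) (h : T ⟶ H) (g : T ⟶ G) (x : T ⟶ X),
    lift h (lift g x) ≫ b.act = lift (g * (h ≫ j)⁻¹) (lift h x ≫ aX.act))
  (c : AlgGrp.Action H (G ⊗ Y))
  (hc : ∀ (T : Over S) (h : T ⟶ H) (g : T ⟶ G) (x : T ⟶ Y),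
    lift h (lift g x) ≫ c.act = lift (g * (h ≫ j)⁻¹) (lift h x ≫ aY.act))
  (qX : G ⊗ X ⟶ QX) (hqXinv : GIT.IsInvariant b qX) (hqXiso : IsIso (GIT.PsiY b qX hqXinv))
  (hqXloc : Loc Scheme.fpqcPrecoverage qX)
  (qY : G ⊗ Y ⟶ QY) (hqYinv : GIT.IsInvariant c qY) (hqYiso : IsIso (GIT.PsiY c qY hqYinv))
  (hqYloc : Loc Scheme.fpqcPrecoverage qY)
  (pX : QX ⟶ B) (hpX : qX ≫ pX = fst G X ≫ π) (pY : QY ⟶ B) (hpY : qY ≫ pY = fst G Y ≫ π)
  (m : QX ⟶ QY) (hm : qX ≫ m = (G ◁ i) ≫ qY) (hmp : m ≫ pY = pX)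

include hr hπiso hb hc hqXiso hqXloc hqYiso hqYloc hpX hpY hm hmp in
theorem map_sq : IsPullback qX (G ◁ i) m qY := by
  have cX := core j r hr π hπinv hπiso aX b hb qX hqXinv hqXiso hqXloc pX hpX
  have cY := core j r hr π hπinv hπiso aY c hc qY hqYinv hqYiso hqYloc pY hpY
  have s : IsPullback ((G ◁ i) ≫ fst G Y) qX π (m ≫ pY) := by
    rw [whiskerLeft_fst, hmp]
    exact cX.flip
  exact (IsPullback.of_right s hm.symm cY.flip).flip

set_option backward.isDefEq.respectTransparency false in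
include hr hπiso hb hc hqXiso hqXloc hqYiso hqYloc hpX hpY hm hmp in
theorem openImmersion_map [IsOpenImmersion i.left] : IsOpenImmersion m.left := by
  have sq := map_sq j r hr π hπinv hπiso aX aY i b hb c hc qX hqXinv hqXiso hqXloc qY hqYinv hqYiso
    hqYloc pX hpX pY hpY m hm hmp
  have h1 : IsOpenImmersion (G ◁ i).left :=
    MorphismProperty.of_isPullback (P := @IsOpenImmersion)
      (left_isPullback (isPullback_whiskerLeft i G)).flip inferInstance
  exact desc_of_loc @IsOpenImmersion qY hqYloc (left_isPullback sq) h1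

end Map

end Groth.Agent.Helper9.AssocBundle
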