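import Mathlib
import Groth.Agent.Helper9.AssocBundle

set_option autoImplicit false
set_option linter.unusedSectionVars false

namespace Groth.Agent.Helper9.AssocBundle

open CategoryTheory CategoryTheory.Limits MonoidalCategory CartesianMonoidalCategory MonObj GrpObj
  AlgebraicGeometry
open Groth.Agent.Helper9.DescTools Groth.Agent.Helper9.ExactH1 Groth.Agent.Helper9.LocDesc

universe u

variable {S : Scheme.{u}}

section Prod

variable {G H B X Y QX QY QXY : Over S} [GrpObj G] [GrpObj H] (j : H ⟶ G) [IsMonHom j] [Mono j]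
  (r : AlgGrp.Action H G)
  (hr : ∀ (T : Over S) (h : T ⟶ H) (g : T ⟶ G), lift h g ≫ r.act = g * (h ≫ j)⁻¹)
  (π : G ⟶ B) (hπinv : GIT.IsInvariant r π) (hπiso : IsIso (GIT.PsiY r π hπinv))
  (aX : AlgGrp.Action H X) (aY : AlgGrp.Action H Y)
  (b : AlgGrp.Action H (G ⊗ X))
  (hb : ∀ (T : Over S) (h : T ⟶ H) (g : T ⟶ G) (x : T ⟶ X),
    lift h (lift g x) ≫ b.act = lift (g * (h ≫ j)⁻¹) (lift h x ≫ aX.act))
  (c : AlgGrp.Action H (G ⊗ Y))
  (hc : ∀ (T : Over S) (h : T ⟶ H) (g : T ⟶ G) (x : T ⟶ Y),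
    lift h (lift g x) ≫ c.act = lift (g * (h ≫ j)⁻¹) (lift h x ≫ aY.act))
  (d : AlgGrp.Action H (G ⊗ (X ⊗ Y)))
  (hd : ∀ (T : Over S) (h : T ⟶ H) (g : T ⟶ G) (x : T ⟶ X) (y : T ⟶ Y),
    lift h (lift g (lift x y)) ≫ d.act =
      lift (g * (h ≫ j)⁻¹) (lift (lift h x ≫ aX.act) (lift h y ≫ aY.act)))
  (qX : G ⊗ X ⟶ QX) (hqXinv : GIT.IsInvariant b qX) (hqXiso : IsIso (GIT.PsiY b qX hqXinv))
  (hqXloc : Loc Scheme.fpqcPrecoverage qX)
  (qY : G ⊗ Y ⟶ QY) (hqYinv : GIT.IsInvariant c qY) (hqYiso : IsIso (GIT.PsiY c qY hqYinv))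
  (hqYloc : Loc Scheme.fpqcPrecoverage qY)
  (qXY : G ⊗ (X ⊗ Y) ⟶ QXY) (hqXYinv : GIT.IsInvariant d qXY)
  (hqXYloc : Loc Scheme.fpqcPrecoverage qXY)
  (pX : QX ⟶ B) (hpX : qX ≫ pX = fst G X ≫ π) (pY : QY ⟶ B) (hpY : qY ≫ pY = fst G Y ≫ π)
  (pXY : QXY ⟶ B)
  (fX : QXY ⟶ QX) (hfX : qXY ≫ fX = (G ◁ fst X Y) ≫ qX) (hfXp : fX ≫ pX = pXY)
  (fY : QXY ⟶ QY) (hfY : qXY ≫ fY = (G ◁ snd X Y) ≫ qY) (hfYp : fY ≫ pY = pXY)

include hfX in
theorem img_fX {E : Over S} (g : E ⟶ G) (x : E ⟶ X) (y : E ⟶ Y) :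
    (lift g (lift x y) ≫ qXY) ≫ fX = lift g x ≫ qX := by
  rw [Category.assoc, hfX, lift_whiskerLeft_assoc, lift_fst]

include hfY in
theorem img_fY {E : Over S} (g : E ⟶ G) (x : E ⟶ X) (y : E ⟶ Y) :
    (lift g (lift x y) ≫ qXY) ≫ fY = lift g y ≫ qY := by
  rw [Category.assoc, hfY, lift_whiskerLeft_assoc, lift_snd]

include hb hc hd hqXiso hqYiso hqXYinv in
theorem fib_qXY {E : Over S} (g₁ g₂ : E ⟶ G) (x₁ x₂ : E ⟶ X) (y₁ y₂ : E ⟶ Y)
    (hx : lift g₁ x₁ ≫ qX = lift g₂ x₂ ≫ qX) (hy : lift g₁ y₁ ≫ qY = lift g₂ y₂ ≫ qY) :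
    lift g₁ (lift x₁ y₁) ≫ qXY = lift g₂ (lift x₂ y₂) ≫ qXY := by
  obtain ⟨h, hh⟩ := psi_pt b qX hqXinv hqXiso _ _ hx
  obtain ⟨h', hh'⟩ := psi_pt c qY hqYinv hqYiso _ _ hy
  rw [hb] at hh
  rw [hc] at hh'
  have a1 : g₂ * (h ≫ j)⁻¹ = g₁ := by
    have := congrArg (fun m => m ≫ fst G X) hh
    simpa using this
  have a2 : lift h x₂ ≫ aX.act = x₁ := by
    have := congrArg (fun m => m ≫ snd G X) hh
    simpa using this
  have a3 : g₂ * (h' ≫ j)⁻¹ = g₁ := by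
    have := congrArg (fun m => m ≫ fst G Y) hh'
    simpa using this
  have a4 : lift h' y₂ ≫ aY.act = y₁ := by
    have := congrArg (fun m => m ≫ snd G Y) hh'
    simpa using this
  have a5 : h = h' := by
    rw [← cancel_mono j]
    have : (h ≫ j)⁻¹ = (h' ≫ j)⁻¹ := mul_left_cancel (a1.trans a3.symm)
    exact inv_injective this
  subst a5
  have a6 : lift h (lift g₂ (lift x₂ y₂)) ≫ d.act = lift g₁ (lift x₁ y₁) := by
    rw [hd, a1, a2, a4]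
  rw [← a6, Category.assoc, hqXYinv, lift_snd_assoc]

include hr hπiso hb hc hd hqXiso hqXloc hqYiso hqYloc hqXYinv hqXYloc hpX hpY hfX hfXp hfY hfYp in
/-- `G_H(X × Y) = G_H(X) ×_{G/H} G_H(Y)` -/
theorem prod_sq : IsPullback fX fY pX pY := by
  obtain ⟨R, p₁, p₂, sq⟩ : ∃ (R : Over S) (p₁ : R ⟶ QX) (p₂ : R ⟶ QY), IsPullback p₁ p₂ pX pY :=
    ⟨_, _, _, IsPullback.of_hasPullback _ _⟩
  have hw : fX ≫ pX = fY ≫ pY := by rw [hfXp, hfYp]
  have hψ1 : sq.lift fX fY hw ≫ p₁ = fX := sq.lift_fst _ _ _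
  have hψ2 : sq.lift fX fY hw ≫ p₂ = fY := sq.lift_snd _ _ _
  have dec : ∀ {E : Over S} (w : E ⟶ G ⊗ (X ⊗ Y)),
      w = lift (w ≫ fst _ _) (lift (w ≫ snd _ _ ≫ fst X Y) (w ≫ snd _ _ ≫ snd X Y)) := by
    intro E w
    apply CartesianMonoidalCategory.hom_ext
    · rw [lift_fst]
    · rw [lift_snd]
      apply CartesianMonoidalCategory.hom_ext
      · rw [lift_fst, Category.assoc]
      · rw [lift_snd, Category.assoc]
  haveI : Mono (sq.lift fX fY hw) := by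
    refine ⟨fun {T} z₁ z₂ h12 => ?_⟩
    have e1 : z₁ ≫ fX = z₂ ≫ fX := by
      rw [← hψ1, ← Category.assoc, h12, Category.assoc]
    have e2 : z₁ ≫ fY = z₂ ≫ fY := by
      rw [← hψ2, ← Category.assoc, h12, Category.assoc]
    obtain ⟨E, e, gam, sqE⟩ : ∃ (E : Over S) (e : E ⟶ T)
        (gam : E ⟶ (G ⊗ (X ⊗ Y)) ⊗ (G ⊗ (X ⊗ Y))),
        IsPullback e gam (lift z₁ z₂) (qXY ⊗ₘ qXY) := ⟨_, _, _, IsPullback.of_hasPullback _ _⟩
    have he : Loc Scheme.fpqcPrecoverage e :=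
      pullback_loc _ sqE (tensor_loc _ qXY qXY hqXYloc hqXYloc)
    apply over_epi_q e he
    have hw1 : e ≫ z₁ = (gam ≫ fst _ _) ≫ qXY := by
      have := congrArg (fun m => m ≫ fst QXY QXY) sqE.w
      simpa using this
    have hw2 : e ≫ z₂ = (gam ≫ snd _ _) ≫ qXY := by
      have := congrArg (fun m => m ≫ snd QXY QXY) sqE.w
      simpa using this
    rw [hw1, hw2, dec (gam ≫ fst _ _), dec (gam ≫ snd _ _)]
    apply fib_qXY j aX aY b hb c hc d hd qX hqXinv hqXiso qY hqYinv hqYiso qXY hqXYinv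
    · rw [← img_fX qX qXY fX hfX _ _ (((gam ≫ fst _ _) ≫ snd _ _ ≫ snd X Y)),
        ← img_fX qX qXY fX hfX _ _ (((gam ≫ snd _ _) ≫ snd _ _ ≫ snd X Y)), ← dec, ← dec, ← hw1,
        ← hw2, Category.assoc, Category.assoc, e1]
    · rw [← img_fY qY qXY fY hfY _ (((gam ≫ fst _ _) ≫ snd _ _ ≫ fst X Y)) _,
        ← img_fY qY qXY fY hfY _ (((gam ≫ snd _ _) ≫ snd _ _ ≫ fst X Y)) _, ← dec, ← dec, ← hw1,
        ← hw2, Category.assoc, Category.assoc, e2]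
  -- local sections
  obtain ⟨E, e, gam, sqE⟩ : ∃ (E : Over S) (e : E ⟶ R) (gam : E ⟶ (G ⊗ X) ⊗ (G ⊗ Y)),
      IsPullback e gam (lift p₁ p₂) (qX ⊗ₘ qY) := ⟨_, _, _, IsPullback.of_hasPullback _ _⟩
  have he : Loc Scheme.fpqcPrecoverage e :=
    pullback_loc _ sqE (tensor_loc _ qX qY hqXloc hqYloc)
  have hu : e ≫ p₁ = (gam ≫ fst _ _) ≫ qX := by
    have := congrArg (fun m => m ≫ fst QX QY) sqE.w
    simpa using this
  have hv : e ≫ p₂ = (gam ≫ snd _ _) ≫ qY := by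
    have := congrArg (fun m => m ≫ snd QX QY) sqE.w
    simpa using this
  have e1 : ((gam ≫ fst _ _) ≫ fst G X) ≫ π = ((gam ≫ snd _ _) ≫ fst G Y) ≫ π := by
    rw [Category.assoc, ← hpX, ← Category.assoc, ← hu, Category.assoc, sq.w, ← Category.assoc, hv,
      Category.assoc, hpY]
    simp only [Category.assoc]
  obtain ⟨h, hh⟩ := psi_pt r π hπinv hπiso _ _ e1
  rw [hr] at hh
  have decX : ∀ (w : E ⟶ G ⊗ X), w = lift (w ≫ fst _ _) (w ≫ snd _ _) := by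
    intro w
    rw [← comp_lift, lift_fst_snd, Category.comp_id]
  have decY : ∀ (w : E ⟶ G ⊗ Y), w = lift (w ≫ fst _ _) (w ≫ snd _ _) := by
    intro w
    rw [← comp_lift, lift_fst_snd, Category.comp_id]
  have e2 : (lift ((gam ≫ fst _ _) ≫ fst G X) (lift ((gam ≫ fst _ _) ≫ snd G X)
      (lift h ((gam ≫ snd _ _) ≫ snd G Y) ≫ aY.act)) ≫ qXY) ≫ sq.lift fX fY hw = e := by
    apply sq.hom_ext
    · rw [Category.assoc, hψ1, img_fX qX qXY fX hfX, ← decX, hu]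
    · rw [Category.assoc, hψ2, img_fY qY qXY fY hfY, hv, ← hh, ← hc, Category.assoc, hqYinv,
        lift_snd_assoc, ← decY]
  obtain ⟨σ, hσ⟩ := LocFactor.factor_of_loc (sq.lift fX fY hw) (𝟙 R) e he _
    (by rw [e2, Category.comp_id])
  haveI : IsIso (sq.lift fX fY hw) := by
    refine ⟨⟨σ, ?_, hσ⟩⟩
    rw [← cancel_mono (sq.lift fX fY hw), Category.assoc, hσ, Category.comp_id, Category.id_comp]
  exact IsPullback.of_iso sq (asIso (sq.lift fX fY hw)).symm (Iso.refl _) (Iso.refl _)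
    (Iso.refl _) (by simp [hψ1]) (by simp [hψ2]) (by simp) (by simp)

end Prod

end Groth.Agent.Helper9.AssocBundle
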