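import Mathlib
import Groth.Prelude.Def_DDual2
import Groth.Agent.Helper6.HasLBC
import Groth.Agent.Helper6.LBCCompute
import Groth.Agent.Helper6.KProjRes
import Groth.Agent.Helper1.FlatCxBC

/-! Derived base change along a flat ring map is computed termwise on every complex. -/

set_option autoImplicit false
set_option linter.style.haveILetI false
set_option linter.unusedVariables false
set_option linter.unusedSectionVars false
universe u

namespace Groth.Agent.Helper9.FBC1

noncomputable section

open CategoryTheory CategoryTheory.Limits DerivedCategory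
open Groth.Agent.Helper6.LBCCompute

attribute [local instance] HasDerivedCategory.standard

variable {A B : Type u} [CommRing A] [CommRing B] (φ : A →+* B) [DRing.HasLBaseChange φ]

/-- termwise extension of scalars along a flat ring map preserves quasi-isomorphisms -/
theorem quasiIso_bcCxF_map (hφ : φ.Flat) {K L : DRing.Cx A} (π : K ⟶ L) [QuasiIso π] :
    QuasiIso ((bcCxF φ).map π) := by
  haveI := Groth.Agent.Helper1.FlatCx.preservesHomology_extendScalars_of_flat φ hφ
  infer_instance

/-- for `φ` flat the comparison `LBaseChange (Q E) ⟶ Q (B ⊗ E)` is an isomorphism -/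
theorem isIso_lbcNat_app_of_flat (hφ : φ.Flat) (E : DRing.Cx A) :
    IsIso ((lbcNat φ).app E) := by
  obtain ⟨P, π, hP, -, -, hπ, -⟩ := Groth.Agent.Helper6.KProjRes.exists_resolution E
  haveI := hP
  haveI := hπ
  haveI : IsIso (Q.map π) := by
    rw [DerivedCategory.isIso_Q_map_iff_quasiIso]
    exact hπ
  haveI h2 : QuasiIso ((bcCxF φ).map π) := quasiIso_bcCxF_map φ hφ π
  haveI : IsIso (Q.map ((bcCxF φ).map π)) := by
    rw [DerivedCategory.isIso_Q_map_iff_quasiIso]
    exact h2
  have hnat := (lbcNat φ).naturality π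
  have h3 : IsIso ((Q ⋙ DRing.LBaseChange φ).map π ≫ (lbcNat φ).app E) := by
    rw [hnat]
    haveI : IsIso ((bcCxF φ ⋙ Q).map π) := by
      show IsIso (Q.map ((bcCxF φ).map π))
      infer_instance
    infer_instance
  haveI : IsIso ((Q ⋙ DRing.LBaseChange φ).map π) := by
    show IsIso ((DRing.LBaseChange φ).map (Q.map π))
    infer_instance
  exact IsIso.of_isIso_comp_left ((Q ⋙ DRing.LBaseChange φ).map π) _

/-- `LBaseChange (toD E) ≅ toD (B ⊗ E)` for `φ` flat -/
def lbcFlatIso (hφ : φ.Flat) (E : DRing.Cx A) :
    (DRing.LBaseChange φ).obj (DRing.toD E) ≅ DRing.toD ((bcCxF φ).obj E) :=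
  haveI := isIso_lbcNat_app_of_flat φ hφ E
  asIso ((lbcNat φ).app E)

end

end Groth.Agent.Helper9.FBC1
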