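import Mathlib
import Groth.Prelude.Def_DRing2
import Groth.Prelude.Def_DDual2
import Groth.Agent.Helper6.LTenModCompute
import Groth.Agent.Helper3.DRingTor2
import Groth.Agent.Helper3.DRingResP
import Groth.Agent.Helper2.FibreKer

/-! * `K ⊗^L M` for a module `M` is computed by bounded above complexes of flat modules.
* elementary description of exactness of a fibre `E ⊗_R κ(p)`. -/

set_option autoImplicit false
set_option linter.style.haveILetI false
set_option linter.unusedVariables false
set_option linter.unusedSectionVars false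
universe u

namespace Groth.Agent.Helper9.FC1

open CategoryTheory CategoryTheory.Limits TensorProduct
open Groth.Agent.Helper3.DRingLib

attribute [local instance] HasDerivedCategory.standard

section LT

variable {R : Type u} [CommRing R] (M : ModuleCat.{u} R) [DRing.HasLTensor R M]

/-- the homology of `K ⊗^L M` is computed by a bounded above flat representative -/
theorem subsingleton_HD_iff_of_flat (E : DRing.Cx R) (b : ℤ) (hv : DRing.VanishesAbove E b)
    (hf : DRing.TermwiseFlat E) {K : Dual.D R} (e : DRing.toD E ≅ K) (i : ℤ) :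
    Subsingleton (Dual.HD R ((DRing.LTensor R M).obj K) i) ↔ (DRing.tensorCx E M).ExactAt i := by
  have hb : (DRing.toD E).IsLE b := by
    have := isStrictlyLE_of_vanishesAbove E b hv
    infer_instance
  obtain ⟨P, α, hPv, hPp, hα⟩ := exists_projective_resolution E b hb
  haveI hPk : P.IsKProjective := isKProjective_of_vanishesAbove P b hPv hPp
  have hPf : DRing.TermwiseFlat P := fun i => by
    have := hPp i
    infer_instance
  have h1 : IsIso (DerivedCategory.Q.map α) :=
    (DerivedCategory.isIso_Q_map_iff_quasiIso _ _).mpr hα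
  rw [Groth.Agent.Helper6.LTenModCompute.subsingleton_HD_iff M P
    (asIso (DerivedCategory.Q.map α) ≪≫ e) i]
  have h2 := quasiIso_tens α b b hPv hv hPf hf hα M
  have q1 : QuasiIsoAt ((tens M).map α) i := h2.quasiIsoAt i
  exact _root_.exactAt_iff_of_quasiIsoAt ((tens M).map α) i

end LT

section Fibre

variable {R A : Type u} [CommRing R] [CommRing A] [Algebra R A]
  (p : Ideal R) [p.IsPrime] (q : Ideal A) [q.IsPrime] (hpq : p = q.comap (algebraMap R A))

section

variable (X : Type u) [AddCommGroup X] [Module R X]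

lemma tmul_one_eq_zero_iff (z : X) :
    z ⊗ₜ[R] (1 : p.ResidueField) = 0 ↔ ∃ r : R, r ∉ p ∧ r • z ∈ p • (⊤ : Submodule R X) := by
  have hc : z ⊗ₜ[R] (1 : p.ResidueField) = 0 ↔ (1 : p.ResidueField) ⊗ₜ[R] z = 0 := by
    rw [← (TensorProduct.comm R X p.ResidueField).map_eq_zero_iff]
    rfl
  rw [hc]
  constructor
  · exact Groth.Agent.Helper2.FibreKer.exists_smul_mem_of_tmul_eq_zero p X z
  · rintro ⟨r, hr, h⟩
    have h1 := Groth.Agent.Helper2.FibreKer.tmul_eq_zero_of_mem p X (r • z) h
    have hu : algebraMap R p.ResidueField r ≠ 0 := by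
      intro h0
      rw [← RingHom.mem_ker, Ideal.ker_algebraMap_residueField] at h0
      exact hr h0
    have h2 : (1 : p.ResidueField) ⊗ₜ[R] z =
        (algebraMap R p.ResidueField r)⁻¹ • ((1 : p.ResidueField) ⊗ₜ[R] (r • z)) := by
      rw [TensorProduct.tmul_smul, TensorProduct.smul_tmul', TensorProduct.smul_tmul',
        smul_eq_mul, Algebra.smul_def r, mul_one, inv_mul_cancel₀ hu]
    rw [h2, h1, smul_zero]

/-- every element of the residue field is a fraction -/
lemma exists_smul_eq_algebraMap (c : p.ResidueField) :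
    ∃ r s : R, s ∉ p ∧ s • c = algebraMap R p.ResidueField r := by
  obtain ⟨x, rfl⟩ := IsLocalRing.residue_surjective (R := Localization.AtPrime p) c
  obtain ⟨⟨r, s⟩, hrs⟩ := IsLocalization.surj p.primeCompl x
  refine ⟨r, s, s.2, ?_⟩
  rw [Algebra.smul_def, IsScalarTower.algebraMap_apply R (Localization.AtPrime p) p.ResidueField,
    IsScalarTower.algebraMap_apply R (Localization.AtPrime p) p.ResidueField r]
  show IsLocalRing.residue _ _ * IsLocalRing.residue _ x = IsLocalRing.residue _ _
  rw [← map_mul, mul_comm]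
  exact congrArg _ hrs

/-- common denominators in `X ⊗ κ(p)` -/
lemma exists_smul_eq_tmul_one (y : X ⊗[R] p.ResidueField) :
    ∃ (l : X) (s : R), s ∉ p ∧ s • y = l ⊗ₜ[R] (1 : p.ResidueField) := by
  induction y using TensorProduct.induction_on with
  | zero => exact ⟨0, 1, fun h => (Ideal.IsPrime.ne_top ‹_›) ((Ideal.eq_top_iff_one _).2 h),
      by rw [smul_zero, TensorProduct.zero_tmul]⟩
  | tmul x c =>
    obtain ⟨r, s, hs, h⟩ := exists_smul_eq_algebraMap p c
    refine ⟨r • x, s, hs, ?_⟩
    rw [TensorProduct.smul_tmul', TensorProduct.smul_tmul, h, Algebra.algebraMap_eq_smul_one,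
      TensorProduct.smul_tmul]
  | add y₁ y₂ h₁ h₂ =>
    obtain ⟨l₁, s₁, hs₁, e₁⟩ := h₁
    obtain ⟨l₂, s₂, hs₂, e₂⟩ := h₂
    refine ⟨s₂ • l₁ + s₁ • l₂, s₁ * s₂, fun h => ?_, ?_⟩
    · rcases Ideal.IsPrime.mem_or_mem ‹_› h with h | h
      · exact hs₁ h
      · exact hs₂ h
    · rw [smul_add, mul_comm, mul_smul, e₁, mul_comm, mul_smul, e₂, TensorProduct.add_tmul,
        TensorProduct.smul_tmul', TensorProduct.smul_tmul']

end

section

variable {X₁ X₂ X₃ : Type u} [AddCommGroup X₁] [Module A X₁] [Module R X₁] [IsScalarTower R A X₁]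
  [AddCommGroup X₂] [Module A X₂] [Module R X₂] [IsScalarTower R A X₂]
  [AddCommGroup X₃] [Module A X₃] [Module R X₃] [IsScalarTower R A X₃]

omit [p.IsPrime] in
lemma mem_map_smul_top_iff (X : Type u) [AddCommGroup X] [Module A X] [Module R X]
    [IsScalarTower R A X] (x : X) :
    x ∈ (p.map (algebraMap R A)) • (⊤ : Submodule A X) ↔ x ∈ p • (⊤ : Submodule R X) := by
  have h := Ideal.smul_restrictScalars (R := R) (S := A) p (⊤ : Submodule A X)
  rw [Submodule.restrictScalars_top] at h
  rw [← h]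
  rfl

include hpq in
/-- exactness of the fibre at `κ(p)` in elementary terms -/
theorem elementary_of_exact (d₁ : X₁ →ₗ[A] X₂) (d₂ : X₂ →ₗ[A] X₃)
    (hex : ∀ x : X₂ ⊗[R] p.ResidueField,
      ((d₂.restrictScalars R).rTensor p.ResidueField) x = 0 →
        ∃ y : X₁ ⊗[R] p.ResidueField, ((d₁.restrictScalars R).rTensor p.ResidueField) y = x)
    (m : X₂) (hm : ∃ t : A, t ∉ q ∧
        t • d₂ m ∈ (p.map (algebraMap R A)) • (⊤ : Submodule A X₃)) :
    ∃ t : A, t ∉ q ∧ ∃ l : X₁,
        t • m - d₁ l ∈ (p.map (algebraMap R A)) • (⊤ : Submodule A X₂) := by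
  obtain ⟨t, ht, h⟩ := hm
  rw [mem_map_smul_top_iff] at h
  have h1 : ((d₂.restrictScalars R).rTensor p.ResidueField) ((t • m) ⊗ₜ[R] 1) = 0 := by
    rw [LinearMap.rTensor_tmul]
    show (d₂ (t • m)) ⊗ₜ[R] (1 : p.ResidueField) = 0
    rw [map_smul, tmul_one_eq_zero_iff]
    exact ⟨1, fun h => (Ideal.IsPrime.ne_top ‹_›) ((Ideal.eq_top_iff_one _).2 h),
      by rw [one_smul]; exact h⟩
  obtain ⟨y, hy⟩ := hex _ h1
  obtain ⟨l, s, hs, hl⟩ := exists_smul_eq_tmul_one p X₁ y
  have h2 : ((s • (t • m)) - d₁ l) ⊗ₜ[R] (1 : p.ResidueField) = 0 := by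
    rw [TensorProduct.sub_tmul, ← TensorProduct.smul_tmul', ← hy, ← map_smul, hl,
      LinearMap.rTensor_tmul]
    exact sub_self _
  rw [tmul_one_eq_zero_iff] at h2
  obtain ⟨r, hr, h3⟩ := h2
  have hnq : ∀ a : R, a ∉ p → algebraMap R A a ∉ q := fun a ha h => ha (by rw [hpq]; exact h)
  refine ⟨algebraMap R A (r * s) * t, fun h => ?_, r • l, ?_⟩
  · rcases Ideal.IsPrime.mem_or_mem ‹_› h with h | h
    · refine hnq (r * s) (fun h' => ?_) h
      rcases Ideal.IsPrime.mem_or_mem ‹_› h' with h' | h'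
      · exact hr h'
      · exact hs h'
    · exact ht h
  · rw [mem_map_smul_top_iff]
    have : (algebraMap R A (r * s) * t) • m - d₁ (r • l) = r • ((s • (t • m)) - d₁ l) := by
      rw [mul_smul, algebraMap_smul, mul_smul, smul_sub, LinearMap.map_smul_of_tower]
    rw [this]
    exact h3

end

end Fibre

end Groth.Agent.Helper9.FC1
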