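import Mathlib
import Groth.Agent.S2107
import Groth.Agent.Helper2.EssFP
import Groth.Agent.Helper5.GenFlat1

/-! The fibre criterion at a prime, in elementary terms: for `R → A` flat of finite presentation,
a complex `L → M → N` of finitely presented `A`-modules with `N` flat over `R`, and primes `q` of
`A` over `p` of `R`: if the complex is exact modulo `p` locally at `q`, then the cokernel of
`M → N` localized at `q` is flat over `R`. -/

set_option autoImplicit false
set_option linter.style.haveILetI false
set_option linter.unusedVariables false
set_option linter.unusedSectionVars false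
universe u

namespace Groth.Agent.Helper9.FC2

open TensorProduct IsLocalRing

variable {R A : Type u} [CommRing R] [CommRing A] [Algebra R A]
  (p : Ideal R) [p.IsPrime] (q : Ideal A) [q.IsPrime] (hpq : p = q.comap (algebraMap R A))

/-- the algebra structure `R_p → A_q` -/
@[reducible] noncomputable def algLoc :
    Algebra (Localization.AtPrime p) (Localization.AtPrime q) :=
  (Localization.localRingHom p q (algebraMap R A) hpq).toAlgebra

lemma tower : letI := algLoc p q hpq
    IsScalarTower R (Localization.AtPrime p) (Localization.AtPrime q) := by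
  letI := algLoc p q hpq
  refine IsScalarTower.of_algebraMap_eq (fun r => ?_)
  show _ = Localization.localRingHom p q (algebraMap R A) hpq (algebraMap R _ r)
  rw [Localization.localRingHom_to_map]
  exact IsScalarTower.algebraMap_apply R A (Localization.AtPrime q) r

lemma isLocalHom : letI := algLoc p q hpq
    IsLocalHom (algebraMap (Localization.AtPrime p) (Localization.AtPrime q)) :=
  Localization.isLocalHom_localRingHom p q (algebraMap R A) hpq

lemma map_maximalIdeal : letI := algLoc p q hpq
    (maximalIdeal (Localization.AtPrime p)).map
        (algebraMap (Localization.AtPrime p) (Localization.AtPrime q)) =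
      (p.map (algebraMap R A)).map (algebraMap A (Localization.AtPrime q)) := by
  letI := algLoc p q hpq
  haveI := tower p q hpq
  rw [← Localization.AtPrime.map_eq_maximalIdeal, Ideal.map_map, Ideal.map_map]
  congr 1
  ext r
  simp only [RingHom.comp_apply]
  rw [← IsScalarTower.algebraMap_apply R (Localization.AtPrime p) (Localization.AtPrime q),
    ← IsScalarTower.algebraMap_apply R A (Localization.AtPrime q)]

section Mem

variable (X : Type u) [AddCommGroup X] [Module A X]

/-- membership in `I A_q • X_q` -/
lemma mem_smul_top_iff (I : Ideal A) (x : X) (s : q.primeCompl) :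
    LocalizedModule.mk x s ∈ (I.map (algebraMap A (Localization.AtPrime q))) •
        (⊤ : Submodule (Localization.AtPrime q) (LocalizedModule q.primeCompl X)) ↔
      ∃ t : A, t ∉ q ∧ t • x ∈ I • (⊤ : Submodule A X) := by
  have h1 : (I • (⊤ : Submodule A X)).localized' (Localization.AtPrime q) q.primeCompl
      (LocalizedModule.mkLinearMap q.primeCompl X) =
      (I.map (algebraMap A (Localization.AtPrime q))) • ⊤ := by
    rw [Submodule.localized'_smul, Submodule.localized'_top, Ideal.localized'_eq_map]
  rw [← h1, Submodule.mem_localized']
  constructor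
  · rintro ⟨n, hn, s', hs'⟩
    rw [← IsLocalizedModule.mk_eq_mk', LocalizedModule.mk_eq] at hs'
    obtain ⟨c, hc⟩ := hs'
    refine ⟨(c : A) * (s' : A), (c * s').2, ?_⟩
    have : ((c : A) * (s' : A)) • x = (c * s) • n := by
      rw [mul_smul]
      have h2 : (c • s • n : X) = c • s' • x := hc
      rw [show ((c : A) • (s' : A) • x : X) = c • s' • x from rfl, ← h2, mul_smul]
    rw [this]
    exact Submodule.smul_mem _ _ hn
  · rintro ⟨t, ht, htx⟩
    refine ⟨t • x, htx, ⟨t, ht⟩ * s, ?_⟩
    rw [← IsLocalizedModule.mk_eq_mk', LocalizedModule.mk_eq]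
    refine ⟨1, ?_⟩
    simp only [one_smul]
    show s • t • x = ((⟨t, ht⟩ * s : q.primeCompl) : A) • x
    rw [Submonoid.coe_mul, mul_smul]
    exact smul_comm _ _ _

end Mem

section Core

variable [Algebra.FinitePresentation R A]
variable {L M N : Type u} [AddCommGroup L] [Module A L] [AddCommGroup M] [Module A M]
  [AddCommGroup N] [Module A N] [Module R N] [IsScalarTower R A N]
  [Module.Finite A L] [Module.FinitePresentation A M] [Module.FinitePresentation A N]
  [Module.Flat R N]
  (d₁ : L →ₗ[A] M) (d₂ : M →ₗ[A] N) (hd : d₂ ∘ₗ d₁ = 0)

include hd hpq in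
/-- **the fibre criterion at a prime** -/
theorem flat_localized_coker
    (hex : ∀ m : M, (∃ t : A, t ∉ q ∧
        t • d₂ m ∈ (p.map (algebraMap R A)) • (⊤ : Submodule A N)) →
      ∃ t : A, t ∉ q ∧ ∃ l : L,
        t • m - d₁ l ∈ (p.map (algebraMap R A)) • (⊤ : Submodule A M)) :
    Module.Flat R (LocalizedModule q.primeCompl (N ⧸ LinearMap.range d₂)) := by
  letI := algLoc p q hpq
  haveI := tower p q hpq
  haveI := isLocalHom p q hpq
  have hd' : LinearMap.range d₁ ≤ LinearMap.ker d₂ := by
    rintro _ ⟨l, rfl⟩
    exact congr($hd l)
  let d₂bar : (M ⧸ LinearMap.range d₁) →ₗ[A] N := (LinearMap.range d₁).liftQ d₂ hd'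
  let u := LocalizedModule.map q.primeCompl d₂bar
  -- module structures over `R_p`
  letI mM : Module (Localization.AtPrime p) (LocalizedModule q.primeCompl (M ⧸ LinearMap.range d₁)) :=
    Module.compHom _ (algebraMap (Localization.AtPrime p) (Localization.AtPrime q))
  haveI tM : IsScalarTower (Localization.AtPrime p) (Localization.AtPrime q)
      (LocalizedModule q.primeCompl (M ⧸ LinearMap.range d₁)) :=
    IsScalarTower.of_algebraMap_smul (fun r x => rfl)
  letI mN : Module (Localization.AtPrime p) (LocalizedModule q.primeCompl N) :=
    Module.compHom _ (algebraMap (Localization.AtPrime p) (Localization.AtPrime q))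
  haveI tN : IsScalarTower (Localization.AtPrime p) (Localization.AtPrime q)
      (LocalizedModule q.primeCompl N) :=
    IsScalarTower.of_algebraMap_smul (fun r x => rfl)
  haveI tRN : IsScalarTower R (Localization.AtPrime p) (LocalizedModule q.primeCompl N) := by
    refine ⟨fun r c x => ?_⟩
    show (algebraMap (Localization.AtPrime p) (Localization.AtPrime q) (r • c)) • x =
      r • ((algebraMap (Localization.AtPrime p) (Localization.AtPrime q) c) • x)
    rw [Algebra.smul_def, map_mul, ← IsScalarTower.algebraMap_apply, mul_smul, algebraMap_smul]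
  -- flatness of `N_q`
  have hN1 : Module.Flat R (LocalizedModule q.primeCompl N) :=
    Groth.Agent.Helper5.GenFlat.flat_of_isLocalizedModule q.primeCompl
      (LocalizedModule.mkLinearMap q.primeCompl N) inferInstance
  haveI hN2 : Module.Flat (Localization.AtPrime p) (LocalizedModule q.primeCompl N) :=
    (Module.flat_iff_of_isLocalization (Localization.AtPrime p) p.primeCompl _).2 hN1
  -- finite presentation
  haveI : Module.FinitePresentation A (M ⧸ LinearMap.range d₁) := by
    refine Module.finitePresentation_of_surjective (LinearMap.range d₁).mkQ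
      (Submodule.mkQ_surjective _) ?_
    rw [Submodule.ker_mkQ, LinearMap.range_eq_map]
    exact Submodule.FG.map _ Module.Finite.fg_top
  haveI : Module.FinitePresentation (Localization.AtPrime q)
      (LocalizedModule q.primeCompl (M ⧸ LinearMap.range d₁)) := inferInstance
  haveI : Module.FinitePresentation (Localization.AtPrime q)
      (LocalizedModule q.primeCompl N) := inferInstance
  have hS : CAlgX.IsEssFinitePresentation (Localization.AtPrime p) (Localization.AtPrime q) :=
    Groth.Agent.Helper2.EssFP.essFP_of_atPrime p q (fun a ha h => ha (by rw [hpq]; exact h))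
      (Localization.AtPrime p) (Localization.AtPrime q)
  have hu : ∀ x : LocalizedModule q.primeCompl (M ⧸ LinearMap.range d₁),
      u x ∈ (maximalIdeal (Localization.AtPrime p)).map
          (algebraMap (Localization.AtPrime p) (Localization.AtPrime q)) •
        (⊤ : Submodule (Localization.AtPrime q) (LocalizedModule q.primeCompl N)) →
      x ∈ (maximalIdeal (Localization.AtPrime p)).map
          (algebraMap (Localization.AtPrime p) (Localization.AtPrime q)) •
        (⊤ : Submodule (Localization.AtPrime q)
          (LocalizedModule q.primeCompl (M ⧸ LinearMap.range d₁))) := by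
    intro x
    induction x using LocalizedModule.induction_on with
    | h mb s =>
      obtain ⟨m, rfl⟩ := Submodule.mkQ_surjective _ mb
      rw [map_maximalIdeal p q hpq]
      have hum : u (LocalizedModule.mk ((LinearMap.range d₁).mkQ m) s) =
          LocalizedModule.mk (d₂ m) s := by
        show LocalizedModule.map q.primeCompl d₂bar _ = _
        rw [LocalizedModule.map_mk]
        rfl
      rw [hum, mem_smul_top_iff q N _ (d₂ m) s,
        mem_smul_top_iff q (M ⧸ LinearMap.range d₁) _ ((LinearMap.range d₁).mkQ m) s]
      rintro ⟨t, ht, h⟩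
      obtain ⟨t', ht', l, hl⟩ := hex m ⟨t, ht, h⟩
      refine ⟨t', ht', ?_⟩
      have h1 : t' • (LinearMap.range d₁).mkQ m = (LinearMap.range d₁).mkQ (t' • m - d₁ l) := by
        have h0 : (LinearMap.range d₁).mkQ (d₁ l) = 0 :=
          (Submodule.Quotient.mk_eq_zero _).2 ⟨l, rfl⟩
        rw [map_sub, map_smul, h0, sub_zero]
      rw [h1]
      have h2 : (LinearMap.range d₁).mkQ (t' • m - d₁ l) ∈
          ((p.map (algebraMap R A)) • (⊤ : Submodule A M)).map (LinearMap.range d₁).mkQ :=
        Submodule.mem_map_of_mem hl
      rw [Submodule.map_smul''] at h2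
      exact Submodule.smul_mono le_rfl le_top h2
  have key := (Groth.Agent.S2107.result hS u hu).2
  have hr : LinearMap.range u = (LinearMap.range d₂).localized q.primeCompl := by
    have h1 : LinearMap.range d₂bar = LinearMap.range d₂ := Submodule.range_liftQ _ _ _
    rw [← h1]
    exact (LinearMap.localized'_range_eq_range_localizedMap (Localization q.primeCompl)
      q.primeCompl (LocalizedModule.mkLinearMap q.primeCompl _)
      (LocalizedModule.mkLinearMap q.primeCompl N) d₂bar).symm
  have h3 : Module.Flat R (LocalizedModule q.primeCompl N ⧸ LinearMap.range u) :=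
    (Module.flat_iff_of_isLocalization (Localization.AtPrime p) p.primeCompl _).1 key
  let e1 : (LocalizedModule q.primeCompl N ⧸ LinearMap.range u) ≃ₗ[Localization q.primeCompl]
      LocalizedModule q.primeCompl N ⧸ (LinearMap.range d₂).localized q.primeCompl :=
    Submodule.quotEquivOfEq _ _ hr
  let e2 := localizedQuotientEquiv q.primeCompl (LinearMap.range d₂)
  exact Module.Flat.of_linearEquiv ((e1 ≪≫ₗ e2).restrictScalars R).symm

end Core

end Groth.Agent.Helper9.FC2
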