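import Mathlib
import Groth.Agent.Helper9.FC1x
import Groth.Agent.Helper9.FC2
import Groth.Agent.Helper9.TorOpen1

/-! The fibre criterion at a prime for complexes: exactness of the fibre of a complex of finite
free modules in degree `a - 1` gives flatness of the localized `opcycles` in degree `a`. -/

set_option autoImplicit false
set_option linter.style.haveILetI false
set_option linter.unusedVariables false
set_option linter.unusedSectionVars false
universe u

namespace Groth.Agent.Helper9.FC3

open CategoryTheory CategoryTheory.Limits TensorProduct HomologicalComplex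
open Groth.Agent.Helper3.DRingLib Groth.Agent.Helper9.TorOpen1

attribute [local instance] HasDerivedCategory.standard

variable {R A : Type u} [CommRing R] [CommRing A] [Algebra R A] [Module.Flat R A]
  [Algebra.FinitePresentation R A]
  (p : Ideal R) [p.IsPrime] (q : Ideal A) [q.IsPrime] (hpq : p = q.comap (algebraMap R A))

include hpq in
theorem flat_localized_coker (E : DRing.Cx A) (hff : DRing.TermwiseFiniteFree E) (a : ℤ)
    (h : (DRing.tensorCx ((Groth.Agent.Helper3.DRingLib.rCx (algebraMap R A)).obj E)
      (ModuleCat.of R p.ResidueField)).ExactAt (a - 1)) :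
    letI : Module R (E.X a) := Module.compHom _ (algebraMap R A)
    haveI : IsScalarTower R A (E.X a) := IsScalarTower.of_algebraMap_smul (fun r m => rfl)
    Module.Flat R (LocalizedModule q.primeCompl
      (E.X a ⧸ LinearMap.range (E.d (a - 1) a).hom)) := by
  letI m1 : Module R (E.X (a - 1 - 1)) := Module.compHom _ (algebraMap R A)
  haveI t1 : IsScalarTower R A (E.X (a - 1 - 1)) :=
    IsScalarTower.of_algebraMap_smul (fun r m => rfl)
  letI m2 : Module R (E.X (a - 1)) := Module.compHom _ (algebraMap R A)
  haveI t2 : IsScalarTower R A (E.X (a - 1)) := IsScalarTower.of_algebraMap_smul (fun r m => rfl)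
  letI m3 : Module R (E.X a) := Module.compHom _ (algebraMap R A)
  haveI t3 : IsScalarTower R A (E.X a) := IsScalarTower.of_algebraMap_smul (fun r m => rfl)
  haveI := (hff (a - 1 - 1)).1
  haveI := (hff (a - 1)).1
  haveI := (hff (a - 1)).2
  haveI := (hff a).1
  haveI := (hff a).2
  haveI : Module.FinitePresentation A (E.X (a - 1)) := Module.finitePresentation_of_projective A _
  haveI : Module.FinitePresentation A (E.X a) := Module.finitePresentation_of_projective A _
  haveI : Module.Flat R (E.X a) := Module.Flat.trans R A _
  rw [exactAt_iff_forall _ (a - 1 - 1) (a - 1) a (by omega) (by omega)] at h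
  have hex : ∀ x : (E.X (a - 1)) ⊗[R] p.ResidueField,
      (((E.d (a - 1) a).hom.restrictScalars R).rTensor p.ResidueField) x = 0 →
        ∃ y : (E.X (a - 1 - 1)) ⊗[R] p.ResidueField,
          (((E.d (a - 1 - 1) (a - 1)).hom.restrictScalars R).rTensor p.ResidueField) y = x :=
    fun x hx => h x hx
  refine Groth.Agent.Helper9.FC2.flat_localized_coker p q hpq (E.d (a - 1 - 1) (a - 1)).hom
    (E.d (a - 1) a).hom ?_ (fun m hm => Groth.Agent.Helper9.FC1.elementary_of_exact p q hpq
      (E.d (a - 1 - 1) (a - 1)).hom (E.d (a - 1) a).hom hex m hm)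
  rw [← ModuleCat.hom_comp, E.d_comp_d]
  rfl

include hpq in
/-- the localized `opcycles` are flat over the base -/
theorem flat_opcycles_Floc (E : DRing.Cx A) (hff : DRing.TermwiseFiniteFree E) (a : ℤ)
    (h : (DRing.tensorCx ((Groth.Agent.Helper3.DRingLib.rCx (algebraMap R A)).obj E)
      (ModuleCat.of R p.ResidueField)).ExactAt (a - 1)) :
    Module.Flat R ((Floc (A := R) q E).opcycles a) := by
  letI m3 : Module R (E.X a) := Module.compHom _ (algebraMap R A)
  haveI t3 : IsScalarTower R A (E.X a) := IsScalarTower.of_algebraMap_smul (fun r m => rfl)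
  have h1 := flat_localized_coker p q hpq E hff a h
  have h2 : Module.Flat R ((Groth.Agent.Helper9.RingProj1.rs
      (algebraMap R (Localization.AtPrime q))).obj
      ((Groth.Agent.Helper9.RingProj1.ext (algebraMap A (Localization.AtPrime q))).obj
        (ModuleCat.of A (E.X a ⧸ LinearMap.range (E.d (a - 1) a).hom)))) :=
    (flat_loc_iff q (ModuleCat.of A (E.X a ⧸ LinearMap.range (E.d (a - 1) a).hom))).2 h1
  have e : (Floc (A := R) q E).opcycles a ≅
      (Groth.Agent.Helper9.RingProj1.rs (algebraMap R (Localization.AtPrime q))).obj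
      ((Groth.Agent.Helper9.RingProj1.ext (algebraMap A (Localization.AtPrime q))).obj
        (ModuleCat.of A (E.X a ⧸ LinearMap.range (E.d (a - 1) a).hom))) :=
    opcyclesFlocIso q E a ≪≫
      (Groth.Agent.Helper9.RingProj1.rs (algebraMap R (Localization.AtPrime q))).mapIso
        ((Groth.Agent.Helper9.RingProj1.ext (algebraMap A (Localization.AtPrime q))).mapIso
          (opcyclesIsoQuot E (a - 1) a (by omega)))
  exact Module.Flat.of_linearEquiv e.toLinearEquiv

include hpq in
/-- **pointwise tor amplitude from the fibre** -/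
theorem hasTorAmplitudeIn_Floc (E : DRing.Cx A) (b : ℤ) (hv : DRing.VanishesAbove E b)
    (hff : DRing.TermwiseFiniteFree E) (a : ℤ) (hex : ∀ i, i < a → E.ExactAt i)
    (h : (DRing.tensorCx ((Groth.Agent.Helper3.DRingLib.rCx (algebraMap R A)).obj E)
      (ModuleCat.of R p.ResidueField)).ExactAt (a - 1)) :
    DRing.HasTorAmplitudeIn R a b (DRing.toD (Floc (A := R) q E)) := by
  have hf : DRing.TermwiseFlat E := fun i => by
    haveI := (hff i).2
    infer_instance
  exact hasTorAmplitudeIn_of_flat_opcycles _ b (vanishesAbove_Floc q E b hv)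
    (termwiseFlat_Floc q E hf) a (fun i hi => exactAt_Floc q E i (hex i hi))
    (flat_opcycles_Floc p q hpq E hff a h)

end Groth.Agent.Helper9.FC3
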