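import Mathlib
import Groth.Agent.Helper9.FC3
import Groth.Agent.Helper6.LBCFibre

/-! The fibre criterion at a prime, second form: exactness of the fibre in degree `i` gives
exactness of the localized complex in degree `i` (and flatness of the next cokernel). -/

set_option autoImplicit false
set_option linter.style.haveILetI false
set_option linter.unusedVariables false
set_option linter.unusedSectionVars false
universe u

namespace Groth.Agent.Helper9.FC10

open CategoryTheory CategoryTheory.Limits TensorProduct HomologicalComplex IsLocalRing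
open Groth.Agent.Helper3.DRingLib Groth.Agent.Helper9.TorOpen1 Groth.Agent.Helper9.FC2

attribute [local instance] HasDerivedCategory.standard

section BC

variable {A : Type u} (B : Type u) [CommRing A] [CommRing B] [Algebra A B]

/-- exactness of the base changed complex from exactness of the tensored maps -/
lemma exactAt_bcCx_of_exact_lTensor (P : DRing.Cx A) (i j k : ℤ) (hij : i + 1 = j)
    (hjk : j + 1 = k)
    (h : Function.Exact ((P.d i j).hom.lTensor B) ((P.d j k).hom.lTensor B)) :
    ((bcCx A B).obj P).ExactAt j := by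
  rw [exactAt_iff_forall ((bcCx A B).obj P) i j k hij hjk]
  have h' : ∀ x : (ModuleCat.extendScalars (algebraMap A B)).obj (P.X j),
      ((ModuleCat.extendScalars (algebraMap A B)).map (P.d j k)).hom x = 0 →
      ∃ y : (ModuleCat.extendScalars (algebraMap A B)).obj (P.X i),
        ((ModuleCat.extendScalars (algebraMap A B)).map (P.d i j)).hom y = x := by
    intro x hx
    have h1 : ((P.d j k).hom.lTensor B) (extendScalarsEquiv (B := B) (P.X j) x) = 0 := by
      rw [← Groth.Agent.Helper6.LBCFibre.extendScalarsEquiv_naturality B (P.d j k) x, hx,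
        map_zero]
    obtain ⟨y, hy⟩ := (h _).1 h1
    refine ⟨(extendScalarsEquiv (B := B) (P.X i)).symm y, ?_⟩
    apply (extendScalarsEquiv (B := B) (P.X j)).injective
    rw [Groth.Agent.Helper6.LBCFibre.extendScalarsEquiv_naturality B (P.d i j),
      LinearEquiv.apply_symm_apply, hy]
  exact h'

end BC

section Loc

variable {A : Type u} [CommRing A] (q : Ideal A) [q.IsPrime]
  {L M N : Type u} [AddCommGroup L] [Module A L] [AddCommGroup M] [Module A M]
  [AddCommGroup N] [Module A N]

/-- exactness at a prime, in elementary terms -/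
lemma exact_lTensor_loc (d₁ : L →ₗ[A] M) (d₂ : M →ₗ[A] N) (hd : d₂ ∘ₗ d₁ = 0)
    (h : ∀ m : M, d₂ m = 0 → ∃ t : A, t ∉ q ∧ ∃ l : L, t • m = d₁ l) :
    Function.Exact (d₁.lTensor (Localization.AtPrime q)) (d₂.lTensor (Localization.AtPrime q)) := by
  haveI hM : IsLocalizedModule q.primeCompl (TensorProduct.mk A (Localization.AtPrime q) M 1) :=
    (isLocalizedModule_iff_isBaseChange q.primeCompl (Localization.AtPrime q) _).2
      (TensorProduct.isBaseChange A M (Localization.AtPrime q))
  haveI hN : IsLocalizedModule q.primeCompl (TensorProduct.mk A (Localization.AtPrime q) N 1) :=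
    (isLocalizedModule_iff_isBaseChange q.primeCompl (Localization.AtPrime q) _).2
      (TensorProduct.isBaseChange A N (Localization.AtPrime q))
  intro z
  constructor
  · intro hz
    obtain ⟨⟨m, s⟩, hs⟩ := IsLocalizedModule.surj q.primeCompl
      (TensorProduct.mk A (Localization.AtPrime q) M 1) z
    have hs' : (s : A) • z = (1 : Localization.AtPrime q) ⊗ₜ[A] m := hs
    have h1 : (1 : Localization.AtPrime q) ⊗ₜ[A] (d₂ m) = 0 := by
      have := congrArg (d₂.lTensor (Localization.AtPrime q)) hs'
      rw [map_smul, hz, smul_zero, LinearMap.lTensor_tmul] at this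
      exact this.symm
    obtain ⟨c, hc⟩ := (IsLocalizedModule.eq_zero_iff q.primeCompl
      (TensorProduct.mk A (Localization.AtPrime q) N 1)).1 h1
    have hc' : d₂ ((c : A) • m) = 0 := by
      rw [map_smul]
      exact hc
    obtain ⟨t, ht, l, hl⟩ := h _ hc'
    have hu : IsUnit (algebraMap A (Localization.AtPrime q) (t * c * s)) :=
      IsLocalization.map_units (Localization.AtPrime q)
        (⟨t * c * s, (⟨t, ht⟩ * c * s : q.primeCompl).2⟩ : q.primeCompl)
    obtain ⟨v, hv⟩ := hu.exists_left_inv
    refine ⟨v ⊗ₜ[A] l, ?_⟩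
    rw [LinearMap.lTensor_tmul, ← hl]
    have h2 : z = v • ((t * c * s) • z) := by
      rw [← algebraMap_smul (Localization.AtPrime q) (t * c * s) z, ← mul_smul, hv, one_smul]
    have h3 : (t * c * s) • z = (1 : Localization.AtPrime q) ⊗ₜ[A] (t • (c : A) • m) := by
      rw [mul_smul, hs', mul_smul, TensorProduct.tmul_smul, TensorProduct.tmul_smul]
    rw [h2, h3, TensorProduct.smul_tmul', smul_eq_mul, mul_one]
  · rintro ⟨y, rfl⟩
    rw [← LinearMap.comp_apply, ← LinearMap.lTensor_comp, hd, LinearMap.lTensor_zero,
      LinearMap.zero_apply]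

end Loc

section Core

variable {R A : Type u} [CommRing R] [CommRing A] [Algebra R A]
  (p : Ideal R) [p.IsPrime] (q : Ideal A) [q.IsPrime] (hpq : p = q.comap (algebraMap R A))
  [Algebra.FinitePresentation R A]
  {L M N : Type u} [AddCommGroup L] [Module A L] [AddCommGroup M] [Module A M]
  [AddCommGroup N] [Module A N] [Module R N] [IsScalarTower R A N]
  [Module.Finite A L] [Module.FinitePresentation A M] [Module.FinitePresentation A N]
  [Module.Flat R N]
  (d₁ : L →ₗ[A] M) (d₂ : M →ₗ[A] N) (hd : d₂ ∘ₗ d₁ = 0)

include hd hpq in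
/-- **the fibre criterion at a prime, exactness part**: exactness modulo `p` near `q` gives
exactness near `q` -/
theorem exact_at_prime
    (hex : ∀ m : M, (∃ t : A, t ∉ q ∧
        t • d₂ m ∈ (p.map (algebraMap R A)) • (⊤ : Submodule A N)) →
      ∃ t : A, t ∉ q ∧ ∃ l : L,
        t • m - d₁ l ∈ (p.map (algebraMap R A)) • (⊤ : Submodule A M)) :
    ∀ m : M, d₂ m = 0 → ∃ t : A, t ∉ q ∧ ∃ l : L, t • m = d₁ l := by
  letI := algLoc p q hpq
  haveI := tower p q hpq
  haveI := isLocalHom p q hpq
  have hd' : LinearMap.range d₁ ≤ LinearMap.ker d₂ := by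
    rintro _ ⟨l, rfl⟩
    exact congr($hd l)
  let d₂bar : (M ⧸ LinearMap.range d₁) →ₗ[A] N := (LinearMap.range d₁).liftQ d₂ hd'
  let u := LocalizedModule.map q.primeCompl d₂bar
  -- module structures over `R_p`
  letI mM : Module (Localization.AtPrime p) (LocalizedModule q.primeCompl (M ⧸ LinearMap.range d₁)) :=
    Module.compHom _ (algebraMap (Localization.AtPrime p) (Localization.AtPrime q))
  haveI tM : IsScalarTower (Localization.AtPrime p) (Localization.AtPrime q)
      (LocalizedModule q.primeCompl (M ⧸ LinearMap.range d₁)) :=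
    IsScalarTower.of_algebraMap_smul (fun r x => rfl)
  letI mN : Module (Localization.AtPrime p) (LocalizedModule q.primeCompl N) :=
    Module.compHom _ (algebraMap (Localization.AtPrime p) (Localization.AtPrime q))
  haveI tN : IsScalarTower (Localization.AtPrime p) (Localization.AtPrime q)
      (LocalizedModule q.primeCompl N) :=
    IsScalarTower.of_algebraMap_smul (fun r x => rfl)
  haveI tRN : IsScalarTower R (Localization.AtPrime p) (LocalizedModule q.primeCompl N) := by
    refine ⟨fun r c x => ?_⟩
    show (algebraMap (Localization.AtPrime p) (Localization.AtPrime q) (r • c)) • x =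
      r • ((algebraMap (Localization.AtPrime p) (Localization.AtPrime q) c) • x)
    rw [Algebra.smul_def, map_mul, ← IsScalarTower.algebraMap_apply, mul_smul, algebraMap_smul]
  -- flatness of `N_q`
  have hN1 : Module.Flat R (LocalizedModule q.primeCompl N) :=
    Groth.Agent.Helper5.GenFlat.flat_of_isLocalizedModule q.primeCompl
      (LocalizedModule.mkLinearMap q.primeCompl N) inferInstance
  haveI hN2 : Module.Flat (Localization.AtPrime p) (LocalizedModule q.primeCompl N) :=
    (Module.flat_iff_of_isLocalization (Localization.AtPrime p) p.primeCompl _).2 hN1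
  -- finite presentation
  haveI : Module.FinitePresentation A (M ⧸ LinearMap.range d₁) := by
    refine Module.finitePresentation_of_surjective (LinearMap.range d₁).mkQ
      (Submodule.mkQ_surjective _) ?_
    rw [Submodule.ker_mkQ, LinearMap.range_eq_map]
    exact Submodule.FG.map _ Module.Finite.fg_top
  haveI : Module.FinitePresentation (Localization.AtPrime q)
      (LocalizedModule q.primeCompl (M ⧸ LinearMap.range d₁)) := inferInstance
  haveI : Module.FinitePresentation (Localization.AtPrime q)
      (LocalizedModule q.primeCompl N) := inferInstance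
  have hS : CAlgX.IsEssFinitePresentation (Localization.AtPrime p) (Localization.AtPrime q) :=
    Groth.Agent.Helper2.EssFP.essFP_of_atPrime p q (fun a ha h => ha (by rw [hpq]; exact h))
      (Localization.AtPrime p) (Localization.AtPrime q)
  have hu : ∀ x : LocalizedModule q.primeCompl (M ⧸ LinearMap.range d₁),
      u x ∈ (maximalIdeal (Localization.AtPrime p)).map
          (algebraMap (Localization.AtPrime p) (Localization.AtPrime q)) •
        (⊤ : Submodule (Localization.AtPrime q) (LocalizedModule q.primeCompl N)) →
      x ∈ (maximalIdeal (Localization.AtPrime p)).map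
          (algebraMap (Localization.AtPrime p) (Localization.AtPrime q)) •
        (⊤ : Submodule (Localization.AtPrime q)
          (LocalizedModule q.primeCompl (M ⧸ LinearMap.range d₁))) := by
    intro x
    induction x using LocalizedModule.induction_on with
    | h mb s =>
      obtain ⟨m, rfl⟩ := Submodule.mkQ_surjective _ mb
      rw [map_maximalIdeal p q hpq]
      have hum : u (LocalizedModule.mk ((LinearMap.range d₁).mkQ m) s) =
          LocalizedModule.mk (d₂ m) s := by
        show LocalizedModule.map q.primeCompl d₂bar _ = _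
        rw [LocalizedModule.map_mk]
        rfl
      rw [hum, mem_smul_top_iff q N _ (d₂ m) s,
        mem_smul_top_iff q (M ⧸ LinearMap.range d₁) _ ((LinearMap.range d₁).mkQ m) s]
      rintro ⟨t, ht, h⟩
      obtain ⟨t', ht', l, hl⟩ := hex m ⟨t, ht, h⟩
      refine ⟨t', ht', ?_⟩
      have h1 : t' • (LinearMap.range d₁).mkQ m = (LinearMap.range d₁).mkQ (t' • m - d₁ l) := by
        have h0 : (LinearMap.range d₁).mkQ (d₁ l) = 0 :=
          (Submodule.Quotient.mk_eq_zero _).2 ⟨l, rfl⟩
        rw [map_sub, map_smul, h0, sub_zero]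
      rw [h1]
      have h2 : (LinearMap.range d₁).mkQ (t' • m - d₁ l) ∈
          ((p.map (algebraMap R A)) • (⊤ : Submodule A M)).map (LinearMap.range d₁).mkQ :=
        Submodule.mem_map_of_mem hl
      rw [Submodule.map_smul''] at h2
      exact Submodule.smul_mono le_rfl le_top h2
  have key := (Groth.Agent.S2107.result hS u hu).1
  intro m hm
  have h1 : u (LocalizedModule.mk ((LinearMap.range d₁).mkQ m) 1) = 0 := by
    show LocalizedModule.map q.primeCompl d₂bar _ = _
    rw [LocalizedModule.map_mk]
    show LocalizedModule.mk (d₂ m) 1 = 0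
    rw [hm, LocalizedModule.zero_mk]
  have h2 : LocalizedModule.mk ((LinearMap.range d₁).mkQ m) (1 : q.primeCompl) = 0 :=
    key (h1.trans (map_zero u).symm)
  have h3 : LocalizedModule.mkLinearMap q.primeCompl (M ⧸ LinearMap.range d₁)
      ((LinearMap.range d₁).mkQ m) = 0 := h2
  obtain ⟨c, hc⟩ := (IsLocalizedModule.eq_zero_iff q.primeCompl
    (LocalizedModule.mkLinearMap q.primeCompl (M ⧸ LinearMap.range d₁))).1 h3
  have h4 : (LinearMap.range d₁).mkQ ((c : A) • m) = 0 := by
    rw [map_smul]
    exact hc
  obtain ⟨l, hl⟩ := (Submodule.Quotient.mk_eq_zero _).1 h4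
  exact ⟨c, c.2, l, hl.symm⟩

end Core

section Cx

variable {R A : Type u} [CommRing R] [CommRing A] [Algebra R A] [Module.Flat R A]
  [Algebra.FinitePresentation R A]
  (p : Ideal R) [p.IsPrime] (q : Ideal A) [q.IsPrime] (hpq : p = q.comap (algebraMap R A))

include hpq in
/-- exactness of the fibre in degree `i` gives exactness of the localized complex in degree `i` -/
theorem exactAt_Floc_of_fibre (E : DRing.Cx A) (hff : DRing.TermwiseFiniteFree E) (i : ℤ)
    (h : (DRing.tensorCx ((Groth.Agent.Helper3.DRingLib.rCx (algebraMap R A)).obj E)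
      (ModuleCat.of R p.ResidueField)).ExactAt i) :
    (Floc (A := R) q E).ExactAt i := by
  letI m1 : Module R (E.X (i - 1)) := Module.compHom _ (algebraMap R A)
  haveI t1 : IsScalarTower R A (E.X (i - 1)) :=
    IsScalarTower.of_algebraMap_smul (fun r m => rfl)
  letI m2 : Module R (E.X i) := Module.compHom _ (algebraMap R A)
  haveI t2 : IsScalarTower R A (E.X i) := IsScalarTower.of_algebraMap_smul (fun r m => rfl)
  letI m3 : Module R (E.X (i + 1)) := Module.compHom _ (algebraMap R A)
  haveI t3 : IsScalarTower R A (E.X (i + 1)) := IsScalarTower.of_algebraMap_smul (fun r m => rfl)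
  haveI := (hff (i - 1)).1
  haveI := (hff i).1
  haveI := (hff i).2
  haveI := (hff (i + 1)).1
  haveI := (hff (i + 1)).2
  haveI : Module.FinitePresentation A (E.X i) := Module.finitePresentation_of_projective A _
  haveI : Module.FinitePresentation A (E.X (i + 1)) := Module.finitePresentation_of_projective A _
  haveI : Module.Flat R (E.X (i + 1)) := Module.Flat.trans R A _
  rw [exactAt_iff_forall _ (i - 1) i (i + 1) (by omega) (by omega)] at h
  have hex : ∀ x : (E.X i) ⊗[R] p.ResidueField,
      (((E.d i (i + 1)).hom.restrictScalars R).rTensor p.ResidueField) x = 0 →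
        ∃ y : (E.X (i - 1)) ⊗[R] p.ResidueField,
          (((E.d (i - 1) i).hom.restrictScalars R).rTensor p.ResidueField) y = x :=
    fun x hx => h x hx
  have hd : (E.d i (i + 1)).hom ∘ₗ (E.d (i - 1) i).hom = 0 := by
    rw [← ModuleCat.hom_comp, E.d_comp_d]
    rfl
  have key := exact_at_prime p q hpq (E.d (i - 1) i).hom (E.d i (i + 1)).hom hd
    (fun m hm => Groth.Agent.Helper9.FC1.elementary_of_exact p q hpq
      (E.d (i - 1) i).hom (E.d i (i + 1)).hom hex m hm)
  have h2 := exact_lTensor_loc q (E.d (i - 1) i).hom (E.d i (i + 1)).hom hd key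
  have h3 := exactAt_bcCx_of_exact_lTensor (Localization.AtPrime q) E (i - 1) i (i + 1)
    (by omega) rfl h2
  exact (Groth.Agent.Helper9.RingProj2.exactAt_rCx_iff
    (algebraMap R (Localization.AtPrime q)) _ i).2 h3

include hpq in
/-- **pointwise tor amplitude from the fibres**, without boundedness below -/
theorem hasTorAmplitudeIn_Floc (E : DRing.Cx A) (b : ℤ) (hv : DRing.VanishesAbove E b)
    (hff : DRing.TermwiseFiniteFree E) (a : ℤ)
    (h : ∀ i, i < a →
      (DRing.tensorCx ((Groth.Agent.Helper3.DRingLib.rCx (algebraMap R A)).obj E)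
        (ModuleCat.of R p.ResidueField)).ExactAt i) :
    DRing.HasTorAmplitudeIn R a b (DRing.toD (Floc (A := R) q E)) := by
  have hf : DRing.TermwiseFlat E := fun i => by
    haveI := (hff i).2
    infer_instance
  exact hasTorAmplitudeIn_of_flat_opcycles _ b (vanishesAbove_Floc q E b hv)
    (termwiseFlat_Floc q E hf) a (fun i hi => exactAt_Floc_of_fibre p q hpq E hff i (h i hi))
    (Groth.Agent.Helper9.FC3.flat_opcycles_Floc p q hpq E hff a (h (a - 1) (by omega)))

end Cx

end Groth.Agent.Helper9.FC10
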