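import Mathlib
import Groth.Prelude.Def_DualSh
import Groth.Agent.Helper9.FC3
import Groth.Agent.Helper9.TorOpen2

/-! The fibre criterion for relative perfectness, ring level. -/

set_option autoImplicit false
set_option linter.style.haveILetI false
set_option linter.unusedVariables false
set_option linter.unusedSectionVars false
set_option linter.unusedSimpArgs false
universe u

namespace Groth.Agent.Helper9.FC4

open CategoryTheory CategoryTheory.Limits TensorProduct HomologicalComplex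
open Groth.Agent.Helper3.DRingLib Groth.Agent.Helper9.TorOpen1

attribute [local instance] HasDerivedCategory.standard

variable {R A : Type u} [CommRing R] [CommRing A] [Algebra R A] [Module.Flat R A]
  [Algebra.FinitePresentation R A]

/-- **fibre criterion** for complexes of finite free modules -/
theorem exists_hasTorAmplitudeIn_of_fibres (E : DRing.Cx A) (b : ℤ)
    (hv : DRing.VanishesAbove E b) (hff : DRing.TermwiseFiniteFree E) (a₀ : ℤ)
    (hex : ∀ i, i < a₀ → E.ExactAt i)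
    (hfib : ∀ p : PrimeSpectrum R, ∃ a : ℤ, ∀ i : ℤ, i < a →
      (DRing.tensorCx ((Groth.Agent.Helper3.DRingLib.rCx (algebraMap R A)).obj E)
        (ModuleCat.of R p.asIdeal.ResidueField)).ExactAt i) :
    ∃ a : ℤ, DRing.HasTorAmplitudeIn R a b
      (DRing.toD ((Groth.Agent.Helper3.DRingLib.rCx (algebraMap R A)).obj E)) := by
  -- pointwise
  have hpt : ∀ q : PrimeSpectrum A, ∃ d : ℕ,
      DRing.HasTorAmplitudeIn R (a₀ - (d : ℤ)) b (DRing.toD (Floc (A := R) q.asIdeal E)) := by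
    intro q
    obtain ⟨ap, hap⟩ := hfib (q.comap (algebraMap R A))
    refine ⟨(a₀ - ap).toNat, ?_⟩
    exact Groth.Agent.Helper9.FC3.hasTorAmplitudeIn_Floc
      (q.comap (algebraMap R A)).asIdeal q.asIdeal rfl E b hv hff _
      (fun i hi => hex i (by omega)) (hap _ (by omega))
  -- open neighbourhoods
  have hnhd : ∀ q : PrimeSpectrum A, ∃ (g : A) (d : ℕ), g ∉ q.asIdeal ∧
      ∀ (𝔭 : Ideal A) [𝔭.IsPrime], g ∉ 𝔭 →
        DRing.HasTorAmplitudeIn R (a₀ - (d : ℤ)) b (DRing.toD (Floc (A := R) 𝔭 E)) := by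
    intro q
    obtain ⟨d, hd⟩ := hpt q
    obtain ⟨g, hg, hg'⟩ := core (A := R) E b hv hff (a₀ - (d : ℤ))
      (fun i hi => hex i (by omega)) q.asIdeal b hd
    exact ⟨g, d, hg, hg'⟩
  choose g d hg hgd using hnhd
  -- compactness
  obtain ⟨t, ht⟩ := isCompact_univ.elim_finite_subcover
    (fun q : PrimeSpectrum A => (PrimeSpectrum.basicOpen (g q) : Set (PrimeSpectrum A)))
    (fun q => (PrimeSpectrum.basicOpen (g q)).isOpen)
    (fun q _ => Set.mem_iUnion.2 ⟨q, hg q⟩)
  have hall : ∀ (𝔪 : MaximalSpectrum A),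
      DRing.HasTorAmplitudeIn R (a₀ - ((t.sup d : ℕ) : ℤ)) b
        (DRing.toD (Floc (A := R) 𝔪.asIdeal E)) := by
    intro 𝔪
    have h1 := ht (Set.mem_univ (⟨𝔪.asIdeal, 𝔪.isMaximal.isPrime⟩ : PrimeSpectrum _))
    simp only [Set.mem_iUnion] at h1
    obtain ⟨q, hqt, hq⟩ := h1
    haveI := 𝔪.isMaximal.isPrime
    have h2 := hgd q 𝔪.asIdeal hq
    have h3 : d q ≤ t.sup d := Finset.le_sup hqt
    exact Groth.Agent.Helper3.DRingLib.hasTorAmplitudeIn_mono (by omega) le_rfl h2
  have hup := Groth.Agent.Helper9.RLT3.up (algebraMap R A)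
    (fun 𝔪 : MaximalSpectrum A => Localization.AtPrime 𝔪.asIdeal)
    (fun _ => R) (fun _ => RingHom.id R) (fun _ => RingHom.Flat.id R)
    (fun 𝔪 => algebraMap R (Localization.AtPrime 𝔪.asIdeal))
    (fun 𝔪 => RingHom.ext fun a =>
      (IsScalarTower.algebraMap_apply R A (Localization.AtPrime 𝔪.asIdeal) a).symm)
    (Groth.Agent.Helper9.RLT2.jointlyFaithful_maximal A) E
    (a₀ - ((t.sup d : ℕ) : ℤ)) b hall
  exact ⟨_, hup⟩

/-- **fibre criterion for relative perfectness** -/
theorem main [∀ p : PrimeSpectrum R, DRing.HasLTensor R (ModuleCat.of R p.asIdeal.ResidueField)]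
    (K : Dual.D A) (hK : DRing.IsPseudoCoherent' A K) :
    Dual2.IsRelPerfect R A K ↔
      (∃ a : ℤ, ∀ i : ℤ, i < a → Subsingleton (Dual.HD A K i)) ∧
        ∀ p : PrimeSpectrum R, ∃ a : ℤ, ∀ i : ℤ, i < a →
          Subsingleton (Dual.HD R ((DRing.LTensor R (ModuleCat.of R p.asIdeal.ResidueField)).obj
            ((DRing.restrictD (algebraMap R A)).obj K)) i) := by
  obtain ⟨E, b, hv, hff, ⟨e⟩⟩ := hK
  have hf : DRing.TermwiseFlat E := fun i => by
    haveI := (hff i).2
    infer_instance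
  have hFv : DRing.VanishesAbove
      ((Groth.Agent.Helper3.DRingLib.rCx (algebraMap R A)).obj E) b :=
    fun i hi => Functor.map_isZero (rF (algebraMap R A)) (hv i hi)
  have hFf : DRing.TermwiseFlat ((Groth.Agent.Helper3.DRingLib.rCx (algebraMap R A)).obj E) :=
    fun i => by
      haveI := hf i
      exact Groth.Agent.Helper9.FlatPC2.flat_rF (R := R) (E.X i)
  let eF : DRing.toD ((Groth.Agent.Helper3.DRingLib.rCx (algebraMap R A)).obj E) ≅
      (DRing.restrictD (algebraMap R A)).obj K :=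
    (rDToD (algebraMap R A) E).symm ≪≫ (DRing.restrictD (algebraMap R A)).mapIso e
  constructor
  · rintro ⟨_, a, b', h⟩
    have hT : IsTorGE a ((DRing.restrictD (algebraMap R A)).obj K) :=
      ((hasTorAmplitudeIn_iff' a b' _).1 h).2
    refine ⟨⟨a, fun i hi => ?_⟩, fun p => ⟨a, fun i hi => ?_⟩⟩
    · haveI := hT.isGE
      haveI : K.IsGE a := (rD_isGE_iff (algebraMap R A) K a).1 inferInstance
      exact subsingleton_HD_of_isGE K a i hi
    · rw [Groth.Agent.Helper9.FC1.subsingleton_HD_iff_of_flat _ _ b hFv hFf eF i]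
      exact hT.forall_rep _ b hFv hFf eF _ i hi
  · rintro ⟨⟨a₀, h0⟩, hfib⟩
    refine ⟨⟨E, b, hv, hff, ⟨e⟩⟩, ?_⟩
    have hex : ∀ i, i < a₀ → E.ExactAt i := fun i hi => by
      haveI := h0 i hi
      exact exactAt_of_isZero E i (IsZero.of_iso (ModuleCat.isZero_of_subsingleton _)
        ((DerivedCategory.homologyFunctor _ i).mapIso e))
    obtain ⟨a, ha⟩ := exists_hasTorAmplitudeIn_of_fibres E b hv hff a₀ hex (fun p => by
      obtain ⟨ap, hap⟩ := hfib p
      exact ⟨ap, fun i hi =>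
        (Groth.Agent.Helper9.FC1.subsingleton_HD_iff_of_flat _ _ b hFv hFf eF i).1 (hap i hi)⟩)
    exact ⟨a, b, hasTorAmplitudeIn_of_iso eF _ _ ha⟩

end Groth.Agent.Helper9.FC4
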