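import Mathlib
import Groth.Agent.Helper6.RelPerfBC
import Groth.Agent.Helper6.LBCFlatCx
import Groth.Agent.Helper9.RingProj2
import Groth.Agent.Helper9.FC4

/-! The fibre of a complex over a flat algebra: `E ⊗_B (κ ⊗_A B)` versus `E ⊗_A κ`. -/

set_option autoImplicit false
set_option linter.style.haveILetI false
set_option linter.unusedVariables false
set_option linter.unusedSectionVars false
universe u

namespace Groth.Agent.Helper9.FC6

open CategoryTheory CategoryTheory.Limits TensorProduct HomologicalComplex MonoidalCategory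
open Groth.Agent.Helper3.DRingLib Groth.Agent.Helper6.LBCCompute

attribute [local instance] HasDerivedCategory.standard
attribute [local instance] Algebra.TensorProduct.rightAlgebra

section Unit

variable {A : Type u} [CommRing A]

lemma exactAt_tensorCx_unit (P : DRing.Cx A) (i : ℤ) (h : P.ExactAt i) :
    (DRing.tensorCx P (ModuleCat.of A A)).ExactAt i := by
  have e : DRing.tensorCx P (ModuleCat.of A A) ≅ P :=
    (NatIso.mapHomologicalComplex (rightUnitorNatIso (ModuleCat.{u} A))
      (ComplexShape.up ℤ)).app P ≪≫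
      (Functor.mapHomologicalComplexIdIso _ _).app P
  exact Groth.Agent.Helper6.LBCFibreGlobal.exactAt_of_iso e.symm i h

end Unit

variable {A B κ : Type u} [CommRing A] [CommRing B] [CommRing κ] [Algebra A B] [Algebra A κ]

/-- `κ` as an `A`-module is the restriction of `κ` as a `κ`-module -/
noncomputable def resEquiv :
    ↑((ModuleCat.restrictScalars (algebraMap A κ)).obj (ModuleCat.of κ κ)) ≃ₗ[A] κ :=
  { toFun := fun x => x
    invFun := fun x => x
    left_inv := fun _ => rfl
    right_inv := fun _ => rfl
    map_add' := fun _ _ => rfl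
    map_smul' := fun a x => by
      show (algebraMap A κ a) • (show κ from x) = a • (show κ from x)
      rw [algebraMap_smul] }

noncomputable def resIso :
    (ModuleCat.restrictScalars (algebraMap A κ)).obj (ModuleCat.of κ κ) ≅ ModuleCat.of A κ :=
  (resEquiv (A := A) (κ := κ)).toModuleIso

/-- exactness of `E ⊗_B (κ ⊗_A B)` gives exactness of `E ⊗_A κ` -/
theorem exactAt_tensorCx_of_exactAt_bc (E : DRing.Cx B) (i : ℤ)
    (h : ((bcCxF (algebraMap B (κ ⊗[A] B))).obj E).ExactAt i) :
    (DRing.tensorCx ((Groth.Agent.Helper3.DRingLib.rCx (algebraMap A B)).obj E)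
      (ModuleCat.of A κ)).ExactAt i := by
  have h1 : ((Groth.Agent.Helper3.DRingLib.rCx (algebraMap κ (κ ⊗[A] B))).obj
      ((bcCxF (algebraMap B (κ ⊗[A] B))).obj E)).ExactAt i :=
    (Groth.Agent.Helper9.RingProj2.exactAt_rCx_iff (algebraMap κ (κ ⊗[A] B)) _ i).2 h
  have h2 := exactAt_tensorCx_unit _ i h1
  have h3 := (Groth.Agent.Helper6.RelPerfBC.exactAt_bc_iff (R := A) (A := B) (R' := κ) E
    (ModuleCat.of κ κ) i).1 h2
  exact Groth.Agent.Helper6.RingChangeTen.exactAt_tensorCx_of_iso _ resIso i h3

end Groth.Agent.Helper9.FC6
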