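import Mathlib
import Groth.Agent.Helper9.FC10
import Groth.Agent.Helper9.FC6
import Groth.Agent.Helper9.RLT5
import Groth.Agent.Helper6.RelPerfBCMain

/-! Ring-level tools for the fibre criterion over an ideal contained in the Jacobson radical:
generization of pointwise tor amplitude, and fibres of the reduction modulo `I`. -/

set_option autoImplicit false
set_option linter.style.haveILetI false
set_option linter.unusedVariables false
set_option linter.unusedSectionVars false
universe u

namespace Groth.Agent.Helper9.FC11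

open CategoryTheory CategoryTheory.Limits TensorProduct HomologicalComplex
open Groth.Agent.Helper3.DRingLib Groth.Agent.Helper9.TorOpen1 Groth.Agent.Helper9.RingProj1
  Groth.Agent.Helper9.RLT1 Groth.Agent.Helper9.RLT3

attribute [local instance] HasDerivedCategory.standard

section Lift

variable {A : Type u} [CommRing A] (M N : Submonoid A) (hMN : M ≤ N)
  (L T : Type u) [CommRing L] [CommRing T] [Algebra A L] [Algebra A T]
  [IsLocalization M L] [IsLocalization N T]

/-- the canonical map between localizations -/
noncomputable def locLift : L →+* T :=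
  IsLocalization.lift (M := M) (g := algebraMap A T)
    (fun y => IsLocalization.map_units T (⟨y, hMN y.2⟩ : N))

lemma locLift_comp : (locLift M N hMN L T).comp (algebraMap A L) = algebraMap A T :=
  IsLocalization.lift_comp _

lemma locLift_flat : (locLift M N hMN L T).Flat := by
  letI : Algebra L T := (locLift M N hMN L T).toAlgebra
  haveI : IsScalarTower A L T := IsScalarTower.of_algebraMap_eq (fun a => by
    show _ = (locLift M N hMN L T) (algebraMap A L a)
    rw [← RingHom.comp_apply, locLift_comp])
  haveI := IsLocalization.isLocalization_of_submonoid_le L T M N hMN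
  show Module.Flat L T
  exact IsLocalization.flat T (N.map (algebraMap A L))

end Lift

section Gen

variable {R A : Type u} [CommRing R] [CommRing A] [Algebra R A]

/-- every module over `R` is extended from its restriction along the identity -/
lemma nonempty_ext_rs_id (N : ModuleCat.{u} R) :
    Nonempty ((ext (RingHom.id R)).obj ((rs (RingHom.id R)).obj N) ≅ N) :=
  ⟨(ModuleCat.extendScalarsId R).app _ ≪≫ (ModuleCat.restrictScalarsId R).app N⟩

/-- **generization**: pointwise tor amplitude over the base passes to generizations -/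
theorem hasTorAmplitudeIn_Floc_of_le (q q₁ : Ideal A) [q.IsPrime] [q₁.IsPrime] (hle : q ≤ q₁)
    (K : DRing.Cx A) (a b : ℤ)
    (h : DRing.HasTorAmplitudeIn R a b (DRing.toD (Floc (A := R) q₁ K))) :
    DRing.HasTorAmplitudeIn R a b (DRing.toD (Floc (A := R) q K)) := by
  have hMN : q₁.primeCompl ≤ q.primeCompl := fun y hy hq => hy (hle hq)
  let lam := locLift q₁.primeCompl q.primeCompl hMN (Localization.AtPrime q₁)
    (Localization.AtPrime q)
  have hlam : lam.comp (algebraMap A (Localization.AtPrime q₁)) =
      algebraMap A (Localization.AtPrime q) := locLift_comp _ _ hMN _ _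
  have hcomm : lam.comp (algebraMap R (Localization.AtPrime q₁)) =
      (algebraMap R (Localization.AtPrime q)).comp (RingHom.id R) := by
    rw [RingHom.comp_id, IsScalarTower.algebraMap_eq R A (Localization.AtPrime q₁),
      ← RingHom.comp_assoc, hlam, ← IsScalarTower.algebraMap_eq]
  have h1 := down (algebraMap R (Localization.AtPrime q₁)) lam (RingHom.id R)
    (algebraMap R (Localization.AtPrime q)) (locLift_flat _ _ hMN _ _) (RingHom.Flat.id R)
    nonempty_ext_rs_id hcomm
    ((extCx (algebraMap A (Localization.AtPrime q₁))).obj K) a b h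
  exact hasTorAmplitudeIn_of_iso (DerivedCategory.Q.mapIso
    ((Groth.Agent.Helper9.RingProj1.rCx (algebraMap R (Localization.AtPrime q))).mapIso
      (extCompIso (algebraMap A (Localization.AtPrime q₁)) lam
        (algebraMap A (Localization.AtPrime q)) hlam.symm K).symm)) _ _ h1

end Gen

section Quot

attribute [local instance] Algebra.TensorProduct.rightAlgebra

variable {R B : Type u} [CommRing R] [CommRing B] [Algebra R B] [Module.Flat R B]
  (I p : Ideal R) [p.IsPrime] (hIp : I ≤ p)

/-- the residue field of a prime containing `I`, as an algebra over the quotient -/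
@[reducible] noncomputable def algQuot : Algebra (R ⧸ I) p.ResidueField :=
  (Ideal.Quotient.lift I (algebraMap R p.ResidueField) (fun x hx =>
    (Ideal.algebraMap_residueField_eq_zero).2 (hIp hx))).toAlgebra

/-- the residue field, restricted from the quotient -/
noncomputable def resQuotIso : letI := algQuot I p hIp
    (ModuleCat.restrictScalars (algebraMap R (R ⧸ I))).obj
      (ModuleCat.of (R ⧸ I) p.ResidueField) ≅ ModuleCat.of R p.ResidueField :=
  letI := algQuot I p hIp
  LinearEquiv.toModuleIso
    ({ toFun := fun x => x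
       invFun := fun x => x
       left_inv := fun _ => rfl
       right_inv := fun _ => rfl
       map_add' := fun _ _ => rfl
       map_smul' := fun r x => by
        show (algebraMap R (R ⧸ I) r) • (show p.ResidueField from x) =
          r • (show p.ResidueField from x)
        rw [Algebra.smul_def, Algebra.smul_def]
        rfl } :
      ↑((ModuleCat.restrictScalars (algebraMap R (R ⧸ I))).obj
        (ModuleCat.of (R ⧸ I) p.ResidueField)) ≃ₗ[R] p.ResidueField)

include hIp in
/-- **fibres of the reduction**: tor amplitude `≥ a` of the reduction modulo `I` gives exactness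
of the fibres over the primes containing `I` in degrees `< a` -/
theorem fibre_exact_of_quotient (E₀ : DRing.Cx B) (b : ℤ) (hv : DRing.VanishesAbove E₀ b)
    (hf : DRing.TermwiseFlat E₀) (a b' : ℤ)
    (h : DRing.HasTorAmplitudeIn (R ⧸ I) a b'
      (DRing.toD ((Groth.Agent.Helper3.DRingLib.rCx (algebraMap (R ⧸ I) ((R ⧸ I) ⊗[R] B))).obj
        ((Groth.Agent.Helper6.LBCCompute.bcCxF (algebraMap B ((R ⧸ I) ⊗[R] B))).obj E₀))))
    (i : ℤ) (hi : i < a) :
    (DRing.tensorCx ((Groth.Agent.Helper3.DRingLib.rCx (algebraMap R B)).obj E₀)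
      (ModuleCat.of R p.ResidueField)).ExactAt i := by
  letI := algQuot I p hIp
  have hPv : DRing.VanishesAbove
      ((Groth.Agent.Helper6.LBCCompute.bcCxF (algebraMap B ((R ⧸ I) ⊗[R] B))).obj E₀) b :=
    fun i hi => Functor.map_isZero
      (ModuleCat.extendScalars.{u, u, u} (algebraMap B ((R ⧸ I) ⊗[R] B))) (hv i hi)
  have fP : DRing.TermwiseFlat
      ((Groth.Agent.Helper6.LBCCompute.bcCxF (algebraMap B ((R ⧸ I) ⊗[R] B))).obj E₀) :=
    bcCx_termwiseFlat ((R ⧸ I) ⊗[R] B) E₀ hf
  have hGv : DRing.VanishesAbove
      ((Groth.Agent.Helper3.DRingLib.rCx (algebraMap (R ⧸ I) ((R ⧸ I) ⊗[R] B))).obj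
        ((Groth.Agent.Helper6.LBCCompute.bcCxF (algebraMap B ((R ⧸ I) ⊗[R] B))).obj E₀)) b :=
    fun i hi => (rF (algebraMap (R ⧸ I) ((R ⧸ I) ⊗[R] B))).map_isZero (hPv i hi)
  have fG : DRing.TermwiseFlat
      ((Groth.Agent.Helper3.DRingLib.rCx (algebraMap (R ⧸ I) ((R ⧸ I) ⊗[R] B))).obj
        ((Groth.Agent.Helper6.LBCCompute.bcCxF (algebraMap B ((R ⧸ I) ⊗[R] B))).obj E₀)) :=
    fun i => by
      haveI : Module.Flat ((R ⧸ I) ⊗[R] B)
          (((Groth.Agent.Helper6.LBCCompute.bcCxF (algebraMap B ((R ⧸ I) ⊗[R] B))).obj E₀).X i) :=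
        fP i
      exact Groth.Agent.Helper6.TorAmpHens.flat_rF
        (((Groth.Agent.Helper6.LBCCompute.bcCxF (algebraMap B ((R ⧸ I) ⊗[R] B))).obj E₀).X i)
  have h1 := (Groth.Agent.Helper6.RelPerfBC.hasTorAmplitudeIn_iff_of_flat _ b hGv fG
    (Iso.refl _) a b').1 h (ModuleCat.of (R ⧸ I) p.ResidueField) i (Or.inl hi)
  have h2 := (Groth.Agent.Helper6.RelPerfBC.exactAt_bc_iff (R := R) (A := B) (R' := R ⧸ I) E₀
    (ModuleCat.of (R ⧸ I) p.ResidueField) i).1 h1
  exact Groth.Agent.Helper6.RingChangeTen.exactAt_tensorCx_of_iso _ (resQuotIso I p hIp) i h2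

end Quot

end Groth.Agent.Helper9.FC11
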