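import Mathlib
import Groth.Agent.Helper9.FC11
import Groth.Agent.Helper9.FBC1
import Groth.Agent.Helper6.HasLBC
import Groth.Agent.Helper6.RelPerfBC
import Groth.Agent.Helper9.FlatPC2
import Groth.Agent.Helper9.SmTor4
import Groth.Agent.Helper9.RLT5

/-! Flat base change of tor amplitude, ring level. -/

set_option autoImplicit false
set_option linter.style.haveILetI false
set_option linter.unusedVariables false
set_option linter.unusedSectionVars false
universe u

namespace Groth.Agent.Helper9.BCT1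

open CategoryTheory CategoryTheory.Limits TensorProduct HomologicalComplex
open Groth.Agent.Helper3.DRingLib Groth.Agent.Helper9.RingProj1
  Groth.Agent.Helper9.RLT1 Groth.Agent.Helper9.RLT3

attribute [local instance] HasDerivedCategory.standard

section Counit

variable {A A' : Type u} [CommRing A] [CommRing A'] [Algebra A A']

/-- over a localization, the counit of extension/restriction of scalars is an isomorphism -/
theorem isIso_counit_app (S : Submonoid A) [IsLocalization S A'] (N : ModuleCat.{u} A') :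
    IsIso ((ModuleCat.ExtendRestrictScalarsAdj.counit.{u, u, u} (algebraMap A A')).app N) := by
  let M : ModuleCat.{u} A := (rs (algebraMap A A')).obj N
  letI : Module A' M := inferInstanceAs (Module A' N)
  haveI : IsScalarTower A A' M := ⟨fun a a' n => by
    show (a • a') • (n : N) = algebraMap A A' a • (a' • (n : N))
    rw [Algebra.smul_def, mul_smul]⟩
  haveI : IsLocalizedModule S (LinearMap.id : M →ₗ[A] M) := isLocalizedModule_id S M A'
  have hbc : IsBaseChange A' (LinearMap.id : M →ₗ[A] M) :=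
    (isLocalizedModule_iff_isBaseChange S A' _).1 inferInstance
  let e : A' ⊗[A] M ≃ₗ[A'] M := hbc.equiv
  let e1 := extendScalarsEquiv (B := A') M
  have key : ∀ t : A' ⊗[A] M,
      ((ModuleCat.ExtendRestrictScalarsAdj.counit.{u, u, u} (algebraMap A A')).app N).hom
        (e1.symm t) = e t := by
    intro t
    induction t using TensorProduct.induction_on with
    | zero =>
      rw [map_zero, map_zero]
      exact map_zero
        ((ModuleCat.ExtendRestrictScalarsAdj.counit.{u, u, u} (algebraMap A A')).app N).hom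
    | tmul s m =>
      have h1 : e (s ⊗ₜ m) = s • m := hbc.equiv_tmul s m
      rw [h1]
      rfl
    | add x y hx hy =>
      rw [map_add, map_add, hx, hy]
      exact (map_add e x y).symm
  rw [ConcreteCategory.isIso_iff_bijective]
  constructor
  · intro z w h
    have hz := key (e1 z)
    have hw := key (e1 w)
    rw [LinearEquiv.symm_apply_apply] at hz hw
    have h' : e (e1 z) = e (e1 w) := by
      rw [← hz, ← hw]
      exact h
    exact e1.injective (e.injective h')
  · intro n
    refine ⟨e1.symm (e.symm n), ?_⟩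
    exact (key (e.symm n)).trans (e.apply_symm_apply n)

/-- a complex over a localization is extended from its restriction of scalars -/
noncomputable def extRsCxIso (S : Submonoid A) [IsLocalization S A'] (K : DRing.Cx A') :
    (extCx (algebraMap A A')).obj
      ((Groth.Agent.Helper9.RingProj1.rCx (algebraMap A A')).obj K) ≅ K :=
  HomologicalComplex.Hom.isoOfComponents
    (fun i => @asIso _ _ _ _
      ((ModuleCat.ExtendRestrictScalarsAdj.counit.{u, u, u} (algebraMap A A')).app (K.X i))
      (isIso_counit_app S (K.X i)))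
    (fun i j _ =>
      ((ModuleCat.ExtendRestrictScalarsAdj.counit.{u, u, u}
        (algebraMap A A')).naturality (K.d i j)).symm)

end Counit

section Steps

/-- restriction of scalars along a flat map preserves tor amplitude -/
theorem hasTorAmplitudeIn_rCx_of_flat {A₀ A : Type u} [CommRing A₀] [CommRing A] (σ : A₀ →+* A)
    (hσ : σ.Flat) (K : DRing.Cx A) (a b : ℤ)
    (h : DRing.HasTorAmplitudeIn A a b (DRing.toD K)) :
    DRing.HasTorAmplitudeIn A₀ a b
      (DRing.toD ((Groth.Agent.Helper9.RingProj1.rCx σ).obj K)) := by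
  obtain ⟨E, hv, hf, ⟨e⟩⟩ := h
  refine ⟨(Groth.Agent.Helper9.RingProj1.rCx σ).obj E,
    fun i hi => (rF σ).map_isZero (hv i hi), fun i => ?_, ⟨?_⟩⟩
  · letI := σ.toAlgebra
    haveI : Module.Flat A₀ A := hσ
    haveI : Module.Flat A (E.X i) := hf i
    exact Groth.Agent.Helper9.FlatPC2.flat_rF (R := A₀) (E.X i)
  · exact (rDToD σ E).symm ≪≫ (DRing.restrictD σ).mapIso e ≪≫ rDToD σ K

attribute [local instance] Algebra.TensorProduct.rightAlgebra

open Groth.Agent.Helper6.LBCCompute in
/-- flat base change of tor amplitude, for a tensor product -/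
theorem hasTorAmplitudeIn_bc {R A R' : Type u} [CommRing R] [CommRing A] [CommRing R']
    [Algebra R A] [Algebra R R'] [Module.Flat R R'] (P : DRing.Cx A) (a b : ℤ)
    (h : DRing.HasTorAmplitudeIn R a b
      (DRing.toD ((Groth.Agent.Helper9.RingProj1.rCx (algebraMap R A)).obj P))) :
    DRing.HasTorAmplitudeIn R' a b
      (DRing.toD ((Groth.Agent.Helper9.RingProj1.rCx (algebraMap R' (R' ⊗[R] A))).obj
        ((extCx (algebraMap A (R' ⊗[R] A))).obj P))) := by
  obtain ⟨E, hv, hf, ⟨e⟩⟩ := h
  haveI := Groth.Agent.Helper6.HasLBC.hasLBaseChange (algebraMap R R')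
  have hfl : (algebraMap R R').Flat := RingHom.flat_algebraMap_iff.mpr inferInstance
  refine ⟨(bcCx R R').obj E, bcCx_vanishesOutside R' E a b hv, bcCx_termwiseFlat R' E hf, ⟨?_⟩⟩
  exact (Groth.Agent.Helper9.FBC1.lbcFlatIso (algebraMap R R') hfl E).symm ≪≫
    (DRing.LBaseChange (algebraMap R R')).mapIso e ≪≫
    Groth.Agent.Helper9.FBC1.lbcFlatIso (algebraMap R R') hfl _ ≪≫
    DerivedCategory.Q.mapIso (Groth.Agent.Helper6.RelPerfBC.Θ (R := R) (R' := R') P)

end Steps

section Main

attribute [local instance] Algebra.TensorProduct.rightAlgebra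

variable {A₀ B₀ A₀' : Type u} [CommRing A₀] [CommRing B₀] [CommRing A₀'] [Algebra A₀ B₀]
  [Algebra A₀ A₀'] [Module.Flat A₀ A₀']
  {A B A' B' : Type u} [CommRing A] [CommRing B] [CommRing A'] [CommRing B']

/-- **flat base change of tor amplitude**, ring level: `B` a localization of `B₀`, `A` flat over
`A₀`, `A'` a "localization" of `A₀'`, `B'` flat over `A₀' ⊗ B₀`. -/
theorem main (σ : A₀ →+* A) (hσ : σ.Flat)
    [Algebra B₀ B] (S : Submonoid B₀) [IsLocalization S B]
    (μ' : A₀' →+* A') (hμfl : μ'.Flat)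
    (hμ' : ∀ N : ModuleCat.{u} A', Nonempty ((ext μ').obj ((rs μ').obj N) ≅ N))
    (ψT : (A₀' ⊗[A₀] B₀) →+* B') (hψT : ψT.Flat)
    (φ₁ : A →+* B) (lam : B →+* B') (ψ : A' →+* B')
    (h1 : φ₁.comp σ = (algebraMap B₀ B).comp (algebraMap A₀ B₀))
    (h2 : lam.comp (algebraMap B₀ B) = ψT.comp (algebraMap B₀ (A₀' ⊗[A₀] B₀)))
    (h3 : ψ.comp μ' = ψT.comp (algebraMap A₀' (A₀' ⊗[A₀] B₀)))
    (K : DRing.Cx B) (a b : ℤ)
    (h : DRing.HasTorAmplitudeIn A a b
      (DRing.toD ((Groth.Agent.Helper9.RingProj1.rCx φ₁).obj K))) :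
    DRing.HasTorAmplitudeIn A' a b
      (DRing.toD ((Groth.Agent.Helper9.RingProj1.rCx ψ).obj ((extCx lam).obj K))) := by
  have s1 := hasTorAmplitudeIn_rCx_of_flat σ hσ _ a b h
  let P : DRing.Cx B₀ := (Groth.Agent.Helper9.RingProj1.rCx (algebraMap B₀ B)).obj K
  have s2 : DRing.HasTorAmplitudeIn A₀ a b
      (DRing.toD ((Groth.Agent.Helper9.RingProj1.rCx (algebraMap A₀ B₀)).obj P)) :=
    hasTorAmplitudeIn_of_iso (DerivedCategory.Q.mapIso
      (Groth.Agent.Helper9.SmTor4.rCxCompIso σ φ₁ _ rfl K ≪≫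
        (Groth.Agent.Helper9.SmTor4.rCxCompIso (algebraMap A₀ B₀) (algebraMap B₀ B) _ h1 K).symm))
      _ _ s1
  have s3 := hasTorAmplitudeIn_bc (R := A₀) (A := B₀) (R' := A₀') P a b s2
  have s4 := down (algebraMap A₀' (A₀' ⊗[A₀] B₀)) ψT μ' ψ hψT hμfl hμ' h3.symm
    ((extCx (algebraMap B₀ (A₀' ⊗[A₀] B₀))).obj P) a b s3
  let i1 : (extCx ψT).obj ((extCx (algebraMap B₀ (A₀' ⊗[A₀] B₀))).obj P) ≅ (extCx lam).obj K :=
    (extCompIso (algebraMap B₀ (A₀' ⊗[A₀] B₀)) ψT _ rfl P).symm ≪≫
      extCompIso (algebraMap B₀ B) lam _ h2.symm P ≪≫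
      (extCx lam).mapIso (extRsCxIso S K)
  exact hasTorAmplitudeIn_of_iso (DerivedCategory.Q.mapIso
    ((Groth.Agent.Helper9.RingProj1.rCx ψ).mapIso i1)) _ _ s4

end Main

end Groth.Agent.Helper9.BCT1
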