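import Mathlib
import Groth.Agent.Helper9.BCT1
import Groth.Agent.Helper9.TorAmpSch2
import Groth.Agent.Helper9.RLT5

/-! Flat base change of tor amplitude: the affine case. -/

set_option autoImplicit false
set_option linter.style.haveILetI false
set_option linter.unusedVariables false
set_option linter.unusedSectionVars false
universe u

namespace Groth.Agent.Helper9.BCT2

open CategoryTheory CategoryTheory.Limits AlgebraicGeometry TensorProduct HomologicalComplex
open Groth.Agent.Helper9.SkyMod4 Groth.Agent.Helper9.StalkTensor9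
  Groth.Agent.Helper9.RingProj1 Groth.Agent.Helper9.RingProj4
  Groth.Agent.Helper9.Tilde1 Groth.Agent.Helper9.TorT1 Groth.Agent.Helper9.RLT5
  Groth.Agent.Helper9.TorAmpSch2

attribute [local instance] HasDerivedCategory.standard
attribute [local instance] Algebra.TensorProduct.rightAlgebra
attribute [local instance] stalkAlg

variable (A₀ B₀ A₀' : Type u) [CommRing A₀] [CommRing B₀] [CommRing A₀'] [Algebra A₀ B₀]
  [Algebra A₀ A₀'] [Module.Flat A₀ A₀']

theorem affine_case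
    (G : CochainComplex (Spec (CommRingCat.of B₀)).Modules ℤ)
    (G' : CochainComplex (Spec (CommRingCat.of (A₀' ⊗[A₀] B₀))).Modules ℤ)
    [DCoh.HasLpull (Spec.map (CommRingCat.ofHom (algebraMap B₀ (A₀' ⊗[A₀] B₀))))]
    (e : DCoh.toD _ G' ≅
      (DCoh.Lpull (Spec.map (CommRingCat.ofHom (algebraMap B₀ (A₀' ⊗[A₀] B₀))))).obj
        (DCoh.toD _ G))
    (a b : ℤ) (p : Spec (CommRingCat.of (A₀' ⊗[A₀] B₀)))
    (hG : DerSch.HasTorAmplitudeAt (Spec.map (CommRingCat.ofHom (algebraMap A₀ B₀))) a b G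
      ((Spec.map (CommRingCat.ofHom (algebraMap B₀ (A₀' ⊗[A₀] B₀)))).base p)) :
    DerSch.HasTorAmplitudeAt
      (Spec.map (CommRingCat.ofHom (algebraMap A₀' (A₀' ⊗[A₀] B₀)))) a b G' p := by
  let φAB : CommRingCat.of A₀ ⟶ CommRingCat.of B₀ := CommRingCat.ofHom (algebraMap A₀ B₀)
  let φBT : CommRingCat.of B₀ ⟶ CommRingCat.of (A₀' ⊗[A₀] B₀) :=
    CommRingCat.ofHom (algebraMap B₀ (A₀' ⊗[A₀] B₀))
  let φA'T : CommRingCat.of A₀' ⟶ CommRingCat.of (A₀' ⊗[A₀] B₀) :=
    CommRingCat.ofHom (algebraMap A₀' (A₀' ⊗[A₀] B₀))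
  let q : Spec (CommRingCat.of B₀) := (Spec.map φBT).base p
  obtain ⟨P, hP, ⟨eP⟩⟩ := Groth.Agent.Helper9.Lpull3.exists_kflat_rep (DCoh.toD _ G)
  have e1 : DCoh.toD _ G' ≅ DCoh.toD _ ((pCx (Spec.map φBT)).obj P) :=
    e ≪≫ (DCoh.Lpull (Spec.map φBT)).mapIso eP.symm ≪≫
      Groth.Agent.Helper9.Lpull3.lpullIso (Spec.map φBT) P hP
  have e3 := Groth.Agent.Helper9.TorStalk1.stalkDIso p e1
  have hE₀ : DRing.HasTorAmplitudeIn
      ((Spec (CommRingCat.of A₀)).presheaf.stalk ((Spec.map φAB).base q)) a b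
      (DRing.toD ((rCx ((Spec.map φAB).stalkMap q).hom).obj ((StCx q).obj P))) :=
    Groth.Agent.Helper3.DRingLib.hasTorAmplitudeIn_of_iso
      (rCxDIso _ (Groth.Agent.Helper9.TorStalk1.stalkDIso q eP).symm) _ _ hG
  letI : Algebra B₀ ((Spec (CommRingCat.of B₀)).presheaf.stalk q) :=
    stalkAlg (CommRingCat.of B₀) q
  haveI : IsLocalization (pr (CommRingCat.of B₀) q).primeCompl
      ((Spec (CommRingCat.of B₀)).presheaf.stalk q) := isLocalization_stalk (CommRingCat.of B₀) q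
  have key := Groth.Agent.Helper9.BCT1.main (A₀ := A₀) (B₀ := B₀) (A₀' := A₀')
    (ψ (CommRingCat.of A₀) ((Spec.map φAB).base q)) (flat_ψ _ _)
    (pr (CommRingCat.of B₀) q).primeCompl
    (ψ (CommRingCat.of A₀') ((Spec.map φA'T).base p)) (flat_ψ _ _)
    (nonempty_ext_rs_iso_ψ _ _)
    (ψ (CommRingCat.of (A₀' ⊗[A₀] B₀)) p) (flat_ψ _ _)
    ((Spec.map φAB).stalkMap q).hom ((Spec.map φBT).stalkMap p).hom
    ((Spec.map φA'T).stalkMap p).hom
    (square_comm φAB q).symm (square_comm φBT p).symm (square_comm φA'T p).symm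
    ((StCx q).obj P) a b hE₀
  exact Groth.Agent.Helper3.DRingLib.hasTorAmplitudeIn_of_iso
    (DerivedCategory.Q.mapIso ((rCx ((Spec.map φA'T).stalkMap p).hom).mapIso
      (Groth.Agent.Helper9.Lpull1.pullStalkCxIso (Spec.map φBT) p P).symm) ≪≫
      (rCxDIso _ e3).symm) _ _ key

end Groth.Agent.Helper9.BCT2
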