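import Mathlib
import Groth.Prelude.Def_DCoh2
import Groth.Agent.Lead.PerfLib5
import Groth.Agent.Lead.PcLib4
import Groth.Agent.Lead.PcLib3
import Groth.Agent.Helper4.QcohLimits
import Groth.Agent.Helper4.FinLocFree4

/-! Pseudo-coherent objects have quasi-coherent cohomology sheaves. -/

set_option autoImplicit false
set_option linter.style.haveILetI false
set_option linter.unusedVariables false
set_option linter.unusedSectionVars false
universe u

namespace Groth.Agent.Helper9.QcPc1

noncomputable section

open CategoryTheory CategoryTheory.Limits AlgebraicGeometry HomologicalComplex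
open Groth.Agent.Lead.PerfLib Groth.Agent.Lead.PcLib Scheme.Modules

attribute [local instance] HasDerivedCategory.standard

variable {X : Scheme.{u}}

/-- the cohomology of a complex of quasi-coherent modules is quasi-coherent -/
theorem isQuasicoherent_homology (E : CochainComplex X.Modules ℤ)
    (hE : ∀ i : ℤ, (E.X i).IsQuasicoherent) (i : ℤ) : (E.homology i).IsQuasicoherent := by
  haveI := hE (i - 1)
  haveI := hE i
  haveI := hE (i + 1)
  have h1 : ((E.sc i).X₁).IsQuasicoherent := by
    show (E.X ((ComplexShape.up ℤ).prev i)).IsQuasicoherent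
    exact hE _
  have h2 : ((E.sc i).X₂).IsQuasicoherent := hE i
  have h3 : ((E.sc i).X₃).IsQuasicoherent := by
    show (E.X ((ComplexShape.up ℤ).next i)).IsQuasicoherent
    exact hE _
  haveI := h1
  haveI := h2
  haveI := h3
  haveI : (kernel (E.sc i).g).IsQuasicoherent :=
    Groth.Agent.Helper4.QcohLimits.isQuasicoherent_kernel _
  haveI : (cokernel (kernel.lift (E.sc i).g (E.sc i).f (E.sc i).zero)).IsQuasicoherent :=
    Groth.Agent.Helper4.QcohLimits.isQuasicoherent_cokernel _
  exact Groth.Agent.Helper4.QcohLimits.isQuasicoherent_of_iso (E.sc i).homologyIsoCokernelLift.symm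

/-- an `m`-pseudo-coherent object has quasi-coherent cohomology sheaves in degrees `> m` -/
theorem isQuasicoherent_HD_of_pc (K : DCoh.D X) (m i : ℤ) (hmi : m < i)
    (h : DCoh.IsPseudoCoherentD m K) : (DCoh.HD K i).IsQuasicoherent := by
  let F₀ : CochainComplex X.Modules ℤ := DerivedCategory.Q.objPreimage K
  let e₀ : DerivedCategory.Q.obj F₀ ≅ K := DerivedCategory.Q.objObjPreimageIso K
  rw [isPseudoCoherentD_iff_locPC m K F₀ e₀] at h
  haveI : (F₀.homology i).IsQuasicoherent := by
    apply isQuasicoherent_of_locally
    intro x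
    obtain ⟨Z, j, hj, hx, E, α, hE, hα⟩ := h x
    haveI := hj
    refine ⟨Z, j, hj, hx, ?_⟩
    haveI : IsIso ((DerivedCategory.homologyFunctor Z.Modules i).map α) := hα.1 i hmi
    have e1 : E.homology i ≅ ((Rc j).obj F₀).homology i :=
      ((DerivedCategory.homologyFunctorFactors Z.Modules i).app E).symm ≪≫
        asIso ((DerivedCategory.homologyFunctor Z.Modules i).map α) ≪≫
        (DerivedCategory.homologyFunctorFactors Z.Modules i).app _
    haveI : (E.homology i).IsQuasicoherent := isQuasicoherent_homology E (fun k =>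
      Groth.Agent.Helper4.FinLocFree4.isQuasicoherent_of_isFinLocFree (E.X k) (hE.2 k)) i
    exact Groth.Agent.Helper4.QcohLimits.isQuasicoherent_of_iso
      (e1 ≪≫ homologyRestrictIso j F₀ i)
  exact Groth.Agent.Helper4.QcohLimits.isQuasicoherent_of_iso (hdIso e₀ i).symm

/-- a pseudo-coherent object has quasi-coherent cohomology sheaves -/
theorem isQCohD_of_pc (K : DCoh.D X) (h : ∀ m : ℤ, DCoh.IsPseudoCoherentD m K) :
    DCoh.IsQCohD K := fun i => isQuasicoherent_HD_of_pc K (i - 1) i (by omega) (h (i - 1))

end

end Groth.Agent.Helper9.QcPc1
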