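import Mathlib
import Groth.Prelude.Def_DualSh
import Groth.Prelude.Def_CxOX
import Groth.Prelude.Def_DCoh3
import Groth.Agent.Helper9.RPL1
import Groth.Agent.Helper9.QcPc1
import Groth.Agent.Helper9.FBC4
import Groth.Agent.Helper6.RelPerfBCMain
import Groth.Agent.Helper6.HasLBC
import Groth.Agent.Helper4.TildeExact

/-! Base change of `S`-perfect objects. -/

set_option autoImplicit false
set_option linter.style.haveILetI false
set_option linter.unusedVariables false
set_option linter.unusedSectionVars false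
universe u

namespace Groth.Agent.Helper9.RPBC1

noncomputable section

open CategoryTheory CategoryTheory.Limits AlgebraicGeometry HomologicalComplex TensorProduct
open Groth.Agent.Lead.PerfLib Groth.Agent.Lead.PcLib Groth.Agent.Lead.FlatLib
  Groth.Agent.Helper9.RelTor2 Groth.Agent.Helper9.RPL1
  Groth.Agent.Helper9.Lpull1 Groth.Agent.Helper9.Lpull2 Groth.Agent.Helper9.Lpull3

attribute [local instance] HasDerivedCategory.standard

variable {X S : Scheme.{u}} (f : X ⟶ S)

/-- the affine-local criterion on a chart -/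
theorem chart_iff (A B : Type u) [CommRing A] [CommRing B] [Algebra A B] [Module.Flat A B]
    (j : Spec (CommRingCat.of B) ⟶ X) [IsOpenImmersion j]
    (k : Spec (CommRingCat.of A) ⟶ S) [IsOpenImmersion k]
    (hjk : j ≫ f = Spec.map (CommRingCat.ofHom (algebraMap A B)) ≫ k)
    (F₀ : CochainComplex X.Modules ℤ) [PreservesFiniteLimits (tilde.functor (CommRingCat.of B))]
    (M : Dual.D B)
    (eM : DerivedCategory.Q.obj ((Rc j).obj F₀) ≅ (DCoh.tildeD (CommRingCat.of B)).obj M) :
    (∀ p : Spec (CommRingCat.of B), At f F₀ (j p)) ↔ Dual2.IsRelPerfect A B M := by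
  haveI : Flat (Spec.map (CommRingCat.ofHom (algebraMap A B))) := by
    rw [HasRingHomProperty.Spec_iff (P := @Flat)]
    exact RingHom.flat_algebraMap_iff.mpr inferInstance
  rw [← Groth.Agent.Helper9.RelTor3.main A B M]
  have hP := P_iff_at (Spec.map (CommRingCat.ofHom (algebraMap A B)))
    ((DCoh.tildeD (CommRingCat.of B)).obj M) ((Rc j).obj F₀) eM
  unfold P at hP
  rw [hP]
  refine forall_congr' (fun p => ?_)
  rw [← at_restrict_iff f j F₀ p, hjk, at_target_iff]

/-- derived pullback on charts -/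
theorem nonempty_tildeD_lbc_iso {X' : Scheme.{u}} (g : X' ⟶ X) [DCoh.HasLpull g]
    {R R' : CommRingCat.{u}} (φ : R ⟶ R') (j : Spec R ⟶ X) [IsOpenImmersion j]
    (j' : Spec R' ⟶ X') [IsOpenImmersion j'] (hcomm : Spec.map φ ≫ j = j' ≫ g)
    [PreservesFiniteLimits (tilde.functor R)] [PreservesFiniteLimits (tilde.functor R')]
    (E : DCoh.D X) (M : DerivedCategory (ModuleCat.{u} R))
    (eM : (DCoh.tildeD R).obj M ≅ (DCoh.restrictD j).obj E)
    [DRing.HasLBaseChange φ.hom] :
    Nonempty ((DCoh.tildeD R').obj ((DRing.LBaseChange φ.hom).obj M) ≅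
      (DCoh.restrictD j').obj ((DCoh.Lpull g).obj E)) := by
  haveI : DCoh.HasLpull j' := hasLpull _
  haveI : DCoh.HasLpull j := hasLpull _
  haveI : DCoh.HasLpull (Spec.map φ) := hasLpull _
  haveI : DCoh.HasLpull (j' ≫ g) := hasLpull _
  haveI : DCoh.HasLpull (Spec.map φ ≫ j) := hasLpull _
  obtain ⟨e1⟩ := Groth.Agent.Helper9.FBC4.nonempty_restrictD_iso_lpull j' ((DCoh.Lpull g).obj E)
  let e2 := (lpullComp j' g).app E
  obtain ⟨e3⟩ := Groth.Agent.Helper9.QcLpull1.lpullCongr hcomm.symm E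
  let e4 := (lpullComp (Spec.map φ) j).app E
  obtain ⟨e5⟩ := Groth.Agent.Helper9.FBC4.nonempty_restrictD_iso_lpull j E
  let e6 := (Groth.Agent.Helper9.LpullTilde1.main φ).app M
  exact ⟨e6 ≪≫ (DCoh.Lpull (Spec.map φ)).mapIso (eM ≪≫ e5) ≪≫ e4 ≪≫ e3.symm ≪≫ e2.symm ≪≫
    e1.symm⟩

end

end Groth.Agent.Helper9.RPBC1
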