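import Mathlib
import Groth.Agent.Helper9.RPBC1

/-! Base change of `S`-perfect objects: charts on the fibre product and the main theorem. -/

set_option autoImplicit false
set_option linter.style.haveILetI false
set_option linter.unusedVariables false
set_option linter.unusedSectionVars false
universe u

namespace Groth.Agent.Helper9.RPBC2

noncomputable section

open CategoryTheory CategoryTheory.Limits AlgebraicGeometry HomologicalComplex TensorProduct
open Groth.Agent.Lead.PerfLib Groth.Agent.Lead.PcLib Groth.Agent.Lead.FlatLib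
  Groth.Agent.Helper9.RelTor2 Groth.Agent.Helper9.RPL1 Groth.Agent.Helper9.RPBC1

attribute [local instance] HasDerivedCategory.standard
attribute [local instance] Algebra.TensorProduct.rightAlgebra

section Chart

variable (A A' B : Type u) [CommRing A] [CommRing A'] [CommRing B] [Algebra A A'] [Algebra A B]
  {X S S' : Scheme.{u}} (f : X ⟶ S) (g : S' ⟶ S)
  (j : Spec (CommRingCat.of B) ⟶ X) (k : Spec (CommRingCat.of A) ⟶ S)
  (k' : Spec (CommRingCat.of A') ⟶ S')
  [IsOpenImmersion j] [IsOpenImmersion k] [IsOpenImmersion k']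
  (e₁ : Spec.map (CommRingCat.ofHom (algebraMap A B)) ≫ k = j ≫ f)
  (e₂ : Spec.map (CommRingCat.ofHom (algebraMap A A')) ≫ k = k' ≫ g)

/-- the chart `Spec (A' ⊗_A B) ⟶ X ×_S S'` -/
def chart : Spec (CommRingCat.of (A' ⊗[A] B)) ⟶ pullback f g :=
  (pullbackSpecIso A A' B).inv ≫ (pullbackSymmetry _ _).hom ≫
    pullback.map _ _ f g j k' k e₁ e₂

instance : IsOpenImmersion (chart A A' B f g j k k' e₁ e₂) := by
  unfold chart
  infer_instance

lemma chart_fst : chart A A' B f g j k k' e₁ e₂ ≫ pullback.fst f g =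
    Spec.map (CommRingCat.ofHom (algebraMap B (A' ⊗[A] B))) ≫ j := by
  unfold chart
  rw [Category.assoc, Category.assoc, pullback.lift_fst, ← Category.assoc (pullbackSymmetry _ _).hom,
    pullbackSymmetry_hom_comp_fst, ← Category.assoc, pullbackSpecIso_inv_snd]
  rfl

lemma chart_snd : chart A A' B f g j k k' e₁ e₂ ≫ pullback.snd f g =
    Spec.map (CommRingCat.ofHom (algebraMap A' (A' ⊗[A] B))) ≫ k' := by
  unfold chart
  rw [Category.assoc, Category.assoc, pullback.lift_snd, ← Category.assoc (pullbackSymmetry _ _).hom,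
    pullbackSymmetry_hom_comp_snd, ← Category.assoc, pullbackSpecIso_inv_fst']

lemma mem_range_chart (x' : ↥(pullback f g))
    (h1 : (pullback.fst f g).base x' ∈ Set.range j.base)
    (h2 : (pullback.snd f g).base x' ∈ Set.range k'.base) :
    x' ∈ Set.range (chart A A' B f g j k k' e₁ e₂).base := by
  have h3 : x' ∈ Set.range (pullback.map _ _ f g j k' k e₁ e₂).base := by
    rw [Scheme.Pullback.range_map]
    exact ⟨h1, h2⟩
  obtain ⟨t, rfl⟩ := h3
  let c : Spec (CommRingCat.of (A' ⊗[A] B)) ≅ pullback (Spec.map (CommRingCat.ofHom (algebraMap A B)))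
      (Spec.map (CommRingCat.ofHom (algebraMap A A'))) :=
    (pullbackSpecIso A A' B).symm ≪≫ pullbackSymmetry _ _
  refine ⟨c.inv.base t, ?_⟩
  have : chart A A' B f g j k k' e₁ e₂ = c.hom ≫ pullback.map _ _ f g j k' k e₁ e₂ := by
    unfold chart
    simp [c]
  rw [this, ← Scheme.Hom.comp_apply, ← Category.assoc, Iso.inv_hom_id, Category.id_comp]

end Chart

section Main

variable {X S S' : Scheme.{u}} (f : X ⟶ S) (g : S' ⟶ S)

/-- **S1100**: base change of `S`-perfect objects -/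
theorem main [Flat f] [LocallyOfFinitePresentation f] [DCoh.HasLpull (pullback.fst f g)]
    (K : DCoh.D X)
    (hK : (∀ m : ℤ, DCoh.IsPseudoCoherentD m K) ∧ DCoh.LocHasFiniteRelTorDim f K) :
    (∀ m : ℤ, DCoh.IsPseudoCoherentD m ((DCoh.Lpull (pullback.fst f g)).obj K)) ∧
      DCoh.LocHasFiniteRelTorDim (pullback.snd f g) ((DCoh.Lpull (pullback.fst f g)).obj K) := by
  let F₀ : CochainComplex X.Modules ℤ := DerivedCategory.Q.objPreimage K
  let e₀ : DerivedCategory.Q.obj F₀ ≅ K := DerivedCategory.Q.objObjPreimageIso K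
  let K' : DCoh.D (pullback f g) := (DCoh.Lpull (pullback.fst f g)).obj K
  let F' : CochainComplex (pullback f g).Modules ℤ := DerivedCategory.Q.objPreimage K'
  let e' : DerivedCategory.Q.obj F' ≅ K' := DerivedCategory.Q.objObjPreimageIso K'
  haveI : Flat (pullback.snd f g) := inferInstance
  change Groth.Agent.Helper9.RPL1.P (pullback.snd f g) K'
  rw [P_iff_at (pullback.snd f g) K' F' e']
  intro x'
  obtain ⟨V, hV, hsV, -⟩ := exists_isAffineOpen_mem_and_subset
    (x := f.base ((pullback.fst f g).base x')) (U := ⊤) trivial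
  obtain ⟨U, hU, hxU, hUV⟩ := exists_isAffineOpen_mem_and_subset
    (x := (pullback.fst f g).base x') (U := f ⁻¹ᵁ V) hsV
  have hs' : (pullback.snd f g).base x' ∈ g ⁻¹ᵁ V := by
    show g.base ((pullback.snd f g).base x') ∈ V
    rw [← Scheme.Hom.comp_apply, ← pullback.condition, Scheme.Hom.comp_apply]
    exact hsV
  obtain ⟨V', hV', hs'V', hV'V⟩ := exists_isAffineOpen_mem_and_subset
    (x := (pullback.snd f g).base x') (U := g ⁻¹ᵁ V) hs'
  letI algB : Algebra Γ(S, V) Γ(X, U) := (f.appLE V U hUV).hom.toAlgebra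
  letI algA' : Algebra Γ(S, V) Γ(S', V') := (g.appLE V V' hV'V).hom.toAlgebra
  have hfl : (f.appLE V U hUV).hom.Flat :=
    HasRingHomProperty.appLE (P := @Flat) f inferInstance ⟨V, hV⟩ ⟨U, hU⟩ hUV
  haveI : Module.Flat Γ(S, V) Γ(X, U) := hfl
  have e₁ : Spec.map (CommRingCat.ofHom (algebraMap Γ(S, V) Γ(X, U))) ≫ hV.fromSpec =
      hU.fromSpec ≫ f := IsAffineOpen.SpecMap_appLE_fromSpec f hV hU hUV
  have e₂ : Spec.map (CommRingCat.ofHom (algebraMap Γ(S, V) Γ(S', V'))) ≫ hV.fromSpec =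
      hV'.fromSpec ≫ g := IsAffineOpen.SpecMap_appLE_fromSpec g hV hV' hV'V
  let j' := chart Γ(S, V) Γ(S', V') Γ(X, U) f g hU.fromSpec hV.fromSpec hV'.fromSpec e₁ e₂
  obtain ⟨p, hp⟩ : x' ∈ Set.range j'.base := by
    apply mem_range_chart
    · rw [hU.range_fromSpec]
      exact hxU
    · rw [hV'.range_fromSpec]
      exact hs'V'
  rw [← hp]
  have hKq : DCoh.IsQCohD K := Groth.Agent.Helper9.QcPc1.isQCohD_of_pc K hK.1
  haveI : PreservesFiniteLimits (tilde.functor Γ(X, U)) :=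
    Groth.Agent.Helper4.TildeExact.preservesFiniteLimits_tilde _
  haveI : PreservesFiniteLimits (tilde.functor (CommRingCat.of (Γ(S', V') ⊗[Γ(S, V)] Γ(X, U)))) :=
    Groth.Agent.Helper4.TildeExact.preservesFiniteLimits_tilde _
  obtain ⟨M, ⟨eM⟩⟩ := Groth.Agent.Helper9.QcLpull1.exists_iso_tildeD Γ(X, U)
    ((DCoh.restrictD hU.fromSpec).obj K)
    (Groth.Agent.Helper9.QP7.isQCohD_restrictD hU.fromSpec K hKq)
  have eM0 : DerivedCategory.Q.obj ((Rc hU.fromSpec).obj F₀) ≅ (DCoh.tildeD Γ(X, U)).obj M :=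
    ((Scheme.Modules.restrictFunctor hU.fromSpec).mapDerivedCategoryFactors.app F₀).symm ≪≫
      (DCoh.restrictD hU.fromSpec).mapIso e₀ ≪≫ eM.symm
  have hrel : Dual2.IsRelPerfect Γ(S, V) Γ(X, U) M :=
    (chart_iff f Γ(S, V) Γ(X, U) hU.fromSpec hV.fromSpec e₁.symm F₀ M eM0).1
      (fun q => (P_iff_at f K F₀ e₀).1 hK _)
  haveI := Groth.Agent.Helper6.HasLBC.hasLBaseChange
    (algebraMap Γ(X, U) (Γ(S', V') ⊗[Γ(S, V)] Γ(X, U)))
  have hrel' := Groth.Agent.Helper6.RelPerfBC.isRelPerfect_bc (R := Γ(S, V)) (A := Γ(X, U))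
    (R' := Γ(S', V')) M hrel
  obtain ⟨eM'⟩ := nonempty_tildeD_lbc_iso (pullback.fst f g)
    (CommRingCat.ofHom (algebraMap Γ(X, U) (Γ(S', V') ⊗[Γ(S, V)] Γ(X, U)))) hU.fromSpec j'
    (chart_fst Γ(S, V) Γ(S', V') Γ(X, U) f g hU.fromSpec hV.fromSpec hV'.fromSpec e₁ e₂).symm
    K M eM
  have eM0' : DerivedCategory.Q.obj ((Rc j').obj F') ≅
      (DCoh.tildeD (CommRingCat.of (Γ(S', V') ⊗[Γ(S, V)] Γ(X, U)))).obj
        ((DRing.LBaseChange (algebraMap Γ(X, U) (Γ(S', V') ⊗[Γ(S, V)] Γ(X, U)))).obj M) :=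
    ((Scheme.Modules.restrictFunctor j').mapDerivedCategoryFactors.app F').symm ≪≫
      (DCoh.restrictD j').mapIso e' ≪≫ eM'.symm
  exact (chart_iff (pullback.snd f g) Γ(S', V') (Γ(S', V') ⊗[Γ(S, V)] Γ(X, U)) j' hV'.fromSpec
    (chart_snd Γ(S, V) Γ(S', V') Γ(X, U) f g hU.fromSpec hV.fromSpec hV'.fromSpec e₁ e₂) F' _
    eM0').2 hrel' p

end Main

end

end Groth.Agent.Helper9.RPBC2
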