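import Mathlib
import Groth.Agent.Helper9.BCT2
import Groth.Agent.Helper9.RPBC2

/-! Flat base change of relative tor amplitude: the general case. -/

set_option autoImplicit false
set_option linter.style.haveILetI false
set_option linter.unusedVariables false
set_option linter.unusedSectionVars false
universe u

namespace Groth.Agent.Helper9.BCT3

open CategoryTheory CategoryTheory.Limits AlgebraicGeometry TensorProduct HomologicalComplex
open Groth.Agent.Lead.PerfLib Groth.Agent.Helper9.RelTor2 Groth.Agent.Helper9.RPL1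
  Groth.Agent.Helper9.RPBC2 Groth.Agent.Helper9.Lpull1 Groth.Agent.Helper9.Lpull3

attribute [local instance] HasDerivedCategory.standard
attribute [local instance] Algebra.TensorProduct.rightAlgebra

/-- derived pullback commutes with restriction to compatible opens -/
theorem nonempty_restrictD_lpull_iso {X X' U U' : Scheme.{u}} (g : X' ⟶ X) [DCoh.HasLpull g]
    (φ : U' ⟶ U) [DCoh.HasLpull φ] (j : U ⟶ X) [IsOpenImmersion j]
    (j' : U' ⟶ X') [IsOpenImmersion j'] (hcomm : φ ≫ j = j' ≫ g) (E : DCoh.D X) :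
    Nonempty ((DCoh.restrictD j').obj ((DCoh.Lpull g).obj E) ≅
      (DCoh.Lpull φ).obj ((DCoh.restrictD j).obj E)) := by
  haveI : DCoh.HasLpull j' := hasLpull _
  haveI : DCoh.HasLpull j := hasLpull _
  haveI : DCoh.HasLpull (j' ≫ g) := hasLpull _
  haveI : DCoh.HasLpull (φ ≫ j) := hasLpull _
  obtain ⟨e1⟩ := Groth.Agent.Helper9.FBC4.nonempty_restrictD_iso_lpull j' ((DCoh.Lpull g).obj E)
  let e2 := (lpullComp j' g).app E
  obtain ⟨e3⟩ := Groth.Agent.Helper9.QcLpull1.lpullCongr hcomm.symm E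
  let e4 := (lpullComp φ j).app E
  obtain ⟨e5⟩ := Groth.Agent.Helper9.FBC4.nonempty_restrictD_iso_lpull j E
  exact ⟨e1 ≪≫ e2 ≪≫ e3 ≪≫ e4.symm ≪≫ (DCoh.Lpull φ).mapIso e5.symm⟩

/-- **flat base change of relative tor amplitude** -/
theorem main {X Y Y' : Scheme.{u}} (f : X ⟶ Y) (h : Y' ⟶ Y) [Flat h]
    [DCoh.HasLpull (pullback.fst f h)] (F : CochainComplex X.Modules ℤ) (a b : ℤ)
    (hF : DerSch.HasTorAmplitude f a b F) :
    DerSch.HasTorAmplitudeD (pullback.snd f h) a b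
      ((DCoh.Lpull (pullback.fst f h)).obj (DCoh.toD X F)) := by
  rintro F' ⟨e'⟩ x'
  obtain ⟨V, hV, hsV, -⟩ := exists_isAffineOpen_mem_and_subset
    (x := f.base ((pullback.fst f h).base x')) (U := ⊤) trivial
  obtain ⟨U, hU, hxU, hUV⟩ := exists_isAffineOpen_mem_and_subset
    (x := (pullback.fst f h).base x') (U := f ⁻¹ᵁ V) hsV
  have hs' : (pullback.snd f h).base x' ∈ h ⁻¹ᵁ V := by
    show h.base ((pullback.snd f h).base x') ∈ V
    rw [← Scheme.Hom.comp_apply, ← pullback.condition, Scheme.Hom.comp_apply]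
    exact hsV
  obtain ⟨V', hV', hs'V', hV'V⟩ := exists_isAffineOpen_mem_and_subset
    (x := (pullback.snd f h).base x') (U := h ⁻¹ᵁ V) hs'
  letI algB : Algebra Γ(Y, V) Γ(X, U) := (f.appLE V U hUV).hom.toAlgebra
  letI algA' : Algebra Γ(Y, V) Γ(Y', V') := (h.appLE V V' hV'V).hom.toAlgebra
  have hfl : (h.appLE V V' hV'V).hom.Flat :=
    HasRingHomProperty.appLE (P := @Flat) h inferInstance ⟨V, hV⟩ ⟨V', hV'⟩ hV'V
  haveI : Module.Flat Γ(Y, V) Γ(Y', V') := hfl
  have e₁ : Spec.map (CommRingCat.ofHom (algebraMap Γ(Y, V) Γ(X, U))) ≫ hV.fromSpec =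
      hU.fromSpec ≫ f := IsAffineOpen.SpecMap_appLE_fromSpec f hV hU hUV
  have e₂ : Spec.map (CommRingCat.ofHom (algebraMap Γ(Y, V) Γ(Y', V'))) ≫ hV.fromSpec =
      hV'.fromSpec ≫ h := IsAffineOpen.SpecMap_appLE_fromSpec h hV hV' hV'V
  let j' := chart Γ(Y, V) Γ(Y', V') Γ(X, U) f h hU.fromSpec hV.fromSpec hV'.fromSpec e₁ e₂
  obtain ⟨p, hp⟩ : x' ∈ Set.range j'.base := by
    apply mem_range_chart
    · rw [hU.range_fromSpec]
      exact hxU
    · rw [hV'.range_fromSpec]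
      exact hs'V'
  rw [← hp, ← hasTorAmplitudeAt_restrict_iff (pullback.snd f h) j' F' a b p,
    chart_snd Γ(Y, V) Γ(Y', V') Γ(X, U) f h hU.fromSpec hV.fromSpec hV'.fromSpec e₁ e₂,
    hasTorAmplitudeAt_target_iff]
  have hfst := chart_fst Γ(Y, V) Γ(Y', V') Γ(X, U) f h hU.fromSpec hV.fromSpec hV'.fromSpec e₁ e₂
  haveI : DCoh.HasLpull (Spec.map (CommRingCat.ofHom
      (algebraMap Γ(X, U) (Γ(Y', V') ⊗[Γ(Y, V)] Γ(X, U))))) := hasLpull _
  obtain ⟨i1⟩ := nonempty_restrictD_lpull_iso (pullback.fst f h)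
    (Spec.map (CommRingCat.ofHom (algebraMap Γ(X, U) (Γ(Y', V') ⊗[Γ(Y, V)] Γ(X, U)))))
    hU.fromSpec j' hfst.symm (DCoh.toD X F)
  have i2 : DCoh.toD _ ((Rc j').obj F') ≅
      (DCoh.Lpull (Spec.map (CommRingCat.ofHom
        (algebraMap Γ(X, U) (Γ(Y', V') ⊗[Γ(Y, V)] Γ(X, U)))))).obj
        (DCoh.toD _ ((Rc hU.fromSpec).obj F)) :=
    ((Scheme.Modules.restrictFunctor j').mapDerivedCategoryFactors.app F').symm ≪≫
      (DCoh.restrictD j').mapIso e' ≪≫ i1 ≪≫
      (DCoh.Lpull _).mapIso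
        ((Scheme.Modules.restrictFunctor hU.fromSpec).mapDerivedCategoryFactors.app F)
  refine Groth.Agent.Helper9.BCT2.affine_case Γ(Y, V) Γ(X, U) Γ(Y', V')
    ((Rc hU.fromSpec).obj F) ((Rc j').obj F') i2 a b p ?_
  rw [← hasTorAmplitudeAt_target_iff _ hV.fromSpec, e₁, hasTorAmplitudeAt_restrict_iff]
  exact hF _

end Groth.Agent.Helper9.BCT3
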