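import Mathlib
import Groth.Agent.Helper9.BCT3
import Groth.Agent.Helper9.LTM6
import Groth.Agent.Helper9.RelTor1
import Groth.Agent.Helper6.LBCFlatCx

/-! Base change of relative tor amplitude for a flat morphism (arbitrary base change). -/

set_option autoImplicit false
set_option linter.style.haveILetI false
set_option linter.unusedVariables false
set_option linter.unusedSectionVars false
universe u

namespace Groth.Agent.Helper9.BCT4

open CategoryTheory CategoryTheory.Limits AlgebraicGeometry TensorProduct HomologicalComplex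
open Groth.Agent.Helper3.DRingLib Groth.Agent.Helper9.RingProj1
  Groth.Agent.Helper9.RLT1 Groth.Agent.Helper9.RLT3 Groth.Agent.Helper9.BCT1

attribute [local instance] HasDerivedCategory.standard
attribute [local instance] Algebra.TensorProduct.rightAlgebra

section Ring

open Groth.Agent.Helper6.LBCCompute in
/-- base change of tor amplitude along an arbitrary map, for a bounded above complex of modules
over a flat algebra which are flat over the algebra -/
theorem hasTorAmplitudeIn_bc' {R A R' : Type u} [CommRing R] [CommRing A] [CommRing R']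
    [Algebra R A] [Algebra R R'] [Module.Flat R A] (P : DRing.Cx A) (b₀ : ℤ)
    (hv : DRing.VanishesAbove P b₀) (hf : DRing.TermwiseFlat P) (a b : ℤ)
    (h : DRing.HasTorAmplitudeIn R a b
      (DRing.toD ((Groth.Agent.Helper9.RingProj1.rCx (algebraMap R A)).obj P))) :
    DRing.HasTorAmplitudeIn R' a b
      (DRing.toD ((Groth.Agent.Helper9.RingProj1.rCx (algebraMap R' (R' ⊗[R] A))).obj
        ((extCx (algebraMap A (R' ⊗[R] A))).obj P))) := by
  haveI := Groth.Agent.Helper6.HasLBC.hasLBaseChange (algebraMap R R')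
  have h1 := Groth.Agent.Helper6.LBCFlatCx.hasTorAmplitudeIn_LBaseChange (algebraMap R R') _ a b h
  have hv' : DRing.VanishesAbove ((Groth.Agent.Helper9.RingProj1.rCx (algebraMap R A)).obj P) b₀ :=
    fun i hi => (rF (algebraMap R A)).map_isZero (hv i hi)
  have hf' : DRing.TermwiseFlat ((Groth.Agent.Helper9.RingProj1.rCx (algebraMap R A)).obj P) :=
    fun i => by
      haveI : Module.Flat A (P.X i) := hf i
      exact Groth.Agent.Helper9.FlatPC2.flat_rF (R := R) (P.X i)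
  obtain ⟨i1⟩ := Groth.Agent.Helper6.LBCFlatCx.nonempty_lbcIso_of_flat (algebraMap R R') _ b₀
    hv' hf'
  exact hasTorAmplitudeIn_of_iso (i1 ≪≫
    DerivedCategory.Q.mapIso (Groth.Agent.Helper6.RelPerfBC.Θ (R := R) (R' := R') P)) _ _ h1

variable {A₀ B₀ A₀' : Type u} [CommRing A₀] [CommRing B₀] [CommRing A₀'] [Algebra A₀ B₀]
  [Algebra A₀ A₀'] [Module.Flat A₀ B₀]
  {A B A' B' : Type u} [CommRing A] [CommRing B] [CommRing A'] [CommRing B']

/-- **base change of tor amplitude for a flat algebra**, ring level -/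
theorem main' (σ : A₀ →+* A) (hσ : σ.Flat)
    [Algebra B₀ B] (S : Submonoid B₀) [IsLocalization S B]
    (μ' : A₀' →+* A') (hμfl : μ'.Flat)
    (hμ' : ∀ N : ModuleCat.{u} A', Nonempty ((ext μ').obj ((rs μ').obj N) ≅ N))
    (ψT : (A₀' ⊗[A₀] B₀) →+* B') (hψT : ψT.Flat)
    (φ₁ : A →+* B) (lam : B →+* B') (ψ : A' →+* B')
    (h1 : φ₁.comp σ = (algebraMap B₀ B).comp (algebraMap A₀ B₀))
    (h2 : lam.comp (algebraMap B₀ B) = ψT.comp (algebraMap B₀ (A₀' ⊗[A₀] B₀)))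
    (h3 : ψ.comp μ' = ψT.comp (algebraMap A₀' (A₀' ⊗[A₀] B₀)))
    (K : DRing.Cx B) (b₀ : ℤ) (hKv : DRing.VanishesAbove K b₀) (hKf : DRing.TermwiseFlat K)
    (a b : ℤ)
    (h : DRing.HasTorAmplitudeIn A a b
      (DRing.toD ((Groth.Agent.Helper9.RingProj1.rCx φ₁).obj K))) :
    DRing.HasTorAmplitudeIn A' a b
      (DRing.toD ((Groth.Agent.Helper9.RingProj1.rCx ψ).obj ((extCx lam).obj K))) := by
  have s1 := hasTorAmplitudeIn_rCx_of_flat σ hσ _ a b h
  let P : DRing.Cx B₀ := (Groth.Agent.Helper9.RingProj1.rCx (algebraMap B₀ B)).obj K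
  have hPv : DRing.VanishesAbove P b₀ := fun i hi => (rF (algebraMap B₀ B)).map_isZero (hKv i hi)
  have hPf : DRing.TermwiseFlat P := fun i => by
    haveI : Module.Flat B₀ B := IsLocalization.flat B S
    haveI : Module.Flat B (K.X i) := hKf i
    exact Groth.Agent.Helper9.FlatPC2.flat_rF (R := B₀) (K.X i)
  have s2 : DRing.HasTorAmplitudeIn A₀ a b
      (DRing.toD ((Groth.Agent.Helper9.RingProj1.rCx (algebraMap A₀ B₀)).obj P)) :=
    hasTorAmplitudeIn_of_iso (DerivedCategory.Q.mapIso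
      (Groth.Agent.Helper9.SmTor4.rCxCompIso σ φ₁ _ rfl K ≪≫
        (Groth.Agent.Helper9.SmTor4.rCxCompIso (algebraMap A₀ B₀) (algebraMap B₀ B) _ h1 K).symm))
      _ _ s1
  have s3 := hasTorAmplitudeIn_bc' (R := A₀) (A := B₀) (R' := A₀') P b₀ hPv hPf a b s2
  have s4 := down (algebraMap A₀' (A₀' ⊗[A₀] B₀)) ψT μ' ψ hψT hμfl hμ' h3.symm
    ((extCx (algebraMap B₀ (A₀' ⊗[A₀] B₀))).obj P) a b s3
  let i1 : (extCx ψT).obj ((extCx (algebraMap B₀ (A₀' ⊗[A₀] B₀))).obj P) ≅ (extCx lam).obj K :=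
    (extCompIso (algebraMap B₀ (A₀' ⊗[A₀] B₀)) ψT _ rfl P).symm ≪≫
      extCompIso (algebraMap B₀ B) lam _ h2.symm P ≪≫
      (extCx lam).mapIso (extRsCxIso S K)
  exact hasTorAmplitudeIn_of_iso (DerivedCategory.Q.mapIso
    ((Groth.Agent.Helper9.RingProj1.rCx ψ).mapIso i1)) _ _ s4

end Ring

section Affine

open Groth.Agent.Helper9.SkyMod4 Groth.Agent.Helper9.StalkTensor9
  Groth.Agent.Helper9.RingProj4
  Groth.Agent.Helper9.Tilde1 Groth.Agent.Helper9.TorT1 Groth.Agent.Helper9.RLT5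
  Groth.Agent.Helper9.TorAmpSch2

attribute [local instance] stalkAlg

variable (A₀ B₀ A₀' : Type u) [CommRing A₀] [CommRing B₀] [CommRing A₀'] [Algebra A₀ B₀]
  [Algebra A₀ A₀'] [Module.Flat A₀ B₀]

theorem affine_case'
    (G : CochainComplex (Spec (CommRingCat.of B₀)).Modules ℤ) (b₀ : ℤ) (hGle : G.IsStrictlyLE b₀)
    (G' : CochainComplex (Spec (CommRingCat.of (A₀' ⊗[A₀] B₀))).Modules ℤ)
    [DCoh.HasLpull (Spec.map (CommRingCat.ofHom (algebraMap B₀ (A₀' ⊗[A₀] B₀))))]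
    (e : DCoh.toD _ G' ≅
      (DCoh.Lpull (Spec.map (CommRingCat.ofHom (algebraMap B₀ (A₀' ⊗[A₀] B₀))))).obj
        (DCoh.toD _ G))
    (a b : ℤ) (p : Spec (CommRingCat.of (A₀' ⊗[A₀] B₀)))
    (hG : DerSch.HasTorAmplitudeAt (Spec.map (CommRingCat.ofHom (algebraMap A₀ B₀))) a b G
      ((Spec.map (CommRingCat.ofHom (algebraMap B₀ (A₀' ⊗[A₀] B₀)))).base p)) :
    DerSch.HasTorAmplitudeAt
      (Spec.map (CommRingCat.ofHom (algebraMap A₀' (A₀' ⊗[A₀] B₀)))) a b G' p := by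
  let φAB : CommRingCat.of A₀ ⟶ CommRingCat.of B₀ := CommRingCat.ofHom (algebraMap A₀ B₀)
  let φBT : CommRingCat.of B₀ ⟶ CommRingCat.of (A₀' ⊗[A₀] B₀) :=
    CommRingCat.ofHom (algebraMap B₀ (A₀' ⊗[A₀] B₀))
  let φA'T : CommRingCat.of A₀' ⟶ CommRingCat.of (A₀' ⊗[A₀] B₀) :=
    CommRingCat.ofHom (algebraMap A₀' (A₀' ⊗[A₀] B₀))
  let q : Spec (CommRingCat.of B₀) := (Spec.map φBT).base p
  obtain ⟨P, π, hπ, hP, hPfl, hPle⟩ :=
    Groth.Agent.Helper9.LTM6.exists_flat_resolution_le G b₀ hGle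
  haveI : IsIso (DerivedCategory.Q.map π) :=
    (DerivedCategory.isIso_Q_map_iff_quasiIso _ _).2 hπ
  let eP : DerivedCategory.Q.obj P ≅ DCoh.toD _ G := asIso (DerivedCategory.Q.map π)
  have e1 : DCoh.toD _ G' ≅ DCoh.toD _ ((pCx (Spec.map φBT)).obj P) :=
    e ≪≫ (DCoh.Lpull (Spec.map φBT)).mapIso eP.symm ≪≫
      Groth.Agent.Helper9.Lpull3.lpullIso (Spec.map φBT) P hP
  have e3 := Groth.Agent.Helper9.TorStalk1.stalkDIso p e1
  have hE₀ : DRing.HasTorAmplitudeIn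
      ((Spec (CommRingCat.of A₀)).presheaf.stalk ((Spec.map φAB).base q)) a b
      (DRing.toD ((Groth.Agent.Helper9.RingProj1.rCx ((Spec.map φAB).stalkMap q).hom).obj
        ((StCx q).obj P))) :=
    Groth.Agent.Helper3.DRingLib.hasTorAmplitudeIn_of_iso
      (rCxDIso _ (Groth.Agent.Helper9.TorStalk1.stalkDIso q eP).symm) _ _ hG
  letI : Algebra B₀ ((Spec (CommRingCat.of B₀)).presheaf.stalk q) :=
    stalkAlg (CommRingCat.of B₀) q
  haveI : IsLocalization (pr (CommRingCat.of B₀) q).primeCompl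
      ((Spec (CommRingCat.of B₀)).presheaf.stalk q) := isLocalization_stalk (CommRingCat.of B₀) q
  have hKv : DRing.VanishesAbove ((StCx q).obj P) b₀ := fun i hi =>
    Functor.map_isZero (St q) (P.isZero_of_isStrictlyLE b₀ i hi)
  have hKf : DRing.TermwiseFlat ((StCx q).obj P) := fun i => hPfl i q
  have key := main' (A₀ := A₀) (B₀ := B₀) (A₀' := A₀')
    (ψ (CommRingCat.of A₀) ((Spec.map φAB).base q)) (flat_ψ _ _)
    (pr (CommRingCat.of B₀) q).primeCompl
    (ψ (CommRingCat.of A₀') ((Spec.map φA'T).base p)) (flat_ψ _ _)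
    (nonempty_ext_rs_iso_ψ _ _)
    (ψ (CommRingCat.of (A₀' ⊗[A₀] B₀)) p) (flat_ψ _ _)
    ((Spec.map φAB).stalkMap q).hom ((Spec.map φBT).stalkMap p).hom
    ((Spec.map φA'T).stalkMap p).hom
    (square_comm φAB q).symm (square_comm φBT p).symm (square_comm φA'T p).symm
    ((StCx q).obj P) b₀ hKv hKf a b hE₀
  exact Groth.Agent.Helper3.DRingLib.hasTorAmplitudeIn_of_iso
    (DerivedCategory.Q.mapIso
      ((Groth.Agent.Helper9.RingProj1.rCx ((Spec.map φA'T).stalkMap p).hom).mapIso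
      (Groth.Agent.Helper9.Lpull1.pullStalkCxIso (Spec.map φBT) p P).symm) ≪≫
      (rCxDIso _ e3).symm) _ _ key

end Affine

section Scheme

open Groth.Agent.Lead.PerfLib Groth.Agent.Helper9.RelTor2 Groth.Agent.Helper9.RPL1
  Groth.Agent.Helper9.RPBC2 Groth.Agent.Helper9.Lpull1 Groth.Agent.Helper9.Lpull3
  Groth.Agent.Helper9.BCT3

/-- **base change of relative tor amplitude for a flat morphism** -/
theorem main_flat {X Y Y' : Scheme.{u}} (f : X ⟶ Y) [Flat f] (h : Y' ⟶ Y)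
    [DCoh.HasLpull (pullback.fst f h)] (F : CochainComplex X.Modules ℤ) (b₀ : ℤ)
    (hFle : ∀ i : ℤ, b₀ < i → IsZero (F.X i)) (a b : ℤ)
    (hF : DerSch.HasTorAmplitude f a b F) :
    DerSch.HasTorAmplitudeD (pullback.snd f h) a b
      ((DCoh.Lpull (pullback.fst f h)).obj (DCoh.toD X F)) := by
  rintro F' ⟨e'⟩ x'
  obtain ⟨V, hV, hsV, -⟩ := exists_isAffineOpen_mem_and_subset
    (x := f.base ((pullback.fst f h).base x')) (U := ⊤) trivial
  obtain ⟨U, hU, hxU, hUV⟩ := exists_isAffineOpen_mem_and_subset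
    (x := (pullback.fst f h).base x') (U := f ⁻¹ᵁ V) hsV
  have hs' : (pullback.snd f h).base x' ∈ h ⁻¹ᵁ V := by
    show h.base ((pullback.snd f h).base x') ∈ V
    rw [← Scheme.Hom.comp_apply, ← pullback.condition, Scheme.Hom.comp_apply]
    exact hsV
  obtain ⟨V', hV', hs'V', hV'V⟩ := exists_isAffineOpen_mem_and_subset
    (x := (pullback.snd f h).base x') (U := h ⁻¹ᵁ V) hs'
  letI algB : Algebra Γ(Y, V) Γ(X, U) := (f.appLE V U hUV).hom.toAlgebra
  letI algA' : Algebra Γ(Y, V) Γ(Y', V') := (h.appLE V V' hV'V).hom.toAlgebra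
  have hfl : (f.appLE V U hUV).hom.Flat :=
    HasRingHomProperty.appLE (P := @Flat) f inferInstance ⟨V, hV⟩ ⟨U, hU⟩ hUV
  haveI : Module.Flat Γ(Y, V) Γ(X, U) := hfl
  have e₁ : Spec.map (CommRingCat.ofHom (algebraMap Γ(Y, V) Γ(X, U))) ≫ hV.fromSpec =
      hU.fromSpec ≫ f := IsAffineOpen.SpecMap_appLE_fromSpec f hV hU hUV
  have e₂ : Spec.map (CommRingCat.ofHom (algebraMap Γ(Y, V) Γ(Y', V'))) ≫ hV.fromSpec =
      hV'.fromSpec ≫ h := IsAffineOpen.SpecMap_appLE_fromSpec h hV hV' hV'V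
  let j' := chart Γ(Y, V) Γ(Y', V') Γ(X, U) f h hU.fromSpec hV.fromSpec hV'.fromSpec e₁ e₂
  obtain ⟨p, hp⟩ : x' ∈ Set.range j'.base := by
    apply mem_range_chart
    · rw [hU.range_fromSpec]
      exact hxU
    · rw [hV'.range_fromSpec]
      exact hs'V'
  rw [← hp, ← hasTorAmplitudeAt_restrict_iff (pullback.snd f h) j' F' a b p,
    chart_snd Γ(Y, V) Γ(Y', V') Γ(X, U) f h hU.fromSpec hV.fromSpec hV'.fromSpec e₁ e₂,
    hasTorAmplitudeAt_target_iff]
  have hfst := chart_fst Γ(Y, V) Γ(Y', V') Γ(X, U) f h hU.fromSpec hV.fromSpec hV'.fromSpec e₁ e₂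
  haveI : DCoh.HasLpull (Spec.map (CommRingCat.ofHom
      (algebraMap Γ(X, U) (Γ(Y', V') ⊗[Γ(Y, V)] Γ(X, U))))) := hasLpull _
  obtain ⟨i1⟩ := nonempty_restrictD_lpull_iso (pullback.fst f h)
    (Spec.map (CommRingCat.ofHom (algebraMap Γ(X, U) (Γ(Y', V') ⊗[Γ(Y, V)] Γ(X, U)))))
    hU.fromSpec j' hfst.symm (DCoh.toD X F)
  have i2 : DCoh.toD _ ((Rc j').obj F') ≅
      (DCoh.Lpull (Spec.map (CommRingCat.ofHom
        (algebraMap Γ(X, U) (Γ(Y', V') ⊗[Γ(Y, V)] Γ(X, U)))))).obj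
        (DCoh.toD _ ((Rc hU.fromSpec).obj F)) :=
    ((Scheme.Modules.restrictFunctor j').mapDerivedCategoryFactors.app F').symm ≪≫
      (DCoh.restrictD j').mapIso e' ≪≫ i1 ≪≫
      (DCoh.Lpull _).mapIso
        ((Scheme.Modules.restrictFunctor hU.fromSpec).mapDerivedCategoryFactors.app F)
  have hle : ((Rc hU.fromSpec).obj F).IsStrictlyLE b₀ := by
    rw [CochainComplex.isStrictlyLE_iff]
    intro i hi
    exact Functor.map_isZero (Scheme.Modules.restrictFunctor hU.fromSpec) (hFle i hi)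
  refine affine_case' Γ(Y, V) Γ(X, U) Γ(Y', V')
    ((Rc hU.fromSpec).obj F) b₀ hle ((Rc j').obj F') i2 a b p ?_
  rw [← hasTorAmplitudeAt_target_iff _ hV.fromSpec, e₁, hasTorAmplitudeAt_restrict_iff]
  exact hF _

/-- **S5631**: base change of relative flat amplitude for a flat morphism -/
theorem relFlat_baseChange {X Y Y' : Scheme.{u}} (f : X ⟶ Y) [Flat f] (h : Y' ⟶ Y)
    [DCoh.HasLpull (pullback.fst f h)] (E : DCoh.D X) (a b : ℤ)
    (hE : DCoh.HasRelFlatAmplitudeIn f a b E) :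
    DCoh.HasRelFlatAmplitudeIn (pullback.snd f h) a b
      ((DCoh.Lpull (pullback.fst f h)).obj E) := by
  obtain ⟨E₀, hv, hfl, ⟨e⟩⟩ := hE
  have hF : DerSch.HasTorAmplitude f a b E₀ :=
    Groth.Agent.Helper9.RelTor1.hasTorAmplitude_of_hasRelFlatAmplitudeIn f E₀ a b
      ⟨E₀, hv, hfl, ⟨Iso.refl _⟩⟩
  let K' := (DCoh.Lpull (pullback.fst f h)).obj E
  let F' : CochainComplex (pullback f h).Modules ℤ := DerivedCategory.Q.objPreimage K'
  let e' : DerivedCategory.Q.obj F' ≅ K' := DerivedCategory.Q.objObjPreimageIso K'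
  have h1 : DerSch.HasTorAmplitude (pullback.snd f h) a b F' :=
    main_flat f h E₀ b (fun i hi => hv i (Or.inr hi)) a b hF F'
      ⟨e' ≪≫ (DCoh.Lpull (pullback.fst f h)).mapIso e.symm⟩
  haveI : Flat (pullback.snd f h) := inferInstance
  obtain ⟨E₁, hv₁, hfl₁, ⟨e₁⟩⟩ :=
    Groth.Agent.Helper9.RelTor1.hasRelFlatAmplitudeIn_of_hasTorAmplitude (pullback.snd f h) F' a b h1
  exact ⟨E₁, hv₁, hfl₁, ⟨e₁ ≪≫ e'⟩⟩

end Scheme

end Groth.Agent.Helper9.BCT4
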