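import Mathlib
import Groth.Agent.Helper9.BCT4

/-! Base change of relative tor amplitude: reduction to charts, and arbitrary cartesian squares. -/

set_option autoImplicit false
set_option linter.style.haveILetI false
set_option linter.unusedVariables false
set_option linter.unusedSectionVars false
universe u

namespace Groth.Agent.Helper9.BCT5

open CategoryTheory CategoryTheory.Limits AlgebraicGeometry TensorProduct HomologicalComplex
open Groth.Agent.Lead.PerfLib Groth.Agent.Helper9.RelTor2 Groth.Agent.Helper9.RPL1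
  Groth.Agent.Helper9.RPBC2 Groth.Agent.Helper9.Lpull1 Groth.Agent.Helper9.Lpull3
  Groth.Agent.Helper9.BCT3

attribute [local instance] HasDerivedCategory.standard
attribute [local instance] Algebra.TensorProduct.rightAlgebra

section Charts

variable {X Y Y' : Scheme.{u}} (f : X ⟶ Y) (h : Y' ⟶ Y)
  (A₀ B₀ A₀' : Type u) [CommRing A₀] [CommRing B₀] [CommRing A₀'] [Algebra A₀ B₀] [Algebra A₀ A₀']
  (j : Spec (CommRingCat.of B₀) ⟶ X) (k : Spec (CommRingCat.of A₀) ⟶ Y)
  (k' : Spec (CommRingCat.of A₀') ⟶ Y')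
  [IsOpenImmersion j] [IsOpenImmersion k] [IsOpenImmersion k']
  (e₁ : Spec.map (CommRingCat.ofHom (algebraMap A₀ B₀)) ≫ k = j ≫ f)
  (e₂ : Spec.map (CommRingCat.ofHom (algebraMap A₀ A₀')) ≫ k = k' ≫ h)

/-- reduction of the base change statement to a chart -/
theorem at_of_chart [DCoh.HasLpull (pullback.fst f h)] (F : CochainComplex X.Modules ℤ) (a b : ℤ)
    (F' : CochainComplex (pullback f h).Modules ℤ)
    (e' : DCoh.toD _ F' ≅ (DCoh.Lpull (pullback.fst f h)).obj (DCoh.toD X F))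
    (p : Spec (CommRingCat.of (A₀' ⊗[A₀] B₀)))
    (Haff : ∀ (G' : CochainComplex (Spec (CommRingCat.of (A₀' ⊗[A₀] B₀))).Modules ℤ)
      [DCoh.HasLpull (Spec.map (CommRingCat.ofHom (algebraMap B₀ (A₀' ⊗[A₀] B₀))))],
      Nonempty (DCoh.toD _ G' ≅
        (DCoh.Lpull (Spec.map (CommRingCat.ofHom (algebraMap B₀ (A₀' ⊗[A₀] B₀))))).obj
          (DCoh.toD _ ((Rc j).obj F))) →
      DerSch.HasTorAmplitudeAt (Spec.map (CommRingCat.ofHom (algebraMap A₀ B₀))) a b
        ((Rc j).obj F) ((Spec.map (CommRingCat.ofHom (algebraMap B₀ (A₀' ⊗[A₀] B₀)))).base p) →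
      DerSch.HasTorAmplitudeAt
        (Spec.map (CommRingCat.ofHom (algebraMap A₀' (A₀' ⊗[A₀] B₀)))) a b G' p)
    (hF : DerSch.HasTorAmplitudeAt f a b F
      (j.base ((Spec.map (CommRingCat.ofHom (algebraMap B₀ (A₀' ⊗[A₀] B₀)))).base p))) :
    DerSch.HasTorAmplitudeAt (pullback.snd f h) a b F'
      ((chart A₀ A₀' B₀ f h j k k' e₁ e₂).base p) := by
  let j' := chart A₀ A₀' B₀ f h j k k' e₁ e₂
  rw [← hasTorAmplitudeAt_restrict_iff (pullback.snd f h) j' F' a b p,
    chart_snd A₀ A₀' B₀ f h j k k' e₁ e₂, hasTorAmplitudeAt_target_iff]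
  have hfst := chart_fst A₀ A₀' B₀ f h j k k' e₁ e₂
  haveI : DCoh.HasLpull (Spec.map (CommRingCat.ofHom
      (algebraMap B₀ (A₀' ⊗[A₀] B₀)))) := hasLpull _
  obtain ⟨i1⟩ := nonempty_restrictD_lpull_iso (pullback.fst f h)
    (Spec.map (CommRingCat.ofHom (algebraMap B₀ (A₀' ⊗[A₀] B₀))))
    j j' hfst.symm (DCoh.toD X F)
  have i2 : DCoh.toD _ ((Rc j').obj F') ≅
      (DCoh.Lpull (Spec.map (CommRingCat.ofHom
        (algebraMap B₀ (A₀' ⊗[A₀] B₀))))).obj
        (DCoh.toD _ ((Rc j).obj F)) :=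
    ((Scheme.Modules.restrictFunctor j').mapDerivedCategoryFactors.app F').symm ≪≫
      (DCoh.restrictD j').mapIso e' ≪≫ i1 ≪≫
      (DCoh.Lpull _).mapIso
        ((Scheme.Modules.restrictFunctor j).mapDerivedCategoryFactors.app F)
  refine Haff ((Rc j').obj F') ⟨i2⟩ ?_
  rw [← hasTorAmplitudeAt_target_iff _ k, e₁, hasTorAmplitudeAt_restrict_iff]
  exact hF

end Charts

section Square

variable {X Y Y' X' : Scheme.{u}} {f : X ⟶ Y} {h : Y' ⟶ Y} {g : X' ⟶ X} {f' : X' ⟶ Y'}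

/-- transport of the base change statement to an arbitrary cartesian square -/
theorem of_isPullback (sq : IsPullback g f' f h) [DCoh.HasLpull g]
    (K : DCoh.D X) (a b : ℤ)
    (H : ∀ [DCoh.HasLpull (pullback.fst f h)],
      DerSch.HasTorAmplitudeD (pullback.snd f h) a b ((DCoh.Lpull (pullback.fst f h)).obj K)) :
    DerSch.HasTorAmplitudeD f' a b ((DCoh.Lpull g).obj K) := by
  rintro F' ⟨e'⟩ x'
  let c : X' ≅ pullback f h := sq.isoPullback
  have hc1 : c.inv ≫ g = pullback.fst f h := sq.isoPullback_inv_fst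
  have hc2 : c.inv ≫ f' = pullback.snd f h := sq.isoPullback_inv_snd
  haveI : DCoh.HasLpull (pullback.fst f h) := hasLpull _
  haveI : DCoh.HasLpull c.inv := hasLpull _
  haveI : DCoh.HasLpull (c.inv ≫ g) := hasLpull _
  have hx : x' = c.inv.base (c.hom.base x') := by
    rw [← Scheme.Hom.comp_apply, Iso.hom_inv_id]
    rfl
  rw [hx, ← hasTorAmplitudeAt_restrict_iff f' c.inv F' a b (c.hom.base x'), hc2]
  obtain ⟨e1⟩ := Groth.Agent.Helper9.FBC4.nonempty_restrictD_iso_lpull c.inv ((DCoh.Lpull g).obj K)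
  let e2 := (lpullComp c.inv g).app K
  obtain ⟨e3⟩ := Groth.Agent.Helper9.QcLpull1.lpullCongr hc1 K
  refine H ((Rc c.inv).obj F') ⟨?_⟩ _
  exact ((Scheme.Modules.restrictFunctor c.inv).mapDerivedCategoryFactors.app F').symm ≪≫
    (DCoh.restrictD c.inv).mapIso e' ≪≫ e1 ≪≫ e2 ≪≫ e3

end Square

end Groth.Agent.Helper9.BCT5
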