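import Mathlib
import Groth.Agent.Helper9.BCT5

/-! Base change of relative tor amplitude: the tor-independent case `X, Y` flat over `S`,
base change along `Y ×_S S' ⟶ Y`.  Ring level. -/

set_option autoImplicit false
set_option linter.style.haveILetI false
set_option linter.unusedVariables false
set_option linter.unusedSectionVars false
universe u

namespace Groth.Agent.Helper9.BCT6

open CategoryTheory CategoryTheory.Limits AlgebraicGeometry TensorProduct HomologicalComplex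
open Groth.Agent.Helper3.DRingLib Groth.Agent.Helper9.RingProj1
  Groth.Agent.Helper9.RLT1 Groth.Agent.Helper9.RLT3 Groth.Agent.Helper9.BCT1
  Groth.Agent.Helper6.LBCCompute Groth.Agent.Helper6.LBCJac

attribute [local instance] HasDerivedCategory.standard
attribute [local instance] Algebra.TensorProduct.rightAlgebra

section Rel

variable {R A : Type u} [CommRing R] [CommRing A] [Algebra R A] (R' : Type u) [CommRing R']
  [Algebra R R']

/-- a quasi-isomorphism between bounded above complexes of `A`-modules which are flat over `R`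
stays a quasi-isomorphism after base change to `R' ⊗_R A` -/
theorem quasiIso_bcCxF_map_rel {P Q : DRing.Cx A} (α : P ⟶ Q) (b b' : ℤ)
    (hP : DRing.VanishesAbove P b) (hQ : DRing.VanishesAbove Q b')
    (fP : DRing.TermwiseFlat ((Groth.Agent.Helper9.RingProj1.rCx (algebraMap R A)).obj P))
    (fQ : DRing.TermwiseFlat ((Groth.Agent.Helper9.RingProj1.rCx (algebraMap R A)).obj Q))
    (hα : QuasiIso α) :
    QuasiIso ((bcCxF (algebraMap A (R' ⊗[R] A))).map α) := by
  have hc : ∀ i, (CochainComplex.mappingCone α).ExactAt i := (quasiIso_iff_acyclic_cone α).mp hα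
  let C := CochainComplex.mappingCone α
  let rC := (Groth.Agent.Helper9.RingProj1.rCx (algebraMap R A)).obj C
  let C' := CochainComplex.mappingCone ((Groth.Agent.Helper9.RingProj1.rCx (algebraMap R A)).map α)
  let er : rC ≅ C' := CochainComplex.mappingCone.mapHomologicalComplexIso α
    (ModuleCat.restrictScalars.{u} (algebraMap R A))
  have hex : ∀ i, rC.ExactAt i := fun i =>
    (Groth.Agent.Helper9.RingProj2.exactAt_rCx_iff (algebraMap R A) C i).2 (hc i)
  have hex' : ∀ i, C'.ExactAt i := fun i =>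
    Groth.Agent.Helper6.LBCFibreGlobal.exactAt_of_iso er i (hex i)
  have hv' : DRing.VanishesAbove C' (max b b') :=
    cone_vanishesAbove _ _
      (fun i hi => (rF (algebraMap R A)).map_isZero (hP i (by omega)))
      (fun i hi => (rF (algebraMap R A)).map_isZero (hQ i (by omega)))
  have hf' : DRing.TermwiseFlat C' := cone_termwiseFlat _ fP fQ
  have h1 := exactAt_tensorCx_of_acyclic C' _ hv' hf' hex' (ModuleCat.of R R')
  rw [quasiIso_iff_acyclic_cone]
  intro i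
  have h2 : ((bcCx R R').obj C').ExactAt i := exactAt_bcCx_of_exactAt_tensorCx R' _ i (h1 i)
  have h2' : ((bcCx R R').obj rC).ExactAt i :=
    Groth.Agent.Helper6.LBCFibreGlobal.exactAt_of_iso ((bcCx R R').mapIso er.symm) i h2
  have h3 : ((Groth.Agent.Helper9.RingProj1.rCx (algebraMap R' (R' ⊗[R] A))).obj
      ((bcCxF (algebraMap A (R' ⊗[R] A))).obj C)).ExactAt i :=
    Groth.Agent.Helper6.LBCFibreGlobal.exactAt_of_iso
      (Groth.Agent.Helper6.RelPerfBC.Θ (R := R) (R' := R') C) i h2'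
  have h4 := (Groth.Agent.Helper9.RingProj2.exactAt_rCx_iff _ _ i).1 h3
  have e := CochainComplex.mappingCone.mapHomologicalComplexIso α
    (ModuleCat.extendScalars.{u, u, u} (algebraMap A (R' ⊗[R] A)))
  exact Groth.Agent.Helper6.LBCFibreGlobal.exactAt_of_iso e i h4

variable [Module.Flat R A] [DRing.HasLBaseChange (algebraMap A (R' ⊗[R] A))]

/-- `LBaseChange (toD X) ≅ toD ((R' ⊗_R A) ⊗_A X)` for a bounded above complex of `A`-modules
which are flat over `R`, `A` being flat over `R` -/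
theorem nonempty_lbcIso_of_relFlat (X : DRing.Cx A) (b : ℤ) (hv : DRing.VanishesAbove X b)
    (hf : DRing.TermwiseFlat ((Groth.Agent.Helper9.RingProj1.rCx (algebraMap R A)).obj X)) :
    Nonempty ((DRing.LBaseChange (algebraMap A (R' ⊗[R] A))).obj (DRing.toD X) ≅
      DRing.toD ((bcCxF (algebraMap A (R' ⊗[R] A))).obj X)) := by
  have hb : (DRing.toD X).IsLE b := by
    have := isStrictlyLE_of_vanishesAbove X b hv
    infer_instance
  obtain ⟨P, α, hPv, hPp, hα⟩ := exists_projective_resolution X b hb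
  have hPk : P.IsKProjective := isKProjective_of_vanishesAbove P b hPv hPp
  have hPf : DRing.TermwiseFlat ((Groth.Agent.Helper9.RingProj1.rCx (algebraMap R A)).obj P) :=
    fun i => by
      have := hPp i
      haveI : Module.Flat A (P.X i) := inferInstance
      exact Groth.Agent.Helper9.FlatPC2.flat_rF (R := R) (P.X i)
  have h1 : IsIso (DerivedCategory.Q.map α) :=
    (DerivedCategory.isIso_Q_map_iff_quasiIso _ _).mpr hα
  have h2 : IsIso (DerivedCategory.Q.map ((bcCxF (algebraMap A (R' ⊗[R] A))).map α)) :=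
    (DerivedCategory.isIso_Q_map_iff_quasiIso _ _).mpr
      (quasiIso_bcCxF_map_rel R' α b b hPv hv hPf hf hα)
  exact ⟨(DRing.LBaseChange (algebraMap A (R' ⊗[R] A))).mapIso
      (asIso (DerivedCategory.Q.map α)).symm ≪≫
    lbcIso (algebraMap A (R' ⊗[R] A)) P ≪≫
    asIso (DerivedCategory.Q.map ((bcCxF (algebraMap A (R' ⊗[R] A))).map α))⟩

end Rel

section Ring

variable {R A₀ B₀ R' : Type u} [CommRing R] [CommRing A₀] [CommRing B₀] [CommRing R']
  [Algebra R A₀] [Algebra A₀ B₀] [Algebra R B₀] [IsScalarTower R A₀ B₀] [Algebra R R']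
  [Module.Flat R A₀] [Module.Flat R B₀]

/-- base change of tor amplitude along `A₀ → R' ⊗_R A₀`, for a bounded above complex of flat
modules over an `A₀`-algebra `B₀`, with `A₀` and `B₀` flat over `R` -/
theorem hasTorAmplitudeIn_bc'' (P : DRing.Cx B₀) (b₀ : ℤ)
    (hv : DRing.VanishesAbove P b₀) (hf : DRing.TermwiseFlat P) (a b : ℤ)
    (h : DRing.HasTorAmplitudeIn A₀ a b
      (DRing.toD ((Groth.Agent.Helper9.RingProj1.rCx (algebraMap A₀ B₀)).obj P))) :
    DRing.HasTorAmplitudeIn (R' ⊗[R] A₀) a b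
      (DRing.toD ((Groth.Agent.Helper9.RingProj1.rCx
        (algebraMap (R' ⊗[R] A₀) ((R' ⊗[R] A₀) ⊗[A₀] B₀))).obj
        ((extCx (algebraMap B₀ ((R' ⊗[R] A₀) ⊗[A₀] B₀))).obj P))) := by
  haveI := Groth.Agent.Helper6.HasLBC.hasLBaseChange (algebraMap A₀ (R' ⊗[R] A₀))
  have h1 := Groth.Agent.Helper6.LBCFlatCx.hasTorAmplitudeIn_LBaseChange
    (algebraMap A₀ (R' ⊗[R] A₀)) _ a b h
  have hv' : DRing.VanishesAbove
      ((Groth.Agent.Helper9.RingProj1.rCx (algebraMap A₀ B₀)).obj P) b₀ :=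
    fun i hi => (rF (algebraMap A₀ B₀)).map_isZero (hv i hi)
  have hf' : DRing.TermwiseFlat ((Groth.Agent.Helper9.RingProj1.rCx (algebraMap R A₀)).obj
      ((Groth.Agent.Helper9.RingProj1.rCx (algebraMap A₀ B₀)).obj P)) := fun i => by
    haveI : Module.Flat B₀ (P.X i) := hf i
    haveI hfl0 : Module.Flat R ↑((rF (algebraMap R B₀)).obj (P.X i)) :=
      Groth.Agent.Helper9.FlatPC2.flat_rF (R := R) (P.X i)
    let e : ↑((rF (algebraMap R A₀)).obj ((rF (algebraMap A₀ B₀)).obj (P.X i))) ≃ₗ[R]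
        ↑((rF (algebraMap R B₀)).obj (P.X i)) :=
      ((HomologicalComplex.eval _ _ i).mapIso
        (Groth.Agent.Helper9.SmTor4.rCxCompIso (algebraMap R A₀) (algebraMap A₀ B₀)
          (algebraMap R B₀) (IsScalarTower.algebraMap_eq R A₀ B₀) P)).toLinearEquiv
    exact Module.Flat.of_linearEquiv e
  obtain ⟨i1⟩ := nonempty_lbcIso_of_relFlat (R := R) (A := A₀) R' _ b₀ hv' hf'
  exact hasTorAmplitudeIn_of_iso (i1 ≪≫
    DerivedCategory.Q.mapIso
      (Groth.Agent.Helper6.RelPerfBC.Θ (R := A₀) (A := B₀) (R' := R' ⊗[R] A₀) P)) _ _ h1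

variable {A B A' B' : Type u} [CommRing A] [CommRing B] [CommRing A'] [CommRing B']

/-- **base change of tor amplitude, tor-independent case**, ring level -/
theorem main'' (σ : A₀ →+* A) (hσ : σ.Flat)
    [Algebra B₀ B] (S : Submonoid B₀) [IsLocalization S B]
    (μ' : (R' ⊗[R] A₀) →+* A') (hμfl : μ'.Flat)
    (hμ' : ∀ N : ModuleCat.{u} A', Nonempty ((ext μ').obj ((rs μ').obj N) ≅ N))
    (ψT : ((R' ⊗[R] A₀) ⊗[A₀] B₀) →+* B') (hψT : ψT.Flat)
    (φ₁ : A →+* B) (lam : B →+* B') (ψ : A' →+* B')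
    (h1 : φ₁.comp σ = (algebraMap B₀ B).comp (algebraMap A₀ B₀))
    (h2 : lam.comp (algebraMap B₀ B) = ψT.comp (algebraMap B₀ ((R' ⊗[R] A₀) ⊗[A₀] B₀)))
    (h3 : ψ.comp μ' = ψT.comp (algebraMap (R' ⊗[R] A₀) ((R' ⊗[R] A₀) ⊗[A₀] B₀)))
    (K : DRing.Cx B) (b₀ : ℤ) (hKv : DRing.VanishesAbove K b₀) (hKf : DRing.TermwiseFlat K)
    (a b : ℤ)
    (h : DRing.HasTorAmplitudeIn A a b
      (DRing.toD ((Groth.Agent.Helper9.RingProj1.rCx φ₁).obj K))) :
    DRing.HasTorAmplitudeIn A' a b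
      (DRing.toD ((Groth.Agent.Helper9.RingProj1.rCx ψ).obj ((extCx lam).obj K))) := by
  have s1 := hasTorAmplitudeIn_rCx_of_flat σ hσ _ a b h
  let P : DRing.Cx B₀ := (Groth.Agent.Helper9.RingProj1.rCx (algebraMap B₀ B)).obj K
  have hPv : DRing.VanishesAbove P b₀ := fun i hi => (rF (algebraMap B₀ B)).map_isZero (hKv i hi)
  have hPf : DRing.TermwiseFlat P := fun i => by
    haveI : Module.Flat B₀ B := IsLocalization.flat B S
    haveI : Module.Flat B (K.X i) := hKf i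
    exact Groth.Agent.Helper9.FlatPC2.flat_rF (R := B₀) (K.X i)
  have s2 : DRing.HasTorAmplitudeIn A₀ a b
      (DRing.toD ((Groth.Agent.Helper9.RingProj1.rCx (algebraMap A₀ B₀)).obj P)) :=
    hasTorAmplitudeIn_of_iso (DerivedCategory.Q.mapIso
      (Groth.Agent.Helper9.SmTor4.rCxCompIso σ φ₁ _ rfl K ≪≫
        (Groth.Agent.Helper9.SmTor4.rCxCompIso (algebraMap A₀ B₀) (algebraMap B₀ B) _ h1 K).symm))
      _ _ s1
  have s3 := hasTorAmplitudeIn_bc'' (R := R) (R' := R') P b₀ hPv hPf a b s2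
  have s4 := down (algebraMap (R' ⊗[R] A₀) ((R' ⊗[R] A₀) ⊗[A₀] B₀)) ψT μ' ψ hψT hμfl hμ' h3.symm
    ((extCx (algebraMap B₀ ((R' ⊗[R] A₀) ⊗[A₀] B₀))).obj P) a b s3
  let i1 : (extCx ψT).obj ((extCx (algebraMap B₀ ((R' ⊗[R] A₀) ⊗[A₀] B₀))).obj P) ≅
      (extCx lam).obj K :=
    (extCompIso (algebraMap B₀ ((R' ⊗[R] A₀) ⊗[A₀] B₀)) ψT _ rfl P).symm ≪≫
      extCompIso (algebraMap B₀ B) lam _ h2.symm P ≪≫
      (extCx lam).mapIso (extRsCxIso S K)
  exact hasTorAmplitudeIn_of_iso (DerivedCategory.Q.mapIso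
    ((Groth.Agent.Helper9.RingProj1.rCx ψ).mapIso i1)) _ _ s4

end Ring

section Affine

open Groth.Agent.Helper9.SkyMod4 Groth.Agent.Helper9.StalkTensor9
  Groth.Agent.Helper9.RingProj4
  Groth.Agent.Helper9.Tilde1 Groth.Agent.Helper9.TorT1 Groth.Agent.Helper9.RLT5
  Groth.Agent.Helper9.TorAmpSch2

attribute [local instance] stalkAlg

variable (R A₀ B₀ R' : Type u) [CommRing R] [CommRing A₀] [CommRing B₀] [CommRing R']
  [Algebra R A₀] [Algebra A₀ B₀] [Algebra R B₀] [IsScalarTower R A₀ B₀] [Algebra R R']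
  [Module.Flat R A₀] [Module.Flat R B₀]

theorem affine_case''
    (G : CochainComplex (Spec (CommRingCat.of B₀)).Modules ℤ) (b₀ : ℤ) (hGle : G.IsStrictlyLE b₀)
    (G' : CochainComplex (Spec (CommRingCat.of ((R' ⊗[R] A₀) ⊗[A₀] B₀))).Modules ℤ)
    [DCoh.HasLpull (Spec.map (CommRingCat.ofHom (algebraMap B₀ ((R' ⊗[R] A₀) ⊗[A₀] B₀))))]
    (e : DCoh.toD _ G' ≅
      (DCoh.Lpull (Spec.map (CommRingCat.ofHom (algebraMap B₀ ((R' ⊗[R] A₀) ⊗[A₀] B₀))))).obj
        (DCoh.toD _ G))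
    (a b : ℤ) (p : Spec (CommRingCat.of ((R' ⊗[R] A₀) ⊗[A₀] B₀)))
    (hG : DerSch.HasTorAmplitudeAt (Spec.map (CommRingCat.ofHom (algebraMap A₀ B₀))) a b G
      ((Spec.map (CommRingCat.ofHom (algebraMap B₀ ((R' ⊗[R] A₀) ⊗[A₀] B₀)))).base p)) :
    DerSch.HasTorAmplitudeAt
      (Spec.map (CommRingCat.ofHom (algebraMap (R' ⊗[R] A₀) ((R' ⊗[R] A₀) ⊗[A₀] B₀)))) a b G' p := by
  let φAB : CommRingCat.of A₀ ⟶ CommRingCat.of B₀ := CommRingCat.ofHom (algebraMap A₀ B₀)
  let φBT : CommRingCat.of B₀ ⟶ CommRingCat.of ((R' ⊗[R] A₀) ⊗[A₀] B₀) :=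
    CommRingCat.ofHom (algebraMap B₀ ((R' ⊗[R] A₀) ⊗[A₀] B₀))
  let φA'T : CommRingCat.of (R' ⊗[R] A₀) ⟶ CommRingCat.of ((R' ⊗[R] A₀) ⊗[A₀] B₀) :=
    CommRingCat.ofHom (algebraMap (R' ⊗[R] A₀) ((R' ⊗[R] A₀) ⊗[A₀] B₀))
  let q : Spec (CommRingCat.of B₀) := (Spec.map φBT).base p
  obtain ⟨P, π, hπ, hP, hPfl, hPle⟩ :=
    Groth.Agent.Helper9.LTM6.exists_flat_resolution_le G b₀ hGle
  haveI : IsIso (DerivedCategory.Q.map π) :=
    (DerivedCategory.isIso_Q_map_iff_quasiIso _ _).2 hπ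
  let eP : DerivedCategory.Q.obj P ≅ DCoh.toD _ G := asIso (DerivedCategory.Q.map π)
  have e1 : DCoh.toD _ G' ≅ DCoh.toD _ ((pCx (Spec.map φBT)).obj P) :=
    e ≪≫ (DCoh.Lpull (Spec.map φBT)).mapIso eP.symm ≪≫
      Groth.Agent.Helper9.Lpull3.lpullIso (Spec.map φBT) P hP
  have e3 := Groth.Agent.Helper9.TorStalk1.stalkDIso p e1
  have hE₀ : DRing.HasTorAmplitudeIn
      ((Spec (CommRingCat.of A₀)).presheaf.stalk ((Spec.map φAB).base q)) a b
      (DRing.toD ((Groth.Agent.Helper9.RingProj1.rCx ((Spec.map φAB).stalkMap q).hom).obj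
        ((StCx q).obj P))) :=
    Groth.Agent.Helper3.DRingLib.hasTorAmplitudeIn_of_iso
      (rCxDIso _ (Groth.Agent.Helper9.TorStalk1.stalkDIso q eP).symm) _ _ hG
  letI : Algebra B₀ ((Spec (CommRingCat.of B₀)).presheaf.stalk q) :=
    stalkAlg (CommRingCat.of B₀) q
  haveI : IsLocalization (pr (CommRingCat.of B₀) q).primeCompl
      ((Spec (CommRingCat.of B₀)).presheaf.stalk q) := isLocalization_stalk (CommRingCat.of B₀) q
  have hKv : DRing.VanishesAbove ((StCx q).obj P) b₀ := fun i hi =>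
    Functor.map_isZero (St q) (P.isZero_of_isStrictlyLE b₀ i hi)
  have hKf : DRing.TermwiseFlat ((StCx q).obj P) := fun i => hPfl i q
  have key := main'' (R := R) (A₀ := A₀) (B₀ := B₀) (R' := R')
    (ψ (CommRingCat.of A₀) ((Spec.map φAB).base q)) (flat_ψ _ _)
    (pr (CommRingCat.of B₀) q).primeCompl
    (ψ (CommRingCat.of (R' ⊗[R] A₀)) ((Spec.map φA'T).base p)) (flat_ψ _ _)
    (nonempty_ext_rs_iso_ψ _ _)
    (ψ (CommRingCat.of ((R' ⊗[R] A₀) ⊗[A₀] B₀)) p) (flat_ψ _ _)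
    ((Spec.map φAB).stalkMap q).hom ((Spec.map φBT).stalkMap p).hom
    ((Spec.map φA'T).stalkMap p).hom
    (square_comm φAB q).symm (square_comm φBT p).symm (square_comm φA'T p).symm
    ((StCx q).obj P) b₀ hKv hKf a b hE₀
  exact Groth.Agent.Helper3.DRingLib.hasTorAmplitudeIn_of_iso
    (DerivedCategory.Q.mapIso
      ((Groth.Agent.Helper9.RingProj1.rCx ((Spec.map φA'T).stalkMap p).hom).mapIso
      (Groth.Agent.Helper9.Lpull1.pullStalkCxIso (Spec.map φBT) p P).symm) ≪≫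
      (rCxDIso _ e3).symm) _ _ key

end Affine

end Groth.Agent.Helper9.BCT6
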