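import Mathlib
import Groth.Agent.Helper9.BCT6

/-! Base change of relative tor amplitude: scheme level, arbitrary cartesian squares; the
tor-independent case. -/

set_option autoImplicit false
set_option linter.style.haveILetI false
set_option linter.unusedVariables false
set_option linter.unusedSectionVars false
universe u

namespace Groth.Agent.Helper9.BCT7

open CategoryTheory CategoryTheory.Limits AlgebraicGeometry TensorProduct HomologicalComplex
open Groth.Agent.Lead.PerfLib Groth.Agent.Helper9.RelTor2 Groth.Agent.Helper9.RPL1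
  Groth.Agent.Helper9.RPBC2 Groth.Agent.Helper9.Lpull1 Groth.Agent.Helper9.Lpull3
  Groth.Agent.Helper9.BCT3 Groth.Agent.Helper9.BCT5

attribute [local instance] HasDerivedCategory.standard
attribute [local instance] Algebra.TensorProduct.rightAlgebra

/-- **tor-independent base change of relative tor amplitude**: `Y` and `X` flat over `S`, base
change along `Y' = Y ×_S S' ⟶ Y` -/
theorem main_torind {X Y S S' Y' : Scheme.{u}} (f : X ⟶ Y) (q : Y ⟶ S) [Flat q] [Flat (f ≫ q)]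
    (r : S' ⟶ S) (h : Y' ⟶ Y) (q' : Y' ⟶ S') (sqY : IsPullback h q' q r)
    [DCoh.HasLpull (pullback.fst f h)] (F : CochainComplex X.Modules ℤ) (b₀ : ℤ)
    (hFle : ∀ i : ℤ, b₀ < i → IsZero (F.X i)) (a b : ℤ)
    (hF : DerSch.HasTorAmplitude f a b F) :
    DerSch.HasTorAmplitudeD (pullback.snd f h) a b
      ((DCoh.Lpull (pullback.fst f h)).obj (DCoh.toD X F)) := by
  rintro F' ⟨e'⟩ x'
  let c : Y' ≅ pullback q r := sqY.isoPullback
  have hc1 : c.inv ≫ h = pullback.fst q r := sqY.isoPullback_inv_fst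
  have hc2 : c.inv ≫ q' = pullback.snd q r := sqY.isoPullback_inv_snd
  have hc1' : c.hom ≫ pullback.fst q r = h := sqY.isoPullback_hom_fst
  have hc2' : c.hom ≫ pullback.snd q r = q' := sqY.isoPullback_hom_snd
  set x := (pullback.fst f h).base x' with hx
  set y' := (pullback.snd f h).base x' with hy'
  have hyy : f.base x = h.base y' := by
    rw [hx, hy', ← Scheme.Hom.comp_apply, ← Scheme.Hom.comp_apply, pullback.condition]
  obtain ⟨W, hW, hsW, -⟩ := exists_isAffineOpen_mem_and_subset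
    (x := q.base (f.base x)) (U := ⊤) trivial
  obtain ⟨V, hV, hyV, hVW₀⟩ := exists_isAffineOpen_mem_and_subset
    (x := f.base x) (U := q ⁻¹ᵁ W) hsW
  have hVW : V ≤ q ⁻¹ᵁ W := hVW₀
  obtain ⟨U, hU, hxU, hUV₀⟩ := exists_isAffineOpen_mem_and_subset
    (x := x) (U := f ⁻¹ᵁ V) hyV
  have hUV : U ≤ f ⁻¹ᵁ V := hUV₀
  have hs' : q'.base y' ∈ r ⁻¹ᵁ W := by
    show r.base (q'.base y') ∈ W
    rw [← Scheme.Hom.comp_apply, ← sqY.w, Scheme.Hom.comp_apply, ← hyy]
    exact hsW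
  obtain ⟨W', hW', hs'W', hW'W₀⟩ := exists_isAffineOpen_mem_and_subset
    (x := q'.base y') (U := r ⁻¹ᵁ W) hs'
  have hW'W : W' ≤ r ⁻¹ᵁ W := hW'W₀
  have hUW : U ≤ (f ≫ q) ⁻¹ᵁ W := hUV.trans (Scheme.Hom.preimage_mono f hVW)
  letI algRA : Algebra Γ(S, W) Γ(Y, V) := (q.appLE W V hVW).hom.toAlgebra
  letI algAB : Algebra Γ(Y, V) Γ(X, U) := (f.appLE V U hUV).hom.toAlgebra
  letI algRB : Algebra Γ(S, W) Γ(X, U) := ((f ≫ q).appLE W U hUW).hom.toAlgebra
  letI algRR' : Algebra Γ(S, W) Γ(S', W') := (r.appLE W W' hW'W).hom.toAlgebra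
  haveI : IsScalarTower Γ(S, W) Γ(Y, V) Γ(X, U) := by
    refine IsScalarTower.of_algebraMap_eq' ?_
    show ((f ≫ q).appLE W U hUW).hom = (f.appLE V U hUV).hom.comp (q.appLE W V hVW).hom
    rw [← CommRingCat.hom_comp, Scheme.Hom.appLE_comp_appLE]
  have hfl1 : (q.appLE W V hVW).hom.Flat :=
    HasRingHomProperty.appLE (P := @Flat) q inferInstance ⟨W, hW⟩ ⟨V, hV⟩ hVW
  haveI : Module.Flat Γ(S, W) Γ(Y, V) := hfl1
  have hfl2 : ((f ≫ q).appLE W U hUW).hom.Flat :=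
    HasRingHomProperty.appLE (P := @Flat) (f ≫ q) inferInstance ⟨W, hW⟩ ⟨U, hU⟩ hUW
  haveI : Module.Flat Γ(S, W) Γ(X, U) := hfl2
  -- the chart on `Y'`
  have d₁ : Spec.map (CommRingCat.ofHom (algebraMap Γ(S, W) Γ(Y, V))) ≫ hW.fromSpec =
      hV.fromSpec ≫ q := IsAffineOpen.SpecMap_appLE_fromSpec q hW hV hVW
  have d₂ : Spec.map (CommRingCat.ofHom (algebraMap Γ(S, W) Γ(S', W'))) ≫ hW.fromSpec =
      hW'.fromSpec ≫ r := IsAffineOpen.SpecMap_appLE_fromSpec r hW hW' hW'W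
  let k₀ := chart Γ(S, W) Γ(S', W') Γ(Y, V) q r hV.fromSpec hW.fromSpec hW'.fromSpec d₁ d₂
  let k' : Spec (CommRingCat.of (Γ(S', W') ⊗[Γ(S, W)] Γ(Y, V))) ⟶ Y' := k₀ ≫ c.inv
  have e₁ : Spec.map (CommRingCat.ofHom (algebraMap Γ(Y, V) Γ(X, U))) ≫ hV.fromSpec =
      hU.fromSpec ≫ f := IsAffineOpen.SpecMap_appLE_fromSpec f hV hU hUV
  have e₂ : Spec.map (CommRingCat.ofHom
      (algebraMap Γ(Y, V) (Γ(S', W') ⊗[Γ(S, W)] Γ(Y, V)))) ≫ hV.fromSpec = k' ≫ h := by
    show _ = (k₀ ≫ c.inv) ≫ h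
    rw [Category.assoc, hc1]
    exact (chart_fst Γ(S, W) Γ(S', W') Γ(Y, V) q r hV.fromSpec hW.fromSpec hW'.fromSpec
      d₁ d₂).symm
  have hy'k : y' ∈ Set.range k'.base := by
    have h1 : c.hom.base y' ∈ Set.range k₀.base := by
      apply mem_range_chart
      · rw [hV.range_fromSpec, ← Scheme.Hom.comp_apply, hc1', ← hyy]
        exact hyV
      · rw [hW'.range_fromSpec, ← Scheme.Hom.comp_apply, hc2']
        exact hs'W'
    obtain ⟨t, ht⟩ := h1
    refine ⟨t, ?_⟩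
    show (k₀ ≫ c.inv).base t = y'
    rw [Scheme.Hom.comp_apply, ht, ← Scheme.Hom.comp_apply, Iso.hom_inv_id]
    rfl
  obtain ⟨p, hp⟩ : x' ∈ Set.range
      (chart Γ(Y, V) (Γ(S', W') ⊗[Γ(S, W)] Γ(Y, V)) Γ(X, U) f h hU.fromSpec hV.fromSpec k'
        e₁ e₂).base := by
    apply mem_range_chart
    · rw [hU.range_fromSpec]
      exact hxU
    · exact hy'k
  rw [← hp]
  have hle : ((Rc hU.fromSpec).obj F).IsStrictlyLE b₀ := by
    rw [CochainComplex.isStrictlyLE_iff]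
    intro i hi
    exact Functor.map_isZero (Scheme.Modules.restrictFunctor hU.fromSpec) (hFle i hi)
  refine at_of_chart f h Γ(Y, V) Γ(X, U) (Γ(S', W') ⊗[Γ(S, W)] Γ(Y, V)) hU.fromSpec hV.fromSpec k'
    e₁ e₂ F a b F' e' p ?_ (hF _)
  intro G' _ hiso hG
  obtain ⟨iso⟩ := hiso
  exact Groth.Agent.Helper9.BCT6.affine_case'' Γ(S, W) Γ(Y, V) Γ(X, U) Γ(S', W')
    ((Rc hU.fromSpec).obj F) b₀ hle G' iso a b p hG

section Squares

variable {X Y Y' X' : Scheme.{u}} {f : X ⟶ Y} {h : Y' ⟶ Y} {g : X' ⟶ X} {f' : X' ⟶ Y'}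

/-- iso-invariance of relative tor amplitude -/
theorem hasTorAmplitude_of_iso (f : X ⟶ Y) {F F₁ : CochainComplex X.Modules ℤ}
    (e : DCoh.toD X F ≅ DCoh.toD X F₁) (a b : ℤ) (hF : DerSch.HasTorAmplitude f a b F) :
    DerSch.HasTorAmplitude f a b F₁ := fun x =>
  Groth.Agent.Helper3.DRingLib.hasTorAmplitudeIn_of_iso
    (Groth.Agent.Helper9.RingProj4.rCxDIso (f.stalkMap x).hom
      (Groth.Agent.Helper9.TorStalk1.stalkDIso x e)) _ _ (hF x)

theorem hasTorAmplitudeD_of_iso (f : X ⟶ Y) {K K₁ : DCoh.D X} (e : K ≅ K₁) (a b : ℤ)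
    (hK : DerSch.HasTorAmplitudeD f a b K) : DerSch.HasTorAmplitudeD f a b K₁ :=
  fun F' ⟨e'⟩ => hK F' ⟨e' ≪≫ e.symm⟩

/-- a complex of relative tor amplitude in `[a, b]` is quasi-isomorphic to its truncation -/
theorem exists_truncLE (f : X ⟶ Y) (F : CochainComplex X.Modules ℤ) (a b : ℤ)
    (hF : DerSch.HasTorAmplitude f a b F) :
    ∃ F₁ : CochainComplex X.Modules ℤ, (∀ i : ℤ, b < i → IsZero (F₁.X i)) ∧
      Nonempty (DCoh.toD X F₁ ≅ DCoh.toD X F) := by
  have hFex : ∀ i : ℤ, i < a ∨ b < i → F.ExactAt i := fun i hi =>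
    Groth.Agent.Helper9.RelTor1.exactAt_of_stalks F i (fun x =>
      (Groth.Agent.Helper9.RingProj2.exactAt_rCx_iff (f.stalkMap x).hom _ i).1
        (Groth.Agent.Helper9.RingProj2.exactAt_of_hasTorAmplitudeIn _ a b (hF x) i hi))
  haveI : F.IsLE b := (CochainComplex.isLE_iff F b).2 (fun i hi => hFex i (Or.inr hi))
  haveI hq1 : QuasiIso (F.ιTruncLE b) := (F.quasiIso_ιTruncLE_iff b).2 inferInstance
  haveI : IsIso (DerivedCategory.Q.map (F.ιTruncLE b)) :=
    (DerivedCategory.isIso_Q_map_iff_quasiIso _ _).2 hq1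
  exact ⟨F.truncLE b, fun i hi => (F.truncLE b).isZero_of_isStrictlyLE b i hi,
    ⟨asIso (DerivedCategory.Q.map (F.ιTruncLE b))⟩⟩

/-- flat base change of relative tor amplitude, arbitrary cartesian square -/
theorem flat_right_of_isPullback (sq : IsPullback g f' f h) [Flat h] [DCoh.HasLpull g]
    (F : CochainComplex X.Modules ℤ) (a b : ℤ) (hF : DerSch.HasTorAmplitude f a b F) :
    DerSch.HasTorAmplitudeD f' a b ((DCoh.Lpull g).obj (DCoh.toD X F)) :=
  of_isPullback sq _ a b (Groth.Agent.Helper9.BCT3.main f h F a b hF)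

/-- base change of relative tor amplitude for a flat morphism, arbitrary cartesian square -/
theorem flat_left_of_isPullback (sq : IsPullback g f' f h) [Flat f] [DCoh.HasLpull g]
    (F : CochainComplex X.Modules ℤ) (a b : ℤ) (hF : DerSch.HasTorAmplitude f a b F) :
    DerSch.HasTorAmplitudeD f' a b ((DCoh.Lpull g).obj (DCoh.toD X F)) := by
  obtain ⟨F₁, hle, ⟨e⟩⟩ := exists_truncLE f F a b hF
  have hF₁ := hasTorAmplitude_of_iso f e.symm a b hF
  exact hasTorAmplitudeD_of_iso f' ((DCoh.Lpull g).mapIso e) a b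
    (of_isPullback sq _ a b (Groth.Agent.Helper9.BCT4.main_flat f h F₁ b hle a b hF₁))

/-- tor-independent base change of relative tor amplitude, arbitrary cartesian squares -/
theorem torind_of_isPullback {S S' : Scheme.{u}} (q : Y ⟶ S) [Flat q] [Flat (f ≫ q)]
    (r : S' ⟶ S) (q' : Y' ⟶ S') (sqY : IsPullback h q' q r) (sq : IsPullback g f' f h)
    [DCoh.HasLpull g] (F : CochainComplex X.Modules ℤ) (a b : ℤ)
    (hF : DerSch.HasTorAmplitude f a b F) :
    DerSch.HasTorAmplitudeD f' a b ((DCoh.Lpull g).obj (DCoh.toD X F)) := by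
  obtain ⟨F₁, hle, ⟨e⟩⟩ := exists_truncLE f F a b hF
  have hF₁ := hasTorAmplitude_of_iso f e.symm a b hF
  exact hasTorAmplitudeD_of_iso f' ((DCoh.Lpull g).mapIso e) a b
    (of_isPullback sq _ a b (main_torind f q r h q' sqY F₁ b hle a b hF₁))

end Squares

end Groth.Agent.Helper9.BCT7
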