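import Mathlib
import Groth.Prelude.Def_DualSh
import Groth.Prelude.Def_DerSch2
import Groth.Prelude.Def_DerCA
import Groth.Agent.Helper9.Chart15

/-! Charts on affine opens: the functorial form of the comparison with the ring-level notion,
through the restriction functor along `Spec Γ(X, U) ⟶ X`. -/

set_option autoImplicit false
set_option linter.style.haveILetI false
set_option linter.unusedVariables false
set_option linter.unusedSectionVars false
universe u

namespace Groth.Agent.Helper9.Chart18

noncomputable section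

open CategoryTheory CategoryTheory.Limits AlgebraicGeometry HomologicalComplex Pretriangulated
open Groth.Agent.Lead.PcLib Groth.Agent.Lead.PerfLib Groth.Agent.Helper9.Chart1
  Groth.Agent.Helper9.Chart2 Groth.Agent.Helper9.Chart3 Groth.Agent.Helper9.Chart4
  Groth.Agent.Helper9.Chart5 Groth.Agent.Helper9.Chart6 Groth.Agent.Helper9.Chart7
  Groth.Agent.Helper9.Chart12 Groth.Agent.Helper9.Chart13 Groth.Agent.Helper9.Chart14
  Groth.Agent.Helper9.Chart15
  Groth.Agent.Helper9.CI5 Groth.Agent.Helper8.TildeBC
  Groth.Agent.Helper9.ClImm1 Groth.Agent.Helper9.ClImmPF2 Scheme.Modules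

attribute [local instance] HasDerivedCategory.standard

variable {X S : Scheme.{u}}

section Bridge

variable {U : X.Opens} (hU : IsAffineOpen U)

/-- restriction along `Spec Γ(X, U) ⟶ X` is restriction to `U` followed by the direct image
along `U ≅ Spec Γ(X, U)` -/
def restrictFromSpecIso :
    restrictFunctor hU.fromSpec ≅ restrictFunctor U.ι ⋙ pushforward hU.isoSpec.hom :=
  restrictFunctorComp hU.isoSpec.inv U.ι ≪≫
    Functor.isoWhiskerLeft _ (Groth.Agent.Helper9.Chart8.pushforwardIsoRestrict hU.isoSpec).symm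

/-- the value of the restriction functor along `Spec Γ(X, U) ⟶ X` on the class of a complex -/
def secIso (G : CochainComplex X.Modules ℤ) :
    (DCoh.restrictD hU.fromSpec).obj (DerivedCategory.Q.obj G) ≅
      DCoh.toD _ ((DerSch.pushCx hU.isoSpec.hom).obj ((DCoh.restrictCx U).obj G)) :=
  (restrictFunctor hU.fromSpec).mapDerivedCategoryFactors.app G ≪≫
    DerivedCategory.Q.mapIso
      ((NatIso.mapHomologicalComplex (restrictFromSpecIso hU) (ComplexShape.up ℤ)).app G)

end Bridge

section Ring

variable (f : X ⟶ S) {U : X.Opens} (hU : IsAffineOpen U) {V : S.Opens} (hV : IsAffineOpen V)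
  (h : U ≤ f ⁻¹ᵁ V) [PreservesFiniteLimits (tilde.functor Γ(X, U))]

include hV in
/-- charts on a pair of affine opens and the ring-level notion, functorial form -/
theorem exists_chart_iff_ring' (m : ℤ) (E : DCoh.D X) (M' : Dual.D Γ(X, U))
    (eM : (DCoh.tildeD Γ(X, U)).obj M' ≅ (DCoh.restrictD hU.fromSpec).obj E) :
    (∃ (n : ℕ) (φ : MvPolynomial (Fin n) Γ(S, V) →+* Γ(X, U)),
      DerSch.IsChart f U V h φ ∧ DerSch.ChartPC m E U V φ) ↔
      (letI := (f.appLE V U h).hom.toAlgebra
       DerCA.IsRelPseudoCoherent Γ(S, V) Γ(X, U) m M') := by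
  let G₀ : CochainComplex X.Modules ℤ := DerivedCategory.Q.objPreimage E
  let e₀ : DerivedCategory.Q.obj G₀ ≅ E := DerivedCategory.Q.objObjPreimageIso E
  exact exists_chart_iff_ring f ⟨U, hU⟩ ⟨V, hV⟩ h m E G₀ e₀ M'
    (eM ≪≫ (DCoh.restrictD hU.fromSpec).mapIso e₀.symm ≪≫ secIso hU G₀)

end Ring

end

end Groth.Agent.Helper9.Chart18
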