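import Mathlib
import Groth.Prelude.Def_DDual2
import Groth.Prelude.Def_DerCA
import Groth.Agent.Helper9.FBC1
import Groth.Agent.Helper9.FBC2b
import Groth.Agent.Helper6.LBCPC
import Groth.Agent.Helper6.HasLBC
import Groth.Agent.Helper3.DRingRelPC
import Groth.Agent.Helper3.DRingBC3
import Groth.Agent.Helper9.FD1

/-! Relative pseudo-coherence (ring level) and flat base change: preservation, and descent
along a finite jointly surjective flat family. -/

set_option autoImplicit false
set_option linter.style.haveILetI false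
set_option linter.unusedVariables false
set_option linter.unusedSectionVars false
universe u

namespace Groth.Agent.Helper9.FBC2c

noncomputable section

open CategoryTheory CategoryTheory.Limits TensorProduct MvPolynomial DerivedCategory
open Groth.Agent.Helper9.FBC2a Groth.Agent.Helper9.FBC2b Groth.Agent.Helper6.LBCCompute
open Groth.Agent.Helper3.DRingLib

attribute [local instance] HasDerivedCategory.standard

section Single

variable {A A' C C' : Type u} [CommRing A] [CommRing A'] [CommRing C] [CommRing C']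
  (a : A →+* A') (f : A →+* C) (f' : A' →+* C') (c : C →+* C')
  (hpo : IsPushout (CommRingCat.ofHom f) (CommRingCat.ofHom a) (CommRingCat.ofHom c)
    (CommRingCat.ofHom f'))
  {n : ℕ} (α : MvPolynomial (Fin n) A →+* C) (hα : α.comp MvPolynomial.C = f)

/-- termwise restriction of scalars -/
abbrev resCx {R S : Type u} [CommRing R] [CommRing S] (φ : R →+* S) : DRing.Cx S ⥤ DRing.Cx R :=
  (ModuleCat.restrictScalars.{u} φ).mapHomologicalComplex (ComplexShape.up ℤ)

lemma rho_flat (hfl : a.Flat) : (rho (n := n) a).Flat := by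
  letI := a.toAlgebra
  letI : Algebra (MvPolynomial (Fin n) A) (MvPolynomial (Fin n) A') :=
    MvPolynomial.algebraMvPolynomial
  exact RingHom.Flat.isStableUnderBaseChange A A' (MvPolynomial (Fin n) A)
    (MvPolynomial (Fin n) A') hfl

include hpo hα in
/-- the complex-level base change isomorphism -/
def cxIso (E : DRing.Cx C) :
    (bcCxF (rho (n := n) a)).obj ((resCx α).obj E) ≅
      (resCx (alpha' f' c α)).obj ((bcCxF c).obj E) :=
  HomologicalComplex.Hom.isoOfComponents
    (fun i => (bcIso α (rho a) (alpha' f' c α) c (sq a f f' c hpo α hα)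
      (pushoutSq a f f' c hpo α hα)).app (E.X i))
    (fun i j _ => ((bcIso α (rho a) (alpha' f' c α) c (sq a f f' c hpo α hα)
      (pushoutSq a f f' c hpo α hα)).hom.naturality (E.d i j)).symm)

/-- the derived form: `(E ⊗_C C')|_{A'[x]} ≅ E|_{A[x]} ⊗ A'[x]` -/
def dIso (E : DRing.Cx C) :
    (DRing.restrictD (alpha' f' c α)).obj (DRing.toD ((bcCxF c).obj E)) ≅
      DRing.toD ((bcCxF (rho (n := n) a)).obj ((resCx α).obj E)) :=
  (ModuleCat.restrictScalars.{u} (alpha' f' c α)).mapDerivedCategoryFactors.app _ ≪≫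
    Q.mapIso (cxIso a f f' c hpo α hα E).symm

/-- the lifted presentation as an algebra map -/
def alphaAlg' :
    letI := f'.toAlgebra
    MvPolynomial (Fin n) A' →ₐ[A'] C' :=
  letI := f'.toAlgebra
  { alpha' f' c α with
    commutes' := fun r => congrArg (fun t : A' →+* C' => t r) (alpha'_C f' c α) }

include hpo hα in
/-- pseudo-coherence along the lifted presentation -/
theorem pc_lift (hfl : a.Flat) (E : DRing.Cx C) (m : ℤ)
    (h : DRing.IsPseudoCoherent (MvPolynomial (Fin n) A) m
      ((DRing.restrictD α).obj (DRing.toD E))) :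
    DRing.IsPseudoCoherent (MvPolynomial (Fin n) A') m
      ((DRing.restrictD (alpha' f' c α)).obj (DRing.toD ((bcCxF c).obj E))) := by
  haveI := Groth.Agent.Helper6.HasLBC.hasLBaseChange (rho (n := n) a)
  have e1 : (DRing.restrictD α).obj (DRing.toD E) ≅ DRing.toD ((resCx α).obj E) :=
    (ModuleCat.restrictScalars.{u} α).mapDerivedCategoryFactors.app E
  have h1 := isPseudoCoherent_of_iso e1 h
  have h2 := Groth.Agent.Helper6.LBCPC.isPseudoCoherent_LBaseChange (rho (n := n) a) _ m h1
  have h3 := isPseudoCoherent_of_iso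
    (Groth.Agent.Helper9.FBC1.lbcFlatIso (rho (n := n) a) (rho_flat a hfl) _) h2
  exact isPseudoCoherent_of_iso (dIso a f f' c hpo α hα E).symm h3

end Single

section BaseChange

variable {A A' C C' : Type u} [CommRing A] [CommRing A'] [CommRing C] [CommRing C']
  (a : A →+* A') (f : A →+* C) (f' : A' →+* C') (c : C →+* C')
  (hpo : IsPushout (CommRingCat.ofHom f) (CommRingCat.ofHom a) (CommRingCat.ofHom c)
    (CommRingCat.ofHom f'))

include hpo in
/-- **relative pseudo-coherence is preserved by flat base change** (ring level) -/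
theorem relPC_baseChange (hfl : a.Flat) (E : DRing.Cx C) (m : ℤ) :
    letI := f.toAlgebra
    letI := f'.toAlgebra
    DerCA.IsRelPseudoCoherent A C m (DRing.toD E) →
      DerCA.IsRelPseudoCoherent A' C' m (DRing.toD ((bcCxF c).obj E)) := by
  letI := f.toAlgebra
  letI := f'.toAlgebra
  rintro ⟨n, α, hs, h⟩
  have hα : (α : MvPolynomial (Fin n) A →+* C).comp MvPolynomial.C = f := by
    ext r
    exact α.commutes r
  refine ⟨n, alphaAlg' f' c (α : MvPolynomial (Fin n) A →+* C),
    alpha'_surjective a f f' c hpo _ hα hs, ?_⟩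
  exact pc_lift a f f' c hpo _ hα hfl E m h

end BaseChange

section Family

variable {A C : Type u} [CommRing A] [CommRing C] (f : A →+* C)
  {J : Type*} [Finite J] (A' C' : J → Type u) [∀ j, CommRing (A' j)] [∀ j, CommRing (C' j)]
  (a : ∀ j, A →+* A' j) (f' : ∀ j, A' j →+* C' j) (c : ∀ j, C →+* C' j)
  (hpo : ∀ j, IsPushout (CommRingCat.ofHom f) (CommRingCat.ofHom (a j)) (CommRingCat.ofHom (c j))
    (CommRingCat.ofHom (f' j)))

/-- joint faithfulness passes to polynomial rings -/
theorem jointlyFaithful_poly (n : ℕ) (hfl : ∀ j, (a j).Flat)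
    (hsurj : ∀ p : PrimeSpectrum A, ∃ (j : J) (q : PrimeSpectrum (A' j)), q.comap (a j) = p) :
    letI : ∀ j, Algebra (MvPolynomial (Fin n) A) (MvPolynomial (Fin n) (A' j)) :=
      fun j => (rho (n := n) (a j)).toAlgebra
    haveI : ∀ j, Module.Flat (MvPolynomial (Fin n) A) (MvPolynomial (Fin n) (A' j)) :=
      fun j => rho_flat (a j) (hfl j)
    JointlyFaithful (MvPolynomial (Fin n) A) (fun j => MvPolynomial (Fin n) (A' j)) := by
  letI : ∀ j, Algebra A (A' j) := fun j => (a j).toAlgebra
  haveI : ∀ j, Module.Flat A (A' j) := fun j => hfl j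
  letI : ∀ j, Algebra (MvPolynomial (Fin n) A) (MvPolynomial (Fin n) (A' j)) :=
    fun j => (rho (n := n) (a j)).toAlgebra
  haveI : ∀ j, Module.Flat (MvPolynomial (Fin n) A) (MvPolynomial (Fin n) (A' j)) :=
    fun j => rho_flat (a j) (hfl j)
  have hs : Groth.Agent.Helper9.FD1.JointlySurjective (A := A) A' := hsurj
  have hB := Groth.Agent.Helper9.FD1.jointlyFaithful hs
  intro M _ _ hM
  letI : Module A M := Module.compHom M (algebraMap A (MvPolynomial (Fin n) A))
  haveI : IsScalarTower A (MvPolynomial (Fin n) A) M :=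
    IsScalarTower.of_algebraMap_smul (fun r x => rfl)
  apply hB M
  intro j
  letI : Algebra (MvPolynomial (Fin n) A) (MvPolynomial (Fin n) (A' j)) :=
    MvPolynomial.algebraMvPolynomial
  have e := Algebra.IsPushout.cancelBaseChange A (A' j) (MvPolynomial (Fin n) A)
    (MvPolynomial (Fin n) (A' j)) M
  exact @Equiv.subsingleton _ _ e.symm.toEquiv (hM j)

include hpo in
/-- **descent of relative pseudo-coherence along a finite jointly surjective flat family**
(ring level) -/
theorem relPC_of_family (hfl : ∀ j, (a j).Flat)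
    (hsurj : ∀ p : PrimeSpectrum A, ∃ (j : J) (q : PrimeSpectrum (A' j)), q.comap (a j) = p)
    (hft : f.FiniteType) (E : DRing.Cx C) (m : ℤ)
    (h : ∀ j, letI := (f' j).toAlgebra
      DerCA.IsRelPseudoCoherent (A' j) (C' j) m (DRing.toD ((bcCxF (c j)).obj E))) :
    letI := f.toAlgebra
    DerCA.IsRelPseudoCoherent A C m (DRing.toD E) := by
  letI := f.toAlgebra
  haveI : Algebra.FiniteType A C := hft
  obtain ⟨n, α, hs⟩ := Algebra.FiniteType.iff_quotient_mvPolynomial''.mp ‹Algebra.FiniteType A C›
  have hα : (α : MvPolynomial (Fin n) A →+* C).comp MvPolynomial.C = f := by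
    ext r
    exact α.commutes r
  refine ⟨n, α, hs, ?_⟩
  show DRing.IsPseudoCoherent _ m
    ((DRing.restrictD (α : MvPolynomial (Fin n) A →+* C)).obj (DRing.toD E))
  have e1 : (DRing.restrictD (α : MvPolynomial (Fin n) A →+* C)).obj (DRing.toD E) ≅
      DRing.toD ((resCx (α : MvPolynomial (Fin n) A →+* C)).obj E) :=
    (ModuleCat.restrictScalars.{u} (α : MvPolynomial (Fin n) A →+* C)).mapDerivedCategoryFactors.app E
  refine isPseudoCoherent_of_iso e1.symm ?_
  letI : ∀ j, Algebra (MvPolynomial (Fin n) A) (MvPolynomial (Fin n) (A' j)) :=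
    fun j => (rho (n := n) (a j)).toAlgebra
  haveI : ∀ j, Module.Flat (MvPolynomial (Fin n) A) (MvPolynomial (Fin n) (A' j)) :=
    fun j => rho_flat (a j) (hfl j)
  have hB : JointlyFaithful (MvPolynomial (Fin n) A) (fun j => MvPolynomial (Fin n) (A' j)) :=
    jointlyFaithful_poly A' a n hfl hsurj
  have hF := Groth.Agent.Helper9.FD1.jointlyFinite hB
  refine isPseudoCoherent_of_forall_bcCx hB hF m _ (fun j => ?_)
  letI := (f' j).toAlgebra
  have h1 := (relPC_iff_via (alphaAlg' (f' j) (c j) (α : MvPolynomial (Fin n) A →+* C))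
    (alpha'_surjective (a j) f (f' j) (c j) (hpo j) _ hα hs) m _).1 (h j)
  exact isPseudoCoherent_of_iso (dIso (a j) f (f' j) (c j) (hpo j) _ hα E) h1

end Family

end

end Groth.Agent.Helper9.FBC2c
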