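import Mathlib

/-! Affine opens of a fibre product: for `X' = X ×_Y Y'` and affine opens `U ⊆ X`, `V ⊆ Y`,
`V' ⊆ Y'` with `U` and `V'` over `V`, the open `U' = g⁻¹U ⊓ f'⁻¹V'` is affine and its ring of
sections is the pushout of `Γ(U) ← Γ(V) → Γ(V')`. -/

set_option autoImplicit false
set_option linter.style.haveILetI false
set_option linter.unusedVariables false
set_option linter.unusedSectionVars false
universe u

namespace Groth.Agent.Helper9.FBC3

noncomputable section

open CategoryTheory CategoryTheory.Limits AlgebraicGeometry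

variable {X Y Y' : Scheme.{u}} (f : X ⟶ Y) (h : Y' ⟶ Y)
  {U : X.Opens} (hU : IsAffineOpen U) {V : Y.Opens} (hV : IsAffineOpen V)
  {V' : Y'.Opens} (hV' : IsAffineOpen V') (hUV : U ≤ f ⁻¹ᵁ V) (hV'V : V' ≤ h ⁻¹ᵁ V)

/-- the open `g⁻¹U ⊓ f'⁻¹V'` of the fibre product -/
def prodOpen (U : X.Opens) (V' : Y'.Opens) : (pullback f h).Opens :=
  (pullback.fst f h) ⁻¹ᵁ U ⊓ (pullback.snd f h) ⁻¹ᵁ V'

/-- the open immersion `Spec Γ(U) ×_{Spec Γ(V)} Spec Γ(V') ⟶ X ×_Y Y'` -/
def jMap : pullback (Spec.map (f.appLE V U hUV)) (Spec.map (h.appLE V V' hV'V)) ⟶ pullback f h :=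
  pullback.map (Spec.map (f.appLE V U hUV)) (Spec.map (h.appLE V V' hV'V)) f h
    hU.fromSpec hV'.fromSpec hV.fromSpec
    (hV.SpecMap_appLE_fromSpec f hU hUV) (hV.SpecMap_appLE_fromSpec h hV' hV'V)

instance : IsOpenImmersion (jMap f h hU hV hV' hUV hV'V) := by
  haveI : Mono hV.fromSpec := inferInstance
  unfold jMap
  infer_instance

lemma opensRange_jMap :
    (jMap f h hU hV hV' hUV hV'V).opensRange = prodOpen f h U V' := by
  haveI : Mono hV.fromSpec := inferInstance
  apply TopologicalSpace.Opens.ext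
  have h1 := Scheme.Pullback.range_map (f := Spec.map (f.appLE V U hUV))
    (g := Spec.map (h.appLE V V' hV'V)) f h hU.fromSpec hV'.fromSpec hV.fromSpec
    (hV.SpecMap_appLE_fromSpec f hU hUV) (hV.SpecMap_appLE_fromSpec h hV' hV'V)
  rw [hU.range_fromSpec, hV'.range_fromSpec] at h1
  exact h1

include hU hV hV' hUV hV'V in
/-- `g⁻¹U ⊓ f'⁻¹V'` is affine -/
theorem isAffineOpen_prodOpen : IsAffineOpen (prodOpen f h U V') := by
  rw [← opensRange_jMap f h hU hV hV' hUV hV'V]
  exact isAffineOpen_opensRange _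

lemma prodOpen_le_fst : prodOpen f h U V' ≤ (pullback.fst f h) ⁻¹ᵁ U := inf_le_left

lemma prodOpen_le_snd : prodOpen f h U V' ≤ (pullback.snd f h) ⁻¹ᵁ V' := inf_le_right

variable (hU' : IsAffineOpen (prodOpen f h U V'))

/-- the comparison of `Spec Γ(U')` with the fibre product of spectra -/
def thetaIso : Spec Γ(pullback f h, prodOpen f h U V') ≅
    pullback (Spec.map (f.appLE V U hUV)) (Spec.map (h.appLE V V' hV'V)) :=
  IsOpenImmersion.isoOfRangeEq hU'.fromSpec (jMap f h hU hV hV' hUV hV'V) (by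
    rw [hU'.range_fromSpec, ← opensRange_jMap f h hU hV hV' hUV hV'V]
    rfl)

@[reassoc]
lemma thetaIso_hom_jMap :
    (thetaIso f h hU hV hV' hUV hV'V hU').hom ≫ jMap f h hU hV hV' hUV hV'V = hU'.fromSpec :=
  IsOpenImmersion.isoOfRangeEq_hom_fac _ _ _

lemma thetaIso_hom_fst :
    (thetaIso f h hU hV hV' hUV hV'V hU').hom ≫ pullback.fst _ _ =
      Spec.map ((pullback.fst f h).appLE U (prodOpen f h U V') (prodOpen_le_fst f h)) := by
  haveI : Mono hU.fromSpec := inferInstance
  rw [← cancel_mono hU.fromSpec, Category.assoc,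
    hU.SpecMap_appLE_fromSpec (pullback.fst f h) hU' (prodOpen_le_fst f h),
    ← thetaIso_hom_jMap f h hU hV hV' hUV hV'V hU', Category.assoc]
  congr 1
  unfold jMap
  rw [pullback.lift_fst]

lemma thetaIso_hom_snd :
    (thetaIso f h hU hV hV' hUV hV'V hU').hom ≫ pullback.snd _ _ =
      Spec.map ((pullback.snd f h).appLE V' (prodOpen f h U V') (prodOpen_le_snd f h)) := by
  haveI : Mono hV'.fromSpec := inferInstance
  rw [← cancel_mono hV'.fromSpec, Category.assoc,
    hV'.SpecMap_appLE_fromSpec (pullback.snd f h) hU' (prodOpen_le_snd f h),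
    ← thetaIso_hom_jMap f h hU hV hV' hUV hV'V hU', Category.assoc]
  congr 1
  unfold jMap
  rw [pullback.lift_snd]

include hU hV hV' hU' in
/-- the square of spectra is cartesian -/
theorem isPullback_spec :
    IsPullback
      (Spec.map ((pullback.fst f h).appLE U (prodOpen f h U V') (prodOpen_le_fst f h)))
      (Spec.map ((pullback.snd f h).appLE V' (prodOpen f h U V') (prodOpen_le_snd f h)))
      (Spec.map (f.appLE V U hUV)) (Spec.map (h.appLE V V' hV'V)) := by
  refine IsPullback.of_iso (IsPullback.of_hasPullback (Spec.map (f.appLE V U hUV))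
    (Spec.map (h.appLE V V' hV'V))) (thetaIso f h hU hV hV' hUV hV'V hU').symm (Iso.refl _)
    (Iso.refl _) (Iso.refl _) ?_ ?_ ?_ ?_
  · rw [Iso.refl_hom, Category.comp_id, Iso.symm_hom, ← thetaIso_hom_fst f h hU hV hV' hUV hV'V hU',
      Iso.inv_hom_id_assoc]
  · rw [Iso.refl_hom, Category.comp_id, Iso.symm_hom, ← thetaIso_hom_snd f h hU hV hV' hUV hV'V hU',
      Iso.inv_hom_id_assoc]
  · simp
  · simp

include hU hV hV' hU' in
/-- **the square of rings of sections is cocartesian** -/
theorem isPushout_sections :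
    IsPushout (f.appLE V U hUV) (h.appLE V V' hV'V)
      ((pullback.fst f h).appLE U (prodOpen f h U V') (prodOpen_le_fst f h))
      ((pullback.snd f h).appLE V' (prodOpen f h U V') (prodOpen_le_snd f h)) := by
  have hp := isPullback_spec f h hU hV hV' hUV hV'V hU'
  have hcomm : ((pullback.fst f h).appLE U (prodOpen f h U V') (prodOpen_le_fst f h)).op ≫
      (f.appLE V U hUV).op =
      ((pullback.snd f h).appLE V' (prodOpen f h U V') (prodOpen_le_snd f h)).op ≫
        (h.appLE V V' hV'V).op := by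
    rw [← op_comp, ← op_comp]
    congr 1
    apply Spec.map_injective
    rw [Spec.map_comp, Spec.map_comp]
    exact hp.w
  have hq : IsPullback
      ((pullback.fst f h).appLE U (prodOpen f h U V') (prodOpen_le_fst f h)).op
      ((pullback.snd f h).appLE V' (prodOpen f h U V') (prodOpen_le_snd f h)).op
      (f.appLE V U hUV).op (h.appLE V V' hV'V).op :=
    IsPullback.of_map Scheme.Spec hcomm hp
  exact hq.unop.flip

end

end Groth.Agent.Helper9.FBC3
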