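import Mathlib
import Groth.Prelude.Def_DualSh
import Groth.Prelude.Def_DerSch2
import Groth.Prelude.Def_DerCA
import Groth.Agent.Helper9.Chart18
import Groth.Agent.Helper9.FBC2c
import Groth.Agent.Helper9.FBC3
import Groth.Agent.Helper9.FBC4
import Groth.Agent.Helper9.QP7
import Groth.Agent.Helper3.DRingFinStep

/-! Relative pseudo-coherence and flat base change: the statements on charts. -/

set_option autoImplicit false
set_option linter.style.haveILetI false
set_option linter.unusedVariables false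
set_option linter.unusedSectionVars false
universe u

namespace Groth.Agent.Helper9.FBC5

noncomputable section

open CategoryTheory CategoryTheory.Limits AlgebraicGeometry
open Groth.Agent.Helper9.FBC3 Groth.Agent.Helper6.LBCCompute
open Groth.Agent.Helper9.Lpull1

attribute [local instance] HasDerivedCategory.standard

variable {X Y Y' : Scheme.{u}} (f : X ⟶ Y) [LocallyOfFiniteType f]

section Setup

variable (h : Y' ⟶ Y) [Flat h] [DCoh.HasLpull (pullback.fst f h)]
  {U : X.Opens} (hU : IsAffineOpen U) {V : Y.Opens} (hV : IsAffineOpen V)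
  {V' : Y'.Opens} (hV' : IsAffineOpen V') (hUV : U ≤ f ⁻¹ᵁ V) (hV'V : V' ≤ h ⁻¹ᵁ V)

include hU hV hV' hUV hV'V in
/-- the ring-level translation of the chart test on `g⁻¹U ⊓ f'⁻¹V'` -/
theorem chart_prodOpen_iff (m : ℤ) (E : DCoh.D X) (E₀ : DRing.Cx Γ(X, U))
    (eM : (DCoh.tildeD Γ(X, U)).obj (DRing.toD E₀) ≅ (DCoh.restrictD hU.fromSpec).obj E) :
    (∃ (n : ℕ) (φ : MvPolynomial (Fin n) Γ(Y', V') →+* Γ(pullback f h, prodOpen f h U V')),
      DerSch.IsChart (pullback.snd f h) (prodOpen f h U V') V' (prodOpen_le_snd f h) φ ∧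
        DerSch.ChartPC m ((DCoh.Lpull (pullback.fst f h)).obj E) (prodOpen f h U V') V' φ) ↔
      (letI := ((pullback.snd f h).appLE V' (prodOpen f h U V') (prodOpen_le_snd f h)).hom.toAlgebra
       DerCA.IsRelPseudoCoherent Γ(Y', V') Γ(pullback f h, prodOpen f h U V') m
        (DRing.toD ((bcCxF ((pullback.fst f h).appLE U (prodOpen f h U V')
          (prodOpen_le_fst f h)).hom).obj E₀))) := by
  have hU' : IsAffineOpen (prodOpen f h U V') := isAffineOpen_prodOpen f h hU hV hV' hUV hV'V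
  let c := (pullback.fst f h).appLE U (prodOpen f h U V') (prodOpen_le_fst f h)
  haveI := Groth.Agent.Helper6.HasLBC.hasLBaseChange c.hom
  haveI : PreservesFiniteLimits (tilde.functor Γ(pullback f h, prodOpen f h U V')) :=
    Groth.Agent.Helper4.TildeExact.preservesFiniteLimits_tilde _
  have hcfl : c.hom.Flat :=
    HasRingHomProperty.appLE (P := @Flat) (pullback.fst f h) inferInstance ⟨U, hU⟩
      ⟨_, hU'⟩ (prodOpen_le_fst f h)
  obtain ⟨e1⟩ := FBC4.nonempty_tildeD_lbc_iso (pullback.fst f h) hU hU' (prodOpen_le_fst f h) E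
    (DRing.toD E₀) eM
  let e2 := Groth.Agent.Helper9.FBC1.lbcFlatIso c.hom hcfl E₀
  rw [Chart18.exists_chart_iff_ring' (pullback.snd f h) hU' hV' (prodOpen_le_snd f h) m _
    ((DRing.LBaseChange c.hom).obj (DRing.toD E₀)) e1]
  letI := ((pullback.snd f h).appLE V' (prodOpen f h U V') (prodOpen_le_snd f h)).hom.toAlgebra
  exact ⟨fun H => Groth.Agent.Helper3.DRingLib.relPC_of_iso e2 H,
    fun H => Groth.Agent.Helper3.DRingLib.relPC_of_iso e2.symm H⟩

include hU hV hV' hUV hV'V in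
/-- **flat base change of a chart** -/
theorem chart_baseChange (m : ℤ) (E : DCoh.D X) (hE : DCoh.IsQCohD E)
    (hc : ∃ (n : ℕ) (φ : MvPolynomial (Fin n) Γ(Y, V) →+* Γ(X, U)),
      DerSch.IsChart f U V hUV φ ∧ DerSch.ChartPC m E U V φ) :
    ∃ (n : ℕ) (φ : MvPolynomial (Fin n) Γ(Y', V') →+* Γ(pullback f h, prodOpen f h U V')),
      DerSch.IsChart (pullback.snd f h) (prodOpen f h U V') V' (prodOpen_le_snd f h) φ ∧
        DerSch.ChartPC m ((DCoh.Lpull (pullback.fst f h)).obj E) (prodOpen f h U V') V' φ := by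
  have hU' : IsAffineOpen (prodOpen f h U V') := isAffineOpen_prodOpen f h hU hV hV' hUV hV'V
  haveI : PreservesFiniteLimits (tilde.functor Γ(X, U)) :=
    Groth.Agent.Helper4.TildeExact.preservesFiniteLimits_tilde _
  have hEU : DCoh.IsQCohD ((DCoh.restrictD hU.fromSpec).obj E) :=
    QP7.isQCohD_restrictD _ E hE
  obtain ⟨M, ⟨eM⟩⟩ := QcLpull1.exists_iso_tildeD Γ(X, U) _ hEU
  let E₀ : DRing.Cx Γ(X, U) := DerivedCategory.Q.objPreimage M
  let e₀ : DRing.toD E₀ ≅ M := DerivedCategory.Q.objObjPreimageIso M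
  have eM' : (DCoh.tildeD Γ(X, U)).obj (DRing.toD E₀) ≅ (DCoh.restrictD hU.fromSpec).obj E :=
    (DCoh.tildeD Γ(X, U)).mapIso e₀ ≪≫ eM
  rw [chart_prodOpen_iff f h hU hV hV' hUV hV'V m E E₀ eM']
  rw [Chart18.exists_chart_iff_ring' f hU hV hUV m E (DRing.toD E₀) eM'] at hc
  have hfl : (h.appLE V V' hV'V).hom.Flat :=
    HasRingHomProperty.appLE (P := @Flat) h inferInstance ⟨V, hV⟩ ⟨V', hV'⟩ hV'V
  exact Groth.Agent.Helper9.FBC2c.relPC_baseChange (h.appLE V V' hV'V).hom (f.appLE V U hUV).hom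
    ((pullback.snd f h).appLE V' (prodOpen f h U V') (prodOpen_le_snd f h)).hom
    ((pullback.fst f h).appLE U (prodOpen f h U V') (prodOpen_le_fst f h)).hom
    (isPushout_sections f h hU hV hV' hUV hV'V hU') hfl E₀ m hc

end Setup

section Family

variable {J : Type} [Finite J] (Y'' : J → Scheme.{u}) (h : ∀ j, Y'' j ⟶ Y) [∀ j, Flat (h j)]
  [∀ j, DCoh.HasLpull (pullback.fst f (h j))]
  {U : X.Opens} (hU : IsAffineOpen U) {V : Y.Opens} (hV : IsAffineOpen V) (hUV : U ≤ f ⁻¹ᵁ V)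
  (V' : ∀ j, (Y'' j).Opens) (hV' : ∀ j, IsAffineOpen (V' j)) (hV'V : ∀ j, V' j ≤ (h j) ⁻¹ᵁ V)

include hV hV' in
/-- joint surjectivity on prime spectra -/
theorem jointly_surjective_spec
    (hcov : ∀ y ∈ V, ∃ (j : J) (y' : Y'' j), y' ∈ V' j ∧ (h j).base y' = y)
    (p : PrimeSpectrum Γ(Y, V)) :
    ∃ (j : J) (q : PrimeSpectrum Γ(Y'' j, V' j)),
      q.comap ((h j).appLE V (V' j) (hV'V j)).hom = p := by
  let p' : Spec Γ(Y, V) := p
  have hy : hV.fromSpec.base p' ∈ V := by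
    have : hV.fromSpec.base p' ∈ Set.range hV.fromSpec.base := ⟨p', rfl⟩
    rw [hV.range_fromSpec] at this
    exact this
  obtain ⟨j, y', hy', hyy'⟩ := hcov _ hy
  obtain ⟨q, hq⟩ : ∃ q : Spec Γ(Y'' j, V' j), (hV' j).fromSpec.base q = y' := by
    have : y' ∈ Set.range (hV' j).fromSpec.base := by
      rw [(hV' j).range_fromSpec]
      exact hy'
    exact this
  refine ⟨j, q, ?_⟩
  have hcomm : Spec.map ((h j).appLE V (V' j) (hV'V j)) ≫ hV.fromSpec =
      (hV' j).fromSpec ≫ h j :=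
    IsAffineOpen.SpecMap_appLE_fromSpec (h j) hV (hV' j) (hV'V j)
  have h1 : hV.fromSpec.base ((Spec.map ((h j).appLE V (V' j) (hV'V j))).base q) =
      hV.fromSpec.base p' := by
    have := congrArg (fun t => t.base q) hcomm
    simp only [Scheme.Hom.comp_base, TopCat.comp_app] at this
    rw [this, hq, hyy']
  exact hV.fromSpec.isOpenEmbedding.injective h1

include hU hV hV' hUV hV'V in
/-- **descent of a chart along a finite jointly surjective flat family** -/
theorem chart_of_family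
    (hcov : ∀ y ∈ V, ∃ (j : J) (y' : Y'' j), y' ∈ V' j ∧ (h j).base y' = y)
    (m : ℤ) (E : DCoh.D X) (hE : DCoh.IsQCohD E)
    (hc : ∀ j, ∃ (n : ℕ) (φ : MvPolynomial (Fin n) Γ(Y'' j, V' j) →+*
        Γ(pullback f (h j), prodOpen f (h j) U (V' j))),
      DerSch.IsChart (pullback.snd f (h j)) (prodOpen f (h j) U (V' j)) (V' j)
        (prodOpen_le_snd f (h j)) φ ∧
      DerSch.ChartPC m ((DCoh.Lpull (pullback.fst f (h j))).obj E)
        (prodOpen f (h j) U (V' j)) (V' j) φ) :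
    ∃ (n : ℕ) (φ : MvPolynomial (Fin n) Γ(Y, V) →+* Γ(X, U)),
      DerSch.IsChart f U V hUV φ ∧ DerSch.ChartPC m E U V φ := by
  haveI : PreservesFiniteLimits (tilde.functor Γ(X, U)) :=
    Groth.Agent.Helper4.TildeExact.preservesFiniteLimits_tilde _
  have hEU : DCoh.IsQCohD ((DCoh.restrictD hU.fromSpec).obj E) :=
    QP7.isQCohD_restrictD _ E hE
  obtain ⟨M, ⟨eM⟩⟩ := QcLpull1.exists_iso_tildeD Γ(X, U) _ hEU
  let E₀ : DRing.Cx Γ(X, U) := DerivedCategory.Q.objPreimage M
  let e₀ : DRing.toD E₀ ≅ M := DerivedCategory.Q.objObjPreimageIso M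
  have eM' : (DCoh.tildeD Γ(X, U)).obj (DRing.toD E₀) ≅ (DCoh.restrictD hU.fromSpec).obj E :=
    (DCoh.tildeD Γ(X, U)).mapIso e₀ ≪≫ eM
  rw [Chart18.exists_chart_iff_ring' f hU hV hUV m E (DRing.toD E₀) eM']
  have hft : (f.appLE V U hUV).hom.FiniteType :=
    HasRingHomProperty.appLE (P := @LocallyOfFiniteType) f inferInstance ⟨V, hV⟩ ⟨U, hU⟩ hUV
  refine Groth.Agent.Helper9.FBC2c.relPC_of_family (f.appLE V U hUV).hom
    (fun j => Γ(Y'' j, V' j)) (fun j => Γ(pullback f (h j), prodOpen f (h j) U (V' j)))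
    (fun j => ((h j).appLE V (V' j) (hV'V j)).hom)
    (fun j => ((pullback.snd f (h j)).appLE (V' j) (prodOpen f (h j) U (V' j))
      (prodOpen_le_snd f (h j))).hom)
    (fun j => ((pullback.fst f (h j)).appLE U (prodOpen f (h j) U (V' j))
      (prodOpen_le_fst f (h j))).hom)
    (fun j => isPushout_sections f (h j) hU hV (hV' j) hUV (hV'V j)
      (isAffineOpen_prodOpen f (h j) hU hV (hV' j) hUV (hV'V j)))
    (fun j => HasRingHomProperty.appLE (P := @Flat) (h j) inferInstance ⟨V, hV⟩ ⟨V' j, hV' j⟩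
      (hV'V j))
    (jointly_surjective_spec Y'' h hV V' hV' hV'V hcov) hft E₀ m (fun j => ?_)
  exact (chart_prodOpen_iff f (h j) hU hV (hV' j) hUV (hV'V j) m E E₀ eM').1 (hc j)

end Family

end

end Groth.Agent.Helper9.FBC5
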