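import Mathlib
import Groth.Prelude.Def_DualSh
import Groth.Prelude.Def_DerSch2
import Groth.Agent.Helper9.FBC5
import Groth.Agent.Helper9.Chart6

/-! Relative pseudo-coherence and flat base change: the global statements. -/

set_option autoImplicit false
set_option linter.style.haveILetI false
set_option linter.unusedVariables false
set_option linter.unusedSectionVars false
universe u

namespace Groth.Agent.Helper9.FBC6

noncomputable section

open CategoryTheory CategoryTheory.Limits AlgebraicGeometry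
open Groth.Agent.Helper9.FBC3 Groth.Agent.Helper9.FBC5

attribute [local instance] HasDerivedCategory.standard

variable {X Y Y' : Scheme.{u}} (f : X ⟶ Y) [LocallyOfFiniteType f]

/-- **relative pseudo-coherence is preserved by flat base change** -/
theorem rel_baseChange (h : Y' ⟶ Y) [Flat h] [DCoh.HasLpull (pullback.fst f h)] (m : ℤ)
    (E : DCoh.D X) (hE : DCoh.IsQCohD E) (hrel : DerSch.IsPseudoCoherentRel f m E) :
    DerSch.IsPseudoCoherentRel (pullback.snd f h) m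
      ((DCoh.Lpull (pullback.fst f h)).obj E) := by
  rw [Chart6.rel_iff f] at hrel
  refine ⟨inferInstance,
    {V' | ∃ V : Y.affineOpens, (V' : Y'.Opens) ≤ h ⁻¹ᵁ (V : Y.Opens)}, ?_, ?_⟩
  · rw [eq_top_iff]
    intro y' _
    obtain ⟨_, ⟨V, hV, rfl⟩, hyV, -⟩ :=
      (Y.isBasis_affineOpens).exists_subset_of_mem_open (Set.mem_univ (h.base y')) isOpen_univ
    obtain ⟨_, ⟨V', hV', rfl⟩, hyV', hV'V⟩ :=
      (Y'.isBasis_affineOpens).exists_subset_of_mem_open
        (show y' ∈ (h ⁻¹ᵁ V : Set Y') from hyV) (h ⁻¹ᵁ V).2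
    simp only [TopologicalSpace.Opens.mem_iSup]
    exact ⟨⟨V', hV'⟩, ⟨⟨V, hV⟩, hV'V⟩, hyV'⟩
  · rintro V' ⟨V, hV'V⟩
    refine ⟨{U' | ∃ U : X.affineOpens, (U : X.Opens) ≤ f ⁻¹ᵁ (V : Y.Opens) ∧
        (U' : (pullback f h).Opens) = prodOpen f h (U : X.Opens) (V' : Y'.Opens)}, ?_, ?_⟩
    · apply le_antisymm
      · refine iSup₂_le ?_
        rintro U' ⟨U, hUV, hU'⟩
        rw [hU']
        exact prodOpen_le_snd f h
      · intro x' hx'
        have hx'V' : (pullback.snd f h).base x' ∈ (V' : Y'.Opens) := hx'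
        have hfx : f.base ((pullback.fst f h).base x') ∈ (V : Y.Opens) := by
          have hcond : f.base ((pullback.fst f h).base x') =
              h.base ((pullback.snd f h).base x') := by
            have := congrArg (fun t => t.base x') (pullback.condition (f := f) (g := h))
            simpa using this
          rw [hcond]
          exact hV'V hx'V'
        obtain ⟨_, ⟨U, hU, rfl⟩, hxU, hUV⟩ :=
          (X.isBasis_affineOpens).exists_subset_of_mem_open
            (show (pullback.fst f h).base x' ∈ (f ⁻¹ᵁ (V : Y.Opens) : Set X) from hfx)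
            (f ⁻¹ᵁ (V : Y.Opens)).2
        simp only [TopologicalSpace.Opens.mem_iSup]
        exact ⟨⟨prodOpen f h U (V' : Y'.Opens),
            isAffineOpen_prodOpen f h hU V.2 V'.2 hUV hV'V⟩,
          ⟨⟨U, hU⟩, hUV, rfl⟩, ⟨hxU, hx'V'⟩⟩
    · rintro ⟨U', hU'aff⟩ ⟨U, hUV, hU'⟩ hle
      change U' = prodOpen f h (U : X.Opens) (V' : Y'.Opens) at hU'
      subst hU'
      exact chart_baseChange f h U.2 V.2 V'.2 hUV hV'V m E hE (hrel U V hUV)

/-- **descent of relative pseudo-coherence along a family of flat morphisms** which, over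
every affine open of the base, has a finite jointly surjective subfamily of affine opens -/
theorem rel_of_family {ι : Type*} (Si : ι → Scheme.{u}) (h : ∀ i, Si i ⟶ Y) [∀ i, Flat (h i)]
    [∀ i, DCoh.HasLpull (pullback.fst f (h i))]
    (hcov : ∀ V : Y.affineOpens, ∃ (k : ℕ) (i : Fin k → ι) (V' : ∀ j, (Si (i j)).Opens),
      (∀ j, IsAffineOpen (V' j)) ∧ (∀ j, V' j ≤ (h (i j)) ⁻¹ᵁ (V : Y.Opens)) ∧
      ∀ y ∈ (V : Y.Opens), ∃ (j : Fin k) (y' : Si (i j)), y' ∈ V' j ∧ (h (i j)).base y' = y)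
    (m : ℤ) (E : DCoh.D X) (hE : DCoh.IsQCohD E)
    (hrel : ∀ i, DerSch.IsPseudoCoherentRel (pullback.snd f (h i)) m
      ((DCoh.Lpull (pullback.fst f (h i))).obj E)) :
    DerSch.IsPseudoCoherentRel f m E := by
  rw [Chart6.rel_iff f]
  intro U V hUV
  obtain ⟨k, i, V', hV', hV'V, hc⟩ := hcov V
  refine chart_of_family f (fun j => Si (i j)) (fun j => h (i j)) U.2 V.2 hUV V' hV' hV'V hc m E
    hE (fun j => ?_)
  have h1 := (Chart6.rel_iff (pullback.snd f (h (i j))) m _).1 (hrel (i j))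
  exact h1 ⟨prodOpen f (h (i j)) (U : X.Opens) (V' j),
    isAffineOpen_prodOpen f (h (i j)) U.2 V.2 (hV' j) hUV (hV'V j)⟩ ⟨V' j, hV' j⟩
    (prodOpen_le_snd f (h (i j)))

/-- a quasi-compact surjective morphism: finitely many affine opens of the source cover the
preimage of an affine open -/
theorem cover_of_surjective_quasiCompact (h : Y' ⟶ Y) [Surjective h] [QuasiCompact h]
    (V : Y.affineOpens) :
    ∃ (k : ℕ) (i : Fin k → PUnit.{1}) (V' : ∀ j : Fin k, Y'.Opens),
      (∀ j, IsAffineOpen (V' j)) ∧ (∀ j, V' j ≤ h ⁻¹ᵁ (V : Y.Opens)) ∧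
      ∀ y ∈ (V : Y.Opens), ∃ (j : Fin k) (y' : Y'), y' ∈ V' j ∧ h.base y' = y := by
  have hc : IsCompact (h ⁻¹ᵁ (V : Y.Opens) : Set Y') := h.isCompact_preimage V.2.isCompact
  obtain ⟨s, hs, hsU⟩ :=
    (isCompact_and_isOpen_iff_finite_and_eq_biUnion_affineOpens).1 ⟨hc, (h ⁻¹ᵁ (V : Y.Opens)).2⟩
  haveI : Finite s := hs
  obtain ⟨k, ⟨e⟩⟩ := Finite.exists_equiv_fin s
  refine ⟨k, fun _ => PUnit.unit, fun j => ((e.symm j).1 : Y'.Opens), fun j => (e.symm j).1.2,
    ?_, ?_⟩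
  · intro j x hx
    have : x ∈ (h ⁻¹ᵁ (V : Y.Opens) : Set Y') := by
      rw [hsU]
      exact Set.mem_biUnion (e.symm j).2 hx
    exact this
  · intro y hy
    obtain ⟨y', hy'⟩ := h.surjective y
    have hy'V : y' ∈ (h ⁻¹ᵁ (V : Y.Opens) : Set Y') := by
      show h.base y' ∈ (V : Y.Opens)
      rw [hy']
      exact hy
    rw [hsU] at hy'V
    simp only [Set.mem_iUnion] at hy'V
    obtain ⟨W, hWs, hy'W⟩ := hy'V
    refine ⟨e ⟨W, hWs⟩, y', ?_, hy'⟩
    dsimp only
    rw [Equiv.symm_apply_apply]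
    exact hy'W

/-- an fppf covering: finitely many affine opens of the members cover an affine open -/
theorem cover_of_fppf {ι : Type*} (Si : ι → Scheme.{u}) (h : ∀ i, Si i ⟶ Y) [∀ i, Flat (h i)]
    [∀ i, LocallyOfFinitePresentation (h i)]
    (hcov : ∀ s : Y, ∃ (i : ι) (t : Si i), (h i).base t = s) (V : Y.affineOpens) :
    ∃ (k : ℕ) (i : Fin k → ι) (V' : ∀ j, (Si (i j)).Opens),
      (∀ j, IsAffineOpen (V' j)) ∧ (∀ j, V' j ≤ (h (i j)) ⁻¹ᵁ (V : Y.Opens)) ∧
      ∀ y ∈ (V : Y.Opens), ∃ (j : Fin k) (y' : Si (i j)), y' ∈ V' j ∧ (h (i j)).base y' = y := by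
  classical
  -- for every point of `V` an affine open upstairs
  have key : ∀ v : (V : Y.Opens), ∃ (i : ι) (W : (Si i).Opens), IsAffineOpen W ∧
      W ≤ (h i) ⁻¹ᵁ (V : Y.Opens) ∧ ∃ t : Si i, t ∈ W ∧ (h i).base t = v.1 := by
    intro v
    obtain ⟨i, t, ht⟩ := hcov v.1
    obtain ⟨_, ⟨W, hW, rfl⟩, htW, hWV⟩ :=
      ((Si i).isBasis_affineOpens).exists_subset_of_mem_open
        (show t ∈ ((h i) ⁻¹ᵁ (V : Y.Opens) : Set (Si i)) from by
          show (h i).base t ∈ (V : Y.Opens)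
          rw [ht]
          exact v.2) ((h i) ⁻¹ᵁ (V : Y.Opens)).2
    exact ⟨i, W, hW, hWV, t, htW, ht⟩
  choose i W hW hWV t htW ht using key
  have hopen : ∀ v : (V : Y.Opens), IsOpen ((h (i v)).base '' (W v : Set (Si (i v)))) :=
    fun v => (h (i v)).isOpenMap _ (W v).2
  have hcover : ((V : Y.Opens) : Set Y) ⊆ ⋃ v : (V : Y.Opens), (h (i v)).base '' (W v : Set _) := by
    intro y hy
    simp only [Set.mem_iUnion]
    exact ⟨⟨y, hy⟩, t ⟨y, hy⟩, htW _, ht _⟩
  obtain ⟨T, hT⟩ := V.2.isCompact.elim_finite_subcover _ hopen hcover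
  let e := T.equivFin
  refine ⟨T.card, fun j => i (e.symm j).1, fun j => W (e.symm j).1, fun j => hW _,
    fun j => hWV _, ?_⟩
  intro y hy
  have := hT hy
  simp only [Set.mem_iUnion] at this
  obtain ⟨v, hvT, y', hy'W, hy'⟩ := this
  have aux : ∀ (j : Fin T.card) (w : T), e.symm j = w →
      (∃ y' : Si (i w.1), y' ∈ W w.1 ∧ (h (i w.1)).base y' = y) →
      ∃ y' : Si (i (e.symm j).1), y' ∈ W (e.symm j).1 ∧ (h (i (e.symm j).1)).base y' = y := by
    intro j w hjw hw
    subst hjw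
    exact hw
  exact ⟨e ⟨v, hvT⟩, aux _ ⟨v, hvT⟩ (e.symm_apply_apply _) ⟨y', hy'W, hy'⟩⟩

end

end Groth.Agent.Helper9.FBC6
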