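import Mathlib
import Groth.Prelude.Def_DualSh
import Groth.Prelude.Def_DerSch2
import Groth.Agent.Helper9.FBC6
import Groth.Agent.Helper9.Chart12
import Groth.Agent.Helper9.ShiftVB1
import Groth.Agent.Helper9.Lpull5
import Groth.Agent.Helper8.TildeBC
import Groth.Agent.Helper4.FinLocFree6
import Groth.Agent.Helper4.RpushQc

/-! The structure sheaf under derived pullback; `n`-pseudo-coherent morphisms and flat base
change. -/

set_option autoImplicit false
set_option linter.style.haveILetI false
set_option linter.unusedVariables false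
set_option linter.unusedSectionVars false
universe u

namespace Groth.Agent.Helper9.FBC7

noncomputable section

open CategoryTheory CategoryTheory.Limits AlgebraicGeometry
open Groth.Agent.Helper9.Lpull1 Groth.Agent.Helper9.Lpull3

attribute [local instance] HasDerivedCategory.standard

variable {X X' : Scheme.{u}}

/-- the unit complex is K-flat -/
theorem isKFlat_unitCx (X : Scheme.{u}) : DCoh.IsKFlat (DerSch.unitCx X) :=
  Groth.Agent.Helper9.Lpull5.isKFlat_of_isStrictlyPerfect _
    (Groth.Agent.Helper9.ShiftVB1.isStrictlyPerfect_sg (Coh.structureModule X)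
      Groth.Agent.Helper4.FinLocFree6.isFinLocFree_unit 0)

/-- `Lg^* O_X = O_{X'}` -/
def lpullUnitIso (g : X' ⟶ X) [DCoh.HasLpull g] :
    (DCoh.Lpull g).obj (DCoh.toD X (DerSch.unitCx X)) ≅ DCoh.toD X' (DerSch.unitCx X') :=
  lpullIso g (DerSch.unitCx X) (isKFlat_unitCx X) ≪≫
    DerivedCategory.Q.mapIso
      ((HomologicalComplex.singleMapHomologicalComplex (Scheme.Modules.pullback g)
          (ComplexShape.up ℤ) 0).app (Coh.structureModule X) ≪≫
        (HomologicalComplex.single X'.Modules (ComplexShape.up ℤ) 0).mapIso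
          (Groth.Agent.Helper8.TildeBC.pullbackUnitIso g))

/-- the unit complex has quasi-coherent cohomology -/
theorem isQCohD_unitCx (X : Scheme.{u}) : DCoh.IsQCohD (DCoh.toD X (DerSch.unitCx X)) := by
  have hqO : (Coh.structureModule X).IsQuasicoherent :=
    Groth.Agent.Helper4.FinLocFree4.isQuasicoherent_of_isFinLocFree _
      (Groth.Agent.Helper4.FinLocFree6.isFinLocFree_unit (X := X))
  exact QcLpull1.isQCohD_of_iso ((DerivedCategory.singleFunctorIsoCompQ X.Modules 0).app _)
    (Groth.Agent.Helper4.RpushQc.isQCohD_inD _ hqO)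

section Morphisms

variable {Y Y' : Scheme.{u}} (f : X ⟶ Y) [LocallyOfFiniteType f]

/-- **flat base change of an `n`-pseudo-coherent morphism** -/
theorem isNPseudoCoherent_baseChange (n : ℤ) (hf : DerSch.IsNPseudoCoherent f n) (h : Y' ⟶ Y)
    [Flat h] : DerSch.IsNPseudoCoherent (pullback.snd f h) n := by
  haveI : DCoh.HasLpull (pullback.fst f h) := hasLpull _
  have h1 := Groth.Agent.Helper9.FBC6.rel_baseChange f h n _ (isQCohD_unitCx X) hf
  exact Groth.Agent.Helper9.Chart12.rel_of_iso (pullback.snd f h)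
    (lpullUnitIso (pullback.fst f h)) n h1

/-- **descent of `n`-pseudo-coherence of a morphism along a flat, surjective, quasi-compact
base change** -/
theorem isNPseudoCoherent_of_baseChange (n : ℤ) (h : Y' ⟶ Y) [Flat h] [Surjective h]
    [QuasiCompact h] (hf' : DerSch.IsNPseudoCoherent (pullback.snd f h) n) :
    DerSch.IsNPseudoCoherent f n := by
  haveI : DCoh.HasLpull (pullback.fst f h) := hasLpull _
  refine Groth.Agent.Helper9.FBC6.rel_of_family f (ι := PUnit.{1}) (fun _ => Y') (fun _ => h)
    (fun V => Groth.Agent.Helper9.FBC6.cover_of_surjective_quasiCompact h V) n _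
    (isQCohD_unitCx X) (fun _ => ?_)
  exact Groth.Agent.Helper9.Chart12.rel_of_iso (pullback.snd f h)
    (lpullUnitIso (pullback.fst f h)).symm n hf'

/-- descent of relative pseudo-coherence along a flat, surjective, quasi-compact base
change -/
theorem rel_of_baseChange (h : Y' ⟶ Y) [Flat h] [Surjective h] [QuasiCompact h]
    [DCoh.HasLpull (pullback.fst f h)] (n : ℤ) (E : DCoh.D X) (hq : DCoh.IsQCohD E)
    (hE : DerSch.IsPseudoCoherentRel (pullback.snd f h) n
      ((DCoh.Lpull (pullback.fst f h)).obj E)) :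
    DerSch.IsPseudoCoherentRel f n E :=
  Groth.Agent.Helper9.FBC6.rel_of_family f (ι := PUnit.{1}) (fun _ => Y') (fun _ => h)
    (fun V => Groth.Agent.Helper9.FBC6.cover_of_surjective_quasiCompact h V) n E hq (fun _ => hE)

/-- relative pseudo-coherence is fppf local on the base -/
theorem rel_iff_of_fppf_cover {ι : Type*} (Si : ι → Scheme.{u}) (h : ∀ i, Si i ⟶ Y)
    [∀ i, Flat (h i)] [∀ i, LocallyOfFinitePresentation (h i)]
    (hcov : ∀ s : Y, ∃ (i : ι) (t : Si i), (h i).base t = s)
    [∀ i, DCoh.HasLpull (pullback.fst f (h i))] (m : ℤ) (E : DCoh.D X) (hE : DCoh.IsQCohD E) :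
    DerSch.IsPseudoCoherentRel f m E ↔
      ∀ i, DerSch.IsPseudoCoherentRel (pullback.snd f (h i)) m
        ((DCoh.Lpull (pullback.fst f (h i))).obj E) :=
  ⟨fun hrel i => Groth.Agent.Helper9.FBC6.rel_baseChange f (h i) m E hE hrel,
    fun hrel => Groth.Agent.Helper9.FBC6.rel_of_family f Si h
      (fun V => Groth.Agent.Helper9.FBC6.cover_of_fppf Si h hcov V) m E hE hrel⟩

end Morphisms

end

end Groth.Agent.Helper9.FBC7
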