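import Mathlib
import Groth.Agent.Helper9.BCT7
import Groth.Agent.Helper9.FBC7
import Groth.Agent.Helper9.TorAmpSch1

/-! Products `f₁ ×_S f₂` with flat second factor: tor dimension and tor amplitude of external
tensor products. -/

set_option autoImplicit false
set_option linter.style.haveILetI false
set_option linter.unusedVariables false
set_option linter.unusedSectionVars false
universe u

namespace Groth.Agent.Helper9.BCT8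

open CategoryTheory CategoryTheory.Limits AlgebraicGeometry HomologicalComplex
open Groth.Agent.Helper9.Lpull1 Groth.Agent.Helper9.Lpull3 Groth.Agent.Helper9.BCT7

attribute [local instance] HasDerivedCategory.standard

variable {S X₁ Y₁ X₂ Y₂ X Y : Scheme.{u}} (f₁ : X₁ ⟶ Y₁) (q₁ : Y₁ ⟶ S)
  (f₂ : X₂ ⟶ Y₂) (q₂ : Y₂ ⟶ S)
  (pX₁ : X ⟶ X₁) (pX₂ : X ⟶ X₂) (hX : IsPullback pX₁ pX₂ (f₁ ≫ q₁) (f₂ ≫ q₂))
  (pY₁ : Y ⟶ Y₁) (pY₂ : Y ⟶ Y₂) (hY : IsPullback pY₁ pY₂ q₁ q₂)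
  (f : X ⟶ Y) (hf₁ : f ≫ pY₁ = pX₁ ≫ f₁) (hf₂ : f ≫ pY₂ = pX₂ ≫ f₂)

/-- the intermediate scheme `X₁ ×_{Y₁} Y` -/
noncomputable abbrev W : Scheme.{u} := pullback f₁ pY₁

/-- `X ⟶ X₁ ×_{Y₁} Y` -/
noncomputable abbrev u : X ⟶ W f₁ pY₁ := pullback.lift pX₁ f hf₁.symm

include hY in
lemma flat_pY₁ [Flat q₂] : Flat pY₁ :=
  MorphismProperty.of_isPullback (P := @Flat) hY.flip inferInstance

include hY in
/-- `X₁ ×_{Y₁} Y = X₁ ×_S Y₂` -/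
lemma sqY' : IsPullback (pullback.snd f₁ pY₁ ≫ pY₂) (pullback.fst f₁ pY₁) q₂ (f₁ ≫ q₁) :=
  (IsPullback.of_hasPullback f₁ pY₁).flip.paste_horiz hY.flip

include hX hY hf₂ in
/-- `X = (X₁ ×_{Y₁} Y) ×_{Y₂} X₂` -/
lemma sqU : IsPullback pX₂ (u f₁ pX₁ pY₁ f hf₁) f₂ (pullback.snd f₁ pY₁ ≫ pY₂) := by
  have big : IsPullback pX₂ (u f₁ pX₁ pY₁ f hf₁ ≫ pullback.fst f₁ pY₁) (f₂ ≫ q₂) (f₁ ≫ q₁) := by
    rw [pullback.lift_fst]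
    exact hX.flip
  refine IsPullback.of_bot big ?_ (sqY' f₁ q₁ q₂ pY₁ pY₂ hY)
  rw [← Category.assoc, pullback.lift_snd, hf₂]

include hX hY hf₁ hf₂ in
/-- **S6242**: tor dimension of `f₁ ×_S f₂` -/
theorem hasTorDimLE_prod [Flat q₂] [Flat (f₂ ≫ q₂)] (n₁ n₂ : ℕ)
    (h₁ : DerSch.HasTorDimLE f₁ n₁) (h₂ : DerSch.HasTorDimLE f₂ n₂) :
    DerSch.HasTorDimLE f (n₁ + n₂) := by
  haveI : Flat pY₁ := flat_pY₁ q₁ q₂ pY₁ pY₂ hY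
  haveI : DCoh.HasLpull (pullback.fst f₁ pY₁) := hasLpull _
  haveI : DCoh.HasLpull pX₂ := hasLpull _
  have hv : DerSch.HasTorDimLE (pullback.snd f₁ pY₁) n₁ :=
    flat_right_of_isPullback (IsPullback.of_hasPullback f₁ pY₁) (DerSch.unitCx X₁) _ _ h₁ _
      ⟨(Groth.Agent.Helper9.FBC7.lpullUnitIso (pullback.fst f₁ pY₁)).symm⟩
  have hu : DerSch.HasTorDimLE (u f₁ pX₁ pY₁ f hf₁) n₂ :=
    torind_of_isPullback q₂ (f₁ ≫ q₁) (pullback.fst f₁ pY₁) (sqY' f₁ q₁ q₂ pY₁ pY₂ hY)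
      (sqU f₁ q₁ f₂ q₂ pX₁ pX₂ hX pY₁ pY₂ hY f hf₁ hf₂) (DerSch.unitCx X₂) _ _ h₂ _
      ⟨(Groth.Agent.Helper9.FBC7.lpullUnitIso pX₂).symm⟩
  have h3 := Groth.Agent.Helper9.TorAmpSch1.hasTorAmplitude_comp (u f₁ pX₁ pY₁ f hf₁)
    (pullback.snd f₁ pY₁) n₁ hv (DerSch.unitCx X) _ _ hu
  have huv : u f₁ pX₁ pY₁ f hf₁ ≫ pullback.snd f₁ pY₁ = f := pullback.lift_snd _ _ _
  rw [huv] at h3
  have hn : (-((n₁ + n₂ : ℕ) : ℤ)) = -(n₂ : ℤ) - (n₁ : ℤ) := by push_cast; ring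
  unfold DerSch.HasTorDimLE
  rw [hn]
  exact h3

include hX hY hf₁ hf₂ in
/-- **S6257**: tor amplitude of the external tensor product -/
theorem hasTorAmplitudeD_externalTensor [Flat q₂] [Flat (f₂ ≫ q₂)]
    (E₁ : CochainComplex X₁.Modules ℤ) (a₁ b₁ : ℤ) (h₁ : DerSch.HasTorAmplitude f₁ a₁ b₁ E₁)
    (E₂ : CochainComplex X₂.Modules ℤ) (a₂ b₂ : ℤ) (h₂ : DerSch.HasTorAmplitude f₂ a₂ b₂ E₂)
    [DCoh.HasLpull pX₁] [DCoh.HasLpull pX₂]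
    (K₂ : CochainComplex X.Modules ℤ) [DCoh.HasLTensorCx K₂]
    (eK : DCoh.toD X K₂ ≅ (DCoh.Lpull pX₂).obj (DCoh.toD X₂ E₂)) :
    DerSch.HasTorAmplitudeD f (a₁ + a₂) (b₁ + b₂)
      ((DCoh.LTensorCx K₂).obj ((DCoh.Lpull pX₁).obj (DCoh.toD X₁ E₁))) := by
  haveI : Flat pY₁ := flat_pY₁ q₁ q₂ pY₁ pY₂ hY
  haveI : DCoh.HasLpull (pullback.fst f₁ pY₁) := hasLpull _
  haveI : DCoh.HasLpull (u f₁ pX₁ pY₁ f hf₁) := hasLpull _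
  haveI : DCoh.HasLpull (u f₁ pX₁ pY₁ f hf₁ ≫ pullback.fst f₁ pY₁) := hasLpull _
  have hK₂ : DerSch.HasTorAmplitude (u f₁ pX₁ pY₁ f hf₁) a₂ b₂ K₂ :=
    torind_of_isPullback q₂ (f₁ ≫ q₁) (pullback.fst f₁ pY₁) (sqY' f₁ q₁ q₂ pY₁ pY₂ hY)
      (sqU f₁ q₁ f₂ q₂ pX₁ pX₂ hX pY₁ pY₂ hY f hf₁ hf₂) E₂ _ _ h₂ K₂ ⟨eK⟩
  let G : DCoh.D (W f₁ pY₁) := (DCoh.Lpull (pullback.fst f₁ pY₁)).obj (DCoh.toD X₁ E₁)
  let G₀ : CochainComplex (W f₁ pY₁).Modules ℤ := DerivedCategory.Q.objPreimage G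
  let eG : DerivedCategory.Q.obj G₀ ≅ G := DerivedCategory.Q.objObjPreimageIso G
  have hG₀ : DerSch.HasTorAmplitude (pullback.snd f₁ pY₁) a₁ b₁ G₀ :=
    flat_right_of_isPullback (IsPullback.of_hasPullback f₁ pY₁) E₁ _ _ h₁ G₀ ⟨eG⟩
  have h3 := Groth.Agent.Helper9.TorAmpSch2.hasTorAmplitudeD_ltensor_lpull
    (u f₁ pX₁ pY₁ f hf₁) (pullback.snd f₁ pY₁) K₂ a₂ b₂ hK₂ G₀ a₁ b₁ hG₀
  have huv : u f₁ pX₁ pY₁ f hf₁ ≫ pullback.snd f₁ pY₁ = f := pullback.lift_snd _ _ _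
  have huw : u f₁ pX₁ pY₁ f hf₁ ≫ pullback.fst f₁ pY₁ = pX₁ := pullback.lift_fst _ _ _
  rw [huv, add_comm a₂ a₁, add_comm b₂ b₁] at h3
  obtain ⟨e3⟩ := Groth.Agent.Helper9.QcLpull1.lpullCongr huw (DCoh.toD X₁ E₁)
  have i1 : (DCoh.Lpull (u f₁ pX₁ pY₁ f hf₁)).obj (DCoh.toD _ G₀) ≅
      (DCoh.Lpull pX₁).obj (DCoh.toD X₁ E₁) :=
    (DCoh.Lpull (u f₁ pX₁ pY₁ f hf₁)).mapIso eG ≪≫
      (lpullComp (u f₁ pX₁ pY₁ f hf₁) (pullback.fst f₁ pY₁)).app (DCoh.toD X₁ E₁) ≪≫ e3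
  exact hasTorAmplitudeD_of_iso f ((DCoh.LTensorCx K₂).mapIso i1) _ _ h3

end Groth.Agent.Helper9.BCT8
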