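import Mathlib
import Groth.Prelude.Def_DerSch
import Groth.Prelude.Def_DCoh4
import Groth.Agent.Helper9.TorAmpSch2
import Groth.Agent.Helper9.ClImm2
import Groth.Agent.Helper9.LocTriv1
import Groth.Agent.Helper9.LocSplit3

/-! Tor amplitude and restriction to opens; cohomology of `Lf^* M ⊗^L F`. -/

set_option autoImplicit false
set_option linter.style.haveILetI false
set_option linter.unusedVariables false
set_option linter.unusedSectionVars false
set_option linter.unusedSimpArgs false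
universe u

namespace Groth.Agent.Helper9.TorAmpSch3

open CategoryTheory CategoryTheory.Limits AlgebraicGeometry Opposite TopologicalSpace
  MonoidalCategory HomologicalComplex
open Groth.Agent.Helper9.SkyMod4 Groth.Agent.Helper9.SkyMod5 Groth.Agent.Helper9.StalkTensor9
  Groth.Agent.Helper9.RingProj1 Groth.Agent.Helper9.RingProj2 Groth.Agent.Helper9.RingProj4
  Groth.Agent.Helper9.TorAmpSch2 Groth.Agent.Helper6.TenCx

attribute [local instance] HasDerivedCategory.standard

section Ring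

variable {A B C : Type u} [CommRing A] [CommRing B] [CommRing C]

/-- tor amplitude descends along a bijective ring map -/
theorem hasTorAmplitudeIn_of_bijective (ψ : A →+* B) (hψ : Function.Bijective ψ) (φ : B →+* C)
    (χ : A →+* C) (hχ : χ = φ.comp ψ) (K : DRing.Cx C) (a b : ℤ)
    (h : DRing.HasTorAmplitudeIn A a b (DRing.toD ((rCx χ).obj K))) :
    DRing.HasTorAmplitudeIn B a b (DRing.toD ((rCx φ).obj K)) := by
  let e := RingEquiv.ofBijective ψ hψ
  have h1 := Groth.Agent.Helper9.TorAmpSch1.key (e.symm : B →+* A) χ φ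
    (by
      subst hχ
      ext y
      change φ y = φ (ψ (e.symm y))
      congr 1
      exact (e.apply_symm_apply y).symm) K 0 a b
    (Groth.Agent.Helper9.ClImm2.hasTorAmplitudeIn_of_ringHomFlat _
      (RingHom.Flat.of_bijective e.symm.bijective)) h
  rw [Nat.cast_zero, sub_zero] at h1
  exact h1

/-- the cohomology of `(C ⊗_B E₀) ⊗_C M`, for `E₀` a K-flat resolution of a module and `M` of tor
amplitude `[m, n]` over `B` -/
theorem exactAt_ext_tensor (φ : B →+* C) (E₀ : DRing.Cx B) (hE₀k : KFlat E₀)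
    (N : ModuleCat.{u} B)
    (eN : DRing.toD E₀ ≅ DRing.toD (Groth.Agent.Helper6.SingleTen.sN N)) (M : DRing.Cx C)
    (m n : ℤ) (hM : DRing.HasTorAmplitudeIn B m n (DRing.toD ((rCx φ).obj M))) (i : ℤ)
    (hi : i < m ∨ n < i) : ((extCx φ).obj E₀ ⊗ M).ExactAt i := by
  rw [← exactAt_rCx_iff φ]
  refine ExactAt.of_iso ?_ ((projCxIso φ M E₀).symm ≪≫ (rCx φ).mapIso (DTen.braidCx _ _))
  obtain ⟨E, hE, hfl, ⟨eE⟩⟩ := hM
  rw [exactAt_tensor_iff_of_iso eE.symm E₀ hE₀k i,
    exactAt_tensor_iff_of_iso' eN E (kflat_of_flat E n (fun j hj => hE j (Or.inr hj)) hfl) i]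
  apply ExactAt.of_isZero
  apply Groth.Agent.Helper6.TenFin.isZero_X
  intro p q hpq
  by_cases hq : q = 0
  · subst hq
    exact Or.inl (hE p (by omega))
  · exact Or.inr (HomologicalComplex.isZero_single_obj_X (ComplexShape.up ℤ) 0 N q hq)

end Ring

variable {X Y V : Scheme.{u}}

/-- tor amplitude relative to `f'` from tor amplitude relative to `f' ≫ k`, `k` an open
immersion -/
theorem hasTorAmplitude_of_comp_isOpenImmersion (f' : X ⟶ V) (k : V ⟶ Y) [IsOpenImmersion k]
    (F : CochainComplex X.Modules ℤ) (a b : ℤ) (h : DerSch.HasTorAmplitude (f' ≫ k) a b F) :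
    DerSch.HasTorAmplitude f' a b F := by
  intro x
  haveI : IsIso (k.stalkMap (f'.base x)) := inferInstance
  exact hasTorAmplitudeIn_of_bijective (k.stalkMap (f'.base x)).hom
    (ConcreteCategory.bijective_of_isIso (k.stalkMap (f'.base x))) (f'.stalkMap x).hom
    ((f' ≫ k).stalkMap x).hom (by rw [Scheme.Hom.stalkMap_comp]; rfl)
    ((StCx x).obj F) a b (h x)

/-- an open immersion has tor dimension `≤ 0` -/
theorem hasTorDimLE_of_flat (j : X ⟶ Y) [Flat j] : DerSch.HasTorDimLE j 0 := by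
  intro x
  exact Groth.Agent.Helper3.DRingLib.hasTorAmplitudeIn_of_iso
    (Groth.Agent.Helper9.TorAmpSch1.stalkUnitCxIso j x).symm _ _
    (Groth.Agent.Helper9.ClImm2.hasTorAmplitudeIn_of_ringHomFlat _
      ((Flat.iff_flat_stalkMap j).1 inferInstance x))

/-- tor amplitude of the restriction to an open of the source -/
theorem hasTorAmplitude_restrict (f : X ⟶ Y) (U : X.Opens) (F : CochainComplex X.Modules ℤ)
    (a b : ℤ) (hF : DerSch.HasTorAmplitude f a b F) :
    DerSch.HasTorAmplitude (U.ι ≫ f) a b ((DCoh.restrictCx U).obj F) := by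
  haveI : DCoh.HasLpull U.ι := Groth.Agent.Helper9.Lpull1.hasLpull _
  have h := hasTorAmplitudeD_lpull U.ι f 0 (hasTorDimLE_of_flat U.ι) F a b hF
  rw [Nat.cast_zero, sub_zero] at h
  obtain ⟨P, hP, ⟨eP⟩⟩ := Groth.Agent.Helper9.Lpull3.exists_kflat_rep (DCoh.toD X F)
  exact h _ ⟨Groth.Agent.Helper9.Lpull5.qRestrIso U.ι eP.symm ≪≫
    (Groth.Agent.Helper9.LocTriv1.lpullOpenIso U.ι (DCoh.toD X F) P hP eP).symm⟩

/-- the cohomology sheaves of `Lf^* M ⊗^L F` vanish outside the tor amplitude of `F` -/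
theorem isZero_HD_ltensor_lpull (f : X ⟶ Y) (F : CochainComplex X.Modules ℤ) (m n : ℤ)
    (hF : DerSch.HasTorAmplitude f m n F) (M : Y.Modules) [DCoh.HasLpull f]
    [DCoh.HasLTensorCx F] (i : ℤ) (hi : i < m ∨ n < i) :
    IsZero (DCoh.HD ((DCoh.LTensorCx F).obj ((DCoh.Lpull f).obj (DCoh.inD Y M))) i) := by
  let G : CochainComplex Y.Modules ℤ :=
    (HomologicalComplex.single Y.Modules (ComplexShape.up ℤ) 0).obj M
  have eG : DCoh.inD Y M ≅ DCoh.toD Y G := (DerivedCategory.singleFunctorIsoCompQ _ 0).app M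
  obtain ⟨P, hP, ⟨eP⟩, ⟨e1⟩⟩ := exists_rep f F G
  have e2 : DCoh.HD ((DCoh.LTensorCx F).obj ((DCoh.Lpull f).obj (DCoh.inD Y M))) i ≅
      ((DCoh.tensorCx.obj ((pCx f).obj P)).obj F).homology i :=
    (DerivedCategory.homologyFunctor _ i).mapIso
      ((DCoh.LTensorCx F).mapIso ((DCoh.Lpull f).mapIso eG) ≪≫ e1) ≪≫
      (DerivedCategory.homologyFunctorFactors _ i).app _
  refine IsZero.of_iso ?_ e2
  apply isZero_of_stalks
  intro x
  refine IsZero.of_iso ?_ (Groth.Agent.Helper9.LocSplit3.stalkHomologyIso x _ i).symm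
  rw [← exactAt_iff_isZero_homology]
  refine ExactAt.of_iso ?_ (stalkIso f F P x).symm
  have hk : KFlat ((StCx (f.base x)).obj P) :=
    Groth.Agent.Helper9.StalkKFlat1.isKFlat_stalk P hP (f.base x)
  have eN : DRing.toD ((StCx (f.base x)).obj P) ≅
      DRing.toD (Groth.Agent.Helper6.SingleTen.sN ((St (f.base x)).obj M)) :=
    Groth.Agent.Helper9.TorStalk1.stalkDIso (f.base x) eP ≪≫
      DerivedCategory.Q.mapIso ((HomologicalComplex.singleMapHomologicalComplex (St (f.base x))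
        (ComplexShape.up ℤ) 0).app M)
  exact exactAt_ext_tensor (f.stalkMap x).hom _ hk _ eN ((StCx x).obj F) m n (hF x) i hi

/-- the case of an open of the target -/
theorem isZero_HD_restrict (f : X ⟶ Y) (F : CochainComplex X.Modules ℤ) (m n : ℤ)
    (hF : DerSch.HasTorAmplitude f m n F) (W : Y.Opens) (M : (W : Scheme.{u}).Modules)
    [DCoh.HasLpull (f ∣_ W)] [DCoh.HasLTensorCx ((DCoh.restrictCx (f ⁻¹ᵁ W)).obj F)]
    (i : ℤ) (hi : i < m ∨ n < i) :
    IsZero (DCoh.HD ((DCoh.LTensorCx ((DCoh.restrictCx (f ⁻¹ᵁ W)).obj F)).obj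
      ((DCoh.Lpull (f ∣_ W)).obj (DCoh.inD (W : Scheme.{u}) M))) i) := by
  have h1 := hasTorAmplitude_restrict f (f ⁻¹ᵁ W) F m n hF
  rw [← morphismRestrict_ι f W] at h1
  exact isZero_HD_ltensor_lpull (f ∣_ W) _ m n
    (hasTorAmplitude_of_comp_isOpenImmersion (f ∣_ W) W.ι _ m n h1) M i hi

end Groth.Agent.Helper9.TorAmpSch3
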