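import Mathlib
import Groth.Prelude.Def_DerSch
import Groth.Prelude.Def_DCoh4
import Groth.Agent.Helper9.BCT7
import Groth.Agent.Helper9.TorAmpSch3
import Groth.Agent.Helper9.LTM3

/-! Cohomological bounds for `F ⊗^L Lf^* G`, `F` of tor amplitude `[m, n]` relative to `f`, `G`
with cohomology in `[c, d]`; the external tensor product with flat first factor. -/

set_option autoImplicit false
set_option linter.style.haveILetI false
set_option linter.unusedVariables false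
set_option linter.unusedSectionVars false
set_option linter.unusedSimpArgs false
universe u

namespace Groth.Agent.Helper9.BCT9

open CategoryTheory CategoryTheory.Limits AlgebraicGeometry Opposite TopologicalSpace
  MonoidalCategory HomologicalComplex
open Groth.Agent.Helper9.SkyMod4 Groth.Agent.Helper9.SkyMod5 Groth.Agent.Helper9.StalkTensor9
  Groth.Agent.Helper9.RingProj1 Groth.Agent.Helper9.RingProj2 Groth.Agent.Helper9.RingProj4
  Groth.Agent.Helper9.TorAmpSch2 Groth.Agent.Helper6.TenCx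

attribute [local instance] HasDerivedCategory.standard

variable {X Y : Scheme.{u}}

/-- exactness of a complex representing an object with bounded cohomology -/
lemma exactAt_of_isGE_isLE (P : CochainComplex Y.Modules ℤ) (G : DCoh.D Y)
    (eP : DerivedCategory.Q.obj P ≅ G) (c d : ℤ) [G.IsGE c] [G.IsLE d] (j : ℤ)
    (hj : j < c ∨ d < j) : P.ExactAt j := by
  rw [exactAt_iff_isZero_homology]
  have h0 : IsZero ((DerivedCategory.homologyFunctor _ j).obj G) := by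
    rcases hj with hj | hj
    · exact G.isZero_of_isGE c j hj
    · exact G.isZero_of_isLE d j hj
  exact h0.of_iso (((DerivedCategory.homologyFunctorFactors _ j).app P).symm ≪≫
    (DerivedCategory.homologyFunctor _ j).mapIso eP)

/-- the stalkwise statement -/
theorem exactAt_tensor_stalk (f : X ⟶ Y) (P₁ : CochainComplex X.Modules ℤ)
    (hP₁ : DCoh.IsKFlat P₁) (m n : ℤ) (hF : DerSch.HasTorAmplitude f m n P₁)
    (G : DCoh.D Y) (c d : ℤ) [G.IsGE c] [G.IsLE d]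
    [DCoh.HasLpull f] (K₂ : CochainComplex X.Modules ℤ)
    (eK : DCoh.toD X K₂ ≅ (DCoh.Lpull f).obj G) (i : ℤ) (hi : i < m + c ∨ n + d < i) :
    ((DCoh.tensorCx.obj P₁).obj K₂).ExactAt i := by
  apply Groth.Agent.Helper9.RelTor1.exactAt_of_stalks
  intro x
  refine ExactAt.of_iso ?_ (stalkTensorCxIso x P₁ K₂).symm
  have hA : KFlat ((StCx x).obj P₁) := Groth.Agent.Helper9.StalkKFlat1.isKFlat_stalk P₁ hP₁ x
  obtain ⟨P, hP, ⟨eP⟩⟩ := Groth.Agent.Helper9.Lpull3.exists_kflat_rep G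
  have hL : KFlat ((StCx (f.base x)).obj P) :=
    Groth.Agent.Helper9.StalkKFlat1.isKFlat_stalk P hP (f.base x)
  have e1 : DCoh.toD X K₂ ≅ DCoh.toD X ((pCx f).obj P) :=
    eK ≪≫ (DCoh.Lpull f).mapIso eP.symm ≪≫ Groth.Agent.Helper9.Lpull3.lpullIso f P hP
  have eB : DRing.toD ((StCx x).obj K₂) ≅
      DRing.toD ((extCx (f.stalkMap x).hom).obj ((StCx (f.base x)).obj P)) :=
    Groth.Agent.Helper9.TorStalk1.stalkDIso x e1 ≪≫
      DerivedCategory.Q.mapIso (Groth.Agent.Helper9.Lpull1.pullStalkCxIso f x P)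
  rw [exactAt_tensor_iff_of_iso' eB _ hA i, ← exactAt_rCx_iff (f.stalkMap x).hom]
  refine ExactAt.of_iso ?_ (projCxIso (f.stalkMap x).hom _ _).symm
  obtain ⟨E, hE, hEfl, ⟨eE⟩⟩ := hF x
  have eE' : DRing.toD E ≅
      DRing.toD ((rCx (f.stalkMap x).hom).obj ((StCx x).obj P₁)) := eE
  rw [exactAt_tensor_iff_of_iso eE'.symm _ hL i]
  have hLex : ∀ j : ℤ, j < c ∨ d < j → ((StCx (f.base x)).obj P).ExactAt j := by
    intro j hj
    rw [exactAt_iff_isZero_homology]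
    have h1 := exactAt_of_isGE_isLE P G eP c d j hj
    rw [exactAt_iff_isZero_homology] at h1
    have h2 : IsZero ((St (f.base x)).obj (P.homology j)) :=
      Functor.map_isZero _ h1
    exact h2.of_iso (Groth.Agent.Helper9.LocSplit3.stalkHomologyIso (f.base x) P j)
  rcases hi with hi | hi
  · exact exactAt_tensor_of_lt E _ m n c hE hEfl (fun j hj => hLex j (Or.inl hj)) i hi
  · exact exactAt_tensor_of_gt E _ n d (fun j hj => hE j (Or.inr hj)) hEfl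
      (fun j hj => hLex j (Or.inr hj)) i hi

/-- cohomological bounds for `F ⊗^L Lf^* G` -/
theorem bounded_ltensor (f : X ⟶ Y) (F : CochainComplex X.Modules ℤ) (m n : ℤ)
    (hF : DerSch.HasTorAmplitude f m n F) (G : DCoh.D Y) (c d : ℤ) [G.IsGE c] [G.IsLE d]
    [DCoh.HasLpull f] (K₂ : CochainComplex X.Modules ℤ) [DCoh.HasLTensorCx K₂]
    (eK : DCoh.toD X K₂ ≅ (DCoh.Lpull f).obj G) :
    ((DCoh.LTensorCx K₂).obj (DCoh.toD X F)).IsGE (m + c) ∧
      ((DCoh.LTensorCx K₂).obj (DCoh.toD X F)).IsLE (n + d) := by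
  obtain ⟨P₁, q₁, hP₁, -, hq₁, -⟩ := Groth.Agent.Helper9.LTM3.exists_kflat_resolution F
  haveI : IsIso (DerivedCategory.Q.map q₁) :=
    (DerivedCategory.isIso_Q_map_iff_quasiIso _ _).2 hq₁
  have eP₁ : DCoh.toD X P₁ ≅ DCoh.toD X F := asIso (DerivedCategory.Q.map q₁)
  have hP₁F : DerSch.HasTorAmplitude f m n P₁ :=
    Groth.Agent.Helper9.BCT7.hasTorAmplitude_of_iso f eP₁.symm m n hF
  have i1 : @ModSite.HasLTensorCx _ _ _ X.sheaf K₂ := ‹DCoh.HasLTensorCx K₂›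
  have hiso := @Groth.Agent.Helper9.LTCx5.isIso_counit_app _ _ _ X.sheaf K₂ i1 P₁ hP₁
  have e2 : (DCoh.LTensorCx K₂).obj (DCoh.toD X F) ≅
      DCoh.toD X ((DCoh.tensorCx.obj P₁).obj K₂) :=
    (DCoh.LTensorCx K₂).mapIso eP₁.symm ≪≫ @asIso _ _ _ _ _ hiso
  have hex := exactAt_tensor_stalk f P₁ hP₁ m n hP₁F G c d K₂ eK
  haveI : ((DCoh.tensorCx.obj P₁).obj K₂).IsGE (m + c) :=
    (CochainComplex.isGE_iff _ _).2 (fun i hi => hex i (Or.inl hi))
  haveI : ((DCoh.tensorCx.obj P₁).obj K₂).IsLE (n + d) :=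
    (CochainComplex.isLE_iff _ _).2 (fun i hi => hex i (Or.inr hi))
  haveI h3 : (DCoh.toD X ((DCoh.tensorCx.obj P₁).obj K₂)).IsGE (m + c) := by
    show (DerivedCategory.Q.obj _).IsGE _
    infer_instance
  haveI h4 : (DCoh.toD X ((DCoh.tensorCx.obj P₁).obj K₂)).IsLE (n + d) := by
    show (DerivedCategory.Q.obj _).IsLE _
    infer_instance
  exact ⟨DerivedCategory.TStructure.t.isGE_of_iso e2.symm _,
    DerivedCategory.TStructure.t.isLE_of_iso e2.symm _⟩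

section External

variable {S X₁ Y₁ X₂ Y₂ : Scheme.{u}}

/-- the external tensor product with flat first factor -/
theorem main (f₁ : X₁ ⟶ Y₁) (q₁ : Y₁ ⟶ S) (h₂ : X₂ ⟶ S) [Flat q₁] [Flat (f₁ ≫ q₁)]
    (pX₁ : X ⟶ X₁) (pX₂ : X ⟶ X₂) (hX : IsPullback pX₁ pX₂ (f₁ ≫ q₁) h₂)
    (E₁ : CochainComplex X₁.Modules ℤ) (a₁ b₁ : ℤ) (h₁ : DerSch.HasTorAmplitude f₁ a₁ b₁ E₁)
    (G : DCoh.D X₂) (a₂ b₂ : ℤ) [G.IsGE a₂] [G.IsLE b₂]
    [DCoh.HasLpull pX₁] [DCoh.HasLpull pX₂]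
    (K₂ : CochainComplex X.Modules ℤ) [DCoh.HasLTensorCx K₂]
    (eK : DCoh.toD X K₂ ≅ (DCoh.Lpull pX₂).obj G) :
    ((DCoh.LTensorCx K₂).obj ((DCoh.Lpull pX₁).obj (DCoh.toD X₁ E₁))).IsGE (a₁ + a₂) ∧
      ((DCoh.LTensorCx K₂).obj ((DCoh.Lpull pX₁).obj (DCoh.toD X₁ E₁))).IsLE (b₁ + b₂) := by
  have h1 := Groth.Agent.Helper9.TorAmpSch1.hasTorAmplitude_comp f₁ q₁ 0
    (Groth.Agent.Helper9.TorAmpSch3.hasTorDimLE_of_flat q₁) E₁ a₁ b₁ h₁
  rw [Nat.cast_zero, sub_zero] at h1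
  have h2 := Groth.Agent.Helper9.BCT7.flat_left_of_isPullback hX E₁ a₁ b₁ h1
  let F₁ := DerivedCategory.Q.objPreimage ((DCoh.Lpull pX₁).obj (DCoh.toD X₁ E₁))
  have eF₁ : DCoh.toD X F₁ ≅ (DCoh.Lpull pX₁).obj (DCoh.toD X₁ E₁) :=
    DerivedCategory.Q.objObjPreimageIso _
  have h3 := h2 F₁ ⟨eF₁⟩
  obtain ⟨hge, hle⟩ := bounded_ltensor pX₂ F₁ a₁ b₁ h3 G a₂ b₂ K₂ eK
  exact ⟨DerivedCategory.TStructure.t.isGE_of_iso ((DCoh.LTensorCx K₂).mapIso eF₁) _,
    DerivedCategory.TStructure.t.isLE_of_iso ((DCoh.LTensorCx K₂).mapIso eF₁) _⟩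

end External

end Groth.Agent.Helper9.BCT9
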