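import Mathlib
import Groth.Agent.Helper9.BCech1
import Groth.Agent.Helper9.MapTotal

/-!
# Base change of the alternating Čech bicomplex
-/

set_option autoImplicit false
set_option linter.style.haveILetI false
set_option linter.unusedSectionVars false
set_option linter.unusedVariables false

namespace Groth.Agent.Helper9.BCech

open CategoryTheory Limits Opposite TopologicalSpace AlgebraicGeometry TensorProduct
open Groth.Agent.Helper1.TensSec Groth.Agent.Helper9.AltCech Groth.Agent.Helper9.HTorA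
  Groth.Agent.Lead.BCMap

universe u

variable (A A' : Type u) [CommRing A] [CommRing A'] [Algebra A A'] {X X' : Scheme.{u}}
  [X.Over (Spec (CommRingCat.of A))] [X'.Over (Spec (CommRingCat.of A'))] (g' : X' ⟶ X)
  (hw : g' ≫ (X ↘ Spec (CommRingCat.of A)) =
    (X' ↘ Spec (CommRingCat.of A')) ≫ Spec.map (CommRingCat.ofHom (algebraMap A A')))
  {t : ℕ} (U : Fin t → X.Opens)

/-- the preimage cover -/
abbrev Up : Fin t → X'.Opens := fun i => g' ⁻¹ᵁ U i

lemma cSys_preimage (n : ℕ) (x : Tup t n) :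
    (cSys (Up g' U)).V n x = g' ⁻¹ᵁ ((cSys U).V n x) := by
  apply Opens.ext
  show ((⊤ ⊓ ⨅ k, g' ⁻¹ᵁ U (x k) : X'.Opens) : Set X') =
    g'.base ⁻¹' ((⊤ ⊓ ⨅ k, U (x k) : X.Opens) : Set X)
  simp [Opens.coe_iInf, Set.preimage_iInter]

/-- the comparison in Čech degree `p` -/
noncomputable def cβ (n : ℕ) :
    famFn A (fun x : Tup t n => (cSys U).V n x) ⋙
        ModuleCat.extendScalars (algebraMap A A') ⟶
      Scheme.Modules.pullback g' ⋙
        famFn A' (fun x : Tup t n => (cSys (Up g' U)).V n x) :=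
  famβ A A' g' hw _ _ (fun x => (cSys_preimage g' U n x).le)

lemma cβ_app_tmul (n : ℕ) (F : X.Modules) (s : A') (c : Co (SecA A F) (cSys U) n)
    (x : Tup t n) :
    ((cβ A A' g' hw U n).app F).hom (s ⊗ₜ c) x =
      s • (show SecA A' ((Scheme.Modules.pullback g').obj F) ((cSys (Up g' U)).V n x) from
        pbSec g' F ((cSys U).V n x) ((cSys (Up g' U)).V n x) (cSys_preimage g' U n x).le
          (show Γ(F, (cSys U).V n x) from c x)) := rfl

/-- compatibility with the Čech differentials -/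
lemma cβ_d (n : ℕ) (F : X.Modules) (c : Co (SecA A F) (cSys U) n) :
    ((cβ A A' g' hw U (n + 1)).app F).hom
        ((1 : A') ⊗ₜ (AltCech.d (resM A F) (cSys U) n c)) =
      AltCech.d (resM A' ((Scheme.Modules.pullback g').obj F)) (cSys (Up g' U)) n
        (((cβ A A' g' hw U n).app F).hom ((1 : A') ⊗ₜ c)) := by
  funext x
  rw [cβ_app_tmul, one_smul, d_apply, d_apply]
  have h1 : ∀ j : Fin (n + 1),
      ((cβ A A' g' hw U n).app F).hom ((1 : A') ⊗ₜ c) (x.face j) =
        (show SecA A' ((Scheme.Modules.pullback g').obj F) ((cSys (Up g' U)).V n (x.face j)) from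
        pbSec g' F ((cSys U).V n (x.face j)) ((cSys (Up g' U)).V n (x.face j))
          (cSys_preimage g' U n (x.face j)).le (show Γ(F, (cSys U).V n (x.face j)) from
            c (x.face j))) := by
    intro j
    rw [cβ_app_tmul, one_smul]
  simp only [h1]
  refine (map_sum (pbSec g' F ((cSys U).V (n + 1) x) ((cSys (Up g' U)).V (n + 1) x)
    (cSys_preimage g' U (n + 1) x).le) _ _).trans ?_
  refine Finset.sum_congr rfl (fun j _ => ?_)
  refine (map_zsmul (pbSec g' F ((cSys U).V (n + 1) x) ((cSys (Up g' U)).V (n + 1) x)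
    (cSys_preimage g' U (n + 1) x).le) _ _).trans ?_
  congr 1
  exact pbSec_res g' F (cSys_preimage g' U n (x.face j)).le (cSys_preimage g' U (n + 1) x).le
    ((cSys U).le n x j) ((cSys (Up g' U)).le n x j) (show Γ(F, (cSys U).V n (x.face j)) from
      c (x.face j))

variable (hU : ∀ (n : ℕ) (x : Tup t (n + 1)), IsAffineOpen ((cSys U).V (n + 1) x))
  (hU' : ∀ (n : ℕ) (x : Tup t (n + 1)), IsAffineOpen ((cSys (Up g' U)).V (n + 1) x))

/-- the comparison in every degree of the Čech complex -/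
noncomputable def kβ : ∀ p : ℤ, ((K₁ A U hU).X p).fn ⋙
      ModuleCat.extendScalars (algebraMap A A') ⟶
    Scheme.Modules.pullback g' ⋙ ((K₁ A' (Up g' U) hU').X p).fn
  | Int.ofNat m => cβ A A' g' hw U (m + 1)
  | Int.negSucc _ => famβ A A' g' hw (fun _ : PEmpty.{1} => (⊤ : X.Opens))
      (fun _ => (⊤ : X'.Opens)) (fun x => x.elim)

lemma K₁_d_negSucc (m : ℕ) : (K₁ A U hU).d (Int.negSucc m) (Int.negSucc m + 1) = 0 :=
  CochainComplex.of_d (cX A U hU) (cDInt A U hU) (Int.negSucc m)

lemma kβ_d (p : ℤ) (F : X.Modules) :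
    (kβ A A' g' hw U hU hU' p).app F ≫
        ((K₁ A' (Up g' U) hU').d p (p + 1)).τ.app ((Scheme.Modules.pullback g').obj F) =
      (ModuleCat.extendScalars (algebraMap A A')).map (((K₁ A U hU).d p (p + 1)).τ.app F) ≫
        (kβ A A' g' hw U hU hU' (p + 1)).app F := by
  cases p with
  | ofNat m =>
    apply ModuleCat.ExtendScalars.hom_ext
    intro c
    have h1 := cβ_d A A' g' hw U (m + 1) F c
    have e1 : (((K₁ A' (Up g' U) hU').d (Int.ofNat m) (Int.ofNat m + 1)).τ.app
        ((Scheme.Modules.pullback g').obj F)).hom =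
        AltCech.d (resM A' ((Scheme.Modules.pullback g').obj F)) (cSys (Up g' U)) (m + 1) := by
      apply LinearMap.ext
      intro y
      exact K₁_d_apply A' (Up g' U) hU' m ((Scheme.Modules.pullback g').obj F) y
    have e2 : (((K₁ A U hU).d (Int.ofNat m) (Int.ofNat m + 1)).τ.app F).hom c =
        AltCech.d (resM A F) (cSys U) (m + 1) c := K₁_d_apply A U hU m F c
    show (((K₁ A' (Up g' U) hU').d (Int.ofNat m) (Int.ofNat m + 1)).τ.app _).hom
        (((cβ A A' g' hw U (m + 1)).app F).hom ((1 : A') ⊗ₜ c)) =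
      ((cβ A A' g' hw U (m + 1 + 1)).app F).hom
        ((1 : A') ⊗ₜ ((((K₁ A U hU).d (Int.ofNat m) (Int.ofNat m + 1)).τ.app F).hom c))
    rw [e1, e2]
    exact h1.symm
  | negSucc m =>
    rw [K₁_d_negSucc, K₁_d_negSucc]
    have z1 : ((0 : (K₁ A' (Up g' U) hU').X (Int.negSucc m) ⟶
        (K₁ A' (Up g' U) hU').X (Int.negSucc m + 1)).τ.app
          ((Scheme.Modules.pullback g').obj F)) = 0 := rfl
    have z2 : ((0 : (K₁ A U hU).X (Int.negSucc m) ⟶
        (K₁ A U hU).X (Int.negSucc m + 1)).τ.app F) = 0 := rfl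
    rw [z1, z2, comp_zero, Functor.map_zero, zero_comp]

variable (P : CochainComplex X.Modules ℤ)

/-- the base change comparison of bicomplexes -/
noncomputable def Φ : MapTotal.mapK (ModuleCat.extendScalars (algebraMap A A')) (BK A U hU P) ⟶
    BK A' (Up g' U) hU' ((HTor.pullCx g').obj P) where
  f p :=
    { f := fun q => (kβ A A' g' hw U hU hU' p).app (P.X q)
      comm' := fun q q' _ => ((kβ A A' g' hw U hU hU' p).naturality (P.d q q')).symm }
  comm' p p' h := by
    obtain rfl : p + 1 = p' := h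
    refine HomologicalComplex.hom_ext _ _ (fun q => ?_)
    exact kβ_d A A' g' hw U hU hU' p (P.X q)

theorem isIso_kβ_app
    (hsq : IsPullback g' (X' ↘ Spec (CommRingCat.of A')) (X ↘ Spec (CommRingCat.of A))
      (Spec.map (CommRingCat.ofHom (algebraMap A A'))))
    (p : ℤ) (F : X.Modules) [F.IsQuasicoherent] :
    IsIso ((kβ A A' g' hsq.w U hU hU' p).app F) := by
  cases p with
  | ofNat m =>
    exact isIso_famβ_app A A' g' _ _ hsq (hU m) (fun x => cSys_preimage g' U (m + 1) x) F
  | negSucc m =>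
    exact isIso_famβ_app A A' g' _ _ hsq (fun x => x.elim) (fun x => x.elim) F

theorem isIso_Φ
    (hsq : IsPullback g' (X' ↘ Spec (CommRingCat.of A')) (X ↘ Spec (CommRingCat.of A))
      (Spec.map (CommRingCat.ofHom (algebraMap A A'))))
    (hP : ∀ q, Coh.IsQCoh (P.X q)) :
    IsIso (Φ A A' g' hsq.w U hU hU' P) := by
  haveI : ∀ p, IsIso ((Φ A A' g' hsq.w U hU hU' P).f p) := fun p => by
    haveI : ∀ q, IsIso (((Φ A A' g' hsq.w U hU hU' P).f p).f q) := fun q => by
      haveI : (P.X q).IsQuasicoherent := hP q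
      exact isIso_kβ_app A A' g' U hU hU' hsq p (P.X q)
    exact HomologicalComplex.Hom.isIso_of_components _
  exact HomologicalComplex.Hom.isIso_of_components _

/-- base change of the Čech total complex -/
theorem nonempty_bc_iso
    (hsq : IsPullback g' (X' ↘ Spec (CommRingCat.of A')) (X ↘ Spec (CommRingCat.of A))
      (Spec.map (CommRingCat.ofHom (algebraMap A A'))))
    (hP : ∀ q, Coh.IsQCoh (P.X q)) :
    Nonempty (((ModuleCat.extendScalars (algebraMap A A')).mapHomologicalComplex
        (ComplexShape.up ℤ)).obj ((TT A U hU).obj P) ≅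
      (TT A' (Up g' U) hU').obj ((HTor.pullCx g').obj P)) := by
  haveI : PreservesColimitsOfSize.{0, 0} (ModuleCat.extendScalars.{u, u, u} (algebraMap A A')) :=
    (ModuleCat.extendRestrictScalarsAdj (algebraMap A A')).leftAdjoint_preservesColimits
  haveI := isIso_Φ A A' g' U hU hU' P hsq hP
  exact ⟨(MapTotal.mapTotalIso (ModuleCat.extendScalars (algebraMap A A')) (BK A U hU P)).symm ≪≫
    HomologicalComplex₂.total.mapIso (asIso (Φ A A' g' hsq.w U hU hU' P)) (ComplexShape.up ℤ)⟩

end Groth.Agent.Helper9.BCech
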