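import Mathlib
import Groth.Agent.Helper9.BCech2
import Groth.Agent.Helper9.HTorA14
import Groth.Agent.Helper6.LBCFlatCx

/-!
# Cohomology and base change for a flat complex, in derived form
-/

set_option autoImplicit false
set_option linter.style.haveILetI false
set_option linter.unusedSectionVars false
set_option linter.unusedVariables false

namespace Groth.Agent.Helper9.BCech

open CategoryTheory Limits Opposite TopologicalSpace AlgebraicGeometry TensorProduct
open Groth.Agent.Helper1.TensSec Groth.Agent.Helper9.AltCech Groth.Agent.Helper9.HTorA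
  Groth.Agent.Lead.BCMap

universe u

attribute [local instance] HasDerivedCategory.standard

variable (A A' : Type u) [CommRing A] [CommRing A'] [Algebra A A'] {X X' : Scheme.{u}}
  [X.Over (Spec (CommRingCat.of A))] [X'.Over (Spec (CommRingCat.of A'))] (g' : X' ⟶ X)

theorem computes_bc
    (hsq : IsPullback g' (X' ↘ Spec (CommRingCat.of A')) (X ↘ Spec (CommRingCat.of A))
      (Spec.map (CommRingCat.ofHom (algebraMap A A'))))
    [QuasiCompact (X ↘ Spec (CommRingCat.of A))]
    [IsSeparated (X ↘ Spec (CommRingCat.of A))] [HTor.HasRΓA (X ↘ Spec (CommRingCat.of A))]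
    [HTor.HasRΓA (X' ↘ Spec (CommRingCat.of A'))]
    (P : CochainComplex X.Modules ℤ) (hq : ∀ i : ℤ, Coh.IsQCoh (P.X i))
    (bP : ∃ b : ℤ, ∀ i : ℤ, b < i → IsZero (P.X i))
    (hfl : ∀ i : ℤ, FlatMod.IsFlatOver (X ↘ Spec (CommRingCat.of A)) (P.X i))
    (L : DRing.Cx A) (hL : ∀ i : ℤ, Projective (L.X i)) (c : ∃ c : ℤ, DRing.VanishesAbove L c)
    (e : HTor.Computes (X ↘ Spec (CommRingCat.of A)) L (DCoh.toD X P)) :
    HTor.Computes (X' ↘ Spec (CommRingCat.of A')) (CohIII.bcCx (algebraMap A A') L)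
      (DCoh.toD X' ((HTor.pullCx g').obj P)) := by
  obtain ⟨t, U, hU₀, hcov⟩ := Groth.Agent.Helper1.Bridge.exists_cover A (X := X)
  have hinf := Groth.Agent.Helper1.Bridge.affine_inf A (X := X)
  have hU := isAffineOpen_cSys hinf U hU₀
  haveI : IsAffineHom g' := Groth.Agent.Helper1.CechBC.isAffineHom_of_isPullback A A' g' hsq
  haveI : IsSeparated (X' ↘ Spec (CommRingCat.of A')) :=
    MorphismProperty.of_isPullback (P := @IsSeparated) hsq inferInstance
  have hU₀' : ∀ k, IsAffineOpen (Up g' U k) := fun k => (hU₀ k).preimage g'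
  have hinf' := Groth.Agent.Helper1.Bridge.affine_inf A' (X := X')
  have hU' := isAffineOpen_cSys hinf' (Up g' U) hU₀'
  have hcov' : (⊤ : X'.Opens) ≤ ⨆ k, Up g' U k := by
    rw [← Scheme.Hom.preimage_iSup, hcov]
    exact le_rfl
  obtain ⟨e⟩ := e
  obtain ⟨e1⟩ := nonempty_iso_RΓA A U hU (le_of_eq hcov.symm) P hq
  obtain ⟨c, hc⟩ := c
  obtain ⟨b, hb⟩ := bP
  haveI : L.IsStrictlyLE c := by
    rw [CochainComplex.isStrictlyLE_iff]
    exact hc
  haveI : ∀ n : ℤ, Projective (L.X n) := hL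
  haveI : L.IsKProjective := CochainComplex.isKProjective_of_projective L c
  obtain ⟨ψ, hψ⟩ := exists_quasiIso_of_iso L ((TT A U hU).obj P) (e ≪≫ e1.symm)
  have hLf : DRing.TermwiseFlat L := fun i => by
    haveI : Module.Projective A (L.X i) := (IsProjective.iff_projective (L.X i)).2 (hL i)
    infer_instance
  haveI := Groth.Agent.Helper6.LBCFlatCx.quasiIso_bcCxF_map (algebraMap A A') ψ c (b + t) hc
    (vanishesAbove_TT A U hU P b hb) hLf (termwiseFlat_TT A U hU P hq hfl) hψ
  obtain ⟨e2⟩ := nonempty_bc_iso A A' g' U hU hU' P hsq hq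
  obtain ⟨e3⟩ := nonempty_iso_RΓA A' (Up g' U) hU' hcov' ((HTor.pullCx g').obj P) (fun n => by
    haveI : (P.X n).IsQuasicoherent := hq n
    exact Groth.Agent.Lead.StalkPull.isQuasicoherent_pullbackObj g' (P.X n))
  exact ⟨asIso (DerivedCategory.Q.map
      ((Groth.Agent.Helper6.LBCCompute.bcCxF (algebraMap A A')).map ψ)) ≪≫
    DerivedCategory.Q.mapIso e2 ≪≫ e3⟩

end Groth.Agent.Helper9.BCech
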