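import Mathlib
import Groth.Prelude.Def_CAlg
import Groth.Agent.Helper6.DepthLemma
import Groth.Agent.Helper6.DepthPi
import Groth.Agent.Helper2.Depth

set_option autoImplicit false
set_option linter.unusedSectionVars false
set_option linter.style.haveILetI false
universe u

/-! The step of the acyclicity lemma (Peskine–Szpiro). -/

namespace Groth.Agent.Helper9.BE1

open IsLocalRing Groth.Agent.Helper6.DepthLemma

variable {S : Type u} [CommRing S] [IsLocalRing S] [IsNoetherianRing S]
variable {M N : Type u} [AddCommGroup M] [Module S M] [Module.Finite S M]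
  [AddCommGroup N] [Module S N] [Module.Finite S N]

/-- a nonzero finite module all of whose elements are killed by a power of the maximal ideal has
depth zero: formulated as a contradiction with `1 ≤ depth` -/
theorem subsingleton_of_torsion_of_one_le_depth
    (htors : ∀ z : M, ∃ k : ℕ, ∀ a ∈ maximalIdeal S ^ k, a • z = 0)
    (hd : (1 : ℕ∞) ≤ LocCoh.idealDepth (maximalIdeal S) M) : Subsingleton M := by
  by_contra hns
  rw [not_subsingleton_iff_nontrivial] at hns
  obtain ⟨z, hz⟩ := exists_ne (0 : M)
  classical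
  have hex := htors z
  set k := Nat.find hex with hk
  have hkspec : ∀ a ∈ maximalIdeal S ^ k, a • z = 0 := Nat.find_spec hex
  have hk0 : k ≠ 0 := by
    intro h0
    rw [h0, pow_zero, Ideal.one_eq_top] at hkspec
    exact hz (by simpa using hkspec 1 trivial)
  obtain ⟨k', hk'⟩ : ∃ k', k = k' + 1 := ⟨k - 1, by omega⟩
  have hnot : ¬ ∀ a ∈ maximalIdeal S ^ k', a • z = 0 := Nat.find_min hex (by omega)
  push Not at hnot
  obtain ⟨a, ha, haz⟩ := hnot
  have hkill : ∀ b ∈ maximalIdeal S, b • (a • z) = 0 := by
    intro b hb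
    rw [smul_smul]
    apply hkspec
    rw [hk', pow_succ']
    exact Ideal.mul_mem_mul hb ha
  have h0 : LocCoh.depth S M = 0 := by
    rw [Groth.Agent.Helper2.Depth.depth_eq_zero_iff]
    intro x hx hreg
    apply haz
    apply hreg
    simp only [smul_zero]
    exact hkill x hx
  unfold LocCoh.depth at h0
  rw [h0] at hd
  exact absurd hd (by simp)

/-- the step of the acyclicity lemma -/
theorem step (g : M →ₗ[S] N) (B : Submodule S M) (hB : B ≤ LinearMap.ker g) (j : ℕ) (hj : 1 ≤ j)
    (hd : (j : ℕ∞) ≤ LocCoh.idealDepth (maximalIdeal S) (M ⧸ B))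
    (htors : ∀ z ∈ LinearMap.ker g, ∃ k : ℕ, ∀ a ∈ maximalIdeal S ^ k, a • z ∈ B) :
    LinearMap.ker g = B ∧
      (j : ℕ∞) ≤ LocCoh.idealDepth (maximalIdeal S) (LinearMap.range g) := by
  -- the induced map on the quotient
  let gq : (M ⧸ B) →ₗ[S] N := B.liftQ g hB
  have hgq : ∀ x, gq (B.mkQ x) = g x := fun x => rfl
  -- the kernel of the induced map has depth at least one and is torsion
  have hker1 : (1 : ℕ∞) ≤ LocCoh.idealDepth (maximalIdeal S) (LinearMap.ker gq) := by
    have h1 : ((1 : ℕ) : ℕ∞) ≤ LocCoh.idealDepth (maximalIdeal S) (M ⧸ B) :=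
      le_trans (by exact_mod_cast hj) hd
    have := le_idealDepth_left (maximalIdeal S) (LinearMap.ker gq).subtype gq.rangeRestrict
      (Submodule.injective_subtype _) gq.surjective_rangeRestrict
      (by
        rw [LinearMap.exact_iff, LinearMap.ker_rangeRestrict, Submodule.range_subtype])
      1 h1 (by simp)
    exact_mod_cast this
  have hktors : ∀ z : LinearMap.ker gq, ∃ k : ℕ, ∀ a ∈ maximalIdeal S ^ k, a • z = 0 := by
    rintro ⟨z, hz⟩
    obtain ⟨x, rfl⟩ := B.mkQ_surjective z
    have hx : x ∈ LinearMap.ker g := by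
      rw [LinearMap.mem_ker, ← hgq]
      exact hz
    obtain ⟨k, hk⟩ := htors x hx
    refine ⟨k, fun a ha => ?_⟩
    apply Subtype.ext
    change a • B.mkQ x = 0
    rw [← map_smul, Submodule.mkQ_apply, Submodule.Quotient.mk_eq_zero]
    exact hk a ha
  have hsub := subsingleton_of_torsion_of_one_le_depth hktors hker1
  have hinj : Function.Injective gq := by
    rw [← LinearMap.ker_eq_bot]
    exact Submodule.eq_bot_of_subsingleton
  have hkerg : LinearMap.ker g = B := by
    apply le_antisymm _ hB
    intro x hx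
    have : gq (B.mkQ x) = 0 := by rw [hgq]; exact hx
    have h0 : B.mkQ x = 0 := hinj (by rw [this, map_zero])
    rwa [Submodule.mkQ_apply, Submodule.Quotient.mk_eq_zero] at h0
  refine ⟨hkerg, ?_⟩
  have hrange : LinearMap.range gq = LinearMap.range g := by
    apply le_antisymm
    · rintro _ ⟨y, rfl⟩
      obtain ⟨x, rfl⟩ := B.mkQ_surjective y
      exact ⟨x, rfl⟩
    · rintro _ ⟨x, rfl⟩
      exact ⟨B.mkQ x, rfl⟩
  let e : (M ⧸ B) ≃ₗ[S] LinearMap.range gq := LinearEquiv.ofInjective gq hinj
  have h2 : LocCoh.idealDepth (maximalIdeal S) (M ⧸ B) ≤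
      LocCoh.idealDepth (maximalIdeal S) (LinearMap.range gq) :=
    idealDepth_le_of_retract (maximalIdeal S) e.symm.toLinearMap e.toLinearMap (by
      ext x
      simp)
  rw [← hrange]
  exact hd.trans h2

/-- the quotient by a direct summand has depth at least the depth of the module -/
theorem depth_quotient_of_isCompl (B B' : Submodule S M) (h : IsCompl B B') :
    LocCoh.idealDepth (maximalIdeal S) M ≤ LocCoh.idealDepth (maximalIdeal S) (M ⧸ B) := by
  let e : (M ⧸ B) ≃ₗ[S] B' := Submodule.quotientEquivOfIsCompl B B' h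
  refine idealDepth_le_of_retract (maximalIdeal S) (B'.subtype ∘ₗ e.toLinearMap)
    (e.symm.toLinearMap ∘ₗ Submodule.projectionOnto B' B h.symm) ?_
  ext x
  simp only [LinearMap.coe_comp, LinearEquiv.coe_coe, Function.comp_apply, Submodule.mkQ_apply,
    Submodule.subtype_apply, LinearMap.id_comp]
  rw [Submodule.projectionOnto_apply_left, LinearEquiv.symm_apply_apply]

end Groth.Agent.Helper9.BE1
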