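import Mathlib
import Groth.Prelude.Def_CAlgX

set_option autoImplicit false
set_option linter.unusedSectionVars false
set_option linter.style.haveILetI false
universe u

/-! Localizing matrices: ideals of minors, grade conditions, and clearing denominators. -/

namespace Groth.Agent.Helper9.BE3

open Matrix RingTheory.Sequence

variable {S T : Type u} [CommRing S] [CommRing T]

theorem minorIdeal_map (f : S →+* T) {m n : Type} [Fintype m] [Fintype n] (A : Matrix m n S)
    (r : ℕ) : CAlgX.minorIdeal (A.map f) r = (CAlgX.minorIdeal A r).map f := by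
  unfold CAlgX.minorIdeal
  rw [Ideal.map_span, ← Set.range_comp]
  congr 1
  ext x
  constructor
  · rintro ⟨fg, rfl⟩
    refine ⟨fg, ?_⟩
    simp only [Function.comp_apply]
    rw [RingHom.map_det]
    rfl
  · rintro ⟨fg, rfl⟩
    refine ⟨fg, ?_⟩
    simp only [Function.comp_apply]
    rw [RingHom.map_det]
    rfl

theorem grade_transfer [Algebra S T] [Module.Flat S T] (I : Ideal S) (j : ℕ)
    (h : I = ⊤ ∨ ∃ rs : List S, rs.length = j ∧ (∀ r ∈ rs, r ∈ I) ∧ IsWeaklyRegular S rs) :
    I.map (algebraMap S T) = ⊤ ∨ ∃ rs : List T, rs.length = j ∧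
      (∀ r ∈ rs, r ∈ I.map (algebraMap S T)) ∧ IsWeaklyRegular T rs := by
  rcases h with h | ⟨rs, hlen, hmem, hreg⟩
  · left
    rw [h, Ideal.map_top]
  · right
    refine ⟨rs.map (algebraMap S T), by rw [List.length_map, hlen], ?_, hreg.of_flat⟩
    intro r hr
    obtain ⟨r', hr', rfl⟩ := List.mem_map.1 hr
    exact Ideal.mem_map_of_mem _ (hmem r' hr')

theorem map_mulVec_comp (f : S →+* T) {a b : ℕ} (A : Matrix (Fin a) (Fin b) S) (z : Fin b → S) :
    (A.map f) *ᵥ (f ∘ z) = f ∘ (A *ᵥ z) := by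
  ext i
  exact (RingHom.map_mulVec f A z i).symm

/-- clearing denominators: exactness of the localized pair gives a multiple in the range -/
theorem exists_smul_mem_range [Algebra S T] (M : Submonoid S) [IsLocalization M T]
    {a b c : ℕ} (A : Matrix (Fin a) (Fin b) S) (B : Matrix (Fin b) (Fin c) S)
    (hex : LinearMap.ker (A.map (algebraMap S T)).mulVecLin ≤
      LinearMap.range (B.map (algebraMap S T)).mulVecLin)
    (z : Fin b → S) (hz : A *ᵥ z = 0) : ∃ s ∈ M, s • z ∈ LinearMap.range B.mulVecLin := by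
  classical
  set f := algebraMap S T with hf
  have hz' : f ∘ z ∈ LinearMap.ker (A.map f).mulVecLin := by
    rw [LinearMap.mem_ker, Matrix.mulVecLin_apply, map_mulVec_comp, hz]
    ext i
    simp
  obtain ⟨w, hw⟩ := hex hz'
  rw [Matrix.mulVecLin_apply] at hw
  obtain ⟨d, hd⟩ := IsLocalization.exist_integer_multiples_of_finite M w
  choose w' hw' using hd
  have key : ∀ k, f ((B *ᵥ w') k - (d : S) * z k) = 0 := by
    intro k
    have h1 : f ((B *ᵥ w') k) = ((B.map f) *ᵥ (f ∘ w')) k := RingHom.map_mulVec f B w' k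
    have h2 : f ∘ w' = (d : S) • w := by
      ext i
      exact hw' i
    rw [map_sub, h1, h2, Matrix.mulVec_smul, hw, map_mul]
    simp [Algebra.smul_def, hf]
  have key2 : ∀ k, ∃ t : M, (t : S) * ((B *ᵥ w') k - (d : S) * z k) = 0 := fun k =>
    (IsLocalization.map_eq_zero_iff M T _).1 (key k)
  choose t ht using key2
  refine ⟨(∏ k, (t k : S)) * d, M.mul_mem (Submonoid.prod_mem M (fun k _ => (t k).2)) d.2,
    (∏ k, (t k : S)) • w', ?_⟩
  rw [Matrix.mulVecLin_apply, Matrix.mulVec_smul]
  ext k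
  have hk : (∏ k, (t k : S)) * ((B *ᵥ w') k - (d : S) * z k) = 0 := by
    rw [← Finset.mul_prod_erase Finset.univ _ (Finset.mem_univ k), mul_right_comm, ht k, zero_mul]
  simp only [Pi.smul_apply, smul_eq_mul]
  rw [mul_sub] at hk
  rw [sub_eq_zero.1 hk, mul_assoc]

end Groth.Agent.Helper9.BE3
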