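import Mathlib
import Groth.Prelude.Def_CAlgX

set_option autoImplicit false
set_option linter.unusedSectionVars false
set_option linter.style.haveILetI false
universe u

/-! Elementary facts on ideals of minors and the rank of a matrix; alternating sums. -/

namespace Groth.Agent.Helper9.BE5

open Matrix

variable {R : Type u} [CommRing R] {m n : Type} [Fintype m] [Fintype n]

theorem minorIdeal_eq_bot_iff (A : Matrix m n R) (r : ℕ) :
    CAlgX.minorIdeal A r = ⊥ ↔ ∀ (f : Fin r → m) (g : Fin r → n), (A.submatrix f g).det = 0 := by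
  unfold CAlgX.minorIdeal
  rw [Ideal.span_eq_bot]
  constructor
  · intro h f g
    exact h _ ⟨(f, g), rfl⟩
  · rintro h _ ⟨fg, rfl⟩
    exact h fg.1 fg.2

theorem det_mem_minorIdeal (A : Matrix m n R) (r : ℕ) (f : Fin r → m) (g : Fin r → n) :
    (A.submatrix f g).det ∈ CAlgX.minorIdeal A r :=
  Ideal.subset_span ⟨(f, g), rfl⟩

theorem minorIdeal_eq_bot_of_card_lt (A : Matrix m n R) (r : ℕ) (h : Fintype.card n < r) :
    CAlgX.minorIdeal A r = ⊥ := by
  rw [minorIdeal_eq_bot_iff]
  intro f g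
  obtain ⟨a, b, hab, hg⟩ := Fintype.exists_ne_map_eq_of_card_lt g (by simpa using h)
  apply Matrix.det_zero_of_column_eq hab
  intro k
  simp [Matrix.submatrix_apply, hg]

theorem bddAbove (A : Matrix m n R) : BddAbove {r : ℕ | CAlgX.minorIdeal A r ≠ ⊥} := by
  refine ⟨Fintype.card n, ?_⟩
  intro r hr
  by_contra hlt
  exact hr (minorIdeal_eq_bot_of_card_lt A r (by omega))

theorem minorIdeal_matrixRank_succ (A : Matrix m n R) :
    CAlgX.minorIdeal A (CAlgX.matrixRank A + 1) = ⊥ := by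
  by_contra hne
  have : CAlgX.matrixRank A + 1 ≤ CAlgX.matrixRank A := le_csSup (bddAbove A) hne
  omega

theorem minorIdeal_succ_le (A : Matrix m n R) (r : ℕ) :
    CAlgX.minorIdeal A (r + 1) ≤ CAlgX.minorIdeal A r := by
  unfold CAlgX.minorIdeal
  rw [Ideal.span_le]
  rintro _ ⟨fg, rfl⟩
  simp only
  rw [Matrix.det_succ_row_zero]
  refine Ideal.sum_mem _ (fun j _ => ?_)
  apply Ideal.mul_mem_left
  exact Ideal.subset_span ⟨(fg.1 ∘ Fin.succ, fg.2 ∘ j.succAbove), rfl⟩

theorem minorIdeal_eq_bot_of_le (A : Matrix m n R) (r k : ℕ) (h : CAlgX.minorIdeal A r = ⊥)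
    (hk : r ≤ k) : CAlgX.minorIdeal A k = ⊥ := by
  induction k, hk using Nat.le_induction with
  | base => exact h
  | succ k _ ih => exact le_bot_iff.1 ((minorIdeal_succ_le A k).trans (le_of_eq ih))

theorem matrixRank_eq (A : Matrix m n R) (r : ℕ) (h1 : CAlgX.minorIdeal A (r + 1) = ⊥)
    (h2 : CAlgX.minorIdeal A r ≠ ⊥) : CAlgX.matrixRank A = r := by
  apply le_antisymm
  · apply csSup_le ⟨r, h2⟩
    intro k hk
    by_contra hlt
    exact hk (minorIdeal_eq_bot_of_le A (r + 1) k h1 (by omega))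
  · exact le_csSup (bddAbove A) h2

theorem minorIdeal_zero_matrix (r : ℕ) :
    CAlgX.minorIdeal (0 : Matrix m n R) (r + 1) = ⊥ := by
  rw [minorIdeal_eq_bot_iff]
  intro f g
  have : (0 : Matrix m n R).submatrix f g = 0 := by
    ext a b
    simp
  rw [this, Matrix.det_zero]

/-- the alternating sum of the ranks from position `j` -/
def altsum (n : ℕ → ℕ) (e j : ℕ) : ℤ := ∑ t ∈ Finset.Icc j e, (-1 : ℤ) ^ (t - j) * (n t : ℤ)

theorem altsum_of_lt (n : ℕ → ℕ) (e j : ℕ) (h : e < j) : altsum n e j = 0 := by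
  unfold altsum
  rw [Finset.Icc_eq_empty (by omega), Finset.sum_empty]

theorem altsum_step (n : ℕ → ℕ) (e j : ℕ) (h : j ≤ e) :
    altsum n e j = (n j : ℤ) - altsum n e (j + 1) := by
  unfold altsum
  rw [← Finset.insert_Icc_succ_left_eq_Icc h, Finset.sum_insert (by simp)]
  simp only [Nat.sub_self, pow_zero, one_mul, Order.succ_eq_add_one]
  rw [sub_eq_add_neg, ← Finset.sum_neg_distrib]
  congr 1
  apply Finset.sum_congr rfl
  intro t ht
  rw [Finset.mem_Icc] at ht
  have : t - j = (t - (j + 1)) + 1 := by omega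
  rw [this, pow_succ]
  ring

end Groth.Agent.Helper9.BE5
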