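import Mathlib
import Groth.Prelude.Def_CAlgX
import Groth.Agent.Helper6.FFRes
import Groth.Agent.Helper8.MinorSummand

set_option autoImplicit false
set_option linter.unusedSectionVars false
set_option linter.style.haveILetI false
universe u

/-! Finite free resolutions over a local ring of depth zero are split: ranks and minors. -/

namespace Groth.Agent.Helper9.BE7

open Matrix IsLocalRing

/-- a submodule with projective quotient has a complement -/
theorem exists_isCompl_of_projective_quotient {S : Type u} [CommRing S] {F : Type u}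
    [AddCommGroup F] [Module S F] (K : Submodule S F) [Module.Projective S (F ⧸ K)] :
    ∃ N' : Submodule S F, IsCompl K N' := by
  obtain ⟨s, hs⟩ := Module.projective_lifting_property K.mkQ LinearMap.id K.mkQ_surjective
  have hs' : ∀ y, K.mkQ (s y) = y := fun y => LinearMap.congr_fun hs y
  refine ⟨LinearMap.range s, ?_⟩
  constructor
  · rw [Submodule.disjoint_def]
    rintro x hxK ⟨y, rfl⟩
    have : y = 0 := by
      rw [← hs' y, Submodule.mkQ_apply, Submodule.Quotient.mk_eq_zero]
      exact hxK
    rw [this, map_zero]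
  · rw [codisjoint_iff, eq_top_iff]
    intro x _
    have h1 : x - s (K.mkQ x) ∈ K := by
      rw [← Submodule.Quotient.mk_eq_zero, Submodule.Quotient.mk_sub, ← Submodule.mkQ_apply,
        ← Submodule.mkQ_apply, hs', sub_self]
    have : x = (x - s (K.mkQ x)) + s (K.mkQ x) := by abel
    rw [this]
    exact Submodule.add_mem_sup h1 ⟨_, rfl⟩

variable {S : Type u} [CommRing S] [IsLocalRing S] [IsNoetherianRing S]

theorem depth_zero (w : S) (hw : w ≠ 0) (hmw : ∀ a ∈ maximalIdeal S, a * w = 0)
    (e : ℕ) (he : 1 ≤ e) (n : ℕ → ℕ) (A : (i : ℕ) → Matrix (Fin (n i)) (Fin (n (i + 1))) S)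
    (hlast : LinearMap.ker (A (e - 1)).mulVecLin = ⊥)
    (hex : ∀ i, i + 2 ≤ e →
      LinearMap.ker (A i).mulVecLin = LinearMap.range (A (i + 1)).mulVecLin) :
    ∃ ρ : ℕ → ℕ, (∀ i, e ≤ i → ρ i = 0) ∧ (∀ i, i < e → ρ i + ρ (i + 1) = n (i + 1)) ∧
      ∀ i, i < e → CAlgX.minorIdeal (A i) (ρ i + 1) = ⊥ ∧ CAlgX.minorIdeal (A i) (ρ i) = ⊤ := by
  classical
  let f : ∀ i, (Fin (n (i + 1)) → S) →ₗ[S] (Fin (n i) → S) := fun i => (A i).mulVecLin
  have hex' : ∀ i, i + 2 ≤ e → Function.Exact (f (i + 1)) (f i) := fun i hi =>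
    LinearMap.exact_iff.mpr (hex i hi)
  have hinj : Function.Injective (f (e - 1)) := LinearMap.ker_eq_bot.mp hlast
  have hfree : ∀ i, i < e → Module.Free S (LinearMap.range (f i)) := fun i hi =>
    (Groth.Agent.Helper6.FFRes.local_ranks w hw hmw n f e hex' hinj (e - 1 - i) i (by omega)).1
  let ρ : ℕ → ℕ := fun i => if i < e then Module.finrank S (LinearMap.range (f i)) else 0
  have hρpos : ∀ i, i < e → ρ i = Module.finrank S (LinearMap.range (f i)) := fun i hi => if_pos hi
  have hρneg : ∀ i, e ≤ i → ρ i = 0 := fun i hi => if_neg (by omega)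
  refine ⟨ρ, hρneg, ?_, ?_⟩
  · intro i hi
    rw [hρpos i hi]
    by_cases hi2 : i + 2 ≤ e
    · rw [hρpos (i + 1) (by omega)]
      haveI : Module.Free S (LinearMap.range (f (i + 1))) := hfree (i + 1) (by omega)
      have hK : LinearMap.ker (f i) = LinearMap.range (f (i + 1)) := hex i hi2
      haveI : Module.Free S (LinearMap.ker (f i)) := hK ▸ this
      obtain ⟨-, hqr⟩ := Groth.Agent.Helper6.FFRes.free_quotient_of_free w hw hmw
        (Fin (n (i + 1)) → S) (LinearMap.ker (f i))
      rw [Module.finrank_fin_fun, (f i).quotKerEquivRange.finrank_eq] at hqr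
      have h2 : Module.finrank S (LinearMap.ker (f i)) =
          Module.finrank S (LinearMap.range (f (i + 1))) := by rw [hK]
      rw [h2] at hqr
      exact hqr
    · have hie : i = e - 1 := by omega
      rw [hρneg (i + 1) (by omega), add_zero]
      have hinj' : Function.Injective (f i) := by rw [hie]; exact hinj
      rw [← (LinearEquiv.ofInjective (f i) hinj').finrank_eq, Module.finrank_fin_fun]
  · intro i hi
    haveI : Module.Free S (LinearMap.range (f i)) := hfree i hi
    obtain ⟨hq, -⟩ := Groth.Agent.Helper6.FFRes.free_quotient_of_free w hw hmw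
      (Fin (n i) → S) (LinearMap.range (f i))
    haveI := hq
    obtain ⟨N', hc⟩ := exists_isCompl_of_projective_quotient (LinearMap.range (f i))
    exact Groth.Agent.Helper8.MinorSummand.forward (n i) (n (i + 1)) (ρ i) (A i) N' hc
      (hρpos i hi).symm

end Groth.Agent.Helper9.BE7
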