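import Mathlib
import Groth.Prelude.Def_CAlgX
import Groth.Agent.Helper9.BE3
import Groth.Agent.Helper9.BE7

set_option autoImplicit false
set_option linter.unusedSectionVars false
set_option linter.style.haveILetI false
universe u

/-! Finite free resolutions over a Noetherian ring: the ideals of minors at the associated primes. -/

namespace Groth.Agent.Helper9.BE8

open Matrix IsLocalRing

section Loc

variable {S T : Type u} [CommRing S] [CommRing T] [Algebra S T]

/-- localization preserves exactness of a pair of matrices -/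
theorem ker_map_le_range_map (M : Submonoid S) [IsLocalization M T]
    {a b c : ℕ} (A : Matrix (Fin a) (Fin b) S) (B : Matrix (Fin b) (Fin c) S)
    (h : LinearMap.ker A.mulVecLin ≤ LinearMap.range B.mulVecLin) :
    LinearMap.ker (A.map (algebraMap S T)).mulVecLin ≤
      LinearMap.range (B.map (algebraMap S T)).mulVecLin := by
  classical
  set f := algebraMap S T with hf
  intro z' hz'
  rw [LinearMap.mem_ker, Matrix.mulVecLin_apply] at hz'
  obtain ⟨d, hd⟩ := IsLocalization.exist_integer_multiples_of_finite M z'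
  choose z hz using hd
  have hfz : f ∘ z = (d : S) • z' := by
    ext i
    exact hz i
  have key : ∀ k, f ((A *ᵥ z) k) = 0 := by
    intro k
    rw [RingHom.map_mulVec f A z k, hfz, Matrix.mulVec_smul, hz']
    simp
  have key2 : ∀ k, ∃ t : M, (t : S) * (A *ᵥ z) k = 0 := fun k =>
    (IsLocalization.map_eq_zero_iff M T _).1 (key k)
  choose t ht using key2
  set tt : S := ∏ k, (t k : S) with htt
  have httM : tt ∈ M := Submonoid.prod_mem M (fun k _ => (t k).2)
  have hker : tt • z ∈ LinearMap.ker A.mulVecLin := by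
    rw [LinearMap.mem_ker, Matrix.mulVecLin_apply, Matrix.mulVec_smul]
    ext k
    simp only [Pi.smul_apply, smul_eq_mul, Pi.zero_apply]
    rw [htt, ← Finset.mul_prod_erase Finset.univ _ (Finset.mem_univ k), mul_right_comm, ht k,
      zero_mul]
  obtain ⟨w, hw⟩ := h hker
  rw [Matrix.mulVecLin_apply] at hw
  have hu : IsUnit (f (tt * d)) := IsLocalization.map_units T ⟨tt * d, M.mul_mem httM d.2⟩
  obtain ⟨u, hu⟩ := hu
  refine ⟨(↑u⁻¹ : T) • (f ∘ w), ?_⟩
  rw [Matrix.mulVecLin_apply, Matrix.mulVec_smul, BE3.map_mulVec_comp, hw]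
  have h2 : f ∘ (tt • z) = f tt • (f ∘ z) := by
    ext i
    simp
  rw [h2, hfz]
  ext i
  change (↑u⁻¹ : T) * (f tt * ((d : S) • z' i)) = z' i
  rw [Algebra.smul_def, ← hf, ← mul_assoc (f tt), ← map_mul, ← hu, ← mul_assoc, Units.inv_mul,
    one_mul]

theorem ker_map_eq_bot (M : Submonoid S) [IsLocalization M T]
    {a b : ℕ} (A : Matrix (Fin a) (Fin b) S) (h : LinearMap.ker A.mulVecLin = ⊥) :
    LinearMap.ker (A.map (algebraMap S T)).mulVecLin = ⊥ := by
  have := ker_map_le_range_map (T := T) M A (0 : Matrix (Fin b) (Fin 0) S) (by rw [h]; exact bot_le)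
  rw [eq_bot_iff]
  refine this.trans ?_
  rintro _ ⟨v, rfl⟩
  have : v = 0 := Subsingleton.elim _ _
  rw [this, map_zero]
  exact Submodule.zero_mem _

end Loc

variable {R : Type u} [CommRing R] [IsNoetherianRing R]

/-- the relations determine the expected ranks -/
theorem rho_unique (e : ℕ) (n : ℕ → ℕ) (ρ ρ' : ℕ → ℕ) (h0 : ∀ i, e ≤ i → ρ i = 0)
    (h0' : ∀ i, e ≤ i → ρ' i = 0) (h : ∀ i, i < e → ρ i + ρ (i + 1) = n (i + 1))
    (h' : ∀ i, i < e → ρ' i + ρ' (i + 1) = n (i + 1)) : ∀ i, ρ i = ρ' i := by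
  have key : ∀ k i, i + k = e → ρ i = ρ' i := by
    intro k
    induction k with
    | zero =>
      intro i hi
      rw [h0 i (by omega), h0' i (by omega)]
    | succ k ih =>
      intro i hi
      have h1 := h i (by omega)
      have h2 := h' i (by omega)
      have h3 := ih (i + 1) (by omega)
      omega
  intro i
  by_cases hi : i ≤ e
  · exact key (e - i) i (by omega)
  · rw [h0 i (by omega), h0' i (by omega)]

theorem at_assoc (P : Ideal R) [P.IsPrime] (z : R)
    (hz : P = Submodule.colon (⊥ : Submodule R R) {z})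
    (e : ℕ) (he : 1 ≤ e) (n : ℕ → ℕ) (A : (i : ℕ) → Matrix (Fin (n i)) (Fin (n (i + 1))) R)
    (hA : ∀ i, i + 2 ≤ e → A i * A (i + 1) = 0)
    (hlast : LinearMap.ker (A (e - 1)).mulVecLin = ⊥)
    (hex : ∀ i, i + 2 ≤ e →
      LinearMap.ker (A i).mulVecLin = LinearMap.range (A (i + 1)).mulVecLin) :
    ∃ ρ : ℕ → ℕ, (∀ i, e ≤ i → ρ i = 0) ∧ (∀ i, i < e → ρ i + ρ (i + 1) = n (i + 1)) ∧
      ∀ i, i < e →
        (CAlgX.minorIdeal (A i) (ρ i + 1)).map (algebraMap R (Localization.AtPrime P)) = ⊥ ∧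
        (CAlgX.minorIdeal (A i) (ρ i)).map (algebraMap R (Localization.AtPrime P)) = ⊤ := by
  let S := Localization.AtPrime P
  let M := P.primeCompl
  let w : S := algebraMap R S z
  have hw : w ≠ 0 := by
    intro h0
    obtain ⟨m, hm⟩ := (IsLocalization.map_eq_zero_iff M S z).mp h0
    apply m.2
    show (m : R) ∈ P
    rw [hz, Submodule.mem_colon_singleton, Submodule.mem_bot]
    exact hm
  have hmw : ∀ a ∈ IsLocalRing.maximalIdeal S, a * w = 0 := by
    have hle : Ideal.map (algebraMap R S) P ≤ LinearMap.ker (LinearMap.toSpanSingleton S S w) := by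
      rw [Ideal.map_le_iff_le_comap]
      intro p hp
      rw [hz, Submodule.mem_colon_singleton, Submodule.mem_bot] at hp
      show algebraMap R S p ∈ LinearMap.ker (LinearMap.toSpanSingleton S S w)
      rw [LinearMap.mem_ker, LinearMap.toSpanSingleton_apply, smul_eq_mul, ← map_mul]
      rw [smul_eq_mul] at hp
      rw [hp, map_zero]
    intro a ha
    rw [← IsLocalization.AtPrime.map_eq_maximalIdeal P S] at ha
    have := hle ha
    rwa [LinearMap.mem_ker, LinearMap.toSpanSingleton_apply, smul_eq_mul] at this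
  have hlast' : LinearMap.ker ((A (e - 1)).map (algebraMap R S)).mulVecLin = ⊥ :=
    ker_map_eq_bot M _ hlast
  have hex' : ∀ i, i + 2 ≤ e → LinearMap.ker ((A i).map (algebraMap R S)).mulVecLin =
      LinearMap.range ((A (i + 1)).map (algebraMap R S)).mulVecLin := by
    intro i hi
    apply le_antisymm (ker_map_le_range_map M _ _ (hex i hi).le)
    rintro _ ⟨v, rfl⟩
    rw [LinearMap.mem_ker, Matrix.mulVecLin_apply, Matrix.mulVecLin_apply, Matrix.mulVec_mulVec,
      ← Matrix.map_mul, hA i hi]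
    ext k
    simp [Matrix.mulVec, dotProduct]
  obtain ⟨ρ, h0, hrel, hmin⟩ := BE7.depth_zero w hw hmw e he n
    (fun i => (A i).map (algebraMap R S)) hlast' hex'
  refine ⟨ρ, h0, hrel, fun i hi => ?_⟩
  obtain ⟨h1, h2⟩ := hmin i hi
  rw [BE3.minorIdeal_map] at h1 h2
  exact ⟨h1, h2⟩

/-- existence of the expected ranks -/
theorem exists_rho [Nontrivial R]
    (e : ℕ) (he : 1 ≤ e) (n : ℕ → ℕ) (A : (i : ℕ) → Matrix (Fin (n i)) (Fin (n (i + 1))) R)
    (hA : ∀ i, i + 2 ≤ e → A i * A (i + 1) = 0)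
    (hlast : LinearMap.ker (A (e - 1)).mulVecLin = ⊥)
    (hex : ∀ i, i + 2 ≤ e →
      LinearMap.ker (A i).mulVecLin = LinearMap.range (A (i + 1)).mulVecLin) :
    ∃ ρ : ℕ → ℕ, (∀ i, e ≤ i → ρ i = 0) ∧ (∀ i, i < e → ρ i + ρ (i + 1) = n (i + 1)) := by
  obtain ⟨P, hP⟩ := associatedPrimes.nonempty R R
  obtain ⟨hprime, z, hz⟩ := isAssociatedPrime_iff.mp hP
  haveI := hprime
  obtain ⟨ρ, h0, hrel, -⟩ := at_assoc P z hz e he n A hA hlast hex
  exact ⟨ρ, h0, hrel⟩

/-- the ideals of minors of a finite free resolution: vanishing above the expected rank, and a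
nonzerodivisor at the expected rank -/
theorem minors
    (e : ℕ) (he : 1 ≤ e) (n : ℕ → ℕ) (A : (i : ℕ) → Matrix (Fin (n i)) (Fin (n (i + 1))) R)
    (hA : ∀ i, i + 2 ≤ e → A i * A (i + 1) = 0)
    (hlast : LinearMap.ker (A (e - 1)).mulVecLin = ⊥)
    (hex : ∀ i, i + 2 ≤ e →
      LinearMap.ker (A i).mulVecLin = LinearMap.range (A (i + 1)).mulVecLin)
    (ρ : ℕ → ℕ) (h0 : ∀ i, e ≤ i → ρ i = 0) (hrel : ∀ i, i < e → ρ i + ρ (i + 1) = n (i + 1)) :
    ∀ i, i < e → CAlgX.minorIdeal (A i) (ρ i + 1) = ⊥ ∧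
      ∃ x ∈ CAlgX.minorIdeal (A i) (ρ i), x ∈ nonZeroDivisors R := by
  intro i hi
  have hassoc : ∀ (P : Ideal R), IsAssociatedPrime P R → ∃ _ : P.IsPrime,
      (CAlgX.minorIdeal (A i) (ρ i + 1)).map (algebraMap R (Localization.AtPrime P)) = ⊥ ∧
      (CAlgX.minorIdeal (A i) (ρ i)).map (algebraMap R (Localization.AtPrime P)) = ⊤ := by
    intro P hP
    obtain ⟨hprime, z, hz⟩ := isAssociatedPrime_iff.mp hP
    haveI := hprime
    obtain ⟨ρ', h0', hrel', hmin⟩ := at_assoc P z hz e he n A hA hlast hex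
    have hρ : ∀ i, ρ' i = ρ i := rho_unique e n ρ' ρ h0' h0 hrel' hrel
    have := hmin i hi
    rw [hρ i] at this
    exact ⟨hprime, this⟩
  constructor
  · rw [eq_bot_iff]
    intro x hx
    rw [Ideal.mem_bot]
    by_contra hx0
    obtain ⟨P, hP, hle⟩ := exists_le_isAssociatedPrime_of_isNoetherianRing R x hx0
    obtain ⟨hprime, h1, -⟩ := hassoc P hP
    haveI := hprime
    have hfx : algebraMap R (Localization.AtPrime P) x = 0 := by
      have : algebraMap R (Localization.AtPrime P) x ∈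
          (CAlgX.minorIdeal (A i) (ρ i + 1)).map (algebraMap R (Localization.AtPrime P)) :=
        Ideal.mem_map_of_mem _ hx
      rw [h1] at this
      exact this
    obtain ⟨t, ht⟩ := (IsLocalization.map_eq_zero_iff P.primeCompl _ x).mp hfx
    apply t.2
    apply hle
    rw [Submodule.mem_colon_singleton, Submodule.mem_bot]
    exact ht
  · by_contra hcon
    push Not at hcon
    have hfin : (associatedPrimes R R).Finite := associatedPrimes.finite R R
    have hsub : ((CAlgX.minorIdeal (A i) (ρ i) : Ideal R) : Set R) ⊆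
        ⋃ P ∈ ((hfin.toFinset : Finset (Ideal R)) : Set (Ideal R)), (P : Set R) := by
      intro x hx
      have hx' : x ∈ (nonZeroDivisors R : Set R)ᶜ := hcon x hx
      rw [← biUnion_associatedPrimes_eq_compl_nonZeroDivisors R] at hx'
      simpa using hx'
    obtain ⟨P₀, hP₀, hle⟩ := (Ideal.subset_union_prime (f := fun P : Ideal R => P) ⊥ ⊥
      (fun P hP _ _ => (hfin.mem_toFinset.mp hP).isPrime)).mp hsub
    have hP₀' : IsAssociatedPrime P₀ R := hfin.mem_toFinset.mp hP₀
    obtain ⟨hprime, -, h2⟩ := hassoc P₀ hP₀'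
    haveI := hprime
    have hne : Ideal.map (algebraMap R (Localization.AtPrime P₀)) P₀ ≠ ⊤ := by
      rw [IsLocalization.AtPrime.map_eq_maximalIdeal P₀ (Localization.AtPrime P₀)]
      exact Ideal.IsPrime.ne_top'
    apply hne
    rw [eq_top_iff, ← h2]
    exact Ideal.map_mono hle

end Groth.Agent.Helper9.BE8
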