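import Mathlib
import Groth.Prelude.Def_CAlgX
import Groth.Agent.Helper9.BE3
import Groth.Agent.Helper9.BE8

set_option autoImplicit false
set_option linter.unusedSectionVars false
set_option linter.style.haveILetI false
universe u

/-! The Buchsbaum–Eisenbud criterion, necessity: induction by reduction modulo a nonzerodivisor
contained in all the ideals of minors. -/

namespace Groth.Agent.Helper9.BE9

open Matrix RingTheory.Sequence Pointwise

variable {R : Type u} [CommRing R]

theorem isSMulRegular_of_mem_nonZeroDivisors (x : R) (hx : x ∈ nonZeroDivisors R) :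
    IsSMulRegular R x := by
  intro a b hab
  simp only [smul_eq_mul] at hab
  have : x * (a - b) = 0 := by rw [mul_sub, hab, sub_self]
  have h2 : a - b = 0 := (mul_left_mem_nonZeroDivisors_eq_zero_iff hx).1 this
  exact sub_eq_zero.1 h2

/-- exactness survives reduction modulo a nonzerodivisor, one step to the left -/
theorem exact_mod (x : R) (hx : x ∈ nonZeroDivisors R) {a b c d : ℕ}
    (P : Matrix (Fin a) (Fin b) R) (Q : Matrix (Fin b) (Fin c) R) (T : Matrix (Fin c) (Fin d) R)
    (hPQ : P * Q = 0) (h1 : LinearMap.ker P.mulVecLin ≤ LinearMap.range Q.mulVecLin)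
    (h2 : LinearMap.ker Q.mulVecLin ≤ LinearMap.range T.mulVecLin) :
    LinearMap.ker (Q.map (Ideal.Quotient.mk (Ideal.span {x}))).mulVecLin ≤
      LinearMap.range (T.map (Ideal.Quotient.mk (Ideal.span {x}))).mulVecLin := by
  set f := Ideal.Quotient.mk (Ideal.span {x}) with hf
  intro z' hz'
  rw [LinearMap.mem_ker, Matrix.mulVecLin_apply] at hz'
  have hsurj : ∀ i, ∃ y, f y = z' i := fun i => Ideal.Quotient.mk_surjective (z' i)
  choose z hz using hsurj
  have hfz : f ∘ z = z' := funext hz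
  have key : ∀ k, ∃ u, (Q *ᵥ z) k = x * u := by
    intro k
    have : f ((Q *ᵥ z) k) = 0 := by
      rw [RingHom.map_mulVec f Q z k, hfz, hz']
      rfl
    rw [hf, Ideal.Quotient.eq_zero_iff_mem, Ideal.mem_span_singleton'] at this
    obtain ⟨u, hu⟩ := this
    exact ⟨u, by rw [← hu, mul_comm]⟩
  choose u hu using key
  have hQz : Q *ᵥ z = x • u := by
    ext k
    rw [hu k]
    rfl
  have hPu : P *ᵥ u = 0 := by
    have h0 : x • (P *ᵥ u) = 0 := by
      rw [← Matrix.mulVec_smul, ← hQz, Matrix.mulVec_mulVec, hPQ, Matrix.zero_mulVec]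
    ext k
    have := congrFun h0 k
    simp only [Pi.smul_apply, smul_eq_mul, Pi.zero_apply] at this
    exact (mul_left_mem_nonZeroDivisors_eq_zero_iff hx).1 this
  obtain ⟨v, hv⟩ := h1 (by rw [LinearMap.mem_ker, Matrix.mulVecLin_apply]; exact hPu : u ∈ _)
  rw [Matrix.mulVecLin_apply] at hv
  have hker : z - x • v ∈ LinearMap.ker Q.mulVecLin := by
    rw [LinearMap.mem_ker, Matrix.mulVecLin_apply, Matrix.mulVec_sub, Matrix.mulVec_smul, hv, hQz,
      sub_self]
  obtain ⟨w, hw⟩ := h2 hker
  rw [Matrix.mulVecLin_apply] at hw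
  refine ⟨f ∘ w, ?_⟩
  rw [Matrix.mulVecLin_apply, BE3.map_mulVec_comp, hw, ← hfz]
  ext k
  simp only [Function.comp_apply, Pi.sub_apply, Pi.smul_apply, smul_eq_mul, map_sub, map_mul]
  have : f x = 0 := by
    rw [hf, Ideal.Quotient.eq_zero_iff_mem]
    exact Ideal.mem_span_singleton_self x
  rw [this, zero_mul, sub_zero]

theorem exact_mod_last (x : R) (hx : x ∈ nonZeroDivisors R) {a b c : ℕ}
    (P : Matrix (Fin a) (Fin b) R) (Q : Matrix (Fin b) (Fin c) R)
    (hPQ : P * Q = 0) (h1 : LinearMap.ker P.mulVecLin ≤ LinearMap.range Q.mulVecLin)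
    (h2 : LinearMap.ker Q.mulVecLin = ⊥) :
    LinearMap.ker (Q.map (Ideal.Quotient.mk (Ideal.span {x}))).mulVecLin = ⊥ := by
  have := exact_mod x hx P Q (0 : Matrix (Fin c) (Fin 0) R) hPQ h1 (by rw [h2]; exact bot_le)
  rw [eq_bot_iff]
  refine this.trans ?_
  rintro _ ⟨v, rfl⟩
  have : v = 0 := Subsingleton.elim _ _
  rw [this, map_zero]
  exact Submodule.zero_mem _

/-- lifting a regular sequence modulo a nonzerodivisor of the ideal -/
theorem lift_regular (x : R) (hx : x ∈ nonZeroDivisors R) (I : Ideal R) (hxI : x ∈ I) (j : ℕ)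
    (h : I.map (Ideal.Quotient.mk (Ideal.span {x})) = ⊤ ∨
      ∃ rs : List (R ⧸ Ideal.span {x}), rs.length = j ∧
        (∀ r ∈ rs, r ∈ I.map (Ideal.Quotient.mk (Ideal.span {x}))) ∧
        IsWeaklyRegular (R ⧸ Ideal.span {x}) rs) :
    I = ⊤ ∨ ∃ rs : List R, rs.length = j + 1 ∧ (∀ r ∈ rs, r ∈ I) ∧ IsWeaklyRegular R rs := by
  have hspan : Ideal.span {x} ≤ I := (Ideal.span_singleton_le_iff_mem I).2 hxI
  rcases h with h | ⟨rs', hlen, hmem, hreg⟩
  · left
    have := congrArg (Ideal.comap (Ideal.Quotient.mk (Ideal.span {x}))) h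
    rw [Ideal.comap_map_of_surjective _ Ideal.Quotient.mk_surjective, Ideal.comap_top,
      ← RingHom.ker_eq_comap_bot, Ideal.mk_ker, sup_eq_left.2 hspan] at this
    exact this
  · right
    have hlift : ∀ r' : R ⧸ Ideal.span {x}, r' ∈ I.map (Ideal.Quotient.mk (Ideal.span {x})) →
        ∃ r ∈ I, Ideal.Quotient.mk (Ideal.span {x}) r = r' := fun r' hr' =>
      (Ideal.mem_map_iff_of_surjective _ Ideal.Quotient.mk_surjective).1 hr'
    -- lift the whole list
    have hlist : ∀ l : List (R ⧸ Ideal.span {x}),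
        (∀ r ∈ l, r ∈ I.map (Ideal.Quotient.mk (Ideal.span {x}))) →
        ∃ rs : List R, rs.map (Ideal.Quotient.mk (Ideal.span {x})) = l ∧ ∀ r ∈ rs, r ∈ I := by
      intro l
      induction l with
      | nil => intro _; exact ⟨[], rfl, by simp⟩
      | cons a l ih =>
        intro hl
        obtain ⟨rs, hrs, hrsI⟩ := ih (fun r hr => hl r (List.mem_cons_of_mem _ hr))
        obtain ⟨r, hrI, hr⟩ := hlift a (hl a List.mem_cons_self)
        refine ⟨r :: rs, by rw [List.map_cons, hr, hrs], ?_⟩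
        intro r' hr'
        rcases List.mem_cons.1 hr' with rfl | h'
        · exact hrI
        · exact hrsI r' h'
    obtain ⟨rs, hrs, hrsI⟩ := hlist rs' hmem
    refine ⟨x :: rs, ?_, ?_, ?_⟩
    · rw [List.length_cons, ← hlen, ← hrs, List.length_map]
    · intro r hr
      rcases List.mem_cons.1 hr with rfl | h'
      · exact hxI
      · exact hrsI r h'
    · rw [isWeaklyRegular_cons_iff]
      refine ⟨isSMulRegular_of_mem_nonZeroDivisors x hx, ?_⟩
      rw [← hrs] at hreg
      have h1 : IsWeaklyRegular (R ⧸ Ideal.span {x}) rs :=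
        (isWeaklyRegular_map_algebraMap_iff (R ⧸ Ideal.span {x}) (R ⧸ Ideal.span {x}) rs).1 hreg
      have heq : (Ideal.span {x} : Submodule R R) = x • (⊤ : Submodule R R) := by
        rw [← Submodule.ideal_span_singleton_smul, smul_eq_mul, Ideal.mul_top]
      exact ((Submodule.quotEquivOfEq _ _ heq).isWeaklyRegular_congr rs).1 h1

end Groth.Agent.Helper9.BE9
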