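import Mathlib
import Groth.Prelude.Def_CAlgX
import Groth.Agent.Helper9.BE3
import Groth.Agent.Helper9.BE5
import Groth.Agent.Helper9.BE8
import Groth.Agent.Helper9.BE9

set_option autoImplicit false
set_option linter.unusedSectionVars false
set_option linter.style.haveILetI false
universe u

/-! The Buchsbaum–Eisenbud criterion, necessity. -/

namespace Groth.Agent.Helper9.BE10

open Matrix RingTheory.Sequence

/-- necessity, by induction on the length: complexes of length `e' + 1` -/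
theorem necessity_aux : ∀ (e' : ℕ) (R : Type u) [CommRing R] [IsNoetherianRing R] (n : ℕ → ℕ)
    (A : (i : ℕ) → Matrix (Fin (n i)) (Fin (n (i + 1))) R),
    (∀ i, i + 2 ≤ e' + 1 → A i * A (i + 1) = 0) →
    LinearMap.ker (A e').mulVecLin = ⊥ →
    (∀ i, i + 2 ≤ e' + 1 →
      LinearMap.ker (A i).mulVecLin = LinearMap.range (A (i + 1)).mulVecLin) →
    ∀ (ρ : ℕ → ℕ), (∀ i, e' + 1 ≤ i → ρ i = 0) →
    (∀ i, i < e' + 1 → ρ i + ρ (i + 1) = n (i + 1)) →
    ∀ i, i < e' + 1 → CAlgX.minorIdeal (A i) (ρ i + 1) = ⊥ ∧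
      (CAlgX.minorIdeal (A i) (ρ i) = ⊤ ∨ ∃ rs : List R, rs.length = i + 1 ∧
        (∀ r ∈ rs, r ∈ CAlgX.minorIdeal (A i) (ρ i)) ∧ IsWeaklyRegular R rs) := by
  intro e'
  induction e' with
  | zero =>
    intro R _ _ n A hA hlast hex ρ h0 hrel i hi
    obtain ⟨h1, x, hxI, hx⟩ := BE8.minors 1 le_rfl n A hA hlast hex ρ h0 hrel i hi
    refine ⟨h1, Or.inr ⟨[x], ?_, ?_, ?_⟩⟩
    · have : i = 0 := by omega
      rw [this]
      rfl
    · intro r hr
      rw [List.mem_singleton] at hr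
      rw [hr]
      exact hxI
    · rw [isWeaklyRegular_singleton_iff]
      exact BE9.isSMulRegular_of_mem_nonZeroDivisors x hx
  | succ e' ih =>
    intro R _ _ n A hA hlast hex ρ h0 hrel
    have hmin := BE8.minors (e' + 1 + 1) (by omega) n A hA hlast hex ρ h0 hrel
    -- a nonzerodivisor in all the ideals
    have hex_x : ∀ i : Fin (e' + 1 + 1), ∃ x ∈ CAlgX.minorIdeal (A i) (ρ i),
        x ∈ nonZeroDivisors R := fun i => (hmin i i.2).2
    choose xs hxsI hxs using hex_x
    set x : R := ∏ i, xs i with hxdef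
    have hx : x ∈ nonZeroDivisors R := Submonoid.prod_mem _ (fun i _ => hxs i)
    have hxI : ∀ i, i < e' + 1 + 1 → x ∈ CAlgX.minorIdeal (A i) (ρ i) := by
      intro i hi
      rw [hxdef, ← Finset.mul_prod_erase Finset.univ _ (Finset.mem_univ (⟨i, hi⟩ : Fin _))]
      exact Ideal.mul_mem_right _ _ (hxsI ⟨i, hi⟩)
    -- the reduced complex
    set f := Ideal.Quotient.mk (Ideal.span {x}) with hf
    have hA' : ∀ i, i + 2 ≤ e' + 1 → (A (i + 1)).map f * (A (i + 1 + 1)).map f = 0 := by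
      intro i hi
      rw [← Matrix.map_mul, hA (i + 1) (by omega)]
      ext a b
      simp
    have hlast' : LinearMap.ker ((A (e' + 1)).map f).mulVecLin = ⊥ :=
      BE9.exact_mod_last x hx (A e') (A (e' + 1)) (hA e' (by omega)) (hex e' (by omega)).le hlast
    have hex' : ∀ i, i + 2 ≤ e' + 1 → LinearMap.ker ((A (i + 1)).map f).mulVecLin =
        LinearMap.range ((A (i + 1 + 1)).map f).mulVecLin := by
      intro i hi
      apply le_antisymm
      · exact BE9.exact_mod x hx (A i) (A (i + 1)) (A (i + 1 + 1)) (hA i (by omega))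
          (hex i (by omega)).le (hex (i + 1) (by omega)).le
      · rintro _ ⟨v, rfl⟩
        rw [LinearMap.mem_ker, Matrix.mulVecLin_apply, Matrix.mulVecLin_apply,
          Matrix.mulVec_mulVec, hA' i hi, Matrix.zero_mulVec]
    have IH := ih (R ⧸ Ideal.span {x}) (fun i => n (i + 1)) (fun i => (A (i + 1)).map f)
      hA' hlast' hex' (fun i => ρ (i + 1)) (fun i hi => h0 (i + 1) (by omega))
      (fun i hi => hrel (i + 1) (by omega))
    intro i hi
    refine ⟨(hmin i hi).1, ?_⟩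
    rcases Nat.eq_zero_or_pos i with rfl | hpos
    · right
      refine ⟨[x], rfl, ?_, ?_⟩
      · intro r hr
        rw [List.mem_singleton] at hr
        rw [hr]
        exact hxI 0 hi
      · rw [isWeaklyRegular_singleton_iff]
        exact BE9.isSMulRegular_of_mem_nonZeroDivisors x hx
    · obtain ⟨i', rfl⟩ : ∃ i', i = i' + 1 := ⟨i - 1, by omega⟩
      have := (IH i' (by omega)).2
      simp only [BE3.minorIdeal_map] at this
      exact BE9.lift_regular x hx _ (hxI (i' + 1) hi) (i' + 1) this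

/-- the expected ranks are the alternating sums -/
theorem rho_eq_altsum (e : ℕ) (n : ℕ → ℕ) (ρ : ℕ → ℕ) (h0 : ∀ i, e ≤ i → ρ i = 0)
    (hrel : ∀ i, i < e → ρ i + ρ (i + 1) = n (i + 1)) :
    ∀ i, i ≤ e → (ρ i : ℤ) = BE5.altsum n e (i + 1) := by
  have key : ∀ k i, i + k = e → (ρ i : ℤ) = BE5.altsum n e (i + 1) := by
    intro k
    induction k with
    | zero =>
      intro i hi
      rw [h0 i (by omega), BE5.altsum_of_lt n e (i + 1) (by omega)]
      simp
    | succ k ih =>
      intro i hi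
      have h1 := hrel i (by omega)
      have h2 := ih (i + 1) (by omega)
      rw [BE5.altsum_step n e (i + 1) (by omega), ← h2]
      omega
  intro i hi
  exact key (e - i) i (by omega)

/-- necessity of the Buchsbaum–Eisenbud conditions over a Noetherian local ring -/
theorem necessity {R : Type u} [CommRing R] [IsLocalRing R] [IsNoetherianRing R]
    (e : ℕ) (he : 1 ≤ e) (n : ℕ → ℕ) (A : (i : ℕ) → Matrix (Fin (n i)) (Fin (n (i + 1))) R)
    (hA : ∀ i, i + 2 ≤ e → A i * A (i + 1) = 0)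
    (hlast : LinearMap.ker (A (e - 1)).mulVecLin = ⊥)
    (hex : ∀ i, i + 2 ≤ e →
      LinearMap.ker (A i).mulVecLin = LinearMap.range (A (i + 1)).mulVecLin) :
    ∀ j, 1 ≤ j → j ≤ e →
      (CAlgX.matrixRank (A (j - 1)) : ℤ) = ∑ t ∈ Finset.Icc j e, (-1 : ℤ) ^ (t - j) * (n t : ℤ) ∧
        (CAlgX.detIdeal (A (j - 1)) = ⊤ ∨
          ∃ rs : List R, rs.length = j ∧ (∀ r ∈ rs, r ∈ CAlgX.detIdeal (A (j - 1))) ∧
            RingTheory.Sequence.IsRegular R rs) := by
  obtain ⟨e', rfl⟩ : ∃ e', e = e' + 1 := ⟨e - 1, by omega⟩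
  have hlast' : LinearMap.ker (A e').mulVecLin = ⊥ := hlast
  obtain ⟨ρ, h0, hrel⟩ := BE8.exists_rho (e' + 1) he n A hA hlast hex
  have key := necessity_aux e' R n A hA hlast' hex ρ h0 hrel
  have hmin := BE8.minors (e' + 1) he n A hA hlast hex ρ h0 hrel
  have halt := rho_eq_altsum (e' + 1) n ρ h0 hrel
  intro j hj hje
  obtain ⟨i, rfl⟩ : ∃ i, j = i + 1 := ⟨j - 1, by omega⟩
  change (CAlgX.matrixRank (A i) : ℤ) = _ ∧ (CAlgX.detIdeal (A i) = ⊤ ∨
    ∃ rs : List R, rs.length = i + 1 ∧ (∀ r ∈ rs, r ∈ CAlgX.detIdeal (A i)) ∧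
      RingTheory.Sequence.IsRegular R rs)
  obtain ⟨h1, x, hxI, hx⟩ := hmin i (by omega)
  have hne : CAlgX.minorIdeal (A i) (ρ i) ≠ ⊥ := by
    intro hbot
    rw [hbot, Ideal.mem_bot] at hxI
    rw [hxI] at hx
    exact zero_notMem_nonZeroDivisors hx
  have hrank : CAlgX.matrixRank (A i) = ρ i := BE5.matrixRank_eq (A i) (ρ i) h1 hne
  have hdetI : CAlgX.detIdeal (A i) = CAlgX.minorIdeal (A i) (ρ i) := by
    unfold CAlgX.detIdeal
    rw [hrank]
  refine ⟨?_, ?_⟩
  · rw [hrank, halt i (by omega)]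
    rfl
  · rw [hdetI]
    by_cases htop : CAlgX.minorIdeal (A i) (ρ i) = ⊤
    · exact Or.inl htop
    · right
      rcases (key i (by omega)).2 with h | ⟨rs, hlen, hmem, hreg⟩
      · exact absurd h htop
      · refine ⟨rs, hlen, hmem, ?_⟩
        have hle : CAlgX.minorIdeal (A i) (ρ i) ≤ IsLocalRing.maximalIdeal R :=
          IsLocalRing.le_maximalIdeal htop
        exact (IsLocalRing.isRegular_iff_isWeaklyRegular_of_subset_maximalIdeal
          (fun r hr => hle (hmem r hr))).2 hreg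

end Groth.Agent.Helper9.BE10
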