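import Mathlib
import Groth.Prelude.Def_CAlgX
import Groth.Agent.Helper8.MinorSummand

set_option autoImplicit false
set_option linter.unusedSectionVars false
set_option linter.style.haveILetI false
universe u

/-! The split regime of the Buchsbaum–Eisenbud criterion: when the ideals of minors are unit ideals
the ranks decide exactness. -/

namespace Groth.Agent.Helper9.BE2

open Matrix

variable {S : Type u} [CommRing S] [IsLocalRing S]

/-- a surjective linear map between finite free modules of the same rank is injective -/
theorem injective_of_surjective_of_finrank_eq {M N : Type u} [AddCommGroup M] [Module S M]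
    [Module.Free S M] [Module.Finite S M] [AddCommGroup N] [Module S N] [Module.Free S N]
    [Module.Finite S N] (f : M →ₗ[S] N) (hf : Function.Surjective f)
    (h : Module.finrank S M = Module.finrank S N) : Function.Injective f := by
  let ε : N ≃ₗ[S] M := LinearEquiv.ofFinrankEq N M h.symm
  have hs : Function.Surjective (ε.toLinearMap ∘ₗ f) := by
    rw [LinearMap.coe_comp]
    exact ε.surjective.comp hf
  have hi := OrzechProperty.injective_of_surjective_endomorphism _ hs
  rw [LinearMap.coe_comp] at hi
  exact Function.Injective.of_comp hi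

/-- direct summands of finite free modules over a local ring are finite free -/
theorem finite_free_of_isCompl {M : Type u} [AddCommGroup M] [Module S M]
    [Module.Free S M] [Module.Finite S M] (p q : Submodule S M) (h : IsCompl p q) :
    Module.Finite S p ∧ Module.Free S p := by
  have hπ : ∀ x : p, Submodule.projectionOnto p q h x = x :=
    fun x => Submodule.projectionOnto_apply_left h x
  haveI : Module.Finite S p := by
    refine Module.Finite.of_surjective (Submodule.projectionOnto p q h) ?_
    intro x
    exact ⟨x, hπ x⟩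
  haveI : Module.Projective S p :=
    Module.Projective.of_split p.subtype (Submodule.projectionOnto p q h) (by ext x; simp [hπ])
  exact ⟨inferInstance, Module.free_of_flat_of_isLocalRing⟩

theorem finrank_add_of_isCompl {M : Type u} [AddCommGroup M] [Module S M]
    [Module.Free S M] [Module.Finite S M] (p q : Submodule S M) (h : IsCompl p q) :
    Module.finrank S p + Module.finrank S q = Module.finrank S M := by
  obtain ⟨_, _⟩ := finite_free_of_isCompl p q h
  obtain ⟨_, _⟩ := finite_free_of_isCompl q p h.symm
  rw [← Module.finrank_prod]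
  exact (Submodule.prodEquivOfIsCompl p q h).finrank_eq

/-- in the split regime, complementary ranks force exactness -/
theorem ker_eq_range_of_split {a b c : ℕ} (A : Matrix (Fin a) (Fin b) S)
    (B : Matrix (Fin b) (Fin c) S) (hAB : A * B = 0) (r s : ℕ) (hrs : r + s = b)
    (hA1 : CAlgX.minorIdeal A (r + 1) = ⊥) (hA2 : CAlgX.minorIdeal A r = ⊤)
    (hB1 : CAlgX.minorIdeal B (s + 1) = ⊥) (hB2 : CAlgX.minorIdeal B s = ⊤) :
    LinearMap.ker A.mulVecLin = LinearMap.range B.mulVecLin := by
  obtain ⟨NA, hcA, hrA⟩ := Groth.Agent.Helper8.MinorSummand.backward a b r A hA1 hA2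
  obtain ⟨NB, hcB, hrB⟩ := Groth.Agent.Helper8.MinorSummand.backward b c s B hB1 hB2
  have hBA : LinearMap.range B.mulVecLin ≤ LinearMap.ker A.mulVecLin := by
    rintro _ ⟨w, rfl⟩
    rw [LinearMap.mem_ker, Matrix.mulVecLin_apply, Matrix.mulVecLin_apply, Matrix.mulVec_mulVec,
      hAB, Matrix.zero_mulVec]
  obtain ⟨_, _⟩ := finite_free_of_isCompl _ _ hcA
  obtain ⟨_, _⟩ := finite_free_of_isCompl _ _ hcB.symm
  have hrNB : Module.finrank S NB = r := by
    have := finrank_add_of_isCompl _ _ hcB
    rw [hrB, Module.finrank_fin_fun] at this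
    omega
  let g : NB →ₗ[S] LinearMap.range A.mulVecLin := A.mulVecLin.rangeRestrict ∘ₗ NB.subtype
  have hgs : Function.Surjective g := by
    rintro ⟨_, x, rfl⟩
    have hx : x ∈ LinearMap.range B.mulVecLin ⊔ NB := by
      rw [hcB.sup_eq_top]; trivial
    obtain ⟨u, hu, v, hv, rfl⟩ := Submodule.mem_sup.1 hx
    refine ⟨⟨v, hv⟩, ?_⟩
    apply Subtype.ext
    change A.mulVecLin v = A.mulVecLin (u + v)
    rw [map_add, LinearMap.mem_ker.1 (hBA hu), zero_add]
  have hgi : Function.Injective g :=
    injective_of_surjective_of_finrank_eq g hgs (hrNB.trans hrA.symm)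
  apply le_antisymm _ hBA
  intro x hxk
  have hx : x ∈ LinearMap.range B.mulVecLin ⊔ NB := by
    rw [hcB.sup_eq_top]; trivial
  obtain ⟨u, hu, v, hv, rfl⟩ := Submodule.mem_sup.1 hx
  have hv0 : A.mulVecLin v = 0 := by
    have := LinearMap.mem_ker.1 hxk
    rwa [map_add, LinearMap.mem_ker.1 (hBA hu), zero_add] at this
  have : (⟨v, hv⟩ : NB) = 0 := by
    apply hgi
    rw [map_zero]
    apply Subtype.ext
    change A.mulVecLin v = 0
    exact hv0
  have hv' : v = 0 := congrArg Subtype.val this
  rw [hv', add_zero]
  exact hu

end Groth.Agent.Helper9.BE2
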