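import Mathlib
import Groth.Prelude.Def_CAlg
import Groth.Prelude.Def_CAlgX
import Groth.Agent.Helper9.BE1
import Groth.Agent.Helper9.BE2
import Groth.Agent.Helper9.BE3

set_option autoImplicit false
set_option linter.unusedSectionVars false
set_option linter.style.haveILetI false
universe u

/-! The Buchsbaum–Eisenbud acyclicity criterion (sufficiency): the local case by induction on the
dimension, via the acyclicity lemma of Peskine–Szpiro, then the global case. -/

namespace Groth.Agent.Helper9.BE4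

open IsLocalRing Matrix RingTheory.Sequence Groth.Agent.Helper6.DepthLemma

/-- the hypotheses of the criterion, with the complex extended by zero maps beyond position `e` -/
structure Hyp (S : Type u) [CommRing S] (e : ℕ) (n : ℕ → ℕ)
    (A : (i : ℕ) → Matrix (Fin (n i)) (Fin (n (i + 1))) S) (ρ : ℕ → ℕ) : Prop where
  zero : ∀ i, e ≤ i → A i = 0
  comp : ∀ i, A i * A (i + 1) = 0
  rk0 : ∀ i, e ≤ i → ρ i = 0
  rk : ∀ i, i < e → ρ i + ρ (i + 1) = n (i + 1)
  min : ∀ i, CAlgX.minorIdeal (A i) (ρ i + 1) = ⊥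
  grade : ∀ i, CAlgX.minorIdeal (A i) (ρ i) = ⊤ ∨ ∃ rs : List S, rs.length = i + 1 ∧
    (∀ r ∈ rs, r ∈ CAlgX.minorIdeal (A i) (ρ i)) ∧ IsWeaklyRegular S rs

theorem minorIdeal_zero_eq_top {S : Type u} [CommRing S] {m n : Type} [Fintype m] [Fintype n]
    (A : Matrix m n S) : CAlgX.minorIdeal A 0 = ⊤ := by
  unfold CAlgX.minorIdeal
  rw [Ideal.eq_top_iff_one]
  apply Ideal.subset_span
  exact ⟨(Fin.elim0, Fin.elim0), Matrix.det_isEmpty⟩

theorem Hyp.map {S T : Type u} [CommRing S] [CommRing T] [Algebra S T] [Module.Flat S T]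
    {e : ℕ} {n : ℕ → ℕ} {A : (i : ℕ) → Matrix (Fin (n i)) (Fin (n (i + 1))) S} {ρ : ℕ → ℕ}
    (H : Hyp S e n A ρ) : Hyp T e n (fun i => (A i).map (algebraMap S T)) ρ where
  zero i hi := by
    rw [H.zero i hi]
    ext a b
    simp
  comp i := by
    rw [← Matrix.map_mul, H.comp i]
    ext a b
    simp
  rk0 := H.rk0
  rk := H.rk
  min i := by
    rw [BE3.minorIdeal_map, H.min i, Ideal.map_bot]
  grade i := by
    rw [BE3.minorIdeal_map]
    exact BE3.grade_transfer _ _ (H.grade i)

theorem range_le_ker {S : Type u} [CommRing S] {a b c : ℕ} (A : Matrix (Fin a) (Fin b) S)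
    (B : Matrix (Fin b) (Fin c) S) (hAB : A * B = 0) :
    LinearMap.range B.mulVecLin ≤ LinearMap.ker A.mulVecLin := by
  rintro _ ⟨w, rfl⟩
  rw [LinearMap.mem_ker, Matrix.mulVecLin_apply, Matrix.mulVecLin_apply, Matrix.mulVec_mulVec,
    hAB, Matrix.zero_mulVec]

/-- the local case, by induction on the dimension -/
theorem local_exact : ∀ (d : ℕ) (S : Type u) [CommRing S] [IsLocalRing S] [IsNoetherianRing S],
    (maximalIdeal S).height = d → ∀ (e : ℕ) (n : ℕ → ℕ)
    (A : (i : ℕ) → Matrix (Fin (n i)) (Fin (n (i + 1))) S) (ρ : ℕ → ℕ), Hyp S e n A ρ →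
    ∀ i, i < e → LinearMap.ker (A i).mulVecLin = LinearMap.range (A (i + 1)).mulVecLin := by
  intro d
  induction d using Nat.strong_induction_on with
  | _ d IH =>
  intro S _ _ _ hd e n A ρ H
  -- (a) exactness on the punctured spectrum
  have hloc : ∀ (Q : Ideal S) [Q.IsPrime], Q ≠ maximalIdeal S → ∀ i, i < e →
      LinearMap.ker ((A i).map (algebraMap S (Localization.AtPrime Q))).mulVecLin =
        LinearMap.range ((A (i + 1)).map (algebraMap S (Localization.AtPrime Q))).mulVecLin := by
    intro Q _ hQ i hi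
    have hlt : Q < maximalIdeal S := lt_of_le_of_ne (le_maximalIdeal Ideal.IsPrime.ne_top') hQ
    have hht : Q.height < (maximalIdeal S).height := Ideal.height_strict_mono_of_isPrime hlt
    obtain ⟨d', hd'⟩ : ∃ d' : ℕ, Q.height = d' :=
      (ENat.ne_top_iff_exists.1 (Ideal.height_ne_top_of_isPrime)).imp fun _ h => h.symm
    have hmax : (maximalIdeal (Localization.AtPrime Q)).height = d' := by
      rw [← hd', ← IsLocalization.height_under Q.primeCompl,
        IsLocalization.AtPrime.under_maximalIdeal (Localization.AtPrime Q) Q]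
    have hlt' : d' < d := by
      rw [hd, hd'] at hht
      exact_mod_cast hht
    haveI : Module.Flat S (Localization.AtPrime Q) :=
      IsLocalization.flat (Localization.AtPrime Q) Q.primeCompl
    exact IH d' hlt' (Localization.AtPrime Q) hmax e n _ ρ H.map i hi
  -- (b) the homology is killed by a power of the maximal ideal
  have htors : ∀ i, i < e → ∀ z ∈ LinearMap.ker (A i).mulVecLin, ∃ k : ℕ,
      ∀ a ∈ maximalIdeal S ^ k, a • z ∈ LinearMap.range (A (i + 1)).mulVecLin := by
    intro i hi z hz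
    set J : Ideal S := (LinearMap.range (A (i + 1)).mulVecLin).colon {z} with hJ
    have hrad : maximalIdeal S ≤ J.radical := by
      rw [Ideal.radical_eq_sInf]
      refine le_sInf ?_
      rintro Q ⟨hJQ, hQ⟩
      by_contra hne
      have hQm : Q ≠ maximalIdeal S := by
        rintro rfl
        exact hne le_rfl
      haveI := hQ
      obtain ⟨s, hs, hsz⟩ := BE3.exists_smul_mem_range Q.primeCompl (A i) (A (i + 1))
        (hloc Q hQm i hi).le z (by simpa using hz)
      exact hs (hJQ (Submodule.mem_colon_singleton.2 hsz))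
    obtain ⟨k, hk⟩ := Ideal.exists_pow_le_of_le_radical_of_fg hrad (IsNoetherian.noetherian _)
    exact ⟨k, fun a ha => Submodule.mem_colon_singleton.1 (hk ha)⟩
  -- (c) beyond the depth the ideals of minors are unit ideals
  have hsplit_or : ∀ i, CAlgX.minorIdeal (A i) (ρ i) = ⊤ ∨
      ((i + 1 : ℕ) : ℕ∞) ≤ LocCoh.idealDepth (maximalIdeal S) S := by
    intro i
    by_cases htop : CAlgX.minorIdeal (A i) (ρ i) = ⊤
    · exact Or.inl htop
    · right
      rcases H.grade i with h | ⟨rs, hlen, hmem, hreg⟩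
      · exact absurd h htop
      · have hle : CAlgX.minorIdeal (A i) (ρ i) ≤ maximalIdeal S := le_maximalIdeal htop
        unfold LocCoh.idealDepth
        rw [if_neg (Groth.Agent.Helper2.Depth.smul_top_ne_top S S), ← hlen]
        exact le_iSup₂_of_le rs ⟨hreg, fun r hr => hle (hmem r hr)⟩ le_rfl
  -- (d) the first position from which everything splits
  classical
  have hex : ∃ i₀, ∀ i, i₀ ≤ i → CAlgX.minorIdeal (A i) (ρ i) = ⊤ := by
    refine ⟨e, fun i hi => ?_⟩
    rw [H.rk0 i hi]
    exact minorIdeal_zero_eq_top _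
  set i₀ := Nat.find hex with hi₀
  have hsplit : ∀ i, i₀ ≤ i → CAlgX.minorIdeal (A i) (ρ i) = ⊤ := Nat.find_spec hex
  have hi₀e : i₀ ≤ e := Nat.find_min' hex (fun i hi => by
    rw [H.rk0 i hi]
    exact minorIdeal_zero_eq_top _)
  have hdepth : ∀ j, j < i₀ → ((j + 1 : ℕ) : ℕ∞) ≤ LocCoh.idealDepth (maximalIdeal S) S := by
    intro j hj
    have hi₀' : ((i₀ : ℕ) : ℕ∞) ≤ LocCoh.idealDepth (maximalIdeal S) S := by
      obtain ⟨j₀, hj₀⟩ : ∃ j₀, i₀ = j₀ + 1 := ⟨i₀ - 1, by omega⟩
      have hnot : ¬ ∀ i, j₀ ≤ i → CAlgX.minorIdeal (A i) (ρ i) = ⊤ :=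
        Nat.find_min hex (by omega)
      have hns : ¬ CAlgX.minorIdeal (A j₀) (ρ j₀) = ⊤ := by
        intro hs
        apply hnot
        intro i hi
        rcases Nat.eq_or_lt_of_le hi with rfl | hlt
        · exact hs
        · exact hsplit i (by omega)
      rw [hj₀]
      exact (hsplit_or j₀).resolve_left hns
    refine le_trans ?_ hi₀'
    exact_mod_cast (by omega : j + 1 ≤ i₀)
  -- exactness in the split regime
  have hE_split : ∀ i, i₀ ≤ i → i < e →
      LinearMap.ker (A i).mulVecLin = LinearMap.range (A (i + 1)).mulVecLin := by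
    intro i hi hie
    exact BE2.ker_eq_range_of_split (A i) (A (i + 1)) (H.comp i) (ρ i) (ρ (i + 1)) (H.rk i hie)
      (H.min i) (hsplit i hi) (H.min (i + 1)) (hsplit (i + 1) (by omega))
  -- the depth of free modules
  have hfree : ∀ (j s : ℕ), j ≤ i₀ → ((j : ℕ) : ℕ∞) ≤
      LocCoh.idealDepth (maximalIdeal S) (Fin s → S) := by
    intro j s hj
    refine le_trans ?_ (idealDepth_pi_ge (maximalIdeal S) S s)
    rcases Nat.eq_zero_or_pos j with rfl | hpos
    · simp
    · obtain ⟨j', rfl⟩ : ∃ j', j = j' + 1 := ⟨j - 1, by omega⟩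
      exact hdepth j' (by omega)
  -- the descending chain
  have hchain : ∀ k, k ≤ i₀ →
      ((i₀ - k : ℕ) : ℕ∞) ≤ LocCoh.idealDepth (maximalIdeal S)
        ((Fin (n (i₀ - k)) → S) ⧸ LinearMap.range (A (i₀ - k)).mulVecLin) ∧
      ∀ i, i₀ - k ≤ i → i < e →
        LinearMap.ker (A i).mulVecLin = LinearMap.range (A (i + 1)).mulVecLin := by
    intro k
    induction k with
    | zero =>
      intro _
      refine ⟨?_, fun i hi hie => hE_split i (by omega) hie⟩
      simp only [Nat.sub_zero]
      obtain ⟨N', hc, -⟩ := Groth.Agent.Helper8.MinorSummand.backward (n i₀) (n (i₀ + 1)) (ρ i₀)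
        (A i₀) (H.min i₀) (hsplit i₀ le_rfl)
      exact le_trans (hfree i₀ (n i₀) le_rfl) (BE1.depth_quotient_of_isCompl _ N' hc)
    | succ k ih =>
      intro hk
      obtain ⟨hP, hE⟩ := ih (by omega)
      obtain ⟨j, hj⟩ : ∃ j, i₀ - k = j + 1 := ⟨i₀ - k - 1, by omega⟩
      have hj' : i₀ - (k + 1) = j := by omega
      rw [hj] at hP hE
      rw [hj']
      have hje : j < e := by omega
      obtain ⟨hker, hdr⟩ := BE1.step (A j).mulVecLin (LinearMap.range (A (j + 1)).mulVecLin)
        (range_le_ker (A j) (A (j + 1)) (H.comp j)) (j + 1) (by omega) hP (htors j hje)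
      refine ⟨?_, ?_⟩
      · exact le_idealDepth_right (maximalIdeal S)
          (LinearMap.range (A j).mulVecLin).subtype (LinearMap.range (A j).mulVecLin).mkQ
          (Submodule.injective_subtype _) (Submodule.mkQ_surjective _)
          (LinearMap.exact_subtype_mkQ _) j (hfree j (n j) (by omega)) hdr
      · intro i hi hie
        rcases Nat.eq_or_lt_of_le hi with rfl | hlt
        · exact hker
        · exact hE i (by omega) hie
  intro i hi
  exact (hchain i₀ le_rfl).2 i (by omega) hi

/-- the global case -/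
theorem global_exact (R : Type u) [CommRing R] [IsNoetherianRing R] (e : ℕ) (n : ℕ → ℕ)
    (A : (i : ℕ) → Matrix (Fin (n i)) (Fin (n (i + 1))) R) (ρ : ℕ → ℕ) (H : Hyp R e n A ρ) :
    ∀ i, i < e → LinearMap.ker (A i).mulVecLin = LinearMap.range (A (i + 1)).mulVecLin := by
  intro i hi
  apply le_antisymm _ (range_le_ker _ _ (H.comp i))
  intro z hz
  set J : Ideal R := (LinearMap.range (A (i + 1)).mulVecLin).colon {z} with hJdef
  have hJ : J = ⊤ := by
    by_contra hne
    obtain ⟨P, hP, hJP⟩ := Ideal.exists_le_maximal J hne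
    haveI := hP.isPrime
    haveI : Module.Flat R (Localization.AtPrime P) :=
      IsLocalization.flat (Localization.AtPrime P) P.primeCompl
    obtain ⟨d, hd⟩ : ∃ d : ℕ, (maximalIdeal (Localization.AtPrime P)).height = d :=
      (ENat.ne_top_iff_exists.1 (Ideal.height_ne_top_of_isPrime)).imp fun _ h => h.symm
    have hexact := local_exact d (Localization.AtPrime P) hd e n _ ρ H.map i hi
    obtain ⟨s, hs, hsz⟩ := BE3.exists_smul_mem_range P.primeCompl (A i) (A (i + 1))
      hexact.le z (by simpa using hz)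
    exact hs (hJP (Submodule.mem_colon_singleton.2 hsz))
  have h1 : (1 : R) ∈ J := by
    rw [hJ]
    trivial
  simpa using Submodule.mem_colon_singleton.1 h1

end Groth.Agent.Helper9.BE4
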