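import Mathlib
import Groth.Prelude.Def_CAlg
import Groth.Prelude.Def_CAlgX
import Groth.Agent.Helper9.BE4
import Groth.Agent.Helper9.BE5

set_option autoImplicit false
set_option linter.unusedSectionVars false
set_option linter.style.haveILetI false
universe u

/-! The Buchsbaum–Eisenbud criterion, sufficiency, in the form of the statements. -/

namespace Groth.Agent.Helper9.BE6

open Matrix RingTheory.Sequence Groth.Agent.Helper9.BE5

theorem sufficiency {R : Type u} [CommRing R] [IsNoetherianRing R]
    (e : ℕ) (he : 1 ≤ e) (n : ℕ → ℕ) (A : (i : ℕ) → Matrix (Fin (n i)) (Fin (n (i + 1))) R)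
    (hA : ∀ i, i + 2 ≤ e → A i * A (i + 1) = 0)
    (hrank : ∀ j, 1 ≤ j → j ≤ e →
      (CAlgX.matrixRank (A (j - 1)) : ℤ) = ∑ t ∈ Finset.Icc j e, (-1 : ℤ) ^ (t - j) * (n t : ℤ))
    (hdet : ∀ j, 1 ≤ j → j ≤ e →
      CAlgX.detIdeal (A (j - 1)) = ⊤ ∨
        ∃ rs : List R, rs.length = j ∧ (∀ r ∈ rs, r ∈ CAlgX.detIdeal (A (j - 1))) ∧
          IsWeaklyRegular R rs) :
    LinearMap.ker (A (e - 1)).mulVecLin = ⊥ ∧
      ∀ i, i + 2 ≤ e → LinearMap.ker (A i).mulVecLin = LinearMap.range (A (i + 1)).mulVecLin := by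
  classical
  let A' : (i : ℕ) → Matrix (Fin (n i)) (Fin (n (i + 1))) R := fun i => if i < e then A i else 0
  let ρ : ℕ → ℕ := fun i => if i < e then CAlgX.matrixRank (A i) else 0
  have hA'pos : ∀ i, i < e → A' i = A i := fun i hi => if_pos hi
  have hA'neg : ∀ i, e ≤ i → A' i = 0 := fun i hi => if_neg (by omega)
  have hρpos : ∀ i, i < e → ρ i = CAlgX.matrixRank (A i) := fun i hi => if_pos hi
  have hρneg : ∀ i, e ≤ i → ρ i = 0 := fun i hi => if_neg (by omega)
  have hρalt : ∀ i, i ≤ e → (ρ i : ℤ) = altsum n e (i + 1) := by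
    intro i hi
    rcases Nat.eq_or_lt_of_le hi with rfl | hlt
    · rw [hρneg _ le_rfl, altsum_of_lt n _ _ (by omega)]
      simp
    · rw [hρpos i hlt]
      have := hrank (i + 1) (by omega) (by omega)
      simpa [altsum] using this
  have H : BE4.Hyp R e n A' ρ := by
    refine ⟨hA'neg, ?_, hρneg, ?_, ?_, ?_⟩
    · intro i
      by_cases hi : i + 2 ≤ e
      · rw [hA'pos i (by omega), hA'pos (i + 1) (by omega)]
        exact hA i hi
      · rw [hA'neg (i + 1) (by omega), Matrix.mul_zero]
    · intro i hi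
      have h1 := hρalt i hi.le
      have h2 := hρalt (i + 1) (by omega)
      rw [altsum_step n e (i + 1) (by omega)] at h1
      omega
    · intro i
      by_cases hi : i < e
      · rw [hA'pos i hi, hρpos i hi]
        exact minorIdeal_matrixRank_succ (A i)
      · rw [hA'neg i (by omega)]
        exact minorIdeal_zero_matrix _
    · intro i
      by_cases hi : i < e
      · rw [hA'pos i hi, hρpos i hi]
        have := hdet (i + 1) (by omega) (by omega)
        simpa [CAlgX.detIdeal] using this
      · left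
        rw [hρneg i (by omega)]
        exact BE4.minorIdeal_zero_eq_top _
  have key := BE4.global_exact R e n A' ρ H
  constructor
  · have := key (e - 1) (by omega)
    rw [hA'pos (e - 1) (by omega)] at this
    rw [this, LinearMap.range_eq_bot]
    have h0 : A' (e - 1 + 1) = 0 := hA'neg _ (by omega)
    rw [h0]
    ext v
    simp
  · intro i hi
    have := key i (by omega)
    rwa [hA'pos i (by omega), hA'pos (i + 1) (by omega)] at this

end Groth.Agent.Helper9.BE6
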