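import Mathlib

/-!
# Helper9.BF1 : base change of quotients of polynomial rings

`T' ⊗[T] (T[X] ⧸ 𝔞) ≃ T'[X] ⧸ 𝔞 T'[X]`.
-/

set_option autoImplicit false
universe u

namespace Groth.Agent.Helper9.BF1

open TensorProduct

/-- `S ⧸ I S = S ⊗_R (R ⧸ I)`. -/
theorem isPushout_quotient_map {R S : Type*} [CommRing R] [CommRing S] [Algebra R S]
    (I : Ideal R) :
    Algebra.IsPushout R S (R ⧸ I) (S ⧸ I.map (algebraMap R S)) := by
  rw [Algebra.isPushout_iff]
  refine IsBaseChange.of_equiv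
    (Algebra.TensorProduct.quotIdealMapEquivTensorQuot S I).symm.toLinearEquiv fun x => ?_
  obtain ⟨a, rfl⟩ := Ideal.Quotient.mk_surjective x
  change (Algebra.TensorProduct.quotIdealMapEquivTensorQuot S I).symm
      ((1 : S) ⊗ₜ[R] Ideal.Quotient.mk _ a) = _
  have h2 : ((1 : S) ⊗ₜ[R] (Ideal.Quotient.mk I a) : S ⊗[R] (R ⧸ I)) =
      (Algebra.TensorProduct.quotIdealMapEquivTensorQuot S I)
        (Ideal.Quotient.mk _ (algebraMap R S a)) := by
    rw [Algebra.TensorProduct.quotIdealMapEquivTensorQuot_mk]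
    rw [← mul_one (algebraMap R S a), ← Algebra.smul_def, TensorProduct.smul_tmul,
      ← Ideal.Quotient.algebraMap_eq, Algebra.smul_def, mul_one]
  rw [h2, AlgEquiv.symm_apply_apply]
  rfl

section poly

attribute [local instance] MvPolynomial.algebraMvPolynomial

variable {σ : Type*} (T T' : Type*) [CommRing T] [CommRing T'] [Algebra T T']
  (𝔞 : Ideal (MvPolynomial σ T))

instance towerQuot : IsScalarTower T (MvPolynomial σ T ⧸ 𝔞)
    (MvPolynomial σ T' ⧸ 𝔞.map (algebraMap (MvPolynomial σ T) (MvPolynomial σ T'))) := by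
  refine IsScalarTower.of_algebraMap_eq (R := T) (S := MvPolynomial σ T ⧸ 𝔞)
    (A := MvPolynomial σ T' ⧸ 𝔞.map (algebraMap (MvPolynomial σ T) (MvPolynomial σ T')))
    fun x => ?_
  change Ideal.Quotient.mk _ (algebraMap T (MvPolynomial σ T') x) =
    algebraMap (MvPolynomial σ T ⧸ 𝔞) _ (Ideal.Quotient.mk 𝔞 (algebraMap T (MvPolynomial σ T) x))
  rw [Ideal.Quotient.algebraMap_quotient_map_quotient,
    ← IsScalarTower.algebraMap_apply T (MvPolynomial σ T) (MvPolynomial σ T')]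

theorem isPushout_polyQuot :
    Algebra.IsPushout T T' (MvPolynomial σ T ⧸ 𝔞)
      (MvPolynomial σ T' ⧸ 𝔞.map (algebraMap (MvPolynomial σ T) (MvPolynomial σ T'))) := by
  have h1 : Algebra.IsPushout (MvPolynomial σ T) (MvPolynomial σ T ⧸ 𝔞) (MvPolynomial σ T')
      (MvPolynomial σ T' ⧸ 𝔞.map (algebraMap (MvPolynomial σ T) (MvPolynomial σ T'))) :=
    (isPushout_quotient_map (R := MvPolynomial σ T) (S := MvPolynomial σ T') 𝔞).symm
  have h2 : Algebra.IsPushout T (MvPolynomial σ T ⧸ 𝔞) T'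
      (MvPolynomial σ T' ⧸ 𝔞.map (algebraMap (MvPolynomial σ T) (MvPolynomial σ T'))) :=
    (Algebra.IsPushout.comp_iff T (MvPolynomial σ T) T' (S' := MvPolynomial σ T')
      (T := MvPolynomial σ T ⧸ 𝔞)).mpr h1
  exact h2.symm

end poly

end Groth.Agent.Helper9.BF1
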