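import Mathlib
import Groth.Agent.Helper9.VP3
import Groth.Agent.Helper9.BF1

/-!
# Helper9.BF2 : saturation of an extended ideal over a valuation ring, and finite stages
-/

set_option autoImplicit false
universe u

namespace Groth.Agent.Helper9.BF2

open MvPolynomial

section sat

variable {R : Type u} [CommRing R] {A : Type u} [CommRing A] [IsDomain A] [Algebra R A] {n : ℕ}
  (J : Ideal (MvPolynomial (Fin n) R))

/-- the extension of `J` to `A[X]` -/
noncomputable abbrev extA : Ideal (MvPolynomial (Fin n) A) :=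
  J.map (MvPolynomial.map (algebraMap R A))

/-- the `A`-saturation of the extension of `J` to `A[X]` -/
noncomputable def sat : Ideal (MvPolynomial (Fin n) A) where
  carrier := {p | ∃ c : A, c ≠ 0 ∧ C c * p ∈ extA (A := A) J}
  add_mem' := by
    rintro p q ⟨c, hc, hp⟩ ⟨d, hd, hq⟩
    refine ⟨c * d, mul_ne_zero hc hd, ?_⟩
    have : C (c * d) * (p + q) = C d * (C c * p) + C c * (C d * q) := by
      rw [C_mul]; ring
    rw [this]
    exact Ideal.add_mem _ (Ideal.mul_mem_left _ _ hp) (Ideal.mul_mem_left _ _ hq)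
  zero_mem' := ⟨1, one_ne_zero, by simp⟩
  smul_mem' := by
    rintro a p ⟨c, hc, hp⟩
    refine ⟨c, hc, ?_⟩
    rw [smul_eq_mul, mul_left_comm]
    exact Ideal.mul_mem_left _ _ hp

theorem mem_sat {p : MvPolynomial (Fin n) A} :
    p ∈ sat (A := A) J ↔ ∃ c : A, c ≠ 0 ∧ C c * p ∈ extA (A := A) J := Iff.rfl

theorem extA_le_sat : extA (A := A) J ≤ sat (A := A) J := fun p hp =>
  ⟨1, one_ne_zero, by simpa using hp⟩

theorem sat_saturated {c : A} (hc : c ≠ 0) {p : MvPolynomial (Fin n) A}
    (h : C c * p ∈ sat (A := A) J) : p ∈ sat (A := A) J := by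
  obtain ⟨d, hd, hp⟩ := h
  exact ⟨d * c, mul_ne_zero hd hc, by rwa [C_mul, mul_assoc]⟩

theorem sat_fg [ValuationRing A] : (sat (A := A) J).FG := by
  have htf : ∀ c : A, c ≠ 0 → ∀ m : MvPolynomial (Fin n) A ⧸ sat (A := A) J, c • m = 0 → m = 0 := by
    intro c hc m hm
    obtain ⟨p, rfl⟩ := Ideal.Quotient.mk_surjective m
    rw [Ideal.Quotient.eq_zero_iff_mem]
    apply sat_saturated J hc
    rw [← Ideal.Quotient.eq_zero_iff_mem, ← hm]
    change _ = Ideal.Quotient.mk _ (c • p)
    rw [smul_eq_C_mul]
  have hfp : Module.FinitePresentation (MvPolynomial (Fin n) A)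
      (MvPolynomial (Fin n) A ⧸ sat (A := A) J) :=
    Groth.Agent.Helper9.VP3.finitePresentation_of_torsionFree htf
  have := Module.FinitePresentation.fg_ker (Submodule.mkQ (sat (A := A) J))
    (Submodule.mkQ_surjective _)
  rwa [Submodule.ker_mkQ] at this

end sat

section stage

variable {R : Type u} [CommRing R] {n : ℕ} (J : Ideal (MvPolynomial (Fin n) R))

/-- the extension of `J` to `T[X]`, for an `R`-algebra `T` -/
noncomputable abbrev extR (T : Type u) [CommRing T] [Algebra R T] : Ideal (MvPolynomial (Fin n) T) :=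
  J.map (MvPolynomial.map (algebraMap R T))

theorem map_extR {T T' : Type u} [CommRing T] [Algebra R T] [CommRing T'] [Algebra R T']
    (θ : T →ₐ[R] T') : (extR J T).map (MvPolynomial.map θ.toRingHom) = extR J T' := by
  rw [extR, extR, Ideal.map_map]
  congr 1
  refine RingHom.ext fun p => ?_
  rw [RingHom.comp_apply, MvPolynomial.map_map]
  congr 2
  exact θ.comp_algebraMap

theorem map_mem_extR {T T' : Type u} [CommRing T] [Algebra R T] [CommRing T'] [Algebra R T']
    (θ : T →ₐ[R] T') {p : MvPolynomial (Fin n) T} (hp : p ∈ extR J T) :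
    MvPolynomial.map θ.toRingHom p ∈ extR J T' := by
  rw [← map_extR J θ]
  exact Ideal.mem_map_of_mem _ hp

variable {A : Type u} [CommRing A] [Algebra R A]

/-- every polynomial over `A` has coefficients in a finitely generated subalgebra -/
theorem exists_lift (p : MvPolynomial (Fin n) A) :
    ∃ T : Subalgebra R A, T.FG ∧ ∃ p' : MvPolynomial (Fin n) T,
      MvPolynomial.map T.val.toRingHom p' = p := by
  classical
  refine ⟨Algebra.adjoin R (p.coeffs : Set A), ⟨p.coeffs, rfl⟩, ?_⟩
  have : p ∈ Set.range (MvPolynomial.map (Algebra.adjoin R (p.coeffs : Set A)).val.toRingHom) := by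
    rw [MvPolynomial.mem_range_map_iff_coeffs_subset]
    intro c hc
    exact ⟨⟨c, Algebra.subset_adjoin hc⟩, rfl⟩
  obtain ⟨p', hp'⟩ := this
  exact ⟨p', hp'⟩

theorem map_val_inclusion {T T' : Subalgebra R A} (h : T ≤ T') (p : MvPolynomial (Fin n) T) :
    MvPolynomial.map T'.val.toRingHom
      (MvPolynomial.map (Subalgebra.inclusion h).toRingHom p) =
    MvPolynomial.map T.val.toRingHom p := by
  rw [MvPolynomial.map_map]
  rfl

theorem map_val_injective (T : Subalgebra R A) :
    Function.Injective (MvPolynomial.map (σ := Fin n) T.val.toRingHom) :=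
  MvPolynomial.map_injective _ Subtype.val_injective

/-- elements of the extended ideal come from a finitely generated stage -/
theorem exists_stage_of_mem (x : MvPolynomial (Fin n) A) (hx : x ∈ extR J A) :
    ∃ T : Subalgebra R A, T.FG ∧ ∃ x' ∈ extR J T, MvPolynomial.map T.val.toRingHom x' = x := by
  rw [extR, Ideal.map] at hx
  induction hx using Submodule.span_induction with
  | mem x hx =>
    obtain ⟨p, hp, rfl⟩ := hx
    refine ⟨⊥, Subalgebra.fg_bot, MvPolynomial.map (algebraMap R _) p,
      Ideal.mem_map_of_mem _ hp, ?_⟩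
    rw [MvPolynomial.map_map]
    rfl
  | zero => exact ⟨⊥, Subalgebra.fg_bot, 0, Ideal.zero_mem _, map_zero _⟩
  | add x y _ _ hx hy =>
    obtain ⟨T₁, h₁, x', hx', rfl⟩ := hx
    obtain ⟨T₂, h₂, y', hy', rfl⟩ := hy
    refine ⟨T₁ ⊔ T₂, h₁.sup h₂,
      MvPolynomial.map (Subalgebra.inclusion le_sup_left).toRingHom x' +
        MvPolynomial.map (Subalgebra.inclusion le_sup_right).toRingHom y',
      Ideal.add_mem _ (map_mem_extR J _ hx') (map_mem_extR J _ hy'), ?_⟩
    rw [map_add, map_val_inclusion, map_val_inclusion]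
  | smul a x _ hx =>
    obtain ⟨T₁, h₁, x', hx', rfl⟩ := hx
    obtain ⟨T₂, h₂, a', rfl⟩ := exists_lift (R := R) a
    refine ⟨T₁ ⊔ T₂, h₁.sup h₂,
      MvPolynomial.map (Subalgebra.inclusion le_sup_right).toRingHom a' *
        MvPolynomial.map (Subalgebra.inclusion le_sup_left).toRingHom x',
      Ideal.mul_mem_left _ _ (map_mem_extR J _ hx'), ?_⟩
    rw [map_mul, map_val_inclusion, map_val_inclusion, smul_eq_mul]

/-- a finite family of polynomials over `A` which `f` multiplies into the extended ideal descends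
to a finitely generated stage. -/
theorem exists_stage {r : ℕ} (g : Fin r → MvPolynomial (Fin n) A) (f : R)
    (hfg : ∀ i, C (algebraMap R A f) * g i ∈ extR J A) :
    ∃ T₀ : Subalgebra R A, T₀.FG ∧ ∃ g' : Fin r → MvPolynomial (Fin n) T₀,
      (∀ i, MvPolynomial.map T₀.val.toRingHom (g' i) = g i) ∧
      ∀ i, C (algebraMap R T₀ f) * g' i ∈ extR J T₀ := by
  choose T hT x' hx' hxx' using fun i => exists_stage_of_mem J _ (hfg i)
  choose U hU g₀ hg₀ using fun i => exists_lift (R := R) (g i)
  let T₀ : Subalgebra R A := (⨆ i, T i) ⊔ (⨆ i, U i)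
  have hTle : ∀ i, T i ≤ T₀ := fun i => (le_iSup T i).trans le_sup_left
  have hUle : ∀ i, U i ≤ T₀ := fun i => (le_iSup U i).trans le_sup_right
  have hT₀ : T₀.FG := by
    have key : ∀ (V : Fin r → Subalgebra R A), (∀ i, (V i).FG) → (⨆ i, V i).FG := by
      intro V hV
      have : (⨆ i, V i) = Finset.univ.sup V := by
        rw [Finset.sup_univ_eq_iSup]
      rw [this]
      refine Finset.sup_induction Subalgebra.fg_bot (fun a ha b hb => ha.sup hb) (fun i _ => hV i)
    exact Subalgebra.FG.sup (key T hT) (key U hU)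
  refine ⟨T₀, hT₀, fun i => MvPolynomial.map (Subalgebra.inclusion (hUle i)).toRingHom (g₀ i),
    fun i => ?_, fun i => ?_⟩
  · rw [map_val_inclusion, hg₀]
  · have : C (algebraMap R T₀ f) *
        MvPolynomial.map (Subalgebra.inclusion (hUle i)).toRingHom (g₀ i) =
        MvPolynomial.map (Subalgebra.inclusion (hTle i)).toRingHom (x' i) := by
      apply map_val_injective T₀
      rw [map_mul, map_val_inclusion, map_val_inclusion, hg₀, hxx', MvPolynomial.map_C]
      rfl
    rw [this]
    exact map_mem_extR J _ (hx' i)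

end stage

section gens

variable {R : Type u} [CommRing R] [IsDomain R] {n : ℕ} (J : Ideal (MvPolynomial (Fin n) R))
  {A : Type u} [CommRing A] [IsDomain A] [ValuationRing A] [Algebra R A]
  {K : Type u} [Field K] [Algebra R K] [IsFractionRing R K] [Algebra A K] [IsScalarTower R A K]

/-- generators of the saturation, all multiplied into the extended ideal by one nonzero `f ∈ R` -/
theorem exists_sat_gens (hAK : Function.Injective (algebraMap A K)) :
    ∃ (r : ℕ) (g : Fin r → MvPolynomial (Fin n) A) (f : R), f ≠ 0 ∧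
      Ideal.span (Set.range g) = sat (A := A) J ∧
      ∀ i, C (algebraMap R A f) * g i ∈ extR J A := by
  classical
  obtain ⟨r, g, hg⟩ := Submodule.fg_iff_exists_fin_generating_family.mp (sat_fg (A := A) J)
  have hmem : ∀ i, g i ∈ sat (A := A) J := fun i => hg ▸ Submodule.subset_span ⟨i, rfl⟩
  choose c hc hcg using hmem
  have hc0 : (∏ i, c i) ≠ 0 := Finset.prod_ne_zero_iff.mpr fun i _ => hc i
  obtain ⟨x, y, hy, hxy⟩ := IsFractionRing.div_surjective (A := R) (algebraMap A K (∏ i, c i))
  have hy0 : algebraMap R K y ≠ 0 :=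
    IsFractionRing.to_map_ne_zero_of_mem_nonZeroDivisors hy
  have hx : algebraMap R A x = (∏ i, c i) * algebraMap R A y := by
    apply hAK
    rw [map_mul, ← IsScalarTower.algebraMap_apply, ← IsScalarTower.algebraMap_apply, ← hxy,
      div_mul_cancel₀ _ hy0]
  have hyA : algebraMap R A y ≠ 0 := by
    intro h
    apply hy0
    rw [IsScalarTower.algebraMap_apply R A K, h, map_zero]
  refine ⟨r, g, x, ?_, hg, fun i => ?_⟩
  · intro h
    rw [h, map_zero] at hx
    exact mul_ne_zero hc0 hyA hx.symm
  · obtain ⟨e, he⟩ := Finset.dvd_prod_of_mem c (Finset.mem_univ i)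
    have : C (algebraMap R A x) * g i = C (e * algebraMap R A y) * (C (c i) * g i) := by
      rw [hx, he, ← mul_assoc, ← C_mul]
      congr 2
      ring
    rw [this]
    exact Ideal.mul_mem_left _ _ (hcg i)

end gens

end Groth.Agent.Helper9.BF2
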