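import Mathlib
import Groth.Agent.Helper9.BF2
import Groth.Agent.Lead.FD19

/-!
# Helper9.BF3 : flat finite stages for the saturation over a valuation ring
-/

set_option autoImplicit false
universe u

namespace Groth.Agent.Helper9.BF3

open MvPolynomial TensorProduct Groth.Agent.Helper9.BF2

attribute [local instance] MvPolynomial.algebraMvPolynomial

section flatmap

variable {n r : ℕ} {T T' : Type u} [CommRing T] [CommRing T']

theorem map_span_range (θ : T →+* T') (g' : Fin r → MvPolynomial (Fin n) T) :
    (Ideal.span (Set.range g')).map (MvPolynomial.map θ) =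
      Ideal.span (Set.range fun i => MvPolynomial.map θ (g' i)) := by
  rw [Ideal.map_span, ← Set.range_comp]
  rfl

/-- flatness of `T[X]/(g')` is preserved by base change of the coefficient ring -/
theorem flat_map (θ : T →+* T') (g' : Fin r → MvPolynomial (Fin n) T)
    (h : Module.Flat T (MvPolynomial (Fin n) T ⧸ Ideal.span (Set.range g'))) :
    Module.Flat T' (MvPolynomial (Fin n) T' ⧸
      Ideal.span (Set.range fun i => MvPolynomial.map θ (g' i))) := by
  let _ : Algebra T T' := θ.toAlgebra
  have hp := Groth.Agent.Helper9.BF1.isPushout_polyQuot T T' (Ideal.span (Set.range g'))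
  have he : (Ideal.span (Set.range g')).map
      (algebraMap (MvPolynomial (Fin n) T) (MvPolynomial (Fin n) T')) =
      Ideal.span (Set.range fun i => MvPolynomial.map θ (g' i)) := map_span_range θ g'
  have h1 : Module.Flat T' (MvPolynomial (Fin n) T' ⧸ (Ideal.span (Set.range g')).map
      (algebraMap (MvPolynomial (Fin n) T) (MvPolynomial (Fin n) T'))) :=
    Module.Flat.isBaseChange T T' _ _ hp.out
  exact Module.Flat.of_linearEquiv (Ideal.quotientEquivAlgOfEq T' he).symm.toLinearEquiv

end flatmap

section stage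

variable {R : Type u} [CommRing R] {n : ℕ} (J : Ideal (MvPolynomial (Fin n) R))
  {A : Type u} [CommRing A] [Algebra R A] (f : R) {r : ℕ} (g : Fin r → MvPolynomial (Fin n) A)

/-- stage data: lifts `g'` of the `g i` to `T[X]`, which `f` multiplies into the extension of `J`,
such that `T[X]/(g')` is flat over `T`. -/
structure IsStage (T : Type u) [CommRing T] [Algebra R T] (j : T →ₐ[R] A)
    (g' : Fin r → MvPolynomial (Fin n) T) : Prop where
  lift : ∀ i, MvPolynomial.map j.toRingHom (g' i) = g i
  mul_mem : ∀ i, C (algebraMap R T f) * g' i ∈ extR J T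
  flat : Module.Flat T (MvPolynomial (Fin n) T ⧸ Ideal.span (Set.range g'))

variable {J f g}

theorem IsStage.map {T T' : Type u} [CommRing T] [Algebra R T] [CommRing T'] [Algebra R T']
    {j : T →ₐ[R] A} {g' : Fin r → MvPolynomial (Fin n) T} (h : IsStage J f g T j g')
    (θ : T →ₐ[R] T') (j' : T' →ₐ[R] A) (hθ : j'.comp θ = j) :
    IsStage J f g T' j' (fun i => MvPolynomial.map θ.toRingHom (g' i)) where
  lift i := by
    rw [MvPolynomial.map_map, ← h.lift i, ← hθ]
    rfl
  mul_mem i := by
    have := map_mem_extR J θ (h.mul_mem i)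
    rwa [map_mul, MvPolynomial.map_C, AlgHom.toRingHom_eq_coe, RingHom.coe_coe, θ.commutes] at this
  flat := flat_map θ.toRingHom g' h.flat

end stage

section exist

variable {R : Type u} [CommRing R] {n : ℕ} (J : Ideal (MvPolynomial (Fin n) R))
  {A : Type u} [CommRing A] [IsDomain A] [ValuationRing A] [Algebra R A]

/-- `A[X]/sat J` is flat over the valuation ring `A` -/
theorem flat_quot_sat : Module.Flat A (MvPolynomial (Fin n) A ⧸ sat (A := A) J) := by
  rw [Module.Flat.flat_iff_torsion_eq_bot_of_isBezout, eq_bot_iff]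
  intro m hm
  rw [Submodule.mem_torsion_iff] at hm
  obtain ⟨⟨c, hc⟩, hcm⟩ := hm
  obtain ⟨p, rfl⟩ := Ideal.Quotient.mk_surjective m
  rw [Submodule.mem_bot, Ideal.Quotient.eq_zero_iff_mem]
  apply sat_saturated J (nonZeroDivisors.ne_zero hc)
  rw [← Ideal.Quotient.eq_zero_iff_mem, ← smul_eq_C_mul]
  exact hcm

theorem exists_flat_stage (f : R) {r : ℕ} (g : Fin r → MvPolynomial (Fin n) A)
    (hg : Ideal.span (Set.range g) = sat (A := A) J)
    (hfg : ∀ i, C (algebraMap R A f) * g i ∈ extR J A) :
    ∃ (C' : Type u) (_ : CommRing C') (_ : Algebra R C') (_ : Algebra.FiniteType R C')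
      (ψ : C' →ₐ[R] A) (g' : Fin r → MvPolynomial (Fin n) C'), IsStage J f g C' ψ g' := by
  obtain ⟨T₀, hT₀, g₀, hlift, hmem⟩ := exists_stage J g f hfg
  -- flatness over `A`
  have hpA := Groth.Agent.Helper9.BF1.isPushout_polyQuot (σ := Fin n) T₀ A
    (Ideal.span (Set.range g₀))
  have heA : (Ideal.span (Set.range g₀)).map
      (algebraMap (MvPolynomial (Fin n) T₀) (MvPolynomial (Fin n) A)) = sat (A := A) J := by
    rw [← hg]
    refine (map_span_range (algebraMap T₀ A) g₀).trans ?_
    congr 2
    funext i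
    exact hlift i
  have hflA : Module.Flat A (A ⊗[T₀] (MvPolynomial (Fin n) T₀ ⧸ Ideal.span (Set.range g₀))) := by
    have h1 : Module.Flat A (MvPolynomial (Fin n) A ⧸ (Ideal.span (Set.range g₀)).map
        (algebraMap (MvPolynomial (Fin n) T₀) (MvPolynomial (Fin n) A))) := by
      have := flat_quot_sat (A := A) J
      exact Module.Flat.of_linearEquiv (Ideal.quotientEquivAlgOfEq A heA).toLinearEquiv
    exact Module.Flat.of_linearEquiv (IsBaseChange.equiv hpA.out)
  have hfpM : Module.FinitePresentation (MvPolynomial (Fin n) T₀)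
      (MvPolynomial (Fin n) T₀ ⧸ Ideal.span (Set.range g₀)) := by
    refine Module.finitePresentation_of_free_of_surjective
      (Submodule.mkQ (Ideal.span (Set.range g₀))) (Submodule.mkQ_surjective _) ?_
    rw [Submodule.ker_mkQ]
    exact Submodule.fg_span (Set.finite_range g₀)
  obtain ⟨C', _, _, hfpC, ψ₀, hflC⟩ := Groth.Agent.Lead.FD18.exists_fp_flat_module (A₀ := T₀)
    (MvPolynomial (Fin n) T₀) (MvPolynomial (Fin n) T₀ ⧸ Ideal.span (Set.range g₀)) A
  let _ : Algebra R C' := ((algebraMap T₀ C').comp (algebraMap R T₀)).toAlgebra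
  have _ : IsScalarTower R T₀ C' := IsScalarTower.of_algebraMap_eq' rfl
  have hftT : Algebra.FiniteType R T₀ := (Subalgebra.fg_iff_finiteType T₀).mp hT₀
  have hftC : Algebra.FiniteType R C' := Algebra.FiniteType.trans hftT inferInstance
  refine ⟨C', inferInstance, inferInstance, hftC, ψ₀.restrictScalars R,
    fun i => MvPolynomial.map (algebraMap T₀ C') (g₀ i), ⟨fun i => ?_, fun i => ?_, ?_⟩⟩
  · rw [MvPolynomial.map_map, ← hlift i]
    congr 2
    exact ψ₀.comp_algebraMap
  · have := map_mem_extR J (IsScalarTower.toAlgHom R T₀ C') (hmem i)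
    rw [map_mul, MvPolynomial.map_C] at this
    exact this
  · have hpC := Groth.Agent.Helper9.BF1.isPushout_polyQuot (σ := Fin n) T₀ C'
      (Ideal.span (Set.range g₀))
    have h1 : Module.Flat C' (MvPolynomial (Fin n) C' ⧸ (Ideal.span (Set.range g₀)).map
        (algebraMap (MvPolynomial (Fin n) T₀) (MvPolynomial (Fin n) C'))) :=
      Module.Flat.of_linearEquiv (IsBaseChange.equiv hpC.out).symm
    have heC : (Ideal.span (Set.range g₀)).map
        (algebraMap (MvPolynomial (Fin n) T₀) (MvPolynomial (Fin n) C')) =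
        Ideal.span (Set.range fun i => MvPolynomial.map (algebraMap T₀ C') (g₀ i)) :=
      map_span_range (algebraMap T₀ C') g₀
    exact Module.Flat.of_linearEquiv (Ideal.quotientEquivAlgOfEq C' heC).symm.toLinearEquiv

end exist

end Groth.Agent.Helper9.BF3
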