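import Mathlib
import Groth.Agent.Helper9.BF3
import Groth.Prelude.Def_FlatCA

/-!
# Helper9.BF4 : the strict transform at a flat stage
-/

set_option autoImplicit false
universe u

namespace Groth.Agent.Helper9.BF4

open MvPolynomial TensorProduct Groth.Agent.Helper9.BF2 Groth.Agent.Helper9.BF3

attribute [local instance] MvPolynomial.algebraMvPolynomial

section le

variable {R : Type u} [CommRing R] {n : ℕ} {J : Ideal (MvPolynomial (Fin n) R)}
  {A : Type u} [CommRing A] [IsDomain A] [Algebra R A] {f : R} {r : ℕ}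
  {g : Fin r → MvPolynomial (Fin n) A}

/-- at a flat stage inside `A`, the extension of `J` lies in the ideal generated by the lifts -/
theorem IsStage.extR_le {T : Type u} [CommRing T] [Algebra R T] {j : T →ₐ[R] A}
    (hj : Function.Injective j) {g' : Fin r → MvPolynomial (Fin n) T}
    (h : IsStage J f g T j g') (hg : Ideal.span (Set.range g) = sat (A := A) J) :
    extR J T ≤ Ideal.span (Set.range g') := by
  intro p hp
  let _ : Algebra T A := j.toRingHom.toAlgebra
  have hflat := h.flat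
  have hpA := Groth.Agent.Helper9.BF1.isPushout_polyQuot (σ := Fin n) T A
    (Ideal.span (Set.range g'))
  have heA : (Ideal.span (Set.range g')).map
      (algebraMap (MvPolynomial (Fin n) T) (MvPolynomial (Fin n) A)) = sat (A := A) J := by
    rw [← hg]
    refine (map_span_range (algebraMap T A) g').trans ?_
    congr 2
    funext i
    exact h.lift i
  -- the base change map is injective
  have hinj : Function.Injective
      (IsScalarTower.toAlgHom T (MvPolynomial (Fin n) T ⧸ Ideal.span (Set.range g'))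
        (MvPolynomial (Fin n) A ⧸ (Ideal.span (Set.range g')).map
          (algebraMap (MvPolynomial (Fin n) T) (MvPolynomial (Fin n) A)))).toLinearMap := by
    have h1 : Function.Injective ((Algebra.linearMap T A).rTensor
        (MvPolynomial (Fin n) T ⧸ Ideal.span (Set.range g'))) :=
      Module.Flat.rTensor_preserves_injective_linearMap _ hj
    have h2 : ∀ x, (IsBaseChange.equiv hpA.out) ((Algebra.linearMap T A).rTensor _
        ((TensorProduct.lid T _).symm x)) =
        (IsScalarTower.toAlgHom T (MvPolynomial (Fin n) T ⧸ Ideal.span (Set.range g'))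
        (MvPolynomial (Fin n) A ⧸ (Ideal.span (Set.range g')).map
          (algebraMap (MvPolynomial (Fin n) T) (MvPolynomial (Fin n) A)))).toLinearMap x := by
      intro x
      rw [TensorProduct.lid_symm_apply, LinearMap.rTensor_tmul, IsBaseChange.equiv_tmul,
        Algebra.linearMap_apply, map_one, one_smul]
    intro x y hxy
    rw [← h2, ← h2] at hxy
    exact (TensorProduct.lid T _).symm.injective (h1 ((IsBaseChange.equiv hpA.out).injective hxy))
  have hz : (IsScalarTower.toAlgHom T (MvPolynomial (Fin n) T ⧸ Ideal.span (Set.range g'))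
        (MvPolynomial (Fin n) A ⧸ (Ideal.span (Set.range g')).map
          (algebraMap (MvPolynomial (Fin n) T) (MvPolynomial (Fin n) A)))).toLinearMap
      (Ideal.Quotient.mk _ p) = 0 := by
    change Ideal.Quotient.mk _ (MvPolynomial.map (algebraMap T A) p) = 0
    rw [Ideal.Quotient.eq_zero_iff_mem, heA]
    exact extA_le_sat J (map_mem_extR J j hp)
  have := hinj (hz.trans (map_zero _).symm)
  rwa [Ideal.Quotient.eq_zero_iff_mem] at this

end le

lemma mem_powTorsion_iff {S : Type u} [CommRing S] (a : S) {N : Type u} [AddCommGroup N]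
    [Module S N] (y : N) : y ∈ FlatCA.powTorsion S a N ↔ ∃ m : ℕ, a ^ m • y = 0 := by
  unfold FlatCA.powTorsion
  rw [Submodule.mem_iSup_of_directed]
  · simp only [Submodule.mem_torsionBy_iff]
  · intro m1 m2
    refine ⟨m1 + m2, ?_, ?_⟩
    · intro y hy
      rw [Submodule.mem_torsionBy_iff] at hy ⊢
      rw [pow_add, mul_comm, mul_smul, hy, smul_zero]
    · intro y hy
      rw [Submodule.mem_torsionBy_iff] at hy ⊢
      rw [pow_add, mul_smul, hy, smul_zero]

section strict

variable {R : Type u} [CommRing R] {n : ℕ} {S : Type u} [CommRing S] [Algebra R S]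
  (σ : MvPolynomial (Fin n) R →ₐ[R] S)
  (R₁ : Type u) [CommRing R₁] [Algebra R R₁]

/-- the presentation `R₁[X] → R₁ ⊗[R] S` induced by `σ` -/
noncomputable def Psi : MvPolynomial (Fin n) R₁ →ₐ[R₁] R₁ ⊗[R] S :=
  MvPolynomial.aeval (fun i => (1 : R₁) ⊗ₜ[R] σ (X i))

variable {R₁}

theorem Psi_map (p : MvPolynomial (Fin n) R) :
    Psi σ R₁ (MvPolynomial.map (algebraMap R R₁) p) = (1 : R₁) ⊗ₜ[R] σ p := by
  induction p using MvPolynomial.induction_on with
  | C a =>
    have h1 : σ (C a) = algebraMap R S a := by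
      rw [← MvPolynomial.algebraMap_eq, AlgHom.commutes]
    rw [MvPolynomial.map_C, Psi, MvPolynomial.aeval_C, Algebra.TensorProduct.algebraMap_apply, h1]
    change (algebraMap R R₁ a) ⊗ₜ[R] (1 : S) = _
    rw [Algebra.algebraMap_eq_smul_one a, Algebra.algebraMap_eq_smul_one a,
      TensorProduct.smul_tmul]
  | add p q hp hq => rw [map_add, map_add, hp, hq, map_add, TensorProduct.tmul_add]
  | mul_X p i hp =>
    rw [map_mul, map_mul, hp, MvPolynomial.map_X, map_mul, Psi, MvPolynomial.aeval_X,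
      Algebra.TensorProduct.tmul_mul_tmul, mul_one]

theorem Psi_surjective (hσ : Function.Surjective σ) : Function.Surjective (Psi σ R₁) := by
  intro z
  induction z using TensorProduct.induction_on with
  | zero => exact ⟨0, map_zero _⟩
  | tmul x s =>
    obtain ⟨p, rfl⟩ := hσ s
    refine ⟨C x * MvPolynomial.map (algebraMap R R₁) p, ?_⟩
    rw [map_mul, Psi_map, Psi, MvPolynomial.aeval_C, Algebra.TensorProduct.algebraMap_apply,
      Algebra.TensorProduct.tmul_mul_tmul, mul_one, one_mul]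
    rfl
  | add x y hx hy =>
    obtain ⟨p, rfl⟩ := hx
    obtain ⟨q, rfl⟩ := hy
    exact ⟨p + q, map_add _ _ _⟩

theorem Psi_eq_zero_of_mem {q : MvPolynomial (Fin n) R₁}
    (hq : q ∈ extR (RingHom.ker σ.toRingHom) R₁) : Psi σ R₁ q = 0 := by
  have : extR (RingHom.ker σ.toRingHom) R₁ ≤ RingHom.ker (Psi σ R₁).toRingHom := by
    rw [extR, Ideal.map_le_iff_le_comap]
    intro p hp
    rw [Ideal.mem_comap, RingHom.mem_ker]
    change Psi σ R₁ (MvPolynomial.map (algebraMap R R₁) p) = 0
    rw [Psi_map, show σ p = 0 from hp, TensorProduct.tmul_zero]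
  exact this hq

end strict

section equiv

variable {R : Type u} [CommRing R] {n : ℕ} {S : Type u} [CommRing S] [Algebra R S]
  (σ : MvPolynomial (Fin n) R →ₐ[R] S) (hσ : Function.Surjective σ)
  {R₁ : Type u} [CommRing R₁] [Algebra R R₁]
  {r : ℕ} (g' : Fin r → MvPolynomial (Fin n) R₁)
  (hle : extR (RingHom.ker σ.toRingHom) R₁ ≤ Ideal.span (Set.range g'))

/-- `R[X] → R₁[X] → R₁[X]/(g')` -/
noncomputable def gamma0 :
    MvPolynomial (Fin n) R →ₐ[R] (MvPolynomial (Fin n) R₁ ⧸ Ideal.span (Set.range g')) :=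
  (Ideal.Quotient.mkₐ R _).comp
    (IsScalarTower.toAlgHom R (MvPolynomial (Fin n) R) (MvPolynomial (Fin n) R₁))

theorem gamma0_apply (p : MvPolynomial (Fin n) R) :
    gamma0 g' p = Ideal.Quotient.mk _ (MvPolynomial.map (algebraMap R R₁) p) := rfl

include hle in
theorem ker_le_gamma0 : RingHom.ker σ.toRingHom ≤ RingHom.ker (gamma0 g').toRingHom := by
  intro p hp
  rw [RingHom.mem_ker]
  change gamma0 g' p = 0
  rw [gamma0_apply, Ideal.Quotient.eq_zero_iff_mem]
  exact hle (Ideal.mem_map_of_mem _ hp)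

/-- `S → R₁[X]/(g')` -/
noncomputable def gamma : S →ₐ[R] (MvPolynomial (Fin n) R₁ ⧸ Ideal.span (Set.range g')) :=
  AlgHom.liftOfSurjective σ hσ (gamma0 g') (ker_le_gamma0 σ g' hle)

/-- `R₁ ⊗[R] S → R₁[X]/(g')` -/
noncomputable def Phi :
    R₁ ⊗[R] S →ₐ[R₁] (MvPolynomial (Fin n) R₁ ⧸ Ideal.span (Set.range g')) :=
  Algebra.TensorProduct.lift (Algebra.ofId R₁ _) (gamma σ hσ g' hle) (fun _ _ => Commute.all _ _)

theorem Phi_Psi (q : MvPolynomial (Fin n) R₁) :
    Phi σ hσ g' hle (Psi σ R₁ q) = Ideal.Quotient.mk _ q := by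
  have : (Phi σ hσ g' hle).comp (Psi σ R₁) = Ideal.Quotient.mkₐ R₁ _ := by
    refine MvPolynomial.algHom_ext fun i => ?_
    rw [AlgHom.comp_apply, Psi, MvPolynomial.aeval_X, Phi, Algebra.TensorProduct.lift_tmul,
      map_one, one_mul, gamma, AlgHom.liftOfSurjective_apply, gamma0_apply, MvPolynomial.map_X]
    rfl
  exact congr($this q)

theorem Phi_surjective : Function.Surjective (Phi σ hσ g' hle) := by
  intro d
  obtain ⟨q, rfl⟩ := Ideal.Quotient.mk_surjective d
  exact ⟨_, Phi_Psi σ hσ g' hle q⟩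

end equiv

section final

variable {R : Type u} [CommRing R] {n : ℕ} {S : Type u} [CommRing S] [Algebra R S]
  (σ : MvPolynomial (Fin n) R →ₐ[R] S) (hσ : Function.Surjective σ)
  {R₁ : Type u} [CommRing R₁] [IsDomain R₁] [Algebra R R₁]
  (hR₁ : Function.Injective (algebraMap R R₁))
  {r : ℕ} (g' : Fin r → MvPolynomial (Fin n) R₁)
  (hle : extR (RingHom.ker σ.toRingHom) R₁ ≤ Ideal.span (Set.range g'))
  {f : R} (hmul : ∀ i, C (algebraMap R R₁ f) * g' i ∈ extR (RingHom.ker σ.toRingHom) R₁)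
  (hflat : Module.Flat R₁ (MvPolynomial (Fin n) R₁ ⧸ Ideal.span (Set.range g')))
  (a : R) (ha : a ≠ 0) (hfa : f ∣ a)

omit [IsDomain R₁] in
include hmul in
theorem f_mul_Psi_eq_zero {q : MvPolynomial (Fin n) R₁} (hq : q ∈ Ideal.span (Set.range g')) :
    algebraMap R (R₁ ⊗[R] S) f * Psi σ R₁ q = 0 := by
  have hf : algebraMap R (R₁ ⊗[R] S) f = Psi σ R₁ (C (algebraMap R R₁ f)) := by
    rw [Psi, MvPolynomial.aeval_C, ← IsScalarTower.algebraMap_apply]
  induction hq using Submodule.span_induction with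
  | mem q hq =>
    obtain ⟨i, rfl⟩ := hq
    rw [hf, ← map_mul]
    exact Psi_eq_zero_of_mem σ (hmul i)
  | zero => rw [map_zero, mul_zero]
  | add x y _ _ hx hy => rw [map_add, mul_add, hx, hy, add_zero]
  | smul h x _ hx => rw [smul_eq_mul, map_mul, mul_left_comm, hx, mul_zero]

include hR₁ hmul hflat ha hfa in
theorem ker_Phi :
    RingHom.ker (Phi σ hσ g' hle).toRingHom =
      (FlatCA.powTorsion (R₁ ⊗[R] S) (algebraMap R (R₁ ⊗[R] S) a) (R₁ ⊗[R] S) :
        Ideal (R₁ ⊗[R] S)) := by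
  apply le_antisymm
  · intro z hz
    obtain ⟨q, rfl⟩ := Psi_surjective σ hσ z
    have hq : q ∈ Ideal.span (Set.range g') := by
      rw [← Ideal.Quotient.eq_zero_iff_mem, ← Phi_Psi σ hσ g' hle q]
      exact hz
    have h0 := f_mul_Psi_eq_zero σ g' hmul hq
    obtain ⟨b, rfl⟩ := hfa
    refine (mem_powTorsion_iff _ _).mpr ⟨1, ?_⟩
    rw [pow_one, smul_eq_mul, map_mul, mul_comm (algebraMap R _ f), mul_assoc, h0, mul_zero]
  · intro z hz
    obtain ⟨k, hk⟩ := (mem_powTorsion_iff _ _).mp hz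
    rw [RingHom.mem_ker]
    change Phi σ hσ g' hle z = 0
    have hk' : (algebraMap R R₁ a) ^ k • z = 0 := by
      rw [Algebra.smul_def, map_pow, ← IsScalarTower.algebraMap_apply R R₁ (R₁ ⊗[R] S)]
      exact hk
    have h1 : (algebraMap R R₁ a) ^ k • Phi σ hσ g' hle z = 0 := by
      have h2 := map_smul (Phi σ hσ g' hle) ((algebraMap R R₁ a) ^ k) z
      rw [hk', map_zero] at h2
      exact h2.symm
    have hreg : IsRegular ((algebraMap R R₁ a) ^ k) :=
      IsRegular.of_ne_zero (pow_ne_zero k ((map_ne_zero_iff _ hR₁).mpr ha))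
    have := Module.Flat.isSMulRegular_of_isRegular
      (M := MvPolynomial (Fin n) R₁ ⧸ Ideal.span (Set.range g')) hreg
    exact this (h1.trans (smul_zero _).symm)

include hσ hle hR₁ hmul hflat ha hfa in
/-- the strict transform of `S` at a flat stage is `R₁[X]/(g')` -/
theorem strict_flat_fp :
    Module.Flat R₁ ((R₁ ⊗[R] S) ⧸
      FlatCA.powTorsion (R₁ ⊗[R] S) (algebraMap R (R₁ ⊗[R] S) a) (R₁ ⊗[R] S)) ∧
    Algebra.FinitePresentation R₁ ((R₁ ⊗[R] S) ⧸
      FlatCA.powTorsion (R₁ ⊗[R] S) (algebraMap R (R₁ ⊗[R] S) a) (R₁ ⊗[R] S)) := by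
  have hk := ker_Phi σ hσ hR₁ g' hle hmul hflat a ha hfa
  let e : ((R₁ ⊗[R] S) ⧸
      FlatCA.powTorsion (R₁ ⊗[R] S) (algebraMap R (R₁ ⊗[R] S) a) (R₁ ⊗[R] S)) ≃ₐ[R₁]
      (MvPolynomial (Fin n) R₁ ⧸ Ideal.span (Set.range g')) :=
    (Ideal.quotientEquivAlgOfEq R₁ hk.symm).trans
      (Ideal.quotientKerAlgEquivOfSurjective (Phi_surjective σ hσ g' hle))
  have hfpD : Algebra.FinitePresentation R₁
      (MvPolynomial (Fin n) R₁ ⧸ Ideal.span (Set.range g')) :=
    Algebra.FinitePresentation.quotient (Submodule.fg_span (Set.finite_range g'))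
  exact ⟨Module.Flat.of_linearEquiv e.toLinearEquiv, Algebra.FinitePresentation.equiv e.symm⟩

end final

end Groth.Agent.Helper9.BF4
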