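import Mathlib
import Groth.Agent.Helper9.BF4

/-!
# Helper9.BF5 : flattening of a finite type algebra along a valuation ring, ring version
-/

set_option autoImplicit false
universe u

namespace Groth.Agent.Helper9.BF5

open MvPolynomial TensorProduct Groth.Agent.Helper9.BF2 Groth.Agent.Helper9.BF3
  Groth.Agent.Helper9.BF4

variable {R : Type u} [CommRing R] [IsDomain R] {K : Type u} [Field K] [Algebra R K]
  [IsFractionRing R K] {A : Type u} [CommRing A] [IsDomain A] [ValuationRing A] [Algebra A K]
  [Algebra R A] [IsScalarTower R A K]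

/-- Let `S` be a finite type algebra over the domain `R` and `A ⊆ Frac R` a valuation ring
containing `R`. There are a finitely generated subalgebra `T₁ ⊆ A` and a nonzero `f ∈ R` such that
over every `R`-subalgebra `R₁ ⊇ T₁` of `A`, and for every nonzero multiple `a` of `f`, the quotient
of `R₁ ⊗ S` by its `a`-power torsion is flat and finitely presented over `R₁`. -/
theorem exists_stage_flat_fp (hAK : Function.Injective (algebraMap A K))
    (S : Type u) [CommRing S] [Algebra R S] [Algebra.FiniteType R S] :
    ∃ T₁ : Subalgebra R A, T₁.FG ∧ ∃ f : R, f ≠ 0 ∧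
      ∀ (R₁ : Type u) [CommRing R₁] [Algebra R R₁] (j : R₁ →ₐ[R] A), Function.Injective j →
        T₁ ≤ j.range → ∀ a : R, a ≠ 0 → f ∣ a →
        Module.Flat R₁ ((R₁ ⊗[R] S) ⧸
          FlatCA.powTorsion (R₁ ⊗[R] S) (algebraMap R (R₁ ⊗[R] S) a) (R₁ ⊗[R] S)) ∧
        Algebra.FinitePresentation R₁ ((R₁ ⊗[R] S) ⧸
          FlatCA.powTorsion (R₁ ⊗[R] S) (algebraMap R (R₁ ⊗[R] S) a) (R₁ ⊗[R] S)) := by
  obtain ⟨n, σ, hσ⟩ := Algebra.FiniteType.iff_quotient_mvPolynomial''.1
    (inferInstance : Algebra.FiniteType R S)
  obtain ⟨r, g, f, hf, hg, hfg⟩ := exists_sat_gens (A := A) (RingHom.ker σ.toRingHom) hAK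
  obtain ⟨C', _, _, hft, ψ, g₁, hstage⟩ :=
    exists_flat_stage (RingHom.ker σ.toRingHom) f g hg hfg
  have hRA : Function.Injective (algebraMap R A) := by
    have h1 : Function.Injective (algebraMap R K) := IsFractionRing.injective R K
    rw [IsScalarTower.algebraMap_eq R A K] at h1
    exact Function.Injective.of_comp h1
  refine ⟨ψ.range, ?_, f, hf, ?_⟩
  · rw [← Algebra.map_top]
    exact hft.out.map ψ
  · intro R₁ _ _ j hj hT a ha hfa
    let θ : C' →ₐ[R] R₁ := (AlgEquiv.ofInjective j hj).symm.toAlgHom.comp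
      ((Subalgebra.inclusion hT).comp ψ.rangeRestrict)
    have hθ : j.comp θ = ψ := by
      ext c
      change j ((AlgEquiv.ofInjective j hj).symm (Subalgebra.inclusion hT (ψ.rangeRestrict c))) = _
      have := (AlgEquiv.ofInjective j hj).apply_symm_apply
        (Subalgebra.inclusion hT (ψ.rangeRestrict c))
      exact congr(($this : A))
    have hstage' := hstage.map θ j hθ
    have _ : IsDomain R₁ := Function.Injective.isDomain j.toRingHom hj
    have hR₁ : Function.Injective (algebraMap R R₁) := by
      have h1 : Function.Injective (j.toRingHom.comp (algebraMap R R₁)) := by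
        rw [AlgHom.toRingHom_eq_coe, AlgHom.comp_algebraMap]
        exact hRA
      exact Function.Injective.of_comp h1
    have hle := IsStage.extR_le hj hstage' hg
    exact strict_flat_fp σ hσ hR₁ _ hle hstage'.mul_mem hstage'.flat a ha hfa

end Groth.Agent.Helper9.BF5
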