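import Mathlib
import Groth.Agent.Helper9.BF5

/-!
# Helper9.BF6 : flattening of a finite module along a valuation ring, via the trivial square zero
extension
-/

set_option autoImplicit false
universe u

namespace Groth.Agent.Helper9.BF6

open TensorProduct Groth.Agent.Helper9.BF4

section retract

/-- the quotient by power torsion is functorial: retracts -/
theorem flat_quot_powTorsion_of_retract {R₁ : Type u} [CommRing R₁] (a₁ : R₁)
    {N : Type u} [AddCommGroup N] [Module R₁ N]
    {B : Type u} [CommRing B] [Algebra R₁ B] (x : B) (hx : x = algebraMap R₁ B a₁)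
    (i : N →ₗ[R₁] B) (p : B →ₗ[R₁] N) (hpi : ∀ y, p (i y) = y)
    (hflat : Module.Flat R₁ (B ⧸ FlatCA.powTorsion B x B)) :
    Module.Flat R₁ (N ⧸ FlatCA.powTorsion R₁ a₁ N) := by
  have hi : FlatCA.powTorsion R₁ a₁ N ≤
      LinearMap.ker (((FlatCA.powTorsion B x B).mkQ.restrictScalars R₁).comp i) := by
    intro y hy
    rw [mem_powTorsion_iff] at hy
    obtain ⟨m, hm⟩ := hy
    rw [LinearMap.mem_ker, LinearMap.comp_apply, LinearMap.restrictScalars_apply,
      Submodule.mkQ_apply, Submodule.Quotient.mk_eq_zero, mem_powTorsion_iff]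
    refine ⟨m, ?_⟩
    rw [hx, ← map_pow, algebraMap_smul, ← map_smul, hm, map_zero]
  have hp : (FlatCA.powTorsion B x B).restrictScalars R₁ ≤
      LinearMap.ker ((FlatCA.powTorsion R₁ a₁ N).mkQ.comp p) := by
    intro y hy
    rw [Submodule.restrictScalars_mem, mem_powTorsion_iff] at hy
    obtain ⟨m, hm⟩ := hy
    rw [LinearMap.mem_ker, LinearMap.comp_apply,
      Submodule.mkQ_apply, Submodule.Quotient.mk_eq_zero, mem_powTorsion_iff]
    refine ⟨m, ?_⟩
    rw [hx, ← map_pow, algebraMap_smul] at hm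
    rw [← map_smul, hm, map_zero]
  let i' : (N ⧸ FlatCA.powTorsion R₁ a₁ N) →ₗ[R₁] (B ⧸ FlatCA.powTorsion B x B) :=
    Submodule.liftQ _ _ hi
  let p' : (B ⧸ FlatCA.powTorsion B x B) →ₗ[R₁] (N ⧸ FlatCA.powTorsion R₁ a₁ N) :=
    (Submodule.liftQ _ _ hp).comp
      (Submodule.Quotient.restrictScalarsEquiv R₁ (FlatCA.powTorsion B x B)).symm.toLinearMap
  refine Module.Flat.of_retract i' p' ?_
  refine Submodule.linearMap_qext _ ?_
  ext y
  change p' (i' (Submodule.Quotient.mk y)) = Submodule.Quotient.mk y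
  have h1 : i' (Submodule.Quotient.mk y) = Submodule.Quotient.mk (i y) := rfl
  rw [h1]
  have h2 : p' (Submodule.Quotient.mk (i y)) = Submodule.Quotient.mk (p (i y)) := rfl
  rw [h2, hpi]

end retract

section tsze

variable {R : Type u} [CommRing R] (S : Type u) [CommRing S] [Algebra R S]
  (M : Type u) [AddCommGroup M] [Module S M] [Module R M] [IsScalarTower R S M]

/-- the right action of `S` on `M`, for the trivial square zero extension -/
noncomputable abbrev opModule : Module Sᵐᵒᵖ M :=
  Module.compHom M ((RingHom.id S).fromOpposite fun _ _ => mul_comm _ _)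

attribute [local instance] opModule

lemma isCentralScalar : IsCentralScalar S M := ⟨fun _ _ => rfl⟩

attribute [local instance] isCentralScalar

theorem finiteType_tsze [Algebra.FiniteType R S] [Module.Finite S M] :
    Algebra.FiniteType R (TrivSqZeroExt S M) := by
  obtain ⟨s, hs⟩ := (inferInstance : Algebra.FiniteType R S).out
  obtain ⟨t, ht⟩ := (inferInstance : Module.Finite S M).fg_top
  classical
  refine ⟨⟨s.image TrivSqZeroExt.inl ∪ t.image TrivSqZeroExt.inr, ?_⟩⟩
  rw [eq_top_iff]
  have hinl : ∀ x : S, (TrivSqZeroExt.inl x : TrivSqZeroExt S M) ∈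
      Algebra.adjoin R ((s.image TrivSqZeroExt.inl ∪ t.image TrivSqZeroExt.inr : Finset _) :
        Set (TrivSqZeroExt S M)) := by
    intro x
    have hx : x ∈ Algebra.adjoin R (s : Set S) := by rw [hs]; trivial
    induction hx using Algebra.adjoin_induction with
    | mem y hy =>
      refine Algebra.subset_adjoin ?_
      simp only [Finset.coe_union, Finset.coe_image, Set.mem_union, Set.mem_image]
      exact Or.inl ⟨y, hy, rfl⟩
    | algebraMap r => exact Subalgebra.algebraMap_mem _ r
    | add y z _ _ hy hz => rw [TrivSqZeroExt.inl_add]; exact Subalgebra.add_mem _ hy hz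
    | mul y z _ _ hy hz => rw [TrivSqZeroExt.inl_mul]; exact Subalgebra.mul_mem _ hy hz
  have hinr : ∀ m : M, (TrivSqZeroExt.inr m : TrivSqZeroExt S M) ∈
      Algebra.adjoin R ((s.image TrivSqZeroExt.inl ∪ t.image TrivSqZeroExt.inr : Finset _) :
        Set (TrivSqZeroExt S M)) := by
    intro m
    have hm : m ∈ Submodule.span S (t : Set M) := by rw [ht]; trivial
    induction hm using Submodule.span_induction with
    | mem y hy =>
      refine Algebra.subset_adjoin ?_
      simp only [Finset.coe_union, Finset.coe_image, Set.mem_union, Set.mem_image]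
      exact Or.inr ⟨y, hy, rfl⟩
    | zero => rw [TrivSqZeroExt.inr_zero]; exact Subalgebra.zero_mem _
    | add y z _ _ hy hz => rw [TrivSqZeroExt.inr_add]; exact Subalgebra.add_mem _ hy hz
    | smul c y _ hy =>
      rw [← TrivSqZeroExt.inl_mul_inr]
      exact Subalgebra.mul_mem _ (hinl c) hy
  intro x _
  rw [← TrivSqZeroExt.inl_fst_add_inr_snd_eq x]
  exact Subalgebra.add_mem _ (hinl _) (hinr _)

/-- `inr` as an `R`-linear map -/
noncomputable def inrR : M →ₗ[R] TrivSqZeroExt S M where
  toFun := TrivSqZeroExt.inr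
  map_add' := TrivSqZeroExt.inr_add _
  map_smul' := fun r m => TrivSqZeroExt.inr_smul _ r m

/-- `snd` as an `R`-linear map -/
noncomputable def sndR : TrivSqZeroExt S M →ₗ[R] M where
  toFun := TrivSqZeroExt.snd
  map_add' := TrivSqZeroExt.snd_add
  map_smul' := fun r m => TrivSqZeroExt.snd_smul r m

theorem flat_module_of_tsze (R₁ : Type u) [CommRing R₁] [Algebra R R₁] (a : R)
    (hflat : Module.Flat R₁ ((R₁ ⊗[R] TrivSqZeroExt S M) ⧸
      FlatCA.powTorsion (R₁ ⊗[R] TrivSqZeroExt S M)
        (algebraMap R (R₁ ⊗[R] TrivSqZeroExt S M) a) (R₁ ⊗[R] TrivSqZeroExt S M))) :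
    Module.Flat R₁ ((R₁ ⊗[R] M) ⧸ FlatCA.powTorsion R₁ (algebraMap R R₁ a) (R₁ ⊗[R] M)) := by
  refine flat_quot_powTorsion_of_retract (algebraMap R R₁ a) _
    (IsScalarTower.algebraMap_apply R R₁ (R₁ ⊗[R] TrivSqZeroExt S M) a)
    ((inrR (R := R) S M).baseChange R₁) ((sndR (R := R) S M).baseChange R₁) ?_ hflat
  intro y
  induction y using TensorProduct.induction_on with
  | zero => simp
  | tmul c m =>
    rw [LinearMap.baseChange_tmul, LinearMap.baseChange_tmul]
    rfl
  | add y z hy hz => rw [map_add, map_add, hy, hz]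


variable {K : Type u} [Field K] [Algebra R K] [IsDomain R]
  [IsFractionRing R K] {A : Type u} [CommRing A] [IsDomain A] [ValuationRing A] [Algebra A K]
  [Algebra R A] [IsScalarTower R A K]

/-- module version of `BF5.exists_stage_flat_fp` -/
theorem exists_stage_flat_module (hAK : Function.Injective (algebraMap A K))
    [Algebra.FiniteType R S] [Module.Finite S M] :
    ∃ T₁ : Subalgebra R A, T₁.FG ∧ ∃ f : R, f ≠ 0 ∧
      ∀ (R₁ : Type u) [CommRing R₁] [Algebra R R₁] (j : R₁ →ₐ[R] A), Function.Injective j →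
        T₁ ≤ j.range → ∀ a : R, a ≠ 0 → f ∣ a →
        Module.Flat R₁ ((R₁ ⊗[R] M) ⧸
          FlatCA.powTorsion R₁ (algebraMap R R₁ a) (R₁ ⊗[R] M)) := by
  have _ := finiteType_tsze (R := R) S M
  obtain ⟨T₁, hT₁, f, hf, h⟩ :=
    Groth.Agent.Helper9.BF5.exists_stage_flat_fp (R := R) (K := K) (A := A) hAK (TrivSqZeroExt S M)
  refine ⟨T₁, hT₁, f, hf, ?_⟩
  intro R₁ _ _ j hj hT a ha hfa
  exact flat_module_of_tsze S M R₁ a (h R₁ j hj hT a ha hfa).1

end tsze

end Groth.Agent.Helper9.BF6
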