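import Mathlib
import Groth.Agent.Helper9.BF6
import Groth.Prelude.Def_BlowUp2

/-!
# Helper9.BF7 : the affine blow-up algebra inside a valuation ring
-/

set_option autoImplicit false
universe u

namespace Groth.Agent.Helper9.BF7

open TensorProduct

variable {R : Type u} [CommRing R] [IsDomain R] {K : Type u} [Field K] [Algebra R K]
  [IsFractionRing R K] {A : Type u} [CommRing A] [Algebra A K]
  [Algebra R A] [IsScalarTower R A K]

/-- the set of `x` with `x / a ∈ A`, as an ideal -/
def fracIdeal (A : Type u) [CommRing A] [Algebra A K] [Algebra R A] [IsScalarTower R A K]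
    (a : R) : Ideal R where
  carrier := {x | ∃ y : A, algebraMap A K y * algebraMap R K a = algebraMap R K x}
  zero_mem' := ⟨0, by simp⟩
  add_mem' := by
    rintro x₁ x₂ ⟨y₁, h₁⟩ ⟨y₂, h₂⟩
    exact ⟨y₁ + y₂, by rw [map_add, map_add, add_mul, h₁, h₂]⟩
  smul_mem' := by
    rintro r x ⟨y, h⟩
    refine ⟨algebraMap R A r * y, ?_⟩
    rw [smul_eq_mul, map_mul, map_mul, mul_assoc, h, ← IsScalarTower.algebraMap_apply]

lemma mem_fracIdeal {a x : R} :
    x ∈ fracIdeal (K := K) A a ↔
      ∃ y : A, algebraMap A K y * algebraMap R K a = algebraMap R K x := Iff.rfl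

/-- the map from the localization to the fraction field -/
noncomputable def locToK (a : R) (ha : a ≠ 0) : Localization.Away a →ₐ[R] K :=
  IsLocalization.liftAlgHom (M := Submonoid.powers a) (f := Algebra.ofId R K) (by
    rintro ⟨y, n, rfl⟩
    change IsUnit (algebraMap R K (a ^ n))
    rw [isUnit_iff_ne_zero, map_pow]
    exact pow_ne_zero _ ((map_ne_zero_iff _ (IsFractionRing.injective R K)).2 ha))

lemma locToK_mk' (a : R) (ha : a ≠ 0) (x : R) :
    locToK (K := K) a ha (IsLocalization.mk' (Localization.Away a) x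
      ⟨a, Submonoid.mem_powers a⟩) * algebraMap R K a = algebraMap R K x := by
  have h1 : algebraMap R K a = locToK (K := K) a ha (algebraMap R (Localization.Away a) a) :=
    ((locToK (K := K) a ha).commutes a).symm
  rw [h1, ← map_mul]
  have h2 : IsLocalization.mk' (Localization.Away a) x ⟨a, Submonoid.mem_powers a⟩ *
      algebraMap R (Localization.Away a) a = algebraMap R (Localization.Away a) x :=
    IsLocalization.mk'_spec (Localization.Away a) x ⟨a, Submonoid.mem_powers a⟩
  rw [h2]
  exact (locToK (K := K) a ha).commutes x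

lemma locToK_injective (a : R) (ha : a ≠ 0) : Function.Injective (locToK (K := K) a ha) := by
  have hle : Submonoid.powers a ≤ nonZeroDivisors R :=
    Submonoid.powers_le.2 (mem_nonZeroDivisors_of_ne_zero ha)
  have hinjL : Function.Injective (algebraMap R (Localization.Away a)) :=
    IsLocalization.injective _ hle
  change Function.Injective (IsLocalization.lift (M := Submonoid.powers a)
    (g := (Algebra.ofId R K : R →+* K)) _)
  rw [IsLocalization.lift_injective_iff]
  intro x y
  constructor
  · intro h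
    rw [hinjL h]
  · intro h
    have : algebraMap R K x = algebraMap R K y := h
    rw [IsFractionRing.injective R K this]


/-- the affine blow-up algebra embeds in `A` when all `x / a`, `x ∈ I`, lie in `A` -/
theorem exists_embedding (hAK : Function.Injective (algebraMap A K)) (I : Ideal R) (a : R)
    (ha : a ≠ 0) (hI : I ≤ fracIdeal (K := K) A a) :
    ∃ j₀ : ↥(BlowUp.affineAlgebra R I a) →ₐ[R] A, Function.Injective j₀ ∧
      ∀ (x : R) (y : A), x ∈ I → algebraMap A K y * algebraMap R K a = algebraMap R K x →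
        y ∈ j₀.range := by
  let ψ : ↥(BlowUp.affineAlgebra R I a) →ₐ[R] K :=
    (locToK (K := K) a ha).comp (BlowUp.affineAlgebra R I a).val
  have hψinj : Function.Injective ψ :=
    (locToK_injective (K := K) a ha).comp Subtype.val_injective
  have haK : algebraMap R K a ≠ 0 := (map_ne_zero_iff _ (IsFractionRing.injective R K)).2 ha
  have hrange : ∀ q, ψ q ∈ (IsScalarTower.toAlgHom R A K).range := by
    rintro ⟨q, hq⟩
    change locToK (K := K) a ha q ∈ _
    unfold BlowUp.affineAlgebra at hq
    induction hq using Algebra.adjoin_induction with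
    | mem q hq =>
      obtain ⟨x, hx, rfl⟩ := hq
      obtain ⟨y, hy⟩ := hI hx
      refine ⟨y, ?_⟩
      have := locToK_mk' (K := K) a ha x
      rw [← hy] at this
      exact (mul_right_cancel₀ haK this).symm
    | algebraMap r =>
      refine ⟨algebraMap R A r, ?_⟩
      rw [AlgHom.commutes]
      exact (IsScalarTower.algebraMap_apply R A K r).symm
    | add p q _ _ hp hq => rw [map_add]; exact Subalgebra.add_mem _ hp hq
    | mul p q _ _ hp hq => rw [map_mul]; exact Subalgebra.mul_mem _ hp hq
  let eA := AlgEquiv.ofInjective (IsScalarTower.toAlgHom R A K) hAK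
  let j₀ : ↥(BlowUp.affineAlgebra R I a) →ₐ[R] A :=
    eA.symm.toAlgHom.comp (ψ.codRestrict _ hrange)
  have hj₀ : ∀ q, algebraMap A K (j₀ q) = ψ q := by
    intro q
    have := eA.apply_symm_apply (ψ.codRestrict _ hrange q)
    exact congr(($this : K))
  refine ⟨j₀, ?_, ?_⟩
  · intro p q hpq
    apply hψinj
    rw [← hj₀, ← hj₀, hpq]
  · intro x y hx hy
    refine ⟨⟨IsLocalization.mk' (Localization.Away a) x ⟨a, Submonoid.mem_powers a⟩,
      Algebra.subset_adjoin ⟨x, hx, rfl⟩⟩, ?_⟩
    apply hAK
    change algebraMap A K (j₀ _) = _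
    rw [hj₀]
    have := locToK_mk' (K := K) a ha x
    rw [← hy] at this
    exact mul_right_cancel₀ haK this

/-- the maximal ideal does not generate the unit ideal in a subalgebra of a dominating local
ring -/
theorem map_maximalIdeal_ne_top [IsLocalRing R] [IsLocalRing A] [IsLocalHom (algebraMap R A)]
    {R₁ : Type u} [CommRing R₁] [Algebra R R₁] (j : R₁ →ₐ[R] A) :
    (IsLocalRing.maximalIdeal R).map (algebraMap R R₁) ≠ ⊤ := by
  intro h
  have h1 : ((IsLocalRing.maximalIdeal R).map (algebraMap R R₁)).map j.toRingHom = ⊤ := by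
    rw [h, Ideal.map_top]
  rw [Ideal.map_map, AlgHom.toRingHom_eq_coe, AlgHom.comp_algebraMap] at h1
  have h2 : (IsLocalRing.maximalIdeal R).map (algebraMap R A) ≤ IsLocalRing.maximalIdeal A :=
    ((IsLocalRing.local_hom_TFAE (algebraMap R A)).out 0 2).1 ‹_›
  rw [h1] at h2
  exact (IsLocalRing.maximalIdeal.isMaximal A).ne_top (top_le_iff.1 h2)


/-- a finitely generated ideal `I ⊆ 𝔪` and `a ∈ I` such that `I / a ⊆ A` contains a given finite
subset of `A` -/
theorem exists_ideal [IsLocalRing R] (s : Finset A) (d : R) (hd : d ≠ 0)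
    (hdm : d ∈ IsLocalRing.maximalIdeal R) :
    ∃ (I : Ideal R) (a : R), I.FG ∧ I ≤ IsLocalRing.maximalIdeal R ∧ a ∈ I ∧ a ≠ 0 ∧ d ∣ a ∧
      I ≤ fracIdeal (K := K) A a ∧
      ∀ y ∈ s, ∃ x ∈ I, algebraMap A K y * algebraMap R K a = algebraMap R K x := by
  classical
  obtain ⟨c, hc⟩ := IsLocalization.exist_integer_multiples_of_finset (nonZeroDivisors R)
    (s.image (algebraMap A K))
  have hc' : ∀ y : s, ∃ b : R, algebraMap R K b = algebraMap R K c * algebraMap A K y := by
    intro y
    obtain ⟨b, hb⟩ := hc (algebraMap A K y) (Finset.mem_image_of_mem _ y.2)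
    exact ⟨b, by rw [hb, Algebra.smul_def]⟩
  choose b hb using hc'
  have hc0 : (c : R) ≠ 0 := nonZeroDivisors.coe_ne_zero c
  refine ⟨Ideal.span (insert ((c : R) * d) (Set.range fun y : s => b y * d)), (c : R) * d,
    Submodule.fg_span ((Set.finite_range _).insert _), ?_, Ideal.subset_span (Set.mem_insert _ _),
    mul_ne_zero hc0 hd, Dvd.intro_left _ rfl, ?_, ?_⟩
  · rw [Ideal.span_le]
    rintro x (rfl | ⟨y, rfl⟩)
    · exact Ideal.mul_mem_left _ _ hdm
    · exact Ideal.mul_mem_left _ _ hdm
  · rw [Ideal.span_le]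
    rintro x (rfl | ⟨y, rfl⟩)
    · exact ⟨1, by rw [map_one, one_mul]⟩
    · refine ⟨y, ?_⟩
      change algebraMap A K y * algebraMap R K ((c : R) * d) = algebraMap R K (b y * d)
      rw [map_mul, map_mul, hb]
      ring
  · intro y hy
    refine ⟨b ⟨y, hy⟩ * d, Ideal.subset_span (Set.mem_insert_of_mem _ ⟨⟨y, hy⟩, rfl⟩), ?_⟩
    rw [map_mul, map_mul, hb]
    ring

end Groth.Agent.Helper9.BF7
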