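import Mathlib
import Groth.Agent.Helper9.CP1
import Groth.Agent.Helper1.Hocolim

/-! Brown representability relative to a class of objects `P` of a pretriangulated category,
with a single compact generator, in a universe-flexible form: coproducts are only required for
`w`-small families of objects of `P` and for sequences, and the functor to be represented is
`T ↦ Hom(Φ T, K₀)` for a functor `Φ` preserving triangles (up to the third map) and these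
coproducts.  Part 1: the cell attachment and the tower. -/

set_option autoImplicit false
set_option linter.style.haveILetI false
set_option linter.unusedVariables false
set_option linter.unusedSectionVars false

namespace Groth.Agent.Helper9.BR1

open CategoryTheory Limits Pretriangulated
open Groth.Agent.Helper9

universe w v v' u u'

variable {𝒟 : Type u} [Category.{v} 𝒟] [Preadditive 𝒟] [HasZeroObject 𝒟] [HasShift 𝒟 ℤ]
  [∀ n : ℤ, (shiftFunctor 𝒟 n).Additive] [Pretriangulated 𝒟]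
  {𝒞 : Type u'} [Category.{v'} 𝒞] [Preadditive 𝒞] [HasZeroObject 𝒞] [HasShift 𝒞 ℤ]
  [∀ n : ℤ, (shiftFunctor 𝒞 n).Additive] [Pretriangulated 𝒞]

/-- the hypotheses on the class `P` and the generator `G` -/
structure Setup (P : 𝒟 → Prop) (G : 𝒟) : Prop where
  iso : ∀ {A B : 𝒟}, (A ≅ B) → P A → P B
  cone : ∀ T : Triangle 𝒟, T ∈ distTriang 𝒟 → P T.obj₁ → P T.obj₂ → P T.obj₃
  shiftG : ∀ n : ℤ, P (G⟦n⟧)
  biprod : ∀ A B : 𝒟, P A → P B → P (A ⊞ B)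
  coprod : ∀ (J : Type w) (K : J → 𝒟), (∀ j, P (K j)) → HasCoproduct K
  coprodP : ∀ (J : Type w) (K : J → 𝒟) [HasCoproduct K], (∀ j, P (K j)) → P (∐ K)
  coprodN : ∀ (K : ℕ → 𝒟), (∀ j, P (K j)) → HasCoproduct K
  coprodNP : ∀ (K : ℕ → 𝒟) [HasCoproduct K], (∀ j, P (K j)) → P (∐ K)
  compactN : ∀ (n : ℤ) (K : ℕ → 𝒟) [HasCoproduct K], (∀ j, P (K j)) → CP1.Fin K (G⟦n⟧)
  gen : ∀ T : 𝒟, P T → (∀ (n : ℤ) (φ : G⟦n⟧ ⟶ T), φ = 0) → IsZero T
  small : ∀ (n : ℤ) (T : 𝒟), P T → Small.{w} (G⟦n⟧ ⟶ T)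

/-- the hypotheses on the functor `Φ` and the object `K₀` -/
structure FunSetup (P : 𝒟 → Prop) (G : 𝒟) (Φ : 𝒟 ⥤ 𝒞) (K₀ : 𝒞) : Prop where
  add : Φ.Additive
  tri : ∀ T : Triangle 𝒟, T ∈ distTriang 𝒟 →
    ∃ c : Φ.obj T.obj₃ ⟶ (Φ.obj T.obj₁)⟦(1 : ℤ)⟧,
      Triangle.mk (Φ.map T.mor₁) (Φ.map T.mor₂) c ∈ distTriang 𝒞
  pres : ∀ (J : Type w) (K : J → 𝒟) [HasCoproduct K], (∀ j, P (K j)) →
    PreservesColimit (Discrete.functor K) Φ
  presN : ∀ (K : ℕ → 𝒟) [HasCoproduct K], (∀ j, P (K j)) →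
    PreservesColimit (Discrete.functor K) Φ
  small : ∀ n : ℤ, Small.{w} (Φ.obj (G⟦n⟧) ⟶ K₀)

section Basic

variable {P : 𝒟 → Prop} {G : 𝒟} {Φ : 𝒟 ⥤ 𝒞} {K₀ : 𝒞}

/-- exactness of `T ↦ Hom(Φ T, K₀)` -/
lemma exact_ev (hΦ : FunSetup.{w} P G Φ K₀) (T : Triangle 𝒟) (hT : T ∈ distTriang 𝒟)
    (x : Φ.obj T.obj₂ ⟶ K₀) (hx : Φ.map T.mor₁ ≫ x = 0) :
    ∃ y : Φ.obj T.obj₃ ⟶ K₀, x = Φ.map T.mor₂ ≫ y := by
  obtain ⟨c, hc⟩ := hΦ.tri T hT
  exact Triangle.yoneda_exact₂ _ hc x hx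

/-- `T ↦ Hom(Φ T, K₀)` sends coproducts of families in `P` to products: existence -/
lemma exists_desc {J : Type*} (K : J → 𝒟) [HasCoproduct K]
    [PreservesColimit (Discrete.functor K) Φ] (x : ∀ j, Φ.obj (K j) ⟶ K₀) :
    ∃ y : Φ.obj (∐ K) ⟶ K₀, ∀ j, Φ.map (Sigma.ι K j) ≫ y = x j := by
  have hc : IsColimit (Φ.mapCocone (Cofan.mk (∐ K) (Sigma.ι K))) :=
    isColimitOfPreserves Φ (coproductIsCoproduct K)
  let s : Cocone (Discrete.functor K ⋙ Φ) :=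
    { pt := K₀
      ι := Discrete.natTrans (fun ⟨j⟩ => x j) }
  refine ⟨hc.desc s, fun j => ?_⟩
  exact hc.fac s ⟨j⟩

/-- uniqueness -/
lemma hom_ext_coprod {J : Type*} (K : J → 𝒟) [HasCoproduct K]
    [PreservesColimit (Discrete.functor K) Φ] (y y' : Φ.obj (∐ K) ⟶ K₀)
    (h : ∀ j, Φ.map (Sigma.ι K j) ≫ y = Φ.map (Sigma.ι K j) ≫ y') : y = y' := by
  have hc : IsColimit (Φ.mapCocone (Cofan.mk (∐ K) (Sigma.ι K))) :=
    isColimitOfPreserves Φ (coproductIsCoproduct K)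
  exact hc.hom_ext (fun ⟨j⟩ => h j)

end Basic

section Tower

variable {P : 𝒟 → Prop} {G : 𝒟} {Φ : 𝒟 ⥤ 𝒞} {K₀ : 𝒞}

/-- a stage of the construction -/
structure Stage (P : 𝒟 → Prop) (Φ : 𝒟 ⥤ 𝒞) (K₀ : 𝒞) where
  K : 𝒟
  hK : P K
  ξ : Φ.obj K ⟶ K₀

/-- cell attachment: kill all maps from generators whose image under `Φ` is killed by `ξ` -/
theorem exists_next (hS : Setup.{w} P G) (hΦ : FunSetup.{w} P G Φ K₀) (s : Stage P Φ K₀) :
    ∃ (s' : Stage P Φ K₀) (g : s.K ⟶ s'.K), Φ.map g ≫ s'.ξ = s.ξ ∧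
      ∀ (n : ℤ) (a : G⟦n⟧ ⟶ s.K), Φ.map a ≫ s.ξ = 0 → a ≫ g = 0 := by
  haveI : ∀ n : ℤ, Small.{w} (G⟦n⟧ ⟶ s.K) := fun n => hS.small n s.K s.hK
  let Idx : Type w := Σ n : ℤ, Shrink.{w} {a : G⟦n⟧ ⟶ s.K // Φ.map a ≫ s.ξ = 0}
  let obj : Idx → 𝒟 := fun k => G⟦k.1⟧
  let arr : ∀ k : Idx, obj k ⟶ s.K := fun k => ((equivShrink _).symm k.2).1
  have harr : ∀ k : Idx, Φ.map (arr k) ≫ s.ξ = 0 := fun k => ((equivShrink _).symm k.2).2
  have hobj : ∀ k, P (obj k) := fun k => hS.shiftG k.1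
  haveI : HasCoproduct obj := hS.coprod Idx obj hobj
  haveI : PreservesColimit (Discrete.functor obj) Φ := hΦ.pres Idx obj hobj
  let y : ∐ obj ⟶ s.K := Sigma.desc arr
  have hy : Φ.map y ≫ s.ξ = 0 := by
    apply hom_ext_coprod obj
    intro k
    rw [← Category.assoc, ← Functor.map_comp, Sigma.ι_desc, harr k, comp_zero]
  obtain ⟨K', g, h, hT⟩ := distinguished_cocone_triangle y
  obtain ⟨ξ', hξ'⟩ := exact_ev hΦ _ hT s.ξ hy
  refine ⟨⟨K', hS.cone _ hT (hS.coprodP Idx obj hobj) s.hK, ξ'⟩, g, hξ'.symm, ?_⟩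
  intro n a ha
  let a' : {a : G⟦n⟧ ⟶ s.K // Φ.map a ≫ s.ξ = 0} := ⟨a, ha⟩
  let k : Idx := ⟨n, equivShrink _ a'⟩
  have hk : arr k = a := by
    show ((equivShrink _).symm (equivShrink _ a')).1 = a
    rw [Equiv.symm_apply_apply]
  have h1 : a = Sigma.ι obj k ≫ y := by
    rw [Sigma.ι_desc]
    exact hk.symm
  rw [h1, Category.assoc]
  have : y ≫ g = 0 := comp_distTriang_mor_zero₁₂ _ hT
  rw [this, comp_zero]

/-- the initial stage, containing `V` and hitting all elements on generators -/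
theorem exists_stage0 (hS : Setup.{w} P G) (hΦ : FunSetup.{w} P G Φ K₀) (V : 𝒟) (hV : P V)
    (η : Φ.obj V ⟶ K₀) :
    ∃ (s : Stage P Φ K₀) (v : V ⟶ s.K), Φ.map v ≫ s.ξ = η ∧
      ∀ (n : ℤ) (x : Φ.obj (G⟦n⟧) ⟶ K₀), ∃ b : G⟦n⟧ ⟶ s.K, Φ.map b ≫ s.ξ = x := by
  haveI := hΦ.add
  haveI : ∀ n : ℤ, Small.{w} (Φ.obj (G⟦n⟧) ⟶ K₀) := hΦ.small
  let Idx : Type w := Σ n : ℤ, Shrink.{w} (Φ.obj (G⟦n⟧) ⟶ K₀)
  let obj : Idx → 𝒟 := fun k => G⟦k.1⟧
  let elt : ∀ k : Idx, Φ.obj (obj k) ⟶ K₀ := fun k => (equivShrink _).symm k.2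
  have hobj : ∀ k, P (obj k) := fun k => hS.shiftG k.1
  haveI : HasCoproduct obj := hS.coprod Idx obj hobj
  haveI : PreservesColimit (Discrete.functor obj) Φ := hΦ.pres Idx obj hobj
  obtain ⟨y₀, hy₀⟩ := exists_desc (K₀ := K₀) obj elt
  let ξ₀ : Φ.obj (V ⊞ ∐ obj) ⟶ K₀ := Φ.map biprod.fst ≫ η + Φ.map biprod.snd ≫ y₀
  refine ⟨⟨V ⊞ ∐ obj, hS.biprod _ _ hV (hS.coprodP Idx obj hobj), ξ₀⟩, biprod.inl, ?_, ?_⟩
  · show Φ.map biprod.inl ≫ (Φ.map biprod.fst ≫ η + Φ.map biprod.snd ≫ y₀) = η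
    rw [Preadditive.comp_add, ← Category.assoc, ← Category.assoc, ← Functor.map_comp,
      ← Functor.map_comp, biprod.inl_fst, biprod.inl_snd, CategoryTheory.Functor.map_id,
      Functor.map_zero, Category.id_comp, zero_comp, add_zero]
  · intro n x
    let k : Idx := ⟨n, equivShrink _ x⟩
    refine ⟨Sigma.ι obj k ≫ biprod.inr, ?_⟩
    show Φ.map (Sigma.ι obj k ≫ biprod.inr) ≫
      (Φ.map biprod.fst ≫ η + Φ.map biprod.snd ≫ y₀) = x
    rw [Preadditive.comp_add, ← Category.assoc, ← Category.assoc, ← Functor.map_comp,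
      ← Functor.map_comp, Category.assoc, Category.assoc, biprod.inr_fst, biprod.inr_snd,
      comp_zero, Functor.map_zero, zero_comp, zero_add, Category.comp_id, hy₀ k]
    show (equivShrink _).symm (equivShrink _ x) = x
    rw [Equiv.symm_apply_apply]

end Tower

end Groth.Agent.Helper9.BR1
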