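import Mathlib
import Groth.Agent.Helper9.BR1v1

/-! Relative Brown representability, part 2: homotopy colimits and compact objects; the
representing candidates. -/

set_option autoImplicit false
set_option linter.style.haveILetI false
set_option linter.unusedVariables false
set_option linter.unusedSectionVars false

namespace Groth.Agent.Helper9.BR2

open CategoryTheory Limits Pretriangulated
open Groth.Agent.Helper9 Groth.Agent.Helper9.BR1 Groth.Agent.Helper1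

universe w v v' u u'

variable {𝒟 : Type u} [Category.{v} 𝒟] [Preadditive 𝒟] [HasZeroObject 𝒟] [HasShift 𝒟 ℤ]
  [∀ n : ℤ, (shiftFunctor 𝒟 n).Additive] [Pretriangulated 𝒟]
  {𝒞 : Type u'} [Category.{v'} 𝒞] [Preadditive 𝒞] [HasZeroObject 𝒞] [HasShift 𝒞 ℤ]
  [∀ n : ℤ, (shiftFunctor 𝒞 n).Additive] [Pretriangulated 𝒞]

section Factor

variable {K : ℕ → 𝒟} {f : ∀ n, K n ⟶ K (n + 1)} [HasCoproduct K] {L : 𝒟} {i : ∀ n, K n ⟶ L}

lemma pr_eq_π (k : ℕ) : CP1.pr K k = Sigma.π K k := by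
  unfold CP1.pr
  congr
  exact Subsingleton.elim _ _

lemma eq_zero_of_comp_φ {E : 𝒟} (hE : CP1.Fin K E) (γ : E ⟶ ∐ K) (hγ : γ ≫ Hocolim.φ K f = 0) :
    γ = 0 := by
  obtain ⟨F, hF⟩ := hE γ
  refine hF.eq_zero (fun k _ => ?_)
  rw [pr_eq_π, ← Hocolim.φ_ρ K f k, reassoc_of% hγ, zero_comp]

lemma eq_sum_of_supp {E : 𝒟} {F : Finset ℕ} (b : E ⟶ ∐ K) (hF : CP1.Supp F b) :
    b = ∑ n ∈ F, (b ≫ CP1.pr K n) ≫ Sigma.ι K n := by
  have h : b ≫ CP1.eF K F = b := hF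
  conv_lhs => rw [← h]
  unfold CP1.eF
  rw [Preadditive.comp_sum]
  exact Finset.sum_congr rfl (fun n _ => (Category.assoc _ _ _).symm)

/-- maps from a compact object to a homotopy colimit factor through a finite stage -/
theorem exists_factor (hL : DerLim.IsHocolim K f L i) {E : 𝒟} (hE : CP1.Fin K E)
    (hE' : CP1.Fin K (E⟦(-1 : ℤ)⟧)) (a : E ⟶ L) :
    ∃ (N : ℕ) (aN : E ⟶ K N), a = aN ≫ i N := by
  obtain ⟨c, hT⟩ := id hL
  have h1 : a ≫ c = 0 := by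
    let e : (shiftFunctor 𝒟 (1 : ℤ)).obj ((shiftFunctor 𝒟 (-1 : ℤ)).obj E) ≅ E :=
      (shiftFunctorCompIsoId 𝒟 (-1 : ℤ) 1 (by norm_num)).app E
    obtain ⟨γ, hγ⟩ := (shiftFunctor 𝒟 (1 : ℤ)).map_surjective (e.hom ≫ a ≫ c)
    have h2 : γ ≫ Hocolim.φ K f = 0 := by
      apply (shiftFunctor 𝒟 (1 : ℤ)).map_injective
      rw [Functor.map_comp, hγ, Functor.map_zero, Category.assoc, Category.assoc]
      have : c ≫ (shiftFunctor 𝒟 (1 : ℤ)).map (Hocolim.φ K f) = 0 :=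
        comp_distTriang_mor_zero₃₁ _ hT
      rw [this, comp_zero, comp_zero]
    have h3 : γ = 0 := eq_zero_of_comp_φ hE' γ h2
    rw [h3, Functor.map_zero] at hγ
    rw [← cancel_epi e.hom, ← hγ, comp_zero]
  obtain ⟨b, hb⟩ : ∃ b : E ⟶ ∐ K, a = b ≫ Sigma.desc i := Triangle.coyoneda_exact₃ _ hT a h1
  obtain ⟨S, hS⟩ := hE b
  have hS' := eq_sum_of_supp b hS
  obtain ⟨N, hN⟩ : ∃ N, ∀ n ∈ S, n ≤ N := ⟨S.sup id, fun n hn => Finset.le_sup (f := id) hn⟩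
  refine ⟨N, ∑ n ∈ S.attach, (b ≫ CP1.pr K n.1) ≫ Hocolim.tr K f (hN n.1 n.2), ?_⟩
  have h4 : b ≫ Sigma.desc i = (∑ n ∈ S, (b ≫ CP1.pr K n) ≫ Sigma.ι K n) ≫ Sigma.desc i :=
    congrArg (· ≫ Sigma.desc i) hS'
  rw [hb]
  refine h4.trans ?_
  rw [Preadditive.sum_comp, Preadditive.sum_comp, ← Finset.sum_attach]
  apply Finset.sum_congr rfl
  intro n _
  rw [Category.assoc, Sigma.ι_desc, Category.assoc, Category.assoc, Hocolim.tr_i hL,
    Category.assoc]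

end Factor

/-- generators: objects isomorphic to a shift of `G` -/
def Gens (G A : 𝒟) : Prop := ∃ n : ℤ, Nonempty (G⟦n⟧ ≅ A)

lemma Gens.shift {G A : 𝒟} (h : Gens G A) (m : ℤ) : Gens G (A⟦m⟧) := by
  obtain ⟨n, ⟨e⟩⟩ := h
  exact ⟨n + m, ⟨(shiftFunctorAdd' 𝒟 n m (n + m) rfl).app G ≪≫ (shiftFunctor 𝒟 m).mapIso e⟩⟩

lemma gens_self (G : 𝒟) (n : ℤ) : Gens G (G⟦n⟧) := ⟨n, ⟨Iso.refl _⟩⟩

section Rep

variable {P : 𝒟 → Prop} {G : 𝒟} {Φ : 𝒟 ⥤ 𝒞} {K₀ : 𝒞}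

lemma fin_of_gens (hS : Setup.{w} P G) (K : ℕ → 𝒟) [HasCoproduct K] (hK : ∀ j, P (K j))
    (A : 𝒟) (hA : Gens G A) : CP1.Fin K A := by
  obtain ⟨n, ⟨e⟩⟩ := hA
  exact (hS.compactN n K hK).of_iso e

/-- the representing candidates -/
theorem exists_rep (hS : Setup.{w} P G) (hΦ : FunSetup.{w} P G Φ K₀) (V : 𝒟) (hV : P V)
    (η : Φ.obj V ⟶ K₀) :
    ∃ (R : 𝒟) (_ : P R) (ξ : Φ.obj R ⟶ K₀) (v : V ⟶ R), Φ.map v ≫ ξ = η ∧
      (∀ A : 𝒟, Gens G A → ∀ x : Φ.obj A ⟶ K₀, ∃ b : A ⟶ R, Φ.map b ≫ ξ = x) ∧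
      (∀ A : 𝒟, Gens G A → ∀ b : A ⟶ R, Φ.map b ≫ ξ = 0 → b = 0) := by
  haveI := hΦ.add
  -- the tower
  obtain ⟨s₀, v₀, hv₀, hs₀⟩ := exists_stage0 hS hΦ V hV η
  let st : ℕ → Stage P Φ K₀ := fun n => Nat.rec s₀ (fun _ s => (exists_next hS hΦ s).choose) n
  have hst : ∀ n, st (n + 1) = (exists_next hS hΦ (st n)).choose := fun n => rfl
  let KK : ℕ → 𝒟 := fun n => (st n).K
  have hKK : ∀ n, P (KK n) := fun n => (st n).hK
  let ff : ∀ n, KK n ⟶ KK (n + 1) := fun n => (exists_next hS hΦ (st n)).choose_spec.choose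
  have hff : ∀ n, Φ.map (ff n) ≫ (st (n + 1)).ξ = (st n).ξ :=
    fun n => (exists_next hS hΦ (st n)).choose_spec.choose_spec.1
  have hkill : ∀ (n : ℕ) (m : ℤ) (a : G⟦m⟧ ⟶ KK n), Φ.map a ≫ (st n).ξ = 0 → a ≫ ff n = 0 :=
    fun n => (exists_next hS hΦ (st n)).choose_spec.choose_spec.2
  haveI : HasCoproduct KK := hS.coprodN KK hKK
  haveI : PreservesColimit (Discrete.functor KK) Φ := hΦ.presN KK hKK
  -- the homotopy colimit
  obtain ⟨L, π, c, hT⟩ := distinguished_cocone_triangle (Hocolim.φ KK ff)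
  let i : ∀ n, KK n ⟶ L := fun n => Sigma.ι KK n ≫ π
  have hπ : π = Sigma.desc i := by
    apply Sigma.hom_ext
    intro n
    rw [Sigma.ι_desc]
  have hL : DerLim.IsHocolim KK ff L i := ⟨c, by rw [← hπ]; exact hT⟩
  have hPL : P L := hS.cone _ hT (hS.coprodNP KK hKK) (hS.coprodNP KK hKK)
  obtain ⟨x, hx⟩ := exists_desc (K₀ := K₀) KK (fun n => (st n).ξ)
  have hx0 : Φ.map (Hocolim.φ KK ff) ≫ x = 0 := by
    apply hom_ext_coprod KK
    intro n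
    rw [← Category.assoc, ← Functor.map_comp, Hocolim.ι_φ, Functor.map_sub, Functor.map_comp,
      Preadditive.sub_comp, Category.assoc, hx n, hx (n + 1), hff n, sub_self, comp_zero]
  obtain ⟨(ξL : Φ.obj L ⟶ K₀), (hξL : x = Φ.map π ≫ ξL)⟩ := exact_ev hΦ _ hT x hx0
  have hi : ∀ n, Φ.map (i n) ≫ ξL = (st n).ξ := by
    intro n
    have h0 : Φ.map (i n) = Φ.map (Sigma.ι KK n) ≫ Φ.map π := Φ.map_comp _ _
    rw [h0, Category.assoc, ← hξL, hx n]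
  refine ⟨L, hPL, ξL, v₀ ≫ i 0, ?_, ?_, ?_⟩
  · rw [Functor.map_comp, Category.assoc, hi 0]
    exact hv₀
  · rintro A ⟨n, ⟨e⟩⟩ y
    obtain ⟨b₀, hb₀⟩ := hs₀ n (Φ.map e.hom ≫ y)
    refine ⟨e.inv ≫ b₀ ≫ i 0, ?_⟩
    rw [Functor.map_comp, Functor.map_comp, Category.assoc, Category.assoc, hi 0]
    have : Φ.map b₀ ≫ (st 0).ξ = Φ.map e.hom ≫ y := hb₀
    rw [this, ← Category.assoc, ← Functor.map_comp, Iso.inv_hom_id,
      CategoryTheory.Functor.map_id, Category.id_comp]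
  · rintro A ⟨n, ⟨e⟩⟩ b hb
    have hb' : Φ.map (e.hom ≫ b) ≫ ξL = 0 := by
      rw [Functor.map_comp, Category.assoc, hb, comp_zero]
    obtain ⟨N, bN, hbN⟩ := exists_factor hL (fin_of_gens hS KK hKK _ (gens_self G n))
      (fin_of_gens hS KK hKK _ ((gens_self G n).shift (-1))) (e.hom ≫ b)
    have h1 : Φ.map bN ≫ (st N).ξ = 0 := by
      rw [← hi N, ← Category.assoc, ← Functor.map_comp, ← hbN]
      exact hb'
    have h2 : bN ≫ ff N = 0 := hkill N n bN h1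
    have h3 : e.hom ≫ b = 0 := by
      rw [hbN, ← Hocolim.i_succ hL N, ← Category.assoc, h2, zero_comp]
    rw [← cancel_epi e.hom, h3, comp_zero]

end Rep

end Groth.Agent.Helper9.BR2
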