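import Mathlib
import Groth.Agent.Helper9.BR2v1

/-! Relative Brown representability, part 3: the representability theorem. -/

set_option autoImplicit false
set_option linter.style.haveILetI false
set_option linter.unusedVariables false
set_option linter.unusedSectionVars false

namespace Groth.Agent.Helper9.BR3

open CategoryTheory Limits Pretriangulated
open Groth.Agent.Helper9 Groth.Agent.Helper9.BR1 Groth.Agent.Helper9.BR2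

universe w v v' u u'

variable {𝒟 : Type u} [Category.{v} 𝒟] [Preadditive 𝒟] [HasZeroObject 𝒟] [HasShift 𝒟 ℤ]
  [∀ n : ℤ, (shiftFunctor 𝒟 n).Additive] [Pretriangulated 𝒟]
  {𝒞 : Type u'} [Category.{v'} 𝒞] [Preadditive 𝒞] [HasZeroObject 𝒞] [HasShift 𝒞 ℤ]
  [∀ n : ℤ, (shiftFunctor 𝒞 n).Additive] [Pretriangulated 𝒞]
  {P : 𝒟 → Prop} {G : 𝒟} {Φ : 𝒟 ⥤ 𝒞} {K₀ : 𝒞}

/-- a morphism inducing bijections on maps from the generators is an isomorphism -/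
theorem isIso_of_gens (hS : Setup.{w} P G) {L₁ L₂ : 𝒟} (h₁ : P L₁) (h₂ : P L₂) (t : L₁ ⟶ L₂)
    (hbij : ∀ A : 𝒟, Gens G A → Function.Bijective (fun a : A ⟶ L₁ => a ≫ t)) : IsIso t := by
  obtain ⟨C, g, δ, hT⟩ := distinguished_cocone_triangle t
  refine (Triangle.isZero₃_iff_isIso₁ _ hT).1 ?_
  show IsZero C
  refine hS.gen C (hS.cone _ hT h₁ h₂) (fun n φ => ?_)
  -- `φ ≫ δ = 0`
  have h1 : φ ≫ δ = 0 := by
    let A : 𝒟 := (G⟦n⟧)⟦(-1 : ℤ)⟧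
    have hA : Gens G A := (gens_self G n).shift (-1)
    let e : A⟦(1 : ℤ)⟧ ≅ G⟦n⟧ := (shiftFunctorCompIsoId 𝒟 (-1 : ℤ) 1 (by norm_num)).app (G⟦n⟧)
    obtain ⟨γ, hγ⟩ := (shiftFunctor 𝒟 (1 : ℤ)).map_surjective (e.hom ≫ φ ≫ δ)
    have h2 : γ ≫ t = 0 := by
      apply (shiftFunctor 𝒟 (1 : ℤ)).map_injective
      rw [Functor.map_comp, hγ, Functor.map_zero, Category.assoc, Category.assoc]
      have : δ ≫ (shiftFunctor 𝒟 (1 : ℤ)).map t = 0 := comp_distTriang_mor_zero₃₁ _ hT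
      rw [this, comp_zero, comp_zero]
    have h3 : γ = 0 := (hbij A hA).1 (by
      show γ ≫ t = 0 ≫ t
      rw [h2, zero_comp])
    rw [h3, Functor.map_zero] at hγ
    rw [← cancel_epi e.hom, ← hγ, comp_zero]
  obtain ⟨φ', hφ'⟩ : ∃ φ' : G⟦n⟧ ⟶ L₂, φ = φ' ≫ g := Triangle.coyoneda_exact₃ _ hT φ h1
  obtain ⟨φ'', hφ''⟩ := (hbij _ (gens_self G n)).2 φ'
  have hφ''' : φ'' ≫ t = φ' := hφ''
  have htg : t ≫ g = 0 := comp_distTriang_mor_zero₁₂ _ hT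
  rw [hφ', ← hφ''', Category.assoc, htg, comp_zero]

/-- the property of a pair `(R, ξ)` of being bijective on generators -/
def Good (G : 𝒟) (Φ : 𝒟 ⥤ 𝒞) (K₀ : 𝒞) (R : 𝒟) (ξ : Φ.obj R ⟶ K₀) : Prop :=
  (∀ A : 𝒟, Gens G A → ∀ x : Φ.obj A ⟶ K₀, ∃ b : A ⟶ R, Φ.map b ≫ ξ = x) ∧
  (∀ A : 𝒟, Gens G A → ∀ b : A ⟶ R, Φ.map b ≫ ξ = 0 → b = 0)

/-- compatible morphisms between good pairs are isomorphisms -/
theorem isIso_of_good (hS : Setup.{w} P G) [Φ.Additive] {R₁ R₂ : 𝒟} (h₁ : P R₁) (h₂ : P R₂)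
    (ξ₁ : Φ.obj R₁ ⟶ K₀) (ξ₂ : Φ.obj R₂ ⟶ K₀) (g₁ : Good G Φ K₀ R₁ ξ₁) (g₂ : Good G Φ K₀ R₂ ξ₂)
    (t : R₁ ⟶ R₂) (ht : Φ.map t ≫ ξ₂ = ξ₁) : IsIso t := by
  refine isIso_of_gens hS h₁ h₂ t (fun A hA => ⟨?_, ?_⟩)
  · intro a a' (haa' : a ≫ t = a' ≫ t)
    have h0 : (a - a') ≫ t = 0 := by rw [Preadditive.sub_comp, haa', sub_self]
    have h1 : Φ.map (a - a') ≫ ξ₁ = 0 := by
      rw [← ht, ← Category.assoc, ← Functor.map_comp, h0, Functor.map_zero, zero_comp]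
    exact sub_eq_zero.1 (g₁.2 A hA _ h1)
  · intro b
    obtain ⟨a, ha⟩ := g₁.1 A hA (Φ.map b ≫ ξ₂)
    refine ⟨a, ?_⟩
    show a ≫ t = b
    have h1 : Φ.map (a ≫ t - b) ≫ ξ₂ = 0 := by
      rw [Functor.map_sub, Preadditive.sub_comp, Functor.map_comp, Category.assoc, ht, ha,
        sub_self]
    exact sub_eq_zero.1 (g₂.2 A hA _ h1)

/-- **relative Brown representability** -/
theorem representable (hS : Setup.{w} P G) (hΦ : FunSetup.{w} P G Φ K₀) :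
    ∃ (R : 𝒟) (_ : P R) (ξ : Φ.obj R ⟶ K₀), ∀ T : 𝒟, P T →
      Function.Bijective (fun t : T ⟶ R => Φ.map t ≫ ξ) := by
  haveI := hΦ.add
  obtain ⟨R₁, hR₁, ξ₁, -, -, hg₁⟩ := exists_rep hS hΦ (G⟦(0 : ℤ)⟧) (hS.shiftG 0) 0
  have g₁ : Good G Φ K₀ R₁ ξ₁ := hg₁
  have hinj : ∀ T : 𝒟, P T → ∀ t : T ⟶ R₁, Φ.map t ≫ ξ₁ = 0 → t = 0 := by
    intro T hT t ht
    obtain ⟨C, g, δ, hTr⟩ := distinguished_cocone_triangle t
    obtain ⟨(ξC : Φ.obj C ⟶ K₀), (hξC : ξ₁ = Φ.map g ≫ ξC)⟩ := exact_ev hΦ _ hTr ξ₁ ht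
    have hC : P C := hS.cone _ hTr hT hR₁
    obtain ⟨R₂, hR₂, ξ₂, v, hv, hg₂⟩ := exists_rep hS hΦ C hC ξC
    haveI : IsIso (g ≫ v) := isIso_of_good hS hR₁ hR₂ ξ₁ ξ₂ g₁ hg₂ (g ≫ v) (by
      rw [Functor.map_comp, Category.assoc, hv, ← hξC])
    have h0 : t ≫ (g ≫ v) = 0 := by
      have : t ≫ g = 0 := comp_distTriang_mor_zero₁₂ _ hTr
      rw [← Category.assoc, this, zero_comp]
    rw [← cancel_mono (g ≫ v), h0, zero_comp]
  refine ⟨R₁, hR₁, ξ₁, fun T hT => ⟨?_, ?_⟩⟩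
  · intro t t' (htt' : Φ.map t ≫ ξ₁ = Φ.map t' ≫ ξ₁)
    have : Φ.map (t - t') ≫ ξ₁ = 0 := by
      rw [Functor.map_sub, Preadditive.sub_comp, htt', sub_self]
    exact sub_eq_zero.1 (hinj T hT _ this)
  · intro y
    let η' : Φ.obj (R₁ ⊞ T) ⟶ K₀ := Φ.map biprod.fst ≫ ξ₁ + Φ.map biprod.snd ≫ y
    obtain ⟨R₂, hR₂, ξ₂, v, hv, hg₂⟩ := exists_rep hS hΦ (R₁ ⊞ T) (hS.biprod _ _ hR₁ hT) η'
    have h1 : Φ.map (biprod.inl ≫ v) ≫ ξ₂ = ξ₁ := by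
      rw [Functor.map_comp, Category.assoc, hv]
      show Φ.map biprod.inl ≫ (Φ.map biprod.fst ≫ ξ₁ + Φ.map biprod.snd ≫ y) = ξ₁
      rw [Preadditive.comp_add, ← Category.assoc, ← Category.assoc, ← Functor.map_comp,
        ← Functor.map_comp, biprod.inl_fst, biprod.inl_snd, CategoryTheory.Functor.map_id,
        Functor.map_zero, Category.id_comp, zero_comp, add_zero]
    have h2 : Φ.map (biprod.inr ≫ v) ≫ ξ₂ = y := by
      rw [Functor.map_comp, Category.assoc, hv]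
      show Φ.map biprod.inr ≫ (Φ.map biprod.fst ≫ ξ₁ + Φ.map biprod.snd ≫ y) = y
      rw [Preadditive.comp_add, ← Category.assoc, ← Category.assoc, ← Functor.map_comp,
        ← Functor.map_comp, biprod.inr_fst, biprod.inr_snd, CategoryTheory.Functor.map_id,
        Functor.map_zero, Category.id_comp, zero_comp, zero_add]
    haveI : IsIso (biprod.inl ≫ v) :=
      isIso_of_good hS hR₁ hR₂ ξ₁ ξ₂ g₁ hg₂ (biprod.inl ≫ v) h1
    refine ⟨(biprod.inr ≫ v) ≫ inv (biprod.inl ≫ v), ?_⟩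
    show Φ.map ((biprod.inr ≫ v) ≫ inv (biprod.inl ≫ v)) ≫ ξ₁ = y
    have h3 : Φ.map (inv (biprod.inl ≫ v)) ≫ ξ₁ = ξ₂ := by
      rw [← h1, ← Category.assoc, ← Functor.map_comp, IsIso.inv_hom_id,
        CategoryTheory.Functor.map_id, Category.id_comp]
    rw [Functor.map_comp, Category.assoc, h3, h2]

end Groth.Agent.Helper9.BR3
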