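import Mathlib
import Groth.Agent.Helper9.CP1

/-! Generic lemmas on finitely supported maps into coproducts: zero objects, finite sums,
reindexing along an equivalence of index types, transport along an adjunction whose right
adjoint preserves the coproduct, and the middle term of a distinguished triangle.  Also
reindexing of `HasCoproduct` and `PreservesColimit` along equivalences. -/

set_option autoImplicit false
set_option linter.style.haveILetI false
set_option linter.unusedVariables false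
set_option linter.unusedSectionVars false

namespace Groth.Agent.Helper9.FN0

open CategoryTheory Limits
open Groth.Agent.Helper9

universe w w' v v' u u'

section Basic

variable {C : Type u} [Category.{v} C] [Preadditive C]

lemma fin_of_isZero {ι : Type w} (K : ι → C) [HasCoproduct K] {T : C} (hT : IsZero T) :
    CP1.Fin K T :=
  fun ψ => ⟨∅, hT.eq_of_src _ _⟩

lemma supp_zero {ι : Type w} (K : ι → C) [HasCoproduct K] (F : Finset ι) (T : C) :
    CP1.Supp (K := K) F (0 : T ⟶ ∐ K) := by
  unfold CP1.Supp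
  rw [zero_comp]

lemma supp_sum {ι : Type w} (K : ι → C) [HasCoproduct K] (F : Finset ι) {T : C} {J : Type*}
    (s : Finset J) (x : J → (T ⟶ ∐ K)) (h : ∀ j ∈ s, CP1.Supp F (x j)) :
    CP1.Supp F (∑ j ∈ s, x j) := by
  unfold CP1.Supp
  rw [Preadditive.sum_comp]
  exact Finset.sum_congr rfl (fun j hj => h j hj)

/-- finite sums of objects: if `𝟙 T = ∑ p j ≫ i j` and all `T j` are in `Fin K`, so is `T` -/
lemma fin_of_sum {ι : Type w} (K : ι → C) [HasCoproduct K] {T : C} {J : Type*} [Fintype J]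
    (Tj : J → C) (i : ∀ j, Tj j ⟶ T) (p : ∀ j, T ⟶ Tj j)
    (htot : 𝟙 T = ∑ j : J, p j ≫ i j) (h : ∀ j, CP1.Fin K (Tj j)) : CP1.Fin K T := by
  classical
  intro ψ
  choose F hF using fun j => h j (i j ≫ ψ)
  refine ⟨Finset.univ.biUnion F, ?_⟩
  have : ψ = ∑ j : J, p j ≫ i j ≫ ψ := by
    conv_lhs => rw [← Category.id_comp ψ, htot, Preadditive.sum_comp]
    exact Finset.sum_congr rfl (fun j _ => Category.assoc _ _ _)
  rw [this]
  refine supp_sum K _ _ _ (fun j _ => ?_)
  exact ((hF j).mono (Finset.subset_biUnion_of_mem F (Finset.mem_univ j))).comp (p j)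

/-- reindexing along an equivalence -/
lemma fin_of_equiv {ι : Type w} {ι' : Type w'} (e : ι' ≃ ι) (K : ι → C) [HasCoproduct K]
    [HasCoproduct (K ∘ e)] {T : C} (h : CP1.Fin (K ∘ e) T) : CP1.Fin K T := by
  classical
  intro ψ
  let r := Sigma.reindex e K
  obtain ⟨F, hF⟩ := h (ψ ≫ r.inv)
  refine ⟨F.map e.toEmbedding, ?_⟩
  have key : r.hom ≫ CP1.eF K (F.map e.toEmbedding) = CP1.eF (K ∘ e) F ≫ r.hom := by
    apply Sigma.hom_ext
    intro j
    rw [← Category.assoc, Sigma.ι_reindex_hom, ← Category.assoc]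
    by_cases hj : j ∈ F
    · rw [CP1.ι_eF_mem (K ∘ e) hj, Sigma.ι_reindex_hom]
      exact CP1.ι_eF_mem K (Finset.mem_map_of_mem _ hj)
    · rw [CP1.ι_eF_not_mem (K ∘ e) hj, zero_comp]
      refine CP1.ι_eF_not_mem K (fun hm => hj ?_)
      obtain ⟨j', hj', hjj'⟩ := Finset.mem_map.1 hm
      have : j' = j := e.injective hjj'
      exact this ▸ hj'
  unfold CP1.Supp at hF ⊢
  calc ψ ≫ CP1.eF K (F.map e.toEmbedding)
      = (ψ ≫ r.inv) ≫ r.hom ≫ CP1.eF K (F.map e.toEmbedding) := by
        rw [Category.assoc, Iso.inv_hom_id_assoc]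
    _ = ((ψ ≫ r.inv) ≫ CP1.eF (K ∘ e) F) ≫ r.hom := by
        simp only [key, Category.assoc]
    _ = ψ := by rw [hF, Category.assoc, Iso.inv_hom_id, Category.comp_id]

end Basic

section Adj

variable {C : Type u} [Category.{v} C] [Preadditive C] {C' : Type u'} [Category.{v'} C']
  [Preadditive C']

/-- transport along an adjunction `L ⊣ R` with `R` preserving the coproduct -/
lemma fin_of_adj {L : C' ⥤ C} {R : C ⥤ C'} (adj : L ⊣ R) [R.Additive] {ι : Type w}
    (K : ι → C) [HasCoproduct K] [HasCoproduct (fun i => R.obj (K i))]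
    [PreservesColimit (Discrete.functor K) R] (T : C')
    (h : CP1.Fin (fun i => R.obj (K i)) T) : CP1.Fin K (L.obj T) := by
  classical
  intro ψ
  let c : ∐ (fun i => R.obj (K i)) ≅ R.obj (∐ K) := (PreservesCoproduct.iso R K).symm
  have hc : ∀ i, Sigma.ι (fun i => R.obj (K i)) i ≫ c.hom = R.map (Sigma.ι K i) :=
    fun i => ι_comp_sigmaComparison R K i
  have hpr : ∀ i, c.hom ≫ R.map (CP1.pr K i) = CP1.pr (fun i => R.obj (K i)) i := by
    intro i
    apply Sigma.hom_ext
    intro j
    rw [← Category.assoc, hc j, ← R.map_comp]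
    by_cases hij : j = i
    · subst hij
      rw [CP1.ι_pr_self, CP1.ι_pr_self, R.map_id]
    · rw [CP1.ι_pr_ne K hij, CP1.ι_pr_ne _ hij, R.map_zero]
  have heF : ∀ F : Finset ι,
      c.hom ≫ R.map (CP1.eF K F) = CP1.eF (fun i => R.obj (K i)) F ≫ c.hom := by
    intro F
    unfold CP1.eF
    rw [R.map_sum, Preadditive.comp_sum, Preadditive.sum_comp]
    refine Finset.sum_congr rfl (fun i _ => ?_)
    rw [R.map_comp, ← Category.assoc, hpr i, Category.assoc, hc i]
  obtain ⟨F, hF⟩ := h (adj.homEquiv _ _ ψ ≫ c.inv)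
  refine ⟨F, ?_⟩
  unfold CP1.Supp at hF ⊢
  apply (adj.homEquiv _ _).injective
  rw [Adjunction.homEquiv_naturality_right]
  calc adj.homEquiv _ _ ψ ≫ R.map (CP1.eF K F)
      = (adj.homEquiv _ _ ψ ≫ c.inv) ≫ c.hom ≫ R.map (CP1.eF K F) := by
        rw [Category.assoc, Iso.inv_hom_id_assoc]
    _ = ((adj.homEquiv _ _ ψ ≫ c.inv) ≫ CP1.eF (fun i => R.obj (K i)) F) ≫ c.hom := by
        simp only [heF F, Category.assoc]
    _ = adj.homEquiv _ _ ψ := by rw [hF, Category.assoc, Iso.inv_hom_id, Category.comp_id]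

end Adj

section Tri

open Pretriangulated

variable {C : Type u} [Category.{v} C] [Preadditive C] [HasZeroObject C] [HasShift C ℤ]
  [∀ n : ℤ, (shiftFunctor C n).Additive] [Pretriangulated C]

/-- the middle term of a distinguished triangle -/
lemma fin_triangle₂ {ι : Type w} (K : ι → C) [HasCoproduct K] (T : Triangle C)
    (hT : T ∈ distTriang C) (h₁ : CP1.Fin K T.obj₁) (h₃ : CP1.Fin K T.obj₃) :
    CP1.Fin K T.obj₂ := by
  classical
  intro ψ
  obtain ⟨F, hF⟩ := h₁ (T.mor₁ ≫ ψ)
  have h0 : T.mor₁ ≫ (ψ - ψ ≫ CP1.eF K F) = 0 := by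
    rw [Preadditive.comp_sub, ← Category.assoc, hF, sub_self]
  obtain ⟨χ, hχ⟩ := Triangle.yoneda_exact₂ T hT _ h0
  obtain ⟨F', hF'⟩ := h₃ χ
  refine ⟨F ∪ F', ?_⟩
  have h1 : CP1.Supp (F ∪ F') (ψ - ψ ≫ CP1.eF K F) := by
    rw [hχ]
    exact (hF'.mono Finset.subset_union_right).comp T.mor₂
  have h2 : CP1.Supp (F ∪ F') (ψ ≫ CP1.eF K F) :=
    (CP1.supp_comp_eF F ψ).mono Finset.subset_union_left
  have := h1.add h2
  rwa [sub_add_cancel] at this

/-- shifting the source is shifting the family backwards -/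
lemma fin_shift {ι : Type w} (K : ι → C) [HasCoproduct K] (n : ℤ)
    [HasCoproduct (fun i => (K i)⟦-n⟧)] (T : C) (h : CP1.Fin (fun i => (K i)⟦-n⟧) T) :
    CP1.Fin K (T⟦n⟧) := by
  haveI : (shiftEquiv C n).inverse.Additive := (inferInstance : (shiftFunctor C (-n)).Additive)
  haveI : HasCoproduct (fun i => (shiftEquiv C n).inverse.obj (K i)) :=
    (inferInstance : HasCoproduct (fun i => (K i)⟦-n⟧))
  exact fin_of_adj (shiftEquiv C n).toAdjunction K T h

end Tri

section Reindex

variable {C : Type u} [Category.{v} C] {C' : Type u'} [Category.{v'} C']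

/-- a functor preserving the coproduct of a reindexed family preserves the coproduct of the
family -/
lemma preservesColimit_of_equiv {ι : Type w} {ι' : Type w'} (e : ι' ≃ ι) (K : ι → C)
    (Φ : C ⥤ C') [PreservesColimit (Discrete.functor (K ∘ e)) Φ] :
    PreservesColimit (Discrete.functor K) Φ := by
  constructor
  intro c hc
  let E := Discrete.equivalence e
  have α : Discrete.functor (K ∘ e) ≅ E.functor ⋙ Discrete.functor K :=
    Discrete.natIso (fun ⟨j⟩ => Iso.refl _)
  haveI : PreservesColimit (E.functor ⋙ Discrete.functor K) Φ :=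
    preservesColimit_of_iso_diagram Φ α
  have h1 : IsColimit (c.whisker E.functor) := hc.whiskerEquivalence E
  have h2 : IsColimit (Φ.mapCocone (c.whisker E.functor)) := isColimitOfPreserves Φ h1
  exact ⟨(IsColimit.whiskerEquivalenceEquiv (s := Φ.mapCocone c) E).symm h2⟩

end Reindex

end Groth.Agent.Helper9.FN0
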