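import Mathlib
import Groth.Prelude.Def_CxOX
import Groth.Agent.Helper9.CP1
import Groth.Agent.Helper9.CP4
import Groth.Agent.Helper9.FN0
import Groth.Agent.Helper9.MVP2
import Groth.Agent.Helper9.MVP4
import Groth.Agent.Helper9.MVP12
import Groth.Agent.Helper9.RH2
import Groth.Agent.Helper9.LCUnit1
import Groth.Agent.Helper4.RjSuppGen
import Groth.Agent.Helper1.DCoprod
import Groth.Agent.S6513

/-! Perfect objects on a quasi-compact quasi-separated scheme are compact relative to families of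
objects of `D_QCoh`: every map from a perfect object to a coproduct of such a family is finitely
supported. -/

set_option autoImplicit false
set_option linter.style.haveILetI false
set_option linter.unusedVariables false
set_option linter.unusedSectionVars false
universe u

namespace Groth.Agent.Helper9.FN1

open CategoryTheory CategoryTheory.Limits AlgebraicGeometry Opposite TopologicalSpace
  Pretriangulated DerivedCategory
open Groth.Agent.Helper9 Groth.Agent.Helper9.MVP3 Groth.Agent.Helper9.LC3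
  Groth.Agent.Helper9.LCAff1 Groth.Agent.Helper9.QP2

attribute [local instance] HasDerivedCategory.standard

/-- coproducts indexed by a type in `Type u` exist in `D(O_Z)` -/
lemma hasCoproduct (Z : Scheme.{u}) {ι : Type u} (K : ι → DCoh.D Z) : HasCoproduct K := by
  haveI := Groth.Agent.Helper4.SchAdj.isGrothendieckAbelian_modules Z
  haveI : HasExactColimitsOfShape (Discrete ι) Z.Modules := inferInstance
  haveI : HasColimitsOfShape (Discrete ι) (DerivedCategory Z.Modules) :=
    Groth.Agent.Helper1.DCoprod.hasColimitsOfShape_discrete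
  infer_instance

/-- all maps from `B` to a coproduct of objects of `D_QCoh` are finitely supported -/
def FN (Z : Scheme.{u}) (B : DCoh.D Z) : Prop :=
  ∀ (ι : Type u) (K : ι → DCoh.D Z) [HasCoproduct K], (∀ i, DCoh.IsQCohD (K i)) → CP1.Fin K B

variable {Z : Scheme.{u}}

lemma FN.of_iso {B B' : DCoh.D Z} (e : B ≅ B') (h : FN Z B) : FN Z B' :=
  fun ι K _ hK => (h ι K hK).of_iso e

lemma FN.of_isZero {B : DCoh.D Z} (h : IsZero B) : FN Z B :=
  fun ι K _ hK => FN0.fin_of_isZero K h

lemma FN.triangle (T : Triangle (DCoh.D Z)) (hT : T ∈ distTriang _) (h1 : FN Z T.obj₁)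
    (h3 : FN Z T.obj₃) : FN Z T.obj₂ :=
  fun ι K _ hK => FN0.fin_triangle₂ K T hT (h1 ι K hK) (h3 ι K hK)

/-- transport along `j_! ⊣ j^*` -/
lemma fin_extZeroD {U : Scheme.{u}} (j : U ⟶ Z) [IsOpenImmersion j] (B : DCoh.D U) (hB : FN U B)
    {ι : Type u} (K : ι → DCoh.D Z) [HasCoproduct K] (hK : ∀ i, DCoh.IsQCohD (K i)) :
    CP1.Fin K ((CxOX.extZeroD j).obj B) := by
  haveI : DCoh.HasRpush j := Groth.Agent.Helper4.HasRD.hasRpush _
  haveI : HasCoproduct (fun i => (DCoh.restrictD j).obj (K i)) := hasCoproduct U _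
  haveI : PreservesColimit (Discrete.functor K) (DCoh.restrictD j) :=
    ((Groth.Agent.Helper4.RjSuppGen.dAdj' j).leftAdjoint_preservesColimits).preservesColimitsOfShape.preservesColimit
  haveI : (DCoh.restrictD j).Additive := (RH2.shAdj j).right_adjoint_additive
  exact FN0.fin_of_adj (RH2.shAdj j) K B
    (hB ι _ (fun i => QP7.isQCohD_restrictD j (K i) (hK i)))

/-- the Mayer–Vietoris step -/
theorem FN.mv (U V : Z.Opens) (hUV : U ⊔ V = ⊤) (B : DCoh.D Z)
    (hU : FN U ((DCoh.restrictD U.ι).obj B)) (hV : FN V ((DCoh.restrictD V.ι).obj B))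
    (hW : FN (U ⊓ V : Z.Opens) ((DCoh.restrictD (U ⊓ V).ι).obj B)) : FN Z B := by
  intro ι K _ hK
  obtain ⟨a', b', c', hT⟩ := Groth.Agent.S6513.result U V hUV B
  refine CP1.Fin.triangle _ hT ?_ ?_
  · refine CP1.Fin.of_total biprod.inl biprod.inr biprod.fst biprod.snd biprod.total
      (fin_extZeroD U.ι _ hU K hK) (fin_extZeroD V.ι _ hV K hK)
  · haveI : HasCoproduct (fun i => (K i)⟦-(1 : ℤ)⟧) := hasCoproduct Z _
    refine FN0.fin_shift K (1 : ℤ) _ ?_
    exact fin_extZeroD (U ⊓ V).ι _ hW _ (fun i => isQCohD_shift (K i) (hK i) (-1))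

section Base

variable (Z : Scheme.{u}) [IsAffine Z]

/-- the structure sheaf placed in degree `k` -/
theorem fn_unit (k : ℤ) :
    FN Z ((singleFunctor Z.Modules k).obj (SheafOfModules.unit Z.ringCatSheaf)) := by
  intro ι K _ hK
  let e := Groth.Agent.Helper9.LCUnit1.unitIsoGU Z
  have h := CP4.fin_affine K hK (⊤ : Z.Opens) (isAffineOpen_top Z) k
  exact h.of_iso ((singleFunctor Z.Modules k).mapIso e.symm)

/-- a finite free module placed in degree `k` -/
theorem fn_free (k : ℤ) (n : ℕ) :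
    FN Z ((singleFunctor Z.Modules k).obj (FlatMod.freeMod Z n)) := by
  intro ι K _ hK
  haveI : HasFiniteBiproducts Z.Modules := Abelian.hasFiniteBiproducts
  let f : Fin n → Z.Modules := fun _ => SheafOfModules.unit Z.ringCatSheaf
  let e' : FlatMod.freeMod Z n ≅ ⨁ f := (biproduct.isoCoproduct f).symm
  let Fk := singleFunctor Z.Modules k
  have h1 : 𝟙 (Fk.obj (⨁ f)) = ∑ j : Fin n, Fk.map (biproduct.π f j) ≫ Fk.map (biproduct.ι f j) := by
    simp only [← Functor.map_comp]
    rw [← Functor.map_sum, biproduct.total, CategoryTheory.Functor.map_id]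
  have h2 : CP1.Fin K (Fk.obj (⨁ f)) :=
    FN0.fin_of_sum K (fun _ => Fk.obj (SheafOfModules.unit Z.ringCatSheaf))
      (fun j => Fk.map (biproduct.ι f j)) (fun j => Fk.map (biproduct.π f j)) h1
      (fun j => fn_unit Z k ι K hK)
  exact h2.of_iso (Fk.mapIso e'.symm)

/-- the base case: bounded complexes of finite free modules on an affine scheme -/
theorem fn_bddFree (E : CochainComplex Z.Modules ℤ) (hE : MVP2.BddFree E) : FN Z (Q.obj E) := by
  obtain ⟨⟨a, b, hvan⟩, hfree⟩ := hE
  refine MVP4.of_bounded_range (fun B => FN Z B) (fun e h => h.of_iso e)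
    (fun B hB => FN.of_isZero hB) (fun T hT h1 h3 => FN.triangle T hT h1 h3)
    (fun M => ∃ n : ℕ, Nonempty (M ≅ FlatMod.freeMod Z n)) ?_ ?_ a (max a b) ?_
    (max a b - a + 1).toNat E a (max a b) le_rfl le_rfl (by omega) hfree
    (fun i hi => hvan i (Or.inl hi)) (fun i hi => hvan i (Or.inr ((le_max_right a b).trans_lt hi)))
  · rintro M M' e ⟨n, ⟨e'⟩⟩
    exact ⟨n, ⟨e.symm ≪≫ e'⟩⟩
  · intro M hM
    exact ⟨0, ⟨hM.iso (Groth.Agent.Lead.PerfLib.isZero_freeMod_zero Z)⟩⟩
  · rintro M ⟨n, ⟨e⟩⟩ k hk hk'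
    let κ : (singleFunctor Z.Modules k).obj (FlatMod.freeMod Z n) ≅
        Q.obj ((HomologicalComplex.single Z.Modules (ComplexShape.up ℤ) k).obj M) :=
      (singleFunctor Z.Modules k).mapIso e.symm ≪≫ (singleFunctorIsoCompQ Z.Modules k).app M
    exact (fn_free Z k n).of_iso κ

end Base

section Main

/-- **perfect objects are compact relative to `D_QCoh`** -/
theorem fn_of_isPerfect (X : Scheme.{u}) [CompactSpace X] [QuasiSeparatedSpace X]
    (B : DCoh.D X) (hB : DCoh.IsPerfect B) : FN X B := by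
  refine MVP2.perfect_induction (fun Z _ _ B => FN Z B) (fun Z j _ B B' e h => FN.of_iso e h)
    (fun Z j _ U V B hUV hU hV hW => FN.mv U V hUV B hU hV hW) ?_ B hB
  intro Z j _ _ E hE
  exact fn_bddFree Z E hE

/-- the version for sequences -/
theorem fin_nat_of_isPerfect (X : Scheme.{u}) [CompactSpace X] [QuasiSeparatedSpace X]
    (B : DCoh.D X) (hB : DCoh.IsPerfect B) (K : ℕ → DCoh.D X) [HasCoproduct K]
    (hK : ∀ i, DCoh.IsQCohD (K i)) : CP1.Fin K B := by
  let e : ULift.{u} ℕ ≃ ℕ := Equiv.ulift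
  haveI : HasCoproduct (K ∘ e) := hasCoproduct X _
  exact FN0.fin_of_equiv e K (fn_of_isPerfect X B hB (ULift.{u} ℕ) (K ∘ e) (fun i => hK _))

end Main

end Groth.Agent.Helper9.FN1
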