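import Mathlib
import Groth.Prelude.Def_CxOX
import Groth.Agent.Helper9.RH2
import Groth.Agent.Helper4.SuppLib

/-! A split lemma for triangles, and base change for extension by zero in the weak form
needed to glue objects of `D(O_X)`. -/

set_option autoImplicit false
set_option linter.style.haveILetI false
set_option linter.unusedVariables false
set_option linter.unusedSectionVars false
universe u

namespace Groth.Agent.Helper9.GL2

open CategoryTheory CategoryTheory.Limits AlgebraicGeometry Opposite Pretriangulated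

section Abstract

variable {C : Type*} [Category C] [HasShift C ℤ] [HasZeroObject C] [Preadditive C]
  [∀ (n : ℤ), (shiftFunctor C n).Additive] [Pretriangulated C]

theorem isIso_neg {D : Type*} [Category D] [Preadditive D] {A B : D} (φ : A ⟶ B) [IsIso φ] :
    IsIso (-φ) :=
  ⟨⟨-inv φ, by simp, by simp⟩⟩

/-- Let `X ⟶ Y ⟶ Z ⟶ X⟦1⟧` be distinguished where `Y` is a biproduct of `Y₁` and `Y₂`. If the
component `X ⟶ Y₂` is an isomorphism then `Y₁ ⟶ Y ⟶ Z` is an isomorphism. -/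
theorem isIso_of_split {X Y Z Y₁ Y₂ : C} (f : X ⟶ Y) (g : Y ⟶ Z) (h : Z ⟶ X⟦(1 : ℤ)⟧)
    (hT : Triangle.mk f g h ∈ distTriang C)
    (i₁ : Y₁ ⟶ Y) (i₂ : Y₂ ⟶ Y) (p₁ : Y ⟶ Y₁) (p₂ : Y ⟶ Y₂)
    (h11 : i₁ ≫ p₁ = 𝟙 Y₁) (h12 : i₁ ≫ p₂ = 0) (hsum : p₁ ≫ i₁ + p₂ ≫ i₂ = 𝟙 Y)
    (hiso : IsIso (f ≫ p₂)) : IsIso (i₁ ≫ g) := by
  have hfg : f ≫ g = 0 := comp_distTriang_mor_zero₁₂ _ hT
  let s : Y₂ ⟶ X := inv (f ≫ p₂)
  have hs : f ≫ p₂ ≫ s = 𝟙 X := by
    rw [← Category.assoc]; exact IsIso.hom_inv_id _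
  have hh : h = 0 := by
    have h1 : h ≫ f⟦(1 : ℤ)⟧' = 0 := comp_distTriang_mor_zero₃₁ _ hT
    calc h = h ≫ (f ≫ p₂ ≫ s)⟦(1 : ℤ)⟧' := by
            rw [hs, CategoryTheory.Functor.map_id, Category.comp_id]
      _ = 0 := by rw [Functor.map_comp, ← Category.assoc, h1, zero_comp]
  apply isIso_of_yoneda_map_bijective
  intro W
  constructor
  · intro w w' hww'
    have hw : (w - w') ≫ i₁ ≫ g = 0 := by
      rw [Preadditive.sub_comp]
      exact sub_eq_zero.2 hww'
    suffices w - w' = 0 from sub_eq_zero.1 this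
    obtain ⟨(x : W ⟶ X), (hx : (w - w') ≫ i₁ = x ≫ f)⟩ :=
      Triangle.coyoneda_exact₂ _ hT ((w - w') ≫ i₁) (by
        change ((w - w') ≫ i₁) ≫ g = 0
        rw [Category.assoc]; exact hw)
    have hx0 : x ≫ (f ≫ p₂) = 0 := by
      rw [← Category.assoc, ← hx, Category.assoc, h12, comp_zero]
    have hx1 : x = 0 := by
      rw [← cancel_mono (f ≫ p₂), hx0, zero_comp]
    have : (w - w') ≫ i₁ = 0 := by rw [hx, hx1, zero_comp]
    calc w - w' = ((w - w') ≫ i₁) ≫ p₁ := by rw [Category.assoc, h11, Category.comp_id]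
      _ = 0 := by rw [this, zero_comp]
  · intro z
    obtain ⟨(y : W ⟶ Y), (hy : z = y ≫ g)⟩ :=
      Triangle.coyoneda_exact₃ _ hT z (by
        change z ≫ h = 0
        rw [hh, comp_zero])
    let y' : W ⟶ Y := y - (y ≫ p₂ ≫ s) ≫ f
    have hy'g : y' ≫ g = z := by
      rw [Preadditive.sub_comp, Category.assoc, hfg, comp_zero, sub_zero, hy]
    have hy'p : y' ≫ p₂ = 0 := by
      rw [Preadditive.sub_comp]
      have : ((y ≫ p₂ ≫ s) ≫ f) ≫ p₂ = y ≫ p₂ := by
        simp only [Category.assoc]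
        change y ≫ p₂ ≫ inv (f ≫ p₂) ≫ f ≫ p₂ = y ≫ p₂
        rw [IsIso.inv_hom_id, Category.comp_id]
      rw [this, sub_self]
    refine ⟨y' ≫ p₁, ?_⟩
    change (y' ≫ p₁) ≫ i₁ ≫ g = z
    have : y' = (y' ≫ p₁) ≫ i₁ := by
      calc y' = y' ≫ (p₁ ≫ i₁ + p₂ ≫ i₂) := by rw [hsum, Category.comp_id]
        _ = (y' ≫ p₁) ≫ i₁ := by
          rw [Preadditive.comp_add, ← Category.assoc y' p₂, hy'p, zero_comp, add_zero,
            Category.assoc]
    rw [Category.assoc, ← Category.assoc y', ← Category.assoc, ← this, hy'g]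

end Abstract

attribute [local instance] HasDerivedCategory.standard

variable {X U V W : Scheme.{u}} (u : U ⟶ X) [IsOpenImmersion u] (v : V ⟶ X) [IsOpenImmersion v]
  (w : W ⟶ X) [IsOpenImmersion w]

open Groth.Agent.Helper9.RH2 Groth.Agent.Helper9.SkyMod4 Groth.Agent.Helper9.SkyMod5

/-- if `w(W) ⊆ v(V)` and `u(U) ∩ v(V) ⊆ w(W)`, then `w_! w^* A ⟶ A` restricts to an isomorphism
on `U` for every `A` supported in `v(V)`. -/
theorem isIso_restrict_counit_of_suppIn (hwv : Set.range w ⊆ Set.range v)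
    (huv : Set.range u ∩ Set.range v ⊆ Set.range w) (A : DCoh.D X) (hA : SuppIn v A) :
    IsIso ((DCoh.restrictD u).map ((shAdj w).counit.app A)) := by
  obtain ⟨C, g, k, hT⟩ := distinguished_cocone_triangle ((shAdj w).counit.app A)
  refine (Triangle.isZero₃_iff_isIso₁ _ ((DCoh.restrictD u).map_distinguished _ hT)).1 ?_
  show IsZero ((DCoh.restrictD u).obj C)
  have hCw : IsZero ((DCoh.restrictD w).obj C) :=
    (Triangle.isZero₃_iff_isIso₁ _ ((DCoh.restrictD w).map_distinguished _ hT)).2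
      (isIso_restrict_counit w A)
  rw [Groth.Agent.Helper4.SuppLib.isZero_restrictD_iff] at hCw ⊢
  intro i y
  by_cases hx : u y ∈ Set.range w
  · obtain ⟨z, hz⟩ := hx
    rw [← hz]
    exact hCw i z
  · have hxv : u y ∉ Set.range v := fun hv => hx (huv ⟨⟨y, rfl⟩, hv⟩)
    have hA' : SuppIn v ((CxOX.extZeroD w).obj ((DCoh.restrictD w).obj A)) := by
      intro i x hx
      exact hwv (suppIn_extZeroD w _ i hx)
    have hex := DerivedCategory.HomologySequence.exact₃ _ hT i (i + 1) rfl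
    have hex' := hex.map (St (u y))
    have h1 : IsZero ((St (u y)).obj (DCoh.HD A i)) :=
      (isZero_St_iff _ _).2 (fun h => hxv (hA i h))
    have h2 : IsZero ((St (u y)).obj (DCoh.HD
        ((CxOX.extZeroD w).obj ((DCoh.restrictD w).obj A)) (i + 1))) :=
      (isZero_St_iff _ _).2 (fun h => hxv (hA' (i + 1) h))
    rw [← isZero_St_iff]
    exact hex'.isZero_of_both_zeros (h1.eq_of_src _ _) (h2.eq_of_tgt _ _)

end Groth.Agent.Helper9.GL2
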