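import Mathlib
import Groth.Prelude.Def_CxOX
import Groth.Agent.Helper9.GL2

/-! Gluing objects of `D(O_X)` along two open immersions, with maps out of the glued object. -/

set_option autoImplicit false
set_option linter.style.haveILetI false
set_option linter.unusedVariables false
set_option linter.unusedSectionVars false
universe u

namespace Groth.Agent.Helper9.GL3

open CategoryTheory CategoryTheory.Limits AlgebraicGeometry Opposite Pretriangulated
open Groth.Agent.Helper9.RH2

attribute [local instance] HasDerivedCategory.standard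

variable {X U V W : Scheme.{u}} (u : U ⟶ X) [IsOpenImmersion u] (v : V ⟶ X) [IsOpenImmersion v]
  (a : W ⟶ U) [IsOpenImmersion a] (b : W ⟶ V) [IsOpenImmersion b]
  (w : W ⟶ X) [IsOpenImmersion w]
  (ca : DCoh.restrictD u ⋙ DCoh.restrictD a ≅ DCoh.restrictD w)
  (cb : DCoh.restrictD v ⋙ DCoh.restrictD b ≅ DCoh.restrictD w)

omit [IsOpenImmersion u] [IsOpenImmersion v] [IsOpenImmersion a] [IsOpenImmersion b]
  [IsOpenImmersion w] in
theorem map_biprod {C D : Type*} [Category C] [Category D] [Preadditive C] [Preadditive D]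
    (F : C ⥤ D) [F.Additive] (P Q : C) [HasBinaryBiproduct P Q] :
    F.map (biprod.inl : P ⟶ P ⊞ Q) ≫ F.map biprod.fst = 𝟙 _ ∧
    F.map (biprod.inl : P ⟶ P ⊞ Q) ≫ F.map biprod.snd = 0 ∧
    F.map (biprod.inr : Q ⟶ P ⊞ Q) ≫ F.map biprod.snd = 𝟙 _ ∧
    F.map (biprod.inr : Q ⟶ P ⊞ Q) ≫ F.map biprod.fst = 0 ∧
    F.map (biprod.fst : P ⊞ Q ⟶ P) ≫ F.map biprod.inl +
      F.map (biprod.snd : P ⊞ Q ⟶ Q) ≫ F.map biprod.inr = 𝟙 _ := by
  refine ⟨?_, ?_, ?_, ?_, ?_⟩
  · rw [← Functor.map_comp, biprod.inl_fst, CategoryTheory.Functor.map_id]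
  · rw [← Functor.map_comp, biprod.inl_snd, Functor.map_zero]
  · rw [← Functor.map_comp, biprod.inr_snd, CategoryTheory.Functor.map_id]
  · rw [← Functor.map_comp, biprod.inr_fst, Functor.map_zero]
  · rw [← Functor.map_comp, ← Functor.map_comp, ← Functor.map_add, biprod.total,
      CategoryTheory.Functor.map_id]

include ca cb in
theorem glue (hwu : Set.range w ⊆ Set.range u) (hwv : Set.range w ⊆ Set.range v)
    (huv : Set.range u ∩ Set.range v ⊆ Set.range w)
    (A : DCoh.D U) (B : DCoh.D V)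
    (θ : (DCoh.restrictD a).obj A ≅ (DCoh.restrictD b).obj B) :
    ∃ (R : DCoh.D X) (φU : A ≅ (DCoh.restrictD u).obj R) (φV : B ≅ (DCoh.restrictD v).obj R),
      ∀ (E : DCoh.D X) (xU : A ⟶ (DCoh.restrictD u).obj E) (xV : B ⟶ (DCoh.restrictD v).obj E),
        (DCoh.restrictD a).map xU ≫ ca.hom.app E =
          θ.hom ≫ (DCoh.restrictD b).map xV ≫ cb.hom.app E →
        ∃ β : R ⟶ E, φU.hom ≫ (DCoh.restrictD u).map β = xU ∧
          φV.hom ≫ (DCoh.restrictD v).map β = xV := by
  let ηu := (shAdj u).unit.app A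
  let ηv := (shAdj v).unit.app B
  let tU : (DCoh.restrictD a).obj A ⟶ (DCoh.restrictD w).obj ((CxOX.extZeroD u).obj A) :=
    (DCoh.restrictD a).map ηu ≫ ca.hom.app ((CxOX.extZeroD u).obj A)
  let tV : (DCoh.restrictD a).obj A ⟶ (DCoh.restrictD w).obj ((CxOX.extZeroD v).obj B) :=
    θ.hom ≫ (DCoh.restrictD b).map ηv ≫ cb.hom.app ((CxOX.extZeroD v).obj B)
  haveI : IsIso tU := by dsimp only [tU, ηu]; infer_instance
  haveI : IsIso tV := by dsimp only [tV, ηv]; infer_instance
  let fU := ((shAdj w).homEquiv _ _).symm tU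
  let fV := ((shAdj w).homEquiv _ _).symm tV
  have hfU : fU = (CxOX.extZeroD w).map tU ≫ (shAdj w).counit.app _ :=
    Adjunction.homEquiv_counit _ _ _ _
  have hfV : fV = (CxOX.extZeroD w).map tV ≫ (shAdj w).counit.app _ :=
    Adjunction.homEquiv_counit _ _ _ _
  haveI hiV : IsIso ((DCoh.restrictD u).map fV) := by
    haveI := Groth.Agent.Helper9.GL2.isIso_restrict_counit_of_suppIn u v w hwv huv
      ((CxOX.extZeroD v).obj B) (suppIn_extZeroD v B)
    rw [hfV, Functor.map_comp]
    infer_instance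
  haveI hiU : IsIso ((DCoh.restrictD v).map fU) := by
    haveI := Groth.Agent.Helper9.GL2.isIso_restrict_counit_of_suppIn v u w hwu
      (by rw [Set.inter_comm]; exact huv)
      ((CxOX.extZeroD u).obj A) (suppIn_extZeroD u A)
    rw [hfU, Functor.map_comp]
    infer_instance
  let f : (CxOX.extZeroD w).obj ((DCoh.restrictD a).obj A) ⟶
      (CxOX.extZeroD u).obj A ⊞ (CxOX.extZeroD v).obj B := biprod.lift fU (-fV)
  obtain ⟨R, g, h, hT⟩ := distinguished_cocone_triangle f
  -- the isomorphism over `U`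
  haveI hφU : IsIso ((DCoh.restrictD u).map (biprod.inl ≫ g)) := by
    have hT' := (DCoh.restrictD u).map_distinguished _ hT
    have hi : IsIso ((DCoh.restrictD u).map f ≫ (DCoh.restrictD u).map biprod.snd) := by
      rw [← Functor.map_comp]
      have : f ≫ biprod.snd = -fV := biprod.lift_snd _ _
      rw [this, Functor.map_neg]
      exact Groth.Agent.Helper9.GL2.isIso_neg _
    rw [Functor.map_comp]
    refine Groth.Agent.Helper9.GL2.isIso_of_split _ _ _ hT'
      ((DCoh.restrictD u).map biprod.inl) ((DCoh.restrictD u).map biprod.inr)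
      ((DCoh.restrictD u).map biprod.fst) ((DCoh.restrictD u).map biprod.snd) ?_ ?_ ?_ hi
    · exact (map_biprod (DCoh.restrictD u) _ _).1
    · exact (map_biprod (DCoh.restrictD u) _ _).2.1
    · exact (map_biprod (DCoh.restrictD u) _ _).2.2.2.2
  haveI hφV : IsIso ((DCoh.restrictD v).map (biprod.inr ≫ g)) := by
    have hT' := (DCoh.restrictD v).map_distinguished _ hT
    have hi : IsIso ((DCoh.restrictD v).map f ≫ (DCoh.restrictD v).map biprod.fst) := by
      rw [← Functor.map_comp]
      have : f ≫ biprod.fst = fU := biprod.lift_fst _ _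
      rw [this]
      infer_instance
    rw [Functor.map_comp]
    refine Groth.Agent.Helper9.GL2.isIso_of_split _ _ _ hT'
      ((DCoh.restrictD v).map biprod.inr) ((DCoh.restrictD v).map biprod.inl)
      ((DCoh.restrictD v).map biprod.snd) ((DCoh.restrictD v).map biprod.fst) ?_ ?_ ?_ hi
    · exact (map_biprod (DCoh.restrictD v) _ _).2.2.1
    · exact (map_biprod (DCoh.restrictD v) _ _).2.2.2.1
    · exact (add_comm _ _).trans (map_biprod (DCoh.restrictD v) _ _).2.2.2.2
  refine ⟨R, asIso ηu ≪≫ asIso ((DCoh.restrictD u).map (biprod.inl ≫ g)),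
    asIso ηv ≪≫ asIso ((DCoh.restrictD v).map (biprod.inr ≫ g)), ?_⟩
  intro E xU xV hx
  let yU := ((shAdj u).homEquiv _ _).symm xU
  let yV := ((shAdj v).homEquiv _ _).symm xV
  have hyU : ηu ≫ (DCoh.restrictD u).map yU = xU := by
    have := (shAdj u).homEquiv_unit (f := yU)
    rw [← this]
    exact Equiv.apply_symm_apply _ _
  have hyV : ηv ≫ (DCoh.restrictD v).map yV = xV := by
    have := (shAdj v).homEquiv_unit (f := yV)
    rw [← this]
    exact Equiv.apply_symm_apply _ _
  have hcomp : fU ≫ yU = fV ≫ yV := by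
    apply ((shAdj w).homEquiv _ _).injective
    rw [Adjunction.homEquiv_naturality_right, Adjunction.homEquiv_naturality_right]
    have e1 : (shAdj w).homEquiv _ _ fU = tU := Equiv.apply_symm_apply _ _
    have e2 : (shAdj w).homEquiv _ _ fV = tV := Equiv.apply_symm_apply _ _
    rw [e1, e2]
    have n1 : ca.hom.app ((CxOX.extZeroD u).obj A) ≫ (DCoh.restrictD w).map yU =
        (DCoh.restrictD a).map ((DCoh.restrictD u).map yU) ≫ ca.hom.app E :=
      (ca.hom.naturality yU).symm
    have n2 : cb.hom.app ((CxOX.extZeroD v).obj B) ≫ (DCoh.restrictD w).map yV =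
        (DCoh.restrictD b).map ((DCoh.restrictD v).map yV) ≫ cb.hom.app E :=
      (cb.hom.naturality yV).symm
    calc tU ≫ (DCoh.restrictD w).map yU
        = (DCoh.restrictD a).map ηu ≫ (DCoh.restrictD a).map ((DCoh.restrictD u).map yU) ≫
            ca.hom.app E := by
          dsimp only [tU]
          rw [Category.assoc, n1]
      _ = (DCoh.restrictD a).map xU ≫ ca.hom.app E := by
          rw [← Category.assoc, ← Functor.map_comp, hyU]
      _ = θ.hom ≫ (DCoh.restrictD b).map xV ≫ cb.hom.app E := hx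
      _ = θ.hom ≫ (DCoh.restrictD b).map ηv ≫
            (DCoh.restrictD b).map ((DCoh.restrictD v).map yV) ≫ cb.hom.app E := by
          rw [← hyV, Functor.map_comp, Category.assoc]
      _ = tV ≫ (DCoh.restrictD w).map yV := by
          dsimp only [tV]
          rw [Category.assoc, Category.assoc, n2]
  have hf0 : f ≫ biprod.desc yU yV = 0 := by
    dsimp only [f]
    rw [biprod.lift_desc, Preadditive.neg_comp, hcomp]
    exact add_neg_cancel _
  obtain ⟨(β : R ⟶ E), (hβ : biprod.desc yU yV = g ≫ β)⟩ :=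
    Triangle.yoneda_exact₂ _ hT (biprod.desc yU yV) hf0
  refine ⟨β, ?_, ?_⟩
  · change (ηu ≫ (DCoh.restrictD u).map (biprod.inl ≫ g)) ≫ (DCoh.restrictD u).map β = xU
    rw [Category.assoc, ← Functor.map_comp, Category.assoc, ← hβ, biprod.inl_desc, hyU]
  · change (ηv ≫ (DCoh.restrictD v).map (biprod.inr ≫ g)) ≫ (DCoh.restrictD v).map β = xV
    rw [Category.assoc, ← Functor.map_comp, Category.assoc, ← hβ, biprod.inr_desc, hyV]

end Groth.Agent.Helper9.GL3
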