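import Mathlib
import Groth.Agent.Helper9.TT6
import Groth.Agent.Helper4.TildeExact

/-! The approximation lemma on a general affine scheme, by transport from `Spec Γ(X, O_X)`. -/

set_option autoImplicit false
set_option linter.style.haveILetI false
set_option linter.unusedVariables false
set_option linter.unusedSectionVars false
universe u

namespace Groth.Agent.Helper9.TT7

open CategoryTheory CategoryTheory.Limits AlgebraicGeometry Opposite TopologicalSpace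
  Pretriangulated DerivedCategory ZeroObject
open Groth.Agent.Helper4 Groth.Agent.Helper9.MVP13
  Groth.Agent.Helper9.KZ2 Groth.Agent.Helper9.KZ4 Groth.Agent.Helper9.TT2
  Groth.Agent.Helper9.TT6
  Groth.Agent.Lead.PerfLib Groth.Agent.Lead.PcLib Scheme.Modules

attribute [local instance] HasDerivedCategory.standard
attribute [local instance] Groth.Agent.Helper9.KZ1.overSelf

lemma mem_basicOpen_iff (X : Scheme.{u}) [IsAffine X] (a : Γ(X, ⊤)) (x : X) :
    x ∈ X.basicOpen a ↔ a ∉ (X.isoSpec.hom x : PrimeSpectrum Γ(X, ⊤)).asIdeal := by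
  rw [← Scheme.toSpecΓ_preimage_basicOpen]
  rfl

theorem approx_affine (X : Scheme.{u}) [IsAffine X] (V W : X.Opens) (fs : List Γ(X, ⊤))
    (hV : ∀ x : X, x ∈ V ↔ ∃ f ∈ fs, x ∈ X.basicOpen f)
    (hW : IsCompact (W : Set X)) (m : ℤ) (E : DCoh.D X) (hE : DCoh.IsQCohD E)
    (hpc : DCoh.IsPseudoCoherentD m ((DCoh.restrictD W.ι).obj E))
    (hsupp : ∀ i : ℤ, m - (fs.length : ℤ) < i → VanOn E V i) :
    ∃ (P Q' : DCoh.D X) (α : P ⟶ E) (g : E ⟶ Q') (h : Q' ⟶ P⟦(1 : ℤ)⟧),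
      Triangle.mk α g h ∈ distTriang _ ∧
      DCoh.IsPerfect P ∧ ZeroOn P V ∧ ∀ i : ℤ, m ≤ i → VanOn Q' W i := by
  let R : CommRingCat.{u} := Γ(X, ⊤)
  haveI : PreservesFiniteLimits (tilde.functor R) :=
    Groth.Agent.Helper4.TildeExact.preservesFiniteLimits_tilde _
  let e : X ≅ Spec (CommRingCat.of R) := X.isoSpec
  let E_S : DCoh.D (Spec (CommRingCat.of R)) := (DCoh.restrictD e.inv).obj E
  let W_S : (Spec (CommRingCat.of R)).Opens := e.inv ⁻¹ᵁ W
  have hinvhom : ∀ x : X, e.inv (e.hom x) = x := fun x => by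
    rw [← Scheme.Hom.comp_apply, e.hom_inv_id]; rfl
  have hhominv : ∀ y : Spec (CommRingCat.of R), e.hom (e.inv y) = y := fun y => by
    rw [← Scheme.Hom.comp_apply, e.inv_hom_id]; rfl
  have hW_S : IsCompact (W_S : Set (Spec (CommRingCat.of R))) := by
    have h1 : (W_S : Set (Spec (CommRingCat.of R))) = e.hom '' (W : Set X) := by
      ext y
      constructor
      · intro hy
        exact ⟨e.inv y, hy, hhominv y⟩
      · rintro ⟨x, hx, rfl⟩
        show e.inv (e.hom x) ∈ W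
        rw [hinvhom]
        exact hx
    rw [h1]
    exact hW.image e.hom.continuous
  have hE_S : DCoh.IsQCohD E_S := Groth.Agent.Helper9.QP7.isQCohD_restrictD e.inv E hE
  have hpc_S : DCoh.IsPseudoCoherentD m ((DCoh.restrictD W_S.ι).obj E_S) := by
    obtain ⟨ι₁⟩ := nonempty_restrictD_comp_iso e.inv W_S.ι (W_S.ι ≫ e.inv) rfl E
    obtain ⟨ι₂⟩ := nonempty_restrictD_comp_iso W.ι (e.inv ∣_ W) (W_S.ι ≫ e.inv)
      (morphismRestrict_ι e.inv W).symm E
    exact isPseudoCoherentD_of_iso (ι₂ ≪≫ ι₁.symm)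
      (isPseudoCoherentD_restrictD (e.inv ∣_ W) m _ hpc)
  have hmemPU : ∀ y : Spec (CommRingCat.of R), y ∈ PU R fs ↔ e.inv y ∈ V := by
    intro y
    have h1 : y ∈ PU R fs ↔ ∃ a ∈ {a | a ∈ fs}, a ∉ (y : PrimeSpectrum R).asIdeal :=
      Groth.Agent.Helper9.KZ1.mem_compl_zeroLocus_span R {a | a ∈ fs} y
    rw [h1, hV]
    constructor
    · rintro ⟨a, ha, hay⟩
      refine ⟨a, ha, (mem_basicOpen_iff X a _).2 ?_⟩
      show a ∉ (e.hom (e.inv y) : PrimeSpectrum R).asIdeal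
      rw [hhominv]
      exact hay
    · rintro ⟨a, ha, hay⟩
      refine ⟨a, ha, ?_⟩
      have h2 := (mem_basicOpen_iff X a _).1 hay
      have h3 : a ∉ (e.hom (e.inv y) : PrimeSpectrum R).asIdeal := h2
      rwa [hhominv] at h3
  have hsupp_S : ∀ i : ℤ, m - (fs.length : ℤ) < i → VanOn E_S (PU R fs) i := by
    intro i hi y hy
    rw [SuppLib.support_HD_restrictD]
    exact hsupp i hi _ ((hmemPU y).1 hy)
  obtain ⟨P_S, Q_S, α_S, g_S, h_S, hT_S, hP_S, hz_S, hQ_S⟩ :=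
    approx' R fs W_S hW_S m E_S hE_S hpc_S hsupp_S
  obtain ⟨ι⟩ := nonempty_restrictD_hom_inv_iso e E
  let Φ := DCoh.restrictD e.hom
  have hT' := Φ.map_distinguished _ hT_S
  refine ⟨Φ.obj P_S, Φ.obj Q_S, Φ.map α_S ≫ ι.hom, ι.inv ≫ Φ.map g_S,
    Φ.map h_S ≫ (Φ.commShiftIso (1 : ℤ)).hom.app P_S, ?_, ?_, ?_, ?_⟩
  · refine isomorphic_distinguished _ hT' _
      (Triangle.isoMk _ _ (Iso.refl _) ι.symm (Iso.refl _) ?_ ?_ ?_)
    · show (Φ.map α_S ≫ ι.hom) ≫ ι.inv = 𝟙 _ ≫ Φ.map α_S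
      rw [Category.assoc, Iso.hom_inv_id, Category.comp_id, Category.id_comp]
    · show (ι.inv ≫ Φ.map g_S) ≫ 𝟙 _ = ι.inv ≫ Φ.map g_S
      rw [Category.comp_id]
    · show (Φ.map h_S ≫ (Φ.commShiftIso (1 : ℤ)).hom.app P_S) ≫ (𝟙 (Φ.obj P_S))⟦(1 : ℤ)⟧' =
        𝟙 _ ≫ Φ.map h_S ≫ (Φ.commShiftIso (1 : ℤ)).hom.app P_S
      rw [CategoryTheory.Functor.map_id]
      exact (Category.comp_id _).trans (Category.id_comp _).symm
  · exact Groth.Agent.Helper9.MVP12.isPerfect_restrictD e.hom P_S hP_S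
  · intro i x hx
    rw [SuppLib.support_HD_restrictD]
    refine hz_S i (e.hom x) ((hmemPU _).2 ?_)
    rw [hinvhom]
    exact hx
  · intro i hi x hx
    rw [SuppLib.support_HD_restrictD]
    refine hQ_S i hi (e.hom x) ?_
    show e.inv (e.hom x) ∈ W
    rw [hinvhom]
    exact hx

end Groth.Agent.Helper9.TT7
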