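import Mathlib

/-! In a pretriangulated category, the cone of `𝟙 - α ≫ s` for a retraction `s ≫ α = 𝟙_A`
is `A ⊞ A⟦1⟧`. -/

set_option autoImplicit false
set_option linter.style.haveILetI false
set_option linter.unusedVariables false
set_option linter.unusedSectionVars false

namespace Groth.Agent.Helper9.TT8

open CategoryTheory CategoryTheory.Limits Pretriangulated

universe v u

variable {D : Type u} [Category.{v} D] [Preadditive D] [HasZeroObject D] [HasShift D ℤ]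
  [∀ n : ℤ, (shiftFunctor D n).Additive] [Pretriangulated D]

theorem nonempty_iso_biprod {A Y Z : D} (s : A ⟶ Y) (α : Y ⟶ A) (hsα : s ≫ α = 𝟙 A)
    (g : Y ⟶ Z) (h : Z ⟶ Y⟦(1 : ℤ)⟧)
    (hT : Triangle.mk (𝟙 Y - α ≫ s) g h ∈ distTriang D) [HasBinaryBiproduct A (A⟦(1 : ℤ)⟧)] :
    Nonempty (Z ≅ A ⊞ A⟦(1 : ℤ)⟧) := by
  have hpg : (𝟙 Y - α ≫ s) ≫ g = 0 := comp_distTriang_mor_zero₁₂ _ hT
  have hgh : g ≫ h = 0 := comp_distTriang_mor_zero₂₃ _ hT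
  have hhp : h ≫ (𝟙 Y - α ≫ s)⟦(1 : ℤ)⟧' = 0 := comp_distTriang_mor_zero₃₁ _ hT
  have hpα : (𝟙 Y - α ≫ s) ≫ α = 0 := by
    rw [Preadditive.sub_comp, Category.id_comp, Category.assoc, hsα, Category.comp_id, sub_self]
  have hsp : s ≫ (𝟙 Y - α ≫ s) = 0 := by
    rw [Preadditive.comp_sub, Category.comp_id, ← Category.assoc, hsα, Category.id_comp, sub_self]
  -- the retraction onto `A`
  obtain ⟨a, ha⟩ : ∃ a : Z ⟶ A, α = g ≫ a := Triangle.yoneda_exact₂ _ hT α hpα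
  let b : A ⟶ Z := s ≫ g
  have hba : b ≫ a = 𝟙 A := by
    show (s ≫ g) ≫ a = 𝟙 A
    rw [Category.assoc, ← ha, hsα]
  -- the retraction onto `A⟦1⟧`
  let c : Z ⟶ A⟦(1 : ℤ)⟧ := h ≫ α⟦(1 : ℤ)⟧'
  have hs1 : s⟦(1 : ℤ)⟧' ≫ (𝟙 Y - α ≫ s)⟦(1 : ℤ)⟧' = 0 := by
    rw [← Functor.map_comp, hsp, Functor.map_zero]
  obtain ⟨σ, hσ⟩ : ∃ σ : A⟦(1 : ℤ)⟧ ⟶ Z, s⟦(1 : ℤ)⟧' = σ ≫ h := by
    have hrot := rot_of_distTriang _ hT
    refine Triangle.coyoneda_exact₃ _ hrot (s⟦(1 : ℤ)⟧') ?_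
    show s⟦(1 : ℤ)⟧' ≫ (-(𝟙 Y - α ≫ s)⟦(1 : ℤ)⟧') = 0
    rw [Preadditive.comp_neg, hs1, neg_zero]
  have hσc : σ ≫ c = 𝟙 _ := by
    show σ ≫ h ≫ α⟦(1 : ℤ)⟧' = 𝟙 _
    rw [← Category.assoc, ← hσ, ← Functor.map_comp, hsα, CategoryTheory.Functor.map_id]
  have hbc : b ≫ c = 0 := by
    show (s ≫ g) ≫ h ≫ α⟦(1 : ℤ)⟧' = 0
    rw [Category.assoc, reassoc_of% hgh, zero_comp, comp_zero]
  have hbh : b ≫ h = 0 := by
    show (s ≫ g) ≫ h = 0
    rw [Category.assoc, hgh, comp_zero]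
  let σ' : A⟦(1 : ℤ)⟧ ⟶ Z := σ - σ ≫ a ≫ b
  have hσ'a : σ' ≫ a = 0 := by
    show (σ - σ ≫ a ≫ b) ≫ a = 0
    rw [Preadditive.sub_comp, Category.assoc, Category.assoc, hba, Category.comp_id, sub_self]
  have hσ'c : σ' ≫ c = 𝟙 _ := by
    show (σ - σ ≫ a ≫ b) ≫ c = 𝟙 _
    rw [Preadditive.sub_comp, Category.assoc, Category.assoc, hbc, comp_zero, comp_zero, sub_zero,
      hσc]
  have hσ'h : σ' ≫ h = s⟦(1 : ℤ)⟧' := by
    show (σ - σ ≫ a ≫ b) ≫ h = _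
    rw [Preadditive.sub_comp, Category.assoc, Category.assoc, hbh, comp_zero, comp_zero, sub_zero,
      ← hσ]
  -- the complementary idempotent vanishes
  let d : Z ⟶ Z := 𝟙 Z - a ≫ b - c ≫ σ'
  have hgd : g ≫ d = 0 := by
    show g ≫ (𝟙 Z - a ≫ b - c ≫ σ') = 0
    have h1 : g ≫ c = 0 := by
      show g ≫ h ≫ α⟦(1 : ℤ)⟧' = 0
      rw [reassoc_of% hgh, zero_comp]
    rw [Preadditive.comp_sub, Preadditive.comp_sub, Category.comp_id, ← Category.assoc g a b,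
      ← ha, reassoc_of% h1, zero_comp, sub_zero]
    show g - α ≫ s ≫ g = 0
    have h2 := hpg
    rw [Preadditive.sub_comp, Category.id_comp, Category.assoc] at h2
    exact h2
  have hdh : d ≫ h = 0 := by
    show (𝟙 Z - a ≫ b - c ≫ σ') ≫ h = 0
    rw [Preadditive.sub_comp, Preadditive.sub_comp, Category.id_comp, Category.assoc, hbh,
      comp_zero, sub_zero, Category.assoc, hσ'h]
    show h - (h ≫ α⟦(1 : ℤ)⟧') ≫ s⟦(1 : ℤ)⟧' = 0
    have h2 := hhp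
    rw [Functor.map_sub, CategoryTheory.Functor.map_id, Preadditive.comp_sub, Category.comp_id,
      Functor.map_comp, ← Category.assoc] at h2
    exact h2
  have hdd : d ≫ d = d := by
    have hq : (a ≫ b + c ≫ σ') ≫ (a ≫ b + c ≫ σ') = a ≫ b + c ≫ σ' := by
      rw [Preadditive.add_comp, Preadditive.comp_add, Preadditive.comp_add]
      have e1 : (a ≫ b) ≫ a ≫ b = a ≫ b := by
        rw [Category.assoc, reassoc_of% hba]
      have e2 : (a ≫ b) ≫ c ≫ σ' = 0 := by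
        rw [Category.assoc, reassoc_of% hbc, zero_comp, comp_zero]
      have e3 : (c ≫ σ') ≫ a ≫ b = 0 := by
        rw [Category.assoc, reassoc_of% hσ'a, zero_comp, comp_zero]
      have e4 : (c ≫ σ') ≫ c ≫ σ' = c ≫ σ' := by
        rw [Category.assoc, reassoc_of% hσ'c]
      rw [e1, e2, e3, e4, add_zero, zero_add]
    have hd : d = 𝟙 Z - (a ≫ b + c ≫ σ') := by
      show 𝟙 Z - a ≫ b - c ≫ σ' = _
      abel
    have key : ∀ q : Z ⟶ Z, q ≫ q = q → (𝟙 Z - q) ≫ (𝟙 Z - q) = 𝟙 Z - q := by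
      intro q hq'
      rw [Preadditive.sub_comp, Preadditive.comp_sub, Preadditive.comp_sub, Category.id_comp,
        Category.comp_id, Category.id_comp, hq']
      abel
    rw [hd]
    exact key _ hq
  have hd0 : d = 0 := by
    obtain ⟨t, ht⟩ : ∃ t : Y⟦(1 : ℤ)⟧ ⟶ Z, d = h ≫ t := Triangle.yoneda_exact₃ _ hT d hgd
    calc d = d ≫ d := hdd.symm
      _ = d ≫ h ≫ t := by rw [← ht]
      _ = 0 := by rw [← Category.assoc, hdh, zero_comp]
  refine ⟨⟨biprod.lift a c, biprod.desc b σ', ?_, ?_⟩⟩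
  · rw [biprod.lift_desc]
    have : 𝟙 Z - a ≫ b - c ≫ σ' = 0 := hd0
    rw [sub_sub, sub_eq_zero] at this
    exact this.symm
  · apply biprod.hom_ext
    · apply biprod.hom_ext'
      · rw [Category.assoc, biprod.lift_fst, biprod.inl_desc_assoc, hba, Category.id_comp,
          biprod.inl_fst]
      · rw [Category.assoc, biprod.lift_fst, biprod.inr_desc_assoc, hσ'a, Category.id_comp,
          biprod.inr_fst]
    · apply biprod.hom_ext'
      · rw [Category.assoc, biprod.lift_snd, biprod.inl_desc_assoc, hbc, Category.id_comp,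
          biprod.inl_snd]
      · rw [Category.assoc, biprod.lift_snd, biprod.inr_desc_assoc, hσ'c, Category.id_comp,
          biprod.inr_snd]

/-- variant with the first map of the triangle precomposed by an isomorphism -/
theorem nonempty_iso_biprod' {A Y Y' Z : D} (s : A ⟶ Y) (α : Y ⟶ A) (hsα : s ≫ α = 𝟙 A)
    (β : Y' ⟶ Y) [IsIso β] (f : Y' ⟶ Y) (hf : β ≫ (𝟙 Y - α ≫ s) = f)
    (g : Y ⟶ Z) (h : Z ⟶ Y'⟦(1 : ℤ)⟧)
    (hT : Triangle.mk f g h ∈ distTriang D) [HasBinaryBiproduct A (A⟦(1 : ℤ)⟧)] :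
    Nonempty (Z ≅ A ⊞ A⟦(1 : ℤ)⟧) := by
  refine nonempty_iso_biprod s α hsα g (h ≫ β⟦(1 : ℤ)⟧') ?_
  refine isomorphic_distinguished _ hT _
    (Triangle.isoMk _ _ (asIso β).symm (Iso.refl _) (Iso.refl _) ?_ ?_ ?_)
  · show (𝟙 Y - α ≫ s) ≫ 𝟙 Y = inv β ≫ f
    rw [Category.comp_id, ← hf, IsIso.inv_hom_id_assoc]
  · show g ≫ 𝟙 Z = 𝟙 Y ≫ g
    rw [Category.comp_id, Category.id_comp]
  · show (h ≫ β⟦(1 : ℤ)⟧') ≫ (inv β)⟦(1 : ℤ)⟧' = 𝟙 Z ≫ h
    rw [Category.assoc, ← Functor.map_comp, IsIso.hom_inv_id, CategoryTheory.Functor.map_id,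
      Category.comp_id, Category.id_comp]

end Groth.Agent.Helper9.TT8
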