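import Mathlib
import Groth.Agent.Helper9.TT7
import Groth.Agent.Helper9.TT8
import Groth.Agent.Helper9.MVP5
import Groth.Agent.Helper9.MVP14

/-! On an affine scheme `X` with a quasi-compact open `U`: every perfect object of `D(O_U)` is a
retract of the restriction of a perfect object of `D(O_X)`, and `F ⊞ F⟦1⟧` extends. -/

set_option autoImplicit false
set_option linter.style.haveILetI false
set_option linter.unusedVariables false
set_option linter.unusedSectionVars false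
universe u

namespace Groth.Agent.Helper9.TT9

open CategoryTheory CategoryTheory.Limits AlgebraicGeometry Opposite TopologicalSpace
  Pretriangulated DerivedCategory ZeroObject
open Groth.Agent.Helper4 Groth.Agent.Helper9.MVP13 Groth.Agent.Helper9.MVP3
  Groth.Agent.Helper9.TT2 Groth.Agent.Helper9.TT6
  Groth.Agent.Lead.PerfLib Groth.Agent.Lead.PcLib Scheme.Modules

attribute [local instance] HasDerivedCategory.standard

/-- a perfect object on a quasi-compact open of an affine scheme is a retract of the restriction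
of a perfect object -/
theorem exists_retract (X : Scheme.{u}) [IsAffine X] (U : X.Opens) (hU : IsCompact (U : Set X))
    (F : DCoh.D (U : Scheme.{u})) (hF : DCoh.IsPerfect F) :
    ∃ (Y : DCoh.D X) (s : F ⟶ (DCoh.restrictD U.ι).obj Y) (α : (DCoh.restrictD U.ι).obj Y ⟶ F),
      DCoh.IsPerfect Y ∧ s ≫ α = 𝟙 F := by
  haveI : CompactSpace U := isCompact_iff_compactSpace.1 hU
  haveI : QuasiSeparatedSpace U := U.isOpenEmbedding'.quasiSeparatedSpace
  haveI : QuasiCompact U.ι := Groth.Agent.Helper9.MVP14.quasiCompact_ι X U hU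
  haveI : DCoh.HasRpush U.ι := Groth.Agent.Helper4.HasRD.hasRpush _
  let adj := Groth.Agent.Helper4.RjSuppGen.dAdj' U.ι
  haveI : IsIso adj.counit := Groth.Agent.Helper4.RjSuppGen.isIso_counit_of_adj U.ι adj
  let E : DCoh.D X := (DCoh.Rpush U.ι).obj F
  let ε : (DCoh.restrictD U.ι).obj E ≅ F := asIso (adj.counit.app F)
  have hFq : DCoh.IsQCohD F := Groth.Agent.Helper9.TP4.isQCohD_of_isPerfect F hF
  have hEq : DCoh.IsQCohD E := Groth.Agent.Helper9.QP7.isQCohD_Rpush U.ι F hFq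
  obtain ⟨a, b', hab, hHV⟩ := Groth.Agent.Helper9.MVP5.hv_of_isPerfect (U : Scheme.{u}) F hF
  have hpc : DCoh.IsPseudoCoherentD a ((DCoh.restrictD U.ι).obj E) :=
    isPseudoCoherentD_of_iso ε.symm (Groth.Agent.Helper9.TT5.isPseudoCoherentD_of_isPerfect F hF a)
  obtain ⟨P, Q', α, g, h, hT, hP, -, hQ⟩ := Groth.Agent.Helper9.TT7.approx_affine X ⊥ U []
    (fun x => ⟨fun hx => (hx : x ∈ (⊥ : X.Opens)).elim, fun ⟨f, hf, _⟩ => (List.not_mem_nil hf).elim⟩)
    hU a E hEq hpc (fun i _ x hx => (hx : x ∈ (⊥ : X.Opens)).elim)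
  have hQq : DCoh.IsQCohD Q' := Groth.Agent.Helper4.QcohWSerre.isQCohD_obj₃ _ hT
    (Groth.Agent.Helper9.TP4.isQCohD_of_isPerfect P hP) hEq
  have hT' := (DCoh.restrictD U.ι).map_distinguished _ hT
  have hzero : ε.inv ≫ (DCoh.restrictD U.ι).map g = 0 :=
    hHV _ (Groth.Agent.Helper9.QP7.isQCohD_restrictD U.ι Q' hQq)
      (fun i hi _ => (vanOn_iff Q' U i).1 (hQ i hi)) _
  obtain ⟨s, hs⟩ : ∃ s : F ⟶ (DCoh.restrictD U.ι).obj P, ε.inv = s ≫ (DCoh.restrictD U.ι).map α :=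
    Triangle.coyoneda_exact₂ _ hT' ε.inv hzero
  refine ⟨P, s, (DCoh.restrictD U.ι).map α ≫ ε.hom, hP, ?_⟩
  rw [← Category.assoc, ← hs, Iso.inv_hom_id]

/-- **`F ⊞ F⟦1⟧` extends to a perfect object** -/
theorem exists_extension (X : Scheme.{u}) [IsAffine X] (U : X.Opens) (hU : IsCompact (U : Set X))
    (F : DCoh.D (U : Scheme.{u})) (hF : DCoh.IsPerfect F) [HasBinaryBiproduct F (F⟦(1 : ℤ)⟧)] :
    ∃ G : DCoh.D X, DCoh.IsPerfect G ∧
      Nonempty ((DCoh.restrictD U.ι).obj G ≅ F ⊞ F⟦(1 : ℤ)⟧) := by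
  obtain ⟨Y, s, α, hY, hsα⟩ := exists_retract X U hU F hF
  obtain ⟨E₁, β, γ, hE₁, hβ, hβγ⟩ := Groth.Agent.Helper9.MVP14.lift_affine X U hU Y Y hY
    (Groth.Agent.Helper9.TP4.isQCohD_of_isPerfect Y hY) (𝟙 _ - α ≫ s)
  obtain ⟨G, g, h, hT⟩ := distinguished_cocone_triangle γ
  refine ⟨G, isPerfect_obj₃ _ hT hE₁ hY, ?_⟩
  have hT' := (DCoh.restrictD U.ι).map_distinguished _ hT
  haveI := hβ
  exact Groth.Agent.Helper9.TT8.nonempty_iso_biprod' s α hsα ((DCoh.restrictD U.ι).map β)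
    ((DCoh.restrictD U.ι).map γ) hβγ _ _ hT'

end Groth.Agent.Helper9.TT9
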