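import Mathlib
import Groth.Agent.Helper9.TT9
import Groth.Agent.Helper9.KZ4

/-! Support-preserving versions of the lifting lemmas: cutting perfect objects down to `V(a)` by
cocones of powers of `a`. -/

set_option autoImplicit false
set_option linter.style.haveILetI false
set_option linter.unusedVariables false
set_option linter.unusedSectionVars false
universe u

namespace Groth.Agent.Helper9.TT10

open CategoryTheory CategoryTheory.Limits AlgebraicGeometry Opposite TopologicalSpace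
  Pretriangulated DerivedCategory ZeroObject
open Groth.Agent.Helper4 Groth.Agent.Helper9.MVP13 Groth.Agent.Helper9.MVP3
  Groth.Agent.Helper9.MVP10 Groth.Agent.Helper9.MVP14
  Groth.Agent.Helper9.TT2 Groth.Agent.Helper9.TT6
  Groth.Agent.Lead.PerfLib Groth.Agent.Lead.PcLib Scheme.Modules

attribute [local instance] HasDerivedCategory.standard

section Main

variable (A : Type u) [CommRing A] {X : Scheme.{u}} [X.Over (Spec (CommRingCat.of A))]

/-- cutting the target of a map from a perfect object supported on `V(a)` -/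
theorem exists_cut [CompactSpace X] [QuasiSeparatedSpace X] (a : A)
    (E : DCoh.D X) (hE : DCoh.IsPerfect E) (hEa : ZeroOn E (Da A X a))
    (C : DCoh.D X) (hC : DCoh.IsPerfect C) (c : E ⟶ C) :
    ∃ (C₁ : DCoh.D X) (π : C₁ ⟶ C) (c₁ : E ⟶ C₁), DCoh.IsPerfect C₁ ∧ c₁ ≫ π = c ∧
      ZeroOn C₁ (Da A X a) ∧ ∀ W : X.Opens, ZeroOn C W → ZeroOn C₁ W := by
  obtain ⟨n, hn⟩ := Groth.Agent.Helper9.MVP11.ka_of_isPerfect A a X E hE E
    (Groth.Agent.Helper9.TP4.isQCohD_of_isPerfect E hE) (suppA_of_zeroOn A a E hEa) (𝟙 E)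
  obtain ⟨C₁, π, δ, hT⟩ := distinguished_cocone_triangle₁ ((a ^ n) • 𝟙 C)
  have h0 : c ≫ ((a ^ n) • 𝟙 C) = 0 := by
    rw [Linear.comp_smul, Category.comp_id]
    have : (a ^ n) • c = ((a ^ n) • 𝟙 E) ≫ c := by
      rw [Linear.smul_comp, Category.id_comp]
    rw [this, hn, zero_comp]
  obtain ⟨c₁, hc₁⟩ : ∃ c₁ : E ⟶ C₁, c = c₁ ≫ π := Triangle.coyoneda_exact₂ _ hT c h0
  refine ⟨C₁, π, c₁, (isPerfect_two_out_of_three _ hT).2.2 hC hC, hc₁.symm, ?_, ?_⟩
  · refine Groth.Agent.Helper9.KZ4.zeroOn_obj₁ _ hT (Da A X a) ?_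
    show IsIso ((DCoh.restrictD (Da A X a).ι).map ((a ^ n) • 𝟙 C))
    rw [Functor.map_smul, CategoryTheory.Functor.map_id]
    exact isIso_smul_id_Da A a n le_rfl _
  · intro W hW
    rw [zeroOn_iff_vanOn] at hW ⊢
    intro i
    have := vanOn_obj₁ _ hT W (i - 1) i (by omega) (hW (i - 1)) (hW i)
    exact this

/-- factorisation through a perfect object vanishing on `U` and supported where `E` is -/
theorem exists_factor_supp [CompactSpace X] [QuasiSeparatedSpace X] (as : List A) :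
    ∀ (vs : List A) (E : DCoh.D X), DCoh.IsPerfect E → ZeroOn E (UL A X vs) →
      ∀ (G : DCoh.D X), DCoh.IsQCohD G → ZeroOn G (UL A X as) → ∀ ω : E ⟶ G,
      ∃ (C : DCoh.D X) (c : E ⟶ C) (ω' : C ⟶ G), DCoh.IsPerfect C ∧ ZeroOn C (UL A X as) ∧
        ZeroOn C (UL A X vs) ∧ c ≫ ω' = ω := by
  intro vs
  induction vs with
  | nil =>
    intro E hE hEv G hG hz ω
    obtain ⟨C, c, ω', hC, hzC, hfac⟩ := exists_factor A as E hE G hG hz ω
    exact ⟨C, c, ω', hC, hzC, fun i x hx => (hx : x ∈ (⊥ : X.Opens)).elim, hfac⟩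
  | cons a l ih =>
    intro E hE hEv G hG hz ω
    have hEa : ZeroOn E (Da A X a) := hEv.mono le_sup_left
    have hEl : ZeroOn E (UL A X l) := hEv.mono le_sup_right
    obtain ⟨C, c, ω', hC, hzC, hzCl, hfac⟩ := ih E hE hEl G hG hz ω
    obtain ⟨C₁, π, c₁, hC₁, hc₁, hC₁a, hC₁W⟩ := exists_cut A a E hE hEa C hC c
    refine ⟨C₁, c₁, π ≫ ω', hC₁, hC₁W _ hzC, ?_, ?_⟩
    · show ZeroOn C₁ (Da A X a ⊔ UL A X l)
      exact ZeroOn.sup hC₁a (hC₁W _ hzCl)
    · rw [← Category.assoc, hc₁, hfac]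

/-- fibre form -/
theorem exists_perfect_iso_on_supp [CompactSpace X] [QuasiSeparatedSpace X] (as vs : List A)
    (E : DCoh.D X) (hE : DCoh.IsPerfect E) (hEv : ZeroOn E (UL A X vs))
    (G : DCoh.D X) (hG : DCoh.IsQCohD G)
    (hz : ZeroOn G (UL A X as)) (ω : E ⟶ G) :
    ∃ (E₁ : DCoh.D X) (β : E₁ ⟶ E), DCoh.IsPerfect E₁ ∧ ZeroOn E₁ (UL A X vs) ∧
      IsIso ((DCoh.restrictD (UL A X as).ι).map β) ∧ β ≫ ω = 0 := by
  obtain ⟨C, c, ω', hC, hzC, hzCv, hfac⟩ := exists_factor_supp A as vs E hE hEv G hG hz ω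
  obtain ⟨E₁, β, h, hT⟩ := Pretriangulated.distinguished_cocone_triangle₁ c
  refine ⟨E₁, β, (isPerfect_two_out_of_three _ hT).2.2 hE hC, ?_,
    isIso_restrict_mor₁ _ hT _ hzC, ?_⟩
  · rw [zeroOn_iff_vanOn] at hEv hzCv ⊢
    intro i
    exact vanOn_obj₁ _ hT _ (i - 1) i (by omega) (hzCv (i - 1)) (hEv i)
  · rw [← hfac, ← Category.assoc]
    have h0 : β ≫ c = 0 := comp_distTriang_mor_zero₁₂ _ hT
    rw [h0, zero_comp]

theorem lift_of_UL_supp [CompactSpace X] [QuasiSeparatedSpace X] (as vs : List A)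
    (hU : IsCompact (UL A X as : Set X)) (E E' : DCoh.D X) (hE : DCoh.IsPerfect E)
    (hEv : ZeroOn E (UL A X vs)) (hE' : DCoh.IsQCohD E')
    (α : (DCoh.restrictD (UL A X as).ι).obj E ⟶ (DCoh.restrictD (UL A X as).ι).obj E') :
    ∃ (E₁ : DCoh.D X) (β : E₁ ⟶ E) (γ : E₁ ⟶ E'), DCoh.IsPerfect E₁ ∧
      ZeroOn E₁ (UL A X vs) ∧
      IsIso ((DCoh.restrictD (UL A X as).ι).map β) ∧
      (DCoh.restrictD (UL A X as).ι).map β ≫ α = (DCoh.restrictD (UL A X as).ι).map γ := by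
  haveI : QuasiCompact (UL A X as).ι := quasiCompact_ι X _ hU
  haveI : DCoh.HasRpush (UL A X as).ι := Groth.Agent.Helper4.HasRD.hasRpush _
  let adj := Groth.Agent.Helper4.RjSuppGen.dAdj' (UL A X as).ι
  have hE'' : DCoh.IsQCohD ((DCoh.Rpush (UL A X as).ι).obj
      ((DCoh.restrictD (UL A X as).ι).obj E')) :=
    Groth.Agent.Helper9.QP7.isQCohD_Rpush (UL A X as).ι _
      (Groth.Agent.Helper9.QP7.isQCohD_restrictD (UL A X as).ι E' hE')
  obtain ⟨F₁, g, δ, hT⟩ := distinguished_cocone_triangle (adj.unit.app E')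
  have hF₁ : DCoh.IsQCohD F₁ :=
    Groth.Agent.Helper4.QcohWSerre.isQCohD_obj₃ _ hT hE' hE''
  have hz : ZeroOn F₁ (UL A X as) := zeroOn_obj₃ _ hT _
    (Groth.Agent.Helper4.RjSuppGen.isIso_restrict_unit_of_adj (UL A X as).ι adj E')
  obtain ⟨E₁, β, hE₁, hE₁v, hβ, hβω⟩ := exists_perfect_iso_on_supp A as vs E hE hEv F₁ hF₁ hz
    (adj.homEquiv _ _ α ≫ g)
  obtain ⟨γ, hγ⟩ : ∃ γ : E₁ ⟶ E', β ≫ adj.homEquiv _ _ α = γ ≫ adj.unit.app E' :=
    Triangle.coyoneda_exact₂ _ hT (β ≫ adj.homEquiv _ _ α)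
      ((Category.assoc _ _ _).trans hβω)
  refine ⟨E₁, β, γ, hE₁, hE₁v, hβ, ?_⟩
  apply (adj.homEquiv _ _).injective
  rw [Adjunction.homEquiv_naturality_left, hγ, Adjunction.homEquiv_unit]
  exact adj.unit.naturality γ

end Main

end Groth.Agent.Helper9.TT10
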