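import Mathlib
import Groth.Agent.Helper9.TT10

/-! Affine case with supports: retracts, lifting and extension of `F ⊞ F⟦1⟧`. -/

set_option autoImplicit false
set_option linter.style.haveILetI false
set_option linter.unusedVariables false
set_option linter.unusedSectionVars false
universe u

namespace Groth.Agent.Helper9.TT11

open CategoryTheory CategoryTheory.Limits AlgebraicGeometry Opposite TopologicalSpace
  Pretriangulated DerivedCategory ZeroObject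
open Groth.Agent.Helper4 Groth.Agent.Helper9.MVP13 Groth.Agent.Helper9.MVP3
  Groth.Agent.Helper9.MVP9 Groth.Agent.Helper9.MVP10 Groth.Agent.Helper9.MVP14
  Groth.Agent.Helper9.TT2 Groth.Agent.Helper9.TT6 Groth.Agent.Helper9.TT10
  Groth.Agent.Lead.PerfLib Groth.Agent.Lead.PcLib Scheme.Modules

attribute [local instance] HasDerivedCategory.standard

section Main

variable (A : Type u) [CommRing A] {X : Scheme.{u}} [X.Over (Spec (CommRingCat.of A))]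

/-- `F` on `U` vanishes on `U ∩ V` -/
def ZeroOnPre (U V : X.Opens) (F : DCoh.D (U : Scheme.{u})) : Prop :=
  ∀ (i : ℤ) (x : U), U.ι x ∈ V → x ∉ CohB1.support (DCoh.HD F i)

/-- cutting a retract -/
theorem exists_retract_cut [CompactSpace X] [QuasiSeparatedSpace X] (U : X.Opens)
    (hU : IsCompact (U : Set X)) (a : A)
    (F : DCoh.D (U : Scheme.{u})) (hF : DCoh.IsPerfect F) (hFa : ZeroOnPre U (Da A X a) F)
    (Y : DCoh.D X) (hY : DCoh.IsPerfect Y) (s : F ⟶ (DCoh.restrictD U.ι).obj Y)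
    (α : (DCoh.restrictD U.ι).obj Y ⟶ F) (hsα : s ≫ α = 𝟙 F) :
    ∃ (Y₁ : DCoh.D X) (s₁ : F ⟶ (DCoh.restrictD U.ι).obj Y₁)
      (α₁ : (DCoh.restrictD U.ι).obj Y₁ ⟶ F), DCoh.IsPerfect Y₁ ∧ s₁ ≫ α₁ = 𝟙 F ∧
      ZeroOn Y₁ (Da A X a) ∧ ∀ W : X.Opens, ZeroOn Y W → ZeroOn Y₁ W := by
  haveI : CompactSpace U := isCompact_iff_compactSpace.1 hU
  haveI : QuasiSeparatedSpace U := U.isOpenEmbedding'.quasiSeparatedSpace
  have hsuppA : SuppA A a U F := by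
    intro i x hx
    have e1 := Scheme.preimage_basicOpen_top U.ι (Coh.toGlobal (X ↘ Spec (CommRingCat.of A)) a)
    have e2 := toGlobal_eq U.ι a
    have hx2 : x ∈ U.ι ⁻¹ᵁ X.basicOpen (Coh.toGlobal (X ↘ Spec (CommRingCat.of A)) a) := by
      rw [e1, ← e2]
      exact hx
    exact not_not.1 (hFa i x hx2)
  obtain ⟨n, hn⟩ := Groth.Agent.Helper9.MVP11.ka_of_isPerfect A a (U : Scheme.{u}) F hF F
    (Groth.Agent.Helper9.TP4.isQCohD_of_isPerfect F hF) hsuppA (𝟙 F)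
  obtain ⟨Y₁, π, δ, hT⟩ := distinguished_cocone_triangle₁ ((a ^ n) • 𝟙 Y)
  have hT' := (DCoh.restrictD U.ι).map_distinguished _ hT
  have h0 : s ≫ (DCoh.restrictD U.ι).map ((a ^ n) • 𝟙 Y) = 0 := by
    rw [restrictD_map_smul, CategoryTheory.Functor.map_id, Linear.comp_smul, Category.comp_id]
    have : (a ^ n) • s = ((a ^ n) • 𝟙 F) ≫ s := by
      rw [Linear.smul_comp, Category.id_comp]
    rw [this, hn, zero_comp]
  obtain ⟨s₁, hs₁⟩ : ∃ s₁ : F ⟶ (DCoh.restrictD U.ι).obj Y₁, s = s₁ ≫ (DCoh.restrictD U.ι).map π :=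
    Triangle.coyoneda_exact₂ _ hT' s h0
  refine ⟨Y₁, s₁, (DCoh.restrictD U.ι).map π ≫ α, (isPerfect_two_out_of_three _ hT).2.2 hY hY,
    ?_, ?_, ?_⟩
  · rw [← Category.assoc, ← hs₁, hsα]
  · refine Groth.Agent.Helper9.KZ4.zeroOn_obj₁ _ hT (Da A X a) ?_
    show IsIso ((DCoh.restrictD (Da A X a).ι).map ((a ^ n) • 𝟙 Y))
    rw [Functor.map_smul, CategoryTheory.Functor.map_id]
    exact isIso_smul_id_Da A a n le_rfl _
  · intro W hW
    rw [zeroOn_iff_vanOn] at hW ⊢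
    intro i
    exact vanOn_obj₁ _ hT W (i - 1) i (by omega) (hW (i - 1)) (hW i)

theorem exists_retract_supp_of_retract [CompactSpace X] [QuasiSeparatedSpace X] (U : X.Opens)
    (hU : IsCompact (U : Set X)) (F : DCoh.D (U : Scheme.{u})) (hF : DCoh.IsPerfect F) :
    ∀ (vs : List A), ZeroOnPre U (UL A X vs) F →
      ∀ (Y : DCoh.D X), DCoh.IsPerfect Y → ∀ (s : F ⟶ (DCoh.restrictD U.ι).obj Y)
      (α : (DCoh.restrictD U.ι).obj Y ⟶ F), s ≫ α = 𝟙 F →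
    ∃ (Y₁ : DCoh.D X) (s₁ : F ⟶ (DCoh.restrictD U.ι).obj Y₁)
      (α₁ : (DCoh.restrictD U.ι).obj Y₁ ⟶ F), DCoh.IsPerfect Y₁ ∧ s₁ ≫ α₁ = 𝟙 F ∧
      ZeroOn Y₁ (UL A X vs) := by
  intro vs
  induction vs with
  | nil =>
    intro _ Y hY s α hsα
    exact ⟨Y, s, α, hY, hsα, fun i x hx => (hx : x ∈ (⊥ : X.Opens)).elim⟩
  | cons a l ih =>
    intro hFv Y hY s α hsα
    have hFa : ZeroOnPre U (Da A X a) F := fun i x hx => hFv i x (Or.inl hx)
    have hFl : ZeroOnPre U (UL A X l) F := fun i x hx => hFv i x (Or.inr hx)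
    obtain ⟨Y₁, s₁, α₁, hY₁, hsα₁, hz₁⟩ := ih hFl Y hY s α hsα
    obtain ⟨Y₂, s₂, α₂, hY₂, hsα₂, hz₂a, hz₂W⟩ :=
      exists_retract_cut A U hU a F hF hFa Y₁ hY₁ s₁ α₁ hsα₁
    exact ⟨Y₂, s₂, α₂, hY₂, hsα₂, ZeroOn.sup hz₂a (hz₂W _ hz₁)⟩

end Main

section Affine

/-- affine case: retract supported on `T` -/
theorem exists_retract_supp (X : Scheme.{u}) [IsAffine X] (U V : X.Opens)
    (hU : IsCompact (U : Set X)) (hV : IsCompact (V : Set X))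
    (F : DCoh.D (U : Scheme.{u})) (hF : DCoh.IsPerfect F)
    (hFV : ∀ (i : ℤ) (x : U), U.ι x ∈ V → x ∉ CohB1.support (DCoh.HD F i)) :
    ∃ (Y : DCoh.D X) (s : F ⟶ (DCoh.restrictD U.ι).obj Y) (α : (DCoh.restrictD U.ι).obj Y ⟶ F),
      DCoh.IsPerfect Y ∧ s ≫ α = 𝟙 F ∧ ZeroOn Y V := by
  letI := overΓ X
  obtain ⟨vs, rfl⟩ := exists_list_UL X V hV
  obtain ⟨Y, s, α, hY, hsα⟩ := Groth.Agent.Helper9.TT9.exists_retract X U hU F hF
  exact exists_retract_supp_of_retract Γ(X, ⊤) U hU F hF vs hFV Y hY s α hsα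

/-- affine case: `F ⊞ F⟦1⟧` extends with supports -/
theorem exists_extension_supp (X : Scheme.{u}) [IsAffine X] (U V : X.Opens)
    (hU : IsCompact (U : Set X)) (hV : IsCompact (V : Set X))
    (F : DCoh.D (U : Scheme.{u})) (hF : DCoh.IsPerfect F)
    (hFV : ∀ (i : ℤ) (x : U), U.ι x ∈ V → x ∉ CohB1.support (DCoh.HD F i))
    [HasBinaryBiproduct F (F⟦(1 : ℤ)⟧)] :
    ∃ G : DCoh.D X, DCoh.IsPerfect G ∧ ZeroOn G V ∧
      Nonempty ((DCoh.restrictD U.ι).obj G ≅ F ⊞ F⟦(1 : ℤ)⟧) := by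
  obtain ⟨Y, s, α, hY, hsα, hYV⟩ := exists_retract_supp X U V hU hV F hF hFV
  letI := overΓ X
  obtain ⟨as, has⟩ := exists_list_UL X U hU
  obtain ⟨vs, hvs⟩ := exists_list_UL X V hV
  subst has
  subst hvs
  obtain ⟨E₁, β, γ, hE₁, hE₁V, hβ, hβγ⟩ := lift_of_UL_supp Γ(X, ⊤) as vs hU Y Y hY hYV
    (Groth.Agent.Helper9.TP4.isQCohD_of_isPerfect Y hY) (𝟙 _ - α ≫ s)
  obtain ⟨G, g, h, hT⟩ := distinguished_cocone_triangle γ
  refine ⟨G, isPerfect_obj₃ _ hT hE₁ hY, ?_, ?_⟩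
  · rw [zeroOn_iff_vanOn] at hE₁V hYV ⊢
    intro i
    exact vanOn_obj₃ _ hT _ i (i + 1) rfl (hYV i) (hE₁V (i + 1))
  · have hT' := (DCoh.restrictD (UL Γ(X, ⊤) X as).ι).map_distinguished _ hT
    haveI := hβ
    exact Groth.Agent.Helper9.TT8.nonempty_iso_biprod' s α hsα
      ((DCoh.restrictD (UL Γ(X, ⊤) X as).ι).map β)
      ((DCoh.restrictD (UL Γ(X, ⊤) X as).ι).map γ) hβγ _ _ hT'

end Affine

end Groth.Agent.Helper9.TT11
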