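import Mathlib
import Groth.Prelude.Def_CxOX
import Groth.Agent.Helper9.GL1
import Groth.Agent.Helper9.GL3
import Groth.Agent.Helper9.TT11

/-! Locality of perfectness and of supports; the one-step extension lemma: a map from a perfect
object on `U` to `E|_U` extends, after adding `P⟦1⟧`, over `X = U ∪ V` with `V` affine. -/

set_option autoImplicit false
set_option linter.style.haveILetI false
set_option linter.unusedVariables false
set_option linter.unusedSectionVars false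
universe u

namespace Groth.Agent.Helper9.GL4

open CategoryTheory CategoryTheory.Limits AlgebraicGeometry Opposite TopologicalSpace
  Pretriangulated DerivedCategory ZeroObject
open Groth.Agent.Helper4 Groth.Agent.Helper9.MVP13 Groth.Agent.Helper9.MVP3
  Groth.Agent.Helper9.MVP14
  Groth.Agent.Helper9.TT2 Groth.Agent.Helper9.TT6 Groth.Agent.Helper9.TT10
  Groth.Agent.Helper9.TT11
  Groth.Agent.Lead.PerfLib Groth.Agent.Lead.PcLib Scheme.Modules
open Groth.Agent.Helper9.RH2 Groth.Agent.Helper9.SkyMod4 Groth.Agent.Helper9.SkyMod5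

attribute [local instance] HasDerivedCategory.standard

section Pointwise

variable {X : Scheme.{u}} (T : Triangle (DCoh.D X)) (hT : T ∈ distTriang _) (x : X)

include hT in
lemma notMem_supp_obj₂ (i : ℤ) (h₁ : x ∉ CohB1.support (DCoh.HD T.obj₁ i))
    (h₃ : x ∉ CohB1.support (DCoh.HD T.obj₃ i)) : x ∉ CohB1.support (DCoh.HD T.obj₂ i) := by
  rw [← isZero_St_iff] at h₁ h₃ ⊢
  exact ((HomologySequence.exact₂ _ hT i).map (St x)).isZero_of_both_zeros
    (h₁.eq_of_src _ _) (h₃.eq_of_tgt _ _)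

include hT in
lemma notMem_supp_obj₃ (i j : ℤ) (hij : i + 1 = j)
    (h₂ : x ∉ CohB1.support (DCoh.HD T.obj₂ i))
    (h₁ : x ∉ CohB1.support (DCoh.HD T.obj₁ j)) : x ∉ CohB1.support (DCoh.HD T.obj₃ i) := by
  rw [← isZero_St_iff] at h₁ h₂ ⊢
  exact ((HomologySequence.exact₃ _ hT i j hij).map (St x)).isZero_of_both_zeros
    (h₂.eq_of_src _ _) (h₁.eq_of_tgt _ _)

include hT in
lemma notMem_supp_obj₁ (i j : ℤ) (hij : i + 1 = j)
    (h₃ : x ∉ CohB1.support (DCoh.HD T.obj₃ i))
    (h₂ : x ∉ CohB1.support (DCoh.HD T.obj₂ j)) : x ∉ CohB1.support (DCoh.HD T.obj₁ j) := by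
  rw [← isZero_St_iff] at h₃ h₂ ⊢
  exact ((HomologySequence.exact₁ _ hT i j hij).map (St x)).isZero_of_both_zeros
    (h₃.eq_of_src _ _) (h₂.eq_of_tgt _ _)

end Pointwise

section Local

variable {X U V : Scheme.{u}} (u : U ⟶ X) [IsOpenImmersion u] (v : V ⟶ X) [IsOpenImmersion v]

lemma mem_supp_restrictD_iff (E : DCoh.D X) (i : ℤ) (y : U) :
    y ∈ CohB1.support (DCoh.HD ((DCoh.restrictD u).obj E) i) ↔
      u y ∈ CohB1.support (DCoh.HD E i) := by
  rw [SuppLib.support_HD_restrictD]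
  rfl

lemma mem_supp_iff_of_iso {E E' : DCoh.D X} (e : E ≅ E') (i : ℤ) (x : X) :
    x ∈ CohB1.support (DCoh.HD E i) ↔ x ∈ CohB1.support (DCoh.HD E' i) := by
  rw [ExtZeroStalk.support_eq_of_iso ((DerivedCategory.homologyFunctor X.Modules i).mapIso e)]

/-- perfectness is local for a cover by two open immersions -/
theorem isPerfect_of_cover (hcov : ∀ x : X, x ∈ Set.range u ∨ x ∈ Set.range v)
    (K : DCoh.D X) (hu : DCoh.IsPerfect ((DCoh.restrictD u).obj K))
    (hv : DCoh.IsPerfect ((DCoh.restrictD v).obj K)) : DCoh.IsPerfect K := by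
  let F₀ : CochainComplex X.Modules ℤ := Q.objPreimage K
  let e₀ : Q.obj F₀ ≅ K := Q.objObjPreimageIso K
  refine (isPerfect_iff_locSP K F₀ e₀).2 (fun x => ?_)
  rcases hcov x with ⟨y, rfl⟩ | ⟨y, rfl⟩
  · let e₁ : Q.obj ((Rc u).obj F₀) ≅ (DCoh.restrictD u).obj K :=
      ((restrictFunctor u).mapDerivedCategoryFactors.app F₀).symm ≪≫ (DCoh.restrictD u).mapIso e₀
    exact LocSP.of_restrict u ((isPerfect_iff_locSP _ ((Rc u).obj F₀) e₁).1 hu y)
  · let e₁ : Q.obj ((Rc v).obj F₀) ≅ (DCoh.restrictD v).obj K :=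
      ((restrictFunctor v).mapDerivedCategoryFactors.app F₀).symm ≪≫ (DCoh.restrictD v).mapIso e₀
    exact LocSP.of_restrict v ((isPerfect_iff_locSP _ ((Rc v).obj F₀) e₁).1 hv y)

end Local

/-- lifting a map defined over a quasi-compact open of an affine scheme, with supports -/
theorem lift_affine_supp (X : Scheme.{u}) [IsAffine X] (U V : X.Opens)
    (hU : IsCompact (U : Set X)) (hV : IsCompact (V : Set X))
    (E E' : DCoh.D X) (hE : DCoh.IsPerfect E) (hEv : ZeroOn E V) (hE' : DCoh.IsQCohD E')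
    (α : (DCoh.restrictD U.ι).obj E ⟶ (DCoh.restrictD U.ι).obj E') :
    ∃ (E₁ : DCoh.D X) (β : E₁ ⟶ E) (γ : E₁ ⟶ E'), DCoh.IsPerfect E₁ ∧ ZeroOn E₁ V ∧
      IsIso ((DCoh.restrictD U.ι).map β) ∧
      (DCoh.restrictD U.ι).map β ≫ α = (DCoh.restrictD U.ι).map γ := by
  letI := overΓ X
  obtain ⟨as, has⟩ := exists_list_UL X U hU
  obtain ⟨vs, hvs⟩ := exists_list_UL X V hV
  subst has
  subst hvs
  exact lift_of_UL_supp Γ(X, ⊤) as vs hU E E' hE hEv hE' α

end Groth.Agent.Helper9.GL4
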