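import Mathlib
import Groth.Prelude.Def_CxOX
import Groth.Agent.Helper9.GL4

/-! Gluing morphisms in `D(O_X)` along two open immersions; extending morphisms from an open
under an orthogonality hypothesis. -/

set_option autoImplicit false
set_option linter.style.haveILetI false
set_option linter.unusedVariables false
set_option linter.unusedSectionVars false
universe u

namespace Groth.Agent.Helper9.GL10

open CategoryTheory CategoryTheory.Limits AlgebraicGeometry Opposite TopologicalSpace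
  Pretriangulated DerivedCategory ZeroObject
open Groth.Agent.Helper4 Groth.Agent.Helper9.GL4
open Groth.Agent.Helper9.RH2

attribute [local instance] HasDerivedCategory.standard

lemma mem_supp_shift_iff {X : Scheme.{u}} (E : DCoh.D X) (n i : ℤ) (x : X) :
    x ∈ CohB1.support (DCoh.HD (E⟦n⟧) i) ↔ x ∈ CohB1.support (DCoh.HD E (n + i)) := by
  have e := Groth.Agent.Helper9.Amp1.homologyShiftIso E n i
  rw [ExtZeroStalk.support_eq_of_iso e]

section Cover

variable {X U V : Scheme.{u}} (u : U ⟶ X) [IsOpenImmersion u] (v : V ⟶ X) [IsOpenImmersion v]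

theorem isZero_of_cover (hcov : ∀ x : X, x ∈ Set.range u ∨ x ∈ Set.range v) (C : DCoh.D X)
    (hu : IsZero ((DCoh.restrictD u).obj C)) (hv : IsZero ((DCoh.restrictD v).obj C)) :
    IsZero C := by
  rw [SuppLib.isZero_restrictD_iff] at hu hv
  apply SuppLib.isZero_of_HD
  intro i
  apply SuppLib.isZero_of_support
  ext x
  simp only [Set.mem_empty_iff_false, iff_false]
  rcases hcov x with ⟨y, rfl⟩ | ⟨y, rfl⟩
  · exact hu i y
  · exact hv i y

theorem isIso_of_cover (hcov : ∀ x : X, x ∈ Set.range u ∨ x ∈ Set.range v) {E F : DCoh.D X}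
    (φ : E ⟶ F) (hu : IsIso ((DCoh.restrictD u).map φ)) (hv : IsIso ((DCoh.restrictD v).map φ)) :
    IsIso φ := by
  obtain ⟨C, g, k, hT⟩ := distinguished_cocone_triangle φ
  refine (Triangle.isZero₃_iff_isIso₁ _ hT).1 ?_
  show IsZero C
  apply isZero_of_cover u v hcov
  · exact (Triangle.isZero₃_iff_isIso₁ _ ((DCoh.restrictD u).map_distinguished _ hT)).2 hu
  · exact (Triangle.isZero₃_iff_isIso₁ _ ((DCoh.restrictD v).map_distinguished _ hT)).2 hv

end Cover

section GlueMaps

variable {X U V W : Scheme.{u}} (u : U ⟶ X) [IsOpenImmersion u] (v : V ⟶ X) [IsOpenImmersion v]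
  (a : W ⟶ U) [IsOpenImmersion a] (b : W ⟶ V) [IsOpenImmersion b]
  (w : W ⟶ X) [IsOpenImmersion w]
  (ca : DCoh.restrictD u ⋙ DCoh.restrictD a ≅ DCoh.restrictD w)
  (cb : DCoh.restrictD v ⋙ DCoh.restrictD b ≅ DCoh.restrictD w)

include ca cb in
/-- morphisms given over `U` and `V` and agreeing over `W` glue (non-uniquely) -/
theorem glue_maps (hwu : Set.range w ⊆ Set.range u) (hwv : Set.range w ⊆ Set.range v)
    (huv : Set.range u ∩ Set.range v ⊆ Set.range w)
    (hcov : ∀ x : X, x ∈ Set.range u ∨ x ∈ Set.range v)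
    (A E : DCoh.D X) (xU : (DCoh.restrictD u).obj A ⟶ (DCoh.restrictD u).obj E)
    (xV : (DCoh.restrictD v).obj A ⟶ (DCoh.restrictD v).obj E)
    (hx : ca.inv.app A ≫ (DCoh.restrictD a).map xU ≫ ca.hom.app E =
      cb.inv.app A ≫ (DCoh.restrictD b).map xV ≫ cb.hom.app E) :
    ∃ β : A ⟶ E, (DCoh.restrictD u).map β = xU ∧ (DCoh.restrictD v).map β = xV := by
  let θ : (DCoh.restrictD a).obj ((DCoh.restrictD u).obj A) ≅
      (DCoh.restrictD b).obj ((DCoh.restrictD v).obj A) := ca.app A ≪≫ (cb.app A).symm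
  obtain ⟨R, φU, φV, hR⟩ := Groth.Agent.Helper9.GL3.glue u v a b w ca cb hwu hwv huv
    ((DCoh.restrictD u).obj A) ((DCoh.restrictD v).obj A) θ
  obtain ⟨β₀, h1, h2⟩ := hR A (𝟙 _) (𝟙 _) (by
    dsimp only [θ]
    simp only [CategoryTheory.Functor.map_id, Category.id_comp, Iso.trans_hom, Iso.app_hom,
      Iso.symm_hom, Iso.app_inv, Category.assoc, Iso.inv_hom_id_app, Category.comp_id])
  haveI hiU : IsIso ((DCoh.restrictD u).map β₀) := by
    have : (DCoh.restrictD u).map β₀ = φU.inv := by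
      rw [← cancel_epi φU.hom, h1, Iso.hom_inv_id]
    rw [this]; infer_instance
  haveI hiV : IsIso ((DCoh.restrictD v).map β₀) := by
    have : (DCoh.restrictD v).map β₀ = φV.inv := by
      rw [← cancel_epi φV.hom, h2, Iso.hom_inv_id]
    rw [this]; infer_instance
  haveI : IsIso β₀ := isIso_of_cover u v hcov β₀ hiU hiV
  obtain ⟨β, h3, h4⟩ := hR E xU xV (by
    dsimp only [θ]
    simp only [Iso.trans_hom, Iso.app_hom, Iso.symm_hom, Iso.app_inv, Category.assoc]
    rw [← hx, Iso.hom_inv_id_app_assoc])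
  refine ⟨inv β₀ ≫ β, ?_, ?_⟩
  · rw [Functor.map_comp, Functor.map_inv, ← h3, IsIso.inv_eq_of_inv_hom_id h1]
  · rw [Functor.map_comp, Functor.map_inv, ← h4, IsIso.inv_eq_of_inv_hom_id h2]

end GlueMaps

section Extend

variable {V W : Scheme.{u}} (b : W ⟶ V) [IsOpenImmersion b]

/-- if `F` is right orthogonal to the objects vanishing on `b(W)` and wherever `B` vanishes,
then morphisms `B|_W ⟶ F|_W` extend to `B ⟶ F` -/
theorem exists_extension_of_orth (B F : DCoh.D V)
    (horth : ∀ C : DCoh.D V,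
      (∀ x : V, (x ∈ Set.range b ∨ ∀ i : ℤ, x ∉ CohB1.support (DCoh.HD B i)) →
        ∀ i : ℤ, x ∉ CohB1.support (DCoh.HD C i)) → ∀ ψ : C ⟶ F, ψ = 0)
    (ξ : (DCoh.restrictD b).obj B ⟶ (DCoh.restrictD b).obj F) :
    ∃ ψ : B ⟶ F, (DCoh.restrictD b).map ψ = ξ := by
  let ε := (shAdj b).counit.app B
  obtain ⟨C₀, g, h, hT⟩ := distinguished_cocone_triangle ε
  have hC₀ : ∀ x : V, (x ∈ Set.range b ∨ ∀ i : ℤ, x ∉ CohB1.support (DCoh.HD B i)) →
      ∀ i : ℤ, x ∉ CohB1.support (DCoh.HD C₀ i) := by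
    rintro x (⟨y, rfl⟩ | hx) i
    · have hz : IsZero ((DCoh.restrictD b).obj C₀) :=
        (Triangle.isZero₃_iff_isIso₁ _ ((DCoh.restrictD b).map_distinguished _ hT)).2
          (isIso_restrict_counit b B)
      rw [SuppLib.isZero_restrictD_iff] at hz
      exact hz i y
    · refine notMem_supp_obj₃ _ hT x i (i + 1) rfl (hx i) ?_
      intro hxs
      obtain ⟨y, hy, hyx⟩ := ExtZeroStalk.support_HD_extZeroD_subset b _ (i + 1) hxs
      have hyx' : b y = x := hyx
      have := (mem_supp_restrictD_iff b B (i + 1) y).1 hy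
      rw [hyx'] at this
      exact hx (i + 1) this
  have hT' := inv_rot_of_distTriang _ hT
  let f : (CxOX.extZeroD b).obj ((DCoh.restrictD b).obj B) ⟶ F :=
    ((shAdj b).homEquiv _ _).symm ξ
  have hf0 : (Triangle.mk ε g h).invRotate.mor₁ ≫ f = 0 := by
    apply horth
    intro x hx i hxs
    have h1 : x ∈ CohB1.support (DCoh.HD (C₀⟦(-1 : ℤ)⟧) i) := hxs
    rw [mem_supp_shift_iff] at h1
    exact hC₀ x hx _ h1
  obtain ⟨(ψ : B ⟶ F), (hψ : f = ε ≫ ψ)⟩ := Triangle.yoneda_exact₂ _ hT' f hf0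
  refine ⟨ψ, ?_⟩
  have h2 : ε ≫ ψ = ((shAdj b).homEquiv _ _).symm ((DCoh.restrictD b).map ψ) := by
    rw [Adjunction.homEquiv_counit]
    exact ((shAdj b).counit.naturality ψ).symm
  have h3 : ((shAdj b).homEquiv _ _).symm ξ =
      ((shAdj b).homEquiv _ _).symm ((DCoh.restrictD b).map ψ) := hψ.trans h2
  exact (((shAdj b).homEquiv _ _).symm.injective h3).symm

end Extend

end Groth.Agent.Helper9.GL10
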