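import Mathlib
import Groth.Prelude.Def_CxOX
import Groth.Agent.Helper9.GL10
import Groth.Agent.Helper9.TT7

/-! Koszul objects on affine schemes and right orthogonality. -/

set_option autoImplicit false
set_option linter.style.haveILetI false
set_option linter.unusedVariables false
set_option linter.unusedSectionVars false
universe u

namespace Groth.Agent.Helper9.GL11

open CategoryTheory CategoryTheory.Limits AlgebraicGeometry Opposite TopologicalSpace
  Pretriangulated DerivedCategory ZeroObject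
open Groth.Agent.Helper4 Groth.Agent.Helper9.MVP13
  Groth.Agent.Helper9.KZ2 Groth.Agent.Helper9.KZ3 Groth.Agent.Helper9.KZ4 Groth.Agent.Helper9.TT2
  Groth.Agent.Helper9.TT6 Groth.Agent.Helper9.TT7
  Groth.Agent.Lead.PerfLib Groth.Agent.Lead.PcLib Scheme.Modules

attribute [local instance] HasDerivedCategory.standard
attribute [local instance] Groth.Agent.Helper9.KZ1.overSelf

/-- on `Spec R`: objects right orthogonal to the shifts of the Koszul object are right
orthogonal to everything vanishing on the punctured open -/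
theorem orth_spec (R : CommRingCat.{u}) [PreservesFiniteLimits (tilde.functor R)] (fs : List R)
    (E : DCoh.D (Spec (CommRingCat.of R))) (hE : DCoh.IsQCohD E)
    (h : ∀ (n : ℤ) (φ : (Kt R fs)⟦n⟧ ⟶ E), φ = 0)
    (C : DCoh.D (Spec (CommRingCat.of R))) (hC : ZeroOn C (PU R fs)) (ψ : C ⟶ E) : ψ = 0 := by
  haveI : DCoh.HasRpush (PU R fs).ι := Groth.Agent.Helper4.HasRD.hasRpush _
  obtain ⟨M, -, ⟨e⟩⟩ := (orthogonal_iff R fs E hE).2 h
  let adj' := Groth.Agent.Helper4.RjSuppGen.dAdj' (PU R fs).ι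
  haveI : (DCoh.Rpush (PU R fs).ι).Additive := adj'.right_adjoint_additive
  have h1 : ψ ≫ e.hom = 0 := by
    apply adj_hom_eq_zero' adj'
    exact ((zeroOn_iff _ _).1 hC).eq_of_src _ _
  rw [← cancel_mono e.hom, h1, zero_comp]

/-- Koszul objects on affine schemes -/
theorem exists_koszul (Y : Scheme.{u}) [IsAffine Y] (W' : Y.Opens) (fs : List Γ(Y, ⊤))
    (hW' : ∀ x : Y, x ∈ W' ↔ ∃ f ∈ fs, x ∈ Y.basicOpen f) :
    ∃ K : DCoh.D Y, DCoh.IsPerfect K ∧ ZeroOn K W' ∧
      ∀ F : DCoh.D Y, DCoh.IsQCohD F → (∀ (n : ℤ) (φ : K⟦n⟧ ⟶ F), φ = 0) →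
        ∀ C : DCoh.D Y, ZeroOn C W' → ∀ ψ : C ⟶ F, ψ = 0 := by
  let R : CommRingCat.{u} := Γ(Y, ⊤)
  haveI : PreservesFiniteLimits (tilde.functor R) :=
    Groth.Agent.Helper4.TildeExact.preservesFiniteLimits_tilde _
  let e : Y ≅ Spec (CommRingCat.of R) := Y.isoSpec
  have hinvhom : ∀ x : Y, e.inv (e.hom x) = x := fun x => by
    rw [← Scheme.Hom.comp_apply, e.hom_inv_id]; rfl
  have hhominv : ∀ y : Spec (CommRingCat.of R), e.hom (e.inv y) = y := fun y => by
    rw [← Scheme.Hom.comp_apply, e.inv_hom_id]; rfl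
  have hmemPU : ∀ y : Spec (CommRingCat.of R), y ∈ PU R fs ↔ e.inv y ∈ W' := by
    intro y
    have h1 : y ∈ PU R fs ↔ ∃ a ∈ {a | a ∈ fs}, a ∉ (y : PrimeSpectrum R).asIdeal :=
      Groth.Agent.Helper9.KZ1.mem_compl_zeroLocus_span R {a | a ∈ fs} y
    rw [h1, hW']
    constructor
    · rintro ⟨a, ha, hay⟩
      refine ⟨a, ha, (mem_basicOpen_iff Y a _).2 ?_⟩
      show a ∉ (e.hom (e.inv y) : PrimeSpectrum R).asIdeal
      rw [hhominv]
      exact hay
    · rintro ⟨a, ha, hay⟩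
      refine ⟨a, ha, ?_⟩
      have h2 := (mem_basicOpen_iff Y a _).1 hay
      have h3 : a ∉ (e.hom (e.inv y) : PrimeSpectrum R).asIdeal := h2
      rwa [hhominv] at h3
  let Φ := DCoh.restrictD e.hom
  let Ψ := DCoh.restrictD e.inv
  obtain ⟨hΦfull, hΦfaith⟩ := Groth.Agent.Helper4.AffKD.full_faithful_restrictD e.hom
  obtain ⟨hΨfull, hΨfaith⟩ := Groth.Agent.Helper4.AffKD.full_faithful_restrictD e.inv
  refine ⟨Φ.obj (Kt R fs), Groth.Agent.Helper9.MVP12.isPerfect_restrictD e.hom _ (isPerfect_Kt R fs),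
    ?_, ?_⟩
  · intro i x hx
    rw [SuppLib.support_HD_restrictD]
    refine zeroOn_Kt_PU R fs i (e.hom x) ((hmemPU _).2 ?_)
    rw [hinvhom]
    exact hx
  · intro F hF h C hC ψ
    obtain ⟨ι⟩ := nonempty_restrictD_hom_inv_iso e F
    have h1 : ∀ (n : ℤ) (φ : (Kt R fs)⟦n⟧ ⟶ Ψ.obj F), φ = 0 := by
      intro n φ
      have h2 : (Φ.commShiftIso n).inv.app (Kt R fs) ≫ Φ.map φ ≫ ι.hom = 0 := h n _
      have h3 : Φ.map φ = 0 := by
        have h4 : Φ.map φ ≫ ι.hom = 0 := by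
          have := congrArg (fun t => (Φ.commShiftIso n).hom.app (Kt R fs) ≫ t) h2
          simpa using this
        rw [← cancel_mono ι.hom, h4, zero_comp]
      haveI := hΦfaith
      exact Φ.map_injective (h3.trans (Φ.map_zero _ _).symm)
    have hCS : ZeroOn (Ψ.obj C) (PU R fs) := by
      intro i y hy
      rw [SuppLib.support_HD_restrictD]
      exact hC i _ ((hmemPU y).1 hy)
    have h5 : Ψ.map ψ = 0 := orth_spec R fs (Ψ.obj F)
      (Groth.Agent.Helper9.QP7.isQCohD_restrictD e.inv F hF) h1 (Ψ.obj C) hCS (Ψ.map ψ)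
    haveI := hΨfaith
    exact Ψ.map_injective (h5.trans (Ψ.map_zero _ _).symm)

end Groth.Agent.Helper9.GL11
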