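import Mathlib
import Groth.Prelude.Def_CxOX
import Groth.Agent.Helper9.GL4

/-! The one-step extension lemma. -/

set_option autoImplicit false
set_option linter.style.haveILetI false
set_option linter.unusedVariables false
set_option linter.unusedSectionVars false
universe u

namespace Groth.Agent.Helper9.GL5

open CategoryTheory CategoryTheory.Limits AlgebraicGeometry Opposite TopologicalSpace
  Pretriangulated DerivedCategory ZeroObject
open Groth.Agent.Helper4 Groth.Agent.Helper9.MVP13 Groth.Agent.Helper9.MVP3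
  Groth.Agent.Helper9.TT2 Groth.Agent.Helper9.TT6 Groth.Agent.Helper9.TT10
  Groth.Agent.Helper9.TT11 Groth.Agent.Helper9.GL4
  Groth.Agent.Lead.PerfLib Groth.Agent.Lead.PcLib Scheme.Modules

attribute [local instance] HasDerivedCategory.standard

/-- restriction commutes with `P ⊞ P⟦1⟧` -/
theorem nonempty_restrict_biprod_iso {U W : Scheme.{u}} (a : W ⟶ U) [IsOpenImmersion a]
    (P : DCoh.D U) :
    Nonempty ((DCoh.restrictD a).obj (P ⊞ P⟦(1 : ℤ)⟧) ≅
      (DCoh.restrictD a).obj P ⊞ ((DCoh.restrictD a).obj P)⟦(1 : ℤ)⟧) := by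
  haveI : PreservesBinaryBiproducts (DCoh.restrictD a) :=
    preservesBinaryBiproducts_of_preservesBiproducts _
  exact ⟨(DCoh.restrictD a).mapBiprod P (P⟦(1 : ℤ)⟧) ≪≫
    biprod.mapIso (Iso.refl _) (((DCoh.restrictD a).commShiftIso (1 : ℤ)).app P)⟩

/-- the one-step extension lemma -/
theorem one_step {X U : Scheme.{u}} (u : U ⟶ X) [IsOpenImmersion u] (V : X.Opens)
    (hV : IsAffineOpen V) (hcov : ∀ x : X, x ∈ Set.range u ∨ x ∈ V) (Vt : X.Opens)
    (hW : IsCompact ((V.ι ⁻¹ᵁ u.opensRange : (V : Scheme.{u}).Opens) : Set (V : Scheme.{u})))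
    (hVt : IsCompact ((V.ι ⁻¹ᵁ Vt : (V : Scheme.{u}).Opens) : Set (V : Scheme.{u})))
    (E : DCoh.D X) (hE : DCoh.IsQCohD E)
    (P : DCoh.D U) (hP : DCoh.IsPerfect P)
    (hPz : ∀ (i : ℤ) (y : U), u y ∈ Vt → y ∉ CohB1.support (DCoh.HD P i))
    (α : P ⟶ (DCoh.restrictD u).obj E) :
    ∃ (R : DCoh.D X) (β : R ⟶ E) (φ : P ⊞ P⟦(1 : ℤ)⟧ ≅ (DCoh.restrictD u).obj R),
      DCoh.IsPerfect R ∧ ZeroOn R Vt ∧
      φ.hom ≫ (DCoh.restrictD u).map β = biprod.desc α 0 := by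
  haveI : IsAffine (V : Scheme.{u}) := hV
  let W₀ : (V : Scheme.{u}).Opens := V.ι ⁻¹ᵁ u.opensRange
  let Vt' : (V : Scheme.{u}).Opens := V.ι ⁻¹ᵁ Vt
  let b : (W₀ : Scheme.{u}) ⟶ (V : Scheme.{u}) := W₀.ι
  let v : (V : Scheme.{u}) ⟶ X := V.ι
  let w : (W₀ : Scheme.{u}) ⟶ X := b ≫ v
  have hwu : Set.range w ⊆ Set.range u := by
    rintro _ ⟨x, rfl⟩
    have : V.ι (W₀.ι x) ∈ u.opensRange := x.2
    exact this
  have hwv : Set.range w ⊆ Set.range v := by
    rintro _ ⟨x, rfl⟩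
    exact ⟨b x, rfl⟩
  have huv : Set.range u ∩ Set.range v ⊆ Set.range w := by
    rintro _ ⟨hxu, ⟨z, rfl⟩⟩
    exact ⟨⟨z, hxu⟩, rfl⟩
  let a : (W₀ : Scheme.{u}) ⟶ U := IsOpenImmersion.lift u w hwu
  have haw : a ≫ u = w := IsOpenImmersion.lift_fac _ _ _
  haveI : IsOpenImmersion (a ≫ u) := by rw [haw]; infer_instance
  haveI : IsOpenImmersion a := IsOpenImmersion.of_comp a u
  let ca := Groth.Agent.Helper9.GL1.restrictDComp u a w haw.symm
  let cb := Groth.Agent.Helper9.GL1.restrictDComp v b w rfl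
  let F := (DCoh.restrictD a).obj P
  have hF : DCoh.IsPerfect F := Groth.Agent.Helper9.MVP12.isPerfect_restrictD a P hP
  have hFV : ∀ (i : ℤ) (x : W₀), W₀.ι x ∈ Vt' → x ∉ CohB1.support (DCoh.HD F i) := by
    intro i x hx hxs
    have hxs' := (mem_supp_restrictD_iff a P i x).1 hxs
    refine hPz i (a x) ?_ hxs'
    have h1 : u (a x) = w x :=
      congrArg (fun f : (W₀ : Scheme.{u}) ⟶ X => f x) haw
    have h2 : w x ∈ Vt := hx
    rw [← h1] at h2
    exact h2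
  obtain ⟨G, hG, hGV, ⟨ψ⟩⟩ := exists_extension_supp (V : Scheme.{u}) W₀ Vt' hW hVt F hF hFV
  obtain ⟨κ⟩ := nonempty_restrict_biprod_iso a P
  let xU : P ⊞ P⟦(1 : ℤ)⟧ ⟶ (DCoh.restrictD u).obj E := biprod.desc α 0
  let α' : (DCoh.restrictD b).obj G ⟶ (DCoh.restrictD b).obj ((DCoh.restrictD v).obj E) :=
    ψ.hom ≫ κ.inv ≫ (DCoh.restrictD a).map xU ≫ ca.hom.app E ≫ cb.inv.app E
  obtain ⟨E₁, β₁, γ, hE₁, hE₁V, hβ₁, hβγ⟩ := lift_affine_supp (V : Scheme.{u}) W₀ Vt' hW hVt G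
    ((DCoh.restrictD v).obj E) hG hGV (Groth.Agent.Helper9.QP7.isQCohD_restrictD v E hE) α'
  haveI := hβ₁
  let θ : (DCoh.restrictD a).obj (P ⊞ P⟦(1 : ℤ)⟧) ≅ (DCoh.restrictD b).obj E₁ :=
    κ ≪≫ ψ.symm ≪≫ (asIso ((DCoh.restrictD b).map β₁)).symm
  obtain ⟨R, φU, φV, hR⟩ := Groth.Agent.Helper9.GL3.glue u v a b w ca cb hwu hwv huv
    (P ⊞ P⟦(1 : ℤ)⟧) E₁ θ
  have hcompat : (DCoh.restrictD a).map xU ≫ ca.hom.app E =
      θ.hom ≫ (DCoh.restrictD b).map γ ≫ cb.hom.app E := by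
    have h1 : (DCoh.restrictD b).map γ = (DCoh.restrictD b).map β₁ ≫ α' := hβγ.symm
    rw [h1]
    dsimp only [θ, α']
    simp only [Iso.trans_hom, Iso.symm_hom, asIso_inv, Category.assoc, IsIso.inv_hom_id_assoc,
      Iso.inv_hom_id_assoc, Iso.hom_inv_id_assoc, Iso.inv_hom_id_app, Category.comp_id]
  obtain ⟨β, hβU, hβV⟩ := hR E xU γ hcompat
  have hA : DCoh.IsPerfect (P ⊞ P⟦(1 : ℤ)⟧) :=
    (isPerfect_two_out_of_three _ (binaryBiproductTriangle_distinguished P (P⟦(1 : ℤ)⟧))).2.1 hP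
      (isPerfect_shift hP 1)
  have hrv : ∀ x : X, x ∈ V ↔ x ∈ Set.range v := by
    intro x
    constructor
    · intro hx
      exact ⟨⟨x, hx⟩, rfl⟩
    · rintro ⟨z, rfl⟩
      exact z.2
  refine ⟨R, β, φU, ?_, ?_, hβU⟩
  · refine isPerfect_of_cover u v (fun x => ?_) R (isPerfect_of_iso φU hA) (isPerfect_of_iso φV hE₁)
    rcases hcov x with h | h
    · exact Or.inl h
    · exact Or.inr ((hrv x).1 h)
  · intro i x hx hxs
    rcases hcov x with ⟨y, rfl⟩ | h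
    · have h1 : y ∈ CohB1.support (DCoh.HD ((DCoh.restrictD u).obj R) i) :=
        (mem_supp_restrictD_iff u R i y).2 hxs
      have h2 := (mem_supp_iff_of_iso φU i y).2 h1
      -- the biproduct is zero on `u⁻¹ Vt`
      revert h2
      refine notMem_supp_obj₂ _ (binaryBiproductTriangle_distinguished P (P⟦(1 : ℤ)⟧)) y i
        (hPz i y hx) ?_
      intro h3
      have h3' : y ∈ CohB1.support (DCoh.HD (P⟦(1 : ℤ)⟧) i) := h3
      have e := Groth.Agent.Helper9.Amp1.homologyShiftIso P 1 i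
      have h4 : y ∈ CohB1.support (DCoh.HD P (1 + i)) := by
        rw [← ExtZeroStalk.support_eq_of_iso e]
        exact h3'
      exact hPz _ y hx h4
    · obtain ⟨z, rfl⟩ := (hrv x).1 h
      have h1 : z ∈ CohB1.support (DCoh.HD ((DCoh.restrictD v).obj R) i) :=
        (mem_supp_restrictD_iff v R i z).2 hxs
      have h2 := (mem_supp_iff_of_iso φV i z).2 h1
      exact hE₁V i z hx h2

end Groth.Agent.Helper9.GL5
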