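import Mathlib
import Groth.Prelude.Def_CxOX
import Groth.Agent.Helper9.GL5

/-! Killing the cohomology over `U` by perfect objects supported on `T`. -/

set_option autoImplicit false
set_option linter.style.haveILetI false
set_option linter.unusedVariables false
set_option linter.unusedSectionVars false
universe u

namespace Groth.Agent.Helper9.GL6

open CategoryTheory CategoryTheory.Limits AlgebraicGeometry Opposite TopologicalSpace
  Pretriangulated DerivedCategory ZeroObject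
open Groth.Agent.Helper4 Groth.Agent.Helper9.MVP13 Groth.Agent.Helper9.MVP3
  Groth.Agent.Helper9.TT2 Groth.Agent.Helper9.TT6
  Groth.Agent.Helper9.GL4 Groth.Agent.Helper9.GL5
  Groth.Agent.Lead.PerfLib Groth.Agent.Lead.PcLib Scheme.Modules

attribute [local instance] HasDerivedCategory.standard

section

variable {X U : Scheme.{u}} (u : U ⟶ X) [IsOpenImmersion u] (V : X.Opens)
  (hV : IsAffineOpen V) (hcov : ∀ x : X, x ∈ Set.range u ∨ x ∈ V) (Vt : X.Opens)
  (hW : IsCompact ((V.ι ⁻¹ᵁ u.opensRange : (V : Scheme.{u}).Opens) : Set (V : Scheme.{u})))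
  (hVt : IsCompact ((V.ι ⁻¹ᵁ Vt : (V : Scheme.{u}).Opens) : Set (V : Scheme.{u})))

/-- the approximation data on `U` at level `m₁` -/
def AppU (m₁ : ℤ) (E : DCoh.D X) : Prop :=
  ∃ (P : DCoh.D U) (α : P ⟶ (DCoh.restrictD u).obj E), DCoh.IsPerfect P ∧
    (∀ (i : ℤ) (y : U), u y ∈ Vt → y ∉ CohB1.support (DCoh.HD P i)) ∧
    (∀ i : ℤ, m₁ < i → IsIso ((DerivedCategory.homologyFunctor _ i).map α)) ∧
    Epi ((DerivedCategory.homologyFunctor _ m₁).map α)

include hV hcov hW hVt in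
theorem kill_step (m₁ s : ℤ) (hs : m₁ < s) (E : DCoh.D X) (hE : DCoh.IsQCohD E)
    (happ : AppU u Vt m₁ E)
    (hvan : ∀ i : ℤ, s ≤ i → IsZero (DCoh.HD ((DCoh.restrictD u).obj E) i)) :
    ∃ (R E' : DCoh.D X) (β : R ⟶ E) (g : E ⟶ E') (h : E' ⟶ R⟦(1 : ℤ)⟧),
      Triangle.mk β g h ∈ distTriang _ ∧ DCoh.IsPerfect R ∧ ZeroOn R Vt ∧
      ∀ i : ℤ, s - 1 ≤ i → IsZero (DCoh.HD ((DCoh.restrictD u).obj E') i) := by
  obtain ⟨P, α, hP, hPz, hiso, hepi⟩ := happ
  obtain ⟨R, β, φ, hR, hRz, hφ⟩ := one_step u V hV hcov Vt hW hVt E hE P hP hPz α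
  obtain ⟨E', g, h, hT⟩ := distinguished_cocone_triangle β
  refine ⟨R, E', β, g, h, hT, hR, hRz, ?_⟩
  intro i hi
  have hT' := (DCoh.restrictD u).map_distinguished _ hT
  have hα : α = (biprod.inl ≫ φ.hom) ≫ (DCoh.restrictD u).map β := by
    rw [Category.assoc, hφ, biprod.inl_desc]
  -- `Hⁱ(α)` is an epimorphism for `i ≥ m₁`
  have hepi' : ∀ j : ℤ, m₁ ≤ j → Epi ((DerivedCategory.homologyFunctor _ j).map α) := by
    intro j hj
    rcases eq_or_lt_of_le hj with rfl | hlt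
    · exact hepi
    · haveI := hiso j hlt
      infer_instance
  have hepiβ : Epi ((DerivedCategory.homologyFunctor _ i).map ((DCoh.restrictD u).map β)) := by
    haveI := hepi' i (by omega)
    have h1 : (DerivedCategory.homologyFunctor _ i).map α =
        (DerivedCategory.homologyFunctor _ i).map (biprod.inl ≫ φ.hom) ≫
          (DerivedCategory.homologyFunctor _ i).map ((DCoh.restrictD u).map β) := by
      rw [← Functor.map_comp, ← hα]
    haveI : Epi ((DerivedCategory.homologyFunctor _ i).map (biprod.inl ≫ φ.hom) ≫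
          (DerivedCategory.homologyFunctor _ i).map ((DCoh.restrictD u).map β)) := by
      rw [← h1]; infer_instance
    exact epi_of_epi ((DerivedCategory.homologyFunctor _ i).map (biprod.inl ≫ φ.hom)) _
  have hmonoβ : Mono ((DerivedCategory.homologyFunctor _ (i + 1)).map
      ((DCoh.restrictD u).map β)) := by
    -- `H^{i+1}(P⟦1⟧) = 0`
    have hz : IsZero ((DerivedCategory.homologyFunctor U.Modules (i + 1)).obj (P⟦(1 : ℤ)⟧)) := by
      refine IsZero.of_iso ?_ (Groth.Agent.Helper9.Amp1.homologyShiftIso P 1 (i + 1))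
      haveI := hiso (1 + (i + 1)) (by omega)
      exact (hvan (1 + (i + 1)) (by omega)).of_iso
        (asIso ((DerivedCategory.homologyFunctor _ (1 + (i + 1))).map α))
    have hTb := binaryBiproductTriangle_distinguished P (P⟦(1 : ℤ)⟧)
    haveI hepi_inl : Epi ((DerivedCategory.homologyFunctor U.Modules (i + 1)).map
        (biprod.inl : P ⟶ P ⊞ P⟦(1 : ℤ)⟧)) :=
      (HomologySequence.epi_homologyMap_mor₁_iff _ hTb (i + 1)).2 (hz.eq_of_tgt _ _)
    haveI hmono_inl : Mono ((DerivedCategory.homologyFunctor U.Modules (i + 1)).map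
        (biprod.inl : P ⟶ P ⊞ P⟦(1 : ℤ)⟧)) := by
      haveI : IsSplitMono ((DerivedCategory.homologyFunctor U.Modules (i + 1)).map
          (biprod.inl : P ⟶ P ⊞ P⟦(1 : ℤ)⟧)) :=
        ⟨⟨⟨(DerivedCategory.homologyFunctor U.Modules (i + 1)).map biprod.fst, by
          rw [← Functor.map_comp, biprod.inl_fst, CategoryTheory.Functor.map_id]⟩⟩⟩
      infer_instance
    haveI hiso_inl : IsIso ((DerivedCategory.homologyFunctor U.Modules (i + 1)).map
        (biprod.inl : P ⟶ P ⊞ P⟦(1 : ℤ)⟧)) := isIso_of_mono_of_epi _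
    haveI := hiso (i + 1) (by omega)
    have h2 : (DerivedCategory.homologyFunctor U.Modules (i + 1)).map
        (biprod.inl : P ⟶ P ⊞ P⟦(1 : ℤ)⟧) ≫
        (DerivedCategory.homologyFunctor U.Modules (i + 1)).map (biprod.desc α 0) =
        (DerivedCategory.homologyFunctor U.Modules (i + 1)).map α := by
      rw [← Functor.map_comp, biprod.inl_desc]
    haveI h3 : IsIso ((DerivedCategory.homologyFunctor U.Modules (i + 1)).map
        (biprod.desc α (0 : P⟦(1 : ℤ)⟧ ⟶ (DCoh.restrictD u).obj E))) := by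
      have : (DerivedCategory.homologyFunctor U.Modules (i + 1)).map
          (biprod.desc α (0 : P⟦(1 : ℤ)⟧ ⟶ (DCoh.restrictD u).obj E)) =
          inv ((DerivedCategory.homologyFunctor U.Modules (i + 1)).map
            (biprod.inl : P ⟶ P ⊞ P⟦(1 : ℤ)⟧)) ≫
          (DerivedCategory.homologyFunctor U.Modules (i + 1)).map α := by
        rw [← h2, IsIso.inv_hom_id_assoc]
      rw [this]
      infer_instance
    have h4 : (DCoh.restrictD u).map β = φ.inv ≫ biprod.desc α 0 := by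
      rw [← hφ, Iso.inv_hom_id_assoc]
    rw [h4, Functor.map_comp]
    infer_instance
  have h5 : (DerivedCategory.homologyFunctor U.Modules i).map
      ((DCoh.restrictD u).map g) = 0 :=
    (HomologySequence.epi_homologyMap_mor₁_iff _ hT' i).1 hepiβ
  have h6 := (HomologySequence.mono_homologyMap_mor₁_iff _ hT' i (i + 1) rfl).1 hmonoβ
  exact (HomologySequence.exact₃ _ hT' i (i + 1) rfl).isZero_of_both_zeros h5 h6

/-- admissible objects: quasi-coherent cohomology, `n`-pseudo-coherent, cohomology in degrees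
`≥ n` vanishing on `Vt` -/
def Adm (n : ℤ) (E : DCoh.D X) : Prop :=
  DCoh.IsQCohD E ∧ DCoh.IsPseudoCoherentD n E ∧ ∀ i : ℤ, n ≤ i → VanOn E Vt i

omit [IsOpenImmersion u] in
lemma Adm.obj₃ {n : ℤ} (T : Triangle (DCoh.D X)) (hT : T ∈ distTriang _)
    (h₁ : DCoh.IsPerfect T.obj₁) (hz : ZeroOn T.obj₁ Vt) (h₂ : Adm Vt n T.obj₂) :
    Adm Vt n T.obj₃ := by
  obtain ⟨hq, hpc, hv⟩ := h₂
  refine ⟨QcohWSerre.isQCohD_obj₃ _ hT (Groth.Agent.Helper9.TP4.isQCohD_of_isPerfect _ h₁) hq,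
    isPseudoCoherentD_obj₃ n _ hT
      (Groth.Agent.Helper9.TT5.isPseudoCoherentD_of_isPerfect _ h₁ (n + 1)) hpc, ?_⟩
  intro i hi
  exact vanOn_obj₃ _ hT Vt i (i + 1) rfl (hv i hi) ((zeroOn_iff_vanOn _ _).1 hz (i + 1))

omit [IsOpenImmersion u] in
lemma zeroOn_of_isZero {K : DCoh.D X} (hK : IsZero K) : ZeroOn K Vt := by
  rw [zeroOn_iff]
  exact Functor.map_isZero _ hK

include hV hcov hW hVt in
theorem kill (n m₁ : ℤ) (happ : ∀ E : DCoh.D X, Adm Vt n E → AppU u Vt m₁ E) :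
    ∀ (k : ℕ) (E : DCoh.D X), Adm Vt n E →
      (∀ i : ℤ, m₁ + k ≤ i → IsZero (DCoh.HD ((DCoh.restrictD u).obj E) i)) →
      ∃ (R E' : DCoh.D X) (β : R ⟶ E) (g : E ⟶ E') (h : E' ⟶ R⟦(1 : ℤ)⟧),
        Triangle.mk β g h ∈ distTriang _ ∧ DCoh.IsPerfect R ∧ ZeroOn R Vt ∧
        ∀ i : ℤ, m₁ ≤ i → IsZero (DCoh.HD ((DCoh.restrictD u).obj E') i) := by
  intro k
  induction k with
  | zero =>
    intro E hE hvan
    refine ⟨0, E, 0, 𝟙 E, 0, contractible_distinguished₁ E,
      Groth.Agent.Helper9.TT4.isPerfect_of_isZero (isZero_zero _),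
      zeroOn_of_isZero Vt (isZero_zero _), ?_⟩
    intro i hi
    exact hvan i (by push_cast; omega)
  | succ k ih =>
    intro E hE hvan
    obtain ⟨R₁, E₁, β₁, g₁, h₁, hT₁, hR₁, hR₁z, hvan₁⟩ :=
      kill_step u V hV hcov Vt hW hVt m₁ (m₁ + (k + 1 : ℕ)) (by push_cast; omega) E hE.1
        (happ E hE) hvan
    have hE₁ : Adm Vt n E₁ := Adm.obj₃ Vt _ hT₁ hR₁ hR₁z hE
    obtain ⟨R₂, E₂, β₂, g₂, h₂, hT₂, hR₂, hR₂z, hvan₂⟩ := ih E₁ hE₁ (by
      intro i hi
      exact hvan₁ i (by push_cast; omega))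
    obtain ⟨R, β, h, hT⟩ := distinguished_cocone_triangle₁ (g₁ ≫ g₂)
    have oct := Triangulated.someOctahedron' rfl hT₁ hT₂ hT
    refine ⟨R, E₂, β, g₁ ≫ g₂, h, hT, ?_, ?_, hvan₂⟩
    · exact (isPerfect_two_out_of_three _ oct.mem).2.1 hR₁ hR₂
    · rw [zeroOn_iff_vanOn]
      intro i
      exact vanOn_obj₂ _ oct.mem _ i ((zeroOn_iff_vanOn _ _).1 hR₁z i)
        ((zeroOn_iff_vanOn _ _).1 hR₂z i)

end

end Groth.Agent.Helper9.GL6
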