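import Mathlib
import Groth.Prelude.Def_CxOX
import Groth.Agent.Helper9.GL6
import Groth.Agent.Helper9.TT7

/-! The induction step for approximation by perfect complexes: `X = U ∪ V`, `V` affine. -/

set_option autoImplicit false
set_option linter.style.haveILetI false
set_option linter.unusedVariables false
set_option linter.unusedSectionVars false
universe u

namespace Groth.Agent.Helper9.GL7

open CategoryTheory CategoryTheory.Limits AlgebraicGeometry Opposite TopologicalSpace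
  Pretriangulated DerivedCategory ZeroObject
open Groth.Agent.Helper4 Groth.Agent.Helper9.MVP13 Groth.Agent.Helper9.MVP3
  Groth.Agent.Helper9.TT2 Groth.Agent.Helper9.TT6
  Groth.Agent.Helper9.GL4 Groth.Agent.Helper9.GL5 Groth.Agent.Helper9.GL6
  Groth.Agent.Lead.PerfLib Groth.Agent.Lead.PcLib Scheme.Modules
open Groth.Agent.Helper9.RH2

attribute [local instance] HasDerivedCategory.standard

/-- a quasi-compact open of an affine scheme is a finite union of basic opens -/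
lemma exists_list_basicOpen (Y : Scheme.{u}) [IsAffine Y] (U : Y.Opens)
    (hU : IsCompact (U : Set Y)) :
    ∃ fs : List Γ(Y, ⊤), ∀ x : Y, x ∈ U ↔ ∃ f ∈ fs, x ∈ Y.basicOpen f := by
  classical
  obtain ⟨s, hs, hUs⟩ := (Opens.IsBasis.isCompact_open_iff_eq_finite_iUnion
    (Y.basicOpen : Γ(Y, ⊤) → Y.Opens) (isBasis_basicOpen Y)
    (fun f => ((isAffineOpen_top Y).basicOpen f).isCompact) (U : Set Y)).1 ⟨hU, U.isOpen⟩
  refine ⟨hs.toFinset.toList, fun x => ?_⟩
  have hx : x ∈ U ↔ ∃ f ∈ s, x ∈ Y.basicOpen f := by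
    rw [← SetLike.mem_coe, hUs]
    simp only [Set.mem_iUnion, SetLike.mem_coe, exists_prop]
  rw [hx]
  constructor
  · rintro ⟨f, hf, hxf⟩
    exact ⟨f, by simpa using hf, hxf⟩
  · rintro ⟨f, hf, hxf⟩
    exact ⟨f, by simpa using hf, hxf⟩

lemma notMem_supp_of_isZero {X : Scheme.{u}} (M : X.Modules) (h : IsZero M) (x : X) :
    x ∉ CohB1.support M := by
  rw [SuppLib.support_eq_empty_of_isZero M h]
  exact Set.notMem_empty x

section

variable {X U : Scheme.{u}} (u : U ⟶ X) [IsOpenImmersion u] (V : X.Opens)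
  (hV : IsAffineOpen V) (hcov : ∀ x : X, x ∈ Set.range u ∨ x ∈ V) (Vt : X.Opens)

include hV hcov in
theorem final_step (fs : List Γ((V : Scheme.{u}), ⊤))
    (hfs : ∀ z : (V : Scheme.{u}),
      z ∈ (V.ι ⁻¹ᵁ (Vt ⊔ u.opensRange) : (V : Scheme.{u}).Opens) ↔
        ∃ f ∈ fs, z ∈ (V : Scheme.{u}).basicOpen f)
    (m : ℤ) (E : DCoh.D X) (hE : DCoh.IsQCohD E) (hpc : DCoh.IsPseudoCoherentD m E)
    (hsupp : ∀ i : ℤ, m - (fs.length : ℤ) < i → VanOn E Vt i)
    (hvan : ∀ i : ℤ, m - (fs.length : ℤ) ≤ i →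
      IsZero (DCoh.HD ((DCoh.restrictD u).obj E) i)) :
    ∃ (P Q : DCoh.D X) (α : P ⟶ E) (g : E ⟶ Q) (h : Q ⟶ P⟦(1 : ℤ)⟧),
      Triangle.mk α g h ∈ distTriang _ ∧ DCoh.IsPerfect P ∧ ZeroOn P Vt ∧
      ∀ i : ℤ, m ≤ i → IsZero (DCoh.HD Q i) := by
  haveI : IsAffine (V : Scheme.{u}) := hV
  let v : (V : Scheme.{u}) ⟶ X := V.ι
  let V' : (V : Scheme.{u}).Opens := V.ι ⁻¹ᵁ (Vt ⊔ u.opensRange)
  let E_V := (DCoh.restrictD v).obj E
  have hW : IsCompact (((⊤ : (V : Scheme.{u}).Opens)) : Set (V : Scheme.{u})) := by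
    rw [TopologicalSpace.Opens.coe_top]
    exact isCompact_univ
  have hpc' : DCoh.IsPseudoCoherentD m
      ((DCoh.restrictD (⊤ : (V : Scheme.{u}).Opens).ι).obj E_V) :=
    isPseudoCoherentD_restrictD _ m _ (isPseudoCoherentD_restrictD v m E hpc)
  have hvanu : ∀ i : ℤ, m - (fs.length : ℤ) ≤ i → ∀ y : U,
      u y ∉ CohB1.support (DCoh.HD E i) := by
    intro i hi y hy
    exact notMem_supp_of_isZero _ (hvan i hi) y ((mem_supp_restrictD_iff u E i y).2 hy)
  have hsupp' : ∀ i : ℤ, m - (fs.length : ℤ) < i → VanOn E_V V' i := by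
    intro i hi z hz hzs
    have hzs' := (mem_supp_restrictD_iff v E i z).1 hzs
    rcases hz with hz | hz
    · exact hsupp i hi (v z) hz hzs'
    · obtain ⟨y, hy⟩ := hz
      have hy' : u y = v z := hy
      rw [← hy'] at hzs'
      exact hvanu i (by omega) y hzs'
  obtain ⟨P_V, Q_V, α_V, g_V, h_V, hT_V, hP_V, hz_V, hQ_V⟩ :=
    Groth.Agent.Helper9.TT7.approx_affine (V : Scheme.{u}) V' ⊤ fs hfs hW m E_V
      (Groth.Agent.Helper9.QP7.isQCohD_restrictD v E hE) hpc' hsupp'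
  let P_X := (CxOX.extZeroD v).obj P_V
  let α_X : P_X ⟶ E := ((shAdj v).homEquiv _ _).symm α_V
  let eP : P_V ≅ (DCoh.restrictD v).obj P_X := asIso ((shAdj v).unit.app P_V)
  have hα_X : (shAdj v).unit.app P_V ≫ (DCoh.restrictD v).map α_X = α_V := by
    have := (shAdj v).homEquiv_unit (f := α_X)
    rw [← this]
    exact Equiv.apply_symm_apply _ _
  -- the support of `P_X`
  have hPX : ∀ (i : ℤ) (x : X), x ∈ CohB1.support (DCoh.HD P_X i) →
      ∃ z : (V : Scheme.{u}), z ∈ CohB1.support (DCoh.HD P_V i) ∧ v z = x := by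
    intro i x hx
    obtain ⟨z, hz, hzx⟩ := ExtZeroStalk.support_HD_extZeroD_subset v P_V i hx
    exact ⟨z, hz, hzx⟩
  have hPXu : ∀ (i : ℤ) (y : U), u y ∉ CohB1.support (DCoh.HD P_X i) := by
    intro i y hy
    obtain ⟨z, hz, hzx⟩ := hPX i _ hy
    exact hz_V i z (Or.inr ⟨y, hzx.symm⟩) hz
  have hPXt : ZeroOn P_X Vt := by
    intro i x hx hxs
    obtain ⟨z, hz, rfl⟩ := hPX i _ hxs
    exact hz_V i z (Or.inl hx) hz
  obtain ⟨Q, g, h, hT⟩ := distinguished_cocone_triangle α_X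
  have hrv : ∀ x : X, x ∈ V → x ∈ Set.range v := fun x hx => ⟨⟨x, hx⟩, rfl⟩
  refine ⟨P_X, Q, α_X, g, h, hT, ?_, hPXt, ?_⟩
  · refine isPerfect_of_cover u v (fun x => ?_) P_X ?_ ?_
    · rcases hcov x with h | h
      · exact Or.inl h
      · exact Or.inr (hrv x h)
    · apply Groth.Agent.Helper9.TT4.isPerfect_of_isZero
      rw [SuppLib.isZero_restrictD_iff]
      exact hPXu
    · exact isPerfect_of_iso eP hP_V
  · intro i hi
    apply SuppLib.isZero_of_support
    ext x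
    simp only [Set.mem_empty_iff_false, iff_false]
    rcases hcov x with ⟨y, rfl⟩ | hx
    · exact notMem_supp_obj₃ _ hT (u y) i (i + 1) rfl (hvanu i (by omega) y) (hPXu (i + 1) y)
    · obtain ⟨z, rfl⟩ := hrv x hx
      have hT' := (DCoh.restrictD v).map_distinguished _ hT
      let eT := isoTriangleOfIso₁₂ _ _ hT_V hT' eP (Iso.refl _)
        (by
          change α_V ≫ 𝟙 _ = (shAdj v).unit.app P_V ≫ (DCoh.restrictD v).map α_X
          rw [Category.comp_id, hα_X])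
      have e₃ : Q_V ≅ (DCoh.restrictD v).obj Q := Triangle.π₃.mapIso eT
      intro hzs
      have h1 : z ∈ CohB1.support (DCoh.HD ((DCoh.restrictD v).obj Q) i) :=
        (mem_supp_restrictD_iff v Q i z).2 hzs
      exact hQ_V i hi z trivial ((mem_supp_iff_of_iso e₃ i z).2 h1)

end

/-- approximation by perfect complexes holds on `Y` -/
def ApproxHolds (Y : Scheme.{u}) : Prop :=
  ∀ (T : Set Y), IsClosed T → IsRetrocompact Tᶜ → ∃ r : ℤ, ∀ (m : ℤ) (E : DCoh.D Y),
    DCoh.IsQCohD E → DCoh.IsPseudoCoherentD (m - r) E →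
    (∀ i : ℤ, m - r ≤ i → CohB1.support (DCoh.HD E i) ⊆ T) →
    ∃ (P : DCoh.D Y) (α : P ⟶ E), DCoh.IsPerfect P ∧
      (∀ i : ℤ, CohB1.support (DCoh.HD P i) ⊆ T) ∧
      (∀ i : ℤ, m < i → IsIso ((DerivedCategory.homologyFunctor _ i).map α)) ∧
      Epi ((DerivedCategory.homologyFunctor _ m).map α)

/-- preimages of compact sets contained in the range of an open immersion are compact -/
lemma isCompact_preimage_of_subset_range {X U : Scheme.{u}} (u : U ⟶ X) [IsOpenImmersion u]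
    (K : Set X) (hK : IsCompact K) (hKu : K ⊆ Set.range u) : IsCompact (u ⁻¹' K) :=
  u.isOpenEmbedding.isInducing.isCompact_preimage' hK hKu

/-- the induction step -/
theorem approx_step {X U : Scheme.{u}} (u : U ⟶ X) [IsOpenImmersion u] [CompactSpace U]
    (V : X.Opens) (hV : IsAffineOpen V) (hcov : ∀ x : X, x ∈ Set.range u ∨ x ∈ V)
    (hUV : IsCompact ((V : Set X) ∩ Set.range u))
    (hAU : ApproxHolds U) : ApproxHolds X := by
  intro T hT hTc
  let Vt : X.Opens := ⟨Tᶜ, hT.isOpen_compl⟩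
  have hmemVt : ∀ x : X, x ∈ Vt ↔ x ∉ T := fun x => Iff.rfl
  -- the closed subset of `U`
  have hTU : IsClosed (u ⁻¹' T) := hT.preimage u.continuous
  have hTUc : IsRetrocompact (u ⁻¹' T)ᶜ := by
    intro K hK hKo
    have h1 : IsCompact (Tᶜ ∩ u '' K) :=
      hTc (hK.image u.continuous) (u.isOpenEmbedding.isOpenMap K hKo)
    have h2 := isCompact_preimage_of_subset_range u _ h1
      (fun x hx => by obtain ⟨y, -, rfl⟩ := hx.2; exact ⟨y, rfl⟩)
    have h3 : u ⁻¹' (Tᶜ ∩ u '' K) = (u ⁻¹' T)ᶜ ∩ K := by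
      ext y
      constructor
      · rintro ⟨hy1, ⟨y', hy', hyy'⟩⟩
        have : y' = y := u.isOpenEmbedding.injective hyy'
        subst this
        exact ⟨hy1, hy'⟩
      · rintro ⟨hy1, hy2⟩
        exact ⟨hy1, ⟨y, hy2, rfl⟩⟩
    rw [← h3]
    exact h2
  obtain ⟨r_U, hr_U⟩ := hAU (u ⁻¹' T) hTU hTUc
  haveI : IsAffine (V : Scheme.{u}) := hV
  have hrangeV : Set.range V.ι = (V : Set X) := Scheme.Opens.range_ι V
  have hVt : IsCompact ((V.ι ⁻¹ᵁ Vt : (V : Scheme.{u}).Opens) : Set (V : Scheme.{u})) := by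
    have h1 : IsCompact (Tᶜ ∩ (V : Set X)) := hTc hV.isCompact V.isOpen
    have h2 := isCompact_preimage_of_subset_range V.ι _ h1
      (fun x hx => by rw [hrangeV]; exact hx.2)
    have h3 : V.ι ⁻¹' (Tᶜ ∩ (V : Set X)) =
        ((V.ι ⁻¹ᵁ Vt : (V : Scheme.{u}).Opens) : Set (V : Scheme.{u})) := by
      ext z
      constructor
      · rintro ⟨hz1, -⟩
        exact hz1
      · intro hz
        exact ⟨hz, z.2⟩
    rw [← h3]
    exact h2
  have hW : IsCompact ((V.ι ⁻¹ᵁ u.opensRange : (V : Scheme.{u}).Opens) :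
      Set (V : Scheme.{u})) := by
    have h2 := isCompact_preimage_of_subset_range V.ι _ hUV
      (fun x hx => by rw [hrangeV]; exact hx.1)
    have h3 : V.ι ⁻¹' ((V : Set X) ∩ Set.range u) =
        ((V.ι ⁻¹ᵁ u.opensRange : (V : Scheme.{u}).Opens) : Set (V : Scheme.{u})) := by
      ext z
      constructor
      · rintro ⟨-, hz2⟩
        exact hz2
      · intro hz
        exact ⟨z.2, hz⟩
    rw [← h3]
    exact h2
  have hV' : IsCompact ((V.ι ⁻¹ᵁ (Vt ⊔ u.opensRange) : (V : Scheme.{u}).Opens) :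
      Set (V : Scheme.{u})) := by
    have := hVt.union hW
    exact this
  obtain ⟨fs, hfs⟩ := exists_list_basicOpen (V : Scheme.{u}) _ hV'
  refine ⟨max r_U 0 + (fs.length : ℤ), fun m E hEq hEpc hEs => ?_⟩
  set n : ℤ := m - (max r_U 0 + (fs.length : ℤ)) with hn
  set m₁ : ℤ := m - (fs.length : ℤ) with hm₁
  have hle1 : n ≤ m₁ - r_U := by
    have := le_max_left r_U 0
    omega
  have hle2 : n ≤ m := by
    have := le_max_right r_U 0
    have : (0 : ℤ) ≤ (fs.length : ℤ) := Int.natCast_nonneg _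
    omega
  have hle3 : n ≤ m₁ := by
    have := le_max_right r_U 0
    omega
  have hAdm : Adm Vt n E := ⟨hEq, hEpc, fun i hi x hx hxs => hx (hEs i hi hxs)⟩
  have happ : ∀ E' : DCoh.D X, Adm Vt n E' → AppU u Vt m₁ E' := by
    rintro E' ⟨hq, hpc, hv⟩
    obtain ⟨P, α, hP, hPs, hiso, hepi⟩ := hr_U m₁ ((DCoh.restrictD u).obj E')
      (Groth.Agent.Helper9.QP7.isQCohD_restrictD u E' hq)
      (isPseudoCoherentD_mono hle1 (isPseudoCoherentD_restrictD u n E' hpc))
      (fun i hi y hy => by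
        by_contra hyT
        exact hv i (by omega) (u y) hyT ((mem_supp_restrictD_iff u E' i y).1 hy))
    exact ⟨P, α, hP, fun i y hy hys => hy (hPs i hys), hiso, hepi⟩
  obtain ⟨b, hb⟩ := Groth.Agent.Helper9.ClImm3.exists_isLE_of_isPseudoCoherentD
    ((DCoh.restrictD u).obj E) n (isPseudoCoherentD_restrictD u n E hEpc)
  have hvan0 : ∀ i : ℤ, m₁ + ((b + 1 - m₁).toNat : ℕ) ≤ i →
      IsZero (DCoh.HD ((DCoh.restrictD u).obj E) i) := by
    intro i hi
    haveI := hb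
    exact DerivedCategory.isZero_of_isLE _ b i (by
      have := Int.self_le_toNat (b + 1 - m₁)
      omega)
  obtain ⟨R₁, E₁, β₁, g₁, h₁, hT₁, hR₁, hR₁z, hvan₁⟩ :=
    kill u V hV hcov Vt hW hVt n m₁ happ _ E hAdm hvan0
  have hE₁ : Adm Vt n E₁ := Adm.obj₃ Vt _ hT₁ hR₁ hR₁z hAdm
  obtain ⟨P₂, Q, α₂, g₂, h₂, hT₂, hP₂, hP₂z, hQ⟩ := final_step u V hV hcov Vt fs hfs m E₁
    hE₁.1 (isPseudoCoherentD_mono hle2 hE₁.2.1) (fun i hi => hE₁.2.2 i (by omega))
    (fun i hi => hvan₁ i hi)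
  obtain ⟨P, α, h, hT⟩ := distinguished_cocone_triangle₁ (g₁ ≫ g₂)
  have oct := Triangulated.someOctahedron' rfl hT₁ hT₂ hT
  have hP : DCoh.IsPerfect P := (isPerfect_two_out_of_three _ oct.mem).2.1 hR₁ hP₂
  have hPz : ZeroOn P Vt := by
    rw [zeroOn_iff_vanOn]
    intro i
    exact vanOn_obj₂ _ oct.mem _ i ((zeroOn_iff_vanOn _ _).1 hR₁z i)
      ((zeroOn_iff_vanOn _ _).1 hP₂z i)
  refine ⟨P, α, hP, ?_, ?_, ?_⟩
  · intro i x hx
    by_contra hxT
    exact hPz i x hxT hx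
  · intro i hi
    haveI : Mono ((DerivedCategory.homologyFunctor X.Modules i).map α) :=
      (DerivedCategory.HomologySequence.mono_homologyMap_mor₁_iff _ hT (i - 1) i (by omega)).2
        ((hQ (i - 1) (by omega)).eq_of_src _ _)
    haveI : Epi ((DerivedCategory.homologyFunctor X.Modules i).map α) :=
      (DerivedCategory.HomologySequence.epi_homologyMap_mor₁_iff _ hT i).2
        ((hQ i (by omega)).eq_of_tgt _ _)
    exact isIso_of_mono_of_epi _
  · exact (DerivedCategory.HomologySequence.epi_homologyMap_mor₁_iff _ hT m).2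
      ((hQ m le_rfl).eq_of_tgt _ _)

end Groth.Agent.Helper9.GL7
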