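import Mathlib
import Groth.Prelude.Def_CxOX
import Groth.Agent.Helper9.GL11
import Groth.Agent.Helper9.GL7

/-! Perfect generators of `D_{QCoh,T}(O_X)`: the induction step. -/

set_option autoImplicit false
set_option linter.style.haveILetI false
set_option linter.unusedVariables false
set_option linter.unusedSectionVars false
universe u

namespace Groth.Agent.Helper9.GL12

open CategoryTheory CategoryTheory.Limits AlgebraicGeometry Opposite TopologicalSpace
  Pretriangulated DerivedCategory ZeroObject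
open Groth.Agent.Helper4 Groth.Agent.Helper9.MVP13
  Groth.Agent.Helper9.TT2 Groth.Agent.Helper9.TT6
  Groth.Agent.Helper9.GL4 Groth.Agent.Helper9.GL5 Groth.Agent.Helper9.GL7
  Groth.Agent.Helper9.GL10 Groth.Agent.Helper9.GL11
  Groth.Agent.Lead.PerfLib Groth.Agent.Lead.PcLib Scheme.Modules
open Groth.Agent.Helper9.RH2

attribute [local instance] HasDerivedCategory.standard

/-- `D_{QCoh}` with supports off `Vt` has a perfect generator -/
def GenProp (Y : Scheme.{u}) (Vt : Set Y) : Prop :=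
  ∃ P : DCoh.D Y, DCoh.IsPerfect P ∧
    (∀ (i : ℤ) (x : Y), x ∈ Vt → x ∉ CohB1.support (DCoh.HD P i)) ∧
    ∀ E : DCoh.D Y, DCoh.IsQCohD E →
      (∀ (i : ℤ) (x : Y), x ∈ Vt → x ∉ CohB1.support (DCoh.HD E i)) →
      (∀ (n : ℤ) (φ : P⟦n⟧ ⟶ E), φ = 0) → IsZero E

lemma isPerfect_biprod {Y : Scheme.{u}} (A B : DCoh.D Y) (hA : DCoh.IsPerfect A)
    (hB : DCoh.IsPerfect B) : DCoh.IsPerfect (A ⊞ B) :=
  (isPerfect_two_out_of_three _ (binaryBiproductTriangle_distinguished A B)).2.1 hA hB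

lemma notMem_supp_biprod {Y : Scheme.{u}} (A B : DCoh.D Y) (i : ℤ) (x : Y)
    (hA : x ∉ CohB1.support (DCoh.HD A i)) (hB : x ∉ CohB1.support (DCoh.HD B i)) :
    x ∉ CohB1.support (DCoh.HD (A ⊞ B) i) :=
  notMem_supp_obj₂ _ (binaryBiproductTriangle_distinguished A B) x i hA hB

/-- the induction step -/
theorem gen_step {X U : Scheme.{u}} (u : U ⟶ X) [IsOpenImmersion u] (V : X.Opens)
    (hV : IsAffineOpen V) (hcov : ∀ x : X, x ∈ Set.range u ∨ x ∈ V) (Vt : X.Opens)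
    (hW : IsCompact ((V.ι ⁻¹ᵁ u.opensRange : (V : Scheme.{u}).Opens) : Set (V : Scheme.{u})))
    (hVt : IsCompact ((V.ι ⁻¹ᵁ Vt : (V : Scheme.{u}).Opens) : Set (V : Scheme.{u})))
    (hU : GenProp U (u ⁻¹' (Vt : Set X))) : GenProp X (Vt : Set X) := by
  obtain ⟨P_U, hP_U, hP_Uz, hgen⟩ := hU
  have hq0 : DCoh.IsQCohD (0 : DCoh.D X) := Groth.Agent.Helper9.TP4.isQCohD_of_isPerfect _
    (Groth.Agent.Helper9.TT4.isPerfect_of_isZero (isZero_zero _))
  obtain ⟨Q, -, φ, hQ, hQz, -⟩ := one_step u V hV hcov Vt hW hVt 0 hq0 P_U hP_U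
    (fun i y hy => hP_Uz i y hy) 0
  haveI : IsAffine (V : Scheme.{u}) := hV
  let v : (V : Scheme.{u}) ⟶ X := V.ι
  let W' : (V : Scheme.{u}).Opens := V.ι ⁻¹ᵁ (Vt ⊔ u.opensRange)
  have hW'c : IsCompact (W' : Set (V : Scheme.{u})) := by
    have := hVt.union hW
    exact this
  obtain ⟨fs, hfs⟩ := exists_list_basicOpen (V : Scheme.{u}) W' hW'c
  obtain ⟨K, hK, hKz, horth⟩ := exists_koszul (V : Scheme.{u}) W' fs hfs
  let K' := (CxOX.extZeroD v).obj K
  let eK : K ≅ (DCoh.restrictD v).obj K' := asIso ((shAdj v).unit.app K)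
  have hK'supp : ∀ (i : ℤ) (x : X), x ∈ CohB1.support (DCoh.HD K' i) →
      ∃ z : (V : Scheme.{u}), z ∈ CohB1.support (DCoh.HD K i) ∧ v z = x := by
    intro i x hx
    obtain ⟨z, hz, hzx⟩ := ExtZeroStalk.support_HD_extZeroD_subset v K i hx
    exact ⟨z, hz, hzx⟩
  have hK'u : ∀ (i : ℤ) (y : U), u y ∉ CohB1.support (DCoh.HD K' i) := by
    intro i y hy
    obtain ⟨z, hz, hzx⟩ := hK'supp i _ hy
    exact hKz i z (Or.inr ⟨y, hzx.symm⟩) hz
  have hK't : ∀ (i : ℤ) (x : X), x ∈ Vt → x ∉ CohB1.support (DCoh.HD K' i) := by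
    intro i x hx hxs
    obtain ⟨z, hz, rfl⟩ := hK'supp i _ hxs
    exact hKz i z (Or.inl hx) hz
  have hrv : ∀ x : X, x ∈ V → x ∈ Set.range v := fun x hx => ⟨⟨x, hx⟩, rfl⟩
  have hcov' : ∀ x : X, x ∈ Set.range u ∨ x ∈ Set.range v := by
    intro x
    rcases hcov x with h | h
    · exact Or.inl h
    · exact Or.inr (hrv x h)
  have hK' : DCoh.IsPerfect K' := by
    refine isPerfect_of_cover u v hcov' K' ?_ (isPerfect_of_iso eK hK)
    apply Groth.Agent.Helper9.TT4.isPerfect_of_isZero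
    rw [SuppLib.isZero_restrictD_iff]
    exact hK'u
  refine ⟨Q ⊞ K', isPerfect_biprod _ _ hQ hK', ?_, ?_⟩
  · intro i x hx
    exact notMem_supp_biprod _ _ i x (hQz i x hx) (hK't i x hx)
  intro E hE hEz h
  have hQE : ∀ (n : ℤ) (ψ : Q⟦n⟧ ⟶ E), ψ = 0 := by
    intro n ψ
    have h1 := h n ((biprod.fst : Q ⊞ K' ⟶ Q)⟦n⟧' ≫ ψ)
    have h2 : ψ = (biprod.inl : Q ⟶ Q ⊞ K')⟦n⟧' ≫ (biprod.fst : Q ⊞ K' ⟶ Q)⟦n⟧' ≫ ψ := by
      rw [← Category.assoc, ← Functor.map_comp, biprod.inl_fst, CategoryTheory.Functor.map_id,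
        Category.id_comp]
    rw [h2, h1, comp_zero]
  have hK'E : ∀ (n : ℤ) (ψ : K'⟦n⟧ ⟶ E), ψ = 0 := by
    intro n ψ
    have h1 := h n ((biprod.snd : Q ⊞ K' ⟶ K')⟦n⟧' ≫ ψ)
    have h2 : ψ = (biprod.inr : K' ⟶ Q ⊞ K')⟦n⟧' ≫ (biprod.snd : Q ⊞ K' ⟶ K')⟦n⟧' ≫ ψ := by
      rw [← Category.assoc, ← Functor.map_comp, biprod.inr_snd, CategoryTheory.Functor.map_id,
        Category.id_comp]
    rw [h2, h1, comp_zero]
  have hKV : ∀ (n : ℤ) (ψ : K⟦n⟧ ⟶ (DCoh.restrictD v).obj E), ψ = 0 := by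
    intro n ψ
    have h1 := hK'E n (((CxOX.extZeroD v).commShiftIso n).inv.app K ≫
      ((shAdj v).homEquiv _ _).symm ψ)
    have h2 : ((shAdj v).homEquiv _ _).symm ψ = 0 := by
      have := congrArg (fun t => ((CxOX.extZeroD v).commShiftIso n).hom.app K ≫ t) h1
      simpa using this
    have h3 := congrArg ((shAdj v).homEquiv _ _) h2
    rw [Equiv.apply_symm_apply] at h3
    rw [h3, Adjunction.homEquiv_unit, Functor.map_zero, comp_zero]
  have horthE := horth ((DCoh.restrictD v).obj E)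
    (Groth.Agent.Helper9.QP7.isQCohD_restrictD v E hE) hKV
  -- the intersection
  let W₀ : (V : Scheme.{u}).Opens := V.ι ⁻¹ᵁ u.opensRange
  let b : (W₀ : Scheme.{u}) ⟶ (V : Scheme.{u}) := W₀.ι
  let w : (W₀ : Scheme.{u}) ⟶ X := b ≫ v
  have hwu : Set.range w ⊆ Set.range u := by
    rintro _ ⟨x, rfl⟩
    have : V.ι (W₀.ι x) ∈ u.opensRange := x.2
    exact this
  have hwv : Set.range w ⊆ Set.range v := by
    rintro _ ⟨x, rfl⟩
    exact ⟨b x, rfl⟩
  have huv : Set.range u ∩ Set.range v ⊆ Set.range w := by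
    rintro _ ⟨hxu, ⟨z, rfl⟩⟩
    exact ⟨⟨z, hxu⟩, rfl⟩
  let a : (W₀ : Scheme.{u}) ⟶ U := IsOpenImmersion.lift u w hwu
  have haw : a ≫ u = w := IsOpenImmersion.lift_fac _ _ _
  haveI : IsOpenImmersion (a ≫ u) := by rw [haw]; infer_instance
  haveI : IsOpenImmersion a := IsOpenImmersion.of_comp a u
  let ca := Groth.Agent.Helper9.GL1.restrictDComp u a w haw.symm
  let cb := Groth.Agent.Helper9.GL1.restrictDComp v b w rfl
  have hrangeb : Set.range b = (W₀ : Set (V : Scheme.{u})) := Scheme.Opens.range_ι W₀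
  -- Claim A
  have hA : ∀ (n : ℤ) (ψU : (DCoh.restrictD u).obj (Q⟦n⟧) ⟶ (DCoh.restrictD u).obj E),
      ψU = 0 := by
    intro n ψU
    let ξ : (DCoh.restrictD b).obj ((DCoh.restrictD v).obj (Q⟦n⟧)) ⟶
        (DCoh.restrictD b).obj ((DCoh.restrictD v).obj E) :=
      cb.hom.app (Q⟦n⟧) ≫ ca.inv.app (Q⟦n⟧) ≫ (DCoh.restrictD a).map ψU ≫ ca.hom.app E ≫
        cb.inv.app E
    obtain ⟨ψV, hψV⟩ := exists_extension_of_orth b ((DCoh.restrictD v).obj (Q⟦n⟧))
      ((DCoh.restrictD v).obj E) (by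
        intro C hC ψ
        refine horthE C ?_ ψ
        intro i x hx
        rcases hx with hx | hx
        · refine hC x (Or.inr ?_) i
          intro i' hxs
          have h1 := (mem_supp_restrictD_iff v (Q⟦n⟧) i' x).1 hxs
          rw [mem_supp_shift_iff] at h1
          exact hQz _ _ hx h1
        · refine hC x (Or.inl ?_) i
          rw [hrangeb]
          exact hx) ξ
    obtain ⟨β, hβU, hβV⟩ := glue_maps u v a b w ca cb hwu hwv huv hcov' (Q⟦n⟧) E ψU ψV (by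
      rw [hψV]
      dsimp only [ξ]
      simp only [Category.assoc, Iso.inv_hom_id_app_assoc, Iso.inv_hom_id_app, Category.comp_id])
    rw [← hβU, hQE n β, Functor.map_zero]
  -- Claim B
  have hB : IsZero ((DCoh.restrictD u).obj E) := by
    refine hgen _ (Groth.Agent.Helper9.QP7.isQCohD_restrictD u E hE) ?_ ?_
    · intro i y hy hys
      exact hEz i (u y) hy ((mem_supp_restrictD_iff u E i y).1 hys)
    · intro n ψ
      let s : P_U ⟶ (DCoh.restrictD u).obj Q := biprod.inl ≫ φ.hom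
      let r : (DCoh.restrictD u).obj Q ⟶ P_U := φ.inv ≫ biprod.fst
      have hsr : s ≫ r = 𝟙 P_U := by
        dsimp only [s, r]
        simp only [Category.assoc, Iso.hom_inv_id_assoc, biprod.inl_fst]
      have h1 := hA n (((DCoh.restrictD u).commShiftIso n).hom.app Q ≫ r⟦n⟧' ≫ ψ)
      have h2 : r⟦n⟧' ≫ ψ = 0 := by
        have := congrArg (fun t => ((DCoh.restrictD u).commShiftIso n).inv.app Q ≫ t) h1
        simpa using this
      have h3 : ψ = s⟦n⟧' ≫ r⟦n⟧' ≫ ψ := by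
        rw [← Category.assoc, ← Functor.map_comp, hsr, CategoryTheory.Functor.map_id,
          Category.id_comp]
      rw [h3, h2, comp_zero]
  -- Claim C
  have hB' : ∀ (i : ℤ) (y : U), u y ∉ CohB1.support (DCoh.HD E i) :=
    (SuppLib.isZero_restrictD_iff u E).1 hB
  have hC : IsZero ((DCoh.restrictD v).obj E) := by
    rw [IsZero.iff_id_eq_zero]
    apply horthE
    intro i x hx hxs
    have h1 := (mem_supp_restrictD_iff v E i x).1 hxs
    rcases hx with hx | ⟨y, hy⟩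
    · exact hEz i _ hx h1
    · have hy' : u y = v x := hy
      rw [← hy'] at h1
      exact hB' i y h1
  exact isZero_of_cover u v hcov' E hB hC

end Groth.Agent.Helper9.GL12
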