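import Mathlib
import Groth.Prelude.Def_CxOX
import Groth.Agent.Helper9.GL5

/-! Extending maps from perfect objects on a quasi-compact open to the whole scheme, after
passing to a direct summand. -/

set_option autoImplicit false
set_option linter.style.haveILetI false
set_option linter.unusedVariables false
set_option linter.unusedSectionVars false
universe u

namespace Groth.Agent.Helper9.GL9

open CategoryTheory CategoryTheory.Limits AlgebraicGeometry Opposite TopologicalSpace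
  Pretriangulated DerivedCategory ZeroObject
open Groth.Agent.Helper4 Groth.Agent.Helper9.MVP13
  Groth.Agent.Helper9.TT2 Groth.Agent.Helper9.GL4 Groth.Agent.Helper9.GL5
  Groth.Agent.Lead.PerfLib Groth.Agent.Lead.PcLib Scheme.Modules
open Groth.Agent.Helper9.RH2

attribute [local instance] HasDerivedCategory.standard

/-- the extension property for `u : U ⟶ X` and supports off `Vt` -/
def ExtProp {X U : Scheme.{u}} (u : U ⟶ X) [IsOpenImmersion u] (Vt : Set X) : Prop :=
  ∀ (E : DCoh.D X), DCoh.IsQCohD E → ∀ (P : DCoh.D U), DCoh.IsPerfect P →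
    (∀ (i : ℤ) (y : U), u y ∈ Vt → y ∉ CohB1.support (DCoh.HD P i)) →
    ∀ (α : P ⟶ (DCoh.restrictD u).obj E),
    ∃ (R : DCoh.D X) (β : R ⟶ E) (i : P ⟶ (DCoh.restrictD u).obj R)
      (p : (DCoh.restrictD u).obj R ⟶ P),
      DCoh.IsPerfect R ∧ (∀ (k : ℤ) (x : X), x ∈ Vt → x ∉ CohB1.support (DCoh.HD R k)) ∧
      i ≫ p = 𝟙 P ∧ i ≫ (DCoh.restrictD u).map β = α

theorem ExtProp.congr {X U : Scheme.{u}} (u₁ u₂ : U ⟶ X) [IsOpenImmersion u₁]
    [IsOpenImmersion u₂] (h : u₁ = u₂) (Vt : Set X) (H : ExtProp u₁ Vt) : ExtProp u₂ Vt := by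
  subst h
  exact H

/-- the case of a surjective open immersion -/
theorem extProp_of_surjective {X U : Scheme.{u}} (u : U ⟶ X) [IsOpenImmersion u]
    (hu : ∀ x : X, x ∈ Set.range u) (Vt : Set X) : ExtProp u Vt := by
  intro E hE P hP hPz α
  let R := (CxOX.extZeroD u).obj P
  let η : P ≅ (DCoh.restrictD u).obj R := asIso ((shAdj u).unit.app P)
  let β : R ⟶ E := ((shAdj u).homEquiv _ _).symm α
  have hβ : η.hom ≫ (DCoh.restrictD u).map β = α := by
    have := (shAdj u).homEquiv_unit (f := β)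
    change (shAdj u).unit.app P ≫ (DCoh.restrictD u).map β = α
    rw [← this]
    exact Equiv.apply_symm_apply _ _
  refine ⟨R, β, η.hom, η.inv, ?_, ?_, η.hom_inv_id, hβ⟩
  · exact isPerfect_of_cover u u (fun x => Or.inl (hu x)) R (isPerfect_of_iso η hP)
      (isPerfect_of_iso η hP)
  · intro k x hx hxs
    obtain ⟨y, hy, hyx⟩ := ExtZeroStalk.support_HD_extZeroD_subset u P k hxs
    have hyx' : u y = x := hyx
    rw [← hyx'] at hx
    exact hPz k y hx hy

/-- adding one affine open -/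
theorem extProp_comp {X X' U : Scheme.{u}} (j : X' ⟶ X) [IsOpenImmersion j] (u' : U ⟶ X')
    [IsOpenImmersion u'] (V : X.Opens) (hV : IsAffineOpen V)
    (hcov : ∀ x : X, x ∈ Set.range j ∨ x ∈ V) (Vt : X.Opens)
    (hW : IsCompact ((V.ι ⁻¹ᵁ j.opensRange : (V : Scheme.{u}).Opens) : Set (V : Scheme.{u})))
    (hVt : IsCompact ((V.ι ⁻¹ᵁ Vt : (V : Scheme.{u}).Opens) : Set (V : Scheme.{u})))
    (H : ExtProp u' (j ⁻¹' (Vt : Set X))) : ExtProp (u' ≫ j) (Vt : Set X) := by
  intro E hE P hP hPz α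
  let c := Groth.Agent.Helper9.GL1.restrictDComp j u' (u' ≫ j) rfl
  let α' : P ⟶ (DCoh.restrictD u').obj ((DCoh.restrictD j).obj E) := α ≫ c.inv.app E
  obtain ⟨R', β', i', p', hR', hR'z, hip', hiβ'⟩ := H ((DCoh.restrictD j).obj E)
    (Groth.Agent.Helper9.QP7.isQCohD_restrictD j E hE) P hP (fun i y hy => hPz i y hy) α'
  obtain ⟨R, β, φ, hR, hRz, hφ⟩ := one_step j V hV hcov Vt hW hVt E hE R' hR'
    (fun i y hy => hR'z i y hy) β'
  have hnat : (DCoh.restrictD u').map ((DCoh.restrictD j).map β) ≫ c.hom.app E =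
      c.hom.app R ≫ (DCoh.restrictD (u' ≫ j)).map β := c.hom.naturality β
  refine ⟨R, β, i' ≫ (DCoh.restrictD u').map (biprod.inl ≫ φ.hom) ≫ c.hom.app R,
    c.inv.app R ≫ (DCoh.restrictD u').map (φ.inv ≫ biprod.fst) ≫ p', hR,
    fun k x hx => hRz k x hx, ?_, ?_⟩
  · calc (i' ≫ (DCoh.restrictD u').map (biprod.inl ≫ φ.hom) ≫ c.hom.app R) ≫
          c.inv.app R ≫ (DCoh.restrictD u').map (φ.inv ≫ biprod.fst) ≫ p'
        = i' ≫ ((DCoh.restrictD u').map (biprod.inl ≫ φ.hom) ≫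
            (DCoh.restrictD u').map (φ.inv ≫ biprod.fst)) ≫ p' := by
          simp only [Category.assoc, Iso.hom_inv_id_app_assoc]
      _ = i' ≫ p' := by
          rw [← Functor.map_comp]
          have : (biprod.inl ≫ φ.hom) ≫ φ.inv ≫ biprod.fst = 𝟙 R' := by
            simp only [Category.assoc, Iso.hom_inv_id_assoc, biprod.inl_fst]
          rw [this, CategoryTheory.Functor.map_id, Category.id_comp]
      _ = 𝟙 P := hip'
  · calc (i' ≫ (DCoh.restrictD u').map (biprod.inl ≫ φ.hom) ≫ c.hom.app R) ≫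
          (DCoh.restrictD (u' ≫ j)).map β
        = i' ≫ (DCoh.restrictD u').map (biprod.inl ≫ φ.hom) ≫
            (DCoh.restrictD u').map ((DCoh.restrictD j).map β) ≫ c.hom.app E := by
          simp only [Category.assoc, hnat]
      _ = i' ≫ (DCoh.restrictD u').map β' ≫ c.hom.app E := by
          rw [← Category.assoc ((DCoh.restrictD u').map (biprod.inl ≫ φ.hom)),
            ← Functor.map_comp, Category.assoc, hφ, biprod.inl_desc]
      _ = α' ≫ c.hom.app E := by rw [← Category.assoc, hiβ']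
      _ = α := by
          dsimp only [α']
          rw [Category.assoc, Iso.inv_hom_id_app, Category.comp_id]

/-- compactness of the trace of `K` on the affine open `j⁻¹ A` -/
lemma isCompact_trace {X Y : Scheme.{u}} (j : Y ⟶ X) [IsOpenImmersion j] (A : X.Opens)
    (hA : A ≤ j.opensRange) (K : X.Opens) (hK : IsCompact ((K : Set X) ∩ (A : Set X))) :
    IsCompact ((((j ⁻¹ᵁ A).ι ⁻¹ᵁ (j ⁻¹ᵁ K) : ((j ⁻¹ᵁ A : Y.Opens) : Scheme.{u}).Opens)) :
      Set ((j ⁻¹ᵁ A : Y.Opens) : Scheme.{u})) := by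
  have h2 := ((j ⁻¹ᵁ A).ι ≫ j).isOpenEmbedding.isInducing.isCompact_preimage' hK
    (by
      rintro x ⟨-, hxA⟩
      obtain ⟨y, rfl⟩ := hA hxA
      exact ⟨⟨y, hxA⟩, rfl⟩)
  have h3 : ((j ⁻¹ᵁ A).ι ≫ j) ⁻¹' ((K : Set X) ∩ (A : Set X)) =
      ((((j ⁻¹ᵁ A).ι ⁻¹ᵁ (j ⁻¹ᵁ K) : ((j ⁻¹ᵁ A : Y.Opens) : Scheme.{u}).Opens)) :
        Set ((j ⁻¹ᵁ A : Y.Opens) : Scheme.{u})) := by
    ext z
    constructor
    · rintro ⟨hz1, -⟩
      exact hz1
    · intro hz
      exact ⟨hz, z.2⟩
  rw [← h3]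
  exact h2

/-- the extension property for quasi-compact opens of a quasi-separated scheme -/
theorem extProp_of_range (X : Scheme.{u}) [QuasiSeparatedSpace X] (U₀ : X.Opens)
    (hU₀ : IsCompact (U₀ : Set X)) (Vt : X.Opens) (hVt : IsRetrocompact (Vt : Set X))
    (S : X.Opens) (hS : IsCompact (S : Set X)) :
    ∀ (Y : Scheme.{u}) (j : Y ⟶ X) [IsOpenImmersion j],
      Set.range j = ((U₀ ⊔ S : X.Opens) : Set X) →
      ∀ (u : (U₀ : Scheme.{u}) ⟶ Y) [IsOpenImmersion u], u ≫ j = U₀.ι →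
        ExtProp u (j ⁻¹' (Vt : Set X)) := by
  refine compact_open_induction_on (P := fun S : X.Opens => ∀ (Y : Scheme.{u}) (j : Y ⟶ X)
    [IsOpenImmersion j], Set.range j = ((U₀ ⊔ S : X.Opens) : Set X) →
      ∀ (u : (U₀ : Scheme.{u}) ⟶ Y) [IsOpenImmersion u], u ≫ j = U₀.ι →
        ExtProp u (j ⁻¹' (Vt : Set X))) S hS ?_ ?_
  · intro Y j _ hj u _ hu
    apply extProp_of_surjective
    intro y
    have hy : j y ∈ ((U₀ ⊔ ⊥ : X.Opens) : Set X) := by
      rw [← hj]; exact ⟨y, rfl⟩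
    rw [sup_bot_eq] at hy
    refine ⟨⟨j y, hy⟩, ?_⟩
    apply j.isOpenEmbedding.injective
    have : j (u ⟨j y, hy⟩) = U₀.ι ⟨j y, hy⟩ :=
      congrArg (fun f : (U₀ : Scheme.{u}) ⟶ X => f ⟨j y, hy⟩) hu
    exact this.trans rfl
  · intro S hS A ih Y j _ hj u _ hu
    let S' : X.Opens := U₀ ⊔ S
    have hS' : IsCompact (S' : Set X) := hU₀.union hS
    have hS'le : Set.range S'.ι ⊆ Set.range j := by
      rw [hj, Scheme.Opens.range_ι]
      rintro x (hx | hx)
      · exact Or.inl hx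
      · exact Or.inr (Or.inl hx)
    have hAle : (A : X.Opens) ≤ j.opensRange := by
      intro x hx
      show x ∈ Set.range j
      rw [hj]
      exact Or.inr (Or.inr hx)
    let k : (S' : Scheme.{u}) ⟶ Y := IsOpenImmersion.lift j S'.ι hS'le
    have hk : k ≫ j = S'.ι := IsOpenImmersion.lift_fac _ _ _
    haveI : IsOpenImmersion (k ≫ j) := by rw [hk]; infer_instance
    haveI : IsOpenImmersion k := IsOpenImmersion.of_comp k j
    have hU₀le : Set.range U₀.ι ⊆ Set.range S'.ι := by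
      rw [Scheme.Opens.range_ι, Scheme.Opens.range_ι]
      intro x hx
      exact Or.inl hx
    let u' : (U₀ : Scheme.{u}) ⟶ (S' : Scheme.{u}) := IsOpenImmersion.lift S'.ι U₀.ι hU₀le
    have hu' : u' ≫ S'.ι = U₀.ι := IsOpenImmersion.lift_fac _ _ _
    haveI : IsOpenImmersion (u' ≫ S'.ι) := by rw [hu']; infer_instance
    haveI : IsOpenImmersion u' := IsOpenImmersion.of_comp u' S'.ι
    have ih' := ih (S' : Scheme.{u}) S'.ι (Scheme.Opens.range_ι S') u' hu'
    have hjk : ∀ s : (S' : Scheme.{u}), j (k s) = S'.ι s := fun s =>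
      congrArg (fun f : (S' : Scheme.{u}) ⟶ X => f s) hk
    have hkrange : k.opensRange = j ⁻¹ᵁ S' := by
      ext y
      constructor
      · rintro ⟨s, rfl⟩
        show j (k s) ∈ S'
        rw [hjk]
        exact s.2
      · intro hy
        refine ⟨⟨j y, hy⟩, ?_⟩
        apply j.isOpenEmbedding.injective
        exact (hjk _).trans rfl
    have hcov : ∀ y : Y, y ∈ Set.range k ∨ y ∈ (j ⁻¹ᵁ (A : X.Opens) : Y.Opens) := by
      intro y
      have hy : j y ∈ ((U₀ ⊔ (S ⊔ (A : X.Opens)) : X.Opens) : Set X) := by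
        rw [← hj]; exact ⟨y, rfl⟩
      rcases hy with hy | hy | hy
      · left
        have : y ∈ k.opensRange := by rw [hkrange]; exact Or.inl hy
        exact this
      · left
        have : y ∈ k.opensRange := by rw [hkrange]; exact Or.inr hy
        exact this
      · exact Or.inr hy
    have hW := isCompact_trace j (A : X.Opens) hAle S'
      (QuasiSeparatedSpace.inter_isCompact _ _ S'.isOpen hS' (A : X.Opens).isOpen A.2.isCompact)
    rw [← hkrange] at hW
    have hVt' := isCompact_trace j (A : X.Opens) hAle Vt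
      (hVt A.2.isCompact (A : X.Opens).isOpen)
    have H : ExtProp u' (k ⁻¹' ((j ⁻¹ᵁ Vt : Y.Opens) : Set Y)) := by
      have : k ⁻¹' ((j ⁻¹ᵁ Vt : Y.Opens) : Set Y) = S'.ι ⁻¹' (Vt : Set X) := by
        ext s
        show j (k s) ∈ Vt ↔ S'.ι s ∈ Vt
        rw [hjk]
      rw [this]
      exact ih'
    have H2 := extProp_comp k u' (j ⁻¹ᵁ (A : X.Opens)) (A.2.preimage_of_isOpenImmersion j hAle)
      hcov (j ⁻¹ᵁ Vt) hW hVt' H
    have huk : u' ≫ k = u := by
      rw [← cancel_mono j, Category.assoc, hk, hu', hu]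
    exact ExtProp.congr _ _ huk _ H2

end Groth.Agent.Helper9.GL9
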