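import Mathlib
import Groth.Prelude.Def_CxOX
import Groth.Agent.Helper9.GL12
import Groth.Agent.Helper9.GL9

/-! Perfect generators of `D_{QCoh,T}(O_X)` on quasi-compact quasi-separated schemes. -/

set_option autoImplicit false
set_option linter.style.haveILetI false
set_option linter.unusedVariables false
set_option linter.unusedSectionVars false
universe u

namespace Groth.Agent.Helper9.GL13

open CategoryTheory CategoryTheory.Limits AlgebraicGeometry Opposite TopologicalSpace
  Pretriangulated DerivedCategory ZeroObject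
open Groth.Agent.Helper4 Groth.Agent.Helper9.GL12 Groth.Agent.Helper9.GL9
  Groth.Agent.Lead.PerfLib Scheme.Modules

attribute [local instance] HasDerivedCategory.standard

theorem genProp_of_isEmpty (Y : Scheme.{u}) [IsEmpty Y] (Vt : Set Y) : GenProp Y Vt := by
  refine ⟨0, Groth.Agent.Helper9.TT4.isPerfect_of_isZero (isZero_zero _),
    fun i x => isEmptyElim x, fun E _ _ _ => ?_⟩
  apply SuppLib.isZero_of_HD
  intro i
  apply SuppLib.isZero_of_support
  ext x
  exact isEmptyElim x

theorem genProp_of_range (X : Scheme.{u}) [QuasiSeparatedSpace X] (Vt : X.Opens)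
    (hVt : IsRetrocompact (Vt : Set X)) (S : X.Opens) (hS : IsCompact (S : Set X)) :
    ∀ (Y : Scheme.{u}) (j : Y ⟶ X) [IsOpenImmersion j], Set.range j = (S : Set X) →
      GenProp Y (j ⁻¹' (Vt : Set X)) := by
  refine compact_open_induction_on (P := fun S : X.Opens => ∀ (Y : Scheme.{u}) (j : Y ⟶ X)
    [IsOpenImmersion j], Set.range j = (S : Set X) → GenProp Y (j ⁻¹' (Vt : Set X))) S hS ?_ ?_
  · intro Y j _ hj
    haveI : IsEmpty Y := by
      constructor
      intro y
      have : j y ∈ Set.range j := ⟨y, rfl⟩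
      rw [hj] at this
      exact this
    exact genProp_of_isEmpty Y _
  · intro S hS A ih Y j _ hj
    have hAle : (A : X.Opens) ≤ j.opensRange := by
      intro x hx
      show x ∈ Set.range j
      rw [hj]
      exact Or.inr hx
    have hSle : Set.range S.ι ⊆ Set.range j := by
      rw [hj, Scheme.Opens.range_ι]
      intro x hx
      exact Or.inl hx
    let u : (S : Scheme.{u}) ⟶ Y := IsOpenImmersion.lift j S.ι hSle
    have hu : u ≫ j = S.ι := IsOpenImmersion.lift_fac _ _ _
    haveI : IsOpenImmersion (u ≫ j) := by rw [hu]; infer_instance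
    haveI : IsOpenImmersion u := IsOpenImmersion.of_comp u j
    have hju : ∀ s : (S : Scheme.{u}), j (u s) = S.ι s := fun s =>
      congrArg (fun f : (S : Scheme.{u}) ⟶ X => f s) hu
    have hurange : u.opensRange = j ⁻¹ᵁ S := by
      ext y
      constructor
      · rintro ⟨s, rfl⟩
        show j (u s) ∈ S
        rw [hju]
        exact s.2
      · intro hy
        refine ⟨⟨j y, hy⟩, ?_⟩
        apply j.isOpenEmbedding.injective
        exact (hju _).trans rfl
    have hcov : ∀ y : Y, y ∈ Set.range u ∨ y ∈ (j ⁻¹ᵁ (A : X.Opens) : Y.Opens) := by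
      intro y
      have hy : j y ∈ ((S ⊔ (A : X.Opens) : X.Opens) : Set X) := by
        rw [← hj]; exact ⟨y, rfl⟩
      rcases hy with hy | hy
      · left
        have : y ∈ u.opensRange := by rw [hurange]; exact hy
        exact this
      · exact Or.inr hy
    have hW := isCompact_trace j (A : X.Opens) hAle S
      (QuasiSeparatedSpace.inter_isCompact _ _ S.isOpen hS (A : X.Opens).isOpen A.2.isCompact)
    rw [← hurange] at hW
    have hVt' := isCompact_trace j (A : X.Opens) hAle Vt
      (hVt A.2.isCompact (A : X.Opens).isOpen)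
    have H : GenProp (S : Scheme.{u}) (u ⁻¹' ((j ⁻¹ᵁ Vt : Y.Opens) : Set Y)) := by
      have : u ⁻¹' ((j ⁻¹ᵁ Vt : Y.Opens) : Set Y) = S.ι ⁻¹' (Vt : Set X) := by
        ext s
        show j (u s) ∈ Vt ↔ S.ι s ∈ Vt
        rw [hju]
      rw [this]
      exact ih (S : Scheme.{u}) S.ι (Scheme.Opens.range_ι S)
    exact gen_step u (j ⁻¹ᵁ (A : X.Opens)) (A.2.preimage_of_isOpenImmersion j hAle) hcov
      (j ⁻¹ᵁ Vt) hW hVt' H

/-- perfect generators with supports on quasi-compact quasi-separated schemes -/
theorem genProp_of_qcqs (X : Scheme.{u}) [CompactSpace X] [QuasiSeparatedSpace X] (Vt : X.Opens)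
    (hVt : IsCompact (Vt : Set X)) : GenProp X (Vt : Set X) := by
  have hretro : IsRetrocompact (Vt : Set X) := by
    intro K hK hKo
    exact QuasiSeparatedSpace.inter_isCompact _ _ Vt.isOpen hVt hKo hK
  have h := genProp_of_range X Vt hretro ⊤ (by
    rw [TopologicalSpace.Opens.coe_top]; exact isCompact_univ) X (𝟙 X) (by
    rw [TopologicalSpace.Opens.coe_top]
    ext x
    simp only [Set.mem_range, Set.mem_univ, iff_true]
    exact ⟨x, rfl⟩)
  exact h

end Groth.Agent.Helper9.GL13
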