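import Mathlib
import Groth.Agent.Helper4.KInjRes

/-! Local smallness of the derived category of a Grothendieck abelian category: the Hom sets are
small relative to the universe of morphisms of the abelian category. -/

set_option autoImplicit false
set_option linter.style.haveILetI false
set_option linter.unusedVariables false
set_option linter.unusedSectionVars false

namespace Groth.Agent.Helper9.LS1

open CategoryTheory Limits DerivedCategory

universe w' v' u'

variable {A : Type u'} [Category.{v'} A] [Abelian A] [IsGrothendieckAbelian.{v'} A]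
  [HasDerivedCategory.{w'} A]

theorem small_hom (X Y : DerivedCategory A) : Small.{v'} (X ⟶ Y) := by
  let X₀ : CochainComplex A ℤ := Q.objPreimage X
  let eX : Q.obj X₀ ≅ X := Q.objObjPreimageIso X
  let Y₀ : CochainComplex A ℤ := Q.objPreimage Y
  let eY : Q.obj Y₀ ≅ Y := Q.objObjPreimageIso Y
  obtain ⟨I, f, hI, hf, -, -⟩ := Groth.Agent.Helper4.KInjRes.exists_resolution Y₀
  haveI := hI
  haveI := hf
  haveI : IsIso (Q.map f) := by
    rw [isIso_Q_map_iff_quasiIso]
    infer_instance
  let qX := (quotientCompQhIso A).app X₀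
  let qI := (quotientCompQhIso A).app I
  let F : ((HomotopyCategory.quotient A (ComplexShape.up ℤ)).obj X₀ ⟶
      (HomotopyCategory.quotient A (ComplexShape.up ℤ)).obj I) → (X ⟶ Y) :=
    fun g => eX.inv ≫ qX.inv ≫ Qh.map g ≫ qI.hom ≫ inv (Q.map f) ≫ eY.hom
  have hF : Function.Surjective F := by
    intro φ
    obtain ⟨g, hg⟩ := (CochainComplex.IsKInjective.Qh_map_bijective
      ((HomotopyCategory.quotient A (ComplexShape.up ℤ)).obj X₀) I).surjective
      (qX.hom ≫ eX.hom ≫ φ ≫ eY.inv ≫ Q.map f ≫ qI.inv)
    refine ⟨g, ?_⟩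
    show eX.inv ≫ qX.inv ≫ Qh.map g ≫ qI.hom ≫ inv (Q.map f) ≫ eY.hom = φ
    rw [hg]
    simp
  exact small_of_surjective hF

end Groth.Agent.Helper9.LS1
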