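import Mathlib
import Groth.Prelude.Def_CxOX
import Groth.Agent.Helper9.BR3v1
import Groth.Agent.Helper9.FN1v1
import Groth.Agent.Helper9.LS1
import Groth.Agent.Helper9.GL13
import Groth.Agent.Helper9.CP5
import Groth.Agent.Helper9.TP4
import Groth.Agent.Helper4.QcohWSerre
import Groth.Agent.Helper4.RDerTri
import Groth.Agent.Lead.PerfLib4
import Groth.Agent.S1040

/-! Brown representability for `D_QCoh(O_X)`, `X` quasi-compact quasi-separated: instantiation of
the abstract relative Brown representability theorem `BR3.representable`. -/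

set_option autoImplicit false
set_option linter.style.haveILetI false
set_option linter.unusedVariables false
set_option linter.unusedSectionVars false
universe u

namespace Groth.Agent.Helper9.BR4

open CategoryTheory CategoryTheory.Limits AlgebraicGeometry Opposite TopologicalSpace
  Pretriangulated DerivedCategory
open Groth.Agent.Helper9

attribute [local instance] HasDerivedCategory.standard

section Generic

universe v₁ v₂ u₁ u₂

variable {C : Type u₁} [Category.{v₁} C] {D : Type u₂} [Category.{v₂} D]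

/-- a functor is a left adjoint as soon as all `Hom(F -, Y)` are representable, in the explicit
form of a universal arrow -/
theorem isLeftAdjoint_of_universal (F : C ⥤ D)
    (h : ∀ Y : D, ∃ (R : C) (ξ : F.obj R ⟶ Y), ∀ T : C,
      Function.Bijective (fun t : T ⟶ R => F.map t ≫ ξ)) : F.IsLeftAdjoint := by
  apply Functor.isLeftAdjoint_of_rightAdjointObjIsDefined_eq_top
  ext Y
  simp only [Pi.top_apply, Prop.top_eq_true, iff_true]
  obtain ⟨R, ξ, hR⟩ := h Y
  rw [Functor.rightAdjointObjIsDefined_iff]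
  exact Functor.RepresentableBy.isRepresentable (Y := R)
    { homEquiv := fun {T} => Equiv.ofBijective _ (hR T)
      homEquiv_comp := fun f g => by
        show F.map (f ≫ g) ≫ ξ = F.map f ≫ F.map g ≫ ξ
        rw [Functor.map_comp, Category.assoc] }

/-- the version for functors between full subcategories -/
theorem isLeftAdjoint_lift_of_universal {P : ObjectProperty C} {P' : ObjectProperty D}
    (Φ : C ⥤ D) (hΦ : ∀ K : P.FullSubcategory, P' ((P.ι ⋙ Φ).obj K))
    (h : ∀ K₀ : D, P' K₀ → ∃ (R : C) (_ : P R) (ξ : Φ.obj R ⟶ K₀), ∀ T : C, P T →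
      Function.Bijective (fun t : T ⟶ R => Φ.map t ≫ ξ)) :
    (ObjectProperty.lift P' (P.ι ⋙ Φ) hΦ).IsLeftAdjoint := by
  apply isLeftAdjoint_of_universal
  rintro ⟨K₀, hK₀⟩
  obtain ⟨R, hR, ξ, hb⟩ := h K₀ hK₀
  refine ⟨⟨R, hR⟩, ObjectProperty.homMk ξ, ?_⟩
  rintro ⟨T, hT⟩
  constructor
  · intro t t' htt'
    apply ObjectProperty.hom_ext
    apply (hb T hT).1
    exact congrArg (fun z => z.hom) htt'
  · intro y
    obtain ⟨t, ht⟩ := (hb T hT).2 y.hom
    refine ⟨ObjectProperty.homMk t, ?_⟩
    apply ObjectProperty.hom_ext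
    exact ht

end Generic

section Sch

variable (X : Scheme.{u})

lemma hasCoproduct_nat (K : ℕ → DCoh.D X) : HasCoproduct K := by
  let e : ULift.{u} ℕ ≃ ℕ := Equiv.ulift
  haveI : HasCoproduct (K ∘ e) := FN1.hasCoproduct X _
  exact hasCoproduct_of_equiv_of_iso (K ∘ e) K e.symm (fun j => eqToIso (by simp))

lemma isQCohD_coprod_nat (K : ℕ → DCoh.D X) [HasCoproduct K] (hK : ∀ j, DCoh.IsQCohD (K j)) :
    DCoh.IsQCohD (∐ K) := by
  let e : ULift.{u} ℕ ≃ ℕ := Equiv.ulift
  haveI : HasCoproduct (K ∘ e) := FN1.hasCoproduct X _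
  exact Groth.Agent.Helper4.QcohWSerre.isQCohD_of_iso (Sigma.reindex e K)
    (Groth.Agent.S1040.result X (K ∘ e) (fun i => hK _))

variable [CompactSpace X] [QuasiSeparatedSpace X]

/-- the class `D_QCoh` with a perfect generator satisfies the hypotheses of the relative Brown
representability theorem -/
theorem exists_setup : ∃ G : DCoh.D X, DCoh.IsPerfect G ∧
    BR1.Setup.{u} (DCoh.IsQCohD (X := X)) G := by
  obtain ⟨G, hG, -, hgen⟩ := GL13.genProp_of_qcqs X ⊥ (by
    rw [TopologicalSpace.Opens.coe_bot]; exact isCompact_empty)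
  haveI := Groth.Agent.Helper4.SchAdj.isGrothendieckAbelian_modules X
  refine ⟨G, hG, ?_⟩
  exact
  { iso := fun e h => Groth.Agent.Helper4.QcohWSerre.isQCohD_of_iso e h
    cone := fun T hT h1 h2 => Groth.Agent.Helper4.QcohWSerre.isQCohD_obj₃ T hT h1 h2
    shiftG := fun n => Groth.Agent.Helper4.QcohWSerre.isQCohD_shift G n
      (TP4.isQCohD_of_isPerfect G hG)
    biprod := fun A B hA hB => Groth.Agent.Helper4.QcohWSerre.isQCohD_obj₂ _
      (binaryBiproductTriangle_distinguished A B) hA hB
    coprod := fun J K _ => FN1.hasCoproduct X K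
    coprodP := fun J K _ hK => Groth.Agent.S1040.result X K hK
    coprodN := fun K _ => hasCoproduct_nat X K
    coprodNP := fun K _ hK => isQCohD_coprod_nat X K hK
    compactN := fun n K _ hK => FN1.fin_nat_of_isPerfect X (G⟦n⟧)
      (Groth.Agent.Lead.PerfLib.isPerfect_shift hG n) K hK
    gen := fun T hT h => hgen T hT (fun i x hx => hx.elim) h
    small := fun n T _ => LS1.small_hom _ _ }

/-- the identity functor -/
theorem funSetup_id (G : DCoh.D X) (K₀ : DCoh.D X) :
    BR1.FunSetup.{u} (DCoh.IsQCohD (X := X)) G (𝟭 (DCoh.D X)) K₀ := by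
  haveI := Groth.Agent.Helper4.SchAdj.isGrothendieckAbelian_modules X
  exact
  { add := inferInstance
    tri := fun T hT => ⟨T.mor₃, hT⟩
    pres := fun J K _ _ => inferInstance
    presN := fun K _ _ => inferInstance
    small := fun n => LS1.small_hom _ _ }

/-- the derived direct image -/
theorem funSetup_Rpush {Y : Scheme.{u}} [CompactSpace Y] [QuasiSeparatedSpace Y] (f : X ⟶ Y)
    [DCoh.HasRpush f] (G : DCoh.D X) (K₀ : DCoh.D Y) :
    BR1.FunSetup.{u} (DCoh.IsQCohD (X := X)) G (DCoh.Rpush f) K₀ := by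
  haveI := Groth.Agent.Helper4.SchAdj.isGrothendieckAbelian_modules X
  haveI := Groth.Agent.Helper4.SchAdj.isGrothendieckAbelian_modules Y
  haveI : DCoh.HasLpull f := Groth.Agent.Helper9.Lpull1.hasLpull f
  have adj := Groth.Agent.Helper4.SchAdj.adj f
  haveI : (DCoh.Rpush f).IsRightAdjoint := adj.isRightAdjoint
  haveI : PreservesLimitsOfSize.{0, 0} (DCoh.Rpush f) := adj.rightAdjoint_preservesLimits
  haveI : (DCoh.Rpush f).Additive := Functor.additive_of_preserves_binary_products _
  have hpres : ∀ (J : Type u) (K : J → DCoh.D X) [HasCoproduct K], (∀ j, DCoh.IsQCohD (K j)) →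
      PreservesColimit (Discrete.functor K) (DCoh.Rpush f) := by
    intro J K _ hK
    haveI : HasCoproduct (fun j => (DCoh.Rpush f).obj (K j)) := FN1.hasCoproduct Y _
    haveI : IsIso (sigmaComparison (DCoh.Rpush f) K) := CP5.isIso_sigma_Rpush f K hK
    exact PreservesCoproduct.of_iso_comparison (DCoh.Rpush f) K
  exact
  { add := inferInstance
    tri := fun T hT => Groth.Agent.Helper4.RDerTri.exists_distinguished_map
      (Scheme.Modules.pushforward f) (DCoh.Rpush f)
      ((DCoh.pushKh f).totalRightDerivedUnit DerivedCategory.Qh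
        (HomotopyCategory.quasiIso X.Modules (ComplexShape.up ℤ))) T hT
    pres := hpres
    presN := fun K _ hK => by
      let e : ULift.{u} ℕ ≃ ℕ := Equiv.ulift
      haveI : HasCoproduct (K ∘ e) := FN1.hasCoproduct X _
      haveI := hpres (ULift.{u} ℕ) (K ∘ e) (fun i => hK _)
      exact FN0.preservesColimit_of_equiv e K (DCoh.Rpush f)
    small := fun n => LS1.small_hom _ _ }

/-- **Brown representability for `D_QCoh(O_X)`**, identity version -/
theorem representable_id (K₀ : DCoh.D X) :
    ∃ (R : DCoh.D X) (_ : DCoh.IsQCohD R) (ξ : R ⟶ K₀), ∀ T : DCoh.D X, DCoh.IsQCohD T →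
      Function.Bijective (fun t : T ⟶ R => t ≫ ξ) := by
  obtain ⟨G, -, hS⟩ := exists_setup X
  exact BR3.representable hS (funSetup_id X G K₀)

/-- **Brown representability for `D_QCoh(O_X)`**, direct image version -/
theorem representable_Rpush {Y : Scheme.{u}} [CompactSpace Y] [QuasiSeparatedSpace Y] (f : X ⟶ Y)
    [DCoh.HasRpush f] (K₀ : DCoh.D Y) :
    ∃ (R : DCoh.D X) (_ : DCoh.IsQCohD R) (ξ : (DCoh.Rpush f).obj R ⟶ K₀), ∀ T : DCoh.D X,
      DCoh.IsQCohD T → Function.Bijective (fun t : T ⟶ R => (DCoh.Rpush f).map t ≫ ξ) := by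
  obtain ⟨G, -, hS⟩ := exists_setup X
  exact BR3.representable hS (funSetup_Rpush X f G K₀)

end Sch

end Groth.Agent.Helper9.BR4
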