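import Mathlib
import Groth.Prelude.Def_DualLC
import Groth.Prelude.Def_DRing4
import Groth.Agent.Helper9.LCT2
import Groth.Agent.Helper9.LCT3
import Groth.Agent.Helper9.LF10
import Groth.Agent.Helper6.DComplExact
import Groth.Agent.Helper6.DComplAmp

/-!
# `RΓ_J` and derived completion as exact linear functors; ladders of long exact sequences
-/

set_option autoImplicit false
set_option linter.style.haveILetI false
set_option linter.unusedSectionVars false
set_option linter.unusedVariables false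

universe u
open CategoryTheory CategoryTheory.Limits Opposite DerivedCategory Pretriangulated
attribute [local instance] HasDerivedCategory.standard

namespace Groth.Agent.Helper9.BS1
open Groth.Agent.Helper9.LCT1 Groth.Agent.Helper9.LCT2 Groth.Agent.Helper9.LCT3 Groth.Agent.Helper9.LF10
  Groth.Agent.Helper6.DComplAmp Groth.Agent.Helper6.DComplExact

variable {A : Type u} [CommRing A] [IsNoetherianRing A]

section Tors

variable (J : Ideal A)

/-- power torsion modules are closed under extensions -/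
lemma isPowerTorsion_of_exact {M₁ M₂ M₃ : Type u} [AddCommGroup M₁] [Module A M₁]
    [AddCommGroup M₂] [Module A M₂] [AddCommGroup M₃] [Module A M₃]
    (f : M₁ →ₗ[A] M₂) (g : M₂ →ₗ[A] M₃) (hfg : Function.Exact f g)
    (h1 : LocCoh.IsPowerTorsion J M₁) (h3 : LocCoh.IsPowerTorsion J M₃) :
    LocCoh.IsPowerTorsion J M₂ := by
  intro x
  obtain ⟨n, hn⟩ := h3 (g x)
  obtain ⟨S, hS⟩ := (IsNoetherian.noetherian (J ^ n) : (J ^ n).FG)
  have hgen : ∀ a ∈ S, ∃ m : ℕ, ∀ b ∈ J ^ m, b • a • x = 0 := by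
    intro a ha
    have haJ : a ∈ J ^ n := hS ▸ Ideal.subset_span ha
    have h0 : g (a • x) = 0 := by rw [map_smul]; exact hn a haJ
    obtain ⟨y, hy⟩ := (hfg (a • x)).1 h0
    obtain ⟨m, hm⟩ := h1 y
    exact ⟨m, fun b hb => by rw [← hy, ← map_smul, hm b hb, map_zero]⟩
  choose! mf hmf using hgen
  refine ⟨S.sup mf + n, fun c hc => ?_⟩
  rw [pow_add] at hc
  refine Submodule.mul_induction_on hc (fun b hb a ha => ?_) (fun y z hy hz => ?_)
  · rw [mul_smul]
    rw [← hS] at ha
    refine Submodule.span_induction (p := fun a _ => b • a • x = 0) (fun a ha' => ?_) ?_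
      (fun y z _ _ hy hz => ?_) (fun r y _ hy => ?_) ha
    · exact hmf a ha' b (Ideal.pow_le_pow_right (Finset.le_sup ha') hb)
    · rw [zero_smul, smul_zero]
    · rw [add_smul, smul_add, hy, hz, add_zero]
    · rw [smul_eq_mul, mul_smul, smul_comm b r, hy, smul_zero]
  · rw [add_smul, hy, hz, add_zero]

instance : (Tors J).IsClosedUnderIsomorphisms where
  of_iso := by
    intro X Y e hX i
    exact isPowerTorsion_of_iso ((homologyFunctor (ModuleCat.{u} A) i).mapIso e) (hX i)

lemma tors_of_isZero (Z : Dual.D A) (hZ : IsZero Z) : Tors J Z := by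
  intro i x
  have : IsZero ((homologyFunctor (ModuleCat.{u} A) i).obj Z) :=
    (homologyFunctor (ModuleCat.{u} A) i).map_isZero hZ
  haveI : Subsingleton (Dual.HD A Z i) := ModuleCat.subsingleton_of_isZero this
  exact ⟨0, fun a _ => Subsingleton.elim _ _⟩

lemma tors_obj₂ (T : Triangle (Dual.D A)) (hT : T ∈ distTriang _) (h1 : Tors J T.obj₁)
    (h3 : Tors J T.obj₃) : Tors J T.obj₂ := by
  intro i
  have hex := HomologySequence.exact₂ T hT i
  rw [ShortComplex.ShortExact.moduleCat_exact_iff_function_exact] at hex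
  exact isPowerTorsion_of_exact J ((homologyFunctor (ModuleCat.{u} A) i).map T.mor₁).hom
    ((homologyFunctor (ModuleCat.{u} A) i).map T.mor₂).hom hex (h1 i) (h3 i)

instance : (Tors J).IsTriangulated where
  exists_zero := by
    obtain ⟨Z, hZ⟩ := HasZeroObject.zero (C := Dual.D A)
    exact ⟨Z, hZ, tors_of_isZero J Z hZ⟩
  isStableUnderShiftBy a := ⟨fun K h => by
    haveI := hasRgammaI J
    exact tors_shift J K h a⟩
  toIsTriangulatedClosed₂ := .mk' (fun T hT h1 h3 => tors_obj₂ J T hT h1 h3)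

end Tors

section Rgamma

variable (J : Ideal A) [DRing.HasRgammaI J]

lemma tors_RgammaI (K : Dual.D A) : Tors J ((DRing.RgammaI J).obj K) :=
  fun i => isPowerTorsion_RgammaI J K i

/-- morphisms from a torsion object to `RΓ_J(K)` are detected after composing with `ε` -/
lemma hom_ext_ε {T K : Dual.D A} (hT : Tors J T) (a b : T ⟶ (DRing.RgammaI J).obj K)
    (h : a ≫ (DRing.RgammaIε J).app K = b ≫ (DRing.RgammaIε J).app K) : a = b := by
  have := (Φ_bijective J (tors_RgammaI J) ⟨T, hT⟩ K).1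
    (a₁ := ObjectProperty.homMk a) (a₂ := ObjectProperty.homMk b) h
  exact congrArg (fun φ => φ.hom) this

/-- `RΓ_J` is `A`-linear on scalar endomorphisms -/
lemma RgammaI_map_smul_id (r : A) (K : Dual.D A) :
    (DRing.RgammaI J).map (r • 𝟙 K) = r • 𝟙 ((DRing.RgammaI J).obj K) := by
  apply hom_ext_ε J (tors_RgammaI J K)
  rw [(DRing.RgammaIε J).naturality, Linear.smul_comp, Category.id_comp]
  simp only [Functor.id_obj, Functor.id_map, Linear.comp_smul, Category.comp_id]

lemma RgammaI_map_zero (K K' : Dual.D A) :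
    (DRing.RgammaI J).map (0 : K ⟶ K') = 0 := by
  apply hom_ext_ε J (tors_RgammaI J K)
  rw [(DRing.RgammaIε J).naturality, zero_comp]
  simp only [Functor.id_obj, Functor.id_map, comp_zero]

/-- `RΓ_J` maps distinguished triangles to distinguished triangles -/
theorem RgammaI_distinguished (T : Triangle (Dual.D A)) (hT : T ∈ distTriang _) :
    ∃ δ' : (DRing.RgammaI J).obj T.obj₃ ⟶ ((DRing.RgammaI J).obj T.obj₁)⟦(1 : ℤ)⟧,
      Triangle.mk ((DRing.RgammaI J).map T.mor₁) ((DRing.RgammaI J).map T.mor₂) δ' ∈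
        distTriang (Dual.D A) := by
  let adj := LCT3.adj J (tors_RgammaI J)
  letI := adj.rightAdjointCommShift ℤ
  haveI := adj.commShift_of_leftAdjoint ℤ
  haveI : ((Tors J).lift (DRing.RgammaI J) (tors_RgammaI J)).IsTriangulated :=
    adj.isTriangulated_rightAdjoint
  have h := ((Tors J).lift (DRing.RgammaI J) (tors_RgammaI J)).map_distinguished T hT
  exact ⟨_, h⟩

end Rgamma

section Compl

variable (I : Ideal A) [DRing.HasDerivedCompletion I]

/-- derived completion is `A`-linear on scalar endomorphisms -/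
lemma completion_map_smul_id (r : A) (K : Dual.D A) :
    ((DRing.derivedCompletion I).map (r • 𝟙 K)).hom =
      r • 𝟙 ((DRing.derivedCompletion I).obj K).obj := by
  have hC := ((DRing.derivedCompletion I).obj K).property
  apply (toDerivedCompletion_bijective I K _ hC).1
  dsimp only
  have h1 := (DRing.derivedCompletionAdj I).unit.naturality (r • 𝟙 K)
  simp only [Functor.id_obj, Functor.id_map, Functor.comp_obj, Functor.comp_map,
    ObjectProperty.ι_obj, ObjectProperty.ι_map] at h1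
  rw [← h1, Linear.smul_comp, Category.id_comp, Linear.comp_smul, Category.comp_id]

/-- the completed triangle, with the compatibility of the connecting maps -/
theorem completion_distinguished (T : Triangle (Dual.D A)) (hT : T ∈ distTriang _) :
    ∃ δ' : ((DRing.derivedCompletion I).obj T.obj₃).obj ⟶
        (((DRing.derivedCompletion I).obj T.obj₁).obj)⟦(1 : ℤ)⟧,
      Triangle.mk ((DRing.derivedCompletion I).map T.mor₁).hom
        ((DRing.derivedCompletion I).map T.mor₂).hom δ' ∈ distTriang (Dual.D A) ∧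
      T.mor₃ ≫ (DRing.toDerivedCompletion I T.obj₁)⟦(1 : ℤ)⟧' =
        DRing.toDerivedCompletion I T.obj₃ ≫ δ' := by
  letI := (DRing.derivedCompletionAdj I).leftAdjointCommShift ℤ
  haveI := (DRing.derivedCompletionAdj I).commShift_of_rightAdjoint ℤ
  haveI : (DRing.derivedCompletion I).IsTriangulated :=
    (DRing.derivedCompletionAdj I).isTriangulated_leftAdjoint
  have h := (DRing.derivedCompletion I).map_distinguished T hT
  refine ⟨_, h, ?_⟩
  have hu := NatTrans.shift_app_comm (DRing.derivedCompletionAdj I).unit (1 : ℤ) T.obj₁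
  have hn := (DRing.derivedCompletionAdj I).unit.naturality T.mor₃
  dsimp at hu hn ⊢
  rw [Functor.commShiftIso_id_hom_app, Category.id_comp, Functor.commShiftIso_comp_hom_app] at hu
  rw [hu, ← Category.assoc, hn]
  simp only [Category.assoc, ObjectProperty.ι_map]
  exact congrArg (fun z => DRing.toDerivedCompletion I T.obj₃ ≫ z) (Category.assoc
    ((DRing.derivedCompletion I).map T.mor₃).hom
    ((Functor.commShiftIso (DRing.derivedCompletion I) (1 : ℤ)).hom.app T.obj₁).hom
    ((Functor.commShiftIso (DRing.IsDerivedComplete I).ι (1 : ℤ)).hom.app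
      ((DRing.derivedCompletion I).obj T.obj₁))).symm

end Compl

section Ladder

/-- the map induced on cohomology, as a linear map -/
noncomputable abbrev HM (i : ℤ) {X Y : Dual.D A} (f : X ⟶ Y) :
    Dual.HD A X i →ₗ[A] Dual.HD A Y i :=
  ((homologyFunctor (ModuleCat.{u} A) i).map f).hom

/-- the connecting map, as a linear map -/
noncomputable abbrev dl (T : Triangle (Dual.D A)) (n₀ n₁ : ℤ) (h : n₀ + 1 = n₁) :
    Dual.HD A T.obj₃ n₀ →ₗ[A] Dual.HD A T.obj₁ n₁ :=
  (HomologySequence.δ T n₀ n₁ h).hom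

lemma HM_comp (i : ℤ) {X Y Z : Dual.D A} (f : X ⟶ Y) (g : Y ⟶ Z) :
    HM i (f ≫ g) = (HM i g).comp (HM i f) := by
  show ((homologyFunctor (ModuleCat.{u} A) i).map (f ≫ g)).hom = _
  rw [Functor.map_comp]
  rfl

lemma HM_smul_id (i : ℤ) (r : A) (X : Dual.D A) (x : Dual.HD A X i) :
    HM i (r • 𝟙 X) x = r • x := by
  show ((homologyFunctor (ModuleCat.{u} A) i).map (r • 𝟙 X)).hom x = _
  rw [Functor.map_smul, CategoryTheory.Functor.map_id]
  rfl

lemma HM_bijective_of_isIso (i : ℤ) {X Y : Dual.D A} (f : X ⟶ Y) [IsIso f] :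
    Function.Bijective (HM i f) :=
  (ConcreteCategory.isIso_iff_bijective ((homologyFunctor (ModuleCat.{u} A) i).map f)).1
    inferInstance

variable {T T' : Triangle (Dual.D A)}

lemma exact₁ (hT : T ∈ distTriang _) (n₀ n₁ : ℤ) (h : n₀ + 1 = n₁) :
    Function.Exact (dl T n₀ n₁ h) (HM n₁ T.mor₁) := by
  have hex := HomologySequence.exact₁ T hT n₀ n₁ h
  rw [ShortComplex.ShortExact.moduleCat_exact_iff_function_exact] at hex
  exact hex

lemma exact₂ (hT : T ∈ distTriang _) (n : ℤ) :
    Function.Exact (HM n T.mor₁) (HM n T.mor₂) := by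
  have hex := HomologySequence.exact₂ T hT n
  rw [ShortComplex.ShortExact.moduleCat_exact_iff_function_exact] at hex
  exact hex

lemma exact₃ (hT : T ∈ distTriang _) (n₀ n₁ : ℤ) (h : n₀ + 1 = n₁) :
    Function.Exact (HM n₀ T.mor₂) (dl T n₀ n₁ h) := by
  have hex := HomologySequence.exact₃ T hT n₀ n₁ h
  rw [ShortComplex.ShortExact.moduleCat_exact_iff_function_exact] at hex
  exact hex

lemma comm₁ (φ : T ⟶ T') (n : ℤ) :
    (HM n T'.mor₁).comp (HM n φ.hom₁) = (HM n φ.hom₂).comp (HM n T.mor₁) := by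
  rw [← HM_comp, ← HM_comp, φ.comm₁]

lemma comm₂ (φ : T ⟶ T') (n : ℤ) :
    (HM n T'.mor₂).comp (HM n φ.hom₂) = (HM n φ.hom₃).comp (HM n T.mor₂) := by
  rw [← HM_comp, ← HM_comp, φ.comm₂]

lemma comm₃ (φ : T ⟶ T') (n₀ n₁ : ℤ) (h : n₀ + 1 = n₁) :
    (dl T' n₀ n₁ h).comp (HM n₀ φ.hom₃) = (HM n₁ φ.hom₁).comp (dl T n₀ n₁ h) := by
  have := (homologyFunctor (ModuleCat.{u} A) 0).homologySequenceδ_naturality T T' φ n₀ n₁ h
  exact congrArg (fun ψ => ψ.hom) this

/-- **five lemma** for the middle terms of a morphism of distinguished triangles -/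
theorem bijective_hom₂ (hT : T ∈ distTriang _) (hT' : T' ∈ distTriang _) (φ : T ⟶ T') (i : ℤ)
    (h1 : Function.Surjective (HM (i - 1) φ.hom₃)) (h2 : Function.Bijective (HM i φ.hom₁))
    (h3 : Function.Bijective (HM i φ.hom₃)) (h4 : Function.Injective (HM (i + 1) φ.hom₁)) :
    Function.Bijective (HM i φ.hom₂) :=
  LinearMap.bijective_of_surjective_of_bijective_of_bijective_of_injective
    (dl T (i - 1) i (by omega)) (HM i T.mor₁) (HM i T.mor₂) (dl T i (i + 1) rfl)
    (dl T' (i - 1) i (by omega)) (HM i T'.mor₁) (HM i T'.mor₂) (dl T' i (i + 1) rfl)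
    (HM (i - 1) φ.hom₃) (HM i φ.hom₁) (HM i φ.hom₂) (HM i φ.hom₃) (HM (i + 1) φ.hom₁)
    (comm₃ φ _ _ _) (comm₁ φ _) (comm₂ φ _) (comm₃ φ _ _ _)
    (exact₁ hT _ _ _) (exact₂ hT _) (exact₃ hT _ _ _)
    (exact₁ hT' _ _ _) (exact₂ hT' _) (exact₃ hT' _ _ _) h1 h2 h3 h4

/-- if the first maps of two distinguished triangles act as zero on `H^i`, bijectivity in degree
`i - 1` on the second and third vertices propagates to degree `i` on the first vertex -/
theorem bijective_hom₁_of_zero (hT : T ∈ distTriang _) (hT' : T' ∈ distTriang _) (φ : T ⟶ T')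
    (i₀ i : ℤ) (hi : i₀ + 1 = i)
    (hz : ∀ x, HM i T.mor₁ x = 0) (hz' : ∀ x, HM i T'.mor₁ x = 0)
    (h2 : Function.Surjective (HM i₀ φ.hom₂)) (h3 : Function.Bijective (HM i₀ φ.hom₃)) :
    Function.Bijective (HM i φ.hom₁) := by
  have hs : Function.Surjective (dl T i₀ i hi) := fun x => ((exact₁ hT i₀ i hi) x).1 (hz x)
  have hs' : Function.Surjective (dl T' i₀ i hi) := fun x => ((exact₁ hT' i₀ i hi) x).1 (hz' x)
  have hc3 : ∀ w, dl T' i₀ i hi (HM i₀ φ.hom₃ w) = HM i φ.hom₁ (dl T i₀ i hi w) := fun w =>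
    LinearMap.congr_fun (comm₃ φ i₀ i hi) w
  have hc2 : ∀ u, HM i₀ T'.mor₂ (HM i₀ φ.hom₂ u) = HM i₀ φ.hom₃ (HM i₀ T.mor₂ u) := fun u =>
    LinearMap.congr_fun (comm₂ φ i₀) u
  constructor
  · rw [injective_iff_map_eq_zero]
    intro x hx
    obtain ⟨w, rfl⟩ := hs x
    rw [← hc3] at hx
    obtain ⟨v, hv⟩ := ((exact₃ hT' i₀ i hi) _).1 hx
    obtain ⟨u, rfl⟩ := h2 v
    rw [hc2] at hv
    have hw : HM i₀ T.mor₂ u = w := h3.1 hv
    rw [← hw]
    exact ((exact₃ hT i₀ i hi) _).2 ⟨u, rfl⟩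
  · intro y
    obtain ⟨z, rfl⟩ := hs' y
    obtain ⟨w, rfl⟩ := h3.2 z
    exact ⟨dl T i₀ i hi w, (hc3 w).symm⟩

end Ladder

end Groth.Agent.Helper9.BS1
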