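import Mathlib
import Groth.Prelude.Def_DRing4
import Groth.Agent.Helper6.HomTenB
import Groth.Agent.Helper6.KProjQ

/-!
# `Hom•(-, X)`: functoriality and homotopy invariance in the first variable
-/

set_option autoImplicit false
universe u
open CategoryTheory CategoryTheory.Limits MonoidalCategory
open CochainComplex CochainComplex.HomComplex
open Groth.Agent.Helper6 Groth.Agent.Helper6.HomTen

namespace Groth.Agent.Helper9.HomK

variable {A : Type u} [CommRing A]
variable {P P' P'' : DRing.Cx A}

lemma homCxPre_id (P X : DRing.Cx A) : homCxPre (𝟙 P) X = 𝟙 _ := by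
  refine HomologicalComplex.hom_ext _ _ (fun n => ?_)
  ext (z : Cochain P X n)
  refine Cochain.ext _ _ (fun p q hpq => ?_)
  rw [homCxPre_v, HomologicalComplex.id_f, Category.id_comp]
  rfl

lemma homCxPre_comp (φ : P ⟶ P') (ψ : P' ⟶ P'') (X : DRing.Cx A) :
    homCxPre (φ ≫ ψ) X = homCxPre ψ X ≫ homCxPre φ X := by
  refine HomologicalComplex.hom_ext _ _ (fun n => ?_)
  ext (z : Cochain P'' X n)
  refine Cochain.ext _ _ (fun p q hpq => ?_)
  let w : Cochain P' X n := ((homCxPre ψ X).f n).hom z
  have hw : w.v p q hpq = ψ.f p ≫ z.v p q hpq := homCxPre_v ψ X n z p q hpq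
  have e : (((homCxPre ψ X ≫ homCxPre φ X).f n).hom z : Cochain P X n).v p q hpq =
      (((homCxPre φ X).f n).hom w : Cochain P X n).v p q hpq := rfl
  rw [e, homCxPre_v, homCxPre_v, hw, HomologicalComplex.comp_f, Category.assoc]

/-- left composition with a cochain, as a linear map -/
noncomputable def lcompLin {m : ℤ} (η : Cochain P P' m) (X : DRing.Cx A)
    (i j : ℤ) (hij : m + i = j) : Cochain P' X i →ₗ[A] Cochain P X j where
  toFun z := (i.negOnePow : ℤˣ) • η.comp z hij
  map_add' z z' := by rw [Cochain.comp_add, smul_add]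
  map_smul' a z := by rw [Cochain.comp_smul, smul_comm]; rfl

/-- `Hom•(-, X)` preserves homotopies -/
theorem homCxPre_homotopy (φ ψ : P ⟶ P') (X : DRing.Cx A)
    (h : Homotopy φ ψ) : Nonempty (Homotopy (homCxPre φ X) (homCxPre ψ X)) := by
  obtain ⟨η, hη⟩ := Cochain.equivHomotopy φ ψ h
  let Θ : Cochain (DRing.homCx P' X) (DRing.homCx P X) (-1) :=
    Cochain.mk (fun p q hpq => ModuleCat.ofHom (lcompLin η X p q (by omega)))
  refine ⟨(Cochain.equivHomotopy _ _).symm ⟨Θ, ?_⟩⟩
  ext p (z : Cochain P' X p)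
  rw [Cochain.add_v, Cochain.ofHom_v, Cochain.ofHom_v,
    δ_v (-1) 0 (neg_add_cancel 1) Θ p p (add_zero p) (p - 1) (p + 1) rfl rfl,
    Int.negOnePow_zero, one_smul]
  have hz1 : (Cochain.ofHom φ).comp z (zero_add p) =
      (δ (-1) 0 η).comp z (zero_add p) + (Cochain.ofHom ψ).comp z (zero_add p) := by
    rw [hη, Cochain.add_comp]
  have hz2 := δ_comp η z (show (-1) + p = p - 1 by omega) 0 (p + 1) p (by omega) (by omega) rfl
  show (Cochain.ofHom φ).comp z (zero_add p) =
    (δ (p - 1) p ((p.negOnePow : ℤˣ) • η.comp z (show (-1) + p = p - 1 by omega)) +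
      (((p + 1).negOnePow : ℤˣ) • (η.comp (δ p (p + 1) z) (show (-1) + (p + 1) = p by omega)))) +
      (Cochain.ofHom ψ).comp z (zero_add p)
  rw [δ_units_smul, hz1, hz2, Int.negOnePow_succ, smul_add, smul_smul, Int.units_mul_self, one_smul,
    Units.neg_smul]
  abel


/-- a homotopy equivalence in the first variable induces one on Hom complexes -/
theorem nonempty_homotopyEquiv_homCx (e : HomotopyEquiv P P') (X : DRing.Cx A) :
    Nonempty (HomotopyEquiv (DRing.homCx P' X) (DRing.homCx P X)) := by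
  obtain ⟨h1⟩ := homCxPre_homotopy (e.hom ≫ e.inv) (𝟙 P) X e.homotopyHomInvId
  obtain ⟨h2⟩ := homCxPre_homotopy (e.inv ≫ e.hom) (𝟙 P') X e.homotopyInvHomId
  exact ⟨{ hom := homCxPre e.hom X
           inv := homCxPre e.inv X
           homotopyHomInvId := (Homotopy.ofEq (homCxPre_comp e.inv e.hom X).symm).trans
             (h2.trans (Homotopy.ofEq (homCxPre_id P' X)))
           homotopyInvHomId := (Homotopy.ofEq (homCxPre_comp e.hom e.inv X).symm).trans
             (h1.trans (Homotopy.ofEq (homCxPre_id P X))) }⟩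

attribute [local instance] HasDerivedCategory.standard

/-- an isomorphism in the derived category between K-projective complexes lifts to a homotopy
equivalence -/
theorem nonempty_homotopyEquiv_of_iso (E P : DRing.Cx A) [E.IsKProjective] [P.IsKProjective]
    (e : DerivedCategory.Q.obj E ≅ DerivedCategory.Q.obj P) : Nonempty (HomotopyEquiv E P) := by
  obtain ⟨f, hf⟩ := KProjQ.Q_map_surjective E P e.hom
  obtain ⟨g, hg⟩ := KProjQ.Q_map_surjective P E e.inv
  obtain ⟨h1⟩ := KProjQ.homotopy_of_Q_map_eq (f ≫ g) (𝟙 E) (by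
    rw [Functor.map_comp, hf, hg, e.hom_inv_id, CategoryTheory.Functor.map_id])
  obtain ⟨h2⟩ := KProjQ.homotopy_of_Q_map_eq (g ≫ f) (𝟙 P) (by
    rw [Functor.map_comp, hf, hg, e.inv_hom_id, CategoryTheory.Functor.map_id])
  exact ⟨{ hom := f, inv := g, homotopyHomInvId := h1, homotopyInvHomId := h2 }⟩

lemma isKProjective_of_vanishesAbove (P : DRing.Cx A) (b : ℤ) (hPb : DRing.VanishesAbove P b)
    (hPp : ∀ i : ℤ, Module.Projective A (P.X i)) : P.IsKProjective := by
  have : P.IsStrictlyLE b := CochainComplex.isStrictlyLE_iff P b |>.mpr (fun i hi => hPb i hi)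
  have : ∀ i : ℤ, Projective (P.X i) := fun i =>
    (IsProjective.iff_projective (P.X i)).mp (hPp i)
  exact CochainComplex.isKProjective_of_projective P b

/-- reduction of K-flatness of `Hom•(P, K)`, `P` perfect and bounded above projective, to the case
of bounded complexes of finite projective modules -/
theorem kflat_homCx_of_perfect (P K : DRing.Cx A) (b : ℤ)
    (hPb : DRing.VanishesAbove P b) (hPp : ∀ i : ℤ, Module.Projective A (P.X i))
    (hperf : DRing.IsPerfect A (DRing.toD P))
    (hc : ∀ (E : DRing.Cx A) (a b : ℤ), DRing.VanishesOutside E a b →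
      DRing.TermwiseFiniteProjective E → TenCx.KFlat (DRing.homCx E K)) :
    TenCx.KFlat (DRing.homCx P K) := by
  obtain ⟨E, a, b', hE, hEp, ⟨e⟩⟩ := hperf
  have := isKProjective_of_vanishesAbove P b hPb hPp
  have := isKProjective_of_vanishesAbove E b' (fun i hi => hE i (Or.inr hi)) (fun i => (hEp i).2)
  obtain ⟨he⟩ := nonempty_homotopyEquiv_of_iso E P e
  obtain ⟨he'⟩ := nonempty_homotopyEquiv_homCx he K
  exact TenCx.kflat_of_homotopyEquiv he'.symm (hc E a b' hE hEp)

end Groth.Agent.Helper9.HomK
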