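import Mathlib
import Groth.Prelude.Def_DRing4
import Groth.Agent.Helper9.HomK1

/-!
# The class of complexes `F` such that `Hom•(F, K)` is K-flat for all K-flat `K`: closure properties
-/

set_option autoImplicit false
universe u
open CategoryTheory CategoryTheory.Limits MonoidalCategory
open CochainComplex CochainComplex.HomComplex
open Groth.Agent.Helper6 Groth.Agent.Helper6.HomTen

namespace Groth.Agent.Helper9.HomK

variable {A : Type u} [CommRing A]

/-- K-flatness passes to retracts -/
theorem kflat_of_retract {X Y : DRing.Cx A} (i : X ⟶ Y) (r : Y ⟶ X) (hir : i ≫ r = 𝟙 X)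
    (hY : TenCx.KFlat Y) : TenCx.KFlat X := by
  intro L hL n
  have h1 : (L ◁ i) ≫ (L ◁ r) = 𝟙 _ := by
    rw [← MonoidalCategory.whiskerLeft_comp, hir, MonoidalCategory.whiskerLeft_id]
  have h2 : HomologicalComplex.homologyMap (L ◁ i) n ≫ HomologicalComplex.homologyMap (L ◁ r) n =
      𝟙 _ := by
    rw [← HomologicalComplex.homologyMap_comp, h1, HomologicalComplex.homologyMap_id]
  rw [IsZero.iff_id_eq_zero, ← h2, (hY L hL n).eq_of_tgt (HomologicalComplex.homologyMap (L ◁ i) n) 0,
    zero_comp]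

theorem kflat_of_iso {X Y : DRing.Cx A} (e : X ≅ Y) (hY : TenCx.KFlat Y) : TenCx.KFlat X :=
  kflat_of_retract e.hom e.inv e.hom_inv_id hY

/-- the class of complexes `F` such that `Hom•(F, K)` is K-flat for all K-flat `K` -/
def PGood (F : DRing.Cx A) : Prop :=
  ∀ K : DRing.Cx A, TenCx.KFlat K → TenCx.KFlat (DRing.homCx F K)

theorem pgood_of_retract {F F' : DRing.Cx A} (i : F ⟶ F') (r : F' ⟶ F) (hir : i ≫ r = 𝟙 F)
    (h : PGood F') : PGood F := fun K hK =>
  kflat_of_retract (homCxPre r K) (homCxPre i K)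
    (by rw [← homCxPre_comp, hir, homCxPre_id]) (h K hK)

theorem pgood_of_iso {F F' : DRing.Cx A} (e : F ≅ F') (h : PGood F') : PGood F :=
  pgood_of_retract e.hom e.inv e.hom_inv_id h

/-- closure under degreewise split extensions -/
theorem pgood_of_ses (S : ShortComplex (DRing.Cx A))
    (σ : ∀ n, (S.map (HomologicalComplex.eval _ _ n)).Splitting)
    (h1 : PGood S.X₁) (h3 : PGood S.X₃) : PGood S.X₂ := by
  intro K hK L hL n
  have hS' : (homSC S K).ShortExact := homSC_shortExact K σ
  have hT : (TenCx.tenSC L (homSC S K)).ShortExact := by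
    apply TenCx.tenSC_shortExact' L hS'
    intro M q
    -- `(homSC S K).f.f q = preLin S.g K q` has a retraction
    let s : ∀ p, S.X₃.X p ⟶ S.X₂.X p := fun p => (σ p).s
    have hs : ∀ p, s p ≫ S.g.f p = 𝟙 _ := fun p => (σ p).s_g
    let ρ : Cochain S.X₂ K q →ₗ[A] Cochain S.X₃ K q :=
      { toFun := fun z => Cochain.mk (fun p p' hpp' => s p ≫ z.v p p' hpp')
        map_add' := fun z z' => by
          refine Cochain.ext _ _ (fun p p' hpp' => ?_)
          rw [Cochain.mk_v, Cochain.add_v, Cochain.add_v, Cochain.mk_v, Cochain.mk_v,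
            Preadditive.comp_add]
        map_smul' := fun a z => by
          refine Cochain.ext _ _ (fun p p' hpp' => ?_)
          rw [Cochain.mk_v, Cochain.smul_v, RingHom.id_apply, Cochain.smul_v, Cochain.mk_v,
            Linear.comp_smul] }
    let ρ' : (homSC S K).X₂.X q ⟶ (homSC S K).X₁.X q := ModuleCat.ofHom ρ
    have hρ : (homSC S K).f.f q ≫ ρ' = 𝟙 _ := by
      ext (z : Cochain S.X₃ K q)
      refine Cochain.ext _ _ (fun p p' hpp' => ?_)
      change s p ≫ (preLin S.g K q z).v p p' hpp' = z.v p p' hpp'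
      rw [preLin_v, ← Category.assoc, hs p, Category.id_comp]
    have h1 : (M ◁ (homSC S K).f.f q) ≫ (M ◁ ρ') = 𝟙 _ := by
      rw [← MonoidalCategory.whiskerLeft_comp, hρ, MonoidalCategory.whiskerLeft_id]
    intro a b hab
    have ha : (M ◁ ρ') ((M ◁ (homSC S K).f.f q) a) = a :=
      congrArg (fun t => t.hom a) h1
    have hb : (M ◁ ρ') ((M ◁ (homSC S K).f.f q) b) = b :=
      congrArg (fun t => t.hom b) h1
    rw [← ha, ← hb]
    exact congrArg _ hab
  exact TenCx.acyclic₂ hT (h3 K hK L hL) (h1 K hK L hL) n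

end Groth.Agent.Helper9.HomK
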