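import Mathlib
import Groth.Prelude.Def_DRing4
import Groth.Agent.Helper9.HomK2
import Groth.Agent.Helper9.KFlat3

/-!
# The class `PGood`: the unit and shifts
-/

set_option autoImplicit false
universe u
open CategoryTheory CategoryTheory.Limits MonoidalCategory
open CochainComplex CochainComplex.HomComplex
open Groth.Agent.Helper6 Groth.Agent.Helper6.HomTen

namespace Groth.Agent.Helper9.HomK

variable {A : Type u} [CommRing A]

theorem pgood_unit : PGood (𝟙_ (DRing.Cx A)) := by
  intro K hK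
  let adj' : tensorRight (𝟙_ (DRing.Cx A)) ⊣ 𝟭 (DRing.Cx A) :=
    Adjunction.id.ofNatIsoLeft (rightUnitorNatIso (DRing.Cx A)).symm
  let e : DRing.homCxFunctor (𝟙_ (DRing.Cx A)) ≅ 𝟭 (DRing.Cx A) :=
    Adjunction.rightAdjointUniq (adjC _) adj'
  exact kflat_of_iso (e.app K) hK

/-- K-flatness is invariant under shift -/
theorem kflat_shift {X : DRing.Cx A} (hX : TenCx.KFlat X) (n : ℤ) : TenCx.KFlat (X⟦n⟧) := by
  intro L hL
  have e := CochainComplex.mapBifunctorShift₂Iso L X (curriedTensor (ModuleCat.{u} A)) n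
  have h := (KFlat3.acyclic_shift_iff
    (HomologicalComplex.mapBifunctor L X (curriedTensor (ModuleCat.{u} A)) (ComplexShape.up ℤ)) n).2
    ((KFlat3.acyclic_iff_isZero_homology _).2 (hX L hL))
  rw [KFlat3.acyclic_iff_isZero_homology] at h
  intro i
  exact IsZero.of_iso (h i) ((HomologicalComplex.homologyFunctor _ _ i).mapIso e)

/-- `Hom•(F⟦a⟧, K) ≅ Hom•(F, K)⟦-a⟧` -/
noncomputable def homCxShiftIso (F K : DRing.Cx A) (a : ℤ) :
    (DRing.homCx F K)⟦-a⟧ ≅ DRing.homCx (F⟦a⟧) K :=
  HomologicalComplex.Hom.isoOfComponents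
    (fun n' => (Cochain.leftShiftLinearEquiv A F K (n' + -a) a n' (by omega)).toModuleIso)
    (fun n' m' _ => by
      ext (γ : Cochain F K (n' + -a))
      change δ n' m' (γ.leftShift a n' (by omega)) =
        (((-a).negOnePow : ℤˣ) • δ (n' + -a) (m' + -a) γ).leftShift a m' (by omega)
      rw [Cochain.leftShift_units_smul, Int.negOnePow_neg]
      exact Cochain.δ_leftShift γ a n' m' (by omega) (m' + -a) (by omega))

theorem pgood_shift {F : DRing.Cx A} (h : PGood F) (a : ℤ) : PGood (F⟦a⟧) := fun K hK =>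
  kflat_of_iso (homCxShiftIso F K a).symm (kflat_shift (h K hK) (-a))

end Groth.Agent.Helper9.HomK
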