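import Mathlib
import Groth.Prelude.Def_DRing4
import Groth.Agent.Helper6.HomTenA
import Groth.Agent.Helper6.KzTen1
import Groth.Agent.Helper6.TenCx

/-!
# `Hom•(P, J)` is K-injective for `P` K-flat and `J` K-injective
-/

set_option autoImplicit false
set_option linter.style.haveILetI false
set_option linter.unusedSectionVars false

universe u

open CategoryTheory CategoryTheory.Limits MonoidalCategory CochainComplex HomComplex

namespace Groth.Agent.Helper9.HomT1

open Groth.Agent.Helper6.TenCx Groth.Agent.Helper6.HomTen Groth.Agent.Helper6.KzTen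

variable {A : Type u} [CommRing A]

section Null

variable {C : Type*} [Category C] [Abelian C]

/-- a null-homotopic map extends to the cone of the identity -/
lemma exists_desc_of_homotopy {W H : CochainComplex C ℤ} (f : W ⟶ H) (h : Homotopy f 0) :
    ∃ F : mappingCone (𝟙 W) ⟶ H, mappingCone.inr (𝟙 W) ≫ F = f := by
  obtain ⟨z, hz⟩ := Cochain.equivHomotopy f 0 h
  refine ⟨mappingCone.desc (𝟙 W) z f ?_, mappingCone.inr_desc _ _ _ _⟩
  rw [Category.id_comp, hz, Cochain.ofHom_zero, add_zero]

/-- a map which extends to the cone of the identity is null-homotopic -/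
lemma homotopy_of_desc {W H : CochainComplex C ℤ} (f : W ⟶ H)
    (F : mappingCone (𝟙 W) ⟶ H) (hF : mappingCone.inr (𝟙 W) ≫ F = f) :
    Nonempty (Homotopy f 0) := by
  have h0 : Homotopy (mappingCone.inr (𝟙 W)) 0 :=
    (Cochain.equivHomotopy _ _).symm ⟨mappingCone.inl (𝟙 W), by
      rw [mappingCone.δ_inl, Category.id_comp, Cochain.ofHom_zero, add_zero]⟩
  exact ⟨(Homotopy.ofEq hF.symm).trans ((h0.compRight F).trans (Homotopy.ofEq zero_comp))⟩

end Null

section ConeTensor

variable {K L : DRing.Cx A} (φ : K ⟶ L) (Y : DRing.Cx A)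

lemma inr_whiskerRight_coneTensorIso :
    (mappingCone.inr φ ▷ Y) ≫ (coneTensorIso φ Y).hom = mappingCone.inr (φ ▷ Y) := by
  ext n : 1
  apply Groth.Agent.Helper6.TenCx.hom_ext
  intro p q hpq
  have e1 := ι_fwdF φ Y p (p + 1) q n (n + 1) rfl hpq rfl
  have e2 := ι_whiskerRight (mappingCone.inr φ) Y p q n hpq
  show ι L Y p q n hpq ≫ (mappingCone.inr φ ▷ Y).f n ≫ fwdF φ Y n =
    ι L Y p q n hpq ≫ (mappingCone.inr (φ ▷ Y)).f n
  rw [reassoc_of% e2, e1]
  unfold fwdComp
  rw [Preadditive.comp_add, ← comp_whiskerRight_assoc, ← comp_whiskerRight_assoc,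
    mappingCone.inr_f_fst_v, mappingCone.inr_f_snd_v, id_whiskerRight, Category.id_comp,
    MonoidalPreadditive.zero_whiskerRight, zero_comp, zero_add]

end ConeTensor

section Main

variable (P J : DRing.Cx A)

/-- the cone of the identity of `W ⊗ P` -/
noncomputable def coneIdIso (W : DRing.Cx A) :
    mappingCone (𝟙 W) ⊗ P ≅ mappingCone (𝟙 (W ⊗ P)) :=
  coneTensorIso (𝟙 W) P ≪≫ eqToIso (by rw [id_whiskerRight])

lemma inr_coneIdIso (W : DRing.Cx A) :
    (mappingCone.inr (𝟙 W) ▷ P) ≫ (coneIdIso P W).hom = mappingCone.inr (𝟙 (W ⊗ P)) := by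
  unfold coneIdIso
  rw [Iso.trans_hom, ← Category.assoc, inr_whiskerRight_coneTensorIso]
  have key : ∀ (ψ : W ⊗ P ⟶ W ⊗ P) (h : ψ = 𝟙 (W ⊗ P)),
      mappingCone.inr ψ ≫ (eqToIso (show mappingCone ψ = mappingCone (𝟙 (W ⊗ P)) by rw [h])).hom =
        mappingCone.inr (𝟙 (W ⊗ P)) := by
    intro ψ h
    subst h
    simp
  exact key _ (id_whiskerRight W P)

theorem isKInjective_homCx (hP : KFlat P) [J.IsKInjective] : (DRing.homCx P J).IsKInjective := by
  constructor
  intro W f hW
  have hWP : (W ⊗ P).Acyclic := by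
    intro i
    rw [HomologicalComplex.exactAt_iff_isZero_homology]
    exact hP W (fun i => (HomologicalComplex.exactAt_iff_isZero_homology _ _).1 (hW i)) i
  have h := IsKInjective.homotopyZero (uncurry f) hWP
  obtain ⟨G, hG⟩ := exists_desc_of_homotopy (uncurry f) h
  refine homotopy_of_desc f (curry ((coneIdIso P W).hom ≫ G)) ?_
  have h1 : uncurry (mappingCone.inr (𝟙 W) ≫ curry ((coneIdIso P W).hom ≫ G)) = uncurry f := by
    rw [uncurry_naturality_left, uncurry_curry, ← Category.assoc, inr_coneIdIso, hG]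
  have h2 := congrArg curry h1
  rwa [curry_uncurry, curry_uncurry] at h2

end Main

end Groth.Agent.Helper9.HomT1
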