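import Mathlib
import Groth.Prelude.Def_DRing4
import Groth.Agent.Helper6.HomTenB
import Groth.Agent.Helper6.DComplTri
import Groth.Agent.Helper6.KProjQ
import Groth.Agent.Helper9.HomT1
import Groth.Agent.Helper9.HomK1
import Groth.Agent.Helper9.InjAmp
import Groth.Agent.Helper9.PerfCone

/-!
# Morphisms into `Q Hom•(P, J)`; locality of `Q Hom•(P, J)`
-/

set_option autoImplicit false
set_option linter.style.haveILetI false
set_option linter.unusedSectionVars false

universe u

open CategoryTheory CategoryTheory.Limits MonoidalCategory CochainComplex HomComplex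
open DerivedCategory

namespace Groth.Agent.Helper9.HomT3

open Groth.Agent.Helper6.TenCx Groth.Agent.Helper6.HomTen Groth.Agent.Helper9.HomT1
open Groth.Agent.Helper9.HomK Groth.Agent.Helper6.DComplTri

attribute [local instance] HasDerivedCategory.standard

variable {A : Type u} [CommRing A]

section Transport

variable (P J : DRing.Cx A)

/-- null-homotopies can be curried -/
theorem homotopy_zero_of_uncurry {W : DRing.Cx A} (f : W ⟶ DRing.homCx P J)
    (h : Homotopy (uncurry f) 0) : Nonempty (Homotopy f 0) := by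
  obtain ⟨G, hG⟩ := exists_desc_of_homotopy (uncurry f) h
  refine homotopy_of_desc f (curry ((coneIdIso P W).hom ≫ G)) ?_
  have h1 : uncurry (mappingCone.inr (𝟙 W) ≫ curry ((coneIdIso P W).hom ≫ G)) = uncurry f := by
    rw [uncurry_naturality_left, uncurry_curry, ← Category.assoc, inr_coneIdIso, hG]
  have h2 := congrArg curry h1
  rwa [curry_uncurry, curry_uncurry] at h2

/-- **Lemma K**: if all morphisms `Q(W ⊗ P) ⟶ Q J` vanish, so do all morphisms
`Q W ⟶ Q Hom•(P, J)` -/
theorem hom_eq_zero_of_tensor (hP : KFlat P) [J.IsKInjective] (W : DRing.Cx A)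
    (h : ∀ ψ : Q.obj (W ⊗ P) ⟶ Q.obj J, ψ = 0) (g : Q.obj W ⟶ Q.obj (DRing.homCx P J)) :
    g = 0 := by
  haveI := isKInjective_homCx P J hP
  obtain ⟨φ, rfl⟩ := Groth.Agent.Helper9.PerfCone.exists_map_eq_of_isKInjective W
    (DRing.homCx P J) g
  have h1 : Q.map (uncurry φ) = Q.map (0 : W ⊗ P ⟶ J) := by
    rw [h (Q.map (uncurry φ)), Functor.map_zero]
  obtain ⟨H⟩ := Groth.Agent.Helper9.InjAmp.homotopy_of_Q_map_eq_of_isKInjective _ J _ _ h1
  obtain ⟨H'⟩ := homotopy_zero_of_uncurry P J φ H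
  rw [Groth.Agent.Helper6.KProjQ.Q_map_eq_of_homotopy H', Functor.map_zero]

end Transport

section Local

variable (P J : DRing.Cx A)

lemma smul_id_homCx (a : A) : a • 𝟙 (DRing.homCx P J) = homCxPre (a • 𝟙 P) J := by
  refine HomologicalComplex.hom_ext _ _ (fun n => ?_)
  ext (z : Cochain P J n)
  refine Cochain.ext _ _ (fun p q hpq => ?_)
  rw [homCxPre_v]
  show (a • z).v p q hpq = (a • 𝟙 P).f p ≫ z.v p q hpq
  rw [HomologicalComplex.smul_f_apply, HomologicalComplex.id_f, Linear.smul_comp,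
    Category.id_comp]
  rfl

lemma isIso_homCxPre {P P' : DRing.Cx A} (φ : P ⟶ P') [IsIso φ] (X : DRing.Cx A) :
    IsIso (homCxPre φ X) :=
  ⟨⟨homCxPre (inv φ) X, by rw [← homCxPre_comp, IsIso.inv_hom_id, homCxPre_id],
    by rw [← homCxPre_comp, IsIso.hom_inv_id, homCxPre_id]⟩⟩

/-- `Q Hom•(P, J)` is `f`-local when `f` acts invertibly on `P` -/
theorem isLocal_homCx (f : A) (hf : IsIso (f • 𝟙 P)) : IsLocal f (Q.obj (DRing.homCx P J)) := by
  unfold IsLocal
  have h1 : f • 𝟙 (Q.obj (DRing.homCx P J)) = Q.map (homCxPre (f • 𝟙 P) J) := by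
    rw [← smul_id_homCx, Functor.map_smul, CategoryTheory.Functor.map_id]
  rw [h1]
  haveI := isIso_homCxPre (f • 𝟙 P) J
  infer_instance

end Local

end Groth.Agent.Helper9.HomT3
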