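import Mathlib
import Groth.Prelude.Def_DRing4
import Groth.Agent.Helper6.HomTenA
import Groth.Agent.Helper6.TorAR3
import Groth.Agent.Helper6.RHomInj
import Groth.Agent.Helper9.HomT1
import Groth.Agent.Helper9.LCT2

/-!
# `RHom(A_f, RHom(A_g, K)) ≅ RHom(A_{fg}, K)`
-/

set_option autoImplicit false
set_option linter.style.haveILetI false
set_option linter.unusedSectionVars false

universe u

open CategoryTheory CategoryTheory.Limits MonoidalCategory CochainComplex HomComplex

namespace Groth.Agent.Helper9.HomT2

open Groth.Agent.Helper6.TenCx Groth.Agent.Helper6.HomTen Groth.Agent.Helper6.SingleTen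
open Groth.Agent.Helper6.LTenAR2 Groth.Agent.Helper6.TorAR Groth.Agent.Helper9.HomT1

attribute [local instance] HasDerivedCategory.standard

variable {A : Type u} [CommRing A]

section Functors

/-- `Hom•(P, Hom•(P', X)) ≅ Hom•(P ⊗ P', X)`, naturally in `X` -/
noncomputable def homCxComp (P P' : DRing.Cx A) :
    DRing.homCxFunctor P' ⋙ DRing.homCxFunctor P ≅ DRing.homCxFunctor (P ⊗ P') :=
  Adjunction.rightAdjointUniq ((adjC P).comp (adjC P'))
    ((adjC (P ⊗ P')).ofNatIsoLeft (tensorRightTensor P P'))

/-- `Hom•(P, X) ≅ Hom•(P'', X)` for `P ≅ P''`, naturally in `X` -/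
noncomputable def homCxCongr {P P'' : DRing.Cx A} (e : P ≅ P'') :
    DRing.homCxFunctor P ≅ DRing.homCxFunctor P'' :=
  Adjunction.rightAdjointUniq (adjC P)
    ((adjC P'').ofNatIsoLeft ((tensoringRight (DRing.Cx A)).mapIso e.symm))

end Functors

section Single

variable (N N' : ModuleCat.{u} A)

/-- the degree-zero term of `N[0] ⊗ N'[0]` -/
noncomputable def φiso : (sN N ⊗ sN N').X 0 ≅ N ⊗ N' :=
  (ιIso N (sN N') 0).symm ≪≫ (isoS N ⊗ᵢ isoS N')

lemma isZero_X_of_ne (n : ℤ) (hn : n ≠ 0) : IsZero ((sN N ⊗ sN N').X n) :=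
  Groth.Agent.Helper6.LTenAR2.isZero_X N (sN N') n
    (HomologicalComplex.isZero_single_obj_X (ComplexShape.up ℤ) 0 N' n hn)

/-- `N[0] ⊗ N'[0] ≅ (N ⊗ N')[0]` -/
noncomputable def sgTensor : sN N ⊗ sN N' ≅ sN (N ⊗ N') where
  hom := HomologicalComplex.mkHomToSingle (φiso N N').hom (fun i hi =>
    (isZero_X_of_ne N N' i (by
      have : i + 1 = 0 := hi
      omega)).eq_of_src _ _)
  inv := HomologicalComplex.mkHomFromSingle (φiso N N').inv (fun k hk =>
    (isZero_X_of_ne N N' k (by
      have : 0 + 1 = k := hk
      omega)).eq_of_tgt _ _)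
  hom_inv_id := by
    ext n : 1
    by_cases hn : n = 0
    · subst hn
      rw [HomologicalComplex.comp_f, HomologicalComplex.mkHomToSingle_f,
        HomologicalComplex.mkHomFromSingle_f, Category.assoc, Iso.inv_hom_id_assoc,
        Iso.hom_inv_id, HomologicalComplex.id_f]
    · exact (isZero_X_of_ne N N' n hn).eq_of_src _ _
  inv_hom_id := by
    apply HomologicalComplex.from_single_hom_ext
    rw [HomologicalComplex.comp_f, HomologicalComplex.mkHomToSingle_f,
      HomologicalComplex.mkHomFromSingle_f, Category.assoc, Iso.inv_hom_id_assoc,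
      Iso.hom_inv_id, HomologicalComplex.id_f]

end Single

section Away

variable (f g : A)

instance away_mul_tensor :
    IsLocalization.Away (f * g)
      (TensorProduct A (Localization.Away f) (Localization.Away g)) := by
  haveI h1 : IsLocalization
      (Algebra.algebraMapSubmonoid (Localization.Away f) (Submonoid.powers g))
      (TensorProduct A (Localization.Away f) (Localization.Away g)) :=
    IsLocalization.tensor (Localization.Away g) (Submonoid.powers g)
  haveI h2 : IsLocalization.Away (algebraMap A (Localization.Away f) g)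
      (TensorProduct A (Localization.Away f) (Localization.Away g)) := by
    have h3 : Algebra.algebraMapSubmonoid (Localization.Away f) (Submonoid.powers g) =
        Submonoid.powers (algebraMap A (Localization.Away f) g) := Submonoid.map_powers _ _
    rw [h3] at h1
    exact h1
  exact IsLocalization.Away.mul' (Localization.Away f) _ f g

/-- `A_f ⊗ A_g ≃ A_{fg}` -/
noncomputable def awayTensorEquiv :
    TensorProduct A (Localization.Away f) (Localization.Away g) ≃ₗ[A] Localization.Away (f * g) :=
  (IsLocalization.algEquiv (Submonoid.powers (f * g))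
    (TensorProduct A (Localization.Away f) (Localization.Away g))
    (Localization.Away (f * g))).toLinearEquiv

/-- `A_f ⊗ A_g ≅ A_{fg}` in `ModuleCat` -/
noncomputable def awayTensorIso :
    ModuleCat.of A (Localization.Away f) ⊗ ModuleCat.of A (Localization.Away g) ≅
      ModuleCat.of A (Localization.Away (f * g)) :=
  (awayTensorEquiv f g).toModuleIso

end Away

section Main

lemma kflat_sN (N : ModuleCat.{u} A) [Module.Flat A N] : KFlat (sN N) := by
  refine kflat_of_boundedAbove_flat _ 0 (fun i hi =>
    HomologicalComplex.isZero_single_obj_X (ComplexShape.up ℤ) 0 N i (by omega)) (fun i => ?_)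
  by_cases hi : i = 0
  · subst hi
    exact Module.Flat.of_linearEquiv (isoS N).toLinearEquiv
  · haveI : Subsingleton ((sN N).X i) := ModuleCat.subsingleton_of_isZero
      (HomologicalComplex.isZero_single_obj_X (ComplexShape.up ℤ) 0 N i hi)
    haveI : Module.Free A ((sN N).X i) := Module.Free.of_subsingleton A _
    infer_instance

instance isKInjective_homCx_sN (N : ModuleCat.{u} A) [Module.Flat A N] (J : DRing.Cx A)
    [J.IsKInjective] : (DRing.homCx (sN N) J).IsKInjective :=
  isKInjective_homCx (sN N) J (kflat_sN N)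

open Groth.Agent.Helper6.RHomInj in
theorem main (f g : A)
    [DRing.HasRHomCx (sN (ModuleCat.of A (Localization.Away f)))]
    [DRing.HasRHomCx (sN (ModuleCat.of A (Localization.Away g)))]
    [DRing.HasRHomCx (sN (ModuleCat.of A (Localization.Away (f * g))))]
    (K : Dual.D A) :
    Nonempty ((DRing.RHomCx (sN (ModuleCat.of A (Localization.Away f)))).obj
        ((DRing.RHomCx (sN (ModuleCat.of A (Localization.Away g)))).obj K) ≅
      (DRing.RHomCx (sN (ModuleCat.of A (Localization.Away (f * g))))).obj K) := by
  obtain ⟨J, e, hJ, -⟩ := Groth.Agent.Helper9.LCT2.exists_rep K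
  haveI := hJ
  haveI : Module.Flat A (ModuleCat.of A (Localization.Away f)) :=
    inferInstanceAs (Module.Flat A (Localization.Away f))
  haveI : Module.Flat A (ModuleCat.of A (Localization.Away g)) :=
    inferInstanceAs (Module.Flat A (Localization.Away g))
  let e1 : (DRing.RHomCx (sN (ModuleCat.of A (Localization.Away g)))).obj K ≅
      DRing.toD (DRing.homCx (sN (ModuleCat.of A (Localization.Away g))) J) :=
    (DRing.RHomCx _).mapIso e ≪≫ rhomIso _ J
  let e2 : (DRing.RHomCx (sN (ModuleCat.of A (Localization.Away f)))).obj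
        ((DRing.RHomCx (sN (ModuleCat.of A (Localization.Away g)))).obj K) ≅
      DRing.toD (DRing.homCx (sN (ModuleCat.of A (Localization.Away f)))
        (DRing.homCx (sN (ModuleCat.of A (Localization.Away g))) J)) :=
    (DRing.RHomCx _).mapIso e1 ≪≫ rhomIso _ _
  let e3 : DRing.homCx (sN (ModuleCat.of A (Localization.Away f)))
        (DRing.homCx (sN (ModuleCat.of A (Localization.Away g))) J) ≅
      DRing.homCx (sN (ModuleCat.of A (Localization.Away (f * g)))) J :=
    (homCxComp _ _).app J ≪≫
      (homCxCongr (sgTensor _ _ ≪≫ Sg.mapIso (awayTensorIso f g))).app J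
  let e4 : (DRing.RHomCx (sN (ModuleCat.of A (Localization.Away (f * g))))).obj K ≅
      DRing.toD (DRing.homCx (sN (ModuleCat.of A (Localization.Away (f * g)))) J) :=
    (DRing.RHomCx _).mapIso e ≪≫ rhomIso _ J
  exact ⟨e2 ≪≫ DerivedCategory.Q.mapIso e3 ≪≫ e4.symm⟩

end Main

end Groth.Agent.Helper9.HomT2
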