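import Mathlib

/-!
# Ideals generated by powers of a list of generators: module-level facts
-/

set_option autoImplicit false

universe u

namespace Groth.Agent.Helper9.ProK4

variable {A : Type u} [CommRing A]

/-- the ideal generated by the `(n + 1)`-st powers of the members of a list -/
def bb (l : List A) (n : ℕ) : Ideal A := Ideal.ofList (l.map (· ^ (n + 1)))

lemma bb_nil (n : ℕ) : bb ([] : List A) n = ⊥ := Ideal.ofList_nil

lemma bb_cons (f : A) (l : List A) (n : ℕ) :
    bb (f :: l) n = Ideal.span {f ^ (n + 1)} ⊔ bb l n := by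
  unfold bb
  rw [List.map_cons, Ideal.ofList_cons]

lemma pow_mem_bb (l : List A) (n : ℕ) (x : A) (hx : x ∈ l) : x ^ (n + 1) ∈ bb l n :=
  Ideal.subset_span (List.mem_map.2 ⟨x, hx, rfl⟩)

lemma bb_le_iff (l : List A) (n : ℕ) (J : Ideal A) :
    bb l n ≤ J ↔ ∀ x ∈ l, x ^ (n + 1) ∈ J := by
  unfold bb Ideal.ofList
  rw [Ideal.span_le]
  constructor
  · intro h x hx
    exact h (List.mem_map.2 ⟨x, hx, rfl⟩)
  · rintro h y hy
    obtain ⟨x, hx, rfl⟩ := List.mem_map.1 hy
    exact h x hx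

lemma bb_le_pow (l : List A) (n : ℕ) : bb l n ≤ Ideal.ofList l ^ (n + 1) := by
  rw [bb_le_iff]
  intro x hx
  have h1 : x ∈ Ideal.ofList l := Ideal.subset_span (s := {y | y ∈ l}) hx
  exact Ideal.pow_mem_pow h1 _

lemma pow_le_bb (l : List A) (n : ℕ) :
    Ideal.ofList l ^ (l.length * (n + 1) + 1) ≤ bb l n := by
  induction l with
  | nil =>
    rw [bb_nil, Ideal.ofList_nil, List.length_nil, Nat.zero_mul, zero_add, pow_one]
  | cons f l ih =>
    rw [Ideal.ofList_cons, bb_cons, List.length_cons]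
    have h1 : (l.length + 1) * (n + 1) + 1 = (n + 1) + (l.length * (n + 1) + 1) := by ring
    rw [h1]
    refine le_trans Ideal.sup_pow_add_le_pow_sup_pow ?_
    rw [Ideal.span_singleton_pow]
    exact sup_le_sup le_rfl ih

lemma bb_anti (l : List A) : Antitone (bb l) := by
  intro n m h
  rw [bb_le_iff]
  intro x hx
  have h1 : x ^ (m + 1) = x ^ (m - n) * x ^ (n + 1) := by
    rw [← pow_add]
    congr 1
    omega
  rw [h1]
  exact Ideal.mul_mem_left _ _ (pow_mem_bb l n x hx)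

lemma bb_le_cons (f : A) (l : List A) (n : ℕ) : bb l n ≤ bb (f :: l) n := by
  rw [bb_cons]
  exact le_sup_right

lemma pow_mem_bb_cons (f : A) (l : List A) (n : ℕ) : f ^ (n + 1) ∈ bb (f :: l) n :=
  pow_mem_bb _ n f List.mem_cons_self

section Mod

variable {M : Type*} [AddCommGroup M] [Module A M]

lemma exists_sub_mem (g : A) (𝔠 : Ideal A) (x : M)
    (hx : x ∈ ((Ideal.span {g} ⊔ 𝔠) • ⊤ : Submodule A M)) :
    ∃ z : M, x - g • z ∈ (𝔠 • ⊤ : Submodule A M) := by
  rw [Submodule.sup_smul, Submodule.ideal_span_singleton_smul] at hx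
  obtain ⟨u, hu, w, hw, rfl⟩ := Submodule.mem_sup.1 hx
  obtain ⟨z, -, rfl⟩ := (Submodule.mem_smul_pointwise_iff_exists _ _ _).1 hu
  exact ⟨z, by rwa [add_sub_cancel_left]⟩

theorem torsion_bound [IsNoetherianRing A] [Module.Finite A M] (f : A) (l : List A) (n : ℕ) :
    ∃ m₀ : ℕ, ∀ m : ℕ, m₀ ≤ m → ∀ x : M,
      f ^ (m + 1) • x ∈ (bb l m • ⊤ : Submodule A M) →
        f ^ (m - n) • x ∈ (bb l n • ⊤ : Submodule A M) := by
  obtain ⟨s, hs⟩ : ∃ s : ℕ, s = l.length * (n + 1) + 1 := ⟨_, rfl⟩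
  obtain ⟨P, hP⟩ : ∃ P : Submodule A M, P = Ideal.ofList l ^ s • ⊤ := ⟨_, rfl⟩
  have hPle : P ≤ (bb l n • ⊤ : Submodule A M) := by
    rw [hP, hs]
    exact Submodule.smul_mono_left (pow_le_bb l n)
  have : IsNoetherian A M := isNoetherian_of_isNoetherianRing_of_finite A M
  let c : ℕ →o Submodule A M :=
    { toFun := fun k => P.comap (LinearMap.lsmul A M (f ^ k))
      monotone' := by
        intro k k' hk x hx
        rw [Submodule.mem_comap, LinearMap.lsmul_apply] at hx ⊢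
        have h1 : f ^ k' • x = f ^ (k' - k) • f ^ k • x := by
          rw [smul_smul, ← pow_add]
          congr 2
          omega
        rw [h1]
        exact P.smul_mem _ hx }
  obtain ⟨c₀, hc₀⟩ := monotone_stabilizes_iff_noetherian.2 ‹_› c
  refine ⟨max (n + c₀) s, fun m hm x hx => ?_⟩
  have hm1 : n + c₀ ≤ m := le_trans (le_max_left _ _) hm
  have hm2 : s ≤ m := le_trans (le_max_right _ _) hm
  have h1 : f ^ (m + 1) • x ∈ P := by
    rw [hP]
    refine Submodule.smul_mono_left ?_ hx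
    exact le_trans (bb_le_pow l m) (Ideal.pow_le_pow_right (by omega))
  have h2 : x ∈ c (m + 1) := h1
  rw [← hc₀ (m + 1) (by omega)] at h2
  have h3 : f ^ c₀ • x ∈ P := h2
  have h4 : f ^ (m - n) • x = f ^ (m - n - c₀) • f ^ c₀ • x := by
    rw [smul_smul, ← pow_add]
    congr 2
    omega
  rw [h4]
  exact Submodule.smul_mem _ _ (hPle h3)

end Mod

end Groth.Agent.Helper9.ProK4
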