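import Mathlib
import Groth.Prelude.Def_DerCA
import Groth.Prelude.Def_ega3
import Groth.Agent.Helper6.TorAR3
import Groth.Agent.Helper6.TAdic1
import Groth.Agent.Helper6.LTenAR1
import Groth.Agent.Helper9.ProK4

/-!
# Quotient systems `A ⧸ 𝔠 n` and their tensor products with a complex
-/

set_option autoImplicit false
set_option linter.style.haveILetI false
set_option linter.unusedSectionVars false

universe u

open CategoryTheory CategoryTheory.Limits Opposite MonoidalCategory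

namespace Groth.Agent.Helper9.ProK5

open Groth.Agent.Helper9.ProK4
open Groth.Agent.Helper6.TenCx Groth.Agent.Helper6.SingleTen Groth.Agent.Helper6.LTenAR2
open Groth.Agent.Helper6.TorAR

variable {A : Type u} [CommRing A]

section Systems

/-- the system of quotients `A ⧸ 𝔠 n` -/
noncomputable def QS (𝔠 : ℕ → Ideal A) (h𝔠 : Antitone 𝔠) : ℕᵒᵖ ⥤ ModuleCat.{u} A where
  obj n := ModuleCat.of A (A ⧸ 𝔠 n.unop)
  map {a b} g := ModuleCat.ofHom (Submodule.factor (h𝔠 (leOfHom g.unop)))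
  map_id a := by
    refine ModuleCat.hom_ext (LinearMap.ext fun x => ?_)
    obtain ⟨x, rfl⟩ := Submodule.Quotient.mk_surjective _ x
    rfl
  map_comp g g' := by
    rw [← ModuleCat.ofHom_comp, Submodule.factor_comp]

lemma tr_QS (𝔠 : ℕ → Ideal A) (h𝔠 : Antitone 𝔠) {n m : ℕ} (h : n ≤ m) :
    ARSys.tr (QS 𝔠 h𝔠) h = ModuleCat.ofHom (Submodule.factor (h𝔠 h)) := rfl

/-- the morphism of quotient systems induced by inclusions of ideals -/
noncomputable def QSmap {𝔠 𝔠' : ℕ → Ideal A} (h𝔠 : Antitone 𝔠) (h𝔠' : Antitone 𝔠')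
    (hle : ∀ n, 𝔠 n ≤ 𝔠' n) : QS 𝔠 h𝔠 ⟶ QS 𝔠' h𝔠' where
  app n := ModuleCat.ofHom (Submodule.factor (hle n.unop))
  naturality a b g := by
    show ModuleCat.ofHom _ ≫ ModuleCat.ofHom _ = ModuleCat.ofHom _ ≫ ModuleCat.ofHom _
    rw [← ModuleCat.ofHom_comp, ← ModuleCat.ofHom_comp, Submodule.factor_comp,
      Submodule.factor_comp]

lemma QSmap_app {𝔠 𝔠' : ℕ → Ideal A} (h𝔠 : Antitone 𝔠) (h𝔠' : Antitone 𝔠')
    (hle : ∀ n, 𝔠 n ≤ 𝔠' n) (n : ℕ) :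
    (QSmap h𝔠 h𝔠' hle).app (op n) = ModuleCat.ofHom (Submodule.factor (hle n)) := rfl

lemma pow_smul_top (I : Ideal A) (n : ℕ) : (I ^ n • ⊤ : Submodule A A) = I ^ n := by
  rw [smul_eq_mul, Ideal.mul_top]

lemma tr_adic (I : Ideal A) (M : ModuleCat.{u} A) {n m : ℕ} (h : n ≤ m) :
    ARSys.tr (CohIII.adicSystem I M) h =
      ModuleCat.ofHom (Submodule.factor (Submodule.smul_mono_left
        (Ideal.pow_le_pow_right (Nat.succ_le_succ h)) :
          (I ^ (m + 1) • ⊤ : Submodule A M) ≤ I ^ (n + 1) • ⊤)) := by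
  haveI : Epi (Groth.Agent.Helper6.TAdic.qn M I m) :=
    (ModuleCat.epi_iff_surjective _).2 (Submodule.mkQ_surjective _)
  refine (cancel_epi (Groth.Agent.Helper6.TAdic.qn M I m)).1 ?_
  refine (Groth.Agent.Helper6.TAdic.qn_T M I h).trans ?_
  refine ModuleCat.hom_ext (LinearMap.ext fun x => ?_)
  rfl

lemma bb_le_adic (l : List A) (I : Ideal A) (hI : Ideal.ofList l = I) (n : ℕ) :
    bb l n ≤ (I ^ (n + 1) • ⊤ : Submodule A (ModuleCat.of A A)) := by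
  have h1 : (I ^ (n + 1) • ⊤ : Submodule A (ModuleCat.of A A)) = I ^ (n + 1) :=
    pow_smul_top I (n + 1)
  rw [h1, ← hI]
  exact bb_le_pow l n

lemma adic_le_bb (l : List A) (I : Ideal A) (hI : Ideal.ofList l = I) (n m : ℕ)
    (hm : l.length * (n + 1) + 1 ≤ m + 1) :
    (I ^ (m + 1) • ⊤ : Submodule A (ModuleCat.of A A)) ≤ bb l n := by
  have h1 : (I ^ (m + 1) • ⊤ : Submodule A (ModuleCat.of A A)) = I ^ (m + 1) :=
    pow_smul_top I (m + 1)
  rw [h1, ← hI]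
  exact le_trans (Ideal.pow_le_pow_right hm) (pow_le_bb l n)

/-- the comparison from the system of quotients by the powers of the generators to the adic
system -/
noncomputable def toAdic (l : List A) (I : Ideal A) (hI : Ideal.ofList l = I) :
    QS (bb l) (bb_anti l) ⟶ CohIII.adicSystem I (ModuleCat.of A A) where
  app n := ModuleCat.ofHom (Submodule.factor (bb_le_adic l I hI n.unop))
  naturality := by
    intro a b g
    obtain ⟨a⟩ := a
    obtain ⟨b⟩ := b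
    have hba : b ≤ a := leOfHom g.unop
    have hg : g = (homOfLE hba).op := Quiver.Hom.unop_inj (Subsingleton.elim _ _)
    subst hg
    show ModuleCat.ofHom _ ≫ ModuleCat.ofHom _ =
      ModuleCat.ofHom _ ≫ ARSys.tr (CohIII.adicSystem I (ModuleCat.of A A)) hba
    rw [tr_adic]
    refine ModuleCat.hom_ext (LinearMap.ext fun x => ?_)
    obtain ⟨x, rfl⟩ := Submodule.Quotient.mk_surjective _ x
    rfl

theorem proIso_toAdic (l : List A) (I : Ideal A) (hI : Ideal.ofList l = I) :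
    DerCA.IsProIso (toAdic l I hI) := by
  intro n
  have hm : l.length * (n + 1) + 1 ≤ max n (l.length * (n + 1)) + 1 :=
    Nat.succ_le_succ (le_max_right _ _)
  refine ⟨max n (l.length * (n + 1)), le_max_left _ _,
    ModuleCat.ofHom (Submodule.factor (adic_le_bb l I hI n _ hm)), ?_, ?_⟩
  · refine ModuleCat.hom_ext (LinearMap.ext fun x => ?_)
    obtain ⟨x, rfl⟩ := Submodule.Quotient.mk_surjective _ x
    rfl
  · rw [tr_adic]
    refine ModuleCat.hom_ext (LinearMap.ext fun x => ?_)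
    obtain ⟨x, rfl⟩ := Submodule.Quotient.mk_surjective _ x
    rfl

end Systems

section Transport

lemma tensorQuot_nat (M : Type u) [AddCommGroup M] [Module A M] {𝔠 𝔠' : Ideal A} (h : 𝔠 ≤ 𝔠')
    (t : TensorProduct A M (A ⧸ 𝔠)) :
    TensorProduct.tensorQuotEquivQuotSMul M 𝔠' (LinearMap.lTensor M (Submodule.factor h) t) =
      Submodule.factor (Submodule.smul_mono_left h)
        (TensorProduct.tensorQuotEquivQuotSMul M 𝔠 t) := by
  induction t using TensorProduct.induction_on with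
  | zero => simp only [map_zero]
  | tmul x a =>
    obtain ⟨r, rfl⟩ := Ideal.Quotient.mk_surjective a
    rw [LinearMap.lTensor_tmul]
    have h1 : Submodule.factor h (Ideal.Quotient.mk 𝔠 r) = Ideal.Quotient.mk 𝔠' r := rfl
    rw [h1, TensorProduct.tensorQuotEquivQuotSMul_tmul_mk,
      TensorProduct.tensorQuotEquivQuotSMul_tmul_mk]
    rfl
  | add t t' ht ht' => simp only [map_add, ht, ht']

variable (Y : DRing.Cx A)

/-- `(N[0] ⊗ Y)^q ≅ Y^q ⊗ N` -/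
noncomputable def Θ (N : ModuleCat.{u} A) (q : ℤ) : (sN N ⊗ Y).X q ≅ Y.X q ⊗ N :=
  (ιIso N Y q).symm ≪≫ e N Y q

lemma Θ_nat {N N' : ModuleCat.{u} A} (g : N ⟶ N') (q : ℤ) :
    (Sg.map g ▷ Y).f q ≫ (Θ Y N' q).hom = (Θ Y N q).hom ≫ (Y.X q ◁ g) := by
  simp only [Θ, Iso.trans_hom, Iso.symm_hom, Category.assoc]
  rw [Iso.eq_inv_comp]
  have h1 : (ιIso N Y q).hom ≫ (Sg.map g ▷ Y).f q =
      ((Sg.map g).f 0 ▷ Y.X q) ≫ (ιIso N' Y q).hom := ι_whiskerRight (Sg.map g) Y 0 q q (zero_add q)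
  rw [reassoc_of% h1, Iso.hom_inv_id_assoc, e_natM]

lemma Θ_nat_apply {N N' : ModuleCat.{u} A} (g : N ⟶ N') (q : ℤ) (y : (sN N ⊗ Y).X q) :
    (Θ Y N' q).hom.hom (((Sg.map g ▷ Y).f q).hom y) = (Y.X q ◁ g).hom ((Θ Y N q).hom.hom y) :=
  congrArg (fun t => t.hom y) (Θ_nat Y g q)

/-- `((A/𝔠)[0] ⊗ Y)^q ≃ Y^q / 𝔠 Y^q` -/
noncomputable def ψ (𝔠 : Ideal A) (q : ℤ) :
    (sN (ModuleCat.of A (A ⧸ 𝔠)) ⊗ Y).X q ≃ₗ[A] (Y.X q ⧸ (𝔠 • ⊤ : Submodule A (Y.X q))) :=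
  (Θ Y (ModuleCat.of A (A ⧸ 𝔠)) q).toLinearEquiv ≪≫ₗ
    TensorProduct.tensorQuotEquivQuotSMul (Y.X q) 𝔠

lemma ψ_nat {𝔠 𝔠' : Ideal A} (h : 𝔠 ≤ 𝔠') (q : ℤ) (y : (sN (ModuleCat.of A (A ⧸ 𝔠)) ⊗ Y).X q) :
    ψ Y 𝔠' q (((Sg.map (ModuleCat.ofHom (Submodule.factor h)) ▷ Y).f q).hom y) =
      Submodule.factor (Submodule.smul_mono_left h) (ψ Y 𝔠 q y) := by
  show TensorProduct.tensorQuotEquivQuotSMul (Y.X q) 𝔠'
      ((Θ Y (ModuleCat.of A (A ⧸ 𝔠')) q).hom.hom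
        (((Sg.map (ModuleCat.ofHom (Submodule.factor h)) ▷ Y).f q).hom y)) = _
  rw [Θ_nat_apply]
  exact tensorQuot_nat (Y.X q) h _

end Transport

section Facts

variable (Y : DRing.Cx A)

/-- (h1) -/
lemma epi_whisker {𝔠 𝔠' : Ideal A} (h : 𝔠 ≤ 𝔠') :
    Epi (Sg.map (ModuleCat.ofHom (Submodule.factor h)) ▷ Y) := by
  refine HomologicalComplex.epi_of_epi_f _ (fun q => ?_)
  rw [ModuleCat.epi_iff_surjective]
  intro y'
  obtain ⟨x, hx⟩ := Submodule.Quotient.mk_surjective _ (ψ Y 𝔠' q y')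
  refine ⟨(ψ Y 𝔠 q).symm (Submodule.Quotient.mk x), ?_⟩
  apply (ψ Y 𝔠' q).injective
  rw [ψ_nat, LinearEquiv.apply_symm_apply, ← hx]
  rfl

/-- (h2) -/
lemma exact_whisker (g : A) {𝔠 𝔠' : Ideal A} (h : 𝔠 ≤ 𝔠') (h' : 𝔠' ≤ Ideal.span {g} ⊔ 𝔠)
    (w : (g • 𝟙 (Sg.obj (ModuleCat.of A (A ⧸ 𝔠)) ⊗ Y)) ≫
      (Sg.map (ModuleCat.ofHom (Submodule.factor h)) ▷ Y) = 0) :
    (ShortComplex.mk _ _ w).Exact := by
  refine HomologicalComplex.exact_of_degreewise_exact _ (fun q => ?_)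
  rw [ShortComplex.moduleCat_exact_iff]
  intro y hy
  have hy' : ((Sg.map (ModuleCat.ofHom (Submodule.factor h)) ▷ Y).f q).hom y = 0 := hy
  obtain ⟨x, hx⟩ := Submodule.Quotient.mk_surjective _ (ψ Y 𝔠 q y)
  have h1 := ψ_nat Y h q y
  rw [hy', map_zero, ← hx] at h1
  have h2 : x ∈ (𝔠' • ⊤ : Submodule A (Y.X q)) :=
    (Submodule.Quotient.mk_eq_zero _).1 h1.symm
  obtain ⟨z, hz⟩ := exists_sub_mem g 𝔠 x (Submodule.smul_mono_left h' h2)
  refine ⟨(ψ Y 𝔠 q).symm (Submodule.Quotient.mk z), ?_⟩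
  show g • (ψ Y 𝔠 q).symm (Submodule.Quotient.mk z) = y
  apply (ψ Y 𝔠 q).injective
  rw [map_smul, LinearEquiv.apply_symm_apply, ← hx, ← Submodule.Quotient.mk_smul, eq_comm,
    Submodule.Quotient.eq]
  exact hz

/-- (h3), at one degree -/
lemma torsion_whisker (g₁ g₂ : A) {𝔠 𝔠'' : Ideal A} (h : 𝔠 ≤ 𝔠'') (q : ℤ)
    (hT : ∀ x : Y.X q, g₁ • x ∈ (𝔠 • ⊤ : Submodule A (Y.X q)) →
      g₂ • x ∈ (𝔠'' • ⊤ : Submodule A (Y.X q)))
    (y : (sN (ModuleCat.of A (A ⧸ 𝔠)) ⊗ Y).X q) (hy : g₁ • y = 0) :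
    g₂ • ((Sg.map (ModuleCat.ofHom (Submodule.factor h)) ▷ Y).f q).hom y = 0 := by
  apply (ψ Y 𝔠'' q).injective
  rw [map_smul, ψ_nat, map_zero]
  obtain ⟨x, hx⟩ := Submodule.Quotient.mk_surjective _ (ψ Y 𝔠 q y)
  have h1 : g₁ • ψ Y 𝔠 q y = 0 := by rw [← map_smul, hy, map_zero]
  rw [← hx, ← Submodule.Quotient.mk_smul, Submodule.Quotient.mk_eq_zero] at h1
  rw [← hx]
  show g₂ • (Submodule.Quotient.mk x : Y.X q ⧸ (𝔠'' • ⊤ : Submodule A (Y.X q))) = 0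
  rw [← Submodule.Quotient.mk_smul, Submodule.Quotient.mk_eq_zero]
  exact hT x h1

lemma kernel_ι_comp_eq_zero {X X' X'' : DRing.Cx A} (φ : X ⟶ X') (χ : X ⟶ X'')
    (h : ∀ (q : ℤ) (y : X.X q), (φ.f q).hom y = 0 → (χ.f q).hom y = 0) :
    kernel.ι φ ≫ χ = 0 := by
  refine HomologicalComplex.hom_ext _ _ (fun q => ModuleCat.hom_ext (LinearMap.ext fun x => ?_))
  show (χ.f q).hom (((kernel.ι φ).f q).hom x) = 0
  apply h
  have h1 : (kernel.ι φ ≫ φ).f q = 0 := by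
    rw [kernel.condition]
    rfl
  exact congrArg (fun t => t.hom x) h1

end Facts

end Groth.Agent.Helper9.ProK5
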