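import Mathlib
import Groth.Prelude.Def_DerCA
import Groth.Agent.Helper6.TorAR3
import Groth.Agent.Helper9.ProK5

/-!
# Localisation of complexes as a tensor product with `A_S[0]`
-/

set_option autoImplicit false
set_option linter.style.haveILetI false
set_option linter.unusedSectionVars false

universe u

open CategoryTheory CategoryTheory.Limits MonoidalCategory

namespace Groth.Agent.Helper9.HomT4

open Groth.Agent.Helper6.TenCx Groth.Agent.Helper6.SingleTen Groth.Agent.Helper6.LTenAR2
open Groth.Agent.Helper6.TorAR Groth.Agent.Helper9.ProK5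

variable {A : Type u} [CommRing A]

section Modules

variable (S : Submonoid A) (M : Type u) [AddCommGroup M] [Module A M]

/-- a localisation map whose source is already local is bijective -/
theorem bijective_of_isLocalizedModule {M M' : Type*} [AddCommGroup M] [Module A M]
    [AddCommGroup M'] [Module A M'] (f : M →ₗ[A] M') [IsLocalizedModule S f]
    (h : ∀ s : S, Function.Bijective (fun m : M => (s : A) • m)) : Function.Bijective f := by
  constructor
  · rw [IsLocalizedModule.injective_iff_isRegular S]
    intro c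
    exact (h c).1
  · intro y
    obtain ⟨⟨m, s⟩, hms⟩ := IsLocalizedModule.surj S f y
    obtain ⟨m', hm'⟩ := (h s).2 m
    refine ⟨m', ?_⟩
    have hu := IsLocalizedModule.map_units f s
    rw [Module.End.isUnit_iff] at hu
    apply hu.1
    change (s : A) • f m' = (s : A) • y
    rw [← map_smul]
    dsimp only at hm' hms
    rw [hm']
    exact hms.symm

/-- `m ↦ m ⊗ 1 : M → M ⊗ A_S` -/
noncomputable def tmulOne : M →ₗ[A] TensorProduct A M (Localization S) :=
  (TensorProduct.comm A (Localization S) M).toLinearMap ∘ₗ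
    TensorProduct.mk A (Localization S) M 1

lemma tmulOne_apply (m : M) : tmulOne S M m = m ⊗ₜ[A] (1 : Localization S) := rfl

instance isLocalizedModule_tmulOne : IsLocalizedModule S (tmulOne S M) := by
  unfold tmulOne
  infer_instance

/-- `S` acts bijectively on `M ⊗ A_S` -/
lemma smul_bijective_tensor (s : S) :
    Function.Bijective (fun t : TensorProduct A M (Localization S) => (s : A) • t) := by
  have hu := IsLocalizedModule.map_units (tmulOne S M) s
  rw [Module.End.isUnit_iff] at hu
  exact hu

/-- `M ⊗ A_S → M_S ⊗ A_S` is bijective -/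
theorem rTensor_mkLinearMap_bijective :
    Function.Bijective ((LocalizedModule.mkLinearMap S M).rTensor (Localization S)) := by
  have h1 : IsLocalizedModule S
      (TensorProduct.AlgebraTensorModule.rTensor A (Localization S)
        (LocalizedModule.mkLinearMap S M)) :=
    inferInstance
  exact bijective_of_isLocalizedModule S
    (TensorProduct.AlgebraTensorModule.rTensor A (Localization S)
        (LocalizedModule.mkLinearMap S M)) (smul_bijective_tensor S M)

end Modules

section LocTensor

variable (S : Submonoid A)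

/-- `M_S ≅ M ⊗ A_S`, naturally in `M` -/
noncomputable def locTensorIso :
    DerCA.locFunctor S ≅ tensorRight (ModuleCat.of A (Localization S)) :=
  NatIso.ofComponents
    (fun M => (IsLocalizedModule.iso S (tmulOne S M)).toModuleIso)
    (fun {M N} g => by
      refine ModuleCat.hom_ext ?_
      refine IsLocalizedModule.linearMap_ext S (LocalizedModule.mkLinearMap S M)
        (tmulOne S N) ?_
      refine LinearMap.ext (fun m => ?_)
      change (IsLocalizedModule.iso S (tmulOne S N))
          ((IsLocalizedModule.map S (LocalizedModule.mkLinearMap S M)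
            (LocalizedModule.mkLinearMap S N) g.hom) (LocalizedModule.mkLinearMap S M m)) =
        (g ▷ ModuleCat.of A (Localization S)).hom
          ((IsLocalizedModule.iso S (tmulOne S M)) (LocalizedModule.mkLinearMap S M m))
      rw [IsLocalizedModule.map_apply, LocalizedModule.mkLinearMap_apply,
        LocalizedModule.mkLinearMap_apply, IsLocalizedModule.iso_mk_one,
        IsLocalizedModule.iso_mk_one, tmulOne_apply, tmulOne_apply]
      rfl)

end LocTensor

section SingleTensor

variable (N : ModuleCat.{u} A)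

lemma e_nat_gen {M M' : ModuleCat.{u} A} (g : M ⟶ M') :
    ((sN N).X 0 ◁ g) ≫ ((β_ _ _) ≪≫ whiskerLeftIso M' (isoS N)).hom =
      ((β_ _ _) ≪≫ whiskerLeftIso M (isoS N)).hom ≫ (g ▷ N) := by
  simp only [Iso.trans_hom, whiskerLeftIso_hom, Category.assoc]
  rw [BraidedCategory.braiding_naturality_right_assoc, whisker_exchange]

lemma Θ_d (Y : DRing.Cx A) (q : ℤ) :
    (Θ Y N q).hom ≫ (Y.d q (q + 1) ▷ N) = (sN N ⊗ Y).d q (q + 1) ≫ (Θ Y N (q + 1)).hom := by
  simp only [Θ, Iso.trans_hom, Iso.symm_hom, Category.assoc]
  rw [← e_naturality, Iso.inv_comp_eq, ← Category.assoc, ← Category.assoc]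
  have h := ι_d0 N Y q
  change (ιIso N Y q).hom ≫ _ = _ ≫ (ιIso N Y (q + 1)).hom at h
  rw [h, Category.assoc, Category.assoc, Iso.hom_inv_id_assoc]

lemma Θ_natY {Y Y' : DRing.Cx A} (φ : Y ⟶ Y') (q : ℤ) :
    (sN N ◁ φ).f q ≫ (Θ Y' N q).hom = (Θ Y N q).hom ≫ (φ.f q ▷ N) := by
  simp only [Θ, Iso.trans_hom, Iso.symm_hom, Category.assoc]
  rw [Iso.eq_inv_comp]
  have h1 : (ιIso N Y q).hom ≫ (sN N ◁ φ).f q =
      ((sN N).X 0 ◁ φ.f q) ≫ (ιIso N Y' q).hom := ι_whiskerLeft (sN N) φ 0 q q (zero_add q)
  rw [reassoc_of% h1, Iso.hom_inv_id_assoc]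
  exact e_nat_gen N (φ.f q)

/-- `N[0] ⊗ Y` is the termwise tensor product `Y ⊗ N`, naturally in `Y` -/
noncomputable def singleTensorIso :
    tensorLeft (sN N) ≅ (tensorRight N).mapHomologicalComplex (ComplexShape.up ℤ) :=
  NatIso.ofComponents
    (fun Y => HomologicalComplex.Hom.isoOfComponents (fun q => Θ Y N q)
      (by rintro q _ rfl; exact Θ_d N Y q))
    (fun {Y Y'} φ => HomologicalComplex.hom_ext _ _ (fun q => Θ_natY N φ q))

end SingleTensor

section LocCx

variable (S : Submonoid A)

/-- the module `A_S` -/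
noncomputable abbrev AS : ModuleCat.{u} A := ModuleCat.of A (Localization S)

/-- termwise localisation is tensoring with `A_S[0]` -/
noncomputable def locCxIso : DerCA.locCx S ≅ tensorLeft (sN (AS S)) :=
  NatIso.mapHomologicalComplex (locTensorIso S) (ComplexShape.up ℤ) ≪≫
    (singleTensorIso (AS S)).symm

/-- `A_S[0] ⊗ (E → E_S)` is an isomorphism -/
theorem isIso_whiskerLeft_locCxUnit (E : DRing.Cx A) :
    IsIso (sN (AS S) ◁ DerCA.locCxUnit S E) := by
  haveI : ∀ q, IsIso ((sN (AS S) ◁ DerCA.locCxUnit S E).f q) := by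
    intro q
    have h1 := Θ_natY (AS S) (DerCA.locCxUnit S E) q
    haveI : IsIso ((DerCA.locCxUnit S E).f q ▷ AS S) := by
      rw [ConcreteCategory.isIso_iff_bijective]
      exact rTensor_mkLinearMap_bijective S (E.X q)
    have h2 : (sN (AS S) ◁ DerCA.locCxUnit S E).f q =
        (Θ E (AS S) q).hom ≫ ((DerCA.locCxUnit S E).f q ▷ AS S) ≫
          (Θ ((DerCA.locCx S).obj E) (AS S) q).inv := by
      rw [← Category.assoc, ← h1, Category.assoc, Iso.hom_inv_id, Category.comp_id]
    rw [h2]
    infer_instance
  exact HomologicalComplex.Hom.isIso_of_components _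

end LocCx

end Groth.Agent.Helper9.HomT4
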