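import Mathlib
import Groth.Prelude.Def_DerCA
import Groth.Prelude.Def_DTen
import Groth.Agent.Helper6.KzTen1
import Groth.Agent.Helper9.RHB1
import Groth.Agent.Helper9.KFlat3
import Groth.Agent.Helper9.HomT4
import Groth.Agent.Helper9.HomT2

/-!
# Tensor products with a mapping cocone
-/

set_option autoImplicit false
set_option linter.style.haveILetI false
set_option linter.unusedSectionVars false

universe u

open CategoryTheory CategoryTheory.Limits MonoidalCategory CochainComplex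

namespace Groth.Agent.Helper9.HomT5

open Groth.Agent.Helper6.TenCx Groth.Agent.Helper6.SingleTen Groth.Agent.Helper9.HomT4

variable {A : Type u} [CommRing A]

lemma acyclic_of_iso {K K' : DRing.Cx A} (e : K ≅ K') (h : K.Acyclic) : K'.Acyclic := by
  rw [KFlat3.acyclic_iff_isZero_homology] at h ⊢
  intro i
  exact IsZero.of_iso (h i) ((HomologicalComplex.homologyFunctor _ _ i).mapIso e.symm)

lemma quasiIso_of_acyclic {K K' : DRing.Cx A} (φ : K ⟶ K') (h : K.Acyclic) (h' : K'.Acyclic) :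
    QuasiIso φ := by
  rw [KFlat3.acyclic_iff_isZero_homology] at h h'
  rw [quasiIso_iff]
  intro i
  rw [quasiIsoAt_iff_isIso_homologyMap]
  exact ⟨0, (h i).eq_of_src _ _, (h' i).eq_of_src _ _⟩

/-- `u ▷ W` is conjugate to `W ◁ u` -/
lemma whiskerRight_eq_braid (W : DRing.Cx A) {E E' : DRing.Cx A} (u : E ⟶ E') :
    u ▷ W = (DTen.braidCx E W).hom ≫ (W ◁ u) ≫ (DTen.braidCx E' W).inv := by
  have h := DTen.braidCx_naturality u (𝟙 W)
  rw [tensorHom_id, id_tensorHom] at h
  rw [← Category.assoc, ← h, Category.assoc, Iso.hom_inv_id, Category.comp_id]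

lemma quasiIso_whiskerRight_of_whiskerLeft (W : DRing.Cx A) {E E' : DRing.Cx A} (u : E ⟶ E')
    (h : QuasiIso (W ◁ u)) : QuasiIso (u ▷ W) := by
  rw [whiskerRight_eq_braid]
  infer_instance

/-- `W ⊗ cocone(u)` is acyclic when `W ◁ u` is a quasi-isomorphism -/
theorem acyclic_tensor_cocone (W : DRing.Cx A) {E E' : DRing.Cx A} (u : E ⟶ E')
    (h : QuasiIso (W ◁ u)) : (W ⊗ mappingCocone u).Acyclic := by
  have e1 : W ⊗ mappingCocone u ≅ (W ⊗ mappingCone u)⟦(-1 : ℤ)⟧ :=
    RHB1.σ₂ W (mappingCone u) (-1)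
  have e2 : W ⊗ mappingCone u ≅ mappingCone (u ▷ W) :=
    DTen.braidCx W (mappingCone u) ≪≫ Groth.Agent.Helper6.KzTen.coneTensorIso u W
  have h1 : (mappingCone (u ▷ W)).Acyclic := by
    haveI := quasiIso_whiskerRight_of_whiskerLeft W u h
    exact (KFlat3.quasiIso_iff_acyclic_mappingCone (u ▷ W)).1 inferInstance
  have h2 : (W ⊗ mappingCone u).Acyclic := acyclic_of_iso e2.symm h1
  exact acyclic_of_iso e1.symm ((KFlat3.acyclic_shift_iff _ _).2 h2)

section Loc

variable (S : Submonoid A)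

lemma kflat_AS : KFlat (sN (AS S)) := by
  haveI : Module.Flat A (AS S) := inferInstanceAs (Module.Flat A (Localization S))
  exact Groth.Agent.Helper9.HomT2.kflat_sN (AS S)

/-- tensoring with the localisation of `E` preserves acyclicity of `W ⊗ E` -/
theorem acyclic_tensor_locCx (W E : DRing.Cx A) (h : (W ⊗ E).Acyclic) :
    (W ⊗ (DerCA.locCx S).obj E).Acyclic := by
  have e1 : W ⊗ (DerCA.locCx S).obj E ≅ W ⊗ (sN (AS S) ⊗ E) :=
    whiskerLeftIso W ((locCxIso S).app E)
  have e2 : W ⊗ (sN (AS S) ⊗ E) ≅ (W ⊗ E) ⊗ sN (AS S) :=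
    (α_ W (sN (AS S)) E).symm ≪≫ whiskerRightIso (DTen.braidCx W (sN (AS S))) E ≪≫
      α_ (sN (AS S)) W E ≪≫ DTen.braidCx (sN (AS S)) (W ⊗ E)
  have h1 : ((W ⊗ E) ⊗ sN (AS S)).Acyclic := by
    rw [KFlat3.acyclic_iff_isZero_homology] at h ⊢
    exact kflat_AS S _ h
  exact acyclic_of_iso (e1 ≪≫ e2).symm h1

theorem acyclic_tensor_cocone_loc (W E : DRing.Cx A) (h : (W ⊗ E).Acyclic) :
    (W ⊗ mappingCocone (DerCA.locCxUnit S E)).Acyclic :=
  acyclic_tensor_cocone W _
    (quasiIso_of_acyclic _ h (acyclic_tensor_locCx S W E h))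

theorem kflat_cocone_loc (E : DRing.Cx A) (hE : KFlat E) :
    KFlat (mappingCocone (DerCA.locCxUnit S E)) := by
  intro L hL
  rw [← KFlat3.acyclic_iff_isZero_homology]
  apply acyclic_tensor_cocone_loc
  rw [KFlat3.acyclic_iff_isZero_homology]
  exact hE L hL

theorem acyclic_AS_tensor_cocone (E : DRing.Cx A) :
    (sN (AS S) ⊗ mappingCocone (DerCA.locCxUnit S E)).Acyclic := by
  apply acyclic_tensor_cocone
  haveI := isIso_whiskerLeft_locCxUnit S E
  infer_instance

end Loc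

end Groth.Agent.Helper9.HomT5
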