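import Mathlib
import Groth.Prelude.Def_DerCA
import Groth.Prelude.Def_DRing4
import Groth.Agent.Helper6.HomTenB
import Groth.Agent.Helper6.DComplTri
import Groth.Agent.Helper9.HomT3
import Groth.Agent.Helper9.HomT5
import Groth.Agent.Helper9.HomK3
import Groth.Agent.Helper1.HtpyKill

/-!
# The triangle `Hom•(E, J) → Hom•(cocone u, J) → Hom•(E'⟦-1⟧, J) →`
-/

set_option autoImplicit false
set_option linter.style.haveILetI false
set_option linter.unusedSectionVars false

universe u

open CategoryTheory CategoryTheory.Limits MonoidalCategory CochainComplex HomComplex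
open DerivedCategory Pretriangulated

namespace Groth.Agent.Helper9.HomT6

open Groth.Agent.Helper6.HomTen Groth.Agent.Helper6.DComplTri

attribute [local instance] HasDerivedCategory.standard

variable {A : Type u} [CommRing A]

section SES

variable {E E' : DRing.Cx A} (u : E ⟶ E')

/-- the inclusion `E'⟦-1⟧ ⟶ cocone(u)` -/
noncomputable def ιC : E'⟦(-1 : ℤ)⟧ ⟶ mappingCocone u where
  f n := (mappingCocone.inr u).1.v (n + -1) n (by omega)
  comm' n m hnm := by
    obtain rfl : n + 1 = m := hnm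
    have h0 : δ 1 2 (mappingCocone.inr u).1 = 0 := Cocycle.δ_eq_zero _ _
    have h1 := δ_v 1 2 rfl (mappingCocone.inr u).1 (n + -1) (n + 1) (by omega) n
      (n + 1 + -1) (by omega) (by omega)
    rw [h0, Cochain.zero_v] at h1
    have h2 : (2 : ℤ).negOnePow = 1 := Int.negOnePow_even 2 ⟨1, rfl⟩
    rw [h2, one_smul] at h1
    have h3 : ((-1 : ℤ)).negOnePow = -1 := by
      rw [Int.negOnePow_neg, Int.negOnePow_one]
    have h4 : (((-1 : ℤ)).negOnePow • E'.d (n + -1) (n + 1 + -1)) ≫
        (mappingCocone.inr u).1.v (n + 1 + -1) (n + 1) (by omega) =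
        -(E'.d (n + -1) (n + 1 + -1) ≫
          (mappingCocone.inr u).1.v (n + 1 + -1) (n + 1) (by omega)) := by
      rw [h3, Units.neg_smul, one_smul, Preadditive.neg_comp]
    exact (eq_neg_of_add_eq_zero_left h1.symm).trans h4.symm

lemma ιC_fst : ιC u ≫ mappingCocone.fst u = 0 := by
  refine HomologicalComplex.hom_ext _ _ (fun n => ?_)
  exact mappingCocone.inr_v_fst_f u (n + -1) n (by omega)

/-- the degreewise split short exact sequence `E'⟦-1⟧ → cocone(u) → E` -/
noncomputable def sesC : ShortComplex (DRing.Cx A) :=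
  ShortComplex.mk (ιC u) (mappingCocone.fst u) (ιC_fst u)

noncomputable def splitC (n : ℤ) :
    ((sesC u).map (HomologicalComplex.eval _ _ n)).Splitting where
  r := (mappingCocone.snd u).v n (n + -1) rfl
  s := (mappingCocone.inl u).v n n (add_zero n)
  f_r := mappingCocone.inr_v_snd_v u (n + -1) n (by omega)
  s_g := mappingCocone.inl_v_fst_f u n
  id := by
    have h := mappingCocone.id_X u n (n + -1) rfl
    rw [add_comm] at h
    exact h

end SES

section Triangle

open Groth.Agent.Helper3.DRingLib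

variable {E E' : DRing.Cx A} (u : E ⟶ E') (J : DRing.Cx A)

lemma homSES_shortExact : (homSC (sesC u) J).ShortExact :=
  homSC_shortExact (S := sesC u) J (splitC u)

/-- the distinguished triangle `Q Hom•(E, J) → Q Hom•(cocone u, J) → Q Hom•(E'⟦-1⟧, J) →` -/
theorem homTriangle_distinguished :
    DerivedCategory.triangleOfSES (homSES_shortExact u J) ∈ distTriang (Dual.D A) :=
  DerivedCategory.triangleOfSES_distinguished _

/-- if the third vertex of a distinguished triangle is `f`-local, then maps from the first two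
vertices into an `f`-complete object agree -/
theorem bijective_precomp_of_isLocal (f : A) (T : Triangle (Dual.D A))
    (hT : T ∈ distTriang (Dual.D A)) (h3 : IsLocal f T.obj₃) (Z : Dual.D A) (hZ : DCf f Z) :
    Function.Bijective (fun φ : T.obj₂ ⟶ Z => T.mor₁ ≫ φ) := by
  constructor
  · intro φ φ' h
    dsimp only at h
    have h0 : T.mor₁ ≫ (φ - φ') = 0 := by rw [Preadditive.comp_sub, h, sub_self]
    obtain ⟨g, hg⟩ := Triangle.yoneda_exact₂ T hT (φ - φ') h0
    rw [hom_eq_zero_of_isLocal f _ h3 Z hZ g, comp_zero] at hg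
    exact sub_eq_zero.1 hg
  · intro ψ
    have hT' := inv_rot_of_distTriang T hT
    have h0 : T.invRotate.mor₁ ≫ ψ = 0 :=
      hom_eq_zero_of_isLocal f _ (isLocal_shift f _ (-1) h3) Z hZ _
    obtain ⟨g, hg⟩ := Triangle.yoneda_exact₂ T.invRotate hT' ψ h0
    exact ⟨g, hg.symm⟩

end Triangle

section Step

open Groth.Agent.Helper3.DRingLib Groth.Agent.Helper6.SingleTen Groth.Agent.Helper6.TenCx

lemma isIso_smul_of_components (f : A) (X : DRing.Cx A)
    (h : ∀ n, IsIso (f • 𝟙 (X.X n))) : IsIso (f • 𝟙 X) := by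
  haveI : ∀ n, IsIso ((f • 𝟙 X).f n) := by
    intro n
    rw [HomologicalComplex.smul_f_apply, HomologicalComplex.id_f]
    exact h n
  exact HomologicalComplex.Hom.isIso_of_components _

lemma isIso_smul_locCx_X (f : A) (E : DRing.Cx A) (n : ℤ) :
    IsIso (f • 𝟙 (((DerCA.locCx (Submonoid.powers f)).obj E).X n)) := by
  rw [ConcreteCategory.isIso_iff_bijective]
  have hu := IsLocalizedModule.map_units
    (LocalizedModule.mkLinearMap (Submonoid.powers f) (E.X n)) ⟨f, Submonoid.mem_powers f⟩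
  rw [Module.End.isUnit_iff] at hu
  exact hu

lemma isIso_smul_locCx_shift (f : A) (E : DRing.Cx A) (a : ℤ) :
    IsIso (f • 𝟙 (((DerCA.locCx (Submonoid.powers f)).obj E)⟦a⟧)) :=
  isIso_smul_of_components f _ (fun n => isIso_smul_locCx_X f E (n + a))

/-- the inductive step for the universal property -/
theorem bijective_step (f : A) (E J : DRing.Cx A) (Z : Dual.D A) (hZ : DCf f Z) :
    Function.Bijective
      (fun φ : Q.obj (DRing.homCx (mappingCocone (DerCA.locCxUnit (Submonoid.powers f) E)) J) ⟶ Z =>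
        Q.map (homCxPre (mappingCocone.fst (DerCA.locCxUnit (Submonoid.powers f) E)) J) ≫ φ) :=
  bijective_precomp_of_isLocal f _
    (homTriangle_distinguished (DerCA.locCxUnit (Submonoid.powers f) E) J)
    (Groth.Agent.Helper9.HomT3.isLocal_homCx _ J f (isIso_smul_locCx_shift f E (-1))) Z hZ

/-- `Q Hom•(P, J)` is derived `g`-complete when `A_g[0] ⊗ P` is acyclic -/
theorem dcf_of_acyclic_tensor (P J : DRing.Cx A) (hP : KFlat P) [J.IsKInjective] (g : A)
    (h : (sN (ModuleCat.of A (Localization.Away g)) ⊗ P).Acyclic) :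
    DCf g (Q.obj (DRing.homCx P J)) := by
  intro n t
  obtain ⟨a, rfl⟩ : ∃ a, n = -a := ⟨-n, (neg_neg n).symm⟩
  let iso0 : Dual.inD A (Localization.Away g) ≅
      Q.obj (sN (ModuleCat.of A (Localization.Away g))) :=
    (DerivedCategory.singleFunctorIsoCompQ (ModuleCat.{u} A) 0).app _
  let iso1 : (Q.obj (DRing.homCx P J))⟦-a⟧ ≅ Q.obj ((DRing.homCx P J)⟦-a⟧) :=
    ((Q.commShiftIso (-a)).app (DRing.homCx P J)).symm
  let iso2 : Q.obj ((DRing.homCx P J)⟦-a⟧) ≅ Q.obj (DRing.homCx (P⟦a⟧) J) :=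
    Q.mapIso (Groth.Agent.Helper9.HomK.homCxShiftIso P J a)
  have hz : IsZero (Q.obj (sN (ModuleCat.of A (Localization.Away g)) ⊗ P⟦a⟧)) := by
    apply Groth.Agent.Helper1.HtpyKill.isZero_Q_obj_of_acyclic
    exact Groth.Agent.Helper9.HomT5.acyclic_of_iso (RHB1.σ₂ _ P a).symm
      ((KFlat3.acyclic_shift_iff _ _).2 h)
  have h0 : iso0.inv ≫ t ≫ iso1.hom ≫ iso2.hom = 0 :=
    Groth.Agent.Helper9.HomT3.hom_eq_zero_of_tensor (P⟦a⟧) J
      (Groth.Agent.Helper9.HomK.kflat_shift hP a) _ (fun ψ => hz.eq_of_src _ _) _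
  have h1 : t = iso0.hom ≫ (iso0.inv ≫ t ≫ iso1.hom ≫ iso2.hom) ≫ iso2.inv ≫ iso1.inv := by
    simp only [Category.assoc, Iso.hom_inv_id, Iso.hom_inv_id_assoc, Category.comp_id]
  rw [h1, h0, zero_comp, comp_zero]

end Step

end Groth.Agent.Helper9.HomT6
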