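import Mathlib
import Groth.Prelude.Def_DerCA
import Groth.Prelude.Def_DRing4
import Groth.Agent.Helper6.DComplAmp
import Groth.Agent.Helper6.DComplAdj
import Groth.Agent.Helper6.RHomInj
import Groth.Agent.Helper9.LCT2
import Groth.Agent.Helper9.HomT6

/-!
# Derived completion is `RHom(Č, -)` for the extended alternating Čech complex
-/

set_option autoImplicit false
set_option linter.style.haveILetI false
set_option linter.unusedSectionVars false

universe u

open CategoryTheory CategoryTheory.Limits MonoidalCategory CochainComplex HomComplex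
open DerivedCategory Pretriangulated

namespace Groth.Agent.Helper9.HomT7

open Groth.Agent.Helper6.HomTen Groth.Agent.Helper6.DComplTri Groth.Agent.Helper3.DRingLib
open Groth.Agent.Helper6.SingleTen Groth.Agent.Helper6.TenCx Groth.Agent.Helper9.HomK
open Groth.Agent.Helper9.HomT5 Groth.Agent.Helper9.HomT6

attribute [local instance] HasDerivedCategory.standard

variable {A : Type u} [CommRing A]

/-- the extended alternating Čech complex of the ring -/
noncomputable abbrev Cech (fs : List A) : DRing.Cx A := DerCA.extCech (ModuleCat.of A A) fs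

/-- the augmentation `Č(fs) ⟶ A[0]` -/
noncomputable def aug : (fs : List A) → (Cech fs ⟶ Cech ([] : List A))
  | [] => 𝟙 _
  | f :: fs => mappingCocone.fst (DerCA.locCxUnit (Submonoid.powers f) (Cech fs)) ≫ aug fs

lemma comp_fun {P P' P'' : DRing.Cx A} (a : P ⟶ P') (b : P' ⟶ P'') (J : DRing.Cx A)
    (Z : Dual.D A) :
    (fun φ : Q.obj (DRing.homCx P J) ⟶ Z => Q.map (homCxPre (a ≫ b) J) ≫ φ) =
      (fun ψ : Q.obj (DRing.homCx P' J) ⟶ Z => Q.map (homCxPre b J) ≫ ψ) ∘
        (fun φ : Q.obj (DRing.homCx P J) ⟶ Z => Q.map (homCxPre a J) ≫ φ) := by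
  funext φ
  rw [homCxPre_comp, Functor.map_comp, Category.assoc]
  rfl

theorem main_ind (fs : List A) :
    KFlat (Cech fs) ∧
    (∀ g ∈ fs, (sN (ModuleCat.of A (Localization.Away g)) ⊗ Cech fs).Acyclic) ∧
    ∀ (J : DRing.Cx A) (Z : Dual.D A), (∀ g ∈ fs, DCf g Z) →
      Function.Bijective (fun φ : Q.obj (DRing.homCx (Cech fs) J) ⟶ Z =>
        Q.map (homCxPre (aug fs) J) ≫ φ) := by
  induction fs with
  | nil =>
    refine ⟨?_, ?_, ?_⟩
    · haveI : Module.Flat A (ModuleCat.of A A) := inferInstanceAs (Module.Flat A A)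
      exact Groth.Agent.Helper9.HomT2.kflat_sN (ModuleCat.of A A)
    · intro g hg
      simp at hg
    · intro J Z _
      have h : (fun φ : Q.obj (DRing.homCx (Cech ([] : List A)) J) ⟶ Z =>
          Q.map (homCxPre (aug ([] : List A)) J) ≫ φ) = id := by
        funext φ
        show Q.map (homCxPre (𝟙 _) J) ≫ φ = φ
        rw [homCxPre_id, CategoryTheory.Functor.map_id, Category.id_comp]
      rw [h]
      exact Function.bijective_id
  | cons f fs ih =>
    obtain ⟨hk, hac, hb⟩ := ih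
    refine ⟨?_, ?_, ?_⟩
    · exact kflat_cocone_loc (Submonoid.powers f) (Cech fs) hk
    · intro g hg
      rcases List.mem_cons.1 hg with rfl | hg'
      · exact acyclic_AS_tensor_cocone (Submonoid.powers g) (Cech fs)
      · exact acyclic_tensor_cocone_loc (Submonoid.powers f) _ _ (hac g hg')
    · intro J Z hZ
      show Function.Bijective (fun φ : Q.obj (DRing.homCx (mappingCocone
              (DerCA.locCxUnit (Submonoid.powers f) (Cech fs))) J) ⟶ Z =>
          Q.map (homCxPre (mappingCocone.fst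
            (DerCA.locCxUnit (Submonoid.powers f) (Cech fs)) ≫ aug fs) J) ≫ φ)
      rw [comp_fun]
      exact (hb J Z (fun g hg => hZ g (List.mem_cons_of_mem f hg))).comp
        (bijective_step f (Cech fs) J Z (hZ f List.mem_cons_self))

/-- `Hom•(A[0], J) ≅ J` -/
noncomputable def homCxUnitIso (J : DRing.Cx A) : DRing.homCx (Cech ([] : List A)) J ≅ J :=
  let adj' : tensorRight (𝟙_ (DRing.Cx A)) ⊣ 𝟭 (DRing.Cx A) :=
    Adjunction.id.ofNatIsoLeft (rightUnitorNatIso (DRing.Cx A)).symm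
  let e : DRing.homCxFunctor (𝟙_ (DRing.Cx A)) ≅ 𝟭 (DRing.Cx A) :=
    Adjunction.rightAdjointUniq (adjC _) adj'
  e.app J

lemma bijective_precomp_iso {X Y Z : Dual.D A} (e : X ≅ Y) :
    Function.Bijective (fun φ : Y ⟶ Z => e.hom ≫ φ) :=
  ⟨fun φ φ' h => (cancel_epi e.hom).1 h, fun ψ => ⟨e.inv ≫ ψ, by simp⟩⟩

open Groth.Agent.Helper6.RHomInj in
theorem final (fs : List A) (I : Ideal A) (hI : Ideal.span {x : A | x ∈ fs} = I)
    [DRing.HasDerivedCompletion I] [DRing.HasRHomCx (DerCA.extCech (ModuleCat.of A A) fs)]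
    (K : Dual.D A) :
    Nonempty (((DRing.derivedCompletion I).obj K).obj ≅
      (DRing.RHomCx (DerCA.extCech (ModuleCat.of A A) fs)).obj K) := by
  subst hI
  obtain ⟨J, e, hJ, -⟩ := Groth.Agent.Helper9.LCT2.exists_rep K
  haveI := hJ
  obtain ⟨hk, hac, hb⟩ := main_ind fs
  let e0 : Q.obj (DRing.homCx (Cech ([] : List A)) J) ≅ Q.obj J := Q.mapIso (homCxUnitIso J)
  let η : K ⟶ Q.obj (DRing.homCx (Cech fs) J) :=
    (e ≪≫ e0.symm).hom ≫ Q.map (homCxPre (aug fs) J)
  have hK' : DRing.IsDerivedComplete (Ideal.span {x : A | x ∈ fs})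
      (Q.obj (DRing.homCx (Cech fs) J)) :=
    (Groth.Agent.Helper6.DComplAdj.isDerivedComplete_span_iff fs _).2
      (fun g hg => dcf_of_acyclic_tensor _ J hk g (hac g hg))
  have huniv : ∀ Z : Dual.D A, DRing.IsDerivedComplete (Ideal.span {x : A | x ∈ fs}) Z →
      Function.Bijective (fun φ : Q.obj (DRing.homCx (Cech fs) J) ⟶ Z => η ≫ φ) := by
    intro Z hZ
    have hZ' := (Groth.Agent.Helper6.DComplAdj.isDerivedComplete_span_iff fs Z).1 hZ
    have h : (fun φ : Q.obj (DRing.homCx (Cech fs) J) ⟶ Z => η ≫ φ) =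
        (fun ψ : Q.obj (DRing.homCx (Cech ([] : List A)) J) ⟶ Z => (e ≪≫ e0.symm).hom ≫ ψ) ∘
        (fun φ : Q.obj (DRing.homCx (Cech fs) J) ⟶ Z => Q.map (homCxPre (aug fs) J) ≫ φ) := by
      funext φ
      exact Category.assoc _ _ _
    rw [h]
    exact (bijective_precomp_iso (e ≪≫ e0.symm)).comp (hb J Z hZ')
  obtain ⟨e', -⟩ := Groth.Agent.Helper6.DComplAmp.completion_unique _ K _ η hK' huniv
  exact ⟨e' ≪≫ ((DRing.RHomCx _).mapIso e ≪≫ rhomIso _ J).symm⟩

end Groth.Agent.Helper9.HomT7
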