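import Mathlib
import Groth.Prelude.Def_DerCA
import Groth.Prelude.Def_Wider
import Groth.Agent.Helper9.LCT1
import Groth.Agent.Helper9.ProK4
import Groth.Agent.Helper9.HomT5

/-!
# Complexes whose localisations at the generators are acyclic have power torsion cohomology
-/

set_option autoImplicit false
set_option linter.style.haveILetI false
set_option linter.unusedSectionVars false

universe u

open CategoryTheory CategoryTheory.Limits

namespace Groth.Agent.Helper9.HomU2

open Groth.Agent.Helper9.LCT1 Groth.Agent.Helper9.ProK4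

variable {A : Type u} [CommRing A]

section Gens

variable {M : Type u} [AddCommGroup M] [Module A M]

/-- an element killed by a power of each generator is killed by a power of the ideal -/
lemma exists_pow_smul_eq_zero (fs : List A) (x : M)
    (h : ∀ g ∈ fs, ∃ n : ℕ, g ^ n • x = 0) :
    ∃ N : ℕ, ∀ a ∈ Ideal.span {y : A | y ∈ fs} ^ N, a • x = 0 := by
  have h1 : ∃ n : ℕ, ∀ g ∈ fs, g ^ (n + 1) • x = 0 := by
    induction fs with
    | nil => exact ⟨0, fun g hg => absurd hg List.not_mem_nil⟩
    | cons f fs ih =>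
      obtain ⟨n, hn⟩ := ih (fun g hg => h g (List.mem_cons_of_mem f hg))
      obtain ⟨m, hm⟩ := h f List.mem_cons_self
      refine ⟨n + m, fun g hg => ?_⟩
      rcases List.mem_cons.1 hg with rfl | hg'
      · have : g ^ (n + m + 1) = g ^ (n + 1) * g ^ m := by ring
        rw [this, mul_smul, hm, smul_zero]
      · have : g ^ (n + m + 1) = g ^ m * g ^ (n + 1) := by ring
        rw [this, mul_smul, hn g hg', smul_zero]
  obtain ⟨n, hn⟩ := h1
  refine ⟨fs.length * (n + 1) + 1, fun a ha => ?_⟩
  have h2 : bb fs n ≤ LinearMap.ker (LinearMap.toSpanSingleton A M x) := by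
    rw [bb_le_iff]
    intro g hg
    rw [LinearMap.mem_ker, LinearMap.toSpanSingleton_apply]
    exact hn g hg
  have h3 := h2 (pow_le_bb fs n ha)
  rw [LinearMap.mem_ker, LinearMap.toSpanSingleton_apply] at h3
  exact h3

end Gens

section Loc

variable (X : DRing.Cx A) (g : A)

lemma locCx_d_mk (i j : ℤ) (m : X.X i) (s : Submonoid.powers g) :
    (((DerCA.locCx (Submonoid.powers g)).obj X).d i j).hom (LocalizedModule.mk m s) =
      LocalizedModule.mk ((X.d i j).hom m) s :=
  IsLocalizedModule.map_LocalizedModules (Submonoid.powers g) (X.d i j).hom m s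

/-- if the localisation of `X` at `g` is acyclic, every cycle becomes a boundary after
multiplication by a power of `g` -/
lemma exists_bdry_of_acyclic_locCx
    (h : ((DerCA.locCx (Submonoid.powers g)).obj X).Acyclic) (q : ℤ) (z : X.X q)
    (hz : (X.d q (q + 1)).hom z = 0) :
    ∃ (n : ℕ) (w : X.X (q - 1)), (X.d (q - 1) q).hom w = g ^ n • z := by
  have hex := (HomologicalComplex.exactAt_iff' _ (q - 1) q (q + 1) (by simp) (by simp)).1 (h q)
  rw [ShortComplex.moduleCat_exact_iff] at hex
  have hcyc : (((DerCA.locCx (Submonoid.powers g)).obj X).d q (q + 1)).hom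
      (LocalizedModule.mk z 1) = 0 := by
    rw [locCx_d_mk, hz, LocalizedModule.zero_mk]
    rfl
  obtain ⟨y', hy'⟩ := hex (LocalizedModule.mk z 1) hcyc
  induction y' using LocalizedModule.induction_on with
  | h y s =>
    have h1 : LocalizedModule.mk ((X.d (q - 1) q).hom y) s =
        LocalizedModule.mk z (1 : Submonoid.powers g) :=
      (locCx_d_mk X g (q - 1) q y s).symm.trans hy'
    rw [LocalizedModule.mk_eq] at h1
    obtain ⟨u, hu⟩ := h1
    obtain ⟨m, hm⟩ := u.2
    obtain ⟨k, hk⟩ := s.2
    refine ⟨m + k, g ^ m • y, ?_⟩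
    rw [map_smul]
    have hu' : (u : A) • (1 : A) • (X.d (q - 1) q).hom y = (u : A) • (s : A) • z := hu
    rw [one_smul, ← hm, ← hk] at hu'
    rw [hu', pow_add, mul_smul]

end Loc

section Hom

/-- a complex whose localisations at the generators of `I` are acyclic has `I`-power torsion
cohomology -/
theorem isPowerTorsion_homology_of_acyclic_locCx (fs : List A) (X : DRing.Cx A)
    (h : ∀ g ∈ fs, ((DerCA.locCx (Submonoid.powers g)).obj X).Acyclic) (q : ℤ) :
    LocCoh.IsPowerTorsion (Ideal.span {y : A | y ∈ fs}) (X.homology q) := by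
  let S := X.sc' (q - 1) q (q + 1)
  let hd := S.moduleCatLeftHomologyData
  intro x
  apply exists_pow_smul_eq_zero
  intro g hg
  obtain ⟨z, hz⟩ : ∃ z : hd.K, hd.π.hom z = (homIso X q).hom.hom x :=
    Submodule.mkQ_surjective _ _
  have hz1 : (X.d q (q + 1)).hom z.1 = 0 := z.2
  obtain ⟨n, w, hw⟩ := exists_bdry_of_acyclic_locCx X g (h g hg) q z.1 hz1
  refine ⟨n, ?_⟩
  have h1 : g ^ n • z ∈ LinearMap.range S.moduleCatToCycles :=
    ⟨w, Subtype.ext hw⟩
  have h2 : hd.π.hom (g ^ n • z) = 0 := (Submodule.Quotient.mk_eq_zero _).mpr h1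
  have h3 : (homIso X q).hom.hom (g ^ n • x) = 0 := by
    rw [map_smul, ← hz, ← map_smul, h2]
  have h4 : g ^ n • x = (homIso X q).inv.hom ((homIso X q).hom.hom (g ^ n • x)) := by
    show g ^ n • x = ((homIso X q).hom ≫ (homIso X q).inv).hom (g ^ n • x)
    rw [Iso.hom_inv_id]
    rfl
  rw [h4, h3, map_zero]

end Hom

end Groth.Agent.Helper9.HomU2
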