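import Mathlib
import Groth.Prelude.Def_DerCA
import Groth.Prelude.Def_DRing4
import Groth.Agent.Helper6.TenCxQis
import Groth.Agent.Helper6.KFlatRes
import Groth.Agent.Helper9.LCT3
import Groth.Agent.Helper9.HomT7
import Groth.Agent.Helper9.HomU2
import Groth.Agent.S8933

/-!
# `RΓ_I(K) ≅ K ⊗^L Č` over a Noetherian ring
-/

set_option autoImplicit false
set_option linter.style.haveILetI false
set_option linter.unusedSectionVars false

universe u

open CategoryTheory CategoryTheory.Limits MonoidalCategory CochainComplex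
open DerivedCategory Pretriangulated

namespace Groth.Agent.Helper9.HomU3

open Groth.Agent.Helper6.TenCx Groth.Agent.Helper6.SingleTen
open Groth.Agent.Helper9.HomT4 Groth.Agent.Helper9.HomT5 Groth.Agent.Helper9.HomT6
open Groth.Agent.Helper9.HomT7 Groth.Agent.Helper9.HomU2
open Groth.Agent.Helper9.LCT1 Groth.Agent.Helper9.LCT2 Groth.Agent.Helper9.LCT3

attribute [local instance] HasDerivedCategory.standard

variable {A : Type u} [CommRing A]

section Torsion

lemma kflat_tensor' {K K' : DRing.Cx A} (hK : KFlat K) (hK' : KFlat K') : KFlat (K ⊗ K') :=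
  fun L hL => acyc_of_iso (α_ L K K') (hK' _ (hK L hL))

/-- an acyclic K-flat complex stays acyclic after tensoring with anything -/
lemma acyc_tensor_of_kflat_acyc (P' F : DRing.Cx A) (hF : KFlat F) (hFa : Acyc F) :
    Acyc (P' ⊗ F) := by
  obtain ⟨L', π, hL', -, hπ, -⟩ := Groth.Agent.Helper6.KFlatRes.exists_resolution P'
  have h1 : Acyc (L' ⊗ F) := kflat_left hL' F hFa
  haveI := quasiIso_whiskerRight hF π hπ
  intro i
  exact (h1 i).of_iso (asIso (HomologicalComplex.homologyMap (π ▷ F) i)).symm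

/-- the localisations of `P' ⊗ Č(fs)` at the elements of `fs` are acyclic -/
theorem acyclic_locCx_tensor_Cech (fs : List A) (P' : DRing.Cx A) (g : A) (hg : g ∈ fs) :
    ((DerCA.locCx (Submonoid.powers g)).obj (P' ⊗ Cech fs)).Acyclic := by
  obtain ⟨hk, hac, -⟩ := main_ind fs
  have hF : KFlat (sN (AS (Submonoid.powers g)) ⊗ Cech fs) :=
    kflat_tensor' (kflat_AS _) hk
  have hFa : Acyc (sN (AS (Submonoid.powers g)) ⊗ Cech fs) :=
    (KFlat3.acyclic_iff_isZero_homology _).1 (hac g hg)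
  have h1 := acyc_tensor_of_kflat_acyc P' _ hF hFa
  let e0 : (DerCA.locCx (Submonoid.powers g)).obj (P' ⊗ Cech fs) ≅
      sN (AS (Submonoid.powers g)) ⊗ (P' ⊗ Cech fs) := (locCxIso (Submonoid.powers g)).app _
  let e1 : sN (AS (Submonoid.powers g)) ⊗ (P' ⊗ Cech fs) ≅
      P' ⊗ (sN (AS (Submonoid.powers g)) ⊗ Cech fs) :=
    (α_ _ P' (Cech fs)).symm ≪≫ whiskerRightIso (DTen.braidCx _ P') (Cech fs) ≪≫ α_ P' _ (Cech fs)
  rw [KFlat3.acyclic_iff_isZero_homology]
  exact acyc_of_iso (e0 ≪≫ e1).symm h1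

/-- `Q(P' ⊗ Č(fs))` has `I`-power torsion cohomology -/
theorem tors_tensor_Cech (fs : List A) (P' : DRing.Cx A) :
    Tors (Ideal.span {y : A | y ∈ fs}) (Q.obj (P' ⊗ Cech fs)) := by
  intro q
  exact isPowerTorsion_of_iso (hdIso _ q).symm
    (isPowerTorsion_homology_of_acyclic_locCx fs _
      (fun g hg => acyclic_locCx_tensor_Cech fs P' g hg) q)

end Torsion

section Vanish

variable [IsNoetherianRing A]

/-- maps from an `f`-power torsion object to a complex on whose terms `f` is bijective vanish -/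
lemma hom_eq_zero_of_tors (f : A) (T : Dual.D A) (hT : Tors (Ideal.span {f}) T) (Z : DRing.Cx A)
    (hZ : ∀ n : ℤ, Function.Bijective (fun x : Z.X n => f • x)) (g : T ⟶ Q.obj Z) : g = 0 := by
  haveI : DRing.HasRgammaI (Ideal.span {f}) := hasRgammaI _
  have hz : IsZero ((DRing.RgammaI (Ideal.span {f})).obj (Q.obj Z)) :=
    Groth.Agent.S8933.result A (Ideal.span {f}) ⟨{f}, by simp⟩ Z f
      (Ideal.subset_span (Set.mem_singleton f)) hZ
  have hh : ∀ K : Dual.D A, Tors (Ideal.span {f}) ((DRing.RgammaI (Ideal.span {f})).obj K) :=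
    fun K i => isPowerTorsion_RgammaI _ K i
  obtain ⟨g', hg'⟩ := (Φ_bijective (Ideal.span {f}) hh ⟨T, hT⟩ (Q.obj Z)).2 g
  rw [← hg']
  show g'.hom ≫ _ = 0
  rw [hz.eq_of_tgt g'.hom 0, zero_comp]

lemma hom_shift_eq_zero_of_tors (f : A) (T : Dual.D A) (hT : Tors (Ideal.span {f}) T)
    (Z : DRing.Cx A) (hZ : ∀ n : ℤ, Function.Bijective (fun x : Z.X n => f • x)) (a : ℤ)
    (g : T ⟶ (Q.obj Z)⟦a⟧) : g = 0 := by
  have h1 := hom_eq_zero_of_tors f T hT (Z⟦a⟧) (fun n => hZ (n + a))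
    (g ≫ ((Q.commShiftIso a).app Z).inv)
  have h2 : g = (g ≫ ((Q.commShiftIso a).app Z).inv) ≫ ((Q.commShiftIso a).app Z).hom := by
    rw [Category.assoc, Iso.inv_hom_id, Category.comp_id]
  rw [h2, h1, zero_comp]

lemma tors_mono {I I' : Ideal A} (h : I' ≤ I) {T : Dual.D A} (hT : Tors I T) : Tors I' T :=
  fun i => isPowerTorsion_mono h (hT i)

end Vanish

section Tri

lemma whiskerLeft_smul_id (a : A) (P X : DRing.Cx A) : P ◁ (a • 𝟙 X) = a • 𝟙 (P ⊗ X) := by
  refine HomologicalComplex.hom_ext _ _ (fun n => Groth.Agent.Helper6.TenCx.hom_ext (fun p q hpq => ?_))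
  rw [ι_whiskerLeft]
  simp

lemma bijective_smul_of_isIso (a : A) (Y : DRing.Cx A) (h : IsIso (a • 𝟙 Y)) (n : ℤ) :
    Function.Bijective (fun x : Y.X n => a • x) := by
  haveI : IsIso ((a • 𝟙 Y).f n) :=
    inferInstanceAs (IsIso ((HomologicalComplex.eval _ _ n).map (a • 𝟙 Y)))
  have h1 := (ConcreteCategory.isIso_iff_bijective ((a • 𝟙 Y).f n)).1 inferInstance
  have h2 : ⇑(ConcreteCategory.hom ((a • 𝟙 Y).f n)) = fun x : Y.X n => a • x := by
    funext x
    rw [HomologicalComplex.smul_f_apply, HomologicalComplex.id_f]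
    rfl
  rwa [h2] at h1

variable (P : DRing.Cx A) {E E' : DRing.Cx A} (u : E ⟶ E')

lemma sesC_shortExact : (sesC u).ShortExact :=
  HomologicalComplex.shortExact_of_degreewise_shortExact _ (fun n => (splitC u n).shortExact)

lemma tenSES_shortExact : (tenSC P (sesC u)).ShortExact :=
  tenSC_shortExact_of_split P (sesC_shortExact u) (splitC u)

/-- the distinguished triangle `Q(P ⊗ E'⟦-1⟧) → Q(P ⊗ cocone u) → Q(P ⊗ E) →` -/
theorem tenTriangle_distinguished :
    DerivedCategory.triangleOfSES (tenSES_shortExact P u) ∈ distTriang (Dual.D A) :=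
  DerivedCategory.triangleOfSES_distinguished _

/-- if all maps from `X` to the first vertex and its shift vanish, maps from `X` to the other two
vertices agree -/
theorem bijective_postcomp (T : Triangle (Dual.D A)) (hT : T ∈ distTriang (Dual.D A))
    (X : Dual.D A) (h1 : ∀ g : X ⟶ T.obj₁, g = 0) (h1' : ∀ g : X ⟶ T.obj₁⟦(1 : ℤ)⟧, g = 0) :
    Function.Bijective (fun φ : X ⟶ T.obj₂ => φ ≫ T.mor₂) := by
  constructor
  · intro φ φ' h
    dsimp only at h
    have h0 : (φ - φ') ≫ T.mor₂ = 0 := by rw [Preadditive.sub_comp, h, sub_self]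
    obtain ⟨g, hg⟩ := Triangle.coyoneda_exact₂ T hT (φ - φ') h0
    rw [h1 g, zero_comp] at hg
    exact sub_eq_zero.1 hg
  · intro ψ
    obtain ⟨g, hg⟩ := Triangle.coyoneda_exact₃ T hT ψ (h1' _)
    exact ⟨g, hg.symm⟩

end Tri

section Ind

variable [IsNoetherianRing A]

lemma comp_fun' {X : Dual.D A} {P₁ P₂ P₃ : DRing.Cx A} (a : P₁ ⟶ P₂) (b : P₂ ⟶ P₃) :
    (fun φ : X ⟶ Q.obj P₁ => φ ≫ Q.map (a ≫ b)) =
      (fun ψ : X ⟶ Q.obj P₂ => ψ ≫ Q.map b) ∘ (fun φ : X ⟶ Q.obj P₁ => φ ≫ Q.map a) := by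
  funext φ
  rw [Functor.map_comp, ← Category.assoc]
  rfl

/-- maps from a torsion object into `P ⊗ Č` and into `P ⊗ A[0]` agree -/
theorem bijective_postcomp_aug (P : DRing.Cx A) (fs : List A) :
    ∀ (T : Dual.D A), Tors (Ideal.span {y : A | y ∈ fs}) T →
      Function.Bijective (fun φ : T ⟶ Q.obj (P ⊗ Cech fs) => φ ≫ Q.map (P ◁ aug fs)) := by
  induction fs with
  | nil =>
    intro T _
    have h : (fun φ : T ⟶ Q.obj (P ⊗ Cech ([] : List A)) =>
        φ ≫ Q.map (P ◁ aug ([] : List A))) = id := by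
      funext φ
      show φ ≫ Q.map (P ◁ 𝟙 _) = φ
      rw [MonoidalCategory.whiskerLeft_id, CategoryTheory.Functor.map_id, Category.comp_id]
    rw [h]
    exact Function.bijective_id
  | cons f fs ih =>
    intro T hT
    have hsub1 : Ideal.span {y : A | y ∈ fs} ≤ Ideal.span {y : A | y ∈ f :: fs} :=
      Ideal.span_mono (fun y hy => List.mem_cons_of_mem f hy)
    have hsub2 : Ideal.span {f} ≤ Ideal.span {y : A | y ∈ f :: fs} :=
      Ideal.span_mono (fun y hy => by
        rw [Set.mem_singleton_iff] at hy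
        subst hy
        exact List.mem_cons_self)
    have hT1 := tors_mono hsub1 hT
    have hT2 := tors_mono hsub2 hT
    show Function.Bijective (fun φ : T ⟶ Q.obj (P ⊗ mappingCocone
        (DerCA.locCxUnit (Submonoid.powers f) (Cech fs))) =>
      φ ≫ Q.map (P ◁ (mappingCocone.fst
        (DerCA.locCxUnit (Submonoid.powers f) (Cech fs)) ≫ aug fs)))
    rw [MonoidalCategory.whiskerLeft_comp, comp_fun']
    refine (ih T hT1).comp ?_
    have hZ : ∀ n : ℤ, Function.Bijective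
        (fun x : (P ⊗ ((DerCA.locCx (Submonoid.powers f)).obj (Cech fs))⟦(-1 : ℤ)⟧).X n =>
          f • x) := by
      intro n
      apply bijective_smul_of_isIso
      rw [← whiskerLeft_smul_id]
      haveI := isIso_smul_locCx_shift f (Cech fs) (-1)
      infer_instance
    exact bijective_postcomp _
      (tenTriangle_distinguished P (DerCA.locCxUnit (Submonoid.powers f) (Cech fs))) T
      (fun g => hom_eq_zero_of_tors f T hT2 _ hZ g)
      (fun g => hom_shift_eq_zero_of_tors f T hT2 _ hZ 1 g)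

end Ind

section Main

variable [IsNoetherianRing A]

lemma bijective_postcomp_ε (I : Ideal A) [DRing.HasRgammaI I] (T : Dual.D A) (hT : Tors I T)
    (K : Dual.D A) :
    Function.Bijective (fun g : T ⟶ (DRing.RgammaI I).obj K => g ≫ (DRing.RgammaIε I).app K) := by
  have hh : ∀ K : Dual.D A, Tors I ((DRing.RgammaI I).obj K) :=
    fun K i => isPowerTorsion_RgammaI _ K i
  have h := Φ_bijective I hh ⟨T, hT⟩ K
  constructor
  · intro g g' hgg'
    have := h.1 (a₁ := ObjectProperty.homMk g) (a₂ := ObjectProperty.homMk g') hgg'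
    exact congrArg (fun t => t.hom) this
  · intro y
    obtain ⟨g, hg⟩ := h.2 y
    exact ⟨g.hom, hg⟩

/-- two universal maps from torsion objects have isomorphic sources -/
lemma nonempty_iso_of_universal (I : Ideal A) {T₁ T₂ K : Dual.D A} (h₁ : Tors I T₁)
    (h₂ : Tors I T₂) (a₁ : T₁ ⟶ K) (a₂ : T₂ ⟶ K)
    (u₁ : ∀ T : Dual.D A, Tors I T → Function.Bijective (fun g : T ⟶ T₁ => g ≫ a₁))
    (u₂ : ∀ T : Dual.D A, Tors I T → Function.Bijective (fun g : T ⟶ T₂ => g ≫ a₂)) :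
    ∃ e : T₁ ≅ T₂, e.hom ≫ a₂ = a₁ := by
  obtain ⟨u, hu⟩ := (u₂ T₁ h₁).2 a₁
  obtain ⟨v, hv⟩ := (u₁ T₂ h₂).2 a₂
  dsimp only at hu hv
  refine ⟨⟨u, v, ?_, ?_⟩, hu⟩
  · apply (u₁ T₁ h₁).1
    dsimp only
    rw [Category.assoc, hv, hu, Category.id_comp]
  · apply (u₂ T₂ h₂).1
    dsimp only
    rw [Category.assoc, hu, hv, Category.id_comp]

/-- the augmentation `Q(P ⊗ Č) ⟶ Q P` -/
noncomputable def augQ (fs : List A) (P : DRing.Cx A) : Q.obj (P ⊗ Cech fs) ⟶ Q.obj P :=
  Q.map (P ◁ aug fs) ≫ Q.map (ρ_ P).hom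

/-- **`RΓ_I(P) ≅ P ⊗ Č`**, compatibly with the maps to `P` -/
theorem exists_RgammaI_iso (fs : List A) [DRing.HasRgammaI (Ideal.span {y : A | y ∈ fs})]
    (P : DRing.Cx A) :
    ∃ e : Q.obj (P ⊗ Cech fs) ≅ (DRing.RgammaI (Ideal.span {y : A | y ∈ fs})).obj (Q.obj P),
      e.hom ≫ (DRing.RgammaIε (Ideal.span {y : A | y ∈ fs})).app (Q.obj P) = augQ fs P := by
  refine nonempty_iso_of_universal (Ideal.span {y : A | y ∈ fs}) (tors_tensor_Cech fs P)
    (fun i => isPowerTorsion_RgammaI _ _ i) (augQ fs P) _ ?_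
    (fun T hT => bijective_postcomp_ε _ T hT _)
  intro T hT
  have h : (fun g : T ⟶ Q.obj (P ⊗ Cech fs) => g ≫ augQ fs P) =
      (fun ψ : T ⟶ Q.obj (P ⊗ Cech ([] : List A)) => ψ ≫ (Q.mapIso (ρ_ P)).hom) ∘
      (fun φ : T ⟶ Q.obj (P ⊗ Cech fs) => φ ≫ Q.map (P ◁ aug fs)) := by
    funext g
    show g ≫ Q.map (P ◁ aug fs) ≫ Q.map (ρ_ P).hom = _
    rw [← Category.assoc]
    rfl
  rw [h]
  refine Function.Bijective.comp ?_ (bijective_postcomp_aug P fs T hT)
  exact ⟨fun y y' hy => (cancel_mono (Q.mapIso (ρ_ P)).hom).1 hy,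
    fun y => ⟨y ≫ (Q.mapIso (ρ_ P)).inv, by
      show (y ≫ (Q.mapIso (ρ_ P)).inv) ≫ (Q.mapIso (ρ_ P)).hom = y
      rw [Category.assoc, Iso.inv_hom_id, Category.comp_id]⟩⟩

end Main

end Groth.Agent.Helper9.HomU3
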