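import Mathlib
import Groth.Prelude.Def_DRing4
import Groth.Agent.Helper6.DCAdic1
import Groth.Agent.Helper6.DComplAmp
import Groth.Agent.Helper9.HomU3

/-!
# Basic facts for the derived completion of `RΓ_J(M)`

* adic completeness of finite modules over complete rings and of modules killed by a power of `I`;
* the unit of derived completion is an isomorphism at derived complete objects;
* the image of `H⁰(RΓ_J(N[0])) → N` is the `J`-power torsion submodule.
-/

set_option autoImplicit false
set_option linter.style.haveILetI false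
set_option linter.unusedSectionVars false
set_option linter.unusedVariables false

universe u

open CategoryTheory CategoryTheory.Limits DerivedCategory

attribute [local instance] HasDerivedCategory.standard

namespace Groth.Agent.Helper9.DcT1

open Groth.Agent.Helper3.DRingLib Groth.Agent.Helper6.DComplAmp Groth.Agent.Helper6.DCAdic1
open Groth.Agent.Helper9.HomU3 Groth.Agent.Helper9.LCT1 Groth.Agent.Helper9.LCT2
  Groth.Agent.Helper9.LCT3

variable {A : Type u} [CommRing A] (I : Ideal A)

section complete

variable (N : Type u) [AddCommGroup N] [Module A N]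

/-- a finite module over a Noetherian adically complete ring is adically complete -/
theorem isAdicComplete_of_finite [IsNoetherianRing A] [IsAdicComplete I A] [Module.Finite A N] :
    IsAdicComplete I N := by
  haveI : IsHausdorff I N := IsHausdorff.of_le_jacobson I N (IsAdicComplete.le_jacobson_bot I)
  rw [isAdicComplete_iff]
  refine ⟨inferInstance, ?_⟩
  rw [← AdicCompletion.of_surjective_iff]
  intro y
  obtain ⟨t, rfl⟩ := AdicCompletion.ofTensorProduct_surjective_of_finite I N y
  induction t using TensorProduct.induction_on with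
  | zero => exact ⟨0, by simp⟩
  | tmul r x =>
    obtain ⟨a, rfl⟩ := AdicCompletion.of_surjective I A r
    refine ⟨a • x, ?_⟩
    rw [AdicCompletion.ofTensorProduct_tmul]
    ext n
    rw [AdicCompletion.smul_eval]
    rfl
  | add s t hs ht =>
    obtain ⟨a, ha⟩ := hs
    obtain ⟨b, hb⟩ := ht
    exact ⟨a + b, by rw [map_add, map_add, ha, hb]⟩

/-- a module killed by a power of `I` is adically complete -/
theorem isAdicComplete_of_pow_smul_eq_zero (n : ℕ) (h : ∀ a ∈ I ^ n, ∀ x : N, a • x = 0) :
    IsAdicComplete I N := by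
  have hbot : (I ^ n • ⊤ : Submodule A N) = ⊥ := by
    rw [eq_bot_iff, Submodule.smul_le]
    intro a ha x _
    rw [h a ha x]
    exact Submodule.zero_mem _
  have hH : IsHausdorff I N := ⟨fun x hx => by
    have h1 := hx n
    rw [SModEq.zero, hbot] at h1
    exact (Submodule.mem_bot A).mp h1⟩
  have hP : IsPrecomplete I N := ⟨fun f hf => by
    refine ⟨f n, fun k => ?_⟩
    rcases le_total k n with hkn | hkn
    · exact hf hkn
    · have h1 : f n ≡ f k [SMOD (I ^ n • ⊤ : Submodule A N)] := hf hkn
      rw [hbot, SModEq.bot] at h1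
      rw [h1]⟩
  exact { toIsHausdorff := hH, toIsPrecomplete := hP }

end complete

section unit

variable [DRing.HasDerivedCompletion I]

/-- the unit of derived completion is an isomorphism at derived complete objects -/
theorem isIso_toDerivedCompletion (K : Dual.D A) (hK : DRing.IsDerivedComplete I K) :
    IsIso (DRing.toDerivedCompletion I K) := by
  obtain ⟨e, he⟩ := completion_unique I K K (𝟙 K) hK (fun Z _ => by
    have : (fun φ : K ⟶ Z => 𝟙 K ≫ φ) = id := by
      funext φ
      exact Category.id_comp φ
    rw [this]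
    exact Function.bijective_id)
  have h1 : DRing.toDerivedCompletion I K = e.inv := by
    rw [← cancel_mono e.hom, he, Iso.inv_hom_id]
  rw [h1]
  infer_instance

lemma toDerivedCompletion_naturality {K K' : Dual.D A} (f : K ⟶ K') :
    DRing.toDerivedCompletion I K ≫
        (ObjectProperty.ι (DRing.IsDerivedComplete I)).map ((DRing.derivedCompletion I).map f) =
      f ≫ DRing.toDerivedCompletion I K' :=
  ((DRing.derivedCompletionAdj I).unit.naturality f).symm

end unit

section h0

/-- `H⁰(N[0]) ≅ N` -/
noncomputable def σ₀ (N : Type u) [AddCommGroup N] [Module A N] :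
    Dual.HD A (Dual.inD A N) 0 ≃ₗ[A] N :=
  ((DerivedCategory.singleFunctorCompHomologyFunctorIso (ModuleCat.{u} A) 0).app
    (ModuleCat.of A N)).toLinearEquiv

lemma σ₀_naturality {N N' : Type u} [AddCommGroup N] [Module A N] [AddCommGroup N'] [Module A N']
    (g : N →ₗ[A] N') (x : Dual.HD A (Dual.inD A N) 0) :
    σ₀ N' (((DerivedCategory.homologyFunctor (ModuleCat.{u} A) 0).map
      ((DerivedCategory.singleFunctor (ModuleCat.{u} A) 0).map (ModuleCat.ofHom g))).hom x) =
      g (σ₀ N x) :=
  congrArg (fun t => t.hom x)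
    ((DerivedCategory.singleFunctorCompHomologyFunctorIso (ModuleCat.{u} A) 0).hom.naturality
      (ModuleCat.ofHom g))

lemma σ₀_symm_apply (N : Type u) [AddCommGroup N] [Module A N] (s : N) :
    (σ₀ N).symm s = ((DerivedCategory.singleFunctorCompHomologyFunctorIso (ModuleCat.{u} A) 0).inv.app
      (ModuleCat.of A N)).hom s := rfl

variable [IsNoetherianRing A] (J : Ideal A) [DRing.HasRgammaI J]
  (N : Type u) [AddCommGroup N] [Module A N]

/-- the map `H⁰(RΓ_J(N[0])) → N` -/
noncomputable def h0ε : Dual.HD A ((DRing.RgammaI J).obj (Dual.inD A N)) 0 →ₗ[A] N :=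
  (σ₀ N).toLinearMap ∘ₗ
    ((DerivedCategory.homologyFunctor (ModuleCat.{u} A) 0).map
      ((DRing.RgammaIε J).app (Dual.inD A N))).hom

lemma h0ε_mem (x : Dual.HD A ((DRing.RgammaI J).obj (Dual.inD A N)) 0) :
    h0ε J N x ∈ DRing.torsionSub J N := by
  obtain ⟨n, hn⟩ := isPowerTorsion_RgammaI J (Dual.inD A N) 0 x
  exact ⟨n, fun a ha => by rw [← map_smul, hn a ha, map_zero]⟩

lemma tors_inD_of_isPowerTorsion (h : LocCoh.IsPowerTorsion J N) : Tors J (Dual.inD A N) := by
  intro i
  by_cases hi : i = 0
  · subst hi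
    intro x
    obtain ⟨n, hn⟩ := h (σ₀ N x)
    refine ⟨n, fun a ha => ?_⟩
    apply (σ₀ N).injective
    rw [map_smul, hn a ha, map_zero]
  · intro x
    have hz : IsZero ((DerivedCategory.homologyFunctor (ModuleCat.{u} A) i).obj (Dual.inD A N)) := by
      rcases lt_or_gt_of_ne hi with h | h
      · exact DerivedCategory.isZero_of_isGE (Dual.inD A N) 0 i h
      · exact DerivedCategory.isZero_of_isLE (Dual.inD A N) 0 i h
    haveI := ModuleCat.subsingleton_of_isZero hz
    exact ⟨0, fun a _ => Subsingleton.elim _ _⟩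

theorem exists_h0ε_eq (s : N) (hs : s ∈ DRing.torsionSub J N) :
    ∃ x : Dual.HD A ((DRing.RgammaI J).obj (Dual.inD A N)) 0, h0ε J N x = s := by
  let Γ : Submodule A N := DRing.torsionSub J N
  have hΓ : LocCoh.IsPowerTorsion J Γ := by
    rintro ⟨m, n, hn⟩
    exact ⟨n, fun a ha => Subtype.ext (hn a ha)⟩
  obtain ⟨g, hg⟩ := (bijective_postcomp_ε J (Dual.inD A Γ) (tors_inD_of_isPowerTorsion J Γ hΓ)
    (Dual.inD A N)).2 ((DerivedCategory.singleFunctor (ModuleCat.{u} A) 0).map
      (ModuleCat.ofHom Γ.subtype))
  dsimp only at hg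
  refine ⟨((DerivedCategory.homologyFunctor (ModuleCat.{u} A) 0).map g).hom
    ((σ₀ Γ).symm ⟨s, hs⟩), ?_⟩
  show σ₀ N (((DerivedCategory.homologyFunctor (ModuleCat.{u} A) 0).map
      ((DRing.RgammaIε J).app (Dual.inD A N))).hom
    (((DerivedCategory.homologyFunctor (ModuleCat.{u} A) 0).map g).hom
      ((σ₀ Γ).symm ⟨s, hs⟩))) = s
  rw [← LinearMap.comp_apply, ← ModuleCat.hom_comp, ← Functor.map_comp, hg, σ₀_naturality,
    LinearEquiv.apply_symm_apply]
  rfl

theorem range_h0ε : (LinearMap.range (h0ε J N) : Set N) = DRing.torsionSub J N := by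
  ext s
  constructor
  · rintro ⟨x, rfl⟩
    exact h0ε_mem J N x
  · intro hs
    exact exists_h0ε_eq J N s hs

end h0

end Groth.Agent.Helper9.DcT1
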