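import Mathlib
import Groth.Prelude.Def_DualLC
import Groth.Prelude.Def_DRing4
import Groth.Agent.Helper9.BS1
import Groth.Agent.Helper9.DcT1

/-!
# Comparison of `RΓ_J(M)` with its derived completion along short exact sequences
-/

set_option autoImplicit false
set_option linter.style.haveILetI false
set_option linter.unusedSectionVars false
set_option linter.unusedVariables false

universe u
open CategoryTheory CategoryTheory.Limits Opposite DerivedCategory Pretriangulated
open scoped Pointwise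
attribute [local instance] HasDerivedCategory.standard

namespace Groth.Agent.Helper9.BS2
open Groth.Agent.Helper9.LCT1 Groth.Agent.Helper9.LCT2 Groth.Agent.Helper9.LCT3
  Groth.Agent.Helper9.BS1 Groth.Agent.Helper9.DcT1
  Groth.Agent.Helper6.DComplAmp Groth.Agent.Helper6.DComplExact

variable {A : Type u} [CommRing A] [IsNoetherianRing A]
variable (I J : Ideal A) [DRing.HasDerivedCompletion I] [DRing.HasRgammaI J]

/-- the comparison map `RΓ_J(X) ⟶ RΓ_J(X)^` -/
noncomputable abbrev cmp (X : Dual.D A) :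
    (DRing.RgammaI J).obj X ⟶ ((DRing.derivedCompletion I).obj ((DRing.RgammaI J).obj X)).obj :=
  DRing.toDerivedCompletion I ((DRing.RgammaI J).obj X)

/-- the two triangles attached to a distinguished triangle, and the compatibility of their
connecting maps -/
theorem exists_deltas (T : Triangle (Dual.D A)) (hT : T ∈ distTriang _) :
    ∃ (δ₁ : (DRing.RgammaI J).obj T.obj₃ ⟶ ((DRing.RgammaI J).obj T.obj₁)⟦(1 : ℤ)⟧)
      (δ₂ : ((DRing.derivedCompletion I).obj ((DRing.RgammaI J).obj T.obj₃)).obj ⟶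
        (((DRing.derivedCompletion I).obj ((DRing.RgammaI J).obj T.obj₁)).obj)⟦(1 : ℤ)⟧),
      Triangle.mk ((DRing.RgammaI J).map T.mor₁) ((DRing.RgammaI J).map T.mor₂) δ₁ ∈
        distTriang (Dual.D A) ∧
      Triangle.mk ((DRing.derivedCompletion I).map ((DRing.RgammaI J).map T.mor₁)).hom
        ((DRing.derivedCompletion I).map ((DRing.RgammaI J).map T.mor₂)).hom δ₂ ∈
        distTriang (Dual.D A) ∧
      δ₁ ≫ (cmp I J T.obj₁)⟦(1 : ℤ)⟧' = cmp I J T.obj₃ ≫ δ₂ := by
  obtain ⟨δ₁, h₁⟩ := RgammaI_distinguished J T hT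
  obtain ⟨δ₂, h₂, hc⟩ := completion_distinguished I _ h₁
  exact ⟨δ₁, δ₂, h₁, h₂, hc⟩

/-- the morphism of triangles -/
noncomputable def ladderHom (T : Triangle (Dual.D A))
    (δ₁ : (DRing.RgammaI J).obj T.obj₃ ⟶ ((DRing.RgammaI J).obj T.obj₁)⟦(1 : ℤ)⟧)
    (δ₂ : ((DRing.derivedCompletion I).obj ((DRing.RgammaI J).obj T.obj₃)).obj ⟶
      (((DRing.derivedCompletion I).obj ((DRing.RgammaI J).obj T.obj₁)).obj)⟦(1 : ℤ)⟧)
    (hc : δ₁ ≫ (cmp I J T.obj₁)⟦(1 : ℤ)⟧' = cmp I J T.obj₃ ≫ δ₂) :
    Triangle.mk ((DRing.RgammaI J).map T.mor₁) ((DRing.RgammaI J).map T.mor₂) δ₁ ⟶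
      Triangle.mk ((DRing.derivedCompletion I).map ((DRing.RgammaI J).map T.mor₁)).hom
        ((DRing.derivedCompletion I).map ((DRing.RgammaI J).map T.mor₂)).hom δ₂ where
  hom₁ := cmp I J T.obj₁
  hom₂ := cmp I J T.obj₂
  hom₃ := cmp I J T.obj₃
  comm₁ := (toDerivedCompletion_naturality I ((DRing.RgammaI J).map T.mor₁)).symm
  comm₂ := (toDerivedCompletion_naturality I ((DRing.RgammaI J).map T.mor₂)).symm
  comm₃ := hc

/-- **five lemma**: if the comparison map is an isomorphism on the first vertex, bijectivity on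
the third vertex gives bijectivity on the second one -/
theorem bijective_obj₂ (T : Triangle (Dual.D A)) (hT : T ∈ distTriang _)
    (hiso : IsIso (cmp I J T.obj₁)) (i : ℤ)
    (h1 : Function.Surjective (HM (i - 1) (cmp I J T.obj₃)))
    (h3 : Function.Bijective (HM i (cmp I J T.obj₃))) :
    Function.Bijective (HM i (cmp I J T.obj₂)) := by
  obtain ⟨δ₁, δ₂, h₁, h₂, hc⟩ := exists_deltas I J T hT
  haveI : IsIso (ladderHom I J T δ₁ δ₂ hc).hom₁ := hiso
  exact bijective_hom₂ h₁ h₂ (ladderHom I J T δ₁ δ₂ hc) i h1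
    (HM_bijective_of_isIso i _) h3 (HM_bijective_of_isIso (i + 1) _).1

/-- the step along a triangle `X --f--> X ⟶ Z ⟶` on which `f` kills the cohomology in
degree `i` -/
theorem bijective_of_smul (f : A) (X Z : Dual.D A) (g : X ⟶ Z) (h : Z ⟶ X⟦(1 : ℤ)⟧)
    (hT : Triangle.mk (f • 𝟙 X) g h ∈ distTriang (Dual.D A)) (i₀ i : ℤ) (hi : i₀ + 1 = i)
    (hz : ∀ x : Dual.HD A ((DRing.RgammaI J).obj X) i, f • x = 0)
    (hz' : ∀ x : Dual.HD A ((DRing.derivedCompletion I).obj ((DRing.RgammaI J).obj X)).obj i,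
      f • x = 0)
    (h2 : Function.Surjective (HM i₀ (cmp I J X)))
    (h3 : Function.Bijective (HM i₀ (cmp I J Z))) :
    Function.Bijective (HM i (cmp I J X)) := by
  obtain ⟨δ₁, δ₂, h₁, h₂, hc⟩ := exists_deltas I J _ hT
  refine bijective_hom₁_of_zero h₁ h₂ (ladderHom I J _ δ₁ δ₂ hc) i₀ i hi ?_ ?_ h2 h3
  · intro x
    show HM i ((DRing.RgammaI J).map (f • 𝟙 X)) x = 0
    rw [RgammaI_map_smul_id, HM_smul_id]
    exact hz x
  · intro x
    show HM i ((DRing.derivedCompletion I).map ((DRing.RgammaI J).map (f • 𝟙 X))).hom x = 0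
    rw [RgammaI_map_smul_id, completion_map_smul_id, HM_smul_id]
    exact hz' x

section Modules

/-- the five lemma along a short exact sequence of modules -/
theorem bijective_of_ses {M' M M'' : Type u} [AddCommGroup M'] [Module A M'] [AddCommGroup M]
    [Module A M] [AddCommGroup M''] [Module A M''] (f : M' →ₗ[A] M) (g : M →ₗ[A] M'')
    (hf : Function.Injective f) (hg : Function.Surjective g) (hfg : Function.Exact f g)
    (hiso : IsIso (cmp I J (Dual.inD A M'))) (i : ℤ)
    (h1 : Function.Surjective (HM (i - 1) (cmp I J (Dual.inD A M''))))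
    (h3 : Function.Bijective (HM i (cmp I J (Dual.inD A M'')))) :
    Function.Bijective (HM i (cmp I J (Dual.inD A M))) := by
  let S : ShortComplex (ModuleCat.{u} A) := ShortComplex.mk (ModuleCat.ofHom f) (ModuleCat.ofHom g)
    (by ext x; exact hfg.apply_apply_eq_zero x)
  have hS : S.ShortExact := ModuleCat.shortComplex_shortExact S hfg hf hg
  exact bijective_obj₂ I J hS.singleTriangle hS.singleTriangle_distinguished hiso i h1 h3

/-- the step along `0 ⟶ M --f--> M ⟶ M/fM ⟶ 0` -/
theorem bijective_of_regular (f : A) (M : Type u) [AddCommGroup M] [Module A M]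
    (hreg : IsSMulRegular M f) (i₀ i : ℤ) (hi : i₀ + 1 = i)
    (hz : ∀ x : Dual.HD A ((DRing.RgammaI J).obj (Dual.inD A M)) i, f • x = 0)
    (hz' : ∀ x : Dual.HD A ((DRing.derivedCompletion I).obj
      ((DRing.RgammaI J).obj (Dual.inD A M))).obj i, f • x = 0)
    (h2 : Function.Surjective (HM i₀ (cmp I J (Dual.inD A M))))
    (h3 : Function.Bijective (HM i₀ (cmp I J (Dual.inD A (QuotSMulTop f M))))) :
    Function.Bijective (HM i (cmp I J (Dual.inD A M))) := by
  have hex : Function.Exact (f • (LinearMap.id : M →ₗ[A] M))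
      (Submodule.mkQ (f • (⊤ : Submodule A M))) := by
    intro y
    rw [Submodule.mkQ_apply, Submodule.Quotient.mk_eq_zero,
      Submodule.mem_smul_pointwise_iff_exists]
    constructor
    · rintro ⟨b, -, hb⟩
      exact ⟨b, hb⟩
    · rintro ⟨b, hb⟩
      exact ⟨b, trivial, hb⟩
  let S : ShortComplex (ModuleCat.{u} A) := ShortComplex.mk
    (f • 𝟙 (ModuleCat.of A M)) (ModuleCat.ofHom (Submodule.mkQ (f • (⊤ : Submodule A M))))
    (by ext x; exact hex.apply_apply_eq_zero x)
  have hS : S.ShortExact := ModuleCat.shortComplex_shortExact S hex hreg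
    (Submodule.mkQ_surjective _)
  have hT := hS.singleTriangle_distinguished
  have h1 : (singleFunctor (ModuleCat.{u} A) 0).map S.f = f • 𝟙 (Dual.inD A M) := by
    show (singleFunctor (ModuleCat.{u} A) 0).map (f • 𝟙 (ModuleCat.of A M)) = _
    rw [Functor.map_smul, CategoryTheory.Functor.map_id]
  have hT' : Triangle.mk (f • 𝟙 (Dual.inD A M)) ((singleFunctor (ModuleCat.{u} A) 0).map S.g)
      hS.singleδ ∈ distTriang (Dual.D A) := by
    rw [← h1]
    exact hT
  exact bijective_of_smul I J f (Dual.inD A M) (Dual.inD A (QuotSMulTop f M)) _ _ hT' i₀ i hi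
    hz hz' h2 h3

end Modules

end Groth.Agent.Helper9.BS2
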