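import Mathlib
import Groth.Prelude.Def_DRing3

/-!
# An element which is `J`-power torsion modulo every `I^n M` is `J'`-power torsion for some
`J' ⊆ J ⊆ √(J' + I)`
-/

set_option autoImplicit false
set_option linter.unusedSectionVars false

universe u

namespace Groth.Agent.Helper9.DcT2

variable {A : Type u} [CommRing A] [IsNoetherianRing A] (I J : Ideal A)
  (M : Type u) [AddCommGroup M] [Module A M] [Module.Finite A M]

theorem exists_ideal (s : M)
    (hs : ∀ n : ℕ, (Submodule.Quotient.mk s : M ⧸ (I ^ n • ⊤ : Submodule A M)) ∈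
      DRing.torsionSub J (M ⧸ (I ^ n • ⊤ : Submodule A M))) :
    ∃ J' : Ideal A, J' ≤ J ∧ J ≤ (J' ⊔ I).radical ∧ s ∈ DRing.torsionSub J' M := by
  let N : Submodule A M := Submodule.span A {s}
  let 𝔞 : Ideal A := LinearMap.ker (LinearMap.toSpanSingleton A M s)
  have h𝔞 : ∀ a, a ∈ 𝔞 ↔ a • s = 0 := fun a => by
    show LinearMap.toSpanSingleton A M s a = 0 ↔ _
    rw [LinearMap.toSpanSingleton_apply]
  obtain ⟨c, hc⟩ := Ideal.exists_pow_inf_eq_pow_smul I N
  obtain ⟨k, hk⟩ := hs (c + 1)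
  -- `J^k ≤ I ⊔ 𝔞`
  have hJk : ∀ a ∈ J ^ k, ∃ i ∈ I, a - i ∈ 𝔞 := by
    intro a ha
    have h1 : a • s ∈ (I ^ (c + 1) • ⊤ : Submodule A M) := by
      have := hk a ha
      rw [← Submodule.Quotient.mk_smul, Submodule.Quotient.mk_eq_zero] at this
      exact this
    have h2 : a • s ∈ N := Submodule.smul_mem _ _ (Submodule.mem_span_singleton_self s)
    have h3 : a • s ∈ (I ^ (c + 1) • ⊤ ⊓ N : Submodule A M) := ⟨h1, h2⟩
    rw [hc (c + 1) (Nat.le_succ c), show c + 1 - c = 1 by omega, pow_one] at h3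
    have h4 : a • s ∈ I • N := (smul_mono_right I (inf_le_right : (I ^ c • ⊤ ⊓ N : Submodule A M) ≤ N)) h3
    obtain ⟨i, hi, his⟩ := Submodule.mem_smul_span_singleton.mp h4
    refine ⟨i, hi, ?_⟩
    rw [h𝔞, sub_smul, his, sub_self]
  refine ⟨J ⊓ 𝔞, inf_le_left, ?_, ?_⟩
  · intro g hg
    refine ⟨k + 1, ?_⟩
    obtain ⟨i, hi, hia⟩ := hJk (g ^ k) (Ideal.pow_mem_pow hg k)
    have e : g ^ (k + 1) = g * (g ^ k - i) + g * i := by ring
    rw [e]
    refine Ideal.add_mem _ (Ideal.mem_sup_left ⟨Ideal.mul_mem_right _ _ hg, ?_⟩)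
      (Ideal.mem_sup_right (Ideal.mul_mem_left _ _ hi))
    exact Ideal.mul_mem_left _ _ hia
  · refine ⟨1, fun a ha => ?_⟩
    rw [pow_one] at ha
    exact (h𝔞 a).mp ha.2

end Groth.Agent.Helper9.DcT2
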