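import Mathlib
import Groth.Prelude.Def_DerCA
import Groth.Prelude.Def_DRing4
import Groth.Agent.Helper6.DCTen5
import Groth.Agent.Helper9.HomU3

/-!
# `RΓ_J(N[0]) ≅ Q (Č ⊗ N)`, naturally in the module `N`
-/

set_option autoImplicit false
set_option linter.style.haveILetI false
set_option linter.unusedSectionVars false
set_option linter.unusedVariables false

universe u

open CategoryTheory CategoryTheory.Limits MonoidalCategory CochainComplex
open DerivedCategory Pretriangulated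

namespace Groth.Agent.Helper9.RlimD

open Groth.Agent.Helper6.TenCx Groth.Agent.Helper6.SingleTen Groth.Agent.Helper6.DCTen5
open Groth.Agent.Helper6.LTenModCompute
open Groth.Agent.Helper9.HomT7 Groth.Agent.Helper9.HomU3
open Groth.Agent.Helper9.LCT1 Groth.Agent.Helper9.LCT2 Groth.Agent.Helper9.LCT3

attribute [local instance] HasDerivedCategory.standard

variable {A : Type u} [CommRing A]

/-- functoriality of `P ⊗ N` in the module `N` -/
noncomputable def tmapN {N N' : ModuleCat.{u} A} (g : N ⟶ N') (P : DRing.Cx A) :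
    (tensF N).obj P ⟶ (tensF N').obj P where
  f i := P.X i ◁ g
  comm' i j _ := whisker_exchange (P.d i j) g

lemma tmapN_id (N : ModuleCat.{u} A) (P : DRing.Cx A) : tmapN (𝟙 N) P = 𝟙 _ := by
  refine HomologicalComplex.hom_ext _ _ (fun i => ?_)
  exact MonoidalCategory.whiskerLeft_id _ _

lemma tmapN_comp {N N' N'' : ModuleCat.{u} A} (g : N ⟶ N') (g' : N' ⟶ N'') (P : DRing.Cx A) :
    tmapN (g ≫ g') P = tmapN g P ≫ tmapN g' P := by
  refine HomologicalComplex.hom_ext _ _ (fun i => ?_)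
  exact MonoidalCategory.whiskerLeft_comp _ _ _

/-- `N[0] → N'[0]` -/
noncomputable abbrev sMap {N N' : ModuleCat.{u} A} (g : N ⟶ N') : sN N ⟶ sN N' :=
  (HomologicalComplex.single (ModuleCat.{u} A) (ComplexShape.up ℤ) 0).map g

lemma e_nat_N {N N' : ModuleCat.{u} A} (g : N ⟶ N') (P : DRing.Cx A) (n : ℤ) :
    ((sMap g).f 0 ▷ P.X n) ≫ (e N' P n).hom = (e N P n).hom ≫ (P.X n ◁ g) := by
  simp only [e, Iso.trans_hom, whiskerLeftIso_hom, Category.assoc]
  rw [BraidedCategory.braiding_naturality_left_assoc, ← MonoidalCategory.whiskerLeft_comp,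
    ← MonoidalCategory.whiskerLeft_comp]
  congr 2

lemma rho_naturality_N {N N' : ModuleCat.{u} A} (g : N ⟶ N') (P : DRing.Cx A) :
    (sMap g ▷ P) ≫ rho N' P = rho N P ≫ tmapN g P := by
  refine HomologicalComplex.hom_ext _ _ (fun n => ?_)
  apply ModuleCat.hom_ext
  apply LinearMap.ext
  intro w
  obtain ⟨v, rfl⟩ : ∃ v, w = ι (sN N) P 0 n n (zero_add n) v := ⟨_, eq_ι_π N P n w⟩
  show (e N' P n).hom (π (sN N') P 0 n n (zero_add n)
      ((sMap g ▷ P).f n (ι (sN N) P 0 n n (zero_add n) v))) =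
    (P.X n ◁ g) ((e N P n).hom (π (sN N) P 0 n n (zero_add n)
      (ι (sN N) P 0 n n (zero_add n) v)))
  have h1 : (sMap g ▷ P).f n (ι (sN N) P 0 n n (zero_add n) v) =
      ι (sN N') P 0 n n (zero_add n) (((sMap g).f 0 ▷ P.X n) v) :=
    congrArg (fun f => f.hom v) (ι_whiskerRight (sMap g) P 0 n n (zero_add n))
  rw [h1, π_ι_self, π_ι_self]
  exact congrArg (fun f => f.hom v) (e_nat_N g P n)

/-- the chain level augmentation `P ⊗ Č ⟶ P` -/
noncomputable def augC (fs : List A) (P : DRing.Cx A) : P ⊗ Cech fs ⟶ P :=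
  (P ◁ aug fs) ≫ (show P ⊗ Cech ([] : List A) ⟶ P from (ρ_ P).hom)

lemma augQ_eq (fs : List A) (P : DRing.Cx A) : augQ fs P = Q.map (augC fs P) :=
  (Q.map_comp _ _).symm

lemma augC_naturality (fs : List A) {P P' : DRing.Cx A} (φ : P ⟶ P') :
    (φ ▷ Cech fs) ≫ augC fs P' = augC fs P ≫ φ := by
  unfold augC
  rw [← Category.assoc, ← whisker_exchange, Category.assoc, Category.assoc]
  congr 1
  exact rightUnitor_naturality φ

lemma augQ_naturality (fs : List A) {P P' : DRing.Cx A} (φ : P ⟶ P') :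
    Q.map (φ ▷ Cech fs) ≫ augQ fs P' = augQ fs P ≫ Q.map φ := by
  rw [augQ_eq, augQ_eq, ← Functor.map_comp, ← Functor.map_comp, augC_naturality]

lemma tors_of_iso {I : Ideal A} {T T' : Dual.D A} (e : T ≅ T') (h : Tors I T) : Tors I T' :=
  fun i => isPowerTorsion_of_iso
    ((DerivedCategory.homologyFunctor (ModuleCat.{u} A) i).mapIso e) (h i)

/-- `Q (N[0]) ≅ N[0]` -/
noncomputable def σ (N : ModuleCat.{u} A) :
    Q.obj (sN N) ≅ (DerivedCategory.singleFunctor (ModuleCat.{u} A) 0).obj N :=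
  ((DerivedCategory.singleFunctorIsoCompQ (ModuleCat.{u} A) 0).app N).symm

lemma σ_naturality {N N' : ModuleCat.{u} A} (g : N ⟶ N') :
    Q.map (sMap g) ≫ (σ N').hom =
      (σ N).hom ≫ (DerivedCategory.singleFunctor (ModuleCat.{u} A) 0).map g :=
  (DerivedCategory.singleFunctorIsoCompQ (ModuleCat.{u} A) 0).inv.naturality g

section Main

variable [IsNoetherianRing A] (gs : List A) [DRing.HasRgammaI (Ideal.span {y : A | y ∈ gs})]

/-- the ideal generated by the list -/
abbrev JJ : Ideal A := Ideal.span {y : A | y ∈ gs}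

/-- the augmentation `Q (Č ⊗ N) ⟶ N[0]` -/
noncomputable def αN (N : ModuleCat.{u} A) :
    Q.obj ((tensF N).obj (Cech gs)) ⟶ (DerivedCategory.singleFunctor (ModuleCat.{u} A) 0).obj N :=
  Q.map (inv (rho N (Cech gs))) ≫ augQ gs (sN N) ≫ (σ N).hom

lemma αN_naturality {N N' : ModuleCat.{u} A} (g : N ⟶ N') :
    Q.map (tmapN g (Cech gs)) ≫ αN gs N' =
      αN gs N ≫ (DerivedCategory.singleFunctor (ModuleCat.{u} A) 0).map g := by
  unfold αN
  have h1 : Q.map (tmapN g (Cech gs)) ≫ Q.map (inv (rho N' (Cech gs))) =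
      Q.map (inv (rho N (Cech gs))) ≫ Q.map (sMap g ▷ Cech gs) := by
    rw [← Functor.map_comp, ← Functor.map_comp]
    congr 1
    rw [IsIso.comp_inv_eq, Category.assoc, rho_naturality_N, IsIso.inv_hom_id_assoc]
  rw [← Category.assoc, h1, Category.assoc, ← Category.assoc (Q.map (sMap g ▷ Cech gs)),
    augQ_naturality, Category.assoc, σ_naturality]
  simp only [Category.assoc]

lemma tors_Q_tensF (N : ModuleCat.{u} A) :
    Tors (JJ gs) (Q.obj ((tensF N).obj (Cech gs))) :=
  tors_of_iso (Q.mapIso (asIso (rho N (Cech gs)))) (tors_tensor_Cech gs (sN N))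

lemma exists_eN (N : ModuleCat.{u} A) :
    ∃ e : Q.obj ((tensF N).obj (Cech gs)) ≅
        (DRing.RgammaI (JJ gs)).obj ((DerivedCategory.singleFunctor (ModuleCat.{u} A) 0).obj N),
      e.hom ≫ (DRing.RgammaIε (JJ gs)).app
        ((DerivedCategory.singleFunctor (ModuleCat.{u} A) 0).obj N) = αN gs N := by
  obtain ⟨e₀, he₀⟩ := exists_RgammaI_iso gs (sN N)
  refine ⟨Q.mapIso (asIso (rho N (Cech gs))).symm ≪≫ e₀ ≪≫
    (DRing.RgammaI (JJ gs)).mapIso (σ N), ?_⟩
  have hn := (DRing.RgammaIε (JJ gs)).naturality (σ N).hom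
  simp only [Functor.id_obj, Functor.id_map] at hn
  simp only [Iso.trans_hom, Functor.mapIso_hom, Iso.symm_hom, asIso_inv, Category.assoc]
  rw [hn, ← Category.assoc e₀.hom, he₀]
  rfl

/-- the isomorphism `Q (Č ⊗ N) ≅ RΓ_J(N[0])` -/
noncomputable def eN (N : ModuleCat.{u} A) :
    Q.obj ((tensF N).obj (Cech gs)) ≅
      (DRing.RgammaI (JJ gs)).obj ((DerivedCategory.singleFunctor (ModuleCat.{u} A) 0).obj N) :=
  (exists_eN gs N).choose

lemma eN_ε (N : ModuleCat.{u} A) :
    (eN gs N).hom ≫ (DRing.RgammaIε (JJ gs)).app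
      ((DerivedCategory.singleFunctor (ModuleCat.{u} A) 0).obj N) = αN gs N :=
  (exists_eN gs N).choose_spec

theorem eN_naturality {N N' : ModuleCat.{u} A} (g : N ⟶ N') :
    Q.map (tmapN g (Cech gs)) ≫ (eN gs N').hom =
      (eN gs N).hom ≫ (DRing.RgammaI (JJ gs)).map
        ((DerivedCategory.singleFunctor (ModuleCat.{u} A) 0).map g) := by
  apply (bijective_postcomp_ε (JJ gs) _ (tors_Q_tensF gs N) _).1
  dsimp only
  have hn := (DRing.RgammaIε (JJ gs)).naturality
    ((DerivedCategory.singleFunctor (ModuleCat.{u} A) 0).map g)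
  simp only [Functor.id_obj, Functor.id_map] at hn
  rw [Category.assoc, Category.assoc, eN_ε, hn, ← Category.assoc, eN_ε, αN_naturality]

end Main

end Groth.Agent.Helper9.RlimD
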