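import Mathlib
import Groth.Prelude.Def_DRing2
import Groth.Agent.Helper3.DRingTor1

/-!
# Explicit countable products of complexes of modules

`PiCx C` is the termwise product of a family of complexes; it is a categorical product, preserves
acyclicity and short exact sequences.
-/

set_option autoImplicit false
set_option linter.unusedSectionVars false
set_option linter.style.haveILetI false
set_option linter.unusedVariables false
universe u
open CategoryTheory CategoryTheory.Limits

namespace Groth.Agent.Helper9.RlimA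

open Groth.Agent.Helper3.DRingLib

variable {A : Type u} [CommRing A] {ι : Type}

/-- the termwise product of a family of complexes -/
noncomputable def PiCx (C : ι → DRing.Cx A) : DRing.Cx A where
  X i := ModuleCat.of A (∀ n, (C n).X i)
  d i j := ModuleCat.ofHom (LinearMap.pi (fun n => ((C n).d i j).hom ∘ₗ LinearMap.proj n))
  shape i j h := by
    apply ModuleCat.hom_ext
    apply LinearMap.ext
    intro x
    funext n
    show ((C n).d i j).hom (x n) = 0
    rw [(C n).shape i j h]
    rfl
  d_comp_d' i j k _ _ := by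
    apply ModuleCat.hom_ext
    apply LinearMap.ext
    intro x
    funext n
    show ((C n).d j k).hom (((C n).d i j).hom (x n)) = 0
    rw [← LinearMap.comp_apply, ← ModuleCat.hom_comp, (C n).d_comp_d]
    rfl

lemma PiCx_d_apply (C : ι → DRing.Cx A) (i j : ℤ) (x : ∀ n, (C n).X i) (n : ι) :
    ((PiCx C).d i j).hom x n = ((C n).d i j).hom (x n) := rfl

/-- the projections -/
noncomputable def π (C : ι → DRing.Cx A) (n : ι) : PiCx C ⟶ C n where
  f i := ModuleCat.ofHom (LinearMap.proj n)
  comm' i j _ := rfl

lemma π_f_apply (C : ι → DRing.Cx A) (n : ι) (i : ℤ) (x : ∀ n, (C n).X i) :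
    ((π C n).f i).hom x = x n := rfl

/-- lifting a family of maps -/
noncomputable def lift (C : ι → DRing.Cx A) {K : DRing.Cx A} (f : ∀ n, K ⟶ C n) :
    K ⟶ PiCx C where
  f i := ModuleCat.ofHom (LinearMap.pi (fun n => ((f n).f i).hom))
  comm' i j _ := by
    apply ModuleCat.hom_ext
    apply LinearMap.ext
    intro x
    funext n
    show ((C n).d i j).hom (((f n).f i).hom x) = ((f n).f j).hom ((K.d i j).hom x)
    exact congrArg (fun t => t.hom x) ((f n).comm i j)

lemma lift_f_apply (C : ι → DRing.Cx A) {K : DRing.Cx A} (f : ∀ n, K ⟶ C n) (i : ℤ) (x : K.X i)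
    (n : ι) : ((lift C f).f i).hom x n = ((f n).f i).hom x := rfl

@[reassoc (attr := simp)]
lemma lift_π (C : ι → DRing.Cx A) {K : DRing.Cx A} (f : ∀ n, K ⟶ C n) (n : ι) :
    lift C f ≫ π C n = f n := rfl

lemma hom_ext (C : ι → DRing.Cx A) {K : DRing.Cx A} (f g : K ⟶ PiCx C)
    (h : ∀ n, f ≫ π C n = g ≫ π C n) : f = g := by
  refine HomologicalComplex.hom_ext _ _ (fun i => ?_)
  apply ModuleCat.hom_ext
  apply LinearMap.ext
  intro x
  funext n
  exact congrArg (fun t => (t.f i).hom x) (h n)

/-- `PiCx C` is a product -/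
noncomputable def isLimit (C : ι → DRing.Cx A) : IsLimit (Fan.mk (PiCx C) (π C)) :=
  Fan.IsLimit.mk _ (fun s => lift C s.proj) (fun s n => lift_π C s.proj n)
    (fun s m hm => hom_ext C _ _ (fun n => (hm n).trans (lift_π C s.proj n).symm))

/-- functoriality -/
noncomputable def map {C D : ι → DRing.Cx A} (g : ∀ n, C n ⟶ D n) : PiCx C ⟶ PiCx D :=
  lift D (fun n => π C n ≫ g n)

lemma map_f_apply {C D : ι → DRing.Cx A} (g : ∀ n, C n ⟶ D n) (i : ℤ) (x : ∀ n, (C n).X i)
    (n : ι) : ((map g).f i).hom x n = ((g n).f i).hom (x n) := rfl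

@[reassoc (attr := simp)]
lemma map_π {C D : ι → DRing.Cx A} (g : ∀ n, C n ⟶ D n) (n : ι) :
    map g ≫ π D n = π C n ≫ g n := rfl

/-- products of acyclic complexes are acyclic -/
lemma exactAt_PiCx (C : ι → DRing.Cx A) (i : ℤ) (h : ∀ n, (C n).ExactAt i) :
    (PiCx C).ExactAt i := by
  rw [exactAt_iff_forall (PiCx C) (i - 1) i (i + 1) (by omega) rfl]
  intro x hx
  have h1 : ∀ n, ∃ y : (C n).X (i - 1), ((C n).d (i - 1) i).hom y = x n := by
    intro n
    refine (exactAt_iff_forall (C n) (i - 1) i (i + 1) (by omega) rfl).mp (h n) (x n) ?_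
    exact congrFun hx n
  choose y hy using h1
  exact ⟨y, funext hy⟩

/-- products of short exact sequences are short exact -/
lemma shortExact_map {C₁ C₂ C₃ : ι → DRing.Cx A} (f : ∀ n, C₁ n ⟶ C₂ n) (g : ∀ n, C₂ n ⟶ C₃ n)
    (w : ∀ n, f n ≫ g n = 0) (h : ∀ n, (ShortComplex.mk (f n) (g n) (w n)).ShortExact) :
    (ShortComplex.mk (map f) (map g) (by
      apply hom_ext
      intro n
      rw [Category.assoc, map_π, map_π_assoc, w, comp_zero, zero_comp])).ShortExact := by
  apply HomologicalComplex.shortExact_of_degreewise_shortExact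
  intro i
  have hn : ∀ n, ((ShortComplex.mk (f n) (g n) (w n)).map
      (HomologicalComplex.eval _ _ i)).ShortExact := fun n => by
    haveI := (h n).mono_f
    haveI := (h n).epi_g
    exact (h n).map (HomologicalComplex.eval _ _ i)
  refine ShortComplex.ShortExact.mk' ?_ ?_ ?_
  · rw [ShortComplex.moduleCat_exact_iff]
    intro x hx
    have h1 : ∀ n, ∃ y : (C₁ n).X i, ((f n).f i).hom y = x n := by
      intro n
      exact (ShortComplex.moduleCat_exact_iff _).mp (hn n).exact (x n) (congrFun hx n)
    choose y hy using h1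
    exact ⟨y, funext hy⟩
  · rw [ModuleCat.mono_iff_injective]
    intro x x' hxx
    funext n
    exact (hn n).moduleCat_injective_f (congrFun hxx n)
  · rw [ModuleCat.epi_iff_surjective]
    intro z
    have h1 : ∀ n, ∃ y : (C₂ n).X i, ((g n).f i).hom y = z n := fun n =>
      (hn n).moduleCat_surjective_g (z n)
    choose y hy using h1
    exact ⟨y, funext hy⟩

end Groth.Agent.Helper9.RlimA
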