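import Mathlib
import Groth.Prelude.Def_DRing2
import Groth.Agent.Helper9.AdicEEq1
import Groth.Agent.Helper9.RlimA

/-!
# The tower `T / I^n T` of a complex and the short exact sequence
`0 → T^ → ∏ T/I^n T → ∏ T/I^n T → 0`
-/

set_option autoImplicit false
set_option linter.unusedSectionVars false
set_option linter.style.haveILetI false
set_option linter.unusedVariables false
universe u
open CategoryTheory CategoryTheory.Limits

namespace Groth.Agent.Helper9.RlimB

open Groth.Agent.Helper9.RlimA Groth.Agent.Helper9.AdicEEq1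

variable {A : Type u} [CommRing A] (I : Ideal A)

section modules

variable {X Y : Type u} [AddCommGroup X] [Module A X] [AddCommGroup Y] [Module A Y]

lemma smul_top_le_comap (J : Ideal A) (f : X →ₗ[A] Y) :
    (J • ⊤ : Submodule A X) ≤ (J • ⊤ : Submodule A Y).comap f := by
  rw [Submodule.smul_le]
  intro r hr x _
  rw [Submodule.mem_comap, map_smul]
  exact Submodule.smul_mem_smul hr Submodule.mem_top

/-- the map induced on `X / J X` -/
noncomputable def qmap (J : Ideal A) (f : X →ₗ[A] Y) :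
    X ⧸ (J • ⊤ : Submodule A X) →ₗ[A] Y ⧸ (J • ⊤ : Submodule A Y) :=
  Submodule.mapQ _ _ f (smul_top_le_comap J f)

@[simp] lemma qmap_mk (J : Ideal A) (f : X →ₗ[A] Y) (x : X) :
    qmap J f (Submodule.Quotient.mk x) = Submodule.Quotient.mk (f x) := rfl

variable (X) in
/-- the transition map `X / I^(n+1) X → X / I^n X` -/
noncomputable def tr (n : ℕ) :
    X ⧸ (I ^ (n + 1) • ⊤ : Submodule A X) →ₗ[A] X ⧸ (I ^ n • ⊤ : Submodule A X) :=
  Submodule.mapQ (I ^ (n + 1) • ⊤ : Submodule A X) (I ^ n • ⊤ : Submodule A X) LinearMap.id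
    (Submodule.smul_mono (Ideal.pow_le_pow_right (Nat.le_succ n)) le_rfl)

@[simp] lemma tr_mk (n : ℕ) (x : X) :
    tr I X n (Submodule.Quotient.mk x) = Submodule.Quotient.mk x := rfl

lemma tr_surjective (n : ℕ) : Function.Surjective (tr I X n) := by
  intro y
  obtain ⟨x, rfl⟩ := Submodule.Quotient.mk_surjective _ y
  exact ⟨Submodule.Quotient.mk x, rfl⟩

lemma tr_qmap (n : ℕ) (f : X →ₗ[A] Y) (x : X ⧸ (I ^ (n + 1) • ⊤ : Submodule A X)) :
    tr I Y n (qmap (I ^ (n + 1)) f x) = qmap (I ^ n) f (tr I X n x) := by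
  obtain ⟨x, rfl⟩ := Submodule.Quotient.mk_surjective _ x
  rfl

lemma tr_val (n : ℕ) (x : AdicCompletion I X) : tr I X n (x.val (n + 1)) = x.val n := by
  have := AdicCompletion.transitionMap_comp_eval_apply I X (Nat.le_succ n) x
  rw [← this]
  obtain ⟨y, hy⟩ := Submodule.Quotient.mk_surjective _ (x.val (n + 1))
  rw [← hy]
  rfl

lemma map_val (f : X →ₗ[A] Y) (n : ℕ) (x : AdicCompletion I X) :
    (AdicCompletion.map I f x).val n = qmap (I ^ n) f (x.val n) := by
  rw [AdicCompletion.map_val_apply]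
  obtain ⟨y, hy⟩ := Submodule.Quotient.mk_surjective _ (x.val n)
  rw [← hy]
  rfl

/-- a sequence compatible with consecutive transition maps defines an element of the completion -/
lemma exists_of_compat (y : ∀ n, X ⧸ (I ^ n • ⊤ : Submodule A X))
    (h : ∀ n, tr I X n (y (n + 1)) = y n) : ∃ x : AdicCompletion I X, ∀ n, x.val n = y n := by
  have key : ∀ (k m : ℕ) (hmn : m ≤ m + k),
      AdicCompletion.transitionMap I X hmn (y (m + k)) = y m := by
    intro k
    induction k with
    | zero =>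
      intro m hmn
      obtain ⟨z, hz⟩ := Submodule.Quotient.mk_surjective _ (y m)
      show AdicCompletion.transitionMap I X hmn (y m) = y m
      rw [← hz]
      rfl
    | succ k ih =>
      intro m hmn
      have h1 := ih m (Nat.le_add_right m k)
      rw [← h1, ← h (m + k)]
      obtain ⟨z, hz⟩ := Submodule.Quotient.mk_surjective _ (y (m + k + 1))
      show AdicCompletion.transitionMap I X hmn (y (m + k + 1)) = _
      rw [← hz]
      rfl
  refine ⟨⟨y, fun {m n} hmn => ?_⟩, fun n => rfl⟩
  obtain ⟨k, rfl⟩ := Nat.exists_eq_add_of_le hmn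
  exact key k m hmn

/-- solving `y n - tr (y (n+1)) = z n` -/
lemma exists_diff (z : ∀ n, X ⧸ (I ^ n • ⊤ : Submodule A X)) :
    ∃ y : ∀ n, X ⧸ (I ^ n • ⊤ : Submodule A X), ∀ n, y n - tr I X n (y (n + 1)) = z n := by
  let y : ∀ n, X ⧸ (I ^ n • ⊤ : Submodule A X) := fun n =>
    Nat.rec (motive := fun n => X ⧸ (I ^ n • ⊤ : Submodule A X)) 0
      (fun n yn => Function.surjInv (tr_surjective I n) (yn - z n)) n
  refine ⟨y, fun n => ?_⟩
  have h1 : tr I X n (y (n + 1)) = y n - z n :=
    Function.surjInv_eq (tr_surjective I n) (y n - z n)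
  rw [h1]
  abel

end modules

section functors

/-- `X ↦ X / I^n X` -/
noncomputable def quotF (n : ℕ) : ModuleCat.{u} A ⥤ ModuleCat.{u} A where
  obj X := ModuleCat.of A (X ⧸ (I ^ n • ⊤ : Submodule A X))
  map f := ModuleCat.ofHom (qmap (I ^ n) f.hom)
  map_id X := by
    apply ModuleCat.hom_ext
    apply LinearMap.ext
    intro x
    obtain ⟨x, rfl⟩ := Submodule.Quotient.mk_surjective _ x
    rfl
  map_comp f g := by
    apply ModuleCat.hom_ext
    apply LinearMap.ext
    intro x
    obtain ⟨x, rfl⟩ := Submodule.Quotient.mk_surjective _ x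
    rfl

instance (n : ℕ) : (quotF I n).Additive where
  map_add {X Y f g} := by
    apply ModuleCat.hom_ext
    apply LinearMap.ext
    intro x
    obtain ⟨x, rfl⟩ := Submodule.Quotient.mk_surjective _ x
    rfl

/-- the transition maps -/
noncomputable def trNat (n : ℕ) : quotF I (n + 1) ⟶ quotF I n where
  app X := ModuleCat.ofHom (tr I X n)
  naturality X Y f := by
    apply ModuleCat.hom_ext
    apply LinearMap.ext
    intro x
    exact tr_qmap I n f.hom x

/-- the projections from the completion -/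
noncomputable def evalNat (n : ℕ) : complF I ⟶ quotF I n where
  app X := ModuleCat.ofHom (AdicCompletion.eval I X n)
  naturality X Y f := by
    apply ModuleCat.hom_ext
    apply LinearMap.ext
    intro x
    exact map_val I f.hom n x

lemma evalNat_trNat (n : ℕ) : evalNat I (n + 1) ≫ trNat I n = evalNat I n := by
  ext X : 2
  apply ModuleCat.hom_ext
  apply LinearMap.ext
  intro x
  exact tr_val I n x

/-- the quotient maps -/
noncomputable def mkNat (n : ℕ) : 𝟭 (ModuleCat.{u} A) ⟶ quotF I n where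
  app X := ModuleCat.ofHom (Submodule.mkQ (I ^ n • ⊤ : Submodule A X))
  naturality X Y f := rfl

lemma ofNat_evalNat (n : ℕ) : ofNat I ≫ evalNat I n = mkNat I n := rfl

lemma mkNat_trNat (n : ℕ) : mkNat I (n + 1) ≫ trNat I n = mkNat I n := rfl

end functors

section complexes

/-- `T ↦ T / I^n T` on complexes -/
noncomputable abbrev quotCx (n : ℕ) : DRing.Cx A ⥤ DRing.Cx A :=
  (quotF I n).mapHomologicalComplex (ComplexShape.up ℤ)

/-- the transition maps of the tower -/
noncomputable def trCx (n : ℕ) (T : DRing.Cx A) : (quotCx I (n + 1)).obj T ⟶ (quotCx I n).obj T :=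
  (NatTrans.mapHomologicalComplex (trNat I n) (ComplexShape.up ℤ)).app T

/-- the projections from the termwise completion -/
noncomputable def evalCx (n : ℕ) (T : DRing.Cx A) : (complCx I).obj T ⟶ (quotCx I n).obj T :=
  (NatTrans.mapHomologicalComplex (evalNat I n) (ComplexShape.up ℤ)).app T

/-- the quotient maps -/
noncomputable def mkCx (n : ℕ) (T : DRing.Cx A) : T ⟶ (quotCx I n).obj T where
  f i := (mkNat I n).app (T.X i)
  comm' i j _ := rfl

lemma evalCx_trCx (n : ℕ) (T : DRing.Cx A) : evalCx I (n + 1) T ≫ trCx I n T = evalCx I n T := by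
  refine HomologicalComplex.hom_ext _ _ (fun i => ?_)
  exact congrArg (fun t => t.app (T.X i)) (evalNat_trNat I n)

lemma mkCx_trCx (n : ℕ) (T : DRing.Cx A) : mkCx I (n + 1) T ≫ trCx I n T = mkCx I n T := rfl

lemma complMap_evalCx (n : ℕ) (T : DRing.Cx A) : complMap I T ≫ evalCx I n T = mkCx I n T := rfl

lemma trCx_naturality (n : ℕ) {T T' : DRing.Cx A} (g : T ⟶ T') :
    (quotCx I (n + 1)).map g ≫ trCx I n T' = trCx I n T ≫ (quotCx I n).map g :=
  (NatTrans.mapHomologicalComplex (trNat I n) (ComplexShape.up ℤ)).naturality g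

lemma mkCx_naturality (n : ℕ) {T T' : DRing.Cx A} (g : T ⟶ T') :
    g ≫ mkCx I n T' = mkCx I n T ≫ (quotCx I n).map g := rfl

/-- the tower `n ↦ T / I^n T` -/
noncomputable abbrev tower (T : DRing.Cx A) : ℕ → DRing.Cx A := fun n => (quotCx I n).obj T

/-- `T^ → ∏ T / I^n T` -/
noncomputable def inc (T : DRing.Cx A) : (complCx I).obj T ⟶ PiCx (tower I T) :=
  RlimA.lift _ (fun n => evalCx I n T)

/-- `1 - shift` on `∏ T / I^n T` -/
noncomputable def diff (T : DRing.Cx A) : PiCx (tower I T) ⟶ PiCx (tower I T) :=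
  RlimA.lift _ (fun n => RlimA.π (tower I T) n - RlimA.π (tower I T) (n + 1) ≫ trCx I n T)

lemma diff_π (T : DRing.Cx A) (n : ℕ) :
    diff I T ≫ RlimA.π (tower I T) n =
      RlimA.π (tower I T) n - RlimA.π (tower I T) (n + 1) ≫ trCx I n T := rfl

lemma inc_π (T : DRing.Cx A) (n : ℕ) : inc I T ≫ RlimA.π (tower I T) n = evalCx I n T := rfl

lemma inc_diff (T : DRing.Cx A) : inc I T ≫ diff I T = 0 := by
  apply RlimA.hom_ext
  intro n
  rw [Category.assoc, diff_π, Preadditive.comp_sub, ← Category.assoc, inc_π, inc_π, evalCx_trCx,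
    sub_self, zero_comp]

lemma diff_f_apply (T : DRing.Cx A) (i : ℤ)
    (y : ∀ n, (T.X i) ⧸ (I ^ n • ⊤ : Submodule A (T.X i))) (n : ℕ) :
    ((diff I T).f i).hom y n = y n - tr I (T.X i) n (y (n + 1)) := rfl

lemma inc_f_apply (T : DRing.Cx A) (i : ℤ) (x : AdicCompletion I (T.X i)) (n : ℕ) :
    ((inc I T).f i).hom x n = x.val n := rfl

/-- **the Milnor short exact sequence of complexes** -/
theorem shortExact (T : DRing.Cx A) :
    (ShortComplex.mk (inc I T) (diff I T) (inc_diff I T)).ShortExact := by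
  apply HomologicalComplex.shortExact_of_degreewise_shortExact
  intro i
  refine ShortComplex.ShortExact.mk' ?_ ?_ ?_
  · rw [ShortComplex.moduleCat_exact_iff]
    intro (y : ∀ n, (T.X i) ⧸ (I ^ n • ⊤ : Submodule A (T.X i))) hy
    have h1 : ∀ n, tr I (T.X i) n (y (n + 1)) = y n := by
      intro n
      have h2 : y n - tr I (T.X i) n (y (n + 1)) = 0 := congrFun hy n
      exact (sub_eq_zero.mp h2).symm
    obtain ⟨x, hx⟩ := exists_of_compat I y h1
    exact ⟨x, funext hx⟩
  · rw [ModuleCat.mono_iff_injective]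
    intro (x : AdicCompletion I (T.X i)) (x' : AdicCompletion I (T.X i)) hxx
    apply AdicCompletion.ext
    intro n
    exact congrFun hxx n
  · rw [ModuleCat.epi_iff_surjective]
    intro (z : ∀ n, (T.X i) ⧸ (I ^ n • ⊤ : Submodule A (T.X i)))
    obtain ⟨y, hy⟩ := exists_diff I z
    exact ⟨y, funext hy⟩

end complexes

end Groth.Agent.Helper9.RlimB
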