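import Mathlib
import Groth.Prelude.Def_DRing4
import Groth.Agent.Helper9.RlimB
import Groth.Agent.Helper9.RlimD

/-!
# `(P ⊗ M) / I^n ≅ P ⊗ (M / I^n M)` for complexes `P`, compatibly with the transition maps
-/

set_option autoImplicit false
set_option linter.style.haveILetI false
set_option linter.unusedSectionVars false
set_option linter.unusedVariables false

universe u

open CategoryTheory CategoryTheory.Limits MonoidalCategory TensorProduct

namespace Groth.Agent.Helper9.RlimE

open Groth.Agent.Helper9.RlimB Groth.Agent.Helper9.RlimD Groth.Agent.Helper6.LTenModCompute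

variable {A : Type u} [CommRing A]

section modules

variable (J : Ideal A) (X M : Type u) [AddCommGroup X] [Module A X] [AddCommGroup M] [Module A M]

lemma smul_eq_zero_tensor_quot (r : A) (hr : r ∈ J)
    (s : X ⊗[A] (M ⧸ (J • ⊤ : Submodule A M))) : r • s = 0 := by
  induction s using TensorProduct.induction_on with
  | zero => simp
  | tmul x m =>
    obtain ⟨m, rfl⟩ := Submodule.Quotient.mk_surjective _ m
    rw [TensorProduct.smul_tmul', TensorProduct.smul_tmul, ← Submodule.Quotient.mk_smul,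
      (Submodule.Quotient.mk_eq_zero _).mpr (Submodule.smul_mem_smul hr Submodule.mem_top),
      TensorProduct.tmul_zero]
  | add a b ha hb => rw [smul_add, ha, hb, add_zero]

lemma smul_top_le_ker :
    (J • ⊤ : Submodule A (X ⊗[A] M)) ≤
      LinearMap.ker ((Submodule.mkQ (J • ⊤ : Submodule A M)).lTensor X) := by
  rw [Submodule.smul_le]
  intro r hr t _
  rw [LinearMap.mem_ker, map_smul]
  exact smul_eq_zero_tensor_quot J X M r hr _

/-- `(X ⊗ M) / J → X ⊗ (M / J M)` -/
noncomputable def qtMap : (X ⊗[A] M) ⧸ (J • ⊤ : Submodule A (X ⊗[A] M)) →ₗ[A]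
    X ⊗[A] (M ⧸ (J • ⊤ : Submodule A M)) :=
  Submodule.liftQ _ ((Submodule.mkQ (J • ⊤ : Submodule A M)).lTensor X) (smul_top_le_ker J X M)

@[simp] lemma qtMap_mk (t : X ⊗[A] M) :
    qtMap J X M (Submodule.Quotient.mk t) =
      (Submodule.mkQ (J • ⊤ : Submodule A M)).lTensor X t := rfl

lemma range_lTensor_le :
    LinearMap.range ((J • ⊤ : Submodule A M).subtype.lTensor X) ≤
      (J • ⊤ : Submodule A (X ⊗[A] M)) := by
  rintro _ ⟨t, rfl⟩
  induction t using TensorProduct.induction_on with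
  | zero => simp
  | tmul x n =>
    obtain ⟨n, hn⟩ := n
    rw [LinearMap.lTensor_tmul]
    show x ⊗ₜ[A] n ∈ _
    refine Submodule.smul_induction_on hn (fun r hr m _ => ?_) (fun a b ha hb => ?_)
    · rw [TensorProduct.tmul_smul]
      exact Submodule.smul_mem_smul hr Submodule.mem_top
    · rw [TensorProduct.tmul_add]
      exact Submodule.add_mem _ ha hb
  | add a b ha hb =>
    rw [map_add]
    exact Submodule.add_mem _ ha hb

lemma qtMap_bijective : Function.Bijective (qtMap J X M) := by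
  constructor
  · rw [injective_iff_map_eq_zero]
    intro t ht
    obtain ⟨t, rfl⟩ := Submodule.Quotient.mk_surjective _ t
    rw [qtMap_mk] at ht
    have hex := lTensor_exact X
      (LinearMap.exact_subtype_mkQ (J • ⊤ : Submodule A M)) (Submodule.mkQ_surjective _)
    obtain ⟨s, rfl⟩ := (hex t).mp ht
    exact (Submodule.Quotient.mk_eq_zero _).mpr (range_lTensor_le J X M ⟨s, rfl⟩)
  · intro s
    obtain ⟨t, rfl⟩ := LinearMap.lTensor_surjective X (Submodule.mkQ_surjective _) s
    exact ⟨Submodule.Quotient.mk t, rfl⟩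

/-- `(X ⊗ M) / J ≃ X ⊗ (M / J M)` -/
noncomputable def qt : ((X ⊗[A] M) ⧸ (J • ⊤ : Submodule A (X ⊗[A] M))) ≃ₗ[A]
    X ⊗[A] (M ⧸ (J • ⊤ : Submodule A M)) :=
  LinearEquiv.ofBijective (qtMap J X M) (qtMap_bijective J X M)

variable {X} in
lemma qtMap_naturality {Y : Type u} [AddCommGroup Y] [Module A Y] (g : X →ₗ[A] Y)
    (t : (X ⊗[A] M) ⧸ (J • ⊤ : Submodule A (X ⊗[A] M))) :
    qtMap J Y M (qmap J (g.rTensor M) t) =
      g.rTensor (M ⧸ (J • ⊤ : Submodule A M)) (qtMap J X M t) := by
  obtain ⟨t, rfl⟩ := Submodule.Quotient.mk_surjective _ t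
  rw [qmap_mk, qtMap_mk, qtMap_mk]
  induction t using TensorProduct.induction_on with
  | zero => simp
  | tmul x m => rfl
  | add a b ha hb => rw [map_add, map_add, ha, hb, map_add, map_add]

lemma qtMap_tr (I : Ideal A) (n : ℕ)
    (t : (X ⊗[A] M) ⧸ (I ^ (n + 1) • ⊤ : Submodule A (X ⊗[A] M))) :
    qtMap (I ^ n) X M (tr I (X ⊗[A] M) n t) =
      (tr I M n).lTensor X (qtMap (I ^ (n + 1)) X M t) := by
  obtain ⟨t, rfl⟩ := Submodule.Quotient.mk_surjective _ t
  rw [tr_mk, qtMap_mk, qtMap_mk]
  induction t using TensorProduct.induction_on with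
  | zero => simp
  | tmul x m => rfl
  | add a b ha hb => rw [map_add, map_add, ha, hb, map_add]

end modules

section complexes

variable (I : Ideal A) (M : Type u) [AddCommGroup M] [Module A M] (P : DRing.Cx A)

/-- the module `M / I^n M` -/
abbrev Mq (n : ℕ) : ModuleCat.{u} A := ModuleCat.of A (M ⧸ (I ^ n • ⊤ : Submodule A M))

/-- the transition map `M / I^(n+1) M → M / I^n M` -/
noncomputable abbrev MqTr (n : ℕ) : Mq I M (n + 1) ⟶ Mq I M n := ModuleCat.ofHom (tr I M n)

/-- `(P ⊗ M) / I^n ≅ P ⊗ (M / I^n M)` -/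
noncomputable def θ (n : ℕ) :
    tower I ((tensF (ModuleCat.of A M)).obj P) n ≅ (tensF (Mq I M n)).obj P :=
  HomologicalComplex.Hom.isoOfComponents (fun i => (qt (I ^ n) (P.X i) M).toModuleIso) (by
    intro i j _
    apply ModuleCat.hom_ext
    apply LinearMap.ext
    intro t
    exact (qtMap_naturality (I ^ n) M (P.d i j).hom t).symm)

lemma θ_tr (n : ℕ) :
    trCx I n ((tensF (ModuleCat.of A M)).obj P) ≫ (θ I M P n).hom =
      (θ I M P (n + 1)).hom ≫ tmapN (MqTr I M n) P := by
  refine HomologicalComplex.hom_ext _ _ (fun i => ?_)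
  apply ModuleCat.hom_ext
  apply LinearMap.ext
  intro t
  exact qtMap_tr (P.X i) M I n t

end complexes

end Groth.Agent.Helper9.RlimE
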