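import Mathlib
import Groth.Prelude.Def_DRing4
import Groth.Agent.Helper9.GM2
import Groth.Agent.Helper9.AdicEEq2
import Groth.Agent.Helper9.RlimD
import Groth.Agent.Helper9.RlimE
import Groth.Agent.Helper9.DcT1

/-!
# `H⁰` of the derived completion of `RΓ_J(M)`: the formal parts

* (`mem_of_eq`) classes in the image of `H⁰((RΓ_J M)^) → H⁰(M^)` are `J`-power torsion modulo every
  `I^n M`;
* (`exists_of_mem`) `J'`-power torsion elements are in the image when `J' ⊆ J ⊆ √(J' + I)`.
-/

set_option autoImplicit false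
set_option linter.style.haveILetI false
set_option linter.unusedSectionVars false
set_option linter.unusedVariables false

universe u

open CategoryTheory CategoryTheory.Limits DerivedCategory

attribute [local instance] HasDerivedCategory.standard

namespace Groth.Agent.Helper9.DcT3

open Groth.Agent.Helper3.DRingLib Groth.Agent.Helper6.DComplAmp Groth.Agent.Helper6.DCAdic1
open Groth.Agent.Helper9.HomT7 Groth.Agent.Helper9.HomU3 Groth.Agent.Helper9.LCT1
  Groth.Agent.Helper9.LCT2 Groth.Agent.Helper9.LCT3 Groth.Agent.Helper9.DcT1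
  Groth.Agent.Helper9.RlimD Groth.Agent.Helper9.RlimE Groth.Agent.Helper9.AdicEEq2
  Groth.Agent.Helper6.LTenModCompute

variable {A : Type u} [CommRing A] [IsNoetherianRing A] (I : Ideal A)
  [DRing.HasDerivedCompletion I]

/-- the functor `H⁰` -/
noncomputable abbrev H0 : Dual.D A ⥤ ModuleCat.{u} A :=
  DerivedCategory.homologyFunctor (ModuleCat.{u} A) 0

/-- the functor `K ↦ K^` with values in `D(A)` -/
noncomputable abbrev dCι : Dual.D A ⥤ Dual.D A :=
  DRing.derivedCompletion I ⋙ ObjectProperty.ι (DRing.IsDerivedComplete I)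

variable (M : Type u) [AddCommGroup M] [Module A M]

/-- the map `M → H⁰(M^)` -/
noncomputable def uMap (s : M) : Dual.HD A ((dCι I).obj (Dual.inD A M)) 0 :=
  ((H0).map (DRing.toDerivedCompletion I (Dual.inD A M))).hom ((σ₀ M).symm s)

section A2

variable (gs : List A) [DRing.HasRgammaI (Ideal.span {y : A | y ∈ gs})]

/-- `RΓ_J` of a module killed by `I^n` is derived `I`-complete -/
lemma isDerivedComplete_RgammaI_quot (n : ℕ) :
    DRing.IsDerivedComplete I ((DRing.RgammaI (JJ gs)).obj
      (Dual.inD A (M ⧸ (I ^ n • ⊤ : Submodule A M)))) := by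
  refine isDerivedComplete_of_iso I (eN gs (Mq I M n)) ?_
  apply isDerivedComplete_Q_of_terms
  intro i
  haveI : IsAdicComplete I (((tensF (Mq I M n)).obj (Cech gs)).X i) :=
    isAdicComplete_of_pow_smul_eq_zero I _ n (fun a ha x =>
      smul_eq_zero_tensor_quot (I ^ n) ((Cech gs).X i) M a ha x)
  exact isDerivedComplete_of_isAdicComplete I _

lemma isDerivedComplete_inD_quot (n : ℕ) :
    DRing.IsDerivedComplete I (Dual.inD A (M ⧸ (I ^ n • ⊤ : Submodule A M))) := by
  haveI : IsAdicComplete I (M ⧸ (I ^ n • ⊤ : Submodule A M)) :=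
    isAdicComplete_of_pow_smul_eq_zero I _ n (fun a ha x => by
      obtain ⟨x, rfl⟩ := Submodule.Quotient.mk_surjective _ x
      rw [← Submodule.Quotient.mk_smul, Submodule.Quotient.mk_eq_zero]
      exact Submodule.smul_mem_smul ha Submodule.mem_top)
  exact isDerivedComplete_of_isAdicComplete I _

/-- classes in the image are `J`-power torsion modulo `I^n M` -/
theorem mem_of_eq (w : Dual.HD A ((dCι I).obj ((DRing.RgammaI (JJ gs)).obj (Dual.inD A M))) 0)
    (s : M)
    (h : ((H0).map ((dCι I).map ((DRing.RgammaIε (JJ gs)).app (Dual.inD A M)))).hom w =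
      uMap I M s) (n : ℕ) :
    (Submodule.Quotient.mk s : M ⧸ (I ^ n • ⊤ : Submodule A M)) ∈
      DRing.torsionSub (JJ gs) (M ⧸ (I ^ n • ⊤ : Submodule A M)) := by
  let Mn := M ⧸ (I ^ n • ⊤ : Submodule A M)
  let pn : M →ₗ[A] Mn := Submodule.mkQ _
  let K := (DRing.RgammaI (JJ gs)).obj (Dual.inD A M)
  let Kn := (DRing.RgammaI (JJ gs)).obj (Dual.inD A Mn)
  let ipn : Dual.inD A M ⟶ Dual.inD A Mn :=
    (DerivedCategory.singleFunctor (ModuleCat.{u} A) 0).map (ModuleCat.ofHom pn)
  have hKn := isDerivedComplete_RgammaI_quot I M gs n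
  have hMn := isDerivedComplete_inD_quot I M n
  obtain ⟨cn, hcn⟩ := (toDerivedCompletion_bijective I (Dual.inD A M) _ hMn).2 ipn
  obtain ⟨bn, hbn⟩ := (toDerivedCompletion_bijective I K _ hKn).2
    ((DRing.RgammaI (JJ gs)).map ipn)
  dsimp only at hcn hbn
  have sq : (dCι I).map ((DRing.RgammaIε (JJ gs)).app (Dual.inD A M)) ≫ cn =
      bn ≫ (DRing.RgammaIε (JJ gs)).app (Dual.inD A Mn) := by
    apply (toDerivedCompletion_bijective I K _ hMn).1
    dsimp only
    have hn : (DRing.RgammaI (JJ gs)).map ipn ≫ (DRing.RgammaIε (JJ gs)).app (Dual.inD A Mn) =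
        (DRing.RgammaIε (JJ gs)).app (Dual.inD A M) ≫ ipn :=
      (DRing.RgammaIε (JJ gs)).naturality ipn
    have h1 : DRing.toDerivedCompletion I K ≫
        (dCι I).map ((DRing.RgammaIε (JJ gs)).app (Dual.inD A M)) =
        (DRing.RgammaIε (JJ gs)).app (Dual.inD A M) ≫
          DRing.toDerivedCompletion I (Dual.inD A M) :=
      toDerivedCompletion_naturality I ((DRing.RgammaIε (JJ gs)).app (Dual.inD A M))
    calc DRing.toDerivedCompletion I K ≫
          (dCι I).map ((DRing.RgammaIε (JJ gs)).app (Dual.inD A M)) ≫ cn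
        = ((DRing.RgammaIε (JJ gs)).app (Dual.inD A M) ≫
            DRing.toDerivedCompletion I (Dual.inD A M)) ≫ cn := by
          rw [← Category.assoc, h1]
      _ = (DRing.RgammaIε (JJ gs)).app (Dual.inD A M) ≫ ipn := by
          rw [Category.assoc, hcn]
      _ = (DRing.toDerivedCompletion I K ≫ bn) ≫
            (DRing.RgammaIε (JJ gs)).app (Dual.inD A Mn) := by
          rw [hbn, hn]
      _ = DRing.toDerivedCompletion I K ≫ bn ≫
            (DRing.RgammaIε (JJ gs)).app (Dual.inD A Mn) := Category.assoc _ _ _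
  -- apply `H⁰`
  have e1 : σ₀ Mn (((H0).map cn).hom (uMap I M s)) = pn s := by
    unfold uMap
    rw [← LinearMap.comp_apply, ← ModuleCat.hom_comp, ← Functor.map_comp, hcn]
    have := σ₀_naturality pn ((σ₀ M).symm s)
    rw [LinearEquiv.apply_symm_apply] at this
    exact this
  have e2 : σ₀ Mn (((H0).map cn).hom (((H0).map ((dCι I).map
      ((DRing.RgammaIε (JJ gs)).app (Dual.inD A M)))).hom w)) =
      h0ε (JJ gs) Mn (((H0).map bn).hom w) := by
    rw [← LinearMap.comp_apply, ← ModuleCat.hom_comp, ← Functor.map_comp, sq, Functor.map_comp]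
    rfl
  rw [h, e1] at e2
  show pn s ∈ _
  rw [e2]
  exact h0ε_mem (JJ gs) Mn _

end A2

section A3

/-- power torsion for a bigger ideal up to radical -/
lemma tors_of_le_radical {J K : Ideal A} (h : J ≤ K.radical) {T : Dual.D A} (hT : Tors K T) :
    Tors J T := by
  obtain ⟨N, hN⟩ := Ideal.exists_pow_le_of_le_radical_of_fg h (IsNoetherian.noetherian J)
  intro i x
  obtain ⟨m, hm⟩ := hT i x
  refine ⟨N * m, fun a ha => hm a ?_⟩
  rw [pow_mul] at ha
  exact Ideal.pow_right_mono hN m ha

variable (J J' : Ideal A) [DRing.HasRgammaI J]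

/-- `J'`-power torsion elements are in the image, for `J' ⊆ J ⊆ √(J' + I)` -/
theorem exists_of_mem (hJ : J ≤ (J' ⊔ I).radical) (s : M) (hs : s ∈ DRing.torsionSub J' M) :
    ∃ w : Dual.HD A ((dCι I).obj ((DRing.RgammaI J).obj (Dual.inD A M))) 0,
      ((H0).map ((dCι I).map ((DRing.RgammaIε J).app (Dual.inD A M)))).hom w = uMap I M s := by
  haveI : DRing.HasRgammaI J' := hasRgammaI J'
  haveI : DRing.HasRgammaI I := hasRgammaI I
  haveI : DRing.HasRgammaI (J' ⊔ I) := hasRgammaI (J' ⊔ I)
  let K' := (DRing.RgammaI J').obj (Dual.inD A M)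
  let K := (DRing.RgammaI J).obj (Dual.inD A M)
  let X := (DRing.RgammaI I).obj K'
  let εI : X ⟶ K' := (DRing.RgammaIε I).app K'
  let εJ' : K' ⟶ Dual.inD A M := (DRing.RgammaIε J').app (Dual.inD A M)
  let εJ : K ⟶ Dual.inD A M := (DRing.RgammaIε J).app (Dual.inD A M)
  obtain ⟨eX⟩ := nonempty_comp_iso J' I (Dual.inD A M)
  have hX : Tors J X := tors_of_le_radical hJ
    (Groth.Agent.Helper9.RlimD.tors_of_iso eX.symm
      (fun i => isPowerTorsion_RgammaI (J' ⊔ I) (Dual.inD A M) i))
  obtain ⟨γ, hγ⟩ := (bijective_postcomp_ε J X hX (Dual.inD A M)).2 (εI ≫ εJ')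
  dsimp only at hγ
  haveI : IsIso ((DRing.derivedCompletion I).map εI) :=
    Groth.Agent.Helper9.GM2.isIso_derivedCompletion_map_ε I K'
  haveI : IsIso ((dCι I).map εI) := by
    show IsIso ((ObjectProperty.ι _).map ((DRing.derivedCompletion I).map εI))
    infer_instance
  obtain ⟨g, hg⟩ : ∃ g : (dCι I).obj K' ⟶ (dCι I).obj K,
      g ≫ (dCι I).map εJ = (dCι I).map εJ' := by
    refine ⟨inv ((dCι I).map εI) ≫ (dCι I).map γ, ?_⟩
    rw [Category.assoc, ← Functor.map_comp, hγ, Functor.map_comp, IsIso.inv_hom_id_assoc]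
  obtain ⟨x', hx'⟩ := exists_h0ε_eq J' M s hs
  refine ⟨((H0).map g).hom (((H0).map (DRing.toDerivedCompletion I K')).hom x'), ?_⟩
  have h1 : DRing.toDerivedCompletion I K' ≫ (dCι I).map εJ' =
      εJ' ≫ DRing.toDerivedCompletion I (Dual.inD A M) :=
    toDerivedCompletion_naturality I εJ'
  have h2 : ((H0).map εJ').hom x' = (σ₀ M).symm s := by
    rw [← hx']
    exact ((σ₀ M).symm_apply_apply _).symm
  calc ((H0).map ((dCι I).map εJ)).hom (((H0).map g).hom
        (((H0).map (DRing.toDerivedCompletion I K')).hom x'))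
      = ((H0).map (DRing.toDerivedCompletion I K' ≫ g ≫ (dCι I).map εJ)).hom x' := by
        rw [Functor.map_comp, Functor.map_comp]
        rfl
    _ = ((H0).map (εJ' ≫ DRing.toDerivedCompletion I (Dual.inD A M))).hom x' := by
        rw [hg, h1]
    _ = ((H0).map (DRing.toDerivedCompletion I (Dual.inD A M))).hom
          (((H0).map εJ').hom x') := by
        rw [Functor.map_comp]
        rfl
    _ = uMap I M s := by
        rw [h2]
        rfl

end A3

end Groth.Agent.Helper9.DcT3
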