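import Mathlib
import Groth.Prelude.Def_DerCA
import Groth.Prelude.Def_DRing4
import Groth.Agent.Helper1.ExtCechBot
import Groth.Agent.Helper9.HomT7

/-!
# The Čech complex of the ring: boundedness and flatness of its terms
-/

set_option autoImplicit false
set_option linter.style.haveILetI false
set_option linter.unusedSectionVars false
set_option linter.unusedVariables false

universe u

open CategoryTheory CategoryTheory.Limits CochainComplex DerCA

namespace Groth.Agent.Helper9.RlimF

open Groth.Agent.Helper9.HomT7

variable {A : Type u} [CommRing A]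

lemma flat_prod (M N : Type u) [AddCommGroup M] [Module A M] [AddCommGroup N] [Module A N]
    [Module.Flat A M] [Module.Flat A N] : Module.Flat A (M × N) := by
  rw [Module.Flat.iff_lTensor_preserves_injective_linearMap]
  intro X' X _ _ _ _ ι hι
  have hM := Module.Flat.lTensor_preserves_injective_linearMap (M := M) ι hι
  have hN := Module.Flat.lTensor_preserves_injective_linearMap (M := N) ι hι
  let e' := TensorProduct.prodLeft A A M N X'
  let e := TensorProduct.prodLeft A A M N X
  have key : ∀ t, e (ι.lTensor (M × N) t) =
      ((ι.lTensor M).prodMap (ι.lTensor N)) (e' t) := by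
    intro t
    induction t using TensorProduct.induction_on with
    | zero => rw [map_zero, map_zero, map_zero, map_zero]
    | tmul mn x =>
      obtain ⟨m, n⟩ := mn
      simp [e, e']
    | add a b ha hb =>
      rw [map_add, map_add, ha, hb, map_add, map_add]
  intro t t' htt
  apply e'.injective
  have h1 : ((ι.lTensor M).prodMap (ι.lTensor N)) (e' t) =
      ((ι.lTensor M).prodMap (ι.lTensor N)) (e' t') := by
    rw [← key, ← key, htt]
  have h2 : Function.Injective ((ι.lTensor M).prodMap (ι.lTensor N)) := by
    rw [LinearMap.coe_prodMap]
    exact Function.Injective.prodMap hM hN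
  exact h2 h1

lemma flat_localizedModule (M : Type u) [AddCommGroup M] [Module A M] [Module.Flat A M]
    (S : Submonoid A) : Module.Flat A (LocalizedModule S M) :=
  Module.Flat.trans A (Localization S) (LocalizedModule S M)

lemma flat_biprod (X Y : ModuleCat.{u} A) [Module.Flat A X] [Module.Flat A Y] :
    Module.Flat A (X ⊞ Y : ModuleCat.{u} A) := by
  haveI := flat_prod (A := A) X Y
  exact Module.Flat.of_linearEquiv (ModuleCat.biprodIsoProd X Y).toLinearEquiv

theorem termwiseFlat_extCech (M : ModuleCat.{u} A) [Module.Flat A M] :
    ∀ fs : List A, DRing.TermwiseFlat (extCech M fs)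
  | [] => fun i => by
    by_cases hi : i = 0
    · subst hi
      exact Module.Flat.of_linearEquiv
        (HomologicalComplex.singleObjXSelf (ComplexShape.up ℤ) 0 M).toLinearEquiv
    · haveI : Subsingleton ((extCech M []).X i) :=
        ModuleCat.subsingleton_of_isZero
          (HomologicalComplex.isZero_single_obj_X (ComplexShape.up ℤ) 0 _ i hi)
      infer_instance
  | f :: fs => fun n => by
    have ih := termwiseFlat_extCech M fs
    haveI h1 : Module.Flat A ((extCech M fs).X n) := ih n
    haveI h0 : Module.Flat A ((extCech M fs).X (n - 1)) := ih (n - 1)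
    haveI h2 : Module.Flat A (((locCx (Submonoid.powers f)).obj (extCech M fs)).X (n - 1)) :=
      flat_localizedModule ((extCech M fs).X (n - 1)) (Submonoid.powers f)
    haveI := flat_biprod ((extCech M fs).X n)
      (((locCx (Submonoid.powers f)).obj (extCech M fs)).X (n - 1))
    exact Module.Flat.of_linearEquiv
      (mappingCoconeXIso (locCxUnit (Submonoid.powers f) (extCech M fs)) n).toLinearEquiv

theorem vanishesAbove_extCech (M : ModuleCat.{u} A) :
    ∀ fs : List A, DRing.VanishesAbove (extCech M fs) fs.length
  | [] => fun i hi => HomologicalComplex.isZero_single_obj_X _ _ _ _ (by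
      simp at hi
      omega)
  | f :: fs => fun n hn => by
    have ih := vanishesAbove_extCech M fs
    have hn' : (fs.length : ℤ) + 1 < n := by
      simpa using hn
    have h1 : IsZero ((extCech M fs).X (n + -1 + 1)) := ih _ (by omega)
    have h2 : IsZero (((locCx (Submonoid.powers f)).obj (extCech M fs)).X (n + -1)) :=
      (locFunctor (Submonoid.powers f)).map_isZero (ih _ (by omega))
    exact (mappingCone.isZero_X_iff
      (locCxUnit (Submonoid.powers f) (extCech M fs)) (n + -1)).2 ⟨h1, h2⟩

lemma termwiseFlat_Cech (fs : List A) : DRing.TermwiseFlat (Cech fs) := by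
  haveI : Module.Flat A (ModuleCat.of A A) := inferInstanceAs (Module.Flat A A)
  exact termwiseFlat_extCech (ModuleCat.of A A) fs

lemma vanishesAbove_Cech (fs : List A) : DRing.VanishesAbove (Cech fs) fs.length :=
  vanishesAbove_extCech (ModuleCat.of A A) fs

lemma isZero_Cech_X_of_neg (fs : List A) (n : ℤ) (hn : n < 0) : IsZero ((Cech fs).X n) :=
  Groth.Agent.Helper1.ExtCech.isZero_X_of_neg (ModuleCat.of A A) fs n hn

end Groth.Agent.Helper9.RlimF
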