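import Mathlib
import Groth.Prelude.Def_DRing4
import Groth.Agent.Helper1.ExtCechBot
import Groth.Agent.Helper9.RlimF
import Groth.Agent.Helper9.DcT2
import Groth.Agent.Helper9.DcT3

/-!
# `H⁰` of the derived completion of `RΓ_J(M)`
-/

set_option autoImplicit false
set_option linter.style.haveILetI false
set_option linter.unusedSectionVars false
set_option linter.unusedVariables false

universe u

open CategoryTheory CategoryTheory.Limits DerivedCategory MonoidalCategory CochainComplex

attribute [local instance] HasDerivedCategory.standard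

namespace Groth.Agent.Helper9.DcT4

open Groth.Agent.Helper3.DRingLib Groth.Agent.Helper6.DComplAmp Groth.Agent.Helper6.DCAdic1
open Groth.Agent.Helper9.HomT7 Groth.Agent.Helper9.HomU3 Groth.Agent.Helper9.LCT1
  Groth.Agent.Helper9.LCT2 Groth.Agent.Helper9.LCT3 Groth.Agent.Helper9.DcT1
  Groth.Agent.Helper9.DcT3
  Groth.Agent.Helper9.RlimD Groth.Agent.Helper9.RlimE Groth.Agent.Helper9.RlimF
  Groth.Agent.Helper9.AdicEEq1 Groth.Agent.Helper9.AdicEEq2
  Groth.Agent.Helper6.LTenModCompute Groth.Agent.Helper6.DCTen5 Groth.Agent.Helper6.SingleTen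

variable {A : Type u} [CommRing A]

section gen

/-- `H⁰` of a map of complexes vanishing in degree `-1`, injective in degree `0`, is mono -/
lemma mono_homologyMap_zero {C D : DRing.Cx A} (φ : C ⟶ D) (hC : IsZero (C.X (-1)))
    (hD : IsZero (D.X (-1))) [Mono (φ.f 0)] : Mono (HomologicalComplex.homologyMap φ 0) := by
  haveI : IsIso (C.homologyπ 0) := C.isIso_homologyπ (-1) 0 (by simp) (hC.eq_of_src _ _)
  haveI : IsIso (D.homologyπ 0) := D.isIso_homologyπ (-1) 0 (by simp) (hD.eq_of_src _ _)
  haveI : Mono (HomologicalComplex.cyclesMap φ 0) := by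
    haveI : Mono (HomologicalComplex.cyclesMap φ 0 ≫ D.iCycles 0) := by
      rw [HomologicalComplex.cyclesMap_i]
      infer_instance
    exact mono_of_mono _ (D.iCycles 0)
  have h : HomologicalComplex.homologyMap φ 0 =
      inv (C.homologyπ 0) ≫ HomologicalComplex.cyclesMap φ 0 ≫ D.homologyπ 0 := by
    rw [IsIso.eq_inv_comp, HomologicalComplex.homologyπ_naturality]
  rw [h]
  infer_instance

lemma isIso_fst_f_zero {K L : CochainComplex (ModuleCat.{u} A) ℤ} (φ : K ⟶ L)
    (hL : IsZero (L.X (-1))) : IsIso ((mappingCocone.fst φ).f 0) := by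
  refine ⟨⟨(mappingCocone.inl φ).v 0 0 (add_zero 0), ?_, mappingCocone.inl_v_fst_f φ 0⟩⟩
  have h := mappingCocone.id_X φ 0 (-1) (by norm_num)
  have h0 : (mappingCocone.snd φ).v 0 (-1) (by norm_num) = 0 := hL.eq_of_tgt _ _
  rw [h0, zero_comp, add_zero] at h
  exact h

lemma isIso_aug_f_zero : ∀ gs : List A, IsIso ((aug gs).f 0)
  | [] => by
    show IsIso ((𝟙 (Cech ([] : List A)) : _ ⟶ _).f 0)
    rw [HomologicalComplex.id_f]
    infer_instance
  | g :: gs => by
    haveI := isIso_aug_f_zero gs
    haveI := isIso_fst_f_zero (DerCA.locCxUnit (Submonoid.powers g) (Cech gs))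
      ((DerCA.locFunctor (Submonoid.powers g)).map_isZero
        (Groth.Agent.Helper1.ExtCech.isZero_X_of_neg (ModuleCat.of A A) gs (-1) (by norm_num)))
    show IsIso ((mappingCocone.fst (DerCA.locCxUnit (Submonoid.powers g) (Cech gs)) ≫
      aug gs).f 0)
    rw [HomologicalComplex.comp_f]
    infer_instance

end gen

section model

variable [IsNoetherianRing A] (I : Ideal A) [DRing.HasDerivedCompletion I]

/-- naturality of the completed models -/
lemma psi_naturality {T T' : DRing.Cx A} (t : T ⟶ T')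
    (ψ : (dCι I).obj (Q.obj T) ≅ Q.obj ((complCx I).obj T))
    (hψ : DRing.toDerivedCompletion I (Q.obj T) ≫ ψ.hom = Q.map (complMap I T))
    (ψ' : (dCι I).obj (Q.obj T') ≅ Q.obj ((complCx I).obj T'))
    (hψ' : DRing.toDerivedCompletion I (Q.obj T') ≫ ψ'.hom = Q.map (complMap I T')) :
    (dCι I).map (Q.map t) ≫ ψ'.hom = ψ.hom ≫ Q.map ((complCx I).map t) := by
  apply (toDerivedCompletion_bijective I (Q.obj T) _
    (isDerivedComplete_complCx I (IsNoetherian.noetherian I) T')).1
  dsimp only
  have h1 : DRing.toDerivedCompletion I (Q.obj T) ≫ (dCι I).map (Q.map t) =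
      Q.map t ≫ DRing.toDerivedCompletion I (Q.obj T') :=
    toDerivedCompletion_naturality I (Q.map t)
  calc DRing.toDerivedCompletion I (Q.obj T) ≫ (dCι I).map (Q.map t) ≫ ψ'.hom
      = (Q.map t ≫ DRing.toDerivedCompletion I (Q.obj T')) ≫ ψ'.hom := by
        rw [← Category.assoc, h1]
    _ = Q.map (t ≫ complMap I T') := by
        rw [Category.assoc, hψ', Functor.map_comp]
    _ = Q.map (complMap I T ≫ (complCx I).map t) := by
        rw [complMap_naturality]
    _ = (DRing.toDerivedCompletion I (Q.obj T) ≫ ψ.hom) ≫ Q.map ((complCx I).map t) := by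
        rw [hψ, Functor.map_comp]
    _ = DRing.toDerivedCompletion I (Q.obj T) ≫ ψ.hom ≫ Q.map ((complCx I).map t) :=
        Category.assoc _ _ _

end model

section inj

variable [IsNoetherianRing A]

/-- the right unitor `N[0] ⊗ A[0] ⟶ N[0]` -/
noncomputable def rU (N : ModuleCat.{u} A) : sN N ⊗ Cech ([] : List A) ⟶ sN N :=
  (ρ_ (sN N)).hom

instance (N : ModuleCat.{u} A) : IsIso (rU N) := inferInstanceAs (IsIso (ρ_ (sN N)).hom)

/-- the isomorphism `Q (A[0] ⊗ N) ≅ N[0]` -/
noncomputable def β (N : ModuleCat.{u} A) :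
    Q.obj ((tensF N).obj (Cech ([] : List A))) ⟶
      (DerivedCategory.singleFunctor (ModuleCat.{u} A) 0).obj N :=
  Q.map (inv (rho N (Cech ([] : List A)))) ≫ Q.map (rU N) ≫ (σ N).hom

instance (N : ModuleCat.{u} A) : IsIso (β N) := by
  unfold β
  infer_instance

variable (gs : List A) [DRing.HasRgammaI (Ideal.span {y : A | y ∈ gs})]

lemma augQ_eq' (N : ModuleCat.{u} A) :
    augQ gs (sN N) = Q.map (sN N ◁ aug gs) ≫ Q.map (rU N) := rfl

lemma αN_eq (N : ModuleCat.{u} A) :
    αN gs N = Q.map ((tensF N).map (aug gs)) ≫ β N := by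
  have h : inv (rho N (Cech gs)) ≫ (sN N ◁ aug gs) =
      (tensF N).map (aug gs) ≫ inv (rho N (Cech ([] : List A))) := by
    rw [IsIso.inv_comp_eq, ← Category.assoc, ← rho_naturality, Category.assoc,
      IsIso.hom_inv_id, Category.comp_id]
  have hQ : Q.map (inv (rho N (Cech gs))) ≫ Q.map (sN N ◁ aug gs) =
      Q.map ((tensF N).map (aug gs)) ≫ Q.map (inv (rho N (Cech ([] : List A)))) := by
    rw [← Functor.map_comp, ← Functor.map_comp, h]
  calc αN gs N
      = Q.map (inv (rho N (Cech gs))) ≫ (Q.map (sN N ◁ aug gs) ≫ Q.map (rU N)) ≫ (σ N).hom := by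
        unfold αN
        rw [augQ_eq']
    _ = (Q.map (inv (rho N (Cech gs))) ≫ Q.map (sN N ◁ aug gs)) ≫ Q.map (rU N) ≫ (σ N).hom := by
        simp only [Category.assoc]
    _ = (Q.map ((tensF N).map (aug gs)) ≫ Q.map (inv (rho N (Cech ([] : List A))))) ≫
          Q.map (rU N) ≫ (σ N).hom := by
        rw [hQ]
    _ = Q.map ((tensF N).map (aug gs)) ≫ β N := by
        unfold β
        simp only [Category.assoc]

variable (I : Ideal A) [DRing.HasDerivedCompletion I] (M : Type u) [AddCommGroup M] [Module A M]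
  [Module.Finite A M]

/-- **injectivity** of `H⁰((RΓ_J M)^) → H⁰(M^)` -/
theorem mono_Hmap :
    Mono ((H0).map ((dCι I).map ((DRing.RgammaIε (JJ gs)).app (Dual.inD A M)))) := by
  let Mc : ModuleCat.{u} A := ModuleCat.of A M
  let T : DRing.Cx A := (tensF Mc).obj (Cech gs)
  let T₀ : DRing.Cx A := (tensF Mc).obj (Cech ([] : List A))
  let a₀ : T ⟶ T₀ := (tensF Mc).map (aug gs)
  let eM := eN gs Mc
  obtain ⟨ψ, hψ⟩ := exists_iso_complCx_tensF I M (Cech gs) gs.length (vanishesAbove_Cech gs)
    (termwiseFlat_Cech gs)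
  obtain ⟨ψ₀, hψ₀⟩ := exists_iso_complCx_tensF I M (Cech ([] : List A)) ([] : List A).length
    (vanishesAbove_Cech ([] : List A)) (termwiseFlat_Cech ([] : List A))
  have hnat : (dCι I).map (Q.map a₀) ≫ ψ₀.hom = ψ.hom ≫ Q.map ((complCx I).map a₀) :=
    psi_naturality I a₀ ψ hψ ψ₀ hψ₀
  have hε : (DRing.RgammaIε (JJ gs)).app (Dual.inD A M) = eM.inv ≫ Q.map a₀ ≫ β Mc := by
    rw [Iso.eq_inv_comp]
    exact (eN_ε gs Mc).trans (αN_eq gs Mc)
  have hmap : (dCι I).map ((DRing.RgammaIε (JJ gs)).app (Dual.inD A M)) =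
      (dCι I).map eM.inv ≫ ψ.hom ≫ Q.map ((complCx I).map a₀) ≫ ψ₀.inv ≫
        (dCι I).map (β Mc) := by
    rw [hε, Functor.map_comp, Functor.map_comp]
    congr 1
    rw [← Category.assoc ψ.hom, ← hnat, Category.assoc, Iso.hom_inv_id_assoc]
  -- the chain level statement
  haveI : Mono (((complCx I).map a₀).f 0) := by
    haveI := isIso_aug_f_zero gs
    show Mono ((complF I).map ((aug gs).f 0 ▷ Mc))
    infer_instance
  have hz : IsZero (((complCx I).obj T).X (-1)) :=
    (complF I).map_isZero (tensorCx_isZero_X (Cech gs) _ (-1)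
      (isZero_Cech_X_of_neg gs (-1) (by norm_num)))
  have hz₀ : IsZero (((complCx I).obj T₀).X (-1)) :=
    (complF I).map_isZero (tensorCx_isZero_X (Cech ([] : List A)) _ (-1)
      (isZero_Cech_X_of_neg ([] : List A) (-1) (by norm_num)))
  haveI hm := mono_homologyMap_zero ((complCx I).map a₀) hz hz₀
  haveI : Mono ((H0).map (Q.map ((complCx I).map a₀))) := by
    have hn := (DerivedCategory.homologyFunctorFactors (ModuleCat.{u} A) 0).hom.naturality
      ((complCx I).map a₀)
    haveI : Mono ((HomologicalComplex.homologyFunctor (ModuleCat.{u} A) (ComplexShape.up ℤ) 0).map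
        ((complCx I).map a₀)) := hm
    haveI : Mono ((Q ⋙ DerivedCategory.homologyFunctor (ModuleCat.{u} A) 0).map
        ((complCx I).map a₀) ≫
        (DerivedCategory.homologyFunctorFactors (ModuleCat.{u} A) 0).hom.app
          ((complCx I).obj T₀)) := by
      rw [hn]
      haveI h1 : IsIso ((DerivedCategory.homologyFunctorFactors (ModuleCat.{u} A) 0).hom.app
          ((complCx I).obj T)) :=
        NatIso.hom_app_isIso (DerivedCategory.homologyFunctorFactors (ModuleCat.{u} A) 0) _
      haveI h2 : Mono ((DerivedCategory.homologyFunctorFactors (ModuleCat.{u} A) 0).hom.app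
          ((complCx I).obj T)) := IsIso.mono_of_iso _
      exact @mono_comp _ _ _ _ _ _ h2 _ this
    exact mono_of_mono ((Q ⋙ DerivedCategory.homologyFunctor (ModuleCat.{u} A) 0).map
        ((complCx I).map a₀))
      ((DerivedCategory.homologyFunctorFactors (ModuleCat.{u} A) 0).hom.app ((complCx I).obj T₀))
  rw [hmap]
  simp only [Functor.map_comp]
  infer_instance

end inj

section final

variable [IsNoetherianRing A] (I : Ideal A) [IsAdicComplete I A] [DRing.HasDerivedCompletion I]
  (M : Type u) [AddCommGroup M] [Module A M] [Module.Finite A M]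

/-- `M → H⁰(M^)` is bijective for `M` finite over an adically complete ring -/
lemma uMap_bijective : Function.Bijective (uMap I M) := by
  haveI : IsAdicComplete I M := isAdicComplete_of_finite I M
  have hK : DRing.IsDerivedComplete I (Dual.inD A M) := isDerivedComplete_of_isAdicComplete I M
  haveI : IsIso (DRing.toDerivedCompletion I (Dual.inD A M)) := isIso_toDerivedCompletion I _ hK
  haveI : IsIso ((H0).map (DRing.toDerivedCompletion I (Dual.inD A M))) := inferInstance
  have hb : Function.Bijective ((H0).map (DRing.toDerivedCompletion I (Dual.inD A M))).hom :=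
    (ConcreteCategory.isIso_iff_bijective _).1 inferInstance
  exact hb.comp (σ₀ M).symm.bijective

theorem main_list (gs : List A) [DRing.HasRgammaI (Ideal.span {y : A | y ∈ gs})] :
    Function.Injective ((H0).map ((dCι I).map
        ((DRing.RgammaIε (JJ gs)).app (Dual.inD A M)))).hom ∧
      Set.range ((H0).map ((dCι I).map ((DRing.RgammaIε (JJ gs)).app (Dual.inD A M)))).hom =
        uMap I M '' {s : M | ∃ J' : Ideal A, J' ≤ JJ gs ∧ JJ gs ≤ (J' ⊔ I).radical ∧
          s ∈ DRing.torsionSub J' M} := by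
  refine ⟨(ModuleCat.mono_iff_injective _).1 (mono_Hmap gs I M), ?_⟩
  ext y
  constructor
  · rintro ⟨w, rfl⟩
    obtain ⟨s, hs⟩ := (uMap_bijective I M).2
      (((H0).map ((dCι I).map ((DRing.RgammaIε (JJ gs)).app (Dual.inD A M)))).hom w)
    refine ⟨s, ?_, hs⟩
    exact Groth.Agent.Helper9.DcT2.exists_ideal I (JJ gs) M s
      (fun n => mem_of_eq I M gs w s hs.symm n)
  · rintro ⟨s, ⟨J', hJ'1, hJ'2, hs⟩, rfl⟩
    obtain ⟨w, hw⟩ := exists_of_mem I M (JJ gs) J' hJ'2 s hs
    exact ⟨w, hw⟩

theorem main (J : Ideal A) [DRing.HasRgammaI J] :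
    Function.Injective ((DerivedCategory.homologyFunctor (ModuleCat.{u} A) 0).map
        ((ObjectProperty.ι (DRing.IsDerivedComplete I)).map ((DRing.derivedCompletion I).map
          ((DRing.RgammaIε J).app (Dual.inD A M))))).hom ∧
      Set.range ((DerivedCategory.homologyFunctor (ModuleCat.{u} A) 0).map
        ((ObjectProperty.ι (DRing.IsDerivedComplete I)).map ((DRing.derivedCompletion I).map
          ((DRing.RgammaIε J).app (Dual.inD A M))))).hom =
        (fun s : M => ((DerivedCategory.homologyFunctor (ModuleCat.{u} A) 0).map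
          (DRing.toDerivedCompletion I (Dual.inD A M))).hom
            (((DerivedCategory.singleFunctorCompHomologyFunctorIso (ModuleCat.{u} A) 0).inv.app
              (ModuleCat.of A M)).hom s)) ''
          {s : M | ∃ J' : Ideal A, J' ≤ J ∧ J ≤ (J' ⊔ I).radical ∧
            s ∈ DRing.torsionSub J' M} := by
  obtain ⟨gs, hgs⟩ := Groth.Agent.Helper6.DerNak.exists_list_of_fg J (IsNoetherian.noetherian J)
  subst hgs
  exact main_list I M gs

end final

end Groth.Agent.Helper9.DcT4
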