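import Mathlib
import Groth.Prelude.Def_DRing4
import Groth.Agent.Helper9.DcT4
import Groth.Agent.Helper9.BS1

/-!
# Vanishing in negative degrees of `RΓ_J(M)` and of its derived completion
-/

set_option autoImplicit false
set_option linter.style.haveILetI false
set_option linter.unusedSectionVars false
set_option linter.unusedVariables false

universe u

open CategoryTheory CategoryTheory.Limits DerivedCategory MonoidalCategory CochainComplex

attribute [local instance] HasDerivedCategory.standard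

namespace Groth.Agent.Helper9.BS3

open Groth.Agent.Helper3.DRingLib Groth.Agent.Helper6.DComplAmp Groth.Agent.Helper6.DCAdic1
open Groth.Agent.Helper9.HomT7 Groth.Agent.Helper9.HomU3 Groth.Agent.Helper9.LCT1
  Groth.Agent.Helper9.LCT2 Groth.Agent.Helper9.LCT3 Groth.Agent.Helper9.DcT1
  Groth.Agent.Helper9.DcT3 Groth.Agent.Helper9.DcT4
  Groth.Agent.Helper9.RlimD Groth.Agent.Helper9.RlimE Groth.Agent.Helper9.RlimF
  Groth.Agent.Helper9.AdicEEq1 Groth.Agent.Helper9.AdicEEq2
  Groth.Agent.Helper6.LTenModCompute Groth.Agent.Helper6.DCTen5 Groth.Agent.Helper6.SingleTen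

variable {A : Type u} [CommRing A] [IsNoetherianRing A]

/-- `H^i(RΓ_J(M)) = 0` for `i < 0` -/
theorem subsingleton_HD_RgammaI_neg (J : Ideal A) [DRing.HasRgammaI J] (M : Type u)
    [AddCommGroup M] [Module A M] (i : ℤ) (hi : i < 0) :
    Subsingleton (Dual.HD A ((DRing.RgammaI J).obj (Dual.inD A M)) i) := by
  obtain ⟨gs, hgs⟩ := Groth.Agent.Helper6.DerNak.exists_list_of_fg J (IsNoetherian.noetherian J)
  subst hgs
  let Mc : ModuleCat.{u} A := ModuleCat.of A M
  rw [← hz_iff_subsingleton]
  refine hz_of_iso (eN gs Mc) i ?_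
  rw [hz_Q_iff]
  exact exactAt_of_isZero_X _ i (tensorCx_isZero_X (Cech gs) _ i (isZero_Cech_X_of_neg gs i hi))

/-- `H^i(RΓ_J(M)^) = 0` for `i < 0` and `M` finite -/
theorem subsingleton_HD_completion_neg (I J : Ideal A) [DRing.HasDerivedCompletion I]
    [DRing.HasRgammaI J] (M : Type u) [AddCommGroup M] [Module A M] [Module.Finite A M]
    (i : ℤ) (hi : i < 0) :
    Subsingleton (Dual.HD A ((DRing.derivedCompletion I).obj
      ((DRing.RgammaI J).obj (Dual.inD A M))).obj i) := by
  obtain ⟨gs, hgs⟩ := Groth.Agent.Helper6.DerNak.exists_list_of_fg J (IsNoetherian.noetherian J)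
  subst hgs
  let Mc : ModuleCat.{u} A := ModuleCat.of A M
  obtain ⟨ψ, hψ⟩ := exists_iso_complCx_tensF I M (Cech gs) gs.length (vanishesAbove_Cech gs)
    (termwiseFlat_Cech gs)
  rw [← hz_iff_subsingleton]
  refine hz_of_iso ((dCι I).mapIso (eN gs Mc)) i ?_
  refine hz_of_iso ψ.symm i ?_
  rw [hz_Q_iff]
  exact exactAt_of_isZero_X _ i ((complF I).map_isZero
    (tensorCx_isZero_X (Cech gs) _ i (isZero_Cech_X_of_neg gs i hi)))

end Groth.Agent.Helper9.BS3
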