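import Mathlib
import Groth.Prelude.Def_DRing4
import Groth.Agent.Helper9.DcT4
import Groth.Agent.Helper9.BS1
import Groth.Agent.Helper9.BS2

/-!
# The comparison map in degree `0`
-/

set_option autoImplicit false
set_option linter.style.haveILetI false
set_option linter.unusedSectionVars false
set_option linter.unusedVariables false

universe u

open CategoryTheory CategoryTheory.Limits DerivedCategory MonoidalCategory CochainComplex

attribute [local instance] HasDerivedCategory.standard

namespace Groth.Agent.Helper9.BS4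

open Groth.Agent.Helper3.DRingLib Groth.Agent.Helper6.DComplAmp Groth.Agent.Helper6.DCAdic1
open Groth.Agent.Helper9.HomT7 Groth.Agent.Helper9.HomU3 Groth.Agent.Helper9.LCT1
  Groth.Agent.Helper9.LCT2 Groth.Agent.Helper9.LCT3 Groth.Agent.Helper9.DcT1
  Groth.Agent.Helper9.DcT3 Groth.Agent.Helper9.DcT4
  Groth.Agent.Helper9.RlimD Groth.Agent.Helper9.RlimE Groth.Agent.Helper9.RlimF
  Groth.Agent.Helper9.AdicEEq1 Groth.Agent.Helper9.AdicEEq2
  Groth.Agent.Helper6.LTenModCompute Groth.Agent.Helper6.DCTen5 Groth.Agent.Helper6.SingleTen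
  Groth.Agent.Helper9.BS1 Groth.Agent.Helper9.BS2

variable {A : Type u} [CommRing A] [IsNoetherianRing A]

section inj

variable (gs : List A) [DRing.HasRgammaI (Ideal.span {y : A | y ∈ gs})]
  (M : Type u) [AddCommGroup M] [Module A M]

/-- `H⁰(RΓ_J(M)) → H⁰(M)` is injective -/
theorem mono_H0_ε_list :
    Mono ((H0).map ((DRing.RgammaIε (JJ gs)).app (Dual.inD A M))) := by
  let Mc : ModuleCat.{u} A := ModuleCat.of A M
  let T : DRing.Cx A := (tensF Mc).obj (Cech gs)
  let T₀ : DRing.Cx A := (tensF Mc).obj (Cech ([] : List A))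
  let a₀ : T ⟶ T₀ := (tensF Mc).map (aug gs)
  let eM := eN gs Mc
  have hε : (DRing.RgammaIε (JJ gs)).app (Dual.inD A M) = eM.inv ≫ Q.map a₀ ≫ β Mc := by
    rw [Iso.eq_inv_comp]
    exact (eN_ε gs Mc).trans (αN_eq gs Mc)
  haveI : Mono (a₀.f 0) := by
    haveI := isIso_aug_f_zero gs
    show Mono ((aug gs).f 0 ▷ Mc)
    infer_instance
  have hz : IsZero (T.X (-1)) :=
    tensorCx_isZero_X (Cech gs) _ (-1) (isZero_Cech_X_of_neg gs (-1) (by norm_num))
  have hz₀ : IsZero (T₀.X (-1)) :=
    tensorCx_isZero_X (Cech ([] : List A)) _ (-1)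
      (isZero_Cech_X_of_neg ([] : List A) (-1) (by norm_num))
  haveI hm := mono_homologyMap_zero a₀ hz hz₀
  haveI : Mono ((H0).map (Q.map a₀)) := by
    have hn := (DerivedCategory.homologyFunctorFactors (ModuleCat.{u} A) 0).hom.naturality a₀
    haveI : Mono ((HomologicalComplex.homologyFunctor (ModuleCat.{u} A) (ComplexShape.up ℤ) 0).map
        a₀) := hm
    haveI : Mono ((Q ⋙ DerivedCategory.homologyFunctor (ModuleCat.{u} A) 0).map a₀ ≫
        (DerivedCategory.homologyFunctorFactors (ModuleCat.{u} A) 0).hom.app T₀) := by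
      rw [hn]
      haveI h1 : IsIso ((DerivedCategory.homologyFunctorFactors (ModuleCat.{u} A) 0).hom.app T) :=
        NatIso.hom_app_isIso (DerivedCategory.homologyFunctorFactors (ModuleCat.{u} A) 0) _
      haveI h2 : Mono ((DerivedCategory.homologyFunctorFactors (ModuleCat.{u} A) 0).hom.app T) :=
        IsIso.mono_of_iso _
      exact @mono_comp _ _ _ _ _ _ h2 _ this
    exact mono_of_mono ((Q ⋙ DerivedCategory.homologyFunctor (ModuleCat.{u} A) 0).map a₀)
      ((DerivedCategory.homologyFunctorFactors (ModuleCat.{u} A) 0).hom.app T₀)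
  rw [hε]
  simp only [Functor.map_comp]
  infer_instance

end inj

theorem injective_H0_ε (J : Ideal A) [DRing.HasRgammaI J] (M : Type u) [AddCommGroup M]
    [Module A M] :
    Function.Injective (HM 0 ((DRing.RgammaIε J).app (Dual.inD A M))) := by
  obtain ⟨gs, hgs⟩ := Groth.Agent.Helper6.DerNak.exists_list_of_fg J (IsNoetherian.noetherian J)
  subst hgs
  exact (ModuleCat.mono_iff_injective _).1 (mono_H0_ε_list gs M)

section zero

variable (I : Ideal A) [IsAdicComplete I A] [DRing.HasDerivedCompletion I]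
  (M : Type u) [AddCommGroup M] [Module A M] [Module.Finite A M]

/-- the comparison map in degree `0` is bijective as soon as `Γ_J(M)` contains the sections
with support in `V(J') `, for `J' ⊆ J ⊆ √(J' + I)` -/
theorem bijective_zero (J : Ideal A) [DRing.HasRgammaI J]
    (hmax : ∀ J' : Ideal A, J' ≤ J → J ≤ (J' ⊔ I).radical →
      DRing.torsionSub J' M ≤ DRing.torsionSub J M) :
    Function.Bijective (HM 0 (cmp I J (Dual.inD A M))) := by
  obtain ⟨hinj, hrange⟩ := DcT4.main I M J
  have hnat := toDerivedCompletion_naturality I ((DRing.RgammaIε J).app (Dual.inD A M))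
  have hsq : ∀ x, HM 0 ((ObjectProperty.ι (DRing.IsDerivedComplete I)).map
        ((DRing.derivedCompletion I).map ((DRing.RgammaIε J).app (Dual.inD A M))))
        (HM 0 (cmp I J (Dual.inD A M)) x) =
      HM 0 (DRing.toDerivedCompletion I (Dual.inD A M))
        (HM 0 ((DRing.RgammaIε J).app (Dual.inD A M)) x) := by
    intro x
    rw [← LinearMap.comp_apply, ← LinearMap.comp_apply, ← HM_comp, ← HM_comp, hnat]
    rfl
  haveI : IsAdicComplete I M := isAdicComplete_of_finite I M
  have hK : DRing.IsDerivedComplete I (Dual.inD A M) := isDerivedComplete_of_isAdicComplete I M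
  haveI : IsIso (DRing.toDerivedCompletion I (Dual.inD A M)) := isIso_toDerivedCompletion I _ hK
  have hb := HM_bijective_of_isIso 0 (DRing.toDerivedCompletion I (Dual.inD A M))
  constructor
  · rw [injective_iff_map_eq_zero]
    intro x hx
    have h1 := hsq x
    rw [hx, map_zero] at h1
    have h2 : HM 0 ((DRing.RgammaIε J).app (Dual.inD A M)) x = 0 := by
      apply hb.1
      rw [← h1, map_zero]
    apply injective_H0_ε J M
    rw [h2, map_zero]
  · intro w
    have hw : HM 0 ((ObjectProperty.ι (DRing.IsDerivedComplete I)).map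
        ((DRing.derivedCompletion I).map ((DRing.RgammaIε J).app (Dual.inD A M)))) w ∈
        Set.range ((DerivedCategory.homologyFunctor (ModuleCat.{u} A) 0).map
          ((ObjectProperty.ι (DRing.IsDerivedComplete I)).map ((DRing.derivedCompletion I).map
            ((DRing.RgammaIε J).app (Dual.inD A M))))).hom := ⟨w, rfl⟩
    rw [hrange] at hw
    obtain ⟨s, ⟨J', hJ'1, hJ'2, hs⟩, hsw⟩ := hw
    obtain ⟨x, hx⟩ := exists_h0ε_eq J M s (hmax J' hJ'1 hJ'2 hs)
    refine ⟨x, hinj ?_⟩
    have h1 := hsq x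
    refine h1.trans (Eq.trans ?_ hsw)
    congr 1
    have h3 : σ₀ M (HM 0 ((DRing.RgammaIε J).app (Dual.inD A M)) x) = s := hx
    rw [← σ₀_symm_apply, ← h3, LinearEquiv.symm_apply_apply]

end zero

end Groth.Agent.Helper9.BS4
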