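import Mathlib
import Groth.Prelude.Def_DRing4
import Groth.Agent.Helper9.DcT4
import Groth.Agent.Helper9.BS1
import Groth.Agent.Helper9.BS2
import Groth.Agent.Helper9.BS3
import Groth.Agent.Helper9.BS4
import Groth.Agent.Helper6.DComplTri

/-!
# Admissible ideals in a local ring, maximal torsion, and modules on which the comparison map is
an isomorphism
-/

set_option autoImplicit false
set_option linter.style.haveILetI false
set_option linter.unusedSectionVars false
set_option linter.unusedVariables false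

universe u

open CategoryTheory CategoryTheory.Limits DerivedCategory

attribute [local instance] HasDerivedCategory.standard

namespace Groth.Agent.Helper9.BS5

open Groth.Agent.Helper3.DRingLib Groth.Agent.Helper6.DComplAmp Groth.Agent.Helper6.DCAdic1
open Groth.Agent.Helper9.LCT1 Groth.Agent.Helper9.LCT2 Groth.Agent.Helper9.LCT3
  Groth.Agent.Helper9.DcT1 Groth.Agent.Helper9.BS1 Groth.Agent.Helper9.BS2 Groth.Agent.Helper9.BS4
  Groth.Agent.Helper6.DComplTri IsLocalRing

variable {A : Type u} [CommRing A] [IsNoetherianRing A]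

section DC

variable (I J : Ideal A) [DRing.HasDerivedCompletion I] [DRing.HasRgammaI J]

/-- objects killed by a power of `I` are derived complete -/
theorem isDerivedComplete_of_pow_smul_id (K : Dual.D A) (n : ℕ)
    (h : ∀ a ∈ I ^ n, a • 𝟙 K = 0) : DRing.IsDerivedComplete I K := by
  intro f hf m
  have hu : IsIso (f • 𝟙 (Dual.inD A (Localization.Away f))) := isLocal_inD_away f
  have key : ∀ (k : ℕ) (φ : Dual.inD A (Localization.Away f) ⟶ K⟦m⟧), f ^ k • φ = 0 → φ = 0 := by
    intro k
    induction k with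
    | zero => intro φ hφ; rwa [pow_zero, one_smul] at hφ
    | succ k ih =>
      intro φ hφ
      rw [pow_succ, mul_smul] at hφ
      have h1 := ih _ hφ
      have h2 : (f • 𝟙 (Dual.inD A (Localization.Away f))) ≫ φ = 0 := by
        rw [Linear.smul_comp, Category.id_comp]
        exact h1
      rw [← cancel_epi (f • 𝟙 (Dual.inD A (Localization.Away f))), h2, comp_zero]
  have hz : ∀ φ : Dual.inD A (Localization.Away f) ⟶ K⟦m⟧, φ = 0 := by
    intro φ
    apply key n
    have h1 : f ^ n • φ = φ ≫ (shiftFunctor (Dual.D A) m).map (f ^ n • 𝟙 K) := by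
      rw [Functor.map_smul, CategoryTheory.Functor.map_id, Linear.comp_smul, Category.comp_id]
    rw [h1, h _ (Ideal.pow_mem_pow hf n), Functor.map_zero, comp_zero]
  exact ⟨fun x y => by rw [hz x, hz y]⟩

/-- the comparison map is an isomorphism for modules killed by a power of `I` -/
theorem isIso_cmp_of_pow_smul (N : Type u) [AddCommGroup N] [Module A N] (n : ℕ)
    (h : ∀ a ∈ I ^ n, ∀ x : N, a • x = 0) : IsIso (cmp I J (Dual.inD A N)) := by
  apply isIso_toDerivedCompletion
  apply isDerivedComplete_of_pow_smul_id I _ n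
  intro a ha
  have h0 : a • 𝟙 (ModuleCat.of A N) = 0 := by
    ext x
    exact h a ha x
  have h1 : a • 𝟙 (Dual.inD A N) = 0 := by
    have : a • 𝟙 (Dual.inD A N) =
        (singleFunctor (ModuleCat.{u} A) 0).map (a • 𝟙 (ModuleCat.of A N)) := by
      rw [Functor.map_smul, CategoryTheory.Functor.map_id]
    rw [this, h0, Functor.map_zero]
  rw [← RgammaI_map_smul_id, h1, RgammaI_map_zero]

/-- the comparison map is an isomorphism for finite `J`-power torsion modules over an
`I`-adically complete ring -/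
theorem isIso_cmp_of_isPowerTorsion [IsAdicComplete I A] (N : Type u) [AddCommGroup N]
    [Module A N] [Module.Finite A N] (h : LocCoh.IsPowerTorsion J N) :
    IsIso (cmp I J (Dual.inD A N)) := by
  apply isIso_toDerivedCompletion
  haveI : IsIso ((DRing.RgammaIε J).app (Dual.inD A N)) :=
    isIso_ε J _ (tors_inD_of_isPowerTorsion J N h)
  haveI : IsAdicComplete I N := isAdicComplete_of_finite I N
  exact isDerivedComplete_of_iso I (asIso ((DRing.RgammaIε J).app (Dual.inD A N))).symm
    (isDerivedComplete_of_isAdicComplete I N)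

end DC

section Valid

variable [IsLocalRing A] (I : Ideal A)

/-- `V(J) ∩ V(I) = {m}` -/
def Valid (J : Ideal A) : Prop :=
  PrimeSpectrum.zeroLocus ((J : Ideal A) : Set A) ∩
    PrimeSpectrum.zeroLocus ((I : Ideal A) : Set A) = {IsLocalRing.closedPoint A}

lemma valid_iff (J : Ideal A) : Valid I J ↔ J ≤ maximalIdeal A ∧ I ≤ maximalIdeal A ∧
    ∀ q : PrimeSpectrum A, J ≤ q.asIdeal → I ≤ q.asIdeal → q = closedPoint A := by
  unfold Valid
  constructor
  · intro h
    have hm : closedPoint A ∈ PrimeSpectrum.zeroLocus ((J : Ideal A) : Set A) ∩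
        PrimeSpectrum.zeroLocus ((I : Ideal A) : Set A) := by rw [h]; rfl
    rw [Set.mem_inter_iff, PrimeSpectrum.mem_zeroLocus, PrimeSpectrum.mem_zeroLocus,
      SetLike.coe_subset_coe, SetLike.coe_subset_coe] at hm
    refine ⟨hm.1, hm.2, fun q hJ hI => ?_⟩
    have hq : q ∈ PrimeSpectrum.zeroLocus ((J : Ideal A) : Set A) ∩
        PrimeSpectrum.zeroLocus ((I : Ideal A) : Set A) := by
      rw [Set.mem_inter_iff, PrimeSpectrum.mem_zeroLocus, PrimeSpectrum.mem_zeroLocus,
        SetLike.coe_subset_coe, SetLike.coe_subset_coe]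
      exact ⟨hJ, hI⟩
    rw [h] at hq
    exact hq
  · rintro ⟨hJ, hI, h⟩
    ext q
    rw [Set.mem_inter_iff, PrimeSpectrum.mem_zeroLocus, PrimeSpectrum.mem_zeroLocus,
      SetLike.coe_subset_coe, SetLike.coe_subset_coe, Set.mem_singleton_iff]
    constructor
    · rintro ⟨h1, h2⟩
      exact h q h1 h2
    · rintro rfl
      exact ⟨hJ, hI⟩

variable {I}

lemma Valid.le {J : Ideal A} (h : Valid I J) : J ≤ maximalIdeal A := ((valid_iff I J).1 h).1

lemma Valid.le' {J : Ideal A} (h : Valid I J) : I ≤ maximalIdeal A := ((valid_iff I J).1 h).2.1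

lemma Valid.eq_closedPoint {J : Ideal A} (h : Valid I J) (q : PrimeSpectrum A)
    (hJ : J ≤ q.asIdeal) (hI : I ≤ q.asIdeal) : q = closedPoint A :=
  ((valid_iff I J).1 h).2.2 q hJ hI

lemma Valid.inf {J J' : Ideal A} (h : Valid I J) (h' : Valid I J') : Valid I (J ⊓ J') := by
  rw [valid_iff]
  refine ⟨inf_le_left.trans h.le, h.le', fun q hq hI => ?_⟩
  rcases (Ideal.IsPrime.inf_le q.isPrime).1 hq with h1 | h1
  · exact h.eq_closedPoint q h1 hI
  · exact h'.eq_closedPoint q h1 hI

lemma valid_maximalIdeal (hI : I ≤ maximalIdeal A) : Valid I (maximalIdeal A) := by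
  rw [valid_iff]
  refine ⟨le_rfl, hI, fun q hq _ => ?_⟩
  exact PrimeSpectrum.ext (le_antisymm (le_maximalIdeal q.isPrime.ne_top) hq)

lemma Valid.of_le_radical {J J' : Ideal A} (h : Valid I J) (hJ' : J' ≤ J)
    (hrad : J ≤ (J' ⊔ I).radical) : Valid I J' := by
  rw [valid_iff]
  refine ⟨hJ'.trans h.le, h.le', fun q hq hI => ?_⟩
  refine h.eq_closedPoint q (hrad.trans ?_) hI
  rw [Ideal.IsPrime.radical_le_iff q.isPrime]
  exact sup_le hq hI

/-- a prime in `T = {p | V(p) ∩ V(I) ⊆ {m}}` is admissible -/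
lemma valid_of_mem_T (hI : I ≤ maximalIdeal A) (p : PrimeSpectrum A)
    (hp : ∀ r : PrimeSpectrum A, p ≤ r → I ≤ r.asIdeal → r.asIdeal = maximalIdeal A) :
    Valid I p.asIdeal := by
  rw [valid_iff]
  refine ⟨le_maximalIdeal p.isPrime.ne_top, hI, fun q hq hIq => ?_⟩
  exact PrimeSpectrum.ext (hp q ((PrimeSpectrum.asIdeal_le_asIdeal p q).mp hq) hIq)

/-- an admissible ideal is not contained in a prime outside `T` -/
lemma Valid.not_le {J : Ideal A} (h : Valid I J) (p : PrimeSpectrum A)
    (hp : ∃ r : PrimeSpectrum A, p ≤ r ∧ I ≤ r.asIdeal ∧ r.asIdeal ≠ maximalIdeal A) :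
    ¬ J ≤ p.asIdeal := by
  obtain ⟨r, hpr, hIr, hr⟩ := hp
  intro hJp
  have := h.eq_closedPoint r (hJp.trans ((PrimeSpectrum.asIdeal_le_asIdeal p r).mpr hpr)) hIr
  exact hr (by rw [this]; rfl)

end Valid

section Torsion

variable (M : Type u) [AddCommGroup M] [Module A M]

lemma torsionSub_anti {J J' : Ideal A} (h : J ≤ J') :
    DRing.torsionSub J' M ≤ DRing.torsionSub J M := by
  rintro x ⟨n, hn⟩
  exact ⟨n, fun a ha => hn a (Ideal.pow_right_mono h n ha)⟩

variable [IsLocalRing A] (I : Ideal A) [Module.Finite A M]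

/-- the largest submodule of sections supported in an admissible closed subset -/
theorem exists_max_torsion (hI : I ≤ maximalIdeal A) :
    ∃ J₀ : Ideal A, Valid I J₀ ∧ ∀ J' : Ideal A, Valid I J' →
      DRing.torsionSub J' M ≤ DRing.torsionSub J₀ M := by
  let S : Set (Submodule A M) := {N | ∃ J' : Ideal A, Valid I J' ∧ N = DRing.torsionSub J' M}
  have hS : S.Nonempty := ⟨_, maximalIdeal A, valid_maximalIdeal hI, rfl⟩
  obtain ⟨N, ⟨J₀, hJ₀, rfl⟩, hmax⟩ :=
    WellFounded.has_min (wellFounded_gt : WellFounded ((· > ·) : Submodule A M → _ → Prop)) S hS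
  refine ⟨J₀, hJ₀, fun J' hJ' => ?_⟩
  have h1 : DRing.torsionSub J₀ M ≤ DRing.torsionSub (J₀ ⊓ J') M := torsionSub_anti M inf_le_left
  have h2 : DRing.torsionSub J' M ≤ DRing.torsionSub (J₀ ⊓ J') M := torsionSub_anti M inf_le_right
  have h3 : ¬ DRing.torsionSub (J₀ ⊓ J') M > DRing.torsionSub J₀ M :=
    hmax _ ⟨J₀ ⊓ J', hJ₀.inf hJ', rfl⟩
  have h4 : DRing.torsionSub (J₀ ⊓ J') M = DRing.torsionSub J₀ M := by
    by_contra hne
    exact h3 (lt_of_le_of_ne h1 (Ne.symm hne))
  exact h2.trans h4.le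

end Torsion

section Goal

variable [IsLocalRing A] (I : Ideal A) [DRing.HasDerivedCompletion I]

/-- bijectivity of the comparison maps in degrees `≤ s` -/
def Bij (J : Ideal A) [DRing.HasRgammaI J] (M : Type u) [AddCommGroup M] [Module A M]
    (s : ℕ) : Prop :=
  ∀ i : ℤ, i ≤ s → Function.Bijective (HM i (cmp I J (Dual.inD A M)))

/-- the conclusion of the bootstrap theorem -/
def Goal (M : Type u) [AddCommGroup M] [Module A M] (s : ℕ) : Prop :=
  ∃ J₀ : Ideal A, Valid I J₀ ∧ ∀ (J : Ideal A) [DRing.HasRgammaI J], J ≤ J₀ → Valid I J →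
    Bij I J M s

lemma le_maximalIdeal_of_isAdicComplete [IsAdicComplete I A] : I ≤ maximalIdeal A := by
  have h := IsAdicComplete.le_jacobson_bot I (R := A)
  rwa [IsLocalRing.jacobson_eq_maximalIdeal ⊥ bot_ne_top] at h

variable (M : Type u) [AddCommGroup M] [Module A M] [Module.Finite A M]

lemma bijective_neg (J : Ideal A) [DRing.HasRgammaI J] (i : ℤ) (hi : i < 0) :
    Function.Bijective (HM i (cmp I J (Dual.inD A M))) := by
  haveI := BS3.subsingleton_HD_RgammaI_neg J M i hi
  haveI := BS3.subsingleton_HD_completion_neg I J M i hi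
  exact ⟨fun a b _ => Subsingleton.elim a b, fun y => ⟨0, Subsingleton.elim _ _⟩⟩

/-- the case `s = 0` -/
theorem goal_zero [IsAdicComplete I A] : Goal I M 0 := by
  have hI := le_maximalIdeal_of_isAdicComplete I
  obtain ⟨J₀, hJ₀, hmax⟩ := exists_max_torsion M I hI
  refine ⟨J₀, hJ₀, fun J _ hJ hJv i hi => ?_⟩
  rcases lt_or_eq_of_le hi with h | h
  · exact bijective_neg I M J i (by exact_mod_cast h)
  · have hi0 : i = 0 := by exact_mod_cast h
    subst hi0
    apply bijective_zero I M J
    intro J' hJ'1 hJ'2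
    exact (hmax J' (hJv.of_le_radical hJ'1 hJ'2)).trans (torsionSub_anti M hJ)

end Goal

end Groth.Agent.Helper9.BS5
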