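import Mathlib
import Groth.Prelude.Def_DRing4
import Groth.Prelude.Def_CAlg
import Groth.Agent.Helper9.LF11
import Groth.Agent.Helper9.DepthKer
import Groth.Agent.Helper6.SkQuot
import Groth.Agent.Helper2.DepthCM
import Groth.Agent.Helper2.Depth

/-!
# Module theoretic reductions for the bootstrap: torsion submodules, localization of quotients
and depth
-/

set_option autoImplicit false
set_option linter.style.haveILetI false
set_option linter.unusedSectionVars false
set_option linter.unusedVariables false

universe u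

open IsLocalRing
open scoped Pointwise

namespace Groth.Agent.Helper9.BS6

variable {A : Type u} [CommRing A] [IsNoetherianRing A]

section torsion

variable {M : Type u} [AddCommGroup M] [Module A M]

/-- uniform annihilation -/
lemma exists_pow_smul_smul (K K' : Ideal A) (x : M) (n : ℕ)
    (h : ∀ a ∈ K ^ n, a • x ∈ DRing.torsionSub K' M) :
    ∃ m : ℕ, ∀ b ∈ K' ^ m, ∀ a ∈ K ^ n, b • a • x = 0 := by
  obtain ⟨S, hS⟩ := (IsNoetherian.noetherian (K ^ n) : (K ^ n).FG)
  have hgen : ∀ a ∈ S, ∃ m : ℕ, ∀ b ∈ K' ^ m, b • a • x = 0 := fun a ha =>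
    h a (hS ▸ Ideal.subset_span ha)
  choose! mf hmf using hgen
  refine ⟨S.sup mf, fun b hb a ha => ?_⟩
  rw [← hS] at ha
  refine Submodule.span_induction (p := fun a _ => b • a • x = 0) (fun a ha' => ?_) ?_
    (fun y z _ _ hy hz => ?_) (fun r y _ hy => ?_) ha
  · exact hmf a ha' b (Ideal.pow_le_pow_right (Finset.le_sup ha') hb)
  · rw [zero_smul, smul_zero]
  · rw [add_smul, smul_add, hy, hz, add_zero]
  · rw [smul_eq_mul, mul_smul, smul_comm b r, hy, smul_zero]

lemma mem_torsionSub_of_forall_smul_mem (K : Ideal A) (x : M) (n : ℕ)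
    (h : ∀ a ∈ K ^ n, a • x ∈ DRing.torsionSub K M) : x ∈ DRing.torsionSub K M := by
  obtain ⟨m, hm⟩ := exists_pow_smul_smul K K x n h
  refine ⟨m + n, fun c hc => ?_⟩
  rw [pow_add] at hc
  refine Submodule.mul_induction_on hc (fun b hb a ha => ?_) (fun y z hy hz => ?_)
  · rw [mul_smul]
    exact hm b hb a ha
  · rw [add_smul, hy, hz, add_zero]

lemma torsionSub_quotient_eq_bot (K : Ideal A) :
    DRing.torsionSub K (M ⧸ DRing.torsionSub K M) = ⊥ := by
  rw [eq_bot_iff]
  rintro y ⟨n, hn⟩
  obtain ⟨x, rfl⟩ := Submodule.Quotient.mk_surjective _ y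
  rw [Submodule.mem_bot, Submodule.Quotient.mk_eq_zero]
  apply mem_torsionSub_of_forall_smul_mem K x n
  intro a ha
  have := hn a ha
  rwa [← Submodule.Quotient.mk_smul, Submodule.Quotient.mk_eq_zero] at this

lemma exists_pow_smul_torsionSub [Module.Finite A M] (K : Ideal A) :
    ∃ n : ℕ, ∀ a ∈ K ^ n, ∀ x : DRing.torsionSub K M, a • x = 0 := by
  obtain ⟨S, hS⟩ := (IsNoetherian.noetherian (DRing.torsionSub K M) : (DRing.torsionSub K M).FG)
  have hgen : ∀ y ∈ S, ∃ m : ℕ, ∀ b ∈ K ^ m, b • y = 0 := fun y hy => by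
    have : y ∈ DRing.torsionSub K M := by
      rw [← hS]
      exact Submodule.subset_span hy
    exact this
  choose! mf hmf using hgen
  refine ⟨S.sup mf, fun a ha x => ?_⟩
  apply Subtype.ext
  show a • (x : M) = 0
  have hx : (x : M) ∈ Submodule.span A (S : Set M) := by
    rw [hS]
    exact x.2
  refine Submodule.span_induction (p := fun y _ => a • y = 0) (fun y hy => ?_) ?_
    (fun y z _ _ hy hz => ?_) (fun r y _ hy => ?_) hx
  · exact hmf y hy a (Ideal.pow_le_pow_right (Finset.le_sup hy) ha)
  · rw [smul_zero]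
  · rw [smul_add, hy, hz, add_zero]
  · rw [smul_comm, hy, smul_zero]

lemma isPowerTorsion_torsionSub (K : Ideal A) : LocCoh.IsPowerTorsion K (DRing.torsionSub K M) := by
  rintro ⟨m, n, hn⟩
  exact ⟨n, fun a ha => Subtype.ext (hn a ha)⟩

end torsion

section loc

variable (M : Type u) [AddCommGroup M] [Module A M]

/-- `M_p ≃ (M/N)_p` when `N_p = 0` -/
theorem nonempty_locQuotEquiv (p : Ideal A) [p.IsPrime] (N : Submodule A M)
    (hN : ∀ x ∈ N, ∃ t : A, t ∉ p ∧ t • x = 0) :
    Nonempty (LocalizedModule p.primeCompl M ≃ₗ[Localization.AtPrime p]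
      LocalizedModule p.primeCompl (M ⧸ N)) := by
  let φ : LocalizedModule p.primeCompl M →ₗ[Localization p.primeCompl]
      LocalizedModule p.primeCompl (M ⧸ N) := LocalizedModule.map p.primeCompl N.mkQ
  have hsurj : Function.Surjective φ :=
    LocalizedModule.map_surjective _ _ (Submodule.mkQ_surjective N)
  have hinj : Function.Injective φ := by
    rw [injective_iff_map_eq_zero]
    intro y hy
    induction y using LocalizedModule.induction_on with
    | h x s =>
      have hy' : LocalizedModule.mk (N.mkQ x) s = 0 := by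
        rw [← LocalizedModule.map_mk]
        exact hy
      rw [← LocalizedModule.zero_mk s, LocalizedModule.mk_eq] at hy'
      obtain ⟨u, hu⟩ := hy'
      simp only [Submonoid.smul_def] at hu
      rw [smul_zero, smul_zero, ← map_smul, ← map_smul, Submodule.mkQ_apply,
        Submodule.Quotient.mk_eq_zero] at hu
      obtain ⟨t, htp, ht⟩ := hN _ hu
      rw [← LocalizedModule.zero_mk s, LocalizedModule.mk_eq]
      refine ⟨⟨t, htp⟩ * u, ?_⟩
      simp only [Submonoid.smul_def, smul_zero, mul_smul]
      exact ht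
  exact ⟨LinearEquiv.ofBijective φ ⟨hinj, hsurj⟩⟩

theorem depth_loc_quotient (p : Ideal A) [p.IsPrime] (N : Submodule A M)
    (hN : ∀ x ∈ N, ∃ t : A, t ∉ p ∧ t • x = 0) :
    LocCoh.depth (Localization.AtPrime p) (LocalizedModule p.primeCompl (M ⧸ N)) =
      LocCoh.depth (Localization.AtPrime p) (LocalizedModule p.primeCompl M) := by
  obtain ⟨e⟩ := nonempty_locQuotEquiv M p N hN
  exact (Groth.Agent.Helper9.LF11.depth_congr e).symm

variable [Module.Finite A M]

/-- the depth at `p` drops by at most one modulo a regular element -/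
theorem depth_loc_le_quotSMulTop_succ (p : Ideal A) [p.IsPrime] (x : A)
    (hx : IsSMulRegular M x) :
    LocCoh.depth (Localization.AtPrime p) (LocalizedModule p.primeCompl M) ≤
      LocCoh.depth (Localization.AtPrime p) (LocalizedModule p.primeCompl (QuotSMulTop x M)) + 1 := by
  obtain ⟨e⟩ := Groth.Agent.Helper6.SkQuot.nonempty_locQuotEquiv M p x
  rw [Groth.Agent.Helper9.LF11.depth_congr e]
  unfold LocCoh.depth
  by_cases hnt : Nontrivial (QuotSMulTop (algebraMap A (Localization.AtPrime p) x)
      (LocalizedModule p.primeCompl M))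
  swap
  · rw [not_nontrivial_iff_subsingleton] at hnt
    have htop : maximalIdeal (Localization.AtPrime p) •
        (⊤ : Submodule (Localization.AtPrime p)
          (QuotSMulTop (algebraMap A (Localization.AtPrime p) x)
            (LocalizedModule p.primeCompl M))) = ⊤ := Subsingleton.elim _ _
    rw [Groth.Agent.Helper9.DepthKer.idealDepth_eq_top _ _ htop, top_add]
    exact le_top
  · have hMp : Nontrivial (LocalizedModule p.primeCompl M) :=
      Function.Surjective.nontrivial (Submodule.mkQ_surjective
        ((algebraMap A (Localization.AtPrime p) x) •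
          (⊤ : Submodule (Localization.AtPrime p) (LocalizedModule p.primeCompl M))))
    have hx'm : algebraMap A (Localization.AtPrime p) x ∈
        maximalIdeal (Localization.AtPrime p) := by
      by_contra hu
      rw [mem_maximalIdeal, mem_nonunits_iff, not_not] at hu
      have : (algebraMap A (Localization.AtPrime p) x) •
          (⊤ : Submodule (Localization.AtPrime p) (LocalizedModule p.primeCompl M)) = ⊤ := by
        rw [eq_top_iff]
        intro y _
        rw [Submodule.mem_smul_pointwise_iff_exists]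
        exact ⟨(↑hu.unit⁻¹ : Localization.AtPrime p) • y, trivial, by
          rw [smul_smul, IsUnit.mul_val_inv, one_smul]⟩
      have hsub : Subsingleton (QuotSMulTop (algebraMap A (Localization.AtPrime p) x)
          (LocalizedModule p.primeCompl M)) :=
        Submodule.Quotient.subsingleton_iff.mpr this
      exact not_subsingleton _ hsub
    have hreg' : IsSMulRegular (LocalizedModule p.primeCompl M)
        (algebraMap A (Localization.AtPrime p) x) := by
      have h1 : RingTheory.Sequence.IsWeaklyRegular M [x] :=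
        (RingTheory.Sequence.isWeaklyRegular_singleton_iff M x).mpr hx
      have h2 := RingTheory.Sequence.IsWeaklyRegular.of_isLocalizedModule
        (Localization.AtPrime p) p.primeCompl (LocalizedModule.mkLinearMap p.primeCompl M) h1
      exact (RingTheory.Sequence.isWeaklyRegular_singleton_iff _ _).mp h2
    haveI : IsNoetherianRing (Localization.AtPrime p) :=
      IsLocalization.isNoetherianRing p.primeCompl _ inferInstance
    haveI : Module.Finite (Localization.AtPrime p) (LocalizedModule p.primeCompl M) :=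
      Module.Finite.of_isLocalizedModule p.primeCompl
        (LocalizedModule.mkLinearMap p.primeCompl M)
    have hdepth := Groth.Agent.Helper2.DepthCM.idealDepth_quotSMulTop
      (maximalIdeal (Localization.AtPrime p)) (LocalizedModule p.primeCompl M)
      (Groth.Agent.Helper2.Depth.smul_top_ne_top _ _) _ hx'm hreg'
    exact hdepth.ge

end loc

section Cond

lemma num4 (d s : ℕ) (δ δ' : ℕ∞) (D : WithBot ℕ∞) (hδ : δ ≤ δ' + 1)
    (h : ((s + 1 : ℕ) : ℕ∞) ≤ δ ∨
      (((d + (s + 1) : ℕ) : ℕ∞) : WithBot ℕ∞) < ((δ : ℕ∞) : WithBot ℕ∞) + D) :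
    (s : ℕ∞) ≤ δ' ∨ (((d + s : ℕ) : ℕ∞) : WithBot ℕ∞) < ((δ' : ℕ∞) : WithBot ℕ∞) + D := by
  rcases h with h | h
  · left
    have h1 : ((s : ℕ∞) + 1) ≤ δ' + 1 := by
      refine le_trans ?_ hδ
      exact_mod_cast h
    exact (ENat.add_le_add_iff_right ENat.one_ne_top).mp h1
  · right
    induction D using WithBot.recBotCoe with
    | bot =>
      rw [WithBot.add_bot] at h
      exact absurd h (not_lt_bot)
    | coe k =>
      rw [← WithBot.coe_add, WithBot.coe_lt_coe] at h ⊢
      induction δ' using ENat.recTopCoe with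
      | top => rw [top_add]; exact ENat.natCast_lt_top _
      | coe n =>
        induction k using ENat.recTopCoe with
        | top => rw [add_top]; exact ENat.natCast_lt_top _
        | coe k =>
          induction δ using ENat.recTopCoe with
          | top =>
            exfalso
            rw [top_le_iff] at hδ
            exact ENat.natCast_ne_top (n + 1) (by exact_mod_cast hδ)
          | coe m =>
            have h1 : m ≤ n + 1 := by exact_mod_cast hδ
            have h2 : d + (s + 1) < m + k := by exact_mod_cast h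
            have : d + s < n + k := by omega
            exact_mod_cast this

variable [IsLocalRing A] (I : Ideal A) (d : ℕ)

/-- hypothesis (4) of the bootstrap theorem -/
def Cond4 (M : Type u) [AddCommGroup M] [Module A M] (s : ℕ) : Prop :=
  ∀ p : PrimeSpectrum A, ¬ I ≤ p.asIdeal →
    (∃ r : PrimeSpectrum A, p ≤ r ∧ I ≤ r.asIdeal ∧ r.asIdeal ≠ IsLocalRing.maximalIdeal A) →
    (s : ℕ∞) ≤ LocCoh.depth (Localization.AtPrime p.asIdeal)
      (LocalizedModule p.asIdeal.primeCompl M) ∨
    (((d + s : ℕ) : ℕ∞) : WithBot ℕ∞) <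
      ((LocCoh.depth (Localization.AtPrime p.asIdeal)
        (LocalizedModule p.asIdeal.primeCompl M) : ℕ∞) : WithBot ℕ∞) +
        ringKrullDim (A ⧸ p.asIdeal)

variable {I d} {M : Type u} [AddCommGroup M] [Module A M]

lemma Cond4.quotient {s : ℕ} (h : Cond4 I d M s) (N : Submodule A M)
    (hN : ∀ p : PrimeSpectrum A, ¬ I ≤ p.asIdeal →
      (∃ r : PrimeSpectrum A, p ≤ r ∧ I ≤ r.asIdeal ∧ r.asIdeal ≠ IsLocalRing.maximalIdeal A) →
      ∀ x ∈ N, ∃ t : A, t ∉ p.asIdeal ∧ t • x = 0) : Cond4 I d (M ⧸ N) s := by
  intro p hp hr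
  rw [depth_loc_quotient M p.asIdeal N (hN p hp hr)]
  exact h p hp hr

lemma Cond4.quotSMulTop [Module.Finite A M] {s : ℕ} (h : Cond4 I d M (s + 1)) (x : A)
    (hx : IsSMulRegular M x) : Cond4 I d (QuotSMulTop x M) s := by
  intro p hp hr
  exact num4 d s _ _ _ (depth_loc_le_quotSMulTop_succ M p.asIdeal x hx) (h p hp hr)

end Cond

end Groth.Agent.Helper9.BS6
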