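import Mathlib
import Groth.Prelude.Def_DualLC
import Groth.Prelude.Def_DRing4
import Groth.Agent.Helper9.LF10
import Groth.Agent.Helper9.LF13
import Groth.Agent.Helper9.BS5
import Groth.Agent.Helper9.BS6
import Groth.Agent.S8790

/-!
# Annihilators, uniformly in the admissible ideal `J`
-/

set_option autoImplicit false
set_option linter.style.haveILetI false
set_option linter.unusedSectionVars false
set_option linter.unusedVariables false

universe u
open CategoryTheory CategoryTheory.Limits Opposite DerivedCategory Pretriangulated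
attribute [local instance] HasDerivedCategory.standard

namespace Groth.Agent.Helper9.BS7
open Groth.Agent.Helper9.LCT2 Groth.Agent.Helper9.LCT3 Groth.Agent.Helper9.GM1
  Groth.Agent.Helper9.GM2 Groth.Agent.Helper3.DRingLib Groth.Agent.Helper6.DComplAmp
  Groth.Agent.Helper6.DComplExact Groth.Agent.Helper6.DComplLES
  Groth.Agent.Helper9.LT1 Groth.Agent.Helper9.LT2 Groth.Agent.Helper9.LF1
  Groth.Agent.Helper9.LF3 Groth.Agent.Helper9.LF8 Groth.Agent.Helper9.LF9
  Groth.Agent.Helper9.LF10 Groth.Agent.Helper9.BS5 Groth.Agent.Helper9.BS6 IsLocalRing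

variable {A : Type u} [CommRing A] [IsNoetherianRing A] [IsLocalRing A]

section Unif

variable (I : Ideal A) [DRing.HasDerivedCompletion I]
  (M : Type u) [AddCommGroup M] [Module A M] [Module.Finite A M]

lemma zeroLocus_sup_eq {J : Ideal A} (hJ : Valid I J) :
    PrimeSpectrum.zeroLocus ((J ⊔ I : Ideal A) : Set A) =
      PrimeSpectrum.zeroLocus ((maximalIdeal A : Ideal A) : Set A) := by
  ext q
  rw [PrimeSpectrum.mem_zeroLocus, PrimeSpectrum.mem_zeroLocus, SetLike.coe_subset_coe,
    SetLike.coe_subset_coe]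
  constructor
  · intro h
    rw [hJ.eq_closedPoint q (le_sup_left.trans h) (le_sup_right.trans h)]
    exact le_rfl
  · intro h
    exact (sup_le hJ.le hJ.le').trans h

/-- annihilators of the cohomology of the derived completion of `RΓ_J(M)`, uniformly in the
admissible ideal `J` -/
theorem exists_notMem_smul_eq_zero_unif (hdc : ∃ ω : Dual.D A, Dual.IsDualizing A ω)
    (p : PrimeSpectrum A) (s d : ℕ) (hp : ¬ maximalIdeal A ≤ p.asIdeal) (h2 : LocCoh.CdLE A I d)
    (h3 : (((d + s : ℕ) : ℕ∞) : WithBot ℕ∞) <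
      ((LocCoh.depth (Localization.AtPrime p.asIdeal)
        (LocalizedModule p.asIdeal.primeCompl M) : ℕ∞) : WithBot ℕ∞) +
        ringKrullDim (A ⧸ p.asIdeal)) :
    ∃ f : A, f ∉ p.asIdeal ∧ ∀ (J : Ideal A) [DRing.HasRgammaI J], Valid I J →
      ∀ i : ℤ, i ≤ s → ∀ x : Dual.HD A ((DRing.derivedCompletion I).obj
        ((DRing.RgammaI J).obj (Dual.inD A M))).obj i, f • x = 0 := by
  rw [← dimBetween_closedPoint] at h3
  have hT : StableUnderSpecialization
      (PrimeSpectrum.zeroLocus ((maximalIdeal A : Ideal A) : Set A)) :=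
    (PrimeSpectrum.isClosed_zeroLocus _).stableUnderSpecialization
  have hT' : StableUnderSpecialization {q' : PrimeSpectrum A | ¬ q' ≤ p} := by
    intro x y hxy hx hyp
    exact hx (((PrimeSpectrum.le_iff_specializes x y).mpr hxy).trans hyp)
  have hTT' : PrimeSpectrum.zeroLocus ((maximalIdeal A : Ideal A) : Set A) ⊆
      {q' : PrimeSpectrum A | ¬ q' ≤ p} := by
    intro q hq hqp
    rw [PrimeSpectrum.mem_zeroLocus, SetLike.coe_subset_coe] at hq
    exact hp (hq.trans ((PrimeSpectrum.asIdeal_le_asIdeal q p).mpr hqp))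
  obtain ⟨𝔠, h𝔠, hann⟩ := (module_form hdc _ _ hT hT' hTT' (s + d) M).2
    (fun p' q hp' hq hp'q => by
      have h1 : p' ≤ p := not_not.mp hp'
      rw [PrimeSpectrum.mem_zeroLocus, SetLike.coe_subset_coe] at hq
      have hqm : q = closedPoint A :=
        PrimeSpectrum.ext (le_antisymm (le_maximalIdeal q.isPrime.ne_top) hq)
      subst hqm
      have h := lt_of_lt_of_le h3 (depth_add_dim_le M hdc p' p (closedPoint A) h1
        ((PrimeSpectrum.asIdeal_le_asIdeal p (closedPoint A)).mp
          (le_maximalIdeal p.isPrime.ne_top)))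
      rw [dimBetween_eq, WithBot.coe_natCast, Nat.add_comm] at h
      exact h)
  have h𝔠p : ¬ 𝔠 ≤ p.asIdeal := by
    intro hle
    have h1 : p ∈ {q' : PrimeSpectrum A | ¬ q' ≤ p} := h𝔠 (by
      rw [PrimeSpectrum.mem_zeroLocus]
      exact hle)
    exact h1 le_rfl
  obtain ⟨f, hf𝔠, hfp⟩ := SetLike.not_le_iff_exists.mp h𝔠p
  refine ⟨f ^ (s + d + 1), fun h => hfp (p.isPrime.mem_of_pow_mem _ h), fun J _ hJ i hi x => ?_⟩
  have hJT := zeroLocus_sup_eq I hJ
  refine ann_completion_RgammaI I J M d h2 s f ?_ i hi x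
  rw [hJT]
  exact fun j hj y => hann j (by push_cast; omega) f hf𝔠 y

end Unif

section LC

variable (I : Ideal A) (M : Type u) [AddCommGroup M] [Module A M] [Module.Finite A M]

/-- annihilation of `H^i_J(M)`, uniformly in the admissible ideal `J` -/
theorem exists_ideal_ann_H (hdc : ∃ ω : Dual.D A, Dual.IsDualizing A ω)
    (hI : I ≤ maximalIdeal A) (s d : ℕ) (hcd : LocCoh.CdLE A I d) (h4 : Cond4 I d M s) :
    ∃ (J₁ : Ideal A) (n : ℕ), Valid I J₁ ∧ ∀ J : Ideal A, J ≤ J₁ → Valid I J →
      ∀ a ∈ (J₁ * I) ^ n, ∀ i : ℕ, i ≤ s → ∀ x : LocCoh.H J i M, a • x = 0 := by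
  let T : Set (PrimeSpectrum A) :=
    {p | ∀ q : PrimeSpectrum A, p ≤ q → I ≤ q.asIdeal → maximalIdeal A ≤ q.asIdeal}
  have hm : (closedPoint A).asIdeal = maximalIdeal A := rfl
  obtain ⟨J₁, hJ₁le, hJ₁eq, hbij, n, hn⟩ := Groth.Agent.S8790.result A hdc I (maximalIdeal A) M s d T
    (fun p => Iff.rfl)
    (fun p hp hpT => by
      refine ⟨closedPoint A, (PrimeSpectrum.asIdeal_le_asIdeal p (closedPoint A)).mp
        (le_maximalIdeal p.isPrime.ne_top), le_rfl, hI, ?_⟩
      obtain ⟨h, hhd, hh⟩ := Groth.Agent.Helper9.LF13.dim_le_of_cd I d hcd p hI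
        (fun q' hpq' hIq' => by
          have : q'.asIdeal = maximalIdeal A :=
            le_antisymm (le_maximalIdeal q'.isPrime.ne_top) (hpT q' hpq' hIq')
          rw [this]
          infer_instance)
      rw [dimBetween_eq, hh]
      exact_mod_cast hhd)
    (fun p hp hpT q hpq hmq hIq => by
      have hqm : q = closedPoint A :=
        PrimeSpectrum.ext (le_antisymm (le_maximalIdeal q.isPrime.ne_top) hmq)
      subst hqm
      rw [dimBetween_closedPoint]
      refine h4 p hp ?_
      by_contra hcon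
      push Not at hcon
      exact hpT (fun r hpr hIr => (hcon r hpr hIr).ge))
  have hvm : Valid I (maximalIdeal A) := valid_maximalIdeal hI
  refine ⟨J₁, n, hJ₁eq.trans hvm, fun J hJle hJ a ha i hi x => ?_⟩
  obtain ⟨y, rfl⟩ := (hbij J hJle (hJ.trans hvm.symm) i hi).2 x
  rw [← map_smul, hn a ha i hi y, map_zero]

/-- transport of annihilators to the cohomology of `RΓ_J(M)` -/
lemma smul_HD_RgammaI_eq_zero (J : Ideal A) [DRing.HasRgammaI J] (a : A) (k : ℕ)
    (h : ∀ x : LocCoh.H J k M, a • x = 0)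
    (x : Dual.HD A ((DRing.RgammaI J).obj (Dual.inD A M)) (k : ℤ)) : a • x = 0 := by
  let e := (Groth.Agent.Helper6.LcD.hd_rgamma J (k : ℤ) (Dual.inD A M)).some.trans
    (Groth.Agent.Helper6.LcD.bridge J M k).some.symm
  apply e.injective
  rw [map_smul, h, map_zero]

end LC

section Reg

variable (M : Type u) [AddCommGroup M] [Module A M] [Module.Finite A M]

/-- the depth at an associated prime is zero -/
lemma depth_eq_zero_of_mem_ass (p : PrimeSpectrum A) (hp : p.asIdeal ∈ associatedPrimes A M) :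
    LocCoh.depth (Localization.AtPrime p.asIdeal) (LocalizedModule p.asIdeal.primeCompl M) = 0 := by
  have hassloc := Module.associatedPrimes.mem_associatedPrimes_atPrime_of_mem_associatedPrimes hp
  haveI : IsNoetherianRing (Localization.AtPrime p.asIdeal) :=
    IsLocalization.isNoetherianRing p.asIdeal.primeCompl _ inferInstance
  haveI : Module.Finite (Localization.AtPrime p.asIdeal)
      (LocalizedModule p.asIdeal.primeCompl M) :=
    Module.Finite.of_isLocalizedModule p.asIdeal.primeCompl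
      (LocalizedModule.mkLinearMap p.asIdeal.primeCompl M)
  haveI hnt : Nontrivial (LocalizedModule p.asIdeal.primeCompl M) := by
    by_contra hcon
    rw [not_nontrivial_iff_subsingleton] at hcon
    exact not_isAssociatedPrime_of_subsingleton hassloc
  rw [Groth.Agent.Helper2.Depth.depth_eq_zero_iff]
  intro b hb
  exact Groth.Agent.Helper2.Depth.not_regular_of_mem_ass _ _ _ hassloc b hb

variable (I : Ideal A) [DRing.HasDerivedCompletion I]

/-- a regular element killing the low degree cohomology of `RΓ_J(M)` and of its completion,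
uniformly in the admissible ideal `J` -/
theorem exists_regular_ann (hdc : ∃ ω : Dual.D A, Dual.IsDualizing A ω)
    (hI : I ≤ maximalIdeal A) (s d : ℕ) (hcd : LocCoh.CdLE A I d) (h4 : Cond4 I d M (s + 1))
    (hΓI : DRing.torsionSub I M = ⊥)
    (hΓJ : ∀ J' : Ideal A, Valid I J' → DRing.torsionSub J' M = ⊥) :
    ∃ (f : A) (J₁ : Ideal A), IsSMulRegular M f ∧ Valid I J₁ ∧
      ∀ (J : Ideal A) [DRing.HasRgammaI J], J ≤ J₁ → Valid I J → ∀ i : ℤ, i ≤ ((s + 1 : ℕ) : ℤ) →
        (∀ x : Dual.HD A ((DRing.RgammaI J).obj (Dual.inD A M)) i, f • x = 0) ∧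
        (∀ x : Dual.HD A ((DRing.derivedCompletion I).obj
          ((DRing.RgammaI J).obj (Dual.inD A M))).obj i, f • x = 0) := by
  obtain ⟨J₁, n, hJ₁, hann⟩ := exists_ideal_ann_H I M hdc hI (s + 1) d hcd h4
  let 𝔞 : Ideal A :=
    { carrier := {a | ∀ (J : Ideal A) [DRing.HasRgammaI J], J ≤ J₁ → Valid I J →
        ∀ i : ℤ, i ≤ ((s + 1 : ℕ) : ℤ) →
        (∀ x : Dual.HD A ((DRing.RgammaI J).obj (Dual.inD A M)) i, a • x = 0) ∧
        (∀ x : Dual.HD A ((DRing.derivedCompletion I).obj
          ((DRing.RgammaI J).obj (Dual.inD A M))).obj i, a • x = 0)}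
      add_mem' := by
        intro a b ha hb J _ hJle hJ i hi
        refine ⟨fun x => ?_, fun x => ?_⟩
        · rw [add_smul, (ha J hJle hJ i hi).1 x, (hb J hJle hJ i hi).1 x, add_zero]
        · rw [add_smul, (ha J hJle hJ i hi).2 x, (hb J hJle hJ i hi).2 x, add_zero]
      zero_mem' := by
        intro J _ hJle hJ i hi
        exact ⟨fun x => zero_smul _ _, fun x => zero_smul _ _⟩
      smul_mem' := by
        intro c a ha J _ hJle hJ i hi
        refine ⟨fun x => ?_, fun x => ?_⟩
        · rw [smul_eq_mul, mul_smul, (ha J hJle hJ i hi).1 x, smul_zero]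
        · rw [smul_eq_mul, mul_smul, (ha J hJle hJ i hi).2 x, smul_zero] }
  have key : ∀ p ∈ associatedPrimes A M, ¬ 𝔞 ≤ p := by
    intro p hp
    have hp' := hp
    rw [AssociatedPrimes.mem_iff, isAssociatedPrime_iff] at hp'
    obtain ⟨hprime, y, hy⟩ := hp'
    have hpy : ∀ a ∈ p, a • y = 0 := by
      intro a ha
      rw [hy, Submodule.mem_colon_singleton] at ha
      simpa using ha
    have hy0 : y ≠ 0 := by
      rintro rfl
      have : (1 : A) ∈ p := by
        rw [hy, Submodule.mem_colon_singleton]; simp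
      exact (Ideal.ne_top_iff_one _).mp hprime.ne_top this
    let P : PrimeSpectrum A := ⟨p, hprime⟩
    have h1 : ¬ I ≤ P.asIdeal := by
      intro hIp
      have : y ∈ DRing.torsionSub I M := ⟨1, fun a ha => hpy a (hIp (by simpa using ha))⟩
      rw [hΓI] at this
      exact hy0 this
    have h2 : ∃ r : PrimeSpectrum A, P ≤ r ∧ I ≤ r.asIdeal ∧ r.asIdeal ≠ maximalIdeal A := by
      by_contra hcon
      push Not at hcon
      have hv : Valid I P.asIdeal := valid_of_mem_T hI P hcon
      have : y ∈ DRing.torsionSub P.asIdeal M := ⟨1, fun a ha => hpy a (by simpa using ha)⟩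
      rw [hΓJ _ hv] at this
      exact hy0 this
    have h3 := depth_eq_zero_of_mem_ass M P hp
    have h5 : ¬ maximalIdeal A ≤ P.asIdeal := by
      obtain ⟨r, hPr, _, hr⟩ := h2
      intro hm
      exact hr (le_antisymm (le_maximalIdeal r.isPrime.ne_top)
        (hm.trans ((PrimeSpectrum.asIdeal_le_asIdeal P r).mpr hPr)))
    rcases h4 P h1 h2 with h | h
    · exfalso
      rw [h3] at h
      have : ((s + 1 : ℕ) : ℕ∞) ≠ 0 := by exact_mod_cast Nat.succ_ne_zero s
      exact this (le_antisymm h zero_le)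
    obtain ⟨f₁, hf₁p, hf₁⟩ := exists_notMem_smul_eq_zero_unif I M hdc P (s + 1) d h5 hcd h
    obtain ⟨j, hjJ, hjp⟩ := SetLike.not_le_iff_exists.mp (hJ₁.not_le P h2)
    obtain ⟨ι, hιI, hιp⟩ := SetLike.not_le_iff_exists.mp h1
    have hf₂ : (j * ι) ^ n ∈ (J₁ * I) ^ n := Ideal.pow_mem_pow (Ideal.mul_mem_mul hjJ hιI) n
    have hf₂p : (j * ι) ^ n ∉ p := fun h =>
      (hprime.mem_or_mem (hprime.mem_of_pow_mem _ h)).elim hjp hιp
    intro hle
    have hmem : f₁ * (j * ι) ^ n ∈ 𝔞 := by
      intro J _ hJle hJ i hi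
      refine ⟨fun x => ?_, fun x => ?_⟩
      · by_cases hneg : i < 0
        · haveI := BS3.subsingleton_HD_RgammaI_neg J M i hneg
          exact Subsingleton.elim _ _
        · obtain ⟨k, rfl⟩ := Int.eq_ofNat_of_zero_le (not_lt.mp hneg)
          have hk : k ≤ s + 1 := by exact_mod_cast hi
          rw [mul_smul, smul_HD_RgammaI_eq_zero M J _ k
            (fun z => hann J hJle hJ _ hf₂ k hk z) x, smul_zero]
      · rw [mul_comm, mul_smul, hf₁ J hJ i hi x, smul_zero]
    exact (hprime.mem_or_mem (hle hmem)).elim hf₁p hf₂p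
  have hfin : (associatedPrimes A M).Finite := associatedPrimes.finite A M
  have hnot : ¬ ((𝔞 : Set A) ⊆ ⋃ p ∈ (hfin.toFinset : Set (Ideal A)), (id p : Ideal A)) := by
    intro hsub
    rw [Ideal.subset_union_prime (R := A) (s := hfin.toFinset) (f := id) ⊥ ⊥
      (fun p hp _ _ => ((Set.Finite.mem_toFinset hfin).1 hp).isPrime)] at hsub
    obtain ⟨p, hp, hle⟩ := hsub
    exact key p ((Set.Finite.mem_toFinset hfin).1 hp) hle
  obtain ⟨f, hf𝔞, hfnot⟩ := Set.not_subset.mp hnot
  refine ⟨f, J₁, ?_, hJ₁, fun J _ hJle hJ i hi => hf𝔞 J hJle hJ i hi⟩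
  by_contra hreg
  have hmem : f ∈ {r : A | IsSMulRegular M r}ᶜ := hreg
  rw [← biUnion_associatedPrimes_eq_compl_regular A M] at hmem
  apply hfnot
  simp only [Set.mem_iUnion] at hmem ⊢
  obtain ⟨p, hp, hfp⟩ := hmem
  exact ⟨p, by simpa using hp, hfp⟩

end Reg

end Groth.Agent.Helper9.BS7
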