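import Mathlib
import Groth.Prelude.Def_DualLC
import Groth.Prelude.Def_DRing4
import Groth.Agent.Helper9.BS5
import Groth.Agent.Helper9.BS6
import Groth.Agent.Helper9.BS7

/-!
# The bootstrap theorem for a complete local ring
-/

set_option autoImplicit false
set_option linter.style.haveILetI false
set_option linter.unusedSectionVars false
set_option linter.unusedVariables false

universe u
open CategoryTheory CategoryTheory.Limits Opposite DerivedCategory Pretriangulated
attribute [local instance] HasDerivedCategory.standard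

namespace Groth.Agent.Helper9.BS8
open Groth.Agent.Helper9.LCT1 Groth.Agent.Helper9.LCT2 Groth.Agent.Helper9.LCT3
  Groth.Agent.Helper9.BS1 Groth.Agent.Helper9.BS2 Groth.Agent.Helper9.BS5
  Groth.Agent.Helper9.BS6 Groth.Agent.Helper9.BS7 IsLocalRing

variable {A : Type u} [CommRing A] [IsNoetherianRing A]

section torsion

variable {M : Type u} [AddCommGroup M] [Module A M]

lemma smul_mem_of_mk_mem {K K' : Ideal A} {x : M} {n : ℕ}
    (hn : ∀ a ∈ K ^ n, a • (Submodule.Quotient.mk x : M ⧸ DRing.torsionSub K' M) = 0) :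
    ∀ a ∈ K ^ n, a • x ∈ DRing.torsionSub K' M := by
  intro a ha
  have := hn a ha
  rwa [← Submodule.Quotient.mk_smul, Submodule.Quotient.mk_eq_zero] at this

lemma torsionSub_quotient_eq_bot_of_eq_bot (K K' : Ideal A) (h : DRing.torsionSub K M = ⊥) :
    DRing.torsionSub K (M ⧸ DRing.torsionSub K' M) = ⊥ := by
  rw [eq_bot_iff]
  rintro y ⟨n, hn⟩
  obtain ⟨x, rfl⟩ := Submodule.Quotient.mk_surjective _ y
  rw [Submodule.mem_bot, Submodule.Quotient.mk_eq_zero]
  obtain ⟨m, hm⟩ := exists_pow_smul_smul K K' x n (smul_mem_of_mk_mem hn)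
  refine ⟨m, fun b hb => ?_⟩
  have : b • x ∈ DRing.torsionSub K M := ⟨n, fun a ha => by
    rw [smul_comm]
    exact hm b hb a ha⟩
  rw [h] at this
  exact this

lemma torsionSub_quotient_eq_bot_of_le (K K' : Ideal A)
    (h : DRing.torsionSub (K' ⊓ K) M ≤ DRing.torsionSub K' M) :
    DRing.torsionSub K (M ⧸ DRing.torsionSub K' M) = ⊥ := by
  rw [eq_bot_iff]
  rintro y ⟨n, hn⟩
  obtain ⟨x, rfl⟩ := Submodule.Quotient.mk_surjective _ y
  rw [Submodule.mem_bot, Submodule.Quotient.mk_eq_zero]
  obtain ⟨m, hm⟩ := exists_pow_smul_smul K K' x n (smul_mem_of_mk_mem hn)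
  apply h
  refine ⟨m + n, fun c hc => ?_⟩
  rw [pow_add] at hc
  refine Submodule.mul_induction_on hc (fun b hb a ha => ?_) (fun y z hy hz => ?_)
  · rw [mul_smul]
    exact hm b (Ideal.pow_right_mono inf_le_left m hb) a (Ideal.pow_right_mono inf_le_right n ha)
  · rw [add_smul, hy, hz, add_zero]

/-- elements of `Γ_K(M)` are killed by elements outside any prime not containing `K` -/
lemma exists_notMem_smul_eq_zero_of_mem_torsionSub (K : Ideal A) (p : Ideal A) [p.IsPrime]
    (hK : ¬ K ≤ p) (x : M) (hx : x ∈ DRing.torsionSub K M) : ∃ t : A, t ∉ p ∧ t • x = 0 := by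
  obtain ⟨n, hn⟩ := hx
  obtain ⟨k, hkK, hkp⟩ := SetLike.not_le_iff_exists.mp hK
  exact ⟨k ^ n, fun h => hkp (Ideal.IsPrime.mem_of_pow_mem inferInstance _ h),
    hn _ (Ideal.pow_mem_pow hkK n)⟩

end torsion

section Main

variable [IsLocalRing A] (I : Ideal A) [IsAdicComplete I A] [DRing.HasDerivedCompletion I]

/-- passing from a quotient to the module, when the comparison map is an isomorphism on the
submodule -/
lemma Bij.of_quotient (J : Ideal A) [DRing.HasRgammaI J] (M : Type u) [AddCommGroup M]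
    [Module A M] (N : Submodule A M) (hiso : IsIso (cmp I J (Dual.inD A N))) (s : ℕ)
    (h : Bij I J (M ⧸ N) s) : Bij I J M s := by
  intro i hi
  refine bijective_of_ses I J N.subtype N.mkQ N.injective_subtype (Submodule.mkQ_surjective N)
    (LinearMap.exact_subtype_mkQ N) hiso i (h (i - 1) (by omega)).2 (h i hi)

/-- the regular step -/
lemma Bij.of_regular (J : Ideal A) [DRing.HasRgammaI J] (M : Type u) [AddCommGroup M]
    [Module A M] [Module.Finite A M] (f : A) (hreg : IsSMulRegular M f) (s : ℕ)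
    (hf : ∀ i : ℤ, i ≤ ((s + 1 : ℕ) : ℤ) →
      (∀ x : Dual.HD A ((DRing.RgammaI J).obj (Dual.inD A M)) i, f • x = 0) ∧
      (∀ x : Dual.HD A ((DRing.derivedCompletion I).obj
        ((DRing.RgammaI J).obj (Dual.inD A M))).obj i, f • x = 0))
    (h : Bij I J (QuotSMulTop f M) s) : Bij I J M (s + 1) := by
  have hnat : ∀ k : ℕ, k ≤ s + 1 →
      Function.Bijective (HM (k : ℤ) (cmp I J (Dual.inD A M))) := by
    intro k
    induction k with
    | zero =>
      intro _
      have h0 := hf 0 (by positivity)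
      exact bijective_of_regular I J f M hreg (-1) 0 (by norm_num) h0.1 h0.2
        (bijective_neg I M J (-1) (by norm_num)).2
        (bijective_neg I (QuotSMulTop f M) J (-1) (by norm_num))
    | succ k ih =>
      intro hk
      have h0 := hf ((k + 1 : ℕ) : ℤ) (by exact_mod_cast hk)
      exact bijective_of_regular I J f M hreg (k : ℤ) ((k + 1 : ℕ) : ℤ) (by push_cast; ring)
        h0.1 h0.2 (ih (by omega)).2 (h (k : ℤ) (by exact_mod_cast (by omega : k ≤ s)))
  intro i hi
  by_cases hneg : i < 0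
  · exact bijective_neg I M J i hneg
  · obtain ⟨k, rfl⟩ := Int.eq_ofNat_of_zero_le (not_lt.mp hneg)
    exact hnat k (by exact_mod_cast hi)

/-- **the bootstrap theorem** over a complete local ring -/
theorem main (hdc : ∃ ω : Dual.D A, Dual.IsDualizing A ω) (d : ℕ) (hcd : LocCoh.CdLE A I d) :
    ∀ (s : ℕ) (M : Type u) [AddCommGroup M] [Module A M] [Module.Finite A M],
      Cond4 I d M s → Goal I M s := by
  have hI := le_maximalIdeal_of_isAdicComplete I
  intro s
  induction s with
  | zero =>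
    intro M _ _ _ _
    exact goal_zero I M
  | succ s ih =>
    intro M _ _ _ h4
    haveI : IsNoetherian A M := isNoetherian_of_isNoetherianRing_of_finite A M
    -- first reduction: kill the `I`-power torsion
    obtain ⟨n₁, hn₁⟩ := exists_pow_smul_torsionSub (M := M) I
    have h4₁ : Cond4 I d (M ⧸ DRing.torsionSub I M) (s + 1) :=
      h4.quotient _ (fun p hp _ x hx =>
        exists_notMem_smul_eq_zero_of_mem_torsionSub I p.asIdeal hp x hx)
    have hΓI₁ := torsionSub_quotient_eq_bot (M := M) I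
    -- second reduction: kill the sections with admissible support
    obtain ⟨Ja, hJa, hmax⟩ := exists_max_torsion (M ⧸ DRing.torsionSub I M) I hI
    have h4₂ : Cond4 I d ((M ⧸ DRing.torsionSub I M) ⧸
        DRing.torsionSub Ja (M ⧸ DRing.torsionSub I M)) (s + 1) :=
      h4₁.quotient _ (fun p hp hr x hx =>
        exists_notMem_smul_eq_zero_of_mem_torsionSub Ja p.asIdeal (hJa.not_le p hr) x hx)
    have hΓI₂ := torsionSub_quotient_eq_bot_of_eq_bot I Ja hΓI₁
    have hΓJ₂ : ∀ J' : Ideal A, Valid I J' → DRing.torsionSub J'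
        ((M ⧸ DRing.torsionSub I M) ⧸ DRing.torsionSub Ja (M ⧸ DRing.torsionSub I M)) = ⊥ :=
      fun J' hJ' => torsionSub_quotient_eq_bot_of_le J' Ja (hmax _ (hJa.inf hJ'))
    -- the regular element
    obtain ⟨f, J₁, hreg, hJ₁, hf⟩ := exists_regular_ann _ I hdc hI s d hcd h4₂ hΓI₂ hΓJ₂
    obtain ⟨J₂, hJ₂, hIH⟩ := ih _ (h4₂.quotSMulTop f hreg)
    refine ⟨Ja ⊓ J₁ ⊓ J₂, (hJa.inf hJ₁).inf hJ₂, fun J _ hJle hJ => ?_⟩
    have hJa' : J ≤ Ja := hJle.trans (inf_le_left.trans inf_le_left)
    have hJ₁' : J ≤ J₁ := hJle.trans (inf_le_left.trans inf_le_right)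
    have hJ₂' : J ≤ J₂ := hJle.trans inf_le_right
    have hb₂ := Bij.of_regular I J _ f hreg s (hf J hJ₁' hJ) (hIH J hJ₂' hJ)
    have hb₁ := Bij.of_quotient I J _ _
      (isIso_cmp_of_isPowerTorsion I J _
        (isPowerTorsion_mono hJa' (isPowerTorsion_torsionSub Ja))) (s + 1) hb₂
    exact Bij.of_quotient I J _ _ (isIso_cmp_of_pow_smul I J _ n₁ hn₁) (s + 1) hb₁

end Main

end Groth.Agent.Helper9.BS8
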