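import Mathlib
import Groth.Prelude.Def_DRing4
import Groth.Agent.Helper9.BS5

/-!
# Admissible ideals (general case), maximal torsion, and the bootstrap in degree `0`
-/

set_option autoImplicit false
set_option linter.style.haveILetI false
set_option linter.unusedSectionVars false
set_option linter.unusedVariables false

universe u

open CategoryTheory CategoryTheory.Limits DerivedCategory

attribute [local instance] HasDerivedCategory.standard

namespace Groth.Agent.Helper9.BT1

open Groth.Agent.Helper9.BS1 Groth.Agent.Helper9.BS2 Groth.Agent.Helper9.BS4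
  Groth.Agent.Helper9.BS5

variable {A : Type u} [CommRing A] [IsNoetherianRing A]

section Valid

variable (I J : Ideal A)

/-- `V(J') ∩ V(I) = V(J) ∩ V(I)` -/
def ValidG (J' : Ideal A) : Prop :=
  PrimeSpectrum.zeroLocus ((J' : Ideal A) : Set A) ∩
    PrimeSpectrum.zeroLocus ((I : Ideal A) : Set A) =
  PrimeSpectrum.zeroLocus ((J : Ideal A) : Set A) ∩
    PrimeSpectrum.zeroLocus ((I : Ideal A) : Set A)

/-- `V(p) ∩ V(I) ⊆ V(J)` -/
def InT (p : PrimeSpectrum A) : Prop :=
  ∀ q : PrimeSpectrum A, p ≤ q → I ≤ q.asIdeal → J ≤ q.asIdeal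

lemma validG_iff (J' : Ideal A) : ValidG I J J' ↔
    ∀ q : PrimeSpectrum A, I ≤ q.asIdeal → (J' ≤ q.asIdeal ↔ J ≤ q.asIdeal) := by
  unfold ValidG
  rw [Set.ext_iff]
  constructor
  · intro h q hI
    have := h q
    simp only [Set.mem_inter_iff, PrimeSpectrum.mem_zeroLocus, SetLike.coe_subset_coe] at this
    constructor
    · intro h1
      exact (this.1 ⟨h1, hI⟩).1
    · intro h1
      exact (this.2 ⟨h1, hI⟩).1
  · intro h q
    simp only [Set.mem_inter_iff, PrimeSpectrum.mem_zeroLocus, SetLike.coe_subset_coe]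
    constructor
    · rintro ⟨h1, h2⟩
      exact ⟨(h q h2).1 h1, h2⟩
    · rintro ⟨h1, h2⟩
      exact ⟨(h q h2).2 h1, h2⟩

lemma validG_self : ValidG I J J := rfl

variable {I J}

lemma ValidG.inf {J' J'' : Ideal A} (h : ValidG I J J') (h' : ValidG I J J'') :
    ValidG I J (J' ⊓ J'') := by
  rw [validG_iff] at h h' ⊢
  intro q hI
  constructor
  · intro hq
    rcases (Ideal.IsPrime.inf_le q.isPrime).1 hq with h1 | h1
    · exact (h q hI).1 h1
    · exact (h' q hI).1 h1
  · intro hq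
    exact inf_le_left.trans ((h q hI).2 hq)

lemma ValidG.of_le_radical {J' J'' : Ideal A} (h : ValidG I J J') (hle : J'' ≤ J')
    (hrad : J' ≤ (J'' ⊔ I).radical) : ValidG I J J'' := by
  rw [validG_iff] at h ⊢
  intro q hI
  constructor
  · intro hq
    refine (h q hI).1 (hrad.trans ?_)
    rw [Ideal.IsPrime.radical_le_iff q.isPrime]
    exact sup_le hq hI
  · intro hq
    exact hle.trans ((h q hI).2 hq)

lemma validG_of_inT (p : PrimeSpectrum A) (hp : InT I J p) : ValidG I J (p.asIdeal ⊓ J) := by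
  rw [validG_iff]
  intro q hI
  constructor
  · intro hq
    rcases (Ideal.IsPrime.inf_le q.isPrime).1 hq with h1 | h1
    · exact hp q ((PrimeSpectrum.asIdeal_le_asIdeal p q).mp h1) hI
    · exact h1
  · intro hq
    exact inf_le_right.trans hq

lemma ValidG.not_le {J' : Ideal A} (h : ValidG I J J') (p : PrimeSpectrum A)
    (hp : ¬ InT I J p) : ¬ J' ≤ p.asIdeal := by
  intro hle
  apply hp
  intro q hpq hI
  exact ((validG_iff I J J').1 h q hI).1
    (hle.trans ((PrimeSpectrum.asIdeal_le_asIdeal p q).mpr hpq))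

lemma InT.of_le {p p' : PrimeSpectrum A} (h : InT I J p') (hle : p' ≤ p) : InT I J p :=
  fun q hpq hI => h q (hle.trans hpq) hI

lemma ValidG.zeroLocus_sup_eq {J' : Ideal A} (h : ValidG I J J') :
    PrimeSpectrum.zeroLocus ((J' ⊔ I : Ideal A) : Set A) =
      PrimeSpectrum.zeroLocus ((J ⊔ I : Ideal A) : Set A) := by
  rw [PrimeSpectrum.zeroLocus_sup, PrimeSpectrum.zeroLocus_sup]
  exact h

end Valid

section Torsion

variable (M : Type u) [AddCommGroup M] [Module A M] [Module.Finite A M]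

/-- the largest torsion submodule for a family of ideals closed under intersections -/
theorem exists_max_torsion_of (P : Ideal A → Prop) (hne : ∃ K, P K)
    (hinf : ∀ K K', P K → P K' → P (K ⊓ K')) :
    ∃ K₀ : Ideal A, P K₀ ∧ ∀ K' : Ideal A, P K' →
      DRing.torsionSub K' M ≤ DRing.torsionSub K₀ M := by
  haveI : IsNoetherian A M := isNoetherian_of_isNoetherianRing_of_finite A M
  let S : Set (Submodule A M) := {N | ∃ K' : Ideal A, P K' ∧ N = DRing.torsionSub K' M}
  obtain ⟨K, hK⟩ := hne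
  have hS : S.Nonempty := ⟨_, K, hK, rfl⟩
  obtain ⟨N, ⟨K₀, hK₀, rfl⟩, hmax⟩ :=
    WellFounded.has_min (wellFounded_gt : WellFounded ((· > ·) : Submodule A M → _ → Prop)) S hS
  refine ⟨K₀, hK₀, fun K' hK' => ?_⟩
  have h1 : DRing.torsionSub K₀ M ≤ DRing.torsionSub (K₀ ⊓ K') M := torsionSub_anti M inf_le_left
  have h2 : DRing.torsionSub K' M ≤ DRing.torsionSub (K₀ ⊓ K') M := torsionSub_anti M inf_le_right
  have h3 : ¬ DRing.torsionSub (K₀ ⊓ K') M > DRing.torsionSub K₀ M :=
    hmax _ ⟨K₀ ⊓ K', hinf _ _ hK₀ hK', rfl⟩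
  have h4 : DRing.torsionSub (K₀ ⊓ K') M = DRing.torsionSub K₀ M := by
    by_contra hne
    exact h3 (lt_of_le_of_ne h1 (Ne.symm hne))
  exact h2.trans h4.le

end Torsion

section Goal

variable (I J : Ideal A) [DRing.HasDerivedCompletion I]

/-- bijectivity of the comparison maps in degrees `≤ s` -/
def BijG (J' : Ideal A) [DRing.HasRgammaI J'] (M : Type u) [AddCommGroup M] [Module A M]
    (s : ℕ) : Prop :=
  ∀ i : ℤ, i ≤ s → Function.Bijective (HM i (cmp I J' (Dual.inD A M)))

/-- the conclusion of the bootstrap theorem -/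
def GoalG (M : Type u) [AddCommGroup M] [Module A M] (s : ℕ) : Prop :=
  ∃ J₀ : Ideal A, J₀ ≤ J ∧ ValidG I J J₀ ∧ ∀ (J' : Ideal A) [DRing.HasRgammaI J'], J' ≤ J₀ →
    ValidG I J J' → BijG I J' M s

variable (M : Type u) [AddCommGroup M] [Module A M] [Module.Finite A M]

lemma bijective_negG (J' : Ideal A) [DRing.HasRgammaI J'] (i : ℤ) (hi : i < 0) :
    Function.Bijective (HM i (cmp I J' (Dual.inD A M))) := by
  haveI := BS3.subsingleton_HD_RgammaI_neg J' M i hi
  haveI := BS3.subsingleton_HD_completion_neg I J' M i hi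
  exact ⟨fun a b _ => Subsingleton.elim a b, fun y => ⟨0, Subsingleton.elim _ _⟩⟩

/-- the case `s = 0` -/
theorem goalG_zero [IsAdicComplete I A] : GoalG I J M 0 := by
  obtain ⟨J₀, ⟨hJ₀le, hJ₀⟩, hmax⟩ := exists_max_torsion_of M (fun K => K ≤ J ∧ ValidG I J K)
    ⟨J, le_rfl, validG_self I J⟩ (fun K K' hK hK' => ⟨inf_le_left.trans hK.1, hK.2.inf hK'.2⟩)
  refine ⟨J₀, hJ₀le, hJ₀, fun J' _ hJ' hJ'v i hi => ?_⟩
  rcases lt_or_eq_of_le hi with h | h
  · exact bijective_negG I M J' i (by exact_mod_cast h)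
  · have hi0 : i = 0 := by exact_mod_cast h
    subst hi0
    apply bijective_zero I M J'
    intro J'' hJ''1 hJ''2
    exact (hmax J'' ⟨hJ''1.trans (hJ'.trans hJ₀le), hJ'v.of_le_radical hJ''1 hJ''2⟩).trans
      (torsionSub_anti M hJ')

end Goal

end Groth.Agent.Helper9.BT1
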