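import Mathlib
import Groth.Prelude.Def_DRing4
import Groth.Prelude.Def_CAlg
import Groth.Prelude.Def_Formal2
import Groth.Agent.Helper9.BS6
import Groth.Agent.Helper9.BT1

/-!
# Hypotheses (4) and (5) of the general bootstrap theorem and their behaviour under quotients
-/

set_option autoImplicit false
set_option linter.style.haveILetI false
set_option linter.unusedSectionVars false
set_option linter.unusedVariables false

universe u

open IsLocalRing
open scoped Pointwise

namespace Groth.Agent.Helper9.BT2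

open Groth.Agent.Helper9.BS6 Groth.Agent.Helper9.BT1

variable {A : Type u} [CommRing A] [IsNoetherianRing A]

section num

lemma num5 (k : ℕ) (δ δ' : ℕ∞) (D : WithBot ℕ∞) (hδ : δ ≤ δ' + 1)
    (h : (((k + 1 : ℕ) : ℕ∞) : WithBot ℕ∞) < ((δ : ℕ∞) : WithBot ℕ∞) + D) :
    ((k : ℕ∞) : WithBot ℕ∞) < ((δ' : ℕ∞) : WithBot ℕ∞) + D := by
  induction D using WithBot.recBotCoe with
  | bot =>
    rw [WithBot.add_bot] at h
    exact absurd h (not_lt_bot)
  | coe e =>
    rw [← WithBot.coe_add, WithBot.coe_lt_coe] at h ⊢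
    induction δ' using ENat.recTopCoe with
    | top => rw [top_add]; exact ENat.natCast_lt_top _
    | coe n =>
      induction e using ENat.recTopCoe with
      | top => rw [add_top]; exact ENat.natCast_lt_top _
      | coe e =>
        induction δ using ENat.recTopCoe with
        | top =>
          exfalso
          rw [top_le_iff] at hδ
          exact ENat.natCast_ne_top (n + 1) (by exact_mod_cast hδ)
        | coe m =>
          have h1 : m ≤ n + 1 := by exact_mod_cast hδ
          have h2 : k + 1 < m + e := by exact_mod_cast h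
          have : k < n + e := by omega
          exact_mod_cast this

lemma lt_of_succ_le_lt (s : ℕ) (a b : WithBot ℕ∞) (h1 : a + 1 ≤ b)
    (h2 : b < ((s + 1 + 2 : ℕ) : WithBot ℕ∞)) : a < ((s + 2 : ℕ) : WithBot ℕ∞) := by
  rw [← WithBot.coe_natCast] at h2 ⊢
  induction a using WithBot.recBotCoe with
  | bot => exact WithBot.bot_lt_coe _
  | coe a =>
    induction b using WithBot.recBotCoe with
    | bot =>
      exfalso
      have h3 : ((a + 1 : ℕ∞) : WithBot ℕ∞) ≤ ⊥ := by exact_mod_cast h1
      exact WithBot.coe_ne_bot (le_bot_iff.mp h3)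
    | coe b =>
      have h1' : a + 1 ≤ b := by exact_mod_cast h1
      have h2' : b < ((s + 1 + 2 : ℕ) : ℕ∞) := WithBot.coe_lt_coe.mp h2
      rw [WithBot.coe_lt_coe]
      induction a using ENat.recTopCoe with
      | top =>
        exfalso
        rw [top_add, top_le_iff] at h1'
        rw [h1'] at h2'
        exact absurd h2' (not_lt_of_ge le_top)
      | coe a =>
        induction b using ENat.recTopCoe with
        | top => exact absurd h2' (not_lt_of_ge le_top)
        | coe b =>
          have h3 : a + 1 ≤ b := by exact_mod_cast h1'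
          have h4 : b < s + 1 + 2 := by exact_mod_cast h2'
          have : a < s + 2 := by omega
          exact_mod_cast this

end num

section supp

variable (M : Type u) [AddCommGroup M] [Module A M] [Module.Finite A M]

/-- the dimension of the support at `p` drops modulo a regular element -/
theorem supportDim_loc_quotSMulTop_succ_le (p : Ideal A) [p.IsPrime] (x : A)
    (hx : IsSMulRegular M x) :
    Module.supportDim (Localization.AtPrime p) (LocalizedModule p.primeCompl (QuotSMulTop x M)) + 1 ≤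
      Module.supportDim (Localization.AtPrime p) (LocalizedModule p.primeCompl M) := by
  obtain ⟨e⟩ := Groth.Agent.Helper6.SkQuot.nonempty_locQuotEquiv M p x
  rw [Module.supportDim_eq_of_equiv e]
  by_cases hnt : Nontrivial (QuotSMulTop (algebraMap A (Localization.AtPrime p) x)
      (LocalizedModule p.primeCompl M))
  swap
  · rw [not_nontrivial_iff_subsingleton] at hnt
    rw [Module.supportDim_eq_bot_of_subsingleton, WithBot.bot_add]
    exact bot_le
  · have hx'm : algebraMap A (Localization.AtPrime p) x ∈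
        maximalIdeal (Localization.AtPrime p) := by
      by_contra hu
      rw [mem_maximalIdeal, mem_nonunits_iff, not_not] at hu
      have : (algebraMap A (Localization.AtPrime p) x) •
          (⊤ : Submodule (Localization.AtPrime p) (LocalizedModule p.primeCompl M)) = ⊤ := by
        rw [eq_top_iff]
        intro y _
        rw [Submodule.mem_smul_pointwise_iff_exists]
        exact ⟨(↑hu.unit⁻¹ : Localization.AtPrime p) • y, trivial, by
          rw [smul_smul, IsUnit.mul_val_inv, one_smul]⟩
      have hsub : Subsingleton (QuotSMulTop (algebraMap A (Localization.AtPrime p) x)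
          (LocalizedModule p.primeCompl M)) :=
        Submodule.Quotient.subsingleton_iff.mpr this
      exact not_subsingleton _ hsub
    have hreg' : IsSMulRegular (LocalizedModule p.primeCompl M)
        (algebraMap A (Localization.AtPrime p) x) := by
      have h1 : RingTheory.Sequence.IsWeaklyRegular M [x] :=
        (RingTheory.Sequence.isWeaklyRegular_singleton_iff M x).mpr hx
      have h2 := RingTheory.Sequence.IsWeaklyRegular.of_isLocalizedModule
        (Localization.AtPrime p) p.primeCompl (LocalizedModule.mkLinearMap p.primeCompl M) h1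
      exact (RingTheory.Sequence.isWeaklyRegular_singleton_iff _ _).mp h2
    haveI : IsNoetherianRing (Localization.AtPrime p) :=
      IsLocalization.isNoetherianRing p.primeCompl _ inferInstance
    haveI : Module.Finite (Localization.AtPrime p) (LocalizedModule p.primeCompl M) :=
      Module.Finite.of_isLocalizedModule p.primeCompl
        (LocalizedModule.mkLinearMap p.primeCompl M)
    exact (Module.supportDim_quotSMulTop_succ_eq_supportDim hreg' hx'm).le

end supp

section Cond

variable (I J : Ideal A) (d : ℕ)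

/-- hypothesis (4) -/
def Cond4G (M : Type u) [AddCommGroup M] [Module A M] (s : ℕ) : Prop :=
  ∀ p : PrimeSpectrum A, ¬ I ≤ p.asIdeal → ¬ InT I J p →
    ∀ q : PrimeSpectrum A, p ≤ q → J ≤ q.asIdeal → I ≤ q.asIdeal →
    (s : ℕ∞) ≤ LocCoh.depth (Localization.AtPrime p.asIdeal)
      (LocalizedModule p.asIdeal.primeCompl M) ∨
    (((d + s : ℕ) : ℕ∞) : WithBot ℕ∞) <
      ((LocCoh.depth (Localization.AtPrime p.asIdeal)
        (LocalizedModule p.asIdeal.primeCompl M) : ℕ∞) : WithBot ℕ∞) +
        Formal2.dimBetween A p.asIdeal q.asIdeal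

/-- hypothesis (5) -/
def Cond5G (δ : PrimeSpectrum A → ℤ) (M : Type u) [AddCommGroup M] [Module A M] (s : ℕ) : Prop :=
  ∀ p : PrimeSpectrum A, ¬ I ≤ p.asIdeal → ¬ InT I J p →
    (∃ q : PrimeSpectrum A, p ≤ q ∧ J ≤ q.asIdeal ∧ I ≤ q.asIdeal) →
    LocCoh.depth (Localization.AtPrime p.asIdeal) (LocalizedModule p.asIdeal.primeCompl M) <
      (s : ℕ∞) →
    Module.supportDim (Localization.AtPrime p.asIdeal) (LocalizedModule p.asIdeal.primeCompl M) <
      ((s + 2 : ℕ) : WithBot ℕ∞) ∨
    (∀ q' : PrimeSpectrum A, J ≤ q'.asIdeal → I ≤ q'.asIdeal → (d : ℤ) + δ q' - 1 < δ p) ∨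
    (∀ q : PrimeSpectrum A, p ≤ q → J ≤ q.asIdeal → I ≤ q.asIdeal →
      ∀ q₁ q₂ : PrimeSpectrum A, J ≤ q₁.asIdeal → I ≤ q₁.asIdeal → J ≤ q₂.asIdeal →
      I ≤ q₂.asIdeal → ∀ k : ℕ, (k : ℤ) = (d : ℤ) + s + (δ q₁ - δ q₂) - 2 →
      ((k : ℕ∞) : WithBot ℕ∞) <
        ((LocCoh.depth (Localization.AtPrime p.asIdeal)
          (LocalizedModule p.asIdeal.primeCompl M) : ℕ∞) : WithBot ℕ∞) +
          Formal2.dimBetween A p.asIdeal q.asIdeal)

variable {I J d} {δ : PrimeSpectrum A → ℤ} {M : Type u} [AddCommGroup M] [Module A M]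

lemma Cond4G.quotient {s : ℕ} (h : Cond4G I J d M s) (N : Submodule A M)
    (hN : ∀ p : PrimeSpectrum A, ¬ I ≤ p.asIdeal → ¬ InT I J p →
      (∃ q : PrimeSpectrum A, p ≤ q ∧ J ≤ q.asIdeal ∧ I ≤ q.asIdeal) →
      ∀ x ∈ N, ∃ t : A, t ∉ p.asIdeal ∧ t • x = 0) : Cond4G I J d (M ⧸ N) s := by
  intro p hp hT q hpq hJq hIq
  rw [depth_loc_quotient M p.asIdeal N (hN p hp hT ⟨q, hpq, hJq, hIq⟩)]
  exact h p hp hT q hpq hJq hIq

lemma Cond5G.quotient {s : ℕ} (h : Cond5G I J d δ M s) (N : Submodule A M)
    (hN : ∀ p : PrimeSpectrum A, ¬ I ≤ p.asIdeal → ¬ InT I J p →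
      (∃ q : PrimeSpectrum A, p ≤ q ∧ J ≤ q.asIdeal ∧ I ≤ q.asIdeal) →
      ∀ x ∈ N, ∃ t : A, t ∉ p.asIdeal ∧ t • x = 0) : Cond5G I J d δ (M ⧸ N) s := by
  intro p hp hT hq
  obtain ⟨e⟩ := nonempty_locQuotEquiv M p.asIdeal N (hN p hp hT hq)
  rw [depth_loc_quotient M p.asIdeal N (hN p hp hT hq), ← Module.supportDim_eq_of_equiv e]
  exact h p hp hT hq

lemma Cond4G.quotSMulTop [Module.Finite A M] {s : ℕ} (h : Cond4G I J d M (s + 1)) (x : A)
    (hx : IsSMulRegular M x) : Cond4G I J d (QuotSMulTop x M) s := by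
  intro p hp hT q hpq hJq hIq
  exact num4 d s _ _ _ (depth_loc_le_quotSMulTop_succ M p.asIdeal x hx)
    (h p hp hT q hpq hJq hIq)

lemma Cond5G.quotSMulTop [Module.Finite A M] {s : ℕ} (h : Cond5G I J d δ M (s + 1)) (x : A)
    (hx : IsSMulRegular M x) : Cond5G I J d δ (QuotSMulTop x M) s := by
  intro p hp hT hq hdepth
  have hle := depth_loc_le_quotSMulTop_succ M p.asIdeal x hx
  have hlt : LocCoh.depth (Localization.AtPrime p.asIdeal)
      (LocalizedModule p.asIdeal.primeCompl M) < ((s + 1 : ℕ) : ℕ∞) := by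
    refine lt_of_le_of_lt hle ?_
    obtain ⟨m, hm⟩ := ENat.ne_top_iff_exists.mp (ne_top_of_lt hdepth)
    rw [← hm] at hdepth ⊢
    have : m < s := by exact_mod_cast hdepth
    exact_mod_cast Nat.succ_lt_succ this
  rcases h p hp hT hq hlt with h1 | h1 | h1
  · left
    exact lt_of_succ_le_lt s _ _ (supportDim_loc_quotSMulTop_succ_le M p.asIdeal x hx) h1
  · right; left
    exact h1
  · right; right
    intro q hpq hJq hIq q₁ q₂ h1J h1I h2J h2I k hk
    refine num5 k _ _ _ hle (h1 q hpq hJq hIq q₁ q₂ h1J h1I h2J h2I (k + 1) ?_)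
    push_cast
    rw [hk]
    ring

end Cond

end Groth.Agent.Helper9.BT2
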