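import Mathlib
import Groth.Prelude.Def_DualLC
import Groth.Prelude.Def_DRing4
import Groth.Agent.Helper9.LF9
import Groth.Agent.Helper9.LF10
import Groth.Agent.Helper9.BT2
import Groth.Agent.Helper9.DepthKer
import Groth.Agent.Helper2.DepthCM
import Groth.Agent.Helper2.Depth

/-!
# The key inequality for associated primes in the general bootstrap
-/

set_option autoImplicit false
set_option linter.style.haveILetI false
set_option linter.unusedSectionVars false
set_option linter.unusedVariables false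

universe u
open CategoryTheory
attribute [local instance] HasDerivedCategory.standard

namespace Groth.Agent.Helper9.BT3
open Groth.Agent.Helper9.LF9 Groth.Agent.Helper9.LF10 Groth.Agent.Helper9.BS6
  Groth.Agent.Helper9.BT1 Groth.Agent.Helper9.BT2 IsLocalRing

variable {A : Type u} [CommRing A] [IsNoetherianRing A]

section Ass

variable (M : Type u) [AddCommGroup M] [Module A M] [Module.Finite A M]

instance (p : PrimeSpectrum A) : IsNoetherianRing (Localization.AtPrime p.asIdeal) :=
  IsLocalization.isNoetherianRing p.asIdeal.primeCompl _ inferInstance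

instance (p : PrimeSpectrum A) : Module.Finite (Localization.AtPrime p.asIdeal)
    (LocalizedModule p.asIdeal.primeCompl M) :=
  Module.Finite.of_isLocalizedModule p.asIdeal.primeCompl
    (LocalizedModule.mkLinearMap p.asIdeal.primeCompl M)

/-- the depth at an associated prime is zero -/
lemma depth_eq_zero_of_mem_ass (p : PrimeSpectrum A) (hp : p.asIdeal ∈ associatedPrimes A M) :
    LocCoh.depth (Localization.AtPrime p.asIdeal) (LocalizedModule p.asIdeal.primeCompl M) = 0 := by
  have hassloc := Module.associatedPrimes.mem_associatedPrimes_atPrime_of_mem_associatedPrimes hp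
  haveI hnt : Nontrivial (LocalizedModule p.asIdeal.primeCompl M) := by
    by_contra hcon
    rw [not_nontrivial_iff_subsingleton] at hcon
    exact not_isAssociatedPrime_of_subsingleton hassloc
  rw [Groth.Agent.Helper2.Depth.depth_eq_zero_iff]
  intro b hb
  exact Groth.Agent.Helper2.Depth.not_regular_of_mem_ass _ _ _ hassloc b hb

/-- an associated prime `p₀ ⊆ p` stays associated after localizing at `p` -/
lemma map_mem_ass (p₀ p : PrimeSpectrum A) (h : p₀ ≤ p) (hp₀ : p₀.asIdeal ∈ associatedPrimes A M) :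
    p₀.asIdeal.map (algebraMap A (Localization.AtPrime p.asIdeal)) ∈
      associatedPrimes (Localization.AtPrime p.asIdeal)
        (LocalizedModule p.asIdeal.primeCompl M) := by
  apply Module.associatedPrimes.mem_associatedPrimes_of_comap_mem_associatedPrimes_of_isLocalizedModule
    p.asIdeal.primeCompl (LocalizedModule.mkLinearMap p.asIdeal.primeCompl M)
  have hdisj : Disjoint (p.asIdeal.primeCompl : Set A) (p₀.asIdeal : Set A) := by
    rw [Set.disjoint_left]
    intro a ha ha'
    exact ha ((PrimeSpectrum.asIdeal_le_asIdeal p₀ p).mpr h ha')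
  have := IsLocalization.under_map_of_isPrime_disjoint p.asIdeal.primeCompl
    (Localization.AtPrime p.asIdeal) p₀.isPrime hdisj
  rw [Ideal.under] at this
  rw [this]
  exact hp₀

/-- `depth M_p ≤ dim (A/p₀)_p` for an associated prime `p₀ ⊆ p` -/
lemma depth_le_dimBetween (p₀ p : PrimeSpectrum A) (h : p₀ ≤ p)
    (hp₀ : p₀.asIdeal ∈ associatedPrimes A M) :
    ((LocCoh.depth (Localization.AtPrime p.asIdeal)
      (LocalizedModule p.asIdeal.primeCompl M) : ℕ∞) : WithBot ℕ∞) ≤
      Formal2.dimBetween A p₀.asIdeal p.asIdeal :=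
  Groth.Agent.Helper2.DepthCM.depth_le_dim_quotient_of_mem_ass _ _ (map_mem_ass M p₀ p h hp₀)

/-- `dim (A/p₀)_p ≤ dim Supp M_p` for an associated prime `p₀ ⊆ p` -/
lemma dimBetween_le_supportDim (p₀ p : PrimeSpectrum A) (h : p₀ ≤ p)
    (hp₀ : p₀.asIdeal ∈ associatedPrimes A M) :
    Formal2.dimBetween A p₀.asIdeal p.asIdeal ≤
      Module.supportDim (Localization.AtPrime p.asIdeal)
        (LocalizedModule p.asIdeal.primeCompl M) := by
  have hass := map_mem_ass M p₀ p h hp₀
  rw [AssociatedPrimes.mem_iff, isAssociatedPrime_iff_exists_injective_linearMap] at hass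
  obtain ⟨_, f, hf⟩ := hass
  have := Module.supportDim_le_of_injective f hf
  rwa [Module.supportDim_quotient_eq_ringKrullDim] at this

/-- a nonzero localization has an associated prime coming from `M` -/
lemma exists_ass_le (p : PrimeSpectrum A)
    (hnt : Nontrivial (LocalizedModule p.asIdeal.primeCompl M)) :
    ∃ p₀ : PrimeSpectrum A, p₀ ≤ p ∧ p₀.asIdeal ∈ associatedPrimes A M := by
  obtain ⟨P, hP⟩ := associatedPrimes.nonempty (Localization.AtPrime p.asIdeal)
    (LocalizedModule p.asIdeal.primeCompl M)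
  have hPprime : P.IsPrime := hP.isPrime
  have h1 := Module.associatedPrimes.comap_mem_associatedPrimes_of_mem_associatedPrimes_of_isLocalizedModule_of_fg
    p.asIdeal.primeCompl (LocalizedModule.mkLinearMap p.asIdeal.primeCompl M) P hP
    (IsNoetherian.noetherian _)
  have h1prime : (P.comap (algebraMap A (Localization.AtPrime p.asIdeal))).IsPrime := h1.isPrime
  refine ⟨⟨_, h1prime⟩, ?_, h1⟩
  rw [← PrimeSpectrum.asIdeal_le_asIdeal]
  show P.comap (algebraMap A (Localization.AtPrime p.asIdeal)) ≤ p.asIdeal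
  have h2 : P ≤ maximalIdeal (Localization.AtPrime p.asIdeal) := le_maximalIdeal hPprime.ne_top
  have h3 := Ideal.comap_mono (f := algebraMap A (Localization.AtPrime p.asIdeal)) h2
  have h4 : (maximalIdeal (Localization.AtPrime p.asIdeal)).comap
      (algebraMap A (Localization.AtPrime p.asIdeal)) = p.asIdeal :=
    Localization.AtPrime.under_maximalIdeal
  rwa [h4] at h3

end Ass

section Delta

variable (δ : PrimeSpectrum A → ℤ) (hδ : ∀ p q : PrimeSpectrum A, p ⋖ q → δ p = δ q + 1)

include hδ in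
/-- `dim (A/p)_q = δ(p) - δ(q)` -/
lemma exists_dim (p q : PrimeSpectrum A) (hpq : p ≤ q) :
    ∃ h : ℕ, (h : ℤ) = δ p - δ q ∧
      Formal2.dimBetween A p.asIdeal q.asIdeal = (((h : ℕ) : ℕ∞) : WithBot ℕ∞) := by
  obtain ⟨h, h1, h2, _⟩ := exists_h δ hδ p q hpq
  exact ⟨h, by omega, h2⟩

include hδ in
/-- `δ` is strictly decreasing -/
lemma delta_lt (p' p : PrimeSpectrum A) (h : p' < p) : δ p + 1 ≤ δ p' := by
  obtain ⟨k, h1, _, h3⟩ := exists_h δ hδ p' p h.le
  have h4 : (1 : WithBot ℕ∞) ≤ Order.krullDim (Set.Icc p' p) := by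
    rw [Order.one_le_krullDim_iff]
    exact ⟨⟨p', le_rfl, h.le⟩, ⟨p, h.le, le_rfl⟩, h⟩
  rw [h3] at h4
  have h5 : 1 ≤ k := by exact_mod_cast h4
  omega

end Delta

section Key

variable (I J : Ideal A) (d : ℕ) (δ : PrimeSpectrum A → ℤ)
  (hδ : ∀ p q : PrimeSpectrum A, p ⋖ q → δ p = δ q + 1)
  (M : Type u) [AddCommGroup M] [Module A M] [Module.Finite A M]

include hδ in
/-- **the key inequality**: for an associated prime `p` of `M`, hypotheses (4) and (5) give the
depth-dimension inequality at all generizations of `p` -/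
theorem key (hdc : ∃ ω : Dual.D A, Dual.IsDualizing A ω) (s : ℕ)
    (h4 : Cond4G I J d M (s + 1)) (h5 : Cond5G I J d δ M (s + 1))
    (p : PrimeSpectrum A) (hp : p.asIdeal ∈ associatedPrimes A M) (hpI : ¬ I ≤ p.asIdeal)
    (hpT : ¬ InT I J p)
    (hq₀ : ∃ q₀ : PrimeSpectrum A, p ≤ q₀ ∧ J ≤ q₀.asIdeal ∧ I ≤ q₀.asIdeal) :
    ∀ p' : PrimeSpectrum A, p' ≤ p → ∀ q : PrimeSpectrum A, p' ≤ q → J ≤ q.asIdeal →
      I ≤ q.asIdeal → (((d + (s + 1) : ℕ) : ℕ∞) : WithBot ℕ∞) <
        ((LocCoh.depth (Localization.AtPrime p'.asIdeal)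
          (LocalizedModule p'.asIdeal.primeCompl M) : ℕ∞) : WithBot ℕ∞) +
          Formal2.dimBetween A p'.asIdeal q.asIdeal := by
  intro p' hp'p q hp'q hJq hIq
  have hd0 := depth_eq_zero_of_mem_ass M p hp
  have hs0 : ¬ (((s + 1 : ℕ) : ℕ∞) ≤ 0) := by
    intro h
    have : ((s + 1 : ℕ) : ℕ∞) = 0 := le_antisymm h zero_le
    exact Nat.succ_ne_zero s (by exact_mod_cast this)
  by_cases hpq : p ≤ q
  · rcases h4 p hpI hpT q hpq hJq hIq with h | h
    · exact absurd (hd0 ▸ h) hs0
    · exact lt_of_lt_of_le h (depth_add_dim_le M hdc p' p q hp'p hpq)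
  · have hlt : p' < p := lt_of_le_of_ne hp'p (fun h => hpq (h ▸ hp'q))
    have hp'I : ¬ I ≤ p'.asIdeal := fun h =>
      hpI (h.trans ((PrimeSpectrum.asIdeal_le_asIdeal p' p).mpr hp'p))
    have hp'T : ¬ InT I J p' := fun h => hpT (h.of_le hp'p)
    rcases h4 p' hp'I hp'T q hp'q hJq hIq with h | h
    swap
    · exact h
    obtain ⟨h', hh', hdim'⟩ := exists_dim δ hδ p' q hp'q
    have hδlt := delta_lt δ hδ p' p hlt
    by_cases hnt : Nontrivial (LocalizedModule p'.asIdeal.primeCompl M)
    swap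
    · rw [not_nontrivial_iff_subsingleton] at hnt
      have htop : maximalIdeal (Localization.AtPrime p'.asIdeal) •
          (⊤ : Submodule (Localization.AtPrime p'.asIdeal)
            (LocalizedModule p'.asIdeal.primeCompl M)) = ⊤ := Subsingleton.elim _ _
      have hdt : LocCoh.depth (Localization.AtPrime p'.asIdeal)
          (LocalizedModule p'.asIdeal.primeCompl M) = ⊤ :=
        Groth.Agent.Helper9.DepthKer.idealDepth_eq_top _ _ htop
      rw [hdt, hdim', ← WithBot.coe_add, WithBot.coe_lt_coe, top_add]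
      exact ENat.natCast_lt_top _
    suffices hsuff : d + 1 ≤ h' by
      rw [hdim', ← WithBot.coe_add, WithBot.coe_lt_coe]
      have h1 : ((s + 1 : ℕ) : ℕ∞) + ((d + 1 : ℕ) : ℕ∞) ≤
          LocCoh.depth (Localization.AtPrime p'.asIdeal)
            (LocalizedModule p'.asIdeal.primeCompl M) + (h' : ℕ∞) :=
        add_le_add h (by exact_mod_cast hsuff)
      refine lt_of_lt_of_le ?_ h1
      exact_mod_cast (by omega : d + (s + 1) < (s + 1) + (d + 1))
    have hlt0 : LocCoh.depth (Localization.AtPrime p.asIdeal)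
        (LocalizedModule p.asIdeal.primeCompl M) < ((s + 1 : ℕ) : ℕ∞) := by
      rw [hd0]
      exact_mod_cast Nat.succ_pos s
    rcases h5 p hpI hpT hq₀ hlt0 with ha | hb | hc
    · obtain ⟨p₀, hp₀le, hp₀ass⟩ := exists_ass_le M p' hnt
      have hp₀I : ¬ I ≤ p₀.asIdeal := fun h =>
        hp'I (h.trans ((PrimeSpectrum.asIdeal_le_asIdeal p₀ p').mpr hp₀le))
      have hp₀T : ¬ InT I J p₀ := fun h => hp'T (h.of_le hp₀le)
      obtain ⟨h₁, hh₁, hdim₁⟩ := exists_dim δ hδ p₀ p' hp₀le
      have hK3 := depth_le_dimBetween M p₀ p' hp₀le hp₀ass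
      rw [hdim₁] at hK3
      have h1 : s + 1 ≤ h₁ := by
        have : ((s + 1 : ℕ) : ℕ∞) ≤ (h₁ : ℕ∞) := le_trans h (WithBot.coe_le_coe.mp hK3)
        exact_mod_cast this
      obtain ⟨h₂, hh₂, hdim₂⟩ := exists_dim δ hδ p₀ p (hp₀le.trans hp'p)
      have hK4 := lt_of_le_of_lt (dimBetween_le_supportDim M p₀ p (hp₀le.trans hp'p) hp₀ass) ha
      rw [hdim₂, ← WithBot.coe_natCast, WithBot.coe_lt_coe] at hK4
      have h2 : h₂ < s + 1 + 2 := by exact_mod_cast hK4
      obtain ⟨h₃, hh₃, hdim₃⟩ := exists_dim δ hδ p₀ q (hp₀le.trans hp'q)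
      have hd0' := depth_eq_zero_of_mem_ass M p₀ hp₀ass
      rcases h4 p₀ hp₀I hp₀T q (hp₀le.trans hp'q) hJq hIq with h3 | h3
      · exact absurd (hd0' ▸ h3) hs0
      rw [hd0', hdim₃, ← WithBot.coe_add, WithBot.coe_lt_coe] at h3
      have h3' : d + (s + 1) < h₃ := by
        have : ((d + (s + 1) : ℕ) : ℕ∞) < ((0 + h₃ : ℕ) : ℕ∞) := by exact_mod_cast h3
        have := (Nat.cast_lt (α := ℕ∞)).mp this
        omega
      omega
    · have := hb q hJq hIq
      omega
    · obtain ⟨q₀, hpq₀, hJq₀, hIq₀⟩ := hq₀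
      obtain ⟨h₀, hh₀, hdim₀⟩ := exists_dim δ hδ p q₀ hpq₀
      have hK : (d : ℤ) + ((s + 1 : ℕ) : ℤ) + (δ q - δ q₀) - 2 < h₀ := by
        by_cases hneg : (d : ℤ) + ((s + 1 : ℕ) : ℤ) + (δ q - δ q₀) - 2 < 0
        · omega
        · obtain ⟨k, hk⟩ := Int.eq_ofNat_of_zero_le (not_lt.mp hneg)
          have h6 := hc q₀ hpq₀ hJq₀ hIq₀ q q₀ hJq hIq hJq₀ hIq₀ k hk.symm
          rw [hd0, hdim₀, ← WithBot.coe_add, WithBot.coe_lt_coe] at h6
          have h7 : k < h₀ := by
            have : ((k : ℕ) : ℕ∞) < ((0 + h₀ : ℕ) : ℕ∞) := by exact_mod_cast h6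
            have := (Nat.cast_lt (α := ℕ∞)).mp this
            omega
          omega
      push_cast at hK
      omega

end Key

end Groth.Agent.Helper9.BT3
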