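import Mathlib
import Groth.Prelude.Def_DualLC
import Groth.Prelude.Def_DRing4
import Groth.Agent.Helper9.LF10
import Groth.Agent.Helper9.LF13
import Groth.Agent.Helper9.BS7
import Groth.Agent.Helper9.BT3
import Groth.Agent.S8790
import Groth.Agent.S0379

/-!
# Annihilators in the general bootstrap, uniformly in the admissible ideal
-/

set_option autoImplicit false
set_option linter.style.haveILetI false
set_option linter.unusedSectionVars false
set_option linter.unusedVariables false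

universe u
open CategoryTheory CategoryTheory.Limits Opposite DerivedCategory Pretriangulated
attribute [local instance] HasDerivedCategory.standard

namespace Groth.Agent.Helper9.BT4
open Groth.Agent.Helper9.LCT2 Groth.Agent.Helper9.LCT3 Groth.Agent.Helper9.GM1
  Groth.Agent.Helper9.GM2 Groth.Agent.Helper3.DRingLib Groth.Agent.Helper6.DComplAmp
  Groth.Agent.Helper6.DComplExact Groth.Agent.Helper6.DComplLES
  Groth.Agent.Helper9.LT1 Groth.Agent.Helper9.LT2 Groth.Agent.Helper9.LF1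
  Groth.Agent.Helper9.LF3 Groth.Agent.Helper9.LF8 Groth.Agent.Helper9.LF9
  Groth.Agent.Helper9.LF10 Groth.Agent.Helper9.BS6 Groth.Agent.Helper9.BT1
  Groth.Agent.Helper9.BT2 Groth.Agent.Helper9.BT3 IsLocalRing

variable {A : Type u} [CommRing A] [IsNoetherianRing A]

section Unif

variable (I J : Ideal A) [DRing.HasDerivedCompletion I]
  (M : Type u) [AddCommGroup M] [Module A M] [Module.Finite A M]

/-- annihilators of the cohomology of the derived completion of `RΓ_{J'}(M)`, uniformly in the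
admissible ideal `J'` -/
theorem exists_notMem_smul_eq_zero_unifG (hdc : ∃ ω : Dual.D A, Dual.IsDualizing A ω)
    (p : PrimeSpectrum A) (s d : ℕ) (h2 : ¬ (J ≤ p.asIdeal ∧ I ≤ p.asIdeal))
    (h3 : LocCoh.CdLE A I d)
    (h4 : ∀ p' : PrimeSpectrum A, p' ≤ p → ∀ q : PrimeSpectrum A, p' ≤ q → J ≤ q.asIdeal →
      I ≤ q.asIdeal → (((d + s : ℕ) : ℕ∞) : WithBot ℕ∞) <
        ((LocCoh.depth (Localization.AtPrime p'.asIdeal)
          (LocalizedModule p'.asIdeal.primeCompl M) : ℕ∞) : WithBot ℕ∞) +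
          Formal2.dimBetween A p'.asIdeal q.asIdeal) :
    ∃ f : A, f ∉ p.asIdeal ∧ ∀ (J' : Ideal A) [DRing.HasRgammaI J'], ValidG I J J' →
      ∀ i : ℤ, i ≤ s → ∀ x : Dual.HD A ((DRing.derivedCompletion I).obj
        ((DRing.RgammaI J').obj (Dual.inD A M))).obj i, f • x = 0 := by
  have hT : StableUnderSpecialization (PrimeSpectrum.zeroLocus ((J ⊔ I : Ideal A) : Set A)) :=
    (PrimeSpectrum.isClosed_zeroLocus _).stableUnderSpecialization
  have hT' : StableUnderSpecialization {q' : PrimeSpectrum A | ¬ q' ≤ p} := by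
    intro x y hxy hx hyp
    exact hx (((PrimeSpectrum.le_iff_specializes x y).mpr hxy).trans hyp)
  have hTT' : PrimeSpectrum.zeroLocus ((J ⊔ I : Ideal A) : Set A) ⊆
      {q' : PrimeSpectrum A | ¬ q' ≤ p} := by
    intro q hq hqp
    rw [PrimeSpectrum.mem_zeroLocus, SetLike.coe_subset_coe] at hq
    have hqp' := (PrimeSpectrum.asIdeal_le_asIdeal q p).mpr hqp
    exact h2 ⟨(le_sup_left.trans hq).trans hqp', (le_sup_right.trans hq).trans hqp'⟩
  obtain ⟨𝔠, h𝔠, hann⟩ := (module_form hdc _ _ hT hT' hTT' (s + d) M).2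
    (fun p' q hp' hq hp'q => by
      have h1 : p' ≤ p := not_not.mp hp'
      rw [PrimeSpectrum.mem_zeroLocus, SetLike.coe_subset_coe] at hq
      have h := h4 p' h1 q hp'q (le_sup_left.trans hq) (le_sup_right.trans hq)
      rw [dimBetween_eq, WithBot.coe_natCast, Nat.add_comm] at h
      exact h)
  have h𝔠p : ¬ 𝔠 ≤ p.asIdeal := by
    intro hle
    have h1 : p ∈ {q' : PrimeSpectrum A | ¬ q' ≤ p} := h𝔠 (by
      rw [PrimeSpectrum.mem_zeroLocus]
      exact hle)
    exact h1 le_rfl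
  obtain ⟨f, hf𝔠, hfp⟩ := SetLike.not_le_iff_exists.mp h𝔠p
  refine ⟨f ^ (s + d + 1), fun h => hfp (p.isPrime.mem_of_pow_mem _ h), fun J' _ hJ' i hi x => ?_⟩
  refine ann_completion_RgammaI I J' M d h3 s f ?_ i hi x
  rw [hJ'.zeroLocus_sup_eq]
  exact fun j hj y => hann j (by push_cast; omega) f hf𝔠 y

end Unif

section Dim

/-- a consequence of `cd(A, I) ≤ d`: every prime `p ∉ V(I)` has a specialization `q ∈ V(I)` with
`dim (A/p)_q ≤ d` -/
theorem exists_dimBetween_le (I : Ideal A) (hIjac : I ≤ (⊥ : Ideal A).jacobson) (d : ℕ)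
    (hcd : LocCoh.CdLE A I d) (p : PrimeSpectrum A) :
    ∃ q : PrimeSpectrum A, p ≤ q ∧ I ≤ q.asIdeal ∧
      Formal2.dimBetween A p.asIdeal q.asIdeal ≤ ((d : ℕ∞) : WithBot ℕ∞) := by
  have hne : p.asIdeal ⊔ I ≠ ⊤ := by
    obtain ⟨𝔪, h𝔪, hp𝔪⟩ := Ideal.exists_le_maximal p.asIdeal p.isPrime.ne_top
    have hI𝔪 : I ≤ 𝔪 := hIjac.trans (sInf_le ⟨bot_le, h𝔪⟩)
    intro htop
    exact h𝔪.ne_top (top_le_iff.mp (htop ▸ sup_le hp𝔪 hI𝔪))
  obtain ⟨q₀, hq₀⟩ := Ideal.nonempty_minimalPrimes hne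
  have hq₀prime : q₀.IsPrime := hq₀.1.1
  have hq₀le : p.asIdeal ⊔ I ≤ q₀ := hq₀.1.2
  let q : PrimeSpectrum A := ⟨q₀, hq₀prime⟩
  have hpq : p ≤ q := (PrimeSpectrum.asIdeal_le_asIdeal p q).mp (le_sup_left.trans hq₀le)
  refine ⟨q, hpq, le_sup_right.trans hq₀le, ?_⟩
  let B := Localization.AtPrime q₀
  haveI : IsNoetherianRing B := IsLocalization.isNoetherianRing q₀.primeCompl _ inferInstance
  have hcdB := (Groth.Agent.S0379.result A B I d).1 hcd
  have hdisj : Disjoint (q₀.primeCompl : Set A) (p.asIdeal : Set A) := by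
    rw [Set.disjoint_left]
    intro a ha ha'
    exact ha (le_sup_left.trans hq₀le ha')
  have hPprime : (p.asIdeal.map (algebraMap A B)).IsPrime :=
    IsLocalization.isPrime_of_isPrime_disjoint q₀.primeCompl B _ p.isPrime hdisj
  let P' : PrimeSpectrum B := ⟨p.asIdeal.map (algebraMap A B), hPprime⟩
  have hJ : I.map (algebraMap A B) ≤ maximalIdeal B := by
    rw [← Localization.AtPrime.map_eq_maximalIdeal]
    exact Ideal.map_mono (le_sup_right.trans hq₀le)
  obtain ⟨h, hhd, hh⟩ := Groth.Agent.Helper9.LF13.dim_le_of_cd (I.map (algebraMap A B)) d hcdB P' hJ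
    (fun Q' hPQ' hIQ' => by
      have hQ'prime := Q'.isPrime
      have h1 : p.asIdeal ⊔ I ≤ Q'.asIdeal.comap (algebraMap A B) := by
        apply sup_le
        · exact Ideal.map_le_iff_le_comap.mp ((PrimeSpectrum.asIdeal_le_asIdeal P' Q').mpr hPQ')
        · exact Ideal.map_le_iff_le_comap.mp hIQ'
      have h2 : Q'.asIdeal.comap (algebraMap A B) ≤ q₀ := by
        have h3 := Ideal.comap_mono (f := algebraMap A B) (le_maximalIdeal hQ'prime.ne_top)
        have h4 : (maximalIdeal B).comap (algebraMap A B) = q₀ :=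
          Localization.AtPrime.under_maximalIdeal
        rwa [h4] at h3
      have h5 : q₀ ≤ Q'.asIdeal.comap (algebraMap A B) :=
        hq₀.2 ⟨Ideal.IsPrime.comap _, h1⟩ h2
      have h6 : Q'.asIdeal = maximalIdeal B := by
        have h7 := IsLocalization.map_under q₀.primeCompl B Q'.asIdeal
        rw [Ideal.under] at h7
        rw [← h7, le_antisymm h2 h5]
        exact Localization.AtPrime.map_eq_maximalIdeal
      rw [h6]
      infer_instance)
  have h8 : Formal2.dimBetween A p.asIdeal q.asIdeal = ringKrullDim (B ⧸ P'.asIdeal) := rfl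
  rw [h8, ← dimBetween_closedPoint, dimBetween_eq, hh]
  exact_mod_cast hhd

end Dim

section LC

variable (I J : Ideal A) (M : Type u) [AddCommGroup M] [Module A M] [Module.Finite A M]

/-- annihilation of `H^i_{J'}(M)`, uniformly in the admissible ideal `J'` -/
theorem exists_ideal_ann_HG (hdc : ∃ ω : Dual.D A, Dual.IsDualizing A ω)
    (hIjac : I ≤ (⊥ : Ideal A).jacobson) (s d : ℕ) (hcd : LocCoh.CdLE A I d)
    (h4 : Cond4G I J d M s) :
    ∃ (J₁ : Ideal A) (n : ℕ), J₁ ≤ J ∧ ValidG I J J₁ ∧ ∀ J' : Ideal A, J' ≤ J₁ → ValidG I J J' →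
      ∀ a ∈ (J₁ * I) ^ n, ∀ i : ℕ, i ≤ s → ∀ x : LocCoh.H J' i M, a • x = 0 := by
  obtain ⟨J₁, hJ₁le, hJ₁eq, hbij, n, hn⟩ := Groth.Agent.S8790.result A hdc I J M s d
    {p | InT I J p} (fun p => Iff.rfl)
    (fun p hp hpT => by
      obtain ⟨q, hpq, hIq, hdim⟩ := exists_dimBetween_le I hIjac d hcd p
      exact ⟨q, hpq, hpT q hpq hIq, hIq, hdim⟩)
    (fun p hp hpT q hpq hJq hIq => h4 p hp hpT q hpq hJq hIq)
  refine ⟨J₁, n, hJ₁le, hJ₁eq, fun J' hJ'le hJ' a ha i hi x => ?_⟩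
  obtain ⟨y, rfl⟩ := (hbij J' hJ'le hJ' i hi).2 x
  rw [← map_smul, hn a ha i hi y, map_zero]

/-- transport of annihilators to the cohomology of `RΓ_J(M)` -/
lemma smul_HD_RgammaI_eq_zero (J' : Ideal A) [DRing.HasRgammaI J'] (a : A) (k : ℕ)
    (h : ∀ x : LocCoh.H J' k M, a • x = 0)
    (x : Dual.HD A ((DRing.RgammaI J').obj (Dual.inD A M)) (k : ℤ)) : a • x = 0 := by
  let e := (Groth.Agent.Helper6.LcD.hd_rgamma J' (k : ℤ) (Dual.inD A M)).some.trans
    (Groth.Agent.Helper6.LcD.bridge J' M k).some.symm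
  apply e.injective
  rw [map_smul, h, map_zero]

end LC

section Reg

variable (I J : Ideal A) [DRing.HasDerivedCompletion I] (d : ℕ) (δ : PrimeSpectrum A → ℤ)
  (hδ : ∀ p q : PrimeSpectrum A, p ⋖ q → δ p = δ q + 1)
  (M : Type u) [AddCommGroup M] [Module A M] [Module.Finite A M]

include hδ in
/-- a regular element killing the low degree cohomology of `RΓ_{J'}(M)` and of its completion,
uniformly in the admissible ideal `J'` -/
theorem exists_regular_annG (hdc : ∃ ω : Dual.D A, Dual.IsDualizing A ω)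
    (hIjac : I ≤ (⊥ : Ideal A).jacobson) (s : ℕ) (hcd : LocCoh.CdLE A I d)
    (h4 : Cond4G I J d M (s + 1)) (h5 : Cond5G I J d δ M (s + 1))
    (hΓI : DRing.torsionSub I M = ⊥)
    (hΓJ : ∀ J' : Ideal A, J' ≤ J → ValidG I J J' → DRing.torsionSub J' M = ⊥)
    (hΓW : ∀ 𝔟 : Ideal A, 𝔟 ⊔ (J ⊔ I) = ⊤ → DRing.torsionSub 𝔟 M = ⊥) :
    ∃ (f : A) (J₁ : Ideal A), IsSMulRegular M f ∧ J₁ ≤ J ∧ ValidG I J J₁ ∧
      ∀ (J' : Ideal A) [DRing.HasRgammaI J'], J' ≤ J₁ → ValidG I J J' →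
        ∀ i : ℤ, i ≤ ((s + 1 : ℕ) : ℤ) →
        (∀ x : Dual.HD A ((DRing.RgammaI J').obj (Dual.inD A M)) i, f • x = 0) ∧
        (∀ x : Dual.HD A ((DRing.derivedCompletion I).obj
          ((DRing.RgammaI J').obj (Dual.inD A M))).obj i, f • x = 0) := by
  obtain ⟨J₁, n, hJ₁le, hJ₁, hann⟩ := exists_ideal_ann_HG I J M hdc hIjac (s + 1) d hcd h4
  let 𝔞 : Ideal A :=
    { carrier := {a | ∀ (J' : Ideal A) [DRing.HasRgammaI J'], J' ≤ J₁ → ValidG I J J' →
        ∀ i : ℤ, i ≤ ((s + 1 : ℕ) : ℤ) →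
        (∀ x : Dual.HD A ((DRing.RgammaI J').obj (Dual.inD A M)) i, a • x = 0) ∧
        (∀ x : Dual.HD A ((DRing.derivedCompletion I).obj
          ((DRing.RgammaI J').obj (Dual.inD A M))).obj i, a • x = 0)}
      add_mem' := by
        intro a b ha hb J' _ hJle hJ i hi
        refine ⟨fun x => ?_, fun x => ?_⟩
        · rw [add_smul, (ha J' hJle hJ i hi).1 x, (hb J' hJle hJ i hi).1 x, add_zero]
        · rw [add_smul, (ha J' hJle hJ i hi).2 x, (hb J' hJle hJ i hi).2 x, add_zero]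
      zero_mem' := by
        intro J' _ hJle hJ i hi
        exact ⟨fun x => zero_smul _ _, fun x => zero_smul _ _⟩
      smul_mem' := by
        intro c a ha J' _ hJle hJ i hi
        refine ⟨fun x => ?_, fun x => ?_⟩
        · rw [smul_eq_mul, mul_smul, (ha J' hJle hJ i hi).1 x, smul_zero]
        · rw [smul_eq_mul, mul_smul, (ha J' hJle hJ i hi).2 x, smul_zero] }
  have key' : ∀ p ∈ associatedPrimes A M, ¬ 𝔞 ≤ p := by
    intro p hp
    have hp' := hp
    rw [AssociatedPrimes.mem_iff, isAssociatedPrime_iff] at hp'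
    obtain ⟨hprime, y, hy⟩ := hp'
    have hpy : ∀ a ∈ p, a • y = 0 := by
      intro a ha
      rw [hy, Submodule.mem_colon_singleton] at ha
      simpa using ha
    have hy0 : y ≠ 0 := by
      rintro rfl
      have : (1 : A) ∈ p := by
        rw [hy, Submodule.mem_colon_singleton]; simp
      exact (Ideal.ne_top_iff_one _).mp hprime.ne_top this
    let P : PrimeSpectrum A := ⟨p, hprime⟩
    have h1 : ¬ I ≤ P.asIdeal := by
      intro hIp
      have : y ∈ DRing.torsionSub I M := ⟨1, fun a ha => hpy a (hIp (by simpa using ha))⟩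
      rw [hΓI] at this
      exact hy0 this
    have h2 : ¬ InT I J P := by
      intro hT
      have hv : ValidG I J (P.asIdeal ⊓ J) := validG_of_inT P hT
      have : y ∈ DRing.torsionSub (P.asIdeal ⊓ J) M :=
        ⟨1, fun a ha => hpy a (by
          have : a ∈ P.asIdeal ⊓ J := by simpa using ha
          exact this.1)⟩
      rw [hΓJ _ inf_le_right hv] at this
      exact hy0 this
    have h3 : ∃ q₀ : PrimeSpectrum A, P ≤ q₀ ∧ J ≤ q₀.asIdeal ∧ I ≤ q₀.asIdeal := by
      by_contra hcon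
      have htop : P.asIdeal ⊔ (J ⊔ I) = ⊤ := by
        by_contra hne
        obtain ⟨𝔪, h𝔪, hle⟩ := Ideal.exists_le_maximal _ hne
        exact hcon ⟨⟨𝔪, h𝔪.isPrime⟩,
          (PrimeSpectrum.asIdeal_le_asIdeal P ⟨𝔪, h𝔪.isPrime⟩).mp (le_sup_left.trans hle),
          (le_sup_left.trans le_sup_right).trans hle, (le_sup_right.trans le_sup_right).trans hle⟩
      have : y ∈ DRing.torsionSub P.asIdeal M := ⟨1, fun a ha => hpy a (by simpa using ha)⟩
      rw [hΓW _ htop] at this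
      exact hy0 this
    have h4' := key I J d δ hδ M hdc s h4 h5 P hp h1 h2 h3
    obtain ⟨f₁, hf₁p, hf₁⟩ := exists_notMem_smul_eq_zero_unifG I J M hdc P (s + 1) d
      (fun h => h1 h.2) hcd h4'
    obtain ⟨j, hjJ, hjp⟩ := SetLike.not_le_iff_exists.mp (hJ₁.not_le P h2)
    obtain ⟨ι, hιI, hιp⟩ := SetLike.not_le_iff_exists.mp h1
    have hf₂ : (j * ι) ^ n ∈ (J₁ * I) ^ n := Ideal.pow_mem_pow (Ideal.mul_mem_mul hjJ hιI) n
    have hf₂p : (j * ι) ^ n ∉ p := fun h =>
      (hprime.mem_or_mem (hprime.mem_of_pow_mem _ h)).elim hjp hιp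
    intro hle
    have hmem : f₁ * (j * ι) ^ n ∈ 𝔞 := by
      intro J' _ hJle hJ i hi
      refine ⟨fun x => ?_, fun x => ?_⟩
      · by_cases hneg : i < 0
        · haveI := BS3.subsingleton_HD_RgammaI_neg J' M i hneg
          exact Subsingleton.elim _ _
        · obtain ⟨k, rfl⟩ := Int.eq_ofNat_of_zero_le (not_lt.mp hneg)
          have hk : k ≤ s + 1 := by exact_mod_cast hi
          rw [mul_smul, smul_HD_RgammaI_eq_zero M J' _ k
            (fun z => hann J' hJle hJ _ hf₂ k hk z) x, smul_zero]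
      · rw [mul_comm, mul_smul, hf₁ J' hJ i hi x, smul_zero]
    exact (hprime.mem_or_mem (hle hmem)).elim hf₁p hf₂p
  have hfin : (associatedPrimes A M).Finite := associatedPrimes.finite A M
  have hnot : ¬ ((𝔞 : Set A) ⊆ ⋃ p ∈ (hfin.toFinset : Set (Ideal A)), (id p : Ideal A)) := by
    intro hsub
    rw [Ideal.subset_union_prime (R := A) (s := hfin.toFinset) (f := id) ⊥ ⊥
      (fun p hp _ _ => ((Set.Finite.mem_toFinset hfin).1 hp).isPrime)] at hsub
    obtain ⟨p, hp, hle⟩ := hsub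
    exact key' p ((Set.Finite.mem_toFinset hfin).1 hp) hle
  obtain ⟨f, hf𝔞, hfnot⟩ := Set.not_subset.mp hnot
  refine ⟨f, J₁, ?_, hJ₁le, hJ₁, fun J' _ hJle hJ i hi => hf𝔞 J' hJle hJ i hi⟩
  by_contra hreg
  have hmem : f ∈ {r : A | IsSMulRegular M r}ᶜ := hreg
  rw [← biUnion_associatedPrimes_eq_compl_regular A M] at hmem
  apply hfnot
  simp only [Set.mem_iUnion] at hmem ⊢
  obtain ⟨p, hp, hfp⟩ := hmem
  exact ⟨p, by simpa using hp, hfp⟩

end Reg

end Groth.Agent.Helper9.BT4
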