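import Mathlib
import Groth.Prelude.Def_DualLC
import Groth.Prelude.Def_DRing4
import Groth.Agent.Helper9.BS8
import Groth.Agent.Helper9.BT4

/-!
# The general bootstrap theorem
-/

set_option autoImplicit false
set_option linter.style.haveILetI false
set_option linter.unusedSectionVars false
set_option linter.unusedVariables false

universe u
open CategoryTheory CategoryTheory.Limits Opposite DerivedCategory Pretriangulated
attribute [local instance] HasDerivedCategory.standard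

namespace Groth.Agent.Helper9.BT5
open Groth.Agent.Helper9.LCT1 Groth.Agent.Helper9.LCT2 Groth.Agent.Helper9.LCT3
  Groth.Agent.Helper9.DcT1
  Groth.Agent.Helper9.BS1 Groth.Agent.Helper9.BS2 Groth.Agent.Helper9.BS5
  Groth.Agent.Helper9.BS6 Groth.Agent.Helper9.BS8 Groth.Agent.Helper9.BT1
  Groth.Agent.Helper9.BT2 Groth.Agent.Helper9.BT3 Groth.Agent.Helper9.BT4
  Groth.Agent.Helper6.DComplExact

variable {A : Type u} [CommRing A] [IsNoetherianRing A]

section Zero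

variable (I : Ideal A) [DRing.HasDerivedCompletion I]

/-- an object of `D(A)` with vanishing cohomology is zero -/
lemma isZero_of_subsingleton_HD (E : Dual.D A) (h : ∀ i : ℤ, Subsingleton (Dual.HD A E i)) :
    IsZero E := by
  obtain ⟨Z0, hz0⟩ := HasZeroObject.zero (C := Dual.D A)
  have : IsIso (0 : E ⟶ Z0) := by
    rw [DerivedCategory.isIso_iff]
    intro n
    haveI := h n
    have hz : IsZero ((homologyFunctor (ModuleCat.{u} A) n).obj E) :=
      ModuleCat.isZero_of_subsingleton _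
    exact ⟨0, hz.eq_of_src _ _, (Functor.map_isZero _ hz0).eq_of_src _ _⟩
  exact hz0.of_iso (asIso (0 : E ⟶ Z0))

/-- `RΓ_{J'}(N) = 0` when `N` is killed by an ideal comaximal with `J'`; in particular the
comparison map is an isomorphism -/
theorem isIso_cmp_of_comaximal (J' : Ideal A) [DRing.HasRgammaI J'] (N : Type u) [AddCommGroup N]
    [Module A N] (𝔠 : Ideal A) (h𝔠 : 𝔠 ⊔ J' = ⊤) (hN : ∀ a ∈ 𝔠, ∀ x : N, a • x = 0) :
    IsIso (cmp I J' (Dual.inD A N)) := by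
  obtain ⟨b, hb, e, he, hbe⟩ := Submodule.mem_sup.mp (h𝔠 ▸ (Submodule.mem_top : (1 : A) ∈ ⊤))
  have h0 : b • 𝟙 (ModuleCat.of A N) = 0 := by
    ext x
    exact hN b hb x
  have h1 : b • 𝟙 (Dual.inD A N) = 0 := by
    have : b • 𝟙 (Dual.inD A N) =
        (singleFunctor (ModuleCat.{u} A) 0).map (b • 𝟙 (ModuleCat.of A N)) := by
      rw [Functor.map_smul, CategoryTheory.Functor.map_id]
    rw [this, h0, Functor.map_zero]
  have h2 : b • 𝟙 ((DRing.RgammaI J').obj (Dual.inD A N)) = 0 := by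
    rw [← RgammaI_map_smul_id, h1, RgammaI_map_zero]
  have hz : IsZero ((DRing.RgammaI J').obj (Dual.inD A N)) := by
    apply isZero_of_subsingleton_HD
    intro i
    refine ⟨fun x y => ?_⟩
    suffices hx : ∀ x : Dual.HD A ((DRing.RgammaI J').obj (Dual.inD A N)) i, x = 0 by
      rw [hx x, hx y]
    intro x
    have hbx : b • x = 0 := by
      rw [← HM_smul_id, h2]
      show ((homologyFunctor (ModuleCat.{u} A) i).map 0).hom x = 0
      rw [Functor.map_zero]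
      rfl
    have hex : e • x = x := by
      have : (b + e) • x = x := by rw [hbe, one_smul]
      rwa [add_smul, hbx, zero_add] at this
    obtain ⟨k, hk⟩ := isPowerTorsion_RgammaI J' (Dual.inD A N) i x
    have h3 : e ^ k • x = 0 := hk _ (Ideal.pow_mem_pow he k)
    have h4 : ∀ m : ℕ, e ^ m • x = x := by
      intro m
      induction m with
      | zero => rw [pow_zero, one_smul]
      | succ m ih => rw [pow_succ, mul_smul, hex, ih]
    rw [← h4 k, h3]
  apply isIso_toDerivedCompletion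
  exact isDerivedComplete_of_isZero I _ hz

end Zero

section Main

variable (I J : Ideal A) [IsAdicComplete I A] [DRing.HasDerivedCompletion I]

lemma BijG.of_quotient (J' : Ideal A) [DRing.HasRgammaI J'] (M : Type u) [AddCommGroup M]
    [Module A M] (N : Submodule A M) (hiso : IsIso (cmp I J' (Dual.inD A N))) (s : ℕ)
    (h : BijG I J' (M ⧸ N) s) : BijG I J' M s := by
  intro i hi
  refine bijective_of_ses I J' N.subtype N.mkQ N.injective_subtype (Submodule.mkQ_surjective N)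
    (LinearMap.exact_subtype_mkQ N) hiso i (h (i - 1) (by omega)).2 (h i hi)

lemma BijG.of_regular (J' : Ideal A) [DRing.HasRgammaI J'] (M : Type u) [AddCommGroup M]
    [Module A M] [Module.Finite A M] (f : A) (hreg : IsSMulRegular M f) (s : ℕ)
    (hf : ∀ i : ℤ, i ≤ ((s + 1 : ℕ) : ℤ) →
      (∀ x : Dual.HD A ((DRing.RgammaI J').obj (Dual.inD A M)) i, f • x = 0) ∧
      (∀ x : Dual.HD A ((DRing.derivedCompletion I).obj
        ((DRing.RgammaI J').obj (Dual.inD A M))).obj i, f • x = 0))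
    (h : BijG I J' (QuotSMulTop f M) s) : BijG I J' M (s + 1) := by
  have hnat : ∀ k : ℕ, k ≤ s + 1 →
      Function.Bijective (HM (k : ℤ) (cmp I J' (Dual.inD A M))) := by
    intro k
    induction k with
    | zero =>
      intro _
      have h0 := hf 0 (by positivity)
      exact bijective_of_regular I J' f M hreg (-1) 0 (by norm_num) h0.1 h0.2
        (bijective_negG I M J' (-1) (by norm_num)).2
        (bijective_negG I (QuotSMulTop f M) J' (-1) (by norm_num))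
    | succ k ih =>
      intro hk
      have h0 := hf ((k + 1 : ℕ) : ℤ) (by exact_mod_cast hk)
      exact bijective_of_regular I J' f M hreg (k : ℤ) ((k + 1 : ℕ) : ℤ) (by push_cast; ring)
        h0.1 h0.2 (ih (by omega)).2 (h (k : ℤ) (by exact_mod_cast (by omega : k ≤ s)))
  intro i hi
  by_cases hneg : i < 0
  · exact bijective_negG I M J' i hneg
  · obtain ⟨k, rfl⟩ := Int.eq_ofNat_of_zero_le (not_lt.mp hneg)
    exact hnat k (by exact_mod_cast hi)

omit [IsNoetherianRing A] in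
lemma inf_sup_eq_top {K K' L : Ideal A} (hK : K ⊔ L = ⊤) (hK' : K' ⊔ L = ⊤) :
    K ⊓ K' ⊔ L = ⊤ := by
  have h1 : K * K' ⊔ L = ⊤ := (Ideal.mul_sup_eq_of_coprime_left hK).trans hK'
  exact top_le_iff.mp (h1 ▸ sup_le_sup_right Ideal.mul_le_inf _)

/-- an ideal comaximal with `J + I` is comaximal with every admissible ideal -/
lemma sup_eq_top_of_validG (hIjac : I ≤ (⊥ : Ideal A).jacobson) (𝔟 J' : Ideal A)
    (h𝔟 : 𝔟 ⊔ (J ⊔ I) = ⊤) (hJ' : ValidG I J J') : 𝔟 ⊔ J' = ⊤ := by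
  by_contra hne
  obtain ⟨𝔪, h𝔪, hle⟩ := Ideal.exists_le_maximal _ hne
  have hI𝔪 : I ≤ 𝔪 := hIjac.trans (sInf_le ⟨bot_le, h𝔪⟩)
  have hJ𝔪 : J ≤ 𝔪 :=
    ((validG_iff I J J').1 hJ' ⟨𝔪, h𝔪.isPrime⟩ hI𝔪).1 (le_sup_right.trans hle)
  exact h𝔪.ne_top (top_le_iff.mp (h𝔟 ▸ sup_le (le_sup_left.trans hle) (sup_le hJ𝔪 hI𝔪)))

/-- **the general bootstrap theorem** -/
theorem mainG (hdc : ∃ ω : Dual.D A, Dual.IsDualizing A ω) (d : ℕ) (hcd : LocCoh.CdLE A I d)
    (δ : PrimeSpectrum A → ℤ) (hδ : ∀ p q : PrimeSpectrum A, p ⋖ q → δ p = δ q + 1) :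
    ∀ (s : ℕ) (M : Type u) [AddCommGroup M] [Module A M] [Module.Finite A M],
      Cond4G I J d M s → Cond5G I J d δ M s → GoalG I J M s := by
  have hIjac : I ≤ (⊥ : Ideal A).jacobson := IsAdicComplete.le_jacobson_bot I
  intro s
  induction s with
  | zero =>
    intro M _ _ _ _ _
    exact goalG_zero I J M
  | succ s ih =>
    intro M _ _ _ h4 h5
    haveI : IsNoetherian A M := isNoetherian_of_isNoetherianRing_of_finite A M
    -- first reduction: kill the `I`-power torsion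
    obtain ⟨n₁, hn₁⟩ := exists_pow_smul_torsionSub (M := M) I
    have hN₁ : ∀ p : PrimeSpectrum A, ¬ I ≤ p.asIdeal → ¬ InT I J p →
        (∃ q : PrimeSpectrum A, p ≤ q ∧ J ≤ q.asIdeal ∧ I ≤ q.asIdeal) →
        ∀ x ∈ DRing.torsionSub I M, ∃ t : A, t ∉ p.asIdeal ∧ t • x = 0 :=
      fun p hp _ _ x hx => exists_notMem_smul_eq_zero_of_mem_torsionSub I p.asIdeal hp x hx
    have h4₁ := h4.quotient _ hN₁
    have h5₁ := h5.quotient _ hN₁
    have hΓI₁ := torsionSub_quotient_eq_bot (M := M) I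
    -- second reduction: kill the sections with admissible support
    obtain ⟨Ja, ⟨hJale, hJa⟩, hmaxa⟩ := exists_max_torsion_of (M ⧸ DRing.torsionSub I M)
      (fun K => K ≤ J ∧ ValidG I J K) ⟨J, le_rfl, validG_self I J⟩
      (fun K K' hK hK' => ⟨inf_le_left.trans hK.1, hK.2.inf hK'.2⟩)
    have hN₂ : ∀ p : PrimeSpectrum A, ¬ I ≤ p.asIdeal → ¬ InT I J p →
        (∃ q : PrimeSpectrum A, p ≤ q ∧ J ≤ q.asIdeal ∧ I ≤ q.asIdeal) →
        ∀ x ∈ DRing.torsionSub Ja (M ⧸ DRing.torsionSub I M),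
          ∃ t : A, t ∉ p.asIdeal ∧ t • x = 0 :=
      fun p _ hT _ x hx =>
        exists_notMem_smul_eq_zero_of_mem_torsionSub Ja p.asIdeal (hJa.not_le p hT) x hx
    have h4₂ := h4₁.quotient _ hN₂
    have h5₂ := h5₁.quotient _ hN₂
    have hΓI₂ := torsionSub_quotient_eq_bot_of_eq_bot I Ja hΓI₁
    have hΓJ₂ : ∀ J' : Ideal A, J' ≤ J → ValidG I J J' → DRing.torsionSub J'
        ((M ⧸ DRing.torsionSub I M) ⧸ DRing.torsionSub Ja (M ⧸ DRing.torsionSub I M)) = ⊥ :=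
      fun J' hJ'le hJ' => torsionSub_quotient_eq_bot_of_le J' Ja
        (hmaxa _ ⟨inf_le_left.trans hJale, hJa.inf hJ'⟩)
    -- third reduction: kill the sections with support disjoint from `V(J) ∩ V(I)`
    obtain ⟨𝔟, h𝔟, hmaxb⟩ := exists_max_torsion_of
      ((M ⧸ DRing.torsionSub I M) ⧸ DRing.torsionSub Ja (M ⧸ DRing.torsionSub I M))
      (fun K => K ⊔ (J ⊔ I) = ⊤) ⟨⊤, top_sup_eq _⟩
      (fun K K' hK hK' => inf_sup_eq_top hK hK')
    have hN₃ : ∀ p : PrimeSpectrum A, ¬ I ≤ p.asIdeal → ¬ InT I J p →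
        (∃ q : PrimeSpectrum A, p ≤ q ∧ J ≤ q.asIdeal ∧ I ≤ q.asIdeal) →
        ∀ x ∈ DRing.torsionSub 𝔟
          ((M ⧸ DRing.torsionSub I M) ⧸ DRing.torsionSub Ja (M ⧸ DRing.torsionSub I M)),
          ∃ t : A, t ∉ p.asIdeal ∧ t • x = 0 := by
      intro p _ _ hq x hx
      refine exists_notMem_smul_eq_zero_of_mem_torsionSub 𝔟 p.asIdeal ?_ x hx
      obtain ⟨q, hpq, hJq, hIq⟩ := hq
      intro hle
      have h1 : 𝔟 ⊔ (J ⊔ I) ≤ q.asIdeal :=
        sup_le (hle.trans ((PrimeSpectrum.asIdeal_le_asIdeal p q).mpr hpq)) (sup_le hJq hIq)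
      exact q.isPrime.ne_top (top_le_iff.mp (h𝔟 ▸ h1))
    have h4₃ := h4₂.quotient _ hN₃
    have h5₃ := h5₂.quotient _ hN₃
    have hΓI₃ := torsionSub_quotient_eq_bot_of_eq_bot I 𝔟 hΓI₂
    have hΓJ₃ : ∀ J' : Ideal A, J' ≤ J → ValidG I J J' → DRing.torsionSub J' (_ ⧸ DRing.torsionSub 𝔟
        ((M ⧸ DRing.torsionSub I M) ⧸ DRing.torsionSub Ja (M ⧸ DRing.torsionSub I M))) = ⊥ :=
      fun J' hJ'le hJ' => torsionSub_quotient_eq_bot_of_eq_bot J' 𝔟 (hΓJ₂ J' hJ'le hJ')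
    have hΓW₃ : ∀ 𝔟' : Ideal A, 𝔟' ⊔ (J ⊔ I) = ⊤ → DRing.torsionSub 𝔟' (_ ⧸ DRing.torsionSub 𝔟
        ((M ⧸ DRing.torsionSub I M) ⧸ DRing.torsionSub Ja (M ⧸ DRing.torsionSub I M))) = ⊥ :=
      fun 𝔟' h𝔟' => torsionSub_quotient_eq_bot_of_le 𝔟' 𝔟 (hmaxb _ (inf_sup_eq_top h𝔟 h𝔟'))
    obtain ⟨n₃, hn₃⟩ := exists_pow_smul_torsionSub
      (M := (M ⧸ DRing.torsionSub I M) ⧸ DRing.torsionSub Ja (M ⧸ DRing.torsionSub I M)) 𝔟
    -- the regular element
    obtain ⟨f, J₁, hreg, hJ₁le, hJ₁, hf⟩ :=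
      exists_regular_annG I J d δ hδ _ hdc hIjac s hcd h4₃ h5₃ hΓI₃ hΓJ₃ hΓW₃
    obtain ⟨J₂, hJ₂le, hJ₂, hIH⟩ := ih _ (h4₃.quotSMulTop f hreg) (h5₃.quotSMulTop f hreg)
    refine ⟨Ja ⊓ J₁ ⊓ J₂, (inf_le_left.trans inf_le_left).trans hJale, (hJa.inf hJ₁).inf hJ₂,
      fun J' _ hJle hJ' => ?_⟩
    have hJa' : J' ≤ Ja := hJle.trans (inf_le_left.trans inf_le_left)
    have hJ₁' : J' ≤ J₁ := hJle.trans (inf_le_left.trans inf_le_right)
    have hJ₂' : J' ≤ J₂ := hJle.trans inf_le_right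
    have hb₃ := BijG.of_regular I J' _ f hreg s (hf J' hJ₁' hJ') (hIH J' hJ₂' hJ')
    have hb₂ := BijG.of_quotient I J' _ _
      (isIso_cmp_of_comaximal I J' _ (𝔟 ^ n₃)
        (Ideal.pow_sup_eq_top (sup_eq_top_of_validG I J hIjac 𝔟 J' h𝔟 hJ')) hn₃) (s + 1) hb₃
    have hb₁ := BijG.of_quotient I J' _ _
      (isIso_cmp_of_isPowerTorsion I J' _
        (isPowerTorsion_mono hJa' (isPowerTorsion_torsionSub Ja))) (s + 1) hb₂
    exact BijG.of_quotient I J' _ _ (isIso_cmp_of_pow_smul I J' _ n₁ hn₁) (s + 1) hb₁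

end Main

end Groth.Agent.Helper9.BT5
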