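import Mathlib
import Groth.Prelude.Def_ChGrp

set_option autoImplicit false
set_option linter.unusedSectionVars false

namespace Groth.Agent.Helper9.BalProd

open CategoryTheory CategoryTheory.Limits MonoidalCategory CartesianMonoidalCategory MonObj GrpObj
  AlgebraicGeometry

universe u

section General

variable {S : Scheme.{u}} {A B C Y : Over S}

theorem hom_ext_lift₃' {f g : A ⊗ (B ⊗ C) ⟶ Y}
    (h : ∀ (T : Over S) (a : T ⟶ A) (b : T ⟶ B) (c : T ⟶ C),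
      lift a (lift b c) ≫ f = lift a (lift b c) ≫ g) : f = g := by
  have e : lift (fst A (B ⊗ C)) (lift (snd A (B ⊗ C) ≫ fst B C) (snd A (B ⊗ C) ≫ snd B C))
      = 𝟙 (A ⊗ (B ⊗ C)) := by
    rw [← comp_lift, lift_fst_snd, Category.comp_id, lift_fst_snd]
  simpa [e] using h (A ⊗ (B ⊗ C)) (fst _ _) (snd _ _ ≫ fst B C) (snd _ _ ≫ snd B C)

variable {G X : Over S} [GrpObj G] (a : AlgGrp.Action G X)

theorem act_cancel {T : Over S} (g : T ⟶ G) (u v : T ⟶ X)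
    (huv : lift g u ≫ a.act = lift g v ≫ a.act) : u = v := by
  have h1 : ∀ w : T ⟶ X, lift g⁻¹ (lift g w ≫ a.act) ≫ a.act = w := by
    intro w
    rw [← AlgGrp.Action.lift_mul_act, inv_mul_cancel, AlgGrp.Action.lift_one_act]
  rw [← h1 u, huv, h1 v]

end General

section Main

variable {S : Scheme.{u}} {G X Z Ψ Xh SΨ : Over S} [GrpObj G] [GrpObj Z]
    (a : AlgGrp.Action G X) (h : 𝟙_ (Over S) ⟶ G)
    (i : Z ⟶ G) [IsMonHom i]
    (ψ : Ψ ⟶ G) [Mono ψ] (aΨ : AlgGrp.Action G Ψ)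
    (hψ : aΨ.act ≫ ψ = fst G Ψ * (snd G Ψ ≫ ψ) * (fst G Ψ)⁻¹)
    (o : 𝟙_ (Over S) ⟶ Ψ) (ho : o ≫ ψ = h)
    (hpb : IsPullback (fst G Z) ((G ◁ i) ≫ μ[G]) (aΨ.orbitMap o) (aΨ.orbitMap o))

include hψ in
theorem act_psi {T : Over S} (g : T ⟶ G) (y : T ⟶ Ψ) :
    lift g y ≫ aΨ.act ≫ ψ = g * (y ≫ ψ) * g⁻¹ := by
  rw [hψ, comp_mul, comp_mul, comp_inv, lift_fst, lift_snd_assoc]

include hψ ho in
theorem orbit_psi {T : Over S} (g : T ⟶ G) :
    g ≫ aΨ.orbitMap o ≫ ψ = g * (toUnit T ≫ h) * g⁻¹ := by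
  rw [← Category.assoc, AlgGrp.Action.comp_orbitMap, Category.assoc, act_psi ψ aΨ hψ,
    Category.assoc, ho]

include hpb in
theorem orbit_mul {T : Over S} (g : T ⟶ G) (z : T ⟶ Z) :
    (g * (z ≫ i)) ≫ aΨ.orbitMap o = g ≫ aΨ.orbitMap o := by
  have h1 := congrArg (fun f => lift g z ≫ f) hpb.w
  simp only [lift_fst_assoc, Category.assoc, lift_whiskerLeft_assoc] at h1
  rw [h1, ← Category.assoc, ← Hom.mul_def]

include hpb hψ ho in
theorem central {T : Over S} (z : T ⟶ Z) :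
    (z ≫ i) * (toUnit T ≫ h) * (z ≫ i)⁻¹ = toUnit T ≫ h := by
  have h1 := congrArg (fun f => f ≫ ψ) (orbit_mul i aΨ o hpb (1 : T ⟶ G) z)
  simp only [Category.assoc] at h1
  rw [orbit_psi h ψ aΨ hψ o ho, orbit_psi h ψ aΨ hψ o ho] at h1
  simpa using h1

include hpb in
theorem exists_z {T : Over S} (g₁ g₂ : T ⟶ G)
    (h12 : g₁ ≫ aΨ.orbitMap o = g₂ ≫ aΨ.orbitMap o) :
    ∃ z : T ⟶ Z, g₂ = g₁ * (z ≫ i) := by
  refine ⟨hpb.lift g₁ g₂ h12 ≫ snd G Z, ?_⟩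
  have h1 := hpb.lift_snd g₁ g₂ h12
  have h2 := hpb.lift_fst g₁ g₂ h12
  have h3 : hpb.lift g₁ g₂ h12 = lift g₁ (hpb.lift g₁ g₂ h12 ≫ snd G Z) := by
    ext1
    · rw [lift_fst, h2]
    · rw [lift_snd]
  rw [h3, lift_whiskerLeft_assoc, ← Hom.mul_def] at h1
  exact h1.symm

include hpb in
theorem z_unique {T : Over S} (g : T ⟶ G) (z z' : T ⟶ Z)
    (hz : g * (z ≫ i) = g * (z' ≫ i)) : z = z' := by
  have h1 : lift g z = lift g z' := by
    apply hpb.hom_ext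
    · rw [lift_fst, lift_fst]
    · rw [lift_whiskerLeft_assoc, lift_whiskerLeft_assoc, ← Hom.mul_def, ← Hom.mul_def, hz]
  have h2 := congrArg (fun f => f ≫ snd G Z) h1
  simpa using h2

variable (incl : Xh ⟶ X) [Mono incl]
    (hXh : ∀ (T : Over S) (x : T ⟶ X), (∃ y : T ⟶ Xh, y ≫ incl = x) ↔ lift (toUnit T ≫ h) x ≫ a.act = x)
    (aXh : AlgGrp.Action Z Xh) (hincl : AlgGrp.Action.IsEquivariant aXh (a.restrict i) incl)
    (σ : SΨ ⟶ G ⊗ X) [Mono σ]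
    (hSΨ : ∀ (T : Over S) (g : T ⟶ G) (x : T ⟶ X),
      (∃ q : T ⟶ SΨ, q ≫ σ = lift g x) ↔ ((∃ y : T ⟶ Ψ, y ≫ ψ = g) ∧ lift g x ≫ a.act = x))
    (aS : AlgGrp.Action G SΨ)
    (hσ : aS.act ≫ σ = lift (fst G SΨ * (snd G SΨ ≫ σ ≫ fst G X) * (fst G SΨ)⁻¹)
      (lift (fst G SΨ) (snd G SΨ ≫ σ ≫ snd G X) ≫ a.act))
    (Φ : G ⊗ Xh ⟶ SΨ)
    (hΦ : Φ ≫ σ = lift (fst G Xh * (toUnit (G ⊗ Xh) ≫ h) * (fst G Xh)⁻¹)
      (lift (fst G Xh) (snd G Xh ≫ incl) ≫ a.act))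

include hΦ in
@[reassoc]
theorem Phi_point {T : Over S} (g : T ⟶ G) (x : T ⟶ Xh) :
    lift g x ≫ Φ ≫ σ = lift (g * (toUnit T ≫ h) * g⁻¹) (lift g (x ≫ incl) ≫ a.act) := by
  rw [hΦ, comp_lift, comp_mul, comp_mul, comp_inv, lift_fst, comp_lift_assoc,
    lift_fst, lift_snd_assoc, ← Category.assoc (lift g x),
    toUnit_unique (lift g x ≫ toUnit _) (toUnit T)]

include hσ in
@[reassoc]
theorem aS_point {T : Over S} (g : T ⟶ G) (q : T ⟶ SΨ) :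
    lift g q ≫ aS.act ≫ σ = lift (g * (q ≫ σ ≫ fst G X) * g⁻¹)
      (lift g (q ≫ σ ≫ snd G X) ≫ a.act) := by
  rw [hσ, comp_lift, comp_mul, comp_mul, comp_inv, lift_fst, comp_lift_assoc,
    lift_fst, lift_snd_assoc, lift_snd_assoc]

include hincl in
theorem incl_point {T : Over S} (z : T ⟶ Z) (x : T ⟶ Xh) :
    (lift z x ≫ aXh.act) ≫ incl = lift (z ≫ i) (x ≫ incl) ≫ a.act := by
  have h1 : aXh.act ≫ incl = (Z ◁ incl) ≫ (a.restrict i).act := hincl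
  rw [Category.assoc, h1, lift_whiskerLeft_assoc, AlgGrp.Action.lift_restrict_act]

include hΦ hσ in
theorem equivariant :
    AlgGrp.Action.IsEquivariant ((NonAbH1.trivialAction G).prod (AlgGrp.Action.trivial G Xh))
      aS Φ := by
  change ((NonAbH1.trivialAction G).prod (AlgGrp.Action.trivial G Xh)).act ≫ Φ = (G ◁ Φ) ≫ aS.act
  apply hom_ext_lift₃'
  intro T g' g x
  rw [← cancel_mono σ]
  have e1 : lift g' g ≫ (NonAbH1.trivialAction G).act = g' * g := by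
    change lift g' g ≫ μ[G] = _
    rw [Hom.mul_def]
  have e2 : (lift g x ≫ Φ) ≫ σ ≫ fst G X = g * (toUnit T ≫ h) * g⁻¹ := by
    rw [Category.assoc, Phi_point_assoc a h incl σ Φ hΦ, lift_fst]
  have e3 : (lift g x ≫ Φ) ≫ σ ≫ snd G X = lift g (x ≫ incl) ≫ a.act := by
    rw [Category.assoc, Phi_point_assoc a h incl σ Φ hΦ, lift_snd]
  simp only [Category.assoc]
  rw [AlgGrp.Action.lift_prod_act_assoc, e1, AlgGrp.Action.lift_trivial_act,
    Phi_point a h incl σ Φ hΦ, lift_whiskerLeft_assoc, aS_point a σ aS hσ, e2, e3,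
    AlgGrp.Action.lift_mul_act, _root_.mul_inv_rev]
  simp only [_root_.mul_assoc]

include hΦ hψ ho hpb hincl in
theorem twist_Phi : (ChGrp.twist i aXh).act ≫ Φ = snd Z (G ⊗ Xh) ≫ Φ := by
  apply hom_ext_lift₃'
  intro T z g x
  rw [← cancel_mono σ]
  simp only [Category.assoc]
  rw [ChGrp.lift_twist_act_assoc, Phi_point a h incl σ Φ hΦ, lift_snd_assoc,
    Phi_point a h incl σ Φ hΦ, incl_point a i incl aXh hincl, ← AlgGrp.Action.lift_mul_act,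
    inv_mul_cancel_right]
  congr 1
  have hc := central h i ψ aΨ hψ o ho hpb z
  have hc' : (z ≫ i)⁻¹ * (toUnit T ≫ h) * (z ≫ i) = toUnit T ≫ h := by
    have h1 : (z ≫ i) * (toUnit T ≫ h) = (toUnit T ≫ h) * (z ≫ i) := mul_inv_eq_iff_eq_mul.mp hc
    rw [_root_.mul_assoc, ← h1, inv_mul_cancel_left]
  calc g * (z ≫ i)⁻¹ * (toUnit T ≫ h) * (g * (z ≫ i)⁻¹)⁻¹
      = g * ((z ≫ i)⁻¹ * (toUnit T ≫ h) * (z ≫ i)) * g⁻¹ := by group
    _ = g * (toUnit T ≫ h) * g⁻¹ := by rw [hc']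

include hΦ hψ ho hpb hincl in
theorem key_exists {T : Over S} (p₁ p₂ : T ⟶ G ⊗ Xh) (h12 : p₁ ≫ Φ = p₂ ≫ Φ) :
    ∃ z : T ⟶ Z, lift z p₂ ≫ (ChGrp.twist i aXh).act = p₁ := by
  have e1 : ∀ p : T ⟶ G ⊗ Xh, p = lift (p ≫ fst G Xh) (p ≫ snd G Xh) := by
    intro p
    rw [← comp_lift, lift_fst_snd, Category.comp_id]
  have h3 := congrArg (fun f => f ≫ σ) h12
  simp only [Category.assoc] at h3
  rw [e1 p₁, e1 p₂, Phi_point a h incl σ Φ hΦ, Phi_point a h incl σ Φ hΦ] at h3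
  have h4 := congrArg (fun f => f ≫ fst G X) h3
  have h5 := congrArg (fun f => f ≫ snd G X) h3
  simp only [lift_fst, lift_snd] at h4 h5
  rw [← orbit_psi h ψ aΨ hψ o ho, ← orbit_psi h ψ aΨ hψ o ho, ← Category.assoc, ← Category.assoc,
    cancel_mono] at h4
  obtain ⟨z, hz⟩ := exists_z i aΨ o hpb _ _ h4
  refine ⟨z, ?_⟩
  rw [e1 p₂, ChGrp.lift_twist_act, e1 p₁]
  congr 1
  · rw [hz, mul_inv_cancel_right]
  · rw [← cancel_mono incl, incl_point a i incl aXh hincl]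
    rw [hz, AlgGrp.Action.lift_mul_act] at h5
    exact (act_cancel a _ _ _ h5).symm

include hpb in
theorem key_unique {T : Over S} (m m' : T ⟶ Z ⊗ (G ⊗ Xh))
    (h1 : m ≫ (ChGrp.twist i aXh).act = m' ≫ (ChGrp.twist i aXh).act)
    (h2 : m ≫ snd Z (G ⊗ Xh) = m' ≫ snd Z (G ⊗ Xh)) : m = m' := by
  have e1 : ∀ p : T ⟶ Z ⊗ (G ⊗ Xh), p = lift (p ≫ fst _ _)
      (lift (p ≫ snd _ _ ≫ fst G Xh) (p ≫ snd _ _ ≫ snd G Xh)) := by
    intro p
    ext1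
    · rw [lift_fst]
    · rw [lift_snd]
      ext1
      · rw [lift_fst, Category.assoc]
      · rw [lift_snd, Category.assoc]
  have hg : m ≫ snd _ _ ≫ fst G Xh = m' ≫ snd _ _ ≫ fst G Xh := by
    rw [← Category.assoc, h2, Category.assoc]
  have hx : m ≫ snd _ _ ≫ snd G Xh = m' ≫ snd _ _ ≫ snd G Xh := by
    rw [← Category.assoc, h2, Category.assoc]
  rw [e1 m, e1 m', ChGrp.lift_twist_act, ChGrp.lift_twist_act] at h1
  have h3 := congrArg (fun f => f ≫ fst G Xh) h1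
  simp only [lift_fst] at h3
  rw [hg, mul_right_inj, inv_inj] at h3
  have h4 : m ≫ fst _ _ = m' ≫ fst _ _ := by
    apply z_unique i aΨ o hpb (m ≫ snd _ _ ≫ fst G Xh)
    rw [h3]
  rw [e1 m, e1 m', h4, hg, hx]

include hΦ hψ ho hpb hincl in
theorem isPullback_twist :
    IsPullback (ChGrp.twist i aXh).act (snd Z (G ⊗ Xh)) Φ Φ := by
  have hw := twist_Phi a h i ψ aΨ hψ o ho hpb incl aXh hincl σ Φ hΦ
  refine ⟨⟨hw⟩, ⟨PullbackCone.IsLimit.mk hw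
    (fun s => lift (key_exists a h i ψ aΨ hψ o ho hpb incl aXh hincl σ Φ hΦ
      s.fst s.snd s.condition).choose s.snd) ?_ ?_ ?_⟩⟩
  · intro s
    exact (key_exists a h i ψ aΨ hψ o ho hpb incl aXh hincl σ Φ hΦ
      s.fst s.snd s.condition).choose_spec
  · intro s
    rw [lift_snd]
  · intro s m hm1 hm2
    apply key_unique i aΨ o hpb aXh
    · rw [hm1]
      exact (key_exists a h i ψ aΨ hψ o ho hpb incl aXh hincl σ Φ hΦ
        s.fst s.snd s.condition).choose_spec.symm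
    · rw [hm2, lift_snd]

include hΦ hψ ho hXh hSΨ in
theorem loc_sections
    (hloc : NonAbH1.IsLocallyTrivialFor Scheme.fppfPrecoverage
      (Over.mk (aΨ.orbitMap o).left : Over Ψ.left)) :
    NonAbH1.IsLocallyTrivialFor Scheme.fppfPrecoverage (Over.mk Φ.left : Over SΨ.left) := by
  obtain ⟨R, hR, hsec⟩ := hloc
  obtain ⟨⟨π, hπ⟩, -⟩ := (hSΨ SΨ (σ ≫ fst G X) (σ ≫ snd G X)).mp
    ⟨𝟙 _, by rw [Category.id_comp, ← comp_lift, lift_fst_snd, Category.comp_id]⟩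
  refine ⟨R.pullbackArrows π.left, Precoverage.pullbackArrows_mem π.left hR, ?_⟩
  rintro Y t ⟨W, f, hf⟩
  obtain ⟨s, hs⟩ := hsec f hf
  change s ≫ (aΨ.orbitMap o).left = f at hs
  let T : Over S := Over.mk (pullback.snd f π.left ≫ SΨ.hom)
  let q : T ⟶ SΨ := Over.homMk (pullback.snd f π.left) rfl
  let gT : T ⟶ G := Over.homMk (pullback.fst f π.left ≫ s) (by
    change (pullback.fst f π.left ≫ s) ≫ G.hom = pullback.snd f π.left ≫ SΨ.hom
    rw [← Over.w (aΨ.orbitMap o), Category.assoc, reassoc_of% hs, pullback.condition_assoc,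
      Over.w π])
  have hgq : gT ≫ aΨ.orbitMap o = q ≫ π := by
    ext
    change (pullback.fst f π.left ≫ s) ≫ (aΨ.orbitMap o).left = pullback.snd f π.left ≫ π.left
    rw [Category.assoc, hs, pullback.condition]
  have hγ : gT * (toUnit T ≫ h) * gT⁻¹ = q ≫ σ ≫ fst G X := by
    rw [← orbit_psi h ψ aΨ hψ o ho, ← Category.assoc, hgq, Category.assoc, hπ]
  obtain ⟨-, hfix⟩ := (hSΨ T (q ≫ σ ≫ fst G X) (q ≫ σ ≫ snd G X)).mp
    ⟨q, by rw [← comp_lift, ← comp_lift, lift_fst_snd, Category.comp_id]⟩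
  obtain ⟨y, hy⟩ := (hXh T (lift gT⁻¹ (q ≫ σ ≫ snd G X) ≫ a.act)).mpr (by
    rw [← AlgGrp.Action.lift_mul_act]
    have h1 : (toUnit T ≫ h) * gT⁻¹ = gT⁻¹ * (q ≫ σ ≫ fst G X) := by
      rw [← hγ]; group
    rw [h1, AlgGrp.Action.lift_mul_act, hfix])
  refine ⟨(lift gT y).left, ?_⟩
  change (lift gT y).left ≫ Φ.left = pullback.snd f π.left
  have h2 : lift gT y ≫ Φ = q := by
    rw [← cancel_mono σ, Category.assoc, Phi_point a h incl σ Φ hΦ, hy,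
      ← AlgGrp.Action.lift_mul_act, mul_inv_cancel, AlgGrp.Action.lift_one_act, hγ,
      ← comp_lift, ← comp_lift, lift_fst_snd, Category.comp_id]
  exact congrArg CommaMorphism.left h2

end Main

end Groth.Agent.Helper9.BalProd
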