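import Mathlib
import Groth.Prelude.Def_PerfD
import Groth.Agent.Helper9.Betti2
import Groth.Agent.Helper9.Betti3
import Groth.Agent.Lead.PerfLib2
import Groth.Agent.Helper8.TildeBC

/-! The Euler characteristic of the derived fibres of a perfect complex is locally constant. -/

set_option autoImplicit false
set_option linter.style.haveILetI false
set_option linter.unusedVariables false
set_option linter.unusedSectionVars false
universe u

namespace Groth.Agent.Helper9.Betti4

open CategoryTheory CategoryTheory.Limits AlgebraicGeometry Opposite TopologicalSpace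
  HomologicalComplex
open Groth.Agent.Helper9.Lpull3 Groth.Agent.Helper9.Lpull5 Groth.Agent.Helper9.Betti2
  Groth.Agent.Helper9.Betti3

attribute [local instance] HasDerivedCategory.standard

variable {X : Scheme.{u}}

/-- global functions on the spectrum of a residue field form a field -/
theorem isField_Γtop_Spec (y : X) : IsField (Coh.Γtop (Spec (X.residueField y))) := by
  have e : Coh.Γtop (Spec (X.residueField y)) ≃+* (X.residueField y) :=
    (Scheme.ΓSpecIso (X.residueField y)).commRingCatIsoToRingEquiv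
  exact MulEquiv.isField (Field.toIsField (X.residueField y)) e.toMulEquiv

/-- the Betti numbers of the fibre computed from a model -/
theorem betti_eq (E : DCoh.D X) (y : X) [DCoh.HasLpull (X.fromSpecResidueField y)]
    (C : CochainComplex (Spec (X.residueField y)).Modules ℤ)
    (e : (DCoh.Lpull (X.fromSpecResidueField y)).obj E ≅ DerivedCategory.Q.obj C) (i : ℤ) :
    PerfD.betti E y i = Module.finrank (Coh.Γtop (Spec (X.residueField y)))
      ((C.homology i).val.obj (op ⊤)) := by
  have e1 : DCoh.HD ((DCoh.Lpull (X.fromSpecResidueField y)).obj E) i ≅ C.homology i :=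
    (DerivedCategory.homologyFunctor _ i).mapIso e ≪≫
      (DerivedCategory.homologyFunctorFactors _ i).app C
  exact LinearEquiv.finrank_eq ((Γf _).mapIso e1).toLinearEquiv

theorem eulerChar_eq (E : DCoh.D X) (V : X.Opens) (F : CochainComplex X.Modules ℤ)
    (hF : DCoh.IsKFlat F) (eF : DerivedCategory.Q.obj F ≅ E)
    (P : CochainComplex (V : Scheme.{u}).Modules ℤ) (a b : ℤ)
    (hab : DCoh.VanishesOutside P a b) (n : ℤ → ℕ)
    (hn : ∀ i, Nonempty (P.X i ≅ FlatMod.freeMod (V : Scheme.{u}) (n i)))
    (eP : DerivedCategory.Q.obj ((DCoh.restrictCx V).obj F) ≅ DerivedCategory.Q.obj P)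
    (y : X) (hy : y ∈ V) [DCoh.HasLpull (X.fromSpecResidueField y)] :
    PerfD.eulerChar E y = ∑ᶠ i : ℤ, (i.negOnePow : ℤ) * (n i : ℤ) := by
  have hSP : DCoh.IsStrictlyPerfect P :=
    ⟨⟨a, b, hab⟩, fun i => Groth.Agent.Helper4.FinLocFree2.isFinLocFree_of_iso (hn i).some.symm
      (Groth.Agent.Helper4.FinLocFree2.isFinLocFree_freeMod (n i))⟩
  have hP : DCoh.IsKFlat P := isKFlat_of_isStrictlyPerfect P hSP
  obtain ⟨g, ⟨e⟩⟩ := exists_fibre_model E V F hF eF P hP eP y hy
  unfold PerfD.eulerChar
  simp_rw [betti_eq E y _ e]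
  exact euler_sections (Spec (X.residueField y)) (isField_Γtop_Spec y) _ a b
    (fun i hi => Functor.map_isZero (Scheme.Modules.pullback g) (hab i hi)) n
    (fun i => ⟨(Scheme.Modules.pullback g).mapIso (hn i).some ≪≫
      Groth.Agent.Helper8.TildeBC.pullbackFreeIso g (n i)⟩)

theorem isLocallyConstant_eulerChar (X : Scheme.{u})
    [∀ x : X, DCoh.HasLpull (X.fromSpecResidueField x)]
    (E : DCoh.D X) (hE : DCoh.IsPerfect E) :
    IsLocallyConstant (fun x : X => PerfD.eulerChar E x) := by
  rw [IsLocallyConstant.iff_exists_open]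
  intro x
  obtain ⟨V, hxV, hV⟩ := (Groth.Agent.Lead.PerfLib.isPerfect_iff_free E).1 hE x
  obtain ⟨F, hF, ⟨eF⟩⟩ := exists_kflat_rep E
  obtain ⟨P, a, b, hab, hfree, ⟨eP⟩⟩ := hV F ⟨eF⟩
  choose n hn using hfree
  refine ⟨V, V.isOpen, hxV, ?_⟩
  intro y hy
  rw [eulerChar_eq E V F hF eF P a b hab n hn eP y hy,
    eulerChar_eq E V F hF eF P a b hab n hn eP x hxV]

end Groth.Agent.Helper9.Betti4
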