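import Mathlib
import Groth.Prelude.Def_CohSite
import Groth.Agent.Helper1.SiteCoh

/-! Cohomology on a bigger site (S0886): for `u : C ⥤ D` continuous, cocontinuous, preserving
finite limits, `H^p(C, F ∘ u) ≅ H^p(D, F)`. -/

set_option autoImplicit false
set_option backward.isDefEq.respectTransparency false
universe u

open CategoryTheory CategoryTheory.Limits Opposite Abelian

namespace Groth.Agent.Helper9.BigSiteCoh

open Groth.Agent.Helper1.DeltaCmp Groth.Agent.Helper1.SiteCoh

variable {C D : Type u} [SmallCategory C] [SmallCategory D]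
  (J : GrothendieckTopology C) (K : GrothendieckTopology D) (u : C ⥤ D)
  [u.IsCocontinuous J K] [u.IsContinuous J K]

/-- restriction along `u` -/
noncomputable abbrev gInv : Sheaf K AddCommGrpCat.{u} ⥤ Sheaf J AddCommGrpCat.{u} :=
  CohSite.push K J u

/-- the constant sheaf `ℤ` -/
noncomputable abbrev ZC : Sheaf J AddCommGrpCat.{u} :=
  (constantSheaf J AddCommGrpCat.{u}).obj (AddCommGrpCat.of (ULift ℤ))

noncomputable abbrev ZD : Sheaf K AddCommGrpCat.{u} :=
  (constantSheaf K AddCommGrpCat.{u}).obj (AddCommGrpCat.of (ULift ℤ))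

/-- `F ↦ H^n(D, F)` -/
noncomputable abbrev T (n : ℕ) : Sheaf K AddCommGrpCat.{u} ⥤ AddCommGrpCat.{u} :=
  extSeq (𝟭 (Sheaf K AddCommGrpCat.{u})) (ZD K) n

/-- `F ↦ H^n(C, F ∘ u)` -/
noncomputable abbrev T' (n : ℕ) : Sheaf K AddCommGrpCat.{u} ⥤ AddCommGrpCat.{u} :=
  extSeq (gInv J K u) (ZC J) n

instance : (gInv J K u).IsLeftAdjoint :=
  (u.sheafAdjunctionCocontinuous AddCommGrpCat.{u} J K).isLeftAdjoint

instance : (gInv J K u).IsRightAdjoint :=
  (u.sheafAdjunctionContinuous AddCommGrpCat.{u} J K).isRightAdjoint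

variable {tC : C} (htC : IsTerminal tC) (htD : IsTerminal (u.obj tC))

/-- sections over the terminal object -/
abbrev Γ : Sheaf K AddCommGrpCat.{u} ⥤ AddCommGrpCat.{u} :=
  sheafToPresheaf K AddCommGrpCat.{u} ⋙ (evaluation Dᵒᵖ AddCommGrpCat.{u}).obj (op (u.obj tC))

/-- `T 0 ≅ Γ` -/
noncomputable def e₀ : T K 0 ≅ Γ K u (tC := tC) :=
  NatIso.ofComponents (fun F => (Sheaf.H.equiv₀ F htD).toAddCommGrpIso)
    (by
      intro F G φ
      apply AddCommGrpCat.hom_ext
      apply AddMonoidHom.ext
      intro x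
      exact (Sheaf.H.equiv₀_naturality htD φ x).symm)

/-- `T' 0 ≅ Γ` -/
noncomputable def e₀' : T' J K u 0 ≅ Γ K u (tC := tC) :=
  NatIso.ofComponents
    (fun F => (Sheaf.H.equiv₀ ((gInv J K u).obj F) htC).toAddCommGrpIso)
    (by
      intro F G φ
      apply AddCommGrpCat.hom_ext
      apply AddMonoidHom.ext
      intro x
      exact (Sheaf.H.equiv₀_naturality htC ((gInv J K u).map φ) x).symm)

instance : PreservesFiniteLimits (gInv J K u) := inferInstance

instance : PreservesFiniteColimits (gInv J K u) := inferInstance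

include htC htD in
theorem nonempty_iso [HasFiniteLimits C] [PreservesFiniteLimits u] (n : ℕ) (F : Sheaf K AddCommGrpCat.{u}) :
    Nonempty ((T K n).obj F ≅ (T' J K u n).obj F) := by
  haveI : RepresentablyFlat u := flat_of_preservesFiniteLimits u
  refine Groth.Agent.Helper1.DeltaCmp.nonempty_iso (T := T K) (T' := T' J K u) (fun _ => True)
    ((e₀ K u htD).trans (e₀' J K u htC).symm) ?_ n F trivial
  intro F _
  let S : ShortComplex (Sheaf K AddCommGrpCat.{u}) :=
    ShortComplex.mk (Injective.ι F) (cokernel.π (Injective.ι F)) (cokernel.condition _)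
  have hS : S.ShortExact :=
    { exact := ShortComplex.exact_cokernel _
      mono_f := by dsimp [S]; infer_instance
      epi_g := by dsimp [S]; infer_instance }
  haveI : Injective S.X₂ := by dsimp [S]; infer_instance
  haveI : ReflectsLimits (forget AddCommGrpCat.{u}) := reflectsLimits_of_reflectsIsomorphisms
  haveI : PreservesFiniteLimits (u.op.lan : _ ⥤ Dᵒᵖ ⥤ AddCommGrpCat.{u}) :=
    lan_preservesFiniteLimits_of_flat (E := AddCommGrpCat.{u}) (F := u)
  haveI : PreservesFiniteLimits (u.sheafPullback AddCommGrpCat.{u} J K) :=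
    Functor.sheafPullbackConstruction.preservesFiniteLimits u AddCommGrpCat.{u} J K
  haveI : Injective ((gInv J K u).obj S.X₂) :=
    Injective.injective_of_adjoint (u.sheafAdjunctionContinuous AddCommGrpCat.{u} J K) S.X₂
  refine ⟨{ S := S, iso := rfl, mem := trivial, zero := ?_, zero' := ?_,
            les := hasLES_extSeq _ _ S hS, les' := hasLES_extSeq _ _ S hS }⟩
  · intro n
    have : Subsingleton ((T K (n + 1)).obj S.X₂) :=
      subsingleton_of_forall_eq 0 fun (x : Ext.{u} (ZD K) S.X₂ (n + 1)) =>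
        Ext.eq_zero_of_injective x
    exact AddCommGrpCat.isZero_of_subsingleton _
  · intro n
    have : Subsingleton ((T' J K u (n + 1)).obj S.X₂) :=
      subsingleton_of_forall_eq 0
        fun (x : Ext.{u} (ZC J) ((gInv J K u).obj S.X₂) (n + 1)) => Ext.eq_zero_of_injective x
    exact AddCommGrpCat.isZero_of_subsingleton _

theorem nonempty_addEquiv [HasPullbacks C] [PreservesLimitsOfShape WalkingCospan u]
    [HasTerminal C] [PreservesLimit (Functor.empty.{0} C) u]
    (F : Sheaf K AddCommGrpCat.{u}) (p : ℕ) :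
    Nonempty (Sheaf.H ((CohSite.push K J u).obj F) p ≃+ Sheaf.H F p) := by
  haveI := preservesLimitsOfShape_pempty_of_preservesTerminal u
  haveI : PreservesFiniteLimits u := preservesFiniteLimits_of_preservesTerminal_and_pullbacks u
  haveI : HasFiniteLimits C := hasFiniteLimits_of_hasTerminal_and_pullbacks
  obtain ⟨i⟩ := nonempty_iso J K u (tC := ⊤_ C) terminalIsTerminal
    (terminalIsTerminal.isTerminalObj u _) p F
  exact ⟨i.symm.addCommGroupIsoToAddEquiv⟩

end Groth.Agent.Helper9.BigSiteCoh
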