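import Mathlib
import Groth.Prelude.Def_BigSite
import Groth.Agent.Helper1.DeltaComp
import Groth.Agent.Helper9.OverBC
import Groth.Agent.Helper9.BigSmallEt
import Groth.Agent.Helper9.BigBC

/-! Restriction of big-site higher direct images to small étale sites (S6686). -/

set_option autoImplicit false
set_option backward.isDefEq.respectTransparency false
universe u

open CategoryTheory CategoryTheory.Limits Opposite AlgebraicGeometry

namespace Groth.Agent.Helper9.BigSmallBC

open Groth.Agent.Helper1.DeltaFun Groth.Agent.Helper9.BigBC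

variable (K : Precoverage Scheme.{u}) {T S T' S' : Scheme.{u}}
  (f : T ⟶ S) (g : S' ⟶ S) (g' : T' ⟶ T) (f' : T' ⟶ S') (c : IsPullback g' f' f g)

/-- the two composite site functors `S'.Etale ⥤ Over T` -/
noncomputable abbrev G1 : S'.Etale ⥤ Over T := EtCoh.bc f' ⋙ EtFppf.a T' ⋙ Over.map g'

noncomputable abbrev G2 : S'.Etale ⥤ Over T := EtFppf.a S' ⋙ Over.map g ⋙ Over.pullback f

/-- comparison of the site functors -/
noncomputable def γ : G1 g' f' ≅ G2 f g :=
  Functor.isoWhiskerRight
    (MorphismProperty.Over.pullbackCompForgetIso (P := EtCoh.etaleMP.{u}) (Q := ⊤) f')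
    (Over.map g') ≪≫
  Functor.isoWhiskerLeft (EtFppf.a S') (OverBC.β f g g' f' c)

variable [BigSite.AEtCont K S'] [BigSite.AEtCont K T']

/-- base change on the level of sheaves -/
noncomputable def resPushIso :
    BigSite.pushBig K f A.{u} ⋙ BigSite.resEtAlong K g ≅
      BigSite.resEtAlong K g' ⋙ EtCoh.push f' := by
  haveI c0 : (Over.map g ⋙ Over.pullback f).IsContinuous (QuotSh.J K S') (QuotSh.J K T) :=
    Functor.isContinuous_comp _ _ _ (QuotSh.J K S) _
  haveI c1 : (G2 f g).IsContinuous S'.smallEtaleTopology (QuotSh.J K T) :=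
    Functor.isContinuous_comp _ _ _ (QuotSh.J K S') _
  haveI c2 : (EtFppf.a T' ⋙ Over.map g').IsContinuous T'.smallEtaleTopology (QuotSh.J K T) :=
    Functor.isContinuous_comp _ _ _ (QuotSh.J K T') _
  haveI c3 : (G1 g' f').IsContinuous S'.smallEtaleTopology (QuotSh.J K T) :=
    Functor.isContinuous_comp _ _ _ T'.smallEtaleTopology _
  exact (show _ ≅ (G2 f g).sheafPushforwardContinuous A.{u} S'.smallEtaleTopology
      (QuotSh.J K T) from Iso.refl _) ≪≫
    Functor.sheafPushforwardContinuousIso (γ f g g' f' c).symm A.{u} S'.smallEtaleTopology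
      (QuotSh.J K T) ≪≫
    (show (G1 g' f').sheafPushforwardContinuous A.{u} S'.smallEtaleTopology
      (QuotSh.J K T) ≅ _ from Iso.refl _)

section Exact

variable [BigSite.AEtCocont K S']

instance isRightAdjoint_resEt : (BigSite.resEt K S').IsRightAdjoint :=
  (BigSite.piEtAdj K S').isRightAdjoint

instance isLeftAdjoint_resEt : (BigSite.resEt K S').IsLeftAdjoint :=
  (BigSite.iEtAdj K S').isLeftAdjoint

instance preservesFiniteLimits_resEtAlong : PreservesFiniteLimits (BigSite.resEtAlong K g) :=
  inferInstance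

instance preservesFiniteColimits_resEtAlong : PreservesFiniteColimits (BigSite.resEtAlong K g) :=
  inferInstance

end Exact

instance isRightAdjoint_push : (EtCoh.push f').IsRightAdjoint :=
  (EtCoh.pullPushAdj f').isRightAdjoint

instance preservesFiniteLimits_push : PreservesFiniteLimits (EtCoh.push f') := inferInstance

/-- the first δ-functor `i_g⁻¹ ∘ R^q f_big,*` -/
noncomputable def T₁ [BigSite.AEtCocont K S'] : DeltaFunctor (BigSite.Ab K T) (EtCoh.Ab S') :=
  (rightDerivedDelta (BigSite.pushBig K f A.{u})).postcomp (BigSite.resEtAlong K g)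

/-- the second δ-functor `R^q f'_* ∘ i_{g'}⁻¹` -/
noncomputable def T₂ [BigSite.AEtCocont K T'] : DeltaFunctor (BigSite.Ab K T) (EtCoh.Ab S') :=
  (rightDerivedDelta (EtCoh.push f')).precomp (BigSite.resEtAlong K g')
    (fun _ hS => hS.map_of_exact _)

lemma T₁_effaceable [BigSite.AEtCocont K S'] : (T₁ K f g).Effaceable := by
  intro I _ n
  exact Functor.map_isZero (BigSite.resEtAlong K g)
    (rightDerivedDelta_effaceable (BigSite.pushBig K f A.{u}) I n)

lemma T₂_effaceable [BigSite.AEtCocont K T'] : (T₂ K g' f').Effaceable := by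
  intro I _ n
  haveI := Groth.Agent.Helper9.BigSmallEt.injective_resEtAlong K g' I
  exact rightDerivedDelta_effaceable (EtCoh.push f') _ n

include c in
theorem nonempty_natIso [BigSite.AEtCocont K S'] [BigSite.AEtCocont K T'] (q : ℕ) :
    Nonempty ((T₁ K f g).T q ≅ (T₂ K g' f').T q) := by
  refine nonempty_iso_of_effaceable (T₁ K f g) (T₂ K g' f') (T₁_effaceable K f g)
    (T₂_effaceable K g' f') ?_ q
  exact Functor.isoWhiskerRight (BigSite.pushBig K f A.{u}).rightDerivedZeroIsoSelf _ ≪≫
    resPushIso K f g g' f' c ≪≫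
    Functor.isoWhiskerLeft _ (EtCoh.push f').rightDerivedZeroIsoSelf.symm

include c in
theorem nonempty_iso [BigSite.AEtCocont K S'] [BigSite.AEtCocont K T'] (F : BigSite.Ab K T)
    (q : ℕ) :
    Nonempty ((BigSite.resEtAlong K g).obj ((BigSite.RpushBig K f q).obj F) ≅
      (EtCoh.Rpush f' q).obj ((BigSite.resEtAlong K g').obj F)) := by
  obtain ⟨e⟩ := nonempty_natIso K f g g' f' c q
  exact ⟨e.app F⟩

end Groth.Agent.Helper9.BigSmallBC
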