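import Mathlib
import Groth.Prelude.Def_BigSite
import Groth.Agent.Helper9.BigSmallEt
import Groth.Agent.Helper9.BigSiteCohGen

/-! `H^p(X_et, F|) ≅ H^p(big étale site of X, F)` (S6185). -/

set_option autoImplicit false
set_option backward.isDefEq.respectTransparency false
universe u

open CategoryTheory CategoryTheory.Limits Opposite AlgebraicGeometry

namespace Groth.Agent.Helper9.BigSmallCoh

variable (X : Scheme.{u})

instance : (BigSite.resEt Scheme.etalePrecoverage X).IsRightAdjoint :=
  (BigSite.piEtAdj Scheme.etalePrecoverage X).isRightAdjoint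

instance : (BigSite.resEt Scheme.etalePrecoverage X).IsLeftAdjoint :=
  (BigSite.iEtAdj Scheme.etalePrecoverage X).isLeftAdjoint

/-- the terminal object of the small étale site -/
noncomputable def isTerminalTop : IsTerminal (EtCoh.top X) :=
  MorphismProperty.Over.mkIdTerminal EtCoh.etaleMP.{u} X

/-- its image in the big site is terminal -/
noncomputable def isTerminalImage : IsTerminal ((EtFppf.a X).obj (EtCoh.top X)) :=
  (Over.mkIdTerminal (X := X))

theorem nonempty_addEquiv (F : BigSite.Ab Scheme.etalePrecoverage X) (p : ℕ) :
    Nonempty (EtCoh.H X ((BigSite.resEt Scheme.etalePrecoverage X).obj F) p ≃+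
      BigSite.H Scheme.etalePrecoverage X F p) := by
  haveI : PreservesFiniteLimits (BigSite.resEt Scheme.etalePrecoverage X) := inferInstance
  haveI : PreservesFiniteColimits (BigSite.resEt Scheme.etalePrecoverage X) := inferInstance
  exact Groth.Agent.Helper9.BigSiteCohGen.nonempty_addEquiv.{u + 1} X.smallEtaleTopology
    (QuotSh.J Scheme.etalePrecoverage X) (EtFppf.a X) (isTerminalTop X) (isTerminalImage X)
    (fun I _ => Groth.Agent.Helper9.BigSmallEt.injective_resEt Scheme.etalePrecoverage I) p F

end Groth.Agent.Helper9.BigSmallCoh
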