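import Mathlib

/-! For a fully faithful functor of sites which is continuous and cocontinuous, the sheaf pullback
is fully faithful: the unit of `G.sheafAdjunctionContinuous` is an isomorphism. -/

set_option autoImplicit false
set_option backward.isDefEq.respectTransparency false
universe v₁ v₂ v₃ u₁ u₂ u₃

open CategoryTheory CategoryTheory.Limits Opposite

namespace Groth.Agent.Helper9.FFUnit

variable {C : Type u₁} [Category.{v₁} C] {D : Type u₂} [Category.{v₂} D] (G : C ⥤ D)
  (A : Type u₃) [Category.{v₃} A]
  (J : GrothendieckTopology C) (K : GrothendieckTopology D)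
  [G.IsContinuous J K] [G.IsCocontinuous J K] [G.Full] [G.Faithful]
  [∀ F : Cᵒᵖ ⥤ A, G.op.HasPointwiseRightKanExtension F]

instance isIso_counit_cocontinuous_app (F : Sheaf J A) :
    IsIso ((G.sheafAdjunctionCocontinuous A J K).counit.app F) := by
  haveI : IsIso ((sheafToPresheaf J A).map ((G.sheafAdjunctionCocontinuous A J K).counit.app F)) := by
    change IsIso ((G.sheafAdjunctionCocontinuous A J K).counit.app F).hom
    rw [Functor.sheafAdjunctionCocontinuous_counit_app_hom]
    infer_instance
  exact isIso_of_reflects_iso _ (sheafToPresheaf J A)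

instance isIso_counit_cocontinuous : IsIso (G.sheafAdjunctionCocontinuous A J K).counit :=
  NatIso.isIso_of_isIso_app _

variable [(G.sheafPushforwardContinuous A J K).IsRightAdjoint]

/-- the adjoint triple -/
noncomputable def triple :
    CategoryTheory.Adjunction.Triple (G.sheafPullback A J K) (G.sheafPushforwardContinuous A J K)
      (G.sheafPushforwardCocontinuous A J K) where
  adj₁ := G.sheafAdjunctionContinuous A J K
  adj₂ := G.sheafAdjunctionCocontinuous A J K

theorem isIso_unit : IsIso (G.sheafAdjunctionContinuous A J K).unit :=
  (triple G A J K).isIso_unit_iff_isIso_counit.2 (isIso_counit_cocontinuous G A J K)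

theorem isIso_unit_app (F : Sheaf J A) : IsIso ((G.sheafAdjunctionContinuous A J K).unit.app F) := by
  haveI := isIso_unit G A J K
  infer_instance

end Groth.Agent.Helper9.FFUnit
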