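import Mathlib
import Groth.Prelude.Def_BigSite
import Groth.Agent.Helper9.FFUnit
import Groth.Agent.Helper9.BigSmallCoh

/-! `(f_big⁻¹ π_S⁻¹ F)|_{T_et} ≅ f⁻¹ F` and S6687. -/

set_option autoImplicit false
set_option backward.isDefEq.respectTransparency false
universe u

open CategoryTheory CategoryTheory.Limits Opposite AlgebraicGeometry

namespace Groth.Agent.Helper9.BigSmallPull

abbrev A := AddCommGrpCat.{u + 1}

abbrev Ket : Precoverage Scheme.{u} := Scheme.etalePrecoverage

variable {T S : Scheme.{u}} (f : T ⟶ S)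

instance : (EtFppf.a T).Full := inferInstanceAs (Scheme.Etale.forget T).Full

instance : (EtFppf.a T).Faithful := inferInstanceAs (Scheme.Etale.forget T).Faithful

/-- `i_{T,*}` is fully faithful: the counit of `π_{T,*} ⊣ i_{T,*}` is invertible -/
noncomputable def counitIso : BigSite.iEtPush Ket T ⋙ BigSite.resEt Ket T ≅ 𝟭 (EtCoh.Ab T) := by
  haveI : IsIso (BigSite.iEtAdj Ket T).counit :=
    Groth.Agent.Helper9.FFUnit.isIso_counit_cocontinuous (EtFppf.a T) A.{u}
      T.smallEtaleTopology (QuotSh.J Ket T)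
  exact asIso (BigSite.iEtAdj Ket T).counit

/-- restriction to small sites commutes with direct image -/
noncomputable def pushResIso :
    BigSite.pushBig Ket f A.{u} ⋙ BigSite.resEt Ket S ≅ BigSite.resEt Ket T ⋙ EtCoh.push f := by
  haveI c1 : (EtFppf.a S ⋙ Over.pullback f).IsContinuous S.smallEtaleTopology
      (QuotSh.J Ket T) :=
    Functor.isContinuous_comp _ _ _ (QuotSh.J Ket S) _
  haveI c2 : (EtCoh.bc f ⋙ EtFppf.a T).IsContinuous S.smallEtaleTopology (QuotSh.J Ket T) :=
    Functor.isContinuous_comp _ _ _ T.smallEtaleTopology _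
  haveI c2' : (MorphismProperty.Over.pullback EtCoh.etaleMP.{u} ⊤ f ⋙
      MorphismProperty.Over.forget EtCoh.etaleMP.{u} ⊤ T).IsContinuous S.smallEtaleTopology
      (QuotSh.J Ket T) := c2
  haveI c1' : (MorphismProperty.Over.forget EtCoh.etaleMP.{u} ⊤ S ⋙
      Over.pullback f).IsContinuous S.smallEtaleTopology (QuotSh.J Ket T) := c1
  exact (show _ ≅ (EtFppf.a S ⋙ Over.pullback f).sheafPushforwardContinuous A.{u}
      S.smallEtaleTopology (QuotSh.J Ket T) from Iso.refl _) ≪≫
    Functor.sheafPushforwardContinuousIso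
      (MorphismProperty.Over.pullbackCompForgetIso (P := EtCoh.etaleMP.{u}) (Q := ⊤) f).symm A.{u}
      S.smallEtaleTopology (QuotSh.J Ket T) ≪≫
    (show (EtCoh.bc f ⋙ EtFppf.a T).sheafPushforwardContinuous A.{u} S.smallEtaleTopology
      (QuotSh.J Ket T) ≅ _ from Iso.refl _)

/-- the composite left adjoint -/
noncomputable abbrev L : EtCoh.Ab S ⥤ EtCoh.Ab T :=
  BigSite.piEtPull Ket S ⋙ BigSite.pullBig Ket f A.{u} ⋙ BigSite.resEt Ket T

/-- the composite right adjoint -/
noncomputable abbrev R : EtCoh.Ab T ⥤ EtCoh.Ab S :=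
  BigSite.iEtPush Ket T ⋙ BigSite.pushBig Ket f A.{u} ⋙ BigSite.resEt Ket S

/-- the composite adjunction -/
noncomputable def adjLR : L f ⊣ R f :=
  (BigSite.piEtAdj Ket S).comp ((BigSite.bigAdj Ket f A.{u}).comp (BigSite.iEtAdj Ket T))

/-- the right adjoint is the small direct image -/
noncomputable def RIso : R f ≅ EtCoh.push f :=
  Functor.isoWhiskerLeft (BigSite.iEtPush Ket T) (pushResIso f) ≪≫
    (Functor.associator _ _ _).symm ≪≫
    Functor.isoWhiskerRight (counitIso (T := T)) (EtCoh.push f) ≪≫ Functor.leftUnitor _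

/-- `f⁻¹ ≅ (f_big⁻¹ π_S⁻¹ -)|_{T_et}` -/
noncomputable def pullIso : EtCoh.pull f ≅ L f :=
  (EtCoh.pullPushAdj f).leftAdjointUniq ((adjLR f).ofNatIsoRight (RIso f))

/-- cohomology is invariant under isomorphism of sheaves -/
noncomputable def HEquivOfIso {F G : EtCoh.Ab T} (e : F ≅ G) (n : ℕ) :
    EtCoh.H T F n ≃+ EtCoh.H T G n where
  toFun := Sheaf.H.map e.hom n
  invFun := Sheaf.H.map e.inv n
  left_inv x := by
    rw [← Sheaf.H.map_comp_apply, e.hom_inv_id, Sheaf.H.map_id_apply]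
  right_inv x := by
    rw [← Sheaf.H.map_comp_apply, e.inv_hom_id, Sheaf.H.map_id_apply]
  map_add' := (Sheaf.H.map e.hom n).map_add

theorem nonempty_addEquiv (n : ℕ) (F : EtCoh.Ab S) :
    Nonempty (BigSite.HU Ket ((BigSite.piEtPull Ket S).obj F) n (Over.mk f) ≃+
      EtCoh.H T ((EtCoh.pull f).obj F) n) := by
  obtain ⟨e1⟩ := Groth.Agent.Helper9.BigSmallCoh.nonempty_addEquiv T
    ((BigSite.pullBig Ket f A.{u}).obj ((BigSite.piEtPull Ket S).obj F)) n
  exact ⟨e1.symm.trans (HEquivOfIso ((pullIso f).app F).symm n)⟩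

end Groth.Agent.Helper9.BigSmallPull
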