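import Mathlib

set_option autoImplicit false

namespace Groth.Agent.Helper9.BilinAdj

variable {k : Type*} [Field k] {V : Type*} [AddCommGroup V] [Module k V]
  (B : LinearMap.BilinForm k V)

theorem adj_pow (a c e : Module.End k V) (lam : k) (hec : Commute e c)
    (h : ∀ x y, B (a x) (e y) = lam * B x (c y)) :
    ∀ n x y, B ((a ^ n) x) ((e ^ n) y) = lam ^ n * B x ((c ^ n) y) := by
  intro n
  induction n with
  | zero => intro x y; simp
  | succ n ih =>
    intro x y
    have h1 : (c ^ n) (e y) = e ((c ^ n) y) := by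
      have := (hec.pow_right n).eq
      calc (c ^ n) (e y) = (c ^ n * e) y := rfl
        _ = (e * c ^ n) y := by rw [this]
        _ = e ((c ^ n) y) := rfl
    rw [pow_succ a, pow_succ e, Module.End.mul_apply, Module.End.mul_apply, ih, h1, h, pow_succ' c,
      Module.End.mul_apply, pow_succ]
    ring

theorem left_vanish (a c e : Module.End k V) (lam : k) (hlam : lam ≠ 0) (hec : Commute e c)
    (h : ∀ x y, B (a x) (e y) = lam * B x (c y)) (n : ℕ) (x z : V) (hx : (a ^ n) x = 0) :
    B x ((c ^ n) z) = 0 := by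
  have := adj_pow B a c e lam hec h n x z
  rw [hx, map_zero, LinearMap.zero_apply] at this
  rcases mul_eq_zero.mp this.symm with h0 | h0
  · exact absurd h0 (pow_ne_zero n hlam)
  · exact h0

theorem right_vanish (a c e : Module.End k V) (lam : k) (he : Function.Bijective e)
    (hec : Commute e c)
    (h : ∀ x y, B (a x) (e y) = lam * B x (c y)) (n : ℕ) (z y : V) (hy : (c ^ n) y = 0) :
    B ((a ^ n) z) y = 0 := by
  have hbij : Function.Bijective (e ^ n) := by
    rw [Module.End.coe_pow]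
    exact he.iterate n
  obtain ⟨y', rfl⟩ := hbij.surjective y
  have hy' : (c ^ n) y' = 0 := by
    apply hbij.injective
    rw [map_zero]
    have := (hec.pow_pow n n).eq
    calc (e ^ n) ((c ^ n) y') = (e ^ n * c ^ n) y' := rfl
      _ = (c ^ n * e ^ n) y' := by rw [this]
      _ = (c ^ n) ((e ^ n) y') := rfl
      _ = 0 := hy
  rw [adj_pow B a c e lam hec h n z y', hy', map_zero, mul_zero]

variable [FiniteDimensional k V]

theorem exists_isCompl_pow (g : Module.End k V) (n0 : ℕ) :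
    ∃ n, n0 ≤ n ∧ IsCompl (LinearMap.ker (g ^ n)) (LinearMap.range (g ^ n)) := by
  have h1 := g.eventually_isCompl_ker_pow_range_pow
  have h2 := Filter.eventually_ge_atTop n0
  obtain ⟨n, hn1, hn2⟩ := (h1.and h2).exists
  exact ⟨n, hn2, hn1⟩

theorem pow_apply_eq_zero_of_le (g : Module.End k V) {n0 n : ℕ} (h : n0 ≤ n) (x : V)
    (hx : (g ^ n0) x = 0) : (g ^ n) x = 0 := by
  obtain ⟨d, rfl⟩ := Nat.exists_eq_add_of_le h
  rw [add_comm, pow_add, Module.End.mul_apply, hx, map_zero]

/-- If `x` is killed by a power of `a`, and is left-orthogonal to the generalized kernel of `c`,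
and `a`-power-torsion is orthogonal to ranges of powers of `c`, then `x` is left-orthogonal to
everything. -/
theorem left_orth (a c : Module.End k V)
    (h : ∀ n x z, (a ^ n) x = 0 → B x ((c ^ n) z) = 0)
    (x : V) (hx : ∃ n, (a ^ n) x = 0)
    (hxy : ∀ y, (∃ n, (c ^ n) y = 0) → B x y = 0) : ∀ v, B x v = 0 := by
  obtain ⟨n0, hn0⟩ := hx
  obtain ⟨n, hn, hcompl⟩ := exists_isCompl_pow c n0
  intro v
  have hv : v ∈ LinearMap.ker (c ^ n) ⊔ LinearMap.range (c ^ n) := by
    rw [hcompl.sup_eq_top]; trivial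
  obtain ⟨v1, hv1, v2, ⟨z, rfl⟩, rfl⟩ := Submodule.mem_sup.mp hv
  rw [map_add, hxy v1 ⟨n, hv1⟩, h n x z (pow_apply_eq_zero_of_le a hn x hn0), add_zero]

theorem right_orth (a c : Module.End k V)
    (h : ∀ n z y, (c ^ n) y = 0 → B ((a ^ n) z) y = 0)
    (y : V) (hy : ∃ n, (c ^ n) y = 0)
    (hxy : ∀ x, (∃ n, (a ^ n) x = 0) → B x y = 0) : ∀ v, B v y = 0 := by
  obtain ⟨n0, hn0⟩ := hy
  obtain ⟨n, hn, hcompl⟩ := exists_isCompl_pow a n0
  intro v
  have hv : v ∈ LinearMap.ker (a ^ n) ⊔ LinearMap.range (a ^ n) := by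
    rw [hcompl.sup_eq_top]; trivial
  obtain ⟨v1, hv1, v2, ⟨z, rfl⟩, rfl⟩ := Submodule.mem_sup.mp hv
  rw [map_add, LinearMap.add_apply, hxy v1 ⟨n, hv1⟩,
    h n z y (pow_apply_eq_zero_of_le c hn y hn0), add_zero]

omit [FiniteDimensional k V] in
theorem aeval_X_sub_C (f : Module.End k V) (μ : k) :
    Polynomial.aeval f (Polynomial.X - Polynomial.C μ) = f - μ • (1 : Module.End k V) := by
  rw [map_sub, Polynomial.aeval_X, Polynomial.aeval_C, Algebra.algebraMap_eq_smul_one]

omit [FiniteDimensional k V] in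
/-- If `(f - μ)^n w = 0` and `μ ≠ ν` then `w` lies in the range of `(f - ν)^n`. -/
theorem exists_eq_pow_apply (f : Module.End k V) (μ ν : k) (hμν : μ ≠ ν) (n : ℕ) (w : V)
    (hw : ((f - μ • (1 : Module.End k V)) ^ n) w = 0) :
    ∃ w', w = ((f - ν • (1 : Module.End k V)) ^ n) w' := by
  have hcop : IsCoprime ((Polynomial.X - Polynomial.C μ) ^ n) ((Polynomial.X - Polynomial.C ν) ^ n) :=
    (Polynomial.isCoprime_X_sub_C_of_isUnit_sub (sub_ne_zero_of_ne hμν).isUnit).pow
  obtain ⟨u, v, huv⟩ := hcop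
  rw [mul_comm v] at huv
  have h1 := congrArg (Polynomial.aeval f) huv
  rw [map_add, map_mul, map_mul, map_pow, map_pow, aeval_X_sub_C, aeval_X_sub_C, map_one] at h1
  have h2 := LinearMap.congr_fun h1 w
  rw [LinearMap.add_apply, Module.End.mul_apply, Module.End.mul_apply, hw, map_zero, zero_add,
    Module.End.one_apply] at h2
  exact ⟨_, h2.symm⟩

end Groth.Agent.Helper9.BilinAdj
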