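import Mathlib

/-!
# Binary forms: dimensions, multiplication maps, linear factors of cubics
(`finrank_homogeneousSubmodule` is the same computation as in `Helper6/HomogRank.lean`.)
-/

set_option linter.unusedSimpArgs false

namespace Groth.Agent.Helper9.BinaryForms

open MvPolynomial Module

variable (K : Type*) [Field K]

theorem finrank_homogeneousSubmodule (r n : ℕ) :
    Module.finrank K (homogeneousSubmodule (Fin (r + 1)) K n) = Nat.choose (n + r) r := by
  classical
  rw [homogeneousSubmodule_eq_finsupp_supported]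
  have hset : {d : Fin (r + 1) →₀ ℕ | d.degree = n}
      = ↑((Finset.univ : Finset (Fin (r + 1))).finsuppAntidiag n) := by
    ext d
    simp only [Set.mem_ofPred_eq, Finset.mem_coe, Finset.mem_finsuppAntidiag, Finset.subset_univ,
      and_true]
    rw [Finsupp.degree_eq_sum]
  rw [hset]
  rw [LinearEquiv.finrank_eq (AddMonoidAlgebra.supportedEquivFinsupp _)]
  rw [Module.finrank_finsupp_self]
  simp only [Finset.coe_sort_coe, Fintype.card_coe]
  rw [Finset.card_finsuppAntidiag_nat_eq_choose, Finset.card_univ, Fintype.card_fin]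
  have : r + 1 + n - 1 = n + r := by omega
  rw [this, Nat.choose_symm_add]

/-- binary forms of degree `d` -/
abbrev S (d : ℕ) : Submodule K (MvPolynomial (Fin 2) K) := homogeneousSubmodule (Fin 2) K d

lemma finrank_S (d : ℕ) : finrank K (S K d) = d + 1 := by
  have := finrank_homogeneousSubmodule K 1 d
  simpa using this

instance (d : ℕ) : Module.Finite K (S K d) :=
  Module.finite_of_finrank_pos (by rw [finrank_S]; omega)

/-- multiplication of binary forms -/
noncomputable def mulB (a b : ℕ) : S K a →ₗ[K] S K b →ₗ[K] S K (a + b) :=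
  LinearMap.mk₂ K (fun g e => ⟨g.1 * e.1, IsHomogeneous.mul g.2 e.2⟩)
    (fun g g' e => Subtype.ext (add_mul _ _ _))
    (fun c g e => Subtype.ext (by simp [smul_mul_assoc]))
    (fun g e e' => Subtype.ext (mul_add _ _ _))
    (fun c g e => Subtype.ext (by simp [mul_smul_comm]))

@[simp] lemma mulB_coe (a b : ℕ) (g : S K a) (e : S K b) : ((mulB K a b g e : S K (a + b)) : MvPolynomial (Fin 2) K) = g.1 * e.1 := rfl

/-- the parametrisation of binary cubics -/
noncomputable def cubicOf (c : Fin 4 → K) : MvPolynomial (Fin 2) K :=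
  C (c 0) * X 1 ^ 3 + C (c 1) * X 0 * X 1 ^ 2 + C (c 2) * X 0 ^ 2 * X 1 + C (c 3) * X 0 ^ 3

lemma cubicOf_mem (c : Fin 4 → K) : cubicOf K c ∈ S K 3 := by
  rw [mem_homogeneousSubmodule, cubicOf]
  refine IsHomogeneous.add (IsHomogeneous.add (IsHomogeneous.add ?_ ?_) ?_) ?_
  · exact isHomogeneous_C_mul_X_pow _ _ _
  · exact (isHomogeneous_C_mul_X (c 1) 0).mul (isHomogeneous_X_pow 1 2)
  · rw [mul_assoc]
    exact (isHomogeneous_C (Fin 2) (c 2)).mul ((isHomogeneous_X_pow 0 2).mul (isHomogeneous_X K 1))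
  · exact isHomogeneous_C_mul_X_pow _ _ _

/-- the parametrisation as a linear map -/
noncomputable def cubicL : (Fin 4 → K) →ₗ[K] S K 3 where
  toFun c := ⟨cubicOf K c, cubicOf_mem K c⟩
  map_add' c c' := Subtype.ext (by simp [cubicOf]; ring)
  map_smul' a c := Subtype.ext (by simp [cubicOf, smul_eq_C_mul]; ring)

open Polynomial in
lemma cubicL_injective [Infinite K] : Function.Injective (cubicL K) := by
  rw [← LinearMap.ker_eq_bot, LinearMap.ker_eq_bot']
  intro c hc
  have h0 : cubicOf K c = 0 := congrArg Subtype.val hc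
  have hP : (Polynomial.C (c 0) + Polynomial.C (c 1) * Polynomial.X + Polynomial.C (c 2) * Polynomial.X ^ 2
      + Polynomial.C (c 3) * Polynomial.X ^ 3 : K[X]) = 0 := by
    apply Polynomial.funext
    intro x
    have := congrArg (MvPolynomial.eval ![x, 1]) h0
    simp [cubicOf] at this
    simp
    linear_combination this
  have c0 := congrArg (fun q => Polynomial.coeff q 0) hP
  have c1 := congrArg (fun q => Polynomial.coeff q 1) hP
  have c2 := congrArg (fun q => Polynomial.coeff q 2) hP
  have c3 := congrArg (fun q => Polynomial.coeff q 3) hP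
  simp [Polynomial.coeff_X, Polynomial.coeff_C, Polynomial.coeff_X_pow] at c0 c1 c2 c3
  funext i
  fin_cases i
  · exact c0
  · exact c1
  · exact c2
  · exact c3

lemma cubicL_surjective [Infinite K] : Function.Surjective (cubicL K) := by
  have h : finrank K (Fin 4 → K) = finrank K (S K 3) := by
    rw [finrank_S]; simp
  exact (LinearMap.injective_iff_surjective_of_finrank_eq_finrank h).mp (cubicL_injective K)

/-- a nonzero binary cubic over an algebraically closed field has a linear factor -/
theorem exists_factor [IsAlgClosed K] (g : S K 3) :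
    ∃ (l : S K 1) (e : S K 2), g.1 = l.1 * e.1 := by
  have : Infinite K := IsAlgClosed.instInfinite
  obtain ⟨c, rfl⟩ := cubicL_surjective K g
  have hval : ((cubicL K c : S K 3) : MvPolynomial (Fin 2) K) = cubicOf K c := rfl
  simp only [hval]
  by_cases h3 : c 3 = 0
  · refine ⟨⟨X 1, isHomogeneous_X K 1⟩,
      ⟨C (c 0) * X 1 ^ 2 + C (c 1) * X 0 * X 1 + C (c 2) * X 0 ^ 2, ?_⟩, ?_⟩
    · rw [mem_homogeneousSubmodule]
      refine IsHomogeneous.add (IsHomogeneous.add ?_ ?_) ?_
      · exact isHomogeneous_C_mul_X_pow _ _ _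
      · exact (isHomogeneous_C_mul_X (c 1) 0).mul (isHomogeneous_X K 1)
      · exact isHomogeneous_C_mul_X_pow _ _ _
    · simp only [cubicOf, h3, map_zero, zero_mul, add_zero]
      ring
  · obtain ⟨r, hr⟩ : ∃ r : K, c 3 * r ^ 3 + c 2 * r ^ 2 + c 1 * r + c 0 = 0 := by
      have hdeg : (Polynomial.C (c 3) * Polynomial.X ^ 3 + Polynomial.C (c 2) * Polynomial.X ^ 2
          + Polynomial.C (c 1) * Polynomial.X + Polynomial.C (c 0) : Polynomial K).degree ≠ 0 := by
        rw [Polynomial.degree_cubic h3]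
        norm_num
      obtain ⟨r, hr⟩ := IsAlgClosed.exists_root _ hdeg
      refine ⟨r, ?_⟩
      simpa using hr
    refine ⟨⟨X 0 - C r * X 1, (isHomogeneous_X K 0).sub (isHomogeneous_C_mul_X r 1)⟩,
      ⟨C (c 3) * X 0 ^ 2 + C (c 2 + c 3 * r) * X 0 * X 1 + C (c 1 + c 2 * r + c 3 * r ^ 2) * X 1 ^ 2,
        ?_⟩, ?_⟩
    · rw [mem_homogeneousSubmodule]
      refine IsHomogeneous.add (IsHomogeneous.add ?_ ?_) ?_
      · exact isHomogeneous_C_mul_X_pow _ _ _
      · exact (isHomogeneous_C_mul_X _ 0).mul (isHomogeneous_X K 1)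
      · exact isHomogeneous_C_mul_X_pow _ _ _
    · simp only [cubicOf]
      have hr' : (C (c 3 * r ^ 3 + c 2 * r ^ 2 + c 1 * r + c 0) : MvPolynomial (Fin 2) K) = 0 := by
        rw [hr, map_zero]
      simp only [map_add, map_mul, map_pow] at hr' ⊢
      linear_combination (X 1 ^ 3 : MvPolynomial (Fin 2) K) * hr'

end Groth.Agent.Helper9.BinaryForms
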