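import Mathlib

set_option autoImplicit false

namespace Groth.Agent.Helper9.Blended

open CategoryTheory CategoryTheory.Limits

universe v w

theorem S4065 {C : Type w} [Category.{v} C] [Abelian C]
    {P F R E Q X : C} (a : P ⟶ F) (b : F ⟶ R) (wF : a ≫ b = 0)
    (hF : (ShortComplex.mk a b wF).ShortExact) (c : R ⟶ E) (d : E ⟶ Q) (wE : c ≫ d = 0)
    (hE : (ShortComplex.mk c d wE).ShortExact) (i : F ⟶ X) (p : X ⟶ E) (hip : i ≫ p = b ≫ c)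
    (w₁ : (a ≫ i) ≫ p = 0) (h₁ : (ShortComplex.mk (a ≫ i) p w₁).ShortExact)
    (w₂ : i ≫ (p ≫ d) = 0) (h₂ : (ShortComplex.mk i (p ≫ d) w₂).ShortExact) :
    Set.BijOn (fun v : Q ⟶ P => 𝟙 X + p ≫ d ≫ v ≫ a ≫ i) Set.univ
      {φ : X ⟶ X | i ≫ φ = i ∧ φ ≫ p = p} ∧
      ∀ v v' : Q ⟶ P, 𝟙 X + p ≫ d ≫ (v + v') ≫ a ≫ i =
        (𝟙 X + p ≫ d ≫ v ≫ a ≫ i) ≫ (𝟙 X + p ≫ d ≫ v' ≫ a ≫ i) := by
  have w₁' : a ≫ i ≫ p = 0 := by rw [← Category.assoc]; exact w₁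
  have w₂' : ∀ {Z : C} (t : Q ⟶ Z), i ≫ p ≫ d ≫ t = 0 := by
    intro Z t
    rw [← Category.assoc p, ← Category.assoc i, w₂, zero_comp]
  have w₁'' : ∀ {Z : C} (t : E ⟶ Z), a ≫ i ≫ p ≫ t = 0 := by
    intro Z t
    rw [← Category.assoc i, ← Category.assoc a, ← Category.assoc a, w₁, zero_comp]
  haveI : Epi (p ≫ d) := h₂.epi_g
  haveI : Mono (a ≫ i) := h₁.mono_f
  refine ⟨⟨?_, ?_, ?_⟩, ?_⟩
  · intro v _
    refine ⟨?_, ?_⟩
    · rw [Preadditive.comp_add, Category.comp_id, w₂', add_zero]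
    · rw [Preadditive.add_comp, Category.id_comp]
      simp only [Category.assoc, w₁', comp_zero, add_zero]
  · intro v _ v' _ h
    have h' : (p ≫ d) ≫ v ≫ (a ≫ i) = (p ≫ d) ≫ v' ≫ (a ≫ i) := by
      simpa only [Category.assoc] using add_left_cancel h
    exact (cancel_mono (a ≫ i)).1 ((cancel_epi (p ≫ d)).1 h')
  · rintro φ ⟨hφ1, hφ2⟩
    have hψ : i ≫ (φ - 𝟙 X) = 0 := by
      rw [Preadditive.comp_sub, hφ1, Category.comp_id, sub_self]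
    let ψ' : Q ⟶ X := h₂.exact.desc (φ - 𝟙 X) hψ
    have hψ' : (p ≫ d) ≫ ψ' = φ - 𝟙 X := h₂.exact.g_desc _ hψ
    have hψ'p : ψ' ≫ p = 0 := by
      rw [← cancel_epi (p ≫ d), ← Category.assoc, hψ', Preadditive.sub_comp, hφ2,
        Category.id_comp, sub_self, comp_zero]
    let v : Q ⟶ P := h₁.exact.lift ψ' hψ'p
    have hv : v ≫ (a ≫ i) = ψ' := h₁.exact.lift_f _ hψ'p
    refine ⟨v, Set.mem_univ _, ?_⟩
    change 𝟙 X + p ≫ d ≫ v ≫ a ≫ i = φ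
    have : p ≫ d ≫ v ≫ a ≫ i = (p ≫ d) ≫ v ≫ (a ≫ i) := by simp only [Category.assoc]
    rw [this, hv, hψ']
    abel
  · intro v v'
    simp only [Preadditive.add_comp, Preadditive.comp_add, Category.assoc, Category.id_comp,
      Category.comp_id, w₁'', comp_zero, add_zero]
    abel

end Groth.Agent.Helper9.Blended
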