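import Mathlib

/-!
# The two charts of the blow-up of a nodal/cuspidal Weierstrass cubic: coordinate rings
`R[y,α]/(1 + a₁α − yα³ − a₂α²) ≅ R[T,T⁻¹]` and `R[x,β]/(β² + a₁β − x − a₂) ≅ R[β]`.
-/

set_option autoImplicit false

namespace Groth.Agent.Helper9.BlowupCharts

open MvPolynomial

universe u
variable (R : Type u) [CommRing R] (a₁ a₂ : R)

noncomputable section

abbrev g₂ : MvPolynomial (Fin 2) R := X 1 ^ 2 + C a₁ * X 1 - X 0 - C a₂
abbrev Q₂ := MvPolynomial (Fin 2) R ⧸ Ideal.span ({g₂ R a₁ a₂} : Set (MvPolynomial (Fin 2) R))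

def φ₂ : MvPolynomial (Fin 2) R →ₐ[R] Polynomial R :=
  aeval ![Polynomial.X ^ 2 + Polynomial.C a₁ * Polynomial.X - Polynomial.C a₂, Polynomial.X]

lemma φ₂_g : ∀ x ∈ Ideal.span ({g₂ R a₁ a₂} : Set (MvPolynomial (Fin 2) R)), φ₂ R a₁ a₂ x = 0 := by
  intro x hx
  have : Ideal.span ({g₂ R a₁ a₂} : Set (MvPolynomial (Fin 2) R)) ≤ RingHom.ker (φ₂ R a₁ a₂) := by
    rw [Ideal.span_le, Set.singleton_subset_iff, SetLike.mem_coe, RingHom.mem_ker]
    simp [φ₂, g₂, Polynomial.algebraMap_eq]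
  exact this hx

lemma lift_mk₂ (p : MvPolynomial (Fin 2) R) :
    Ideal.Quotient.liftₐ _ (φ₂ R a₁ a₂) (φ₂_g R a₁ a₂) (Ideal.Quotient.mk _ p) = φ₂ R a₁ a₂ p := rfl

def e₂ : Q₂ R a₁ a₂ ≃ₐ[R] Polynomial R :=
  AlgEquiv.ofAlgHom (Ideal.Quotient.liftₐ _ (φ₂ R a₁ a₂) (φ₂_g R a₁ a₂))
    (Polynomial.aeval (Ideal.Quotient.mk _ (X 1)))
    (by
      apply Polynomial.algHom_ext
      simp only [AlgHom.coe_comp, Function.comp_apply, Polynomial.aeval_X, lift_mk₂, AlgHom.coe_id, id_eq]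
      simp [φ₂])
    (by
      apply Ideal.Quotient.algHom_ext
      apply MvPolynomial.algHom_ext
      intro i
      simp only [AlgHom.coe_comp, Function.comp_apply, Ideal.Quotient.mkₐ_eq_mk, lift_mk₂, AlgHom.coe_id, id_eq]
      fin_cases i
      · simp only [φ₂, Fin.zero_eta, aeval_X, Matrix.cons_val_zero, map_sub, map_add, map_mul, map_pow,
          Polynomial.aeval_X, Polynomial.aeval_C]
        rw [← sub_eq_zero, ← Ideal.Quotient.mk_algebraMap, ← Ideal.Quotient.mk_algebraMap]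
        simp only [← map_pow, ← map_mul, ← map_add, ← map_sub]
        rw [Ideal.Quotient.eq_zero_iff_mem, Ideal.mem_span_singleton]
        refine ⟨1, ?_⟩
        simp only [g₂, MvPolynomial.algebraMap_eq]
        ring
      · simp [φ₂])

abbrev g₁ : MvPolynomial (Fin 2) R := 1 + C a₁ * X 1 - X 0 * X 1 ^ 3 - C a₂ * X 1 ^ 2
abbrev Q₁ := MvPolynomial (Fin 2) R ⧸ Ideal.span ({g₁ R a₁ a₂} : Set (MvPolynomial (Fin 2) R))

open LaurentPolynomial in
def φ₁ : MvPolynomial (Fin 2) R →ₐ[R] LaurentPolynomial R :=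
  aeval ![(1 + LaurentPolynomial.C a₁ * T 1 - LaurentPolynomial.C a₂ * T 2) * T (-3), T 1]

open LaurentPolynomial in
lemma φ₁_g : ∀ x ∈ Ideal.span ({g₁ R a₁ a₂} : Set (MvPolynomial (Fin 2) R)), φ₁ R a₁ a₂ x = 0 := by
  intro x hx
  have : Ideal.span ({g₁ R a₁ a₂} : Set (MvPolynomial (Fin 2) R)) ≤ RingHom.ker (φ₁ R a₁ a₂) := by
    rw [Ideal.span_le, Set.singleton_subset_iff, SetLike.mem_coe, RingHom.mem_ker]
    simp only [φ₁, g₁, map_sub, map_add, map_mul, map_pow, map_one, aeval_X, aeval_C, Matrix.cons_val_zero,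
      Matrix.cons_val_one]
    have h3 : (T 1 : LaurentPolynomial R) ^ 3 = T 3 := by rw [T_pow]; norm_num
    have h2 : (T 1 : LaurentPolynomial R) ^ 2 = T 2 := by rw [T_pow]; norm_num
    have h33 : (T (-3) : LaurentPolynomial R) * T 3 = 1 := by rw [← T_add]; norm_num
    have hC : ∀ a : R, algebraMap R (LaurentPolynomial R) a = LaurentPolynomial.C a := fun a => rfl
    rw [h3, h2, hC, hC]
    linear_combination (-(1 + LaurentPolynomial.C a₁ * T 1 - LaurentPolynomial.C a₂ * T 2)) * h33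
  exact this hx

lemma lift_mk₁ (p : MvPolynomial (Fin 2) R) :
    Ideal.Quotient.liftₐ _ (φ₁ R a₁ a₂) (φ₁_g R a₁ a₂) (Ideal.Quotient.mk _ p) = φ₁ R a₁ a₂ p := rfl

def u₁ : (Q₁ R a₁ a₂)ˣ where
  val := Ideal.Quotient.mk _ (X 1)
  inv := Ideal.Quotient.mk _ (X 0 * X 1 ^ 2 + C a₂ * X 1 - C a₁)
  val_inv := by
    rw [← map_mul, ← sub_eq_zero, ← map_one (Ideal.Quotient.mk _), ← map_sub,
      Ideal.Quotient.eq_zero_iff_mem, Ideal.mem_span_singleton]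
    exact ⟨-1, by simp only [g₁]; ring⟩
  inv_val := by
    rw [← map_mul, ← sub_eq_zero, ← map_one (Ideal.Quotient.mk _), ← map_sub,
      Ideal.Quotient.eq_zero_iff_mem, Ideal.mem_span_singleton]
    exact ⟨-1, by simp only [g₁]; ring⟩

def ψ₁ : LaurentPolynomial R →ₐ[R] Q₁ R a₁ a₂ :=
  AddMonoidAlgebra.lift R (Q₁ R a₁ a₂) ℤ ((Units.coeHom (Q₁ R a₁ a₂)).comp (zpowersHom (Q₁ R a₁ a₂)ˣ (u₁ R a₁ a₂)))

lemma ψ₁_T (n : ℤ) : ψ₁ R a₁ a₂ (LaurentPolynomial.T n) = ((u₁ R a₁ a₂ ^ n : (Q₁ R a₁ a₂)ˣ) : Q₁ R a₁ a₂) := by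
  unfold ψ₁ LaurentPolynomial.T
  rw [AddMonoidAlgebra.lift_single, one_smul]
  rfl

lemma ψ₁_C (a : R) : ψ₁ R a₁ a₂ (LaurentPolynomial.C a) = algebraMap R _ a := by
  have : LaurentPolynomial.C a = algebraMap R (LaurentPolynomial R) a := rfl
  rw [this, AlgHom.commutes]

def e₁ : Q₁ R a₁ a₂ ≃ₐ[R] LaurentPolynomial R :=
  AlgEquiv.ofAlgHom (Ideal.Quotient.liftₐ _ (φ₁ R a₁ a₂) (φ₁_g R a₁ a₂)) (ψ₁ R a₁ a₂)
    (by
      apply (AddMonoidAlgebra.lift R (LaurentPolynomial R) ℤ).symm.injective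
      apply MonoidHom.ext_mint
      rw [AddMonoidAlgebra.lift_symm_apply, AddMonoidAlgebra.lift_symm_apply]
      simp only [toAdd_ofAdd, AlgHom.coe_comp, Function.comp_apply, AlgHom.coe_id, id_eq]
      have : (AddMonoidAlgebra.single (1 : ℤ) (1 : R) : LaurentPolynomial R) = LaurentPolynomial.T 1 := rfl
      rw [this, ψ₁_T, zpow_one]
      change Ideal.Quotient.liftₐ _ (φ₁ R a₁ a₂) (φ₁_g R a₁ a₂) (Ideal.Quotient.mk _ (X 1)) = _
      rw [lift_mk₁]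
      simp [φ₁])
    (by
      apply Ideal.Quotient.algHom_ext
      apply MvPolynomial.algHom_ext
      intro i
      simp only [AlgHom.coe_comp, Function.comp_apply, Ideal.Quotient.mkₐ_eq_mk, lift_mk₁, AlgHom.coe_id, id_eq]
      have hα : ((u₁ R a₁ a₂ : (Q₁ R a₁ a₂)ˣ) : Q₁ R a₁ a₂) = Ideal.Quotient.mk _ (X 1) := rfl
      fin_cases i
      · simp only [φ₁, Fin.zero_eta, aeval_X, Matrix.cons_val_zero, map_sub, map_add, map_mul, map_one, ψ₁_T, ψ₁_C]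
        -- notation
        obtain ⟨y, hy⟩ : ∃ y : Q₁ R a₁ a₂, Ideal.Quotient.mk _ (X 0) = y := ⟨_, rfl⟩
        obtain ⟨α, hα'⟩ : ∃ α : Q₁ R a₁ a₂, Ideal.Quotient.mk _ (X 1) = α := ⟨_, rfl⟩
        obtain ⟨β, hβ⟩ : ∃ β : Q₁ R a₁ a₂, ((u₁ R a₁ a₂)⁻¹ : (Q₁ R a₁ a₂)ˣ).val = β := ⟨_, rfl⟩
        have h1 : α * β = 1 := by
          rw [← hα', ← hβ, ← hα]; exact (u₁ R a₁ a₂).mul_inv
        have h2 : 1 + algebraMap R _ a₁ * α - algebraMap R _ a₂ * α ^ 2 = y * α ^ 3 := by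
          rw [← hα', ← hy, ← sub_eq_zero, ← Ideal.Quotient.mk_algebraMap, ← Ideal.Quotient.mk_algebraMap]
          simp only [← map_pow, ← map_mul, ← map_add, ← map_sub, ← map_one (Ideal.Quotient.mk _)]
          rw [Ideal.Quotient.eq_zero_iff_mem, Ideal.mem_span_singleton]
          refine ⟨1, ?_⟩
          simp only [g₁, MvPolynomial.algebraMap_eq]
          ring
        have e1 : ((u₁ R a₁ a₂ ^ (1 : ℤ) : (Q₁ R a₁ a₂)ˣ) : Q₁ R a₁ a₂) = α := by
          rw [zpow_one, hα, hα']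
        have e2 : ((u₁ R a₁ a₂ ^ (2 : ℤ) : (Q₁ R a₁ a₂)ˣ) : Q₁ R a₁ a₂) = α ^ 2 := by
          rw [zpow_ofNat, Units.val_pow_eq_pow_val, hα, hα']
        have e3 : ((u₁ R a₁ a₂ ^ (-3 : ℤ) : (Q₁ R a₁ a₂)ˣ) : Q₁ R a₁ a₂) = β ^ 3 := by
          rw [zpow_neg, zpow_ofNat, ← inv_pow, Units.val_pow_eq_pow_val, hβ]
        rw [e1, e2, e3, hy]
        linear_combination (β ^ 3) * h2 + y * ((α * β) ^ 2 + α * β + 1) * h1
      · simp only [φ₁, Fin.mk_one, aeval_X, Matrix.cons_val_one, Matrix.cons_val_zero, ψ₁_T, zpow_one]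
        rfl)

end

section Smooth
open Polynomial

instance smoothPoly : Algebra.Smooth R R[X] := ⟨inferInstance, inferInstance⟩

theorem smoothLaurent : Algebra.Smooth R (LaurentPolynomial R) := by
  haveI : IsScalarTower R R[X] (LaurentPolynomial R) := IsScalarTower.of_algebraMap_eq fun r => by
    rw [LaurentPolynomial.algebraMap_eq_toLaurent, Polynomial.algebraMap_apply, Algebra.algebraMap_self,
      RingHom.id_apply, Polynomial.toLaurent_C]
    rfl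
  haveI : Algebra.Smooth R[X] (LaurentPolynomial R) := Algebra.Smooth.of_isLocalization_Away (X : R[X])
  exact Algebra.Smooth.comp R R[X] (LaurentPolynomial R)

end Smooth

end Groth.Agent.Helper9.BlowupCharts
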