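import Mathlib
import Groth.Agent.Helper1.Brown

/-!
# Brown representability for perfectly generated triangulated categories (Krause)
-/

set_option autoImplicit false
set_option linter.unusedSectionVars false

namespace Groth.Agent.Helper9.BrownBis
open CategoryTheory Limits CohDer Pretriangulated Opposite ZeroObject
open Groth.Agent.Helper1 Groth.Agent.Helper1.Brown

universe v u

variable {D : Type u} [Category.{v} D] [Preadditive D] [HasZeroObject D] [HasShift D ℤ]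
  [∀ n : ℤ, (shiftFunctor D n).Additive] [Pretriangulated D]

section General

/-- Weak kernel property of a coproduct of distinguished triangles. -/
theorem ct_factor {J : Type*} (W A X : J → D) [HasCoproduct W] [HasCoproduct A] [HasCoproduct X]
    (ω : ∀ j, W j ⟶ A j) (c : ∀ j, A j ⟶ X j)
    (hT : ∀ j, ∃ d : X j ⟶ (W j)⟦(1 : ℤ)⟧, Triangle.mk (ω j) (c j) d ∈ distTriang D)
    {G : D} (w : G ⟶ ∐ A) (hw : w ≫ Limits.Sigma.map c = 0) :
    ∃ w' : G ⟶ ∐ W, w = w' ≫ Limits.Sigma.map ω := by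
  obtain ⟨Z, c', d', hT'⟩ := distinguished_cocone_triangle (Limits.Sigma.map ω)
  have hg : ∀ j, ∃ g : X j ⟶ Z, c j ≫ g = Sigma.ι A j ≫ c' := by
    intro j
    obtain ⟨d, hd⟩ := hT j
    obtain ⟨g, hg1, -⟩ := Pretriangulated.complete_distinguished_triangle_morphism _ _ hd hT'
      (Sigma.ι W j) (Sigma.ι A j) (Sigma.ι_map ω j).symm
    exact ⟨g, hg1⟩
  choose g hg using hg
  have h1 : Limits.Sigma.map c ≫ Sigma.desc g = c' := by
    apply Sigma.hom_ext
    intro j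
    rw [Sigma.ι_map_assoc, Sigma.ι_desc, hg]
  have h2 : w ≫ c' = 0 := by rw [← h1, reassoc_of% hw, zero_comp]
  exact Triangle.coyoneda_exact₂ _ hT' w h2

theorem sigma_map_add {J : Type*} (A B : J → D) [HasCoproduct A] [HasCoproduct B]
    (f g : ∀ j, A j ⟶ B j) :
    Limits.Sigma.map (fun j => f j + g j) = Limits.Sigma.map f + Limits.Sigma.map g := by
  apply Sigma.hom_ext
  intro j
  simp

theorem sigma_map_zero {J : Type*} (A B : J → D) [HasCoproduct A] [HasCoproduct B] :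
    Limits.Sigma.map (fun j => (0 : A j ⟶ B j)) = 0 := by
  apply Sigma.hom_ext
  intro j
  simp

end General

section ShiftFactor

variable [HasColimitsOfShape (Discrete ℕ) D] {ι : Type v} (E : ι → D)

/-- The factorisation hypothesis for the generators implies it for their shifts. -/
theorem factor_shift
    (h2 : ∀ (X : ℕ → D) (i : ι) (α : E i ⟶ ∐ X), ∃ (j : ℕ → ι) (β : ∀ n, E (j n) ⟶ X n)
      (γ : E i ⟶ ∐ (fun n => E (j n))), α = γ ≫ Limits.Sigma.map β)
    (m : ℤ) (X : ℕ → D) (i : ι) (α : (shiftFunctor D m).obj (E i) ⟶ ∐ X) :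
    ∃ (j : ℕ → ι) (β : ∀ n, (shiftFunctor D m).obj (E (j n)) ⟶ X n)
      (γ : (shiftFunctor D m).obj (E i) ⟶ ∐ (fun n => (shiftFunctor D m).obj (E (j n)))),
      α = γ ≫ Limits.Sigma.map β := by
  let adj : shiftFunctor D m ⊣ shiftFunctor D (-m) := (shiftEquiv D m).toAdjunction
  let F := shiftFunctor D (-m)
  let F' := shiftFunctor D m
  obtain ⟨j, β, γ, h⟩ := h2 (fun n => F.obj (X n)) i
    (adj.homEquiv _ _ α ≫ inv (sigmaComparison F X))
  refine ⟨j, fun n => (adj.homEquiv _ _).symm (β n),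
    F'.map γ ≫ inv (sigmaComparison F' (fun n => E (j n))), ?_⟩
  apply (adj.homEquiv _ _).injective
  rw [Category.assoc, adj.homEquiv_naturality_left]
  have h' : adj.homEquiv _ _ α = γ ≫ Limits.Sigma.map β ≫ sigmaComparison F X := by
    rw [← Category.assoc, ← h, Category.assoc, IsIso.inv_hom_id, Category.comp_id]
  rw [h']
  congr 1
  apply Sigma.hom_ext
  intro n
  rw [Sigma.ι_map_assoc, ι_comp_sigmaComparison, ← adj.homEquiv_naturality_left,
    ← ι_comp_sigmaComparison F' (fun n => E (j n)) n, Category.assoc, IsIso.hom_inv_id_assoc,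
    Sigma.ι_map, adj.homEquiv_naturality_right, Equiv.apply_symm_apply]

end ShiftFactor

section ConstTower

variable [HasColimitsOfShape (Discrete ℕ) D] (Z : D)

/-- The countable coproduct of copies of `Z`. -/
noncomputable abbrev QQ : D := ∐ (fun _ : ℕ => Z)

/-- `1 - shift` on the constant tower. -/
noncomputable abbrev φQ : QQ Z ⟶ QQ Z := Hocolim.φ (fun _ : ℕ => Z) (fun _ => 𝟙 Z)

/-- The retraction of `1 - shift` on the constant tower. -/
noncomputable def rQ : QQ Z ⟶ QQ Z :=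
  Sigma.desc (fun n => -∑ m ∈ Finset.range n, Sigma.ι (fun _ : ℕ => Z) m)

/-- The codiagonal. -/
noncomputable def codiag : QQ Z ⟶ Z := Sigma.desc (fun _ => 𝟙 Z)

theorem ι_φQ (n : ℕ) : Sigma.ι (fun _ : ℕ => Z) n ≫ φQ Z =
    Sigma.ι (fun _ : ℕ => Z) n - Sigma.ι (fun _ : ℕ => Z) (n + 1) := by
  rw [Hocolim.ι_φ, Category.id_comp]

theorem φQ_rQ : φQ Z ≫ rQ Z = 𝟙 _ := by
  apply Sigma.hom_ext
  intro n
  rw [← Category.assoc, ι_φQ, Preadditive.sub_comp, rQ, Sigma.ι_desc, Sigma.ι_desc,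
    Finset.sum_range_succ, Category.comp_id]
  abel

theorem rQ_φQ : rQ Z ≫ φQ Z + codiag Z ≫ Sigma.ι (fun _ : ℕ => Z) 0 = 𝟙 _ := by
  apply Sigma.hom_ext
  intro n
  rw [Preadditive.comp_add, ← Category.assoc, ← Category.assoc, rQ, codiag, Sigma.ι_desc,
    Sigma.ι_desc, Category.id_comp, Category.comp_id, Preadditive.neg_comp, Preadditive.sum_comp]
  have : ∑ m ∈ Finset.range n, Sigma.ι (fun _ : ℕ => Z) m ≫ φQ Z =
      Sigma.ι (fun _ : ℕ => Z) 0 - Sigma.ι (fun _ : ℕ => Z) n := by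
    induction n with
    | zero => simp
    | succ n ih => rw [Finset.sum_range_succ, ih, ι_φQ]; abel
  rw [this]
  abel

theorem φQ_codiag : φQ Z ≫ codiag Z = 0 := by
  apply Sigma.hom_ext
  intro n
  rw [← Category.assoc, ι_φQ, Preadditive.sub_comp, codiag, Sigma.ι_desc, Sigma.ι_desc, sub_self,
    comp_zero]

end ConstTower

section Tower

variable (H : Dᵒᵖ ⥤ AddCommGrpCat.{v}) [H.IsHomological] [HasCoproducts.{v} D]
  [∀ (κ : Type v), PreservesLimitsOfShape (Discrete κ) H]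
  {ι : Type v} (E : ι → D) (V : D) (η : H.obj (op V))
  [HasColimitsOfShape (Discrete ℕ) D] [PreservesLimitsOfShape (Discrete ℕ) H]

lemma ev_add_left {W W' : D} (a b : W ⟶ W') (x : H.obj (op W')) :
    ev H (a + b) x = ev H a x + ev H b x := by
  simp [ev, Functor.map_add]

/-- The sources of the killing maps. -/
noncomputable abbrev YY (n : ℕ) : D := Y H E (stage H E V η n)

/-- The killing maps. -/
noncomputable abbrev kk (n : ℕ) : YY H E V η n ⟶ KK H E V η n := y H E (stage H E V η n)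

/-- The transition maps from the initial stage. -/
noncomputable abbrev tt (n : ℕ) : KK H E V η 0 ⟶ KK H E V η n :=
  Hocolim.tr (KK H E V η) (ff H E V η) (Nat.zero_le n)

/-- Shifted generators. -/
abbrev GG (i : ι) (m : ℤ) : D := (shiftFunctor D m).obj (E i)

lemma ev_tr {m n : ℕ} (h : m ≤ n) :
    ev H (Hocolim.tr (KK H E V η) (ff H E V η) h) (ξξ H E V η n) = ξξ H E V η m := by
  induction n, h using Nat.le_induction with
  | base => rw [Hocolim.tr_refl, ev_id]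
  | succ n h ih =>
    rw [← Hocolim.tr_trans _ _ h (Nat.le_succ n), Hocolim.tr_succ, ev_comp, ev_ff, ih]

lemma ev_tt (n : ℕ) : ev H (tt H E V η n) (ξξ H E V η n) = ξξ H E V η 0 := ev_tr H E V η _

lemma ev_kk (n : ℕ) : ev H (kk H E V η n) (ξξ H E V η n) = 0 := ev_y H E _

lemma tt_zero : tt H E V η 0 = 𝟙 _ := Hocolim.tr_refl _ _ 0

lemma tt_succ (n : ℕ) : tt H E V η n ≫ ff H E V η n = tt H E V η (n + 1) := by
  rw [← Hocolim.tr_succ (KK H E V η) (ff H E V η) n, Hocolim.tr_trans]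

lemma kk_tt_succ (n : ℕ) : kk H E V η 0 ≫ tt H E V η (n + 1) = 0 := by
  have : tt H E V η (n + 1) = ff H E V η 0 ≫
      Hocolim.tr (KK H E V η) (ff H E V η) (Nat.succ_le_succ (Nat.zero_le n)) := by
    rw [← Hocolim.tr_succ (KK H E V η) (ff H E V η) 0, Hocolim.tr_trans]
  rw [this, ← Category.assoc, y_ff, zero_comp]

/-- `K = ∐ k_n`. -/
noncomputable abbrev KM : ∐ (YY H E V η) ⟶ ∐ (KK H E V η) := Limits.Sigma.map (kk H E V η)

/-- `T = ∐ t_n`. -/
noncomputable abbrev TM : QQ (KK H E V η 0) ⟶ ∐ (KK H E V η) := Limits.Sigma.map (tt H E V η)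

/-- `K₀ = ∐ k_0`. -/
noncomputable abbrev KM0 : QQ (YY H E V η 0) ⟶ QQ (KK H E V η 0) :=
  Limits.Sigma.map (fun _ : ℕ => kk H E V η 0)

/-- `1 - shift` on the tower. -/
noncomputable abbrev φφ : ∐ (KK H E V η) ⟶ ∐ (KK H E V η) := Hocolim.φ (KK H E V η) (ff H E V η)

lemma KM_φ : KM H E V η ≫ φφ H E V η = KM H E V η := by
  apply Sigma.hom_ext
  intro n
  rw [Sigma.ι_map_assoc, Hocolim.ι_φ, Preadditive.comp_sub, ← Category.assoc (kk H E V η n), y_ff,
    zero_comp, sub_zero, Sigma.ι_map]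

lemma TM_φ : TM H E V η ≫ φφ H E V η = φQ (KK H E V η 0) ≫ TM H E V η := by
  apply Sigma.hom_ext
  intro n
  rw [Sigma.ι_map_assoc, Hocolim.ι_φ, ← Category.assoc, ι_φQ, Preadditive.sub_comp,
    Preadditive.comp_sub, Sigma.ι_map, Sigma.ι_map, ← Category.assoc, tt_succ]

/-- The correction map. -/
noncomputable def νν : QQ (YY H E V η 0) ⟶ ∐ (YY H E V η) :=
  Sigma.desc (fun n => if n = 0 then 0 else -Sigma.ι (YY H E V η) 0)

lemma KM0_r_TM : KM0 H E V η ≫ rQ (KK H E V η 0) ≫ TM H E V η = νν H E V η ≫ KM H E V η := by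
  apply Sigma.hom_ext
  intro n
  rw [Sigma.ι_map_assoc, rQ, Sigma.ι_desc_assoc, νν, Sigma.ι_desc_assoc, Preadditive.neg_comp,
    Preadditive.comp_neg, Preadditive.sum_comp, Preadditive.comp_sum]
  cases n with
  | zero => simp
  | succ n =>
    rw [Finset.sum_range_succ', if_neg (Nat.succ_ne_zero n), Preadditive.neg_comp, Sigma.ι_map]
    have : ∑ m ∈ Finset.range n, kk H E V η 0 ≫ Sigma.ι (fun _ : ℕ => KK H E V η 0) (m + 1) ≫
        TM H E V η = 0 := by
      apply Finset.sum_eq_zero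
      intro m _
      rw [Sigma.ι_map, ← Category.assoc, kk_tt_succ, zero_comp]
    rw [this, zero_add, Sigma.ι_map, tt_zero, Category.id_comp]

end Tower

section Claims

variable (H : Dᵒᵖ ⥤ AddCommGrpCat.{v}) [H.IsHomological] [HasCoproducts.{v} D]
  [∀ (κ : Type v), PreservesLimitsOfShape (Discrete κ) H]
  {ι : Type v} (E : ι → D) (V : D) (η : H.obj (op V))
  [HasColimitsOfShape (Discrete ℕ) D] [PreservesLimitsOfShape (Discrete ℕ) H]
  (h2' : ∀ (m : ℤ) (X : ℕ → D) (i : ι) (α : GG E i m ⟶ ∐ X),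
    ∃ (j : ℕ → ι) (β : ∀ n, GG E (j n) m ⟶ X n)
      (γ : GG E i m ⟶ ∐ (fun n => GG E (j n) m)), α = γ ≫ Limits.Sigma.map β)

include h2' in
lemma decomp (i : ι) (m : ℤ) (u : GG E i m ⟶ ∐ (KK H E V η)) :
    ∃ (a₁ : GG E i m ⟶ ∐ (YY H E V η)) (a₂ : GG E i m ⟶ QQ (KK H E V η 0)),
      u = a₁ ≫ KM H E V η + a₂ ≫ TM H E V η := by
  obtain ⟨j, β, γ, rfl⟩ := h2' m (KK H E V η) i u
  have hb : ∀ n, ∃ b : GG E (j n) m ⟶ KK H E V η 0,
      ev H b (ξξ H E V η 0) = ev H (β n) (ξξ H E V η n) := fun n =>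
    exists_lift0 H E V η (j n) m _
  choose b hb using hb
  have hα : ∀ n, ∃ α : GG E (j n) m ⟶ YY H E V η n,
      α ≫ kk H E V η n = β n - b n ≫ tt H E V η n := fun n => by
    apply exists_liftY H E V η n (j n) m
    rw [ev_sub_left, ev_comp, ev_tt, hb, sub_self]
  choose α hα using hα
  refine ⟨γ ≫ Limits.Sigma.map α, γ ≫ Limits.Sigma.map b, ?_⟩
  rw [Category.assoc, Category.assoc, Sigma.map_comp_map, Sigma.map_comp_map,
    ← Preadditive.comp_add, ← sigma_map_add]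
  congr 2
  funext n
  rw [hα n]
  abel

include h2' in
lemma star (i : ι) (m : ℤ) (a₁ : GG E i m ⟶ ∐ (YY H E V η)) (β' : GG E i m ⟶ QQ (KK H E V η 0))
    (h : a₁ ≫ KM H E V η + β' ≫ TM H E V η = 0) :
    ∃ d : GG E i m ⟶ QQ (YY H E V η 0), β' = d ≫ KM0 H E V η := by
  let A : ℕ → D := fun n => YY H E V η n ⊞ KK H E V η 0
  let c : ∀ n, A n ⟶ KK H E V η n := fun n => biprod.desc (kk H E V η n) (tt H E V η n)
  have hW : ∀ n, ∃ (W : D) (ω : W ⟶ A n) (d : KK H E V η n ⟶ W⟦(1 : ℤ)⟧),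
      Triangle.mk ω (c n) d ∈ distTriang D := fun n => distinguished_cocone_triangle₁ (c n)
  choose W ω dd hdd using hW
  let w' : GG E i m ⟶ ∐ A :=
    a₁ ≫ Limits.Sigma.map (fun n => (biprod.inl : YY H E V η n ⟶ A n)) +
      β' ≫ Limits.Sigma.map (fun n => (biprod.inr : KK H E V η 0 ⟶ A n))
  have hw' : w' ≫ Limits.Sigma.map c = 0 := by
    dsimp only [w']
    rw [Preadditive.add_comp, Category.assoc, Category.assoc, Sigma.map_comp_map,
      Sigma.map_comp_map]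
    simp only [c, biprod.inl_desc, biprod.inr_desc]
    exact h
  obtain ⟨w'', hw''⟩ := ct_factor W A (KK H E V η) ω c (fun n => ⟨dd n, hdd n⟩) w' hw'
  obtain ⟨j, β, γ, hγ⟩ := h2' m W i w''
  have hθ : ∀ n, ∃ θ : GG E (j n) m ⟶ YY H E V η 0,
      θ ≫ kk H E V η 0 = (β n ≫ ω n) ≫ biprod.snd := fun n => by
    apply exists_liftY H E V η 0 (j n) m
    have h0 : (β n ≫ ω n) ≫ c n = 0 := by
      have hz : ω n ≫ c n = 0 := comp_distTriang_mor_zero₁₂ _ (hdd n)
      rw [Category.assoc, hz, comp_zero]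
    have h1 : ((β n ≫ ω n) ≫ biprod.fst) ≫ kk H E V η n +
        ((β n ≫ ω n) ≫ biprod.snd) ≫ tt H E V η n = 0 := by
      rw [← h0]
      have : (β n ≫ ω n) = (β n ≫ ω n) ≫ (biprod.fst ≫ biprod.inl + biprod.snd ≫ biprod.inr) := by
        rw [biprod.total, Category.comp_id]
      conv_rhs => rw [this]
      simp only [c, Preadditive.comp_add, Preadditive.add_comp, Category.assoc, biprod.inl_desc,
        biprod.inr_desc]
    have h2 := congrArg (fun t => ev H t (ξξ H E V η n)) h1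
    simp only [ev_add_left, ev_comp, ev_kk, ev_zero, ev_tt, ev_zero_left, zero_add] at h2
    simp only [ev_comp]
    exact h2
  choose θ hθ using hθ
  refine ⟨γ ≫ Limits.Sigma.map θ, ?_⟩
  have h3 : w' ≫ Limits.Sigma.map (fun n => (biprod.snd : A n ⟶ KK H E V η 0)) = β' := by
    dsimp only [w']
    rw [Preadditive.add_comp, Category.assoc, Category.assoc, Sigma.map_comp_map,
      Sigma.map_comp_map]
    simp only [biprod.inl_snd, biprod.inr_snd]
    rw [sigma_map_zero, comp_zero, zero_add]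
    have : Limits.Sigma.map (fun _ : ℕ => 𝟙 (KK H E V η 0)) = 𝟙 _ := by
      apply Sigma.hom_ext; intro n; simp
    rw [this, Category.comp_id]
  rw [← h3, hw'', hγ, Category.assoc, Category.assoc, Category.assoc, Sigma.map_comp_map,
    Sigma.map_comp_map, Sigma.map_comp_map]
  congr 2
  funext n
  rw [hθ n, Category.assoc]

include h2' in
theorem claimI (i : ι) (m : ℤ) (u : GG E i m ⟶ ∐ (KK H E V η)) (hu : u ≫ φφ H E V η = 0) :
    u = 0 := by
  obtain ⟨a₁, a₂, rfl⟩ := decomp H E V η h2' i m u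
  have h : a₁ ≫ KM H E V η + (a₂ ≫ φQ (KK H E V η 0)) ≫ TM H E V η = 0 := by
    rw [Preadditive.add_comp, Category.assoc, KM_φ, Category.assoc, TM_φ] at hu
    rw [Category.assoc]
    exact hu
  obtain ⟨d, hd⟩ := star H E V η h2' i m a₁ _ h
  have ha₂ : a₂ = d ≫ KM0 H E V η ≫ rQ (KK H E V η 0) := by
    rw [← Category.assoc, ← hd, Category.assoc, φQ_rQ, Category.comp_id]
  have h1 : a₁ ≫ KM H E V η + a₂ ≫ TM H E V η = (a₁ + d ≫ νν H E V η) ≫ KM H E V η := by
    rw [Preadditive.add_comp, Category.assoc, ← KM0_r_TM, ha₂]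
    simp only [Category.assoc]
  calc a₁ ≫ KM H E V η + a₂ ≫ TM H E V η
      = ((a₁ + d ≫ νν H E V η) ≫ KM H E V η) ≫ φφ H E V η := by
        rw [Category.assoc, KM_φ, h1]
    _ = 0 := by rw [← h1, hu]

include h2' in
theorem claimII (i : ι) (m : ℤ) (a' : GG E i m ⟶ ∐ (KK H E V η))
    (Ξ : H.obj (op (∐ (KK H E V η))))
    (hΞ : ∀ n, ev H (Sigma.ι (KK H E V η) n) Ξ = ξξ H E V η n)
    (hφΞ : ev H (φφ H E V η) Ξ = 0) (ha' : ev H a' Ξ = 0) :
    ∃ b : GG E i m ⟶ ∐ (KK H E V η), a' = b ≫ φφ H E V η := by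
  obtain ⟨a₁, a₂, rfl⟩ := decomp H E V η h2' i m a'
  let b₀ : GG E i m ⟶ KK H E V η 0 := a₂ ≫ codiag (KK H E V η 0)
  have hι0 : Sigma.ι (fun _ : ℕ => KK H E V η 0) 0 ≫ TM H E V η = Sigma.ι (KK H E V η) 0 := by
    rw [Sigma.ι_map, tt_zero, Category.id_comp]
  have h1 : a₂ ≫ TM H E V η = (a₂ ≫ rQ (KK H E V η 0) ≫ TM H E V η) ≫ φφ H E V η +
      b₀ ≫ Sigma.ι (KK H E V η) 0 := by
    conv_lhs => rw [← Category.comp_id a₂, ← rQ_φQ (KK H E V η 0)]
    simp only [Preadditive.comp_add, Preadditive.add_comp, Category.assoc, TM_φ, hι0, b₀]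
  have h2 : ev H (b₀ ≫ Sigma.ι (KK H E V η) 0) Ξ = 0 := by
    have h3 : a₁ ≫ KM H E V η = (a₁ ≫ KM H E V η) ≫ φφ H E V η := by
      rw [Category.assoc, KM_φ]
    rw [h1, h3, ev_add_left, ev_add_left, ev_comp, hφΞ, ev_zero, ev_comp _ _ (φφ H E V η), hφΞ,
      ev_zero, zero_add, zero_add] at ha'
    exact ha'
  rw [ev_comp, hΞ] at h2
  obtain ⟨b₀', hb₀'⟩ := exists_liftY H E V η 0 i m b₀ h2
  refine ⟨a₁ ≫ KM H E V η + a₂ ≫ rQ (KK H E V η 0) ≫ TM H E V η +
    b₀' ≫ Sigma.ι (YY H E V η) 0 ≫ KM H E V η, ?_⟩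
  rw [Preadditive.add_comp, Preadditive.add_comp, h1]
  simp only [Category.assoc, KM_φ]
  rw [Sigma.ι_map, ← Category.assoc b₀', hb₀']
  abel

end Claims

section Rep

variable (H : Dᵒᵖ ⥤ AddCommGrpCat.{v}) [H.IsHomological] [HasCoproducts.{v} D]
  [∀ (κ : Type v), PreservesLimitsOfShape (Discrete κ) H]
  {ι : Type v} (E : ι → D) (V : D) (η : H.obj (op V))
  [HasColimitsOfShape (Discrete ℕ) D] [PreservesLimitsOfShape (Discrete ℕ) H]
  (h2' : ∀ (m : ℤ) (X : ℕ → D) (i : ι) (α : GG E i m ⟶ ∐ X),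
    ∃ (j : ℕ → ι) (β : ∀ n, GG E (j n) m ⟶ X n)
      (γ : GG E i m ⟶ ∐ (fun n => GG E (j n) m)), α = γ ≫ Limits.Sigma.map β)

include h2' in
theorem exists_rep' : Nonempty (Rep H E V η) := by
  obtain ⟨L, q, c, hT⟩ := distinguished_cocone_triangle (φφ H E V η)
  -- the element on the coproduct
  obtain ⟨Ξ, hΞ, hΞu⟩ := existsUnique_of_coproduct H (KK H E V η) (ξξ H E V η)
  have h0 : ev H (φφ H E V η) Ξ = 0 := by
    obtain ⟨_, _, hu⟩ := existsUnique_of_coproduct H (KK H E V η) (fun _ => 0)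
    rw [hu (ev H (φφ H E V η) Ξ) (fun n => by
      rw [← ev_comp, Hocolim.ι_φ, ev_sub_left, ev_comp, hΞ, hΞ, ev_ff, sub_self]),
      hu 0 (fun n => ev_zero H _)]
  obtain ⟨ξ, hξ⟩ : ∃ ξ : H.obj (op L), ev H q ξ = Ξ := exact_ev H _ hT Ξ h0
  have hiξ : ∀ n, ev H (Sigma.ι (KK H E V η) n ≫ q) ξ = ξξ H E V η n := fun n => by
    rw [ev_comp, hξ, hΞ]
  obtain ⟨v0, hv0⟩ := exists_v0 H E V η
  refine ⟨⟨L, ξ, v0 ≫ Sigma.ι (KK H E V η) 0 ≫ q, ?_, ?_, ?_⟩⟩
  · rw [ev_comp, hiξ, hv0]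
  · intro i m x
    obtain ⟨b0, hb0⟩ := exists_lift0 H E V η i m x
    exact ⟨b0 ≫ Sigma.ι (KK H E V η) 0 ≫ q, by rw [ev_comp, hiξ, hb0]⟩
  · intro i m a ha
    -- step 1: `a ≫ c = 0`
    have h1 : a ≫ c = 0 := by
      let e : (shiftFunctor D (1 : ℤ)).obj ((shiftFunctor D (m - 1)).obj (E i)) ≅
          (shiftFunctor D m).obj (E i) :=
        ((shiftFunctorAdd' D (m - 1) 1 m (by ring)).app (E i)).symm
      obtain ⟨γ, hγ⟩ := (shiftFunctor D (1 : ℤ)).map_surjective (e.hom ≫ a ≫ c)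
      have h2 : γ ≫ φφ H E V η = 0 := by
        apply (shiftFunctor D (1 : ℤ)).map_injective
        rw [Functor.map_comp, hγ, Functor.map_zero, Category.assoc, Category.assoc]
        have : c ≫ (shiftFunctor D (1 : ℤ)).map (φφ H E V η) = 0 :=
          comp_distTriang_mor_zero₃₁ _ hT
        rw [this, comp_zero, comp_zero]
      have h3 : γ = 0 := claimI H E V η h2' i (m - 1) γ h2
      rw [h3, Functor.map_zero] at hγ
      rw [← cancel_epi e.hom, ← hγ, comp_zero]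
    -- step 2
    obtain ⟨a', ha'⟩ : ∃ a' : GG E i m ⟶ ∐ (KK H E V η), a = a' ≫ q :=
      Triangle.coyoneda_exact₃ _ hT a h1
    have h4 : ev H a' Ξ = 0 := by
      rw [← hξ, ← ev_comp, ← ha']
      exact ha
    obtain ⟨b, hb⟩ := claimII H E V η h2' i m a' Ξ hΞ h0 h4
    have h5 : φφ H E V η ≫ q = 0 := comp_distTriang_mor_zero₁₂ _ hT
    rw [ha', hb, Category.assoc, h5, comp_zero]

end Rep

section Main

variable (H : Dᵒᵖ ⥤ AddCommGrpCat.{v}) [H.IsHomological] [HasCoproducts.{v} D]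
  [∀ (κ : Type v), PreservesLimitsOfShape (Discrete κ) H]
  {ι : Type v} (E : ι → D)
  [HasColimitsOfShape (Discrete ℕ) D] [PreservesLimitsOfShape (Discrete ℕ) H]

variable {H E} in
lemma surj_of_rep' (hrep : ∀ (V : D) (η : H.obj (op V)), Nonempty (Rep H E V η)) (hg : Generates E)
    (R : Rep H E (0 : D) 0) (W : D) (η : H.obj (op W)) : ∃ a : W ⟶ R.X, ev H a R.ξ = η := by
  obtain ⟨Θ, hΘ, -⟩ := existsUnique_of_coproduct H (obj2 R.X W) (elt2 H R.ξ η)
  obtain ⟨R'⟩ := hrep (∐ obj2 R.X W) Θ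
  let j : R.X ⟶ R'.X := Sigma.ι (obj2 R.X W) ⟨true⟩ ≫ R'.v
  let w : W ⟶ R'.X := Sigma.ι (obj2 R.X W) ⟨false⟩ ≫ R'.v
  have hj : ev H j R'.ξ = R.ξ := by
    change ev H (Sigma.ι (obj2 R.X W) ⟨true⟩ ≫ R'.v) R'.ξ = R.ξ
    rw [ev_comp, R'.ev_v]
    exact hΘ ⟨true⟩
  have hw : ev H w R'.ξ = η := by
    change ev H (Sigma.ι (obj2 R.X W) ⟨false⟩ ≫ R'.v) R'.ξ = η
    rw [ev_comp, R'.ev_v]
    exact hΘ ⟨false⟩
  have : IsIso j := by
    apply isIso_of_generators E hg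
    · intro i m γ hγ
      apply R.inj
      rw [← hj, ← ev_comp, hγ, ev_zero_left]
    · intro i m b
      obtain ⟨a, ha⟩ := R.surj i m (ev H b R'.ξ)
      refine ⟨a, ?_⟩
      rw [← sub_eq_zero]
      apply R'.inj
      rw [ev_sub_left, ev_comp, hj, ha, sub_self]
  refine ⟨w ≫ inv j, ?_⟩
  have h1 : ev H (inv j) R.ξ = R'.ξ := by
    rw [← hj, ← ev_comp, IsIso.inv_hom_id, ev_id]
  rw [ev_comp, h1, hw]

variable {H E} in
lemma inj_of_rep' (hrep : ∀ (V : D) (η : H.obj (op V)), Nonempty (Rep H E V η)) (hg : Generates E)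
    (R : Rep H E (0 : D) 0) (W : D) (a : W ⟶ R.X) (ha : ev H a R.ξ = 0) : a = 0 := by
  obtain ⟨C, b, c', hT⟩ := distinguished_cocone_triangle a
  obtain ⟨ζ, hζ⟩ : ∃ ζ : H.obj (op C), ev H b ζ = R.ξ := exact_ev H _ hT R.ξ ha
  obtain ⟨c, hc'⟩ := surj_of_rep' hrep hg R C ζ
  have he : ev H (b ≫ c) R.ξ = R.ξ := by rw [ev_comp, hc', hζ]
  have : IsIso (b ≫ c) := by
    apply isIso_of_generators E hg
    · intro i m γ hγ
      apply R.inj
      rw [← he, ← ev_comp, hγ, ev_zero_left]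
    · intro i m g
      refine ⟨g, ?_⟩
      rw [← sub_eq_zero]
      apply R.inj
      rw [ev_sub_left, ev_comp H g, he, sub_self]
  have hab : a ≫ b = 0 := comp_distTriang_mor_zero₁₂ _ hT
  rw [← cancel_mono (b ≫ c), zero_comp, reassoc_of% hab, zero_comp]

include E in
theorem representable' (hrep : ∀ (V : D) (η : H.obj (op V)), Nonempty (Rep H E V η))
    (hg : Generates E) : (H ⋙ forget AddCommGrpCat.{v}).IsRepresentable := by
  obtain ⟨R⟩ := hrep (0 : D) 0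
  refine ⟨⟨R.X, ⟨{
    homEquiv := fun {W} => Equiv.ofBijective (fun a : W ⟶ R.X => ev H a R.ξ) ⟨?_, ?_⟩
    homEquiv_comp := ?_ }⟩⟩⟩
  · intro a a' h
    rw [← sub_eq_zero]
    apply inj_of_rep' hrep hg R
    rw [ev_sub_left]
    exact sub_eq_zero.2 h
  · intro η
    exact surj_of_rep' hrep hg R W η
  · intro W W' f g
    exact ev_comp H f g R.ξ

omit [HasCoproducts.{v} D] [HasColimitsOfShape (Discrete ℕ) D] in
theorem generates_of_detects
    (h1 : ∀ X : D, ¬ IsZero X → ∃ (i : ι) (f : E i ⟶ X), f ≠ 0) : Generates E := by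
  intro K hK
  by_contra hK0
  obtain ⟨i, f, hf⟩ := h1 K hK0
  apply hf
  have := hK i 0 (f ≫ ((shiftFunctorZero D ℤ).app K).inv)
  rw [← cancel_mono ((shiftFunctorZero D ℤ).app K).inv, this, zero_comp]

include E in
/-- Brown representability for perfectly generated triangulated categories. -/
theorem brown_bis
    (h1 : ∀ X : D, ¬ IsZero X → ∃ (i : ι) (f : E i ⟶ X), f ≠ 0)
    (h2 : ∀ (X : ℕ → D) (i : ι) (α : E i ⟶ ∐ X), ∃ (j : ℕ → ι) (β : ∀ n, E (j n) ⟶ X n)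
      (γ : E i ⟶ ∐ (fun n => E (j n))), α = γ ≫ Limits.Sigma.map β) :
    (H ⋙ forget AddCommGrpCat.{v}).IsRepresentable :=
  representable' H E (fun V η => exists_rep' H E V η (fun m X i α => factor_shift E h2 m X i α))
    (generates_of_detects E h1)

end Main

end Groth.Agent.Helper9.BrownBis
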