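import Mathlib

/-! Representability descends along a reflective localization:
if `L ⊣ R` with invertible counit and `L.op ⋙ H` is representable, then `H` is representable. -/

set_option autoImplicit false

namespace Groth.Agent.Helper9.LocRep
open CategoryTheory Limits Opposite

universe w v₁ v₂ u₁ u₂
variable {T : Type u₁} [Category.{v₁} T] {S : Type u₂} [Category.{v₂} S]
  {L : T ⥤ S} {R : S ⥤ T} (adj : L ⊣ R) [IsIso adj.counit]

include adj in
/-- `L` applied to a unit is invertible when the counit is. -/
lemma isIso_map_unit (W : T) : IsIso (L.map (adj.unit.app W)) := by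
  have h : L.map (adj.unit.app W) ≫ adj.counit.app (L.obj W) = 𝟙 _ := adj.left_triangle_components W
  haveI : IsIso (L.map (adj.unit.app W) ≫ adj.counit.app (L.obj W)) := by rw [h]; infer_instance
  exact IsIso.of_isIso_comp_right _ (adj.counit.app (L.obj W))

include adj in
theorem isRepresentable (H : Sᵒᵖ ⥤ Type w) (h : (L.op ⋙ H).IsRepresentable) :
    H.IsRepresentable := by
  obtain ⟨Y, ⟨e⟩⟩ := h
  have hη : ∀ W : T, IsIso (L.map (adj.unit.app W)) := isIso_map_unit adj
  -- Step 1: maps to `Y` extend uniquely along units
  have h1 : ∀ W : T, Function.Bijective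
      (fun g : R.obj (L.obj W) ⟶ Y => adj.unit.app W ≫ g) := by
    intro W
    have hb : Function.Bijective (H.map (L.map (adj.unit.app W)).op) := by
      haveI := hη W
      rw [← isIso_iff_bijective]
      infer_instance
    have : (fun g : R.obj (L.obj W) ⟶ Y => adj.unit.app W ≫ g) =
        e.homEquiv.symm ∘ (H.map (L.map (adj.unit.app W)).op) ∘ e.homEquiv := by
      funext g
      simp only [Function.comp]
      rw [Equiv.eq_symm_apply]
      exact e.homEquiv_comp _ _
    rw [this]
    exact e.homEquiv.symm.bijective.comp (hb.comp e.homEquiv.bijective)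
  -- Step 2: the unit at `Y` is invertible
  have h2 : IsIso (adj.unit.app Y) := by
    obtain ⟨r, hr⟩ := (h1 Y).surjective (𝟙 Y)
    dsimp only at hr
    refine ⟨r, hr, ?_⟩
    have hinj : Function.Injective
        (fun g : R.obj (L.obj Y) ⟶ R.obj (L.obj Y) => adj.unit.app Y ≫ g) := by
      intro g₁ g₂ hg
      dsimp only at hg
      have hg' := congr_arg (adj.homEquiv _ _).symm hg
      rw [Adjunction.homEquiv_naturality_left_symm, Adjunction.homEquiv_naturality_left_symm] at hg'
      haveI := hη Y
      exact (adj.homEquiv _ _).symm.injective ((cancel_epi _).1 hg')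
    apply hinj
    dsimp only
    rw [← Category.assoc, hr]
    simp
  -- Step 3
  let u : H.obj (op (L.obj Y)) := e.homEquiv (𝟙 Y)
  have hu : ∀ {W : T} (g : W ⟶ Y), e.homEquiv g = H.map (L.map g).op u := fun g => by
    have := e.homEquiv_comp g (𝟙 Y)
    rwa [Category.comp_id] at this
  have hL : ∀ W : T, Function.Bijective (fun g : W ⟶ Y => L.map g) := by
    intro W
    have : (fun g : W ⟶ Y => L.map g) =
        (adj.homEquiv W (L.obj Y)).symm ∘ (fun g : W ⟶ Y => g ≫ adj.unit.app Y) := by
      funext g
      simp only [Function.comp]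
      rw [Adjunction.homEquiv_symm_apply, Functor.map_comp, Category.assoc,
        adj.left_triangle_components, Category.comp_id]
    rw [this]
    refine (adj.homEquiv W (L.obj Y)).symm.bijective.comp ?_
    exact ⟨fun a b hab => (cancel_mono (adj.unit.app Y)).1 hab,
      fun b => ⟨b ≫ inv (adj.unit.app Y), by simp⟩⟩
  have hΦL : ∀ W : T, Function.Bijective
      (fun f : L.obj W ⟶ L.obj Y => H.map f.op u) := by
    intro W
    have : (fun f : L.obj W ⟶ L.obj Y => H.map f.op u) =
        e.homEquiv ∘ (Equiv.ofBijective _ (hL W)).symm := by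
      funext f
      obtain ⟨g, rfl⟩ := (hL W).surjective f
      simp only [Function.comp]
      have : (Equiv.ofBijective _ (hL W)).symm (L.map g) = g :=
        (Equiv.ofBijective _ (hL W)).symm_apply_apply g
      rw [this, hu]
    rw [this]
    exact e.homEquiv.bijective.comp (Equiv.bijective _)
  have hΦ : ∀ X : S, Function.Bijective (fun f : X ⟶ L.obj Y => H.map f.op u) := by
    intro X
    have hb : Function.Bijective (H.map (inv (adj.counit.app X)).op) := by
      rw [← isIso_iff_bijective]
      infer_instance
    have : (fun f : X ⟶ L.obj Y => H.map f.op u) =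
        (H.map (inv (adj.counit.app X)).op) ∘
          (fun f : L.obj (R.obj X) ⟶ L.obj Y => H.map f.op u) ∘
            (fun f : X ⟶ L.obj Y => adj.counit.app X ≫ f) := by
      funext f
      simp only [Function.comp]
      rw [← Functor.map_comp_apply, ← op_comp, IsIso.inv_hom_id_assoc]
    rw [this]
    refine hb.comp ((hΦL (R.obj X)).comp ?_)
    exact ⟨fun a b hab => (cancel_epi (adj.counit.app X)).1 hab,
      fun b => ⟨inv (adj.counit.app X) ≫ b, by simp⟩⟩
  exact ⟨L.obj Y, ⟨{
    homEquiv := fun {X} => Equiv.ofBijective _ (hΦ X)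
    homEquiv_comp := fun {X X'} f g => by
      change H.map (f ≫ g).op u = H.map f.op (H.map g.op u)
      rw [op_comp, Functor.map_comp_apply] }⟩⟩

end Groth.Agent.Helper9.LocRep
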