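import Mathlib
import Groth.Agent.Helper1.KInjDer
import Groth.Agent.Helper4.KDerAdj

/-! A derived category with small Hom-sets for a Grothendieck abelian category:
the localization of cochain complexes at quasi-isomorphisms realised on the full subcategory
of K-injective objects of the homotopy category. -/

set_option autoImplicit false

namespace Groth.Agent.Helper9.SmallDer
open CategoryTheory Limits
open Groth.Agent.Helper1 Groth.Agent.Helper4

universe v u
variable (B : Type u) [Category.{v} B] [Abelian B] [IsGrothendieckAbelian.{v} B]

section
attribute [local instance] HasDerivedCategory.standard

lemma essSurj_G : (KInjDer.G (A := B)).EssSurj := KInjDer.essSurj (A := B) KDerAdj.hKinj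

instance : (KInjDer.G (A := B)).IsEquivalence :=
  haveI := essSurj_G B
  { }

/-- the equivalence between K-injectives up to homotopy and the standard derived category -/
noncomputable def equiv : (KInjDer.P B).FullSubcategory ≌ DerivedCategory B :=
  (KInjDer.G (A := B)).asEquivalence

/-- the localization functor to K-injectives up to homotopy -/
noncomputable def L : CochainComplex B ℤ ⥤ (KInjDer.P B).FullSubcategory :=
  DerivedCategory.Q ⋙ (equiv B).inverse

instance : (L B).IsLocalization (HomologicalComplex.quasiIso B (ComplexShape.up ℤ)) :=
  Functor.IsLocalization.of_equivalence_target DerivedCategory.Q _ _ (equiv B).symm (Iso.refl _)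

end

/-- a derived category of a Grothendieck abelian category with Hom-sets in the universe of morphisms -/
@[instance_reducible]
noncomputable def hasDerivedCategory : HasDerivedCategory.{v} B where
  D := (KInjDer.P B).FullSubcategory
  L := L B

end Groth.Agent.Helper9.SmallDer
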