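import Mathlib
import Groth.Prelude.Def_CohDer
import Groth.Agent.S0473
import Groth.Agent.Helper4.KDerAdj
import Groth.Agent.Helper9.SmallDer
import Groth.Agent.Helper9.DModCpt
import Groth.Agent.Helper9.LocRep

/-! Brown representability for the derived category of a Grothendieck abelian category,
via the Gabriel–Popescu theorem: `D(A)` is a reflective localization of `D(Mod R)`. -/

set_option autoImplicit false

namespace Groth.Agent.Helper9.BrownGP
open CategoryTheory Limits IsGrothendieckAbelian
open Groth.Agent.Helper1 Groth.Agent.Helper4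

universe v u
variable {A : Type u} [Category.{v} A] [Abelian A] [IsGrothendieckAbelian.{v} A]
  [HasDerivedCategory.{v} A]

lemma hasRightDerivedFunctor {H : Type*} [Category H]
    (𝓕 : HomotopyCategory A (ComplexShape.up ℤ) ⥤ H) :
    𝓕.HasRightDerivedFunctor (HomotopyCategory.quasiIso A (ComplexShape.up ℤ)) := by
  haveI : 𝓕.HasPointwiseRightDerivedFunctor (HomotopyCategory.quasiIso A (ComplexShape.up ℤ)) :=
    (KDerAdj.derives 𝓕).hasPointwiseRightDerivedFunctor
  infer_instance

open CategoryTheory.Pretriangulated.Opposite in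
theorem representable
    (H : (DerivedCategory A)ᵒᵖ ⥤ AddCommGrpCat.{v}) [H.IsHomological]
    [∀ (ι : Type v), PreservesLimitsOfShape (Discrete ι) H] :
    (H ⋙ forget AddCommGrpCat.{v}).IsRepresentable := by
  let G : A := separator A
  have hG : IsSeparator G := isSeparator_separator A
  letI : HasDerivedCategory.{v} (ModuleCat.{v} (End G)ᵐᵒᵖ) := SmallDer.hasDerivedCategory _
  let F : ModuleCat.{v} (End G)ᵐᵒᵖ ⥤ A := tensorObj G
  let adj : F ⊣ preadditiveCoyonedaObj G := tensorObjPreadditiveCoyonedaObjAdjunction G
  haveI : F.Additive := adj.left_adjoint_additive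
  haveI : PreservesFiniteLimits F := GabrielPopescu.preservesFiniteLimits G hG
  haveI : PreservesFiniteColimits F := inferInstance
  haveI : (preadditiveCoyonedaObj G).Full := GabrielPopescu.full G hG
  haveI : (preadditiveCoyonedaObj G).Faithful :=
    (isSeparator_iff_faithful_preadditiveCoyonedaObj G).1 hG
  have hcounit : IsIso adj.counit := inferInstance
  haveI := hasRightDerivedFunctor
    ((preadditiveCoyonedaObj G).mapHomotopyCategory (ComplexShape.up ℤ) ⋙ DerivedCategory.Qh)
  let RG := ((preadditiveCoyonedaObj G).mapHomotopyCategory (ComplexShape.up ℤ) ⋙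
    DerivedCategory.Qh).totalRightDerived DerivedCategory.Qh
      (HomotopyCategory.quasiIso A (ComplexShape.up ℤ))
  let β := ((preadditiveCoyonedaObj G).mapHomotopyCategory (ComplexShape.up ℤ) ⋙
    DerivedCategory.Qh).totalRightDerivedUnit DerivedCategory.Qh
      (HomotopyCategory.quasiIso A (ComplexShape.up ℤ))
  let adjD : F.mapDerivedCategory ⊣ RG := KDerAdj.derivedAdj adj RG β
  haveI : IsIso adjD.counit := KDerAdj.isIso_counit adj RG β hcounit
  refine LocRep.isRepresentable adjD (H ⋙ forget AddCommGrpCat.{v}) ?_
  let H' : (DerivedCategory (ModuleCat.{v} (End G)ᵐᵒᵖ))ᵒᵖ ⥤ AddCommGrpCat.{v} :=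
    F.mapDerivedCategory.op ⋙ H
  haveI : H'.IsHomological := by
    dsimp only [H']
    infer_instance
  haveI : PreservesColimits F.mapDerivedCategory := adjD.leftAdjoint_preservesColimits
  haveI hP : ∀ (κ : Type v), PreservesLimitsOfShape (Discrete κ) H' := fun κ => by
    haveI : PreservesColimitsOfShape (Discrete κ)ᵒᵖ F.mapDerivedCategory :=
      preservesColimitsOfShape_of_equiv (Discrete.opposite κ).symm F.mapDerivedCategory
    haveI : PreservesLimitsOfShape (Discrete κ) F.mapDerivedCategory.op :=
      preservesLimitsOfShape_op (Discrete κ) F.mapDerivedCategory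
    dsimp only [H']
    infer_instance
  exact Groth.Agent.S0473.result (DModCpt.isCompactlyGenerated _) H'

end Groth.Agent.Helper9.BrownGP
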