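import Mathlib
import Groth.Prelude.Def_LocCohZ
import Groth.Agent.Helper1.CohTopAdj
import Groth.Agent.Helper9.ClosedEmb

set_option autoImplicit false

/-!
# `i_* ⊣ i⁻¹ Γ_Z` for the inclusion of a closed subset
-/

namespace Groth.Agent.Helper9.ClosedAdj

open CategoryTheory TopologicalSpace Opposite Limits

universe u

section Abstract

variable {𝒵 𝒳 : Type*} [Category 𝒵] [Category 𝒳] {L : 𝒳 ⥤ 𝒵} {R : 𝒵 ⥤ 𝒳} (adj : L ⊣ R)
  (ff : R.FullyFaithful) (Γ : 𝒳 ⥤ 𝒳) (ι : Γ ⟶ 𝟭 𝒳) [∀ F, Mono (ι.app F)]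
  (hΓ : ∀ F, IsIso (adj.unit.app (Γ.obj F)))
  (lift : ∀ (G : 𝒵) (F : 𝒳) (_ : R.obj G ⟶ F), (R.obj G ⟶ Γ.obj F))
  (lift_fac : ∀ (G : 𝒵) (F : 𝒳) (φ : R.obj G ⟶ F), lift G F φ ≫ ι.app F = φ)

include lift_fac in
lemma lift_uniq {G : 𝒵} {F : 𝒳} (φ : R.obj G ⟶ F) (φ' : R.obj G ⟶ Γ.obj F)
    (h : φ' ≫ ι.app F = φ) : φ' = lift G F φ := by
  rw [← cancel_mono (ι.app F), h, lift_fac]

/-- the inverse of the unit -/
noncomputable def uinv (F : 𝒳) : R.obj (L.obj (Γ.obj F)) ⟶ Γ.obj F :=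
  (@asIso _ _ _ _ _ (hΓ F)).inv

lemma unit_uinv (F : 𝒳) : adj.unit.app (Γ.obj F) ≫ uinv adj Γ hΓ F = 𝟙 _ :=
  (@asIso _ _ _ _ _ (hΓ F)).hom_inv_id

lemma uinv_unit (F : 𝒳) : uinv adj Γ hΓ F ≫ adj.unit.app (Γ.obj F) = 𝟙 _ :=
  (@asIso _ _ _ _ _ (hΓ F)).inv_hom_id

/-- forward map -/
noncomputable def fwd {G : 𝒵} {F : 𝒳} (φ : R.obj G ⟶ F) : G ⟶ L.obj (Γ.obj F) :=
  ff.preimage (lift G F φ ≫ adj.unit.app (Γ.obj F))

/-- backward map -/
noncomputable def bwd {G : 𝒵} {F : 𝒳} (ψ : G ⟶ L.obj (Γ.obj F)) : R.obj G ⟶ F :=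
  R.map ψ ≫ uinv adj Γ hΓ F ≫ ι.app F

include lift_fac in
lemma bwd_fwd {G : 𝒵} {F : 𝒳} (φ : R.obj G ⟶ F) :
    bwd adj Γ ι hΓ (fwd adj ff Γ lift φ) = φ := by
  unfold bwd fwd
  rw [ff.map_preimage, Category.assoc, reassoc_of% (unit_uinv adj Γ hΓ F), lift_fac]

include lift_fac in
lemma fwd_bwd {G : 𝒵} {F : 𝒳} (ψ : G ⟶ L.obj (Γ.obj F)) :
    fwd adj ff Γ lift (bwd adj Γ ι hΓ ψ) = ψ := by
  apply ff.map_injective
  unfold bwd fwd
  rw [ff.map_preimage]
  have h1 : lift G F (R.map ψ ≫ uinv adj Γ hΓ F ≫ ι.app F) = R.map ψ ≫ uinv adj Γ hΓ F :=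
    (lift_uniq Γ ι lift lift_fac _ _ (by rw [Category.assoc])).symm
  rw [h1, Category.assoc, uinv_unit]
  exact Category.comp_id _

include lift_fac in
lemma fwd_comp {G : 𝒵} {F F' : 𝒳} (φ : R.obj G ⟶ F) (f : F ⟶ F') :
    fwd adj ff Γ lift (φ ≫ f) = fwd adj ff Γ lift φ ≫ L.map (Γ.map f) := by
  apply ff.map_injective
  unfold fwd
  rw [ff.map_preimage, R.map_comp, ff.map_preimage]
  have h1 : lift G F' (φ ≫ f) = lift G F φ ≫ Γ.map f :=
    (lift_uniq Γ ι lift lift_fac _ _ (by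
      rw [Category.assoc]
      have := ι.naturality f
      simp only [Functor.id_map] at this
      rw [this, reassoc_of% (lift_fac G F φ)])).symm
  rw [h1, Category.assoc, Category.assoc]
  congr 1
  exact adj.unit.naturality (Γ.map f)

/-- the coreflection adjunction -/
noncomputable def coreflAdj : R ⊣ Γ ⋙ L :=
  Adjunction.mkOfHomEquiv
    { homEquiv := fun G F =>
        { toFun := fwd adj ff Γ lift
          invFun := bwd adj Γ ι hΓ
          left_inv := bwd_fwd adj ff Γ ι hΓ lift lift_fac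
          right_inv := fwd_bwd adj ff Γ ι hΓ lift lift_fac }
      homEquiv_naturality_left_symm := fun {G' G F} g ψ => by
        show R.map (g ≫ ψ) ≫ _ = R.map g ≫ R.map ψ ≫ _
        rw [R.map_comp, Category.assoc]
      homEquiv_naturality_right := fun {G F F'} φ f =>
        fwd_comp adj ff Γ ι lift lift_fac φ f }

end Abstract


section Concrete

open Groth.Agent.Helper1.CohTopAdj Groth.Agent.Helper1.CohTopFun Groth.Agent.Helper9.ClosedEmb

variable {X : TopCat.{u}} (U : Opens X)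

/-- the closed complement -/
abbrev Zc : TopCat.{u} := TopCat.of ((U : Set X)ᶜ : Set X)

/-- the inclusion of the closed complement is a closed embedding -/
lemma hi : Topology.IsClosedEmbedding (CohCx.inclCompl U) :=
  (U.isOpen.isClosed_compl).isClosedEmbedding_subtypeVal

lemma Wc_eq : Wc (CohCx.inclCompl U) (hi U) = U := by
  ext x
  show x ∈ (Set.range (CohCx.inclCompl U))ᶜ ↔ x ∈ U
  constructor
  · intro hx
    by_contra hxU
    exact hx ⟨⟨x, hxU⟩, rfl⟩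
  · rintro hx ⟨z, rfl⟩
    exact z.2 hx

/-- a sheaf of abelian groups all of whose sections vanish is zero -/
lemma isZero_of_subsingleton {Y : TopCat.{u}} (F : CohTop.Ab Y)
    (h : ∀ W : Opens Y, Subsingleton (F.obj.obj (op W))) : IsZero F := by
  rw [IsZero.iff_id_eq_zero]
  apply CategoryTheory.Sheaf.hom_ext
  apply NatTrans.ext
  funext W
  apply AddCommGrpCat.hom_ext
  apply AddMonoidHom.ext
  intro s
  haveI := h W.unop
  exact Subsingleton.elim _ _

lemma injective_app_of_mono {Y : TopCat.{u}} {F G : CohTop.Ab Y} (κ : F ⟶ G) [Mono κ]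
    (W : Opens Y) : Function.Injective (κ.hom.app (op W)) := by
  have h1 : Mono κ.hom :=
    inferInstanceAs (Mono ((sheafToPresheaf (Opens.grothendieckTopology Y) AddCommGrpCat.{u}).map κ))
  have h2 : Mono (κ.hom.app (op W)) := (NatTrans.mono_iff_mono_app κ.hom).1 h1 (op W)
  exact (AddCommGrpCat.mono_iff_injective _).1 h2

/-- the unit of `j⁻¹ ⊣ j_*` -/
noncomputable abbrev ηj : 𝟭 (CohTop.Ab X) ⟶ CohTop.pull (CohCx.incl U) ⋙ CohTop.push (CohCx.incl U) :=
  (TopCat.Sheaf.pullbackPushforwardAdjunction AddCommGrpCat.{u} (CohCx.incl U)).unit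

lemma isZero_restr_push (G : CohTop.Ab (Zc U)) :
    IsZero ((CohTop.restrFunctor U).obj ((CohTop.push (CohCx.inclCompl U)).obj G)) := by
  apply isZero_of_subsingleton
  intro W
  refine subsingleton_sections_of_isEmpty G _ ?_
  apply le_antisymm _ bot_le
  rintro z ⟨y, -, hy⟩
  have hy' : (y : X) = (z : X) := hy
  exact (z.2 (hy' ▸ y.2)).elim

lemma ηj_push_eq_zero (G : CohTop.Ab (Zc U)) :
    (ηj U).app ((CohTop.push (CohCx.inclCompl U)).obj G) = 0 := by
  have h1 : IsZero ((CohTop.pull (CohCx.incl U)).obj ((CohTop.push (CohCx.inclCompl U)).obj G)) :=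
    IsZero.of_iso (isZero_restr_push U G) ((pullIsoRestr U).app _)
  have h2 : IsZero ((CohTop.push (CohCx.incl U)).obj
      ((CohTop.pull (CohCx.incl U)).obj ((CohTop.push (CohCx.inclCompl U)).obj G))) :=
    Functor.map_isZero _ h1
  exact h2.eq_of_tgt _ _

lemma comp_ηj_eq_zero {G : CohTop.Ab (Zc U)} {F : CohTop.Ab X}
    (φ : (CohTop.push (CohCx.inclCompl U)).obj G ⟶ F) : φ ≫ (ηj U).app F = 0 := by
  have h := (ηj U).naturality φ
  simp only [Functor.id_map] at h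
  rw [h, ηj_push_eq_zero, zero_comp]

/-- the inclusion `Γ_Z ⟶ 𝟭` -/
noncomputable def ιΓ : LocCohZ.sectSuppF U ⟶ 𝟭 (CohTop.Ab X) where
  app F := kernel.ι ((ηj U).app F)
  naturality F G φ := by
    dsimp only [LocCohZ.sectSuppF]
    exact kernel.lift_ι _ _ _

instance (F : CohTop.Ab X) : Mono ((ιΓ U).app F) :=
  inferInstanceAs (Mono (equalizer.ι ((ηj U).app F) 0))

lemma ιΓ_unitApp (F : CohTop.Ab X) : (ιΓ U).app F ≫ unitApp U F = 0 := by
  rw [← unit_pullIsoRestr U F, ← Category.assoc]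
  have : (ιΓ U).app F ≫ (ppAdj U).unit.app F = 0 := kernel.condition _
  rw [this, zero_comp]

lemma sect_eq_zero (F : CohTop.Ab X) (W : Opens X) (hW : W ≤ U)
    (s : ToType (((LocCohZ.sectSuppF U).obj F).obj.obj (op W))) : s = 0 := by
  apply injective_app_of_mono ((ιΓ U).app F) W
  rw [map_zero]
  have h0 : ((ιΓ U).app F ≫ unitApp U F).hom.app (op W) s = 0 := by
    rw [ιΓ_unitApp]
    rfl
  have h1 : F.obj.map (homOfLE (jObj_map_le U W)).op (((ιΓ U).app F).hom.app (op W) s) = 0 := h0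
  have hle : W ≤ jObj U ((Opens.map (CohCx.incl U)).obj W) := by
    intro x hx
    exact ⟨⟨x, hW hx⟩, hx, rfl⟩
  have h2 := congrArg (F.obj.map (homOfLE hle).op) h1
  rw [map_zero, ← ConcreteCategory.comp_apply, ← F.obj.map_comp] at h2
  have h3 : (homOfLE (jObj_map_le U W)).op ≫ (homOfLE hle).op = 𝟙 (op W) := Subsingleton.elim _ _
  rw [h3, F.obj.map_id] at h2
  exact h2

lemma trivOff_sectSupp (F : CohTop.Ab X) :
    TrivOff (CohCx.inclCompl U) (hi U) ((LocCohZ.sectSuppF U).obj F).obj := by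
  intro W hW
  rw [Wc_eq] at hW
  exact ⟨⟨⟨0⟩, fun s => sect_eq_zero U F W hW s⟩⟩

/-- the adjunction `pull i ⊣ push i` -/
noncomputable abbrev adjI : CohTop.pull (CohCx.inclCompl U) ⊣ CohTop.push (CohCx.inclCompl U) :=
  TopCat.Sheaf.pullbackPushforwardAdjunction AddCommGrpCat.{u} (CohCx.inclCompl U)

/-- `push i` is fully faithful -/
noncomputable def ffI : (CohTop.push (CohCx.inclCompl U)).FullyFaithful :=
  fullyFaithful (A := AddCommGrpCat.{u}) (CohCx.inclCompl U) (hi U)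

lemma isIso_unit_sectSupp (F : CohTop.Ab X) :
    IsIso ((adjI U).unit.app ((LocCohZ.sectSuppF U).obj F)) := by
  haveI := (ffI U).full
  haveI := (ffI U).faithful
  rw [Adjunction.isIso_unit_app_iff_mem_essImage]
  exact mem_essImage (CohCx.inclCompl U) (hi U) _ (trivOff_sectSupp U F)

/-- `i_* ⊣ i⁻¹ Γ_Z` -/
noncomputable def pushAdj :
    CohTop.push (CohCx.inclCompl U) ⊣ LocCohZ.sectSuppF U ⋙ CohTop.pull (CohCx.inclCompl U) :=
  coreflAdj (adjI U) (ffI U) (LocCohZ.sectSuppF U) (ιΓ U) (isIso_unit_sectSupp U)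
    (fun G F φ => kernel.lift ((ηj U).app F) φ (comp_ηj_eq_zero U φ))
    (fun G F φ => kernel.lift_ι _ _ _)

end Concrete

end Groth.Agent.Helper9.ClosedAdj
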