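import Mathlib
import Groth.Prelude.Def_CohTop
import Groth.Agent.Helper1.ColimSec
import Groth.Agent.Helper9.ClosedAdj

/-!
# Local arguments with abelian sheaves on a topological space, locally finite closed families
-/

set_option autoImplicit false

namespace Groth.Agent.Helper9.CCovLoc

open CategoryTheory Limits TopologicalSpace Opposite

universe u
variable {X : TopCat.{u}}

/-- restriction of sections -/
noncomputable def res (G : CohTop.Ab X) {W W' : Opens X} (h : W' ≤ W) :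
    G.obj.obj (op W) →+ G.obj.obj (op W') := (G.obj.map (homOfLE h).op).hom

lemma res_res (G : CohTop.Ab X) {W W' W'' : Opens X} (h : W' ≤ W) (h' : W'' ≤ W')
    (s : G.obj.obj (op W)) : res G h' (res G h s) = res G (h'.trans h) s := by
  show (G.obj.map (homOfLE h').op) ((G.obj.map (homOfLE h).op) s) = _
  rw [← ConcreteCategory.comp_apply, ← G.obj.map_comp]
  rfl

lemma res_self (G : CohTop.Ab X) {W : Opens X} (s : G.obj.obj (op W)) :
    res G (le_refl W) s = s := by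
  show (G.obj.map (homOfLE (le_refl W)).op) s = s
  have : (homOfLE (le_refl W)).op = 𝟙 (op W) := rfl
  rw [this, G.obj.map_id]
  rfl

lemma app_res {G G' : CohTop.Ab X} (φ : G ⟶ G') {W W' : Opens X} (h : W' ≤ W)
    (s : G.obj.obj (op W)) :
    φ.hom.app (op W') (res G h s) = res G' h (φ.hom.app (op W) s) := by
  show (φ.hom.app (op W')) ((G.obj.map (homOfLE h).op) s) = _
  rw [NatTrans.naturality_apply]
  rfl

lemma comp_app {G G' G'' : CohTop.Ab X} (φ : G ⟶ G') (ψ : G' ⟶ G'') (W : Opens X)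
    (s : G.obj.obj (op W)) :
    (φ ≫ ψ).hom.app (op W) s = ψ.hom.app (op W) (φ.hom.app (op W) s) := rfl

/-- separatedness -/
lemma eq_zero_of_local (G : CohTop.Ab X) {W : Opens X} (s : G.obj.obj (op W))
    (h : ∀ x ∈ W, ∃ (N : Opens X) (hN : N ≤ W), x ∈ N ∧ res G hN s = 0) : s = 0 := by
  choose N hN hxN h0 using h
  refine Groth.Agent.Helper1.ColimSec.eq_zero_of_cover G (fun x : W => N x.1 x.2) W
    (fun x => hN x.1 x.2) ?_ s (fun x => h0 x.1 x.2)
  intro x hx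
  exact Opens.mem_iSup.2 ⟨⟨x, hx⟩, hxN x hx⟩

lemma eq_of_local (G : CohTop.Ab X) {W : Opens X} (s t : G.obj.obj (op W))
    (h : ∀ x ∈ W, ∃ (N : Opens X) (hN : N ≤ W), x ∈ N ∧ res G hN s = res G hN t) : s = t := by
  rw [← sub_eq_zero]
  apply eq_zero_of_local
  intro x hx
  obtain ⟨N, hN, hxN, h1⟩ := h x hx
  exact ⟨N, hN, hxN, by rw [map_sub, h1, sub_self]⟩

/-- epimorphisms are locally surjective -/
lemma epi_local_lift {G G' : CohTop.Ab X} (φ : G ⟶ G') [Epi φ] {W : Opens X}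
    (s : G'.obj.obj (op W)) (x : X) (hx : x ∈ W) :
    ∃ (N : Opens X) (hN : N ≤ W), x ∈ N ∧ ∃ t : G.obj.obj (op N),
      φ.hom.app (op N) t = res G' hN s := by
  have h : TopCat.Presheaf.IsLocallySurjective φ.hom :=
    (TopCat.Sheaf.isLocallySurjective_iff_epi (C := AddCommGrpCat.{u}) φ).2 ‹Epi φ›
  obtain ⟨V, i, ⟨t, ht⟩, hxV⟩ := h.imageSieve_mem s x hx
  exact ⟨V, leOfHom i, hxV, t, ht⟩

/-- locally surjective morphisms are epimorphisms -/
lemma epi_of_local_lift {G G' : CohTop.Ab X} (φ : G ⟶ G')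
    (h : ∀ (W : Opens X) (s : G'.obj.obj (op W)) (x : X), x ∈ W →
      ∃ (N : Opens X) (hN : N ≤ W), x ∈ N ∧ ∃ t : G.obj.obj (op N),
        φ.hom.app (op N) t = res G' hN s) : Epi φ := by
  refine (TopCat.Sheaf.isLocallySurjective_iff_epi (C := AddCommGrpCat.{u}) φ).1 ?_
  refine ⟨fun {W} s x hx => ?_⟩
  obtain ⟨N, hN, hxN, t, ht⟩ := h W s x hx
  exact ⟨N, homOfLE hN, ⟨t, ht⟩, hxN⟩

/-- injectivity on sections -/
lemma mono_injective {G G' : CohTop.Ab X} (φ : G ⟶ G') [Mono φ] (W : Opens X) :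
    Function.Injective (φ.hom.app (op W)) :=
  Groth.Agent.Helper9.ClosedAdj.injective_app_of_mono φ W

/-- a short complex of sheaves which is locally exact on sections is exact -/
lemma exact_of_local_lift (S : ShortComplex (CohTop.Ab X))
    (h : ∀ (W : Opens X) (s : S.X₂.obj.obj (op W)), S.g.hom.app (op W) s = 0 → ∀ x ∈ W,
      ∃ (N : Opens X) (hN : N ≤ W), x ∈ N ∧ ∃ t : S.X₁.obj.obj (op N),
        S.f.hom.app (op N) t = res S.X₂ hN s) : S.Exact := by
  rw [S.exact_iff_epi_toCycles]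
  apply epi_of_local_lift
  intro W z x hx
  have hz : S.g.hom.app (op W) (S.iCycles.hom.app (op W) z) = 0 := by
    rw [← comp_app, S.iCycles_g]
    rfl
  obtain ⟨N, hN, hxN, t, ht⟩ := h W _ hz x hx
  refine ⟨N, hN, hxN, t, ?_⟩
  apply mono_injective S.iCycles N
  rw [← comp_app, S.toCycles_i, ht, app_res]

/-! ### sections of products -/

section Pi

variable {κ : Type u} (G : κ → CohTop.Ab X)

/-- the sections functor over `W` -/
noncomputable abbrev secF (W : Opens X) : CohTop.Ab X ⥤ AddCommGrpCat.{u} :=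
  sheafToPresheaf (Opens.grothendieckTopology X) AddCommGrpCat.{u} ⋙ (evaluation _ _).obj (op W)

/-- components of a section of a product -/
noncomputable def piSec (W : Opens X) (s : (∏ᶜ G : CohTop.Ab X).obj.obj (op W)) (σ : κ) :
    (G σ).obj.obj (op W) := (Pi.π G σ).hom.app (op W) s

lemma piSec_bijective (W : Opens X) : Function.Bijective (piSec G W) := by
  let e : (secF W).obj (∏ᶜ G) ≅ ∏ᶜ (fun σ => (secF W).obj (G σ)) := PreservesProduct.iso (secF W) G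
  have he : Function.Bijective e.hom := ConcreteCategory.bijective_of_isIso e.hom
  have h2 := (Concrete.productEquiv (fun σ => (secF W).obj (G σ))).bijective
  have : piSec G W = (Concrete.productEquiv (fun σ => (secF W).obj (G σ))) ∘ e.hom := by
    funext s σ
    show _ = (Concrete.productEquiv (fun σ => (secF W).obj (G σ))) (e.hom s) σ
    rw [Concrete.productEquiv_apply_apply, ← ConcreteCategory.comp_apply]
    have : e.hom ≫ Pi.π (fun σ => (secF W).obj (G σ)) σ = (secF W).map (Pi.π G σ) :=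
      piComparison_comp_π (secF W) G σ
    rw [this]
    rfl
  rw [this]
  exact h2.comp he

lemma piSec_ext {W : Opens X} {s t : (∏ᶜ G : CohTop.Ab X).obj.obj (op W)}
    (h : ∀ σ, piSec G W s σ = piSec G W t σ) : s = t :=
  (piSec_bijective G W).1 (funext h)

lemma exists_piSec (W : Opens X) (t : ∀ σ, (G σ).obj.obj (op W)) :
    ∃ s : (∏ᶜ G : CohTop.Ab X).obj.obj (op W), ∀ σ, piSec G W s σ = t σ := by
  obtain ⟨s, hs⟩ := (piSec_bijective G W).2 t
  exact ⟨s, fun σ => congrFun hs σ⟩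

lemma piSec_res {W W' : Opens X} (h : W' ≤ W) (s : (∏ᶜ G : CohTop.Ab X).obj.obj (op W)) (σ : κ) :
    piSec G W' (res _ h s) σ = res (G σ) h (piSec G W s σ) :=
  app_res (Pi.π G σ) h s

lemma piSec_zero (W : Opens X) (σ : κ) : piSec G W 0 σ = 0 := map_zero _

lemma piSec_lift {F : CohTop.Ab X} (f : ∀ σ, F ⟶ G σ) (W : Opens X) (t : F.obj.obj (op W)) (σ : κ) :
    piSec G W ((Pi.lift f).hom.app (op W) t) σ = (f σ).hom.app (op W) t := by
  unfold piSec
  rw [← comp_app, Pi.lift_π]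

lemma piSec_map {G' : κ → CohTop.Ab X} (a : ∀ σ, G σ ⟶ G' σ) (W : Opens X)
    (s : (∏ᶜ G : CohTop.Ab X).obj.obj (op W)) (σ : κ) :
    piSec G' W ((Limits.Pi.map a).hom.app (op W) s) σ =
      (a σ).hom.app (op W) (piSec G W s σ) := by
  unfold piSec
  rw [← comp_app, Limits.Pi.map_π]
  rfl

end Pi

/-! ### locally finite closed families -/

section LF

variable {κ : Type u} (Zs : κ → Set X) (hc : ∀ σ, IsClosed (Zs σ)) (hlf : LocallyFinite Zs)

include hc hlf in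
/-- a neighbourhood of `x` meeting only those members of the family which contain `x` -/
lemma exists_nhd (x : X) : ∃ W₁ : Opens X, x ∈ W₁ ∧
    ∀ σ, ((W₁ : Set X) ∩ Zs σ).Nonempty → x ∈ Zs σ := by
  have h1 : LocallyFinite (fun σ : {σ // x ∉ Zs σ} => Zs σ.1) :=
    hlf.comp_injective Subtype.val_injective
  have h2 : IsClosed (⋃ σ : {σ // x ∉ Zs σ}, Zs σ.1) :=
    h1.isClosed_iUnion (fun σ => hc σ.1)
  refine ⟨⟨(⋃ σ : {σ // x ∉ Zs σ}, Zs σ.1)ᶜ, h2.isOpen_compl⟩, ?_, ?_⟩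
  · show x ∈ (⋃ σ : {σ // x ∉ Zs σ}, Zs σ.1)ᶜ
    rw [Set.mem_compl_iff, Set.mem_iUnion]
    rintro ⟨σ, hσ⟩
    exact σ.2 hσ
  · rintro σ ⟨y, hy1, hy2⟩
    by_contra hx
    exact hy1 (Set.mem_iUnion.2 ⟨⟨σ, hx⟩, hy2⟩)

/-- sheaves with no nonzero sections over opens disjoint from `Z` -/
def TrivOn (Z : Set X) (G : CohTop.Ab X) : Prop :=
  ∀ (W : Opens X), Disjoint (W : Set X) Z → ∀ s : G.obj.obj (op W), s = 0

include hc hlf in
/-- joint local lifting along a family of epimorphisms, for a locally finite closed family -/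
lemma exists_local_lift {G G' : κ → CohTop.Ab X} (a : ∀ σ, G σ ⟶ G' σ) [∀ σ, Epi (a σ)]
    (hG' : ∀ σ, TrivOn (Zs σ) (G' σ)) {W : Opens X} (s : ∀ σ, (G' σ).obj.obj (op W))
    (x : X) (hx : x ∈ W) :
    ∃ (N : Opens X) (hN : N ≤ W), x ∈ N ∧ ∃ t : ∀ σ, (G σ).obj.obj (op N),
      ∀ σ, (a σ).hom.app (op N) (t σ) = res (G' σ) hN (s σ) := by
  classical
  obtain ⟨W₁, hxW₁, hW₁⟩ := exists_nhd Zs hc hlf x
  have hfin : {σ | x ∈ Zs σ}.Finite := hlf.point_finite x
  choose N₀ hN₀ hxN₀ t₀ ht₀ using fun σ => epi_local_lift (a σ) (s σ) x hx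
  let N : Opens X := W ⊓ W₁ ⊓ ⟨⋂ σ ∈ {σ | x ∈ Zs σ}, (N₀ σ : Set X),
    hfin.isOpen_biInter (fun σ _ => (N₀ σ).isOpen)⟩
  have hNW : N ≤ W := inf_le_left.trans inf_le_left
  have hNW₁ : N ≤ W₁ := inf_le_left.trans inf_le_right
  have hNN₀ : ∀ σ, x ∈ Zs σ → N ≤ N₀ σ := by
    intro σ hσ y hy
    have : y ∈ ⋂ σ ∈ {σ | x ∈ Zs σ}, (N₀ σ : Set X) := hy.2
    exact Set.mem_iInter₂.1 this σ hσ
  have hxN : x ∈ N := by
    refine ⟨⟨hx, hxW₁⟩, ?_⟩
    show x ∈ ⋂ σ ∈ {σ | x ∈ Zs σ}, (N₀ σ : Set X)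
    exact Set.mem_iInter₂.2 (fun σ _ => hxN₀ σ)
  refine ⟨N, hNW, hxN, fun σ => if h : x ∈ Zs σ then res (G σ) (hNN₀ σ h) (t₀ σ) else 0, ?_⟩
  intro σ
  show (a σ).hom.app (op N) (if h : x ∈ Zs σ then res (G σ) (hNN₀ σ h) (t₀ σ) else 0) = _
  by_cases h : x ∈ Zs σ
  · rw [dif_pos h, app_res, ht₀, res_res]
  · have hd : Disjoint (N : Set X) (Zs σ) := by
      rw [Set.disjoint_iff_inter_eq_empty]
      by_contra hne
      obtain ⟨y, hy1, hy2⟩ := Set.nonempty_iff_ne_empty.2 hne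
      exact h (hW₁ σ ⟨y, hNW₁ hy1, hy2⟩)
    rw [hG' σ N hd (res (G' σ) hNW (s σ))]
    exact hG' σ N hd _

include hc hlf in
/-- a product of epimorphisms is an epimorphism, for a locally finite closed family of supports -/
lemma epi_piMap {G G' : κ → CohTop.Ab X} (a : ∀ σ, G σ ⟶ G' σ) [∀ σ, Epi (a σ)]
    (hG' : ∀ σ, TrivOn (Zs σ) (G' σ)) : Epi (Limits.Pi.map a) := by
  apply epi_of_local_lift
  intro W s x hx
  obtain ⟨N, hN, hxN, t, ht⟩ := exists_local_lift Zs hc hlf a hG' (piSec G' W s) x hx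
  obtain ⟨t', ht'⟩ := exists_piSec G N t
  refine ⟨N, hN, hxN, t', ?_⟩
  apply piSec_ext
  intro σ
  rw [piSec_map, ht', ht, piSec_res]

include hc hlf in
/-- two families of sections which agree near `x` in the components whose support contains `x`
agree near `x` -/
lemma exists_nhd_forall_eq {G : κ → CohTop.Ab X} (hG : ∀ σ, TrivOn (Zs σ) (G σ)) {N : Opens X}
    (u v : ∀ σ, (G σ).obj.obj (op N)) (x : X) (hx : x ∈ N)
    (h : ∀ σ, x ∈ Zs σ → ∃ (N' : Opens X) (hN' : N' ≤ N), x ∈ N' ∧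
      res (G σ) hN' (u σ) = res (G σ) hN' (v σ)) :
    ∃ (N' : Opens X) (hN' : N' ≤ N), x ∈ N' ∧ ∀ σ, res (G σ) hN' (u σ) = res (G σ) hN' (v σ) := by
  classical
  obtain ⟨W₁, hxW₁, hW₁⟩ := exists_nhd Zs hc hlf x
  have hfin : {σ | x ∈ Zs σ}.Finite := hlf.point_finite x
  have h' : ∀ σ, ∃ (N' : Opens X) (hN' : N' ≤ N), x ∈ N' ∧
      (x ∈ Zs σ → res (G σ) hN' (u σ) = res (G σ) hN' (v σ)) := by
    intro σ
    by_cases hσ : x ∈ Zs σ
    · obtain ⟨N', hN', hxN', e⟩ := h σ hσ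
      exact ⟨N', hN', hxN', fun _ => e⟩
    · exact ⟨N, le_rfl, hx, fun h => (hσ h).elim⟩
  choose N₀ hN₀ hxN₀ e₀ using h'
  let N' : Opens X := N ⊓ W₁ ⊓ ⟨⋂ σ ∈ {σ | x ∈ Zs σ}, (N₀ σ : Set X),
    hfin.isOpen_biInter (fun σ _ => (N₀ σ).isOpen)⟩
  have hNN : N' ≤ N := inf_le_left.trans inf_le_left
  have hNW₁ : N' ≤ W₁ := inf_le_left.trans inf_le_right
  have hNN₀ : ∀ σ, x ∈ Zs σ → N' ≤ N₀ σ := by
    intro σ hσ y hy
    have : y ∈ ⋂ σ ∈ {σ | x ∈ Zs σ}, (N₀ σ : Set X) := hy.2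
    exact Set.mem_iInter₂.1 this σ hσ
  have hxN : x ∈ N' := by
    refine ⟨⟨hx, hxW₁⟩, ?_⟩
    show x ∈ ⋂ σ ∈ {σ | x ∈ Zs σ}, (N₀ σ : Set X)
    exact Set.mem_iInter₂.2 (fun σ _ => hxN₀ σ)
  refine ⟨N', hNN, hxN, fun σ => ?_⟩
  by_cases hσ : x ∈ Zs σ
  · have := congrArg (res (G σ) (hNN₀ σ hσ)) (e₀ σ hσ)
    rw [res_res, res_res] at this
    exact this
  · have hd : Disjoint (N' : Set X) (Zs σ) := by
      rw [Set.disjoint_iff_inter_eq_empty]
      by_contra hne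
      obtain ⟨y, hy1, hy2⟩ := Set.nonempty_iff_ne_empty.2 hne
      exact hσ (hW₁ σ ⟨y, hNW₁ hy1, hy2⟩)
    rw [hG σ N' hd (res (G σ) hNN (u σ))]
    exact (hG σ N' hd _).symm

end LF

/-- evaluation of morphisms on sections, as an additive map -/
noncomputable def appHom (G G' : CohTop.Ab X) (W : Opens X) :
    (G ⟶ G') →+ (G.obj.obj (op W) →+ G'.obj.obj (op W)) where
  toFun φ := (φ.hom.app (op W)).hom
  map_zero' := rfl
  map_add' _ _ := rfl

lemma appHom_apply {G G' : CohTop.Ab X} (W : Opens X) (φ : G ⟶ G') (s : G.obj.obj (op W)) :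
    appHom G G' W φ s = φ.hom.app (op W) s := rfl

/-- a morphism of sheaves which is injective on sections is a monomorphism -/
lemma mono_of_injective {G G' : CohTop.Ab X} (φ : G ⟶ G')
    (h : ∀ W : Opens X, Function.Injective (φ.hom.app (op W))) : Mono φ := by
  haveI : ∀ W : (Opens X)ᵒᵖ, Mono (φ.hom.app W) := fun W =>
    (AddCommGrpCat.mono_iff_injective _).2 (h W.unop)
  haveI : Mono φ.hom := NatTrans.mono_of_mono_app φ.hom
  exact (sheafToPresheaf (Opens.grothendieckTopology X) AddCommGrpCat.{u}).mono_of_mono_map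
    (inferInstanceAs (Mono φ.hom))

end Groth.Agent.Helper9.CCovLoc
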