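import Mathlib
import Groth.Prelude.Def_CohTop
import Groth.Prelude.Def_CohPull
import Groth.Agent.Helper9.CCovLoc
import Groth.Agent.Helper9.ClosedEmb

/-!
# The quotient of an abelian sheaf "restricted to a closed subset"

For a subset `Z` of `X` and an abelian sheaf `F` on `X`, `GZ F Z` is the quotient of `F` by the
subsheaf of sections all of whose germs at points of `Z` vanish.  For closed `Z` it is the
reflection of `F` into the sheaves with no sections off `Z`, i.e. `i_* i^{-1} F`.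
-/

set_option autoImplicit false
set_option backward.isDefEq.respectTransparency false

namespace Groth.Agent.Helper9.CCovQuot

open CategoryTheory Limits TopologicalSpace Opposite Groth.Agent.Helper9.CCovLoc
  Groth.Agent.Helper1.ColimSec
open scoped Classical

universe u
variable {X : TopCat.{u}} (F : CohTop.Ab X) (Z : Set X)

/-- the stalk–skyscraper adjunction at `x` -/
noncomputable abbrev skyAdj (x : X) : stalkF x ⊣ skyscraperSheafFunctor (C := AddCommGrpCat.{u}) x :=
  stalkSkyscraperSheafAdjunction (C := AddCommGrpCat.{u}) x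

/-- the skyscraper of the stalk at `x` -/
noncomputable def sky (x : X) : CohTop.Ab X :=
  (skyscraperSheafFunctor (C := AddCommGrpCat.{u}) x).obj ((stalkF x).obj F)

/-- `F → sky_x(F_x)` -/
noncomputable def toSky1 (x : X) : F ⟶ sky F x := (skyAdj x).unit.app F

/-- the product of the skyscrapers of the stalks at the points of `Z` -/
noncomputable def skyProd : CohTop.Ab X := ∏ᶜ (fun x : Z => sky F x.1)

/-- `F → ∏_{x ∈ Z} sky_x(F_x)` -/
noncomputable def toSky : F ⟶ skyProd F Z := Pi.lift (fun x : Z => toSky1 F x.1)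

lemma germ_eq_zero_of_toSky1 {W : Opens X} (t : F.obj.obj (op W)) (x : X) (hx : x ∈ W)
    (h : (toSky1 F x).hom.app (op W) t = 0) :
    TopCat.Presheaf.germ F.obj W x hx t = 0 := by
  have h2 := stalkF_map_germ (toSky1 F x) x W hx t
  rw [h, map_zero] at h2
  have tri := (skyAdj x).left_triangle_components F
  have h3 : (skyAdj x).counit.app ((stalkF x).obj F)
      ((stalkF x).map ((skyAdj x).unit.app F) (TopCat.Presheaf.germ F.obj W x hx t)) =
        TopCat.Presheaf.germ F.obj W x hx t :=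
    congrArg (fun f => (ConcreteCategory.hom f) (TopCat.Presheaf.germ F.obj W x hx t)) tri
  rw [← h3]
  show (skyAdj x).counit.app ((stalkF x).obj F)
      ((stalkF x).map (toSky1 F x) (TopCat.Presheaf.germ F.obj W x hx t)) = 0
  rw [h2, map_zero]

lemma germ_eq_zero_of_toSky {W : Opens X} (t : F.obj.obj (op W)) (x : X) (hx : x ∈ W)
    (hxZ : x ∈ Z) (h : (toSky F Z).hom.app (op W) t = 0) :
    TopCat.Presheaf.germ F.obj W x hx t = 0 := by
  apply germ_eq_zero_of_toSky1
  have := piSec_lift (fun x : Z => sky F x.1) (fun x : Z => toSky1 F x.1) W t ⟨x, hxZ⟩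
  rw [← this]
  show piSec _ W ((toSky F Z).hom.app (op W) t) _ = 0
  rw [h]
  exact piSec_zero _ _ _

/-- vanishing of a germ means vanishing on a neighbourhood -/
lemma exists_res_eq_zero {W : Opens X} (t : F.obj.obj (op W)) (x : X) (hx : x ∈ W)
    (h : TopCat.Presheaf.germ F.obj W x hx t = 0) :
    ∃ (N : Opens X) (hN : N ≤ W), x ∈ N ∧ res F hN t = 0 := by
  have h' : TopCat.Presheaf.germ F.obj W x hx t = TopCat.Presheaf.germ F.obj W x hx 0 := by
    rw [h, map_zero]
  obtain ⟨N, hxN, i1, i2, h2⟩ := TopCat.Presheaf.germ_eq F.obj x hx hx _ _ h'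
  refine ⟨N, leOfHom i1, hxN, ?_⟩
  rw [map_zero] at h2
  exact h2

lemma subsingleton_sky (x : X) (W : Opens X) (hx : x ∉ W) :
    Subsingleton ((sky F x).obj.obj (op W)) := by
  have ht : IsTerminal ((sky F x).obj.obj (op W)) :=
    isTerminalSkyscraperSheafObjObjOfNotMem (U := op W) hx
  have hz : IsZero ((sky F x).obj.obj (op W)) :=
    (isZero_zero _).of_iso (ht.uniqueUpToIso (HasZeroObject.zeroIsTerminal))
  exact AddCommGrpCat.subsingleton_of_isZero hz

lemma skyProd_eq_zero (W : Opens X) (hW : Disjoint (W : Set X) Z) (s : (skyProd F Z).obj.obj (op W)) :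
    s = 0 := by
  apply piSec_ext (fun x : Z => sky F x.1)
  intro x
  haveI := subsingleton_sky F x.1 W (fun hx => Set.disjoint_left.1 hW hx x.2)
  exact Subsingleton.elim _ _

/-- the quotient of `F` by the sections vanishing along `Z` -/
noncomputable def GZ : CohTop.Ab X := Abelian.coimage (toSky F Z)

/-- the quotient map -/
noncomputable def η : F ⟶ GZ F Z := Abelian.coimage.π (toSky F Z)

instance : Epi (η F Z) := by unfold η; infer_instance

/-- the embedding into the product of skyscrapers -/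
noncomputable def ιG : GZ F Z ⟶ skyProd F Z := Abelian.factorThruCoimage (toSky F Z)

instance : Mono (ιG F Z) := by unfold ιG; infer_instance

lemma η_ιG : η F Z ≫ ιG F Z = toSky F Z := Abelian.coimage.fac _

lemma trivOn_GZ : TrivOn Z (GZ F Z) := by
  intro W hW s
  apply mono_injective (ιG F Z) W
  rw [map_zero]
  exact skyProd_eq_zero F Z W hW _

/-- sections killed by `η` vanish near the points of `Z` -/
lemma exists_res_eq_zero_of_η {W : Opens X} (t : F.obj.obj (op W))
    (h : (η F Z).hom.app (op W) t = 0) (x : X) (hx : x ∈ W) (hxZ : x ∈ Z) :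
    ∃ (N : Opens X) (hN : N ≤ W), x ∈ N ∧ res F hN t = 0 := by
  apply exists_res_eq_zero F t x hx
  apply germ_eq_zero_of_toSky F Z t x hx hxZ
  rw [← η_ιG, comp_app, h, map_zero]

/-- equality of morphisms of sheaves can be checked on sections -/
lemma hom_ext_sections {G G' : CohTop.Ab X} (φ ψ : G ⟶ G')
    (h : ∀ (W : Opens X) (s : G.obj.obj (op W)), φ.hom.app (op W) s = ψ.hom.app (op W) s) :
    φ = ψ := by
  apply CategoryTheory.Sheaf.hom_ext
  apply NatTrans.ext
  funext W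
  apply AddCommGrpCat.hom_ext
  apply AddMonoidHom.ext
  intro s
  exact h W.unop s

variable {Z}

include F in
/-- any morphism to a sheaf without sections off the closed set `Z` kills the sections
vanishing along `Z` -/
lemma kernel_comp_eq_zero (hZ : IsClosed Z) {T : CohTop.Ab X} (hT : TrivOn Z T) (φ : F ⟶ T) :
    kernel.ι (toSky F Z) ≫ φ = 0 := by
  apply hom_ext_sections
  intro W k
  rw [comp_app]
  set t := (kernel.ι (toSky F Z)).hom.app (op W) k with ht
  have htz : (toSky F Z).hom.app (op W) t = 0 := by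
    rw [ht, ← comp_app, kernel.condition]
    rfl
  show φ.hom.app (op W) t = 0
  apply eq_zero_of_local
  intro y hy
  by_cases hyZ : y ∈ Z
  · obtain ⟨N, hN, hyN, h0⟩ := exists_res_eq_zero F t y hy
      (germ_eq_zero_of_toSky F Z t y hy hyZ htz)
    exact ⟨N, hN, hyN, by rw [← app_res, h0, map_zero]⟩
  · refine ⟨W ⊓ ⟨Zᶜ, hZ.isOpen_compl⟩, inf_le_left, ⟨hy, hyZ⟩, ?_⟩
    apply hT
    rw [Set.disjoint_left]
    intro z hz hzZ
    exact hz.2 hzZ

/-- the universal property of `η` -/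
noncomputable def desc (hZ : IsClosed Z) {T : CohTop.Ab X} (hT : TrivOn Z T) (φ : F ⟶ T) :
    GZ F Z ⟶ T :=
  cokernel.desc (kernel.ι (toSky F Z)) φ (kernel_comp_eq_zero F hZ hT φ)

lemma η_desc (hZ : IsClosed Z) {T : CohTop.Ab X} (hT : TrivOn Z T) (φ : F ⟶ T) :
    η F Z ≫ desc F hZ hT φ = φ :=
  cokernel.π_desc _ _ _

lemma trivOn_mono {Z Z' : Set X} (h : Z' ⊆ Z) {T : CohTop.Ab X} (hT : TrivOn Z' T) : TrivOn Z T :=
  fun W hW s => hT W (Set.disjoint_of_subset_right h hW) s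

/-- the transition morphism for `Z' ⊆ Z` -/
noncomputable def ρ {Z Z' : Set X} (hZ : IsClosed Z) (h : Z' ⊆ Z) : GZ F Z ⟶ GZ F Z' :=
  desc F hZ (trivOn_mono h (trivOn_GZ F Z')) (η F Z')

lemma η_ρ {Z Z' : Set X} (hZ : IsClosed Z) (h : Z' ⊆ Z) : η F Z ≫ ρ F hZ h = η F Z' :=
  η_desc _ _ _ _

lemma ρ_self {Z : Set X} (hZ : IsClosed Z) : ρ F hZ (subset_refl Z) = 𝟙 _ := by
  rw [← cancel_epi (η F Z), η_ρ, Category.comp_id]

lemma ρ_ρ {Z Z' Z'' : Set X} (hZ : IsClosed Z) (hZ' : IsClosed Z') (h : Z' ⊆ Z) (h' : Z'' ⊆ Z') :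
    ρ F hZ h ≫ ρ F hZ' h' = ρ F hZ (h'.trans h) := by
  rw [← cancel_epi (η F Z), ← Category.assoc, η_ρ, η_ρ, η_ρ]

/-! ### reflections -/

/-- `η : F ⟶ G` is a reflection of `F` into the sheaves without sections off `Z` -/
structure IsRefl (Z : Set X) {F G : CohTop.Ab X} (η : F ⟶ G) : Prop where
  triv : TrivOn Z G
  ex : ∀ (T : CohTop.Ab X), TrivOn Z T → ∀ φ : F ⟶ T, ∃ ψ : G ⟶ T, η ≫ ψ = φ
  uniq : ∀ (T : CohTop.Ab X), TrivOn Z T → ∀ ψ ψ' : G ⟶ T, η ≫ ψ = η ≫ ψ' → ψ = ψ'

lemma IsRefl.nonempty_iso {Z : Set X} {F G G' : CohTop.Ab X} {η : F ⟶ G} {η' : F ⟶ G'}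
    (h : IsRefl Z η) (h' : IsRefl Z η') : Nonempty (G ≅ G') := by
  obtain ⟨a, ha⟩ := h.ex G' h'.triv η'
  obtain ⟨b, hb⟩ := h'.ex G h.triv η
  refine ⟨⟨a, b, ?_, ?_⟩⟩
  · apply h.uniq G h.triv
    rw [← Category.assoc, ha, hb, Category.comp_id]
  · apply h'.uniq G' h'.triv
    rw [← Category.assoc, hb, ha, Category.comp_id]

lemma isRefl_η {Z : Set X} (hZ : IsClosed Z) : IsRefl Z (η F Z) where
  triv := trivOn_GZ F Z
  ex T hT φ := ⟨desc F hZ hT φ, η_desc F hZ hT φ⟩
  uniq T _ ψ ψ' h := (cancel_epi (η F Z)).1 h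

/-- the inclusion of a subset -/
abbrev incl (Z : Set X) : TopCat.of Z ⟶ X := TopCat.ofHom ⟨Subtype.val, continuous_subtype_val⟩

lemma isClosedEmbedding_incl {Z : Set X} (hZ : IsClosed Z) : Topology.IsClosedEmbedding (incl Z) :=
  hZ.isClosedEmbedding_subtypeVal

open Groth.Agent.Helper9.ClosedEmb

lemma le_Wc_iff {Z : Set X} (hZ : IsClosed Z) (W : Opens X) :
    W ≤ Wc (incl Z) (isClosedEmbedding_incl hZ) ↔ Disjoint (W : Set X) Z := by
  rw [Set.disjoint_left]
  constructor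
  · intro h x hx hxZ
    exact h hx ⟨⟨x, hxZ⟩, rfl⟩
  · rintro h x hx ⟨z, rfl⟩
    exact h hx z.2

lemma trivOn_iff_trivOff {Z : Set X} (hZ : IsClosed Z) (T : CohTop.Ab X) :
    TrivOn Z T ↔ TrivOff (incl Z) (isClosedEmbedding_incl hZ) T.obj := by
  constructor
  · intro h W hW
    exact ⟨⟨⟨(0 : T.obj.obj (op W))⟩, fun s => h W ((le_Wc_iff hZ W).1 hW) s⟩⟩
  · intro h W hW s
    obtain ⟨hu⟩ := h W ((le_Wc_iff hZ W).2 hW)
    exact (hu.uniq s).trans (hu.uniq (0 : T.obj.obj (op W))).symm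

/-- the unit of the adjunction `i^{-1} ⊣ i_*` is a reflection -/
lemma isRefl_unit {Z : Set X} (hZ : IsClosed Z) :
    IsRefl Z ((CohPull.invPushAdj (incl Z)).unit.app F) := by
  set adj := CohPull.invPushAdj (incl Z) with hadj
  have hi := isClosedEmbedding_incl hZ
  have key : ∀ (T : CohTop.Ab X), TrivOn Z T →
      ∃ (H : CohTop.Ab (TopCat.of Z)), Nonempty ((CohTop.push (incl Z)).obj H ≅ T) := by
    intro T hT
    obtain ⟨H, ⟨e⟩⟩ := mem_essImage (incl Z) hi T ((trivOn_iff_trivOff hZ T).1 hT)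
    exact ⟨H, ⟨e⟩⟩
  refine ⟨?_, ?_, ?_⟩
  · rw [trivOn_iff_trivOff hZ]
    exact trivOff_push (incl Z) hi _
  · intro T hT φ
    obtain ⟨H, ⟨e⟩⟩ := key T hT
    refine ⟨(CohTop.push (incl Z)).map ((adj.homEquiv F H).symm (φ ≫ e.inv)) ≫ e.hom, ?_⟩
    have h1 : adj.unit.app F ≫ (CohTop.push (incl Z)).map ((adj.homEquiv F H).symm (φ ≫ e.inv)) =
        φ ≫ e.inv := by
      have := adj.homEquiv_unit (f := (adj.homEquiv F H).symm (φ ≫ e.inv))
      rw [Equiv.apply_symm_apply] at this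
      exact this.symm
    rw [← Category.assoc, h1, Category.assoc, e.inv_hom_id, Category.comp_id]
  · intro T hT ψ ψ' h
    obtain ⟨H, ⟨e⟩⟩ := key T hT
    let ff := fullyFaithful (A := AddCommGrpCat.{u}) (incl Z) hi
    rw [← cancel_mono e.inv]
    have h1 : (CohTop.push (incl Z)).map (ff.preimage (ψ ≫ e.inv)) = ψ ≫ e.inv :=
      ff.map_preimage _
    have h2 : (CohTop.push (incl Z)).map (ff.preimage (ψ' ≫ e.inv)) = ψ' ≫ e.inv :=
      ff.map_preimage _
    rw [← h1, ← h2]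
    congr 1
    apply (adj.homEquiv F H).injective
    refine (adj.homEquiv_unit (f := ff.preimage (ψ ≫ e.inv))).trans
      (Eq.trans ?_ (adj.homEquiv_unit (f := ff.preimage (ψ' ≫ e.inv))).symm)
    rw [h1, h2, ← Category.assoc, ← Category.assoc, h]

/-- `GZ F Z ≅ i_* i^{-1} F` for closed `Z` -/
theorem nonempty_iso_push_pull {Z : Set X} (hZ : IsClosed Z) :
    Nonempty (GZ F Z ≅ (CohTop.push (incl Z)).obj ((CohTop.pull (incl Z)).obj F)) :=
  (isRefl_η F hZ).nonempty_iso (isRefl_unit F hZ)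

end Groth.Agent.Helper9.CCovQuot
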