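import Mathlib
import Groth.Prelude.Def_CohTop
import Groth.Agent.Helper9.CCovLoc
import Groth.Agent.Helper9.CCovQuot

/-!
# The Čech resolution of an abelian sheaf attached to a locally finite closed covering
-/

set_option autoImplicit false
set_option backward.isDefEq.respectTransparency false

namespace Groth.Agent.Helper9.CCovCech

open CategoryTheory Limits TopologicalSpace Opposite Groth.Agent.Helper9.CCovLoc
  Groth.Agent.Helper9.CCovQuot Simplicial

universe u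
variable {X : TopCat.{u}} {I : Type u} (U : I → Set X) (hU : ∀ i, IsClosed (U i)) (F : CohTop.Ab X)

/-- the intersection attached to a tuple -/
def Zc {n : ℕ} (σ : Fin n → I) : Set X := ⋂ k, U (σ k)

include hU in
lemma isClosed_Zc {n : ℕ} (σ : Fin n → I) : IsClosed (Zc U σ) :=
  isClosed_iInter (fun k => hU (σ k))

lemma Zc_comp_subset {n m : ℕ} (τ : Fin m → I) (θ : Fin n → Fin m) : Zc U τ ⊆ Zc U (τ ∘ θ) :=
  fun _ hx => Set.mem_iInter.2 (fun k => Set.mem_iInter.1 hx (θ k))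

/-- the terms of the Čech resolution -/
noncomputable def KX (n : ℕ) : CohTop.Ab X := ∏ᶜ (fun σ : Fin (n + 1) → I => GZ F (Zc U σ))

/-- the cosimplicial structure maps -/
noncomputable def Kmap {n m : ℕ} (θ : Fin (n + 1) → Fin (m + 1)) : KX U F n ⟶ KX U F m :=
  Pi.lift (fun τ : Fin (m + 1) → I => Pi.π (fun σ : Fin (n + 1) → I => GZ F (Zc U σ)) (τ ∘ θ) ≫
    ρ F (isClosed_Zc U hU (τ ∘ θ)) (Zc_comp_subset U τ θ))

lemma Kmap_π {n m : ℕ} (θ : Fin (n + 1) → Fin (m + 1)) (τ : Fin (m + 1) → I) :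
    Kmap U hU F θ ≫ Pi.π (fun σ : Fin (m + 1) → I => GZ F (Zc U σ)) τ =
      Pi.π (fun σ : Fin (n + 1) → I => GZ F (Zc U σ)) (τ ∘ θ) ≫
        ρ F (isClosed_Zc U hU (τ ∘ θ)) (Zc_comp_subset U τ θ) :=
  Pi.lift_π _ _

lemma Kmap_id (n : ℕ) : Kmap U hU F (id : Fin (n + 1) → Fin (n + 1)) = 𝟙 _ := by
  apply Pi.hom_ext
  intro τ
  rw [Kmap_π, Category.id_comp]
  exact (congrArg (fun f => Pi.π (fun σ : Fin (n + 1) → I => GZ F (Zc U σ)) τ ≫ f)
    (ρ_self F (isClosed_Zc U hU τ))).trans (Category.comp_id _)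

lemma Kmap_comp {n m l : ℕ} (θ : Fin (n + 1) → Fin (m + 1)) (θ' : Fin (m + 1) → Fin (l + 1)) :
    Kmap U hU F (θ' ∘ θ) = Kmap U hU F θ ≫ Kmap U hU F θ' := by
  apply Pi.hom_ext
  intro τ
  rw [Kmap_π, Category.assoc, Kmap_π, ← Category.assoc, Kmap_π, Category.assoc, ρ_ρ]
  rfl

/-- the cosimplicial abelian sheaf -/
noncomputable def cosimp : CosimplicialObject (CohTop.Ab X) where
  obj Δ := KX U F Δ.len
  map {Δ Δ'} θ := Kmap U hU F θ.toOrderHom
  map_id Δ := Kmap_id U hU F Δ.len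
  map_comp {Δ Δ' Δ''} θ θ' := Kmap_comp U hU F θ.toOrderHom θ'.toOrderHom

/-- the Čech complex -/
noncomputable def K : CochainComplex (CohTop.Ab X) ℕ :=
  (AlgebraicTopology.alternatingCofaceMapComplex _).obj (cosimp U hU F)

/-- the differential, with explicit source and target -/
noncomputable def Kd (n : ℕ) : KX U F n ⟶ KX U F (n + 1) := (K U hU F).d n (n + 1)

lemma K_d (n : ℕ) : Kd U hU F n =
    ∑ k : Fin (n + 2), (-1 : ℤ) ^ (k : ℕ) • Kmap U hU F (n := n) (m := n + 1) k.succAbove := by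
  have := CochainComplex.of_d (fun n => (cosimp U hU F).obj ⦋n⦌)
    (AlgebraicTopology.AlternatingCofaceMapComplex.objD (cosimp U hU F)) n
  exact this.trans rfl

lemma K_d_π (n : ℕ) (τ : Fin (n + 2) → I) :
    Kd U hU F n ≫ Pi.π (fun σ : Fin (n + 2) → I => GZ F (Zc U σ)) τ =
      ∑ k : Fin (n + 2), (-1 : ℤ) ^ (k : ℕ) •
        (Pi.π (fun σ : Fin (n + 1) → I => GZ F (Zc U σ)) (τ ∘ k.succAbove) ≫
          ρ F (isClosed_Zc U hU (τ ∘ k.succAbove)) (Zc_comp_subset U τ k.succAbove)) := by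
  rw [K_d, Preadditive.sum_comp]
  refine Finset.sum_congr rfl (fun k _ => ?_)
  rw [Preadditive.zsmul_comp, Kmap_π]

/-- the formula for the differential on sections -/
lemma piSec_d (n : ℕ) (W : Opens X) (s : (KX U F n).obj.obj (op W)) (τ : Fin (n + 2) → I) :
    piSec (fun σ : Fin (n + 2) → I => GZ F (Zc U σ)) W ((Kd U hU F n).hom.app (op W) s) τ =
      ∑ k : Fin (n + 2), (-1 : ℤ) ^ (k : ℕ) •
        (ρ F (isClosed_Zc U hU (τ ∘ k.succAbove)) (Zc_comp_subset U τ k.succAbove)).hom.app (op W)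
          (piSec (fun σ : Fin (n + 1) → I => GZ F (Zc U σ)) W s (τ ∘ k.succAbove)) := by
  have h1 : piSec (fun σ : Fin (n + 2) → I => GZ F (Zc U σ)) W
      ((Kd U hU F n).hom.app (op W) s) τ =
      appHom _ _ W (Kd U hU F n ≫
        Pi.π (fun σ : Fin (n + 2) → I => GZ F (Zc U σ)) τ) s := rfl
  rw [h1, K_d_π, map_sum, AddMonoidHom.finset_sum_apply]
  refine Finset.sum_congr rfl (fun k _ => ?_)
  rw [map_zsmul, AddMonoidHom.smul_apply]
  rfl

/-! ### combinatorics of the alternating sum -/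

section Comb

variable {A : Type*} [AddCommGroup A]

/-- the alternating coboundary on families indexed by tuples -/
def bd {n : ℕ} (t : (Fin (n + 1) → I) → A) : (Fin (n + 2) → I) → A :=
  fun τ => ∑ k : Fin (n + 2), (-1 : ℤ) ^ (k : ℕ) • t (τ ∘ k.succAbove)

lemma cons_comp_succAbove_zero {n : ℕ} (i₀ : I) (σ : Fin (n + 1) → I) :
    (Fin.cons i₀ σ : Fin (n + 2) → I) ∘ (0 : Fin (n + 2)).succAbove = σ := by
  funext l
  simp

lemma cons_comp_succAbove_succ {n : ℕ} (i₀ : I) (σ : Fin (n + 2) → I) (j : Fin (n + 2)) :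
    (Fin.cons i₀ σ : Fin (n + 3) → I) ∘ j.succ.succAbove =
      (Fin.cons i₀ (σ ∘ j.succAbove) : Fin (n + 2) → I) := by
  funext l
  refine Fin.cases ?_ (fun l' => ?_) l
  · simp
  · simp

lemma bd_cons {n : ℕ} (t : (Fin (n + 2) → I) → A) (i₀ : I) (σ : Fin (n + 2) → I) :
    bd t (Fin.cons i₀ σ : Fin (n + 3) → I) =
      t σ - bd (fun τ' : Fin (n + 1) → I => t (Fin.cons i₀ τ' : Fin (n + 2) → I)) σ := by
  unfold bd
  rw [Fin.sum_univ_succ, cons_comp_succAbove_zero, sub_eq_add_neg, ← Finset.sum_neg_distrib]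
  congr 1
  · simp
  · refine Finset.sum_congr rfl (fun j _ => ?_)
    rw [cons_comp_succAbove_succ, Fin.val_succ, pow_succ]
    simp

lemma bd_cons_zero (t : (Fin 1 → I) → A) (i₀ : I) (σ : Fin 1 → I) :
    bd t (Fin.cons i₀ σ : Fin 2 → I) = t σ - t (fun _ => i₀) := by
  unfold bd
  rw [Fin.sum_univ_two, cons_comp_succAbove_zero]
  have : (Fin.cons i₀ σ : Fin 2 → I) ∘ (1 : Fin 2).succAbove = fun _ => i₀ := by
    funext l
    fin_cases l
    rfl
  rw [this]
  simp [sub_eq_add_neg]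

end Comb

/-! ### local exactness -/

lemma piSec_d_of_lift (n : ℕ) (N : Opens X) (s : (KX U F n).obj.obj (op N))
    (t : (Fin (n + 1) → I) → F.obj.obj (op N))
    (h : ∀ σ, piSec (fun σ : Fin (n + 1) → I => GZ F (Zc U σ)) N s σ =
      (η F (Zc U σ)).hom.app (op N) (t σ)) (τ : Fin (n + 2) → I) :
    piSec (fun σ : Fin (n + 2) → I => GZ F (Zc U σ)) N
      ((Kd U hU F n).hom.app (op N) s) τ = (η F (Zc U τ)).hom.app (op N) (bd t τ) := by
  rw [piSec_d]
  unfold bd
  rw [map_sum]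
  refine Finset.sum_congr rfl (fun k _ => ?_)
  rw [map_zsmul, h, ← comp_app, η_ρ]

variable (hlf : LocallyFinite U) (hcov : ⋃ i, U i = Set.univ)

include hlf in
lemma locallyFinite_Zc (n : ℕ) : LocallyFinite (fun σ : Fin (n + 1) → I => Zc U σ) := by
  intro x
  obtain ⟨t, ht, hfin⟩ := hlf x
  refine ⟨t, ht, ?_⟩
  have hpi : (Set.pi Set.univ (fun _ : Fin (n + 1) => {i | (U i ∩ t).Nonempty})).Finite :=
    Set.Finite.pi (fun _ => hfin)
  refine hpi.subset ?_
  rintro σ ⟨y, hy1, hy2⟩ k -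
  exact ⟨y, Set.mem_iInter.1 hy1 k, hy2⟩

lemma mem_Zc_cons {n : ℕ} (i₀ : I) (σ : Fin n → I) (x : X) (h0 : x ∈ U i₀) (h : x ∈ Zc U σ) :
    x ∈ Zc U (Fin.cons i₀ σ : Fin (n + 1) → I) := by
  refine Set.mem_iInter.2 (fun k => ?_)
  refine Fin.cases ?_ (fun k' => ?_) k
  · simpa using h0
  · simpa using Set.mem_iInter.1 h k'

include hlf hcov in
lemma local_exact_succ (n : ℕ) (W : Opens X) (s : (KX U F (n + 1)).obj.obj (op W))
    (hs : (Kd U hU F (n + 1)).hom.app (op W) s = 0) (x : X) (hx : x ∈ W) :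
    ∃ (N : Opens X) (hN : N ≤ W), x ∈ N ∧ ∃ t' : (KX U F n).obj.obj (op N),
      (Kd U hU F n).hom.app (op N) t' = res (KX U F (n + 1)) hN s := by
  obtain ⟨i₀, hi₀⟩ : ∃ i, x ∈ U i := by
    have : x ∈ ⋃ i, U i := hcov ▸ Set.mem_univ x
    exact Set.mem_iUnion.1 this
  have hcZ : ∀ σ : Fin (n + 2) → I, IsClosed (Zc U σ) := isClosed_Zc U hU
  have hlfZ := locallyFinite_Zc U hlf (n + 1)
  have hG : ∀ σ : Fin (n + 2) → I, TrivOn (Zc U σ) (GZ F (Zc U σ)) := fun σ => trivOn_GZ F _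
  obtain ⟨N, hN, hxN, t, ht⟩ := exists_local_lift (fun σ : Fin (n + 2) → I => Zc U σ) hcZ hlfZ
    (G := fun _ => F) (G' := fun σ => GZ F (Zc U σ)) (fun σ => η F (Zc U σ)) hG
    (piSec (fun σ : Fin (n + 2) → I => GZ F (Zc U σ)) W s) x hx
  have h1 : ∀ σ, piSec (fun σ : Fin (n + 2) → I => GZ F (Zc U σ)) N (res (KX U F (n + 1)) hN s) σ =
      (η F (Zc U σ)).hom.app (op N) (t σ) := by
    intro σ
    rw [ht]
    exact piSec_res _ hN s σ
  have hs₁ : (Kd U hU F (n + 1)).hom.app (op N) (res (KX U F (n + 1)) hN s) = 0 := by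
    rw [app_res, hs, map_zero]
  have h2 : ∀ τ : Fin (n + 3) → I, (η F (Zc U τ)).hom.app (op N) (bd t τ) = 0 := by
    intro τ
    rw [← piSec_d_of_lift U hU F (n + 1) N _ t h1 τ, hs₁]
    exact piSec_zero _ _ _
  let t' : (Fin (n + 1) → I) → F.obj.obj (op N) := fun τ' => t (Fin.cons i₀ τ')
  obtain ⟨s', hs'⟩ := exists_piSec (fun σ : Fin (n + 1) → I => GZ F (Zc U σ)) N
    (fun τ' => (η F (Zc U τ')).hom.app (op N) (t' τ'))
  have h4 := piSec_d_of_lift U hU F n N s' t' hs'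
  obtain ⟨N', hN', hxN', e⟩ := exists_nhd_forall_eq (fun σ : Fin (n + 2) → I => Zc U σ) hcZ hlfZ hG
    (fun σ => piSec (fun σ : Fin (n + 2) → I => GZ F (Zc U σ)) N
      ((Kd U hU F n).hom.app (op N) s') σ)
    (fun σ => piSec (fun σ : Fin (n + 2) → I => GZ F (Zc U σ)) N (res (KX U F (n + 1)) hN s) σ)
    x hxN (by
      intro σ hσ
      have hx' : x ∈ Zc U (Fin.cons i₀ σ : Fin (n + 3) → I) := mem_Zc_cons U i₀ σ x hi₀ hσ
      have h3 := h2 (Fin.cons i₀ σ)
      rw [bd_cons] at h3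
      obtain ⟨N'', hN'', hxN'', e0⟩ := exists_res_eq_zero_of_η F _ _ h3 x hxN hx'
      refine ⟨N'', hN'', hxN'', ?_⟩
      rw [h4 σ, h1 σ, ← app_res, ← app_res]
      congr 1
      rw [map_sub, sub_eq_zero] at e0
      exact e0.symm)
  refine ⟨N', hN'.trans hN, hxN', res (KX U F n) hN' s', ?_⟩
  apply piSec_ext
  intro σ
  exact (congrArg (fun z => piSec (fun σ : Fin (n + 2) → I => GZ F (Zc U σ)) N' z σ)
    (app_res (Kd U hU F n) hN' s')).trans
    ((piSec_res (fun σ : Fin (n + 2) → I => GZ F (Zc U σ)) hN' _ σ).trans ((e σ).trans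
      ((piSec_res (fun σ : Fin (n + 2) → I => GZ F (Zc U σ)) hN' _ σ).symm.trans
        (congrArg (fun z => piSec (fun σ : Fin (n + 2) → I => GZ F (Zc U σ)) N' z σ)
          (res_res (KX U F (n + 1)) hN hN' s)))))

/-- the augmentation -/
noncomputable def aug : F ⟶ KX U F 0 := Pi.lift (fun σ : Fin 1 → I => η F (Zc U σ))

lemma piSec_aug (W : Opens X) (t : F.obj.obj (op W)) (σ : Fin 1 → I) :
    piSec (fun σ : Fin 1 → I => GZ F (Zc U σ)) W ((aug U F).hom.app (op W) t) σ =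
      (η F (Zc U σ)).hom.app (op W) t :=
  piSec_lift _ _ W t σ

lemma aug_Kd : aug U F ≫ Kd U hU F 0 = 0 := by
  apply hom_ext_sections
  intro W t
  rw [comp_app]
  apply piSec_ext (fun σ : Fin 2 → I => GZ F (Zc U σ))
  intro τ
  rw [piSec_d_of_lift U hU F 0 W _ (fun _ => t) (fun σ => piSec_aug U F W t σ) τ]
  have : bd (fun _ : Fin 1 → I => t) τ = 0 := by
    unfold bd
    rw [Fin.sum_univ_two]
    simp
  rw [this, map_zero]
  exact (piSec_zero (fun σ : Fin 2 → I => GZ F (Zc U σ)) W τ).symm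

include hcov in
lemma aug_injective (W : Opens X) : Function.Injective ((aug U F).hom.app (op W)) := by
  rw [injective_iff_map_eq_zero]
  intro t ht
  apply eq_zero_of_local
  intro x hx
  obtain ⟨i₀, hi₀⟩ : ∃ i, x ∈ U i := by
    have : x ∈ ⋃ i, U i := hcov ▸ Set.mem_univ x
    exact Set.mem_iUnion.1 this
  have h1 : (η F (Zc U (fun _ : Fin 1 => i₀))).hom.app (op W) t = 0 := by
    rw [← piSec_aug, ht]
    exact piSec_zero _ _ _
  exact exists_res_eq_zero_of_η F _ t h1 x hx (Set.mem_iInter.2 (fun _ => hi₀))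

include hlf hcov in
lemma local_exact_zero (W : Opens X) (s : (KX U F 0).obj.obj (op W))
    (hs : (Kd U hU F 0).hom.app (op W) s = 0) (x : X) (hx : x ∈ W) :
    ∃ (N : Opens X) (hN : N ≤ W), x ∈ N ∧ ∃ t' : F.obj.obj (op N),
      (aug U F).hom.app (op N) t' = res (KX U F 0) hN s := by
  obtain ⟨i₀, hi₀⟩ : ∃ i, x ∈ U i := by
    have : x ∈ ⋃ i, U i := hcov ▸ Set.mem_univ x
    exact Set.mem_iUnion.1 this
  have hcZ : ∀ σ : Fin 1 → I, IsClosed (Zc U σ) := isClosed_Zc U hU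
  have hlfZ := locallyFinite_Zc U hlf 0
  have hG : ∀ σ : Fin 1 → I, TrivOn (Zc U σ) (GZ F (Zc U σ)) := fun σ => trivOn_GZ F _
  obtain ⟨N, hN, hxN, t, ht⟩ := exists_local_lift (fun σ : Fin 1 → I => Zc U σ) hcZ hlfZ
    (G := fun _ => F) (G' := fun σ => GZ F (Zc U σ)) (fun σ => η F (Zc U σ)) hG
    (piSec (fun σ : Fin 1 → I => GZ F (Zc U σ)) W s) x hx
  have h1 : ∀ σ, piSec (fun σ : Fin 1 → I => GZ F (Zc U σ)) N (res (KX U F 0) hN s) σ =
      (η F (Zc U σ)).hom.app (op N) (t σ) := by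
    intro σ
    rw [ht]
    exact piSec_res _ hN s σ
  have hs₁ : (Kd U hU F 0).hom.app (op N) (res (KX U F 0) hN s) = 0 := by
    rw [app_res, hs, map_zero]
  have h2 : ∀ τ : Fin 2 → I, (η F (Zc U τ)).hom.app (op N) (bd t τ) = 0 := by
    intro τ
    rw [← piSec_d_of_lift U hU F 0 N _ t h1 τ, hs₁]
    exact piSec_zero _ _ _
  obtain ⟨N', hN', hxN', e⟩ := exists_nhd_forall_eq (fun σ : Fin 1 → I => Zc U σ) hcZ hlfZ hG
    (fun σ => piSec (fun σ : Fin 1 → I => GZ F (Zc U σ)) N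
      ((aug U F).hom.app (op N) (t (fun _ => i₀))) σ)
    (fun σ => piSec (fun σ : Fin 1 → I => GZ F (Zc U σ)) N (res (KX U F 0) hN s) σ)
    x hxN (by
      intro σ hσ
      have hx' : x ∈ Zc U (Fin.cons i₀ σ : Fin 2 → I) := mem_Zc_cons U i₀ σ x hi₀ hσ
      have h3 := h2 (Fin.cons i₀ σ)
      rw [bd_cons_zero] at h3
      obtain ⟨N'', hN'', hxN'', e0⟩ := exists_res_eq_zero_of_η F _ _ h3 x hxN hx'
      refine ⟨N'', hN'', hxN'', ?_⟩
      rw [piSec_aug, h1 σ, ← app_res, ← app_res]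
      congr 1
      rw [map_sub, sub_eq_zero] at e0
      exact e0.symm)
  refine ⟨N', hN'.trans hN, hxN', res F hN' (t (fun _ => i₀)), ?_⟩
  apply piSec_ext
  intro σ
  exact (congrArg (fun z => piSec (fun σ : Fin 1 → I => GZ F (Zc U σ)) N' z σ)
    (app_res (aug U F) hN' (t (fun _ => i₀)))).trans
    ((piSec_res (fun σ : Fin 1 → I => GZ F (Zc U σ)) hN' _ σ).trans ((e σ).trans
      ((piSec_res (fun σ : Fin 1 → I => GZ F (Zc U σ)) hN' _ σ).symm.trans
        (congrArg (fun z => piSec (fun σ : Fin 1 → I => GZ F (Zc U σ)) N' z σ)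
          (res_res (KX U F 0) hN hN' s)))))

include hlf hcov in
lemma exactAt_succ (n : ℕ) : (K U hU F).ExactAt (n + 1) := by
  rw [HomologicalComplex.exactAt_iff' _ n (n + 1) (n + 1 + 1) (by simp) (by simp)]
  apply exact_of_local_lift
  intro W s hs x hx
  exact local_exact_succ U hU F hlf hcov n W s hs x hx

include hcov in
lemma mono_aug : Mono (aug U F) := mono_of_injective _ (aug_injective U F hcov)

include hlf hcov in
lemma exact_aug : (ShortComplex.mk (aug U F) (Kd U hU F 0) (aug_Kd U hU F)).Exact := by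
  apply exact_of_local_lift
  intro W s hs x hx
  exact local_exact_zero U hU F hlf hcov W s hs x hx

/-- the augmentation as a morphism of complexes -/
noncomputable def ι : (CochainComplex.single₀ (CohTop.Ab X)).obj F ⟶ K U hU F :=
  (CochainComplex.fromSingle₀Equiv _ _).symm ⟨aug U F, aug_Kd U hU F⟩

lemma ι_f_zero : (ι U hU F).f 0 = aug U F :=
  CochainComplex.fromSingle₀Equiv_symm_apply_f_zero _ _

include hlf hcov in
lemma quasiIso_ι : QuasiIso (ι U hU F) := ⟨fun n => by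
  cases n
  · rw [CochainComplex.quasiIsoAt₀_iff, ShortComplex.quasiIso_iff_of_zeros]
    · refine (ShortComplex.exact_and_mono_f_iff_of_iso ?_).2
        ⟨exact_aug U hU F hlf hcov, mono_aug U F hcov⟩
      exact ShortComplex.isoMk (Iso.refl _) (Iso.refl _) (Iso.refl _)
        (by
          dsimp
          rw [Category.id_comp, Category.comp_id]
          exact ι_f_zero U hU F)
        (by
          dsimp
          rw [Category.id_comp, Category.comp_id]
          rfl)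
    all_goals rfl
  · rw [quasiIsoAt_iff_exactAt]
    · apply exactAt_succ U hU F hlf hcov
    · apply CochainComplex.exactAt_succ_single_obj⟩

/-- the Čech complex, indexed by the integers -/
noncomputable def L : CochainComplex (CohTop.Ab X) ℤ :=
  (K U hU F).extend ComplexShape.embeddingUpNat

instance : (L U hU F).IsStrictlyGE 0 := by
  dsimp [L]
  infer_instance

/-- the terms of `L` in nonnegative degrees -/
noncomputable def LXIso (n : ℕ) : (L U hU F).X (n : ℤ) ≅ KX U F n :=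
  HomologicalComplex.extendXIso (K U hU F) ComplexShape.embeddingUpNat (i := n) (i' := (n : ℤ)) rfl

/-- the augmentation `F[0] ⟶ L` -/
noncomputable def φ : (CochainComplex.singleFunctor (CohTop.Ab X) 0).obj F ⟶ L U hU F :=
  (HomologicalComplex.extendSingleIso _ _ _ _ (by simp)).inv ≫
    (ComplexShape.embeddingUpNat.extendFunctor (CohTop.Ab X)).map (ι U hU F)

set_option backward.defeqAttrib.useBackward true in
include hlf hcov in
lemma quasiIso_φ : QuasiIso (φ U hU F) := by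
  haveI := quasiIso_ι U hU F hlf hcov
  dsimp [φ]
  infer_instance

end Groth.Agent.Helper9.CCovCech
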