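import Mathlib
import Groth.Prelude.Def_CohTop
import Groth.Agent.Helper9.LanMono

/-! Extension by zero of abelian sheaves along the inclusion of an open subspace. -/

set_option autoImplicit false
set_option backward.isDefEq.respectTransparency false
universe u

open CategoryTheory CategoryTheory.Limits Opposite TopologicalSpace

namespace Groth.Agent.Helper9.TopShriek

open Groth.Agent.Helper9.LanMono

variable {X : TopCat.{u}} (U : Opens X)

/-- the image functor `Opens U ⥤ Opens X` -/
noncomputable abbrev jF : Opens (TopCat.of U) ⥤ Opens X := U.isOpenEmbedding.isOpenMap.functor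

instance : (jF U).IsContinuous (Opens.grothendieckTopology (TopCat.of U))
    (Opens.grothendieckTopology X) :=
  U.isOpenEmbedding.functor_isContinuous

/-- the functor along which we extend -/
noncomputable abbrev L : (Opens (TopCat.of U))ᵒᵖ ⥤ (Opens X)ᵒᵖ := (jF U).op

variable (W : Opens X)

/-- index category -/
abbrev K := CostructuredArrow (L U) (op W)

/-- the preimage of `W` in `U` -/
def pre : Opens (TopCat.of U) := (Opens.map (TopCat.ofHom ⟨_, continuous_subtype_val⟩ : TopCat.of U ⟶ X)).obj W

variable {U W}

lemma le_jF_pre (h : W ≤ U) : W ≤ (jF U).obj (pre U W) := by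
  intro x hx
  exact ⟨⟨x, h hx⟩, hx, rfl⟩

lemma le_of_K (k : K U W) : W ≤ U := by
  have h1 : W ≤ (jF U).obj k.left.unop := k.hom.unop.le
  intro x hx
  obtain ⟨y, -, rfl⟩ := h1 hx
  exact y.2

lemma pre_le_of_K (k : K U W) : pre U W ≤ k.left.unop := by
  have h1 : W ≤ (jF U).obj k.left.unop := k.hom.unop.le
  intro y hy
  obtain ⟨z, hz, hzy⟩ := h1 hy
  have : z = y := Subtype.ext hzy
  exact this ▸ hz

/-- the terminal-like object -/
noncomputable def ΦObj (h : ULift.{u} (PLift (W ≤ U))) : K U W :=
  CostructuredArrow.mk (Y := op (pre U W)) (homOfLE (le_jF_pre h.down.down)).op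

/-- the locally terminal family -/
noncomputable def locTerm : LocTerm.{u} (K U W) where
  ι := ULift.{u} (PLift (W ≤ U))
  obj := ΦObj
  idx k := ⟨⟨le_of_K k⟩⟩
  toObj k := CostructuredArrow.homMk (homOfLE (pre_le_of_K k)).op (Subsingleton.elim _ _)
  idx_eq _ := Subsingleton.elim _ _
  hom_unique m m' := by
    apply CostructuredArrow.hom_ext
    exact Subsingleton.elim _ _

variable (U) in
/-- the locally terminal family over an arbitrary object of the opposite category -/
noncomputable def locTerm' (Y : (Opens X)ᵒᵖ) : LocTerm.{u} (CostructuredArrow (L U) Y) :=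
  locTerm (U := U) (W := Y.unop)

lemma preservesMono_colim (ι : Type u) :
    (colim (J := Discrete ι) (C := AddCommGrpCat.{u})).PreservesMonomorphisms := by
  haveI : PreservesFiniteLimits (colim (J := Discrete ι) (C := AddCommGrpCat.{u})) :=
    HasExactColimitsOfShape.preservesFiniteLimits
  infer_instance

variable (U) in
theorem mono_lan_map {G G' : (Opens (TopCat.of U))ᵒᵖ ⥤ AddCommGrpCat.{u}} (α : G ⟶ G') [Mono α] :
    Mono ((L U).lan.map α) := by
  haveI : ∀ Z, Mono (α.app Z) := fun Z => inferInstance
  haveI : ∀ Y, Mono (((L U).lan.map α).app Y) :=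
    LanMono.mono_lan_map (L U) (locTerm' U) (fun Y => preservesMono_colim _) α
  exact NatTrans.mono_of_mono_app _

section Sheaf

variable (U)

/-- the constructed extension by zero -/
noncomputable abbrev jshriek : CohTop.Ab (TopCat.of U) ⥤ CohTop.Ab X :=
  Functor.sheafPullbackConstruction.sheafPullback (jF U) AddCommGrpCat.{u}
    (Opens.grothendieckTopology (TopCat.of U)) (Opens.grothendieckTopology X)

/-- the adjunction -/
noncomputable abbrev jadj : jshriek U ⊣ CohTop.restrFunctor U :=
  Functor.sheafPullbackConstruction.sheafAdjunctionContinuous (jF U)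
    AddCommGrpCat.{u} (Opens.grothendieckTopology (TopCat.of U)) (Opens.grothendieckTopology X)

instance preservesMonomorphisms_jshriek : (jshriek U).PreservesMonomorphisms := by
  constructor
  intro G G' f hf
  haveI : Mono ((sheafToPresheaf (Opens.grothendieckTopology (TopCat.of U)) AddCommGrpCat.{u}).map f) :=
    inferInstance
  haveI := mono_lan_map U
    (α := (sheafToPresheaf (Opens.grothendieckTopology (TopCat.of U)) AddCommGrpCat.{u}).map f)
  exact (presheafToSheaf (Opens.grothendieckTopology X) AddCommGrpCat.{u}).map_mono _

instance isLeftAdjoint_jshriek : (jshriek U).IsLeftAdjoint := (jadj U).isLeftAdjoint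

instance additive_jshriek : (jshriek U).Additive := (jadj U).left_adjoint_additive

instance preservesFiniteLimits_jshriek : PreservesFiniteLimits (jshriek U) := by
  rw [Functor.preservesFiniteLimits_iff_forall_exact_map_and_mono]
  intro S hS
  haveI := hS.mono_f
  have hc : PreservesFiniteColimits (jshriek U) := inferInstance
  exact ⟨((Functor.preservesFiniteColimits_iff_forall_exact_map_and_epi _).1 hc S hS).1,
    (jshriek U).map_mono S.f⟩

/-- restriction to an open subspace preserves injectives -/
theorem injective_restr (I : CohTop.Ab X) [Injective I] :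
    Injective ((CohTop.restrFunctor U).obj I) :=
  Injective.injective_of_adjoint (jadj U) I

end Sheaf

end Groth.Agent.Helper9.TopShriek
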