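import Mathlib
import Groth.Prelude.Def_SuppFam
import Groth.Agent.Helper9.ClosedAdj
import Groth.Agent.Helper9.TopShriek

set_option autoImplicit false
universe u
open CategoryTheory CategoryTheory.Limits TopologicalSpace Opposite

namespace Groth.Agent.Helper9.SuppLCInj

open Groth.Agent.Helper9.ClosedAdj Groth.Agent.Helper9.ClosedEmb

attribute [local instance] reflectsLimits_of_reflectsIsomorphisms in
theorem preservesFiniteLimits_pull {X Y : TopCat.{u}} (f : X ⟶ Y) :
    PreservesFiniteLimits (CohTop.pull f) :=
  Functor.sheafPullbackConstruction.preservesFiniteLimits (Opens.map f) AddCommGrpCat.{u}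
    (Opens.grothendieckTopology Y) (Opens.grothendieckTopology X)

/-- pushforward preserves injectives -/
theorem injective_push {X Y : TopCat.{u}} (f : X ⟶ Y) (I : CohTop.Ab X) [hI : Injective I] :
    Injective ((CohTop.push f).obj I) := by
  haveI : PreservesFiniteLimits (TopCat.Sheaf.pullback AddCommGrpCat.{u} f) :=
    preservesFiniteLimits_pull f
  haveI : (TopCat.Sheaf.pullback AddCommGrpCat.{u} f).PreservesMonomorphisms :=
    preservesMonomorphisms_of_preservesLimitsOfShape _
  exact @Injective.injective_of_adjoint _ _ _ _ _ _ _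
    (TopCat.Sheaf.pullbackPushforwardAdjunction AddCommGrpCat.{u} f) I hI

/-- sections supported in a closed subset of an injective sheaf form an injective sheaf -/
theorem injective_sectSupp {X : TopCat.{u}} (U : Opens X) (I : CohTop.Ab X) [Injective I] :
    Injective ((LocCohZ.sectSuppF U).obj I) := by
  haveI : (CohTop.push (CohCx.inclCompl U)).PreservesMonomorphisms :=
    Functor.preservesMonomorphisms_of_adjunction (adjI U)
  haveI h1 : Injective ((LocCohZ.sectSuppF U ⋙ CohTop.pull (CohCx.inclCompl U)).obj I) :=
    Injective.injective_of_adjoint (pushAdj U) I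
  haveI h2 : Injective ((CohTop.push (CohCx.inclCompl U)).obj
      ((LocCohZ.sectSuppF U ⋙ CohTop.pull (CohCx.inclCompl U)).obj I)) :=
    injective_push _ _
  haveI := isIso_unit_sectSupp U I
  exact Injective.of_iso (asIso ((adjI U).unit.app ((LocCohZ.sectSuppF U).obj I))).symm h2

theorem injective_sectSuppLC {X : TopCat.{u}} (F : CohTop.Ab X) {W V : Opens X} (h : W ≤ V)
    [Injective F] : Injective ((SuppFam.sectSuppLC h).obj F) := by
  haveI := Groth.Agent.Helper9.TopShriek.injective_restr V F
  haveI := injective_sectSupp (SuppFam.inOpen V W) ((CohTop.restrFunctor V).obj F)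
  exact injective_push (CohCx.incl V) _

end Groth.Agent.Helper9.SuppLCInj
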