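import Mathlib
import Groth.Prelude.Def_CohTop
import Groth.Agent.Helper9.CCovLoc
import Groth.Agent.Helper9.CCovQuot
import Groth.Agent.Helper9.SuppLCInj

/-!
# `Ext` commutes with products of sheaves supported on a locally finite closed family
-/

set_option autoImplicit false
set_option backward.isDefEq.respectTransparency false

namespace Groth.Agent.Helper9.CCovExt

open CategoryTheory Limits TopologicalSpace Opposite Abelian Groth.Agent.Helper9.CCovLoc
  Groth.Agent.Helper9.CCovQuot Groth.Agent.Helper9.ClosedEmb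

universe u w
variable {X : TopCat.{u}}

/-- quotients of sheaves without sections off `Z` have no sections off `Z` -/
lemma trivOn_of_epi {Z : Set X} {J C : CohTop.Ab X} (c : J ⟶ C) [Epi c] (hJ : TrivOn Z J) :
    TrivOn Z C := by
  intro W hW s
  apply eq_zero_of_local
  intro x hx
  obtain ⟨N, hN, hxN, t, ht⟩ := epi_local_lift c s x hx
  refine ⟨N, hN, hxN, ?_⟩
  have hd : Disjoint (N : Set X) Z := Set.disjoint_of_subset_left (fun y hy => hN hy) hW
  rw [← ht, hJ N hd t, map_zero]

/-- sheaves without sections off the closed set `Z` embed into injective such sheaves -/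
lemma exists_injective_embedding {Z : Set X} (hZ : IsClosed Z) (G : CohTop.Ab X) (hG : TrivOn Z G) :
    ∃ (J : CohTop.Ab X) (_ : Injective J) (m : G ⟶ J), Mono m ∧ TrivOn Z J := by
  have hi := isClosedEmbedding_incl hZ
  obtain ⟨H, ⟨e⟩⟩ := mem_essImage (incl Z) hi G ((trivOn_iff_trivOff hZ G).1 hG)
  haveI : (CohTop.push (incl Z)).PreservesMonomorphisms :=
    Functor.preservesMonomorphisms_of_adjunction (CohPull.invPushAdj (incl Z))
  haveI : Mono ((CohTop.push (incl Z)).map (Injective.ι H)) := Functor.map_mono _ _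
  refine ⟨(CohTop.push (incl Z)).obj (Injective.under H),
    Groth.Agent.Helper9.SuppLCInj.injective_push (incl Z) (Injective.under H),
    e.inv ≫ (CohTop.push (incl Z)).map (Injective.ι H), mono_comp _ _, ?_⟩
  rw [trivOn_iff_trivOff hZ]
  exact trivOff_push (incl Z) hi _

section Main

variable [HasExt.{w} (CohTop.Ab X)]
variable {κ : Type u} (Zs : κ → Set X) (hc : ∀ σ, IsClosed (Zs σ)) (hlf : LocallyFinite Zs)

/-- the comparison map -/
noncomputable def cmp (A : CohTop.Ab X) (G : κ → CohTop.Ab X) (q : ℕ) :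
    Ext.{w} A (∏ᶜ G) q →+ ∀ σ, Ext.{w} A (G σ) q :=
  Pi.addMonoidHom (fun σ => (Ext.mk₀ (Pi.π G σ)).postcomp A (add_zero q))

lemma cmp_apply (A : CohTop.Ab X) (G : κ → CohTop.Ab X) (q : ℕ) (e : Ext.{w} A (∏ᶜ G) q) (σ : κ) :
    cmp A G q e σ = e.comp (Ext.mk₀ (Pi.π G σ)) (add_zero q) := rfl

lemma cmp_zero_bijective (A : CohTop.Ab X) (G : κ → CohTop.Ab X) :
    Function.Bijective (cmp.{u, w} A G 0) := by
  constructor
  · intro e e' h
    obtain ⟨f, rfl⟩ := (Ext.mk₀_bijective _ _).2 e
    obtain ⟨f', rfl⟩ := (Ext.mk₀_bijective _ _).2 e'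
    congr 1
    apply Pi.hom_ext
    intro σ
    have := congrFun h σ
    rw [cmp_apply, cmp_apply, Ext.mk₀_comp_mk₀, Ext.mk₀_comp_mk₀] at this
    exact (Ext.mk₀_bijective _ _).1 this
  · intro e
    choose f hf using fun σ => (Ext.mk₀_bijective _ _).2 (e σ)
    refine ⟨Ext.mk₀ (Pi.lift f), ?_⟩
    funext σ
    rw [cmp_apply, Ext.mk₀_comp_mk₀, Pi.lift_π, hf]

include hc hlf in
theorem cmp_bijective (q : ℕ) : ∀ (A : CohTop.Ab X) (G : κ → CohTop.Ab X),
    (∀ σ, TrivOn (Zs σ) (G σ)) → Function.Bijective (cmp.{u, w} A G q) := by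
  induction q with
  | zero => exact fun A G _ => cmp_zero_bijective A G
  | succ q ih =>
    intro A G hG
    choose J hJinj m hm hJ using fun σ => exists_injective_embedding (hc σ) (G σ) (hG σ)
    haveI : ∀ σ, Injective (J σ) := hJinj
    haveI : ∀ σ, Mono (m σ) := hm
    let C : κ → CohTop.Ab X := fun σ => cokernel (m σ)
    let c : ∀ σ, J σ ⟶ C σ := fun σ => cokernel.π (m σ)
    have hC : ∀ σ, TrivOn (Zs σ) (C σ) := fun σ => trivOn_of_epi (c σ) (hJ σ)
    let S : κ → ShortComplex (CohTop.Ab X) := fun σ =>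
      ShortComplex.mk (m σ) (c σ) (cokernel.condition (m σ))
    have hS : ∀ σ, (S σ).ShortExact := fun σ =>
      { exact := ShortComplex.exact_cokernel (m σ)
        mono_f := hm σ
        epi_g := inferInstanceAs (Epi (cokernel.π (m σ))) }
    have w : Limits.Pi.map m ≫ Limits.Pi.map c = 0 := by
      apply Pi.hom_ext
      intro σ
      rw [Category.assoc, Limits.Pi.map_π, Limits.Pi.map_π_assoc, zero_comp]
      show Pi.π G σ ≫ m σ ≫ cokernel.π (m σ) = 0
      rw [cokernel.condition, comp_zero]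
    let P : ShortComplex (CohTop.Ab X) := ShortComplex.mk (Limits.Pi.map m) (Limits.Pi.map c) w
    haveI : Epi (Limits.Pi.map c) := epi_piMap Zs hc hlf c hC
    have hPex : P.Exact := by
      apply ShortComplex.exact_of_f_is_kernel
      refine KernelFork.IsLimit.ofι _ _
        (fun {T} k hk => Pi.lift (fun σ => (hS σ).exact.lift (k ≫ Pi.π J σ) (by
          show (k ≫ Pi.π J σ) ≫ c σ = 0
          rw [Category.assoc, ← Limits.Pi.map_π, reassoc_of% hk, zero_comp])))
        (fun {T} k hk => ?_) (fun {T} k hk l hl => ?_)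
      · apply Pi.hom_ext
        intro σ
        show (_ ≫ Limits.Pi.map m) ≫ _ = _
        rw [Category.assoc, Limits.Pi.map_π, Pi.lift_π_assoc]
        exact (hS σ).exact.lift_f _ _
      · rw [← cancel_mono (Limits.Pi.map m)]
        apply Pi.hom_ext
        intro σ
        have hl' : l ≫ Limits.Pi.map m = k := hl
        rw [hl', Category.assoc, Limits.Pi.map_π, Pi.lift_π_assoc]
        exact ((hS σ).exact.lift_f _ _).symm
    have hP : P.ShortExact :=
      { exact := hPex
        mono_f := inferInstanceAs (Mono (Limits.Pi.map m))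
        epi_g := inferInstanceAs (Epi (Limits.Pi.map c)) }
    -- the projections, as morphisms of short complexes
    let pr : ∀ σ, P ⟶ S σ := fun σ =>
      { τ₁ := Pi.π G σ
        τ₂ := Pi.π J σ
        τ₃ := Pi.π C σ
        comm₁₂ := (Limits.Pi.map_π m σ).symm
        comm₂₃ := (Limits.Pi.map_π c σ).symm }
    have nat : ∀ (σ : κ) (f : Ext.{w} A (∏ᶜ C) q),
        (f.comp hP.extClass rfl).comp (Ext.mk₀ (Pi.π G σ)) (add_zero (q + 1)) =
          (f.comp (Ext.mk₀ (Pi.π C σ)) (add_zero q)).comp (hS σ).extClass rfl := by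
      intro σ f
      have h1 := ShortComplex.ShortExact.extClass_naturality hP (hS σ) (pr σ)
      rw [Ext.comp_assoc f hP.extClass (Ext.mk₀ (Pi.π G σ)) rfl (add_zero 1) (by omega)]
      rw [Ext.comp_assoc f (Ext.mk₀ (Pi.π C σ)) (hS σ).extClass (add_zero q) (zero_add 1)
        (by omega)]
      exact congrArg (fun z => f.comp z rfl) h1
    have ihJ := ih A J hJ
    have ihC := ih A C hC
    constructor
    · rw [injective_iff_map_eq_zero]
      intro e he
      have he' : ∀ σ, e.comp (Ext.mk₀ (Pi.π G σ)) (add_zero (q + 1)) = 0 := fun σ => congrFun he σ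
      obtain ⟨f, rfl⟩ := Ext.covariant_sequence_exact₁ A hP e
        (Ext.eq_zero_of_injective _) (n₀ := q) rfl
      have h2 : ∀ σ, ∃ g : Ext.{w} A (J σ) q,
          g.comp (Ext.mk₀ (c σ)) (add_zero q) = f.comp (Ext.mk₀ (Pi.π C σ)) (add_zero q) := by
        intro σ
        refine Ext.covariant_sequence_exact₃ A (hS σ) (f.comp (Ext.mk₀ (Pi.π C σ)) (add_zero q))
          rfl ?_
        rw [← nat σ f]
        exact he' σ
      choose g hg using h2
      obtain ⟨g', hg'⟩ := ihJ.2 g
      have hg'' : ∀ σ, g'.comp (Ext.mk₀ (Pi.π J σ)) (add_zero q) = g σ := fun σ => congrFun hg' σ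
      have hf : g'.comp (Ext.mk₀ (Limits.Pi.map c)) (add_zero q) = f := by
        apply ihC.1
        funext σ
        rw [cmp_apply, cmp_apply,
          Ext.comp_assoc g' (Ext.mk₀ (Limits.Pi.map c)) (Ext.mk₀ (Pi.π C σ)) (add_zero q)
            (add_zero 0) (by omega),
          Ext.mk₀_comp_mk₀, Limits.Pi.map_π, ← Ext.mk₀_comp_mk₀,
          ← Ext.comp_assoc g' (Ext.mk₀ (Pi.π J σ)) (Ext.mk₀ (c σ)) (add_zero q) (add_zero 0)
            (by omega), hg'', hg]
      rw [← hf, Ext.comp_assoc g' (Ext.mk₀ (Limits.Pi.map c)) hP.extClass (add_zero q)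
        (zero_add 1) (by omega)]
      have : (Ext.mk₀ (Limits.Pi.map c)).comp hP.extClass (zero_add 1) = 0 := hP.comp_extClass
      rw [this, Ext.comp_zero]
    · intro e
      have h1 : ∀ σ, ∃ f : Ext.{w} A (C σ) q, f.comp (hS σ).extClass rfl = e σ := fun σ =>
        Ext.covariant_sequence_exact₁ A (hS σ) (e σ) (Ext.eq_zero_of_injective _) rfl
      choose f hf using h1
      obtain ⟨f', hf'⟩ := ihC.2 f
      have hf'' : ∀ σ, f'.comp (Ext.mk₀ (Pi.π C σ)) (add_zero q) = f σ := fun σ => congrFun hf' σ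
      refine ⟨f'.comp hP.extClass rfl, ?_⟩
      funext σ
      rw [cmp_apply, nat σ f', hf'', hf]

end Main

end Groth.Agent.Helper9.CCovExt
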