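import Mathlib
import Groth.Prelude.Def_SpSeq
import Groth.Agent.Helper9.SpConvC

/-! The `E₁` cohomological spectral sequence of a spectral object indexed by `EInt`
(increasing filtration index `a`, to be thought of as `σ_{≥ -a}`), and its convergence in the
form of the prelude's `SpSeq.Abutment`, under first-quadrant type vanishing conditions. -/

set_option autoImplicit false
set_option linter.style.haveILetI false
set_option linter.unusedSectionVars false
universe v u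

open CategoryTheory CategoryTheory.Limits CategoryTheory.Abelian ComposableArrows

namespace Groth.Agent.Helper9.SpE1A

open Groth.Agent.Helper9.SpConvB Groth.Agent.Helper9.SpConvC

/-- The data core of the `E₁` spectral sequence: `E₁^{p,q} = H^{p+q}(-p-1 ≤ -p)`. -/
@[simps!]
def coreE₁ : SpectralObject.SpectralSequenceDataCore EInt
    (fun r ↦ ComplexShape.up' (⟨r, 1 - r⟩ : ℤ × ℤ)) 1 where
  deg pq := pq.1 + pq.2
  i₀ r pq hr := ((-pq.1 - r : ℤ) : EInt)
  i₁ pq := ((-pq.1 - 1 : ℤ) : EInt)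
  i₂ pq := ((-pq.1 : ℤ) : EInt)
  i₃ r pq hr := ((-pq.1 + r - 1 : ℤ) : EInt)
  le₀₁ r pq hr := by simp; lia
  le₁₂ pq := by simp
  le₂₃ r pq hr := by simp; lia
  hc := by rintro r pq _ rfl _; dsimp; lia
  hc₀₂ := by rintro r pq hr rfl _; simp; lia
  hc₁₃ := by rintro r pq hr rfl _; simp
  antitone_i₀ r r' pq hr hrr' := by simp; lia
  monotone_i₃ r r' pq hr hrr' := by simp; lia
  i₀_prev := by
    rintro r r' hr pq rfl _ _
    dsimp
    lia +mbtc
  i₃_next := by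
    rintro r r' hr pq rfl _ _
    dsimp
    lia +mbtc

variable {C : Type u} [Category.{v} C] [Abelian C]

instance (E : SpectralObject C EInt) : E.HasSpectralSequence coreE₁ where
  isZero_H_obj_mk₁_i₀_le r r' pq hpq n hn hrr' hr := by
    exfalso
    exact hpq _ rfl
  isZero_H_obj_mk₁_i₃_le r r' pq hpq n hn hrr' hr := by
    exfalso
    exact hpq (pq - (r, 1 - r)) (by simp)

instance : coreE₁.HasFirstPageComputation where
  hi₀₁ pq := by simp [coreE₁]
  hi₂₃ pq := by simp [coreE₁]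

variable (Y : SpectralObject C EInt)

/-- the `E₁` spectral sequence -/
noncomputable abbrev E₁SpectralSequence : CohomologicalSpectralSequence C 1 :=
  Y.spectralSequence coreE₁

/-- First quadrant type vanishing for the `E₁` spectral sequence. -/
class IsE1FirstQuadrant : Prop where
  isZero₁ (i j : EInt) (hij : i ≤ j) (n : ℤ) (hj : j ≤ ((-n - 1 : ℤ) : EInt)) :
    IsZero ((Y.H n).obj (mk₁ (homOfLE hij)))
  isZero₂ (i j : EInt) (hij : i ≤ j) (n : ℤ) (hi : ((0 : ℤ) : EInt) ≤ i) :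
    IsZero ((Y.H n).obj (mk₁ (homOfLE hij)))

variable [IsE1FirstQuadrant Y]

lemma isZero₁ (i j : EInt) (hij : i ≤ j) (n : ℤ) (hj : j ≤ ((-n - 1 : ℤ) : EInt)) :
    IsZero ((Y.H n).obj (mk₁ (homOfLE hij))) := IsE1FirstQuadrant.isZero₁ i j hij n hj

lemma isZero₂ (i j : EInt) (hij : i ≤ j) (n : ℤ) (hi : ((0 : ℤ) : EInt) ≤ i) :
    IsZero ((Y.H n).obj (mk₁ (homOfLE hij))) := IsE1FirstQuadrant.isZero₂ i j hij n hi

/-- the decreasing filtration on the abutment -/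
noncomputable def fil (n : ℤ) (p : ℤ) : Subobject (Hn Y n) := G Y n ((-p : ℤ) : EInt)

lemma fil_anti (n : ℤ) : Antitone (fil Y n) := fun p p' h =>
  G_mono Y n (by
    rw [WithBotTop.coe_le_coe]
    lia)

/-- the page from which position `pq` is stationary -/
def rk (pq : ℤ × ℤ) : ℤ := max 1 (max (pq.2 + 2) (pq.1 + 1))

lemma one_le_rk (pq : ℤ × ℤ) : 1 ≤ rk pq := le_max_left _ _

lemma snd_le_rk (pq : ℤ × ℤ) : pq.2 + 2 ≤ rk pq :=
  (le_max_left _ _).trans (le_max_right _ _)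

lemma fst_le_rk (pq : ℤ × ℤ) : pq.1 + 1 ≤ rk pq :=
  (le_max_right _ _).trans (le_max_right _ _)

lemma isZero_page_of_fst_neg (r : ℤ) (hr : 1 ≤ r) (pq : ℤ × ℤ) (hp : pq.1 < 0) :
    IsZero (((E₁SpectralSequence Y).page r hr).X pq) :=
  SpectralObject.isZero_spectralSequence_page_X_of_isZero_H' _ _ _ hr _
    (isZero₂ Y _ _ _ _ (by simp; lia))

lemma isZero_page_of_snd_neg (r : ℤ) (hr : 1 ≤ r) (pq : ℤ × ℤ) (hq : pq.2 < 0) :
    IsZero (((E₁SpectralSequence Y).page r hr).X pq) :=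
  SpectralObject.isZero_spectralSequence_page_X_of_isZero_H' _ _ _ hr _
    (isZero₁ Y _ _ _ _ (by simp; lia))

lemma stat (pq : ℤ × ℤ) : SpSeq.StationaryAt (E₁SpectralSequence Y) pq (rk pq) := by
  refine ⟨one_le_rk pq, fun r' h₀ hr' => ⟨?_, ?_⟩⟩
  · apply (isZero_page_of_fst_neg Y r' h₀ _ _).eq_of_src
    have := fst_le_rk pq
    simp only [Prod.fst_sub]
    lia
  · apply (isZero_page_of_snd_neg Y r' h₀ _ _).eq_of_tgt
    have := snd_le_rk pq
    simp only [Prod.snd_add]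
    lia

/-- the limit term at `pq` -/
noncomputable abbrev EinfPQ (pq : ℤ × ℤ) : C :=
  Einf Y (pq.1 + pq.2) ((-pq.1 - 1 : ℤ) : EInt) ((-pq.1 : ℤ) : EInt)
    (by rw [WithBotTop.coe_le_coe]; lia)

/-- the page `r` at `pq` is the limit term for `r ≥ rk pq` -/
noncomputable def pageIsoEinf (pq : ℤ × ℤ) (r : ℤ) (hr : rk pq ≤ r) :
    ((E₁SpectralSequence Y).page r ((one_le_rk pq).trans hr)).X pq ≅ EinfPQ Y pq :=
  Y.spectralSequencePageXIso coreE₁ r ((one_le_rk pq).trans hr) pq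
      ((-pq.1 - r : ℤ) : EInt) ((-pq.1 - 1 : ℤ) : EInt) ((-pq.1 : ℤ) : EInt)
      ((-pq.1 + r - 1 : ℤ) : EInt) rfl rfl rfl rfl
      (pq.1 + pq.2 - 1) (pq.1 + pq.2) (pq.1 + pq.2 + 1) rfl ≪≫
    (Y.isoMapFourδ₁Toδ₀' ⊥ ((-pq.1 - r : ℤ) : EInt) ((-pq.1 - 1 : ℤ) : EInt)
      ((-pq.1 : ℤ) : EInt) ((-pq.1 + r - 1 : ℤ) : EInt) bot_le
      (by rw [WithBotTop.coe_le_coe]; have := one_le_rk pq; lia)
      (by rw [WithBotTop.coe_le_coe]; lia)
      (by rw [WithBotTop.coe_le_coe]; have := one_le_rk pq; lia)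
      (pq.1 + pq.2 - 1) (pq.1 + pq.2) (pq.1 + pq.2 + 1)
      (isZero₁ Y _ _ _ _
        (by rw [WithBotTop.coe_le_coe]; have := snd_le_rk pq; lia))).symm ≪≫
    Y.isoMapFourδ₄Toδ₃' ⊥ ((-pq.1 - 1 : ℤ) : EInt)
      ((-pq.1 : ℤ) : EInt) ((-pq.1 + r - 1 : ℤ) : EInt) ⊤ bot_le
      (by rw [WithBotTop.coe_le_coe]; lia)
      (by rw [WithBotTop.coe_le_coe]; have := one_le_rk pq; lia) le_top
      (pq.1 + pq.2 - 1) (pq.1 + pq.2) (pq.1 + pq.2 + 1)
      (isZero₂ Y _ _ _ _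
        (by rw [WithBotTop.coe_le_coe]; have := fst_le_rk pq; lia))

/-- the graded pieces of the filtration are the limit terms -/
noncomputable def grIsoEinf (pq : ℤ × ℤ) :
    SpSeq.grPiece (fil Y (pq.1 + pq.2)) (fil_anti Y (pq.1 + pq.2)) pq.1 ≅ EinfPQ Y pq :=
  grIsoE Y (pq.1 + pq.2) ((-(pq.1 + 1) : ℤ) : EInt)
      ((-pq.1 : ℤ) : EInt) (by rw [WithBotTop.coe_le_coe]; lia) ≪≫
    EinfCongr Y (pq.1 + pq.2) (by congr 1; lia) rfl _ _

/-- the abutment -/
noncomputable def abut : SpSeq.Abutment (E₁SpectralSequence Y) (fun n => Hn Y n) where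
  fil n := fil Y n
  anti n := fil_anti Y n
  rk := rk
  stat := stat Y
  β pq := pageIsoEinf Y pq (rk pq) le_rfl ≪≫ (grIsoEinf Y pq).symm

lemma abut_isFinite (n : ℤ) : (abut Y).IsFinite n := by
  refine ⟨⟨0, ?_⟩, ⟨n + 1, ?_⟩⟩
  · show G Y n ((-0 : ℤ) : EInt) = ⊤
    exact G_eq_top Y n _ (isZero₂ Y _ _ _ _
      (by rw [WithBotTop.coe_le_coe]; lia))
  · show G Y n ((-(n + 1) : ℤ) : EInt) = ⊥
    exact G_eq_bot Y n _ (isZero₁ Y _ _ _ _
      (by rw [WithBotTop.coe_le_coe]; lia))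

lemma isBounded : SpSeq.IsBounded (E₁SpectralSequence Y) := by
  intro n
  refine (Set.finite_Icc (0 : ℤ) n).subset ?_
  intro p hp
  simp only [Set.mem_ofPred_eq] at hp
  rw [Set.mem_Icc]
  by_contra hcon
  apply hp
  by_cases h0 : 0 ≤ p
  · exact isZero_page_of_snd_neg Y 1 le_rfl (p, n - p) (by dsimp only; lia)
  · exact isZero_page_of_fst_neg Y 1 le_rfl (p, n - p) (by dsimp only; lia)

/-- the first page -/
noncomputable def pageOneIso (pq : ℤ × ℤ) :
    ((E₁SpectralSequence Y).page 1 le_rfl).X pq ≅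
      (Y.H (pq.1 + pq.2)).obj (mk₁ (homOfLE
        (show ((-pq.1 - 1 : ℤ) : EInt) ≤ ((-pq.1 : ℤ) : EInt) by
          rw [WithBotTop.coe_le_coe]; lia))) :=
  Y.spectralSequenceFirstPageXIso coreE₁ pq _ _ rfl rfl _ rfl

/-- The main convergence statement in the form used by the statements. -/
theorem exists_abutment (H' : ℤ → C) (e : ∀ n, Hn Y n ≅ H' n) :
    ∃ (a : SpSeq.Abutment (E₁SpectralSequence Y) H'), (∀ n, a.IsFinite n) :=
  ⟨transport e (abut Y), fun n => transport_isFinite e _ n (abut_isFinite Y n)⟩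

end Groth.Agent.Helper9.SpE1A
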