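import Mathlib
import Groth.Prelude.Def_SpSeq
import Groth.Agent.Helper9.SpE1A
import Groth.Agent.Helper9.StupidFil
import Groth.Agent.Helper9.StupidFil2
import Groth.Agent.Helper9.SpMapHom
import Groth.Agent.Helper9.SpShrink
import Groth.Agent.Helper9.SpHyper
import Groth.Agent.Helper9.SpD
import Groth.Agent.Helper9.SpFinalGen

/-!
# The `E₁` spectral sequence of the stupid filtration of a bounded below complex, for `Hom(X₀, -)`
`E₁^{p,q} = Ext^q(X₀, L^p) ⇒ Hom_D(X₀, L[p+q])`.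
-/

set_option autoImplicit false
set_option linter.style.haveILetI false
set_option linter.unusedSectionVars false

namespace Groth.Agent.Helper9.SpE1B

open CategoryTheory Limits Abelian Opposite CategoryTheory.Pretriangulated ComposableArrows
open CochainComplex HomComplex DerivedCategory
open Groth.Agent.Helper9

universe v u

variable {ℬ : Type u} [Category.{v} ℬ] [Abelian ℬ] [EnoughInjectives ℬ] [HasExt.{v} ℬ]
  (X₀ : ℬ) (L : CochainComplex ℬ ℤ) [L.IsStrictlyGE 0]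

attribute [local instance] HasDerivedCategory.standard

/-- the object `X₀[0]` of the derived category -/
noncomputable abbrev S : DerivedCategory ℬ := Q.obj (SpHyper.S₀ X₀)

/-- the triangulated spectral object of the stupid filtration -/
noncomputable def Xtri : Triangulated.SpectralObject (DerivedCategory ℬ) EInt :=
  ((HomotopyCategory.spectralObjectMappingCone ℬ).precomp (StupidFil.Φ L)).mapTriangulatedFunctor Qh

lemma Xtri_ω₁_obj {i j : EInt} (f : i ⟶ j) :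
    (Xtri L).ω₁.obj (mk₁ f) = Q.obj (mappingCone ((StupidFil.Φ L).map f)) := rfl

/-- the big spectral object -/
noncomputable abbrev Ybig : SpectralObject AddCommGrpCat.{max u v} EInt :=
  SpMapHom.mapHomological (Xtri L) (preadditiveCoyoneda.obj (op (S X₀)))

lemma Ybig_H_obj (n : ℤ) (D : ComposableArrows EInt 1) :
    ((Ybig X₀ L).H n).obj D = AddCommGrpCat.of (S X₀ ⟶ ((Xtri L).ω₁.obj D)⟦n⟧) := rfl


/-- the quotient complex `Φ j / Φ i` -/
noncomputable abbrev Qc (i j : EInt) : CochainComplex ℬ ℤ := StupidFil.cut L (StupidFil.Pq i j)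

/-- the cone of `Φ i ⟶ Φ j` is the quotient, in the derived category -/
noncomputable def ωIso' {i j : EInt} (f : i ⟶ j) :
    Q.obj (mappingCone (StupidFil.sc L f).f) ≅ Q.obj (StupidFil.sc L f).X₃ :=
  haveI : IsIso (Q.map (mappingCone.descShortComplex (StupidFil.sc L f))) :=
    (isIso_Q_map_iff_quasiIso ℬ (mappingCone.descShortComplex (StupidFil.sc L f))).2
      (mappingCone.quasiIso_descShortComplex (StupidFil.sc_shortExact L f))
  asIso (Q.map (mappingCone.descShortComplex (StupidFil.sc L f)))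

/-- the cone of `Φ i ⟶ Φ j` is the quotient, in the derived category -/
noncomputable def ωIso {i j : EInt} (f : i ⟶ j) :
    (Xtri L).ω₁.obj (mk₁ f) ≅ Q.obj (Qc L i j) := ωIso' L f

instance (a : EInt) : ((StupidFil.Φ L).obj a).IsStrictlyGE 0 := StupidFil.isStrictlyGE_cut L 0

instance (n : ℤ) (D : ComposableArrows EInt 1) : Small.{v} (((Ybig X₀ L).H n).obj D) := by
  obtain ⟨i, j, f, rfl⟩ := ComposableArrows.mk₁_surjective D
  rw [Ybig_H_obj, Xtri_ω₁_obj]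
  haveI : (mappingCone ((StupidFil.Φ L).map f)).IsStrictlyGE (-1) :=
    CochainComplex.isStrictlyGE_mappingCone _ 0 0 (-1)
  haveI : TStructure.t.IsGE (Q.obj (mappingCone ((StupidFil.Φ L).map f))) (-1) :=
    inferInstanceAs ((Q.obj (mappingCone ((StupidFil.Φ L).map f))).IsGE (-1))
  haveI : TStructure.t.IsGE ((Q.obj (mappingCone ((StupidFil.Φ L).map f)))⟦n⟧) (-1 - n) :=
    TStructure.t.isGE_shift _ (-1) n (-1 - n)
  exact SpD.small_hom_of_isGE (SpHyper.S₀ X₀) _ (-1 - n)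

/-- the small spectral object -/
noncomputable abbrev Ysm : SpectralObject AddCommGrpCat.{v} EInt :=
  SpShrink.shrink.{v} (Ybig X₀ L)

instance : TStructure.t.IsLE (S X₀) 0 :=
  inferInstanceAs ((Q.obj ((CochainComplex.singleFunctor ℬ 0).obj X₀)).IsLE 0)

lemma isZero_H_of_isStrictlyGE (n : ℤ) {i j : EInt} (f : i ⟶ j)
    [(Qc L i j).IsStrictlyGE (n + 1)] : IsZero (((Ybig X₀ L).H n).obj (mk₁ f)) := by
  rw [Ybig_H_obj]
  haveI : TStructure.t.IsGE (Q.obj (Qc L i j)) (n + 1) :=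
    inferInstanceAs ((Q.obj (Qc L i j)).IsGE (n + 1))
  haveI : TStructure.t.IsGE ((Xtri L).ω₁.obj (mk₁ f)) (n + 1) :=
    TStructure.t.isGE_of_iso (ωIso L f).symm (n + 1)
  haveI : TStructure.t.IsGE (((Xtri L).ω₁.obj (mk₁ f))⟦n⟧) 1 :=
    TStructure.t.isGE_shift _ (n + 1) n 1
  haveI : Subsingleton (S X₀ ⟶ ((Xtri L).ω₁.obj (mk₁ f))⟦n⟧) :=
    ⟨fun a b => (TStructure.t.zero a 0 1).trans (TStructure.t.zero b 0 1).symm⟩
  exact AddCommGrpCat.isZero_of_subsingleton _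

lemma isZero_H_of_isZero (n : ℤ) {i j : EInt} (f : i ⟶ j)
    (h : IsZero (Qc L i j)) : IsZero (((Ybig X₀ L).H n).obj (mk₁ f)) := by
  rw [Ybig_H_obj]
  have h1 : IsZero ((Xtri L).ω₁.obj (mk₁ f)) := (Q.map_isZero h).of_iso (ωIso L f)
  have h2 : IsZero (((Xtri L).ω₁.obj (mk₁ f))⟦n⟧) :=
    (CategoryTheory.shiftFunctor (DerivedCategory ℬ) n).map_isZero h1
  haveI : Subsingleton (S X₀ ⟶ ((Xtri L).ω₁.obj (mk₁ f))⟦n⟧) :=
    ⟨fun a b => h2.eq_of_tgt a b⟩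
  exact AddCommGrpCat.isZero_of_subsingleton _

instance : SpE1A.IsE1FirstQuadrant (Ysm X₀ L) where
  isZero₁ i j hij n hj := by
    haveI : (Qc L i j).IsStrictlyGE (n + 1) := StupidFil.isStrictlyGE_cut_of L (n + 1) (by
      intro m hm
      have h1 : ((-m : ℤ) : EInt) ≤ ((-n - 1 : ℤ) : EInt) := le_trans hm.1 hj
      rw [WithBotTop.coe_le_coe] at h1
      lia)
    exact SpShrink.isZero_sObj _ (isZero_H_of_isStrictlyGE X₀ L n (homOfLE hij))
  isZero₂ i j hij n hi := by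
    refine SpShrink.isZero_sObj _ (isZero_H_of_isZero X₀ L n (homOfLE hij) ?_)
    refine StupidFil.isZero_cut L (fun m hm => ?_)
    have hm0 : m < 0 := by
      by_contra hcon
      apply hm.2
      refine le_trans ?_ hi
      rw [WithBotTop.coe_le_coe]
      lia
    exact L.isZero_of_isStrictlyGE 0 m hm0


section Abut

variable (F : ℬ) (φ : (CochainComplex.singleFunctor ℬ 0).obj F ⟶ L) [QuasiIso φ]

lemma Pq_bot_top (m : ℤ) : StupidFil.Pq ⊥ ⊤ m := ⟨StupidFil.Pa_top m, StupidFil.not_Pa_bot m⟩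

/-- `Hom(S, ω₁(⊥ ≤ ⊤)[n]) ≃ Hom(S, F[n])` -/
noncomputable def abutEquiv (n : ℤ) :
    (SpConvB.Hn (Ysm X₀ L) n : AddCommGrpCat.{v}) ≃+
      (S X₀ ⟶ ((DerivedCategory.singleFunctor ℬ 0).obj F)⟦n⟧) :=
  let e1 : (SpConvB.Hn (Ysm X₀ L) n : AddCommGrpCat.{v}) ≃+
      (S X₀ ⟶ ((Xtri L).ω₁.obj (mk₁ (homOfLE (bot_le : (⊥ : EInt) ≤ ⊤))))⟦n⟧) :=
    SpShrink.sEquiv (((Ybig X₀ L).H n).obj (mk₁ (homOfLE (bot_le : (⊥ : EInt) ≤ ⊤))))
  let e2 := SpD.postcompAddEquiv (S X₀)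
    ((CategoryTheory.shiftFunctor (DerivedCategory ℬ) n).mapIso
      (ωIso L (homOfLE (bot_le : (⊥ : EInt) ≤ ⊤))))
  let e3 := SpD.postcompAddEquiv (S X₀)
    ((CategoryTheory.shiftFunctor (DerivedCategory ℬ) n).mapIso
      (Q.mapIso (StupidFil.cutIsoOfForall L Pq_bot_top)))
  haveI : IsIso (Q.map φ) := (isIso_Q_map_iff_quasiIso ℬ φ).2 inferInstance
  let e4 := SpD.postcompAddEquiv (S X₀)
    ((CategoryTheory.shiftFunctor (DerivedCategory ℬ) n).mapIso (asIso (Q.map φ)).symm)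
  let e5 := SpD.postcompAddEquiv (S X₀)
    ((CategoryTheory.shiftFunctor (DerivedCategory ℬ) n).mapIso
      ((singleFunctorIsoCompQ ℬ 0).app F).symm)
  e1.trans (e2.trans (e3.trans (e4.trans e5)))

include φ in
lemma nonempty_abutIso_nat (n' : ℕ) :
    Nonempty (SpConvB.Hn (Ysm X₀ L) (n' : ℤ) ≅ AddCommGrpCat.of (Ext.{v} X₀ F n')) := by
  let e5 := SpHyper.precompAddEquiv ((singleFunctorIsoCompQ ℬ 0).app X₀)
    (((DerivedCategory.singleFunctor ℬ 0).obj F)⟦(n' : ℤ)⟧)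
  let e6 := (Ext.homAddEquiv (X := X₀) (Y := F) (n := n')).symm
  exact ⟨((abutEquiv X₀ L F φ (n' : ℤ)).trans (e5.trans e6)).toAddCommGrpIso⟩

lemma isZero_abut_neg (n : ℤ) (hn : n < 0) : IsZero (SpConvB.Hn (Ysm X₀ L) n) := by
  haveI : L.IsStrictlyGE (n + 1) := L.isStrictlyGE_of_ge (n + 1) 0 (by lia)
  haveI : (Qc L ⊥ ⊤).IsStrictlyGE (n + 1) := StupidFil.isStrictlyGE_cut L (n + 1)
  exact SpShrink.isZero_sObj _
    (isZero_H_of_isStrictlyGE X₀ L n (homOfLE (bot_le : (⊥ : EInt) ≤ ⊤)))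

end Abut


section E1

lemma Pq_iff (p m : ℤ) :
    StupidFil.Pq ((-p - 1 : ℤ) : EInt) ((-p : ℤ) : EInt) m ↔ m = p := by
  unfold StupidFil.Pq
  rw [StupidFil.Pa_coe_iff, StupidFil.Pa_coe_iff]
  lia

/-- `(A[-p])⟦n⟧ ≅ (A[0])⟦q⟧` when `p + q = n` -/
noncomputable def shiftSingleIso' (A : ℬ) (p q n : ℤ) (h : p + q = n) :
    ((DerivedCategory.singleFunctor ℬ p).obj A)⟦n⟧ ≅
      ((DerivedCategory.singleFunctor ℬ 0).obj A)⟦q⟧ :=
  (CategoryTheory.shiftFunctorAdd' (DerivedCategory ℬ) p q n h).app _ ≪≫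
    (CategoryTheory.shiftFunctor (DerivedCategory ℬ) q).mapIso
      (((DerivedCategory.singleFunctors ℬ).shiftIso p 0 p (by lia)).app A)

lemma nonempty_E1Iso (p' q' : ℕ) :
    Nonempty (((SpE1A.E₁SpectralSequence (Ysm X₀ L)).page 1 le_rfl).X ((p' : ℤ), (q' : ℤ)) ≅
      AddCommGrpCat.of (Ext.{v} X₀ (L.X p') q')) := by
  let f : (((-(p' : ℤ) - 1 : ℤ) : EInt)) ⟶ ((-(p' : ℤ) : ℤ) : EInt) :=
    homOfLE (by rw [WithBotTop.coe_le_coe]; lia)
  let A : AddCommGrpCat.{v} := ((Ysm X₀ L).H ((p' : ℤ) + (q' : ℤ))).obj (mk₁ f)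
  let e1 : A ≃+ (S X₀ ⟶ ((Xtri L).ω₁.obj (mk₁ f))⟦(p' : ℤ) + (q' : ℤ)⟧) :=
    SpShrink.sEquiv (((Ybig X₀ L).H ((p' : ℤ) + (q' : ℤ))).obj (mk₁ f))
  let e2 := SpD.postcompAddEquiv (S X₀)
    ((CategoryTheory.shiftFunctor (DerivedCategory ℬ) ((p' : ℤ) + (q' : ℤ))).mapIso (ωIso L f))
  let e3 := SpD.postcompAddEquiv (S X₀)
    ((CategoryTheory.shiftFunctor (DerivedCategory ℬ) ((p' : ℤ) + (q' : ℤ))).mapIso
      (Q.mapIso (StupidFil.cutSingleIso L (p' : ℤ) (Pq_iff (p' : ℤ)))))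
  let e4 := SpD.postcompAddEquiv (S X₀)
    ((CategoryTheory.shiftFunctor (DerivedCategory ℬ) ((p' : ℤ) + (q' : ℤ))).mapIso
      ((singleFunctorIsoCompQ ℬ (p' : ℤ)).app (L.X p')).symm)
  let e5 := SpD.postcompAddEquiv (S X₀)
    (shiftSingleIso' (L.X p') (p' : ℤ) (q' : ℤ) ((p' : ℤ) + (q' : ℤ)) rfl)
  let e6 := SpHyper.precompAddEquiv ((singleFunctorIsoCompQ ℬ 0).app X₀)
    (((DerivedCategory.singleFunctor ℬ 0).obj (L.X p'))⟦(q' : ℤ)⟧)
  let e7 := (Ext.homAddEquiv (X := X₀) (Y := L.X p') (n := q')).symm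
  exact ⟨SpE1A.pageOneIso (Ysm X₀ L) ((p' : ℤ), (q' : ℤ)) ≪≫
    (e1.trans (e2.trans (e3.trans (e4.trans (e5.trans (e6.trans e7)))))).toAddCommGrpIso⟩

end E1


/-- **The `E₁` spectral sequence of a resolution**: for a complex `L` in degrees `≥ 0` with a
quasi-isomorphism `F[0] ⟶ L`, there is a bounded first quadrant spectral sequence of abelian groups
starting on page one with `E₁^{p,q} ≅ Ext^q(X₀, L^p)` converging (with finite filtrations) to
`Ext^n(X₀, F)`. -/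
theorem exists_spectralSequence (F : ℬ) (φ : (CochainComplex.singleFunctor ℬ 0).obj F ⟶ L)
    [QuasiIso φ] (Z Z' : AddCommGrpCat.{v}) (hZ : IsZero Z) (hZ' : IsZero Z') :
    ∃ (E : CohomologicalSpectralSequence AddCommGrpCat.{v} 1)
      (a : SpSeq.Abutment E (fun n : ℤ =>
        if 0 ≤ n then AddCommGrpCat.of (Ext.{v} X₀ F n.toNat) else Z)),
      (∀ n, a.IsFinite n) ∧ SpSeq.IsBounded E ∧
      ∀ p q : ℤ, Nonempty ((E.page 1 le_rfl).X (p, q) ≅
        (if 0 ≤ p ∧ 0 ≤ q then AddCommGrpCat.of (Ext.{v} X₀ (L.X (p.toNat : ℤ)) q.toNat)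
          else Z')) := by
  obtain ⟨a, ha⟩ := SpE1A.exists_abutment (Ysm X₀ L)
    (fun n : ℤ => SpConvB.Hn (Ysm X₀ L) n) (fun n => Iso.refl _)
  refine ⟨SpE1A.E₁SpectralSequence (Ysm X₀ L), ?_⟩
  exact SpFinalGen.exists_final _ _ a ha (SpE1A.isBounded _)
    (fun p' q' => AddCommGrpCat.of (Ext.{v} X₀ (L.X (p' : ℤ)) q'))
    (nonempty_E1Iso X₀ L) (by
      rintro p q (hp | hq)
      · exact SpE1A.isZero_page_of_fst_neg _ 1 le_rfl (p, q) hp
      · exact SpE1A.isZero_page_of_snd_neg _ 1 le_rfl (p, q) hq)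
    (fun n' => AddCommGrpCat.of (Ext.{v} X₀ F n')) Z Z' hZ hZ'
    (nonempty_abutIso_nat X₀ L F φ) (isZero_abut_neg X₀ L)

end Groth.Agent.Helper9.SpE1B
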