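import Mathlib
import Groth.Prelude.Def_CohTop
import Groth.Prelude.Def_SpSeq
import Groth.Agent.Helper9.CCovLoc
import Groth.Agent.Helper9.CCovQuot
import Groth.Agent.Helper9.CCovCech
import Groth.Agent.Helper9.CCovExt
import Groth.Agent.Helper9.SpE1B
import Groth.Agent.Helper1.CohTopPush

/-!
# The descent spectral sequence of a locally finite closed covering
-/

set_option autoImplicit false
set_option backward.isDefEq.respectTransparency false

namespace Groth.Agent.Helper9.CCovMain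

open CategoryTheory Limits TopologicalSpace Opposite Abelian Groth.Agent.Helper9.CCovLoc
  Groth.Agent.Helper9.CCovQuot Groth.Agent.Helper9.CCovCech Groth.Agent.Helper9.CCovExt

universe u

section General

variable {A : Type*} [Category A] [Abelian A] [HasExt.{u} A]

/-- `Ext` groups only depend on the isomorphism class of the second variable -/
noncomputable def extPostcompIso (X : A) {Y Y' : A} (e : Y ≅ Y') (n : ℕ) :
    Ext.{u} X Y n ≃+ Ext.{u} X Y' n where
  toFun x := x.comp (Ext.mk₀ e.hom) (add_zero n)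
  invFun x := x.comp (Ext.mk₀ e.inv) (add_zero n)
  left_inv x := by
    dsimp only
    rw [Ext.comp_assoc _ _ _ (add_zero n) (add_zero 0) (by omega), Ext.mk₀_comp_mk₀,
      e.hom_inv_id, Ext.comp_mk₀_id]
  right_inv x := by
    dsimp only
    rw [Ext.comp_assoc _ _ _ (add_zero n) (add_zero 0) (by omega), Ext.mk₀_comp_mk₀,
      e.inv_hom_id, Ext.comp_mk₀_id]
  map_add' x y := Ext.add_comp _ _ _ _

end General

variable {X : TopCat.{u}} {I : Type u} (U : I → Set X) (hU : ∀ i, IsClosed (U i))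
  (hlf : LocallyFinite U) (hcov : ⋃ i, U i = Set.univ) (F : CohTop.Ab X)

/-- the constant sheaf `ℤ` -/
noncomputable abbrev ZX (Y : TopCat.{u}) : CohTop.Ab Y := CohTop.const Y (ULift.{u} ℤ)

include hU in
/-- cohomology of the restriction to a closed subset as an `Ext` group on `X` -/
lemma nonempty_H_addEquiv {n : ℕ} (σ : Fin n → I) (q : ℕ) :
    Nonempty (Ext.{u} (ZX X) (GZ F (Zc U σ)) q ≃+
      CohTop.H ((CohTop.pull (incl (Zc U σ))).obj F) q) := by
  have hZ := isClosed_Zc U hU σ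
  obtain ⟨e1⟩ := nonempty_iso_push_pull F hZ
  obtain ⟨e2⟩ := Groth.Agent.Helper1.CohTopFun.nonempty_iso_H_push (incl (Zc U σ))
    (isClosedEmbedding_incl hZ) q ((CohTop.pull (incl (Zc U σ))).obj F)
  exact ⟨(extPostcompIso (ZX X) e1 q).trans e2.symm.addCommGroupIsoToAddEquiv⟩

include hU hlf in
lemma nonempty_E1_addEquiv (p q : ℕ) :
    Nonempty (Ext.{u} (ZX X) ((L U hU F).X (p : ℤ)) q ≃+
      (∀ σ : Fin (p + 1) → I, CohTop.H ((CohTop.pull (incl (Zc U σ))).obj F) q)) := by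
  have h1 := cmp_bijective.{u, u} (fun σ : Fin (p + 1) → I => Zc U σ) (isClosed_Zc U hU)
    (locallyFinite_Zc U hlf p) q (ZX X) (fun σ : Fin (p + 1) → I => GZ F (Zc U σ))
    (fun σ => trivOn_GZ F _)
  have h2 := fun σ : Fin (p + 1) → I => nonempty_H_addEquiv U hU F σ q
  exact ⟨(extPostcompIso (ZX X) (LXIso U hU F p) q).trans
    ((AddEquiv.ofBijective _ h1).trans (AddEquiv.piCongrRight (fun σ => (h2 σ).some)))⟩

include hU hlf hcov in
theorem main :
    ∃ (E : CohomologicalSpectralSequence AddCommGrpCat.{u} 1)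
      (a : SpSeq.Abutment E (fun n : ℤ =>
        if 0 ≤ n then AddCommGrpCat.of (CohTop.H F n.toNat) else AddCommGrpCat.of PUnit.{u + 1})),
      (∀ n, a.IsFinite n) ∧ SpSeq.IsBounded E ∧
      ∀ p q : ℤ, Nonempty ((E.page 1 le_rfl).X (p, q) ≅
        (if 0 ≤ p ∧ 0 ≤ q then
          AddCommGrpCat.of (∀ σ : Fin (p.toNat + 1) → I,
            CohTop.H ((CohTop.pull (TopCat.ofHom ⟨((↑) : (⋂ k, U (σ k) : Set X) → X), continuous_subtype_val⟩ :
              TopCat.of (⋂ k, U (σ k) : Set X) ⟶ X)).obj F) q.toNat)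
         else AddCommGrpCat.of PUnit.{u + 1})) := by
  haveI := quasiIso_φ U hU F hlf hcov
  have hZ : IsZero (AddCommGrpCat.of PUnit.{u + 1}) := AddCommGrpCat.isZero_of_subsingleton _
  obtain ⟨E, a, hfin, hbd, hE1⟩ := SpE1B.exists_spectralSequence (ZX X) (L U hU F) F (φ U hU F)
    (AddCommGrpCat.of PUnit.{u + 1}) (AddCommGrpCat.of PUnit.{u + 1}) hZ hZ
  refine ⟨E, a, hfin, hbd, fun p q => ?_⟩
  obtain ⟨e⟩ := hE1 p q
  by_cases h : 0 ≤ p ∧ 0 ≤ q
  · rw [if_pos h] at e ⊢
    obtain ⟨e'⟩ := nonempty_E1_addEquiv U hU hlf F p.toNat q.toNat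
    exact ⟨e ≪≫ e'.toAddCommGrpIso⟩
  · rw [if_neg h] at e ⊢
    exact ⟨e⟩

end Groth.Agent.Helper9.CCovMain
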