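import Mathlib
import Groth.Prelude.Def_DualSh
import Groth.Prelude.Def_DerSch2
import Groth.Agent.Helper9.CI4

/-! Closed immersions: descent of `m`-pseudo-coherence from the direct image, with the precise
hypothesis on the structure sheaf (the direct image of the structure sheaf is
`(m + 1 - b)`-pseudo-coherent, the complex is acyclic above `b`). -/

set_option autoImplicit false
set_option linter.style.haveILetI false
set_option linter.unusedVariables false
set_option linter.unusedSectionVars false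
universe u

namespace Groth.Agent.Helper9.CI6

noncomputable section

open CategoryTheory CategoryTheory.Limits AlgebraicGeometry HomologicalComplex Pretriangulated
open Groth.Agent.Lead.PcLib Groth.Agent.Lead.PerfLib Groth.Agent.Helper9.CI1
  Groth.Agent.Helper9.CI2 Groth.Agent.Helper9.CI3 Groth.Agent.Helper9.CI4
  Groth.Agent.Helper9.ClImm1 Groth.Agent.Helper9.ClImmPF2 Scheme.Modules ZeroObject

attribute [local instance] HasDerivedCategory.standard

section PcAt

variable {X : Scheme.{u}}

/-- `k`-pseudo-coherence, as an object property -/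
def pcAt (k : ℤ) : ObjectProperty (DCoh.D X) := fun K => DCoh.IsPseudoCoherentD k K

instance (k : ℤ) : (pcAt (X := X) k).IsClosedUnderIsomorphisms where
  of_iso e h := isPseudoCoherentD_of_iso e h

instance (k : ℤ) : (pcAt (X := X) k).ContainsZero where
  exists_zero := ⟨0, isZero_zero _, Groth.Agent.Helper9.RelTor4.pc_of_isZero (isZero_zero _) k⟩

instance (k : ℤ) : (pcAt (X := X) k).IsTriangulatedClosed₂ where
  ext₂' := fun T hT h₁ h₃ => ObjectProperty.le_isoClosure _ _
    ((isPseudoCoherentD_triangle k T hT).2.1 h₁ h₃)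

instance (k : ℤ) : (pcAt (X := X) k).IsClosedUnderBinaryProducts where
  limitsOfShape_le := by
    rintro Y ⟨p⟩
    refine (pcAt (X := X) k).prop_of_iso ?_ ((pcAt (X := X) k).ext_of_isTriangulatedClosed₂ _
      (binaryProductTriangle_distinguished _ _)
      (p.prop_diag_obj (.mk .left)) (p.prop_diag_obj (.mk .right)))
    exact IsLimit.conePointUniqueUpToIso (prodIsProd _ _)
      ((IsLimit.postcomposeHomEquiv (diagramIsoPair p.diag) _).2 p.isLimit)

instance (k : ℤ) : (pcAt (X := X) k).IsClosedUnderFiniteProducts := .mk'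

/-- a finite coproduct of modules whose images in `D(O_X)` are `k`-pseudo-coherent is
`k`-pseudo-coherent -/
theorem pcAt_inD_sigma (k : ℤ) {J : Type} [Finite J] (N : J → X.Modules)
    (h : ∀ j, pcAt k (DCoh.inD X (N j))) : pcAt k (DCoh.inD X (∐ N)) := by
  haveI := Fintype.ofFinite J
  have h1 : pcAt k (∏ᶜ fun j => DCoh.inD X (N j)) := (pcAt (X := X) k).prop_product h
  have e1 : DCoh.inD X (∐ N) ≅ ∐ fun j => DCoh.inD X (N j) :=
    PreservesCoproduct.iso (DerivedCategory.singleFunctor X.Modules 0) N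
  have e2 : (∐ fun j => DCoh.inD X (N j)) ≅ ∏ᶜ fun j => DCoh.inD X (N j) :=
    (biproduct.isoCoproduct _).symm ≪≫ biproduct.isoProduct _
  exact (pcAt (X := X) k).prop_of_iso (e1 ≪≫ e2).symm h1

end PcAt

section Loc

variable {Z X : Scheme.{u}} (i : Z ⟶ X) [IsClosedImmersion i]

/-- the direct image of the structure sheaf is `k`-pseudo-coherent -/
def HOk (k : ℤ) : Prop :=
  DCoh.IsPseudoCoherentD k (DCoh.inD X ((pushforward i).obj (Coh.structureModule Z)))

lemma HOk_mono {k k' : ℤ} (hk : k ≤ k') (h : HOk i k) : HOk i k' :=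
  isPseudoCoherentD_mono hk h

lemma HOk_restrict {k : ℤ} (hO : HOk i k) (V : X.Opens) : HOk (i ∣_ V) k := by
  have h1 := Groth.Agent.Helper9.TT6.isPseudoCoherentD_restrictD V.ι k _ hO
  have e : ((pushforward i).obj (Coh.structureModule Z)).restrict V.ι ≅
      (pushforward (i ∣_ V)).obj (Coh.structureModule ((i ⁻¹ᵁ V : Z.Opens) : Scheme.{u})) :=
    (Groth.Agent.Helper4.OpenBC.iso i V).app (Coh.structureModule Z) ≪≫
      (pushforward (i ∣_ V)).mapIso (restrictUnitIso (i ⁻¹ᵁ V).ι)
  exact isPseudoCoherentD_of_iso (restrictDInD V _ ≪≫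
    (DerivedCategory.singleFunctor _ 0).mapIso e) h1

/-- the direct image of a free module of finite rank -/
lemma pc_push_freeMod {k : ℤ} (hO : HOk i k) (r : ℕ) :
    DCoh.IsPseudoCoherentD k (DCoh.inD X ((pushforward i).obj (FlatMod.freeMod Z r))) := by
  have e : (pushforward i).obj (FlatMod.freeMod Z r) ≅
      ∐ fun _ : Fin r => (pushforward i).obj (Coh.structureModule Z) :=
    PreservesCoproduct.iso (pushforward i) _
  exact (pcAt (X := X) k).prop_of_iso ((DerivedCategory.singleFunctor _ 0).mapIso e).symm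
    (pcAt_inD_sigma k _ (fun _ => hO))

/-- a module placed in degree `b` -/
theorem pc_Q_single {Y : Scheme.{u}} (N : Y.Modules) (b k : ℤ)
    (h : DCoh.IsPseudoCoherentD k (DCoh.inD Y N)) :
    DCoh.IsPseudoCoherentD (k + b)
      (DerivedCategory.Q.obj ((single Y.Modules (ComplexShape.up ℤ) b).obj N)) := by
  have e1 : DerivedCategory.Q.obj ((single Y.Modules (ComplexShape.up ℤ) b).obj N) ≅
      (DerivedCategory.singleFunctor Y.Modules b).obj N :=
    ((DerivedCategory.singleFunctorIsoCompQ Y.Modules b).app N).symm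
  have e2 : ((DerivedCategory.singleFunctor Y.Modules 0).obj N)⟦-b⟧ ≅
      (DerivedCategory.singleFunctor Y.Modules b).obj N :=
    ((DerivedCategory.singleFunctors Y.Modules).shiftIso (-b) b 0 (by omega)).app N
  have h1 : DCoh.IsPseudoCoherentD (k + b)
      (((DerivedCategory.singleFunctor Y.Modules 0).obj N)⟦-b⟧) :=
    isPseudoCoherentD_shift h (-b) (k + b) (by omega)
  exact isPseudoCoherentD_of_iso (e2 ≪≫ e1.symm) h1

/-- descent of pseudo-coherence from the direct image is local -/
theorem imp_of_local (F : CochainComplex Z.Modules ℤ) (m : ℤ)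
    (h : ∀ z : Z, ∃ V : X.Opens, i.base z ∈ V ∧
      (DCoh.IsPseudoCoherentD m (DerivedCategory.Q.obj
          ((DerSch.pushCx (i ∣_ V)).obj ((Rc (i ⁻¹ᵁ V).ι).obj F))) →
        DCoh.IsPseudoCoherentD m (DerivedCategory.Q.obj ((Rc (i ⁻¹ᵁ V).ι).obj F))))
    (hF : DCoh.IsPseudoCoherentD m (DerivedCategory.Q.obj ((DerSch.pushCx i).obj F))) :
    DCoh.IsPseudoCoherentD m (DerivedCategory.Q.obj F) := by
  have eX : ∀ V : X.Opens, (DCoh.restrictD V.ι).obj
      (DerivedCategory.Q.obj ((DerSch.pushCx i).obj F)) ≅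
      DerivedCategory.Q.obj ((DerSch.pushCx (i ∣_ V)).obj ((Rc (i ⁻¹ᵁ V).ι).obj F)) :=
    fun V => restrictDQ V.ι _ ≪≫ DerivedCategory.Q.mapIso (rcPushIso i V F)
  refine Groth.Agent.Helper9.FP1.isPseudoCoherentD_of_local m _ (fun z => ?_)
  obtain ⟨V, hzV, hV⟩ := h z
  refine ⟨_, (i ⁻¹ᵁ V).ι, inferInstance, ⟨⟨z, hzV⟩, rfl⟩, ?_⟩
  refine isPseudoCoherentD_of_iso (restrictDQ (i ⁻¹ᵁ V).ι F).symm (hV ?_)
  exact isPseudoCoherentD_of_iso (eX V)
    (Groth.Agent.Helper9.TT6.isPseudoCoherentD_restrictD V.ι m _ hF)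

end Loc

section Step

variable {Z X : Scheme.{u}} (i : Z ⟶ X) [IsClosedImmersion i]

/-- the dévissage step, for a complex whose top cohomology is generated by finitely many global
sections which lift to cocycles -/
theorem step_local (m b : ℤ) (hO : HOk i (m + 1 - b)) (F : CochainComplex Z.Modules ℤ) (r : ℕ)
    (σ₀ : FlatMod.freeMod Z r ⟶ F.X b)
    (hσ : ∀ k, (ComplexShape.up ℤ).Rel b k → σ₀ ≫ F.d b k = 0)
    (hepi : Epi (F.liftCycles σ₀ (b + 1) (by simp) (hσ _ (by simp)) ≫ F.homologyπ b))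
    (hF : ∀ j, b < j → IsZero (F.homology j))
    (IH : ∀ G : CochainComplex Z.Modules ℤ, (∀ j, b ≤ j → IsZero (G.homology j)) →
      (DCoh.IsPseudoCoherentD m (DerivedCategory.Q.obj ((DerSch.pushCx i).obj G)) →
        DCoh.IsPseudoCoherentD m (DerivedCategory.Q.obj G)))
    (h : DCoh.IsPseudoCoherentD m (DerivedCategory.Q.obj ((DerSch.pushCx i).obj F))) :
    DCoh.IsPseudoCoherentD m (DerivedCategory.Q.obj F) := by
  let σ : (single Z.Modules (ComplexShape.up ℤ) b).obj (FlatMod.freeMod Z r) ⟶ F :=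
    mkHomFromSingle σ₀ hσ
  have hσepi : Epi (homologyMap σ b) := epi_homologyMap_mkHomFromSingle F b _ σ₀ hσ hepi
  have hC : ∀ j, b ≤ j → IsZero ((CochainComplex.mappingCone σ).homology j) :=
    fun j hj => isZero_homology_mappingCone _ b F σ hσepi hF j hj
  have h1 := pc_iff_cone σ (pcAll_Q_single _ b (pcAll_inD_freeMod Z r)) m
  have hS : DCoh.IsPseudoCoherentD (m + 1) (DerivedCategory.Q.obj ((DerSch.pushCx i).obj
      ((single Z.Modules (ComplexShape.up ℤ) b).obj (FlatMod.freeMod Z r)))) := by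
    have e : (DerSch.pushCx i).obj
        ((single Z.Modules (ComplexShape.up ℤ) b).obj (FlatMod.freeMod Z r)) ≅
        (single X.Modules (ComplexShape.up ℤ) b).obj
          ((pushforward i).obj (FlatMod.freeMod Z r)) :=
      (HomologicalComplex.singleMapHomologicalComplex (pushforward i) (ComplexShape.up ℤ) b).app _
    have h0 := pc_Q_single _ b (m + 1 - b) (pc_push_freeMod i hO r)
    rw [show m + 1 - b + b = m + 1 by omega] at h0
    exact isPseudoCoherentD_of_iso (DerivedCategory.Q.mapIso e).symm h0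
  have h2 : DCoh.IsPseudoCoherentD m (DerivedCategory.Q.obj
      (CochainComplex.mappingCone ((DerSch.pushCx i).map σ))) :=
    isPseudoCoherentD_cone ((DerSch.pushCx i).map σ) m hS h
  have e3 : (DerSch.pushCx i).obj (CochainComplex.mappingCone σ) ≅
      CochainComplex.mappingCone ((DerSch.pushCx i).map σ) :=
    CochainComplex.mappingCone.mapHomologicalComplexIso σ (pushforward i)
  have h3 := IH _ hC (isPseudoCoherentD_of_iso (DerivedCategory.Q.mapIso e3).symm h2)
  exact h1.2 h3

/-- the precise statement, for complexes without cohomology in degrees `> b` -/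
def Pn (m b : ℤ) : Prop :=
  ∀ (Z X : Scheme.{u}) (i : Z ⟶ X) [IsClosedImmersion i] (_ : HOk i (m + 1 - b))
    (G : CochainComplex Z.Modules ℤ), (∀ j, b < j → IsZero (G.homology j)) →
    DCoh.IsPseudoCoherentD m (DerivedCategory.Q.obj ((DerSch.pushCx i).obj G)) →
      DCoh.IsPseudoCoherentD m (DerivedCategory.Q.obj G)

/-- the case where the top cohomology is generated by finitely many global sections -/
theorem step_gen (m b : ℤ) (IH : Pn.{u} m (b - 1)) (hO : HOk i (m + 1 - b))
    (F : CochainComplex Z.Modules ℤ)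
    (hF : ∀ j, b < j → IsZero (F.homology j)) (r : ℕ)
    (φ : FlatMod.freeMod Z r ⟶ F.homology b) (hφ : Epi φ) :
    DCoh.IsPseudoCoherentD m (DerivedCategory.Q.obj ((DerSch.pushCx i).obj F)) →
      DCoh.IsPseudoCoherentD m (DerivedCategory.Q.obj F) := by
  apply imp_of_local i F m
  intro z
  haveI : Epi (F.homologyπ b) := inferInstance
  obtain ⟨W, hzW, ψ, hψ⟩ := Groth.Agent.Lead.LocLift.exists_nhd_lift_free (F.homologyπ b) r φ z
  obtain ⟨V, rfl⟩ := exists_preimage_eq i W
  refine ⟨V, hzW, ?_⟩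
  let R := restrictFunctor (i ⁻¹ᵁ V).ι
  let ψ' : FlatMod.freeMod ((i ⁻¹ᵁ V : Z.Opens) : Scheme.{u}) r ⟶ R.obj (F.cycles b) :=
    (Groth.Agent.Helper4.FinLocFree.restrictFreeIso (i ⁻¹ᵁ V).ι r).inv ≫ ψ
  have hepi : Epi ((KK R F).liftCycles (sigma0 R F b ψ') (b + 1) (by simp)
      (sigma0_d R F b ψ' _) ≫ (KK R F).homologyπ b) := by
    rw [liftCycles_sigma0_π]
    have h3 : ψ' ≫ R.map (F.homologyπ b) ≫ (homIso R F b).inv =
        (Groth.Agent.Helper4.FinLocFree.restrictFreeIso (i ⁻¹ᵁ V).ι r).inv ≫ R.map φ ≫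
          (homIso R F b).inv := by
      dsimp only [ψ']
      rw [Category.assoc, ← Category.assoc ψ, hψ]
    rw [h3]
    haveI : Epi (R.map φ) := inferInstance
    infer_instance
  exact step_local (i ∣_ V) m b (HOk_restrict i hO V) (KK R F) r (sigma0 R F b ψ')
    (fun k _ => sigma0_d R F b ψ' k) hepi
    (fun j hj => isZero_homology_rc F _ j (hF j hj))
    (fun G hG => IH _ _ (i ∣_ V)
      (HOk_mono _ (by omega) (HOk_restrict i hO V)) G (fun j hj => hG j (by omega)))

/-- the case where the top cohomology is of finite type -/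
theorem step_ft (m b : ℤ) (IH : Pn.{u} m (b - 1)) (hO : HOk i (m + 1 - b))
    (F : CochainComplex Z.Modules ℤ)
    (hF : ∀ j, b < j → IsZero (F.homology j)) (hFT : CohB1.IsFT (F.homology b)) :
    DCoh.IsPseudoCoherentD m (DerivedCategory.Q.obj ((DerSch.pushCx i).obj F)) →
      DCoh.IsPseudoCoherentD m (DerivedCategory.Q.obj F) := by
  apply imp_of_local i F m
  intro z
  obtain ⟨W, hzW, hW⟩ :=
    Groth.Agent.Helper4.FTLocal.exists_generatingSections_restrict _ hFT z
  obtain ⟨V, rfl⟩ := exists_preimage_eq i W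
  obtain ⟨σ, hσ⟩ := hW _ le_rfl
  haveI := hσ
  obtain ⟨r, φ₀, hφ₀⟩ := Groth.Agent.Helper4.FTTilde.gen_of_generatingSections _ σ
  haveI := hφ₀
  refine ⟨V, hzW, ?_⟩
  exact step_gen (i ∣_ V) m b IH (HOk_restrict i hO V) _
    (fun j hj => isZero_homology_rc F _ j (hF j hj)) r
    (φ₀ ≫ (homologyRestrictIso (i ⁻¹ᵁ V).ι F b).inv) (epi_comp _ _)

/-- the induction step -/
theorem step (m b : ℤ) (hmb : m ≤ b) (IH : Pn.{u} m (b - 1)) : Pn.{u} m b := by
  intro Z X i _ hO F hF h
  have h1 := (finiteType_top_cohomology_of_pseudoCoherent b _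
    (isPseudoCoherentD_mono hmb h)).1
    (fun j hj => (isZero_homology_pushCx i F j (hF j hj)).of_iso (hdIso (Iso.refl _) j))
  haveI : SheafOfModules.IsFiniteType (R := X.ringCatSheaf)
    (DCoh.HD (DerivedCategory.Q.obj ((DerSch.pushCx i).obj F)) b) := h1
  have hFT' : CohB1.IsFT ((pushforward i).obj (F.homology b)) :=
    Groth.Agent.Helper4.FTRestrict.SoM.isFiniteType_of_iso (R := X.ringCatSheaf)
      (hdIso (Iso.refl (DerivedCategory.Q.obj ((DerSch.pushCx i).obj F))) b ≪≫
        pushHomologyIso i F b)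
  exact step_ft i m b IH hO F hF (isFT_of_pushforward i _ hFT') h

/-- the base case -/
theorem base (m b : ℤ) (hmb : b < m) : Pn.{u} m b := by
  intro Z X i _ hO F hF _
  exact isPseudoCoherentD_of_isZero_HD m _
    (fun j hj => (hF j (by omega)).of_iso (hdIso (Iso.refl _) j))

theorem all (m b : ℤ) : Pn.{u} m b := by
  by_cases h : b < m
  · exact base m b h
  · have h := not_lt.1 h
    have : ∀ n : ℕ, Pn.{u} m (m - 1 + n) := by
      intro n
      induction n with
      | zero => exact base m _ (by simp)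
      | succ n ih =>
        have := step m (m - 1 + n + 1) (by omega)
          (by rw [show m - 1 + (n : ℤ) + 1 - 1 = m - 1 + n by omega]; exact ih)
        rw [show m - 1 + ((n + 1 : ℕ) : ℤ) = m - 1 + n + 1 by push_cast; ring]
        exact this
    have h2 := this (b - (m - 1)).toNat
    rwa [show m - 1 + ((b - (m - 1)).toNat : ℤ) = b by omega] at h2

/-- **descent of `m`-pseudo-coherence along a closed immersion, precise form** -/
theorem main (m b : ℤ) (hO : HOk i (m + 1 - b)) (F : CochainComplex Z.Modules ℤ)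
    (hF : ∀ j, b < j → IsZero (F.homology j))
    (h : DCoh.IsPseudoCoherentD m (DerivedCategory.Q.obj ((DerSch.pushCx i).obj F))) :
    DCoh.IsPseudoCoherentD m (DerivedCategory.Q.obj F) :=
  all m b Z X i hO F hF h

end Step

end

end Groth.Agent.Helper9.CI6
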