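import Mathlib
import Groth.Prelude.Def_DualSh
import Groth.Prelude.Def_DerSch2
import Groth.Agent.Helper9.CI6
import Groth.Agent.Helper9.Chart1

/-! Change of presentation for the chart test, precise form: precomposing with a surjection
`π : P' → P` such that `P` is an `(m + 1 - b)`-pseudo-coherent `P'`-module, for complexes acyclic
above `b`. -/

set_option autoImplicit false
set_option linter.style.haveILetI false
set_option linter.unusedVariables false
set_option linter.unusedSectionVars false
universe u

namespace Groth.Agent.Helper9.CI7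

noncomputable section

open CategoryTheory CategoryTheory.Limits AlgebraicGeometry HomologicalComplex Pretriangulated
open Groth.Agent.Lead.PcLib Groth.Agent.Lead.PerfLib Groth.Agent.Helper9.CI1
  Groth.Agent.Helper9.CI2 Groth.Agent.Helper9.CI3 Groth.Agent.Helper9.CI4
  Groth.Agent.Helper9.CI5 Groth.Agent.Helper9.CI6 Groth.Agent.Helper9.Chart1
  Scheme.Modules ZeroObject

attribute [local instance] HasDerivedCategory.standard

section Spec

variable {T R : CommRingCat.{u}} (s : T ⟶ R)

/-- the direct image of the structure sheaf along `Spec R → Spec T` is `k`-pseudo-coherent when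
`R` is a `k`-pseudo-coherent `T`-module -/
theorem HOk_spec [IsClosedImmersion (Spec.map s)] (k : ℤ)
    (h : letI := s.hom.toAlgebra; DRing.IsPseudoCoherent T k (Dual.inD T R)) :
    HOk (Spec.map s) k := by
  letI := s.hom.toAlgebra
  let N : ModuleCat.{u} T := (ModuleCat.restrictScalars s.hom).obj (ModuleCat.of R R)
  have e1 : (pushforward (Spec.map s)).obj (Coh.structureModule (Spec R)) ≅
      (tilde.functor T).obj N := (Groth.Agent.Helper9.TilPush1.θ s).app (ModuleCat.of R R)
  have e2 : DCoh.inD (Spec T) ((tilde.functor T).obj N) ≅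
      (DCoh.tildeD T).obj ((DerivedCategory.singleFunctor _ 0).obj N) :=
    (((tilde.functor T).mapDerivedCategorySingleFunctor 0).app N).symm
  have e3 : (DerivedCategory.singleFunctor (ModuleCat.{u} T) 0).obj N ≅ Dual.inD T R :=
    (DerivedCategory.singleFunctor (ModuleCat.{u} T) 0).mapIso
      (LinearEquiv.toModuleIso
        { toFun := fun x => x
          invFun := fun x => x
          map_add' := fun _ _ => rfl
          map_smul' := fun _ _ => rfl
          left_inv := fun _ => rfl
          right_inv := fun _ => rfl })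
  have h2 : DCoh.IsPseudoCoherentD k ((DCoh.tildeD T).obj (Dual.inD T R)) :=
    (Groth.Agent.Helper9.TP3.isPseudoCoherentD_tildeD_iff T _ k).2 h
  exact isPseudoCoherentD_of_iso ((DCoh.tildeD T).mapIso e3.symm ≪≫ e2.symm ≪≫
    (DerivedCategory.singleFunctor _ 0).mapIso e1.symm) h2

end Spec

section Comp

variable {X Y Z : Scheme.{u}}

/-- pseudo-coherence of a direct image descends along a further closed immersion, precise form -/
theorem pc_pushCx_of_comp (c : X ⟶ Y) (i : Y ⟶ Z) [IsClosedImmersion i] (m b : ℤ)
    (hO : HOk i (m + 1 - b)) (F : CochainComplex X.Modules ℤ)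
    (hF : ∀ j, b < j → IsZero (((DerSch.pushCx c).obj F).homology j))
    (h : DCoh.IsPseudoCoherentD m (DerivedCategory.Q.obj ((DerSch.pushCx (c ≫ i)).obj F))) :
    DCoh.IsPseudoCoherentD m (DerivedCategory.Q.obj ((DerSch.pushCx c).obj F)) :=
  Groth.Agent.Helper9.CI6.main i m b hO _ hF
    (isPseudoCoherentD_of_iso (DerivedCategory.Q.mapIso (pushCxComp c i F)).symm h)

end Comp

section Chart

variable {X : Scheme.{u}}

/-- **change of presentation, precise form** -/
theorem pcvia_of_comp (U : X.Opens) {P P' : Type u} [CommRing P] [CommRing P']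
    (ρ : P →+* Γ(X, U)) [IsClosedImmersion (cMap U ρ)] (π : P' →+* P)
    (hπ : Function.Surjective π) (m b : ℤ)
    (hQ : letI := π.toAlgebra; DRing.IsPseudoCoherent P' (m + 1 - b) (Dual.inD P' P))
    (G : CochainComplex X.Modules ℤ) (hG : ∀ j, b < j → IsZero (G.homology j))
    (h : PCvia U (ρ.comp π) m G) : PCvia U ρ m G := by
  let π' : CommRingCat.of P' ⟶ CommRingCat.of P := CommRingCat.ofHom π
  haveI : IsClosedImmersion (Spec.map π') := IsClosedImmersion.spec_of_surjective π' hπ
  have hO : HOk (Spec.map π') (m + 1 - b) := HOk_spec π' _ hQ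
  unfold PCvia at h ⊢
  have e := cMap_comp U ρ π
  refine pc_pushCx_of_comp (cMap U ρ) (Spec.map π') m b hO _ (fun j hj => ?_)
    (isPseudoCoherentD_of_iso (DerivedCategory.Q.mapIso (pushCxCongr e _)) h)
  exact isZero_homology_pushCx (cMap U ρ) _ j (isZero_homology_rc G U j (hG j hj))

end Chart

end

end Groth.Agent.Helper9.CI7
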