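import Mathlib
import Groth.Prelude.Def_PerfAux
import Groth.Prelude.Def_CohDer
import Groth.Agent.Helper9.CP1
import Groth.Agent.Helper9.FN0

/-! Compactness (bijectivity of `⊕ Hom(K, X i) → Hom(K, ∐ X)`) versus finite support of all maps
`K ⟶ ∐ X`. -/

set_option autoImplicit false
set_option linter.style.haveILetI false
set_option linter.unusedVariables false
set_option linter.unusedSectionVars false

namespace Groth.Agent.Helper9.CO1

open CategoryTheory Limits
open Groth.Agent.Helper9

universe w v u

variable {C : Type u} [Category.{v} C] [Preadditive C]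

section Gen

variable {ι : Type w} [DecidableEq ι] (X : ι → C) [HasCoproduct X] (K : C)

/-- the canonical map, with an explicit decidability instance -/
noncomputable def hs : DirectSum ι (fun i => K ⟶ X i) →+ (K ⟶ ∐ X) :=
  DirectSum.toAddMonoid fun i => Preadditive.rightComp K (Sigma.ι X i)

lemma hs_of (i : ι) (f : K ⟶ X i) :
    hs X K (DirectSum.of (fun i => K ⟶ X i) i f) = f ≫ Sigma.ι X i := by
  unfold hs
  rw [DirectSum.toAddMonoid_of]
  rfl

lemma hs_comp_pr (x : DirectSum ι (fun i => K ⟶ X i)) (j : ι) :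
    hs X K x ≫ CP1.pr X j = x j := by
  induction x using DirectSum.induction_on with
  | zero => simp
  | of i f =>
    rw [hs_of, Category.assoc]
    by_cases hij : i = j
    · subst hij
      rw [CP1.ι_pr_self, Category.comp_id, DirectSum.of_eq_same]
    · rw [CP1.ι_pr_ne X hij, comp_zero, DirectSum.of_eq_of_ne _ _ _ (Ne.symm hij)]
  | add x y hx hy =>
    rw [map_add, Preadditive.add_comp, hx, hy]
    rfl

lemma hs_injective : Function.Injective (hs X K) := by
  rw [injective_iff_map_eq_zero]
  intro x hx
  ext j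
  rw [← hs_comp_pr X K x j, hx, zero_comp]
  rfl

lemma supp_hs (x : DirectSum ι (fun i => K ⟶ X i)) : ∃ F : Finset ι, CP1.Supp F (hs X K x) := by
  induction x using DirectSum.induction_on with
  | zero => exact ⟨∅, by rw [map_zero]; exact FN0.supp_zero X ∅ K⟩
  | of i f =>
    refine ⟨{i}, ?_⟩
    rw [hs_of]
    unfold CP1.Supp
    rw [Category.assoc, CP1.ι_eF_mem X (Finset.mem_singleton_self i)]
  | add x y hx hy =>
    obtain ⟨F, hF⟩ := hx
    obtain ⟨F', hF'⟩ := hy
    refine ⟨F ∪ F', ?_⟩
    rw [map_add]
    exact (hF.mono Finset.subset_union_left).add (hF'.mono Finset.subset_union_right)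

lemma hs_surjective_of_fin (h : CP1.Fin X K) : Function.Surjective (hs X K) := by
  intro ψ
  obtain ⟨F, hF⟩ := h ψ
  refine ⟨∑ i ∈ F, DirectSum.of (fun i => K ⟶ X i) i (ψ ≫ CP1.pr X i), ?_⟩
  rw [map_sum]
  unfold CP1.Supp at hF
  conv_rhs => rw [← hF]
  unfold CP1.eF
  rw [Preadditive.comp_sum]
  refine Finset.sum_congr rfl (fun i _ => ?_)
  rw [hs_of, Category.assoc]

lemma fin_of_hs_surjective (h : Function.Surjective (hs X K)) : CP1.Fin X K := by
  intro ψ
  obtain ⟨x, rfl⟩ := h ψ
  exact supp_hs X K x

lemma hs_bijective_iff : Function.Bijective (hs X K) ↔ CP1.Fin X K :=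
  ⟨fun h => fin_of_hs_surjective X K h.2,
    fun h => ⟨hs_injective X K, hs_surjective_of_fin X K h⟩⟩

end Gen

section Apply

variable {ι : Type w} (X : ι → C) [HasCoproduct X] (K : C)

lemma perfAux_bijective_iff :
    Function.Bijective (PerfAux.homSumToHomCoprod K X) ↔ CP1.Fin X K := by
  classical
  exact hs_bijective_iff X K

end Apply

section Apply'

variable {ι : Type v} (X : ι → C) [HasCoproduct X] (K : C)

lemma cohDer_bijective_iff :
    Function.Bijective (CohDer.homSumToHomCoprod K X) ↔ CP1.Fin X K := by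
  classical
  exact hs_bijective_iff X K

end Apply'

/-- relative compactness in terms of finite supports -/
lemma isCompactObjRel_iff (P : C → Prop) (K : C) :
    PerfAux.IsCompactObjRel.{w} P K ↔
      ∀ (ι : Type w) (X : ι → C) [HasCoproduct X], (∀ i, P (X i)) → CP1.Fin X K := by
  constructor
  · intro h ι X _ hX
    exact (perfAux_bijective_iff X K).1 (h ι X hX)
  · intro h ι X _ hX
    exact (perfAux_bijective_iff X K).2 (h ι X hX)

end Groth.Agent.Helper9.CO1
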