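import Mathlib
import Groth.Prelude.Def_CxOX
import Groth.Agent.Helper9.CO1
import Groth.Agent.Helper9.FN1v1
import Groth.Agent.Helper9.CP5
import Groth.Agent.Helper9.TP3
import Groth.Agent.Helper9.TP2
import Groth.Agent.Helper9.QcLpull1
import Groth.Agent.Helper9.LCTil1
import Groth.Agent.Helper9.LCTil2
import Groth.Agent.Helper9.QP7
import Groth.Agent.Helper4.RjSuppGen
import Groth.Agent.S6978

/-! Objects of `D_QCoh(O_X)` (`X` quasi-compact quasi-separated) which are compact relative to
`D_QCoh` are perfect: restriction to affine opens, comparison with `D(A)`, and the ring case. -/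

set_option autoImplicit false
set_option linter.style.haveILetI false
set_option linter.unusedVariables false
set_option linter.unusedSectionVars false
universe u

namespace Groth.Agent.Helper9.CO2

open CategoryTheory CategoryTheory.Limits AlgebraicGeometry Opposite TopologicalSpace
  Pretriangulated DerivedCategory
open Groth.Agent.Helper9 Groth.Agent.Lead.PerfLib Scheme.Modules

attribute [local instance] HasDerivedCategory.standard

section Generic

universe w v v' u₁ u₂

variable {C : Type u₁} [Category.{v} C] [Preadditive C] {C' : Type u₂} [Category.{v'} C']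
  [Preadditive C']

/-- a faithful additive functor preserving the coproduct reflects finite supports -/
lemma fin_of_faithful (F : C' ⥤ C) [F.Additive] [F.Faithful] {ι : Type w} (E : ι → C')
    [HasCoproduct E] [HasCoproduct (fun i => F.obj (E i))]
    [PreservesColimit (Discrete.functor E) F] (M : C')
    (h : CP1.Fin (fun i => F.obj (E i)) (F.obj M)) : CP1.Fin E M := by
  classical
  intro ψ
  let c : ∐ (fun i => F.obj (E i)) ≅ F.obj (∐ E) := (PreservesCoproduct.iso F E).symm
  have hc : ∀ i, Sigma.ι (fun i => F.obj (E i)) i ≫ c.hom = F.map (Sigma.ι E i) :=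
    fun i => ι_comp_sigmaComparison F E i
  have hpr : ∀ i, c.hom ≫ F.map (CP1.pr E i) = CP1.pr (fun i => F.obj (E i)) i := by
    intro i
    apply Sigma.hom_ext
    intro j
    rw [← Category.assoc, hc j, ← F.map_comp]
    by_cases hij : j = i
    · subst hij
      rw [CP1.ι_pr_self, CP1.ι_pr_self, F.map_id]
    · rw [CP1.ι_pr_ne E hij, CP1.ι_pr_ne _ hij, F.map_zero]
  have heF : ∀ S : Finset ι,
      c.hom ≫ F.map (CP1.eF E S) = CP1.eF (fun i => F.obj (E i)) S ≫ c.hom := by
    intro S
    unfold CP1.eF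
    rw [F.map_sum, Preadditive.comp_sum, Preadditive.sum_comp]
    refine Finset.sum_congr rfl (fun i _ => ?_)
    rw [F.map_comp, ← Category.assoc, hpr i, Category.assoc, hc i]
  obtain ⟨S, hS⟩ := h (F.map ψ ≫ c.inv)
  refine ⟨S, ?_⟩
  unfold CP1.Supp at hS ⊢
  apply F.map_injective
  rw [F.map_comp]
  calc F.map ψ ≫ F.map (CP1.eF E S)
      = (F.map ψ ≫ c.inv) ≫ c.hom ≫ F.map (CP1.eF E S) := by
        rw [Category.assoc, Iso.inv_hom_id_assoc]
    _ = ((F.map ψ ≫ c.inv) ≫ CP1.eF (fun i => F.obj (E i)) S) ≫ c.hom := by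
        simp only [heF S, Category.assoc]
    _ = F.map ψ := by rw [hS, Category.assoc, Iso.inv_hom_id, Category.comp_id]

end Generic

section Rpush

variable {X Y : Scheme.{u}} (f : X ⟶ Y) [QuasiCompact f] [QuasiSeparated f] [DCoh.HasRpush f]

lemma additive_Rpush : (DCoh.Rpush f).Additive := by
  haveI := Groth.Agent.Helper4.SchAdj.isGrothendieckAbelian_modules X
  haveI : DCoh.HasLpull f := Groth.Agent.Helper9.Lpull1.hasLpull f
  have adj := Groth.Agent.Helper4.SchAdj.adj f
  haveI : (DCoh.Rpush f).IsRightAdjoint := adj.isRightAdjoint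
  haveI : PreservesLimitsOfSize.{0, 0} (DCoh.Rpush f) := adj.rightAdjoint_preservesLimits
  exact Functor.additive_of_preserves_binary_products _

/-- `Rf_*` preserves coproducts of families of objects of `D_QCoh` -/
lemma preservesCoproduct_Rpush {J : Type u} (K : J → DCoh.D X) [HasCoproduct K]
    (hK : ∀ j, DCoh.IsQCohD (K j)) : PreservesColimit (Discrete.functor K) (DCoh.Rpush f) := by
  haveI : HasCoproduct (fun j => (DCoh.Rpush f).obj (K j)) := FN1.hasCoproduct Y _
  haveI : IsIso (sigmaComparison (DCoh.Rpush f) K) := CP5.isIso_sigma_Rpush f K hK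
  exact PreservesCoproduct.of_iso_comparison (DCoh.Rpush f) K

end Rpush

section Restrict

variable {X Z : Scheme.{u}} (j : Z ⟶ X) [IsOpenImmersion j] [QuasiCompact j]

/-- relative compactness restricts along quasi-compact open immersions -/
theorem fn_restrictD (K : DCoh.D X) (hK : FN1.FN X K) : FN1.FN Z ((DCoh.restrictD j).obj K) := by
  intro ι E _ hE
  haveI : DCoh.HasRpush j := Groth.Agent.Helper4.HasRD.hasRpush _
  haveI : (DCoh.Rpush j).Additive := additive_Rpush j
  haveI : HasCoproduct (fun i => (DCoh.Rpush j).obj (E i)) := FN1.hasCoproduct X _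
  haveI : PreservesColimit (Discrete.functor E) (DCoh.Rpush j) := preservesCoproduct_Rpush j E hE
  exact FN0.fin_of_adj (Groth.Agent.Helper4.RjSuppGen.dAdj' j) E K
    (hK ι _ (fun i => QP7.isQCohD_Rpush j (E i) (hE i)))

end Restrict

section Local

variable {X : Scheme.{u}}

/-- perfectness is local for open immersions -/
theorem isPerfect_of_local (K : DCoh.D X)
    (h : ∀ x : X, ∃ (Z : Scheme.{u}) (j : Z ⟶ X) (_ : IsOpenImmersion j), x ∈ Set.range j ∧
      DCoh.IsPerfect ((DCoh.restrictD j).obj K)) : DCoh.IsPerfect K := by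
  let F₀ : CochainComplex X.Modules ℤ := Q.objPreimage K
  let e₀ : Q.obj F₀ ≅ K := Q.objObjPreimageIso K
  refine (isPerfect_iff_locSP K F₀ e₀).2 (fun x => ?_)
  obtain ⟨Z, j, hj, ⟨y, rfl⟩, hp⟩ := h x
  haveI := hj
  let e₁ : Q.obj ((Rc j).obj F₀) ≅ (DCoh.restrictD j).obj K :=
    ((restrictFunctor j).mapDerivedCategoryFactors.app F₀).symm ≪≫ (DCoh.restrictD j).mapIso e₀
  exact LocSP.of_restrict j ((isPerfect_iff_locSP _ ((Rc j).obj F₀) e₁).1 hp y)

end Local

section Affine

variable (R : CommRingCat.{u})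

/-- the affine case, via the ring case -/
theorem isPerfect_of_fn_affine (K : DCoh.D (Spec (CommRingCat.of R))) (hq : DCoh.IsQCohD K)
    (hK : FN1.FN (Spec (CommRingCat.of R)) K) : DCoh.IsPerfect K := by
  haveI : PreservesFiniteLimits (tilde.functor R) :=
    Groth.Agent.Helper4.TildeExact.preservesFiniteLimits_tilde _
  obtain ⟨M, ⟨eM⟩⟩ := QcLpull1.exists_iso_tildeD R K hq
  obtain ⟨RG, ⟨dadj⟩⟩ := LCTil2.exists_adj R
  obtain ⟨ff⟩ := TP2.nonempty_fullyFaithful R
  haveI := ff.faithful
  haveI : PreservesFiniteColimits (tilde.functor R) :=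
    Groth.Agent.Helper4.TildeExact.preservesFiniteColimits_tilde _
  haveI : (DCoh.tildeD R).Additive := inferInstance
  have hM : DRing.IsPerfect R M := by
    refine (Groth.Agent.S6978.result R M).2 ?_
    intro I E _
    rw [CO1.cohDer_bijective_iff]
    let e : I ≃ ULift.{u + 1} I := Equiv.ulift.symm
    let E' : ULift.{u + 1} I → DerivedCategory (ModuleCat.{u} R) := fun i => E i.down
    haveI : HasCoproduct E' := (inferInstance : HasCoproduct fun i : ULift.{u + 1} I => E i.down)
    haveI : HasCoproduct (E' ∘ e) :=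
      hasCoproduct_of_equiv_of_iso E' (E' ∘ e) e (fun j => Iso.refl _)
    refine FN0.fin_of_equiv e E' ?_
    haveI : HasCoproduct (fun i => (DCoh.tildeD R).obj ((E' ∘ e) i)) :=
      FN1.hasCoproduct (Spec (CommRingCat.of R)) _
    haveI : PreservesColimit (Discrete.functor (E' ∘ e)) (DCoh.tildeD R) :=
      (dadj.leftAdjoint_preservesColimits).preservesColimitsOfShape.preservesColimit
    refine fin_of_faithful (DCoh.tildeD R) (E' ∘ e) M ?_
    exact (hK I _ (fun i => LCTil1.isQCohD_tildeD R _)).of_iso eM.symm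
  exact isPerfect_of_iso eM ((TP3.isPerfect_tildeD_iff R M).2 hM)

end Affine

section Main

/-- **relatively compact objects of `D_QCoh` are perfect** -/
theorem isPerfect_of_fn (X : Scheme.{u}) [QuasiSeparatedSpace X] (K : DCoh.D X)
    (hq : DCoh.IsQCohD K) (hK : FN1.FN X K) : DCoh.IsPerfect K := by
  refine isPerfect_of_local K (fun x => ?_)
  obtain ⟨_, ⟨U₀, hU0, rfl⟩, hxU, -⟩ :=
    X.isBasis_affineOpens.exists_subset_of_mem_open (Set.mem_univ x) isOpen_univ
  obtain ⟨U, hUU⟩ : ∃ U : X.Opens, U = U₀ := ⟨U₀, rfl⟩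
  subst hUU
  have hU : IsAffineOpen U := hU0
  let j : Spec Γ(X, U) ⟶ X := hU.fromSpec
  haveI : IsOpenImmersion j := inferInstance
  haveI : QuasiCompact j := inferInstance
  refine ⟨Spec Γ(X, U), j, inferInstance, ?_, ?_⟩
  · have : Set.range j = (U : Set X) := hU.range_fromSpec
    rw [this]
    exact hxU
  · exact isPerfect_of_fn_affine Γ(X, U) _ (QP7.isQCohD_restrictD j K hq) (fn_restrictD j K hK)

end Main

end Groth.Agent.Helper9.CO2
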