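import Mathlib
import Groth.Prelude.Def_CxOX
import Groth.Agent.Helper9.CO2
import Groth.Agent.Helper9.MVP13
import Groth.Agent.Helper4.CoprodTri
import Groth.Agent.Helper4.QcohWSerre

/-! Compactness relative to `D_{QCoh,T}` implies compactness relative to `D_QCoh` for objects
supported on `T` (`X ∖ T` quasi-compact): local cohomology triangles `W_i → E_i → Rj_*j^*E_i`. -/

set_option autoImplicit false
set_option linter.style.haveILetI false
set_option linter.unusedVariables false
set_option linter.unusedSectionVars false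
universe u

namespace Groth.Agent.Helper9.CO3

open CategoryTheory CategoryTheory.Limits AlgebraicGeometry Opposite TopologicalSpace
  Pretriangulated DerivedCategory
open Groth.Agent.Helper9 Groth.Agent.Helper9.MVP13

attribute [local instance] HasDerivedCategory.standard

section Generic

universe w v u₁

variable {C : Type u₁} [Category.{v} C] [Preadditive C] {ι : Type w} (W E : ι → C)
  [HasCoproduct W] [HasCoproduct E] (a : ∀ i, W i ⟶ E i)

lemma map_eF (F : Finset ι) :
    Limits.Sigma.map a ≫ CP1.eF E F = CP1.eF W F ≫ Limits.Sigma.map a := by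
  classical
  apply Sigma.hom_ext
  intro i
  rw [Sigma.ι_map_assoc, ← Category.assoc (Sigma.ι W i)]
  by_cases hi : i ∈ F
  · rw [CP1.ι_eF_mem E hi, CP1.ι_eF_mem W hi, Sigma.ι_map]
  · rw [CP1.ι_eF_not_mem E hi, CP1.ι_eF_not_mem W hi, comp_zero, zero_comp]

lemma supp_map {F : Finset ι} {K : C} {ψ : K ⟶ ∐ W} (h : CP1.Supp F ψ) :
    CP1.Supp F (ψ ≫ Limits.Sigma.map a) := by
  unfold CP1.Supp at h ⊢
  rw [Category.assoc, map_eF, ← Category.assoc, h]

end Generic

section Main

variable {X : Scheme.{u}} [QuasiSeparatedSpace X] (U : X.Opens) (hU : IsCompact (U : Set X))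

include hU in
/-- an object vanishing on `U` which is compact relative to objects of `D_QCoh` vanishing on `U`
is compact relative to `D_QCoh` -/
theorem fn_of_fn_supp (K : DCoh.D X) (hKU : ZeroOn K U)
    (h : ∀ (ι : Type u) (E : ι → DCoh.D X) [HasCoproduct E],
      (∀ i, DCoh.IsQCohD (E i) ∧ ZeroOn (E i) U) → CP1.Fin E K) : FN1.FN X K := by
  intro ι E _ hE
  haveI : CompactSpace ↥U := isCompact_iff_compactSpace.1 hU
  let j : (U : Scheme.{u}) ⟶ X := U.ι
  haveI : CompactSpace ↥(U : Scheme.{u}) := ‹CompactSpace ↥U›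
  haveI : QuasiCompact j := quasiCompact_of_compactSpace j
  haveI : DCoh.HasRpush j := Groth.Agent.Helper4.HasRD.hasRpush _
  let adj := Groth.Agent.Helper4.RjSuppGen.dAdj' j
  let L := DCoh.restrictD j
  let R := DCoh.Rpush j
  have hz : IsZero (L.obj K) := (zeroOn_iff K U).1 hKU
  let N : ι → DCoh.D (U : Scheme.{u}) := fun i => L.obj (E i)
  have hN : ∀ i, DCoh.IsQCohD (N i) := fun i => QP7.isQCohD_restrictD j (E i) (hE i)
  have hRN : ∀ i, DCoh.IsQCohD (R.obj (N i)) := fun i => QP7.isQCohD_Rpush j (N i) (hN i)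
  -- the triangles
  have htri : ∀ i, ∃ (Wi : DCoh.D X) (a : Wi ⟶ E i) (b : R.obj (N i) ⟶ Wi⟦(1 : ℤ)⟧),
      Triangle.mk a (adj.unit.app (E i)) b ∈ distTriang (DCoh.D X) :=
    fun i => distinguished_cocone_triangle₁ (adj.unit.app (E i))
  choose W a b hT using htri
  have hWq : ∀ i, DCoh.IsQCohD (W i) := fun i =>
    Groth.Agent.Helper4.QcohWSerre.isQCohD_obj₁ _ (hT i) (hE i) (hRN i)
  have hWz : ∀ i, ZeroOn (W i) U := by
    intro i
    rw [zeroOn_iff]
    have hT' := L.map_distinguished _ (hT i)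
    haveI : IsIso (L.map (adj.unit.app (E i))) :=
      Groth.Agent.Helper4.RjSuppGen.isIso_restrict_unit_of_adj j adj (E i)
    exact (Triangle.isZero₁_iff_isIso₂ _ hT').2
      (inferInstanceAs (IsIso (L.map (adj.unit.app (E i)))))
  haveI : HasCoproduct W := FN1.hasCoproduct X _
  haveI : HasCoproduct (fun i => R.obj (N i)) := FN1.hasCoproduct X _
  haveI : HasCoproduct (fun i => (W i)⟦(1 : ℤ)⟧) := FN1.hasCoproduct X _
  haveI : HasCoproduct N := FN1.hasCoproduct _ _
  -- all maps from `K` to `∐ Rj_* N_i` vanish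
  have h0 : ∀ φ : K ⟶ ∐ (fun i => R.obj (N i)), φ = 0 := by
    intro φ
    haveI : IsIso (sigmaComparison R N) := CP5.isIso_sigma_Rpush j N hN
    rw [← cancel_mono (sigmaComparison R N), zero_comp]
    apply (adj.homEquiv _ _).symm.injective
    exact hz.eq_of_src _ _
  intro ψ
  let Tr : ι → Triangle (DCoh.D X) := fun i => Triangle.mk (a i) (adj.unit.app (E i)) (b i)
  haveI : HasCoproduct (fun i => (Tr i).obj₁) := (inferInstance : HasCoproduct W)
  haveI : HasCoproduct (fun i => (Tr i).obj₂) := (inferInstance : HasCoproduct E)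
  haveI : HasCoproduct (fun i => (Tr i).obj₃) :=
    (inferInstance : HasCoproduct (fun i => R.obj (N i)))
  haveI : HasCoproduct (fun i => (Tr i).obj₁⟦(1 : ℤ)⟧) :=
    (inferInstance : HasCoproduct (fun i => (W i)⟦(1 : ℤ)⟧))
  have hd := Groth.Agent.Helper4.CoprodTri.coproductTriangle_distinguished Tr hT
  obtain ⟨ψ', hψ'⟩ : ∃ ψ' : K ⟶ ∐ W, ψ = ψ' ≫ Limits.Sigma.map a :=
    Triangle.coyoneda_exact₂ _ hd ψ (h0 _)
  obtain ⟨F, hF⟩ := h ι W (fun i => ⟨hWq i, hWz i⟩) ψ'
  refine ⟨F, ?_⟩
  rw [hψ']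
  exact supp_map W E a hF

end Main

end Groth.Agent.Helper9.CO3
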