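import Mathlib
import Groth.Agent.Helper9.Leray2
import Groth.Agent.Helper1.DCoprod
import Groth.Agent.Helper1.AM2
import Groth.Agent.Helper4.SchAdj

/-! `Rf_*` commutes with coproducts of uniformly bounded below families (`f` quasi-compact
quasi-separated), via termwise coproducts of bounded below injective resolutions and Leray's
acyclicity lemma. -/

set_option autoImplicit false
set_option linter.style.haveILetI false
set_option linter.unusedVariables false
set_option linter.unusedSectionVars false
universe u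

namespace Groth.Agent.Helper9.CPB1

open CategoryTheory Limits AlgebraicGeometry Opposite TopologicalSpace DerivedCategory
open Groth.Agent.Helper9.Leray1 Groth.Agent.Helper9.Leray2 Groth.Agent.Helper9.RpushCmp
  Groth.Agent.Helper1

attribute [local instance] HasDerivedCategory.standard

section General

variable {C : Type*} [Category C] [HasZeroMorphisms C]

lemma isZero_sigma {ι : Type*} (Z : ι → C) [HasCoproduct Z] (hZ : ∀ i, IsZero (Z i)) :
    IsZero (∐ Z) := by
  rw [IsZero.iff_id_eq_zero]
  apply Sigma.hom_ext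
  intro i
  exact (hZ i).eq_of_src _ _

end General

variable {X S : Scheme.{u}} (f : X ⟶ S) [QuasiCompact f] [QuasiSeparated f]

/-- `f_*` on modules preserves coproducts (`f` qcqs). -/
theorem preservesCoproduct_push {ι : Type u} (F : ι → X.Modules) :
    PreservesColimit (Discrete.functor F) (Scheme.Modules.pushforward f) := by
  haveI : PreservesColimitsOfSize.{u, u} (tA X) :=
    Groth.Agent.Helper3.SheafModLib.toSheaf_preservesColimits X.ringCatSheaf
  haveI : ReflectsColimitsOfSize.{u, u} (tA S) :=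
    Groth.Agent.Helper3.SheafModLib.toSheaf_reflectsColimits S.ringCatSheaf
  haveI := Groth.Agent.Helper1.AM.preservesCoproduct_pushAb f (fun i => (tA X).obj (F i))
  haveI : PreservesColimit (Discrete.functor F ⋙ tA X) (Coh.pushAb f) :=
    preservesColimit_of_iso_diagram (Coh.pushAb f)
      (Discrete.natIso (fun i => Iso.refl _) :
        Discrete.functor (fun i => (tA X).obj (F i)) ≅ Discrete.functor F ⋙ tA X)
  haveI : PreservesColimit (Discrete.functor F) (tA X ⋙ Coh.pushAb f) := inferInstance
  haveI : PreservesColimit (Discrete.functor F) (Coh.push f ⋙ tA S) :=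
    preservesColimit_of_natIso (Discrete.functor F) (pushIso f).symm
  exact preservesColimit_of_reflects_of_preserves (Coh.push f) (tA S)

/-- `R^p f_*` on abelian sheaves preserves coproducts (`f` qcqs). -/
theorem preservesCoproduct_RpushAb {ι : Type u} (p : ℕ)
    (g : ι → Sheaf (Opens.grothendieckTopology X) AddCommGrpCat.{u}) :
    PreservesColimit (Discrete.functor g) (Coh.RpushAb f p) := by
  haveI : PreservesColimitsOfShape (Finset (Discrete ι)) (Coh.RpushAb f p) :=
    Groth.Agent.S0800.result f p (Finset (Discrete ι))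
  haveI : PreservesFiniteCoproducts (Coh.RpushAb f p) := inferInstance
  haveI : IsIso (sigmaComparison (Coh.RpushAb f p) g) :=
    Groth.Agent.Helper1.CoprodFilt.isIso_sigmaComparison (Coh.RpushAb f p) g
  exact PreservesCoproduct.of_iso_comparison (Coh.RpushAb f p) g

/-- a coproduct of injective modules has no higher direct images -/
theorem isZero_Rpush_sigma [HasInjectiveResolutions X.Modules] {ι : Type u} (E : ι → X.Modules)
    (hE : ∀ i, Injective (E i)) (p : ℕ) :
    IsZero ((Coh.Rpush f (p + 1)).obj (∐ E)) := by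
  haveI : PreservesColimitsOfSize.{u, u} (tA X) :=
    Groth.Agent.Helper3.SheafModLib.toSheaf_preservesColimits X.ringCatSheaf
  obtain ⟨e⟩ := RpushCmp.nonempty_iso f (p + 1) (∐ E)
  haveI := preservesCoproduct_RpushAb f (p + 1) (fun i => (tA X).obj (E i))
  haveI : PreservesColimit (Discrete.functor E) (tA X) := inferInstance
  let e1 : (tA X).obj (∐ E) ≅ ∐ (fun i => (tA X).obj (E i)) := PreservesCoproduct.iso (tA X) E
  let e2 : (Coh.RpushAb f (p + 1)).obj (∐ fun i => (tA X).obj (E i)) ≅
      ∐ fun i => (Coh.RpushAb f (p + 1)).obj ((tA X).obj (E i)) :=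
    PreservesCoproduct.iso (Coh.RpushAb f (p + 1)) _
  have hz : ∀ i, IsZero ((Coh.RpushAb f (p + 1)).obj ((tA X).obj (E i))) := by
    intro i
    obtain ⟨ei⟩ := RpushCmp.nonempty_iso f (p + 1) (E i)
    haveI := hE i
    exact IsZero.of_iso (Functor.map_isZero (tA S)
      (Functor.isZero_rightDerived_obj_injective_succ _ _ _)) ei.symm
  have hz2 : IsZero (∐ fun i => (Coh.RpushAb f (p + 1)).obj ((tA X).obj (E i))) :=
    isZero_sigma _ hz
  have hz3 : IsZero ((tA S).obj ((Coh.Rpush f (p + 1)).obj (∐ E))) :=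
    IsZero.of_iso hz2 (e ≪≫ (Coh.RpushAb f (p + 1)).mapIso e1 ≪≫ e2)
  haveI : (tA S).Faithful :=
    inferInstanceAs ((SheafOfModules.toSheaf.{u} S.ringCatSheaf).Faithful)
  rw [IsZero.iff_id_eq_zero]
  apply (tA S).map_injective
  exact hz3.eq_of_src _ _

variable [DCoh.HasRpush f]

/-- a coproduct of injective modules is `Rf_*`-acyclic -/
theorem acy_sigma {ι : Type u} (E : ι → X.Modules) (hE : ∀ i, Injective (E i)) :
    haveI := Groth.Agent.Helper4.SchAdj.isGrothendieckAbelian_modules X
    Acy (DCoh.Rpush f) (∐ E) := by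
  haveI := Groth.Agent.Helper4.SchAdj.isGrothendieckAbelian_modules X
  intro i hi
  refine Amp1.isZero_homology_single (Scheme.Modules.pushforward f) (DCoh.Rpush f)
    ((DCoh.pushKh f).totalRightDerivedUnit DerivedCategory.Qh
      (HomotopyCategory.quasiIso X.Modules (ComplexShape.up ℤ))) (∐ E) 1 (fun p hp => ?_) 0 i
    (Or.inr (by omega))
  obtain ⟨q, rfl⟩ : ∃ q, p = q + 1 := ⟨p - 1, by omega⟩
  exact isZero_Rpush_sigma f E hE q

section Main

variable {ι : Type u} (I : ι → CochainComplex X.Modules ℤ)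

/-- the comparison `∐ f_* I_i ⟶ f_* ∐ I_i` of complexes -/
noncomputable def σ :
    DCoprod.sig (fun i => ((Scheme.Modules.pushforward f).mapHomologicalComplex
      (ComplexShape.up ℤ)).obj (I i)) ⟶
    ((Scheme.Modules.pushforward f).mapHomologicalComplex (ComplexShape.up ℤ)).obj
      (DCoprod.sig I) :=
  DCoprod.desc (fun i => ((Scheme.Modules.pushforward f).mapHomologicalComplex
    (ComplexShape.up ℤ)).map (DCoprod.ι I i))

lemma ι_σ (i : ι) :
    DCoprod.ι (fun i => ((Scheme.Modules.pushforward f).mapHomologicalComplex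
      (ComplexShape.up ℤ)).obj (I i)) i ≫ σ f I =
    ((Scheme.Modules.pushforward f).mapHomologicalComplex (ComplexShape.up ℤ)).map
      (DCoprod.ι I i) :=
  DCoprod.ι_desc _ i

instance isIso_σ : IsIso (σ f I) := by
  haveI : ∀ m : ℤ, IsIso ((σ f I).f m) := by
    intro m
    haveI := preservesCoproduct_push f (fun i => (I i).X m)
    have h : (σ f I).f m = sigmaComparison (Scheme.Modules.pushforward f) (fun i => (I i).X m) := by
      apply Sigma.hom_ext
      intro i
      simp [σ, sigmaComparison]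
      erw [Sigma.ι_desc]
    rw [h]
    exact (inferInstance : IsIso (PreservesCoproduct.iso (Scheme.Modules.pushforward f)
      (fun i => (I i).X m)).inv)
  exact HomologicalComplex.Hom.isIso_of_components _

lemma isStrictlyGE_sig (n : ℤ) (hI : ∀ i, (I i).IsStrictlyGE n) :
    (DCoprod.sig I).IsStrictlyGE n := by
  rw [CochainComplex.isStrictlyGE_iff]
  intro m hm
  exact isZero_sigma _ (fun i => (I i).isZero_of_isStrictlyGE n m hm)

/-- `Rf_*` preserves the coproduct of a uniformly bounded below family of complexes of injectives -/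
theorem isColimit_mapCocone (n : ℤ) (hI : ∀ i, (I i).IsStrictlyGE n)
    (hinj : ∀ i m, Injective ((I i).X m)) :
    haveI := Groth.Agent.Helper4.SchAdj.isGrothendieckAbelian_modules X
    haveI := Groth.Agent.Helper4.SchAdj.isGrothendieckAbelian_modules S
    Nonempty (IsColimit ((DCoh.Rpush f).mapCocone (DCoprod.cofan I))) := by
  haveI := Groth.Agent.Helper4.SchAdj.isGrothendieckAbelian_modules X
  haveI := Groth.Agent.Helper4.SchAdj.isGrothendieckAbelian_modules S
  haveI : HasExactColimitsOfShape (Discrete ι) X.Modules := inferInstance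
  haveI : HasExactColimitsOfShape (Discrete ι) S.Modules := inferInstance
  let Φ := Scheme.Modules.pushforward f
  let RF := DCoh.Rpush f
  let β := (DCoh.pushKh f).totalRightDerivedUnit DerivedCategory.Qh
    (HomotopyCategory.quasiIso X.Modules (ComplexShape.up ℤ))
  let ΦI : ι → CochainComplex S.Modules ℤ :=
    fun i => (Φ.mapHomologicalComplex (ComplexShape.up ℤ)).obj (I i)
  have hc' : IsColimit (DCoprod.cofan ΦI) := DCoprod.isColimitCofan ΦI
  haveI : ∀ i, (I i).IsKInjective := fun i =>
    haveI := hinj i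
    haveI := hI i
    CochainComplex.isKInjective_of_injective (I i) n
  haveI hβi : ∀ i, IsIso (βQ Φ RF β (I i)) := fun i => isIso_βQ_of_isKInjective Φ RF β (I i)
  haveI := isStrictlyGE_sig I n hI
  haveI hβs : IsIso (βQ Φ RF β (DCoprod.sig I)) :=
    isIso_βQ_of_isStrictlyGE Φ RF β (DCoprod.sig I) n
      (fun m => acy_sigma f (fun i => (I i).X m) (fun i => hinj i m))
  let φ : Q.obj (DCoprod.sig ΦI) ⟶ RF.obj (Q.obj (DCoprod.sig I)) :=
    Q.map (σ f I) ≫ βQ Φ RF β (DCoprod.sig I)
  haveI : IsIso φ := by dsimp only [φ]; infer_instance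
  have hφ : ∀ i, Q.map (DCoprod.ι ΦI i) ≫ φ = βQ Φ RF β (I i) ≫ RF.map (Q.map (DCoprod.ι I i)) := by
    intro i
    dsimp only [φ]
    rw [← Category.assoc, ← Q.map_comp, ι_σ, βQ_naturality]
  refine ⟨(isColimitMapCoconeCofanMkEquiv RF _ _).symm ?_⟩
  refine Cofan.IsColimit.mk _
    (fun t => inv φ ≫ hc'.desc (Cofan.mk t.pt (fun i => βQ Φ RF β (I i) ≫ t.inj i)))
    (fun t i => ?_) (fun t m hm => ?_)
  · have h1 : RF.map (Q.map (DCoprod.ι I i)) =
        inv (βQ Φ RF β (I i)) ≫ Q.map (DCoprod.ι ΦI i) ≫ φ := by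
      rw [hφ i, IsIso.inv_hom_id_assoc]
    show RF.map (Q.map (DCoprod.ι I i)) ≫ inv φ ≫ _ = _
    rw [h1]
    simp only [Category.assoc, IsIso.hom_inv_id_assoc]
    have h2 := hc'.fac (Cofan.mk t.pt (fun i => βQ Φ RF β (I i) ≫ t.inj i)) ⟨i⟩
    change Q.map (DCoprod.ι ΦI i) ≫ _ = βQ Φ RF β (I i) ≫ t.inj i at h2
    rw [h2, IsIso.inv_hom_id_assoc]
  · rw [IsIso.eq_inv_comp]
    apply hc'.hom_ext
    rintro ⟨i⟩
    have h2 := hc'.fac (Cofan.mk t.pt (fun i => βQ Φ RF β (I i) ≫ t.inj i)) ⟨i⟩
    change Q.map (DCoprod.ι ΦI i) ≫ _ = βQ Φ RF β (I i) ≫ t.inj i at h2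
    change Q.map (DCoprod.ι ΦI i) ≫ φ ≫ m = Q.map (DCoprod.ι ΦI i) ≫ _
    rw [h2, ← Category.assoc, hφ i, Category.assoc]
    congr 1
    exact hm i

end Main

/-- bounded below injective resolutions in the derived category -/
lemma exists_resolution (K : DCoh.D X) (n : ℤ) [K.IsGE n] :
    ∃ (I : CochainComplex X.Modules ℤ), I.IsStrictlyGE n ∧ (∀ m, Injective (I.X m)) ∧
      Nonempty (Q.obj I ≅ K) := by
  haveI := Groth.Agent.Helper4.SchAdj.isGrothendieckAbelian_modules X
  obtain ⟨L, _, ⟨e⟩⟩ := DerivedCategory.exists_iso_Q_obj_of_isGE K n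
  obtain ⟨I, j, hj, hI, hge⟩ :=
    CochainComplex.Plus.modelCategoryQuillen.exists_quasiIso_injective L n
  haveI := hj
  exact ⟨I, hge, hI, ⟨(asIso (Q.map j)).symm ≪≫ e.symm⟩⟩

/-- **`Rf_*` commutes with coproducts of uniformly bounded below families** -/
theorem isIso_sigma_Rpush {ι : Type u} (K : ι → DCoh.D X) (n : ℤ) (hK : ∀ i, (K i).IsGE n)
    [HasCoproduct K] [HasCoproduct (fun i => (DCoh.Rpush f).obj (K i))] :
    IsIso (Sigma.desc (fun i => (DCoh.Rpush f).map (Sigma.ι K i))) := by
  haveI := Groth.Agent.Helper4.SchAdj.isGrothendieckAbelian_modules X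
  haveI := Groth.Agent.Helper4.SchAdj.isGrothendieckAbelian_modules S
  haveI : HasExactColimitsOfShape (Discrete ι) X.Modules := inferInstance
  choose I hI hinj e using fun i => haveI := hK i; exists_resolution (K i) n
  obtain ⟨hcol⟩ := isColimit_mapCocone f I n hI hinj
  haveI : PreservesColimit (Discrete.functor (fun i => Q.obj (I i))) (DCoh.Rpush f) :=
    preservesColimit_of_preserves_colimit_cocone (DCoprod.isColimitCofan I) hcol
  haveI : PreservesColimit (Discrete.functor K) (DCoh.Rpush f) :=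
    preservesColimit_of_iso_diagram (DCoh.Rpush f)
      (Discrete.natIso (fun i => (e i.as).some) :
        Discrete.functor (fun i => Q.obj (I i)) ≅ Discrete.functor K)
  exact inferInstanceAs (IsIso (sigmaComparison (DCoh.Rpush f) K))

end Groth.Agent.Helper9.CPB1
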