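import Mathlib
import Groth.Prelude.Def_DualLC
import Groth.Prelude.Def_Found
import Groth.Agent.S0555
import Groth.Agent.Helper2.ZH6
import Groth.Agent.Helper9.LF8

/-!
# Heights in intervals of primes along finite ring maps over a universally catenary ring
-/

set_option autoImplicit false
set_option linter.style.haveILetI false
set_option linter.unusedSectionVars false
set_option linter.unusedVariables false

universe u
open IsLocalRing

namespace Groth.Agent.Helper9.CU2

section Quot

variable {A : Type u} [CommRing A]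

/-- `Spec (A/p)` is order isomorphic to the primes above `p` -/
noncomputable def quotIso (p : PrimeSpectrum A) : PrimeSpectrum (A ⧸ p.asIdeal) ≃o Set.Ici p :=
  (Ideal.primeSpectrumQuotientOrderIsoZeroLocus p.asIdeal).trans
    (OrderIso.setCongr _ _ (by
      ext x
      rw [PrimeSpectrum.mem_zeroLocus, Set.mem_Ici, SetLike.coe_subset_coe,
        PrimeSpectrum.asIdeal_le_asIdeal]))

lemma quotIso_apply (p : PrimeSpectrum A) (Q : PrimeSpectrum (A ⧸ p.asIdeal)) :
    ((quotIso p Q : Set.Ici p) : PrimeSpectrum A) =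
      PrimeSpectrum.comap (Ideal.Quotient.mk p.asIdeal) Q := rfl

/-- the image of a prime `q ⊇ p` in `A/p` -/
noncomputable def quotPrime (p q : PrimeSpectrum A) (h : p ≤ q) : PrimeSpectrum (A ⧸ p.asIdeal) :=
  ⟨q.asIdeal.map (Ideal.Quotient.mk p.asIdeal),
    Ideal.map_isPrime_of_surjective Ideal.Quotient.mk_surjective (by
      rw [Ideal.mk_ker]
      exact (PrimeSpectrum.asIdeal_le_asIdeal _ _).mpr h)⟩

lemma quotIso_quotPrime (p q : PrimeSpectrum A) (h : p ≤ q) :
    quotIso p (quotPrime p q h) = ⟨q, h⟩ := by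
  apply Subtype.ext
  rw [quotIso_apply]
  apply PrimeSpectrum.ext
  show (q.asIdeal.map (Ideal.Quotient.mk p.asIdeal)).comap (Ideal.Quotient.mk p.asIdeal) = q.asIdeal
  rw [Ideal.comap_map_of_surjective _ Ideal.Quotient.mk_surjective, ← RingHom.ker_eq_comap_bot,
    Ideal.mk_ker, sup_eq_left]
  exact (PrimeSpectrum.asIdeal_le_asIdeal _ _).mpr h

/-- the height of `q/p` in `A/p` is the height of `q` among the primes above `p` -/
lemma height_map_mk (p q : PrimeSpectrum A) (h : p ≤ q) :
    (q.asIdeal.map (Ideal.Quotient.mk p.asIdeal)).height = Order.height (⟨q, h⟩ : Set.Ici p) := by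
  have h1 := PrimeSpectrum.height_eq_orderHeight (quotPrime p q h)
  have h2 := Order.height_orderIso (quotIso p) (quotPrime p q h)
  rw [quotIso_quotPrime] at h2
  rw [h2]
  exact h1

end Quot

section Finite

variable {A B : Type u} [CommRing A] [CommRing B] [Algebra A B] [Module.Finite A B]

/-- heights in intervals are preserved by contraction along a finite ring map out of a universally
catenary ring -/
theorem height_Ici_comap (hA : CAlg.IsUniversallyCatenary A) (p' q' : PrimeSpectrum B)
    (h' : p' ≤ q') :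
    Order.height (⟨q', h'⟩ : Set.Ici p') =
      Order.height (⟨PrimeSpectrum.comap (algebraMap A B) q',
        (PrimeSpectrum.asIdeal_le_asIdeal _ _).mp
          (Ideal.comap_mono ((PrimeSpectrum.asIdeal_le_asIdeal _ _).mpr h'))⟩ :
          Set.Ici (PrimeSpectrum.comap (algebraMap A B) p')) := by
  set p := PrimeSpectrum.comap (algebraMap A B) p' with hp
  set q := PrimeSpectrum.comap (algebraMap A B) q' with hq
  have h : p ≤ q := (PrimeSpectrum.asIdeal_le_asIdeal _ _).mp
    (Ideal.comap_mono ((PrimeSpectrum.asIdeal_le_asIdeal _ _).mpr h'))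
  haveI : p'.asIdeal.LiesOver p.asIdeal := ⟨rfl⟩
  haveI : q'.asIdeal.LiesOver q.asIdeal := ⟨rfl⟩
  let R := A ⧸ p.asIdeal
  let S := B ⧸ p'.asIdeal
  have hR : CAlg.IsUniversallyCatenary R :=
    Groth.Agent.Helper2.ZH.isUniversallyCatenary_of_surjective' (Ideal.Quotient.mk p.asIdeal)
      Ideal.Quotient.mk_surjective hA
  haveI : Algebra.FiniteType R S := Module.Finite.finiteType (R := R) S
  let P : Ideal R := (quotPrime p q h).asIdeal
  let Q : Ideal S := (quotPrime p' q' h').asIdeal
  haveI : P.IsPrime := (quotPrime p q h).isPrime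
  haveI : Q.IsPrime := (quotPrime p' q' h').isPrime
  haveI : Q.LiesOver P := by
    constructor
    ext x
    obtain ⟨a, rfl⟩ := Ideal.Quotient.mk_surjective x
    show Ideal.Quotient.mk p.asIdeal a ∈ q.asIdeal.map (Ideal.Quotient.mk p.asIdeal) ↔
      algebraMap R S (Ideal.Quotient.mk p.asIdeal a) ∈ q'.asIdeal.map (Ideal.Quotient.mk p'.asIdeal)
    rw [Ideal.Quotient.algebraMap_mk_of_liesOver,
      Ideal.mem_map_iff_of_surjective _ Ideal.Quotient.mk_surjective,
      Ideal.mem_map_iff_of_surjective _ Ideal.Quotient.mk_surjective]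
    constructor
    · rintro ⟨a', ha', h1⟩
      have h2 : a' - a ∈ p.asIdeal := Ideal.Quotient.eq.mp h1
      have ha : a ∈ q.asIdeal := by
        have h3 : a' - a ∈ q.asIdeal := (PrimeSpectrum.asIdeal_le_asIdeal _ _).mpr h h2
        have := q.asIdeal.sub_mem ha' h3
        simpa using this
      exact ⟨algebraMap A B a, ha, rfl⟩
    · rintro ⟨b, hb, h1⟩
      have h2 : b - algebraMap A B a ∈ p'.asIdeal := Ideal.Quotient.eq.mp h1
      have h3 : b - algebraMap A B a ∈ q'.asIdeal := (PrimeSpectrum.asIdeal_le_asIdeal _ _).mpr h' h2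
      have : algebraMap A B a ∈ q'.asIdeal := by
        have := q'.asIdeal.sub_mem hb h3
        simpa using this
      exact ⟨a, this, rfl⟩
  have key := Groth.Agent.S0555.result R hR S P Q
  rw [trdeg_eq_zero, trdeg_eq_zero, add_zero, add_zero] at key
  have key' : Q.height = P.height := by exact_mod_cast key
  rw [← height_map_mk p' q' h', ← height_map_mk p q h]
  exact key'

end Finite

end Groth.Agent.Helper9.CU2
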