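import Mathlib
import Groth.Prelude.Def_CAlg
import Groth.Prelude.Def_EGA4b
import Groth.Agent.Helper2.FlatLoc
import Groth.Agent.Helper2.DepthFlat2
import Groth.Agent.Helper2.FlatAscent
import Groth.Agent.Helper2.SkFlat
import Groth.Agent.Helper9.LF11
import Groth.Agent.Helper2.DepthCM4
import Groth.Agent.S0543

/-!
# The depth formula for localizations of a base-changed module along a flat ring map
-/

set_option autoImplicit false
set_option linter.style.haveILetI false
universe u
open IsLocalRing TensorProduct Pointwise

namespace Groth.Agent.Helper9.CU3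

section
variable (A B : Type u) [CommRing A] [CommRing B] [IsNoetherianRing A] [IsNoetherianRing B]
  [Algebra A B] [Module.Flat A B] (q : Ideal B) [q.IsPrime]
  {M N : Type u} [AddCommGroup M] [Module A M] [Module.Finite A M]
  [AddCommGroup N] [Module A N] [Module B N] [IsScalarTower A B N]

/-- the depth formula `depth N_q = depth M_p + depth (B_q / p B_q)` for `N = B ⊗_A M`, `A → B`
flat, `p = q ∩ A`. -/
theorem depth_loc_eq (g : M →ₗ[A] N) (hg : IsBaseChange B g) :
    LocCoh.depth (Localization.AtPrime q) (LocalizedModule q.primeCompl N) =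
      LocCoh.depth (Localization.AtPrime (q.comap (algebraMap A B)))
        (LocalizedModule (q.comap (algebraMap A B)).primeCompl M) +
      LocCoh.depth (EGA4.FibLocRing A B q) (EGA4.FibLocRing A B q) := by
  letI := Localization.AtPrime.algebraOfLiesOver (q.comap (algebraMap A B)) q
  haveI : IsLocalHom (algebraMap (Localization.AtPrime (q.comap (algebraMap A B)))
      (Localization.AtPrime q)) :=
    Localization.isLocalHom_localRingHom _ _ _ Ideal.LiesOver.over
  haveI : IsNoetherianRing (Localization.AtPrime q) :=
    IsLocalization.isNoetherianRing q.primeCompl _ inferInstance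
  haveI : IsNoetherianRing (Localization.AtPrime (q.comap (algebraMap A B))) :=
    IsLocalization.isNoetherianRing (q.comap (algebraMap A B)).primeCompl _ inferInstance
  haveI : Module.Flat (Localization.AtPrime (q.comap (algebraMap A B)))
      (Localization.AtPrime q) := inferInstance
  have h := Groth.Agent.Helper2.DepthFlat2.depth_tensor
    (A := Localization.AtPrime (q.comap (algebraMap A B))) (B := Localization.AtPrime q)
    (LocalizedModule (q.comap (algebraMap A B)).primeCompl M) (Localization.AtPrime q)
  obtain ⟨e⟩ := Groth.Agent.Helper9.LF11.nonempty_equiv_of_isBaseChange (A := A)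
    (Ap := Localization.AtPrime (q.comap (algebraMap A B)))
    (A' := B) (B := Localization.AtPrime q)
    (LocalizedModule.mkLinearMap (q.comap (algebraMap A B)).primeCompl M)
    (LocalizedModule.isBaseChange (q.comap (algebraMap A B)).primeCompl M)
    g hg
    (LocalizedModule.mkLinearMap q.primeCompl N)
    (LocalizedModule.isBaseChange q.primeCompl _)
  rw [← Groth.Agent.Helper9.LF11.depth_congr e, h]
  congr 1
  have hI : (EGA4.mB (Localization.AtPrime (q.comap (algebraMap A B))) (Localization.AtPrime q) •
      (⊤ : Submodule (Localization.AtPrime q) (Localization.AtPrime q))) =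
      (q.comap (algebraMap A B)).map (algebraMap A (Localization.AtPrime q)) := by
    rw [smul_eq_mul, Ideal.mul_top]
    exact Groth.Agent.Helper2.FlatLoc.map_maximalIdeal A B q
  have e2 : EGA4.FibMod (Localization.AtPrime (q.comap (algebraMap A B))) (Localization.AtPrime q)
      (Localization.AtPrime q) ≃ₗ[Localization.AtPrime q] EGA4.FibLocRing A B q :=
    Submodule.quotEquivOfEq _ _ hI
  have hc2 : LocCoh.depth (Localization.AtPrime q)
      (EGA4.FibMod (Localization.AtPrime (q.comap (algebraMap A B))) (Localization.AtPrime q)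
      (Localization.AtPrime q)) =
      LocCoh.depth (Localization.AtPrime q) (EGA4.FibLocRing A B q) :=
    Groth.Agent.Helper2.DepthCM.idealDepth_congr (maximalIdeal (Localization.AtPrime q)) e2
  rw [hc2]
  haveI : IsLocalHom (algebraMap (Localization.AtPrime q) (EGA4.FibLocRing A B q)) :=
    IsLocalHom.of_surjective _ Ideal.Quotient.mk_surjective
  haveI : Module.Finite (Localization.AtPrime q) (EGA4.FibLocRing A B q) :=
    Module.Finite.of_surjective (Algebra.linearMap _ _) Ideal.Quotient.mk_surjective
  exact Groth.Agent.Helper2.RegCM.depth_eq_of_isLocalHom (Localization.AtPrime q)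
    (EGA4.FibLocRing A B q) (EGA4.FibLocRing A B q)

end


section Zero
variable {F : Type u} [CommRing F] [IsNoetherianRing F] [IsLocalRing F]

/-- a zero-dimensional Noetherian local ring has depth zero -/
theorem depth_eq_zero_of_dim (h : ∀ Q : Ideal F, Q.IsPrime → Q = maximalIdeal F) :
    LocCoh.depth F F = 0 := by
  have h1 := Groth.Agent.Helper2.DepthCM4.depth_le_supportDim (A := F) F
  rw [Module.supportDim_self_eq_ringKrullDim] at h1
  have h2 : Ring.KrullDimLE 0 F := by
    rw [Ring.krullDimLE_zero_iff]
    intro Q hQ
    rw [h Q hQ]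
    exact maximalIdeal.isMaximal F
  have h3 : ringKrullDim F ≤ 0 := by
    have := (Ring.krullDimLE_iff (n := 0) (R := F)).mp h2
    exact_mod_cast this
  have h4 : ((LocCoh.depth F F : ℕ∞) : WithBot ℕ∞) ≤ 0 := h1.trans h3
  have h5 : LocCoh.depth F F ≤ 0 := by exact_mod_cast h4
  exact le_antisymm h5 zero_le

end Zero

section FibZero
variable (A B : Type u) [CommRing A] [CommRing B] [IsNoetherianRing B]
  [Algebra A B] (q : Ideal B) [q.IsPrime]

/-- the fibre local ring at a prime minimal over the extension of its contraction has depth `0` -/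
theorem depth_fib_eq_zero
    (hmin : q ∈ ((q.comap (algebraMap A B)).map (algebraMap A B)).minimalPrimes) :
    LocCoh.depth (EGA4.FibLocRing A B q) (EGA4.FibLocRing A B q) = 0 := by
  haveI : IsNoetherianRing (Localization.AtPrime q) :=
    IsLocalization.isNoetherianRing q.primeCompl _ inferInstance
  refine depth_eq_zero_of_dim fun Q hQ => ?_
  set J : Ideal (Localization.AtPrime q) :=
    (q.comap (algebraMap A B)).map (algebraMap A (Localization.AtPrime q)) with hJdef
  have hQ1 : (Q.comap (Ideal.Quotient.mk J)).IsPrime := Ideal.comap_isPrime _ _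
  have hJle : J ≤ Q.comap (Ideal.Quotient.mk J) := by
    intro x hx
    rw [Ideal.mem_comap, Ideal.Quotient.eq_zero_iff_mem.mpr hx]
    exact Q.zero_mem
  have hQ2 : ((Q.comap (Ideal.Quotient.mk J)).comap
      (algebraMap B (Localization.AtPrime q))).IsPrime := Ideal.comap_isPrime _ _
  have h1 : (Q.comap (Ideal.Quotient.mk J)).comap (algebraMap B (Localization.AtPrime q)) ≤ q :=
    Groth.Agent.Helper9.LF11.comap_le_of_ne_top' q _ hQ1.ne_top
  have h2 : (q.comap (algebraMap A B)).map (algebraMap A B) ≤
      (Q.comap (Ideal.Quotient.mk J)).comap (algebraMap B (Localization.AtPrime q)) := by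
    rw [← Ideal.map_le_iff_le_comap, Ideal.map_map,
      ← IsScalarTower.algebraMap_eq A B (Localization.AtPrime q)]
    exact hJle
  have h3 : q ≤ (Q.comap (Ideal.Quotient.mk J)).comap (algebraMap B (Localization.AtPrime q)) :=
    hmin.2 ⟨hQ2, h2⟩ h1
  have h4 : (Q.comap (Ideal.Quotient.mk J)).comap (algebraMap B (Localization.AtPrime q)) = q :=
    le_antisymm h1 h3
  have h5 : Q.comap (Ideal.Quotient.mk J) = maximalIdeal (Localization.AtPrime q) := by
    rw [← IsLocalization.map_under q.primeCompl (Localization.AtPrime q)
      (Q.comap (Ideal.Quotient.mk J)), Ideal.under_def, h4,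
      IsLocalization.AtPrime.map_eq_maximalIdeal q (Localization.AtPrime q)]
  have h6 : Q = (maximalIdeal (Localization.AtPrime q)).map (Ideal.Quotient.mk J) := by
    rw [← h5, Ideal.map_comap_of_surjective _ Ideal.Quotient.mk_surjective]
  have hmax : Q.IsMaximal := by
    rcases Ideal.map_eq_top_or_isMaximal_of_surjective (Ideal.Quotient.mk J)
      Ideal.Quotient.mk_surjective (maximalIdeal.isMaximal (Localization.AtPrime q)) with h7 | h7
    · exact absurd (h6.trans h7) hQ.ne_top
    · rw [h6]
      exact h7
  exact IsLocalRing.eq_maximalIdeal hmax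

end FibZero

section Sn
variable (A : Type u) [CommRing A] [IsNoetherianRing A] [IsLocalRing A]

theorem sn_fibre (n : ℕ) (hA : EGA4.HasSnFormalFibres n A) (q : Ideal (EGA4.Cpl A)) [q.IsPrime] :
    min (n : ℕ∞) (maximalIdeal (EGA4.FibLocRing A (EGA4.Cpl A) q)).height ≤
      LocCoh.depth (EGA4.FibLocRing A (EGA4.Cpl A) q) (EGA4.FibLocRing A (EGA4.Cpl A) q) := by
  haveI : IsNoetherianRing (EGA4.Cpl A) := Groth.Agent.S0543.result A (maximalIdeal A)
  haveI : IsNoetherianRing (Localization.AtPrime q) :=
    IsLocalization.isNoetherianRing q.primeCompl _ inferInstance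
  exact Groth.Agent.Helper2.FlatAscent.sk_at_max _ n
    (Groth.Agent.Helper2.SkFlat.fibLocRing_hasSk A (EGA4.Cpl A) n q (hA _))

end Sn

end Groth.Agent.Helper9.CU3
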