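import Mathlib
import Groth.Prelude.Def_Found
import Groth.Prelude.Def_EGA4b
import Groth.Agent.Helper2.Caten
import Groth.Agent.Helper2.ZH6
import Groth.Agent.Helper6.FormEquidimMin
import Groth.Agent.Helper7.CKC9
import Groth.Agent.Helper9.LF5
import Groth.Agent.Helper9.LF8
import Groth.Agent.S0543

/-!
# Coheights of primes in a universally catenary local ring and in its completion
-/

set_option autoImplicit false
set_option linter.style.haveILetI false
universe u
open IsLocalRing

namespace Groth.Agent.Helper9.CU4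

section Caten
variable {R : Type u} [CommRing R] [IsNoetherianRing R] [IsLocalRing R]

/-- In a catenary Noetherian local ring, `dim R/p = dim R/q + ht(q/p)`. -/
theorem coheight_eq_add_height (hc : CAlg.IsCatenary R) (p q : PrimeSpectrum R) (hpq : p ≤ q) :
    Order.coheight p = Order.coheight q + Order.height (⟨q, hpq⟩ : Set.Ici p) := by
  have hfin : ∀ x : PrimeSpectrum R, ((Order.coheight x).toNat : ℕ∞) = Order.coheight x :=
    fun x => ENat.natCast_toNat (Groth.Agent.Helper2.Caten.coheight_lt_top x).ne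
  let δ : PrimeSpectrum R → ℤ := fun x => ((Order.coheight x).toNat : ℤ)
  have hδ : ∀ x y : PrimeSpectrum R, x ⋖ y → δ x = δ y + 1 := by
    intro x y hxy
    have h1 := Groth.Agent.Helper2.Caten.coheight_of_covBy hc hxy
    rw [← hfin x, ← hfin y] at h1
    have h2 : (Order.coheight x).toNat = (Order.coheight y).toNat + 1 := by exact_mod_cast h1
    simp only [δ]
    omega
  obtain ⟨h, hh⟩ := Groth.Agent.Helper9.LF5.exists_height_Ici p q hpq
  have h3 := Groth.Agent.Helper9.LF5.delta_eq_add_height δ hδ p h q hpq hh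
  simp only [δ] at h3
  have h4 : (Order.coheight p).toNat = (Order.coheight q).toNat + h := by exact_mod_cast h3
  rw [hh, ← hfin p, ← hfin q, h4]
  push_cast
  rfl

end Caten

section Cpl
variable (A : Type u) [CommRing A] [IsNoetherianRing A] [IsLocalRing A]

instance : IsNoetherianRing (EGA4.Cpl A) := Groth.Agent.S0543.result A (maximalIdeal A)

theorem isCatenary_cpl : CAlg.IsCatenary (EGA4.Cpl A) := by
  haveI : IsAdicComplete (maximalIdeal (EGA4.Cpl A)) (EGA4.Cpl A) :=
    AdicCompletion.isAdicComplete_of_fg (maximalIdeal A).fg_of_isNoetherianRing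
  exact (Groth.Agent.Helper7.CKd.isUniversallyCatenary_of_complete (EGA4.Cpl A)).2 (EGA4.Cpl A)
    inferInstance

theorem isCatenary_of_uc {R : Type u} [CommRing R] (hR : CAlg.IsUniversallyCatenary R) :
    CAlg.IsCatenary R :=
  hR.2 R inferInstance

variable {A}

/-- Ratliff: for `A` universally catenary and `P'` minimal over `p Â`, `dim Â/P' = dim A/p`. -/
theorem dim_quot_min (hA : CAlg.IsUniversallyCatenary A) (p : Ideal A) [p.IsPrime]
    (P' : Ideal (EGA4.Cpl A)) (hP' : P' ∈ (p.map (algebraMap A (EGA4.Cpl A))).minimalPrimes) :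
    ringKrullDim (EGA4.Cpl A ⧸ P') = ringKrullDim (A ⧸ p) := by
  have h1 := Groth.Agent.Helper2.ZH.isFormallyCatenary_of_uc A hA p
  rw [Groth.Agent.Helper6.FormEquidimMin.isFormallyEquidim_quot_iff A p,
    Groth.Agent.Helper6.FormEquidimMin.isEquidim_quot_iff] at h1
  rw [h1 P' hP', Groth.Agent.Helper6.FormEquidimMin.dim_quot_map A p]

theorem dim_quot_le (q : Ideal A) [q.IsPrime]
    (Q' : Ideal (EGA4.Cpl A)) (hQ' : q.map (algebraMap A (EGA4.Cpl A)) ≤ Q') :
    ringKrullDim (EGA4.Cpl A ⧸ Q') ≤ ringKrullDim (A ⧸ q) := by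
  rw [← Groth.Agent.Helper6.FormEquidimMin.dim_quot_map A q]
  exact Groth.Agent.Helper6.FormEquidimMin.dim_quot_le_of_le hQ'

theorem coheight_min (hA : CAlg.IsUniversallyCatenary A) (p : PrimeSpectrum A)
    (P' : PrimeSpectrum (EGA4.Cpl A))
    (hP' : P'.asIdeal ∈ (p.asIdeal.map (algebraMap A (EGA4.Cpl A))).minimalPrimes) :
    Order.coheight P' = Order.coheight p := by
  have h := dim_quot_min hA p.asIdeal P'.asIdeal hP'
  rw [Groth.Agent.Helper2.Caten.dimQuot_eq_coheight, Groth.Agent.Helper2.Caten.dimQuot_eq_coheight]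
    at h
  exact_mod_cast h

theorem coheight_le (q : PrimeSpectrum A) (Q' : PrimeSpectrum (EGA4.Cpl A))
    (hQ' : q.asIdeal.map (algebraMap A (EGA4.Cpl A)) ≤ Q'.asIdeal) :
    Order.coheight Q' ≤ Order.coheight q := by
  have h := dim_quot_le q.asIdeal Q'.asIdeal hQ'
  rw [Groth.Agent.Helper2.Caten.dimQuot_eq_coheight, Groth.Agent.Helper2.Caten.dimQuot_eq_coheight]
    at h
  exact_mod_cast h

end Cpl


section Fib
variable {B : Type u} [CommRing B]

/-- chains of primes between `p₀` and `q` give chains of primes in `B_q / J'` when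
`J' ⊆ p₀ B_q`. -/
theorem height_le_dim (q p₀ : PrimeSpectrum B) (h0 : p₀ ≤ q)
    (J' : Ideal (Localization.AtPrime q.asIdeal))
    (hJ : J' ≤ p₀.asIdeal.map (algebraMap B (Localization.AtPrime q.asIdeal))) :
    ((Order.height (⟨q, h0⟩ : Set.Ici p₀) : ℕ∞) : WithBot ℕ∞) ≤
      ringKrullDim (Localization.AtPrime q.asIdeal ⧸ J') := by
  rw [← Groth.Agent.Helper9.LF8.krullDim_Icc p₀ q h0]
  -- for each prime in the interval, a prime of the quotient contracting to it
  have hex : ∀ x : Set.Icc p₀ q, ∃ y : PrimeSpectrum (Localization.AtPrime q.asIdeal ⧸ J'),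
      y.asIdeal.comap ((Ideal.Quotient.mk J').comp
        (algebraMap B (Localization.AtPrime q.asIdeal))) = x.1.asIdeal := by
    rintro ⟨x, hx1, hx2⟩
    have hdisj : Disjoint (q.asIdeal.primeCompl : Set B) (x.asIdeal : Set B) := by
      rw [Set.disjoint_left]
      intro a ha hax
      exact ha ((PrimeSpectrum.asIdeal_le_asIdeal _ _).mpr hx2 hax)
    have hprime : (x.asIdeal.map (algebraMap B (Localization.AtPrime q.asIdeal))).IsPrime :=
      IsLocalization.isPrime_of_isPrime_disjoint q.asIdeal.primeCompl _ _ x.isPrime hdisj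
    have hcomap : (x.asIdeal.map (algebraMap B (Localization.AtPrime q.asIdeal))).comap
        (algebraMap B (Localization.AtPrime q.asIdeal)) = x.asIdeal :=
      IsLocalization.comap_map_of_isPrime_disjoint q.asIdeal.primeCompl _ x.isPrime hdisj
    have hJx : J' ≤ x.asIdeal.map (algebraMap B (Localization.AtPrime q.asIdeal)) :=
      hJ.trans (Ideal.map_mono ((PrimeSpectrum.asIdeal_le_asIdeal _ _).mpr hx1))
    have hker : RingHom.ker (Ideal.Quotient.mk J') ≤
        x.asIdeal.map (algebraMap B (Localization.AtPrime q.asIdeal)) := by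
      rw [Ideal.mk_ker]
      exact hJx
    have hprime2 : ((x.asIdeal.map (algebraMap B (Localization.AtPrime q.asIdeal))).map
        (Ideal.Quotient.mk J')).IsPrime :=
      Ideal.map_isPrime_of_surjective Ideal.Quotient.mk_surjective hker
    refine ⟨⟨_, hprime2⟩, ?_⟩
    rw [← Ideal.comap_comap]
    change ((((x.asIdeal.map (algebraMap B (Localization.AtPrime q.asIdeal))).map
        (Ideal.Quotient.mk J')).comap (Ideal.Quotient.mk J')).comap
          (algebraMap B (Localization.AtPrime q.asIdeal))) = x.asIdeal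
    rw [Ideal.comap_map_of_surjective _ Ideal.Quotient.mk_surjective, ← RingHom.ker_eq_comap_bot,
      sup_eq_left.mpr hker, hcomap]
  choose f hf using hex
  have hrec : ∀ y : PrimeSpectrum (Localization.AtPrime q.asIdeal ⧸ J'),
      (((y.asIdeal.comap ((Ideal.Quotient.mk J').comp
        (algebraMap B (Localization.AtPrime q.asIdeal)))).map
          (algebraMap B (Localization.AtPrime q.asIdeal))).map (Ideal.Quotient.mk J')) =
        y.asIdeal := by
    intro y
    rw [← Ideal.comap_comap, IsLocalization.map_comap q.asIdeal.primeCompl,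
      Ideal.map_comap_of_surjective _ Ideal.Quotient.mk_surjective]
  have hmono : StrictMono f := by
    intro x₁ x₂ hlt
    have hle : f x₁ ≤ f x₂ := by
      rw [← PrimeSpectrum.asIdeal_le_asIdeal, ← hrec (f x₁), ← hrec (f x₂), hf, hf]
      exact Ideal.map_mono (Ideal.map_mono ((PrimeSpectrum.asIdeal_le_asIdeal _ _).mpr hlt.le))
    refine lt_of_le_of_ne hle fun heq => ?_
    have h1 := hf x₁
    rw [heq, hf x₂] at h1
    exact hlt.ne (Subtype.ext (PrimeSpectrum.ext h1.symm))
  exact Order.krullDim_le_of_strictMono f hmono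

end Fib

end Groth.Agent.Helper9.CU4
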