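import Mathlib
import Groth.Prelude.Def_Found
import Groth.Prelude.Def_EGA4b
import Groth.Prelude.Def_DualLC
import Groth.Agent.Helper9.CU3
import Groth.Agent.Helper9.CU4

/-!
# The cutoff invariant `s_{A,I}(M)` under completion of a universally catenary local ring
-/

set_option autoImplicit false
set_option linter.style.haveILetI false
universe u
open IsLocalRing

namespace Groth.Agent.Helper9.CU5
open Groth.Agent.Helper9.CU3 Groth.Agent.Helper9.CU4

variable (A : Type u) [CommRing A] [IsNoetherianRing A] [IsLocalRing A]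
  (M : Type u) [AddCommGroup M] [Module A M] [Module.Finite A M]

theorem isBaseChange_of :
    IsBaseChange (EGA4.Cpl A) (AdicCompletion.of (maximalIdeal A) M) :=
  IsBaseChange.of_equiv
    (AdicCompletion.ofTensorProductEquivOfFiniteNoetherian (maximalIdeal A) M) (fun x => by simp)

/-- depth formula for the completion -/
theorem depth_cpl (p' : PrimeSpectrum (EGA4.Cpl A)) :
    LocCoh.depth (Localization.AtPrime p'.asIdeal)
        (LocalizedModule p'.asIdeal.primeCompl (AdicCompletion (maximalIdeal A) M)) =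
      LocCoh.depth (Localization.AtPrime (PrimeSpectrum.comap (algebraMap A (EGA4.Cpl A)) p').asIdeal)
        (LocalizedModule (PrimeSpectrum.comap (algebraMap A (EGA4.Cpl A)) p').asIdeal.primeCompl M) +
      LocCoh.depth (EGA4.FibLocRing A (EGA4.Cpl A) p'.asIdeal)
        (EGA4.FibLocRing A (EGA4.Cpl A) p'.asIdeal) := by
  haveI : Module.Flat A (EGA4.Cpl A) := AdicCompletion.flat_of_isNoetherian (maximalIdeal A)
  exact depth_loc_eq A (EGA4.Cpl A) p'.asIdeal (AdicCompletion.of (maximalIdeal A) M)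
    (isBaseChange_of A M)


/-- `s_{Â, IÂ}(M̂) ≤ s_{A,I}(M)` for `A` universally catenary. -/
theorem cutoff_cpl_le (hA : CAlg.IsUniversallyCatenary A) (I : Ideal A) :
    Dual2.cutoff (AdicCompletion (maximalIdeal A) A)
        (I.map (algebraMap A (AdicCompletion (maximalIdeal A) A)))
        (AdicCompletion (maximalIdeal A) M) ≤ Dual2.cutoff A I M := by
  haveI : Module.Flat A (EGA4.Cpl A) := AdicCompletion.flat_of_isNoetherian (maximalIdeal A)
  have hcatA : CAlg.IsCatenary A := isCatenary_of_uc hA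
  have hcatA' : CAlg.IsCatenary (EGA4.Cpl A) := isCatenary_cpl A
  unfold Dual2.cutoff
  refine le_iInf fun p => le_iInf fun q => le_iInf fun h => le_iInf fun hp => le_iInf fun hq => ?_
  -- a prime `q'` minimal over `q Â`
  have hqle : q.asIdeal.map (algebraMap A (EGA4.Cpl A)) ≤ maximalIdeal (EGA4.Cpl A) :=
    (Ideal.map_mono (IsLocalRing.le_maximalIdeal q.isPrime.ne_top)).trans
      (IsLocalRing.map_maximalIdeal_le (algebraMap A (EGA4.Cpl A)))
  obtain ⟨Q, hQmin, -⟩ := Ideal.exists_minimalPrimes_le hqle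
  have hQprime : Q.IsPrime := hQmin.1.1
  have hple : p.asIdeal.map (algebraMap A (EGA4.Cpl A)) ≤ Q :=
    (Ideal.map_mono ((PrimeSpectrum.asIdeal_le_asIdeal _ _).mpr h)).trans hQmin.1.2
  obtain ⟨P, hPmin, hPQ⟩ := Ideal.exists_minimalPrimes_le hple
  have hPprime : P.IsPrime := hPmin.1.1
  let q' : PrimeSpectrum (EGA4.Cpl A) := ⟨Q, hQprime⟩
  let p' : PrimeSpectrum (EGA4.Cpl A) := ⟨P, hPprime⟩
  have hqc : PrimeSpectrum.comap (algebraMap A (EGA4.Cpl A)) q' = q :=
    PrimeSpectrum.ext
      (Groth.Agent.Helper9.LF11.comap_eq_of_mem_minimalPrimes_map q.asIdeal Q hQmin)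
  have hpc : PrimeSpectrum.comap (algebraMap A (EGA4.Cpl A)) p' = p :=
    PrimeSpectrum.ext
      (Groth.Agent.Helper9.LF11.comap_eq_of_mem_minimalPrimes_map p.asIdeal P hPmin)
  have h' : p' ≤ q' := (PrimeSpectrum.asIdeal_le_asIdeal _ _).mp hPQ
  have hp2 : ¬ I.map (algebraMap A (EGA4.Cpl A)) ≤ p'.asIdeal := by
    intro hc
    apply hp
    rw [← hpc]
    exact Ideal.map_le_iff_le_comap.mp hc
  have hq2 : I.map (algebraMap A (EGA4.Cpl A)) ≤ q'.asIdeal :=
    (Ideal.map_mono hq).trans hQmin.1.2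
  refine (iInf_le_of_le p' (iInf_le_of_le q' (iInf_le_of_le h' (iInf_le_of_le hp2
    (iInf_le _ hq2))))).trans ?_
  -- heights agree
  have e1 := coheight_eq_add_height hcatA p q h
  have e2 := coheight_eq_add_height hcatA' p' q' h'
  have e3 : Order.coheight p' = Order.coheight p := coheight_min hA p p' hPmin
  have e4 : Order.coheight q' = Order.coheight q := coheight_min hA q q' hQmin
  have hht : Order.height (⟨q', h'⟩ : Set.Ici p') = Order.height (⟨q, h⟩ : Set.Ici p) := by
    rw [e3, e4, e1] at e2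
    exact (WithTop.add_left_cancel (Groth.Agent.Helper2.Caten.coheight_lt_top q).ne e2).symm
  rw [hht]
  refine add_le_add ?_ le_rfl
  -- depths agree
  have hd := depth_cpl A M p'
  have hz : LocCoh.depth (EGA4.FibLocRing A (EGA4.Cpl A) p'.asIdeal)
      (EGA4.FibLocRing A (EGA4.Cpl A) p'.asIdeal) = 0 := by
    apply depth_fib_eq_zero A (EGA4.Cpl A) p'.asIdeal
    have hcomap : p'.asIdeal.comap (algebraMap A (EGA4.Cpl A)) = p.asIdeal :=
      congrArg PrimeSpectrum.asIdeal hpc
    rw [hcomap]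
    exact hPmin
  rw [hz, add_zero] at hd
  rw [hd]
  subst hpc
  exact le_rfl

/-- `min(n + 1, s_{A,I}(M)) ≤ s_{Â, IÂ}(M̂)` when the formal fibres of `A` are `(S_n)`. -/
theorem le_cutoff_cpl (hA : CAlg.IsUniversallyCatenary A) (I : Ideal A) (n : ℕ)
    (hS : EGA4.HasSnFormalFibres n A) :
    min ((n : ℕ∞) + 1) (Dual2.cutoff A I M) ≤
      Dual2.cutoff (AdicCompletion (maximalIdeal A) A)
        (I.map (algebraMap A (AdicCompletion (maximalIdeal A) A)))
        (AdicCompletion (maximalIdeal A) M) := by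
  haveI : Module.Flat A (EGA4.Cpl A) := AdicCompletion.flat_of_isNoetherian (maximalIdeal A)
  have hcatA : CAlg.IsCatenary A := isCatenary_of_uc hA
  have hcatA' : CAlg.IsCatenary (EGA4.Cpl A) := isCatenary_cpl A
  refine le_iInf fun p' => le_iInf fun q' => le_iInf fun h' => le_iInf fun hp' =>
    le_iInf fun hq' => ?_
  set p := PrimeSpectrum.comap (algebraMap A (EGA4.Cpl A)) p' with hpdef
  set q := PrimeSpectrum.comap (algebraMap A (EGA4.Cpl A)) q' with hqdef
  have h : p ≤ q := (PrimeSpectrum.asIdeal_le_asIdeal _ _).mp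
    (Ideal.comap_mono ((PrimeSpectrum.asIdeal_le_asIdeal _ _).mpr h'))
  have hp : ¬ I ≤ p.asIdeal := fun hc => hp' (Ideal.map_le_iff_le_comap.mpr hc)
  have hq : I ≤ q.asIdeal := Ideal.map_le_iff_le_comap.mp hq'
  have hd := depth_cpl A M p'
  rw [hd]
  have hsn := sn_fibre A n hS p'.asIdeal
  set dF := LocCoh.depth (EGA4.FibLocRing A (EGA4.Cpl A) p'.asIdeal)
    (EGA4.FibLocRing A (EGA4.Cpl A) p'.asIdeal) with hdF
  set hF := (maximalIdeal (EGA4.FibLocRing A (EGA4.Cpl A) p'.asIdeal)).height with hhF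
  rcases min_le_iff.mp hsn with hcase | hcase
  · -- `n ≤ depth F`
    refine (min_le_left _ _).trans ?_
    have hne : p' ≠ q' := fun he => hp' (he ▸ hq')
    have hlt : (⟨p', le_refl p'⟩ : Set.Ici p') < ⟨q', h'⟩ :=
      lt_of_le_of_ne h' (fun he => hne (congrArg Subtype.val he))
    have h1 : (1 : ℕ∞) ≤ Order.height (⟨q', h'⟩ : Set.Ici p') := by
      have := Order.height_add_one_le hlt
      exact le_trans (by simp) this
    calc (n : ℕ∞) + 1 ≤ dF + Order.height (⟨q', h'⟩ : Set.Ici p') := add_le_add hcase h1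
      _ ≤ _ := by
        rw [add_assoc]
        exact le_add_self
  · -- `dim F ≤ depth F`
    refine (min_le_right _ _).trans ?_
    refine (iInf_le_of_le p (iInf_le_of_le q (iInf_le_of_le h (iInf_le_of_le hp
      (iInf_le _ hq))))).trans ?_
    rw [add_assoc]
    refine add_le_add le_rfl ?_
    refine le_trans ?_ (add_le_add hcase le_rfl)
    -- a minimal prime `p₀` of `p Â` inside `p'`
    have hple : p.asIdeal.map (algebraMap A (EGA4.Cpl A)) ≤ p'.asIdeal := Ideal.map_comap_le
    obtain ⟨P0, hP0min, hP0le⟩ := Ideal.exists_minimalPrimes_le hple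
    have hP0prime : P0.IsPrime := hP0min.1.1
    let p₀ : PrimeSpectrum (EGA4.Cpl A) := ⟨P0, hP0prime⟩
    have h0 : p₀ ≤ p' := (PrimeSpectrum.asIdeal_le_asIdeal _ _).mp hP0le
    have e1 := coheight_eq_add_height hcatA p q h
    have e2 : Order.coheight p₀ = Order.coheight p := coheight_min hA p p₀ hP0min
    have e3 := coheight_eq_add_height hcatA' p₀ p' h0
    have e4 := coheight_eq_add_height hcatA' p' q' h'
    have e5 : Order.coheight q' ≤ Order.coheight q := coheight_le q q' Ideal.map_comap_le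
    have e6 : Order.height (⟨p', h0⟩ : Set.Ici p₀) ≤ hF := by
      have hJ : (p'.asIdeal.comap (algebraMap A (EGA4.Cpl A))).map
          (algebraMap A (Localization.AtPrime p'.asIdeal)) ≤
          p₀.asIdeal.map (algebraMap (EGA4.Cpl A) (Localization.AtPrime p'.asIdeal)) := by
        rw [IsScalarTower.algebraMap_eq A (EGA4.Cpl A) (Localization.AtPrime p'.asIdeal),
          ← Ideal.map_map]
        exact Ideal.map_mono hP0min.1.2
      have h6 := height_le_dim p' p₀ h0 _ hJ
      have h7 : ringKrullDim (EGA4.FibLocRing A (EGA4.Cpl A) p'.asIdeal) = ((hF : ℕ∞) : WithBot ℕ∞) :=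
        (IsLocalRing.maximalIdeal_height_eq_ringKrullDim).symm
      change _ ≤ ringKrullDim (EGA4.FibLocRing A (EGA4.Cpl A) p'.asIdeal) at h6
      rw [h7] at h6
      exact_mod_cast h6
    have hfin : Order.coheight q ≠ ⊤ := (Groth.Agent.Helper2.Caten.coheight_lt_top q).ne
    have key : Order.coheight q + Order.height (⟨q, h⟩ : Set.Ici p) ≤
        Order.coheight q + (hF + Order.height (⟨q', h'⟩ : Set.Ici p')) := by
      rw [← e1, ← e2, e3, e4]
      calc Order.coheight q' + Order.height (⟨q', h'⟩ : Set.Ici p') +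
            Order.height (⟨p', h0⟩ : Set.Ici p₀)
          ≤ Order.coheight q + Order.height (⟨q', h'⟩ : Set.Ici p') + hF :=
            add_le_add (add_le_add e5 le_rfl) e6
        _ = _ := by rw [add_assoc, add_comm (Order.height _) hF]
    exact (WithTop.add_le_add_iff_left hfin).mp key

end Groth.Agent.Helper9.CU5
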