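import Mathlib
import Groth.Prelude.Def_DualLC
import Groth.Agent.Helper9.LCT3
import Groth.Agent.Helper9.LT3
import Groth.Agent.Helper6.Coext4
import Groth.Agent.Helper6.DFinExt
import Groth.Agent.Helper6.LD1
import Groth.Agent.Helper6.LD4
import Groth.Agent.Helper6.LcD6
import Groth.Agent.Helper3.DRingDev

/-!
# Finiteness of the `J`-torsion of the first non-finite cohomology module of an object whose
`Hom`s from `A/J` are finite
-/

set_option autoImplicit false
set_option linter.style.haveILetI false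
set_option linter.unusedSectionVars false
set_option linter.unusedVariables false

universe u
open CategoryTheory CategoryTheory.Limits DerivedCategory Pretriangulated
attribute [local instance] HasDerivedCategory.standard

namespace Groth.Agent.Helper9.CV1
open Groth.Agent.Helper3.DRingLib Groth.Agent.Helper6

variable {A : Type u} [CommRing A]

section Tors

/-- maps out of `A ⧸ J` are the `J`-torsion elements -/
noncomputable def quotHomTorsion (J : Ideal A) (N : Type u) [AddCommGroup N] [Module A N] :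
    ((A ⧸ J) →ₗ[A] N) ≃ₗ[A] LocCoh.torsionBy J N where
  toFun ψ := ⟨ψ (Submodule.Quotient.mk (1 : A)), by
    refine (Submodule.mem_torsionBySet_iff _ _).mpr ?_
    rintro ⟨a, ha⟩
    show a • ψ (Submodule.Quotient.mk (1 : A)) = 0
    rw [← map_smul, ← Submodule.Quotient.mk_smul, smul_eq_mul, mul_one,
      (Submodule.Quotient.mk_eq_zero J).mpr ha, map_zero]⟩
  map_add' _ _ := rfl
  map_smul' _ _ := rfl
  invFun w := Submodule.liftQ J (LinearMap.toSpanSingleton A N w.1) (fun a ha => by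
    rw [LinearMap.mem_ker, LinearMap.toSpanSingleton_apply]
    exact ((Submodule.mem_torsionBySet_iff _ _).mp w.2) ⟨a, ha⟩)
  left_inv ψ := by
    apply LinearMap.ext
    intro x
    obtain ⟨a, rfl⟩ := Submodule.Quotient.mk_surjective J x
    rw [Submodule.liftQ_apply, LinearMap.toSpanSingleton_apply]
    show a • ψ (Submodule.Quotient.mk (1 : A)) = _
    rw [← map_smul, ← Submodule.Quotient.mk_smul, smul_eq_mul, mul_one]
  right_inv w := by
    apply Subtype.ext
    show Submodule.liftQ J _ _ (Submodule.Quotient.mk (1 : A)) = w.1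
    rw [Submodule.liftQ_apply, LinearMap.toSpanSingleton_apply, one_smul]

/-- transport of the torsion submodule along a linear equivalence -/
lemma finite_torsionBy_of_equiv (J : Ideal A) {M N : Type u} [AddCommGroup M] [Module A M]
    [AddCommGroup N] [Module A N] (e : M ≃ₗ[A] N) (h : Module.Finite A (LocCoh.torsionBy J M)) :
    Module.Finite A (LocCoh.torsionBy J N) := by
  have hmap : (LocCoh.torsionBy J M).map e.toLinearMap = LocCoh.torsionBy J N := by
    ext y
    constructor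
    · rintro ⟨x, hx, rfl⟩
      have hx' := (Submodule.mem_torsionBySet_iff _ _).mp hx
      refine (Submodule.mem_torsionBySet_iff _ _).mpr fun a => ?_
      show (a : A) • e x = 0
      rw [← map_smul, hx' a, map_zero]
    · intro hy
      have hy' := (Submodule.mem_torsionBySet_iff _ _).mp hy
      refine ⟨e.symm y, ?_, by simp⟩
      refine (Submodule.mem_torsionBySet_iff _ _).mpr fun a => ?_
      rw [← map_smul, hy' a, map_zero]
  rw [← hmap]
  exact Module.Finite.equiv (e.submoduleMap (LocCoh.torsionBy J M))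

end Tors

section Bottom

/-- For `Z ∈ D^{≥ 0}`, maps `A/J → Z` are the `J`-torsion elements of `H^0(Z)`. -/
theorem nonempty_torsion_equiv (Z : Dual.D A) [Z.IsGE 0] (J : Ideal A) :
    Nonempty ((Dual.inD A (A ⧸ J) ⟶ Z) ≃ₗ[A] LocCoh.torsionBy J (Dual.HD A Z 0)) := by
  obtain ⟨X₀, Y₁, hX, hY, f, g, δ, hT⟩ := TStructure.t.exists_triangle Z 0 1 (by omega)
  haveI iX : X₀.IsLE 0 := ⟨hX⟩
  haveI iY : Y₁.IsGE 1 := ⟨hY⟩
  have iY' : (Triangle.mk f g δ).obj₃.IsGE (0 + 1) := iY
  have hiso : ∀ q : ℤ, q ≤ 0 →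
      IsIso ((homologyFunctor (ModuleCat.{u} A) q).map (Triangle.mk f g δ).mor₁) :=
    fun q hq => isIso_HD_mor₁ _ hT 0 q hq
  haveI iX' : X₀.IsGE 0 := by
    apply isGE_of_HD
    intro q hq
    have h1 := hiso q (by omega)
    have hsub : Subsingleton (Dual.HD A Z q) := subsingleton_HD_of_isGE Z 0 q hq
    exact @Equiv.subsingleton _ _ (@asIso _ _ _ _ _ h1).toLinearEquiv.toEquiv hsub
  have h0 := hiso 0 le_rfl
  let e0 : Dual.HD A X₀ 0 ≃ₗ[A] Dual.HD A Z 0 := (@asIso _ _ _ _ _ h0).toLinearEquiv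
  obtain ⟨eX⟩ := Groth.Agent.Helper6.LD.iso_inD_of_concentrated X₀ (Dual.HD A Z 0) e0
  -- composition with `f` is bijective on maps out of `A/J`
  set L := Dual.inD A (A ⧸ J) with hL
  haveI : L.IsLE 0 := by rw [hL]; infer_instance
  have hbij : Function.Bijective (Linear.rightComp A L f) := by
    constructor
    · rw [← LinearMap.ker_eq_bot, Submodule.eq_bot_iff]
      intro u hu
      have hu' : u ≫ f = 0 := hu
      have hinv := inv_rot_of_distTriang _ hT
      obtain ⟨v, hv⟩ := Triangle.coyoneda_exact₂ _ hinv u hu'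
      haveI : (Triangle.mk f g δ).invRotate.obj₁.IsGE 2 :=
        (TStructure.t.isGE_shift Y₁ 1 (-1) 2 (by omega) : (Y₁⟦(-1 : ℤ)⟧).IsGE 2)
      have hv0 : v = 0 := TStructure.t.zero v 0 2 (by omega)
      rw [hv, hv0, zero_comp]
      rfl
    · intro w
      have hw : w ≫ g = 0 := TStructure.t.zero (w ≫ g) 0 1 (by omega)
      obtain ⟨u, hu⟩ := Triangle.coyoneda_exact₂ _ hT w hw
      exact ⟨u, hu.symm⟩
  exact ⟨(LinearEquiv.ofBijective _ hbij).symm ≪≫ₗ Linear.homCongr A (Iso.refl L) eX ≪≫ₗ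
    (Groth.Agent.Helper6.LcD.inDHomEquiv (A ⧸ J) (Dual.HD A Z 0)).symm ≪≫ₗ
    quotHomTorsion J (Dual.HD A Z 0)⟩

end Bottom

section Trunc

variable [IsNoetherianRing A]

/-- Let `X` be bounded below with `H^q(X)` finite for `q < i`, and suppose all `Hom(A/J, X[n])`
are finite.  Then the `J`-torsion of `H^i(X)` is a finite module. -/
theorem finite_torsionBy (J : Ideal A) (X : Dual.D A) (c i : ℤ)
    (hXc : ∀ q : ℤ, q < c → Subsingleton (Dual.HD A X q))
    (hXfin : ∀ q : ℤ, q < i → Module.Finite A (Dual.HD A X q))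
    (hhom : ∀ n : ℤ, Module.Finite A (Dual.inD A (A ⧸ J) ⟶ X⟦n⟧)) :
    Module.Finite A (LocCoh.torsionBy J (Dual.HD A X i)) := by
  obtain ⟨τ, Y, hτ, hY, f, g, δ, hT⟩ := TStructure.t.exists_triangle X (i - 1) i (by omega)
  haveI iτ : τ.IsLE (i - 1) := ⟨hτ⟩
  haveI iY : Y.IsGE i := ⟨hY⟩
  have iY' : (Triangle.mk f g δ).obj₃.IsGE (i - 1 + 1) := by
    rw [show i - 1 + 1 = i by ring]
    exact iY
  have iτ' : (Triangle.mk f g δ).obj₁.IsLE (i - 1) := iτ
  -- the cohomology of `τ`
  have hτiso : ∀ q : ℤ, q ≤ i - 1 →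
      IsIso ((homologyFunctor (ModuleCat.{u} A) q).map (Triangle.mk f g δ).mor₁) :=
    fun q hq => isIso_HD_mor₁ _ hT (i - 1) q hq
  have hτfin : ∀ q : ℤ, Module.Finite A (Dual.HD A τ q) := by
    intro q
    by_cases hq : q ≤ i - 1
    · have h1 := hτiso q hq
      have h2 : Module.Finite A (Dual.HD A X q) := hXfin q (by omega)
      exact @Module.Finite.equiv A _ _ _ _ _ _ _ h2 (@asIso _ _ _ _ _ h1).toLinearEquiv.symm
    · haveI := subsingleton_HD_of_isLE τ (i - 1) q (by omega)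
      exact Module.Finite.of_surjective (0 : A →ₗ[A] _) (fun y => ⟨0, Subsingleton.elim _ _⟩)
  have hτc : ∀ q : ℤ, q < c → Subsingleton (Dual.HD A τ q) := by
    intro q hq
    by_cases hq' : q ≤ i - 1
    · have h1 := hτiso q hq'
      have h2 : Subsingleton (Dual.HD A X q) := hXc q hq
      exact @Equiv.subsingleton _ _ (@asIso _ _ _ _ _ h1).toLinearEquiv.toEquiv h2
    · exact subsingleton_HD_of_isLE τ (i - 1) q (by omega)
  -- `Hom(A/J, Y[i])` is finite
  have hrot := rot_of_distTriang _ hT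
  have hsh := Triangle.shift_distinguished _ hrot i
  have h1 : Module.Finite A (Dual.inD A (A ⧸ J) ⟶
      ((Triangle.shiftFunctor (Dual.D A) i).obj (Triangle.mk f g δ).rotate).obj₁) := hhom i
  have h3 : Module.Finite A (Dual.inD A (A ⧸ J) ⟶
      ((Triangle.shiftFunctor (Dual.D A) i).obj (Triangle.mk f g δ).rotate).obj₃) := by
    have h4 : Module.Finite A (Dual.inD A (A ⧸ J) ⟶ τ⟦(1 + i : ℤ)⟧) :=
      Groth.Agent.Helper6.Coext.finite_hom_single (A ⧸ J) τ c hτc hτfin (1 + i)
    exact Groth.Agent.Helper6.DFinExt.finite_of_iso_right ((shiftFunctorAdd' (Dual.D A) 1 i (1 + i) rfl).app τ) h4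
  have h2 : Module.Finite A (Dual.inD A (A ⧸ J) ⟶ Y⟦i⟧) :=
    Groth.Agent.Helper6.DFinExt.finite_obj₂_right _ hsh (Dual.inD A (A ⧸ J)) h1 h3
  -- identify the torsion
  haveI : (Y⟦i⟧).IsGE 0 := TStructure.t.isGE_shift Y i i 0 (by omega)
  obtain ⟨e⟩ := nonempty_torsion_equiv (Y⟦i⟧) J
  have h5 : Module.Finite A (LocCoh.torsionBy J (Dual.HD A (Y⟦i⟧) 0)) := Module.Finite.equiv e
  have hg := isIso_HD_mor₂ _ hT (i - 1) i (by omega)
  let e1 : Dual.HD A X i ≃ₗ[A] Dual.HD A Y i := (@asIso _ _ _ _ _ hg).toLinearEquiv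
  let e2 : Dual.HD A (Y⟦i⟧) 0 ≃ₗ[A] Dual.HD A Y i :=
    Groth.Agent.Helper6.Coext.hdShift Y i 0 i (by omega)
  exact finite_torsionBy_of_equiv J (e2 ≪≫ₗ e1.symm) h5

end Trunc

end Groth.Agent.Helper9.CV1
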