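import Mathlib
import Groth.Prelude.Def_DualLC
import Groth.Agent.Helper9.CV1
import Groth.Agent.Helper9.LF3
import Groth.Agent.Helper6.LcD10
import Groth.Agent.Helper6.LcD13
import Groth.Agent.Helper9.LT5

/-!
# Finiteness of the set of associated primes of the first non-finite local cohomology module
-/

set_option autoImplicit false
set_option linter.style.haveILetI false
set_option linter.unusedSectionVars false
set_option linter.unusedVariables false

universe u
open CategoryTheory CategoryTheory.Limits DerivedCategory Pretriangulated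
attribute [local instance] HasDerivedCategory.standard

namespace Groth.Agent.Helper9.CV2
open Groth.Agent.Helper3.DRingLib Groth.Agent.Helper6 Groth.Agent.Helper9.CV1
  Groth.Agent.Helper9.LCT2 Groth.Agent.Helper9.LT1 Groth.Agent.Helper9.LT2

variable {A : Type u} [CommRing A] [IsNoetherianRing A] (I : Ideal A)

section Eps
variable [DRing.HasRgammaI I]

/-- composition with `RΓ_I(K) ⟶ K` is bijective on maps out of objects with torsion cohomology -/
theorem comp_ε_bijective (L K : Dual.D A)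
    (hL : ∀ i : ℤ, LocCoh.IsPowerTorsion I (Dual.HD A L i)) :
    Function.Bijective (Linear.rightComp A L ((DRing.RgammaIε I).app K)) := by
  haveI : IsIso ((DRing.RgammaIε I).app L) := isIso_ε I L hL
  haveI := isIso_map_ε I K
  constructor
  · intro g g' hgg'
    have h1 : g ≫ (DRing.RgammaIε I).app K = g' ≫ (DRing.RgammaIε I).app K := hgg'
    have h2 : (DRing.RgammaI I).map g = (DRing.RgammaI I).map g' := by
      rw [← cancel_mono ((DRing.RgammaI I).map ((DRing.RgammaIε I).app K)), ← Functor.map_comp,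
        ← Functor.map_comp, h1]
    have h3 := (DRing.RgammaIε I).naturality g
    have h4 := (DRing.RgammaIε I).naturality g'
    rw [← cancel_epi ((DRing.RgammaIε I).app L)]
    exact h3.symm.trans ((congrArg (· ≫ _) h2).trans h4)
  · intro f
    refine ⟨inv ((DRing.RgammaIε I).app L) ≫ (DRing.RgammaI I).map f, ?_⟩
    have h3 : (DRing.RgammaI I).map f ≫ (DRing.RgammaIε I).app K =
        (DRing.RgammaIε I).app L ≫ f := (DRing.RgammaIε I).naturality f
    show (inv ((DRing.RgammaIε I).app L) ≫ (DRing.RgammaI I).map f) ≫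
      (DRing.RgammaIε I).app K = f
    rw [Category.assoc, h3]
    exact IsIso.inv_hom_id_assoc ((DRing.RgammaIε I).app L) f

/-- `Hom(N, RΓ_I(K)[n])` is finite for a finite module `N` killed by `I` -/
theorem finite_hom_RgammaI (N : Type u) [AddCommGroup N] [Module A N] [Module.Finite A N]
    (hN : ∀ x ∈ I, ∀ m : N, x • m = 0)
    (K : Dual.D A) (c : ℤ) (hKc : ∀ i : ℤ, i < c → Subsingleton (Dual.HD A K i))
    (hK : ∀ i : ℤ, Module.Finite A (Dual.HD A K i)) (n : ℤ) :
    Module.Finite A (Dual.inD A N ⟶ ((DRing.RgammaI I).obj K)⟦n⟧) := by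
  set L : Dual.D A := (Dual.inD A N)⟦-n⟧ with hLdef
  have hL : ∀ i : ℤ, LocCoh.IsPowerTorsion I (Dual.HD A L i) := by
    intro i
    have h1 := Groth.Agent.Helper9.LT3.isPowerTorsion_HD_inD I N hN (-n + i)
    let e := Groth.Agent.Helper6.Coext.hdShift (Dual.inD A N) (-n) i (-n + i) rfl
    intro x
    obtain ⟨k, hk⟩ := h1 (e x)
    refine ⟨k, fun a ha => e.injective ?_⟩
    rw [map_smul, hk a ha, map_zero]
  have h1 : Module.Finite A (Dual.inD A N ⟶ K⟦n⟧) :=
    Groth.Agent.Helper6.Coext.finite_hom_single N K c hKc hK n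
  let e1 := Groth.Agent.Helper6.LD.shiftHomEquiv' (Dual.inD A N) K (-n) n (by omega)
  let e2 := Groth.Agent.Helper6.LD.shiftHomEquiv' (Dual.inD A N) ((DRing.RgammaI I).obj K) (-n) n
    (by omega)
  let e3 := LinearEquiv.ofBijective _ (comp_ε_bijective I L K hL)
  exact Module.Finite.equiv (e1.symm ≪≫ₗ e3.symm ≪≫ₗ e2)

end Eps

section Main

/-- the cohomology modules of `RΓ_I(M[0])` are the local cohomology modules of `M` -/
theorem nonempty_hd_equiv [DRing.HasRgammaI I] (M : Type u) [AddCommGroup M] [Module A M]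
    (n : ℕ) :
    Nonempty (Dual.HD A ((DRing.RgammaI I).obj (Dual.inD A M)) (n : ℤ) ≃ₗ[A] LocCoh.H I n M) := by
  obtain ⟨e1⟩ := Groth.Agent.Helper6.LcD.hd_rgamma I (n : ℤ) (Dual.inD A M)
  obtain ⟨e2⟩ := Groth.Agent.Helper6.LcD.bridge I M n
  exact ⟨e1 ≪≫ₗ e2.symm⟩

theorem subsingleton_hd_neg [DRing.HasRgammaI I] (M : Type u) [AddCommGroup M] [Module A M]
    (q : ℤ) (hq : q < 0) :
    Subsingleton (Dual.HD A ((DRing.RgammaI I).obj (Dual.inD A M)) q) := by
  obtain ⟨e1⟩ := Groth.Agent.Helper6.LcD.hd_rgamma I q (Dual.inD A M)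
  let e2 := Groth.Agent.Helper9.LF3.cmpEquiv I (Dual.inD A M) q
  haveI : ((Dual.inD A M)⟦q⟧).IsGE (0 - q) :=
    DerivedCategory.TStructure.t.isGE_shift (Dual.inD A M) 0 q (0 - q) (by omega)
  haveI : ((Dual.inD A M)⟦q⟧).IsGE 1 :=
    DerivedCategory.TStructure.t.isGE_of_ge ((Dual.inD A M)⟦q⟧) 1 (0 - q) (by omega)
  haveI := subsingleton_of_isGE
    (T := PrimeSpectrum.zeroLocus ((I : Ideal A) : Set A)) ((Dual.inD A M)⟦q⟧)
  exact (e1 ≪≫ₗ e2).toEquiv.subsingleton

/-- local cohomology modules are power torsion -/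
theorem isPowerTorsion_H (M : Type u) [AddCommGroup M] [Module A M] (n : ℕ) :
    LocCoh.IsPowerTorsion I (LocCoh.H I n M) := by
  haveI : DRing.HasRgammaI I := hasRgammaI I
  obtain ⟨e⟩ := nonempty_hd_equiv I M n
  have h1 := isPowerTorsion_RgammaI I (Dual.inD A M) (n : ℤ)
  intro x
  obtain ⟨k, hk⟩ := h1 (e.symm x)
  refine ⟨k, fun a ha => e.symm.injective ?_⟩
  rw [map_smul, hk a ha, map_zero]

variable (M : Type u) [AddCommGroup M] [Module A M] [Module.Finite A M]

/-- If `H^j_I(M)` is finite for all `j < i`, then the `I`-torsion of `H^i_I(M)` is finite. -/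
theorem finite_torsionBy_H (i : ℕ) (h : ∀ j : ℕ, j < i → Module.Finite A (LocCoh.H I j M)) :
    Module.Finite A (LocCoh.torsionBy I (LocCoh.H I i M)) := by
  haveI : DRing.HasRgammaI I := hasRgammaI I
  set X := (DRing.RgammaI I).obj (Dual.inD A M) with hX
  have hXc : ∀ q : ℤ, q < 0 → Subsingleton (Dual.HD A X q) := fun q hq =>
    subsingleton_hd_neg I M q hq
  have hXfin : ∀ q : ℤ, q < (i : ℤ) → Module.Finite A (Dual.HD A X q) := by
    intro q hq
    by_cases h0 : q < 0
    · haveI := hXc q h0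
      exact Module.Finite.of_surjective (0 : A →ₗ[A] _) (fun y => ⟨0, Subsingleton.elim _ _⟩)
    · obtain ⟨k, rfl⟩ := Int.eq_ofNat_of_zero_le (by omega : 0 ≤ q)
      obtain ⟨e⟩ := nonempty_hd_equiv I M k
      haveI := h k (by omega)
      exact Module.Finite.equiv e.symm
  have hKc : ∀ q : ℤ, q < 0 → Subsingleton (Dual.HD A (Dual.inD A M) q) := fun q hq =>
    subsingleton_HD_of_isGE (Dual.inD A M) 0 q hq
  have hK : ∀ q : ℤ, Module.Finite A (Dual.HD A (Dual.inD A M) q) := fun q =>
    Groth.Agent.Helper9.LT5.finite_HD_inD M q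
  have hkill : ∀ x ∈ I, ∀ m : A ⧸ I, x • m = 0 := by
    intro x hx m
    obtain ⟨r, rfl⟩ := Submodule.Quotient.mk_surjective _ m
    rw [← Submodule.Quotient.mk_smul, Submodule.Quotient.mk_eq_zero]
    exact Ideal.mul_mem_right _ _ hx
  have hhom : ∀ n : ℤ, Module.Finite A (Dual.inD A (A ⧸ I) ⟶ X⟦n⟧) := fun n =>
    finite_hom_RgammaI I (A ⧸ I) hkill (Dual.inD A M) 0 hKc hK n
  have hfin := finite_torsionBy I X 0 (i : ℤ) hXc hXfin hhom
  obtain ⟨e⟩ := nonempty_hd_equiv I M i
  exact finite_torsionBy_of_equiv I e hfin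

/-- If `H^j_I(M)` is finite for all `j < i`, then `H^i_I(M)` has finitely many associated
primes. -/
theorem finite_associatedPrimes_H (i : ℕ)
    (h : ∀ j : ℕ, j < i → Module.Finite A (LocCoh.H I j M)) :
    (associatedPrimes A (LocCoh.H I i M)).Finite := by
  haveI := finite_torsionBy_H I M i h
  refine (associatedPrimes.finite A (LocCoh.torsionBy I (LocCoh.H I i M))).subset ?_
  intro P hP
  rw [AssociatedPrimes.mem_iff, isAssociatedPrime_iff_exists_injective_linearMap] at hP ⊢
  obtain ⟨hPp, f, hf⟩ := hP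
  refine ⟨hPp, ?_⟩
  have hIP : I ≤ P := by
    obtain ⟨k, hk⟩ := isPowerTorsion_H I M i (f (Submodule.Quotient.mk (1 : A)))
    have hle : I ^ k ≤ P := by
      intro a ha
      have h1 : f (Submodule.Quotient.mk a) = 0 := by
        have h2 := hk a ha
        rwa [← map_smul, ← Submodule.Quotient.mk_smul, smul_eq_mul, mul_one] at h2
      have h3 : (Submodule.Quotient.mk a : A ⧸ P) = 0 := hf (h1.trans (map_zero f).symm)
      exact (Submodule.Quotient.mk_eq_zero P).mp h3
    exact hPp.le_of_pow_le hle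
  have hmem : ∀ y : A ⧸ P, f y ∈ LocCoh.torsionBy I (LocCoh.H I i M) := by
    intro y
    refine (Submodule.mem_torsionBySet_iff _ _).mpr ?_
    rintro ⟨a, ha⟩
    show a • f y = 0
    obtain ⟨r, rfl⟩ := Submodule.Quotient.mk_surjective _ y
    rw [← map_smul, ← Submodule.Quotient.mk_smul, smul_eq_mul, (Submodule.Quotient.mk_eq_zero P).mpr
      (P.mul_mem_right r (hIP ha)), map_zero]
  refine ⟨f.codRestrict _ hmem, ?_⟩
  intro y y' hyy'
  apply hf
  exact congrArg Subtype.val hyy'

end Main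

end Groth.Agent.Helper9.CV2
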