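import Mathlib
import Groth.Prelude.Def_DualLC
import Groth.Agent.Helper9.CV2
import Groth.Agent.Helper9.LT8
import Groth.Agent.Helper9.LT9
import Groth.Agent.Helper1.FlatBC

/-!
# The local-global principle for finiteness of local cohomology
-/

set_option autoImplicit false
set_option linter.style.haveILetI false
set_option linter.unusedSectionVars false
set_option linter.unusedVariables false

universe u
open CategoryTheory CategoryTheory.Limits DerivedCategory Pretriangulated TensorProduct
attribute [local instance] HasDerivedCategory.standard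

namespace Groth.Agent.Helper9.CV3
open Groth.Agent.Helper9.CV2

variable {A : Type u} [CommRing A] [IsNoetherianRing A] (I : Ideal A)

/-- local cohomology with supports in `V(I)` is `H^n_I` -/
theorem nonempty_ht_equiv (M : Type u) [AddCommGroup M] [Module A M] (n : ℕ) :
    Nonempty (Dual2.HT (PrimeSpectrum.zeroLocus (I : Set A)) n M ≃ₗ[A] LocCoh.H I n M) := by
  obtain ⟨e1⟩ := Groth.Agent.Helper9.LT8.bridge (PrimeSpectrum.zeroLocus (I : Set A)) M n
  obtain ⟨e2⟩ := Groth.Agent.Helper6.LcD.bridge I M n
  let e3 := Groth.Agent.Helper9.LF3.cmpEquiv I (Dual.inD A M) (n : ℤ)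
  exact ⟨e1 ≪≫ₗ e3.symm ≪≫ₗ e2.symm⟩

omit [IsNoetherianRing A] in
/-- a finite power torsion module is killed by a power of the ideal -/
theorem exists_pow_kill (X : Type u) [AddCommGroup X] [Module A X] [Module.Finite A X]
    (hX : LocCoh.IsPowerTorsion I X) : ∃ n : ℕ, ∀ a ∈ I ^ n, ∀ x : X, a • x = 0 := by
  classical
  obtain ⟨s, hs⟩ := (Module.Finite.fg_top : (⊤ : Submodule A X).FG)
  choose k hk using hX
  refine ⟨s.sup k, fun a ha x => ?_⟩
  have hx : x ∈ Submodule.span A (s : Set X) := by rw [hs]; trivial
  induction hx using Submodule.span_induction with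
  | mem y hy => exact hk y a (Ideal.pow_le_pow_right (Finset.le_sup hy) ha)
  | zero => exact smul_zero a
  | add y z _ _ hy hz => rw [smul_add, hy, hz, add_zero]
  | smul r y _ hy => rw [smul_comm, hy, smul_zero]

variable (M : Type u) [AddCommGroup M] [Module A M] [Module.Finite A M]

/-- If for each `j ≤ i` some power of `I` kills `H^j_I(M)`, these modules are finite. -/
theorem finite_of_pow_kill (i : ℕ)
    (h : ∀ j : ℕ, j ≤ i → ∃ n : ℕ, ∀ a ∈ I ^ n, ∀ x : LocCoh.H I j M, a • x = 0) :
    ∀ j : ℕ, j ≤ i → Module.Finite A (LocCoh.H I j M) := by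
  classical
  have h' : ∀ j : ℕ, ∃ n : ℕ, j ≤ i → ∀ a ∈ I ^ n, ∀ x : LocCoh.H I j M, a • x = 0 := by
    intro j
    by_cases hj : j ≤ i
    · obtain ⟨n, hn⟩ := h j hj
      exact ⟨n, fun _ => hn⟩
    · exact ⟨0, fun hj' => absurd hj' hj⟩
  choose n hn using h'
  set N := (Finset.range (i + 1)).sup n with hN
  have hT : StableUnderSpecialization (PrimeSpectrum.zeroLocus (I : Set A)) :=
    (PrimeSpectrum.isClosed_zeroLocus _).stableUnderSpecialization
  have key := (Groth.Agent.Helper9.LT9.main_module (PrimeSpectrum.zeroLocus (I : Set A)) hT M i).2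
    ⟨I ^ N, ?_, ?_⟩
  · intro j hj
    obtain ⟨e⟩ := nonempty_ht_equiv I M j
    haveI := key j hj
    exact Module.Finite.equiv e
  · intro p hp
    rw [PrimeSpectrum.mem_zeroLocus] at hp ⊢
    intro a ha
    exact p.isPrime.mem_of_pow_mem N (hp (Ideal.pow_mem_pow ha N))
  · intro j hj a ha x
    obtain ⟨e⟩ := nonempty_ht_equiv I M j
    apply e.injective
    rw [map_smul, map_zero]
    have hle : n j ≤ N := Finset.le_sup (f := n) (Finset.mem_range.mpr (by omega))
    exact hn j hj a (Ideal.pow_le_pow_right hle ha) _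

section Loc

variable (P : Ideal A) [P.IsPrime]

/-- if the local cohomology of the localization at `P` is finite, a power of `I` kills
`H^i_I(M)` locally at `P` -/
theorem exists_pow_kill_loc (i : ℕ)
    (hfin : Module.Finite (Localization.AtPrime P)
      (LocCoh.H (I.map (algebraMap A (Localization.AtPrime P))) i
        (Localization.AtPrime P ⊗[A] M))) :
    ∃ n : ℕ, ∀ a ∈ I ^ n, ∀ x : LocCoh.H I i M, ∃ s : A, s ∉ P ∧ s • a • x = 0 := by
  haveI : IsNoetherianRing (Localization.AtPrime P) :=
    IsLocalization.isNoetherianRing P.primeCompl _ inferInstance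
  obtain ⟨e⟩ := Groth.Agent.Helper1.FlatBC.nonempty_linearEquiv (Localization.AtPrime P) I M i
  obtain ⟨n, hn⟩ := exists_pow_kill (I.map (algebraMap A (Localization.AtPrime P))) _
    (isPowerTorsion_H (I.map (algebraMap A (Localization.AtPrime P)))
      (Localization.AtPrime P ⊗[A] M) i)
  refine ⟨n, fun a ha x => ?_⟩
  have ha' : algebraMap A (Localization.AtPrime P) a ∈
      (I.map (algebraMap A (Localization.AtPrime P))) ^ n := by
    rw [← Ideal.map_pow]
    exact Ideal.mem_map_of_mem _ ha
  have h1 : (1 : Localization.AtPrime P) ⊗ₜ[A] (a • x) = 0 := by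
    apply e.injective
    rw [map_zero, TensorProduct.tmul_smul, ← algebraMap_smul (Localization.AtPrime P) a
      ((1 : Localization.AtPrime P) ⊗ₜ[A] x), map_smul]
    exact hn _ ha' _
  have h2 : TensorProduct.mk A (Localization.AtPrime P) (LocCoh.H I i M) 1 (a • x) = 0 := h1
  rw [IsLocalizedModule.eq_zero_iff P.primeCompl] at h2
  obtain ⟨s, hs⟩ := h2
  exact ⟨s.1, s.2, hs⟩

end Loc

/-- **Local-global principle for finiteness of local cohomology.** -/
theorem finite_of_locally_finite (t : ℕ)
    (hloc : ∀ (P : Ideal A) [P.IsPrime] (i : ℕ), i < t →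
      Module.Finite (Localization.AtPrime P)
        (LocCoh.H (I.map (algebraMap A (Localization.AtPrime P))) i
          (Localization.AtPrime P ⊗[A] M))) :
    ∀ i : ℕ, i < t → Module.Finite A (LocCoh.H I i M) := by
  classical
  intro i
  induction i using Nat.strong_induction_on with
  | _ i IH =>
    intro hi
    have hlow : ∀ j : ℕ, j < i → Module.Finite A (LocCoh.H I j M) := fun j hj =>
      IH j hj (by omega)
    have hass := finite_associatedPrimes_H I M i hlow
    -- uniform exponent at the associated primes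
    have hex : ∀ P : Ideal A, ∃ n : ℕ, P ∈ associatedPrimes A (LocCoh.H I i M) →
        ∀ a ∈ I ^ n, ∀ x : LocCoh.H I i M, ∃ s : A, s ∉ P ∧ s • a • x = 0 := by
      intro P
      by_cases hP : P ∈ associatedPrimes A (LocCoh.H I i M)
      · haveI : P.IsPrime := hP.isPrime
        obtain ⟨n, hn⟩ := exists_pow_kill_loc I M P i (hloc P i hi)
        exact ⟨n, fun _ => hn⟩
      · exact ⟨0, fun h => absurd h hP⟩
    choose n hn using hex
    set N := hass.toFinset.sup n with hN
    -- `I ^ N` kills `H^i_I(M)`
    have hkill : ∀ a ∈ I ^ N, ∀ x : LocCoh.H I i M, a • x = 0 := by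
      intro a ha x
      by_contra hne
      -- the cyclic submodule generated by `a • x` has an associated prime
      let W : Submodule A (LocCoh.H I i M) := Submodule.span A {a • x}
      haveI : Nontrivial W := by
        refine ⟨⟨⟨a • x, Submodule.mem_span_singleton_self _⟩, 0, fun h => hne ?_⟩⟩
        exact congrArg Subtype.val h
      obtain ⟨P, hP⟩ := associatedPrimes.nonempty A W
      have hP' : P ∈ associatedPrimes A (LocCoh.H I i M) :=
        associatedPrimes.subset_of_injective (f := W.subtype) W.injective_subtype hP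
      haveI : P.IsPrime := hP.isPrime
      rw [AssociatedPrimes.mem_iff, isAssociatedPrime_iff] at hP
      obtain ⟨-, ⟨y, hyW⟩, hy⟩ := hP
      obtain ⟨r, rfl⟩ := Submodule.mem_span_singleton.mp hyW
      have hle : n P ≤ N := Finset.le_sup (f := n) (hass.mem_toFinset.mpr hP')
      obtain ⟨s, hsP, hs⟩ := hn P hP' a (Ideal.pow_le_pow_right hle ha) x
      apply hsP
      rw [hy, Submodule.mem_colon_singleton, Submodule.mem_bot]
      apply Subtype.ext
      show s • r • a • x = 0
      rw [smul_comm s r, hs, smul_zero]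
    -- conclude
    have hall : ∀ j : ℕ, j ≤ i → ∃ n : ℕ, ∀ a ∈ I ^ n, ∀ x : LocCoh.H I j M, a • x = 0 := by
      intro j hj
      rcases Nat.lt_or_eq_of_le hj with hlt | rfl
      · haveI := hlow j hlt
        exact exists_pow_kill I _ (isPowerTorsion_H I M j)
      · exact ⟨N, hkill⟩
    exact finite_of_pow_kill I M i hall i le_rfl

end Groth.Agent.Helper9.CV3
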