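import Mathlib
import Groth.Prelude.Def_DualLC
import Groth.Prelude.Def_EGA4b
import Groth.Agent.Helper9.CV3
import Groth.Agent.Helper9.CU5
import Groth.Agent.Helper2.SnFib
import Groth.Agent.S1727
import Groth.Agent.S0376

/-!
# Finiteness of local cohomology below the cutoff: the case of a local ring
-/

set_option autoImplicit false
set_option linter.style.haveILetI false
set_option linter.unusedSectionVars false
set_option linter.unusedVariables false

universe u
open CategoryTheory IsLocalRing TensorProduct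

namespace Groth.Agent.Helper9.CV4
open Groth.Agent.Helper9.CV3 Groth.Agent.Helper9.CU4

variable (B : Type u) [CommRing B] [IsNoetherianRing B] [IsLocalRing B]

theorem hasSn_of_cm (hF : EGA4.HasCMFormalFibres B) (n : ℕ) : EGA4.HasSnFormalFibres n B := by
  intro p hp
  haveI := Groth.Agent.Helper2.RegBC.isNoetherianRing_fiber B (EGA4.Cpl B) p
  exact (Groth.Agent.Helper2.SnFib.isCohenMacaulayRing_iff _).mp (hF p) n

variable (J : Ideal B) (N : Type u) [AddCommGroup N] [Module B N] [Module.Finite B N]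

instance : Module.Finite (EGA4.Cpl B) (AdicCompletion (maximalIdeal B) N) :=
  Module.Finite.equiv (AdicCompletion.ofTensorProductEquivOfFiniteNoetherian (maximalIdeal B) N)

/-- finiteness over the completion -/
theorem finite_H_cpl (i : ℕ)
    (hi : (i : ℕ∞) < Dual2.cutoff (EGA4.Cpl B) (J.map (algebraMap B (EGA4.Cpl B)))
      (AdicCompletion (maximalIdeal B) N)) :
    Module.Finite (EGA4.Cpl B) (LocCoh.H (J.map (algebraMap B (EGA4.Cpl B))) i
      (AdicCompletion (maximalIdeal B) N)) := by
  haveI : IsAdicComplete (maximalIdeal (EGA4.Cpl B)) (EGA4.Cpl B) :=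
    AdicCompletion.isAdicComplete_of_fg (maximalIdeal B).fg_of_isNoetherianRing
  have hω := Groth.Agent.S0376.result (EGA4.Cpl B)
  set J' := J.map (algebraMap B (EGA4.Cpl B)) with hJ'
  have hT : StableUnderSpecialization (PrimeSpectrum.zeroLocus (J' : Set (EGA4.Cpl B))) :=
    (PrimeSpectrum.isClosed_zeroLocus _).stableUnderSpecialization
  have key := (Groth.Agent.S1727.result (EGA4.Cpl B) hω
    (PrimeSpectrum.zeroLocus (J' : Set (EGA4.Cpl B))) hT i
    (AdicCompletion (maximalIdeal B) N)).2 ?_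
  · obtain ⟨e⟩ := nonempty_ht_equiv J' (AdicCompletion (maximalIdeal B) N) i
    haveI := key i le_rfl
    exact Module.Finite.equiv e
  · intro p q hp hq hpq
    rw [Groth.Agent.Helper9.LF8.krullDim_Icc p q hpq]
    have hp' : ¬ J' ≤ p.asIdeal := fun hc => hp
      ((PrimeSpectrum.mem_zeroLocus _ _).mpr (SetLike.coe_subset_coe.mpr hc))
    have hq' : J' ≤ q.asIdeal := SetLike.coe_subset_coe.mp ((PrimeSpectrum.mem_zeroLocus _ _).mp hq)
    have hle : Dual2.cutoff (EGA4.Cpl B) J' (AdicCompletion (maximalIdeal B) N) ≤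
        LocCoh.depth (Localization.AtPrime p.asIdeal)
          (LocalizedModule p.asIdeal.primeCompl (AdicCompletion (maximalIdeal B) N)) +
        Order.height (⟨q, hpq⟩ : Set.Ici p) :=
      iInf_le_of_le p (iInf_le_of_le q (iInf_le_of_le hpq (iInf_le_of_le hp' (iInf_le _ hq'))))
    have h1 := lt_of_lt_of_le hi hle
    exact_mod_cast h1

/-- **the local case**: finiteness of `H^i_J(N)` below the cutoff over a universally catenary
local ring with Cohen–Macaulay formal fibres -/
theorem finite_H_local (hB : CAlg.IsUniversallyCatenary B) (hF : EGA4.HasCMFormalFibres B)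
    (i : ℕ) (hi : (i : ℕ∞) < Dual2.cutoff B J N) : Module.Finite B (LocCoh.H J i N) := by
  haveI : Module.Flat B (EGA4.Cpl B) := AdicCompletion.flat_of_isNoetherian (maximalIdeal B)
  haveI : Module.FaithfullyFlat B (EGA4.Cpl B) := Module.FaithfullyFlat.of_flat_of_isLocalHom
  have h1 := Groth.Agent.Helper9.CU5.le_cutoff_cpl B N hB J i (hasSn_of_cm B hF i)
  have h2 : (i : ℕ∞) < Dual2.cutoff (EGA4.Cpl B) (J.map (algebraMap B (EGA4.Cpl B)))
      (AdicCompletion (maximalIdeal B) N) := by
    refine lt_of_lt_of_le ?_ h1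
    rw [lt_min_iff]
    exact ⟨ENat.lt_add_one_iff (ENat.natCast_ne_top i) |>.mpr le_rfl, hi⟩
  have h3 := finite_H_cpl B J N i h2
  obtain ⟨e1⟩ := Groth.Agent.Helper1.FlatBC.nonempty_linearEquiv (EGA4.Cpl B) J N i
  let e2 : (EGA4.Cpl B) ⊗[B] N ≃ₗ[EGA4.Cpl B] AdicCompletion (maximalIdeal B) N :=
    AdicCompletion.ofTensorProductEquivOfFiniteNoetherian (maximalIdeal B) N
  let e3 := ((localCohomology (J.map (algebraMap B (EGA4.Cpl B))) i).mapIso
    e2.toModuleIso).toLinearEquiv
  haveI : Module.Finite (EGA4.Cpl B) ((EGA4.Cpl B) ⊗[B] LocCoh.H J i N) :=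
    Module.Finite.equiv (e1 ≪≫ₗ e3).symm
  exact Module.Finite.of_finite_tensorProduct_of_faithfullyFlat (EGA4.Cpl B)

end Groth.Agent.Helper9.CV4
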