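import Mathlib
import Groth.Prelude.Def_DualLC
import Groth.Prelude.Def_EGA4b
import Groth.Agent.Helper9.CV4
import Groth.Agent.Helper9.CU1
import Groth.Agent.Helper9.LF11
import Groth.Agent.S9126
import Groth.Agent.S11653
import Groth.Agent.Helper9.CU2

/-!
# The cutoff invariant of a localization, and finiteness of local cohomology below the cutoff
-/

set_option autoImplicit false
set_option linter.style.haveILetI false
set_option linter.unusedSectionVars false
set_option linter.unusedVariables false

universe u
open CategoryTheory IsLocalRing TensorProduct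

namespace Groth.Agent.Helper9.CV5
open Groth.Agent.Helper9.CV3 Groth.Agent.Helper9.CV4

section Order

variable {α β : Type*} [PartialOrder α] [PartialOrder β]

/-- heights in `Set.Ici x` are preserved by an order isomorphism onto a lower interval -/
theorem height_Ici_eq (b₀ : β) (φ : α ≃o Set.Iic b₀) (x y : α) (h : x ≤ y) :
    Order.height (⟨y, h⟩ : Set.Ici x) =
      Order.height (⟨(φ y).1, φ.monotone h⟩ : Set.Ici (φ x).1) := by
  have key : Order.krullDim (Set.Iic (⟨y, h⟩ : Set.Ici x)) =
      Order.krullDim (Set.Iic (⟨(φ y).1, φ.monotone h⟩ : Set.Ici (φ x).1)) := by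
    apply Order.krullDim_eq_of_orderIso
    exact
      { toFun := fun z => ⟨⟨(φ z.1.1).1, φ.monotone z.1.2⟩, φ.monotone z.2⟩
        invFun := fun w => ⟨⟨φ.symm ⟨w.1.1, le_trans w.2 (φ y).2⟩, by
            show x ≤ φ.symm ⟨w.1.1, le_trans w.2 (φ y).2⟩
            rw [← φ.le_iff_le, φ.apply_symm_apply]
            exact w.1.2⟩, by
            show φ.symm ⟨w.1.1, le_trans w.2 (φ y).2⟩ ≤ y
            rw [← φ.le_iff_le, φ.apply_symm_apply]
            exact w.2⟩
        left_inv := fun z => by
          apply Subtype.ext
          apply Subtype.ext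
          show φ.symm ⟨(φ z.1.1).1, _⟩ = z.1.1
          exact φ.symm_apply_apply z.1.1
        right_inv := fun w => by
          apply Subtype.ext
          apply Subtype.ext
          show (φ (φ.symm ⟨w.1.1, _⟩)).1 = w.1.1
          rw [φ.apply_symm_apply]
        map_rel_iff' := by
          intro z z'
          show (φ z.1.1).1 ≤ (φ z'.1.1).1 ↔ z.1.1 ≤ z'.1.1
          exact φ.le_iff_le }
  rw [← Order.height_eq_krullDim_Iic, ← Order.height_eq_krullDim_Iic] at key
  exact_mod_cast key

end Order

section Loc

variable {A : Type u} [CommRing A] [IsNoetherianRing A] (I : Ideal A)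
  (M : Type u) [AddCommGroup M] [Module A M] [Module.Finite A M] (P : Ideal A) [hP : P.IsPrime]

/-- depth of the localization of `A_P ⊗ M` at a prime of `A_P` -/
theorem depth_tensor_localization (p' : Ideal (Localization.AtPrime P)) [p'.IsPrime] :
    LocCoh.depth (Localization.AtPrime p')
        (LocalizedModule p'.primeCompl (Localization.AtPrime P ⊗[A] M)) =
      LocCoh.depth (Localization.AtPrime (p'.comap (algebraMap A (Localization.AtPrime P))))
        (LocalizedModule (p'.comap (algebraMap A (Localization.AtPrime P))).primeCompl M) := by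
  rw [← Groth.Agent.Helper9.CU1.depth_localization_localization P.primeCompl M p']
  let e : (Localization.AtPrime P ⊗[A] M) ≃ₗ[Localization.AtPrime P]
      LocalizedModule P.primeCompl M := (LocalizedModule.equivTensorProduct P.primeCompl M).symm
  let e' := IsLocalizedModule.mapEquiv p'.primeCompl
    (LocalizedModule.mkLinearMap p'.primeCompl (Localization.AtPrime P ⊗[A] M))
    (LocalizedModule.mkLinearMap p'.primeCompl (LocalizedModule P.primeCompl M))
    (Localization.AtPrime p') e
  exact Groth.Agent.Helper9.LF11.depth_congr e'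

/-- the cutoff does not decrease under localization at a prime -/
theorem cutoff_le_localization :
    Dual2.cutoff A I M ≤ Dual2.cutoff (Localization.AtPrime P)
      (I.map (algebraMap A (Localization.AtPrime P))) (Localization.AtPrime P ⊗[A] M) := by
  unfold Dual2.cutoff
  refine le_iInf fun p' => le_iInf fun q' => le_iInf fun h' => le_iInf fun hp' =>
    le_iInf fun hq' => ?_
  let φ := IsLocalization.AtPrime.primeSpectrumOrderIso (Localization.AtPrime P) P
  set p : PrimeSpectrum A := (φ p').1 with hpdef
  set q : PrimeSpectrum A := (φ q').1 with hqdef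
  have h : p ≤ q := φ.monotone h'
  have hpI : p.asIdeal = p'.asIdeal.comap (algebraMap A (Localization.AtPrime P)) := rfl
  have hqI : q.asIdeal = q'.asIdeal.comap (algebraMap A (Localization.AtPrime P)) := rfl
  have hp : ¬ I ≤ p.asIdeal := fun hc => hp' (Ideal.map_le_iff_le_comap.mpr (hpI ▸ hc))
  have hq : I ≤ q.asIdeal := by
    rw [hqI]
    exact Ideal.map_le_iff_le_comap.mp hq'
  refine (iInf_le_of_le p (iInf_le_of_le q (iInf_le_of_le h (iInf_le_of_le hp
    (iInf_le _ hq))))).trans ?_
  rw [height_Ici_eq _ φ p' q' h', depth_tensor_localization M P p'.asIdeal]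
  exact le_rfl

end Loc

section Main

variable {A : Type u} [CommRing A] [IsNoetherianRing A] (I : Ideal A)
  (M : Type u) [AddCommGroup M] [Module A M] [Module.Finite A M]

/-- **Finiteness below the cutoff.** -/
theorem finite_H_of_lt_cutoff (hA : CAlg.IsUniversallyCatenary A)
    (hF : ∀ q : PrimeSpectrum A, EGA4.HasCMFormalFibres (Localization.AtPrime q.asIdeal))
    (i : ℕ) (hi : (i : ℕ∞) < Dual2.cutoff A I M) : Module.Finite A (LocCoh.H I i M) := by
  refine finite_of_locally_finite I M (i + 1) ?_ i (by omega)
  intro P hP j hj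
  haveI : IsNoetherianRing (Localization.AtPrime P) :=
    IsLocalization.isNoetherianRing P.primeCompl _ inferInstance
  have hB : CAlg.IsUniversallyCatenary (Localization.AtPrime P) :=
    Groth.Agent.S9126.result A (Localization.AtPrime P) hA
  refine finite_H_local (Localization.AtPrime P) _ _ hB (hF ⟨P, hP⟩) j ?_
  refine lt_of_lt_of_le (lt_of_le_of_lt ?_ hi) (cutoff_le_localization I M P)
  exact_mod_cast (by omega : j ≤ i)

end Main

section NotFinite

variable {A : Type u} [CommRing A] [IsNoetherianRing A] (I : Ideal A)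
  (M : Type u) [AddCommGroup M] [Module A M] [Module.Finite A M]

/-- the minimum adjusted depth is bounded by the cutoff -/
theorem minAdjDepth_le_cutoff : LocCoh.minAdjDepth I I M ≤ Dual2.cutoff A I M := by
  unfold Dual2.cutoff
  refine le_iInf fun p => le_iInf fun q => le_iInf fun h => le_iInf fun hp => le_iInf fun hq => ?_
  unfold LocCoh.minAdjDepth
  refine (iInf_le_of_le p (iInf_le _ hp)).trans ?_
  unfold LocCoh.adjDepth
  refine add_le_add le_rfl ?_
  rw [← Groth.Agent.Helper9.CU2.height_map_mk p q h]
  refine Ideal.height_mono (Ideal.map_mono ?_)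
  exact sup_le hq ((PrimeSpectrum.asIdeal_le_asIdeal _ _).mpr h)

/-- **Non-finiteness at the cutoff.** -/
theorem not_finite_H_cutoff (hA : CAlg.IsUniversallyCatenary A)
    (hF : ∀ q : PrimeSpectrum A, EGA4.HasCMFormalFibres (Localization.AtPrime q.asIdeal))
    (s : ℕ) (hs : Dual2.cutoff A I M = s) : ¬ Module.Finite A (LocCoh.H I s M) := by
  intro hfin
  have hall : ∀ i : ℕ, i ≤ s → Module.Finite A (LocCoh.H I i M) := by
    intro i hi
    rcases Nat.lt_or_eq_of_le hi with hlt | rfl
    · refine finite_H_of_lt_cutoff I M hA hF i ?_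
      rw [hs]
      exact_mod_cast hlt
    · exact hfin
  have hrad : ∀ i : ℕ, i ≤ s → I ≤ (Module.annihilator A (LocCoh.H I i M)).radical := by
    intro i hi a ha
    haveI := hall i hi
    obtain ⟨n, hn⟩ := exists_pow_kill I _ (Groth.Agent.Helper9.CV2.isPowerTorsion_H I M i)
    refine ⟨n, ?_⟩
    rw [Module.mem_annihilator]
    exact fun x => hn _ (Ideal.pow_mem_pow ha n) x
  have h1 : ((s : ℕ) : ℕ∞) + 1 ≤ LocCoh.finDimRel I I M := by
    unfold LocCoh.finDimRel
    refine le_iInf₂ fun i hi => ?_
    by_contra hlt
    apply hi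
    apply hrad i
    have h2 : (i : ℕ∞) < (s : ℕ∞) + 1 := not_le.mp hlt
    have h3 : i < s + 1 := by exact_mod_cast h2
    omega
  have h2 := Groth.Agent.S11653.result A I I M
  have h3 := minAdjDepth_le_cutoff I M
  rw [hs] at h3
  have h4 : ((s : ℕ) : ℕ∞) + 1 ≤ s := h1.trans (h2.trans h3)
  have h5 : s + 1 ≤ s := by exact_mod_cast h4
  omega

end NotFinite

end Groth.Agent.Helper9.CV5
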