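import Mathlib
import Groth.Prelude.Def_DualLC
import Groth.Agent.Helper9.LT8

/-!
# Elementwise access to Mathlib's `localCohomology.ofDiagram`; the maps `H^i_J ⟶ H^i_T`
-/

set_option autoImplicit false
set_option linter.style.haveILetI false
set_option linter.unusedSectionVars false
set_option linter.unusedVariables false

universe u v
open CategoryTheory CategoryTheory.Limits Opposite localCohomology

namespace Groth.Agent.Helper9.CW1

section general

variable {A : Type (max u v)} [CommRing A] {D : Type v} [SmallCategory D] (I : D ⥤ Ideal A) (i : ℕ)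

/-- the legs of the colimit defining `ofDiagram I i`, evaluated at a module -/
noncomputable def leg (N : ModuleCat.{max u v} A) (d : D) :
    (((diagram I i).obj (op d)).obj N) →ₗ[A] ((ofDiagram.{u, v} I i).obj N) :=
  ((colimit.ι (diagram I i) (op d)).app N).hom

lemma leg_w (N : ModuleCat.{max u v} A) {d d' : D} (f : d ⟶ d')
    (y : ((diagram I i).obj (op d')).obj N) :
    leg I i N d ((((diagram I i).map f.op).app N).hom y) = leg I i N d' y := by
  have h1 := colimit.w (diagram I i) f.op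
  exact congrArg (fun t => (t.app N).hom y) h1

lemma leg_nat {N N' : ModuleCat.{max u v} A} (g : N ⟶ N') (d : D)
    (y : ((diagram I i).obj (op d)).obj N) :
    ((ofDiagram.{u, v} I i).map g).hom (leg I i N d y) =
      leg I i N' d ((((diagram I i).obj (op d)).map g).hom y) := by
  have h1 := (colimit.ι (diagram I i) (op d)).naturality g
  exact (congrArg (fun t => t.hom y) h1).symm

variable [IsFiltered Dᵒᵖ] [PreservesColimitsOfShape Dᵒᵖ (forget (ModuleCat.{max u v} A))]

lemma exists_leg (N : ModuleCat.{max u v} A) (ξ : (ofDiagram.{u, v} I i).obj N) :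
    ∃ (d : D) (y : ((diagram I i).obj (op d)).obj N), leg I i N d y = ξ := by
  have hc := isColimitOfPreserves (forget (ModuleCat.{max u v} A))
    (isColimitOfPreserves ((evaluation _ _).obj N) (colimit.isColimit (diagram I i)))
  obtain ⟨j, y, hy⟩ := Types.jointly_surjective_of_isColimit hc ξ
  exact ⟨j.unop, y, hy⟩

lemma leg_eq_zero (N : ModuleCat.{max u v} A) (d : D) (y : ((diagram I i).obj (op d)).obj N)
    (hy : leg I i N d y = 0) :
    ∃ (d' : D) (f : d' ⟶ d), (((diagram I i).map f.op).app N).hom y = 0 := by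
  have hc := isColimitOfPreserves (forget (ModuleCat.{max u v} A))
    (isColimitOfPreserves ((evaluation _ _).obj N) (colimit.isColimit (diagram I i)))
  have h0 : leg I i N d y = leg I i N d 0 := by rw [hy, map_zero]
  obtain ⟨j, f, g, hfg⟩ := (Types.FilteredColimit.isColimit_eq_iff _ hc
    (i := op d) (j := op d) (xi := y)
    (xj := (0 : ((diagram I i).obj (op d)).obj N))).1 h0
  refine ⟨j.unop, f.unop, ?_⟩
  have h2 : (((diagram I i).map f).app N).hom y = (((diagram I i).map g).app N).hom 0 := hfg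
  rw [map_zero] at h2
  exact h2

end general


section T

variable {A : Type u} [CommRing A] (T : Set (PrimeSpectrum A))

/-- local cohomology with supports in `T`, as a functor -/
noncomputable abbrev HTf (i : ℕ) : ModuleCat.{u} A ⥤ ModuleCat.{u} A :=
  localCohomology.ofDiagram.{u, u} (Dual2.idealsInDiagram T) i

lemma zeroLocus_pow_subset {J : Ideal A} (hJ : PrimeSpectrum.zeroLocus (J : Set A) ⊆ T) (k : ℕ) :
    PrimeSpectrum.zeroLocus ((J ^ k : Ideal A) : Set A) ⊆ T := by
  rcases Nat.eq_zero_or_pos k with rfl | hk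
  · simp
  · rw [PrimeSpectrum.zeroLocus_pow _ hk.ne']
    exact hJ

/-- the powers of `J` as a diagram in `IdealsIn T` -/
def pw (J : Ideal A) (hJ : PrimeSpectrum.zeroLocus (J : Set A) ⊆ T) : ℕᵒᵖ ⥤ Dual2.IdealsIn T :=
  ObjectProperty.lift _ (idealPowersDiagram J) (fun k => zeroLocus_pow_subset T hJ (unop k))

/-- the cocone defining `toT` -/
noncomputable def toTCocone (J : Ideal A) (hJ : PrimeSpectrum.zeroLocus (J : Set A) ⊆ T) (i : ℕ) :
    Cocone (diagram (idealPowersDiagram J) i) where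
  pt := HTf T i
  ι :=
    { app := fun k => colimit.ι (diagram (Dual2.idealsInDiagram T) i) (op ((pw T J hJ).obj k.unop))
      naturality := fun k l f =>
        (colimit.w (diagram (Dual2.idealsInDiagram T) i) ((pw T J hJ).map f.unop).op).trans
          (Category.comp_id _).symm }

/-- the canonical map `H^i_J ⟶ H^i_T` for `V(J) ⊆ T` -/
noncomputable def toT (J : Ideal A) (hJ : PrimeSpectrum.zeroLocus (J : Set A) ⊆ T) (i : ℕ) :
    localCohomology J i ⟶ HTf T i :=
  colimit.desc (diagram (idealPowersDiagram J) i) (toTCocone T J hJ i)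

instance : PreservesColimitsOfShape (ℕᵒᵖ)ᵒᵖ (forget (ModuleCat.{u} A)) := by
  haveI : PreservesFilteredColimitsOfSize.{0, 0} (forget (ModuleCat.{u} A)) :=
    preservesFilteredColimitsOfSize_shrink.{0, u, 0, u} _
  exact PreservesFilteredColimitsOfSize.preserves_filtered_colimits _

/-- `Ext^i(A/J, N)` (Mathlib's old `Ext`) -/
noncomputable abbrev E (J : Ideal A) (i : ℕ) (N : ModuleCat.{u} A) : ModuleCat.{u} A :=
  ((Ext A (ModuleCat.{u} A) i).obj (op (ModuleCat.of A (A ⧸ J)))).obj N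

/-- the transition maps `Ext^i(A/J₂, N) → Ext^i(A/J₁, N)` for `J₁ ≤ J₂` -/
noncomputable def tr {J₁ J₂ : Ideal A} (h : J₁ ≤ J₂) (i : ℕ) (N : ModuleCat.{u} A) :
    E J₂ i N →ₗ[A] E J₁ i N :=
  (((Ext A (ModuleCat.{u} A) i).map
    (ModuleCat.ofHom (Submodule.mapQ J₁ J₂ LinearMap.id h)).op).app N).hom

lemma tr_tr {J₁ J₂ J₃ : Ideal A} (h : J₁ ≤ J₂) (h' : J₂ ≤ J₃) (i : ℕ) (N : ModuleCat.{u} A)
    (y : E J₃ i N) : tr h i N (tr h' i N y) = tr (h.trans h') i N y := by
  have e : (ModuleCat.ofHom (Submodule.mapQ J₁ J₃ LinearMap.id (h.trans h'))) =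
      ModuleCat.ofHom (Submodule.mapQ J₁ J₂ LinearMap.id h) ≫
        ModuleCat.ofHom (Submodule.mapQ J₂ J₃ LinearMap.id h') := by
    ext
    rfl
  unfold tr
  rw [e, op_comp, Functor.map_comp]
  rfl

lemma tr_nat {J₁ J₂ : Ideal A} (h : J₁ ≤ J₂) (i : ℕ) {N N' : ModuleCat.{u} A} (g : N ⟶ N')
    (y : E J₂ i N) :
    tr h i N' ((((Ext A (ModuleCat.{u} A) i).obj (op (ModuleCat.of A (A ⧸ J₂)))).map g).hom y) =
      (((Ext A (ModuleCat.{u} A) i).obj (op (ModuleCat.of A (A ⧸ J₁)))).map g).hom (tr h i N y) := by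
  have h1 := ((Ext A (ModuleCat.{u} A) i).map
    (ModuleCat.ofHom (Submodule.mapQ J₁ J₂ LinearMap.id h)).op).naturality g
  exact congrArg (fun t => t.hom y) h1

variable (J : Ideal A) (hJ : PrimeSpectrum.zeroLocus (J : Set A) ⊆ T) (i : ℕ) (N : ModuleCat.{u} A)

/-- legs of `H^i_T` -/
noncomputable def legT (a : LT1.Idx T) : E a.J i N →ₗ[A] (HTf T i).obj N :=
  leg.{u, u} (Dual2.idealsInDiagram T) i N ⟨a.J, a.h⟩

/-- legs of `H^i_J` -/
noncomputable def legJ (k : ℕ) : E (J ^ k) i N →ₗ[A] (localCohomology J i).obj N :=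
  leg.{u, 0} (idealPowersDiagram J) i N (op k)

lemma legT_tr (a b : LT1.Idx T) (h : b.J ≤ a.J) (y : E a.J i N) :
    legT T i N b (tr h i N y) = legT T i N a y :=
  leg_w.{u, u} (Dual2.idealsInDiagram T) i N
    (ObjectProperty.homMk (homOfLE h) : (⟨b.J, b.h⟩ : Dual2.IdealsIn T) ⟶ ⟨a.J, a.h⟩) y

lemma legJ_tr (k l : ℕ) (h : k ≤ l) (y : E (J ^ k) i N) :
    legJ J i N l (tr (Ideal.pow_le_pow_right h) i N y) = legJ J i N k y :=
  leg_w.{u, 0} (idealPowersDiagram J) i N (homOfLE h).op y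

lemma toT_leg (k : ℕ) (y : E (J ^ k) i N) :
    ((toT T J hJ i).app N).hom (legJ J i N k y) =
      legT T i N ⟨J ^ k, zeroLocus_pow_subset T hJ k⟩ y := by
  have h1 := colimit.ι_desc (toTCocone T J hJ i) (op (op k))
  exact congrArg (fun t => (t.app N).hom y) h1

lemma hmap_leg {J J' : Ideal A} (h : J ≤ J') (k : ℕ) (y : E (J' ^ k) i N) :
    ((Dual2.HmapOfLE h i).app N).hom (legJ J' i N k y) =
      legJ J i N k (tr (Ideal.pow_right_mono h k) i N y) := by
  have h1 := ι_colimMap (Functor.whiskerRight (NatTrans.op (Dual2.quotMapOfLE h))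
    (Ext A (ModuleCat.{u} A) i)) (op (op k))
  exact congrArg (fun t => (t.app N).hom y) h1

lemma exists_rep_T (ξ : (HTf T i).obj N) :
    ∃ (J : Ideal A) (hJ : PrimeSpectrum.zeroLocus (J : Set A) ⊆ T)
      (ζ : (localCohomology J i).obj N), ((toT T J hJ i).app N).hom ζ = ξ := by
  obtain ⟨d, y, rfl⟩ := exists_leg.{u, u} (Dual2.idealsInDiagram T) i N ξ
  have h1 : d.obj ^ 1 ≤ d.obj := (pow_one d.obj).le
  refine ⟨d.obj, d.property, legJ d.obj i N 1 (tr h1 i N y), ?_⟩
  rw [toT_leg]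
  exact legT_tr T i N ⟨d.obj, d.property⟩ ⟨d.obj ^ 1, _⟩ h1 y

lemma exists_rep_J (ζ : (localCohomology J i).obj N) :
    ∃ (k : ℕ) (y : E (J ^ k) i N), legJ J i N k y = ζ := by
  obtain ⟨d, y, rfl⟩ := exists_leg.{u, 0} (idealPowersDiagram J) i N ζ
  exact ⟨d.unop, y, rfl⟩

end T

end Groth.Agent.Helper9.CW1
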