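import Mathlib
import Groth.Agent.Helper1.FlatBC

/-!
# Vanishing of `H^i_{pA_p}(φ_p)` kills `H^i_J(φ)` locally at `p` (for `J` primary to `p` at `p`)
-/

set_option autoImplicit false
set_option linter.style.haveILetI false
set_option linter.unusedSectionVars false
set_option linter.unusedVariables false

universe u
open CategoryTheory CategoryTheory.Limits Opposite TensorProduct
open Groth.Agent.Helper1.FlatBC

namespace Groth.Agent.Helper9.CW2

variable {A : Type u} [CommRing A]

section tau

variable (S : Submonoid A)

/-- the comparison `S⁻¹A ⊗ N ≅ S⁻¹N` -/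
noncomputable def τ (N : ModuleCat.{u} A) :
    (BC (Localization S)).obj N ≅ ModuleCat.of (Localization S) (LocalizedModule S N) :=
  (LocalizedModule.equivTensorProduct S N).symm.toModuleIso

lemma τ_nat {N' N : ModuleCat.{u} A} (φ : N' ⟶ N) :
    (τ S N').inv ≫ (BC (Localization S)).map φ =
      ModuleCat.ofHom (LocalizedModule.map S φ.hom) ≫ (τ S N).inv := by
  ext x
  induction x using LocalizedModule.induction_on with
  | h x s =>
    show LinearMap.lTensor (Localization S) φ.hom (LocalizedModule.equivTensorProduct S N' (LocalizedModule.mk x s)) =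
      LocalizedModule.equivTensorProduct S N (LocalizedModule.map S φ.hom (LocalizedModule.mk x s))
    rw [LocalizedModule.map_mk, LocalizedModule.equivTensorProduct_apply_mk,
      LocalizedModule.equivTensorProduct_apply_mk, LinearMap.lTensor_tmul]

lemma BC_map_eq {N' N : ModuleCat.{u} A} (φ : N' ⟶ N) :
    (BC (Localization S)).map φ =
      (τ S N').hom ≫ ModuleCat.ofHom (LocalizedModule.map S φ.hom) ≫ (τ S N).inv := by
  rw [← τ_nat, Iso.hom_inv_id_assoc]

end tau

variable [IsNoetherianRing A]

theorem bc_map_eq_zero (p : Ideal A) [p.IsPrime] (J : Ideal A)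
    (hJ : (J.map (algebraMap A (Localization.AtPrime p))).radical =
      (IsLocalRing.maximalIdeal (Localization.AtPrime p)).radical) (i : ℕ)
    {N' N : ModuleCat.{u} A} (φ : N' ⟶ N)
    (h0 : (localCohomology (IsLocalRing.maximalIdeal (Localization.AtPrime p)) i).map
        (ModuleCat.ofHom (LocalizedModule.map p.primeCompl φ.hom)) = 0) :
    (BC (Localization.AtPrime p)).map ((localCohomology J i).map φ) = 0 := by
  let e := bcIso (Localization.AtPrime p) J i
  let r := localCohomology.isoOfSameRadical hJ i
  have h1 := e.hom.naturality φ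
  have h2 : (BC (Localization.AtPrime p)).map ((localCohomology J i).map φ) =
      e.hom.app N' ≫ (localCohomology (J.map (algebraMap A (Localization.AtPrime p))) i).map
        ((BC (Localization.AtPrime p)).map φ) ≫ e.inv.app N := by
    have h3 : (BC (Localization.AtPrime p)).map ((localCohomology J i).map φ) ≫ e.hom.app N =
      e.hom.app N' ≫ (localCohomology (J.map (algebraMap A (Localization.AtPrime p))) i).map
        ((BC (Localization.AtPrime p)).map φ) := h1
    rw [← reassoc_of% h3, ← NatTrans.comp_app, Iso.hom_inv_id, NatTrans.id_app]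
    exact (Category.comp_id _).symm
  have h4 : (localCohomology (J.map (algebraMap A (Localization.AtPrime p))) i).map
        ((BC (Localization.AtPrime p)).map φ) = 0 := by
    have h5 := r.hom.naturality ((BC (Localization.AtPrime p)).map φ)
    have h6 : (localCohomology (IsLocalRing.maximalIdeal (Localization.AtPrime p)) i).map
        ((BC (Localization.AtPrime p)).map φ) = 0 := by
      rw [BC_map_eq, Functor.map_comp, Functor.map_comp, h0, zero_comp, comp_zero]
    rw [h6, comp_zero] at h5
    have h7 := congrArg (fun t => t ≫ r.inv.app _) h5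
    simp only [Category.assoc, zero_comp] at h7
    rw [← NatTrans.comp_app, Iso.hom_inv_id, NatTrans.id_app, Category.comp_id] at h7
    exact h7
  rw [h2, h4, zero_comp, comp_zero]

theorem exists_smul_eq_zero (p : Ideal A) [p.IsPrime] (J : Ideal A)
    (hJ : (J.map (algebraMap A (Localization.AtPrime p))).radical =
      (IsLocalRing.maximalIdeal (Localization.AtPrime p)).radical) (i : ℕ)
    {N' N : ModuleCat.{u} A} (φ : N' ⟶ N)
    (h0 : (localCohomology (IsLocalRing.maximalIdeal (Localization.AtPrime p)) i).map
        (ModuleCat.ofHom (LocalizedModule.map p.primeCompl φ.hom)) = 0)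
    (ζ : (localCohomology J i).obj N') :
    ∃ f : A, f ∉ p ∧ f • ((localCohomology J i).map φ).hom ζ = 0 := by
  have h1 := bc_map_eq_zero p J hJ i φ h0
  have h2 : ((BC (Localization.AtPrime p)).map ((localCohomology J i).map φ)).hom
      ((1 : Localization.AtPrime p) ⊗ₜ[A] ζ) = 0 := by
    rw [h1]
    rfl
  rw [BC_map_apply, LinearMap.lTensor_tmul] at h2
  have h3 : TensorProduct.mk A (Localization.AtPrime p) ((localCohomology J i).obj N) 1
      (((localCohomology J i).map φ).hom ζ) = 0 := h2
  rw [IsLocalizedModule.eq_zero_iff p.primeCompl] at h3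
  obtain ⟨s, hs⟩ := h3
  exact ⟨s.1, s.2, hs⟩

end Groth.Agent.Helper9.CW2
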