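import Mathlib
import Groth.Agent.Helper9.CW1
import Groth.Agent.Helper9.CW2
import Groth.Agent.Helper1.LocCohLocalization
import Groth.Agent.Helper1.LocCohTors

/-!
# Local-to-global vanishing of the transition maps of `H^i_J(M_n)` for inverse systems
-/

set_option autoImplicit false
set_option linter.style.haveILetI false
set_option linter.unusedSectionVars false
set_option linter.unusedVariables false

universe u
open CategoryTheory CategoryTheory.Limits Opposite

namespace Groth.Agent.Helper9.CW3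

variable {A : Type u} [CommRing A]

/-- `H^i_⊤` vanishes -/
lemma lc_top_eq_zero (i : ℕ) (N : ModuleCat.{u} A) (ζ : (localCohomology (⊤ : Ideal A) i).obj N) :
    ζ = 0 := by
  obtain ⟨k, hk⟩ := Groth.Agent.Helper1.LocCohTors.isPowerTorsion (⊤ : Ideal A) i N ζ
  have h1 := hk 1 (by rw [Ideal.top_pow]; trivial)
  rwa [one_smul] at h1

lemma iterate_ge (m' : ℕ → ℕ) (hm' : ∀ m, m ≤ m' m) (e m : ℕ) : m ≤ (m'^[e]) m := by
  induction e with
  | zero => exact le_rfl
  | succ e ih =>
    rw [Function.iterate_succ_apply']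
    exact ih.trans (hm' _)

lemma iterate_mono_count (m' : ℕ → ℕ) (hm' : ∀ m, m ≤ m' m) {a b : ℕ} (hab : a ≤ b) (m : ℕ) :
    (m'^[a]) m ≤ (m'^[b]) m := by
  obtain ⟨c, rfl⟩ := Nat.exists_eq_add_of_le hab
  rw [add_comm, Function.iterate_add_apply]
  exact iterate_ge m' hm' c _

variable [IsNoetherianRing A]

/-- the radical condition at a minimal prime -/
lemma radical_map_of_minimal (J : Ideal A) (P : Ideal A) (hP : P ∈ J.minimalPrimes) :
    haveI : P.IsPrime := hP.1.1
    (J.map (algebraMap A (Localization.AtPrime P))).radical =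
      (IsLocalRing.maximalIdeal (Localization.AtPrime P)).radical := by
  haveI : P.IsPrime := hP.1.1
  rw [IsLocalization.AtPrime.radical_map_of_mem_minimalPrimes (A := Localization.AtPrime P) P J hP,
    Localization.AtPrime.map_eq_maximalIdeal,
    (IsLocalRing.maximalIdeal.isMaximal (Localization.AtPrime P)).isPrime.radical]

/-- prime avoidance: an ideal not contained in any minimal prime of `J` has an element outside all
of them -/
lemma exists_mem_not_mem_minimalPrimes (J I' : Ideal A)
    (h : ∀ P ∈ J.minimalPrimes, ¬ I' ≤ P) : ∃ f ∈ I', ∀ P ∈ J.minimalPrimes, f ∉ P := by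
  have hfin : (J.minimalPrimes).Finite := Ideal.finite_minimalPrimes_of_isNoetherianRing A J
  by_contra hcon
  push Not at hcon
  have h1 : (I' : Set A) ⊆ ⋃ P ∈ (↑hfin.toFinset : Set (Ideal A)), (P : Set A) := by
    intro f hf
    obtain ⟨P, hP, hfP⟩ := hcon f hf
    exact Set.mem_biUnion (Finset.mem_coe.2 (hfin.mem_toFinset.2 hP)) hfP
  rw [Ideal.subset_union_prime (R := A) (s := hfin.toFinset) (f := fun P => P) ⊤ ⊤
    (fun P hP _ _ => (hfin.mem_toFinset.1 hP).1.1)] at h1
  obtain ⟨P, hP, hle⟩ := h1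
  exact h P (hfin.mem_toFinset.1 hP) hle

section system

variable (M : ℕ → Type u) [∀ n, AddCommGroup (M n)] [∀ n, Module A (M n)]
  (φ : ∀ k m : ℕ, m ≤ k → (M k →ₗ[A] M m))
  (hφ : ∀ (k l m : ℕ) (h₁ : m ≤ l) (h₂ : l ≤ k), φ k m (h₁.trans h₂) = φ l m h₁ ∘ₗ φ k l h₂)
  (i : ℕ) (m' : ℕ → ℕ) (hm' : ∀ m, m ≤ m' m) (T : Set (PrimeSpectrum A))
  (hloc : ∀ (p : PrimeSpectrum A), p ∈ T → ∀ (m k : ℕ) (h : m ≤ k), m' m ≤ k →
    (localCohomology (IsLocalRing.maximalIdeal (Localization.AtPrime p.asIdeal)) i).map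
      (ModuleCat.ofHom (LocalizedModule.map p.asIdeal.primeCompl (φ k m h))) = 0)

include hφ hm' hloc in
theorem lc_map_eq_zero (e : ℕ) : ∀ (J : Ideal A),
    PrimeSpectrum.zeroLocus (J : Set A) ⊆ T →
    (∀ s : LTSeries (PrimeSpectrum.zeroLocus (J : Set A)), s.length < e) →
    ∀ (m k : ℕ) (h : m ≤ k), (m'^[e]) m ≤ k →
      (localCohomology J i).map (ModuleCat.ofHom (φ k m h)) = 0 := by
  induction e with
  | zero =>
    intro J hJT hch m k h hk
    have hJ : J = ⊤ := by
      rw [← PrimeSpectrum.zeroLocus_empty_iff_eq_top]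
      by_contra hne
      obtain ⟨x, hx⟩ := Set.nonempty_iff_ne_empty.2 hne
      exact absurd (hch (RelSeries.singleton _ ⟨x, hx⟩)) (by simp)
    subst hJ
    ext ζ
    exact lc_top_eq_zero i _ _
  | succ e ih =>
    intro J hJT hch m k h hk
    rw [Function.iterate_succ_apply'] at hk
    set l := (m'^[e]) m with hl
    have hml : m ≤ l := iterate_ge m' hm' e m
    have hlk : l ≤ k := (hm' l).trans hk
    have hcomp : ModuleCat.ofHom (φ k m h) =
        ModuleCat.ofHom (φ k l hlk) ≫ ModuleCat.ofHom (φ l m hml) := by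
      rw [← ModuleCat.ofHom_comp, ← hφ k l m hml hlk]
    ext ζ
    rw [hcomp, Functor.map_comp]
    set η := ((localCohomology J i).map (ModuleCat.ofHom (φ k l hlk))).hom ζ with hη
    show ((localCohomology J i).map (ModuleCat.ofHom (φ l m hml))).hom η = 0
    -- the annihilator of `η` is not contained in any minimal prime
    let I' : Ideal A := LinearMap.ker (LinearMap.toSpanSingleton A _ η)
    have hI' : ∀ P ∈ J.minimalPrimes, ¬ I' ≤ P := by
      intro P hP hle
      haveI : P.IsPrime := hP.1.1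
      have hPT : (⟨P, hP.1.1⟩ : PrimeSpectrum A) ∈ T := hJT hP.1.2
      obtain ⟨f, hfP, hf⟩ := CW2.exists_smul_eq_zero P J (radical_map_of_minimal J P hP) i
        (ModuleCat.ofHom (φ k l hlk)) (hloc ⟨P, hP.1.1⟩ hPT l k hlk hk) ζ
      exact hfP (hle (by
        show LinearMap.toSpanSingleton A _ η f = 0
        rw [LinearMap.toSpanSingleton_apply]
        exact hf))
    obtain ⟨f, hfI, hf⟩ := exists_mem_not_mem_minimalPrimes J I' hI'
    have hfη : f • η = 0 := by
      have : LinearMap.toSpanSingleton A _ η f = 0 := hfI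
      rwa [LinearMap.toSpanSingleton_apply] at this
    obtain ⟨η', hη'⟩ := (Groth.Agent.Helper1.LocCohLES.mem_range_hmap_iff J f i
      (ModuleCat.of A (M l)) η).2 ⟨1, by rwa [pow_one]⟩
    -- apply the induction hypothesis to `J + (f)`
    have hle : J ≤ J ⊔ Ideal.span {f} := le_sup_left
    have hsub : PrimeSpectrum.zeroLocus ((J ⊔ Ideal.span {f} : Ideal A) : Set A) ⊆
        PrimeSpectrum.zeroLocus (J : Set A) := PrimeSpectrum.zeroLocus_anti_mono_ideal hle
    have hch' : ∀ s : LTSeries (PrimeSpectrum.zeroLocus ((J ⊔ Ideal.span {f} : Ideal A) : Set A)),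
        s.length < e := by
      intro s
      have hq0 : J ⊔ Ideal.span {f} ≤ s.head.1.asIdeal := s.head.2
      obtain ⟨P, hP, hPq⟩ := Ideal.exists_minimalPrimes_le (hle.trans hq0)
      have hfq : f ∈ s.head.1.asIdeal :=
        hq0 (Ideal.mem_sup_right (Ideal.mem_span_singleton_self f))
      have hne : P ≠ s.head.1.asIdeal := fun h => hf P hP (h ▸ hfq)
      let s' : LTSeries (PrimeSpectrum.zeroLocus (J : Set A)) :=
        s.map (Set.inclusion hsub) (fun a b hab => hab)
      let P' : PrimeSpectrum.zeroLocus (J : Set A) := ⟨⟨P, hP.1.1⟩, hP.1.2⟩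
      have hlt : P' < s'.head := by
        rw [LTSeries.head_map]
        exact lt_of_le_of_ne hPq (fun h => hne (congrArg (fun t => t.1.asIdeal) h))
      have h2 := hch (s'.cons P' hlt)
      rw [RelSeries.cons_length, LTSeries.map_length] at h2
      omega
    have h3 := ih (J ⊔ Ideal.span {f}) (hsub.trans hJT) hch' m l hml le_rfl
    have h4 := (Dual2.HmapOfLE hle i).naturality (ModuleCat.ofHom (φ l m hml))
    have h5 := congrArg (fun t => t.hom η') h4
    simp only [ModuleCat.hom_comp, LinearMap.comp_apply] at h5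
    rw [← hη', ← h5, h3]
    simp

end system

end Groth.Agent.Helper9.CW3
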