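import Mathlib
import Groth.Agent.Helper9.CW1

/-!
# More on `H^i_J ⟶ H^i_T`: compatibility with `HmapOfLE`, change of `T`, and kernels
-/

set_option autoImplicit false
set_option linter.style.haveILetI false
set_option linter.unusedSectionVars false
set_option linter.unusedVariables false

universe u
open CategoryTheory CategoryTheory.Limits Opposite localCohomology

namespace Groth.Agent.Helper9.CW4
open Groth.Agent.Helper9.CW1

variable {A : Type u} [CommRing A] (T : Set (PrimeSpectrum A))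

/-- functoriality of `HmapOfLE` -/
lemma hmap_hmap {J₁ J₂ J₃ : Ideal A} (h : J₁ ≤ J₂) (h' : J₂ ≤ J₃) (i : ℕ) (N : ModuleCat.{u} A)
    (ζ : (localCohomology J₃ i).obj N) :
    ((Dual2.HmapOfLE h i).app N).hom (((Dual2.HmapOfLE h' i).app N).hom ζ) =
      ((Dual2.HmapOfLE (h.trans h') i).app N).hom ζ := by
  obtain ⟨k, y, rfl⟩ := exists_rep_J J₃ i N ζ
  rw [hmap_leg, hmap_leg, hmap_leg, tr_tr]

/-- `H^i_{J'} → H^i_J → H^i_T` is the canonical map -/
lemma toT_hmap {J J' : Ideal A} (h : J ≤ J')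
    (hJ : PrimeSpectrum.zeroLocus (J : Set A) ⊆ T) (i : ℕ) (N : ModuleCat.{u} A)
    (ζ : (localCohomology J' i).obj N) :
    ((toT T J hJ i).app N).hom (((Dual2.HmapOfLE h i).app N).hom ζ) =
      ((toT T J' ((PrimeSpectrum.zeroLocus_anti_mono_ideal h).trans hJ) i).app N).hom ζ := by
  obtain ⟨k, y, rfl⟩ := exists_rep_J J' i N ζ
  rw [hmap_leg, toT_leg, toT_leg]
  exact legT_tr T i N ⟨J' ^ k, _⟩ ⟨J ^ k, _⟩ (Ideal.pow_right_mono h k) y

/-- kernel of `H^i_J → H^i_T` -/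
lemma toT_eq_zero (J : Ideal A) (hJ : PrimeSpectrum.zeroLocus (J : Set A) ⊆ T) (i : ℕ)
    (N : ModuleCat.{u} A) (ζ : (localCohomology J i).obj N)
    (h0 : ((toT T J hJ i).app N).hom ζ = 0) :
    ∃ (J₂ : Ideal A) (h : J₂ ≤ J), PrimeSpectrum.zeroLocus (J₂ : Set A) ⊆ T ∧
      ((Dual2.HmapOfLE h i).app N).hom ζ = 0 := by
  obtain ⟨k, y, rfl⟩ := exists_rep_J J i N ζ
  rw [toT_leg] at h0
  obtain ⟨d', f, hf⟩ := leg_eq_zero.{u, u} (Dual2.idealsInDiagram T) i N
    ⟨J ^ k, zeroLocus_pow_subset T hJ k⟩ y h0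
  have h1 : d'.obj ≤ J ^ k := leOfHom f.hom
  have hf' : tr h1 i N y = 0 := hf
  refine ⟨d'.obj ⊓ J, inf_le_right, ?_, ?_⟩
  · rw [PrimeSpectrum.zeroLocus_inf]
    exact Set.union_subset d'.property hJ
  · rw [hmap_leg, ← legJ_tr (d'.obj ⊓ J) i N k (k + 1) (Nat.le_succ k), tr_tr]
    have h2 : (d'.obj ⊓ J) ^ (k + 1) ≤ d'.obj :=
      (Ideal.pow_le_self (Nat.succ_ne_zero k)).trans inf_le_left
    have h3 := tr_tr h2 h1 i N y
    rw [hf', map_zero] at h3
    rw [← h3, map_zero]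

section mapT

variable {T} {T' : Set (PrimeSpectrum A)} (hTT : T' ⊆ T)

/-- the cocone defining `mapT` -/
noncomputable def mapTCocone (i : ℕ) : Cocone (diagram (Dual2.idealsInDiagram T') i) where
  pt := HTf T i
  ι :=
    { app := fun d => colimit.ι (diagram (Dual2.idealsInDiagram T) i)
        (op (⟨d.unop.obj, d.unop.property.trans hTT⟩ : Dual2.IdealsIn T))
      naturality := fun d d' f =>
        (colimit.w (diagram (Dual2.idealsInDiagram T) i)
          (ObjectProperty.homMk f.unop.hom :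
            (⟨d'.unop.obj, d'.unop.property.trans hTT⟩ : Dual2.IdealsIn T) ⟶
              ⟨d.unop.obj, d.unop.property.trans hTT⟩).op).trans
          (Category.comp_id _).symm }

/-- `H^i_{T'} ⟶ H^i_T` for `T' ⊆ T` -/
noncomputable def mapT (i : ℕ) : HTf T' i ⟶ HTf T i :=
  colimit.desc (diagram (Dual2.idealsInDiagram T') i) (mapTCocone hTT i)

lemma mapT_leg (i : ℕ) (N : ModuleCat.{u} A) (a : LT1.Idx T') (y : E a.J i N) :
    ((mapT hTT i).app N).hom (legT T' i N a y) = legT T i N ⟨a.J, a.h.trans hTT⟩ y := by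
  have h1 := colimit.ι_desc (mapTCocone hTT i) (op (⟨a.J, a.h⟩ : Dual2.IdealsIn T'))
  exact congrArg (fun t => (t.app N).hom y) h1

lemma mapT_toT (i : ℕ) (N : ModuleCat.{u} A) (J : Ideal A)
    (hJ : PrimeSpectrum.zeroLocus (J : Set A) ⊆ T') (ζ : (localCohomology J i).obj N) :
    ((mapT hTT i).app N).hom (((toT T' J hJ i).app N).hom ζ) =
      ((toT T J (hJ.trans hTT) i).app N).hom ζ := by
  obtain ⟨k, y, rfl⟩ := exists_rep_J J i N ζ
  rw [toT_leg, toT_leg, mapT_leg]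

end mapT

end Groth.Agent.Helper9.CW4
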