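import Mathlib
import Groth.Agent.Helper1.LocCohLocalization

/-!
# Naturality of the connecting map `H^n_a(M_b) ⟶ H^{n+1}_{a+(b)}(M)` and the kernel of
`H^i_{a+(b)} ⟶ H^i_a` along maps killing `H^{i-1}_a`
-/

set_option autoImplicit false
set_option linter.style.haveILetI false
set_option linter.unusedSectionVars false
set_option linter.unusedVariables false

universe u
open CategoryTheory CategoryTheory.Limits Opposite
open Groth.Agent.Helper1.LocCohLES Groth.Agent.Helper1.DeltaFun Groth.Agent.Helper1.LocCohDelta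
  Groth.Agent.Helper1.LocFun Groth.Agent.Helper1.FunLES

namespace Groth.Agent.Helper9.CW5

variable {R : Type u} [CommRing R] [IsNoetherianRing R] (a : Ideal R) (b : R)

lemma eC_naturality (n : ℕ) {M N : ModuleCat.{u} R} (g : M ⟶ N) :
    (localCohomology a n).map ((L b).map g) ≫ (eC a b n N).hom =
      (eC a b n M).hom ≫ ((L b ⋙ DRing.gammaI a).rightDerived n).map g := by
  have h1 := (lcIsoδ a n).hom.naturality ((L b).map g)
  have h2 := (compIso (L b) (hL b) (DRing.gammaI a) (hacyc a b) n).inv.naturality g
  dsimp only [eC, Iso.trans_hom, Iso.app_hom, Iso.symm_hom, Iso.app_inv]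
  rw [reassoc_of% h1, Category.assoc]
  congr 1

theorem conn_naturality (n : ℕ) {M N : ModuleCat.{u} R} (g : M ⟶ N) :
    (localCohomology a n).map ((L b).map g) ≫ conn a b n N =
      conn a b n M ≫ (localCohomology (a ⊔ Ideal.span {b}) (n + 1)).map g := by
  have h1 := eC_naturality a b n g
  have h2 := (δ (α a b) (β a b) (α_β a b) (fun E _ => sc_shortExact a b E) n).naturality g
  have h3 := (lcIsoδ (a ⊔ Ideal.span {b}) (n + 1)).inv.naturality g
  dsimp only [conn]
  rw [reassoc_of% h1, reassoc_of% h2, h3, Category.assoc, Category.assoc]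

/-- localizing the zero map -/
lemma lc_map_loc_eq_zero (n : ℕ) {M N : ModuleCat.{u} R} (g : M ⟶ N)
    (h0 : (localCohomology a n).map g = 0) :
    (localCohomology a n).map ((L b).map g) = 0 := by
  have h1 : (η b).app M ≫ (L b).map g = g ≫ (η b).app N := ((η b).naturality g).symm
  have h2 : (localCohomology a n).map ((η b).app M) ≫ (localCohomology a n).map ((L b).map g) = 0 := by
    rw [← Functor.map_comp, h1, Functor.map_comp, h0, zero_comp]
  haveI := isLocalizedModule_lc_map a b n M
  have hN := isLocalizedModule_lc_map a b n N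
  apply ModuleCat.hom_ext
  apply IsLocalizedModule.ext (Submonoid.powers b) ((localCohomology a n).map ((η b).app M)).hom
    hN.map_units
  have h3 := congrArg ModuleCat.Hom.hom h2
  rw [ModuleCat.hom_comp] at h3
  rw [h3]
  simp

/-- an element of the kernel of `H^i_{a+(b)}(M) → H^i_a(M)` dies under any map killing
`H^{i-1}_a` -/
theorem map_eq_zero_of_hmap_eq_zero (i : ℕ) {M N : ModuleCat.{u} R} (g : M ⟶ N)
    (h0 : 0 < i → (localCohomology a (i - 1)).map g = 0)
    (ζ : (localCohomology (a ⊔ Ideal.span {b}) i).obj M)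
    (hζ : ((Dual2.HmapOfLE (le_sup_left : a ≤ a ⊔ Ideal.span {b}) i).app M).hom ζ = 0) :
    ((localCohomology (a ⊔ Ideal.span {b}) i).map g).hom ζ = 0 := by
  rcases i with _ | n
  · have hm := mono_hmap_zero a b M
    have hinj := (ModuleCat.mono_iff_injective _).1 hm
    have : ζ = 0 := hinj (by rw [hζ, map_zero])
    rw [this, map_zero]
  · obtain ⟨w1, e1⟩ := exact₁ a b n M
    obtain ⟨y, hy⟩ := (ShortComplex.moduleCat_exact_iff _).1 e1 ζ hζ
    have h1 := conn_naturality a b n g
    have h2 := congrArg (fun t => t.hom y) h1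
    simp only [ModuleCat.hom_comp, LinearMap.comp_apply] at h2
    have h3 : (localCohomology a n).map ((L b).map g) = 0 :=
      lc_map_loc_eq_zero a b n g (h0 (Nat.succ_pos n))
    rw [h3] at h2
    have hy' : (conn a b n M).hom y = ζ := hy
    rw [hy'] at h2
    rw [← h2]
    simp

end Groth.Agent.Helper9.CW5
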