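import Mathlib
import Groth.Agent.Helper9.CW2

/-!
# The natural map `H^i_J(N) → H^i_{pA_p}(N_p)` at a prime `p` where `J` is primary to `p`
-/

set_option autoImplicit false
set_option linter.style.haveILetI false
set_option linter.unusedSectionVars false
set_option linter.unusedVariables false

universe u
open CategoryTheory CategoryTheory.Limits Opposite TensorProduct
open Groth.Agent.Helper1.FlatBC

namespace Groth.Agent.Helper9.CW6
open Groth.Agent.Helper9.CW2

variable {A : Type u} [CommRing A] [IsNoetherianRing A] (p : Ideal A) [p.IsPrime] (J : Ideal A)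
  (hJ : (J.map (algebraMap A (Localization.AtPrime p))).radical =
      (IsLocalRing.maximalIdeal (Localization.AtPrime p)).radical) (i : ℕ)

/-- `A_p ⊗ H^i_J(N) ≅ H^i_{pA_p}(N_p)` -/
noncomputable def Φ (N : ModuleCat.{u} A) :
    (BC (Localization.AtPrime p)).obj ((localCohomology J i).obj N) ≅
      (localCohomology (IsLocalRing.maximalIdeal (Localization.AtPrime p)) i).obj
        (ModuleCat.of (Localization.AtPrime p) (LocalizedModule p.primeCompl N)) :=
  (bcIso (Localization.AtPrime p) J i).app N ≪≫
    (localCohomology.isoOfSameRadical hJ i).app _ ≪≫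
    (localCohomology (IsLocalRing.maximalIdeal (Localization.AtPrime p)) i).mapIso
      (τ p.primeCompl N)

lemma Φ_nat {N' N : ModuleCat.{u} A} (g : N' ⟶ N) :
    (BC (Localization.AtPrime p)).map ((localCohomology J i).map g) ≫ (Φ p J hJ i N).hom =
      (Φ p J hJ i N').hom ≫
        (localCohomology (IsLocalRing.maximalIdeal (Localization.AtPrime p)) i).map
          (ModuleCat.ofHom (LocalizedModule.map p.primeCompl g.hom)) := by
  have h1 : (BC (Localization.AtPrime p)).map ((localCohomology J i).map g) ≫
      (bcIso (Localization.AtPrime p) J i).hom.app N =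
      (bcIso (Localization.AtPrime p) J i).hom.app N' ≫
        (localCohomology (J.map (algebraMap A (Localization.AtPrime p))) i).map
          ((BC (Localization.AtPrime p)).map g) :=
    (bcIso (Localization.AtPrime p) J i).hom.naturality g
  have h2 := (localCohomology.isoOfSameRadical hJ i).hom.naturality
    ((BC (Localization.AtPrime p)).map g)
  have h3 : (BC (Localization.AtPrime p)).map g ≫ (τ p.primeCompl N).hom =
      (τ p.primeCompl N').hom ≫ ModuleCat.ofHom (LocalizedModule.map p.primeCompl g.hom) := by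
    rw [BC_map_eq, Category.assoc, Category.assoc, Iso.inv_hom_id, Category.comp_id]
  dsimp only [Φ, Iso.trans_hom, Iso.app_hom, Functor.mapIso_hom]
  rw [reassoc_of% h1, reassoc_of% h2, Category.assoc, Category.assoc, ← Functor.map_comp, h3,
    Functor.map_comp]

/-- the localization map on local cohomology -/
noncomputable def lam (N : ModuleCat.{u} A) (ζ : (localCohomology J i).obj N) :
    (localCohomology (IsLocalRing.maximalIdeal (Localization.AtPrime p)) i).obj
        (ModuleCat.of (Localization.AtPrime p) (LocalizedModule p.primeCompl N)) :=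
  (Φ p J hJ i N).hom.hom ((1 : Localization.AtPrime p) ⊗ₜ[A] ζ)

lemma lam_zero (N : ModuleCat.{u} A) : lam p J hJ i N 0 = 0 := by
  unfold lam
  rw [TensorProduct.tmul_zero]
  exact map_zero (Φ p J hJ i N).hom.hom

lemma lam_nat {N' N : ModuleCat.{u} A} (g : N' ⟶ N) (ζ : (localCohomology J i).obj N') :
    lam p J hJ i N (((localCohomology J i).map g).hom ζ) =
      ((localCohomology (IsLocalRing.maximalIdeal (Localization.AtPrime p)) i).map
          (ModuleCat.ofHom (LocalizedModule.map p.primeCompl g.hom))).hom (lam p J hJ i N' ζ) := by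
  have h1 := congrArg (fun t => t.hom ((1 : Localization.AtPrime p) ⊗ₜ[A] ζ)) (Φ_nat p J hJ i g)
  simp only [ModuleCat.hom_comp, LinearMap.comp_apply] at h1
  rw [BC_map_apply, LinearMap.lTensor_tmul] at h1
  exact h1

lemma exists_of_lam_eq_zero (N : ModuleCat.{u} A) (ζ : (localCohomology J i).obj N)
    (h0 : lam p J hJ i N ζ = 0) : ∃ f : A, f ∉ p ∧ f • ζ = 0 := by
  have h1 : (Φ p J hJ i N).inv.hom ((Φ p J hJ i N).hom.hom ((1 : Localization.AtPrime p) ⊗ₜ[A] ζ)) =
      (1 : Localization.AtPrime p) ⊗ₜ[A] ζ := by
    have := congrArg (fun t => t.hom ((1 : Localization.AtPrime p) ⊗ₜ[A] ζ))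
      (Φ p J hJ i N).hom_inv_id
    simp only [ModuleCat.hom_comp, LinearMap.comp_apply, ModuleCat.hom_id,
      LinearMap.id_apply] at this
    exact this
  have h2 : (1 : Localization.AtPrime p) ⊗ₜ[A] ζ = 0 := by
    rw [← h1]
    have : (Φ p J hJ i N).hom.hom ((1 : Localization.AtPrime p) ⊗ₜ[A] ζ) = 0 := h0
    rw [this]
    exact map_zero (Φ p J hJ i N).inv.hom
  have h3 : TensorProduct.mk A (Localization.AtPrime p) ((localCohomology J i).obj N) 1 ζ = 0 := h2
  rw [IsLocalizedModule.eq_zero_iff p.primeCompl] at h3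
  obtain ⟨s, hs⟩ := h3
  exact ⟨s.1, s.2, hs⟩

end Groth.Agent.Helper9.CW6
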