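import Mathlib
import Groth.Agent.Helper9.CW3
import Groth.Agent.Helper9.CW4
import Groth.Agent.Helper9.CW5
import Groth.Agent.Helper9.CW6

/-!
# Local-to-global injectivity of images for inverse systems of `H^i_T(M_n)`
-/

set_option autoImplicit false
set_option linter.style.haveILetI false
set_option linter.unusedSectionVars false
set_option linter.unusedVariables false

universe u
open CategoryTheory CategoryTheory.Limits Opposite

namespace Groth.Agent.Helper9.CW7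
open Groth.Agent.Helper9.CW1 Groth.Agent.Helper9.CW4

variable {A : Type u} [CommRing A]

/-- the non-minimal points of `T` -/
def nm (T : Set (PrimeSpectrum A)) : Set (PrimeSpectrum A) := {q | q ∈ T ∧ ∃ p ∈ T, p < q}

lemma nm_subset (T : Set (PrimeSpectrum A)) : nm T ⊆ T := fun _ hq => hq.1

lemma chain_nm (T : Set (PrimeSpectrum A)) (e : ℕ) (hch : ∀ s : LTSeries T, s.length < e + 1) :
    ∀ s : LTSeries (nm T), s.length < e := by
  intro s
  obtain ⟨p, hpT, hp⟩ := s.head.2.2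
  let s' : LTSeries T := s.map (Set.inclusion (nm_subset T)) (fun a b hab => hab)
  have hlt : (⟨p, hpT⟩ : T) < s'.head := by
    rw [LTSeries.head_map]
    exact hp
  have h2 := hch (s'.cons ⟨p, hpT⟩ hlt)
  rw [RelSeries.cons_length, LTSeries.map_length] at h2
  omega

/-- prime avoidance for a finite set of primes -/
lemma exists_mem_not_mem_of_finite (S : Set (Ideal A)) (hS : S.Finite) (hp : ∀ P ∈ S, P.IsPrime)
    (I' : Ideal A) (h : ∀ P ∈ S, ¬ I' ≤ P) : ∃ f ∈ I', ∀ P ∈ S, f ∉ P := by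
  by_contra hcon
  push Not at hcon
  have h1 : (I' : Set A) ⊆ ⋃ P ∈ (↑hS.toFinset : Set (Ideal A)), (P : Set A) := by
    intro f hf
    obtain ⟨P, hP, hfP⟩ := hcon f hf
    exact Set.mem_biUnion (Finset.mem_coe.2 (hS.mem_toFinset.2 hP)) hfP
  rw [Ideal.subset_union_prime (R := A) (s := hS.toFinset) (f := fun P => P) ⊤ ⊤
    (fun P hP _ _ => hp P (hS.mem_toFinset.1 hP))] at h1
  obtain ⟨P, hP, hle⟩ := h1
  exact h P (hS.mem_toFinset.1 hP) hle

lemma zeroLocus_sup_subset_nm (T : Set (PrimeSpectrum A)) (J : Ideal A)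
    (hJT : PrimeSpectrum.zeroLocus (J : Set A) ⊆ T) (f : A)
    (hf : ∀ (P : Ideal A) (hP : P ∈ J.minimalPrimes),
      (⟨P, hP.1.1⟩ : PrimeSpectrum A) ∉ nm T → f ∉ P) :
    PrimeSpectrum.zeroLocus ((J ⊔ Ideal.span {f} : Ideal A) : Set A) ⊆ nm T := by
  intro q hq
  have hq' : J ⊔ Ideal.span {f} ≤ q.asIdeal := hq
  have hJq : J ≤ q.asIdeal := le_sup_left.trans hq'
  have hfq : f ∈ q.asIdeal := hq' (Ideal.mem_sup_right (Ideal.mem_span_singleton_self f))
  have hqT : q ∈ T := hJT hJq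
  obtain ⟨P, hP, hPq⟩ := Ideal.exists_minimalPrimes_le hJq
  have hPT : (⟨P, hP.1.1⟩ : PrimeSpectrum A) ∈ T := hJT hP.1.2
  by_cases hPn : (⟨P, hP.1.1⟩ : PrimeSpectrum A) ∈ nm T
  · obtain ⟨p, hpT, hp⟩ := hPn.2
    exact ⟨hqT, p, hpT, lt_of_lt_of_le hp hPq⟩
  · have hfP := hf P hP hPn
    refine ⟨hqT, ⟨P, hP.1.1⟩, hPT, lt_of_le_of_ne hPq ?_⟩
    intro h
    exact hfP (by
      have : P = q.asIdeal := congrArg PrimeSpectrum.asIdeal h
      rw [this]
      exact hfq)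

variable [IsNoetherianRing A]

section system

variable (M : ℕ → Type u) [∀ n, AddCommGroup (M n)] [∀ n, Module A (M n)]
  (φ : ∀ k m : ℕ, m ≤ k → (M k →ₗ[A] M m))
  (hφ : ∀ (k l m : ℕ) (h₁ : m ≤ l) (h₂ : l ≤ k), φ k m (h₁.trans h₂) = φ l m h₁ ∘ₗ φ k l h₂)
  (i : ℕ)

include hφ in
lemma map_map (F : ModuleCat.{u} A ⥤ ModuleCat.{u} A) (k l m : ℕ) (h₁ : m ≤ l) (h₂ : l ≤ k)
    (x : F.obj (ModuleCat.of A (M k))) :
    (F.map (ModuleCat.ofHom (φ l m h₁))).hom ((F.map (ModuleCat.ofHom (φ k l h₂))).hom x) =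
      (F.map (ModuleCat.ofHom (φ k m (h₁.trans h₂)))).hom x := by
  rw [hφ k l m h₁ h₂, ModuleCat.ofHom_comp, Functor.map_comp]
  rfl

lemma toT_nat (T : Set (PrimeSpectrum A)) (J : Ideal A)
    (hJ : PrimeSpectrum.zeroLocus (J : Set A) ⊆ T) {N' N : ModuleCat.{u} A} (g : N' ⟶ N)
    (ζ : (localCohomology J i).obj N') :
    ((toT T J hJ i).app N).hom (((localCohomology J i).map g).hom ζ) =
      ((HTf T i).map g).hom (((toT T J hJ i).app N').hom ζ) := by
  have h1 := (toT T J hJ i).naturality g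
  exact congrArg (fun t => t.hom ζ) h1

lemma mapT_nat {T T' : Set (PrimeSpectrum A)} (hTT : T' ⊆ T) {N' N : ModuleCat.{u} A} (g : N' ⟶ N)
    (a : (HTf T' i).obj N') :
    ((mapT hTT i).app N).hom (((HTf T' i).map g).hom a) =
      ((HTf T i).map g).hom (((mapT hTT i).app N').hom a) := by
  have h1 := (mapT hTT i).naturality g
  exact congrArg (fun t => t.hom a) h1

lemma hmap_nat {J J' : Ideal A} (h : J ≤ J') {N' N : ModuleCat.{u} A} (g : N' ⟶ N)
    (ζ : (localCohomology J' i).obj N') :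
    ((Dual2.HmapOfLE h i).app N).hom (((localCohomology J' i).map g).hom ζ) =
      ((localCohomology J i).map g).hom (((Dual2.HmapOfLE h i).app N').hom ζ) := by
  have h1 := (Dual2.HmapOfLE h i).naturality g
  exact congrArg (fun t => t.hom ζ) h1

variable (m' : ℕ → ℕ) (hm' : ∀ m, m ≤ m' m) (T₀ : Set (PrimeSpectrum A))
  (h1 : 0 < i → ∀ (p : PrimeSpectrum A), p ∈ T₀ → ∀ (m k : ℕ) (h : m ≤ k), m' m ≤ k →
    (localCohomology (IsLocalRing.maximalIdeal (Localization.AtPrime p.asIdeal)) (i - 1)).map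
      (ModuleCat.ofHom (LocalizedModule.map p.asIdeal.primeCompl (φ k m h))) = 0)

include hφ hm' h1 in
/-- the kernel of `H^i_{T'} → H^i_T` is pro-zero -/
theorem ker_mapT_prozero (T : Set (PrimeSpectrum A)) (hT : T ⊆ T₀) (e : ℕ)
    (hch : ∀ s : LTSeries T, s.length < e) (m k : ℕ) (h : m ≤ k) (hk : (m'^[e]) m ≤ k)
    (ε : (HTf (nm T) i).obj (ModuleCat.of A (M k)))
    (hε : ((mapT (nm_subset T) i).app _).hom ε = 0) :
    ((HTf (nm T) i).map (ModuleCat.ofHom (φ k m h))).hom ε = 0 := by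
  obtain ⟨J', hJ', ζ', rfl⟩ := exists_rep_T (nm T) i _ ε
  rw [mapT_toT] at hε
  obtain ⟨J, hle, hJT, hz⟩ := toT_eq_zero T J' (hJ'.trans (nm_subset T)) i _ ζ' hε
  -- avoid the minimal primes of `J` outside `nm T`
  let S : Set (Ideal A) :=
    {P | ∃ hP : P ∈ J.minimalPrimes, (⟨P, hP.1.1⟩ : PrimeSpectrum A) ∉ nm T}
  have hSfin : S.Finite :=
    (Ideal.finite_minimalPrimes_of_isNoetherianRing A J).subset (fun P hP => hP.1)
  have hSp : ∀ P ∈ S, P.IsPrime := fun P hP => hP.1.1.1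
  have hSle : ∀ P ∈ S, ¬ J' ≤ P := by
    rintro P ⟨hP, hPn⟩ hle'
    exact hPn (hJ' (show (⟨P, hP.1.1⟩ : PrimeSpectrum A) ∈
      PrimeSpectrum.zeroLocus (J' : Set A) from hle'))
  obtain ⟨f, hfJ', hf⟩ := exists_mem_not_mem_of_finite S hSfin hSp J' hSle
  have hJ₂le : J ⊔ Ideal.span {f} ≤ J' :=
    sup_le hle ((Ideal.span_singleton_le_iff_mem J').2 hfJ')
  have hV : PrimeSpectrum.zeroLocus ((J ⊔ Ideal.span {f} : Ideal A) : Set A) ⊆ nm T :=
    zeroLocus_sup_subset_nm T J hJT f (fun P hP hPn => hf P ⟨hP, hPn⟩)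
  set ζ₂ := ((Dual2.HmapOfLE hJ₂le i).app _).hom ζ' with hζ₂
  have hζ₂0 : ((Dual2.HmapOfLE (le_sup_left : J ≤ J ⊔ Ideal.span {f}) i).app _).hom ζ₂ = 0 := by
    rw [hζ₂, hmap_hmap]
    exact hz
  have hzero : 0 < i → (localCohomology J (i - 1)).map (ModuleCat.ofHom (φ k m h)) = 0 := by
    intro hi
    refine CW3.lc_map_eq_zero M φ hφ (i - 1) m' hm' T₀ (h1 hi) e J (hJT.trans hT) ?_ m k h hk
    intro s
    have := hch (s.map (Set.inclusion hJT) (fun a b hab => hab))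
    rwa [LTSeries.map_length] at this
  have h3 := CW5.map_eq_zero_of_hmap_eq_zero J f i (ModuleCat.ofHom (φ k m h)) hzero ζ₂ hζ₂0
  have h4 : ((toT (nm T) J' hJ' i).app _).hom ζ' =
      ((toT (nm T) (J ⊔ Ideal.span {f}) hV i).app _).hom ζ₂ := by
    rw [hζ₂, toT_hmap]
  rw [h4, ← toT_nat, h3, map_zero]


variable
  (h2 : ∀ (p : PrimeSpectrum A), p ∈ T₀ → ∀ (m k : ℕ) (h : m ≤ k), m' m ≤ k →
    LinearMap.range ((localCohomology (IsLocalRing.maximalIdeal
      (Localization.AtPrime p.asIdeal)) i).map (ModuleCat.ofHom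
        (LocalizedModule.map p.asIdeal.primeCompl (φ k m h)))).hom =
    LinearMap.range ((localCohomology (IsLocalRing.maximalIdeal
      (Localization.AtPrime p.asIdeal)) i).map (ModuleCat.ofHom
        (LocalizedModule.map p.asIdeal.primeCompl (φ (m' m) m (hm' m))))).hom)
  (h3 : ∀ (p : PrimeSpectrum A), p ∈ T₀ → ∀ (m : ℕ)
    (x : ↑((localCohomology (IsLocalRing.maximalIdeal (Localization.AtPrime p.asIdeal)) i).obj
      (ModuleCat.of (Localization.AtPrime p.asIdeal)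
        (LocalizedModule p.asIdeal.primeCompl (M m))))),
    x ∈ LinearMap.range ((localCohomology (IsLocalRing.maximalIdeal
      (Localization.AtPrime p.asIdeal)) i).map (ModuleCat.ofHom
        (LocalizedModule.map p.asIdeal.primeCompl (φ (m' m) m (hm' m))))).hom →
    ((localCohomology (IsLocalRing.maximalIdeal (Localization.AtPrime p.asIdeal)) i).map
      (ModuleCat.ofHom (LocalizedModule.map p.asIdeal.primeCompl
        (φ m 0 (Nat.zero_le m))))).hom x = 0 → x = 0)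

include hφ hm' h1 h2 h3 in
theorem main (e : ℕ) : ∀ (T : Set (PrimeSpectrum A)), T ⊆ T₀ →
    (∀ s : LTSeries T, s.length < e) →
    ∃ m₀ : ℕ, ∀ m : ℕ, ∀ (hm : m₀ ≤ m), ∃ m'' : ℕ, m ≤ m'' ∧ ∀ (k : ℕ) (h : m ≤ k), m'' ≤ k →
      ∀ x : (HTf T i).obj (ModuleCat.of A (M m)),
        x ∈ LinearMap.range ((HTf T i).map (ModuleCat.ofHom (φ k m h))).hom →
        ((HTf T i).map (ModuleCat.ofHom (φ m m₀ hm))).hom x = 0 → x = 0 := by
  induction e with
  | zero =>
    intro T hT hch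
    refine ⟨0, fun m hm => ⟨m, le_rfl, fun k h hk x hx hx0 => ?_⟩⟩
    obtain ⟨J, hJT, ζ, rfl⟩ := exists_rep_T T i _ x
    have hJ : J = ⊤ := by
      rw [← PrimeSpectrum.zeroLocus_empty_iff_eq_top]
      by_contra hne
      obtain ⟨q, hq⟩ := Set.nonempty_iff_ne_empty.2 hne
      exact absurd (hch (RelSeries.singleton _ ⟨q, hJT hq⟩)) (by simp)
    subst hJ
    rw [CW3.lc_top_eq_zero i _ ζ, map_zero]
  | succ e ih =>
    intro T hT hch
    obtain ⟨a₀, ha⟩ := ih (nm T) ((nm_subset T).trans hT) (chain_nm T e hch)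
    have ha₀ : a₀ ≤ (m'^[e + 1]) a₀ := CW3.iterate_ge m' hm' (e + 1) a₀
    refine ⟨(m'^[e + 1]) a₀, fun m hm => ?_⟩
    obtain ⟨l, hml, hl⟩ := ha m (ha₀.trans hm)
    refine ⟨m' l, hml.trans (hm' l), fun k h hk x hx hx0 => ?_⟩
    have hlk : l ≤ k := (hm' l).trans hk
    obtain ⟨xk, rfl⟩ := hx
    obtain ⟨J₀, hJ₀T, ζ₀, rfl⟩ := exists_rep_T T i _ xk
    generalize hm₀ : (m'^[e + 1]) a₀ = m₀ at *
    have hm₀k : m₀ ≤ k := hm.trans h
    have hm₀l : m₀ ≤ l := hm.trans hml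
    -- the image in `H_T(M m₀)` vanishes
    have hx0' : ((toT T J₀ hJ₀T i).app _).hom
        (((localCohomology J₀ i).map (ModuleCat.ofHom (φ k m₀ hm₀k))).hom ζ₀) = 0 := by
      rw [toT_nat, ← map_map M φ hφ (HTf T i) k m m₀ hm h]
      exact hx0
    obtain ⟨J, hle, hJT, hz⟩ := toT_eq_zero T J₀ hJ₀T i _ _ hx0'
    set ζ := ((Dual2.HmapOfLE hle i).app _).hom ζ₀ with hζ
    have hζ0 : ((localCohomology J i).map (ModuleCat.ofHom (φ k m₀ hm₀k))).hom ζ = 0 := by
      rw [hζ, ← hmap_nat]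
      exact hz
    have hxk : ((toT T J hJT i).app _).hom ζ = ((toT T J₀ hJ₀T i).app _).hom ζ₀ := by
      rw [hζ, toT_hmap]
    set ζl := ((localCohomology J i).map (ModuleCat.ofHom (φ k l hlk))).hom ζ with hζl
    -- the annihilator of `ζl` avoids all minimal primes of `J`
    let I' : Ideal A := LinearMap.ker (LinearMap.toSpanSingleton A _ ζl)
    have hI' : ∀ P ∈ J.minimalPrimes, ¬ I' ≤ P := by
      intro P hP hle'
      haveI : P.IsPrime := hP.1.1
      have hPT : (⟨P, hP.1.1⟩ : PrimeSpectrum A) ∈ T₀ := hT (hJT hP.1.2)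
      have hrad := CW3.radical_map_of_minimal J P hP
      have hc1 : CW6.lam P J hrad i _ ζl ∈ LinearMap.range ((localCohomology
          (IsLocalRing.maximalIdeal (Localization.AtPrime P)) i).map (ModuleCat.ofHom
            (LocalizedModule.map P.primeCompl (φ k l hlk)))).hom :=
        ⟨CW6.lam P J hrad i _ ζ, (CW6.lam_nat P J hrad i (ModuleCat.ofHom (φ k l hlk)) ζ).symm⟩
      have hc1' : CW6.lam P J hrad i _ ζl ∈ LinearMap.range ((localCohomology
          (IsLocalRing.maximalIdeal (Localization.AtPrime P)) i).map (ModuleCat.ofHom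
            (LocalizedModule.map P.primeCompl (φ (m' l) l (hm' l))))).hom := by
        have := h2 ⟨P, hP.1.1⟩ hPT l k hlk hk
        exact this ▸ hc1
      have hc2 : ((localCohomology (IsLocalRing.maximalIdeal (Localization.AtPrime P)) i).map
          (ModuleCat.ofHom (LocalizedModule.map P.primeCompl (φ l 0 (Nat.zero_le l))))).hom
          (CW6.lam P J hrad i _ ζl) = 0 := by
        have e1 := CW6.lam_nat P J hrad i (ModuleCat.ofHom (φ l 0 (Nat.zero_le l))) ζl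
        have e2 : ((localCohomology J i).map (ModuleCat.ofHom (φ l 0 (Nat.zero_le l)))).hom ζl =
            0 := by
          rw [hζl, map_map M φ hφ (localCohomology J i) k l 0 (Nat.zero_le l) hlk,
            ← map_map M φ hφ (localCohomology J i) k m₀ 0 (Nat.zero_le m₀) hm₀k, hζ0, map_zero]
        rw [e2, CW6.lam_zero] at e1
        exact e1.symm
      have hc0 := h3 ⟨P, hP.1.1⟩ hPT l _ hc1' hc2
      obtain ⟨f, hfP, hf⟩ := CW6.exists_of_lam_eq_zero P J hrad i _ ζl hc0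
      exact hfP (hle' (by
        show LinearMap.toSpanSingleton A _ ζl f = 0
        rw [LinearMap.toSpanSingleton_apply]
        exact hf))
    obtain ⟨f, hfI, hf⟩ := CW3.exists_mem_not_mem_minimalPrimes J I' hI'
    have hfζ : f • ζl = 0 := by
      have : LinearMap.toSpanSingleton A _ ζl f = 0 := hfI
      rwa [LinearMap.toSpanSingleton_apply] at this
    obtain ⟨ζl', hζl'⟩ := (Groth.Agent.Helper1.LocCohLES.mem_range_hmap_iff J f i
      (ModuleCat.of A (M l)) ζl).2 ⟨1, by rwa [pow_one]⟩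
    have hV : PrimeSpectrum.zeroLocus ((J ⊔ Ideal.span {f} : Ideal A) : Set A) ⊆ nm T :=
      zeroLocus_sup_subset_nm T J hJT f (fun P hP _ => hf P hP)
    set al := ((toT (nm T) (J ⊔ Ideal.span {f}) hV i).app _).hom ζl' with hal
    have hζl'' : ((Dual2.HmapOfLE (le_sup_left : J ≤ J ⊔ Ideal.span {f}) i).app _).hom ζl' = ζl :=
      hζl'
    have hmapal : ((mapT (nm_subset T) i).app _).hom al =
        ((HTf T i).map (ModuleCat.ofHom (φ k l hlk))).hom
          (((toT T J₀ hJ₀T i).app _).hom ζ₀) := by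
      rw [hal, mapT_toT, ← toT_hmap T (le_sup_left : J ≤ J ⊔ Ideal.span {f}) hJT i _ ζl', hζl'',
        hζl, toT_nat, hxk]
    have hker : ((mapT (nm_subset T) i).app _).hom
        (((HTf (nm T) i).map (ModuleCat.ofHom (φ l m₀ hm₀l))).hom al) = 0 := by
      rw [mapT_nat, hmapal, map_map M φ hφ (HTf T i) k l m₀ hm₀l hlk, ← toT_nat]
      exact hx0'
    have hch' : ∀ s : LTSeries T, s.length < e + 1 := hch
    have hk₀ : (m'^[e + 1]) a₀ ≤ m₀ := hm₀.le
    have hpz := ker_mapT_prozero M φ hφ i m' hm' T₀ h1 T hT (e + 1) hch' a₀ m₀ ha₀ hk₀ _ hker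
    have ham0 : ((HTf (nm T) i).map (ModuleCat.ofHom (φ m a₀ (ha₀.trans hm)))).hom
        (((HTf (nm T) i).map (ModuleCat.ofHom (φ l m hml))).hom al) = 0 := by
      rw [map_map M φ hφ (HTf (nm T) i) l m a₀ (ha₀.trans hm) hml,
        ← map_map M φ hφ (HTf (nm T) i) l m₀ a₀ ha₀ hm₀l]
      exact hpz
    have ham := hl l hml le_rfl _ ⟨al, rfl⟩ ham0
    rw [← map_map M φ hφ (HTf T i) k l m hml hlk, ← hmapal, ← mapT_nat, ham, map_zero]

end system

end Groth.Agent.Helper9.CW7
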