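import Mathlib
import Groth.Agent.Helper6.LD9
import Groth.Agent.Helper6.LD3
import Groth.Agent.Helper6.LcD7

/-!
# Vanishing of `H^0_I(ω)` forces `(I^l : 𝔪^∞) ⊆ I^n`
-/

set_option autoImplicit false
set_option linter.unusedSectionVars false
set_option linter.style.haveILetI false

universe u
open CategoryTheory CategoryTheory.Limits Pretriangulated DerivedCategory
attribute [local instance] HasDerivedCategory.standard

namespace Groth.Agent.Helper9.CX1

open IsLocalRing Groth.Agent.Helper6.LD Groth.Agent.Helper6.LcD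

variable {A : Type u} [CommRing A] [IsLocalRing A] [IsNoetherianRing A]
variable (ω : Dual.D A) (hω : Dual.IsDualizing A ω) (hn : Dual.IsNormalized A ω)

include hω hn in
/-- `N ↦ Hom_D(N, ω)` is faithful on modules of finite length. -/
lemma eq_zero_of_Tmap_eq_zero {N N' : Type u} [AddCommGroup N] [Module A N] [AddCommGroup N']
    [Module A N'] (hN : IsFiniteLength A N) (hN' : IsFiniteLength A N') (ρ : N →ₗ[A] N')
    (h : Tmap ω ρ = 0) : ρ = 0 := by
  obtain ⟨hNn, hNa⟩ := isFiniteLength_iff_isNoetherian_isArtinian.mp hN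
  obtain ⟨hN'n, hN'a⟩ := isFiniteLength_iff_isNoetherian_isArtinian.mp hN'
  set K : Submodule A N' := LinearMap.range ρ with hK
  have hKfl : IsFiniteLength A K :=
    isFiniteLength_iff_isNoetherian_isArtinian.mpr ⟨inferInstance, inferInstance⟩
  have hQfl : IsFiniteLength A (N' ⧸ K) :=
    isFiniteLength_iff_isNoetherian_isArtinian.mpr ⟨inferInstance, inferInstance⟩
  have hkerfl : IsFiniteLength A (LinearMap.ker ρ) :=
    isFiniteLength_iff_isNoetherian_isArtinian.mpr ⟨inferInstance, inferInstance⟩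
  have hfac : ρ = K.subtype ∘ₗ ρ.rangeRestrict := rfl
  have hsurj : Function.Surjective (Tmap ω K.subtype) :=
    Tmap_surjective' ω K.subtype K.mkQ K.injective_subtype K.mkQ_surjective
      (LinearMap.exact_subtype_mkQ K)
      (vanish_of_finiteLength (ω⟦(1 : ℤ)⟧) (hn 1 one_ne_zero) _ hQfl)
  have hex : Function.Exact (LinearMap.ker ρ).subtype ρ.rangeRestrict := by
    intro y
    constructor
    · intro hy
      have : ρ y = 0 := congrArg Subtype.val hy
      exact ⟨⟨y, this⟩, rfl⟩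
    · rintro ⟨z, rfl⟩
      exact Subtype.ext z.2
  have hinj : Function.Injective (Tmap ω ρ.rangeRestrict) :=
    Tmap_injective' ω (LinearMap.ker ρ).subtype ρ.rangeRestrict
      (LinearMap.ker ρ).injective_subtype (LinearMap.surjective_rangeRestrict ρ) hex
      (vanish_of_finiteLength (ω⟦(-1 : ℤ)⟧) (hn (-1) (by omega)) _ hkerfl)
  have hsub : Subsingleton (Dual.inD A K ⟶ ω) := by
    refine subsingleton_of_forall_eq 0 fun z => ?_
    obtain ⟨w, rfl⟩ := hsurj z
    apply hinj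
    rw [map_zero]
    have := LinearMap.congr_fun h w
    rw [hfac, Tmap_comp] at this
    exact this
  obtain ⟨φκ⟩ := hom_residue_normalized ω hω hn
  have hlen := length_T ω (hn (-1) (by omega)) (hn 1 one_ne_zero) φκ K hKfl
  rw [Module.length_eq_zero] at hlen
  have hKs : Subsingleton K := Module.length_eq_zero_iff.mp hlen.symm
  apply LinearMap.ext
  intro y
  have : (⟨ρ y, LinearMap.mem_range_self ρ y⟩ : K) = 0 := Subsingleton.elim _ _
  exact congrArg Subtype.val this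

variable (I : Ideal A)

include hω in
lemma finite_hom (M : Type u) [AddCommGroup M] [Module A M] [Module.Finite A M] :
    Module.Finite A (Dual.inD A M ⟶ ω) := by
  haveI := finite_ext_dualizing ω hω M 0
  exact Module.Finite.equiv
    (Linear.homCongr A (Iso.refl (Dual.inD A M)) ((shiftFunctorZero (Dual.D A) ℤ).app ω))

lemma Tmap_πJ_eq_zero_of_le (n l l' : ℕ) (h : n ≤ l) (h' : l ≤ l')
    (y : Dual.inD A (A ⧸ I ^ n) ⟶ ω) (hy : Tmap ω (πJ I n l h) y = 0) :
    Tmap ω (πJ I n l' (h.trans h')) y = 0 := by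
  rw [← πJ_trans I n l l' h h', Tmap_comp, LinearMap.comp_apply, hy, map_zero]

lemma exists_level_elt (h0 : Subsingleton (Dual2.HDI A I ω 0)) (n : ℕ)
    (y : Dual.inD A (A ⧸ I ^ n) ⟶ ω) : ∃ (l : ℕ) (h : n ≤ l), Tmap ω (πJ I n l h) y = 0 := by
  let e := (shiftFunctorZero (Dual.D A) ℤ).app ω
  let y₀ : GH I ω 0 n := y ≫ e.inv
  have hy₀ : hdiι I ω 0 n y₀ = 0 := Subsingleton.elim _ _
  obtain ⟨l, h, hl⟩ := hdi_eq_zero I ω 0 n y₀ hy₀
  refine ⟨l, h, ?_⟩
  rw [gmap_apply] at hl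
  rw [Tmap_apply]
  have : ((singleFunctor (ModuleCat.{u} A) 0).map (ModuleCat.ofHom (πJ I n l h)) ≫ y₀) ≫ e.hom =
      0 := by
    rw [hl, zero_comp]
  simpa [y₀, Category.assoc] using this

include hω in
/-- all of `Hom_D(A/I^n, ω)` dies at a later level. -/
lemma exists_level (h0 : Subsingleton (Dual2.HDI A I ω 0)) (n : ℕ) :
    ∃ (l : ℕ) (h : n ≤ l), Tmap ω (πJ I n l h) = 0 := by
  classical
  haveI := finite_hom ω hω (A ⧸ I ^ n)
  obtain ⟨s, hs⟩ := (Module.Finite.fg_top (R := A) (M := Dual.inD A (A ⧸ I ^ n) ⟶ ω))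
  choose l hl hl0 using fun y => exists_level_elt ω I h0 n y
  refine ⟨n + s.sup l, Nat.le_add_right _ _, ?_⟩
  have hker : (⊤ : Submodule A (Dual.inD A (A ⧸ I ^ n) ⟶ ω)) ≤
      LinearMap.ker (Tmap ω (πJ I n (n + s.sup l) (Nat.le_add_right _ _))) := by
    rw [← hs, Submodule.span_le]
    intro y hy
    have h1 : l y ≤ n + s.sup l := (Finset.le_sup (f := l) hy).trans (Nat.le_add_left _ _)
    exact LinearMap.mem_ker.mpr (Tmap_πJ_eq_zero_of_le ω I n (l y) _ (hl y) h1 y (hl0 y))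
  apply LinearMap.ext
  intro y
  exact LinearMap.mem_ker.mp (hker Submodule.mem_top)

include hω hn in
/-- **Key consequence of `H^0_I(ω) = 0`.** -/
theorem colon_le (h0 : Subsingleton (Dual2.HDI A I ω 0)) (n : ℕ) :
    ∃ l : ℕ, n ≤ l ∧ ∀ (k : ℕ) (x : A), (∀ a ∈ maximalIdeal A ^ k, a * x ∈ I ^ l) → x ∈ I ^ n := by
  obtain ⟨l, h, hl⟩ := exists_level ω hω I h0 n
  refine ⟨l, h, fun k x hx => ?_⟩
  let Nl : Submodule A (A ⧸ I ^ l) :=
    Submodule.torsionBySet A (A ⧸ I ^ l) ((maximalIdeal A ^ k : Ideal A) : Set A)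
  let Nn : Submodule A (A ⧸ I ^ n) :=
    Submodule.torsionBySet A (A ⧸ I ^ n) ((maximalIdeal A ^ k : Ideal A) : Set A)
  have hNl : IsFiniteLength A Nl :=
    isFiniteLength_of_killed (maximalIdeal A ^ k) k le_rfl Nl (fun r hr y =>
      Subtype.ext ((Submodule.mem_torsionBySet_iff _ _).mp y.2 ⟨r, hr⟩))
  have hNn : IsFiniteLength A Nn :=
    isFiniteLength_of_killed (maximalIdeal A ^ k) k le_rfl Nn (fun r hr y =>
      Subtype.ext ((Submodule.mem_torsionBySet_iff _ _).mp y.2 ⟨r, hr⟩))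
  let ρ : Nl →ₗ[A] Nn := LinearMap.restrict (πJ I n l h) (fun y hy => by
    rw [Submodule.mem_torsionBySet_iff] at hy ⊢
    intro a
    rw [← map_smul, hy a, map_zero])
  have hρ : Nn.subtype ∘ₗ ρ = πJ I n l h ∘ₗ Nl.subtype := rfl
  have hsurj : Function.Surjective (Tmap ω Nn.subtype) :=
    Tmap_surjective' ω Nn.subtype Nn.mkQ Nn.injective_subtype Nn.mkQ_surjective
      (LinearMap.exact_subtype_mkQ Nn) (ext_vanish_pos ω hω hn _ 1 one_pos)
  have hTρ : Tmap ω ρ = 0 := by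
    apply LinearMap.ext
    intro z
    obtain ⟨w, rfl⟩ := hsurj z
    have h1 : Tmap ω ρ (Tmap ω Nn.subtype w) = Tmap ω (Nn.subtype ∘ₗ ρ) w := by
      rw [Tmap_comp]
      rfl
    rw [h1, hρ, Tmap_comp, LinearMap.comp_apply, hl]
    simp
  have hρ0 := eq_zero_of_Tmap_eq_zero ω hω hn hNl hNn ρ hTρ
  have hxmem : (Submodule.Quotient.mk x : A ⧸ I ^ l) ∈ Nl := by
    rw [Submodule.mem_torsionBySet_iff]
    rintro ⟨a, ha⟩
    show a • (Submodule.Quotient.mk x : A ⧸ I ^ l) = 0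
    rw [← Submodule.Quotient.mk_smul, smul_eq_mul]
    exact (Submodule.Quotient.mk_eq_zero _).mpr (hx a ha)
  have h2 := congrArg Subtype.val (LinearMap.congr_fun hρ0 ⟨_, hxmem⟩)
  exact (Submodule.Quotient.mk_eq_zero _).mp h2

end Groth.Agent.Helper9.CX1
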