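import Mathlib

/-!
# Flat base change of colon ideals; bad minimal primes give `𝔪`-power torsion modulo all `𝔍^l`
-/

set_option autoImplicit false
set_option linter.unusedSectionVars false
set_option linter.style.haveILetI false

universe u

namespace Groth.Agent.Helper9.CX2

open TensorProduct IsLocalRing

section Colon

variable {A B : Type u} [CommRing A] [CommRing B] [Algebra A B]

lemma tmul_mk_eq_zero (J : Ideal A) (b : B) (hb : b ∈ J • (⊤ : Submodule A B)) :
    b ⊗ₜ[A] (Submodule.Quotient.mk (1 : A) : A ⧸ J) = 0 := by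
  refine Submodule.smul_induction_on hb ?_ ?_
  · intro g hg b' _
    rw [TensorProduct.smul_tmul, ← Submodule.Quotient.mk_smul, smul_eq_mul, mul_one,
      (Submodule.Quotient.mk_eq_zero J).mpr hg, TensorProduct.tmul_zero]
  · intro x y hx hy
    rw [TensorProduct.add_tmul, hx, hy, add_zero]

/-- Flat base change of colon ideals, in the form needed: if `K` is finitely generated,
`(J : K) ⊆ J'` and `K y ⊆ J B` then `y ∈ J' B`. -/
theorem mem_map_of_flat_colon [Module.Flat A B] (J K J' : Ideal A) (hK : K.FG)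
    (hJ' : ∀ c : A, (∀ a ∈ K, a * c ∈ J) → c ∈ J') (y : B)
    (hy : ∀ a ∈ K, algebraMap A B a * y ∈ J.map (algebraMap A B)) :
    y ∈ J'.map (algebraMap A B) := by
  classical
  obtain ⟨r, κ, hκ⟩ := Submodule.fg_iff_exists_fin_generating_family.1 hK
  have hκK : ∀ j, κ j ∈ K := fun j => by
    rw [← hκ]
    exact Submodule.subset_span ⟨j, rfl⟩
  let φ : A →ₗ[A] (Fin r → A ⧸ J) :=
    LinearMap.pi (fun j => J.mkQ ∘ₗ LinearMap.mulLeft A (κ j))
  have hφ : ∀ (c : A) (j : Fin r), φ c j = Submodule.Quotient.mk (κ j * c) := fun c j => rfl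
  have hker : ∀ c ∈ LinearMap.ker φ, c ∈ J' := by
    intro c hc
    apply hJ'
    have hc' : ∀ j, κ j * c ∈ J := fun j => by
      have := congrFun (LinearMap.mem_ker.mp hc) j
      rw [hφ] at this
      exact (Submodule.Quotient.mk_eq_zero J).mp this
    intro a ha
    rw [← hκ] at ha
    refine Submodule.span_induction ?_ ?_ ?_ ?_ ha
    · rintro _ ⟨j, rfl⟩
      exact hc' j
    · simp
    · intro x y _ _ hx hy
      rw [add_mul]
      exact J.add_mem hx hy
    · intro t x _ hx
      rw [smul_eq_mul, mul_assoc]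
      exact J.mul_mem_left t hx
  -- `y ⊗ 1` is killed by `B ⊗ φ`
  have h1 : (LinearMap.lTensor B φ) (y ⊗ₜ[A] (1 : A)) = 0 := by
    rw [LinearMap.lTensor_tmul]
    have e : φ 1 = ∑ j, (LinearMap.single A (fun _ : Fin r => A ⧸ J) j)
        (Submodule.Quotient.mk (κ j)) := by
      ext j
      rw [hφ, mul_one, Finset.sum_apply]
      simp [Pi.single_apply]
    rw [e, TensorProduct.tmul_sum]
    refine Finset.sum_eq_zero fun j _ => ?_
    have h2 : y ⊗ₜ[A] (Submodule.Quotient.mk (κ j) : A ⧸ J) = 0 := by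
      have h3 : (Submodule.Quotient.mk (κ j) : A ⧸ J) = κ j • Submodule.Quotient.mk 1 := by
        rw [← Submodule.Quotient.mk_smul, smul_eq_mul, mul_one]
      rw [h3, ← TensorProduct.smul_tmul]
      apply tmul_mk_eq_zero
      rw [Ideal.smul_top_eq_map]
      have := hy (κ j) (hκK j)
      rw [Algebra.smul_def]
      exact this
    have h4 : y ⊗ₜ[A] (LinearMap.single A (fun _ : Fin r => A ⧸ J) j)
        (Submodule.Quotient.mk (κ j)) =
        (LinearMap.lTensor B (LinearMap.single A (fun _ : Fin r => A ⧸ J) j))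
          (y ⊗ₜ[A] (Submodule.Quotient.mk (κ j) : A ⧸ J)) := by
      rw [LinearMap.lTensor_tmul]
    rw [h4, h2, map_zero]
  have hex := Module.Flat.lTensor_exact B (LinearMap.exact_subtype_ker_map φ)
  obtain ⟨z, hz⟩ := (hex _).mp h1
  have h2 : y = (TensorProduct.rid A B) ((LinearMap.lTensor B (LinearMap.ker φ).subtype) z) := by
    rw [hz, TensorProduct.rid_tmul, one_smul]
  rw [h2]
  clear h2 hz
  induction z using TensorProduct.induction_on with
  | zero => simp
  | tmul b c =>
    rw [LinearMap.lTensor_tmul, TensorProduct.rid_tmul, Submodule.subtype_apply, Algebra.smul_def]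
    exact Ideal.mul_mem_right _ _ (Ideal.mem_map_of_mem _ (hker c.1 c.2))
  | add z z' hz hz' =>
    rw [map_add, map_add]
    exact Ideal.add_mem _ hz hz'

end Colon

section Bad

variable {B : Type u} [CommRing B] [IsNoetherianRing B] [IsLocalRing B]

lemma sup_pow_le (J K : Ideal B) (n : ℕ) : (J ⊔ K) ^ n ≤ J ^ n ⊔ K := by
  induction n with
  | zero => simp
  | succ n ih =>
    rw [pow_succ]
    refine (Ideal.mul_mono_left ih).trans ?_
    rw [Ideal.sup_mul, Ideal.mul_sup, Ideal.mul_sup, ← pow_succ]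
    refine sup_le (sup_le le_sup_left (le_sup_of_le_right Ideal.mul_le_right)) ?_
    exact sup_le (le_sup_of_le_right Ideal.mul_le_left) (le_sup_of_le_right Ideal.mul_le_left)

/-- A minimal prime `p` with `𝔍 + p` primary to the maximal ideal produces a nonzero element
which is `𝔪`-power torsion modulo every power of `𝔍`. -/
theorem exists_ne_zero_of_bad (𝔍 p : Ideal B) (hp : p ∈ minimalPrimes B)
    (h𝔍 : 𝔍 ≤ maximalIdeal B) (hdim : ¬ (1 ≤ ringKrullDim (B ⧸ (𝔍 ⊔ p)))) :
    ∃ y : B, y ≠ 0 ∧ ∀ l : ℕ, ∃ k : ℕ, ∀ a ∈ maximalIdeal B ^ k, a * y ∈ 𝔍 ^ l := by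
  have hpp : p.IsPrime := hp.1.1
  have hpm : p ≤ maximalIdeal B := IsLocalRing.le_maximalIdeal hpp.ne_top
  have hle : 𝔍 ⊔ p ≤ maximalIdeal B := sup_le h𝔍 hpm
  have hne : 𝔍 ⊔ p ≠ ⊤ := fun h => (Ideal.IsPrime.ne_top inferInstance : maximalIdeal B ≠ ⊤)
    (top_le_iff.mp (h ▸ hle))
  haveI : Nontrivial (B ⧸ (𝔍 ⊔ p)) := Ideal.Quotient.nontrivial_iff.mpr hne
  -- dimension zero
  have hd0 : ringKrullDim (B ⧸ (𝔍 ⊔ p)) ≤ 0 := by
    rw [not_le] at hdim
    cases h : ringKrullDim (B ⧸ (𝔍 ⊔ p)) with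
    | bot => exact bot_le
    | coe n =>
      rw [h] at hdim
      have h1 : n < 1 := by exact_mod_cast hdim
      have h2 : n = 0 := Order.lt_one_iff.mp h1
      rw [h2]
      rfl
  haveI : Ring.KrullDimLE 0 (B ⧸ (𝔍 ⊔ p)) := (Ring.krullDimLE_iff).mpr (by simpa using hd0)
  -- radical
  have hrad : maximalIdeal B ≤ (𝔍 ⊔ p).radical := by
    rw [Ideal.radical_eq_sInf]
    refine le_sInf ?_
    rintro q ⟨hq, hqp⟩
    haveI := hqp
    have hq' : (q.map (Ideal.Quotient.mk (𝔍 ⊔ p))).IsPrime :=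
      Ideal.map_isPrime_of_surjective Ideal.Quotient.mk_surjective (by
        rw [Ideal.mk_ker]
        exact hq)
    have hmax : (q.map (Ideal.Quotient.mk (𝔍 ⊔ p))).IsMaximal := Ideal.isMaximal_of_isPrime _
    have hcomap : (q.map (Ideal.Quotient.mk (𝔍 ⊔ p))).comap (Ideal.Quotient.mk (𝔍 ⊔ p)) = q := by
      rw [Ideal.comap_map_of_surjective _ Ideal.Quotient.mk_surjective, ← RingHom.ker_eq_comap_bot,
        Ideal.mk_ker]
      exact sup_eq_left.mpr hq
    have hqmax : q.IsMaximal := by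
      rw [← hcomap]
      exact Ideal.comap_isMaximal_of_surjective _ Ideal.Quotient.mk_surjective
    exact (IsLocalRing.eq_maximalIdeal hqmax).ge
  obtain ⟨K, hK⟩ := Ideal.exists_pow_le_of_le_radical_of_fg hrad
    ((isNoetherianRing_iff_ideal_fg B).mp inferInstance _)
  -- the element
  have hass : p ∈ associatedPrimes B B := by
    apply Module.associatedPrimes.minimalPrimes_annihilator_subset_associatedPrimes B B
    have : Module.annihilator B B = ⊥ := Module.annihilator_eq_bot.mpr inferInstance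
    rw [this]
    exact hp
  obtain ⟨_, y, hy⟩ := (Submodule.isAssociatedPrime_iff).mp hass
  have hy0 : y ≠ 0 := by
    rintro rfl
    apply hpp.ne_top
    rw [hy, Ideal.eq_top_iff_one, Submodule.mem_colon_singleton]
    simp
  refine ⟨y, hy0, fun l => ⟨K * l, fun a ha => ?_⟩⟩
  have h1 : a ∈ 𝔍 ^ l ⊔ p := by
    apply sup_pow_le 𝔍 p l
    rw [pow_mul] at ha
    exact Ideal.pow_right_mono hK l ha
  obtain ⟨j, hj, π, hπ, rfl⟩ := Submodule.mem_sup.mp h1
  have hπy : π * y = 0 := by
    rw [hy, Submodule.mem_colon_singleton] at hπ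
    simpa using hπ
  rw [add_mul, hπy, add_zero]
  exact Ideal.mul_mem_right _ _ hj

end Bad

end Groth.Agent.Helper9.CX2
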