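import Mathlib
import Groth.Agent.Helper9.CX1
import Groth.Agent.Helper9.CX2
import Groth.Agent.Helper9.CW3
import Groth.Agent.Helper1.HLVT5

/-!
# `H^0_I(ω) = 0` implies `cd(A, I) < dim A`
-/

set_option autoImplicit false
set_option linter.unusedSectionVars false
set_option linter.style.haveILetI false

universe u
open CategoryTheory
attribute [local instance] HasDerivedCategory.standard

namespace Groth.Agent.Helper9.CX3

open IsLocalRing

variable {A : Type u} [CommRing A] [IsLocalRing A] [IsNoetherianRing A]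

theorem main (ω : Dual.D A) (hω : Dual.IsDualizing A ω) (hn : Dual.IsNormalized A ω)
    (I : Ideal A) (h0 : Subsingleton (Dual2.HDI A I ω 0)) (M : Type u) [AddCommGroup M]
    [Module A M] (i : ℕ) (hi : ringKrullDim A ≤ (i : WithBot ℕ∞)) :
    Subsingleton (LocCoh.H I i M) := by
  by_cases hI : I = ⊤
  · subst hI
    exact ⟨fun x y => (Groth.Agent.Helper9.CW3.lc_top_eq_zero i _ x).trans
      (Groth.Agent.Helper9.CW3.lc_top_eq_zero i _ y).symm⟩
  have hIm : I ≤ maximalIdeal A := IsLocalRing.le_maximalIdeal hI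
  -- the dimension is a natural number
  obtain ⟨d, hd⟩ : ∃ d : ℕ, ringKrullDim A = d := by
    have h1 : ringKrullDim A ≠ ⊤ := ringKrullDim_ne_top
    have h2 : ringKrullDim A ≠ ⊥ := ringKrullDim_ne_bot
    cases h : ringKrullDim A with
    | bot => exact absurd h h2
    | coe n =>
      cases n with
      | top => exact absurd h h1
      | coe m => exact ⟨m, rfl⟩
  have hdi : d ≤ i := by
    rw [hd] at hi
    exact_mod_cast hi
  refine Groth.Agent.Helper1.HLVT.hlvt A I d hd ?_ M i hdi
  intro p hp _
  by_contra hcon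
  set B := AdicCompletion (maximalIdeal A) A with hB
  have hIB : I.map (algebraMap A B) ≤ maximalIdeal B := by
    rw [Ideal.map_le_iff_le_comap]
    intro a ha
    have ham : a ∈ maximalIdeal A := hIm ha
    rw [Ideal.mem_comap, IsLocalRing.mem_maximalIdeal, mem_nonunits_iff]
    intro hu
    exact (IsLocalRing.mem_maximalIdeal a).mp ham (isUnit_of_map_unit (algebraMap A B) a hu)
  obtain ⟨y, hy0, hy⟩ := Groth.Agent.Helper9.CX2.exists_ne_zero_of_bad
    (I.map (algebraMap A B)) p hp hIB hcon
  -- `y` lies in all powers of `I B`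
  have hmem : ∀ n : ℕ, y ∈ (I.map (algebraMap A B)) ^ n := by
    intro n
    obtain ⟨l, _, hl⟩ := Groth.Agent.Helper9.CX1.colon_le ω hω hn I h0 n
    obtain ⟨k, hk⟩ := hy l
    rw [← Ideal.map_pow]
    refine Groth.Agent.Helper9.CX2.mem_map_of_flat_colon (I ^ l) (maximalIdeal A ^ k) (I ^ n)
      ((isNoetherianRing_iff_ideal_fg A).mp inferInstance _) (fun c hc => hl k c hc) y ?_
    intro a ha
    rw [Ideal.map_pow]
    apply hk
    have h1 : (maximalIdeal A).map (algebraMap A B) ≤ maximalIdeal B := by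
      rw [Ideal.map_le_iff_le_comap]
      intro a ha
      rw [Ideal.mem_comap, IsLocalRing.mem_maximalIdeal, mem_nonunits_iff]
      intro hu
      exact (IsLocalRing.mem_maximalIdeal a).mp ha (isUnit_of_map_unit (algebraMap A B) a hu)
    have h2 : algebraMap A B a ∈ ((maximalIdeal A).map (algebraMap A B)) ^ k := by
      rw [← Ideal.map_pow]
      exact Ideal.mem_map_of_mem _ ha
    exact Ideal.pow_right_mono h1 k h2
  have hne : I.map (algebraMap A B) ≠ ⊤ := fun h =>
    (Ideal.IsPrime.ne_top inferInstance : maximalIdeal B ≠ ⊤) (top_le_iff.mp (h ▸ hIB))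
  have hbot := Ideal.iInf_pow_eq_bot_of_isLocalRing (I.map (algebraMap A B)) hne
  have : y ∈ (⨅ n : ℕ, (I.map (algebraMap A B)) ^ n) := by
    rw [Ideal.mem_iInf]
    exact hmem
  rw [hbot] at this
  exact hy0 this

end Groth.Agent.Helper9.CX3
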