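import Mathlib
import Groth.Agent.Helper2.ExcCplNor
import Groth.Agent.Helper2.PrimeCpl
import Groth.Agent.Helper1.HLVT5

/-!
# Excellent normal local rings: `cd(A, I) < dim A` when `dim A/I ≥ 1`
-/

set_option autoImplicit false
set_option linter.unusedSectionVars false
set_option linter.style.haveILetI false

universe u

namespace Groth.Agent.Helper9.CY1

open IsLocalRing TensorProduct

variable (A : Type u) [CommRing A] [IsDomain A] [IsLocalRing A] [IsNoetherianRing A]
  [IsIntegrallyClosed A]

/-- The completion of an excellent normal local domain is a normal ring. -/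
theorem isNormalRing_completion (hexc : EGA4.IsExcellent A) :
    EGA4.IsNormalRing (AdicCompletion (maximalIdeal A) A) := by
  obtain ⟨hN, -, hG, -⟩ := hexc
  have hreg := Groth.Agent.S0600.result A hG (maximalIdeal A)
  have hNH := Groth.Agent.Helper2.CplDesc.isNormalHom_of_isRegularHom _ _ hreg
  haveI : Module.Flat A (AdicCompletion (maximalIdeal A) A) := hNH.1
  have hnor : EGA4.IsNormalRing A :=
    Groth.Agent.Helper2.NorGen4.isNormalRing_of_isIntegrallyClosed A
  refine Groth.Agent.Helper2.GeomNor2.isNormalRing_of_flat A _ hnor ?_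
  intro p hp
  have h1 := Groth.Agent.Helper2.NorGen2.normal_of_isGeomNormal _ _ (hNH.2 p) p.ResidueField
  exact Groth.Agent.Helper2.GeomNor.isNormalRing_of_ringEquiv
    (Algebra.TensorProduct.lid p.ResidueField _).toRingEquiv h1

/-- A local normal ring is a domain. -/
theorem isDomain_of_isNormalRing_of_isLocalRing (B : Type u) [CommRing B] [IsLocalRing B]
    (h : EGA4.IsNormalRing B) : IsDomain B := by
  obtain ⟨hd, -⟩ := h (maximalIdeal B)
  have hinj : Function.Injective (algebraMap B (Localization.AtPrime (maximalIdeal B))) := by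
    apply IsLocalization.injective (M := (maximalIdeal B).primeCompl)
    intro x hx
    have hu : IsUnit x := by
      by_contra hnu
      exact hx ((IsLocalRing.mem_maximalIdeal x).mpr hnu)
    exact hu.mem_nonZeroDivisors
  exact hinj.isDomain _

/-- The completion of an excellent normal local domain is a domain. -/
theorem isDomain_completion (hexc : EGA4.IsExcellent A) :
    IsDomain (AdicCompletion (maximalIdeal A) A) :=
  isDomain_of_isNormalRing_of_isLocalRing _ (isNormalRing_completion A hexc)

omit [IsDomain A] [IsIntegrallyClosed A] in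
/-- `dim Â/IÂ = dim A/I`. -/
theorem ringKrullDim_completion_quotient (I : Ideal A) (hI : I ≠ ⊤) :
    ringKrullDim (AdicCompletion (maximalIdeal A) A ⧸
      I.map (algebraMap A (AdicCompletion (maximalIdeal A) A))) = ringKrullDim (A ⧸ I) := by
  haveI : Nontrivial (A ⧸ I) := Ideal.Quotient.nontrivial_iff.mpr hI
  haveI : IsLocalRing (A ⧸ I) :=
    IsLocalRing.of_surjective' (Ideal.Quotient.mk I) Ideal.Quotient.mk_surjective
  obtain ⟨e⟩ := Groth.Agent.Helper2.CplQuot.nonempty_algEquiv A I
  let e' : (EGA4.Cpl A ⧸ I.map (algebraMap A (EGA4.Cpl A))) ≃+* EGA4.Cpl (A ⧸ I) :=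
    ((Algebra.TensorProduct.quotIdealMapEquivTensorQuot (EGA4.Cpl A) I).toRingEquiv.trans
      (Algebra.TensorProduct.comm A (EGA4.Cpl A) (A ⧸ I)).toRingEquiv).trans e.toRingEquiv
  have h1 : ringKrullDim (EGA4.Cpl A ⧸ I.map (algebraMap A (EGA4.Cpl A))) =
      ringKrullDim (EGA4.Cpl (A ⧸ I)) := ringKrullDim_eq_of_ringEquiv e'
  have hne : maximalIdeal (A ⧸ I) ≠ ⊤ := Ideal.IsPrime.ne_top inferInstance
  have h2 := (Groth.Agent.Helper6.ComplDim.main_S19474 (A ⧸ I) (maximalIdeal (A ⧸ I)) hne).1
  exact h1.trans h2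

/-- **Part 1 of S1797.** -/
theorem cd_lt_dim (hexc : EGA4.IsExcellent A) (I : Ideal A)
    (hI : (1 : WithBot ℕ∞) ≤ ringKrullDim (A ⧸ I)) (M : Type u) [AddCommGroup M] [Module A M]
    (i : ℕ) (hi : ringKrullDim A ≤ (i : WithBot ℕ∞)) : Subsingleton (LocCoh.H I i M) := by
  have hItop : I ≠ ⊤ := by
    rintro rfl
    haveI : Subsingleton (A ⧸ (⊤ : Ideal A)) := Ideal.Quotient.subsingleton_iff.mpr rfl
    rw [ringKrullDim_eq_bot_of_subsingleton] at hI
    exact absurd hI (by simp)
  obtain ⟨d, hd⟩ : ∃ d : ℕ, ringKrullDim A = d := by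
    have h1 : ringKrullDim A ≠ ⊤ := ringKrullDim_ne_top
    have h2 : ringKrullDim A ≠ ⊥ := ringKrullDim_ne_bot
    cases h : ringKrullDim A with
    | bot => exact absurd h h2
    | coe n =>
      cases n with
      | top => exact absurd h h1
      | coe m => exact ⟨m, rfl⟩
  have hdi : d ≤ i := by
    rw [hd] at hi
    exact_mod_cast hi
  refine Groth.Agent.Helper1.HLVT.hlvt A I d hd ?_ M i hdi
  intro p hp _
  haveI := isDomain_completion A hexc
  have hp0 : p = ⊥ := by
    rw [IsDomain.minimalPrimes_eq_singleton_bot] at hp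
    exact hp
  rw [hp0, sup_bot_eq, ringKrullDim_completion_quotient A I hItop]
  exact hI

end Groth.Agent.Helper9.CY1
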