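import Mathlib
import Groth.Agent.Helper1.PuncAff
import Groth.Agent.Helper1.SerreCritD
import Groth.Agent.S0356

/-!
# The punctured open `Spec A ∖ V(I)` is affine when `H^2_I` vanishes identically
-/

set_option autoImplicit false
set_option linter.unusedSectionVars false
set_option linter.style.haveILetI false

universe u

namespace Groth.Agent.Helper9.CY2

open AlgebraicGeometry CategoryTheory

theorem isAffine_puncturedOpen (A : Type u) [CommRing A] [IsNoetherianRing A] (I : Ideal A)
    (h : ∀ (M : Type u) [AddCommGroup M] [Module A M], Subsingleton (LocCoh.H I 2 M)) :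
    IsAffine ((LocCoh.puncturedOpen A I : (Spec (CommRingCat.of A)).Opens) : Scheme.{u}) := by
  haveI : CompactSpace ((LocCoh.puncturedOpen A I : (Spec (CommRingCat.of A)).Opens) : Scheme.{u}) :=
    QuasiCompact.compactSpace_of_compactSpace (LocCoh.puncturedOpen A I).ι
  apply Groth.Agent.Helper1.SerreCrit.isAffine_of_H1_ideals
  intro N _ _ hN
  haveI : N.IsQuasicoherent := hN
  obtain ⟨M, ⟨e⟩⟩ := Groth.Agent.Helper1.PuncAff.exists_iso_restrict_tilde A
    (LocCoh.puncturedOpen A I) N
  obtain ⟨e1⟩ := Groth.Agent.Helper1.PuncAff.nonempty_HH_equiv e 1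
  obtain ⟨e2⟩ := Groth.Agent.S0356.result A I M 1 le_rfl
  haveI := h M
  exact (e1.trans e2).toEquiv.subsingleton

end Groth.Agent.Helper9.CY2
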