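import Mathlib
import Groth.Agent.Helper1.CechTop

/-! Čech-level maps induced by morphisms of presheaves: elementwise lemmas. -/

set_option autoImplicit false
set_option linter.unusedSectionVars false

namespace Groth.Agent.Helper9.CZ1

open CategoryTheory Limits Opposite TopologicalSpace
open Groth.Agent.Helper1.Cech Groth.Agent.Helper1.CechTop

universe u

variable {X : TopCat.{u}} {ι : Type u} (U : ι → Opens X)

/-- presheaves of abelian groups on a space -/
abbrev PSh (X : TopCat.{u}) := (Opens X)ᵒᵖ ⥤ AddCommGrpCat.{u}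

variable {F F' F'' : PSh X}

/-- the map on Čech cochains induced by a morphism of presheaves -/
noncomputable abbrev cm (φ : F ⟶ F') (p : ℕ) : (cx U F).X p ⟶ (cx U F').X p :=
  ((cechComplexFunctor U).map φ).f p

lemma cm_d (φ : F ⟶ F') (p : ℕ) (c : (cx U F).X p) :
    cm U φ (p + 1) ((cx U F).d p (p + 1) c) = (cx U F').d p (p + 1) (cm U φ p c) := by
  have h := ConcreteCategory.congr_hom (((cechComplexFunctor U).map φ).comm p (p + 1)) c
  rw [ConcreteCategory.comp_apply, ConcreteCategory.comp_apply] at h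
  exact h.symm

lemma d_d (p : ℕ) (c : (cx U F).X p) :
    (cx U F).d (p + 1) (p + 2) ((cx U F).d p (p + 1) c) = 0 := by
  have h := ConcreteCategory.congr_hom ((cx U F).d_comp_d p (p + 1) (p + 2)) c
  rw [ConcreteCategory.comp_apply] at h
  exact h

lemma comp_cm (φ : F ⟶ F') (p : ℕ) (x : Fin (p + 1) → ι) (c : (cx U F).X p) :
    comp U F' p x (cm U φ p c) = φ.app _ (comp U F p x c) :=
  comp_map φ p x c

lemma cm_comp (φ : F ⟶ F') (ψ : F' ⟶ F'') (p : ℕ) (c : (cx U F).X p) :
    cm U (φ ≫ ψ) p c = cm U ψ p (cm U φ p c) := by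
  apply Helper1.Cech.ext
  intro x
  rw [comp_cm, comp_cm, comp_cm]
  rfl

lemma cm_injective (φ : F ⟶ F') (h : ∀ V, Function.Injective (φ.app V)) (p : ℕ) :
    Function.Injective (cm U φ p) := by
  intro c c' hc
  apply Helper1.Cech.ext
  intro x
  apply h
  rw [← comp_cm, ← comp_cm, hc]

lemma cm_exists_lift (φ : F ⟶ F') (p : ℕ) (c : (cx U F').X p)
    (h : ∀ x, ∃ b : F.obj (op (prodU U x)), φ.app _ b = comp U F' p x c) :
    ∃ b : (cx U F).X p, cm U φ p b = c := by
  choose b hb using h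
  refine ⟨Helper1.Cech.mk b, ?_⟩
  apply Helper1.Cech.ext
  intro x
  rw [comp_cm, comp_mk, hb]

lemma cm_eq_zero (φ : F ⟶ F') (h : ∀ V (a : F.obj V), φ.app V a = 0) (p : ℕ)
    (c : (cx U F).X p) : cm U φ p c = 0 := by
  apply Helper1.Cech.ext
  intro x
  rw [comp_cm, h, map_zero]

lemma eq_zero_of_subsingleton (h : ∀ V, Subsingleton (F.obj V)) (p : ℕ) (c : (cx U F).X p) :
    c = 0 := by
  apply Helper1.Cech.ext
  intro x
  exact (h _).elim _ _

/-- the augmentation as an additive map -/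
noncomputable def augHom (P : PSh X) : P.obj (op ⊤) →+ (cx U P).X 0 :=
  AddMonoidHom.mk' (aug U P ⊤ (fun _ => le_top)) (fun a a' => aug_add (fun _ => le_top) a a')

lemma augHom_apply (P : PSh X) (a : P.obj (op ⊤)) :
    augHom U P a = aug U P ⊤ (fun _ => le_top) a := rfl

lemma d_augHom (P : PSh X) (a : P.obj (op ⊤)) : (cx U P).d 0 1 (augHom U P a) = 0 :=
  d_aug (fun _ => le_top) a

lemma cm_augHom (φ : F ⟶ F') (a : F.obj (op ⊤)) :
    cm U φ 0 (augHom U F a) = augHom U F' (φ.app (op ⊤) a) :=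
  aug_map (fun _ => le_top) φ a

lemma rc_augHom (P : PSh X) (a : P.obj (op ⊤)) (x : Fin 1 → ι) (W : Opens X)
    (h : W ≤ prodU U x) :
    rc U P (augHom U P a) x W h = P.map (homOfLE (le_top : W ≤ ⊤)).op a :=
  rc_aug (fun _ => le_top) a x W h

end Groth.Agent.Helper9.CZ1
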