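import Mathlib
import Groth.Agent.Helper9.CZ1

/-! Abstract zigzag filtration attached to a "resolution datum" of presheaves and an open cover. -/

set_option autoImplicit false
set_option linter.unusedSectionVars false

namespace Groth.Agent.Helper9.CZ2

open CategoryTheory Limits Opposite TopologicalSpace
open Groth.Agent.Helper1.Cech Groth.Agent.Helper1.CechTop Groth.Agent.Helper9.CZ1

universe u

/-- abstract data: `A k = Lⁿ⁻ᵏ`, `Z k = Zⁿ⁻ᵏ(L)`, `H k = hⁿ⁻ᵏ(L)` -/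
structure Datum (X : TopCat.{u}) where
  A : ℕ → PSh X
  Z : ℕ → PSh X
  H : ℕ → PSh X
  i : ∀ k, Z k ⟶ A k
  t : ∀ k, A (k + 1) ⟶ Z k
  κ : ∀ k, Z k ⟶ H k
  i_inj : ∀ k V, Function.Injective ((i k).app V)
  κ_surj : ∀ k V, Function.Surjective ((κ k).app V)
  κ_t : ∀ k V (x : (A (k + 1)).obj V), (κ k).app V ((t k).app V x) = 0
  κ_zero : ∀ k V (z : (Z k).obj V), (κ k).app V z = 0 → ∃ x, (t k).app V x = z
  t_i : ∀ k V (z : (Z (k + 1)).obj V), (t k).app V ((i (k + 1)).app V z) = 0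
  t_zero : ∀ k V (x : (A (k + 1)).obj V), (t k).app V x = 0 → ∃ z, (i (k + 1)).app V z = x

variable {X : TopCat.{u}} {ι : Type u} (D : Datum X) (U : ι → Opens X)

/-- Čech acyclicity of the `A k` for the cover -/
structure Good : Prop where
  aug_inj : ∀ k (a a' : (D.A k).obj (op ⊤)), augHom U (D.A k) a = augHom U (D.A k) a' → a = a'
  aug_ex : ∀ k (b : (cx U (D.A k)).X 0), (cx U (D.A k)).d 0 1 b = 0 →
    ∃ a, augHom U (D.A k) a = b
  acyc : ∀ k p (c : (cx U (D.A k)).X (p + 1)), (cx U (D.A k)).d (p + 1) (p + 2) c = 0 →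
    ∃ b, (cx U (D.A k)).d p (p + 1) b = c

/-- the type of zigzag tails -/
abbrev Y : Type u := ∀ j : ℕ, (cx U (D.A (j + 1))).X j

/-- `y` is a zigzag of length `p` for the global cocycle `s` -/
def IsZig (p : ℕ) (s : (D.Z 0).obj (op ⊤)) (y : Y D U) : Prop :=
  (1 ≤ p → cm U (D.t 0) 0 (y 0) = augHom U (D.Z 0) s) ∧
  ∀ j, j + 1 < p →
    cm U (D.i (j + 1)) (j + 1) (cm U (D.t (j + 1)) (j + 1) (y (j + 1))) =
      (cx U (D.A (j + 1))).d j (j + 1) (y j)

variable {D U}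

lemma IsZig.zero (p : ℕ) : IsZig D U p 0 0 := by
  refine ⟨fun _ => ?_, fun j _ => ?_⟩
  · show cm U (D.t 0) 0 0 = augHom U (D.Z 0) 0
    rw [map_zero, map_zero]
  · simp

lemma IsZig.add {p : ℕ} {s s' : (D.Z 0).obj (op ⊤)} {y y' : Y D U} (h : IsZig D U p s y)
    (h' : IsZig D U p s' y') : IsZig D U p (s + s') (y + y') := by
  refine ⟨fun hp => ?_, fun j hj => ?_⟩
  · rw [map_add, Pi.add_apply, map_add, h.1 hp, h'.1 hp]
  · rw [Pi.add_apply, Pi.add_apply, map_add, map_add, map_add, h.2 j hj, h'.2 j hj]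

lemma IsZig.neg {p : ℕ} {s : (D.Z 0).obj (op ⊤)} {y : Y D U} (h : IsZig D U p s y) :
    IsZig D U p (-s) (-y) := by
  refine ⟨fun hp => ?_, fun j hj => ?_⟩
  · rw [map_neg, Pi.neg_apply, map_neg, h.1 hp]
  · rw [Pi.neg_apply, Pi.neg_apply, map_neg, map_neg, map_neg, h.2 j hj]

lemma IsZig.of_succ {p : ℕ} {s : (D.Z 0).obj (op ⊤)} {y : Y D U} (h : IsZig D U (p + 1) s y) :
    IsZig D U p s y :=
  ⟨fun hp => h.1 (by omega), fun j hj => h.2 j (by omega)⟩

variable (D U)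

/-- global cocycles admitting a zigzag of length `p` -/
def S (p : ℕ) : AddSubgroup ((D.Z 0).obj (op ⊤)) where
  carrier := {s | ∃ y, IsZig D U p s y}
  add_mem' := by
    rintro s s' ⟨y, hy⟩ ⟨y', hy'⟩
    exact ⟨y + y', hy.add hy'⟩
  zero_mem' := ⟨0, IsZig.zero p⟩
  neg_mem' := by
    rintro s ⟨y, hy⟩
    exact ⟨-y, hy.neg⟩

/-- the filtration -/
noncomputable def G (p : ℕ) : Submodule ℤ ((D.H 0).obj (op ⊤)) :=
  AddSubgroup.toIntSubmodule ((S D U p).map ((D.κ 0).app (op ⊤)).hom)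

variable {D U}

lemma mem_G {p : ℕ} {h : (D.H 0).obj (op ⊤)} :
    h ∈ G D U p ↔ ∃ s y, IsZig D U p s y ∧ (D.κ 0).app (op ⊤) s = h := by
  constructor
  · rintro ⟨s, ⟨y, hy⟩, rfl⟩
    exact ⟨s, y, hy, rfl⟩
  · rintro ⟨s, y, hy, rfl⟩
    exact ⟨s, ⟨y, hy⟩, rfl⟩

variable (D U)

lemma G_zero : G D U 0 = ⊤ := by
  rw [eq_top_iff]
  intro h _
  obtain ⟨s, rfl⟩ := D.κ_surj 0 (op ⊤) h
  exact mem_G.2 ⟨s, 0, ⟨fun hp => by omega, fun j hj => by omega⟩, rfl⟩

lemma G_antitone : Antitone (G D U) := by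
  apply antitone_nat_of_succ_le
  intro p h hh
  obtain ⟨s, y, hy, rfl⟩ := mem_G.1 hh
  exact mem_G.2 ⟨s, y, hy.of_succ, rfl⟩

lemma G_one : G D U 1 = ⨅ i, AddSubgroup.toIntSubmodule
    ((D.H 0).map (homOfLE le_top : U i ⟶ (⊤ : Opens X)).op).hom.ker := by
  apply le_antisymm
  · intro h hh
    obtain ⟨s, y, hy, rfl⟩ := mem_G.1 hh
    rw [Submodule.mem_iInf]
    intro i
    show (D.H 0).map (homOfLE le_top : U i ⟶ (⊤ : Opens X)).op ((D.κ 0).app (op ⊤) s) = 0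
    rw [← NatTrans.naturality_apply]
    have h1 := hy.1 le_rfl
    have hle : U i ≤ prodU U (fun _ : Fin 1 => i) := le_prodU U _ (fun _ => le_rfl)
    have h2 := congrArg (fun c => rc U (D.Z 0) c (fun _ : Fin 1 => i) (U i) hle) h1
    simp only [rc_map, rc_augHom] at h2
    rw [← h2]
    exact D.κ_t 0 _ _
  · intro h hh
    rw [Submodule.mem_iInf] at hh
    obtain ⟨s, rfl⟩ := D.κ_surj 0 (op ⊤) h
    have h1 : ∀ i, ∃ x : (D.A 1).obj (op (U i)), (D.t 0).app _ x =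
        (D.Z 0).map (homOfLE le_top : U i ⟶ (⊤ : Opens X)).op s := by
      intro i
      apply D.κ_zero
      rw [NatTrans.naturality_apply]
      exact hh i
    choose x hx using h1
    let y0 : (cx U (D.A 1)).X 0 :=
      Helper1.Cech.mk (fun x' : Fin 1 → ι => (D.A 1).map (homOfLE (prodU_le U x' 0)).op (x (x' 0)))
    refine mem_G.2 ⟨s, Function.update (0 : Y D U) 0 y0, ⟨fun _ => ?_, fun j hj => by omega⟩, rfl⟩
    rw [Function.update_self]
    apply Helper1.Cech.ext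
    intro x'
    rw [comp_cm, comp_mk, augHom_apply]
    unfold aug
    rw [comp_mk, NatTrans.naturality_apply, hx, ← ConcreteCategory.comp_apply, ← Functor.map_comp]
    rfl

end Groth.Agent.Helper9.CZ2
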