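import Mathlib
import Groth.Agent.Helper9.CZ2

/-! Descent of zigzags: `G N = ⊥` when `A N = 0`. -/

set_option autoImplicit false
set_option linter.unusedSectionVars false

namespace Groth.Agent.Helper9.CZ3

open CategoryTheory Limits Opposite TopologicalSpace
open Groth.Agent.Helper1.Cech Groth.Agent.Helper1.CechTop Groth.Agent.Helper9.CZ1
open Groth.Agent.Helper9.CZ2

universe u

variable {X : TopCat.{u}} {ι : Type u} {D : Datum X} {U : ι → Opens X}

lemma cm_t_i (k p : ℕ) (c : (cx U (D.Z (k + 1))).X p) :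
    cm U (D.t k) p (cm U (D.i (k + 1)) p c) = 0 := by
  rw [← cm_comp]
  apply cm_eq_zero
  intro V a
  exact D.t_i k V a

/-- a zigzag whose last term is a Čech cocycle comes from a coboundary -/
lemma descent (hG : Good D U) : ∀ (p : ℕ) (s : (D.Z 0).obj (op ⊤)) (y : Y D U),
    IsZig D U (p + 1) s y → (cx U (D.A (p + 1))).d p (p + 1) (y p) = 0 →
    (D.κ 0).app (op ⊤) s = 0 := by
  intro p
  induction p with
  | zero =>
    intro s y hy hd
    obtain ⟨a, ha⟩ := hG.aug_ex 1 (y 0) hd
    have h1 := hy.1 le_rfl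
    rw [← ha, cm_augHom] at h1
    have h2 := congrArg (cm U (D.i 0) 0) h1
    rw [cm_augHom, cm_augHom] at h2
    have h3 := D.i_inj 0 _ (hG.aug_inj 0 _ _ h2)
    rw [← h3]
    exact D.κ_t 0 _ _
  | succ p ih =>
    intro s y hy hd
    obtain ⟨w, hw⟩ := hG.acyc (p + 1 + 1) p (y (p + 1)) hd
    let v : (cx U (D.A (p + 1))).X p := cm U (D.i (p + 1)) p (cm U (D.t (p + 1)) p w)
    let y' : Y D U := Function.update y p (y p - v)
    have hy'p : y' p = y p - v := Function.update_self ..
    have hy'ne : ∀ j, j ≠ p → y' j = y j := fun j hj => Function.update_of_ne hj ..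
    apply ih s y'
    · refine ⟨fun _ => ?_, fun j hj => ?_⟩
      · by_cases hp : p = 0
        · subst hp
          rw [hy'p, map_sub, cm_t_i, sub_zero]
          exact hy.1 (by omega)
        · rw [hy'ne 0 (fun h => hp h.symm)]
          exact hy.1 (by omega)
      · rw [hy'ne j (by omega)]
        by_cases hjp : j + 1 = p
        · subst hjp
          rw [hy'p, map_sub, cm_t_i, sub_zero]
          exact hy.2 j (by omega)
        · rw [hy'ne (j + 1) hjp]
          exact hy.2 j (by omega)
    · rw [hy'p, map_sub, sub_eq_zero]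
      have h1 := hy.2 p (by omega)
      rw [← h1, ← hw, cm_d, cm_d]

/-- the filtration is exhaustive downwards as soon as some `A N` (`N ≥ 1`) vanishes -/
lemma G_eq_bot (hG : Good D U) (N : ℕ) (hN : ∀ V, Subsingleton ((D.A (N + 1)).obj V)) :
    G D U (N + 1) = ⊥ := by
  rw [eq_bot_iff]
  intro h hh
  obtain ⟨s, y, hy, rfl⟩ := mem_G.1 hh
  rw [Submodule.mem_bot]
  apply descent hG N s y hy
  rw [eq_zero_of_subsingleton U hN N (y N), map_zero]

end Groth.Agent.Helper9.CZ3
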