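import Mathlib
import Groth.Prelude.Def_HTor
import Groth.Agent.Helper1.CechAug
import Groth.Agent.Helper9.KU1
import Groth.Agent.Helper9.CZ3

/-! Graded pieces of the zigzag filtration are subquotients of Čech cohomology. -/

set_option autoImplicit false
set_option linter.unusedSectionVars false

namespace Groth.Agent.Helper9.CZ4

open CategoryTheory Limits Opposite TopologicalSpace
open Groth.Agent.Helper1.Cech Groth.Agent.Helper1.CechTop Groth.Agent.Helper9.CZ1
open Groth.Agent.Helper9.CZ2 Groth.Agent.Helper9.CZ3 Groth.Agent.Helper9.KU1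

universe u

section general

lemma isSubquotient_of_ker_le {R : Type} [CommRing R] {W N T : Type u} [AddCommGroup W]
    [Module R W] [AddCommGroup N]
    [Module R N] [AddCommGroup T] [Module R T] (q : W →ₗ[R] N) (hq : Function.Surjective q)
    (φ : W →ₗ[R] T) (h : LinearMap.ker φ ≤ LinearMap.ker q) : HTor.IsSubquotient R N T := by
  have hinj : Function.Injective (LinearMap.range φ).subtype := Submodule.injective_subtype _
  have h1 : HTor.IsSubquotient R (LinearMap.range φ) T :=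
    isSubquotient_of_injective _ hinj (isSubquotient_refl R T)
  have hs : Function.Surjective φ.rangeRestrict := LinearMap.surjective_rangeRestrict φ
  have hk : LinearMap.ker φ.rangeRestrict ≤ LinearMap.ker q := by
    rw [LinearMap.ker_rangeRestrict]
    exact h
  let g : LinearMap.range φ →ₗ[R] N := descSurj φ.rangeRestrict hs q hk
  have hg : Function.Surjective g := by
    intro n
    obtain ⟨w, rfl⟩ := hq n
    exact ⟨φ.rangeRestrict w, descSurj_apply _ hs q hk w⟩
  exact isSubquotient_of_surjective g hg h1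

/-- an additive map as a `ℤ`-linear map, for arbitrary `ℤ`-module structures -/
def toLin {M N : Type*} [AddCommGroup M] [AddCommGroup N] [Module ℤ M] [Module ℤ N]
    (f : M →+ N) : M →ₗ[ℤ] N where
  toFun := f
  map_add' := f.map_add
  map_smul' c a := by
    have := map_intCast_smul f ℤ ℤ c a
    simpa using this

@[simp]
lemma toLin_apply {M N : Type*} [AddCommGroup M] [AddCommGroup N] [Module ℤ M] [Module ℤ N]
    (f : M →+ N) (a : M) : toLin f a = f a := rfl

lemma isSubquotient_sc (S : ShortComplex AddCommGrpCat.{u})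
    {W N : Type u} [AddCommGroup W] [Module ℤ W] [AddCommGroup N] [Module ℤ N]
    (q : W →ₗ[ℤ] N) (hq : Function.Surjective q) (ψ : W →+ S.X₂)
    (hψ : ∀ w, S.g (ψ w) = 0)
    (hker : ∀ w, (∃ b : S.X₁, S.f b = ψ w) → q w = 0) :
    HTor.IsSubquotient ℤ N S.homology := by
  let e : S.homology ≃+ (AddMonoidHom.ker S.g.hom ⧸ AddMonoidHom.range S.abToCycles) :=
    S.abHomologyIso.addCommGroupIsoToAddEquiv
  let ψ' : W →+ AddMonoidHom.ker S.g.hom := ψ.codRestrict _ (fun w => hψ w)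
  let φ : W →ₗ[ℤ] (AddMonoidHom.ker S.g.hom ⧸ AddMonoidHom.range S.abToCycles) :=
    toLin ((QuotientAddGroup.mk' (AddMonoidHom.range S.abToCycles)).comp ψ')
  have h1 : HTor.IsSubquotient ℤ N
      (AddMonoidHom.ker S.g.hom ⧸ AddMonoidHom.range S.abToCycles) := by
    apply isSubquotient_of_ker_le q hq φ
    intro w hw
    rw [LinearMap.mem_ker] at hw ⊢
    apply hker
    have hw' : (QuotientAddGroup.mk' (AddMonoidHom.range S.abToCycles)) (ψ' w) = 0 := hw
    rw [QuotientAddGroup.mk'_apply, QuotientAddGroup.eq_zero_iff] at hw'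
    obtain ⟨b, hb⟩ := hw'
    refine ⟨b, ?_⟩
    have := congrArg Subtype.val hb
    exact this
  exact isSubquotient_of_equiv e.symm.toIntLinearEquiv h1

lemma isSubquotient_homology_aux (K : CochainComplex AddCommGrpCat.{u} ℕ) (i j : ℕ)
    (hi : (ComplexShape.up ℕ).prev j = i)
    {W N : Type u} [AddCommGroup W] [Module ℤ W] [AddCommGroup N] [Module ℤ N]
    (q : W →ₗ[ℤ] N) (hq : Function.Surjective q) (ψ : W →+ K.X j)
    (hψ : ∀ w, K.d j (j + 1) (ψ w) = 0)
    (hker : ∀ w, (∃ b : K.X i, K.d i j b = ψ w) → q w = 0) :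
    HTor.IsSubquotient ℤ N (K.homology j) := by
  have h1 : HTor.IsSubquotient ℤ N (K.sc' i j (j + 1)).homology :=
    isSubquotient_sc (K.sc' i j (j + 1)) q hq ψ hψ hker
  exact isSubquotient_of_equiv
    (K.homologyIsoSc' i j (j + 1) hi (by simp)).symm.addCommGroupIsoToAddEquiv.toIntLinearEquiv h1

lemma isSubquotient_homology_zero (K : CochainComplex AddCommGrpCat.{u} ℕ)
    {W N : Type u} [AddCommGroup W] [Module ℤ W] [AddCommGroup N] [Module ℤ N]
    (q : W →ₗ[ℤ] N) (hq : Function.Surjective q) (ψ : W →+ K.X 0)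
    (hψ : ∀ w, K.d 0 1 (ψ w) = 0) (hker : ∀ w, ψ w = 0 → q w = 0) :
    HTor.IsSubquotient ℤ N (K.homology 0) := by
  apply isSubquotient_homology_aux K 0 0 (by simp) q hq ψ hψ
  rintro w ⟨b, hb⟩
  apply hker
  rw [← hb, K.shape 0 0 (by simp)]
  rfl

lemma isSubquotient_homology_succ (K : CochainComplex AddCommGrpCat.{u} ℕ) (p : ℕ)
    {W N : Type u} [AddCommGroup W] [Module ℤ W] [AddCommGroup N] [Module ℤ N]
    (q : W →ₗ[ℤ] N) (hq : Function.Surjective q) (ψ : W →+ K.X (p + 1))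
    (hψ : ∀ w, K.d (p + 1) (p + 2) (ψ w) = 0)
    (hker : ∀ w, (∃ b : K.X p, K.d p (p + 1) b = ψ w) → q w = 0) :
    HTor.IsSubquotient ℤ N (K.homology (p + 1)) :=
  isSubquotient_homology_aux K p (p + 1) (by simp) q hq ψ hψ hker

end general

variable {X : TopCat.{u}} {ι : Type u} (D : Datum X) (U : ι → Opens X)

/-- the graded piece in degree `0` -/
lemma gr_zero : HTor.IsSubquotient ℤ (HTor.grDesc (G D U) 0) ((cx U (D.H 0)).homology 0) := by
  let q0 : (D.H 0).obj (op ⊤) →ₗ[ℤ] G D U 0 :=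
    LinearMap.codRestrict (G D U 0) LinearMap.id (fun h => by rw [G_zero]; trivial)
  let q : (D.H 0).obj (op ⊤) →ₗ[ℤ] HTor.grDesc (G D U) 0 := (Submodule.mkQ _) ∘ₗ q0
  have hq : Function.Surjective q := by
    apply (Submodule.mkQ_surjective _).comp
    rintro ⟨h, hh⟩
    exact ⟨h, rfl⟩
  apply isSubquotient_homology_zero (cx U (D.H 0)) q hq (augHom U (D.H 0))
    (fun w => d_augHom U _ w)
  intro h hh
  show Submodule.Quotient.mk (q0 h) = 0
  rw [Submodule.Quotient.mk_eq_zero, Submodule.mem_comap]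
  show h ∈ G D U (0 + 1)
  rw [zero_add, G_one, Submodule.mem_iInf]
  intro i
  show (D.H 0).map (homOfLE le_top : U i ⟶ (⊤ : Opens X)).op h = 0
  have hle : U i ≤ prodU U (fun _ : Fin 1 => i) := le_prodU U _ (fun _ => le_rfl)
  have h2 := congrArg (fun c => rc U (D.H 0) c (fun _ : Fin 1 => i) (U i) hle) hh
  simp only [rc_augHom, rc_zero] at h2
  exact h2

variable {D U}

lemma d_cm_t_last {p : ℕ} {s : (D.Z 0).obj (op ⊤)} {y : Y D U} (hy : IsZig D U (p + 1) s y) :
    (cx U (D.Z p)).d p (p + 1) (cm U (D.t p) p (y p)) = 0 := by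
  cases p with
  | zero =>
    rw [hy.1 le_rfl]
    exact d_augHom U _ s
  | succ j =>
    apply cm_injective U (D.i (j + 1)) (D.i_inj (j + 1))
    rw [cm_d, hy.2 j (by omega), d_d, map_zero]

lemma exists_c {p : ℕ} {s : (D.Z 0).obj (op ⊤)} {y : Y D U} (hy : IsZig D U (p + 1) s y) :
    ∃ c : (cx U (D.Z (p + 1))).X (p + 1),
      cm U (D.i (p + 1)) (p + 1) c = (cx U (D.A (p + 1))).d p (p + 1) (y p) := by
  apply cm_exists_lift
  intro x
  apply D.t_zero p
  rw [← comp_cm, cm_d, d_cm_t_last hy, map_zero]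

lemma c_cocycle {p : ℕ} {y : Y D U} {c : (cx U (D.Z (p + 1))).X (p + 1)}
    (hc : cm U (D.i (p + 1)) (p + 1) c = (cx U (D.A (p + 1))).d p (p + 1) (y p)) :
    (cx U (D.Z (p + 1))).d (p + 1) (p + 2) c = 0 := by
  apply cm_injective U (D.i (p + 1)) (D.i_inj (p + 1))
  rw [cm_d, hc, d_d, map_zero]

variable (D U)

/-- zigzags of length `p + 1` together with the lift of their last coboundary -/
def Wgrp (p : ℕ) :
    AddSubgroup ((D.Z 0).obj (op ⊤) × Y D U × (cx U (D.Z (p + 1))).X (p + 1)) where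
  carrier := {w | IsZig D U (p + 1) w.1 w.2.1 ∧
    cm U (D.i (p + 1)) (p + 1) w.2.2 = (cx U (D.A (p + 1))).d p (p + 1) (w.2.1 p)}
  add_mem' := by
    rintro w w' ⟨h1, h2⟩ ⟨h1', h2'⟩
    refine ⟨h1.add h1', ?_⟩
    show cm U (D.i (p + 1)) (p + 1) (w.2.2 + w'.2.2) =
      (cx U (D.A (p + 1))).d p (p + 1) (w.2.1 p + w'.2.1 p)
    rw [map_add, map_add, h2, h2']
  zero_mem' := by
    refine ⟨IsZig.zero (p + 1), ?_⟩
    show cm U (D.i (p + 1)) (p + 1) 0 = (cx U (D.A (p + 1))).d p (p + 1) 0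
    rw [map_zero, map_zero]
  neg_mem' := by
    rintro w ⟨h1, h2⟩
    refine ⟨h1.neg, ?_⟩
    show cm U (D.i (p + 1)) (p + 1) (-w.2.2) = (cx U (D.A (p + 1))).d p (p + 1) (-(w.2.1 p))
    rw [map_neg, map_neg, h2]

variable {D U}

/-- extending a zigzag by one step when the obstruction class vanishes -/
lemma extend_zig {p : ℕ} {s : (D.Z 0).obj (op ⊤)} {y : Y D U} (hy : IsZig D U (p + 1) s y)
    {c : (cx U (D.Z (p + 1))).X (p + 1)}
    (hc : cm U (D.i (p + 1)) (p + 1) c = (cx U (D.A (p + 1))).d p (p + 1) (y p))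
    (b : (cx U (D.H (p + 1))).X p)
    (hb : (cx U (D.H (p + 1))).d p (p + 1) b = cm U (D.κ (p + 1)) (p + 1) c) :
    ∃ y' : Y D U, IsZig D U (p + 2) s y' := by
  obtain ⟨b', hb'⟩ := cm_exists_lift U (D.κ (p + 1)) p b (fun x => D.κ_surj (p + 1) _ _)
  have h0 : cm U (D.κ (p + 1)) (p + 1) (c - (cx U (D.Z (p + 1))).d p (p + 1) b') = 0 := by
    rw [map_sub, cm_d, hb', hb, sub_self]
  obtain ⟨x, hx⟩ := cm_exists_lift U (D.t (p + 1)) (p + 1)
    (c - (cx U (D.Z (p + 1))).d p (p + 1) b') (fun x' => by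
      apply D.κ_zero (p + 1)
      rw [← comp_cm, h0, map_zero])
  let v : (cx U (D.A (p + 1))).X p := cm U (D.i (p + 1)) p b'
  let y' : Y D U := Function.update (Function.update y p (y p - v)) (p + 1) x
  have hy'1 : y' (p + 1) = x := Function.update_self ..
  have hy'p : y' p = y p - v := by
    show Function.update (Function.update y p (y p - v)) (p + 1) x p = _
    rw [Function.update_of_ne (by omega), Function.update_self]
  have hy'ne : ∀ j, j ≠ p → j ≠ p + 1 → y' j = y j := fun j hj hj' => by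
    show Function.update (Function.update y p (y p - v)) (p + 1) x j = _
    rw [Function.update_of_ne hj', Function.update_of_ne hj]
  refine ⟨y', fun _ => ?_, fun j hj => ?_⟩
  · by_cases hp : p = 0
    · subst hp
      rw [hy'p, map_sub, cm_t_i, sub_zero]
      exact hy.1 (by omega)
    · rw [hy'ne 0 (fun h => hp h.symm) (by omega)]
      exact hy.1 (by omega)
  · by_cases hjp : j = p
    · subst hjp
      rw [hy'1, hy'p, hx, map_sub, map_sub, cm_d, hc]
    · rw [hy'ne j hjp (by omega)]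
      by_cases hjp' : j + 1 = p
      · subst hjp'
        rw [hy'p, map_sub, cm_t_i, sub_zero]
        exact hy.2 j (by omega)
      · rw [hy'ne (j + 1) hjp' (by omega)]
        exact hy.2 j (by omega)

variable (D U)

/-- the graded piece in degree `p + 1` -/
lemma gr_succ (p : ℕ) : HTor.IsSubquotient ℤ (HTor.grDesc (G D U) (p + 1))
    ((cx U (D.H (p + 1))).homology (p + 1)) := by
  let f0 : Wgrp D U p →+ (D.H 0).obj (op ⊤) :=
    ((D.κ 0).app (op ⊤)).hom.comp ((AddMonoidHom.fst _ _).comp (Wgrp D U p).subtype)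
  have hf0 : ∀ w, toLin f0 w ∈ G D U (p + 1) := fun w => mem_G.2 ⟨_, _, w.2.1, rfl⟩
  let q0 : Wgrp D U p →ₗ[ℤ] G D U (p + 1) := LinearMap.codRestrict (G D U (p + 1)) (toLin f0) hf0
  let q : Wgrp D U p →ₗ[ℤ] HTor.grDesc (G D U) (p + 1) := (Submodule.mkQ _) ∘ₗ q0
  have hq : Function.Surjective q := by
    apply (Submodule.mkQ_surjective _).comp
    rintro ⟨h, hh⟩
    obtain ⟨s, y, hy, rfl⟩ := mem_G.1 hh
    obtain ⟨c, hc⟩ := exists_c hy
    exact ⟨⟨(s, y, c), hy, hc⟩, rfl⟩
  let ψ : Wgrp D U p →+ (cx U (D.H (p + 1))).X (p + 1) :=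
    (cm U (D.κ (p + 1)) (p + 1)).hom.comp
      ((AddMonoidHom.snd _ _).comp ((AddMonoidHom.snd _ _).comp (Wgrp D U p).subtype))
  apply isSubquotient_homology_succ (cx U (D.H (p + 1))) p q hq ψ
  · intro w
    show (cx U (D.H (p + 1))).d (p + 1) (p + 2) (cm U (D.κ (p + 1)) (p + 1) w.1.2.2) = 0
    rw [← cm_d, c_cocycle w.2.2, map_zero]
  · rintro w ⟨b, hb⟩
    obtain ⟨y', hy'⟩ := extend_zig w.2.1 w.2.2 b hb
    show Submodule.Quotient.mk (q0 w) = 0
    rw [Submodule.Quotient.mk_eq_zero, Submodule.mem_comap]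
    exact mem_G.2 ⟨_, y', hy', rfl⟩

/-- all graded pieces -/
lemma gr (p : ℕ) : HTor.IsSubquotient ℤ (HTor.grDesc (G D U) p) ((cx U (D.H p)).homology p) := by
  cases p with
  | zero => exact gr_zero D U
  | succ p => exact gr_succ D U p

end Groth.Agent.Helper9.CZ4
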