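import Mathlib
import Groth.Prelude.Def_CechTot
import Groth.Prelude.Def_HTor
import Groth.Prelude.Def_CohB1
import Groth.Agent.Helper1.CohTopCech
import Groth.Agent.Helper9.CZ4
import Groth.Agent.Helper9.CZ5

/-! The Čech-to-hypercohomology filtration for a bounded below complex of abelian sheaves on a space. -/

set_option autoImplicit false
set_option linter.unusedSectionVars false
set_option linter.style.haveILetI false

namespace Groth.Agent.Helper9.CZ6

open CategoryTheory Limits Opposite TopologicalSpace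
open Groth.Agent.Helper1.Cech Groth.Agent.Helper1.CechTop Groth.Agent.Helper9.CZ1
open Groth.Agent.Helper9.CZ2 Groth.Agent.Helper9.CZ3 Groth.Agent.Helper9.CZ4 Groth.Agent.Helper9.CZ5

universe u

section abstract

variable {X : TopCat.{u}} {ι : Type u}

theorem abstract_main (D : Datum X) (U : ι → Opens X) (hG : Good D U) (N : ℕ)
    (hN : ∀ V, Subsingleton ((D.A (N + 1)).obj V)) (H0 : PSh X) (h0 : D.H 0 = H0) :
    ∃ (G : ℕ → Submodule ℤ (H0.obj (op (⊤ : Opens X)))), Antitone G ∧ G 0 = ⊤ ∧ G (N + 1) = ⊥ ∧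
      G 1 = ⨅ i, AddSubgroup.toIntSubmodule
        (H0.map (homOfLE le_top : U i ⟶ (⊤ : Opens X)).op).hom.ker ∧
      ∀ p : ℕ, HTor.IsSubquotient ℤ (HTor.grDesc G p) ((cx U (D.H p)).homology p) := by
  subst h0
  exact ⟨G D U, G_antitone D U, G_zero D U, G_eq_bot hG N hN, G_one D U, gr D U⟩

end abstract

variable {X : TopCat.{u}} [HasDerivedCategory.{u} (CohTop.Ab X)]
  (L : CochainComplex (CohTop.Ab X) ℤ) {E : DerivedCategory (CohTop.Ab X)}
  (γ : DerivedCategory.Q.obj L ⟶ E) [IsIso γ] [L.IsKInjective] (n : ℤ)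

/-- the resolution datum attached to a K-injective complex -/
noncomputable def datum : Datum X where
  A k := (L.X (n - (k : ℤ))).obj
  Z k := (L.cycles (n - (k : ℤ))).obj
  H k := CohCx.HDUPresheaf E (n - (k : ℤ))
  i k := (L.iCycles (n - (k : ℤ))).hom
  t k := (L.toCycles (n - ((k + 1 : ℕ) : ℤ)) (n - (k : ℤ))).hom
  κ k := κE L γ (n - (k : ℤ))
  i_inj k V := injective_app_of_mono (L.iCycles (n - (k : ℤ))) V
  κ_surj k V := κE_surjective L γ (n - (k : ℤ)) V
  κ_t k V x := κE_toCycles L γ _ _ (by push_cast; ring) V x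
  κ_zero k V z hz := exists_of_κE_eq_zero L γ _ _ (by push_cast; ring) V z hz
  t_i k V z := toCycles_iCycles_app L _ _ V z
  t_zero k V x hx := exists_cycle L _ _ (by push_cast; ring) V x hx

variable {ι : Type u} (U : ι → Opens X) (hcov : iSup U = ⊤)

include hcov in
lemma good (hL : ∀ q, Injective (L.X q)) : Good (datum L γ n) U where
  aug_inj k a a' h :=
    aug_injective' (L.X (n - (k : ℤ))) ⊤ (fun _ => le_top) (hcov ▸ le_rfl) h
  aug_ex k b hb :=
    exists_aug_of_cocycle' (L.X (n - (k : ℤ))) ⊤ (fun _ => le_top) (hcov ▸ le_rfl) b hb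
  acyc k p c hc := by
    have := hL (n - (k : ℤ))
    have := Groth.Agent.Helper1.CohTopCech.injective_presheaf (L.X (n - (k : ℤ)))
    exact @Groth.Agent.Helper1.CechInj.exists_of_cocycle_self (Opens X) _ _ _ ι U
      (L.X (n - (k : ℤ))).obj _ p c hc

/-- the Čech-to-hypercohomology filtration -/
theorem main {X : TopCat.{u}} [HasDerivedCategory.{u} (CohTop.Ab X)] {ι : Type u}
    (U : ι → Opens X) (hcov : iSup U = ⊤)
    (K : CochainComplex (CohTop.Ab X) ℤ) (a : ℤ) (ha : ∀ i : ℤ, i < a → IsZero (K.X i)) (n : ℤ) :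
    ∃ (N : ℕ) (G : ℕ → Submodule ℤ (CohCx.HDU (DerivedCategory.Q.obj K) n (⊤ : Opens X))),
      Antitone G ∧ G 0 = ⊤ ∧ G N = ⊥ ∧
      G 1 = ⨅ i, AddSubgroup.toIntSubmodule
        (CohCx.HDUres (DerivedCategory.Q.obj K) n (homOfLE le_top : U i ⟶ (⊤ : Opens X))).ker ∧
      ∀ p : ℕ, HTor.IsSubquotient ℤ (HTor.grDesc G p)
        (CohB1.cechHTop U (CohCx.HDUPresheaf (DerivedCategory.Q.obj K) (n - p)) p) := by
  have hK : K.IsStrictlyGE a := by
    rw [CochainComplex.isStrictlyGE_iff]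
    exact ha
  obtain ⟨L, φ, _, hL, _⟩ :=
    CochainComplex.Plus.modelCategoryQuillen.exists_quasiIso_injective K a
  have : L.IsKInjective := CochainComplex.isKInjective_of_injective L a
  have : IsIso (DerivedCategory.Q.map φ) := by
    rw [DerivedCategory.isIso_Q_map_iff_quasiIso]
    infer_instance
  let γ : DerivedCategory.Q.obj L ⟶ DerivedCategory.Q.obj K := inv (DerivedCategory.Q.map φ)
  have : IsIso γ := inferInstance
  let N := (n - a).toNat
  have hN : ∀ V, Subsingleton (((datum L γ n).A (N + 1)).obj V) := by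
    intro V
    have hlt : n - ((N + 1 : ℕ) : ℤ) < a := by
      push_cast
      omega
    exact subsingleton_of_isZero (L.isZero_of_isStrictlyGE a _ hlt) V
  obtain ⟨G, h1, h2, h3, h4, h5⟩ := abstract_main (datum L γ n) U (good L γ n U hcov hL) N hN
    (CohCx.HDUPresheaf (DerivedCategory.Q.obj K) n) (by
      show CohCx.HDUPresheaf (DerivedCategory.Q.obj K) (n - ((0 : ℕ) : ℤ)) = _
      rw [Nat.cast_zero, sub_zero])
  exact ⟨N + 1, G, h1, h2, h3, h4, h5⟩

end Groth.Agent.Helper9.CZ6
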