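import Mathlib

/-!
# `Hom(S_•, M)` for a simplicial object `S` of an abelian category: homology
-/

set_option autoImplicit false

open CategoryTheory Limits Opposite Simplicial

namespace Groth.Agent.Helper9.CechHomA

universe v u

variable {𝒜 : Type u} [Category.{v} 𝒜] [Abelian 𝒜] (S : SimplicialObject 𝒜) (M : 𝒜)

/-- the cosimplicial abelian group `Hom(S_n, M)` -/
abbrev Q : CosimplicialObject AddCommGrpCat.{v} := S.rightOp ⋙ preadditiveYoneda.obj M

/-- the cochain complex `Hom(S_•, M)` -/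
noncomputable abbrev D : CochainComplex AddCommGrpCat.{v} ℕ :=
  (AlgebraicTopology.alternatingCofaceMapComplex AddCommGrpCat.{v}).obj (Q S M)

/-- the chain complex of `S` -/
noncomputable abbrev A : ChainComplex 𝒜 ℕ :=
  (AlgebraicTopology.alternatingFaceMapComplex 𝒜).obj S

lemma D_d (p : ℕ) :
    (D S M).d p (p + 1) = (preadditiveYoneda.obj M).map ((A S).d (p + 1) p).op := by
  have h1 : (D S M).d p (p + 1) =
      ∑ i : Fin (p + 2), (-1 : ℤ) ^ (i : ℕ) • (Q S M).δ i := by
    exact CochainComplex.of_d (fun n => (Q S M).obj ⦋n⦌)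
      (AlgebraicTopology.AlternatingCofaceMapComplex.objD (Q S M)) p
  have h2 : (A S).d (p + 1) p = ∑ i : Fin (p + 2), (-1 : ℤ) ^ (i : ℕ) • S.δ i :=
    AlgebraicTopology.AlternatingFaceMapComplex.obj_d_eq S p
  rw [h1, h2, op_sum, Functor.map_sum]
  refine Finset.sum_congr rfl (fun i _ => ?_)
  rw [op_zsmul, Functor.map_zsmul]
  rfl

lemma D_d_apply (p : ℕ) (g : S _⦋p⦌ ⟶ M) :
    (D S M).d p (p + 1) g = (A S).d (p + 1) p ≫ g := by
  rw [D_d]
  rfl

theorem isZero_homology_succ [Injective M] (p : ℕ) (h : IsZero ((A S).homology (p + 1))) :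
    IsZero ((D S M).homology (p + 1)) := by
  rw [← HomologicalComplex.exactAt_iff_isZero_homology] at h ⊢
  rw [HomologicalComplex.exactAt_iff' _ (p + 2) (p + 1) p (by simp) (by simp)] at h
  rw [HomologicalComplex.exactAt_iff' _ p (p + 1) (p + 2) (by simp) (by simp),
    ShortComplex.ab_exact_iff]
  intro g hg
  have hg' : (A S).d (p + 2) (p + 1) ≫ g = 0 := by
    have := D_d_apply S M (p + 1) g
    exact this.symm.trans hg
  refine ⟨h.descToInjective g hg', ?_⟩
  have := D_d_apply S M p (h.descToInjective g hg')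
  exact this.trans (h.comp_descToInjective g hg')

/-- the short complex `0 → Hom(opcycles_0, M) → Hom(S_0, M) → Hom(S_1, M)` -/
noncomputable def T₀ : ShortComplex AddCommGrpCat.{v} :=
  ShortComplex.mk
    ((preadditiveYoneda.obj M).map ((A S).pOpcycles 0).op :
      (preadditiveYoneda.obj M).obj (op ((A S).opcycles 0)) ⟶ (D S M).X 0)
    ((D S M).d 0 1) (by
      ext g
      change (D S M).d 0 1 ((A S).pOpcycles 0 ≫ g) = 0
      rw [D_d_apply, ← Category.assoc, HomologicalComplex.d_pOpcycles, zero_comp]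
      rfl)

lemma T₀_exact : (T₀ S M).Exact := by
  rw [ShortComplex.ab_exact_iff]
  intro g hg
  have hg' : (A S).d 1 0 ≫ g = 0 := (D_d_apply S M 0 g).symm.trans hg
  exact ⟨(A S).descOpcycles g 1 (by simp) hg', (A S).p_descOpcycles g 1 (by simp) hg'⟩

instance : Mono (T₀ S M).f := by
  rw [AddCommGrpCat.mono_iff_injective]
  intro g g' h
  have h' : (A S).pOpcycles 0 ≫ g = (A S).pOpcycles 0 ≫ g' := h
  exact (cancel_epi _).1 h'

/-- `H^0(Hom(S_•, M)) ≅ Hom(opcycles_0, M)` -/
noncomputable def homologyZeroIso₁ :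
    (D S M).homology 0 ≅ (preadditiveYoneda.obj M).obj (op ((A S).opcycles 0)) :=
  ((D S M).isoHomologyπ 0 0 (by simp) ((D S M).shape 0 0 (by simp))).symm ≪≫
    IsLimit.conePointUniqueUpToIso ((D S M).cyclesIsKernel 0 1 (by simp)) (T₀_exact S M).fIsKernel

theorem nonempty_homologyZeroIso (Z : 𝒜) (e : (A S).homology 0 ≅ Z) :
    Nonempty ((D S M).homology 0 ≅ (preadditiveYoneda.obj M).obj (op Z)) := by
  have e' : (A S).opcycles 0 ≅ Z :=
    ((A S).isoHomologyι 0 0 (by simp) ((A S).shape 0 0 (by simp))).symm ≪≫ e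
  exact ⟨homologyZeroIso₁ S M ≪≫ (preadditiveYoneda.obj M).mapIso e'.symm.op⟩

end Groth.Agent.Helper9.CechHomA
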