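import Mathlib
import Groth.Agent.Helper9.CechHomA

/-!
# Dimension shifting for `Hom(S_•, M)`: acyclic objects have no higher cohomology
-/

set_option autoImplicit false

open CategoryTheory Limits Opposite Simplicial

namespace Groth.Agent.Helper9.CechAcycA

open Groth.Agent.Helper9.CechHomA

universe v u

variable {𝒜 : Type u} [Category.{v} 𝒜] [Abelian 𝒜] (S : SimplicialObject 𝒜)

/-- an injective embedding `M ↪ I ↠ Q` with the lifting properties needed for dimension shifting -/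
structure Res (P : 𝒜 → Prop) (M : 𝒜) where
  /-- the injective object -/
  I : 𝒜
  /-- the quotient -/
  Q : 𝒜
  /-- the embedding -/
  ι : M ⟶ I
  /-- the projection -/
  π : I ⟶ Q
  inj : Injective I
  mono : Mono ι
  zero : ι ≫ π = 0
  ker : ∀ {T : 𝒜} (h : T ⟶ I), h ≫ π = 0 → ∃ g : T ⟶ M, g ≫ ι = h
  pQ : P Q
  lift : ∀ (n : ℕ) (k : S _⦋n⦌ ⟶ Q), ∃ k' : S _⦋n⦌ ⟶ I, k' ≫ π = k
  lift₀ : ∀ (k : (A S).opcycles 0 ⟶ Q), ∃ k' : (A S).opcycles 0 ⟶ I, k' ≫ π = k

/-- elementwise exactness of `Hom(S_•, M)` in degree `p + 1` -/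
def E (p : ℕ) (M : 𝒜) : Prop :=
  ∀ g : (A S).X (p + 1) ⟶ M, (A S).d (p + 2) (p + 1) ≫ g = 0 →
    ∃ g₀ : (A S).X p ⟶ M, (A S).d (p + 1) p ≫ g₀ = g

lemma exists_desc (p : ℕ) (h : IsZero ((A S).homology (p + 1))) (I : 𝒜) [Injective I]
    (g : (A S).X (p + 1) ⟶ I) (hg : (A S).d (p + 2) (p + 1) ≫ g = 0) :
    ∃ h : (A S).X p ⟶ I, (A S).d (p + 1) p ≫ h = g := by
  rw [← HomologicalComplex.exactAt_iff_isZero_homology] at h
  rw [HomologicalComplex.exactAt_iff' _ (p + 2) (p + 1) p (by simp) (by simp)] at h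
  exact ⟨h.descToInjective g hg, h.comp_descToInjective g hg⟩

theorem E_of_res (P : 𝒜 → Prop) (hP : ∀ M, P M → Nonempty (Res S P M))
    (hS : ∀ p : ℕ, IsZero ((A S).homology (p + 1))) :
    ∀ (p : ℕ) (M : 𝒜), P M → E S p M := by
  intro p
  induction p with
  | zero =>
    intro M hM g hg
    obtain ⟨R⟩ := hP M hM
    haveI := R.inj
    haveI := R.mono
    obtain ⟨h, hh⟩ := exists_desc S 0 (hS 0) R.I (g ≫ R.ι) (by rw [← Category.assoc, hg, zero_comp])
    -- `h ≫ π` is a `0`-cocycle of `Hom(S_•, Q)`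
    have h1 : (A S).d 1 0 ≫ (h ≫ R.π) = 0 := by
      rw [← Category.assoc, hh, Category.assoc, R.zero, comp_zero]
    obtain ⟨k', hk'⟩ := R.lift₀ ((A S).descOpcycles (h ≫ R.π) 1 (by simp) h1)
    have h2 : (h - (A S).pOpcycles 0 ≫ k') ≫ R.π = 0 := by
      rw [Preadditive.sub_comp, Category.assoc, hk', HomologicalComplex.p_descOpcycles, sub_self]
    obtain ⟨g₀, hg₀⟩ := R.ker _ h2
    refine ⟨g₀, ?_⟩
    rw [← cancel_mono R.ι, Category.assoc, hg₀, Preadditive.comp_sub, hh,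
      HomologicalComplex.d_pOpcycles_assoc, zero_comp, sub_zero]
  | succ p ih =>
    intro M hM g hg
    obtain ⟨R⟩ := hP M hM
    haveI := R.inj
    haveI := R.mono
    obtain ⟨h, hh⟩ := exists_desc S (p + 1) (hS (p + 1)) R.I (g ≫ R.ι)
      (by rw [← Category.assoc, hg, zero_comp])
    have h1 : (A S).d (p + 2) (p + 1) ≫ (h ≫ R.π) = 0 := by
      rw [← Category.assoc, hh, Category.assoc, R.zero, comp_zero]
    obtain ⟨k, hk⟩ := ih R.Q R.pQ (h ≫ R.π) h1
    obtain ⟨k', hk'⟩ : ∃ k' : (A S).X p ⟶ R.I, k' ≫ R.π = k := R.lift p k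
    have h2 : (h - (A S).d (p + 1) p ≫ k') ≫ R.π = 0 := by
      rw [Preadditive.sub_comp, Category.assoc, hk', hk, sub_self]
    obtain ⟨g₀, hg₀⟩ := R.ker _ h2
    refine ⟨g₀, ?_⟩
    rw [← cancel_mono R.ι, Category.assoc, hg₀, Preadditive.comp_sub, hh,
      HomologicalComplex.d_comp_d_assoc, zero_comp, sub_zero]

theorem isZero_homology_succ (P : 𝒜 → Prop) (hP : ∀ M, P M → Nonempty (Res S P M))
    (hS : ∀ p : ℕ, IsZero ((A S).homology (p + 1))) (p : ℕ) (M : 𝒜) (hM : P M) :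
    IsZero ((D S M).homology (p + 1)) := by
  rw [← HomologicalComplex.exactAt_iff_isZero_homology]
  rw [HomologicalComplex.exactAt_iff' _ p (p + 1) (p + 2) (by simp) (by simp),
    ShortComplex.ab_exact_iff]
  intro g hg
  have hg' : (A S).d (p + 2) (p + 1) ≫ g = 0 := (D_d_apply S M (p + 1) g).symm.trans hg
  obtain ⟨g₀, hg₀⟩ := E_of_res S P hP hS p M hM g hg'
  exact ⟨g₀, (D_d_apply S M p g₀).trans hg₀⟩

end Groth.Agent.Helper9.CechAcycA
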