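import Mathlib
import Groth.Agent.Helper9.CoskPshC

/-!
# Special morphisms of coskeletal simplicial presheaves/sheaves: all components are locally
surjective; the sheaf version
-/

set_option autoImplicit false

open CategoryTheory Limits Opposite Functor Simplicial

namespace Groth.Agent.Helper9.CoskPshD

open Groth.Agent.Helper9.CoskSetA Groth.Agent.Helper9.CoskSetB Groth.Agent.Helper9.CoskPshA
  Groth.Agent.Helper9.CoskPshB Groth.Agent.Helper9.CoskPshC SimplicialObject

universe u

variable {C : Type u} [SmallCategory C] (J : GrothendieckTopology C)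

section Presheaf

variable {L K : SimplicialObject (Cᵒᵖ ⥤ Type u)} (f : L ⟶ K) (n : ℕ)
  [∀ (F : (SimplexCategory.Truncated n)ᵒᵖ ⥤ (Cᵒᵖ ⥤ Type u)),
    (SimplexCategory.Truncated.inclusion n).op.HasRightKanExtension F]

lemma surjective_f₁ (h1 : ∀ i : ℕ, i < n → IsIso (f.app (op ⦋i⦌)))
    (h3 : IsIso ((coskAdj n).unit.app L)) (h4 : IsIso ((coskAdj n).unit.app K))
    (m : SimplexCategoryᵒᵖ) (U : Cᵒᵖ) : Function.Surjective (((f₁ f n).app m).app U) := by
  haveI := isIso_unit_secU n L h3 U
  haveI : IsIso ((coskAdj n).unit.app (secU U (K' f n))) := by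
    refine isIso_of_ec _ (ec_K' f n U ?_)
    haveI := isIso_unit_secU n K h4 U
    exact ec_of_isIso _
  have hs := sec_comp (special f n h1 U)
  intro y
  refine ⟨(sec (special f n h1 U)).app m y, ?_⟩
  exact ConcreteCategory.congr_hom (congr_app hs m) y

theorem isLocallySurjective_app (h1 : ∀ i : ℕ, i < n → IsIso (f.app (op ⦋i⦌)))
    [Presheaf.IsLocallySurjective J (f.app (op ⦋n⦌))]
    (h3 : IsIso ((coskAdj n).unit.app L)) (h4 : IsIso ((coskAdj n).unit.app K))
    (m : SimplexCategoryᵒᵖ) : Presheaf.IsLocallySurjective J (f.app m) := by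
  have e : f.app m = (f₁ f n).app m ≫ (ι f n).app m := by
    rw [← NatTrans.comp_app, f₁_ι]
  rw [e]
  haveI : Presheaf.IsLocallySurjective J ((f₁ f n).app m) :=
    Presheaf.isLocallySurjective_of_surjective J _ (fun U => surjective_f₁ f n h1 h3 h4 m U)
  haveI : Presheaf.IsLocallySurjective J ((ι f n).app m) := isLocallySurjective_ι J f n m.unop
  infer_instance

end Presheaf

section Sheaf

variable {K L : SimplicialObject (Sheaf J (Type u))} (v : K ⟶ L) (n : ℕ)
  [∀ (F : (SimplexCategory.Truncated n)ᵒᵖ ⥤ Sheaf J (Type u)),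
    (SimplexCategory.Truncated.inclusion n).op.HasRightKanExtension F]

/-- the underlying morphism of simplicial presheaves -/
abbrev und : ((SimplicialObject.whiskering _ _).obj (sheafToPresheaf J (Type u))).obj K ⟶
    ((SimplicialObject.whiskering _ _).obj (sheafToPresheaf J (Type u))).obj L :=
  ((SimplicialObject.whiskering _ _).obj (sheafToPresheaf J (Type u))).map v

lemma isIso_unit_und (X : SimplicialObject (Sheaf J (Type u)))
    (hX : IsIso ((coskAdj n).unit.app X)) :
    IsIso ((coskAdj n).unit.app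
      (((SimplicialObject.whiskering _ _).obj (sheafToPresheaf J (Type u))).obj X)) := by
  haveI : X.IsCoskeletal n := (isCoskeletal_iff_isIso X n).2 hX
  haveI := isCoskeletal_whiskering (sheafToPresheaf J (Type u)) X n
  exact (isCoskeletal_iff_isIso _ n).1 inferInstance

theorem sheaf_main (h1 : ∀ p : ℕ, p < n → IsIso (v.app (op ⦋p⦌)))
    (h2 : Epi (v.app (op ⦋n⦌)))
    (h3 : IsIso ((coskAdj n).unit.app K)) (h4 : IsIso ((coskAdj n).unit.app L)) :
    (∀ m : SimplexCategoryᵒᵖ, Epi (v.app m)) ∧
    QuasiIso ((AlgebraicTopology.alternatingFaceMapComplex _).map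
      (Functor.whiskerRight v (Sheaf.composeAndSheafify J AddCommGrpCat.free.{u}))) := by
  have h1' : ∀ i : ℕ, i < n → IsIso ((und J v).app (op ⦋i⦌)) := by
    intro i hi
    haveI := h1 i hi
    exact (inferInstance : IsIso ((sheafToPresheaf J (Type u)).map (v.app (op ⦋i⦌))))
  haveI h2' : Presheaf.IsLocallySurjective J ((und J v).app (op ⦋n⦌)) :=
    (Sheaf.isLocallySurjective_iff_epi (v.app (op ⦋n⦌))).2 h2
  have h3' := isIso_unit_und J n K h3
  have h4' := isIso_unit_und J n L h4
  constructor
  · intro m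
    haveI : Sheaf.IsLocallySurjective (v.app m) :=
      isLocallySurjective_app J (und J v) n h1' h3' h4' m
    infer_instance
  · exact quasiIso_sheaf J (und J v) n h1' h3' h4'

end Sheaf

end Groth.Agent.Helper9.CoskPshD
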