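import Mathlib
import Groth.Agent.Helper9.CoskSetB

/-!
# The coskeleton tower: general facts
-/

set_option autoImplicit false

open CategoryTheory Limits Opposite Functor Simplicial

namespace Groth.Agent.Helper9.HypA

open Groth.Agent.Helper9.CoskHtpyA Groth.Agent.Helper9.CoskSetB SimplicialObject

universe v u

variable {E : Type u} [Category.{v} E] [HasFiniteLimits E]
  [∀ (n : ℕ) (F : (SimplexCategory.Truncated n)ᵒᵖ ⥤ E),
    (SimplexCategory.Truncated.inclusion n).op.HasRightKanExtension F]

/-- the unit of the coskeleton adjunction -/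
noncomputable abbrev η (n : ℕ) (X : SimplicialObject E) : X ⟶ (cosk n).obj X :=
  (coskAdj n).unit.app X

lemma η_ε (n : ℕ) (X : SimplicialObject E) (j : SimplexCategory) (hj : j.len ≤ n) :
    (η n X).app (op j) ≫ (ε n X).app (op ⟨j, hj⟩) = 𝟙 (X.obj (op j)) :=
  congr_app ((coskAdj n).left_triangle_components X) (op ⟨j, hj⟩)

lemma hasPW (n : ℕ) : ∀ (F : (SimplexCategory.Truncated n)ᵒᵖ ⥤ E),
    (SimplexCategory.Truncated.inclusion n).op.HasPointwiseRightKanExtension F :=
  fun F => Groth.Agent.Helper6.Cosk1.hasPointwise n F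

instance isIso_counit (n : ℕ) : IsIso (coskAdj (C := E) n).counit := by
  haveI := hasPW (E := E) n
  exact SimplicialObject.Truncated.cosk_reflective n

instance isIso_ε_app (n : ℕ) (X : SimplicialObject E) (a : (SimplexCategory.Truncated n)ᵒᵖ) :
    IsIso ((ε n X).app a) := by
  haveI : IsIso (ε n X) := inferInstanceAs (IsIso ((coskAdj n).counit.app _))
  infer_instance

lemma isIso_η_app (n : ℕ) (X : SimplicialObject E) (j : SimplexCategory) (hj : j.len ≤ n) :
    IsIso ((η n X).app (op j)) := by
  have h := η_ε n X j hj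
  haveI : IsIso ((η n X).app (op j) ≫ (ε n X).app (op ⟨j, hj⟩)) := by
    rw [h]; exact IsIso.id _
  exact IsIso.of_isIso_comp_right ((η n X).app (op j)) ((ε n X).app (op ⟨j, hj⟩))

instance isIso_η_cosk (n : ℕ) (X : SimplicialObject E) : IsIso (η n ((cosk n).obj X)) := by
  haveI := hasPW (E := E) n
  exact inferInstanceAs (IsIso ((reflectorAdjunction (Truncated.cosk n)).unit.app
    ((Truncated.cosk n).obj ((truncation n).obj X))))

lemma isIso_η_of_le {n m : ℕ} (h : n ≤ m) (X : SimplicialObject E) [IsIso (η n X)] :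
    IsIso (η m X) := by
  haveI : X.IsCoskeletal n := (isCoskeletal_iff_isIso X n).2 inferInstance
  haveI := Groth.Agent.Helper6.Cosk1.isCoskeletal_of_le X h
  exact (isCoskeletal_iff_isIso X m).1 inferInstance

lemma isIso_cosk_map_η {k n : ℕ} (h : k ≤ n) (X : SimplicialObject E) :
    IsIso ((cosk k).map (η n X)) := by
  haveI : IsIso ((truncation k).map (η n X)) := by
    haveI : ∀ a, IsIso (((truncation k).map (η n X)).app a) := by
      intro a
      exact isIso_η_app n X a.unop.obj (le_trans a.unop.property h)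
    exact NatIso.isIso_of_isIso_app _
  exact inferInstanceAs (IsIso ((Truncated.cosk k).map ((truncation k).map (η n X))))

end Groth.Agent.Helper9.HypA
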