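import Mathlib
import Groth.Agent.Helper9.HypA
import Groth.Agent.Helper9.CoskPshD

/-!
# Hypercoverings in presheaves: reduction to the terminal simplicial presheaf
-/

set_option autoImplicit false

open CategoryTheory Limits Opposite Functor Simplicial

namespace Groth.Agent.Helper9.HypB

open Groth.Agent.Helper9.CoskHtpyA Groth.Agent.Helper9.CoskSetB Groth.Agent.Helper9.HypA
  Groth.Agent.Helper9.CoskPshC SimplicialObject

universe u

variable {C : Type u} [SmallCategory C] (J : GrothendieckTopology C)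

/-- a simplicial presheaf is a hypercovering (of the final object) -/
structure Hyp (X : SimplicialObject (Cᵒᵖ ⥤ Type u)) : Prop where
  zero : Presheaf.IsLocallySurjective J (terminal.from (X.obj (op ⦋0⦌)))
  succ : ∀ n : ℕ, Presheaf.IsLocallySurjective J ((η n X).app (op ⦋n + 1⦌))

variable {J}

lemma Hyp.coskObj {X : SimplicialObject (Cᵒᵖ ⥤ Type u)} (hX : Hyp J X) (n : ℕ) :
    Hyp J ((cosk n).obj X) where
  zero := by
    haveI := hX.zero
    have fac : (η n X).app (op ⦋0⦌) ≫ terminal.from (((cosk n).obj X).obj (op ⦋0⦌)) =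
        terminal.from (X.obj (op ⦋0⦌)) := terminal.hom_ext _ _
    exact Presheaf.isLocallySurjective_of_isLocallySurjective_fac J fac
  succ k := by
    by_cases hk : k + 1 ≤ n
    · have nat : η n X ≫ η k ((cosk n).obj X) = η k X ≫ (cosk k).map (η n X) :=
        (coskAdj k).unit.naturality (η n X)
      have fac : (η n X).app (op ⦋k + 1⦌) ≫ (η k ((cosk n).obj X)).app (op ⦋k + 1⦌) =
          (η k X).app (op ⦋k + 1⦌) ≫ ((cosk k).map (η n X)).app (op ⦋k + 1⦌) := by
        rw [← NatTrans.comp_app, ← NatTrans.comp_app, nat]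
      haveI := hX.succ k
      haveI := isIso_cosk_map_η (k := k) (n := n) (by omega) X
      haveI : Presheaf.IsLocallySurjective J
          ((η k X).app (op ⦋k + 1⦌) ≫ ((cosk k).map (η n X)).app (op ⦋k + 1⦌)) :=
        inferInstance
      exact Presheaf.isLocallySurjective_of_isLocallySurjective_fac J fac
    · haveI : IsIso (η k ((cosk n).obj X)) := isIso_η_of_le (n := n) (m := k) (by omega) _
      infer_instance

/-- the constant simplicial presheaf at the terminal presheaf -/
noncomputable abbrev T : SimplicialObject (Cᵒᵖ ⥤ Type u) :=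
  (Functor.const SimplexCategoryᵒᵖ).obj (⊤_ (Cᵒᵖ ⥤ Type u))

/-- the map to `T` -/
noncomputable def toT (Y : SimplicialObject (Cᵒᵖ ⥤ Type u)) : Y ⟶ T (C := C) where
  app m := terminal.from (Y.obj m)
  naturality _ _ _ := terminal.hom_ext _ _

lemma toT_ext {Y : SimplicialObject (Cᵒᵖ ⥤ Type u)} (a b : Y ⟶ T (C := C)) : a = b := by
  apply NatTrans.ext
  funext m
  exact terminal.hom_ext (a.app m) (b.app m)

instance isIso_η_T (n : ℕ) : IsIso (η n (T (C := C))) := by
  refine ⟨toT _, toT_ext _ _, ?_⟩
  apply NatTrans.ext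
  funext d
  obtain ⟨m⟩ := d
  refine CoskHtpyA.hom_ext (n := n) (T (C := C)) _ _ (fun j hj φ => ?_)
  exact terminal.hom_ext _ _

variable (J)

theorem quasiIso_toT_of_coskeletal (n : ℕ) :
    ∀ (Y : SimplicialObject (Cᵒᵖ ⥤ Type u)), Hyp J Y → IsIso (η n Y) →
      QuasiIso ((AlgebraicTopology.alternatingFaceMapComplex (Sheaf J AddCommGrpCat.{u})).map
        (Functor.whiskerRight (toT Y) (W ⋙ presheafToSheaf J AddCommGrpCat.{u}))) := by
  induction n with
  | zero =>
    intro Y hY hη
    haveI : Presheaf.IsLocallySurjective J ((toT Y).app (op ⦋0⦌)) := hY.zero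
    exact quasiIso_sheaf J (toT Y) 0 (fun i hi => absurd hi (Nat.not_lt_zero i)) hη
      (isIso_η_T 0)
  | succ n ih =>
    intro Y hY hη
    have hY' : Hyp J ((SimplicialObject.cosk n).obj Y) := hY.coskObj n
    have h1 := ih _ hY' (isIso_η_cosk n Y)
    haveI : Presheaf.IsLocallySurjective J ((η n Y).app (op ⦋n + 1⦌)) := hY.succ n
    have h2 : QuasiIso
        ((AlgebraicTopology.alternatingFaceMapComplex (Sheaf J AddCommGrpCat.{u})).map
          (Functor.whiskerRight (η n Y) (W ⋙ presheafToSheaf J AddCommGrpCat.{u}))) := by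
      refine quasiIso_sheaf J (η n Y) (n + 1) (fun i hi => ?_) hη ?_
      · exact isIso_η_app n Y ⦋i⦌ (by change i ≤ n; omega)
      · exact isIso_η_of_le (n := n) (m := n + 1) (by omega) ((SimplicialObject.cosk n).obj Y)
    have e : toT Y = η n Y ≫ toT ((SimplicialObject.cosk n).obj Y) := toT_ext _ _
    rw [e, Functor.whiskerRight_comp, Functor.map_comp]
    infer_instance

end Groth.Agent.Helper9.HypB
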