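import Mathlib

/-!
# The alternating face map complex of a constant simplicial object; low-degree isomorphisms
-/

set_option autoImplicit false

open CategoryTheory Limits Opposite Simplicial

namespace Groth.Agent.Helper9.HypC

universe v u

lemma sum_neg_one_pow (m : ℕ) :
    (∑ i : Fin m, (-1 : ℤ) ^ (i : ℕ)) = if Even m then 0 else 1 := by
  induction m with
  | zero => simp
  | succ m ih =>
    rw [Fin.sum_univ_castSucc]
    simp only [Fin.val_castSucc, Fin.val_last]
    rw [ih]
    by_cases hm : Even m
    · have h1 : ¬ Even (m + 1) := by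
        rw [Nat.even_add_one]; exact not_not.mpr hm
      rw [if_pos hm, if_neg h1, hm.neg_one_pow]; simp
    · have h1 : Even (m + 1) := by
        rw [Nat.even_add_one]; exact hm
      have h2 : Odd m := Nat.not_even_iff_odd.mp hm
      rw [if_neg hm, if_pos h1, h2.neg_one_pow]; simp

variable {A : Type u} [Category.{v} A] [Abelian A] (M : A)

/-- the alternating face map complex of the constant simplicial object -/
noncomputable abbrev constCx : ChainComplex A ℕ :=
  (AlgebraicTopology.alternatingFaceMapComplex A).obj ((Functor.const SimplexCategoryᵒᵖ).obj M)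

lemma constCx_d (n : ℕ) :
    (constCx M).d (n + 1) n = if Even n then 0 else 𝟙 M := by
  have h := AlgebraicTopology.AlternatingFaceMapComplex.obj_d_eq
    ((Functor.const SimplexCategoryᵒᵖ).obj M) n
  have hδ : ∀ i : Fin (n + 2),
      SimplicialObject.δ ((Functor.const SimplexCategoryᵒᵖ).obj M) i = 𝟙 M := fun i => rfl
  have e : (constCx M).d (n + 1) n = (∑ i : Fin (n + 2), (-1 : ℤ) ^ (i : ℕ)) • 𝟙 M := by
    refine h.trans ?_
    rw [Finset.sum_smul]
    exact Finset.sum_congr rfl (fun i _ => by rw [hδ i])
  rw [e, sum_neg_one_pow]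
  by_cases hn : Even n
  · have h2 : Even (n + 2) := by
      rw [Nat.even_add]; simp [hn]
    rw [if_pos hn, if_pos h2, zero_smul]
  · have h2 : ¬ Even (n + 2) := by
      rw [Nat.even_add]; simp [hn]
    rw [if_neg hn, if_neg h2, one_smul]

lemma isZero_homology_succ (n : ℕ) : IsZero ((constCx M).homology (n + 1)) := by
  rw [← HomologicalComplex.exactAt_iff_isZero_homology,
    HomologicalComplex.exactAt_iff' (constCx M) (n + 2) (n + 1) n (by simp) (by simp)]
  by_cases hn : Even n
  · have hg : ((constCx M).sc' (n + 2) (n + 1) n).g = 0 := by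
      change (constCx M).d (n + 1) n = 0
      rw [constCx_d, if_pos hn]
    rw [ShortComplex.exact_iff_epi _ hg]
    change Epi ((constCx M).d (n + 1 + 1) (n + 1))
    have h1 : ¬ Even (n + 1) := by
      rw [Nat.even_add_one]; exact not_not.mpr hn
    rw [constCx_d, if_neg h1]
    exact inferInstanceAs (Epi (𝟙 M))
  · have h1 : Even (n + 1) := by
      rw [Nat.even_add_one]; exact hn
    have hf : ((constCx M).sc' (n + 2) (n + 1) n).f = 0 := by
      change (constCx M).d (n + 1 + 1) (n + 1) = 0
      rw [constCx_d, if_pos h1]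
    rw [ShortComplex.exact_iff_mono _ hf]
    change Mono ((constCx M).d (n + 1) n)
    rw [constCx_d, if_neg hn]
    exact inferInstanceAs (Mono (𝟙 M))

/-- the degree zero homology of the constant complex -/
noncomputable def homologyZeroIso : (constCx M).homology 0 ≅ M :=
  ((constCx M).isoHomologyπ 1 0 (by simp) (by
      rw [constCx_d, if_pos (by decide : Even 0)])).symm ≪≫
    (constCx M).iCyclesIso 0 0 (by simp) ((constCx M).shape 0 0 (by simp))

lemma quasiIsoAt_of_isIso_f {K L : ChainComplex A ℕ} (φ : K ⟶ L) (i : ℕ)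
    (h : ∀ j : ℕ, j ≤ i + 1 → IsIso (φ.f j)) : QuasiIsoAt φ i := by
  rw [quasiIsoAt_iff]
  haveI : IsIso ((HomologicalComplex.shortComplexFunctor A (ComplexShape.down ℕ) i).map φ).τ₁ :=
    h _ (by simp)
  haveI : IsIso ((HomologicalComplex.shortComplexFunctor A (ComplexShape.down ℕ) i).map φ).τ₂ :=
    h i (by omega)
  haveI : IsIso ((HomologicalComplex.shortComplexFunctor A (ComplexShape.down ℕ) i).map φ).τ₃ :=
    h _ (by
      cases i with
      | zero => simp
      | succ i => simp; omega)
  exact ShortComplex.quasiIso_of_epi_of_isIso_of_mono _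

end Groth.Agent.Helper9.HypC
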