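import Mathlib
import Groth.Agent.Helper9.HypB
import Groth.Agent.Helper9.HypC

/-!
# Hypercoverings in presheaves are acyclic
-/

set_option autoImplicit false

open CategoryTheory Limits Opposite Functor Simplicial

namespace Groth.Agent.Helper9.HypD

open Groth.Agent.Helper9.HypA Groth.Agent.Helper9.HypB Groth.Agent.Helper9.HypC
  Groth.Agent.Helper9.CoskPshC SimplicialObject

universe u

variable {C : Type u} [SmallCategory C] (J : GrothendieckTopology C)

/-- the free abelian sheaf functor on presheaves of sets -/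
noncomputable abbrev G : (Cᵒᵖ ⥤ Type u) ⥤ Sheaf J AddCommGrpCat.{u} :=
  W ⋙ presheafToSheaf J AddCommGrpCat.{u}

variable {J}

lemma quasiIsoAt_toT (X : SimplicialObject (Cᵒᵖ ⥤ Type u)) (hX : Hyp J X) (i : ℕ) :
    QuasiIsoAt ((AlgebraicTopology.alternatingFaceMapComplex (Sheaf J AddCommGrpCat.{u})).map
      (Functor.whiskerRight (toT X) (G J))) i := by
  have e : toT X = η (i + 1) X ≫ toT ((SimplicialObject.cosk (i + 1)).obj X) := toT_ext _ _
  rw [e, Functor.whiskerRight_comp, Functor.map_comp]
  haveI : QuasiIsoAt ((AlgebraicTopology.alternatingFaceMapComplex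
      (Sheaf J AddCommGrpCat.{u})).map (Functor.whiskerRight (η (i + 1) X) (G J))) i := by
    apply quasiIsoAt_of_isIso_f
    intro j hj
    haveI := isIso_η_app (i + 1) X ⦋j⦌ hj
    exact inferInstanceAs (IsIso ((G J).map ((η (i + 1) X).app (op ⦋j⦌))))
  have h2 : QuasiIso ((AlgebraicTopology.alternatingFaceMapComplex
      (Sheaf J AddCommGrpCat.{u})).map
        (Functor.whiskerRight (toT ((SimplicialObject.cosk (i + 1)).obj X)) (G J))) :=
    quasiIso_toT_of_coskeletal J (i + 1) _ (hX.coskObj (i + 1)) (isIso_η_cosk (i + 1) X)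
  haveI := h2.quasiIsoAt i
  exact quasiIsoAt_comp _ _ i

/-- the complex of `T` is the constant complex -/
noncomputable def isoConst :
    (AlgebraicTopology.alternatingFaceMapComplex (Sheaf J AddCommGrpCat.{u})).obj
      (T (C := C) ⋙ G J) ≅ constCx ((G J).obj (⊤_ (Cᵒᵖ ⥤ Type u))) :=
  (AlgebraicTopology.alternatingFaceMapComplex (Sheaf J AddCommGrpCat.{u})).mapIso
    (Functor.constComp _ _ (G J))

/-- the homology of a hypercovering is the homology of the constant complex -/
noncomputable def homologyIso (X : SimplicialObject (Cᵒᵖ ⥤ Type u)) (hX : Hyp J X) (i : ℕ) :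
    ((AlgebraicTopology.alternatingFaceMapComplex (Sheaf J AddCommGrpCat.{u})).obj
      (X ⋙ G J)).homology i ≅ (constCx ((G J).obj (⊤_ (Cᵒᵖ ⥤ Type u)))).homology i :=
  haveI := quasiIsoAt_toT X hX i
  haveI : IsIso (HomologicalComplex.homologyMap
      ((AlgebraicTopology.alternatingFaceMapComplex (Sheaf J AddCommGrpCat.{u})).map
        (Functor.whiskerRight (toT X) (G J))) i) := by
    rw [← quasiIsoAt_iff_isIso_homologyMap]; infer_instance
  asIso (HomologicalComplex.homologyMap
      ((AlgebraicTopology.alternatingFaceMapComplex (Sheaf J AddCommGrpCat.{u})).map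
        (Functor.whiskerRight (toT X) (G J))) i) ≪≫
    (HomologicalComplex.homologyFunctor _ _ i).mapIso isoConst

theorem hyp_main (X : SimplicialObject (Cᵒᵖ ⥤ Type u)) (hX : Hyp J X) :
    (∀ i : ℕ, IsZero (((AlgebraicTopology.alternatingFaceMapComplex
      (Sheaf J AddCommGrpCat.{u})).obj (X ⋙ G J)).homology (i + 1))) ∧
    Nonempty (((AlgebraicTopology.alternatingFaceMapComplex
      (Sheaf J AddCommGrpCat.{u})).obj (X ⋙ G J)).homology 0 ≅
        (G J).obj (⊤_ (Cᵒᵖ ⥤ Type u))) :=
  ⟨fun i => IsZero.of_iso (isZero_homology_succ _ i) (homologyIso X hX (i + 1)),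
    ⟨homologyIso X hX 0 ≪≫ homologyZeroIso _⟩⟩

end Groth.Agent.Helper9.HypD
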