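import Mathlib

/-!
# Right Kan extensions along `Δ_{≤ n} ⊆ Δ` into a category with finite copowers are pointwise
(elementwise form)
-/

set_option autoImplicit false

open CategoryTheory Limits Opposite Functor Simplicial

namespace Groth.Agent.Helper9.CoskPW

universe v u

variable {D : Type u} [Category.{v} D]
  [∀ (m j : SimplexCategory), HasCoproductsOfShape (j ⟶ m) D]

/-- the copower `Z ⊗ Δ[m]` -/
noncomputable def tens (Z : D) (m : SimplexCategory) : SimplexCategoryᵒᵖ ⥤ D where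
  obj j := ∐ (fun _ : j.unop ⟶ m => Z)
  map {j j'} ψ := Sigma.desc (fun φ : j.unop ⟶ m =>
    Sigma.ι (fun _ : j'.unop ⟶ m => Z) (ψ.unop ≫ φ))
  map_id j := by
    apply Sigma.hom_ext
    intro φ
    rw [Sigma.ι_desc, Category.comp_id]
    exact congrArg (Sigma.ι (fun _ : j.unop ⟶ m => Z)) (Category.id_comp φ)
  map_comp {j j' j''} ψ ψ' := by
    apply Sigma.hom_ext
    intro φ
    rw [Sigma.ι_desc, Sigma.ι_desc_assoc, Sigma.ι_desc]
    exact congrArg (Sigma.ι (fun _ : j''.unop ⟶ m => Z)) (Category.assoc _ _ _)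

/-- the inclusions of the copower -/
noncomputable def ιT (Z : D) (m : SimplexCategory) {k : SimplexCategoryᵒᵖ} (φ : k.unop ⟶ m) :
    Z ⟶ (tens Z m).obj k :=
  Sigma.ι (fun _ : k.unop ⟶ m => Z) φ

/-- maps out of the copower -/
noncomputable def descT {Z : D} {m : SimplexCategory} {k : SimplexCategoryᵒᵖ} {Y : D}
    (g : (k.unop ⟶ m) → (Z ⟶ Y)) : (tens Z m).obj k ⟶ Y :=
  Sigma.desc g

@[reassoc]
lemma ιT_descT {Z : D} {m : SimplexCategory} {k : SimplexCategoryᵒᵖ} {Y : D}
    (g : (k.unop ⟶ m) → (Z ⟶ Y)) (φ : k.unop ⟶ m) : ιT Z m φ ≫ descT g = g φ :=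
  Sigma.ι_desc _ _

lemma hom_extT {Z : D} {m : SimplexCategory} {k : SimplexCategoryᵒᵖ} {Y : D}
    (a b : (tens Z m).obj k ⟶ Y) (h : ∀ φ : k.unop ⟶ m, ιT Z m φ ≫ a = ιT Z m φ ≫ b) : a = b :=
  Sigma.hom_ext _ _ h

@[reassoc]
lemma ιT_map (Z : D) (m : SimplexCategory) {k k' : SimplexCategoryᵒᵖ} (ψ : k ⟶ k')
    (φ : k.unop ⟶ m) :
    ιT Z m φ ≫ (tens Z m).map ψ = ιT Z m (ψ.unop ≫ φ) :=
  Sigma.ι_desc _ _

variable {n : ℕ} {G : (SimplexCategory.Truncated n)ᵒᵖ ⥤ D} {R : SimplexCategoryᵒᵖ ⥤ D}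
  (ε : (SimplexCategory.Truncated.inclusion n).op ⋙ R ⟶ G)

/-- a compatible family of morphisms to a truncated simplicial object -/
structure TFam (G : (SimplexCategory.Truncated n)ᵒᵖ ⥤ D) (Z : D) (m : SimplexCategory) where
  c : ∀ (j : SimplexCategory) (hj : j.len ≤ n) (_ : j ⟶ m), (Z ⟶ G.obj (op ⟨j, hj⟩))
  comp : ∀ (j j' : SimplexCategory) (hj : j.len ≤ n) (hj' : j'.len ≤ n) (φ : j ⟶ m) (ψ : j' ⟶ j),
    c j' hj' (ψ ≫ φ) = c j hj φ ≫ G.map
      (Quiver.Hom.op (ObjectProperty.homMk ψ : (⟨j', hj'⟩ : SimplexCategory.Truncated n) ⟶ ⟨j, hj⟩))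

variable {Z : D} {m : SimplexCategory}

/-- the natural transformation attached to a compatible family -/
noncomputable def TFam.γ (F : TFam G Z m) :
    (SimplexCategory.Truncated.inclusion n).op ⋙ tens Z m ⟶ G where
  app a := descT (k := (SimplexCategory.Truncated.inclusion n).op.obj a)
    (fun φ : a.unop.obj ⟶ m => F.c a.unop.obj a.unop.property φ)
  naturality a b θ := by
    refine hom_extT (k := (SimplexCategory.Truncated.inclusion n).op.obj a) _ _ (fun φ => ?_)
    have h1 : ιT Z m φ ≫ ((SimplexCategory.Truncated.inclusion n).op ⋙ tens Z m).map θ =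
        ιT Z m (k := (SimplexCategory.Truncated.inclusion n).op.obj b) (θ.unop.hom ≫ φ) :=
      ιT_map Z m ((SimplexCategory.Truncated.inclusion n).op.map θ) φ
    rw [← Category.assoc, h1, ιT_descT, ← Category.assoc, ιT_descT]
    exact F.comp a.unop.obj b.unop.obj a.unop.property b.unop.property φ θ.unop.hom

variable [R.IsRightKanExtension ε]

theorem exists_unique_lift (F : TFam G Z m) :
    ∃! t : Z ⟶ R.obj (op m), ∀ (j : SimplexCategory) (hj : j.len ≤ n) (φ : j ⟶ m),
      t ≫ R.map φ.op ≫ ε.app (op ⟨j, hj⟩) = F.c j hj φ := by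
  let σ := R.liftOfIsRightKanExtension ε (tens Z m) F.γ
  have hσ : whiskerLeft (SimplexCategory.Truncated.inclusion n).op σ ≫ ε = F.γ :=
    R.liftOfIsRightKanExtension_fac ε (tens Z m) F.γ
  refine ⟨ιT Z m (k := op m) (𝟙 m) ≫ σ.app (op m), ?_, ?_⟩
  · intro j hj φ
    have h1 : σ.app (op m) ≫ R.map φ.op = (tens Z m).map φ.op ≫ σ.app (op j) :=
      (σ.naturality φ.op).symm
    have h2 : σ.app (op j) ≫ ε.app (op ⟨j, hj⟩) = F.γ.app (op ⟨j, hj⟩) :=
      congr_app hσ (op ⟨j, hj⟩)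
    have h3 : ιT Z m (k := op m) (𝟙 m) ≫ (tens Z m).map φ.op = ιT Z m (k := op j) φ := by
      rw [ιT_map]
      exact congrArg (ιT Z m (k := op j)) (Category.comp_id φ)
    rw [Category.assoc, ← Category.assoc (σ.app (op m)), h1, Category.assoc, h2,
      ← Category.assoc, h3]
    exact ιT_descT _ _
  · intro t' ht'
    let σ' : tens Z m ⟶ R :=
      { app := fun k => descT (fun φ : k.unop ⟶ m => t' ≫ R.map φ.op)
        naturality := by
          intro k k' ψ
          refine hom_extT _ _ (fun φ => ?_)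
          rw [← Category.assoc, ιT_map, ιT_descT, ← Category.assoc, ιT_descT,
            Category.assoc, ← R.map_comp]
          rfl }
    have hσ' : whiskerLeft (SimplexCategory.Truncated.inclusion n).op σ' ≫ ε = F.γ := by
      apply NatTrans.ext
      funext a
      refine hom_extT (k := (SimplexCategory.Truncated.inclusion n).op.obj a) _ _ (fun φ => ?_)
      have e1 : ιT Z m φ ≫
          (whiskerLeft (SimplexCategory.Truncated.inclusion n).op σ' ≫ ε).app a =
          t' ≫ R.map φ.op ≫ ε.app a := by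
        change _ ≫ (descT _ ≫ ε.app a) = _
        rw [← Category.assoc, ιT_descT, Category.assoc]
      rw [e1]
      exact (ht' a.unop.obj a.unop.property φ).trans (ιT_descT _ _).symm
    have e : σ' = σ := R.hom_ext_of_isRightKanExtension ε σ' σ (hσ'.trans hσ.symm)
    have h4 : ιT Z m (k := op m) (𝟙 m) ≫ σ'.app (op m) = t' := by
      change _ ≫ descT _ = _
      rw [ιT_descT, op_id, R.map_id, Category.comp_id]
    rw [← h4, e]

end Groth.Agent.Helper9.CoskPW
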