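import Mathlib
import Groth.Agent.Helper6.FCYoneda
import Groth.Agent.Helper6.CoskZeroSR
import Groth.Agent.Helper9.CoskPW
import Groth.Agent.Helper9.HypB

/-!
# From hypercoverings in formal coproducts to hypercoverings in presheaves
-/

set_option autoImplicit false

open CategoryTheory Limits Opposite Functor Simplicial

namespace Groth.Agent.Helper9.HypE

open Groth.Agent.Helper9.CoskHtpyA Groth.Agent.Helper9.CoskSetB Groth.Agent.Helper9.HypA
  Groth.Agent.Helper9.HypB Groth.Agent.Helper9.CoskPW Groth.Agent.Helper6 SimplicialObject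

universe u

variable {C : Type u} [SmallCategory C]

lemma cast_eq_comp_eqToHom {K : FormalCoproduct.{u} C} {U : C} {a b : K.I} (h : a = b)
    (g : U ⟶ K.obj a) (pf : (U ⟶ K.obj a) = (U ⟶ K.obj b)) :
    cast pf g = g ≫ eqToHom (congrArg K.obj h) := by
  subst h
  simp

lemma elt_injective {K : FormalCoproduct.{u} C} {U : C}
    (m m' : (FormalCoproduct.incl C).obj U ⟶ K) (h : FCY.elt m = FCY.elt m') : m = m' := by
  have hc : IsColimit (Cofan.mk _ (fun i : K.I =>
      ((evaluation Cᵒᵖ (Type u)).obj (op U)).map (Sigma.ι (fun i => yoneda.obj (K.obj i)) i))) :=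
    isColimitMapCoconeCofanMkEquiv _ _ _
      (isColimitOfPreserves ((evaluation Cᵒᵖ (Type u)).obj (op U))
        (coproductIsCoproduct (fun i : K.I => yoneda.obj (K.obj i))))
  obtain ⟨hij, hφ⟩ := (Cofan.inj_apply_eq_iff_of_isColimit hc (m.φ PUnit.unit)
    (m'.φ PUnit.unit)).1 h
  refine FormalCoproduct.hom_ext ?_ ?_
  · funext x
    exact hij
  · intro x
    cases x
    have e := cast_eq_comp_eqToHom (K := K) (U := U) hij (m.φ PUnit.unit) (by rw [hij])
    exact (e.symm.trans hφ.symm)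

lemma sections_ext (X : SimplicialObject (Cᵒᵖ ⥤ Type u)) (n : ℕ) {m : SimplexCategory} {V : Cᵒᵖ}
    (y y' : (((SimplicialObject.cosk n).obj X).obj (op m)).obj V)
    (h : ∀ (j : SimplexCategory) (hj : j.len ≤ n) (φ : j ⟶ m),
      (pr n X φ hj).app V y = (pr n X φ hj).app V y') : y = y' := by
  have hlim := isLimitOfPreserves ((evaluation Cᵒᵖ (Type u)).obj V) (isPW n X (op m))
  apply Concrete.isLimit_ext _ hlim
  intro g
  obtain ⟨⟨⟩, ⟨⟨j, hj⟩⟩, φ⟩ := g
  exact h j hj φ.unop

section FC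

variable (K : SimplicialObject (FormalCoproduct.{u} C)) (n : ℕ)
  [∀ (F : (SimplexCategory.Truncated n)ᵒᵖ ⥤ FormalCoproduct.{u} C),
    (SimplexCategory.Truncated.inclusion n).op.HasRightKanExtension F]

/-- the counit of the coskeleton in formal coproducts -/
noncomputable abbrev εFC :
    (SimplexCategory.Truncated.inclusion n).op ⋙ (SimplicialObject.cosk n).obj K ⟶
      (truncation n).obj K :=
  (coskAdj n).counit.app ((truncation n).obj K)

lemma unit_prFC {m j : SimplexCategory} (φ : j ⟶ m) (hj : j.len ≤ n) :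
    ((coskAdj n).unit.app K).app (op m) ≫ ((SimplicialObject.cosk n).obj K).map φ.op ≫
      (εFC K n).app (op ⟨j, hj⟩) = K.map φ.op := by
  have h1 : K.map φ.op ≫ ((coskAdj n).unit.app K).app (op j) =
      ((coskAdj n).unit.app K).app (op m) ≫ ((SimplicialObject.cosk n).obj K).map φ.op :=
    ((coskAdj n).unit.app K).naturality φ.op
  have h2 : ((coskAdj n).unit.app K).app (op j) ≫ (εFC K n).app (op ⟨j, hj⟩) =
      𝟙 (K.obj (op j)) :=
    congr_app ((coskAdj n).left_triangle_components K) (op ⟨j, hj⟩)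
  have h3 : K.map φ.op ≫ (((coskAdj n).unit.app K).app (op j) ≫ (εFC K n).app (op ⟨j, hj⟩)) =
      K.map φ.op := by
    rw [h2]; exact Category.comp_id _
  rw [← Category.assoc, ← h1, Category.assoc]
  exact h3

variable (J : GrothendieckTopology C)
  [∀ (F : (SimplexCategory.Truncated n)ᵒᵖ ⥤ (Cᵒᵖ ⥤ Type u)),
    (SimplexCategory.Truncated.inclusion n).op.HasRightKanExtension F]

/-- the simplicial presheaf attached to a simplicial formal coproduct -/
noncomputable abbrev FK : SimplicialObject (Cᵒᵖ ⥤ Type u) := K ⋙ FormalCoproduct.yoneda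

theorem isLocallySurjective_η (m : SimplexCategory)
    [Presheaf.IsLocallySurjective J
      (FormalCoproduct.yoneda.map (((coskAdj n).unit.app K).app (op m)))] :
    Presheaf.IsLocallySurjective J (((coskAdj n).unit.app (FK K)).app (op m)) where
  imageSieve_mem {U} y := by
    -- the compatible family of morphisms in formal coproducts
    have hx : ∀ (j : SimplexCategory) (hj : j.len ≤ n) (φ : j ⟶ m),
        ∃ a : (FormalCoproduct.incl C).obj U ⟶ K.obj (op j),
          FCY.elt a = (pr n (FK K) φ hj).app (op U) y := fun j hj φ => FCY.exists_elt _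
    choose a ha using hx
    let F : TFam ((truncation n).obj K) ((FormalCoproduct.incl C).obj U) m :=
      { c := a
        comp := by
          intro j j' hj hj' φ ψ
          apply elt_injective
          rw [ha]
          have e1 : (pr n (FK K) (ψ ≫ φ) hj').app (op U) y =
              ((FK K).map ψ.op).app (op U) ((pr n (FK K) φ hj).app (op U) y) := by
            rw [pr_comp (FK K) φ hj ψ hj']
            rfl
          rw [e1, ← ha j hj φ]
          exact FCY.map_elt (K.map ψ.op) (a j hj φ) }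
    obtain ⟨t, ht, -⟩ := CoskPW.exists_unique_lift (εFC K n) F
    refine J.superset_covering ?_ (Presheaf.imageSieve_mem J
      (FormalCoproduct.yoneda.map (((coskAdj n).unit.app K).app (op m))) (FCY.elt t))
    intro V g hg
    obtain ⟨z, hz⟩ := hg
    obtain ⟨w, rfl⟩ := FCY.exists_elt z
    rw [FCY.map_elt, FCY.restrict_elt] at hz
    have hw : w ≫ ((coskAdj n).unit.app K).app (op m) = (FormalCoproduct.incl C).map g ≫ t :=
      elt_injective _ _ hz
    refine ⟨FCY.elt w, ?_⟩
    apply sections_ext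
    intro j hj φ
    have e1 : (pr n (FK K) φ hj).app (op V)
        ((((coskAdj n).unit.app (FK K)).app (op m)).app (op V) (FCY.elt w)) =
        ((FK K).map φ.op).app (op V) (FCY.elt w) :=
      ConcreteCategory.congr_hom (congr_app (unit_pr (FK K) φ hj) (op V)) (FCY.elt w)
    have e2 : (pr n (FK K) φ hj).app (op V)
        ((((SimplicialObject.cosk n).obj (FK K)).obj (op m)).map g.op y) =
        ((FK K).obj (op j)).map g.op ((pr n (FK K) φ hj).app (op U) y) :=
      NatTrans.naturality_apply (pr n (FK K) φ hj) g.op y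
    have e3 : ((FK K).obj (op j)).map g.op (FCY.elt (a j hj φ)) =
        FCY.elt ((FormalCoproduct.incl C).map g ≫ a j hj φ) := FCY.restrict_elt g (a j hj φ)
    rw [e1, e2, ← ha j hj φ, e3]
    refine (FCY.map_elt (K.map φ.op) w).trans (congrArg FCY.elt ?_)
    let q : ((SimplicialObject.cosk n).obj K).obj (op m) ⟶ K.obj (op j) :=
      ((SimplicialObject.cosk n).obj K).map φ.op ≫ (εFC K n).app (op ⟨j, hj⟩)
    have s1 : ((coskAdj n).unit.app K).app (op m) ≫ q = K.map φ.op := unit_prFC K n φ hj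
    have s2 : t ≫ q = a j hj φ := ht j hj φ
    rw [← s1, ← s2, ← Category.assoc, hw, Category.assoc]

end FC

section Zero

lemma hom_zero_one (φ : ⦋0⦌ ⟶ ⦋1⦌) :
    φ = SimplexCategory.δ (1 : Fin 2) ∨ φ = SimplexCategory.δ (0 : Fin 2) := by
  have h : φ.toOrderHom 0 = 0 ∨ φ.toOrderHom 0 = 1 := by
    generalize φ.toOrderHom 0 = b
    fin_cases b
    · exact Or.inl rfl
    · exact Or.inr rfl
  rcases h with h | h
  · left
    apply SimplexCategory.Hom.ext
    apply OrderHom.ext
    funext i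
    obtain rfl : i = 0 := @Subsingleton.elim (Fin 1) inferInstance _ _
    rw [h]
    rfl
  · right
    apply SimplexCategory.Hom.ext
    apply OrderHom.ext
    funext i
    obtain rfl : i = 0 := @Subsingleton.elim (Fin 1) inferInstance _ _
    rw [h]
    rfl

lemma fst_lift_app {P A B : Cᵒᵖ ⥤ Type u} (a : P ⟶ A) (b : P ⟶ B) (V : Cᵒᵖ) (p : P.obj V) :
    (prod.fst : A ⨯ B ⟶ A).app V ((prod.lift a b).app V p) = a.app V p :=
  ConcreteCategory.congr_hom (congrArg (fun t => NatTrans.app t V) (prod.lift_fst a b)) p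

lemma snd_lift_app {P A B : Cᵒᵖ ⥤ Type u} (a : P ⟶ A) (b : P ⟶ B) (V : Cᵒᵖ) (p : P.obj V) :
    (prod.snd : A ⨯ B ⟶ B).app V ((prod.lift a b).app V p) = b.app V p :=
  ConcreteCategory.congr_hom (congrArg (fun t => NatTrans.app t V) (prod.lift_snd a b)) p

variable (J : GrothendieckTopology C)
  [∀ (F : (SimplexCategory.Truncated 0)ᵒᵖ ⥤ (Cᵒᵖ ⥤ Type u)),
    (SimplexCategory.Truncated.inclusion 0).op.HasRightKanExtension F]

theorem isLocallySurjective_η_zero (X : SimplicialObject (Cᵒᵖ ⥤ Type u))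
    [Presheaf.IsLocallySurjective J (prod.lift (X.δ (1 : Fin 2)) (X.δ (0 : Fin 2)))] :
    Presheaf.IsLocallySurjective J (((coskAdj 0).unit.app X).app (op ⦋1⦌)) where
  imageSieve_mem {U} y := by
    let P : ((SimplicialObject.cosk 0).obj X).obj (op ⦋1⦌) ⟶ X.obj (op ⦋0⦌) ⨯ X.obj (op ⦋0⦌) :=
      prod.lift (pr 0 X (SimplexCategory.δ (1 : Fin 2)) le_rfl)
        (pr 0 X (SimplexCategory.δ (0 : Fin 2)) le_rfl)
    refine J.superset_covering ?_ (Presheaf.imageSieve_mem J
      (prod.lift (X.δ (1 : Fin 2)) (X.δ (0 : Fin 2))) (P.app (op U) y))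
    intro V g hg
    obtain ⟨w, hw⟩ := hg
    refine ⟨w, ?_⟩
    apply sections_ext
    intro j hj φ
    obtain rfl : j = ⦋0⦌ := by
      apply SimplexCategory.ext
      have : j.len = 0 := Nat.le_zero.mp hj
      exact this
    have e1 : (pr 0 X φ hj).app (op V)
        ((((coskAdj 0).unit.app X).app (op ⦋1⦌)).app (op V) w) = (X.map φ.op).app (op V) w :=
      ConcreteCategory.congr_hom (congr_app (unit_pr X φ hj) (op V)) w
    have e2 : (pr 0 X φ hj).app (op V)
        ((((SimplicialObject.cosk 0).obj X).obj (op ⦋1⦌)).map g.op y) =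
        (X.obj (op ⦋0⦌)).map g.op ((pr 0 X φ hj).app (op U) y) :=
      NatTrans.naturality_apply (pr 0 X φ hj) g.op y
    rw [e1, e2]
    rcases hom_zero_one φ with rfl | rfl
    · have h1 := congrArg ((prod.fst : X.obj (op ⦋0⦌) ⨯ X.obj (op ⦋0⦌) ⟶ _).app (op V)) hw
      rw [fst_lift_app] at h1
      have h2 : (prod.fst : X.obj (op ⦋0⦌) ⨯ X.obj (op ⦋0⦌) ⟶ _).app (op V)
          ((X.obj (op ⦋0⦌) ⨯ X.obj (op ⦋0⦌)).map g.op (P.app (op U) y)) =
          (X.obj (op ⦋0⦌)).map g.op ((prod.fst : X.obj (op ⦋0⦌) ⨯ X.obj (op ⦋0⦌) ⟶ _).app (op U)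
            (P.app (op U) y)) :=
        NatTrans.naturality_apply (prod.fst : X.obj (op ⦋0⦌) ⨯ X.obj (op ⦋0⦌) ⟶ _) g.op _
      rw [h2, fst_lift_app] at h1
      exact h1
    · have h1 := congrArg ((prod.snd : X.obj (op ⦋0⦌) ⨯ X.obj (op ⦋0⦌) ⟶ _).app (op V)) hw
      rw [snd_lift_app] at h1
      have h2 : (prod.snd : X.obj (op ⦋0⦌) ⨯ X.obj (op ⦋0⦌) ⟶ _).app (op V)
          ((X.obj (op ⦋0⦌) ⨯ X.obj (op ⦋0⦌)).map g.op (P.app (op U) y)) =
          (X.obj (op ⦋0⦌)).map g.op ((prod.snd : X.obj (op ⦋0⦌) ⨯ X.obj (op ⦋0⦌) ⟶ _).app (op U)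
            (P.app (op U) y)) :=
        NatTrans.naturality_apply (prod.snd : X.obj (op ⦋0⦌) ⨯ X.obj (op ⦋0⦌) ⟶ _) g.op _
      rw [h2, snd_lift_app] at h1
      exact h1

end Zero

theorem hyp_of_isHypercoveringSite (J : GrothendieckTopology C)
    (K : SimplicialObject (FormalCoproduct.{u} C))
    [∀ (n : ℕ) (F : (SimplexCategory.Truncated n)ᵒᵖ ⥤ FormalCoproduct.{u} C),
      (SimplexCategory.Truncated.inclusion n).op.HasRightKanExtension F]
    (hK : Hyper.IsHypercoveringSite J K) : Hyp J (FK K) where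
  zero := hK.1
  succ n := by
    cases n with
    | zero =>
      haveI : Presheaf.IsLocallySurjective J
          (prod.lift ((FK K).δ (1 : Fin 2)) ((FK K).δ (0 : Fin 2))) := hK.2.1
      exact isLocallySurjective_η_zero J (FK K)
    | succ n =>
      haveI := hK.2.2 (n + 1) (by omega)
      exact isLocallySurjective_η K (n + 1) J ⦋n + 1 + 1⦌

end Groth.Agent.Helper9.HypE
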