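import Mathlib
import Groth.Agent.Helper9.HypD
import Groth.Agent.Helper9.HypE

/-!
# Hypercoverings of the final object are acyclic (formal coproduct version)
-/

set_option autoImplicit false

open CategoryTheory Limits Opposite Functor Simplicial

namespace Groth.Agent.Helper9.HypF

open Groth.Agent.Helper9.HypB Groth.Agent.Helper9.HypD Groth.Agent.Helper9.HypE
  Groth.Agent.Helper9.CoskPshC SimplicialObject

universe u

variable {C : Type u} [SmallCategory C] (J : GrothendieckTopology C)

/-- the constant presheaf `PUnit` is terminal -/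
def isTerminalConstPUnit : IsTerminal ((Functor.const Cᵒᵖ).obj PUnit.{u + 1}) :=
  IsTerminal.ofUniqueHom (fun P => { app := fun _ => ↾fun _ => PUnit.unit })
    (fun P f => by
      apply NatTrans.ext
      funext U
      ext x
      rfl)

/-- the free abelian presheaf on the terminal presheaf is the constant presheaf `ℤ[*]` -/
noncomputable def freeTerminalIso :
    (W (C := C)).obj (⊤_ (Cᵒᵖ ⥤ Type u)) ≅
      (Functor.const Cᵒᵖ).obj (AddCommGrpCat.free.{u}.obj PUnit.{u + 1}) :=
  (W (C := C)).mapIso (terminalIsTerminal.uniqueUpToIso isTerminalConstPUnit) ≪≫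
    Functor.constComp _ _ _

/-- `ℤ[*] ≅ ℤ` -/
noncomputable def freePUnitIso :
    AddCommGrpCat.free.{u}.obj PUnit.{u + 1} ≅ AddCommGrpCat.of (ULift.{u} ℤ) :=
  AddEquiv.toAddCommGrpIso
    ((FreeAbelianGroup.uniqueEquiv PUnit.{u + 1}).trans AddEquiv.ulift.symm)

/-- the free abelian sheaf on the terminal presheaf is the constant sheaf `ℤ[*]^#` -/
noncomputable def sheafTerminalIso :
    (G J).obj (⊤_ (Cᵒᵖ ⥤ Type u)) ≅ (presheafToSheaf J AddCommGrpCat.{u}).obj
      ((Functor.const Cᵒᵖ).obj (AddCommGrpCat.free.{u}.obj PUnit.{u + 1})) :=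
  (presheafToSheaf J AddCommGrpCat.{u}).mapIso freeTerminalIso

/-- the free abelian sheaf on the terminal presheaf is the constant sheaf `ℤ` -/
noncomputable def sheafTerminalIso' :
    (G J).obj (⊤_ (Cᵒᵖ ⥤ Type u)) ≅
      (constantSheaf J AddCommGrpCat.{u}).obj (AddCommGrpCat.of (ULift.{u} ℤ)) :=
  sheafTerminalIso J ≪≫ (constantSheaf J AddCommGrpCat.{u}).mapIso freePUnitIso

theorem main (K : SimplicialObject (FormalCoproduct.{u} C))
    [∀ (n : ℕ) (F : (SimplexCategory.Truncated n)ᵒᵖ ⥤ FormalCoproduct.{u} C),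
      (SimplexCategory.Truncated.inclusion n).op.HasRightKanExtension F]
    (hK : Hyper.IsHypercoveringSite J K) :
    (∀ i : ℕ, IsZero ((Hyper.freeChainCx J K).homology (i + 1))) ∧
    Nonempty ((Hyper.freeChainCx J K).homology 0 ≅ (G J).obj (⊤_ (Cᵒᵖ ⥤ Type u))) :=
  hyp_main (FK K) (hyp_of_isHypercoveringSite J K hK)

end Groth.Agent.Helper9.HypF
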