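import Mathlib
import Groth.Prelude.Def_Hyper
import Groth.Agent.Helper9.CechHomA
import Groth.Agent.Helper9.CechHomB
import Groth.Agent.Helper9.HypF

/-!
# The Čech complex of a sheaf with respect to a simplicial formal coproduct is `Hom(ℤ[F(K)]^#, -)`
-/

set_option autoImplicit false

open CategoryTheory Limits Opposite Functor

namespace Groth.Agent.Helper9.CechHomC

open Groth.Agent.Helper9.CoskPshC Groth.Agent.Helper9.CechHomA Groth.Agent.Helper9.CechHomB
  Groth.Agent.Helper9.HypD

universe u

variable {C : Type u} [SmallCategory C] (J : GrothendieckTopology C)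
  (K : SimplicialObject (FormalCoproduct.{u} C)) (I : Sheaf J AddCommGrpCat.{u})

/-- the iso of cosimplicial abelian groups -/
noncomputable def cosimpIso :
    Q (Hyper.freeSimplicialSheaf J K) I ≅
      (FormalCoproduct.cosimplicialObjectFunctor K).obj I.obj :=
  isoWhiskerLeft K.rightOp (Ψ I)

/-- the Čech complex is `Hom(ℤ[F(K)]^#, I)` -/
noncomputable def cxIso :
    D (Hyper.freeSimplicialSheaf J K) I ≅ Hyper.cechCxSite K I.obj :=
  (AlgebraicTopology.alternatingCofaceMapComplex AddCommGrpCat.{u}).mapIso (cosimpIso J K I)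

theorem isZero_homology_succ
    [∀ (n : ℕ) (F : (SimplexCategory.Truncated n)ᵒᵖ ⥤ FormalCoproduct.{u} C),
      (SimplexCategory.Truncated.inclusion n).op.HasRightKanExtension F]
    (hK : Hyper.IsHypercoveringSite J K) [Injective I] (p : ℕ) :
    IsZero ((Hyper.cechCxSite K I.obj).homology (p + 1)) := by
  have h1 : IsZero ((D (Hyper.freeSimplicialSheaf J K) I).homology (p + 1)) :=
    CechHomA.isZero_homology_succ _ I p ((HypF.main J K hK).1 p)
  exact h1.of_iso
    ((HomologicalComplex.homologyFunctor AddCommGrpCat.{u} _ (p + 1)).mapIso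
      (cxIso J K I)).symm

/-- the constant presheaf `PUnit` -/
abbrev P₁ : Cᵒᵖ ⥤ Type u := (Functor.const Cᵒᵖ).obj PUnit.{u + 1}

/-- the free abelian sheaf on the constant presheaf `PUnit` -/
noncomputable abbrev Z' : Sheaf J AddCommGrpCat.{u} := (G J).obj P₁

/-- the universal sections of `Z'` -/
noncomputable def t (U : Cᵒᵖ) : (Z' J).obj.obj U :=
  ((adj J).unit.app P₁).app U PUnit.unit

lemma t_map {U V : Cᵒᵖ} (f : U ⟶ V) : (Z' J).obj.map f (t J U) = t J V :=
  (NatTrans.naturality_apply ((adj J).unit.app P₁) f PUnit.unit).symm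

lemma homEquiv_app (F : Sheaf J AddCommGrpCat.{u}) (φ : Z' J ⟶ F) (U : Cᵒᵖ) (x : PUnit.{u + 1}) :
    ((adj J).homEquiv P₁ F φ).app U x = φ.hom.app U (t J U) := by
  rw [Adjunction.homEquiv_unit]
  rfl

variable (F : Sheaf J AddCommGrpCat.{u})

/-- the cone of evaluations at the universal sections -/
noncomputable def cone : Cone F.obj where
  pt := (preadditiveYoneda.obj F).obj (op (Z' J))
  π :=
    { app := fun U => AddCommGrpCat.ofHom
        { toFun := fun φ => φ.hom.app U (t J U)
          map_zero' := rfl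
          map_add' := fun _ _ => rfl }
      naturality := fun U V f => by
        ext φ
        change φ.hom.app V (t J V) = F.obj.map f (φ.hom.app U (t J U))
        rw [← t_map J f]
        exact NatTrans.naturality_apply φ.hom f (t J U) }

/-- the comparison map `Hom(ℤ^#, F) ⟶ lim F` -/
noncomputable def ψ : (preadditiveYoneda.obj F).obj (op (Z' J)) ⟶ limit F.obj :=
  limit.lift F.obj (cone J F)

lemma π_ψ (U : Cᵒᵖ) (φ : Z' J ⟶ F) :
    limit.π F.obj U (ψ J F φ) = φ.hom.app U (t J U) :=
  ConcreteCategory.congr_hom (limit.lift_π (cone J F) U) φ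

instance : IsIso (ψ J F) := by
  rw [ConcreteCategory.isIso_iff_bijective]
  constructor
  · intro φ φ' h
    have key : ∀ (a b : Z' J ⟶ F), ψ J F a = ψ J F b → a = b := by
      intro a b hab
      apply ((adj J).homEquiv P₁ F).injective
      apply NatTrans.ext
      funext U
      ext x
      refine (homEquiv_app J F a U x).trans (Eq.trans ?_ (homEquiv_app J F b U x).symm)
      rw [← π_ψ, ← π_ψ]
      exact congrArg _ hab
    exact key φ φ' h
  · intro x
    let s : P₁ ⟶ (R J).obj F :=
      { app := fun U => ↾fun _ => limit.π F.obj U x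
        naturality := fun U V f => by
          ext y
          exact (ConcreteCategory.congr_hom (limit.w F.obj f) x).symm }
    refine ⟨((adj J).homEquiv P₁ F).symm s, ?_⟩
    refine Concrete.limit_ext F.obj _ _ (fun U => ?_)
    rw [π_ψ, ← homEquiv_app J F _ U PUnit.unit, Equiv.apply_symm_apply]
    rfl

theorem nonempty_homologyZeroIso
    [∀ (n : ℕ) (F : (SimplexCategory.Truncated n)ᵒᵖ ⥤ FormalCoproduct.{u} C),
      (SimplexCategory.Truncated.inclusion n).op.HasRightKanExtension F]
    (hK : Hyper.IsHypercoveringSite J K) :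
    Nonempty ((Hyper.cechCxSite K F.obj).homology 0 ≅ limit F.obj) := by
  obtain ⟨e⟩ := (HypF.main J K hK).2
  obtain ⟨e'⟩ := CechHomA.nonempty_homologyZeroIso (Hyper.freeSimplicialSheaf J K) F _ e
  have e₂ : (G J).obj (⊤_ (Cᵒᵖ ⥤ Type u)) ≅ Z' J :=
    (G J).mapIso (terminalIsTerminal.uniqueUpToIso HypF.isTerminalConstPUnit)
  exact ⟨((HomologicalComplex.homologyFunctor AddCommGrpCat.{u} _ 0).mapIso
      (cxIso J K F)).symm ≪≫ e' ≪≫ (preadditiveYoneda.obj F).mapIso e₂.symm.op ≪≫
      asIso (ψ J F)⟩

end Groth.Agent.Helper9.CechHomC
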