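import Mathlib

/-! Restriction of abelian sheaves to a slice site preserves injectives: the left Kan extension
along `(Over.forget U).op` preserves monomorphisms of abelian presheaves. -/

set_option autoImplicit false
set_option backward.isDefEq.respectTransparency false
universe u

open CategoryTheory CategoryTheory.Limits Opposite

namespace Groth.Agent.Helper9.OverInj

variable {C : Type u} [SmallCategory C] (U : C)

/-- the functor along which we extend -/
abbrev L : (Over U)ᵒᵖ ⥤ Cᵒᵖ := (Over.forget U).op

section Final

variable (V : C)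

/-- the index category of the pointwise Kan extension -/
abbrev K := CostructuredArrow (L U) (op V)

/-- the discrete subcategory of "terminal objects of the components" -/
def Φobj (φ : V ⟶ U) : K U V :=
  CostructuredArrow.mk (S := L U) (Y := op (Over.mk φ)) (T := op V) (𝟙 (op V))

/-- the inclusion of the discrete subcategory -/
def Φ : Discrete (V ⟶ U) ⥤ K U V := Discrete.functor (Φobj U V)

variable {U V}

/-- the morphism to `U` attached to an object of `K` -/
def φOf (k : K U V) : V ⟶ U := k.hom.unop ≫ k.left.unop.hom

lemma hom_left_unop_left {k : K U V} {φ : V ⟶ U} (m : k ⟶ Φobj U V φ) :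
    m.left.unop.left = k.hom.unop := by
  have h := CostructuredArrow.w m
  have h3 : (Φobj U V φ).hom = 𝟙 (op V) := rfl
  rw [h3] at h
  have h4 : (L U).map m.left = k.hom := (Category.comp_id _).symm.trans h
  exact congrArg Quiver.Hom.unop h4

lemma eq_φOf {k : K U V} {φ : V ⟶ U} (m : k ⟶ Φobj U V φ) : φ = φOf k := by
  have h := Over.w m.left.unop
  rw [hom_left_unop_left m] at h
  exact h.symm

lemma hom_unique {k : K U V} {φ : V ⟶ U} (m m' : k ⟶ Φobj U V φ) : m = m' := by
  apply CostructuredArrow.hom_ext
  apply Quiver.Hom.unop_inj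
  apply Over.OverMorphism.ext
  rw [hom_left_unop_left m, hom_left_unop_left m']

/-- the canonical morphism to the terminal object of the component -/
def toΦ (k : K U V) : k ⟶ Φobj U V (φOf k) :=
  CostructuredArrow.homMk
    (Over.homMk (U := Over.mk (φOf k)) (V := k.left.unop) k.hom.unop rfl).op
    (by
      have h3 : (Φobj U V (φOf k)).hom = 𝟙 (op V) := rfl
      rw [h3]
      exact Category.comp_id _)

/-- the same morphism, typed through `Φ` -/
def toΦ' (k : K U V) : k ⟶ (Φ U V).obj ⟨φOf k⟩ := toΦ k

instance : (Φ U V).Final := by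
  constructor
  intro k
  haveI : Nonempty (StructuredArrow k (Φ U V)) :=
    ⟨StructuredArrow.mk (toΦ' k)⟩
  apply zigzag_isConnected
  have key : ∀ x : StructuredArrow k (Φ U V),
      Nonempty (x ⟶ StructuredArrow.mk (toΦ' k)) := by
    intro x
    have hx : x.right.as = φOf k := eq_φOf (φ := x.right.as) x.hom
    refine ⟨StructuredArrow.homMk (Discrete.eqToHom hx) ?_⟩
    exact hom_unique (φ := φOf k) _ _
  intro x y
  obtain ⟨f⟩ := key x
  obtain ⟨g⟩ := key y
  have h1 : Zigzag x (StructuredArrow.mk (toΦ' k)) :=
    Relation.ReflTransGen.single (show Zag x _ from Or.inl ⟨f⟩)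
  have h2 : Zigzag (StructuredArrow.mk (toΦ' k)) y :=
    Relation.ReflTransGen.single (show Zag _ y from Or.inr ⟨g⟩)
  exact h1.trans h2

end Final

section Mono

lemma mono_colimMap (V : C) {X X' : K U V ⥤ AddCommGrpCat.{u}} (β : X ⟶ X')
    (hβ : ∀ k, Mono (β.app k)) : Mono (colimMap β) := by
  let e := Functor.Final.colimIso (Φ U V) (E := AddCommGrpCat.{u})
  haveI : Mono (Functor.whiskerLeft (Φ U V) β) := by
    haveI : ∀ d, Mono ((Functor.whiskerLeft (Φ U V) β).app d) := fun d => hβ _
    exact NatTrans.mono_of_mono_app _
  haveI : PreservesFiniteLimits (colim (J := Discrete (V ⟶ U)) (C := AddCommGrpCat.{u})) :=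
    HasExactColimitsOfShape.preservesFiniteLimits
  haveI : Mono (colim.map (Functor.whiskerLeft (Φ U V) β)) := inferInstance
  have h : colim.map β =
      e.inv.app X ≫ colim.map (Functor.whiskerLeft (Φ U V) β) ≫ e.hom.app X' := by
    have h1 := e.hom.naturality β
    rw [← cancel_epi (e.hom.app X)]
    rw [Iso.hom_inv_id_app_assoc]
    exact h1.symm
  change Mono (colim.map β)
  rw [h]
  infer_instance

variable {U}

theorem mono_lan_map {G G' : (Over U)ᵒᵖ ⥤ AddCommGrpCat.{u}} (α : G ⟶ G') [Mono α] :
    Mono ((L U).lan.map α) := by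
  haveI : ∀ Y, Mono (α.app Y) := fun Y => inferInstance
  haveI : ∀ Y, Mono (((L U).lan.map α).app Y) := by
    intro Y
    obtain ⟨V⟩ := Y
    let β : CostructuredArrow.proj (L U) (op V) ⋙ G ⟶ CostructuredArrow.proj (L U) (op V) ⋙ G' :=
      Functor.whiskerLeft _ α
    haveI : Mono (colimMap β) := mono_colimMap U V β (fun k => by dsimp [β]; infer_instance)
    have h : ((L U).lan.map α).app (op V) =
        ((L U).leftKanExtensionObjIsoColimit G (op V)).hom ≫ colimMap β ≫
          ((L U).leftKanExtensionObjIsoColimit G' (op V)).inv := by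
      rw [← cancel_epi ((L U).leftKanExtensionObjIsoColimit G (op V)).inv]
      rw [Iso.inv_hom_id_assoc]
      apply colimit.hom_ext
      intro f
      rw [Functor.ι_leftKanExtensionObjIsoColimit_inv_assoc, ι_colimMap_assoc,
        Functor.ι_leftKanExtensionObjIsoColimit_inv]
      have h1 := ((L U).lan.map α).naturality f.hom
      have h2 := congrArg (fun t => t.app f.left) ((L U).lanUnit.naturality α)
      dsimp at h1 h2
      dsimp [β]
      erw [h1]
      rw [← Category.assoc, ← Category.assoc]
      congr 1
      exact h2.symm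
    rw [h]
    infer_instance
  exact NatTrans.mono_of_mono_app _

end Mono

section Sheaf

variable (J : GrothendieckTopology C)

/-- restriction to the slice site -/
abbrev jstar : Sheaf J AddCommGrpCat.{u} ⥤ Sheaf (J.over U) AddCommGrpCat.{u} :=
  (Over.forget U).sheafPushforwardContinuous AddCommGrpCat.{u} (J.over U) J

/-- extension by zero -/
noncomputable abbrev jshriek : Sheaf (J.over U) AddCommGrpCat.{u} ⥤ Sheaf J AddCommGrpCat.{u} :=
  Functor.sheafPullbackConstruction.sheafPullback (Over.forget U) AddCommGrpCat.{u} (J.over U) J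

/-- the adjunction -/
noncomputable abbrev jadj : jshriek U J ⊣ jstar U J :=
  Functor.sheafPullbackConstruction.sheafAdjunctionContinuous (Over.forget U) AddCommGrpCat.{u}
    (J.over U) J

instance preservesMonomorphisms_jshriek : (jshriek U J).PreservesMonomorphisms := by
  constructor
  intro G G' f hf
  haveI : Mono ((sheafToPresheaf (J.over U) AddCommGrpCat.{u}).map f) := inferInstance
  haveI := mono_lan_map (α := (sheafToPresheaf (J.over U) AddCommGrpCat.{u}).map f)
  exact (presheafToSheaf J AddCommGrpCat.{u}).map_mono _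

theorem injective_jstar (I : Sheaf J AddCommGrpCat.{u}) [Injective I] :
    Injective ((jstar U J).obj I) :=
  Injective.injective_of_adjoint (jadj U J) I

end Sheaf

end Groth.Agent.Helper9.OverInj
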