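import Mathlib
import Groth.Prelude.Def_CohSite
import Groth.Agent.Helper1.SiteCoh
import Groth.Agent.Helper9.OverInj

/-! `H^n(U, F) ≅ H^n(C/U, F|_U)` for abelian sheaves on a small site (S0482). -/

set_option autoImplicit false
set_option backward.isDefEq.respectTransparency false
universe u

open CategoryTheory CategoryTheory.Limits Opposite Abelian

namespace Groth.Agent.Helper9.OverCoh

open Groth.Agent.Helper1.DeltaCmp Groth.Agent.Helper1.SiteCoh Groth.Agent.Helper9.OverInj

variable {C : Type u} [SmallCategory C] (J : GrothendieckTopology C) (U : C)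

/-- `F ↦ Ext^n(ℤ_U, F)` -/
noncomputable abbrev T (n : ℕ) : Sheaf J AddCommGrpCat.{u} ⥤ AddCommGrpCat.{u} :=
  extSeq (𝟭 (Sheaf J AddCommGrpCat.{u})) (freeY J U) n

/-- the constant sheaf `ℤ` on the slice site -/
noncomputable abbrev ZZ : Sheaf (J.over U) AddCommGrpCat.{u} :=
  (constantSheaf (J.over U) AddCommGrpCat.{u}).obj (AddCommGrpCat.of (ULift ℤ))

/-- `F ↦ H^n(C/U, F|_U)` -/
noncomputable abbrev T' (n : ℕ) : Sheaf J AddCommGrpCat.{u} ⥤ AddCommGrpCat.{u} :=
  extSeq (jstar U J) (ZZ J U) n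

/-- sections over `U` -/
abbrev ΓU : Sheaf J AddCommGrpCat.{u} ⥤ AddCommGrpCat.{u} :=
  sheafToPresheaf J AddCommGrpCat.{u} ⋙ (evaluation Cᵒᵖ AddCommGrpCat.{u}).obj (op U)

/-- `T 0 ≅ Γ(U, -)` -/
noncomputable def e₀ : T J U 0 ≅ ΓU J U :=
  NatIso.ofComponents (fun F => (Ext.addEquiv₀.trans (homAddEquiv U F)).toAddCommGrpIso)
    (by
      intro F G φ
      apply AddCommGrpCat.hom_ext
      apply AddMonoidHom.ext
      intro x
      show homEquiv U G (Ext.addEquiv₀ (x.comp (Ext.mk₀ φ) (add_zero 0))) =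
        φ.hom.app (op U) (homEquiv U F (Ext.addEquiv₀ x))
      rw [← homEquiv_comp]
      congr 1
      apply (Ext.mk₀_bijective _ _).1
      rw [Ext.mk₀_addEquiv₀_apply, ← Ext.mk₀_comp_mk₀, Ext.mk₀_addEquiv₀_apply])

/-- `T' 0 ≅ Γ(U, -)` -/
noncomputable def e₀' : T' J U 0 ≅ ΓU J U :=
  NatIso.ofComponents
    (fun F => (Sheaf.H.equiv₀ ((jstar U J).obj F) (Over.mkIdTerminal (X := U))).toAddCommGrpIso)
    (by
      intro F G φ
      apply AddCommGrpCat.hom_ext
      apply AddMonoidHom.ext
      intro x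
      exact (Sheaf.H.equiv₀_naturality (Over.mkIdTerminal (X := U))
        ((jstar U J).map φ) x).symm)

instance : (jstar U J).IsLeftAdjoint :=
  ((Over.forget U).sheafAdjunctionCocontinuous AddCommGrpCat.{u} (J.over U) J).isLeftAdjoint

instance : (jstar U J).Additive := Functor.additive_of_preserves_binary_products _

theorem nonempty_iso (n : ℕ) (F : Sheaf J AddCommGrpCat.{u}) :
    Nonempty ((T J U n).obj F ≅ (T' J U n).obj F) := by
  refine Groth.Agent.Helper1.DeltaCmp.nonempty_iso (T := T J U) (T' := T' J U) (fun _ => True)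
    ((e₀ J U).trans (e₀' J U).symm) ?_ n F trivial
  intro F _
  let S : ShortComplex (Sheaf J AddCommGrpCat.{u}) :=
    ShortComplex.mk (Injective.ι F) (cokernel.π (Injective.ι F)) (cokernel.condition _)
  have hS : S.ShortExact :=
    { exact := ShortComplex.exact_cokernel _
      mono_f := by dsimp [S]; infer_instance
      epi_g := by dsimp [S]; infer_instance }
  haveI : Injective S.X₂ := by dsimp [S]; infer_instance
  haveI : Injective ((jstar U J).obj S.X₂) := injective_jstar U J S.X₂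
  refine ⟨{ S := S, iso := rfl, mem := trivial, zero := ?_, zero' := ?_,
            les := hasLES_extSeq _ _ S hS, les' := hasLES_extSeq _ _ S hS }⟩
  · intro n
    have : Subsingleton ((T J U (n + 1)).obj S.X₂) :=
      subsingleton_of_forall_eq 0 fun (x : Ext.{u} (freeY J U) S.X₂ (n + 1)) =>
        Ext.eq_zero_of_injective x
    exact AddCommGrpCat.isZero_of_subsingleton _
  · intro n
    have : Subsingleton ((T' J U (n + 1)).obj S.X₂) :=
      subsingleton_of_forall_eq 0
        fun (x : Ext.{u} (ZZ J U) ((jstar U J).obj S.X₂) (n + 1)) => Ext.eq_zero_of_injective x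
    exact AddCommGrpCat.isZero_of_subsingleton _

theorem nonempty_addEquiv (n : ℕ) (F : Sheaf J AddCommGrpCat.{u}) :
    Nonempty (CohSite.HU F n U ≃+ Sheaf.H.{u} (F.over U) n) := by
  obtain ⟨i⟩ := nonempty_iso J U n F
  exact ⟨i.addCommGroupIsoToAddEquiv⟩

end Groth.Agent.Helper9.OverCoh
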