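import Mathlib
import Groth.Prelude.Def_Hyper
import Groth.Agent.Helper9.CechAcycA
import Groth.Agent.Helper9.CechAcycB
import Groth.Agent.Helper9.CechHomC
import Groth.Agent.Helper9.OverInj
import Groth.Agent.Helper9.OverCoh
import Groth.Agent.Helper6.HyperSite

/-!
# Sheaves with vanishing higher cohomology on all objects are Čech-acyclic for hypercoverings
-/

set_option autoImplicit false

open CategoryTheory Limits Opposite Functor Abelian Simplicial

namespace Groth.Agent.Helper9.CechAcycC

open Groth.Agent.Helper9.CoskPshC Groth.Agent.Helper9.CechHomA Groth.Agent.Helper9.CechHomB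
  Groth.Agent.Helper9.CechAcycA Groth.Agent.Helper9.CechAcycB Groth.Agent.Helper9.OverInj
  Groth.Agent.Helper9.HypD

universe u

variable {C : Type u} [SmallCategory C] (J : GrothendieckTopology C) (X : C)

/-- the terminal formal coproduct of `Over X` -/
abbrev Y₀ : FormalCoproduct.{u} (Over X) :=
  (FormalCoproduct.incl (Over X)).obj (Over.mk (𝟙 X))

/-- its presheaf is terminal -/
noncomputable def isTerminalY₀ : IsTerminal (FormalCoproduct.yoneda.obj (Y₀ X)) :=
  IsTerminal.ofIso (IsTerminal.isTerminalObj yoneda _ Over.mkIdTerminal)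
    (((FormalCoproduct.evalCompInclIsoId (Over X) ((Over X)ᵒᵖ ⥤ Type u)).app yoneda).app
      (Over.mk (𝟙 X))).symm

/-- restrictions of acyclic sheaves -/
def P (M' : Sheaf (J.over X) AddCommGrpCat.{u}) : Prop :=
  ∃ M : Sheaf J AddCommGrpCat.{u}, Acyc M ∧ M' = (jstar X J).obj M

instance : PreservesLimitsOfSize.{u, u} (jstar X J) := (jadj X J).rightAdjoint_preservesLimits

variable (K : SimplicialObject (FormalCoproduct.{u} (Over X)))

/-- the dimension shifting datum -/
noncomputable def res (M : Sheaf J AddCommGrpCat.{u}) (hM : Acyc M)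
    (ε : (A (Hyper.freeSimplicialSheaf (J.over X) K)).opcycles 0 ≅ (Θ (J.over X)).obj (Y₀ X)) :
    Res (Hyper.freeSimplicialSheaf (J.over X) K) (P J X) ((jstar X J).obj M) := by
  let S₀ : ShortComplex (Sheaf J AddCommGrpCat.{u}) :=
    ShortComplex.mk (Injective.ι M) (cokernel.π (Injective.ι M)) (cokernel.condition _)
  have hS₀ : S₀.ShortExact :=
    ShortComplex.ShortExact.mk' (ShortComplex.exact_cokernel (Injective.ι M))
      (inferInstanceAs (Mono (Injective.ι M))) (inferInstanceAs (Epi (cokernel.π (Injective.ι M))))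
  have hS₁ : (S₀.map (jstar X J)).ShortExact := hS₀.map_of_exact (jstar X J)
  have hsurj : ∀ V : Over X, Function.Surjective
      (((jstar X J).map S₀.g).hom.app (op V)) := fun V => surjective_app hS₀ hM V.left
  exact
    { I := (jstar X J).obj S₀.X₂
      Q := (jstar X J).obj S₀.X₃
      ι := (jstar X J).map S₀.f
      π := (jstar X J).map S₀.g
      inj := injective_jstar X J _
      mono := hS₁.mono_f
      zero := (S₀.map (jstar X J)).zero
      ker := fun {T} h hh => by
        haveI := hS₁.mono_f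
        exact ⟨hS₁.exact.lift h hh, hS₁.exact.lift_f h hh⟩
      pQ := ⟨S₀.X₃, acyc_X₃ hS₀ hM, rfl⟩
      lift := fun n k => exists_lift_Θ ((jstar X J).map S₀.g) hsurj (K.obj (op ⦋n⦌)) k
      lift₀ := fun k => by
        obtain ⟨k'', hk''⟩ := exists_lift_Θ ((jstar X J).map S₀.g) hsurj (Y₀ X) (ε.inv ≫ k)
        exact ⟨ε.hom ≫ k'', by rw [Category.assoc, hk'', Iso.hom_inv_id_assoc]⟩ }

theorem main [HasPullbacks C]
    [∀ (n : ℕ) (F : (SimplexCategory.Truncated n)ᵒᵖ ⥤ FormalCoproduct.{u} (Over X)),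
      (SimplexCategory.Truncated.inclusion n).op.HasRightKanExtension F]
    (hK : Hyper.IsHypercovering J X K) (F : Sheaf J AddCommGrpCat.{u}) (hF : Acyc F) (p : ℕ) :
    IsZero (Hyper.cechH X K F.obj (p + 1)) := by
  have hK' := Groth.Agent.Helper6.HyperSite.isHypercoveringSite_over J X K hK
  obtain ⟨h1, ⟨e⟩⟩ := HypF.main (J.over X) K hK'
  let S := Hyper.freeSimplicialSheaf (J.over X) K
  have ε : (A S).opcycles 0 ≅ (Θ (J.over X)).obj (Y₀ X) :=
    ((A S).isoHomologyι 0 0 (by simp) ((A S).shape 0 0 (by simp))).symm ≪≫ e ≪≫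
      (G (J.over X)).mapIso (terminalIsTerminal.uniqueUpToIso (isTerminalY₀ X))
  have h2 : IsZero ((D S ((jstar X J).obj F)).homology (p + 1)) :=
    CechAcycA.isZero_homology_succ S (P J X)
      (fun M' hM' => by
        obtain ⟨M, hM, rfl⟩ := hM'
        exact ⟨res J X K M hM ε⟩) h1 p _ ⟨F, hF, rfl⟩
  exact h2.of_iso
    ((HomologicalComplex.homologyFunctor AddCommGrpCat.{u} _ (p + 1)).mapIso
      (CechHomC.cxIso (J.over X) K ((jstar X J).obj F))).symm

end Groth.Agent.Helper9.CechAcycC
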