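import Mathlib
import Groth.Prelude.Def_NonAbH1

set_option autoImplicit false
set_option linter.unusedSectionVars false

namespace Groth.Agent.Helper9.CechClass

open CategoryTheory Opposite

universe w' w v u

variable {C : Type u} [Category.{v} C] {J : GrothendieckTopology C} {G : Sheaf J GrpCat.{w}}
  (P : NonAbH1.GSheaf G) (hps : P.IsPseudoTorsor) {I : Type w'} (U : I → C)

include hps in
theorem smul_cancel {V : Cᵒᵖ} (g h : G.obj.obj V) (p : P.P.obj.obj V)
    (e : P.smul g p = P.smul h p) : g = h :=
  (hps V p (P.smul h p)).unique e rfl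

theorem map_map {T T' : C} {X : C} (φ : T ⟶ T') (a : T' ⟶ X) (x : P.P.obj.obj (op X)) :
    P.P.obj.map φ.op (P.P.obj.map a.op x) = P.P.obj.map (φ ≫ a).op x := by
  rw [op_comp, Functor.map_comp_apply]

/-- the cocycle cut out by a family of sections -/
noncomputable def cocycle (s : ∀ i, P.P.obj.obj (op (U i))) : PresheafOfGroups.OneCocycle G.obj U where
  ev i j T a b := (hps (op T) (P.P.obj.map b.op (s j)) (P.P.obj.map a.op (s i))).exists.choose
  ev_precomp i j T T' φ a b := by
    apply smul_cancel P hps _ _ (P.P.obj.map (φ ≫ b).op (s j))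
    rw [(hps (op T) _ _).exists.choose_spec, ← map_map, ← P.map_smul,
      (hps (op T') _ _).exists.choose_spec, map_map]
  ev_trans i j k T a b c := by
    apply smul_cancel P hps _ _ (P.P.obj.map c.op (s k))
    rw [P.mul_smul, (hps (op T) _ _).exists.choose_spec, (hps (op T) _ _).exists.choose_spec,
      (hps (op T) _ _).exists.choose_spec]

theorem cocycle_spec (s : ∀ i, P.P.obj.obj (op (U i))) : P.IsCocycleOf U s (cocycle P hps U s) := by
  intro i j T a b
  exact (hps (op T) _ _).exists.choose_spec

include hps in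
theorem cohomologous (s s' : ∀ i, P.P.obj.obj (op (U i)))
    (γ γ' : PresheafOfGroups.OneCocycle G.obj U) (h : P.IsCocycleOf U s γ)
    (h' : P.IsCocycleOf U s' γ') : γ.class = γ'.class := by
  apply Quot.sound
  refine ⟨fun i => (hps (op (U i)) (s i) (s' i)).exists.choose, ?_⟩
  intro i j T a b
  have hα : ∀ i, P.smul ((hps (op (U i)) (s i) (s' i)).exists.choose) (s i) = s' i :=
    fun i => (hps (op (U i)) (s i) (s' i)).exists.choose_spec
  apply smul_cancel P hps _ _ (P.P.obj.map b.op (s j))
  rw [P.mul_smul, h i j a b, ← P.map_smul, hα, P.mul_smul, ← P.map_smul, hα, h' i j a b]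

include hps in
theorem existsUnique_class (hP : P.TrivialisedBy U) :
    ∃! c : PresheafOfGroups.H1 G.obj U, P.HasCechClass U c := by
  let s : ∀ i, P.P.obj.obj (op (U i)) := fun i => (hP i).some
  refine ⟨(cocycle P hps U s).class, ⟨s, cocycle P hps U s, cocycle_spec P hps U s, rfl⟩, ?_⟩
  rintro c ⟨s', γ', h', rfl⟩
  exact cohomologous P hps U s' s γ' _ h' (cocycle_spec P hps U s)

end Groth.Agent.Helper9.CechClass
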