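import Mathlib
import Groth.Agent.Helper1.CechBasic

/-!
# The Čech complex of a family with a largest member is contractible onto `P(U_i)`

`D` a thin category with finite products (e.g. `Opens X`), `U : ι → D` a family, `i` an index with
morphisms `U j ⟶ U i` for all `j`.  Then `P(U i)[0] → Č(U, P)` is a homotopy equivalence.
-/

namespace Groth.Agent.Helper9.CechContract

open CategoryTheory Limits Opposite Groth.Agent.Helper1.Cech

universe w v u

variable {D : Type u} [Category.{v} D] [HasFiniteProducts D] [Quiver.IsThin D] {ι : Type w}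
  (U : ι → D) (P : Dᵒᵖ ⥤ AddCommGrpCat.{w})

/-- restriction of the `x`-component of a cochain along `m : V ⟶ U_x` -/
noncomputable def res {n : ℕ} (x : Fin (n + 1) → ι) {V : D} (m : V ⟶ prodU U x)
    (c : (cx U P).X n) : P.obj (op V) :=
  P.map m.op (comp U P n x c)

variable {U P}

lemma res_congr {n : ℕ} {x y : Fin (n + 1) → ι} (h : x = y) {V : D} (m : V ⟶ prodU U x)
    (m' : V ⟶ prodU U y) (c : (cx U P).X n) : res U P x m c = res U P y m' c := by
  subst h
  rw [Subsingleton.elim m m']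

lemma map_res {n : ℕ} (x : Fin (n + 1) → ι) {V W : D} (m : V ⟶ prodU U x) (k : W ⟶ V)
    (c : (cx U P).X n) : P.map k.op (res U P x m c) = res U P x (k ≫ m) c := by
  unfold res
  rw [op_comp, P.map_comp, ConcreteCategory.comp_apply]

lemma comp_eq_res {n : ℕ} (x : Fin (n + 1) → ι) (c : (cx U P).X n) :
    comp U P n x c = res U P x (𝟙 _) c := by
  unfold res
  rw [op_id, P.map_id]
  rfl

/-- differential, in terms of `res` -/
lemma res_d {n : ℕ} (x : Fin (n + 2) → ι) {V : D} (m : V ⟶ prodU U x) (c : (cx U P).X n) :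
    res U P x m ((cx U P).d n (n + 1) c) =
      ∑ j : Fin (n + 2), (-1 : ℤ) ^ (j : ℕ) •
        res U P (x ∘ j.succAbove) (m ≫ face U j x) c := by
  unfold res
  rw [comp_d, map_sum]
  refine Finset.sum_congr rfl (fun j _ => ?_)
  rw [map_zsmul, op_comp, P.map_comp, ConcreteCategory.comp_apply]

variable (U P)

/-- a morphism into a term of the Čech complex from its components -/
noncomputable def lift {A : AddCommGrpCat.{w}} (n : ℕ)
    (f : ∀ x : Fin (n + 1) → ι, A ⟶ P.obj (op (prodU U x))) : A ⟶ (cx U P).X n :=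
  Pi.lift f

variable {U P}

lemma comp_lift {A : AddCommGrpCat.{w}} (n : ℕ)
    (f : ∀ x : Fin (n + 1) → ι, A ⟶ P.obj (op (prodU U x))) (x : Fin (n + 1) → ι) (a : A) :
    comp U P n x (lift U P n f a) = f x a := by
  have h : lift U P n f ≫ comp U P n x = f x := by
    unfold lift comp
    erw [Pi.lift_π]
  have h' := ConcreteCategory.congr_hom h a
  rwa [ConcreteCategory.comp_apply] at h'

variable (U) (i : ι) (t : ∀ j, U j ⟶ U i)

include t in
lemma nonempty_sec {n : ℕ} (x : Fin (n + 1) → ι) (k : Fin (n + 2)) :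
    Nonempty (prodU U x ⟶ (U ∘ (Fin.cons i x : Fin (n + 2) → ι)) k) := by
  refine Fin.cases ?_ (fun k' => ?_) k
  · exact ⟨Pi.π (U ∘ x) 0 ≫ t (x 0)⟩
  · dsimp only [Function.comp_apply]
    rw [Fin.cons_succ]
    exact ⟨Pi.π (U ∘ x) k'⟩

/-- the "section" `U_x ⟶ U_{i x}` -/
noncomputable def sec {n : ℕ} (x : Fin (n + 1) → ι) :
    prodU U x ⟶ prodU U (Fin.cons i x : Fin (n + 2) → ι) :=
  Pi.lift (fun k => (nonempty_sec U i t x k).some)

variable (P)

/-- the contracting homotopy -/
noncomputable def hh (n : ℕ) : (cx U P).X (n + 1) ⟶ (cx U P).X n :=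
  lift U P n (fun x => comp U P (n + 1) (Fin.cons i x) ≫ P.map (sec U i t x).op)

lemma comp_hh (n : ℕ) (x : Fin (n + 1) → ι) (c : (cx U P).X (n + 1)) :
    comp U P n x (hh U P i t n c) = res U P (Fin.cons i x) (sec U i t x) c := by
  unfold hh
  rw [comp_lift, ConcreteCategory.comp_apply]
  rfl

/-- the augmentation `P(U_i) ⟶ Č⁰` -/
noncomputable def ε : P.obj (op (U i)) ⟶ (cx U P).X 0 :=
  lift U P 0 (fun x => P.map (Pi.π (U ∘ x) 0 ≫ t (x 0)).op)

lemma comp_ε (x : Fin 1 → ι) (a : P.obj (op (U i))) :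
    comp U P 0 x (ε U P i t a) = P.map (Pi.π (U ∘ x) 0 ≫ t (x 0)).op a := by
  unfold ε
  rw [comp_lift]

/-- the retraction `Č⁰ ⟶ P(U_i)` -/
noncomputable def η : (cx U P).X 0 ⟶ P.obj (op (U i)) :=
  comp U P 0 (fun _ => i) ≫ P.map (Pi.lift (fun _ => 𝟙 (U i)) : U i ⟶ prodU U (fun _ : Fin 1 => i)).op

lemma η_apply (c : (cx U P).X 0) :
    η U P i c = res U P (fun _ : Fin 1 => i) (Pi.lift (fun _ => 𝟙 (U i))) c := by
  unfold η res
  rw [ConcreteCategory.comp_apply]

lemma ε_d : ε U P i t ≫ (cx U P).d 0 1 = 0 := by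
  ext a
  rw [ConcreteCategory.comp_apply]
  apply Groth.Agent.Helper1.Cech.ext
  intro x
  rw [comp_d, Fin.sum_univ_two]
  rw [comp_ε, comp_ε]
  rw [← ConcreteCategory.comp_apply, ← ConcreteCategory.comp_apply, ← P.map_comp, ← P.map_comp]
  rw [Subsingleton.elim ((Pi.π (U ∘ x ∘ Fin.succAbove 0) 0 ≫ t ((x ∘ Fin.succAbove 0) 0)).op ≫
      (face U 0 x).op) ((Pi.π (U ∘ x ∘ Fin.succAbove 1) 0 ≫ t ((x ∘ Fin.succAbove 1) 0)).op ≫
      (face U 1 x).op)]
  simp

lemma ε_η : ε U P i t ≫ η U P i = 𝟙 _ := by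
  ext a
  rw [ConcreteCategory.comp_apply, η_apply]
  unfold res
  rw [comp_ε, ← ConcreteCategory.comp_apply, ← P.map_comp, ← op_comp]
  have e : (Pi.lift (fun _ => 𝟙 (U i)) : U i ⟶ prodU U (fun _ : Fin 1 => i)) ≫
      Pi.π (U ∘ fun _ : Fin 1 => i) 0 ≫ t i = 𝟙 (U i) := Subsingleton.elim _ _
  rw [e, op_id, P.map_id]

lemma cons_comp_succAbove_zero {n : ℕ} (x : Fin (n + 1) → ι) :
    (Fin.cons i x : Fin (n + 2) → ι) ∘ Fin.succAbove 0 = x := by
  funext k
  simp

lemma cons_comp_succAbove_succ {n : ℕ} (x : Fin (n + 2) → ι) (k : Fin (n + 2)) :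
    (Fin.cons i x : Fin (n + 3) → ι) ∘ Fin.succAbove k.succ =
      (Fin.cons i (x ∘ Fin.succAbove k) : Fin (n + 2) → ι) := by
  funext m
  refine Fin.cases ?_ (fun m' => ?_) m
  · simp
  · simp

lemma cons_comp_succAbove_one (x : Fin 1 → ι) :
    (Fin.cons i x : Fin 2 → ι) ∘ Fin.succAbove 1 = fun _ => i := by
  funext m
  fin_cases m
  rfl

lemma key_zero (c : (cx U P).X 0) :
    c = hh U P i t 0 ((cx U P).d 0 1 c) + ε U P i t (η U P i c) := by
  apply Groth.Agent.Helper1.Cech.ext
  intro x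
  rw [map_add, comp_hh, res_d, Fin.sum_univ_two, comp_ε, η_apply, map_res, comp_eq_res]
  rw [res_congr (cons_comp_succAbove_zero i x) (sec U i t x ≫ face U 0 (Fin.cons i x)) (𝟙 _) c]
  rw [res_congr (cons_comp_succAbove_one i x) (sec U i t x ≫ face U 1 (Fin.cons i x))
    ((Pi.π (U ∘ x) 0 ≫ t (x 0)) ≫ Pi.lift (fun _ => 𝟙 (U i))) c]
  simp

lemma key_succ (n : ℕ) (c : (cx U P).X (n + 1)) :
    c = hh U P i t (n + 1) ((cx U P).d (n + 1) (n + 2) c) +
      (cx U P).d n (n + 1) (hh U P i t n c) := by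
  apply Groth.Agent.Helper1.Cech.ext
  intro x
  rw [map_add, comp_hh, res_d, Fin.sum_univ_succ, comp_d]
  rw [res_congr (cons_comp_succAbove_zero i x) (sec U i t x ≫ face U 0 (Fin.cons i x)) (𝟙 _) c,
    ← comp_eq_res]
  have : ∀ k : Fin (n + 2),
      (-1 : ℤ) ^ ((k.succ : Fin (n + 3)) : ℕ) •
        res U P ((Fin.cons i x : Fin (n + 3) → ι) ∘ Fin.succAbove k.succ)
          (sec U i t x ≫ face U k.succ (Fin.cons i x)) c =
      - ((-1 : ℤ) ^ (k : ℕ) • P.map (face U k x).op
        (comp U P n (x ∘ Fin.succAbove k) (hh U P i t n c))) := by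
    intro k
    rw [comp_hh, map_res, Fin.val_succ, pow_succ, mul_neg_one, neg_smul]
    rw [res_congr (cons_comp_succAbove_succ i x k) _ (face U k x ≫ sec U i t (x ∘ Fin.succAbove k)) c]
  rw [Finset.sum_congr rfl (fun k _ => this k), Finset.sum_neg_distrib]
  simp

/-- the inclusion `P(U_i)[0] ⟶ Č(U, P)` -/
noncomputable def homHom :
    (CochainComplex.single₀ AddCommGrpCat.{w}).obj (P.obj (op (U i))) ⟶ cx U P :=
  (CochainComplex.fromSingle₀Equiv _ _).symm ⟨ε U P i t, ε_d U P i t⟩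

/-- the retraction `Č(U, P) ⟶ P(U_i)[0]` -/
noncomputable def invHom :
    cx U P ⟶ (CochainComplex.single₀ AddCommGrpCat.{w}).obj (P.obj (op (U i))) :=
  (CochainComplex.toSingle₀Equiv _ _).symm (η U P i)

lemma hom_inv : homHom U P i t ≫ invHom U P i = 𝟙 _ := by
  apply HomologicalComplex.from_single_hom_ext
  rw [HomologicalComplex.comp_f, HomologicalComplex.id_f]
  unfold homHom invHom
  rw [CochainComplex.fromSingle₀Equiv_symm_apply_f_zero,
    CochainComplex.toSingle₀Equiv_symm_apply_f_zero]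
  exact ε_η U P i t

/-- the homotopy `𝟙 ∼ inv ≫ hom` -/
noncomputable def homotopy : Homotopy (𝟙 (cx U P)) (invHom U P i ≫ homHom U P i t) where
  hom a b := if h : b + 1 = a then eqToHom (by rw [h]) ≫ hh U P i t b else 0
  zero a b hab := dif_neg (fun h => hab h)
  comm n := by
    rw [Homotopy.dNext_cochainComplex]
    cases n with
    | zero =>
      rw [Homotopy.prevD_zero_cochainComplex, dif_pos rfl, eqToHom_refl, Category.id_comp, add_zero,
        HomologicalComplex.comp_f, HomologicalComplex.id_f]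
      unfold homHom invHom
      rw [CochainComplex.fromSingle₀Equiv_symm_apply_f_zero,
        CochainComplex.toSingle₀Equiv_symm_apply_f_zero]
      ext c
      exact key_zero U P i t c
    | succ n =>
      rw [Homotopy.prevD_succ_cochainComplex, dif_pos rfl, dif_pos rfl, eqToHom_refl, Category.id_comp,
        eqToHom_refl, Category.id_comp, HomologicalComplex.comp_f, HomologicalComplex.id_f]
      have : (invHom U P i).f (n + 1) = 0 := by
        unfold invHom
        rw [CochainComplex.toSingle₀Equiv_symm_apply_f_succ]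
      rw [this, zero_comp, add_zero]
      ext c
      exact key_succ U P i t n c

/-- the homotopy equivalence -/
noncomputable def homotopyEquiv :
    HomotopyEquiv ((CochainComplex.single₀ AddCommGrpCat.{w}).obj (P.obj (op (U i)))) (cx U P) where
  hom := homHom U P i t
  inv := invHom U P i
  homotopyHomInvId := Homotopy.ofEq (hom_inv U P i t)
  homotopyInvHomId := (homotopy U P i t).symm

end Groth.Agent.Helper9.CechContract
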