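import Mathlib

set_option autoImplicit false
universe v u

open CategoryTheory CategoryTheory.Limits Opposite SimplexCategory Simplicial

namespace Groth.Agent.Helper9.CechCosk

variable {C : Type u} [Category.{v} C] [HasFiniteProducts C]

/-- the `i`-th projection of the Čech nerve in degree `m`. -/
noncomputable def proj (A : C) (m : SimplexCategoryᵒᵖ) (i : Fin (m.unop.len + 1)) :
    (cechNerveTerminalFrom A).obj m ⟶ A := Pi.π _ i

theorem map_proj (A : C) {m k : SimplexCategoryᵒᵖ} (f : m ⟶ k) (i : Fin (k.unop.len + 1)) :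
    (cechNerveTerminalFrom A).map f ≫ proj A k i = proj A m (f.unop.toOrderHom i) := by
  simp [cechNerveTerminalFrom, proj]

theorem hom_ext' (A : C) {Z : C} {m : SimplexCategoryᵒᵖ}
    (a b : Z ⟶ (cechNerveTerminalFrom A).obj m)
    (h : ∀ i, a ≫ proj A m i = b ≫ proj A m i) : a = b :=
  Pi.hom_ext _ _ h

/-- the morphism to the Čech nerve determined by a map on vertices. -/
noncomputable def liftHom (G : SimplicialObject C) (A : C) (φ : G.obj (op ⦋0⦌) ⟶ A) :
    G ⟶ cechNerveTerminalFrom A where
  app m := Pi.lift fun i => G.map ((⦋0⦌.const m.unop i).op) ≫ φ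
  naturality m k f := by
    apply Pi.hom_ext
    intro i
    simp only [cechNerveTerminalFrom, Category.assoc, Pi.lift_π]
    rw [← G.map_comp_assoc]
    rfl

theorem liftHom_app_proj (G : SimplicialObject C) (A : C) (φ : G.obj (op ⦋0⦌) ⟶ A)
    (m : SimplexCategoryᵒᵖ) (i : Fin (m.unop.len + 1)) :
    (liftHom G A φ).app m ≫ proj A m i = G.map ((⦋0⦌.const m.unop i).op) ≫ φ := by
  simp only [liftHom, proj]
  exact Pi.lift_π _ _

/-- the vertex map of a morphism of truncated objects. -/
noncomputable def vtx (G : SimplicialObject C) (A : C) (n : ℕ)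
    (α : (Truncated.inclusion n).op ⋙ G ⟶ (Truncated.inclusion n).op ⋙ cechNerveTerminalFrom A) :
    G.obj (op ⦋0⦌) ⟶ A :=
  α.app (op ⟨⦋0⦌, by simp⟩) ≫ proj A (op ⦋0⦌) 0

theorem key (G : SimplicialObject C) (A : C) (n : ℕ)
    (α : (Truncated.inclusion n).op ⋙ G ⟶ (Truncated.inclusion n).op ⋙ cechNerveTerminalFrom A)
    (m : SimplexCategory) (hm : m.len ≤ n) (i : Fin (m.len + 1)) :
    α.app (op ⟨m, hm⟩) ≫ proj A (op m) i = G.map ((⦋0⦌.const m i).op) ≫ vtx G A n α := by
  have hn := α.naturality (X := op ⟨m, hm⟩) (Y := op ⟨⦋0⦌, by simp⟩)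
    (Truncated.Hom.tr (⦋0⦌.const m i) (by simp) hm).op
  have h2 := congr($hn ≫ proj A (op ⦋0⦌) 0)
  rw [Category.assoc, Category.assoc] at h2
  erw [map_proj] at h2
  exact h2.symm

theorem fac (G : SimplicialObject C) (A : C) (n : ℕ)
    (α : (Truncated.inclusion n).op ⋙ G ⟶ (Truncated.inclusion n).op ⋙ cechNerveTerminalFrom A) :
    Functor.whiskerLeft (Truncated.inclusion n).op (liftHom G A (vtx G A n α)) = α := by
  ext ⟨⟨m, hm⟩⟩
  apply hom_ext' A
  intro i
  have h1 := key G A n α m hm i
  have h2 := liftHom_app_proj G A (vtx G A n α) (op m) i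
  exact h2.trans h1.symm

theorem uniq (G : SimplicialObject C) (A : C) (n : ℕ) (β : G ⟶ cechNerveTerminalFrom A) :
    β = liftHom G A (vtx G A n (Functor.whiskerLeft (Truncated.inclusion n).op β)) := by
  ext m
  apply hom_ext' A
  intro i
  rw [liftHom_app_proj]
  have h1 := β.naturality ((⦋0⦌.const m.unop i).op)
  have h2 := congr($h1 ≫ proj A (op ⦋0⦌) 0)
  rw [Category.assoc, Category.assoc, map_proj] at h2
  exact h2.symm

theorem isCoskeletal (A : C) (n : ℕ) :
    SimplicialObject.IsCoskeletal (cechNerveTerminalFrom A) n := by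
  constructor
  constructor
  refine ⟨IsTerminal.ofUniqueHom (fun g => CostructuredArrow.homMk
    (liftHom g.left A (vtx g.left A n g.hom)) ?_) ?_⟩
  · have := fac g.left A n g.hom
    exact (Category.comp_id _).trans this
  · intro g β
    apply CostructuredArrow.hom_ext
    have h1 := uniq g.left A n β.left
    have h2 : Functor.whiskerLeft (Truncated.inclusion n).op β.left = g.hom := by
      have := CostructuredArrow.w β
      exact (Category.comp_id _).symm.trans this
    exact h1.trans (congrArg (fun a => liftHom g.left A (vtx g.left A n a)) h2)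

end Groth.Agent.Helper9.CechCosk
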