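import Mathlib

set_option autoImplicit false

namespace Groth.Agent.Helper9.CechHtpy

open CategoryTheory CategoryTheory.Limits Opposite Simplicial

universe v u

variable {C : Type u} [Category.{v} C] (F : Arrow C)
  [∀ n : ℕ, HasWidePullback F.right (fun _ : Fin (n + 1) => F.left) (fun _ => F.hom)]
  (s : F.right ⟶ F.left) (hs : s ≫ F.hom = 𝟙 F.right)

/-- a component: either a projection or the constant section -/
noncomputable def comp (n : ℕ) (o : Option (Fin (n + 1))) :
    F.cechNerve.obj (op ⦋n⦌) ⟶ F.left :=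
  o.elim (WidePullback.base _ ≫ s) (fun j => WidePullback.π _ j)

include hs in
theorem comp_hom (n : ℕ) (o : Option (Fin (n + 1))) :
    comp F s n o ≫ F.hom = WidePullback.base _ := by
  cases o with
  | none => simp [comp, hs]
  | some j => simp [comp]

/-- the map given by a pattern -/
noncomputable def L {n m : ℕ} (p : Fin (m + 1) → Option (Fin (n + 1))) :
    F.cechNerve.obj (op ⦋n⦌) ⟶ F.cechNerve.obj (op ⦋m⦌) :=
  WidePullback.lift (WidePullback.base _) (fun k => comp F s n (p k))
    (fun k => comp_hom F s hs n (p k))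

theorem L_π {n m : ℕ} (p : Fin (m + 1) → Option (Fin (n + 1))) (k : Fin (m + 1)) :
    L F s hs p ≫ WidePullback.π _ k = comp F s n (p k) := by
  unfold L; rw [WidePullback.lift_π]

theorem L_base {n m : ℕ} (p : Fin (m + 1) → Option (Fin (n + 1))) :
    L F s hs p ≫ WidePullback.base _ = WidePullback.base _ := by
  unfold L; rw [WidePullback.lift_base]

theorem L_map {n m m' : ℕ} (p : Fin (m + 1) → Option (Fin (n + 1))) (θ : ⦋m'⦌ ⟶ ⦋m⦌) :
    L F s hs p ≫ F.cechNerve.map θ.op = L F s hs (fun k => p (θ.toOrderHom k)) := by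
  apply WidePullback.hom_ext
  · intro k
    rw [Category.assoc, L_π]
    simp only [Arrow.cechNerve_map, Quiver.Hom.unop_op, WidePullback.lift_π]
    exact L_π F s hs p _
  · rw [Category.assoc, L_base]
    simp only [Arrow.cechNerve_map, WidePullback.lift_base]
    exact L_base F s hs p

theorem map_comp' {n n' : ℕ} (θ : ⦋n⦌ ⟶ ⦋n'⦌) (o : Option (Fin (n + 1))) :
    F.cechNerve.map θ.op ≫ comp F s n o = comp F s n' (o.map θ.toOrderHom) := by
  cases o with
  | none => simp [comp, WidePullback.lift_base_assoc]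
  | some j => simp [comp, WidePullback.lift_π]

theorem map_L {n n' m : ℕ} (p : Fin (m + 1) → Option (Fin (n + 1))) (θ : ⦋n⦌ ⟶ ⦋n'⦌) :
    F.cechNerve.map θ.op ≫ L F s hs p = L F s hs (fun k => (p k).map θ.toOrderHom) := by
  apply WidePullback.hom_ext
  · intro k
    rw [Category.assoc, L_π, L_π, map_comp']
  · rw [Category.assoc, L_base, L_base]
    simp [WidePullback.lift_base]

theorem id_eq (n : ℕ) : 𝟙 (F.cechNerve.obj (op ⦋n⦌)) = L F s hs (fun k => some k) := by
  apply WidePullback.hom_ext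
  · intro k
    rw [L_π]; simp [comp]
  · rw [L_base]; simp

theorem g_eq (φ : F ⟶ F) (hφl : φ.left = F.hom ≫ s) (hφr : φ.right = 𝟙 _) (n : ℕ) :
    (Arrow.mapCechNerve φ).app (op ⦋n⦌) = L F s hs (fun _ => none) := by
  apply WidePullback.hom_ext
  · intro k
    rw [L_π]
    simp [comp, hφl, WidePullback.lift_π]
  · rw [L_base]; simp [hφr, WidePullback.lift_base]

/-- pattern of the first homotopy: keep the first `j+1` entries, then the constant section -/
def P (n : ℕ) (j : Fin (n + 1)) (k : Fin (n + 2)) : Option (Fin (n + 1)) :=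
  if h : k.val ≤ j.val then some ⟨k.val, by omega⟩ else none

/-- pattern of the second homotopy: the constant section `j+1` times, then the last entries -/
def P' (n : ℕ) (j : Fin (n + 1)) (k : Fin (n + 2)) : Option (Fin (n + 1)) :=
  if h : j.val < k.val then some ⟨k.val - 1, by omega⟩ else none

theorem δ_apply {n : ℕ} (i : Fin (n + 2)) (k : Fin (n + 1)) :
    (SimplexCategory.δ i).toOrderHom k = i.succAbove k := rfl

theorem σ_apply {n : ℕ} (i : Fin (n + 1)) (k : Fin (n + 2)) :
    (SimplexCategory.σ i).toOrderHom k = i.predAbove k := rfl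

theorem L_δ {n m : ℕ} (p : Fin (m + 2) → Option (Fin (n + 1))) (i : Fin (m + 2)) :
    L F s hs p ≫ F.cechNerve.δ i = L F s hs (fun k => p (i.succAbove k)) :=
  L_map F s hs p (SimplexCategory.δ i)

theorem L_σ {n m : ℕ} (p : Fin (m + 1) → Option (Fin (n + 1))) (i : Fin (m + 1)) :
    L F s hs p ≫ F.cechNerve.σ i = L F s hs (fun k => p (i.predAbove k)) :=
  L_map F s hs p (SimplexCategory.σ i)

theorem δ_L {n m : ℕ} (p : Fin (m + 1) → Option (Fin (n + 1))) (i : Fin (n + 2)) :
    F.cechNerve.δ i ≫ L F s hs p = L F s hs (fun k => (p k).map i.succAbove) :=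
  map_L F s hs p (SimplexCategory.δ i)

theorem σ_L {n m : ℕ} (p : Fin (m + 1) → Option (Fin (n + 2))) (i : Fin (n + 1)) :
    F.cechNerve.σ i ≫ L F s hs p = L F s hs (fun k => (p k).map i.predAbove) :=
  map_L F s hs p (SimplexCategory.σ i)

theorem val_succAbove {n : ℕ} (i : Fin (n + 1)) (k : Fin n) :
    (i.succAbove k).val = if k.val < i.val then k.val else k.val + 1 := by
  unfold Fin.succAbove
  split_ifs with h1 h2 h2
  · rfl
  · exact absurd (Fin.lt_def.1 h1) h2
  · exact absurd (Fin.lt_def.2 h2) h1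
  · rfl

theorem val_predAbove {n : ℕ} (i : Fin n) (k : Fin (n + 1)) :
    (i.predAbove k).val = if i.val < k.val then k.val - 1 else k.val := by
  unfold Fin.predAbove
  split_ifs with h1 h2 h2
  · rfl
  · exact absurd (Fin.lt_def.1 h1) h2
  · exact absurd (Fin.lt_def.2 h2) h1
  · rfl

theorem opt_ext {α : Type*} {a b : Option α} (h : ∀ l, a = some l ↔ b = some l) : a = b := by
  cases a with
  | none =>
    cases b with
    | none => rfl
    | some y => exact absurd ((h y).2 rfl) (by simp)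
  | some x => exact ((h x).1 rfl).symm

theorem P_some {n : ℕ} (j : Fin (n + 1)) (k : Fin (n + 2)) (l : Fin (n + 1)) :
    P n j k = some l ↔ k.val ≤ j.val ∧ l.val = k.val := by
  unfold P
  split_ifs with h
  · simp only [Option.some.injEq, Fin.ext_iff]
    constructor
    · intro e; exact ⟨h, e.symm⟩
    · intro e; exact e.2.symm
  · simp only [false_iff, not_and, reduceCtorEq]
    intro h'; exact absurd h' h

theorem P'_some {n : ℕ} (j : Fin (n + 1)) (k : Fin (n + 2)) (l : Fin (n + 1)) :
    P' n j k = some l ↔ j.val < k.val ∧ l.val = k.val - 1 := by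
  unfold P'
  split_ifs with h
  · simp only [Option.some.injEq, Fin.ext_iff]
    constructor
    · intro e; exact ⟨h, e.symm⟩
    · intro e; exact e.2.symm
  · simp only [false_iff, not_and, reduceCtorEq]
    intro h'; exact absurd h' h

theorem map_some' {α β : Type*} (f : α → β) (a : Option α) (l : β) :
    a.map f = some l ↔ ∃ x, a = some x ∧ f x = l := by
  cases a <;> simp

theorem P_map_succAbove {n : ℕ} (j : Fin (n + 1)) (k : Fin (n + 2)) (i : Fin (n + 2))
    (l : Fin (n + 2)) :
    (P n j k).map i.succAbove = some l ↔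
      k.val ≤ j.val ∧ l.val = if k.val < i.val then k.val else k.val + 1 := by
  rw [map_some']
  constructor
  · rintro ⟨x, hx, rfl⟩
    rw [P_some] at hx
    rw [val_succAbove, hx.2]
    exact ⟨hx.1, rfl⟩
  · rintro ⟨h1, h2⟩
    refine ⟨⟨k.val, by omega⟩, (P_some _ _ _).2 ⟨h1, rfl⟩, ?_⟩
    rw [Fin.ext_iff, val_succAbove, h2]

theorem P'_map_succAbove {n : ℕ} (j : Fin (n + 1)) (k : Fin (n + 2)) (i : Fin (n + 2))
    (l : Fin (n + 2)) :
    (P' n j k).map i.succAbove = some l ↔
      j.val < k.val ∧ l.val = if k.val - 1 < i.val then k.val - 1 else k.val - 1 + 1 := by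
  rw [map_some']
  constructor
  · rintro ⟨x, hx, rfl⟩
    rw [P'_some] at hx
    rw [val_succAbove, hx.2]
    exact ⟨hx.1, rfl⟩
  · rintro ⟨h1, h2⟩
    refine ⟨⟨k.val - 1, by omega⟩, (P'_some _ _ _).2 ⟨h1, rfl⟩, ?_⟩
    rw [Fin.ext_iff, val_succAbove, h2]

theorem P_map_predAbove {n : ℕ} (j : Fin (n + 2)) (k : Fin (n + 3)) (i : Fin (n + 1))
    (l : Fin (n + 1)) :
    (P (n + 1) j k).map i.predAbove = some l ↔
      k.val ≤ j.val ∧ l.val = if i.val < k.val then k.val - 1 else k.val := by
  rw [map_some']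
  constructor
  · rintro ⟨x, hx, rfl⟩
    rw [P_some] at hx
    rw [val_predAbove, hx.2]
    exact ⟨hx.1, rfl⟩
  · rintro ⟨h1, h2⟩
    refine ⟨⟨k.val, by omega⟩, (P_some _ _ _).2 ⟨h1, rfl⟩, ?_⟩
    rw [Fin.ext_iff, val_predAbove, h2]

theorem P'_map_predAbove {n : ℕ} (j : Fin (n + 2)) (k : Fin (n + 3)) (i : Fin (n + 1))
    (l : Fin (n + 1)) :
    (P' (n + 1) j k).map i.predAbove = some l ↔
      j.val < k.val ∧ l.val = if i.val < k.val - 1 then k.val - 1 - 1 else k.val - 1 := by
  rw [map_some']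
  constructor
  · rintro ⟨x, hx, rfl⟩
    rw [P'_some] at hx
    rw [val_predAbove, hx.2]
    exact ⟨hx.1, rfl⟩
  · rintro ⟨h1, h2⟩
    refine ⟨⟨k.val - 1, by omega⟩, (P'_some _ _ _).2 ⟨h1, rfl⟩, ?_⟩
    rw [Fin.ext_iff, val_predAbove, h2]

macro "pat_tac" : tactic => `(tactic| (
  funext k
  apply opt_ext
  intro l
  have hk := k.isLt
  have hl := l.isLt
  simp only [P_some, P'_some, P_map_succAbove, P'_map_succAbove, P_map_predAbove,
    P'_map_predAbove, val_succAbove, val_predAbove, Fin.val_succ, Fin.val_castSucc,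
    Fin.le_def, Fin.lt_def, Fin.val_last, Fin.val_zero, reduceCtorEq, Option.some.injEq,
    Fin.ext_iff] at *
  constructor <;> intro h <;>
    first
    | (exact False.elim h)
    | (split_ifs at h ⊢ <;> omega)
    | (split_ifs at h <;> omega)
    | omega))


theorem pat1 {n : ℕ} :
    (fun k : Fin (n+1) => P n 0 ((0 : Fin (n+2)).succAbove k)) = fun _ => none := by
  funext k
  rw [Fin.succAbove_zero]
  unfold P
  rw [dif_neg]
  simp

theorem pat2 {n : ℕ} :
    (fun k : Fin (n+1) => P n (Fin.last n) ((Fin.last (n+1)).succAbove k)) = fun k => some k := by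
  funext k
  rw [Fin.succAbove_last]
  unfold P
  rw [dif_pos]
  · rfl
  · simp only [Fin.val_castSucc, Fin.val_last]; omega

theorem pat1' {n : ℕ} :
    (fun k : Fin (n+1) => P' n 0 ((0 : Fin (n+2)).succAbove k)) = fun k => some k := by
  funext k
  rw [Fin.succAbove_zero]
  unfold P'
  rw [dif_pos]
  · rfl
  · simp

theorem pat2' {n : ℕ} :
    (fun k : Fin (n+1) => P' n (Fin.last n) ((Fin.last (n+1)).succAbove k)) = fun _ => none := by
  funext k
  rw [Fin.succAbove_last]
  unfold P'
  rw [dif_neg]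
  simp only [Fin.val_castSucc, Fin.val_last]; omega

theorem pat3 {n : ℕ} (i : Fin (n+2)) (j : Fin (n+1)) (hij : i ≤ j.castSucc) :
    (fun k : Fin (n+2) => P (n+1) j.succ (i.castSucc.succAbove k)) =
      fun k => (P n j k).map i.succAbove := by
  have hi := i.isLt
  have hj := j.isLt
  pat_tac

theorem pat4 {n : ℕ} (j : Fin (n+1)) :
    (fun k : Fin (n+2) => P (n+1) j.succ (j.castSucc.succ.succAbove k)) =
      fun k => P (n+1) j.castSucc (j.castSucc.succ.succAbove k) := by
  have hj := j.isLt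
  pat_tac

theorem pat5 {n : ℕ} (i : Fin (n+2)) (j : Fin (n+1)) (hji : j.castSucc < i) :
    (fun k => P (n+1) j.castSucc (i.succ.succAbove k)) = fun k => (P n j k).map i.succAbove := by
  have hi := i.isLt
  have hj := j.isLt
  pat_tac

theorem pat6 {n : ℕ} (i j : Fin (n+1)) (hij : i ≤ j) :
    (fun k : Fin (n+3) => P n j (i.castSucc.predAbove k)) =
      fun k => (P (n+1) j.succ k).map i.predAbove := by
  have hi := i.isLt
  have hj := j.isLt
  pat_tac

theorem pat7 {n : ℕ} (i j : Fin (n+1)) (hji : j ≤ i) :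
    (fun k : Fin (n+3) => P n j (i.succ.predAbove k)) =
      fun k => (P (n+1) j.castSucc k).map i.predAbove := by
  have hi := i.isLt
  have hj := j.isLt
  pat_tac

theorem pat3' {n : ℕ} (i : Fin (n+2)) (j : Fin (n+1)) (hij : i ≤ j.castSucc) :
    (fun k : Fin (n+2) => P' (n+1) j.succ (i.castSucc.succAbove k)) =
      fun k => (P' n j k).map i.succAbove := by
  have hi := i.isLt
  have hj := j.isLt
  pat_tac

theorem pat4' {n : ℕ} (j : Fin (n+1)) :
    (fun k : Fin (n+2) => P' (n+1) j.succ (j.castSucc.succ.succAbove k)) =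
      fun k => P' (n+1) j.castSucc (j.castSucc.succ.succAbove k) := by
  have hj := j.isLt
  pat_tac

theorem pat5' {n : ℕ} (i : Fin (n+2)) (j : Fin (n+1)) (hji : j.castSucc < i) :
    (fun k => P' (n+1) j.castSucc (i.succ.succAbove k)) = fun k => (P' n j k).map i.succAbove := by
  have hi := i.isLt
  have hj := j.isLt
  pat_tac

theorem pat6' {n : ℕ} (i j : Fin (n+1)) (hij : i ≤ j) :
    (fun k : Fin (n+3) => P' n j (i.castSucc.predAbove k)) =
      fun k => (P' (n+1) j.succ k).map i.predAbove := by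
  have hi := i.isLt
  have hj := j.isLt
  pat_tac

theorem pat7' {n : ℕ} (i j : Fin (n+1)) (hji : j ≤ i) :
    (fun k : Fin (n+3) => P' n j (i.succ.predAbove k)) =
      fun k => (P' (n+1) j.castSucc k).map i.predAbove := by
  have hi := i.isLt
  have hj := j.isLt
  pat_tac

/-- the homotopy from the identity to the section endomorphism -/
noncomputable def H1 (φ : F ⟶ F) (hφl : φ.left = F.hom ≫ s) (hφr : φ.right = 𝟙 _) :
    SimplicialObject.Homotopy (𝟙 F.cechNerve) (Arrow.mapCechNerve φ) where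
  h {n} j := L F s hs (P n j)
  h_zero_comp_δ_zero n := by
    rw [L_δ, pat1, g_eq F s hs φ hφl hφr]
  h_last_comp_δ_last n := by
    rw [L_δ, pat2, NatTrans.id_app, id_eq F s hs]
  h_succ_comp_δ_castSucc_of_lt i j hij := by
    rw [L_δ, δ_L, pat3 i j hij]
  h_succ_comp_δ_castSucc_succ j := by
    rw [L_δ, L_δ, pat4 j]
  h_castSucc_comp_δ_succ_of_lt i j hji := by
    rw [L_δ, δ_L, pat5 i j hji]
  h_comp_σ_castSucc_of_le i j hij := by
    rw [L_σ, σ_L, pat6 i j hij]
  h_comp_σ_succ_of_lt i j hji := by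
    rw [L_σ, σ_L, pat7 i j hji]

/-- the homotopy from the section endomorphism to the identity -/
noncomputable def H2 (φ : F ⟶ F) (hφl : φ.left = F.hom ≫ s) (hφr : φ.right = 𝟙 _) :
    SimplicialObject.Homotopy (Arrow.mapCechNerve φ) (𝟙 F.cechNerve) where
  h {n} j := L F s hs (P' n j)
  h_zero_comp_δ_zero n := by
    rw [L_δ, pat1', NatTrans.id_app, id_eq F s hs]
  h_last_comp_δ_last n := by
    rw [L_δ, pat2', g_eq F s hs φ hφl hφr]
  h_succ_comp_δ_castSucc_of_lt i j hij := by
    rw [L_δ, δ_L, pat3' i j hij]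
  h_succ_comp_δ_castSucc_succ j := by
    rw [L_δ, L_δ, pat4' j]
  h_castSucc_comp_δ_succ_of_lt i j hji := by
    rw [L_δ, δ_L, pat5' i j hji]
  h_comp_σ_castSucc_of_le i j hij := by
    rw [L_σ, σ_L, pat6' i j hij]
  h_comp_σ_succ_of_lt i j hji := by
    rw [L_σ, σ_L, pat7' i j hji]

end Groth.Agent.Helper9.CechHtpy
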