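import Mathlib
import Groth.Prelude.Def_W4c6blochformula0cycCech

namespace Groth.Agent.Helper9.CechHtpy

universe u
open CategoryTheory Opposite TopologicalSpace W4c6blochformula0cyc

variable {X : Type u} [TopologicalSpace X]

lemma res_res (F : (Opens X)ᵒᵖ ⥤ AddCommGrpCat.{u}) {V W Z : Opens X} (h₁ : W ≤ V) (h₂ : Z ≤ W)
    (x : F.obj (op V)) : res F h₂ (res F h₁ x) = res F (h₂.trans h₁) x := by
  unfold res
  have : (homOfLE (h₂.trans h₁)).op = (homOfLE h₁).op ≫ (homOfLE h₂).op := rfl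
  rw [this, F.map_comp]
  rfl

lemma res_congr (F : (Opens X)ᵒᵖ ⥤ AddCommGrpCat.{u}) {ι : Type u} (U : ι → Opens X) {n : ℕ}
    (f : Cochain F U n) {s s' : Fin n → ι} (e : s = s') {W : Opens X}
    (h : W ≤ cechOpen U s) (h' : W ≤ cechOpen U s') :
    res F h (f s) = res F h' (f s') := by
  subst e; rfl

lemma cechOpen_eq {ι : Type u} (U : ι → Opens X) {n : ℕ} (t : Fin (n + 1) → ι) (i : Fin (n + 1)) :
    cechOpen U t = cechOpen U (t ∘ i.succAbove) ⊓ U (t i) := by
  apply le_antisymm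
  · exact le_inf (cechOpen_le_comp U t i) (iInf_le (fun j => U (t j)) i)
  · refine le_iInf fun j => ?_
    rcases Fin.eq_self_or_eq_succAbove i j with rfl | ⟨k, rfl⟩
    · exact inf_le_right
    · exact inf_le_left.trans (iInf_le (fun k => U ((t ∘ i.succAbove) k)) k)

lemma h3_transport (F : (Opens X)ᵒᵖ ⥤ AddCommGrpCat.{u}) {ι : Type u} (U : ι → Opens X)
    (E : ∀ (V : Opens X) (α : ι), F.obj (op (V ⊓ U α)) →+ F.obj (op V))
    (h3 : ∀ (m : ℕ) (t : Fin (m + 1) → ι) (α β : ι) (g : F.obj (op (cechOpen U t ⊓ U α))),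
      res F inf_le_left (E (cechOpen U t) α g) =
        E (cechOpen U t ⊓ U β) α (res F (inf_le_inf_right (U α) inf_le_left) g))
    (m : ℕ) (s : Fin (m + 1) → ι) (α β : ι) (W : Opens X) (hW : W = cechOpen U s ⊓ U β)
    (hWV : W ≤ cechOpen U s) (hWα : W ⊓ U α ≤ cechOpen U s ⊓ U α)
    (g : F.obj (op (cechOpen U s ⊓ U α))) :
    res F hWV (E (cechOpen U s) α g) = E W α (res F hWα g) := by
  subst hW
  exact h3 m s α β g

end Groth.Agent.Helper9.CechHtpy
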