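import Mathlib
import Groth.Prelude.Def_NonAbH1

set_option autoImplicit false
set_option linter.unusedSectionVars false

namespace Groth.Agent.Helper9.CechIso

open CategoryTheory Opposite

universe w'' w' w v u

variable {C : Type u} [Category.{v} C] {J : GrothendieckTopology C}

section Glue

variable {F : Cᵒᵖ ⥤ Type w''} (hF : Presieve.IsSheaf J F) {I : Type w'} {U : I → C}
  (hU : J.CoversTop U)

include hF hU in
theorem glue_ext {X : C} (x x' : F.obj (op X))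
    (h : ∀ ⦃Y : C⦄ (f : Y ⟶ X) (i : I) (_ : Y ⟶ U i), F.map f.op x = F.map f.op x') :
    x = x' := by
  apply ((hF.isSeparated) _ (hU X)).ext
  rintro T a ⟨i, ⟨b⟩⟩
  exact h a i b

include hF hU in
theorem glue {X : C} (y : ∀ ⦃Y : C⦄ (_ : Y ⟶ X) (i : I) (_ : Y ⟶ U i), F.obj (op Y))
    (h1 : ∀ ⦃Y : C⦄ (f : Y ⟶ X) (i j : I) (a : Y ⟶ U i) (b : Y ⟶ U j), y f i a = y f j b)
    (h2 : ∀ ⦃Y Y' : C⦄ (φ : Y' ⟶ Y) (f : Y ⟶ X) (i : I) (a : Y ⟶ U i),
      y (φ ≫ f) i (φ ≫ a) = F.map φ.op (y f i a)) :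
    ∃ x : F.obj (op X), ∀ ⦃Y : C⦄ (f : Y ⟶ X) (i : I) (a : Y ⟶ U i),
      F.map f.op x = y f i a := by
  let fam : Presieve.FamilyOfElements F (Sieve.ofObjects U X).arrows :=
    fun Y f hf => y f hf.choose hf.choose_spec.some
  have key : ∀ {Z : C} (f f' : Z ⟶ X) (_ : f = f') (i j : I) (a : Z ⟶ U i) (b : Z ⟶ U j),
      y f i a = y f' j b := by
    rintro Z f _ rfl i j a b
    exact h1 f i j a b
  have hfam : fam.Compatible := by
    intro Y₁ Y₂ Z g₁ g₂ f₁ f₂ h₁ h₂ e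
    change F.map g₁.op (y f₁ _ _) = F.map g₂.op (y f₂ _ _)
    rw [← h2, ← h2]
    exact key _ _ e _ _ _ _
  refine ⟨(hF _ (hU X)).amalgamate fam hfam, ?_⟩
  intro Y f i a
  have := (hF _ (hU X)).valid_glue hfam f ⟨i, ⟨a⟩⟩
  rw [this]
  exact h1 f _ _ _ _

end Glue

section Dif

variable {G : Sheaf J GrpCat.{w}} (P : NonAbH1.GSheaf G) (hps : P.IsPseudoTorsor)

/-- the unique section of `G` carrying `q` to `p` -/
noncomputable def dif {V : Cᵒᵖ} (p q : P.P.obj.obj V) : G.obj.obj V := (hps V q p).exists.choose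

theorem dif_smul {V : Cᵒᵖ} (p q : P.P.obj.obj V) : P.smul (dif P hps p q) q = p :=
  (hps V q p).exists.choose_spec

theorem dif_eq {V : Cᵒᵖ} (p q : P.P.obj.obj V) (g : G.obj.obj V) (h : P.smul g q = p) :
    dif P hps p q = g :=
  (hps V q p).unique (dif_smul P hps p q) h

theorem map_dif {V W : Cᵒᵖ} (f : V ⟶ W) (p q : P.P.obj.obj V) :
    G.obj.map f (dif P hps p q) = dif P hps (P.P.obj.map f p) (P.P.obj.map f q) := by
  symm
  apply dif_eq
  rw [← P.map_smul, dif_smul]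

theorem dif_smul_left {V : Cᵒᵖ} (g : G.obj.obj V) (p q : P.P.obj.obj V) :
    dif P hps (P.smul g p) q = g * dif P hps p q := by
  apply dif_eq
  rw [P.mul_smul, dif_smul]

end Dif

section Hom

variable {G : Sheaf J GrpCat.{w}} (P Q : NonAbH1.GSheaf G) (hps : P.IsPseudoTorsor)
  {I : Type w'} {U : I → C} (hU : J.CoversTop U)
  (s : ∀ i, P.P.obj.obj (op (U i))) (t : ∀ i, Q.P.obj.obj (op (U i)))
  (γ : PresheafOfGroups.OneCocycle G.obj U)
  (hs : P.IsCocycleOf U s γ) (ht : Q.IsCocycleOf U t γ)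

theorem map_map (P : NonAbH1.GSheaf G) {T T' : C} {X : C} (φ : T ⟶ T') (a : T' ⟶ X)
    (x : P.P.obj.obj (op X)) :
    P.P.obj.map φ.op (P.P.obj.map a.op x) = P.P.obj.map (φ ≫ a).op x := by
  rw [op_comp, Functor.map_comp_apply]

include hU hs ht in
theorem exists_app {X : C} (p : P.P.obj.obj (op X)) :
    ∃ q : Q.P.obj.obj (op X), ∀ ⦃Y : C⦄ (f : Y ⟶ X) (i : I) (a : Y ⟶ U i),
      Q.P.obj.map f.op q = Q.smul (dif P hps (P.P.obj.map f.op p) (P.P.obj.map a.op (s i)))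
        (Q.P.obj.map a.op (t i)) := by
  apply glue ((isSheaf_iff_isSheaf_of_type _ _).1 Q.P.2) hU
  · intro Y f i j a b
    have : dif P hps (P.P.obj.map f.op p) (P.P.obj.map b.op (s j)) =
        dif P hps (P.P.obj.map f.op p) (P.P.obj.map a.op (s i)) * γ.ev i j a b := by
      apply dif_eq
      rw [P.mul_smul, hs i j a b, dif_smul]
    rw [this, Q.mul_smul, ht i j a b]
  · intro Y Y' φ f i a
    rw [Q.map_smul, map_dif, map_map, map_map, map_map]

include hps hU hs ht in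
theorem exists_hom : ∃ φ : P ⟶ Q, ∀ i, φ.hom.hom.app _ (s i) = t i := by
  choose m hm using fun (X : C) (p : P.P.obj.obj (op X)) => exists_app P Q hps hU s t γ hs ht p
  have hQ := (isSheaf_iff_isSheaf_of_type _ _).1 Q.P.2
  have hnat : ∀ ⦃X X' : C⦄ (h : X' ⟶ X) (p : P.P.obj.obj (op X)),
      m X' (P.P.obj.map h.op p) = Q.P.obj.map h.op (m X p) := by
    intro X X' h p
    apply glue_ext hQ hU
    intro Y f i a
    rw [hm _ _ f i a, map_map, map_map, hm _ _ (f ≫ h) i a]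
  have hequiv : ∀ (X : C) (g : G.obj.obj (op X)) (p : P.P.obj.obj (op X)),
      m X (P.smul g p) = Q.smul g (m X p) := by
    intro X g p
    apply glue_ext hQ hU
    intro Y f i a
    rw [hm _ _ f i a, Q.map_smul, hm _ _ f i a, P.map_smul, dif_smul_left, Q.mul_smul]
  refine ⟨⟨⟨{ app := fun X => TypeCat.ofHom (m X.unop), naturality := ?_ }⟩, ?_⟩, ?_⟩
  · intro X X' h
    ext p
    exact hnat h.unop p
  · intro X g p
    exact hequiv X.unop g p
  · intro i
    change m (U i) (s i) = t i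
    apply glue_ext hQ hU
    intro Y f j b
    rw [hm _ _ f j b]
    have : dif P hps (P.P.obj.map f.op (s i)) (P.P.obj.map b.op (s j)) = γ.ev i j f b :=
      dif_eq P hps _ _ _ (hs i j f b)
    rw [this, ht i j f b]

include hps hU in
theorem hom_ext_of_sections (φ ψ : P ⟶ Q)
    (h : ∀ i, φ.hom.hom.app _ (s i) = ψ.hom.hom.app _ (s i)) : φ = ψ := by
  have hQ := (isSheaf_iff_isSheaf_of_type _ _).1 Q.P.2
  apply NonAbH1.GSheaf.hom_ext
  apply Sheaf.hom_ext
  ext X p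
  change φ.hom.hom.app X p = ψ.hom.hom.app X p
  apply glue_ext hQ hU
  intro Y f i a
  have e1 : ∀ χ : P ⟶ Q, Q.P.obj.map f.op (χ.hom.hom.app X p) =
      Q.smul (dif P hps (P.P.obj.map f.op p) (P.P.obj.map a.op (s i)))
        (Q.P.obj.map a.op (χ.hom.hom.app _ (s i))) := by
    intro χ
    have n1 := NatTrans.naturality_apply χ.hom.hom f.op p
    have n2 := NatTrans.naturality_apply χ.hom.hom a.op (s i)
    rw [← n1, ← n2, ← χ.map_smul, dif_smul]
  rw [e1 φ, e1 ψ, h i]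

end Hom

section Main

variable {G : Sheaf J GrpCat.{w}} (P Q : NonAbH1.GSheaf G) (hps : P.IsPseudoTorsor)
  (hqs : Q.IsPseudoTorsor)
  {I : Type w'} {U : I → C} (hU : J.CoversTop U)

include hps hqs hU in
theorem iso_of_cocycle (s : ∀ i, P.P.obj.obj (op (U i))) (t : ∀ i, Q.P.obj.obj (op (U i)))
    (γ : PresheafOfGroups.OneCocycle G.obj U)
    (hs : P.IsCocycleOf U s γ) (ht : Q.IsCocycleOf U t γ) : Nonempty (P ≅ Q) := by
  obtain ⟨φ, hφ⟩ := exists_hom P Q hps hU s t γ hs ht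
  obtain ⟨ψ, hψ⟩ := exists_hom Q P hqs hU t s γ ht hs
  refine ⟨⟨φ, ψ, ?_, ?_⟩⟩
  · apply hom_ext_of_sections P P hps hU s
    intro i
    change ψ.hom.hom.app _ (φ.hom.hom.app _ (s i)) = s i
    rw [hφ, hψ]
  · apply hom_ext_of_sections Q Q hqs hU t
    intro i
    change φ.hom.hom.app _ (ψ.hom.hom.app _ (t i)) = t i
    rw [hψ, hφ]

include hps hqs hU in
theorem main (c : PresheafOfGroups.H1 G.obj U) (hPc : P.HasCechClass U c)
    (hQc : Q.HasCechClass U c) : Nonempty (P ≅ Q) := by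
  obtain ⟨s, γ, hs, hγ⟩ := hPc
  obtain ⟨t, γ', ht, hγ'⟩ := hQc
  have hc : γ.class = γ'.class := hγ.trans hγ'.symm
  rw [PresheafOfGroups.OneCocycle.class_eq_iff] at hc
  obtain ⟨α, hα⟩ := hc
  refine iso_of_cocycle P Q hps hqs hU (fun i => P.smul (α i) (s i)) t γ' ?_ ht
  intro i j T a b
  rw [P.map_smul, ← P.mul_smul, ← hα i j a b, P.mul_smul, hs i j a b, ← P.map_smul]

end Main

end Groth.Agent.Helper9.CechIso
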