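import Mathlib
import Groth.Prelude.Def_CechEdge
import Groth.Agent.Helper9.CechEdgeB

/-! Edge maps are compatible with refinement of families. -/

set_option autoImplicit false
set_option backward.isDefEq.respectTransparency false
universe u

open CategoryTheory CategoryTheory.Limits Opposite

namespace Groth.Agent.Helper9.CechRefine

open Groth.Agent.Helper1.Cech Groth.Agent.Helper9.CechEdgeA Groth.Agent.Helper9.CechEdgeB
  Groth.Agent.Helper1 Groth.Agent.Helper1.DeltaFun

variable {C : Type u} [SmallCategory C] [HasPullbacks C] {J : GrothendieckTopology C} {U : C}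
  {ι κ : Type u} (Y : ι → Over U) (Y' : κ → Over U)
  (f : FormalCoproduct.mk ι Y ⟶ FormalCoproduct.mk κ Y')

/-- the refinement map as a natural transformation of complex-valued functors -/
noncomputable def refineNat : CechDelta.K Y' ⟶ CechDelta.K Y :=
  Functor.whiskerLeft CechDelta.W
    (Functor.whiskerRight
      (Functor.whiskerLeft (FormalCoproduct.evalOp.{u} (Over U) AddCommGrpCat.{u})
        ((Functor.whiskeringLeft _ _ _).map
          (NatTrans.rightOp (FormalCoproduct.cechFunctor.map f))))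
      (AlgebraicTopology.alternatingCofaceMapComplex AddCommGrpCat.{u}))

lemma refineNat_app (P : Cᵒᵖ ⥤ AddCommGrpCat.{u}) :
    (refineNat Y Y' f).app P = CohCx.cechRefine P f := rfl

variable {Y Y'}

/-- the morphism on products induced by a refinement -/
noncomputable def prodMap {n : ℕ} (x : Fin (n + 1) → ι) :
    prodU Y x ⟶ prodU Y' (f.f ∘ x) :=
  Limits.Pi.map (fun a => f.φ (x a))

lemma refine_comp' (P : Cᵒᵖ ⥤ AddCommGrpCat.{u}) (n : ℕ) (x : Fin (n + 1) → ι) :
    (CohCx.cechRefine P f).f n ≫ comp Y (Q P) n x =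
      comp Y' (Q P) n (f.f ∘ x) ≫ (Q P).map (prodMap f x).op := by
  unfold comp prodMap
  dsimp only [CohCx.cechRefine, AlgebraicTopology.alternatingCofaceMapComplex,
    AlgebraicTopology.AlternatingCofaceMapComplex.map]
  erw [Pi.lift_π]
  rfl

lemma comp_refine (P : Cᵒᵖ ⥤ AddCommGrpCat.{u}) (n : ℕ) (x : Fin (n + 1) → ι)
    (c : (cx Y' (Q P)).X n) :
    comp Y (Q P) n x ((CohCx.cechRefine P f).f n c) =
      (Q P).map (prodMap f x).op (comp Y' (Q P) n (f.f ∘ x) c) := by
  have h := ConcreteCategory.congr_hom (refine_comp' f P n x) c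
  rw [ConcreteCategory.comp_apply, ConcreteCategory.comp_apply] at h
  exact h

lemma refine_toCech₀ (P : Cᵒᵖ ⥤ AddCommGrpCat.{u}) (s : P.obj (op U)) :
    (CohCx.cechRefine P f).f 0 (CechEdge.toCech₀ P Y' s) = CechEdge.toCech₀ P Y s := by
  apply Groth.Agent.Helper1.Cech.ext
  intro x
  rw [comp_refine]
  have h1 := comp_toCech₀ Y' P (f.f ∘ x) s
  have h2 := comp_toCech₀ Y P x s
  refine ((congrArg ((Q P).map (prodMap f x).op) h1).trans ?_).trans h2.symm
  show P.map (prodMap f x).left.op (P.map (prodU Y' (f.f ∘ x)).hom.op s) = _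
  rw [← ConcreteCategory.comp_apply, ← P.map_comp, ← op_comp, Over.w]

lemma refine_toCech (P : Cᵒᵖ ⥤ AddCommGrpCat.{u}) (s : P.obj (op U)) :
    (HomologicalComplex.homologyMap (CohCx.cechRefine P f) 0).hom (CechEdge.toCech Y' P s) =
      CechEdge.toCech Y P s := by
  have e : CechEdge.toCech₀ P Y' ≫ (CohCx.cechRefine P f).f 0 = CechEdge.toCech₀ P Y := by
    ext s
    exact refine_toCech₀ f P s
  have h : CechEdge.toCycles P Y' ≫ HomologicalComplex.cyclesMap (CohCx.cechRefine P f) 0 =
      CechEdge.toCycles P Y := by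
    refine (HomologicalComplex.liftCycles_comp_cyclesMap (K := CechEdge.cx P Y')
      (L := CechEdge.cx P Y) (CechEdge.toCech₀ P Y') 1 (by simp) (CechEdge.toCech₀_d P Y')
      (CohCx.cechRefine P f)).trans ?_
    congr 1
  have h' : (CechEdge.toCycles P Y' ≫ (CechEdge.cx P Y').homologyπ 0) ≫
      HomologicalComplex.homologyMap (CohCx.cechRefine P f) 0 =
      CechEdge.toCycles P Y ≫ (CechEdge.cx P Y).homologyπ 0 := by
    have hn := HomologicalComplex.homologyπ_naturality (CohCx.cechRefine P f) 0
    rw [Category.assoc]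
    refine (congrArg (fun z => CechEdge.toCycles P Y' ≫ z) hn).trans ?_
    exact (Category.assoc _ _ _).symm.trans
      (congrArg (fun z => z ≫ (CechEdge.cx P Y).homologyπ 0) h)
  exact ConcreteCategory.congr_hom h' s

/-- refinement as a morphism of Čech δ-functors -/
noncomputable def refHom : (TC Y').Hom (TC Y) :=
  ofComplexHom (CechDelta.hK Y') (CechDelta.hK Y) (refineNat Y Y' f)

lemma refHom_app (p : ℕ) (P : Cᵒᵖ ⥤ AddCommGrpCat.{u}) :
    ((refHom f).app p).app P = HomologicalComplex.homologyMap (CohCx.cechRefine P f) p := rfl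

lemma refine_natural {P P' : Cᵒᵖ ⥤ AddCommGrpCat.{u}} (ψ : P ⟶ P') (p : ℕ)
    (x : CohCx.cechH P Y' p) :
    CechEdge.cechHMap Y ψ p ((HomologicalComplex.homologyMap (CohCx.cechRefine P f) p).hom x) =
      (HomologicalComplex.homologyMap (CohCx.cechRefine P' f) p).hom
        (CechEdge.cechHMap Y' ψ p x) :=
  (ConcreteCategory.congr_hom (((refHom f).app p).naturality ψ) x).symm

variable {e : ∀ (P : Cᵒᵖ ⥤ AddCommGrpCat.{u}) (p : ℕ),
    CohCx.cechH P Y p →+ CohSite.HU (CechEdge.shf J P) p U}
  {e' : ∀ (P : Cᵒᵖ ⥤ AddCommGrpCat.{u}) (p : ℕ),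
    CohCx.cechH P Y' p →+ CohSite.HU (CechEdge.shf J P) p U}
  (he : CechEdge.IsEdge J Y e) (he' : CechEdge.IsEdge J Y' e')

include he he' in
lemma e_refine_zero (P : Cᵒᵖ ⥤ AddCommGrpCat.{u}) (x : CohCx.cechH P Y' 0) :
    e P 0 ((HomologicalComplex.homologyMap (CohCx.cechRefine P f) 0).hom x) = e' P 0 x := by
  haveI : IsIso (CechEdge.shfMap J (toSheafify J P)) := by
    have h := (sheafificationAdjunction J AddCommGrpCat.{u}).left_triangle_components P
    haveI : IsIso (CechEdge.shfMap J (toSheafify J P) ≫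
        (sheafificationAdjunction J AddCommGrpCat.{u}).counit.app (CechEdge.shf J P)) := by
      rw [show CechEdge.shfMap J (toSheafify J P) ≫
        (sheafificationAdjunction J AddCommGrpCat.{u}).counit.app (CechEdge.shf J P) = 𝟙 _ from h]
      infer_instance
    exact IsIso.of_isIso_comp_right _
      ((sheafificationAdjunction J AddCommGrpCat.{u}).counit.app (CechEdge.shf J P))
  have hinj : Function.Injective (CechEdge.HUmap (CechEdge.shfMap J (toSheafify J P)) 0 U) := by
    have : IsIso ((Abelian.extFunctorObj (CohCx.freeSheaf J U) 0).map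
        (CechEdge.shfMap J (toSheafify J P))) := inferInstance
    exact ((ConcreteCategory.isIso_iff_bijective _).1 this).1
  apply hinj
  rw [← he.natural, ← he'.natural, refine_natural]
  obtain ⟨t, ht⟩ := (bijective_toCech_of_isSheaf Y' he'.cover (CechEdge.shf J P)).2
    (CechEdge.cechHMap Y' (toSheafify J P) 0 x)
  rw [← ht, refine_toCech, he.zero, he'.zero]

include he he' in
theorem e_refine (P : Cᵒᵖ ⥤ AddCommGrpCat.{u}) (p : ℕ) (x : CohCx.cechH P Y' p) :
    e P p ((HomologicalComplex.homologyMap (CohCx.cechRefine P f) p).hom x) = e' P p x := by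
  have h0 : ((refHom f).comp (homOfIsEdge Y e he)).app 0 = (homOfIsEdge Y' e' he').app 0 := by
    ext P x
    exact e_refine_zero f he he' P x
  have := DeltaFunctor.Hom.eq_of_zero (TC_effaceable Y') _ _ h0 p
  exact ConcreteCategory.congr_hom (NatTrans.congr_app this P) x

include he he' in
theorem edgeSh_refine (F : Sheaf J AddCommGrpCat.{u}) (p : ℕ) (x : CohCx.cechH F.obj Y' p) :
    CechEdge.edgeSh e F p ((HomologicalComplex.homologyMap (CohCx.cechRefine F.obj f) p).hom x) =
      CechEdge.edgeSh e' F p x := by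
  show CechEdge.HUmap _ p U (e F.obj p _) = CechEdge.HUmap _ p U (e' F.obj p x)
  rw [e_refine f he he']

end Groth.Agent.Helper9.CechRefine
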