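import Mathlib
import Groth.Prelude.Def_CechEdge
import Groth.Agent.Helper9.CechRefine

/-! Two refinements induce the same map on Čech cohomology. -/

set_option autoImplicit false
set_option backward.isDefEq.respectTransparency false
universe u

open CategoryTheory CategoryTheory.Limits Opposite

namespace Groth.Agent.Helper9.CechRefine

open Groth.Agent.Helper1.Cech Groth.Agent.Helper9.CechEdgeA Groth.Agent.Helper9.CechEdgeB
  Groth.Agent.Helper1 Groth.Agent.Helper1.DeltaFun

variable {C : Type u} [SmallCategory C] [HasPullbacks C] {U : C}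
  {ι κ : Type u} {Y : ι → Over U} {Y' : κ → Over U}
  (f g : FormalCoproduct.mk ι Y ⟶ FormalCoproduct.mk κ Y')

/-- on `0`-cocycles the two refinement maps agree -/
lemma refine_cocycle_eq (P : Cᵒᵖ ⥤ AddCommGrpCat.{u}) (c : (cx Y' (Q P)).X 0)
    (hc : (cx Y' (Q P)).d 0 1 c = 0) :
    (CohCx.cechRefine P f).f 0 c = (CohCx.cechRefine P g).f 0 c := by
  apply Groth.Agent.Helper1.Cech.ext
  intro x
  rw [comp_refine, comp_refine]
  obtain ⟨s, rfl⟩ : ∃ s, c = cochainOf Y' P s :=
    ⟨familyOf Y' P c, (cochainOf_familyOf Y' P c).symm⟩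
  have hcomp := compatible_of_d_eq_zero Y' P s hc
  have h1 : ∀ (h : FormalCoproduct.mk ι Y ⟶ FormalCoproduct.mk κ Y'),
      (Q P).map (prodMap h x).op (comp Y' (Q P) 0 (h.f ∘ x) (cochainOf Y' P s)) =
        (Q P).map (prodMap h x ≫ pr Y' (h.f ∘ x)).op (s ((h.f ∘ x) 0)) := by
    intro h
    unfold cochainOf
    rw [comp_mk, map_map]
  rw [h1 f, h1 g]
  exact hcomp _ _ _ (prodMap f x ≫ pr Y' (f.f ∘ x)).left (prodMap g x ≫ pr Y' (g.f ∘ x)).left
    ((Over.w (prodMap f x ≫ pr Y' (f.f ∘ x))).trans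
      (Over.w (prodMap g x ≫ pr Y' (g.f ∘ x))).symm)

omit [HasPullbacks C] in
lemma homologyMap_zero_eq_of_cocycles {K L : CochainComplex AddCommGrpCat.{u} ℕ} (φ ψ : K ⟶ L)
    (h : ∀ c : K.X 0, K.d 0 1 c = 0 → φ.f 0 c = ψ.f 0 c) :
    HomologicalComplex.homologyMap φ 0 = HomologicalComplex.homologyMap ψ 0 := by
  have h1 : HomologicalComplex.cyclesMap φ 0 = HomologicalComplex.cyclesMap ψ 0 := by
    rw [← cancel_mono (L.iCycles 0), HomologicalComplex.cyclesMap_i,
      HomologicalComplex.cyclesMap_i]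
    ext z
    rw [ConcreteCategory.comp_apply, ConcreteCategory.comp_apply]
    apply h
    have := ConcreteCategory.congr_hom (K.iCycles_d 0 1) z
    rw [ConcreteCategory.comp_apply] at this
    exact this
  rw [← cancel_epi (K.homologyπ 0), HomologicalComplex.homologyπ_naturality,
    HomologicalComplex.homologyπ_naturality, h1]

lemma homologyMap_refine_zero_eq (P : Cᵒᵖ ⥤ AddCommGrpCat.{u}) :
    HomologicalComplex.homologyMap (CohCx.cechRefine P f) 0 =
      HomologicalComplex.homologyMap (CohCx.cechRefine P g) 0 :=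
  homologyMap_zero_eq_of_cocycles (K := cx Y' (Q P)) (L := cx Y (Q P))
    (CohCx.cechRefine P f) (CohCx.cechRefine P g) (refine_cocycle_eq f g P)

theorem homologyMap_refine_eq (P : Cᵒᵖ ⥤ AddCommGrpCat.{u}) (q : ℕ) :
    HomologicalComplex.homologyMap (CohCx.cechRefine P f) q =
      HomologicalComplex.homologyMap (CohCx.cechRefine P g) q := by
  have h0 : (refHom f).app 0 = (refHom g).app 0 := by
    ext P : 2
    exact homologyMap_refine_zero_eq f g P
  have := DeltaFunctor.Hom.eq_of_zero (TC_effaceable Y') _ _ h0 q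
  exact NatTrans.congr_app this P

end Groth.Agent.Helper9.CechRefine
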