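import Mathlib

/-!
# Injective cochain complexes in degrees `≥ 0` are exact in positive degrees
-/

set_option autoImplicit false

open CategoryTheory Limits HomologicalComplex

namespace Groth.Agent.Helper9.CechSSA

universe v u

variable {B : Type u} [Category.{v} B] [Abelian B]

/-- in an injective complex every cocycle of positive degree (tested on any object) is a
coboundary -/
lemma exists_lift_of_injective (I : CochainComplex B ℕ) [Injective I] (n : ℕ) {A : B}
    (f : A ⟶ I.X (n + 1)) (hf : f ≫ I.d (n + 1) (n + 2) = 0) :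
    ∃ g : A ⟶ I.X n, g ≫ I.d n (n + 1) = f := by
  have hrel : (ComplexShape.up ℕ).Rel n (n + 1) := rfl
  have hne : n ≠ n + 1 := (Nat.succ_ne_self n).symm
  let S : CochainComplex B ℕ := (single B (ComplexShape.up ℕ) (n + 1)).obj A
  let D : CochainComplex B ℕ := double (𝟙 A) hrel
  let s : S ⟶ I := mkHomFromSingle f (fun k hk => by
    obtain rfl : n + 2 = k := hk
    exact hf)
  let ι : S ⟶ D := mkHomFromSingle (doubleXIso₁ (𝟙 A) hrel hne).inv (fun k hk => by
    rw [double_d_eq_zero₀ _ _ _ _ hne.symm, comp_zero])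
  haveI : Mono ι := by
    apply mono_of_mono_f
    intro k
    by_cases hk : k = n + 1
    · subst hk
      rw [mkHomFromSingle_f]
      infer_instance
    · exact ⟨fun a b _ => (isZero_single_obj_X (ComplexShape.up ℕ) (n + 1) A k hk).eq_of_tgt a b⟩
  let e : D ⟶ I := Injective.factorThru s ι
  have he : ι ≫ e = s := Injective.comp_factorThru s ι
  refine ⟨(doubleXIso₀ (𝟙 A) hrel).inv ≫ e.f n, ?_⟩
  have h1 : e.f n ≫ I.d n (n + 1) = D.d n (n + 1) ≫ e.f (n + 1) := e.comm n (n + 1)
  have h2 : ι.f (n + 1) ≫ e.f (n + 1) = s.f (n + 1) := by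
    rw [← comp_f, he]
  rw [mkHomFromSingle_f, mkHomFromSingle_f] at h2
  rw [Category.assoc, h1, double_d _ _ hne]
  simp only [Category.id_comp, Category.assoc, Iso.inv_hom_id_assoc]
  have h3 := congrArg (fun t => (singleObjXSelf (ComplexShape.up ℕ) (n + 1) A).inv ≫ t) h2
  simpa using h3

theorem isZero_homology_succ_of_injective (I : CochainComplex B ℕ) [Injective I] (n : ℕ) :
    IsZero (I.homology (n + 1)) := by
  rw [← exactAt_iff_isZero_homology,
    exactAt_iff' _ n (n + 1) (n + 2) (by simp) (by simp), ShortComplex.exact_iff_epi_toCycles]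
  generalize hT : I.sc' n (n + 1) (n + 2) = T
  have key : ∃ g : T.cycles ⟶ T.X₁, g ≫ T.f = T.iCycles := by
    subst hT
    exact exists_lift_of_injective I n (I.sc' n (n + 1) (n + 2)).iCycles
      (I.sc' n (n + 1) (n + 2)).iCycles_g
  obtain ⟨g, hg⟩ := key
  have h1 : g ≫ T.toCycles = 𝟙 _ := by
    rw [← cancel_mono T.iCycles, Category.assoc, ShortComplex.toCycles_i, Category.id_comp]
    exact hg
  exact ⟨fun a b h => by
    have h2 := congrArg (fun t => g ≫ t) h
    simp only [← Category.assoc, h1, Category.id_comp] at h2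
    exact h2⟩

end Groth.Agent.Helper9.CechSSA
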