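import Mathlib
import Groth.Agent.Helper1.DeltaFunctor
import Groth.Agent.Helper1.DeltaHom
import Groth.Agent.Helper1.ExtPre
import Groth.Agent.Helper9.CechSSA

/-!
# `Ext` from `ℤ[0]` in the category of cochain complexes of abelian groups is cohomology
-/

set_option autoImplicit false

open CategoryTheory Limits HomologicalComplex Abelian Opposite

namespace Groth.Agent.Helper9.CechSSB

open Groth.Agent.Helper1.DeltaFun Groth.Agent.Helper1.DeltaCmp

universe v u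

section Ext

variable {𝒜 : Type u} [Category.{v} 𝒜] [Abelian 𝒜] [HasExt.{v} 𝒜] (X₀ : 𝒜)

/-- the δ-functor `Ext^•(X₀, -)` -/
noncomputable def extDelta : DeltaFunctor 𝒜 AddCommGrpCat.{v} where
  T n := extFunctorObj X₀ n
  δ S hS n := AddCommGrpCat.ofHom (hS.extClass.postcomp X₀ rfl)
  δ_nat {S S'} φ hS hS' n := by
    apply AddCommGrpCat.hom_ext
    apply AddMonoidHom.ext
    intro (x : Ext.{v} X₀ S.X₃ n)
    show (x.comp hS.extClass rfl).comp (Ext.mk₀ φ.τ₁) (add_zero _) =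
      (x.comp (Ext.mk₀ φ.τ₃) (add_zero _)).comp hS'.extClass rfl
    rw [Ext.comp_assoc_of_third_deg_zero, ShortComplex.ShortExact.extClass_naturality hS hS' φ,
      Ext.comp_assoc_of_second_deg_zero]
  w₃ S hS n := by
    apply AddCommGrpCat.hom_ext
    apply AddMonoidHom.ext
    intro (x : Ext.{v} X₀ S.X₂ n)
    show (x.comp (Ext.mk₀ S.g) (add_zero n)).comp hS.extClass rfl = 0
    rw [Ext.comp_assoc_of_second_deg_zero, ShortComplex.ShortExact.comp_extClass, Ext.comp_zero]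
  w₁ S hS n := by
    apply AddCommGrpCat.hom_ext
    apply AddMonoidHom.ext
    intro (x : Ext.{v} X₀ S.X₃ n)
    show (x.comp hS.extClass rfl).comp (Ext.mk₀ S.f) (add_zero (n + 1)) = 0
    rw [Ext.comp_assoc_of_third_deg_zero, ShortComplex.ShortExact.extClass_comp, Ext.comp_zero]
  exact₃ S hS n := Ext.covariant_sequence_exact₃' X₀ hS n (n + 1) rfl
  exact₁ S hS n := Ext.covariant_sequence_exact₁' X₀ hS n (n + 1) rfl

lemma extDelta_effaceable : (extDelta X₀).Effaceable := by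
  intro I _ n
  have : Subsingleton (((extDelta X₀).T (n + 1)).obj I) :=
    subsingleton_of_forall_eq 0 fun (x : Ext.{v} X₀ I (n + 1)) => Ext.eq_zero_of_injective x
  exact AddCommGrpCat.isZero_of_subsingleton _

/-- `Ext⁰(X₀, -) ≅ Hom(X₀, -)` -/
noncomputable def ext0Iso : (extDelta X₀).T 0 ≅ preadditiveCoyoneda.obj (op X₀) :=
  NatIso.ofComponents (fun L => (Ext.addEquiv₀ (X := X₀) (Y := L)).toAddCommGrpIso)
    (fun {L L'} g => by
      apply AddCommGrpCat.hom_ext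
      apply AddMonoidHom.ext
      intro (x : Ext.{v} X₀ L 0)
      obtain ⟨f, rfl⟩ := (Ext.mk₀_bijective X₀ L).2 x
      change Ext.addEquiv₀ ((Ext.mk₀ f).comp (Ext.mk₀ g) (add_zero 0)) =
        Ext.addEquiv₀ (Ext.mk₀ f) ≫ g
      rw [Ext.mk₀_comp_mk₀]
      change Ext.homEquiv₀ (Ext.mk₀ (f ≫ g)) = Ext.homEquiv₀ (Ext.mk₀ f) ≫ g
      have h : ∀ {Y : 𝒜} (k : X₀ ⟶ Y), Ext.homEquiv₀ (Ext.mk₀ k) = k := fun k =>
        Ext.homEquiv₀.apply_symm_apply k
      rw [h, h])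

end Ext

section Cx

/-- cochain complexes of abelian groups in degrees `≥ 0` -/
abbrev ℬ : Type (v + 1) := CochainComplex AddCommGrpCat.{v} ℕ

/-- `ℤ` -/
abbrev A₀ : AddCommGrpCat.{v} := AddCommGrpCat.of (ULift.{v} ℤ)

/-- `ℤ[0]` -/
noncomputable abbrev X₀ : ℬ.{v} := (CochainComplex.single₀ AddCommGrpCat.{v}).obj A₀

/-- the generator -/
def one₀ : (A₀.{v} : Type v) := ⟨1⟩

lemma ev_eq {M : AddCommGrpCat.{v}} (f : A₀.{v} ⟶ M) :
    AddCommGrpCat.uliftZMultiplesAddEquiv M f = f one₀ := rfl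

lemma hom_ext_A₀ {M : AddCommGrpCat.{v}} {f g : A₀.{v} ⟶ M} (h : f one₀ = g one₀) : f = g :=
  (AddCommGrpCat.uliftZMultiplesAddEquiv M).injective ((ev_eq f).trans (h.trans (ev_eq g).symm))

lemma comp_d (L : ℬ.{v}) (φ : X₀.{v} ⟶ L) : φ.f 0 ≫ L.d 0 1 = 0 := by
  rw [φ.comm 0 1, HomologicalComplex.single_obj_d, zero_comp]

/-- the cocycle attached to a morphism from `ℤ[0]` -/
noncomputable def cyc (L : ℬ.{v}) (φ : X₀.{v} ⟶ L) : (L.cycles 0 : Type v) :=
  (L.liftCycles (φ.f 0) 1 (by simp) (comp_d L φ)) one₀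

lemma iCycles_cyc (L : ℬ.{v}) (φ : X₀.{v} ⟶ L) : L.iCycles 0 (cyc L φ) = φ.f 0 one₀ :=
  ConcreteCategory.congr_hom (L.liftCycles_i (φ.f 0) 1 (by simp) (comp_d L φ)) one₀

lemma iCycles_injective (L : ℬ.{v}) : Function.Injective (L.iCycles 0) :=
  (AddCommGrpCat.mono_iff_injective _).1 inferInstance

lemma cyc_add (L : ℬ.{v}) (φ φ' : X₀.{v} ⟶ L) : cyc L (φ + φ') = cyc L φ + cyc L φ' := by
  apply iCycles_injective
  rw [map_add, iCycles_cyc, iCycles_cyc, iCycles_cyc]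
  rfl

lemma cyc_comp {L L' : ℬ.{v}} (g : L ⟶ L') (φ : X₀.{v} ⟶ L) :
    cyc L' (φ ≫ g) = HomologicalComplex.cyclesMap g 0 (cyc L φ) := by
  apply iCycles_injective
  rw [iCycles_cyc]
  have h := ConcreteCategory.congr_hom (HomologicalComplex.cyclesMap_i g 0) (cyc L φ)
  refine Eq.trans ?_ h.symm
  change g.f 0 (φ.f 0 one₀) = g.f 0 (L.iCycles 0 (cyc L φ))
  rw [iCycles_cyc]

/-- `Hom(ℤ[0], L) → H⁰(L)` -/
noncomputable def ηfun (L : ℬ.{v}) : (X₀.{v} ⟶ L) →+ (L.homology 0 : Type v) :=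
  AddMonoidHom.mk' (fun φ => L.homologyπ 0 (cyc L φ))
    (fun φ φ' => by rw [cyc_add, map_add])

/-- `Hom(ℤ[0], L) ⟶ H⁰(L)` -/
noncomputable def η : preadditiveCoyoneda.obj (op X₀.{v}) ⟶
    HomologicalComplex.homologyFunctor AddCommGrpCat.{v} (ComplexShape.up ℕ) 0 where
  app L := AddCommGrpCat.ofHom (ηfun L)
  naturality L L' g := by
    ext φ
    change L'.homologyπ 0 (cyc L' (φ ≫ g)) =
      HomologicalComplex.homologyMap g 0 (L.homologyπ 0 (cyc L φ))
    rw [cyc_comp]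
    exact ConcreteCategory.congr_hom (HomologicalComplex.homologyπ_naturality g 0).symm (cyc L φ)

lemma homologyπ_bijective (L : ℬ.{v}) : Function.Bijective (L.homologyπ 0) := by
  have : IsIso (L.homologyπ 0) :=
    (L.isoHomologyπ 0 0 (by simp) (L.shape 0 0 (by simp))).isIso_hom
  exact (ConcreteCategory.isIso_iff_bijective _).1 this

instance : IsIso η.{v} := by
  rw [NatTrans.isIso_iff_isIso_app]
  intro L
  rw [ConcreteCategory.isIso_iff_bijective]
  constructor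
  · intro φ φ' h
    have h1 : cyc L φ = cyc L φ' := (homologyπ_bijective L).1 h
    have h2 : φ.f 0 one₀ = φ'.f 0 one₀ := by rw [← iCycles_cyc, ← iCycles_cyc, h1]
    apply (CochainComplex.fromSingle₀Equiv L A₀).injective
    exact Subtype.ext (hom_ext_A₀ h2)
  · intro h
    obtain ⟨c, rfl⟩ := (homologyπ_bijective L).2 h
    let f : A₀.{v} ⟶ L.X 0 := (AddCommGrpCat.uliftZMultiplesAddEquiv (L.X 0)).symm (L.iCycles 0 c)
    have hf1 : f one₀ = L.iCycles 0 c :=
      (ev_eq f).symm.trans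
        ((AddCommGrpCat.uliftZMultiplesAddEquiv (L.X 0)).apply_symm_apply (L.iCycles 0 c))
    have hf : f ≫ L.d 0 1 = 0 := by
      apply hom_ext_A₀
      change L.d 0 1 (f one₀) = 0
      rw [hf1]
      exact ConcreteCategory.congr_hom (L.iCycles_d 0 1) c
    refine ⟨(CochainComplex.fromSingle₀Equiv L A₀).symm ⟨f, hf⟩, ?_⟩
    change L.homologyπ 0 (cyc L _) = L.homologyπ 0 c
    congr 1
    apply iCycles_injective
    rw [iCycles_cyc, CochainComplex.fromSingle₀Equiv_symm_apply_f_zero]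
    exact hf1

/-- the cohomology δ-functor on complexes -/
noncomputable def homDelta : DeltaFunctor ℬ.{v} AddCommGrpCat.{v} :=
  ofComplex (𝟭 ℬ.{v}) (fun _ hS => hS)

lemma homDelta_effaceable : homDelta.{v}.Effaceable :=
  fun I _ n => CechSSA.isZero_homology_succ_of_injective I n

/-- the degree `0` comparison -/
noncomputable def e0 : (extDelta X₀.{v}).T 0 ≅ homDelta.{v}.T 0 :=
  ext0Iso X₀.{v} ≪≫ asIso η.{v} ≪≫ (Functor.leftUnitor _).symm

theorem nonempty_extIso (L : ℬ.{v}) (n : ℕ) :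
    Nonempty (AddCommGrpCat.of (Ext.{v} X₀.{v} L n) ≅ L.homology n) := by
  obtain ⟨e⟩ := nonempty_iso_of_effaceable (extDelta X₀.{v}) homDelta.{v}
    (extDelta_effaceable X₀.{v}) homDelta_effaceable e0 n
  exact ⟨e.app L⟩

end Cx

end Groth.Agent.Helper9.CechSSB
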