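import Mathlib
import Groth.Prelude.Def_Hyper
import Groth.Agent.Helper1.DeltaFunctor
import Groth.Agent.Helper1.DeltaHom
import Groth.Agent.Helper1.DeltaComp
import Groth.Agent.Helper1.SiteDelta

/-!
# The Čech complex functor of a simplicial formal coproduct is exact on presheaves
-/

set_option autoImplicit false

open CategoryTheory Limits HomologicalComplex Abelian Opposite

namespace Groth.Agent.Helper9.CechSSC

open Groth.Agent.Helper1.DeltaFun Groth.Agent.Helper1.DeltaCmp

universe u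

section Pi

variable {ι : Type u} (M : ι → AddCommGrpCat.{u})

lemma pi_ext (y y' : (∏ᶜ M : AddCommGrpCat.{u})) (h : ∀ i, Pi.π M i y = Pi.π M i y') : y = y' :=
  Concrete.limit_ext (Discrete.functor M) y y' (fun ⟨i⟩ => h i)

lemma exists_elt (x : ∀ i, M i) : ∃ y : (∏ᶜ M : AddCommGrpCat.{u}), ∀ i, Pi.π M i y = x i := by
  let e : ∏ᶜ M ≅ AddCommGrpCat.of (∀ i, M i) :=
    (limit.isLimit _).conePointUniqueUpToIso (AddCommGrpCat.HasLimit.productLimitCone M).isLimit
  have he : ∀ i, e.inv ≫ Pi.π M i = AddCommGrpCat.ofHom (Pi.evalAddMonoidHom (fun i => M i) i) :=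
    fun i => IsLimit.conePointUniqueUpToIso_inv_comp _ _ (Discrete.mk i)
  exact ⟨e.inv x, fun i => ConcreteCategory.congr_hom (he i) x⟩

variable {M} {N : ι → AddCommGrpCat.{u}} (f : ∀ i, M i ⟶ N i)

lemma π_map_apply (i : ι) (y : (∏ᶜ M : AddCommGrpCat.{u})) :
    Pi.π N i (Limits.Pi.map f y) = f i (Pi.π M i y) :=
  ConcreteCategory.congr_hom (Pi.map_π f i) y

end Pi

variable {C : Type u} [SmallCategory C] (K : SimplicialObject (FormalCoproduct.{u} C))

/-- the Čech complex functor on presheaves -/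
noncomputable abbrev Č : (Cᵒᵖ ⥤ AddCommGrpCat.{u}) ⥤ CochainComplex AddCommGrpCat.{u} ℕ :=
  FormalCoproduct.cochainComplexFunctor K

/-- the index set of `K_n` -/
abbrev In (n : ℕ) : Type u := (K.obj (op (SimplexCategory.mk n))).I

/-- the components of `K_n` -/
abbrev Un (n : ℕ) (i : In K n) : C := (K.obj (op (SimplexCategory.mk n))).obj i

lemma Č_map_f {P Q : Cᵒᵖ ⥤ AddCommGrpCat.{u}} (f : P ⟶ Q) (n : ℕ) :
    ((Č K).map f).f n = Limits.Pi.map (fun i : In K n => f.app (op (Un K n i))) := rfl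

lemma pi_map_zero {ι : Type u} (M N : ι → AddCommGrpCat.{u}) :
    Limits.Pi.map (fun i => (0 : M i ⟶ N i)) = 0 := by
  apply Pi.hom_ext
  intro i
  rw [Pi.map_π, comp_zero, zero_comp]

lemma pi_map_add {ι : Type u} {M N : ι → AddCommGrpCat.{u}} (a b : ∀ i, M i ⟶ N i) :
    Limits.Pi.map (fun i => a i + b i) = Limits.Pi.map a + Limits.Pi.map b := by
  apply Pi.hom_ext
  intro i
  rw [Pi.map_π, Preadditive.add_comp, Pi.map_π, Pi.map_π, Preadditive.comp_add]

instance : (Č K).PreservesZeroMorphisms where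
  map_zero P Q := by
    ext n : 1
    exact (Č_map_f K (0 : P ⟶ Q) n).trans
      (pi_map_zero (fun i : In K n => P.obj (op (Un K n i))) (fun i : In K n => Q.obj (op (Un K n i))))

instance : (Č K).Additive where
  map_add {P Q f g} := by
    ext n : 1
    exact (Č_map_f K (f + g) n).trans
      (pi_map_add (fun i : In K n => f.app (op (Un K n i))) (fun i : In K n => g.app (op (Un K n i))))

theorem exact_map_Č (S : ShortComplex (Cᵒᵖ ⥤ AddCommGrpCat.{u})) (hS : S.Exact) :
    (S.map (Č K)).Exact := by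
  apply HomologicalComplex.exact_of_degreewise_exact
  intro n
  have h : ∀ i : In K n, (S.map ((evaluation Cᵒᵖ AddCommGrpCat.{u}).obj (op (Un K n i)))).Exact :=
    fun i => hS.map _
  rw [ShortComplex.ab_exact_iff]
  intro y hy
  have hy' : ∀ i : In K n, (S.g.app (op (Un K n i)))
      (Pi.π (fun i : In K n => S.X₂.obj (op (Un K n i))) i y) = 0 := by
    intro i
    have h1 := π_map_apply (fun i : In K n => S.g.app (op (Un K n i))) i y
    have h2 : Limits.Pi.map (fun i : In K n => S.g.app (op (Un K n i))) y = 0 := hy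
    rw [h2, map_zero] at h1
    exact h1.symm
  have h3 : ∀ i : In K n, ∃ x : S.X₁.obj (op (Un K n i)),
      (S.f.app (op (Un K n i))) x = Pi.π (fun i : In K n => S.X₂.obj (op (Un K n i))) i y := by
    intro i
    have := (ShortComplex.ab_exact_iff _).1 (h i)
    exact this (Pi.π (fun i : In K n => S.X₂.obj (op (Un K n i))) i y) (hy' i)
  choose x hx using h3
  obtain ⟨x', hx'⟩ := exists_elt (fun i : In K n => S.X₁.obj (op (Un K n i))) x
  refine ⟨x', ?_⟩
  apply pi_ext (fun i : In K n => S.X₂.obj (op (Un K n i)))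
  intro i
  have h4 := π_map_apply (fun i : In K n => S.f.app (op (Un K n i))) i x'
  rw [hx' i, hx i] at h4
  exact h4

section Post

universe v₁ u₁ v₂ u₂ v₃ u₃

variable {A : Type u₁} [Category.{v₁} A] [Abelian A] {B : Type u₂} [Category.{v₂} B] [Abelian B]
  {D : Type u₃} [Category.{v₃} D] [Abelian D]

/-- postcomposition of a δ-functor with a functor preserving exactness of short complexes -/
def postcompExact (T : DeltaFunctor A B) (Ψ : B ⥤ D) [Ψ.PreservesZeroMorphisms]
    (hΨ : ∀ S : ShortComplex B, S.Exact → (S.map Ψ).Exact) : DeltaFunctor A D where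
  T n := T.T n ⋙ Ψ
  δ S hS n := Ψ.map (T.δ S hS n)
  δ_nat φ hS hS' n := by
    dsimp
    rw [← Ψ.map_comp, ← Ψ.map_comp, T.δ_nat φ hS hS' n]
  w₃ S hS n := by
    dsimp
    rw [← Ψ.map_comp, T.w₃ S hS n, Ψ.map_zero]
  w₁ S hS n := by
    dsimp
    rw [← Ψ.map_comp, T.w₁ S hS n, Ψ.map_zero]
  exact₃ S hS n := hΨ _ (T.exact₃ S hS n)
  exact₁ S hS n := hΨ _ (T.exact₁ S hS n)

end Post

section Sheaf

variable (J : GrothendieckTopology C)

/-- the Čech complex functor on sheaves -/
noncomputable abbrev Φ : Sheaf J AddCommGrpCat.{u} ⥤ CochainComplex AddCommGrpCat.{u} ℕ :=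
  sheafToPresheaf J AddCommGrpCat.{u} ⋙ Č K

instance : (Φ K J).Additive := inferInstance

lemma mono_map_Č {P Q : Cᵒᵖ ⥤ AddCommGrpCat.{u}} (f : P ⟶ Q) [Mono f] : Mono ((Č K).map f) := by
  have h1 : (ShortComplex.mk (0 : P ⟶ P) f zero_comp).Exact :=
    (ShortComplex.exact_iff_mono _ rfl).2 inferInstance
  have h2 := exact_map_Č K _ h1
  exact (ShortComplex.exact_iff_mono _ ((Č K).map_zero _ _)).1 h2

instance : PreservesFiniteLimits (Φ K J) := by
  rw [Functor.preservesFiniteLimits_iff_forall_exact_map_and_mono]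
  intro S hS
  have h1 := (Functor.preservesFiniteLimits_iff_forall_exact_map_and_mono
    (sheafToPresheaf J AddCommGrpCat.{u})).1 inferInstance S hS
  haveI := h1.2
  exact ⟨exact_map_Č K _ h1.1, mono_map_Č K _⟩

/-- the δ-functor `F ↦ Č(K, H^q(F))` -/
noncomputable def TDelta : DeltaFunctor (Sheaf J AddCommGrpCat.{u})
    (CochainComplex AddCommGrpCat.{u} ℕ) :=
  postcompExact (Groth.Agent.Helper1.ExtPre.extPreDelta.{u}
    (Groth.Agent.Helper1.SiteCoh.freeFunctor J)) (Č K) (exact_map_Č K)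

lemma TDelta_effaceable : (TDelta K J).Effaceable :=
  fun I _ n => Functor.map_isZero (Č K)
    (Groth.Agent.Helper1.ExtPre.isZero_extPre_of_injective
      (Groth.Agent.Helper1.SiteCoh.freeFunctor J) I n)

/-- the right derived functors of the Čech complex functor -/
noncomputable def rightDerivedIso (q : ℕ) :
    (Φ K J).rightDerived q ≅ Sheaf.cohomologyPresheafFunctor.{u} J q ⋙ Č K :=
  Groth.Agent.Helper1.DeltaFun.isoOfEffaceable (T := rightDerivedDelta (Φ K J))
    (T' := TDelta K J) (rightDerivedDelta_effaceable _) (TDelta_effaceable K J)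
    ((Φ K J).rightDerivedZeroIsoSelf ≪≫
      Functor.isoWhiskerRight (Groth.Agent.Helper1.SiteCoh.coh0Iso (J := J)).symm (Č K)) q

end Sheaf

end Groth.Agent.Helper9.CechSSC
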