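import Mathlib
import Groth.Prelude.Def_Hyper
import Groth.Agent.Helper9.CechHomC
import Groth.Agent.Helper9.CechSSB
import Groth.Agent.Helper9.CechSSC

/-!
# The Čech complex functor is `Hom(ℤ[F(K)]^#, -)`, naturally; cocycles of degree `0`
-/

set_option autoImplicit false

open CategoryTheory Limits Opposite Functor Simplicial

namespace Groth.Agent.Helper9.CechSSD

open Groth.Agent.Helper9.CoskPshC Groth.Agent.Helper9.CechHomA Groth.Agent.Helper9.CechHomB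
  Groth.Agent.Helper9.CechHomC Groth.Agent.Helper9.CechSSB Groth.Agent.Helper9.CechSSC

universe u

variable {C : Type u} [SmallCategory C] (J : GrothendieckTopology C)
  (K : SimplicialObject (FormalCoproduct.{u} C))

/-- `Hom(ℤ[F(K)]^#, -)` as a functor to complexes -/
noncomputable abbrev Φ' : Sheaf J AddCommGrpCat.{u} ⥤ CochainComplex AddCommGrpCat.{u} ℕ :=
  (preadditiveYoneda ⋙ (Functor.whiskeringLeft _ _ _).obj (Hyper.freeSimplicialSheaf J K).rightOp) ⋙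
    AlgebraicTopology.alternatingCofaceMapComplex AddCommGrpCat.{u}

lemma Φ'_obj (G : Sheaf J AddCommGrpCat.{u}) :
    (Φ' J K).obj G = D (Hyper.freeSimplicialSheaf J K) G := rfl

variable {J}

lemma Φ_hom_naturality {G G' : Sheaf J AddCommGrpCat.{u}} (k : G ⟶ G')
    (X : FormalCoproduct.{u} C) :
    (preadditiveYoneda.map k).app (op ((Θ J).obj X)) ≫ (CechHomB.Φ G' X).hom =
      (CechHomB.Φ G X).hom ≫
        Limits.Pi.map (fun i : X.I => k.hom.app (op (X.obj i))) := by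
  refine Pi.hom_ext _ _ (fun i => ?_)
  ext φ
  have h1 : (((preadditiveYoneda.map k).app (op ((Θ J).obj X)) ≫ (CechHomB.Φ G' X).hom) ≫
      Pi.π (fun i : X.I => G'.obj.obj (op (X.obj i))) i) φ =
      (Pi.π (fun i : X.I => G'.obj.obj (op (X.obj i))) i)
        ((CechHomB.Φ G' X).hom (φ ≫ k)) := rfl
  have h3 : (((CechHomB.Φ G X).hom ≫
      Limits.Pi.map (fun i : X.I => k.hom.app (op (X.obj i)))) ≫
      Pi.π (fun i : X.I => G'.obj.obj (op (X.obj i))) i) φ =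
      k.hom.app (op (X.obj i)) ((Pi.π (fun i : X.I => G.obj.obj (op (X.obj i))) i)
        ((CechHomB.Φ G X).hom φ)) := by
    rw [Category.assoc, Pi.map_π]
    rfl
  refine h1.trans (Eq.trans ?_ h3.symm)
  rw [Φ_π_apply, Φ_π_apply]
  rfl

variable (J)

/-- the Čech complex functor is `Hom(ℤ[F(K)]^#, -)` -/
noncomputable def cxNatIso : Φ' J K ≅ CechSSC.Φ K J :=
  NatIso.ofComponents (fun G => cxIso J K G) (fun {G G'} k => by
    ext n : 1
    exact Φ_hom_naturality k (K.obj (op (SimplexCategory.mk n))))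

section Abs

universe v u'

variable {𝒜 : Type u'} [Category.{v} 𝒜] [Abelian 𝒜] (S : SimplicialObject 𝒜)

/-- `Hom(S_•, -)` as a functor to complexes -/
noncomputable abbrev Ψ' : 𝒜 ⥤ CochainComplex AddCommGrpCat.{v} ℕ :=
  (preadditiveYoneda ⋙ (Functor.whiskeringLeft _ _ _).obj S.rightOp) ⋙
    AlgebraicTopology.alternatingCofaceMapComplex AddCommGrpCat.{v}

/-- the degree zero component of a morphism from `ℤ[0]`, as a morphism `S₀ ⟶ G` -/
noncomputable def g₀ (G : 𝒜) (φ : X₀.{v} ⟶ (Ψ' S).obj G) : (A S).X 0 ⟶ G := (φ.f 0) one₀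

lemma d_g₀ (G : 𝒜) (φ : X₀.{v} ⟶ (Ψ' S).obj G) : (A S).d 1 0 ≫ g₀ S G φ = 0 := by
  have h := ConcreteCategory.congr_hom (comp_d _ φ) one₀
  have h2 := D_d_apply S G 0 (g₀ S G φ)
  exact h2.symm.trans h

/-- the morphism from `ℤ[0]` attached to a morphism out of the `0`-th opcycles -/
noncomputable def f₀ (G : 𝒜) (ψ : (A S).opcycles 0 ⟶ G) : A₀.{v} ⟶ ((Ψ' S).obj G).X 0 :=
  (AddCommGrpCat.uliftZMultiplesAddEquiv (((Ψ' S).obj G).X 0)).symm ((A S).pOpcycles 0 ≫ ψ)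

lemma f₀_one (G : 𝒜) (ψ : (A S).opcycles 0 ⟶ G) :
    (f₀ S G ψ) one₀ = (A S).pOpcycles 0 ≫ ψ :=
  (ev_eq (f₀ S G ψ)).symm.trans
    ((AddCommGrpCat.uliftZMultiplesAddEquiv (((Ψ' S).obj G).X 0)).apply_symm_apply _)

lemma f₀_d (G : 𝒜) (ψ : (A S).opcycles 0 ⟶ G) :
    f₀ S G ψ ≫ ((Ψ' S).obj G).d 0 1 = 0 := by
  apply hom_ext_A₀
  change ((Ψ' S).obj G).d 0 1 ((f₀ S G ψ) one₀) = 0
  rw [f₀_one]
  refine (D_d_apply S G 0 ((A S).pOpcycles 0 ≫ ψ)).trans ?_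
  rw [HomologicalComplex.d_pOpcycles_assoc, zero_comp]
  rfl

/-- `Hom(ℤ[0], Hom(S_•, G)) ≃ Hom(coker(S₁ → S₀), G)` -/
noncomputable def θ' (G : 𝒜) : (X₀.{v} ⟶ (Ψ' S).obj G) ≃+ ((A S).opcycles 0 ⟶ G) where
  toFun φ := (A S).descOpcycles (g₀ S G φ) 1 (by simp) (d_g₀ S G φ)
  invFun ψ := (CochainComplex.fromSingle₀Equiv ((Ψ' S).obj G) A₀).symm ⟨f₀ S G ψ, f₀_d S G ψ⟩
  left_inv φ := by
    apply (CochainComplex.fromSingle₀Equiv ((Ψ' S).obj G) A₀).injective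
    rw [Equiv.apply_symm_apply]
    apply Subtype.ext
    apply hom_ext_A₀
    rw [f₀_one, HomologicalComplex.p_descOpcycles]
    rfl
  right_inv ψ := by
    rw [← cancel_epi ((A S).pOpcycles 0), HomologicalComplex.p_descOpcycles]
    have h : ((CochainComplex.fromSingle₀Equiv ((Ψ' S).obj G) A₀).symm
        ⟨f₀ S G ψ, f₀_d S G ψ⟩).f 0 = f₀ S G ψ :=
      CochainComplex.fromSingle₀Equiv_symm_apply_f_zero _ _
    exact (ConcreteCategory.congr_hom h one₀).trans (f₀_one S G ψ)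
  map_add' φ φ' := by
    rw [← cancel_epi ((A S).pOpcycles 0), HomologicalComplex.p_descOpcycles,
      Preadditive.comp_add, HomologicalComplex.p_descOpcycles,
      HomologicalComplex.p_descOpcycles]
    rfl

lemma p_θ' (G : 𝒜) (φ : X₀.{v} ⟶ (Ψ' S).obj G) :
    (A S).pOpcycles 0 ≫ θ' S G φ = g₀ S G φ :=
  (A S).p_descOpcycles (g₀ S G φ) 1 (by simp) (d_g₀ S G φ)

lemma hθ' {G G' : 𝒜} (k : G ⟶ G') (φ : X₀.{v} ⟶ (Ψ' S).obj G) :
    θ' S G' (φ ≫ (Ψ' S).map k) = θ' S G φ ≫ k := by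
  rw [← cancel_epi ((A S).pOpcycles 0), p_θ', ← Category.assoc, p_θ']
  rfl

end Abs

end Groth.Agent.Helper9.CechSSD
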