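import Mathlib
import Groth.Prelude.Def_Hyper
import Groth.Prelude.Def_SpSeq
import Groth.Agent.Helper9.CechSSD
import Groth.Agent.Helper9.HypF
import Groth.Agent.Helper9.SpGroth2
import Groth.Agent.Helper9.SpFinal
import Groth.Agent.Helper9.SpCoh
import Groth.Agent.Helper9.SpD
import Groth.Agent.Helper9.SpHyper

/-!
# The spectral sequence of a hypercovering `Ȟ^p(K, H^q(F)) ⇒ H^{p+q}(F)`
-/

set_option autoImplicit false
set_option linter.style.haveILetI false

open CategoryTheory Limits Opposite Functor Simplicial Abelian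

namespace Groth.Agent.Helper9.CechSSE

open Groth.Agent.Helper9.CoskPshC Groth.Agent.Helper9.CechHomA Groth.Agent.Helper9.CechHomB
  Groth.Agent.Helper9.CechHomC Groth.Agent.Helper9.CechSSB Groth.Agent.Helper9.CechSSC
  Groth.Agent.Helper9.CechSSD Groth.Agent.Helper9.HypD

universe u

variable {C : Type u} [SmallCategory C] (J : GrothendieckTopology C)
  (K : SimplicialObject (FormalCoproduct.{u} C))

/-- the constant sheaf `ℤ` -/
noncomputable abbrev ZJ : Sheaf J AddCommGrpCat.{u} :=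
  (constantSheaf J AddCommGrpCat.{u}).obj (AddCommGrpCat.of (ULift.{u} ℤ))

variable (ε : (A (Hyper.freeSimplicialSheaf J K)).opcycles 0 ≅ ZJ J)

/-- `Hom(ℤ[0], Č(K, G)) ≃ Hom(ℤ, G)` -/
noncomputable def θ (G : Sheaf J AddCommGrpCat.{u}) :
    (X₀.{u} ⟶ (CechSSC.Φ K J).obj G) ≃+ (ZJ J ⟶ G) :=
  (SpD.postcompAddEquiv X₀.{u} ((cxNatIso J K).app G).symm).trans
    ((θ' (Hyper.freeSimplicialSheaf J K) G).trans (SpHyper.precompAddEquiv ε.symm G))

lemma θ_eq (G : Sheaf J AddCommGrpCat.{u}) (φ : X₀.{u} ⟶ (CechSSC.Φ K J).obj G) :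
    θ J K ε G φ = ε.inv ≫ θ' (Hyper.freeSimplicialSheaf J K) G
      (φ ≫ (cxNatIso J K).inv.app G) := rfl

lemma hθ {G G' : Sheaf J AddCommGrpCat.{u}} (k : G ⟶ G') (φ : X₀.{u} ⟶ (CechSSC.Φ K J).obj G) :
    θ J K ε G' (φ ≫ (CechSSC.Φ K J).map k) = θ J K ε G φ ≫ k := by
  have h : (φ ≫ (CechSSC.Φ K J).map k) ≫ (cxNatIso J K).inv.app G' =
      (φ ≫ (cxNatIso J K).inv.app G) ≫ (Φ' J K).map k := by
    rw [Category.assoc, Category.assoc, (cxNatIso J K).inv.naturality k]
  have h2 := hθ' (Hyper.freeSimplicialSheaf J K) k (φ ≫ (cxNatIso J K).inv.app G)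
  refine (θ_eq J K ε G' _).trans ?_
  refine (congrArg (fun t => ε.inv ≫ θ' (Hyper.freeSimplicialSheaf J K) G' t) h).trans ?_
  refine (congrArg (fun t => ε.inv ≫ t) h2).trans ?_
  refine (Category.assoc _ _ _).symm.trans ?_
  exact congrArg (fun t => t ≫ k) (θ_eq J K ε G φ).symm

/-- **The spectral sequence of a hypercovering** (existence form). -/
theorem main
    [∀ (n : ℕ) (F : (SimplexCategory.Truncated n)ᵒᵖ ⥤ FormalCoproduct.{u} C),
      (SimplexCategory.Truncated.inclusion n).op.HasRightKanExtension F]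
    (hK : Hyper.IsHypercoveringSite J K) (M : Sheaf J AddCommGrpCat.{u}) :
    ∃ (E : E₂CohomologicalSpectralSequence AddCommGrpCat.{u})
      (a : SpSeq.Abutment E (fun n : ℤ =>
        if 0 ≤ n then AddCommGrpCat.of (Sheaf.H M n.toNat) else AddCommGrpCat.of PUnit.{u + 1})),
      (∀ n, a.IsFinite n) ∧ SpSeq.IsBounded E ∧
      ∀ p q : ℤ, Nonempty ((E.page 2 le_rfl).X (p, q) ≅
        (if 0 ≤ p ∧ 0 ≤ q then
          (Hyper.cechCxSite K (Sheaf.cohomologyPresheaf M q.toNat)).homology p.toNat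
         else AddCommGrpCat.of PUnit.{u + 1})) := by
  obtain ⟨-, ⟨e⟩⟩ := HypF.main J K hK
  have ε : (A (Hyper.freeSimplicialSheaf J K)).opcycles 0 ≅ ZJ J :=
    ((A (Hyper.freeSimplicialSheaf J K)).isoHomologyι 0 0 (by simp)
      ((A (Hyper.freeSimplicialSheaf J K)).shape 0 0 (by simp))).symm ≪≫ e ≪≫
      HypF.sheafTerminalIso' J
  let I : InjectiveResolution M := Classical.choice (HasInjectiveResolution.out)
  have hacyc : ∀ n : ℤ, SpAcyc.Acyc X₀.{u} ((CechSSC.Φ K J).obj (I.cochainComplex.X n)) := by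
    intro n q
    haveI : Injective (I.cochainComplex.X n) := inferInstance
    obtain ⟨e3⟩ := nonempty_extIso ((CechSSC.Φ K J).obj (I.cochainComplex.X n)) (q + 1)
    have hz : IsZero (((CechSSC.Φ K J).obj (I.cochainComplex.X n)).homology (q + 1)) :=
      CechHomC.isZero_homology_succ J K _ hK q
    exact AddCommGrpCat.subsingleton_of_isZero (hz.of_iso e3)
  obtain ⟨E, a, ha, hb, hE, hz⟩ := SpGroth2.exists_spectralSequence (CechSSC.Φ K J) I X₀.{u} hacyc
  refine ⟨E, SpFinal.exists_final E _ a ha hb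
    (fun p' q' => (Hyper.cechCxSite K (Sheaf.cohomologyPresheaf M q')).homology p') ?_ hz
    (fun n' => AddCommGrpCat.of (Sheaf.H M n'))
    (AddCommGrpCat.of PUnit.{u + 1}) (AddCommGrpCat.of PUnit.{u + 1})
    (AddCommGrpCat.isZero_of_subsingleton _) (AddCommGrpCat.isZero_of_subsingleton _)
    (fun n' => ?_) (fun n hn => ?_)⟩
  · intro p' q'
    obtain ⟨e1⟩ := hE p' q'
    obtain ⟨e2⟩ := nonempty_extIso ((Č K).obj (Sheaf.cohomologyPresheaf M q')) p'
    exact ⟨e1 ≪≫ (SpGroth2.extCongr _ ((CechSSC.rightDerivedIso K J q').app M)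
      p').toAddCommGrpIso ≪≫ e2⟩
  · exact ⟨((SpCoh.cohomologyClassEquiv (CechSSC.Φ K J) X₀.{u} (ZJ J) (θ J K ε) (hθ J K ε)
        I.cochainComplex (n' : ℤ)).trans
      (I.extAddEquivCohomologyClass (X := ZJ J) (n := n')).symm).toAddCommGrpIso⟩
  · haveI := SpCoh.subsingleton_of_isZero X₀.{u} (SpGroth2.FI (CechSSC.Φ K J) I) n
      (CochainComplex.isZero_of_isStrictlyGE _ 0 n hn)
    exact AddCommGrpCat.isZero_of_subsingleton _

end Groth.Agent.Helper9.CechSSE
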