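import Mathlib

/-!
# Mathlib's Čech complex `cechComplexFunctor U` in components, for presheaves with values in a
preadditive category with products
-/

set_option autoImplicit false

namespace Groth.Agent.Helper9.CechShA

open CategoryTheory Limits Opposite Simplicial

universe w v u v' u'

variable {D : Type u} [Category.{v} D] [HasFiniteProducts D] {ι : Type w} (U : ι → D)
variable {A : Type u'} [Category.{v'} A] [HasProducts.{w} A] [Preadditive A]

/-- the product `U_{x_0} × ⋯ × U_{x_n}` -/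
noncomputable abbrev prodU {n : ℕ} (x : Fin (n + 1) → ι) : D := ∏ᶜ (U ∘ x)

/-- the projection forgetting the `j`-th factor -/
noncomputable def face {n : ℕ} (j : Fin (n + 2)) (x : Fin (n + 2) → ι) :
    prodU U x ⟶ prodU U (x ∘ j.succAbove) :=
  Pi.lift (fun k => Pi.π (U ∘ x) (j.succAbove k))

variable (P : Dᵒᵖ ⥤ A)

/-- the Čech complex of `P` -/
noncomputable abbrev cx : CochainComplex A ℕ := (cechComplexFunctor U).obj P

/-- the `x`-component of a Čech cochain -/
noncomputable def comp (n : ℕ) (x : Fin (n + 1) → ι) :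
    (cx U P).X n ⟶ P.obj (op (prodU U x)) :=
  Pi.π (fun (x : Fin (n + 1) → ι) => P.obj (op (prodU U x))) x

lemma hom_ext {n : ℕ} {T : A} (f g : T ⟶ (cx U P).X n)
    (h : ∀ x, f ≫ comp U P n x = g ≫ comp U P n x) : f = g :=
  Pi.hom_ext (f := fun (x : Fin (n + 1) → ι) => P.obj (op (prodU U x))) f g h

/-- morphisms into the Čech complex, by components -/
noncomputable def lift {n : ℕ} {T : A} (f : ∀ x : Fin (n + 1) → ι, T ⟶ P.obj (op (prodU U x))) :
    T ⟶ (cx U P).X n :=
  Pi.lift (f := fun (x : Fin (n + 1) → ι) => P.obj (op (prodU U x))) f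

lemma lift_comp {n : ℕ} {T : A} (f : ∀ x : Fin (n + 1) → ι, T ⟶ P.obj (op (prodU U x)))
    (x : Fin (n + 1) → ι) : lift U P f ≫ comp U P n x = f x :=
  Pi.lift_π _ _

lemma δ_comp (n : ℕ) (j : Fin (n + 2)) (x : Fin (n + 2) → ι) :
    (((FormalCoproduct.cosimplicialObjectFunctor (FormalCoproduct.mk _ U).cech).obj P).δ j) ≫
      comp U P (n + 1) x = comp U P n (x ∘ j.succAbove) ≫ P.map (face U j x).op := by
  unfold CosimplicialObject.δ comp
  rw [FormalCoproduct.cosimplicialObjectFunctor_obj_map]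
  erw [Pi.lift_π]
  rfl

lemma d_eq (n : ℕ) : (cx U P).d n (n + 1) =
    ∑ i : Fin (n + 2), (-1 : ℤ) ^ (i : ℕ) •
      (((FormalCoproduct.cosimplicialObjectFunctor (FormalCoproduct.mk _ U).cech).obj P).δ i) := by
  dsimp only [cx, cechComplexFunctor, FormalCoproduct.cochainComplexFunctor,
    AlgebraicTopology.alternatingCofaceMapComplex,
    AlgebraicTopology.AlternatingCofaceMapComplex.obj, Functor.comp_obj]
  rw [CochainComplex.of_d]
  rfl

lemma d_comp (n : ℕ) (x : Fin (n + 2) → ι) :
    (cx U P).d n (n + 1) ≫ comp U P (n + 1) x =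
      ∑ j : Fin (n + 2), (-1 : ℤ) ^ (j : ℕ) •
        (comp U P n (x ∘ j.succAbove) ≫ P.map (face U j x).op) := by
  rw [d_eq]
  erw [Preadditive.sum_comp]
  refine Finset.sum_congr rfl (fun j _ => ?_)
  erw [Preadditive.zsmul_comp, δ_comp]

end Groth.Agent.Helper9.CechShA
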