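import Mathlib
import Groth.Prelude.Def_CechOX
import Groth.Agent.Helper9.CechShA
import Groth.Agent.Helper9.CCovCech
import Groth.Agent.Helper1.TildeExact
import Groth.Agent.Helper1.TwistExact
import Groth.Agent.Helper4.AffineDict
import Groth.Agent.Helper4.StalkExact

/-!
# The Čech complex of sheaves of an `O_X`-module for an open covering is a resolution
-/

set_option autoImplicit false
set_option backward.isDefEq.respectTransparency false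

namespace Groth.Agent.Helper9.CechShB

open CategoryTheory Limits AlgebraicGeometry Opposite TopologicalSpace CechOX
  Groth.Agent.Helper9.CechShA Groth.Agent.Helper9.CCovCech

universe u
variable {X : Scheme.{u}} {ι : Type u} (𝒰 : ι → X.Opens) (F : X.Modules)

/-- the presheaf `W ↦ (j_W)_*(F|_W)` -/
noncomputable abbrev PF : (X.Opens)ᵒᵖ ⥤ X.Modules := pushRestrFam.flip.obj F

lemma cechSh_obj : (cechSh 𝒰).obj F = cx 𝒰 (PF F) := rfl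

/-- the intersections -/
noncomputable abbrev Wx {n : ℕ} (x : Fin (n + 1) → ι) : X.Opens := prodU 𝒰 x

lemma Wx_le {n : ℕ} (x : Fin (n + 1) → ι) (k : Fin (n + 1)) : Wx 𝒰 x ≤ 𝒰 (x k) :=
  (Pi.π (𝒰 ∘ x) k).le

lemma le_Wx {n : ℕ} (x : Fin (n + 1) → ι) (O : X.Opens) (h : ∀ k, O ≤ 𝒰 (x k)) : O ≤ Wx 𝒰 x :=
  (Pi.lift (f := 𝒰 ∘ x) (fun k => homOfLE (h k))).le

/-- `V ∩ U_x`, in Mathlib's form -/
noncomputable abbrev Ix {n : ℕ} (x : Fin (n + 1) → ι) (V : X.Opens) : X.Opens :=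
  (Wx 𝒰 x).ι ''ᵁ ((Wx 𝒰 x).ι ⁻¹ᵁ V)

lemma Ix_eq {n : ℕ} (x : Fin (n + 1) → ι) (V : X.Opens) : Ix 𝒰 x V = Wx 𝒰 x ⊓ V := by
  unfold Ix
  rw [Scheme.Hom.image_preimage_eq_opensRange_inf, Scheme.Opens.opensRange_ι]

lemma le_Ix_iff {n : ℕ} (x : Fin (n + 1) → ι) (V O : X.Opens) :
    O ≤ Ix 𝒰 x V ↔ (∀ k, O ≤ 𝒰 (x k)) ∧ O ≤ V := by
  rw [Ix_eq]
  constructor
  · intro h
    exact ⟨fun k => (h.trans inf_le_left).trans (Wx_le 𝒰 x k), h.trans inf_le_right⟩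
  · rintro ⟨h1, h2⟩
    exact le_inf (le_Wx 𝒰 x O h1) h2

/-- evaluation of morphisms on sections, as an additive map -/
noncomputable def appHom (M N : X.Modules) (V : X.Opens) : (M ⟶ N) →+ (Γ(M, V) →+ Γ(N, V)) where
  toFun φ := (φ.app V).hom
  map_zero' := rfl
  map_add' _ _ := rfl

/-- the sections functor -/
noncomputable abbrev secF (V : X.Opens) : X.Modules ⥤ Ab :=
  Scheme.Modules.toPresheaf X ⋙ (evaluation _ _).obj (op V)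

section Pi

variable {κ : Type u} (M : κ → X.Modules)

/-- components of a section of a product -/
noncomputable def piSec (V : X.Opens) (s : Γ(∏ᶜ M, V)) (k : κ) : Γ(M k, V) := (Pi.π M k).app V s

lemma preservesLimit_secF (V : X.Opens) : PreservesLimit (Discrete.functor M) (secF V) := by
  have h1 : PreservesLimitsOfSize.{u, u} ((evaluation (X.Opens)ᵒᵖ Ab.{u}).obj (op V)) :=
    inferInstance
  haveI : PreservesLimit (Discrete.functor M ⋙ Scheme.Modules.toPresheaf X)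
      ((evaluation (X.Opens)ᵒᵖ Ab.{u}).obj (op V)) :=
    (h1.preservesLimitsOfShape (J := Discrete κ)).preservesLimit
  exact comp_preservesLimit _ _

lemma piSec_bijective (V : X.Opens) : Function.Bijective (piSec M V) := by
  haveI := preservesLimit_secF M V
  let e : (secF V).obj (∏ᶜ M) ≅ ∏ᶜ (fun k => (secF V).obj (M k)) := PreservesProduct.iso (secF V) M
  have he : Function.Bijective e.hom := ConcreteCategory.bijective_of_isIso e.hom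
  have h2 := (Concrete.productEquiv (fun k => (secF V).obj (M k))).bijective
  have : piSec M V = (Concrete.productEquiv (fun k => (secF V).obj (M k))) ∘ e.hom := by
    funext s k
    show _ = (Concrete.productEquiv (fun k => (secF V).obj (M k))) (e.hom s) k
    rw [Concrete.productEquiv_apply_apply, ← ConcreteCategory.comp_apply]
    have : e.hom ≫ Pi.π (fun k => (secF V).obj (M k)) k = (secF V).map (Pi.π M k) :=
      piComparison_comp_π (secF V) M k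
    rw [this]
    rfl
  rw [this]
  exact h2.comp he

end Pi

/-- the components of a section of the Čech complex -/
noncomputable def cmp (n : ℕ) (x : Fin (n + 1) → ι) (V : X.Opens)
    (s : Γ((cx 𝒰 (PF F)).X n, V)) : Γ(F, Ix 𝒰 x V) :=
  (comp 𝒰 (PF F) n x).app V s

lemma cmp_ext {n : ℕ} {V : X.Opens} {s t : Γ((cx 𝒰 (PF F)).X n, V)}
    (h : ∀ x, cmp 𝒰 F n x V s = cmp 𝒰 F n x V t) : s = t :=
  (piSec_bijective (fun x : Fin (n + 1) → ι => (PF F).obj (op (prodU 𝒰 x))) V).1 (funext h)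

lemma exists_cmp (n : ℕ) (V : X.Opens) (t : ∀ x : Fin (n + 1) → ι, Γ(F, Ix 𝒰 x V)) :
    ∃ s : Γ((cx 𝒰 (PF F)).X n, V), ∀ x, cmp 𝒰 F n x V s = t x := by
  obtain ⟨s, hs⟩ := (piSec_bijective (fun x : Fin (n + 1) → ι => (PF F).obj (op (prodU 𝒰 x))) V).2 t
  exact ⟨s, fun x => congrFun hs x⟩

lemma Ix_mono {n : ℕ} (x : Fin (n + 1) → ι) {V V' : X.Opens} (h : V' ≤ V) :
    Ix 𝒰 x V' ≤ Ix 𝒰 x V := by
  rw [Ix_eq, Ix_eq]
  exact inf_le_inf_left _ h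

lemma cmp_res {n : ℕ} (x : Fin (n + 1) → ι) {V V' : X.Opens} (h : V' ≤ V)
    (s : Γ((cx 𝒰 (PF F)).X n, V)) :
    cmp 𝒰 F n x V' (((cx 𝒰 (PF F)).X n).presheaf.map (homOfLE h).op s) =
      F.presheaf.map (homOfLE (Ix_mono 𝒰 x h)).op (cmp 𝒰 F n x V s) :=
  Groth.Agent.Helper4.StalkExact.app_res (comp 𝒰 (PF F) n x) (homOfLE h) s

lemma Ix_face {n : ℕ} (y : Fin (n + 2) → ι) (k : Fin (n + 2)) (V : X.Opens) :
    Ix 𝒰 y V ≤ Ix 𝒰 (y ∘ k.succAbove) V :=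
  image_preimage_mono (leOfHom (face 𝒰 k y)) V

/-- the differential in components -/
lemma cmp_d (n : ℕ) (y : Fin (n + 2) → ι) (V : X.Opens) (s : Γ((cx 𝒰 (PF F)).X n, V)) :
    cmp 𝒰 F (n + 1) y V (((cx 𝒰 (PF F)).d n (n + 1)).app V s) =
      ∑ k : Fin (n + 2), (-1 : ℤ) ^ (k : ℕ) •
        F.presheaf.map (homOfLE (Ix_face 𝒰 y k V)).op (cmp 𝒰 F n (y ∘ k.succAbove) V s) := by
  have h1 : cmp 𝒰 F (n + 1) y V (((cx 𝒰 (PF F)).d n (n + 1)).app V s) =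
      appHom _ _ V ((cx 𝒰 (PF F)).d n (n + 1) ≫ comp 𝒰 (PF F) (n + 1) y) s := rfl
  rw [h1, d_comp, map_sum, AddMonoidHom.finset_sum_apply]
  refine Finset.sum_congr rfl (fun k _ => ?_)
  rw [map_zsmul, AddMonoidHom.smul_apply]
  rfl

section Local

variable {𝒰 F}

lemma map_map (G : X.Modules) {O O' O'' : X.Opens} (h : O' ≤ O) (h' : O'' ≤ O') (s : Γ(G, O)) :
    G.presheaf.map (homOfLE h').op (G.presheaf.map (homOfLE h).op s) =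
      G.presheaf.map (homOfLE (h'.trans h)).op s := by
  rw [← ConcreteCategory.comp_apply, ← Functor.map_comp]
  rfl

open Classical in
/-- the components, restricted to a fixed open `O` -/
noncomputable def aOf {m : ℕ} {V : X.Opens} (s : Γ((cx 𝒰 (PF F)).X m, V)) (O : X.Opens)
    (x : Fin (m + 1) → ι) : Γ(F, O) :=
  if h : O ≤ Ix 𝒰 x V then F.presheaf.map (homOfLE h).op (cmp 𝒰 F m x V s) else 0

lemma aOf_pos {m : ℕ} {V : X.Opens} (s : Γ((cx 𝒰 (PF F)).X m, V)) (O : X.Opens)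
    (x : Fin (m + 1) → ι) (h : O ≤ Ix 𝒰 x V) :
    aOf s O x = F.presheaf.map (homOfLE h).op (cmp 𝒰 F m x V s) := dif_pos h

lemma aOf_neg {m : ℕ} {V : X.Opens} (s : Γ((cx 𝒰 (PF F)).X m, V)) (O : X.Opens)
    (x : Fin (m + 1) → ι) (h : ¬ O ≤ Ix 𝒰 x V) : aOf s O x = 0 := dif_neg h

lemma map_cmp_d {m : ℕ} {V : X.Opens} (s : Γ((cx 𝒰 (PF F)).X m, V)) (O : X.Opens)
    (y : Fin (m + 2) → ι) (h : O ≤ Ix 𝒰 y V) :
    F.presheaf.map (homOfLE h).op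
      (cmp 𝒰 F (m + 1) y V (((cx 𝒰 (PF F)).d m (m + 1)).app V s)) = bd (aOf s O) y := by
  rw [cmp_d, map_sum]
  unfold bd
  refine Finset.sum_congr rfl (fun k _ => ?_)
  rw [map_zsmul, aOf_pos s O _ (h.trans (Ix_face 𝒰 y k V)), map_map]

lemma le_Ix_cons_iff {n : ℕ} (i₀ : ι) (τ : Fin (n + 1) → ι) (V O : X.Opens) :
    O ≤ Ix 𝒰 (Fin.cons i₀ τ : Fin (n + 2) → ι) V ↔ O ≤ Ix 𝒰 τ (V ⊓ 𝒰 i₀) := by
  rw [le_Ix_iff, le_Ix_iff, Fin.forall_fin_succ]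
  simp only [Fin.cons_zero, Fin.cons_succ, le_inf_iff]
  tauto

variable (h𝒰 : ⨆ i, 𝒰 i = ⊤)

include h𝒰 in
lemma exists_mem (pt : X) : ∃ i, pt ∈ 𝒰 i := by
  have : pt ∈ (⨆ i, 𝒰 i : X.Opens) := h𝒰 ▸ (show pt ∈ (⊤ : X.Opens) from trivial)
  exact Opens.mem_iSup.1 this

include h𝒰 in
lemma local_exact_succ (n : ℕ) (V : X.Opens) (s : Γ((cx 𝒰 (PF F)).X (n + 1), V))
    (hs : ((cx 𝒰 (PF F)).d (n + 1) (n + 2)).app V s = 0) (pt : X) (hpt : pt ∈ V) :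
    ∃ (N : X.Opens) (hN : N ≤ V), pt ∈ N ∧ ∃ t : Γ((cx 𝒰 (PF F)).X n, N),
      ((cx 𝒰 (PF F)).d n (n + 1)).app N t =
        ((cx 𝒰 (PF F)).X (n + 1)).presheaf.map (homOfLE hN).op s := by
  obtain ⟨i₀, hi₀⟩ := exists_mem h𝒰 pt
  have hN : V ⊓ 𝒰 i₀ ≤ V := inf_le_left
  have hτ : ∀ τ : Fin (n + 1) → ι, Ix 𝒰 τ (V ⊓ 𝒰 i₀) ≤ Ix 𝒰 (Fin.cons i₀ τ : Fin (n + 2) → ι) V :=
    fun τ => (le_Ix_cons_iff i₀ τ V _).2 le_rfl
  obtain ⟨t, ht⟩ := exists_cmp 𝒰 F n (V ⊓ 𝒰 i₀)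
    (fun τ => F.presheaf.map (homOfLE (hτ τ)).op (cmp 𝒰 F (n + 1) (Fin.cons i₀ τ) V s))
  refine ⟨V ⊓ 𝒰 i₀, hN, ⟨hpt, hi₀⟩, t, ?_⟩
  apply cmp_ext
  intro σ
  rw [cmp_res]
  -- everything restricted to `O`
  have hO : Ix 𝒰 σ (V ⊓ 𝒰 i₀) ≤ Ix 𝒰 σ V := Ix_mono 𝒰 σ hN
  have hOc : Ix 𝒰 σ (V ⊓ 𝒰 i₀) ≤ Ix 𝒰 (Fin.cons i₀ σ : Fin (n + 3) → ι) V :=
    (le_Ix_cons_iff i₀ σ V _).2 le_rfl
  have h1 : cmp 𝒰 F (n + 1) σ (V ⊓ 𝒰 i₀) (((cx 𝒰 (PF F)).d n (n + 1)).app (V ⊓ 𝒰 i₀) t) =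
      bd (aOf t (Ix 𝒰 σ (V ⊓ 𝒰 i₀))) σ := by
    rw [← map_cmp_d t (Ix 𝒰 σ (V ⊓ 𝒰 i₀)) σ le_rfl]
    have : (homOfLE (le_refl (Ix 𝒰 σ (V ⊓ 𝒰 i₀)))).op = 𝟙 _ := rfl
    rw [this, F.presheaf.map_id]
    rfl
  have h2 : aOf t (Ix 𝒰 σ (V ⊓ 𝒰 i₀)) =
      fun τ' : Fin (n + 1) → ι => aOf s (Ix 𝒰 σ (V ⊓ 𝒰 i₀)) (Fin.cons i₀ τ' : Fin (n + 2) → ι) := by
    funext τ'
    by_cases h : Ix 𝒰 σ (V ⊓ 𝒰 i₀) ≤ Ix 𝒰 τ' (V ⊓ 𝒰 i₀)
    · rw [aOf_pos t _ τ' h, aOf_pos s _ _ ((le_Ix_cons_iff i₀ τ' V _).2 h), ht, map_map]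
    · rw [aOf_neg t _ τ' h, aOf_neg s _ _ (fun h' => h ((le_Ix_cons_iff i₀ τ' V _).1 h'))]
  have h3 := map_cmp_d s (Ix 𝒰 σ (V ⊓ 𝒰 i₀)) (Fin.cons i₀ σ) hOc
  rw [hs, bd_cons] at h3
  have h4 : cmp 𝒰 F (n + 1 + 1) (Fin.cons i₀ σ) V (0 : Γ((cx 𝒰 (PF F)).X (n + 1 + 1), V)) = 0 :=
    map_zero _
  rw [h4, map_zero] at h3
  rw [h1, h2, ← sub_eq_zero.1 h3.symm, aOf_pos s _ σ hO]

end Local

end Groth.Agent.Helper9.CechShB
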