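import Mathlib
import Groth.Prelude.Def_CechOX
import Groth.Agent.Helper9.CechShB

/-!
# The Čech complex of sheaves of an `O_X`-module for an open covering is a resolution, part 2
-/

set_option autoImplicit false
set_option backward.isDefEq.respectTransparency false

namespace Groth.Agent.Helper9.CechShC

open CategoryTheory Limits AlgebraicGeometry Opposite TopologicalSpace CechOX
  Groth.Agent.Helper9.CechShA Groth.Agent.Helper9.CCovCech Groth.Agent.Helper9.CechShB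

universe u
variable {X : Scheme.{u}} {ι : Type u} (𝒰 : ι → X.Opens) (F : X.Modules)

/-- the coaugmentation, as a map into `cx` -/
noncomputable abbrev aug : F ⟶ (cx 𝒰 (PF F)).X 0 := cechShAug 𝒰 F

lemma aug_comp (x : Fin 1 → ι) : aug 𝒰 F ≫ comp 𝒰 (PF F) 0 x =
    (Scheme.Modules.restrictAdjunction (prodU 𝒰 x).ι).unit.app F :=
  Pi.lift_π _ _

lemma Ix_le {n : ℕ} (x : Fin (n + 1) → ι) (V : X.Opens) : Ix 𝒰 x V ≤ V :=
  (Wx 𝒰 x).ι.image_preimage_le V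

lemma cmp_aug (x : Fin 1 → ι) (V : X.Opens) (t : Γ(F, V)) :
    cmp 𝒰 F 0 x V ((aug 𝒰 F).app V t) = F.presheaf.map (homOfLE (Ix_le 𝒰 x V)).op t := by
  have h : cmp 𝒰 F 0 x V ((aug 𝒰 F).app V t) = (aug 𝒰 F ≫ comp 𝒰 (PF F) 0 x).app V t := rfl
  rw [h, aug_comp]
  rfl

lemma aug_d_app (V : X.Opens) (t : Γ(F, V)) :
    ((cx 𝒰 (PF F)).d 0 1).app V ((aug 𝒰 F).app V t) = 0 := by
  apply cmp_ext
  intro y
  rw [cmp_d, Fin.sum_univ_two, cmp_aug, cmp_aug, map_map, map_map]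
  have h0 : cmp 𝒰 F (0 + 1) y V (0 : Γ((cx 𝒰 (PF F)).X (0 + 1), V)) = 0 := map_zero _
  rw [h0]
  simp

lemma aug_d : aug 𝒰 F ≫ (cx 𝒰 (PF F)).d 0 1 = 0 := by
  apply Scheme.Modules.hom_ext
  intro V
  ext t
  exact aug_d_app 𝒰 F V t

lemma eq_of_cover (G : X.Modules) {κ : Type u} (V : X.Opens) (W : κ → X.Opens)
    (hW : ∀ k, W k ≤ V) (hcov : V ≤ ⨆ k, W k) (s t : Γ(G, V))
    (h : ∀ k, G.presheaf.map (homOfLE (hW k)).op s = G.presheaf.map (homOfLE (hW k)).op t) :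
    s = t :=
  TopCat.Sheaf.eq_of_locally_eq' ⟨G.presheaf, G.isSheaf⟩ W V (fun k => homOfLE (hW k)) hcov s t h

lemma mono_of_injective {M N : X.Modules} (φ : M ⟶ N)
    (h : ∀ V : X.Opens, Function.Injective (φ.app V)) : Mono φ := by
  suffices Mono ((Scheme.Modules.toPresheaf X).map φ) from
    (Scheme.Modules.toPresheaf X).mono_of_mono_map this
  haveI : ∀ V, Mono (((Scheme.Modules.toPresheaf X).map φ).app V) := fun V =>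
    (AddCommGrpCat.mono_iff_injective _).2 (h V.unop)
  exact NatTrans.mono_of_mono_app _

variable {𝒰 F}
variable (h𝒰 : ⨆ i, 𝒰 i = ⊤)

include h𝒰 in
lemma aug_injective (V : X.Opens) : Function.Injective ((aug 𝒰 F).app V) := by
  intro s t hst
  apply eq_of_cover F V (fun i : ι => Ix 𝒰 (fun _ : Fin 1 => i) V) (fun i => Ix_le 𝒰 _ V) ?_ s t
  · intro i
    rw [← cmp_aug, ← cmp_aug, hst]
  · intro pt hpt
    obtain ⟨i, hi⟩ := exists_mem h𝒰 pt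
    have h1 : V ⊓ 𝒰 i ≤ Ix 𝒰 (fun _ : Fin 1 => i) V :=
      (le_Ix_iff 𝒰 _ V _).2 ⟨fun _ => inf_le_right, inf_le_left⟩
    exact Opens.mem_iSup.2 ⟨i, h1 ⟨hpt, hi⟩⟩

include h𝒰 in
lemma mono_aug : Mono (aug 𝒰 F) := mono_of_injective _ (aug_injective h𝒰)

include h𝒰 in
lemma local_exact_zero (V : X.Opens) (s : Γ((cx 𝒰 (PF F)).X 0, V))
    (hs : ((cx 𝒰 (PF F)).d 0 1).app V s = 0) (pt : X) (hpt : pt ∈ V) :
    ∃ (N : X.Opens) (hN : N ≤ V), pt ∈ N ∧ ∃ t : Γ(F, N),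
      (aug 𝒰 F).app N t = ((cx 𝒰 (PF F)).X 0).presheaf.map (homOfLE hN).op s := by
  obtain ⟨i₀, hi₀⟩ := exists_mem h𝒰 pt
  have hN : V ⊓ 𝒰 i₀ ≤ V := inf_le_left
  have hN' : V ⊓ 𝒰 i₀ ≤ Ix 𝒰 (fun _ : Fin 1 => i₀) V :=
    (le_Ix_iff 𝒰 _ V _).2 ⟨fun _ => inf_le_right, inf_le_left⟩
  refine ⟨V ⊓ 𝒰 i₀, hN, ⟨hpt, hi₀⟩,
    F.presheaf.map (homOfLE hN').op (cmp 𝒰 F 0 (fun _ => i₀) V s), ?_⟩
  apply cmp_ext
  intro σ
  rw [cmp_aug, cmp_res, map_map]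
  have hO : Ix 𝒰 σ (V ⊓ 𝒰 i₀) ≤ Ix 𝒰 σ V := Ix_mono 𝒰 σ hN
  have hOc : Ix 𝒰 σ (V ⊓ 𝒰 i₀) ≤ Ix 𝒰 (Fin.cons i₀ σ : Fin 2 → ι) V :=
    (le_Ix_cons_iff i₀ σ V _).2 le_rfl
  have h3 := map_cmp_d s (Ix 𝒰 σ (V ⊓ 𝒰 i₀)) (Fin.cons i₀ σ) hOc
  rw [hs, bd_cons_zero] at h3
  have h4 : cmp 𝒰 F (0 + 1) (Fin.cons i₀ σ) V (0 : Γ((cx 𝒰 (PF F)).X (0 + 1), V)) = 0 :=
    map_zero _
  rw [h4, map_zero, aOf_pos s _ σ hO,
    aOf_pos s _ (fun _ => i₀) ((Ix_le 𝒰 σ _).trans hN')] at h3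
  exact (sub_eq_zero.1 h3.symm).symm

include h𝒰 in
lemma exact_aug : (ShortComplex.mk (aug 𝒰 F) ((cx 𝒰 (PF F)).d 0 1) (aug_d 𝒰 F)).Exact := by
  apply Groth.Agent.Helper1.TildeExact.exact_of_local_lift
  intro T t ht x hx
  exact local_exact_zero h𝒰 T t ht x hx

include h𝒰 in
lemma exactAt_succ (n : ℕ) : (cx 𝒰 (PF F)).ExactAt (n + 1) := by
  rw [HomologicalComplex.exactAt_iff' _ n (n + 1) (n + 1 + 1) (by simp) (by simp)]
  apply Groth.Agent.Helper1.TildeExact.exact_of_local_lift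
  intro T t ht x hx
  exact local_exact_succ h𝒰 n T t ht x hx

include h𝒰 in
theorem main :
    Mono (cechShAug 𝒰 F) ∧
    cechShAug 𝒰 F ≫ ((cechSh 𝒰).obj F).d 0 1 = 0 ∧
    (∀ (G : X.Modules) (g : G ⟶ ((cechSh 𝒰).obj F).X 0), g ≫ ((cechSh 𝒰).obj F).d 0 1 = 0 →
      ∃! g' : G ⟶ F, g' ≫ cechShAug 𝒰 F = g) ∧
    ∀ p : ℕ, IsZero (((cechSh 𝒰).obj F).homology (p + 1)) := by
  haveI := mono_aug (F := F) h𝒰
  refine ⟨mono_aug h𝒰, aug_d 𝒰 F, ?_, ?_⟩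
  · intro G g hg
    refine ⟨(exact_aug (F := F) h𝒰).lift g hg, (exact_aug (F := F) h𝒰).lift_f g hg, ?_⟩
    intro g' hg'
    rw [← cancel_mono (aug 𝒰 F)]
    exact hg'.trans ((exact_aug (F := F) h𝒰).lift_f g hg).symm
  · intro p
    exact (exactAt_succ (F := F) h𝒰 p).isZero_homology

end Groth.Agent.Helper9.CechShC
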