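import Mathlib
import Groth.Prelude.Def_CechEdge
import Groth.Agent.Helper9.CechEdgeB
import Groth.Agent.Helper9.CechH1Surj

/-! `Ȟ⁰` of a family is represented by the free presheaf on the generated sieve; Čech cohomology of
presheaves as Ext groups out of that presheaf. -/

set_option autoImplicit false
set_option backward.isDefEq.respectTransparency false
universe u

open CategoryTheory CategoryTheory.Limits Opposite

namespace Groth.Agent.Helper9.CechSieve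

open Groth.Agent.Helper1.Cech Groth.Agent.Helper9.CechEdgeA Groth.Agent.Helper9.CechEdgeB
  Groth.Agent.Helper1 Groth.Agent.Helper1.DeltaFun Groth.Agent.Helper9.CechH1Surj

variable {C : Type u} [SmallCategory C] [HasPullbacks C] {X : C} {ι : Type u} (Y : ι → Over X)

/-- the sieve generated by the family -/
abbrev R : Sieve X := Sieve.ofArrows (fun i => (Y i).left) (fun i => (Y i).hom)

/-- the free abelian presheaf on the sieve -/
noncomputable abbrev ZR : Cᵒᵖ ⥤ AddCommGrpCat.{u} := (R Y).functor ⋙ AddCommGrpCat.free.{u}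

/-- a generator of `ZR` -/
noncomputable def gOf {V : C} (h : V ⟶ X) (hh : (R Y) h) : (ZR Y).obj (op V) :=
  FreeAbelianGroup.of (⟨h, hh⟩ : {f : V ⟶ X // (R Y) f})

lemma map_gOf {V V' : C} (a : V' ⟶ V) (h : V ⟶ X) (hh : (R Y) h) :
    (ZR Y).map a.op (gOf Y h hh) = gOf Y (a ≫ h) ((R Y).downward_closed hh a) := by
  show (AddCommGrpCat.free.map ((R Y).functor.map a.op)) (FreeAbelianGroup.of _) = _
  rw [AddCommGrpCat.free_map_coe]
  exact FreeAbelianGroup.map_of_apply _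

/-- the canonical generators -/
noncomputable def gen (i : ι) : (ZR Y).obj (op (Y i).left) :=
  gOf Y (Y i).hom (Sieve.ofArrows_mk _ _ i)

lemma gen_compatible :
    Presieve.Arrows.Compatible (ZR Y ⋙ forget AddCommGrpCat.{u}) (fun i => (Y i).hom) (gen Y) := by
  intro i j Z gi gj hg
  show (ZR Y).map gi.op (gen Y i) = (ZR Y).map gj.op (gen Y j)
  unfold gen
  rw [map_gOf, map_gOf]
  congr 1

/-- the generating cochain -/
noncomputable def c₀ : (cx Y (Q (ZR Y))).X 0 := cochainOf Y (ZR Y) (gen Y)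

lemma d_c₀ : (cx Y (Q (ZR Y))).d 0 1 (c₀ Y) = 0 :=
  d_cochainOf_eq_zero Y (ZR Y) (gen Y) (gen_compatible Y)

lemma mapC_add {P P' : Cᵒᵖ ⥤ AddCommGrpCat.{u}} (φ ψ : P ⟶ P') :
    mapC Y (φ + ψ) = mapC Y φ + mapC Y ψ :=
  (CechDelta.K Y).map_add

lemma mapC_zero {P P' : Cᵒᵖ ⥤ AddCommGrpCat.{u}} :
    mapC Y (0 : P ⟶ P') = 0 :=
  (CechDelta.K Y).map_zero _ _

lemma mapC_comp {P P' P'' : Cᵒᵖ ⥤ AddCommGrpCat.{u}} (φ : P ⟶ P') (ψ : P' ⟶ P'') :
    mapC Y (φ ≫ ψ) = mapC Y φ ≫ mapC Y ψ :=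
  (CechDelta.K Y).map_comp φ ψ

/-- evaluation at the generating cochain -/
noncomputable def ev (P : Cᵒᵖ ⥤ AddCommGrpCat.{u}) :
    AddCommGrpCat.of (ZR Y ⟶ P) ⟶ (cx Y (Q P)).X 0 :=
  AddCommGrpCat.ofHom
    { toFun := fun φ => (mapC Y φ).f 0 (c₀ Y)
      map_zero' := by
        rw [mapC_zero]
        rfl
      map_add' := fun φ ψ => by
        rw [mapC_add]
        rfl }

lemma ev_apply (P : Cᵒᵖ ⥤ AddCommGrpCat.{u}) (φ : ZR Y ⟶ P) :
    ev Y P φ = (mapC Y φ).f 0 (c₀ Y) := rfl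

lemma ev_d (P : Cᵒᵖ ⥤ AddCommGrpCat.{u}) : ev Y P ≫ (cx Y (Q P)).d 0 1 = 0 := by
  ext φ
  rw [ConcreteCategory.comp_apply, ev_apply, ← mapC_d, d_c₀, map_zero]
  rfl

lemma comp_ev (P : Cᵒᵖ ⥤ AddCommGrpCat.{u}) (φ : ZR Y ⟶ P) (x : Fin 1 → ι) :
    comp Y (Q P) 0 x (ev Y P φ) =
      (Q P).map (pr Y x).op (φ.app (op (Y (x 0)).left) (gen Y (x 0))) := by
  rw [ev_apply, comp_mapC]
  unfold c₀ cochainOf
  have h1 : comp Y (Q (ZR Y)) 0 x (mk (fun x => (Q (ZR Y)).map (pr Y x).op (gen Y (x 0)))) =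
      (Q (ZR Y)).map (pr Y x).op (gen Y (x 0)) := comp_mk _ x
  refine (congrArg (φ.app (op (prodU Y x).left)) h1).trans ?_
  exact NatTrans.naturality_apply φ (pr Y x).left.op (gen Y (x 0))

lemma ev_eq_cochainOf (P : Cᵒᵖ ⥤ AddCommGrpCat.{u}) (φ : ZR Y ⟶ P) :
    ev Y P φ = cochainOf Y P (fun i => φ.app (op (Y i).left) (gen Y i)) := by
  apply Groth.Agent.Helper1.Cech.ext
  intro x
  rw [comp_ev]
  unfold cochainOf
  rw [comp_mk]

lemma ev_injective (P : Cᵒᵖ ⥤ AddCommGrpCat.{u}) : Function.Injective (ev Y P) := by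
  intro φ ψ h
  have h1 : ∀ i, φ.app (op (Y i).left) (gen Y i) = ψ.app (op (Y i).left) (gen Y i) := by
    intro i
    rw [ev_eq_cochainOf, ev_eq_cochainOf] at h
    have := congrArg (fun c => familyOf Y P c i) h
    exact ((familyOf_cochainOf Y P _ i).symm.trans this).trans (familyOf_cochainOf Y P _ i)
  ext V : 2
  apply AddCommGrpCat.hom_ext
  apply FreeAbelianGroup.lift_ext
  rintro ⟨h, hh⟩
  obtain ⟨i, a, rfl⟩ := (Sieve.mem_ofArrows_iff _ _ _).1 hh
  have h2 := map_gOf Y a (Y i).hom (Sieve.ofArrows_mk _ _ i)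
  have h3 := NatTrans.naturality_apply φ a.op (gen Y i)
  have h4 := NatTrans.naturality_apply ψ a.op (gen Y i)
  show φ.app V (gOf Y (a ≫ (Y i).hom) _) = ψ.app V (gOf Y (a ≫ (Y i).hom) _)
  rw [← h2]
  exact h3.trans ((congrArg (P.map a.op) (h1 i)).trans h4.symm)

lemma exists_ev_eq (P : Cᵒᵖ ⥤ AddCommGrpCat.{u}) (c : (cx Y (Q P)).X 0)
    (hc : (cx Y (Q P)).d 0 1 c = 0) : ∃ φ, ev Y P φ = c := by
  obtain ⟨s, rfl⟩ : ∃ s, c = cochainOf Y P s :=
    ⟨familyOf Y P c, (cochainOf_familyOf Y P c).symm⟩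
  have hs := compatible_of_d_eq_zero Y P s hc
  have hx := hs.familyOfElements_compatible
  have hxe := hx.sieveExtend
  have hsc := (Presieve.compatible_iff_sieveCompatible _).1 hxe
  let φ : ZR Y ⟶ P :=
    { app := fun V => AddCommGrpCat.ofHom (FreeAbelianGroup.lift
        (fun r : {f : V.unop ⟶ X // (R Y) f} =>
          (hs.familyOfElements.sieveExtend r.1 r.2 : P.obj V)))
      naturality := by
        intro V V' a
        apply AddCommGrpCat.hom_ext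
        apply FreeAbelianGroup.lift_ext
        rintro ⟨h, hh⟩
        have h2 := map_gOf Y a.unop h hh
        show (FreeAbelianGroup.lift _) ((ZR Y).map a (gOf Y h hh)) =
          P.map a ((FreeAbelianGroup.lift _) (FreeAbelianGroup.of _))
        rw [FreeAbelianGroup.lift_apply_of]
        refine (congrArg (FreeAbelianGroup.lift _) h2).trans ?_
        unfold gOf
        rw [FreeAbelianGroup.lift_apply_of]
        exact hsc h a.unop hh }
  refine ⟨φ, ?_⟩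
  rw [ev_eq_cochainOf]
  congr 1
  funext i
  show (FreeAbelianGroup.lift _) (FreeAbelianGroup.of _) = s i
  rw [FreeAbelianGroup.lift_apply_of]
  exact (Presieve.extend_agrees hx (Presieve.ofArrows.mk i)).trans
    (hs.familyOfElements_ofArrows_mk i)

/-- `Hom(Z, -)` as a functor to abelian groups -/
def homF (Z : Cᵒᵖ ⥤ AddCommGrpCat.{u}) : (Cᵒᵖ ⥤ AddCommGrpCat.{u}) ⥤ AddCommGrpCat.{u} where
  obj P := AddCommGrpCat.of (Z ⟶ P)
  map ψ := AddCommGrpCat.ofHom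
    { toFun := fun φ => φ ≫ ψ
      map_zero' := zero_comp
      map_add' := fun _ _ => Preadditive.add_comp _ _ _ _ _ _ }
  map_id P := by
    apply AddCommGrpCat.hom_ext
    apply AddMonoidHom.ext
    intro φ
    exact Category.comp_id φ
  map_comp ψ ψ' := by
    apply AddCommGrpCat.hom_ext
    apply AddMonoidHom.ext
    intro φ
    exact (Category.assoc φ ψ ψ').symm

/-- the comparison `Hom(ZR, P) → Ȟ⁰(Y, P)` -/
noncomputable def Ψapp (P : Cᵒᵖ ⥤ AddCommGrpCat.{u}) :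
    (homF (ZR Y)).obj P ⟶ ((TC Y).T 0).obj P :=
  (cx Y (Q P)).liftCycles (ev Y P) 1 (by simp) (ev_d Y P) ≫ (cx Y (Q P)).homologyπ 0

instance isIso_Ψapp (P : Cᵒᵖ ⥤ AddCommGrpCat.{u}) : IsIso (Ψapp Y P) := by
  haveI : IsIso ((cx Y (Q P)).homologyπ 0) :=
    HomologicalComplex.isIso_homologyπ _ 0 0 (by simp) (by simp)
  haveI : IsIso ((cx Y (Q P)).liftCycles (ev Y P) 1 (by simp) (ev_d Y P)) := by
    refine (CochainComplex.isIso_liftCycles_iff (cx Y (Q P)) (ev Y P) (ev_d Y P)).2 ⟨?_, ?_⟩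
    · rw [ShortComplex.ab_exact_iff]
      exact exists_ev_eq Y P
    · exact (AddCommGrpCat.mono_iff_injective _).2 (ev_injective Y P)
  unfold Ψapp
  infer_instance

lemma Ψ_naturality {P P' : Cᵒᵖ ⥤ AddCommGrpCat.{u}} (ψ : P ⟶ P') :
    (homF (ZR Y)).map ψ ≫ Ψapp Y P' = Ψapp Y P ≫ ((TC Y).T 0).map ψ := by
  have e : ev Y P ≫ (mapC Y ψ).f 0 = (homF (ZR Y)).map ψ ≫ ev Y P' := by
    ext φ
    show (mapC Y ψ).f 0 ((mapC Y φ).f 0 (c₀ Y)) = (mapC Y (φ ≫ ψ)).f 0 (c₀ Y)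
    rw [mapC_comp]
    rfl
  have h : (cx Y (Q P)).liftCycles (ev Y P) 1 (by simp) (ev_d Y P) ≫
      HomologicalComplex.cyclesMap (mapC Y ψ) 0 =
      (homF (ZR Y)).map ψ ≫ (cx Y (Q P')).liftCycles (ev Y P') 1 (by simp) (ev_d Y P') := by
    refine (HomologicalComplex.liftCycles_comp_cyclesMap (K := cx Y (Q P))
      (L := cx Y (Q P')) (ev Y P) 1 (by simp) (ev_d Y P) (mapC Y ψ)).trans ?_
    refine Eq.trans ?_ (HomologicalComplex.comp_liftCycles (K := cx Y (Q P'))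
      (ev Y P') 1 (by simp) (ev_d Y P') ((homF (ZR Y)).map ψ)).symm
    congr 1
  unfold Ψapp
  have hn := HomologicalComplex.homologyπ_naturality (mapC Y ψ) 0
  rw [Category.assoc]
  refine Eq.trans ?_ (congrArg (fun z => (cx Y (Q P)).liftCycles (ev Y P) 1 (by simp) (ev_d Y P) ≫ z)
    hn).symm
  exact (Category.assoc _ _ _).symm.trans
    ((congrArg (fun z => z ≫ (cx Y (Q P')).homologyπ 0) h.symm).trans (Category.assoc _ _ _))

/-- `Ȟ⁰(Y, -)` is represented by `ZR` -/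
noncomputable def isoΨ : homF (ZR Y) ≅ (TC Y).T 0 :=
  NatIso.ofComponents (fun P => asIso (Ψapp Y P)) (fun ψ => Ψ_naturality Y ψ)

/-- presheaves as sheaves for the trivial topology -/
abbrev E : (Cᵒᵖ ⥤ AddCommGrpCat.{u}) ⥤ Sheaf (⊥ : GrothendieckTopology C) AddCommGrpCat.{u} :=
  (sheafBotEquivalence AddCommGrpCat.{u}).inverse

instance : (E (C := C)).Additive where
  map_add := rfl

/-- `Ext^•(ZR, -)` on presheaves as a δ-functor -/
noncomputable def T₂ : DeltaFunctor (Cᵒᵖ ⥤ AddCommGrpCat.{u}) AddCommGrpCat.{u} :=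
  (extDeltaM.{u} (E.obj (ZR Y))).precomp E (fun _ hS => hS.map_of_exact _)

lemma T₂_effaceable : (T₂ Y).Effaceable := by
  intro I _ n
  haveI : Injective (E.obj I) :=
    Injective.injective_of_adjoint (sheafBotEquivalence AddCommGrpCat.{u}).toAdjunction I
  haveI : Subsingleton (Abelian.Ext.{u} (E.obj (ZR Y)) (E.obj I) (n + 1)) :=
    subsingleton_of_forall_eq 0 (fun x => Abelian.Ext.eq_zero_of_injective x)
  exact AddCommGrpCat.isZero_of_subsingleton
    (AddCommGrpCat.of (Abelian.Ext.{u} (E.obj (ZR Y)) (E.obj I) (n + 1)))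

/-- `Hom(ZR, P) → Ext⁰(E ZR, E P)` -/
noncomputable def Φapp (P : Cᵒᵖ ⥤ AddCommGrpCat.{u}) :
    (homF (ZR Y)).obj P ⟶ ((T₂ Y).T 0).obj P :=
  AddCommGrpCat.ofHom
    { toFun := fun φ => (Abelian.Ext.mk₀ (E.map φ) : Abelian.Ext.{u} (E.obj (ZR Y)) (E.obj P) 0)
      map_zero' := by
        rw [Functor.map_zero, Abelian.Ext.mk₀_zero]
      map_add' := fun φ ψ => by
        rw [Functor.map_add, Abelian.Ext.mk₀_add] }

instance isIso_Φapp (P : Cᵒᵖ ⥤ AddCommGrpCat.{u}) : IsIso (Φapp Y P) := by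
  refine (ConcreteCategory.isIso_iff_bijective _).2 ?_
  have h1 : Function.Bijective (fun φ : ZR Y ⟶ P => (E.map φ : E.obj (ZR Y) ⟶ E.obj P)) :=
    (Functor.FullyFaithful.ofFullyFaithful (E (C := C))).map_bijective _ _
  exact (Abelian.Ext.mk₀_bijective _ _).comp h1

lemma Φ_naturality {P P' : Cᵒᵖ ⥤ AddCommGrpCat.{u}} (ψ : P ⟶ P') :
    (homF (ZR Y)).map ψ ≫ Φapp Y P' = Φapp Y P ≫ ((T₂ Y).T 0).map ψ := by
  apply AddCommGrpCat.hom_ext
  apply AddMonoidHom.ext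
  intro φ
  show Abelian.Ext.mk₀ (E.map (φ ≫ ψ)) =
    (Abelian.Ext.mk₀ (E.map φ)).comp (Abelian.Ext.mk₀ (E.map ψ)) (add_zero 0)
  rw [Abelian.Ext.mk₀_comp_mk₀, Functor.map_comp]

/-- `Ext⁰(E ZR, E -)` is represented by `ZR` -/
noncomputable def isoΦ : homF (ZR Y) ≅ (T₂ Y).T 0 :=
  NatIso.ofComponents (fun P => asIso (Φapp Y P)) (fun ψ => Φ_naturality Y ψ)

/-- Čech cohomology of presheaves as Ext groups out of `ZR` -/
noncomputable def isoT (q : ℕ) : (TC Y).T q ≅ (T₂ Y).T q :=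
  isoOfEffaceable (TC_effaceable Y) (T₂_effaceable Y) ((isoΨ Y).symm ≪≫ isoΦ Y) q

/-- the sheafification of `ZR` for the trivial topology is `ZR` -/
noncomputable def isoX :
    (presheafToSheaf (⊥ : GrothendieckTopology C) AddCommGrpCat.{u}).obj (ZR Y) ≅ E.obj (ZR Y) :=
  asIso ((sheafificationAdjunction (⊥ : GrothendieckTopology C) AddCommGrpCat.{u}).counit.app
    (E.obj (ZR Y)))

theorem main (M : Cᵒᵖ ⥤ AddCommGrpCat.{u}) (q : ℕ) :
    Nonempty (CohCx.cechH M Y q ≅ AddCommGrpCat.of (Abelian.Ext.{u}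
      ((presheafToSheaf (⊥ : GrothendieckTopology C) AddCommGrpCat.{u}).obj (ZR Y))
      (E.obj M) q)) := by
  have e1 : CohCx.cechH M Y q ≅ AddCommGrpCat.of (Abelian.Ext.{u} (E.obj (ZR Y)) (E.obj M) q) :=
    (isoT Y q).app M
  have e2 : AddCommGrpCat.of (Abelian.Ext.{u} (E.obj (ZR Y)) (E.obj M) q) ≅
      AddCommGrpCat.of (Abelian.Ext.{u}
        ((presheafToSheaf (⊥ : GrothendieckTopology C) AddCommGrpCat.{u}).obj (ZR Y))
        (E.obj M) q) :=
    ((Abelian.extFunctor q).mapIso (isoX Y).op).app (E.obj M)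
  exact ⟨e1 ≪≫ e2⟩

end Groth.Agent.Helper9.CechSieve
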