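import Mathlib
import Groth.Prelude.Def_NonAbH1
import Groth.Agent.Helper9.CechIso

set_option autoImplicit false
set_option linter.unusedSectionVars false

namespace Groth.Agent.Helper9.CechTwist

open CategoryTheory Opposite

universe w'' w' w v u

variable {C : Type u} [Category.{v} C] {J : GrothendieckTopology C}

section GSheafProp

variable (G : Sheaf J GrpCat.{w})

theorem isSheaf_forget : Presieve.IsSheaf J (G.obj ⋙ forget GrpCat.{w}) :=
  Presieve.isSheaf_iso J (Functor.isoWhiskerLeft G.obj GrpCat.coyonedaObjIsoForget.{w}) (G.2 _)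

theorem map_map {T T' X : C} (φ : T ⟶ T') (a : T' ⟶ X) (x : G.obj.obj (op X)) :
    G.obj.map φ.op (G.obj.map a.op x) = G.obj.map (φ ≫ a).op x := by
  rw [op_comp, Functor.map_comp]
  rfl

theorem G_ext {Y : C} (T : Sieve Y) (hT : T ∈ J Y) (v v' : G.obj.obj (op Y))
    (h : ∀ ⦃Y' : C⦄ (φ : Y' ⟶ Y), T φ → G.obj.map φ.op v = G.obj.map φ.op v') : v = v' := by
  apply ((isSheaf_forget G).isSeparated _ hT).ext
  intro Y' φ hφ
  exact h φ hφ

theorem G_glue {Y : C} (T : Sieve Y) (hT : T ∈ J Y)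
    (z : ∀ ⦃Y' : C⦄ (φ : Y' ⟶ Y), T φ → G.obj.obj (op Y'))
    (hz : ∀ ⦃Y' Y'' : C⦄ (φ : Y' ⟶ Y) (ψ : Y'' ⟶ Y') (hφ : T φ),
      z (ψ ≫ φ) (T.downward_closed hφ ψ) = G.obj.map ψ.op (z φ hφ)) :
    ∃ v : G.obj.obj (op Y), ∀ ⦃Y' : C⦄ (φ : Y' ⟶ Y) (hφ : T φ), G.obj.map φ.op v = z φ hφ := by
  let fam : Presieve.FamilyOfElements (G.obj ⋙ forget GrpCat.{w}) T.arrows :=
    fun Y' φ hφ => z φ hφ
  have hfam : fam.Compatible := by
    rw [Presieve.compatible_iff_sieveCompatible]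
    intro Y' Y'' φ ψ hφ
    exact hz φ ψ hφ
  refine ⟨(isSheaf_forget G _ hT).amalgamate fam hfam, ?_⟩
  intro Y' φ hφ
  exact (isSheaf_forget G _ hT).valid_glue hfam φ hφ

end GSheafProp

section Big

variable {G : Sheaf J GrpCat.{w}} {I : Type w'} {U : I → C}
  (γ : PresheafOfGroups.OneCocycle G.obj U)

/-- sections over `X` of the torsor obtained by twisting by `γ` -/
@[ext]
structure Sec (X : C) where
  val : ∀ ⦃Y : C⦄ (_ : Y ⟶ X) (i : I) (_ : Y ⟶ U i), G.obj.obj (op Y)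
  comp : ∀ ⦃Y Y' : C⦄ (φ : Y' ⟶ Y) (f : Y ⟶ X) (i : I) (a : Y ⟶ U i),
    val (φ ≫ f) i (φ ≫ a) = G.obj.map φ.op (val f i a)
  trans : ∀ ⦃Y : C⦄ (f : Y ⟶ X) (i j : I) (a : Y ⟶ U i) (b : Y ⟶ U j),
    val f j b = val f i a * γ.ev i j a b

variable {γ}

theorem Sec.val_congr {X : C} (x : Sec γ X) {Y : C} {f f' : Y ⟶ X} (e : f = f') (i : I)
    {a a' : Y ⟶ U i} (e' : a = a') : x.val f i a = x.val f' i a' := by
  subst e e'; rfl

/-- restriction -/
def Sec.res {X X' : C} (h : X' ⟶ X) (x : Sec γ X) : Sec γ X' where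
  val Y f i a := x.val (f ≫ h) i a
  comp Y Y' φ f i a := by
    rw [← x.comp φ (f ≫ h) i a]
    exact x.val_congr (Category.assoc _ _ _) i rfl
  trans Y f i j a b := x.trans (f ≫ h) i j a b

@[simp] theorem Sec.res_val {X X' : C} (h : X' ⟶ X) (x : Sec γ X) {Y : C} (f : Y ⟶ X') (i : I)
    (a : Y ⟶ U i) : (x.res h).val f i a = x.val (f ≫ h) i a := rfl

variable (γ)

/-- the presheaf of sections (in a big universe) -/
def big : Cᵒᵖ ⥤ Type (max u v w w') where
  obj X := Sec γ X.unop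
  map h := TypeCat.ofHom (Sec.res h.unop)
  map_id X := by
    ext x Y f i a
    exact x.val_congr (Category.comp_id _) i rfl
  map_comp h h' := by
    ext x Y f i a
    exact x.val_congr (Category.assoc _ _ _).symm i rfl

variable {γ}

/-- the action -/
def Sec.smul {X : C} (g : G.obj.obj (op X)) (x : Sec γ X) : Sec γ X where
  val _ f i a := G.obj.map f.op g * x.val f i a
  comp _ _ φ f i a := by
    rw [x.comp, map_mul, map_map]
  trans _ f i j a b := by
    rw [x.trans f i j a b, mul_assoc]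

@[simp] theorem Sec.smul_val {X : C} (g : G.obj.obj (op X)) (x : Sec γ X) {Y : C} (f : Y ⟶ X)
    (i : I) (a : Y ⟶ U i) : (x.smul g).val f i a = G.obj.map f.op g * x.val f i a := rfl

variable (γ)

/-- the canonical section over `U i` -/
def can (i : I) : Sec γ (U i) where
  val _ f j a := γ.ev i j f a
  comp _ _ φ f j a := (γ.ev_precomp i j φ f a).symm
  trans _ f j k a b := (γ.ev_trans i j k f a b).symm

theorem big_isSheaf : Presieve.IsSheaf J (big γ) := by
  intro X S hS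
  rw [← Presieve.isSeparatedFor_and_exists_isAmalgamation_iff_isSheafFor]
  constructor
  · intro fam x x' hx hx'
    apply Sec.ext
    funext Y f i a
    apply G_ext G _ (J.pullback_stable f hS)
    intro Y' φ hφ
    rw [← x.comp, ← x'.comp]
    have e1 := congrArg (fun z : Sec γ Y' => z.val (𝟙 Y') i (φ ≫ a)) (hx (φ ≫ f) hφ)
    have e2 := congrArg (fun z : Sec γ Y' => z.val (𝟙 Y') i (φ ≫ a)) (hx' (φ ≫ f) hφ)
    have e3 := e1.trans e2.symm
    change x.val (𝟙 Y' ≫ φ ≫ f) i (φ ≫ a) = x'.val (𝟙 Y' ≫ φ ≫ f) i (φ ≫ a) at e3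
    rw [x.val_congr (Category.id_comp _) i rfl, x'.val_congr (Category.id_comp _) i rfl] at e3
    exact e3
  · intro fam hfam
    rw [Presieve.compatible_iff_sieveCompatible] at hfam
    -- sieve-compatibility, in terms of values
    have hfam' : ∀ ⦃Y Z : C⦄ (h : Y ⟶ X) (g : Z ⟶ Y) (hh : S h) ⦃W : C⦄ (f : W ⟶ Z) (i : I)
        (a : W ⟶ U i), (fam (g ≫ h) (S.downward_closed hh g)).val f i a =
          (fam h hh).val (f ≫ g) i a := by
      intro Y Z h g hh W f i a
      rw [hfam h g hh]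
      rfl
    have hcongr : ∀ ⦃Y : C⦄ (h h' : Y ⟶ X) (e : h = h') (hh : S h) (hh' : S h') ⦃W : C⦄
        (f : W ⟶ Y) (i : I) (a : W ⟶ U i), (fam h hh).val f i a = (fam h' hh').val f i a := by
      rintro Y h _ rfl hh hh' W f i a
      rfl
    have hex : ∀ ⦃Y : C⦄ (f : Y ⟶ X) (i : I) (a : Y ⟶ U i), ∃ v : G.obj.obj (op Y),
        ∀ ⦃Y' : C⦄ (φ : Y' ⟶ Y) (hφ : S (φ ≫ f)),
          G.obj.map φ.op v = (fam (φ ≫ f) hφ).val (𝟙 Y') i (φ ≫ a) := by
      intro Y f i a
      apply G_glue G (S.pullback f) (J.pullback_stable f hS)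
        (fun Y' φ hφ => (fam (φ ≫ f) hφ).val (𝟙 Y') i (φ ≫ a))
      intro Y' Y'' φ ψ hφ
      rw [← (fam (φ ≫ f) hφ).comp]
      have := hfam' (φ ≫ f) ψ hφ (𝟙 Y'') i ((ψ ≫ φ) ≫ a)
      rw [Category.id_comp] at this
      rw [(fam (φ ≫ f) hφ).val_congr (Category.comp_id ψ) i (Category.assoc ψ φ a).symm, ← this]
      exact hcongr _ _ (Category.assoc _ _ _) _ _ _ _ _
    choose val hval using hex
    have hval_unique : ∀ ⦃Y : C⦄ (f : Y ⟶ X) (i : I) (a : Y ⟶ U i) (v : G.obj.obj (op Y)),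
        (∀ ⦃Y' : C⦄ (φ : Y' ⟶ Y) (hφ : S (φ ≫ f)),
          G.obj.map φ.op v = (fam (φ ≫ f) hφ).val (𝟙 Y') i (φ ≫ a)) → v = val f i a := by
      intro Y f i a v hv
      apply G_ext G _ (J.pullback_stable f hS)
      intro Y' φ hφ
      rw [hv φ hφ, hval f i a φ hφ]
    refine ⟨⟨val, ?_, ?_⟩, ?_⟩
    · intro Y Y' ψ f i a
      symm
      apply hval_unique
      intro Y'' φ hφ
      rw [map_map, hval f i a (φ ≫ ψ) (by rw [Category.assoc]; exact hφ)]
      rw [hcongr _ _ (Category.assoc φ ψ f) _ hφ]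
      exact Sec.val_congr _ rfl i (Category.assoc _ _ _)
    · intro Y f i j a b
      apply G_ext G _ (J.pullback_stable f hS)
      intro Y' φ hφ
      rw [map_mul, hval f j b φ hφ, hval f i a φ hφ, (fam (φ ≫ f) hφ).trans _ i j (φ ≫ a) (φ ≫ b),
        γ.ev_precomp]
    · intro Y h hh
      apply Sec.ext
      funext W f i a
      change val (f ≫ h) i a = (fam h hh).val f i a
      symm
      apply hval_unique
      intro Y' φ hφ
      rw [← (fam h hh).comp]
      have := hfam' h (φ ≫ f) hh (𝟙 Y') i (φ ≫ a)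
      rw [Category.id_comp] at this
      rw [← this]
      exact hcongr _ _ (Category.assoc _ _ _) _ _ _ _ _

variable {γ}

theorem smul_one' {X : C} (x : Sec γ X) : x.smul 1 = x := by
  apply Sec.ext
  funext Y f i a
  rw [Sec.smul_val, map_one, one_mul]

theorem smul_mul' {X : C} (g h : G.obj.obj (op X)) (x : Sec γ X) :
    x.smul (g * h) = (x.smul h).smul g := by
  apply Sec.ext
  funext Y f i a
  rw [Sec.smul_val, Sec.smul_val, Sec.smul_val, map_mul, mul_assoc]

theorem res_smul {X X' : C} (k : X' ⟶ X) (g : G.obj.obj (op X)) (x : Sec γ X) :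
    (x.smul g).res k = (x.res k).smul (G.obj.map k.op g) := by
  apply Sec.ext
  funext Y f i a
  rw [Sec.res_val, Sec.smul_val, Sec.smul_val, Sec.res_val, map_map]

variable (hU : J.CoversTop U)

include hU in
theorem pseudo {X : C} (x x' : Sec γ X) : ∃! g : G.obj.obj (op X), x.smul g = x' := by
  have hF := isSheaf_forget G
  obtain ⟨g, hg⟩ := CechIso.glue hF hU (X := X)
    (fun Y f i a => (x'.val f i a * (x.val f i a)⁻¹ : G.obj.obj (op Y)))
    (by
      intro Y f i j a b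
      change x'.val f i a * (x.val f i a)⁻¹ = x'.val f j b * (x.val f j b)⁻¹
      rw [x.trans f i j a b, x'.trans f i j a b]
      group)
    (by
      intro Y Y' φ f i a
      change x'.val (φ ≫ f) i (φ ≫ a) * (x.val (φ ≫ f) i (φ ≫ a))⁻¹ =
        G.obj.map φ.op (x'.val f i a * (x.val f i a)⁻¹)
      rw [x.comp, x'.comp, map_mul, map_inv])
  have hg' : ∀ ⦃Y : C⦄ (f : Y ⟶ X) (i : I) (a : Y ⟶ U i),
      G.obj.map f.op g = x'.val f i a * (x.val f i a)⁻¹ := hg
  refine ⟨g, ?_, ?_⟩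
  · apply Sec.ext
    funext Y f i a
    rw [Sec.smul_val, hg' f i a, inv_mul_cancel_right]
  · intro g' h'
    apply CechIso.glue_ext hF hU
    intro Y f i a
    change G.obj.map f.op g' = G.obj.map f.op g
    rw [hg' f i a, ← h', Sec.smul_val, mul_inv_cancel_right]

include hU in
theorem locne (X : C) : ∃ S ∈ J X, ∀ ⦃V : C⦄ (f : V ⟶ X), S f → Nonempty (Sec γ V) := by
  refine ⟨Sieve.ofObjects U X, hU X, ?_⟩
  rintro V f ⟨i, ⟨a⟩⟩
  exact ⟨(can γ i).res a⟩

theorem can_cocycle (i j : I) ⦃T : C⦄ (a : T ⟶ U i) (b : T ⟶ U j) :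
    ((can γ j).res b).smul (γ.ev i j a b) = (can γ i).res a := by
  apply Sec.ext
  funext Y f k d
  change G.obj.map f.op (γ.ev i j a b) * γ.ev j k (f ≫ b) d = γ.ev i k (f ≫ a) d
  rw [γ.ev_precomp, γ.ev_trans]

end Big

section Transfer

variable {G : Sheaf J GrpCat.{w}} (P' : Cᵒᵖ ⥤ Type w'') (hP' : Presieve.IsSheaf J P')
  (smul : ∀ {V : Cᵒᵖ}, G.obj.obj V → P'.obj V → P'.obj V)
  (one_smul : ∀ {V : Cᵒᵖ} (p : P'.obj V), smul 1 p = p)
  (mul_smul : ∀ {V : Cᵒᵖ} (g h : G.obj.obj V) (p : P'.obj V),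
    smul (g * h) p = smul g (smul h p))
  (map_smul : ∀ {V W : Cᵒᵖ} (f : V ⟶ W) (g : G.obj.obj V) (p : P'.obj V),
    P'.map f (smul g p) = smul (G.obj.map f g) (P'.map f p))
  (pseudo : ∀ (V : Cᵒᵖ) (p q : P'.obj V), ∃! g : G.obj.obj V, smul g p = q)
  (locne : ∀ X : C, ∃ S ∈ J X, ∀ ⦃V : C⦄ (f : V ⟶ X), S f → Nonempty (P'.obj (op V)))

include pseudo in
theorem small : FunctorToTypes.Small.{w} P' := by
  intro V
  by_cases h : Nonempty (P'.obj V)
  · obtain ⟨p₀⟩ := h
    exact small_of_surjective (f := fun g : G.obj.obj V => smul g p₀)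
      (fun q => (pseudo V p₀ q).exists)
  · haveI := not_nonempty_iff.1 h
    infer_instance

include hP' one_smul mul_smul map_smul pseudo locne in
theorem exists_torsor : ∃ (P : NonAbH1.Torsor G) (e : ∀ V, P.P.obj.obj V ≃ P'.obj V),
    (∀ (V W : Cᵒᵖ) (f : V ⟶ W) (p : P.P.obj.obj V), e W (P.P.obj.map f p) = P'.map f (e V p)) ∧
    (∀ (V : Cᵒᵖ) (g : G.obj.obj V) (p : P.P.obj.obj V), e V (P.smul g p) = smul g (e V p)) := by
  haveI : FunctorToTypes.Small.{w} P' := small P' smul pseudo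
  let P₀ : Cᵒᵖ ⥤ Type w := FunctorToTypes.shrink.{w} P'
  let e : ∀ V, P₀.obj V ≃ P'.obj V := fun V => (equivShrink _).symm
  have he : ∀ (V W : Cᵒᵖ) (f : V ⟶ W) (p : P₀.obj V), e W (P₀.map f p) = P'.map f (e V p) := by
    intro V W f p
    simp [P₀, e]
  have hP₀ : Presieve.IsSheaf J P₀ := by
    refine Presieve.isSheaf_of_nat_equiv (fun X => (e (op X)).symm) ?_ hP'
    intro X Y f x
    apply (e (op X)).injective
    rw [he]
    simp
  refine ⟨⟨⟨⟨P₀, (isSheaf_iff_isSheaf_of_type _ _).2 hP₀⟩,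
    fun {V} g p => (e V).symm (smul g (e V p)), ?_, ?_, ?_⟩, ?_, ?_⟩, e, he, ?_⟩
  · intro V p
    rw [one_smul]
    simp
  · intro V g h p
    rw [mul_smul]
    simp
  · intro V W f g p
    apply (e W).injective
    change e W (P₀.map f _) = _
    rw [he]
    simp only [Equiv.apply_symm_apply]
    rw [map_smul, ← he]
  · intro V p q
    obtain ⟨g, hg, hg'⟩ := pseudo V (e V p) (e V q)
    refine ⟨g, ?_, ?_⟩
    · change (e V).symm (smul g (e V p)) = q
      rw [hg]
      simp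
    · intro g' h'
      apply hg'
      change (e V).symm (smul g' (e V p)) = q at h'
      rw [← h']
      simp
  · intro X
    obtain ⟨S, hS, h⟩ := locne X
    refine ⟨S, hS, fun V f hf => ?_⟩
    obtain ⟨p⟩ := h f hf
    exact ⟨(e (op V)).symm p⟩
  · intro V g p
    simp

end Transfer

theorem main (G : Sheaf J GrpCat.{w}) {I : Type w'} (U : I → C) (hU : J.CoversTop U)
    (c : PresheafOfGroups.H1 G.obj U) :
    ∃ P : NonAbH1.Torsor G, P.TrivialisedBy U ∧ P.HasCechClass U c := by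
  obtain ⟨γ, rfl⟩ : ∃ γ : PresheafOfGroups.OneCocycle G.obj U, γ.class = c := Quot.exists_rep c
  obtain ⟨P, e, he, hes⟩ := exists_torsor (G := G) (big γ) (big_isSheaf γ)
    (fun {V} g x => Sec.smul (X := V.unop) g x)
    (fun {V} x => smul_one' x) (fun {V} g h x => smul_mul' g h x)
    (fun {V W} f g x => res_smul f.unop g x)
    (fun V x x' => pseudo hU x x') (fun X => locne hU X)
  refine ⟨P, fun i => ⟨(e _).symm (can γ i)⟩, fun i => (e _).symm (can γ i), γ, ?_, rfl⟩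
  intro i j T a b
  apply (e _).injective
  rw [hes, he, he]
  beta_reduce
  have h1 : ∀ k, e (op (U k)) ((e (op (U k))).symm (can γ k)) = can γ k :=
    fun k => Equiv.apply_symm_apply (e (op (U k))) _
  rw [h1, h1]
  exact can_cocycle (γ := γ) i j a b

end Groth.Agent.Helper9.CechTwist
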