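import Mathlib
import Groth.Prelude.Def_DualSh
import Groth.Prelude.Def_DerSch2
import Groth.Agent.Helper9.Chart9

/-! Relative pseudo-coherence: pseudo-coherent morphisms; composition with a flat morphism of
finite presentation. -/

set_option autoImplicit false
set_option linter.style.haveILetI false
set_option linter.unusedVariables false
set_option linter.unusedSectionVars false
universe u

namespace Groth.Agent.Helper9.Chart10

noncomputable section

open CategoryTheory CategoryTheory.Limits AlgebraicGeometry HomologicalComplex Pretriangulated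
open Groth.Agent.Lead.PcLib Groth.Agent.Lead.PerfLib Groth.Agent.Helper9.Chart1
  Groth.Agent.Helper9.Chart2 Groth.Agent.Helper9.Chart3 Groth.Agent.Helper9.Chart4
  Groth.Agent.Helper9.Chart5 Groth.Agent.Helper9.Chart6 Groth.Agent.Helper9.Chart7
  Groth.Agent.Helper9.Chart8 Groth.Agent.Helper9.Chart9
  Groth.Agent.Helper9.CI1 Groth.Agent.Helper9.CI2 Groth.Agent.Helper9.CI5
  Groth.Agent.Helper9.ClImm1 Groth.Agent.Helper9.ClImmPF2 Scheme.Modules

attribute [local instance] HasDerivedCategory.standard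

variable {X T S : Scheme.{u}}

section PcMor

variable {U : X.Opens} {P : Type u} [CommRing P] (ρ : P →+* Γ(X, U))
  [IsClosedImmersion (cMap U ρ)]

/-- the value of `Phi` on the structure sheaf -/
def phiUnitIso :
    (Phi ρ).obj (DerivedCategory.Q.obj (DerSch.unitCx X)) ≅
      DCoh.inD (Spec (CommRingCat.of P))
        ((pushforward (cMap U ρ)).obj (Coh.structureModule (U : Scheme.{u}))) :=
  phiIso ρ (DerSch.unitCx X) ≪≫
    DerivedCategory.Q.mapIso
      ((DerSch.pushCx (cMap U ρ)).mapIso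
          ((HomologicalComplex.singleMapHomologicalComplex (restrictFunctor U.ι)
            (ComplexShape.up ℤ) 0).app (Coh.structureModule X) ≪≫
            (HomologicalComplex.single _ (ComplexShape.up ℤ) 0).mapIso (restrictUnitIso U.ι)) ≪≫
        (HomologicalComplex.singleMapHomologicalComplex (pushforward (cMap U ρ))
          (ComplexShape.up ℤ) 0).app (Coh.structureModule (U : Scheme.{u}))) ≪≫
    ((DerivedCategory.singleFunctorIsoCompQ _ 0).app _).symm

end PcMor

/-- **pseudo-coherent morphisms**: relative and absolute pseudo-coherence agree -/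
theorem rel_iff_abs_of_pcMor (g : X ⟶ S) [LocallyOfFiniteType g]
    (hg : ∀ n : ℤ, DerSch.IsNPseudoCoherent g n) (r : ℤ) (E : DCoh.D X) :
    DCoh.IsPseudoCoherentD r E ↔ DerSch.IsPseudoCoherentRel g r E := by
  refine (rel_iff_abs g (fun U V h n φ hφ hcl => ?_) r E).symm
  haveI := hcl
  intro m
  have h1 := (rel_iff_phi g m _).1 (hg m) U V h n φ hφ hcl
  exact isPseudoCoherentD_of_iso (phiUnitIso φ) h1

section Comp

open Groth.Agent.Helper3.PcHom MvPolynomial

variable (a : X ⟶ T) (b : T ⟶ S) [LocallyOfFiniteType a] [Flat b] [LocallyOfFinitePresentation b]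

/-- a presentation of `C[x]` over `A` for a flat finitely presented `A`-algebra `C` -/
theorem exists_pi (A R : Type u) [CommRing A] [CommRing R] (c : A →+* R) (hfl : c.Flat)
    (hfp : c.FinitePresentation) (n : ℕ) :
    ∃ (N : ℕ) (π : MvPolynomial (Fin N) A →+* MvPolynomial (Fin n) R), Function.Surjective π ∧
      Q π ∧ π.comp (C : A →+* MvPolynomial (Fin N) A) = (C : R →+* MvPolynomial (Fin n) R).comp c := by
  letI := c.toAlgebra
  haveI : Module.Flat A R := hfl
  haveI : Algebra.FinitePresentation A R := hfp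
  haveI : Algebra.FiniteType A (MvPolynomial (Fin n) R) :=
    Algebra.FiniteType.trans (S := R) inferInstance inferInstance
  obtain ⟨N, π, hπ⟩ := Algebra.FiniteType.iff_quotient_mvPolynomial''.1
    (inferInstance : Algebra.FiniteType A (MvPolynomial (Fin n) R))
  have hC : π.toRingHom.comp (C : A →+* MvPolynomial (Fin N) A) =
      (C : R →+* MvPolynomial (Fin n) R).comp c := by
    refine RingHom.ext fun x => ?_
    have := π.commutes x
    rw [IsScalarTower.algebraMap_apply A R (MvPolynomial (Fin n) R)] at this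
    exact this
  refine ⟨N, π.toRingHom, hπ, ?_, hC⟩
  have h1 : Q (C : A →+* MvPolynomial (Fin N) A) :=
    (Q_algebraMap (A := A) (B := MvPolynomial (Fin N) A)).2 (pcHom_mvPolynomial A N)
  have h2 : Q (π.toRingHom.comp (C : A →+* MvPolynomial (Fin N) A)) := by
    rw [hC]
    refine Q_comp _ _ ?_ ((Q_algebraMap (A := R) (B := MvPolynomial (Fin n) R)).2
      (pcHom_mvPolynomial R n))
    exact (Q_algebraMap (A := A) (B := R)).2
      (Groth.Agent.Helper9.FlatPC3.pcHom_of_flat_fp A R)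
  exact Q_cancel _ _ h1 h2

/-- charts for `a` over `W` and for `a ≫ b` over `V ⊇ b(W)` are equivalent -/
theorem hasChart_comp_iff (U : X.affineOpens) (W : T.affineOpens) (V : S.affineOpens)
    (hUW : (U : X.Opens) ≤ a ⁻¹ᵁ (W : T.Opens)) (hWV : (W : T.Opens) ≤ b ⁻¹ᵁ (V : S.Opens))
    (m : ℤ) (E : DCoh.D X) :
    HasChart a m E (U : X.Opens) (W : T.Opens) ↔
      HasChart (a ≫ b) m E (U : X.Opens) (V : S.Opens) := by
  have hft : (a.appLE (W : T.Opens) (U : X.Opens) hUW).hom.FiniteType :=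
    HasRingHomProperty.appLE (P := @LocallyOfFiniteType) a inferInstance W U hUW
  obtain ⟨n, φ, hφ⟩ := exists_isChart a hUW hft
  have hfl : (b.appLE (V : S.Opens) (W : T.Opens) hWV).hom.Flat :=
    HasRingHomProperty.appLE (P := @Flat) b inferInstance V W hWV
  have hfp : (b.appLE (V : S.Opens) (W : T.Opens) hWV).hom.FinitePresentation :=
    HasRingHomProperty.appLE (P := @LocallyOfFinitePresentation) b inferInstance V W hWV
  obtain ⟨N, π, hπ, hQ, hC⟩ := exists_pi _ _ _ hfl hfp n
  have hUV : (U : X.Opens) ≤ (a ≫ b) ⁻¹ᵁ (V : S.Opens) :=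
    hUW.trans (Scheme.Hom.preimage_mono a hWV)
  have hψ : DerSch.IsChart (a ≫ b) (U : X.Opens) (V : S.Opens) hUV (φ.comp π) := by
    refine ⟨hφ.1.comp hπ, ?_⟩
    rw [RingHom.comp_assoc, hC, ← RingHom.comp_assoc, hφ.2]
    have h1 := Scheme.Hom.appLE_comp_appLE a b (V : S.Opens) (W : T.Opens) (U : X.Opens) hWV hUW
    rw [← h1]
    rfl
  have key : DerSch.ChartPC m E (U : X.Opens) (W : T.Opens) φ ↔
      DerSch.ChartPC m E (U : X.Opens) (V : S.Opens) (φ.comp π) :=
    forall₂_congr (fun G _ => pcvia_comp_iff (U : X.Opens) φ π hπ hQ m G)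
  constructor
  · rintro ⟨_, n', φ', hφ', hc'⟩
    exact ⟨hUV, N, φ.comp π, hψ,
      key.1 (chartPC_of_chartPC a _ _ hUW m E φ' hφ' hc' φ hφ)⟩
  · rintro ⟨_, n', ψ', hψ', hc'⟩
    exact ⟨hUW, n, φ, hφ,
      key.2 (chartPC_of_chartPC (a ≫ b) _ _ hUV m E ψ' hψ' hc' (φ.comp π) hψ)⟩

/-- **composition with a flat morphism locally of finite presentation** -/
theorem rel_comp_flat_iff (m : ℤ) (E : DCoh.D X) :
    DerSch.IsPseudoCoherentRel (a ≫ b) m E ↔ DerSch.IsPseudoCoherentRel a m E := by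
  haveI : LocallyOfFiniteType (a ≫ b) := inferInstance
  rw [rel_iff (a ≫ b), rel_iff a]
  constructor
  · intro H U W hUW
    have hft : (a.appLE (W : T.Opens) (U : X.Opens) hUW).hom.FiniteType :=
      HasRingHomProperty.appLE (P := @LocallyOfFiniteType) a inferInstance W U hUW
    have key := hasChart_of_cover a U.2 hUW hft m E (fun x hx => ?_)
    · obtain ⟨_, n, φ, hφ, hc⟩ := key
      exact ⟨n, φ, hφ, hc⟩
    · obtain ⟨_, ⟨V, hV, rfl⟩, hxV, -⟩ :=
        S.isBasis_affineOpens.exists_subset_of_mem_open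
          (Set.mem_univ (b.base (a.base x))) isOpen_univ
      obtain ⟨w, hwle, hxw⟩ := W.2.exists_basicOpen_le
        (V := b ⁻¹ᵁ V) ⟨a.base x, hxV⟩ (hUW hx)
      obtain ⟨u, hule, hxu⟩ := U.2.exists_basicOpen_le
        (V := a ⁻¹ᵁ (T.basicOpen w)) ⟨x, hxw⟩ hx
      refine ⟨u, hxu, ?_⟩
      let U₁ : X.affineOpens := ⟨X.basicOpen u, U.2.basicOpen u⟩
      let W₁ : T.affineOpens := ⟨T.basicOpen w, W.2.basicOpen w⟩
      let V₁ : S.affineOpens := ⟨V, hV⟩
      obtain ⟨n, ψ, hψ, hc⟩ := H U₁ V₁ (hule.trans (Scheme.Hom.preimage_mono a hwle))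
      have h1 : HasChart a m E (X.basicOpen u) (T.basicOpen w) :=
        (hasChart_comp_iff a b U₁ W₁ V₁ hule hwle m E).2 ⟨_, n, ψ, hψ, hc⟩
      exact hasChart_enlarge a W.2 w m E h1
  · intro H U V hUV
    have hft : ((a ≫ b).appLE (V : S.Opens) (U : X.Opens) hUV).hom.FiniteType :=
      HasRingHomProperty.appLE (P := @LocallyOfFiniteType) (a ≫ b) inferInstance V U hUV
    have key := hasChart_of_cover (a ≫ b) U.2 hUV hft m E (fun x hx => ?_)
    · obtain ⟨_, n, φ, hφ, hc⟩ := key
      exact ⟨n, φ, hφ, hc⟩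
    · have hax : a.base x ∈ b ⁻¹ᵁ (V : S.Opens) := hUV hx
      obtain ⟨_, ⟨W, hW, rfl⟩, hxW, hWV⟩ :=
        T.isBasis_affineOpens.exists_subset_of_mem_open hax (b ⁻¹ᵁ (V : S.Opens)).isOpen
      obtain ⟨u, hule, hxu⟩ := U.2.exists_basicOpen_le
        (V := a ⁻¹ᵁ W) ⟨x, hxW⟩ hx
      refine ⟨u, hxu, ?_⟩
      let U₁ : X.affineOpens := ⟨X.basicOpen u, U.2.basicOpen u⟩
      let W₁ : T.affineOpens := ⟨W, hW⟩
      obtain ⟨n, φ, hφ, hc⟩ := H U₁ W₁ hule
      exact (hasChart_comp_iff a b U₁ W₁ V hule hWV m E).1 ⟨_, n, φ, hφ, hc⟩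

end Comp

end

end Groth.Agent.Helper9.Chart10
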