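import Mathlib
import Groth.Prelude.Def_DualSh
import Groth.Prelude.Def_DerSch2
import Groth.Agent.Helper9.Chart10

/-! Relative pseudo-coherence is local on the source. -/

set_option autoImplicit false
set_option linter.style.haveILetI false
set_option linter.unusedVariables false
set_option linter.unusedSectionVars false
universe u

namespace Groth.Agent.Helper9.Chart11

noncomputable section

open CategoryTheory CategoryTheory.Limits AlgebraicGeometry HomologicalComplex Pretriangulated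
open Groth.Agent.Lead.PcLib Groth.Agent.Lead.PerfLib Groth.Agent.Helper9.Chart1
  Groth.Agent.Helper9.Chart2 Groth.Agent.Helper9.Chart3 Groth.Agent.Helper9.Chart4
  Groth.Agent.Helper9.Chart5 Groth.Agent.Helper9.Chart6 Groth.Agent.Helper9.Chart7
  Groth.Agent.Helper9.Chart8 Groth.Agent.Helper9.Chart9
  Groth.Agent.Helper9.CI1 Groth.Agent.Helper9.CI2 Groth.Agent.Helper9.CI5
  Groth.Agent.Helper9.ClImm1 Groth.Agent.Helper9.ClImmPF2 Scheme.Modules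

attribute [local instance] HasDerivedCategory.standard

variable {X S : Scheme.{u}} (f : X ⟶ S) (U : X.Opens) (U₁ : (U : Scheme.{u}).Opens)

/-- the isomorphism between an open of an open subscheme and its image -/
abbrev eps : (U₁ : Scheme.{u}) ≅ ((U.ι ''ᵁ U₁ : X.Opens) : Scheme.{u}) := U.ι.isoImage U₁

section Theta

variable (hU₁ : IsAffineOpen U₁)

/-- the comparison of the affine schemes `Spec Γ(U, U₁)` and `Spec Γ(X, U.ι ''ᵁ U₁)` -/
def thetaIso (hU₁ : IsAffineOpen U₁) :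
    Spec Γ((U : Scheme.{u}), U₁) ≅ Spec Γ(X, U.ι ''ᵁ U₁) :=
  hU₁.isoSpec.symm ≪≫ eps U U₁ ≪≫ (hU₁.image_of_isOpenImmersion U.ι).isoSpec

/-- the corresponding ring map -/
def vartheta : Γ(X, U.ι ''ᵁ U₁) ⟶ Γ((U : Scheme.{u}), U₁) :=
  Spec.preimage (thetaIso U U₁ hU₁).hom

/-- and its inverse -/
def varthetaInv : Γ((U : Scheme.{u}), U₁) ⟶ Γ(X, U.ι ''ᵁ U₁) :=
  Spec.preimage (thetaIso U U₁ hU₁).inv

lemma vartheta_comp_inv : vartheta U U₁ hU₁ ≫ varthetaInv U U₁ hU₁ = 𝟙 _ := by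
  apply Spec.map_injective
  simp [vartheta, varthetaInv]

lemma varthetaInv_comp : varthetaInv U U₁ hU₁ ≫ vartheta U U₁ hU₁ = 𝟙 _ := by
  apply Spec.map_injective
  simp [vartheta, varthetaInv]

@[reassoc]
lemma toSpecΓ_map_vartheta :
    U₁.toSpecΓ ≫ Spec.map (vartheta U U₁ hU₁) =
      (eps U U₁).hom ≫ (U.ι ''ᵁ U₁).toSpecΓ := by
  dsimp only [vartheta]
  rw [Spec.map_preimage]
  dsimp only [thetaIso, Iso.trans_hom, Iso.symm_hom]
  rw [← hU₁.isoSpec_hom, Iso.hom_inv_id_assoc]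
  rfl

/-- compatibility of `vartheta` with the maps from the base -/
lemma appLE_vartheta (V : S.Opens) (h : U.ι ''ᵁ U₁ ≤ f ⁻¹ᵁ V)
    (h' : U₁ ≤ (U.ι ≫ f) ⁻¹ᵁ V) :
    f.appLE V (U.ι ''ᵁ U₁) h ≫ vartheta U U₁ hU₁ = (U.ι ≫ f).appLE V U₁ h' := by
  apply Spec.map_injective
  haveI : IsIso U₁.toSpecΓ := by
    rw [← hU₁.isoSpec_hom]
    infer_instance
  rw [← cancel_epi U₁.toSpecΓ, Spec.map_comp, ← Category.assoc, toSpecΓ_map_vartheta,
    Category.assoc, Scheme.Opens.toSpecΓ_SpecMap_appLE, Scheme.Opens.toSpecΓ_SpecMap_appLE,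
    ← Category.assoc]
  congr 1
  rw [← cancel_mono V.ι, Category.assoc, Scheme.Hom.resLE_comp_ι, Scheme.Hom.resLE_comp_ι,
    Scheme.Hom.isoImage_hom_ι_assoc]

end Theta

section Transfer

variable (hU₁ : IsAffineOpen U₁) {V : S.Opens} {n : ℕ}

/-- the chart on `U₁` induced by a chart on its image -/
def phiDown (φ₂ : MvPolynomial (Fin n) Γ(S, V) →+* Γ(X, U.ι ''ᵁ U₁)) :
    MvPolynomial (Fin n) Γ(S, V) →+* Γ((U : Scheme.{u}), U₁) :=
  (vartheta U U₁ hU₁).hom.comp φ₂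

/-- the chart on the image induced by a chart on `U₁` -/
def phiUp (φ₁ : MvPolynomial (Fin n) Γ(S, V) →+* Γ((U : Scheme.{u}), U₁)) :
    MvPolynomial (Fin n) Γ(S, V) →+* Γ(X, U.ι ''ᵁ U₁) :=
  (varthetaInv U U₁ hU₁).hom.comp φ₁

lemma phiDown_phiUp (φ₁ : MvPolynomial (Fin n) Γ(S, V) →+* Γ((U : Scheme.{u}), U₁)) :
    phiDown U U₁ hU₁ (phiUp U U₁ hU₁ φ₁) = φ₁ := by
  dsimp only [phiDown, phiUp]
  rw [← RingHom.comp_assoc, ← CommRingCat.hom_comp, varthetaInv_comp]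
  rfl

lemma cMap_phiDown (φ₂ : MvPolynomial (Fin n) Γ(S, V) →+* Γ(X, U.ι ''ᵁ U₁)) :
    cMap U₁ (phiDown U U₁ hU₁ φ₂) = (eps U U₁).hom ≫ cMap (U.ι ''ᵁ U₁) φ₂ := by
  dsimp only [cMap]
  rw [← toSpecΓ_map_vartheta_assoc U U₁ hU₁, ← Spec.map_comp]
  rfl

lemma isChart_phiDown (h : U.ι ''ᵁ U₁ ≤ f ⁻¹ᵁ V) (h' : U₁ ≤ (U.ι ≫ f) ⁻¹ᵁ V)
    (φ₂ : MvPolynomial (Fin n) Γ(S, V) →+* Γ(X, U.ι ''ᵁ U₁))
    (hφ₂ : DerSch.IsChart f (U.ι ''ᵁ U₁) V h φ₂) :
    DerSch.IsChart (U.ι ≫ f) U₁ V h' (phiDown U U₁ hU₁ φ₂) := by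
  refine ⟨?_, ?_⟩
  · have hs : Function.Surjective (vartheta U U₁ hU₁).hom := by
      intro y
      refine ⟨(varthetaInv U U₁ hU₁).hom y, ?_⟩
      have := congrArg (fun t => t.hom y) (varthetaInv_comp U U₁ hU₁)
      exact this
    exact hs.comp hφ₂.1
  · dsimp only [phiDown]
    rw [RingHom.comp_assoc, hφ₂.2, ← CommRingCat.hom_comp, appLE_vartheta f U U₁ hU₁ V h h']

lemma isChart_phiUp (h : U.ι ''ᵁ U₁ ≤ f ⁻¹ᵁ V) (h' : U₁ ≤ (U.ι ≫ f) ⁻¹ᵁ V)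
    (φ₁ : MvPolynomial (Fin n) Γ(S, V) →+* Γ((U : Scheme.{u}), U₁))
    (hφ₁ : DerSch.IsChart (U.ι ≫ f) U₁ V h' φ₁) :
    DerSch.IsChart f (U.ι ''ᵁ U₁) V h (phiUp U U₁ hU₁ φ₁) := by
  refine ⟨?_, ?_⟩
  · have hs : Function.Surjective (varthetaInv U U₁ hU₁).hom := by
      intro y
      refine ⟨(vartheta U U₁ hU₁).hom y, ?_⟩
      have := congrArg (fun t => t.hom y) (vartheta_comp_inv U U₁ hU₁)
      exact this
    exact hs.comp hφ₁.1
  · dsimp only [phiUp]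
    rw [RingHom.comp_assoc, hφ₁.2, ← appLE_vartheta f U U₁ hU₁ V h h', CommRingCat.hom_comp,
      ← RingHom.comp_assoc, ← CommRingCat.hom_comp, vartheta_comp_inv]
    rfl

/-- restriction to `U`, then to `U₁`, transported to the image -/
def restrictImageIso (E : CochainComplex X.Modules ℤ) :
    (DerSch.pushCx (eps U U₁).hom).obj ((DCoh.restrictCx U₁).obj ((DCoh.restrictCx U).obj E)) ≅
      (DCoh.restrictCx (U.ι ''ᵁ U₁)).obj E :=
  (NatIso.mapHomologicalComplex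
    (Functor.isoWhiskerLeft (restrictFunctor U.ι)
        (Functor.isoWhiskerLeft (restrictFunctor U₁.ι) (pushforwardIsoRestrict (eps U U₁))) ≪≫
      (Functor.associator _ _ _).symm ≪≫
      Functor.isoWhiskerRight (restrictFunctorComp U₁.ι U.ι).symm _ ≪≫
      (restrictFunctorComp (eps U U₁).inv (U₁.ι ≫ U.ι)).symm ≪≫
      restrictFunctorCongr (Scheme.Hom.isoImage_inv_ι U.ι U₁)) (ComplexShape.up ℤ)).app E

theorem pcvia_phiDown_iff (φ₂ : MvPolynomial (Fin n) Γ(S, V) →+* Γ(X, U.ι ''ᵁ U₁)) (m : ℤ)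
    (E : CochainComplex X.Modules ℤ) :
    PCvia U₁ (phiDown U U₁ hU₁ φ₂) m ((DCoh.restrictCx U).obj E) ↔
      PCvia (U.ι ''ᵁ U₁) φ₂ m E := by
  have e : (DerSch.pushCx (cMap U₁ (phiDown U U₁ hU₁ φ₂))).obj
      ((DCoh.restrictCx U₁).obj ((DCoh.restrictCx U).obj E)) ≅
      (DerSch.pushCx (cMap (U.ι ''ᵁ U₁) φ₂)).obj ((DCoh.restrictCx (U.ι ''ᵁ U₁)).obj E) :=
    pushCxCongr (cMap_phiDown U U₁ hU₁ φ₂) _ ≪≫
      (pushCxComp (eps U U₁).hom (cMap (U.ι ''ᵁ U₁) φ₂) _).symm ≪≫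
      (DerSch.pushCx (cMap (U.ι ''ᵁ U₁) φ₂)).mapIso (restrictImageIso U U₁ E)
  exact ⟨fun h => isPseudoCoherentD_of_iso (DerivedCategory.Q.mapIso e) h,
    fun h => isPseudoCoherentD_of_iso (DerivedCategory.Q.mapIso e).symm h⟩

include hU₁ in
theorem chartPC_phiDown_iff (h : U.ι ''ᵁ U₁ ≤ f ⁻¹ᵁ V)
    (φ₂ : MvPolynomial (Fin n) Γ(S, V) →+* Γ(X, U.ι ''ᵁ U₁))
    (hφ₂ : Function.Surjective φ₂) (m : ℤ) (E : CochainComplex X.Modules ℤ) :
    DerSch.ChartPC m (DerivedCategory.Q.obj ((DCoh.restrictCx U).obj E)) U₁ V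
        (phiDown U U₁ hU₁ φ₂) ↔
      DerSch.ChartPC m (DerivedCategory.Q.obj E) (U.ι ''ᵁ U₁) V φ₂ := by
  haveI : IsClosedImmersion (cMap (U.ι ''ᵁ U₁) φ₂) :=
    isClosedImmersion_cMap (hU₁.image_of_isOpenImmersion U.ι) φ₂ hφ₂
  have hs : Function.Surjective (phiDown U U₁ hU₁ φ₂) := by
    have hs : Function.Surjective (vartheta U U₁ hU₁).hom := by
      intro y
      refine ⟨(varthetaInv U U₁ hU₁).hom y, ?_⟩
      have := congrArg (fun t => t.hom y) (varthetaInv_comp U U₁ hU₁)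
      exact this
    exact hs.comp hφ₂
  haveI : IsClosedImmersion (cMap U₁ (phiDown U U₁ hU₁ φ₂)) :=
    isClosedImmersion_cMap hU₁ _ hs
  rw [chartPC_iff_phi, chartPC_iff_phi, ← pcvia_iff_phi, ← pcvia_iff_phi, pcvia_phiDown_iff]

include hU₁ in
/-- **charts on an open subscheme and on the ambient scheme** -/
theorem hasChart_restrict_iff (V : S.Opens) (m : ℤ) (E : CochainComplex X.Modules ℤ) :
    HasChart (U.ι ≫ f) m (DerivedCategory.Q.obj ((DCoh.restrictCx U).obj E)) U₁ V ↔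
      HasChart f m (DerivedCategory.Q.obj E) (U.ι ''ᵁ U₁) V := by
  have hle : U₁ ≤ (U.ι ≫ f) ⁻¹ᵁ V ↔ U.ι ''ᵁ U₁ ≤ f ⁻¹ᵁ V := by
    rw [Scheme.Hom.comp_preimage]
    constructor
    · intro h
      exact (Scheme.Hom.image_mono U.ι h).trans (Scheme.Hom.image_preimage_le U.ι _)
    · intro h
      have := Scheme.Hom.preimage_mono U.ι h
      rwa [Scheme.Hom.preimage_image_eq] at this
  constructor
  · rintro ⟨h', n, φ₁, hφ₁, hc⟩
    have h := hle.1 h'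
    have hφ₂ := isChart_phiUp f U U₁ hU₁ h h' φ₁ hφ₁
    refine ⟨h, n, phiUp U U₁ hU₁ φ₁, hφ₂, ?_⟩
    rw [← chartPC_phiDown_iff f U U₁ hU₁ h _ hφ₂.1, phiDown_phiUp]
    exact hc
  · rintro ⟨h, n, φ₂, hφ₂, hc⟩
    have h' := hle.2 h
    exact ⟨h', n, phiDown U U₁ hU₁ φ₂, isChart_phiDown f U U₁ hU₁ h h' φ₂ hφ₂,
      (chartPC_phiDown_iff f U U₁ hU₁ h φ₂ hφ₂.1 m E).2 hc⟩

end Transfer

section Main

/-- **restriction to an open of the source** -/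
theorem rel_restrict (n : ℤ) (E : CochainComplex X.Modules ℤ)
    (hE : DerSch.IsPseudoCoherentRel f n (DerivedCategory.Q.obj E)) :
    DerSch.IsPseudoCoherentRel (U.ι ≫ f) n
      (DerivedCategory.Q.obj ((DCoh.restrictCx U).obj E)) := by
  haveI : LocallyOfFiniteType f := hE.1
  haveI : LocallyOfFiniteType (U.ι ≫ f) := inferInstance
  rw [rel_iff] at hE ⊢
  intro U₁ V h'
  have h : U.ι ''ᵁ (U₁ : (U : Scheme.{u}).Opens) ≤ f ⁻¹ᵁ (V : S.Opens) := by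
    rw [Scheme.Hom.comp_preimage] at h'
    exact (Scheme.Hom.image_mono U.ι h').trans (Scheme.Hom.image_preimage_le U.ι _)
  obtain ⟨k, φ, hφ, hc⟩ := hE ⟨U.ι ''ᵁ (U₁ : (U : Scheme.{u}).Opens),
    U₁.2.image_of_isOpenImmersion U.ι⟩ V h
  obtain ⟨_, k', ψ, hψ, hcψ⟩ := (hasChart_restrict_iff f U U₁ U₁.2 V n E).2 ⟨h, k, φ, hφ, hc⟩
  exact ⟨k', ψ, hψ, hcψ⟩

/-- **relative pseudo-coherence may be tested on an open covering of the source** -/
theorem rel_of_openCover [LocallyOfFiniteType f] (n : ℤ) (E : CochainComplex X.Modules ℤ)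
    {ι : Type u} (W : ι → X.Opens) (hW : ⨆ i, W i = ⊤)
    (h : ∀ i : ι, DerSch.IsPseudoCoherentRel ((W i).ι ≫ f) n
      (DerivedCategory.Q.obj ((DCoh.restrictCx (W i)).obj E))) :
    DerSch.IsPseudoCoherentRel f n (DerivedCategory.Q.obj E) := by
  rw [rel_iff]
  intro U₀ V h₀
  have hft : (f.appLE (V : S.Opens) (U₀ : X.Opens) h₀).hom.FiniteType :=
    HasRingHomProperty.appLE (P := @LocallyOfFiniteType) f inferInstance V U₀ h₀
  have key := hasChart_of_cover f U₀.2 h₀ hft n (DerivedCategory.Q.obj E) (fun x hx => ?_)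
  · obtain ⟨_, k, φ, hφ, hc⟩ := key
    exact ⟨k, φ, hφ, hc⟩
  · have hx' : x ∈ (⨆ i, W i : X.Opens) := by rw [hW]; trivial
    obtain ⟨i, hxi⟩ := TopologicalSpace.Opens.mem_iSup.1 hx'
    obtain ⟨g, hgle, hxg⟩ := U₀.2.exists_basicOpen_le (V := W i) ⟨x, hxi⟩ hx
    refine ⟨g, hxg, ?_⟩
    haveI : LocallyOfFiniteType ((W i).ι ≫ f) := inferInstance
    have hi := (rel_iff ((W i).ι ≫ f) n _).1 (h i)
    let U₁ : (W i : Scheme.{u}).Opens := (W i).ι ⁻¹ᵁ X.basicOpen g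
    have hU₁ : IsAffineOpen U₁ :=
      (U₀.2.basicOpen g).preimage_of_isOpenImmersion (W i).ι (by
        rw [Scheme.Opens.opensRange_ι]
        exact hgle)
    have himg : (W i).ι ''ᵁ U₁ = X.basicOpen g := by
      rw [Scheme.Hom.image_preimage_eq_opensRange_inf, Scheme.Opens.opensRange_ι]
      exact inf_eq_right.2 hgle
    have hle : U₁ ≤ ((W i).ι ≫ f) ⁻¹ᵁ (V : S.Opens) := by
      rw [Scheme.Hom.comp_preimage]
      exact Scheme.Hom.preimage_mono (W i).ι ((X.basicOpen_le g).trans h₀)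
    obtain ⟨k, φ, hφ, hc⟩ := hi ⟨U₁, hU₁⟩ V hle
    have h2 := (hasChart_restrict_iff f (W i) U₁ hU₁ (V : S.Opens) n E).1 ⟨hle, k, φ, hφ, hc⟩
    exact himg ▸ h2

end Main

end

end Groth.Agent.Helper9.Chart11
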