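import Mathlib
import Groth.Prelude.Def_DualSh
import Groth.Prelude.Def_DerSch2
import Groth.Prelude.Def_DerCA
import Groth.Agent.Helper9.Chart18
import Groth.Agent.Helper9.FP4
import Groth.Agent.S6984

/-! Relative pseudo-coherence and direct image along a finite morphism. -/

set_option autoImplicit false
set_option linter.style.haveILetI false
set_option linter.unusedVariables false
set_option linter.unusedSectionVars false
universe u

namespace Groth.Agent.Helper9.Chart19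

noncomputable section

open CategoryTheory CategoryTheory.Limits AlgebraicGeometry HomologicalComplex Pretriangulated
open Groth.Agent.Lead.PcLib Scheme.Modules

attribute [local instance] HasDerivedCategory.standard

variable {X Y S : Scheme.{u}}

/-- the morphism `Spec Γ(X, π⁻¹W) ⟶ Spec Γ(Y, W)` induced by `π` is `Spec` of the map on sections -/
theorem conj_eq_specMap (π : X ⟶ Y) {W : Y.Opens} (hW : IsAffineOpen W)
    (hU : IsAffineOpen (π ⁻¹ᵁ W)) :
    hU.isoSpec.symm.hom ≫ (π ∣_ W) ≫ hW.isoSpec.symm.inv =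
      Spec.map (π.appLE W (π ⁻¹ᵁ W) le_rfl) := by
  haveI : Mono hW.fromSpec := inferInstance
  rw [← cancel_mono hW.fromSpec, hW.SpecMap_appLE_fromSpec π hU le_rfl]
  simp only [IsAffineOpen.fromSpec, Iso.symm_hom, Iso.symm_inv, Category.assoc,
    Iso.hom_inv_id_assoc, morphismRestrict_ι]

/-- the chart test on `(π⁻¹W, V)` for `E` and on `(W, V)` for `Rπ_* E` -/
theorem finite_local_iff (p : X ⟶ S) (q : Y ⟶ S) [LocallyOfFiniteType p]
    [LocallyOfFiniteType q] (π : X ⟶ Y) [IsFinite π] (w : π ≫ q = p) [DCoh.HasRpush π] (m : ℤ)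
    (E : DCoh.D X) (hE : DCoh.IsQCohD E) {W : Y.Opens} (hW : IsAffineOpen W) {V : S.Opens}
    (hV : IsAffineOpen V) (h : W ≤ q ⁻¹ᵁ V) (h' : π ⁻¹ᵁ W ≤ p ⁻¹ᵁ V) :
    (∃ (n : ℕ) (φ : MvPolynomial (Fin n) Γ(S, V) →+* Γ(X, π ⁻¹ᵁ W)),
      DerSch.IsChart p (π ⁻¹ᵁ W) V h' φ ∧ DerSch.ChartPC m E (π ⁻¹ᵁ W) V φ) ↔
    (∃ (n : ℕ) (φ : MvPolynomial (Fin n) Γ(S, V) →+* Γ(Y, W)),
      DerSch.IsChart q W V h φ ∧ DerSch.ChartPC m ((DCoh.Rpush π).obj E) W V φ) := by
  have hU : IsAffineOpen (π ⁻¹ᵁ W) := hW.preimage π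
  let A : CommRingCat.{u} := Γ(S, V)
  let B : CommRingCat.{u} := Γ(Y, W)
  let C : CommRingCat.{u} := Γ(X, π ⁻¹ᵁ W)
  let ψW : Spec B ≅ (W : Scheme.{u}) := hW.isoSpec.symm
  let ψU : Spec C ≅ ((π ⁻¹ᵁ W : X.Opens) : Scheme.{u}) := hU.isoSpec.symm
  let hh : Spec C ⟶ Spec B := ψU.hom ≫ (π ∣_ W) ≫ ψW.inv
  let φ : B ⟶ C := π.appLE W (π ⁻¹ᵁ W) le_rfl
  have hφ : hh = Spec.map φ := conj_eq_specMap π hW hU
  haveI : DCoh.HasRpush hh := Groth.Agent.Helper4.HasRD.hasRpush _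
  haveI : PreservesFiniteLimits (tilde.functor B) :=
    Groth.Agent.Helper4.TildeExact.preservesFiniteLimits_tilde _
  haveI : PreservesFiniteLimits (tilde.functor C) :=
    Groth.Agent.Helper4.TildeExact.preservesFiniteLimits_tilde _
  haveI : PreservesFiniteLimits (tilde.functor Γ(Y, W)) :=
    Groth.Agent.Helper4.TildeExact.preservesFiniteLimits_tilde _
  haveI : PreservesFiniteLimits (tilde.functor Γ(X, π ⁻¹ᵁ W)) :=
    Groth.Agent.Helper4.TildeExact.preservesFiniteLimits_tilde _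
  -- `E` restricted to `U` comes from a complex of modules
  have hEU : DCoh.IsQCohD ((DCoh.restrictD (ψU.hom ≫ (π ⁻¹ᵁ W).ι)).obj E) :=
    QP7.isQCohD_restrictD _ E hE
  obtain ⟨M, ⟨eM⟩⟩ := QcLpull1.exists_iso_tildeD C _ hEU
  obtain ⟨e2⟩ := FP2.nonempty_bc_iso π W ψW ψU E
  obtain ⟨e3⟩ := FP3.nonempty_Rpush_tildeD_iso φ hh hφ M
  let N : Dual.D B := (DRing.restrictD φ.hom).obj M
  have eN : (DCoh.tildeD B).obj N ≅ (DCoh.restrictD hW.fromSpec).obj ((DCoh.Rpush π).obj E) :=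
    e3.symm ≪≫ (DCoh.Rpush hh).mapIso eM ≪≫ e2.symm
  have eM' : (DCoh.tildeD C).obj M ≅ (DCoh.restrictD hU.fromSpec).obj E := eM
  rw [Chart18.exists_chart_iff_ring' p hU hV h' m E M eM',
    Chart18.exists_chart_iff_ring' q hW hV h m _ N eN]
  -- the ring-level statement
  letI algAB : Algebra A B := (q.appLE V W h).hom.toAlgebra
  letI algAC : Algebra A C := (p.appLE V (π ⁻¹ᵁ W) h').hom.toAlgebra
  letI algBC : Algebra B C := φ.hom.toAlgebra
  haveI : IsScalarTower A B C := by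
    refine IsScalarTower.of_algebraMap_eq' ?_
    show (p.appLE V (π ⁻¹ᵁ W) h').hom = φ.hom.comp (q.appLE V W h).hom
    subst w
    rw [← CommRingCat.hom_comp, Scheme.Hom.appLE_comp_appLE]
  haveI : Algebra.FiniteType A B :=
    HasRingHomProperty.appLE (P := @LocallyOfFiniteType) q inferInstance ⟨V, hV⟩ ⟨W, hW⟩ h
  haveI : Algebra.FiniteType A C :=
    HasRingHomProperty.appLE (P := @LocallyOfFiniteType) p inferInstance ⟨V, hV⟩ ⟨_, hU⟩ h'
  haveI : Module.Finite B C := by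
    have h1 : (π.app W).hom.Finite := IsFinite.finite_app π W hW
    have h2 : π.app W = φ := Scheme.Hom.app_eq_appLE π
    rw [h2] at h1
    exact h1
  exact (Groth.Agent.S6984.result (R := A) (A := B) (B := C) M m).1

/-- **relative pseudo-coherence and direct image along a finite morphism** -/
theorem rel_iff_Rpush_of_isFinite (p : X ⟶ S) (q : Y ⟶ S) [LocallyOfFiniteType p]
    [LocallyOfFiniteType q] (π : X ⟶ Y) [IsFinite π] (w : π ≫ q = p) [DCoh.HasRpush π] (m : ℤ)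
    (E : DCoh.D X) (hE : DCoh.IsQCohD E) :
    DerSch.IsPseudoCoherentRel p m E ↔
      DerSch.IsPseudoCoherentRel q m ((DCoh.Rpush π).obj E) := by
  have hle : ∀ {W : Y.Opens} {V : S.Opens}, W ≤ q ⁻¹ᵁ V → π ⁻¹ᵁ W ≤ p ⁻¹ᵁ V := by
    intro W V h x hx
    subst w
    exact h hx
  constructor
  · intro hp
    rw [Chart6.rel_iff q]
    intro W V h
    rw [Chart6.rel_iff p] at hp
    exact (finite_local_iff p q π w m E hE W.2 V.2 h (hle h)).1
      (hp ⟨_, W.2.preimage π⟩ V (hle h))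
  · intro hq
    rw [Chart6.rel_iff q] at hq
    refine ⟨inferInstance, Set.univ, ?_, fun V _ => ?_⟩
    · rw [eq_top_iff]
      intro s _
      obtain ⟨_, ⟨V, hV, rfl⟩, hsV, -⟩ :=
        (S.isBasis_affineOpens).exists_subset_of_mem_open (Set.mem_univ s) isOpen_univ
      simp only [TopologicalSpace.Opens.mem_iSup]
      exact ⟨⟨V, hV⟩, Set.mem_univ _, hsV⟩
    · refine ⟨{U | ∃ W : Y.affineOpens, (W : Y.Opens) ≤ q ⁻¹ᵁ (V : S.Opens) ∧
          (U : X.Opens) = π ⁻¹ᵁ (W : Y.Opens)}, ?_, ?_⟩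
      · apply le_antisymm
        · refine iSup₂_le ?_
          rintro U ⟨W, hWV, hUW⟩
          rw [hUW]
          exact hle hWV
        · intro x hx
          have hx' : π.base x ∈ q ⁻¹ᵁ (V : S.Opens) := by
            subst w
            exact hx
          obtain ⟨_, ⟨W, hW, rfl⟩, hxW, hWV⟩ :=
            (Y.isBasis_affineOpens).exists_subset_of_mem_open hx' (q ⁻¹ᵁ (V : S.Opens)).2
          simp only [TopologicalSpace.Opens.mem_iSup]
          exact ⟨⟨_, hW.preimage π⟩, ⟨⟨W, hW⟩, hWV, rfl⟩, hxW⟩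
      · rintro ⟨U, hU⟩ ⟨W, hWV, hUW⟩ h
        change U = π ⁻¹ᵁ (W : Y.Opens) at hUW
        subst hUW
        exact (finite_local_iff p q π w m E hE W.2 V.2 hWV h).2 (hq W V hWV)

end

end Groth.Agent.Helper9.Chart19
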