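import Mathlib
import Groth.Prelude.Def_DRing2
import Groth.Prelude.Def_DDual2
import Groth.Agent.Helper3.DRingRestr2

/-! Restriction of scalars along `A → B` with `B` only `s`-pseudo-coherent over `A`:
an `m`-pseudo-coherent object of `D(B)` which is acyclic above `b` restricts to a
`max m (s + b)`-pseudo-coherent object of `D(A)`. -/

set_option autoImplicit false
set_option linter.style.haveILetI false
set_option linter.unusedVariables false
set_option linter.unusedSectionVars false
universe u

namespace Groth.Agent.Helper9.FinTrans1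

open CategoryTheory CategoryTheory.Limits Pretriangulated DerivedCategory
open Groth.Agent.Helper3.DRingLib

attribute [local instance] HasDerivedCategory.standard

variable {A B : Type u} [CommRing A] [CommRing B] [Algebra A B]

/-- the restriction of a finite free `B`-module is `s`-pseudo-coherent over `A` -/
lemma isPC_rF_of_finite_free (s : ℤ) (hB : DRing.IsPseudoCoherent A s (Dual.inD A B))
    (M : ModuleCat.{u} B) [Module.Finite B M] [Module.Free B M] :
    DRing.IsPseudoCoherent A s
      ((singleFunctor (ModuleCat.{u} A) 0).obj ((rF (algebraMap A B)).obj M)) := by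
  refine finite_free_induction
    (fun M => DRing.IsPseudoCoherent A s
      ((singleFunctor (ModuleCat.{u} A) 0).obj ((rF (algebraMap A B)).obj M)))
    (fun e h => isPseudoCoherent_of_iso ((singleFunctor (ModuleCat.{u} A) 0).mapIso
      ((rF (algebraMap A B)).mapIso e)) h)
    (fun M hM => isPseudoCoherent_of_isZero _
      (Functor.map_isZero _ (Functor.map_isZero _ hM)) _)
    (fun S hS h1 h3 => restr_single_ext (fun K => DRing.IsPseudoCoherent A s K)
      (fun T hT h1 h3 => isPseudoCoherent_obj₂ T hT s h1 h3) S hS h1 h3) ?_ M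
  exact isPseudoCoherent_of_iso ((singleFunctor (ModuleCat.{u} A) 0).mapIso
    (restrictSelfEquiv (A := A) (B := B)).toModuleIso.symm) hB

/-- the restriction of a bounded complex of finite free `B`-modules placed in `[a, b]` is
`(s + b)`-pseudo-coherent over `A` -/
theorem rD_isPseudoCoherent_of_isBFF (s : ℤ) (hB : DRing.IsPseudoCoherent A s (Dual.inD A B))
    {a b : ℤ} {X : Dual.D B} (hX : IsBFF a b X) :
    DRing.IsPseudoCoherent A (s + b) ((DRing.restrictD (algebraMap A B)).obj X) := by
  obtain ⟨E, hv, hff, ⟨e⟩⟩ := hX
  refine isPseudoCoherent_of_iso ((DRing.restrictD (algebraMap A B)).mapIso e) ?_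
  refine isPseudoCoherent_of_iso
    ((ModuleCat.restrictScalars.{u} (algebraMap A B)).mapDerivedCategoryFactors.app E).symm ?_
  refine isPseudoCoherent_of_termwise' (s + b) _ b (fun i hi => ?_) (fun i => ?_)
  · exact Functor.map_isZero (ModuleCat.restrictScalars.{u} (algebraMap A B)) (hv i (Or.inr hi))
  · show DRing.IsPseudoCoherent A (s + b - i)
      ((singleFunctor (ModuleCat.{u} A) 0).obj ((rF (algebraMap A B)).obj (E.X i)))
    by_cases hi : i ≤ b
    · obtain ⟨h1, h2⟩ := hff i
      exact isPseudoCoherent_of_le (by omega) (isPC_rF_of_finite_free s hB (E.X i))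
    · exact isPseudoCoherent_of_isZero _
        (Functor.map_isZero (singleFunctor (ModuleCat.{u} A) 0)
          (Functor.map_isZero (rF (algebraMap A B)) (hv i (Or.inr (by omega))))) _

theorem rD_isPseudoCoherent_fin_aux (s : ℤ) (hB : DRing.IsPseudoCoherent A s (Dual.inD A B))
    (m : ℤ) (n : ℕ) : ∀ (K : Dual.D B) (b : ℤ), K.IsLE b → b < m + n →
    DRing.IsPseudoCoherent B m K →
    DRing.IsPseudoCoherent A (max m (s + b)) ((DRing.restrictD (algebraMap A B)).obj K) := by
  induction n with
  | zero =>
    intro K b hb hbm _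
    have : K.IsLE (m - 1) := TStructure.t.isLE_of_le _ b (m - 1) (by simp at hbm; omega)
    have : ((DRing.restrictD (algebraMap A B)).obj K).IsLE (m - 1) :=
      (rD_isLE_iff (algebraMap A B) K (m - 1)).mpr this
    exact isPseudoCoherent_of_le (le_max_left _ _) (isPseudoCoherent_of_isLE _ m)
  | succ n ih =>
    intro K b hb hbm h
    by_cases hbm' : b < m
    · have : K.IsLE (m - 1) := TStructure.t.isLE_of_le _ b (m - 1) (by omega)
      have : ((DRing.restrictD (algebraMap A B)).obj K).IsLE (m - 1) :=
        (rD_isLE_iff (algebraMap A B) K (m - 1)).mpr this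
      exact isPseudoCoherent_of_le (le_max_left _ _) (isPseudoCoherent_of_isLE _ m)
    have hfin : Module.Finite B (Dual.HD B K b) :=
      finite_HD_of_isPseudoCoherent _ b (isPseudoCoherent_of_le (by omega) h)
    obtain ⟨X, α, hX, hα⟩ := exists_single_approx' K b hfin
    obtain ⟨K₁, p, d, hT⟩ := distinguished_cocone_triangle α
    have hK₁ : K₁.IsLE (b - 1) := (isApprox_iff_isLE _ hT b).mp hα
    have hK₁pc : DRing.IsPseudoCoherent B m K₁ :=
      isPseudoCoherent_obj₃ _ hT m (isPseudoCoherent_of_isBFF hX (m + 1)) h
    have h1 := ih K₁ (b - 1) hK₁ (by push_cast at hbm; omega) hK₁pc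
    have h2 := rD_isPseudoCoherent_of_isBFF s hB hX
    have hT' := (DRing.restrictD (algebraMap A B)).map_distinguished _ hT
    exact isPseudoCoherent_obj₂ _ hT' (max m (s + b))
      (isPseudoCoherent_of_le (le_max_right _ _) h2)
      (isPseudoCoherent_of_le (max_le_max le_rfl (by omega)) h1)

/-- **restriction of scalars, finite level** -/
theorem rD_isPseudoCoherent_fin (s : ℤ) (hB : DRing.IsPseudoCoherent A s (Dual.inD A B))
    (m b : ℤ) (K : Dual.D B) [K.IsLE b] (h : DRing.IsPseudoCoherent B m K) :
    DRing.IsPseudoCoherent A (max m (s + b)) ((DRing.restrictD (algebraMap A B)).obj K) :=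
  rD_isPseudoCoherent_fin_aux s hB m (b - m + 1).toNat K b inferInstance (by omega) h

end Groth.Agent.Helper9.FinTrans1
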