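import Mathlib
import Groth.Prelude.Def_DRing2
import Groth.Prelude.Def_DDual2
import Groth.Prelude.Def_DerCA
import Groth.Agent.Helper9.FinTrans1
import Groth.Agent.Helper3.DRingPolyBC
import Groth.Agent.Helper3.DRingRelPC
import Groth.Agent.Helper3.DRingFinStep

/-! Transitivity of relative pseudo-coherence, finite level: if `A` is `s`-pseudo-coherent
relative to `R` and `K ∈ D(B)`, acyclic above `b`, is `r`-pseudo-coherent relative to `A`, then
`K` is `max r (s + b)`-pseudo-coherent relative to `R`. -/

set_option autoImplicit false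
set_option linter.style.haveILetI false
set_option linter.unusedVariables false
set_option linter.unusedSectionVars false
universe u

namespace Groth.Agent.Helper9.FinTrans2

open CategoryTheory CategoryTheory.Limits Pretriangulated DerivedCategory TensorProduct
open Groth.Agent.Helper3.DRingLib Groth.Agent.Helper9.FinTrans1

attribute [local instance] HasDerivedCategory.standard

section Poly

variable {P A : Type u} [CommRing P] [CommRing A] [Algebra P A] (σ : Type)

theorem isPseudoCoherent_mvPolynomial (s : ℤ) (hA : DRing.IsPseudoCoherent P s (Dual.inD P A)) :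
    letI := (MvPolynomial.map (σ := σ) (algebraMap P A)).toAlgebra
    DRing.IsPseudoCoherent (MvPolynomial σ P) s
      (Dual.inD (MvPolynomial σ P) (MvPolynomial σ A)) := by
  letI := (MvPolynomial.map (σ := σ) (algebraMap P A)).toAlgebra
  have h1 := bcD_isPseudoCoherent (MvPolynomial σ P) hA
  have h2 := isPseudoCoherent_of_iso (bcDInD (MvPolynomial σ P) A) h1
  exact isPseudoCoherent_of_iso
    ((DerivedCategory.singleFunctor (ModuleCat.{u} (MvPolynomial σ P)) 0).mapIso
      (mvPolyTensorEquiv (P := P) (A := A) σ).toModuleIso) h2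

end Poly

/-- **transitivity of relative pseudo-coherence, finite level** -/
theorem relPC_trans {R A B : Type u} [CommRing R] [CommRing A] [CommRing B] [Algebra R A]
    [Algebra A B] [Algebra R B] [IsScalarTower R A B] (s r b : ℤ)
    (hA : DerCA.IsRelPseudoCoherent R A s (Dual.inD A A)) (K : Dual.D B) [K.IsLE b]
    (hK : DerCA.IsRelPseudoCoherent A B r K) :
    DerCA.IsRelPseudoCoherent R B (max r (s + b)) K := by
  obtain ⟨n, α, hα, hA1⟩ := hA
  obtain ⟨k, β, hβ, hK1⟩ := hK
  letI algPA : Algebra (MvPolynomial (Fin n) R) A := α.toRingHom.toAlgebra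
  -- `A` is `s`-pseudo-coherent over `P_n`
  have hA' : DRing.IsPseudoCoherent (MvPolynomial (Fin n) R) s
      (Dual.inD (MvPolynomial (Fin n) R) A) := by
    unfold DerCA.IsRelPseudoCoherentVia at hA1
    have h2 := isPseudoCoherent_of_iso
      (rDSingle (α : MvPolynomial (Fin n) R →+* A) 0 (ModuleCat.of A A)) hA1
    exact isPseudoCoherent_of_iso
      ((DerivedCategory.singleFunctor (ModuleCat.{u} (MvPolynomial (Fin n) R)) 0).mapIso
        (restrictSelfEquiv (A := MvPolynomial (Fin n) R) (B := A)).toModuleIso) h2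
  have hAy := isPseudoCoherent_mvPolynomial (Fin k) s hA'
  let eAlg : MvPolynomial (Fin (k + n)) R ≃ₐ[R] MvPolynomial (Fin k) (MvPolynomial (Fin n) R) :=
    (MvPolynomial.renameEquiv R finSumFinEquiv.symm).trans (MvPolynomial.sumAlgEquiv R (Fin k) (Fin n))
  let γ : MvPolynomial (Fin (k + n)) R →ₐ[R] B :=
    ((β.restrictScalars R).comp (MvPolynomial.mapAlgHom α)).comp eAlg.toAlgHom
  have hγ : Function.Surjective γ := by
    intro b
    obtain ⟨t, rfl⟩ := hβ b
    obtain ⟨s, rfl⟩ := MvPolynomial.map_surjective (α : MvPolynomial (Fin n) R →+* A) hα t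
    obtain ⟨p, rfl⟩ := eAlg.surjective s
    exact ⟨p, rfl⟩
  have hγ' : (γ : MvPolynomial (Fin (k + n)) R →+* B) =
      ((β : MvPolynomial (Fin k) A →+* B).comp
        (MvPolynomial.map (algebraMap (MvPolynomial (Fin n) R) A))).comp
        eAlg.toRingEquiv.toRingHom := rfl
  refine ⟨k + n, γ, hγ, ?_⟩
  unfold DerCA.IsRelPseudoCoherentVia at hK1 ⊢
  rw [hγ', goodHom_ringEquiv eAlg.toRingEquiv B _ K (max r (s + b))]
  letI := (MvPolynomial.map (σ := Fin k) (algebraMap (MvPolynomial (Fin n) R) A)).toAlgebra
  refine isPseudoCoherent_of_iso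
    (rDComp (MvPolynomial.map (σ := Fin k) (algebraMap (MvPolynomial (Fin n) R) A))
      (β : MvPolynomial (Fin k) A →+* B) K).symm ?_
  haveI : ((DRing.restrictD (β : MvPolynomial (Fin k) A →+* B)).obj K).IsLE b :=
    (rD_isLE_iff (β : MvPolynomial (Fin k) A →+* B) K b).mpr inferInstance
  exact rD_isPseudoCoherent_fin s hAy r b _ hK1

end Groth.Agent.Helper9.FinTrans2
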