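import Mathlib
import Groth.Prelude.Def_DualSh
import Groth.Prelude.Def_DerSch2
import Groth.Prelude.Def_DerCA
import Groth.Agent.Helper9.Chart18
import Groth.Agent.Helper9.FP4
import Groth.Agent.Helper9.FinTrans2

/-! Composition of an `r`-pseudo-coherent and an `s`-pseudo-coherent morphism. -/

set_option autoImplicit false
set_option linter.style.haveILetI false
set_option linter.unusedVariables false
set_option linter.unusedSectionVars false
universe u

namespace Groth.Agent.Helper9.Chart20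

noncomputable section

open CategoryTheory CategoryTheory.Limits AlgebraicGeometry HomologicalComplex Pretriangulated
open Groth.Agent.Lead.PcLib Scheme.Modules

attribute [local instance] HasDerivedCategory.standard

variable {X Y Z : Scheme.{u}}

/-- the structure sheaf on an affine open -/
def unitSecIso {U : X.Opens} (hU : IsAffineOpen U)
    [PreservesFiniteLimits (tilde.functor Γ(X, U))] :
    (DCoh.tildeD Γ(X, U)).obj (Dual.inD Γ(X, U) Γ(X, U)) ≅
      (DCoh.restrictD hU.fromSpec).obj (DCoh.toD X (DerSch.unitCx X)) :=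
  FP3.tildeDInDIso (B := Γ(X, U)) ≪≫ (FP4.restrictDInDUnitIso hU.fromSpec).symm ≪≫
    (DCoh.restrictD hU.fromSpec).mapIso
      ((DerivedCategory.singleFunctorIsoCompQ X.Modules 0).app (Coh.structureModule X))

/-- the chart test for the structure sheaf, ring level -/
theorem unit_chart_iff (f : X ⟶ Y) {U : X.Opens} (hU : IsAffineOpen U) {V : Y.Opens}
    (hV : IsAffineOpen V) (h : U ≤ f ⁻¹ᵁ V) (m : ℤ) :
    (∃ (n : ℕ) (φ : MvPolynomial (Fin n) Γ(Y, V) →+* Γ(X, U)),
      DerSch.IsChart f U V h φ ∧ DerSch.ChartPC m (DCoh.toD X (DerSch.unitCx X)) U V φ) ↔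
      (letI := (f.appLE V U h).hom.toAlgebra
       DerCA.IsRelPseudoCoherent Γ(Y, V) Γ(X, U) m (Dual.inD Γ(X, U) Γ(X, U))) := by
  haveI : PreservesFiniteLimits (tilde.functor Γ(X, U)) :=
    Groth.Agent.Helper4.TildeExact.preservesFiniteLimits_tilde _
  exact Chart18.exists_chart_iff_ring' f hU hV h m _ _ (unitSecIso hU)

/-- **composition of `r`- and `s`-pseudo-coherent morphisms** -/
theorem isNPseudoCoherent_comp (f : X ⟶ Y) (g : Y ⟶ Z) [LocallyOfFiniteType f]
    [LocallyOfFiniteType g] (r s : ℤ) (hf : DerSch.IsNPseudoCoherent f r)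
    (hg : DerSch.IsNPseudoCoherent g s) : DerSch.IsNPseudoCoherent (f ≫ g) (max r s) := by
  have hf' := (Chart6.rel_iff f r _).1 hf
  have hg' := (Chart6.rel_iff g s _).1 hg
  refine ⟨inferInstance, Set.univ, ?_, fun W _ => ?_⟩
  · rw [eq_top_iff]
    intro z _
    obtain ⟨_, ⟨W, hW, rfl⟩, hzW, -⟩ :=
      (Z.isBasis_affineOpens).exists_subset_of_mem_open (Set.mem_univ z) isOpen_univ
    simp only [TopologicalSpace.Opens.mem_iSup]
    exact ⟨⟨W, hW⟩, Set.mem_univ _, hzW⟩
  · refine ⟨{U | ∃ V : Y.affineOpens, (V : Y.Opens) ≤ g ⁻¹ᵁ (W : Z.Opens) ∧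
        (U : X.Opens) ≤ f ⁻¹ᵁ (V : Y.Opens)}, ?_, ?_⟩
    · apply le_antisymm
      · refine iSup₂_le ?_
        rintro U ⟨V, hVW, hUV⟩ x hx
        exact hVW (hUV hx)
      · intro x hx
        have hx' : f.base x ∈ g ⁻¹ᵁ (W : Z.Opens) := hx
        obtain ⟨_, ⟨V, hV, rfl⟩, hxV, hVW⟩ :=
          (Y.isBasis_affineOpens).exists_subset_of_mem_open hx' (g ⁻¹ᵁ (W : Z.Opens)).2
        obtain ⟨_, ⟨U, hU, rfl⟩, hxU, hUV⟩ :=
          (X.isBasis_affineOpens).exists_subset_of_mem_open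
            (show x ∈ (f ⁻¹ᵁ V : Set X) from hxV) (f ⁻¹ᵁ V).2
        simp only [TopologicalSpace.Opens.mem_iSup]
        exact ⟨⟨U, hU⟩, ⟨⟨V, hV⟩, hVW, hUV⟩, hxU⟩
    · rintro U ⟨V, hVW, hUV⟩ hUW
      rw [unit_chart_iff (f ≫ g) U.2 W.2 hUW]
      have h1 := (unit_chart_iff f U.2 V.2 hUV r).1 (hf' U V hUV)
      have h2 := (unit_chart_iff g V.2 W.2 hVW s).1 (hg' V W hVW)
      letI algRA : Algebra Γ(Z, (W : Z.Opens)) Γ(Y, (V : Y.Opens)) :=
        (g.appLE (W : Z.Opens) (V : Y.Opens) hVW).hom.toAlgebra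
      letI algAB : Algebra Γ(Y, (V : Y.Opens)) Γ(X, (U : X.Opens)) :=
        (f.appLE (V : Y.Opens) (U : X.Opens) hUV).hom.toAlgebra
      letI algRB : Algebra Γ(Z, (W : Z.Opens)) Γ(X, (U : X.Opens)) :=
        ((f ≫ g).appLE (W : Z.Opens) (U : X.Opens) hUW).hom.toAlgebra
      haveI : IsScalarTower Γ(Z, (W : Z.Opens)) Γ(Y, (V : Y.Opens)) Γ(X, (U : X.Opens)) := by
        refine IsScalarTower.of_algebraMap_eq' ?_
        show ((f ≫ g).appLE (W : Z.Opens) (U : X.Opens) hUW).hom =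
          (f.appLE (V : Y.Opens) (U : X.Opens) hUV).hom.comp
            (g.appLE (W : Z.Opens) (V : Y.Opens) hVW).hom
        rw [← CommRingCat.hom_comp, Scheme.Hom.appLE_comp_appLE]
      haveI : (Dual.inD Γ(X, (U : X.Opens)) Γ(X, (U : X.Opens))).IsLE 0 := by
        unfold Dual.inD
        infer_instance
      have h3 := Groth.Agent.Helper9.FinTrans2.relPC_trans s r 0 h2
        (Dual.inD Γ(X, (U : X.Opens)) Γ(X, (U : X.Opens))) h1
      rw [add_zero] at h3
      exact h3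

end

end Groth.Agent.Helper9.Chart20
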