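import Mathlib
import Groth.Prelude.Def_DerSch
import Groth.Prelude.Def_DCoh4
import Groth.Agent.Helper9.ClImmPF2
import Groth.Agent.Helper9.LTCx1
import Groth.Agent.Helper9.Lpull2

/-! `Rf_*` for a closed immersion; the derived projection formula for a closed immersion. -/

set_option autoImplicit false
set_option linter.style.haveILetI false
set_option linter.unusedVariables false
set_option linter.unusedSectionVars false
set_option linter.unusedSimpArgs false
universe u

namespace Groth.Agent.Helper9.ClImmPF3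

open CategoryTheory CategoryTheory.Limits AlgebraicGeometry Opposite TopologicalSpace
  HomologicalComplex
open Groth.Agent.Helper9.ClImm1 Groth.Agent.Helper9.ClImmPF2

attribute [local instance] HasDerivedCategory.standard

variable {X Y : Scheme.{u}} (f : X ⟶ Y) [IsClosedImmersion f]

/-- the derived direct image along a closed immersion is the termwise direct image -/
noncomputable def rpushNatIso [DCoh.HasRpush f] :
    DCoh.Rpush f ≅ (Scheme.Modules.pushforward f).mapDerivedCategory :=
  haveI := Functor.isRightDerivedFunctor_of_inverts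
    (HomotopyCategory.quasiIso X.Modules (ComplexShape.up ℤ))
    (Scheme.Modules.pushforward f).mapDerivedCategory
    (Scheme.Modules.pushforward f).mapDerivedCategoryFactorsh
  Functor.rightDerivedUnique (DCoh.Rpush f) (Scheme.Modules.pushforward f).mapDerivedCategory
    ((DCoh.pushKh f).totalRightDerivedUnit DerivedCategory.Qh
      (HomotopyCategory.quasiIso X.Modules (ComplexShape.up ℤ)))
    (Scheme.Modules.pushforward f).mapDerivedCategoryFactorsh.inv
    (HomotopyCategory.quasiIso X.Modules (ComplexShape.up ℤ))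

/-- `Rf_* (Q F) ≅ Q (f_* F)` for a closed immersion -/
noncomputable def rpushIso [DCoh.HasRpush f] (F : CochainComplex X.Modules ℤ) :
    (DCoh.Rpush f).obj (DCoh.toD X F) ≅ DCoh.toD Y ((pushCx f).obj F) :=
  (rpushNatIso f).app (DCoh.toD X F) ≪≫
    (Scheme.Modules.pushforward f).mapDerivedCategoryFactors.app F

/-- **the derived projection formula for a closed immersion** and a K-flat complex -/
theorem projection_formula [DCoh.HasRpush f] (P : CochainComplex Y.Modules ℤ)
    (hP : DCoh.IsKFlat P) [DCoh.HasLTensorCx P] [DCoh.HasLTensorCx ((pCx f).obj P)]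
    (E : DCoh.D X) :
    Nonempty ((DCoh.LTensorCx P).obj ((DCoh.Rpush f).obj E) ≅
      (DCoh.Rpush f).obj ((DCoh.LTensorCx ((pCx f).obj P)).obj E)) := by
  let F : CochainComplex X.Modules ℤ := DerivedCategory.Q.objPreimage E
  let e : DerivedCategory.Q.obj F ≅ E := DerivedCategory.Q.objObjPreimageIso E
  have hfP : DCoh.IsKFlat ((pCx f).obj P) := Groth.Agent.Helper9.Lpull2.isKFlat_pullback f P hP
  have i1 : @ModSite.HasLTensorCx _ _ _ Y.sheaf P := ‹DCoh.HasLTensorCx P›
  have i2 : @ModSite.HasLTensorCx _ _ _ X.sheaf ((pCx f).obj P) :=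
    ‹DCoh.HasLTensorCx ((pCx f).obj P)›
  have a1 : (DCoh.LTensorCx P).obj ((DCoh.Rpush f).obj E) ≅
      DerivedCategory.Q.obj ((DCoh.tensorCx.obj ((pushCx f).obj F)).obj P) :=
    (DCoh.LTensorCx P).mapIso ((DCoh.Rpush f).mapIso e.symm ≪≫ rpushIso f F) ≪≫
      (@Groth.Agent.Helper9.LTCx1.ltIso _ _ _ Y.sheaf P i1 hP ((pushCx f).obj F))
  have a2 : (DCoh.Rpush f).obj ((DCoh.LTensorCx ((pCx f).obj P)).obj E) ≅
      DerivedCategory.Q.obj ((pushCx f).obj ((DCoh.tensorCx.obj F).obj ((pCx f).obj P))) :=
    (DCoh.Rpush f).mapIso ((DCoh.LTensorCx ((pCx f).obj P)).mapIso e.symm ≪≫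
      (@Groth.Agent.Helper9.LTCx1.ltIso _ _ _ X.sheaf ((pCx f).obj P) i2 hfP F)) ≪≫
      rpushIso f _
  exact ⟨a1 ≪≫ DerivedCategory.Q.mapIso (projCxIso f F P) ≪≫ a2.symm⟩

end Groth.Agent.Helper9.ClImmPF3
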