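import Mathlib
import Groth.Prelude.Def_W4bk4git07Quot
import Groth.Agent.Helper9.SepQuot

set_option autoImplicit false

namespace Groth.Agent.Helper9.ClosedAct

open CategoryTheory CategoryTheory.Limits AlgebraicGeometry Topology MorphismProperty
open MonoidalCategory CartesianMonoidalCategory

universe u

section ClosedPoint

/-- the image of a section of a morphism to the spectrum of a field is closed -/
theorem isClosed_range_section {B T : Scheme.{u}} (π : B ⟶ T) (s : T ⟶ B) (hs : s ≫ π = 𝟙 T)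
    (Ω : Type u) [Field Ω] (e : T ≅ Spec (CommRingCat.of Ω)) : IsClosed (Set.range s.base) := by
  -- the unique point
  let t₀ : T := e.inv.base default
  have ht₀ : ∀ t : T, t = t₀ := by
    intro t
    have h1 : e.hom.base t = default := Subsingleton.elim _ _
    have h2 : e.inv.base (e.hom.base t) = t := by
      rw [← Scheme.Hom.comp_apply, e.hom_inv_id]; rfl
    rw [← h2, h1]
  let b : B := s.base t₀
  have hrange : Set.range s.base = {b} := by
    ext x
    constructor
    · rintro ⟨t, rfl⟩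
      rw [ht₀ t]; rfl
    · rintro rfl
      exact ⟨t₀, rfl⟩
  rw [hrange]
  rw [← closure_subset_iff_isClosed]
  intro b' hb'
  rw [← specializes_iff_mem_closure] at hb'
  -- affine open around b'
  obtain ⟨_, ⟨U, hU : IsAffineOpen U, rfl⟩, hb'U, -⟩ :=
    B.isBasis_affineOpens.exists_subset_of_mem_open (Set.mem_univ b') isOpen_univ
  have hbU : b ∈ U := hb'.mem_open U.isOpen hb'U
  -- the morphism Spec Ω ⟶ Spec Γ(B, U)
  let σ : Spec (CommRingCat.of Ω) ⟶ B := e.inv ≫ s
  have hσ : Set.range σ.base ⊆ Set.range hU.fromSpec.base := by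
    rintro _ ⟨z, rfl⟩
    rw [hU.range_fromSpec]
    have : σ.base z = b := by
      change s.base (e.inv.base z) = s.base t₀
      rw [ht₀ (e.inv.base z)]
    rw [this]; exact hbU
  let σ' : Spec (CommRingCat.of Ω) ⟶ Spec Γ(B, U) := IsOpenImmersion.lift hU.fromSpec σ hσ
  have hσ' : σ' ≫ hU.fromSpec = σ := IsOpenImmersion.lift_fac _ _ _
  obtain ⟨ψ, hψ⟩ := Spec.map_surjective σ'
  let πU : Spec Γ(B, U) ⟶ Spec (CommRingCat.of Ω) := hU.fromSpec ≫ π ≫ e.hom
  obtain ⟨θ, hθ⟩ := Spec.map_surjective πU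
  have hcomp : σ' ≫ πU = 𝟙 _ := by
    change σ' ≫ hU.fromSpec ≫ π ≫ e.hom = 𝟙 _
    rw [← Category.assoc, hσ']
    change (e.inv ≫ s) ≫ π ≫ e.hom = 𝟙 _
    rw [Category.assoc, ← Category.assoc s, hs, Category.id_comp, e.inv_hom_id]
  have hθψ : θ ≫ ψ = 𝟙 _ := by
    apply Spec.map_injective
    rw [Spec.map_comp, hψ, hθ, hcomp, Spec.map_id]
  have hsurj : Function.Surjective ψ.hom := by
    intro w
    refine ⟨θ.hom w, ?_⟩
    have := congrArg (fun k : CommRingCat.of Ω ⟶ CommRingCat.of Ω => k.hom w) hθψ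
    exact this
  -- primes
  let P : PrimeSpectrum Γ(B, U) := hU.primeIdealOf ⟨b, hbU⟩
  let P' : PrimeSpectrum Γ(B, U) := hU.primeIdealOf ⟨b', hb'U⟩
  have hP : hU.fromSpec.base P = b := hU.fromSpec_primeIdealOf ⟨b, hbU⟩
  have hP' : hU.fromSpec.base P' = b' := hU.fromSpec_primeIdealOf ⟨b', hb'U⟩
  have hspec : P ⤳ P' := by
    have h0 : hU.fromSpec.base P ⤳ hU.fromSpec.base P' := by rw [hP, hP']; exact hb'
    exact (hU.fromSpec.isOpenEmbedding.isInducing.specializes_iff).mp h0
  have hle : P.asIdeal ≤ P'.asIdeal := (PrimeSpectrum.le_iff_specializes P P').mpr hspec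
  have hPker : P = PrimeSpectrum.comap ψ.hom default := by
    apply hU.fromSpec.isOpenEmbedding.injective
    rw [hP]
    have h1 : hU.fromSpec.base (σ'.base default) = σ.base default :=
      congrArg (fun k : Spec (CommRingCat.of Ω) ⟶ B => k.base default) hσ'
    have h2 : σ.base default = b := by
      change s.base (e.inv.base default) = s.base t₀
      rfl
    rw [← h2, ← h1]
    congr 1
    rw [← hψ]
    change PrimeSpectrum.comap ψ.hom _ = PrimeSpectrum.comap ψ.hom _
    exact congrArg (PrimeSpectrum.comap ψ.hom) (Subsingleton.elim _ _)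
  have hmax : P.asIdeal.IsMaximal := by
    rw [hPker]
    haveI : (default : PrimeSpectrum Ω).asIdeal.IsMaximal := by
      haveI := (default : PrimeSpectrum Ω).isPrime
      rw [Ideal.eq_bot_of_prime (default : PrimeSpectrum Ω).asIdeal]
      exact Ideal.bot_isMaximal
    exact Ideal.comap_isMaximal_of_surjective ψ.hom hsurj
  have hPP' : P = P' := PrimeSpectrum.ext (hmax.eq_of_le P'.isPrime.ne_top hle)
  rw [Set.mem_singleton_iff, ← hP', ← hPP', hP]

end ClosedPoint

section Ov

variable {S : Scheme.{u}} {G : Over S} [GrpObj G]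

theorem isPullback_whiskerLeft (R : Over S) {A B : Over S} (f : A ⟶ B) :
    IsPullback (R ◁ f).left (snd R A).left (snd R B).left f.left := by
  refine IsPullback.of_right ?_ (Over.whiskerLeft_left_snd f)
    (IsPullback.of_hasPullback R.hom B.hom)
  rw [Over.whiskerLeft_left_fst, Over.w f]
  exact IsPullback.of_hasPullback R.hom A.hom

variable {X Y T : Over S} (a : AlgGrp.Action G X) (φ : X ⟶ Y) (f : T ⟶ X)

theorem psi_snd : GIT.psi a f ≫ snd X T = snd G T := by
  unfold GIT.psi
  rw [lift_snd]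

theorem psi_fst : GIT.psi a f ≫ fst X T = (G ◁ f) ≫ a.act := by
  unfold GIT.psi
  rw [lift_fst]

theorem psi_comm : (G ◁ f) ≫ GIT.psi a (𝟙 X) = GIT.psi a f ≫ (X ◁ f) := by
  apply CartesianMonoidalCategory.hom_ext
  · rw [Category.assoc, Category.assoc, psi_fst, whiskerLeft_fst, psi_fst,
      MonoidalCategory.whiskerLeft_id, Category.id_comp]
  · rw [Category.assoc, Category.assoc, psi_snd, whiskerLeft_snd, whiskerLeft_snd,
      ← Category.assoc, psi_snd]

theorem isPullback_psi :
    IsPullback (G ◁ f).left (GIT.psi a f).left (GIT.psi a (𝟙 X)).left (X ◁ f).left := by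
  refine IsPullback.of_bot ?_ (congrArg CommaMorphism.left (psi_comm a f))
    (isPullback_whiskerLeft X f)
  have h1 : (GIT.psi a f).left ≫ (snd X T).left = (snd G T).left :=
    congrArg CommaMorphism.left (psi_snd a f)
  have h2 : (GIT.psi a (𝟙 X)).left ≫ (snd X X).left = (snd G X).left :=
    congrArg CommaMorphism.left (psi_snd a (𝟙 X))
  rw [h1, h2]
  exact isPullback_whiskerLeft G f

theorem range_psi :
    Set.range (GIT.psi a f).left.base =
      (X ◁ f).left.base ⁻¹' Set.range (GIT.psi a (𝟙 X)).left.base := by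
  have := Scheme.image_preimage_eq_of_isPullback (isPullback_psi a f) Set.univ
  rw [Set.preimage_univ, Set.image_univ, Set.image_univ] at this
  exact this

theorem range_psi_id (h : GIT.IsGeomQuot a φ) :
    Set.range (GIT.psi a (𝟙 X)).left.base =
      (SepQuot.prodMap φ.left Y.hom X.hom (Over.w φ)).base ⁻¹'
        Set.range (pullback.diagonal Y.hom).base := by
  rw [← SepQuot.range_incl, SepQuot.psi_left_eq a φ h.inv, Scheme.Hom.comp_base, TopCat.coe_comp,
    Set.range_comp, Set.range_eq_univ.2 h.orbit, Set.image_univ]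

end Ov

section Final

variable {S : Scheme.{u}} {G : Over S} [GrpObj G] {X Y T : Over S} (a : AlgGrp.Action G X)
  (φ : X ⟶ Y) (f : T ⟶ X)

/-- `φ × 1 : X ×_S T ⟶ Y ×_S T` -/
noncomputable def uMap :
    pullback X.hom T.hom ⟶ pullback (𝟙 Y.left ≫ Y.hom) ((f.left ≫ φ.left) ≫ Y.hom) :=
  pullback.map X.hom T.hom _ _ φ.left (𝟙 T.left) (𝟙 S)
    (by rw [Category.comp_id, Category.id_comp, Over.w φ])
    (by rw [Category.comp_id, Category.id_comp, Category.assoc, Over.w φ, Over.w f])

/-- `1 × (φ ∘ f) : Y ×_S T ⟶ Y ×_S Y` -/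
noncomputable def vMap :
    pullback (𝟙 Y.left ≫ Y.hom) ((f.left ≫ φ.left) ≫ Y.hom) ⟶ pullback Y.hom Y.hom :=
  pullback.map (𝟙 Y.left ≫ Y.hom) ((f.left ≫ φ.left) ≫ Y.hom) Y.hom Y.hom (𝟙 Y.left)
    (f.left ≫ φ.left) (𝟙 S) (Category.comp_id _) (Category.comp_id _)

/-- the graph of `φ ∘ f` -/
noncomputable def wMap :
    pullback (𝟙 Y.left) (f.left ≫ φ.left) ⟶
      pullback (𝟙 Y.left ≫ Y.hom) ((f.left ≫ φ.left) ≫ Y.hom) :=
  pullback.map (𝟙 Y.left) (f.left ≫ φ.left) (𝟙 Y.left ≫ Y.hom) ((f.left ≫ φ.left) ≫ Y.hom)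
    (𝟙 _) (𝟙 _) Y.hom (Category.id_comp _).symm (Category.id_comp _).symm

theorem range_wMap :
    Set.range (wMap φ f).base = (vMap φ f).base ⁻¹' Set.range (pullback.diagonal Y.hom).base := by
  have hsq := pullback_map_diagonal_isPullback (𝟙 Y.left) (f.left ≫ φ.left) Y.hom
  have := Scheme.image_preimage_eq_of_isPullback hsq Set.univ
  rw [Set.preimage_univ, Set.image_univ, Set.image_univ] at this
  exact this

theorem uMap_fst : uMap φ f ≫ pullback.fst _ _ = pullback.fst X.hom T.hom ≫ φ.left :=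
  pullback.lift_fst _ _ _

theorem uMap_snd : uMap φ f ≫ pullback.snd _ _ = pullback.snd X.hom T.hom :=
  (pullback.lift_snd _ _ _).trans (Category.comp_id _)

theorem vMap_fst : vMap φ f ≫ pullback.fst Y.hom Y.hom = pullback.fst _ _ :=
  (pullback.lift_fst _ _ _).trans (Category.comp_id _)

theorem vMap_snd : vMap φ f ≫ pullback.snd Y.hom Y.hom = pullback.snd _ _ ≫ f.left ≫ φ.left :=
  pullback.lift_snd _ _ _

theorem whisker_prodMap :
    (X ◁ f).left ≫ SepQuot.prodMap φ.left Y.hom X.hom (Over.w φ) = uMap φ f ≫ vMap φ f := by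
  apply pullback.hom_ext
  · calc ((X ◁ f).left ≫ SepQuot.prodMap φ.left Y.hom X.hom (Over.w φ)) ≫ pullback.fst Y.hom Y.hom
        = (X ◁ f).left ≫ pullback.fst X.hom X.hom ≫ φ.left := by
          rw [Category.assoc, SepQuot.prodMap_fst]
      _ = pullback.fst X.hom T.hom ≫ φ.left := by
          rw [← Category.assoc, Over.whiskerLeft_left_fst]
      _ = (uMap φ f ≫ vMap φ f) ≫ pullback.fst Y.hom Y.hom := by
          rw [Category.assoc, vMap_fst, uMap_fst]
  · calc ((X ◁ f).left ≫ SepQuot.prodMap φ.left Y.hom X.hom (Over.w φ)) ≫ pullback.snd Y.hom Y.hom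
        = (X ◁ f).left ≫ pullback.snd X.hom X.hom ≫ φ.left := by
          rw [Category.assoc, SepQuot.prodMap_snd]
      _ = pullback.snd X.hom T.hom ≫ f.left ≫ φ.left := by
          rw [← Category.assoc, Over.whiskerLeft_left_snd, Category.assoc]
      _ = (uMap φ f ≫ pullback.snd _ _) ≫ f.left ≫ φ.left := by rw [uMap_snd]
      _ = (uMap φ f ≫ vMap φ f) ≫ pullback.snd Y.hom Y.hom := by
          rw [Category.assoc (uMap φ f) (vMap φ f), vMap_snd]
          exact Category.assoc _ _ _

theorem range_psi_eq (h : GIT.IsGeomQuot a φ) :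
    Set.range (GIT.psi a f).left.base = (uMap φ f).base ⁻¹' Set.range (wMap φ f).base := by
  rw [range_psi a f, range_psi_id a φ h, range_wMap, ← Set.preimage_comp, ← Set.preimage_comp,
    ← TopCat.coe_comp, ← TopCat.coe_comp, ← Scheme.Hom.comp_base, ← Scheme.Hom.comp_base,
    whisker_prodMap]

theorem isClosed_range_wMap (Ω : Type u) [Field Ω] (e : T.left ≅ Spec (CommRingCat.of Ω)) :
    IsClosed (Set.range (wMap φ f).base) := by
  let sMap := inv (pullback.snd (𝟙 Y.left) (f.left ≫ φ.left)) ≫ wMap φ f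
  have hrange : Set.range sMap.base = Set.range (wMap φ f).base := by
    change Set.range (inv (pullback.snd (𝟙 Y.left) (f.left ≫ φ.left)) ≫ wMap φ f).base = _
    rw [Scheme.Hom.comp_base, TopCat.coe_comp, Set.range_comp,
      Set.range_eq_univ.2 (inv (pullback.snd (𝟙 Y.left) (f.left ≫ φ.left))).surjective,
      Set.image_univ]
  have hsec : sMap ≫ pullback.snd (𝟙 Y.left ≫ Y.hom) ((f.left ≫ φ.left) ≫ Y.hom) = 𝟙 _ := by
    change (inv (pullback.snd (𝟙 Y.left) (f.left ≫ φ.left)) ≫ wMap φ f) ≫ _ = 𝟙 _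
    unfold wMap
    rw [Category.assoc, pullback.lift_snd, Category.comp_id, IsIso.inv_hom_id]
  rw [← hrange]
  exact isClosed_range_section _ sMap hsec Ω e

theorem main (h : GIT.IsGeomQuot a φ) : GIT.IsClosedAction a := by
  intro Ω _ _ T e f
  rw [range_psi_eq a φ f h]
  exact (isClosed_range_wMap φ f Ω e).preimage (uMap φ f).continuous

end Final

end Groth.Agent.Helper9.ClosedAct
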