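import Mathlib
import Groth.Prelude.Def_SGA4a

set_option autoImplicit false
universe v u
open CategoryTheory Limits

namespace Groth.Agent.Helper9.ClosedCompl

section General

variable {E : Type v} [Category.{u} E] [HasTerminal E] [HasBinaryProducts E] [HasPushouts E]
  (U : E) (hU : SGA4.IsOpen U)

include hU in
lemma hom_ext_U {Z : E} (f g : Z ⟶ U) : f = g := by
  haveI : Mono (terminal.from U) := hU
  rw [← cancel_mono (terminal.from U)]
  exact Subsingleton.elim _ _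

include hU in
lemma isIso_fst_UU : IsIso (prod.fst : U ⨯ U ⟶ U) :=
  ⟨prod.lift (𝟙 U) (𝟙 U), by
    apply prod.hom_ext
    · rw [Category.assoc, prod.lift_fst, Category.comp_id, Category.id_comp]
    · rw [Category.assoc, prod.lift_snd, Category.comp_id, Category.id_comp]
      exact hom_ext_U U hU _ _, prod.lift_fst _ _⟩

include hU in
lemma isIso_map_snd (Y : E) : IsIso (prod.map (𝟙 U) (prod.snd : U ⨯ Y ⟶ Y)) :=
  ⟨prod.lift prod.fst (𝟙 (U ⨯ Y)), by
    apply prod.hom_ext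
    · rw [Category.assoc, prod.lift_fst, prod.map_fst, Category.comp_id, Category.id_comp]
    · rw [Category.assoc, prod.lift_snd, Category.comp_id, Category.id_comp]
      apply prod.hom_ext
      · exact hom_ext_U U hU _ _
      · exact prod.map_snd _ _, by
    apply prod.hom_ext
    · rw [Category.assoc, prod.map_fst, Category.comp_id, prod.lift_fst, Category.id_comp]
    · rw [Category.assoc, prod.map_snd, ← Category.assoc, prod.lift_snd, Category.id_comp]⟩

lemma closedCompl_of_iso {X X' : E} (e : X ≅ X') (h : SGA4.closedCompl U X) :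
    SGA4.closedCompl U X' := by
  have h1 : IsIso (prod.fst : U ⨯ X ⟶ U) := h
  have : (prod.fst : U ⨯ X' ⟶ U) = prod.map (𝟙 U) e.inv ≫ (prod.fst : U ⨯ X ⟶ U) := by simp
  show IsIso (prod.fst : U ⨯ X' ⟶ U)
  rw [this]
  infer_instance

include hU in
theorem closedCompl_pushout [PreservesColimitsOfShape WalkingSpan (prod.functor.obj U)] (Y : E) :
    SGA4.closedCompl U (pushout (prod.fst : U ⨯ Y ⟶ U) (prod.snd : U ⨯ Y ⟶ Y)) := by
  have hp := (IsPushout.of_hasPushout (prod.fst : U ⨯ Y ⟶ U) (prod.snd : U ⨯ Y ⟶ Y)).map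
    (prod.functor.obj U)
  have h1 : IsIso ((prod.functor.obj U).map (prod.snd : U ⨯ Y ⟶ Y)) := isIso_map_snd U hU Y
  have h2 : IsIso ((prod.functor.obj U).map
      (pushout.inl (prod.fst : U ⨯ Y ⟶ U) (prod.snd : U ⨯ Y ⟶ Y))) := hp.isIso_inl_of_isIso
  have h3 : IsIso (prod.fst : U ⨯ U ⟶ U) := isIso_fst_UU U hU
  have e : prod.map (𝟙 U) (pushout.inl (prod.fst : U ⨯ Y ⟶ U) (prod.snd : U ⨯ Y ⟶ Y)) ≫
      (prod.fst : U ⨯ pushout (prod.fst : U ⨯ Y ⟶ U) (prod.snd : U ⨯ Y ⟶ Y) ⟶ U) =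
      (prod.fst : U ⨯ U ⟶ U) := (prod.map_fst _ _).trans (Category.comp_id _)
  have h2' : IsIso (prod.map (𝟙 U) (pushout.inl (prod.fst : U ⨯ Y ⟶ U) (prod.snd : U ⨯ Y ⟶ Y))) := h2
  show IsIso (prod.fst : U ⨯ pushout (prod.fst : U ⨯ Y ⟶ U) (prod.snd : U ⨯ Y ⟶ Y) ⟶ U)
  have h4 : IsIso (prod.map (𝟙 U) (pushout.inl (prod.fst : U ⨯ Y ⟶ U) (prod.snd : U ⨯ Y ⟶ Y)) ≫
      (prod.fst : U ⨯ pushout (prod.fst : U ⨯ Y ⟶ U) (prod.snd : U ⨯ Y ⟶ Y) ⟶ U)) := by
    rw [e]
    exact h3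
  exact IsIso.of_isIso_comp_left (prod.map (𝟙 U) (pushout.inl (prod.fst : U ⨯ Y ⟶ U)
    (prod.snd : U ⨯ Y ⟶ Y))) _

include hU in
theorem s6177 [PreservesColimitsOfShape WalkingSpan (prod.functor.obj U)] (X : E) :
    (SGA4.closedCompl U X ↔ IsIso (pushout.inr (prod.fst : U ⨯ X ⟶ U) (prod.snd : U ⨯ X ⟶ X))) ∧
    ((∃ Y : E, Nonempty (X ≅ pushout (prod.fst : U ⨯ Y ⟶ U) (prod.snd : U ⨯ Y ⟶ Y))) →
      SGA4.closedCompl U X) := by
  refine ⟨⟨fun h => ?_, fun h => ?_⟩, ?_⟩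
  · haveI : IsIso (prod.fst : U ⨯ X ⟶ U) := h
    infer_instance
  · exact closedCompl_of_iso U (asIso (pushout.inr (prod.fst : U ⨯ X ⟶ U)
      (prod.snd : U ⨯ X ⟶ X))).symm (closedCompl_pushout U hU X)
  · rintro ⟨Y, ⟨e⟩⟩
    exact closedCompl_of_iso U e.symm (closedCompl_pushout U hU Y)

end General

section Sheaf

variable {C : Type u} [SmallCategory C] (J : GrothendieckTopology C)

lemma isLeftAdjoint_prod (U : Sheaf J (Type u)) : (prod.functor.obj U).IsLeftAdjoint := by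
  have h : MonoidalClosed (Sheaf J (Type u)) := inferInstance
  have h2 : Closed U := MonoidalClosed.closed U
  exact @CartesianMonoidalCategory.isLeftAdjoint_prod_functor _ _ _ U h2

instance (U : Sheaf J (Type u)) : PreservesColimitsOfSize.{u, u} (prod.functor.obj U) :=
  haveI := isLeftAdjoint_prod J U
  inferInstance

instance (U : Sheaf J (Type u)) : PreservesColimitsOfSize.{0, 0} (prod.functor.obj U) :=
  haveI := isLeftAdjoint_prod J U
  inferInstance

end Sheaf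

end Groth.Agent.Helper9.ClosedCompl
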