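import Mathlib
import Groth.Prelude.Def_SGA4a
import Groth.Agent.Helper9.ClosedCompl

set_option autoImplicit false
universe v u
open CategoryTheory Limits

namespace Groth.Agent.Helper9.ClosedCompl

section General

variable {E : Type v} [Category.{u} E] [HasTerminal E] [HasBinaryProducts E] [HasPushouts E]
  (U : E)

omit [HasTerminal E] [HasPushouts E] in
/-- maps into an object of the closed complement from an object over `U` are unique -/
lemma hom_ext_Z {Z : E} (hZ : SGA4.closedCompl U Z) {W : E} (p : W ⟶ U) (a b : W ⟶ Z) : a = b := by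
  have h1 : IsIso (prod.fst : U ⨯ Z ⟶ U) := hZ
  have h2 : prod.lift p a = prod.lift p b := by
    rw [← cancel_mono (prod.fst : U ⨯ Z ⟶ U), prod.lift_fst, prod.lift_fst]
  have := congrArg (fun t => t ≫ (prod.snd : U ⨯ Z ⟶ Z)) h2
  simp only [prod.lift_snd] at this
  exact this

omit [HasTerminal E] [HasPushouts E] in
/-- the map into an object of the closed complement from an object over `U` -/
lemma exists_hom_Z {Z : E} (hZ : SGA4.closedCompl U Z) {W : E} (p : W ⟶ U) : Nonempty (W ⟶ Z) := by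
  have h1 : IsIso (prod.fst : U ⨯ Z ⟶ U) := hZ
  exact ⟨p ≫ inv (prod.fst : U ⨯ Z ⟶ U) ≫ prod.snd⟩

omit [HasTerminal E] in
/-- universal property of `X ⟶ X_CU` -/
lemma inr_bijective {Z : E} (hZ : SGA4.closedCompl U Z) (X : E) :
    Function.Bijective (fun a : pushout (prod.fst : U ⨯ X ⟶ U) (prod.snd : U ⨯ X ⟶ X) ⟶ Z =>
      pushout.inr _ _ ≫ a) := by
  constructor
  · intro a b hab
    apply pushout.hom_ext
    · exact hom_ext_Z U hZ (𝟙 U) _ _
    · exact hab
  · intro c
    obtain ⟨u⟩ := exists_hom_Z U hZ (𝟙 U)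
    exact ⟨pushout.desc u c (hom_ext_Z U hZ prod.fst _ _), pushout.inr_desc _ _ _⟩

omit [HasTerminal E] [HasPushouts E] in
lemma isPullback_snd {X Y : E} (m : X ⟶ Y) :
    IsPullback (prod.snd : U ⨯ X ⟶ X) (prod.map (𝟙 U) m) m (prod.snd : U ⨯ Y ⟶ Y) := by
  refine ⟨⟨(prod.map_snd _ _).symm⟩, ⟨PullbackCone.IsLimit.mk _
    (fun s => prod.lift (s.snd ≫ prod.fst) s.fst) ?_ ?_ ?_⟩⟩
  · intro s
    exact prod.lift_snd _ _
  · intro s
    apply prod.hom_ext
    · rw [Category.assoc, prod.map_fst, Category.comp_id, prod.lift_fst]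
    · rw [Category.assoc, prod.map_snd, ← Category.assoc, prod.lift_snd, s.condition]
  · intro s l h1 h2
    apply prod.hom_ext
    · rw [prod.lift_fst, ← h2, Category.assoc, prod.map_fst, Category.comp_id]
    · rw [prod.lift_snd, ← h1]

variable (hU : SGA4.IsOpen U)

include hU in
lemma mono_snd (Y : E) : Mono (prod.snd : U ⨯ Y ⟶ Y) := by
  constructor
  intro W a b hab
  apply prod.hom_ext
  · exact hom_ext_U U hU _ _
  · exact hab

include hU in
theorem s3084 [Adhesive E] [PreservesColimitsOfShape WalkingSpan (prod.functor.obj U)]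
    (L : E ⥤ (SGA4.closedCompl U).FullSubcategory) (adj : L ⊣ (SGA4.closedCompl U).ι)
    {X Y : E} (m : X ⟶ Y) :
    IsIso m ↔ IsIso ((Over.star U).map m) ∧ IsIso (L.map m) := by
  constructor
  · intro h
    exact ⟨inferInstance, inferInstance⟩
  rintro ⟨h1, h2⟩
  -- step 1
  have h1' : IsIso (prod.map (𝟙 U) m) := by
    have : IsIso ((Over.forget U).map ((Over.star U).map m)) := inferInstance
    exact this
  -- step 3: precomposition with m is bijective on maps to F
  have hbij : ∀ Z : E, SGA4.closedCompl U Z → Function.Bijective (fun a : Y ⟶ Z => m ≫ a) := by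
    intro Z hZ
    let Z' : (SGA4.closedCompl U).FullSubcategory := ⟨Z, hZ⟩
    have e : (fun a : Y ⟶ Z => m ≫ a) =
        (adj.homEquiv X Z') ∘ (fun g : L.obj Y ⟶ Z' => L.map m ≫ g) ∘ (adj.homEquiv Y Z').symm := by
      funext a
      simp only [Function.comp_apply]
      rw [Adjunction.homEquiv_naturality_left, Equiv.apply_symm_apply]
    rw [e]
    refine (adj.homEquiv X Z').bijective.comp (Function.Bijective.comp ?_ (adj.homEquiv Y Z').symm.bijective)
    constructor
    · intro g g' hgg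
      exact (cancel_epi (L.map m)).1 hgg
    · intro g
      exact ⟨inv (L.map m) ≫ g, by simp⟩
  -- the map on closed parts
  let mC : pushout (prod.fst : U ⨯ X ⟶ U) (prod.snd : U ⨯ X ⟶ X) ⟶
      pushout (prod.fst : U ⨯ Y ⟶ U) (prod.snd : U ⨯ Y ⟶ Y) :=
    pushout.map _ _ _ _ (𝟙 U) m (prod.map (𝟙 U) m) (by simp) (by simp)
  have hinl : pushout.inl _ _ ≫ mC = 𝟙 U ≫ pushout.inl _ _ := pushout.inl_desc _ _ _
  have hinr : pushout.inr _ _ ≫ mC = m ≫ pushout.inr _ _ := pushout.inr_desc _ _ _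
  have hXC := closedCompl_pushout U hU X
  have hYC := closedCompl_pushout U hU Y
  have hmC : IsIso mC := by
    obtain ⟨t, ht⟩ := (hbij _ hXC).2 (pushout.inr (prod.fst : U ⨯ X ⟶ U) (prod.snd : U ⨯ X ⟶ X))
    obtain ⟨n, hn⟩ := (inr_bijective U hXC Y).2 t
    simp only at ht hn
    refine ⟨n, ?_, ?_⟩
    · apply (inr_bijective U hXC X).1
      simp only
      rw [← Category.assoc, hinr, Category.assoc, hn, ht, Category.comp_id]
    · apply (inr_bijective U hYC Y).1
      simp only
      rw [← Category.assoc, hn, Category.comp_id]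
      apply (hbij _ hYC).1
      simp only
      rw [← Category.assoc, ht, hinr]
  -- van Kampen
  haveI := mono_snd U hU Y
  have H : IsPushout (prod.snd : U ⨯ Y ⟶ Y) (prod.fst : U ⨯ Y ⟶ U) (pushout.inr _ _) (pushout.inl _ _) :=
    (IsPushout.of_hasPushout (prod.fst : U ⨯ Y ⟶ U) (prod.snd : U ⨯ Y ⟶ Y)).flip
  have H' : IsPushout (prod.snd : U ⨯ X ⟶ X) (prod.fst : U ⨯ X ⟶ U) (pushout.inr _ _) (pushout.inl _ _) :=
    (IsPushout.of_hasPushout (prod.fst : U ⨯ X ⟶ U) (prod.snd : U ⨯ X ⟶ X)).flip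
  have vk := Adhesive.van_kampen H (prod.snd : U ⨯ X ⟶ X) (prod.fst : U ⨯ X ⟶ U)
    (pushout.inr _ _) (pushout.inl _ _) (prod.map (𝟙 U) m) m (𝟙 U) mC
    (isPullback_snd U m) (IsPullback.of_vert_isIso ⟨by simp⟩) ⟨hinr⟩ ⟨hinl⟩ H'.toCommSq
  have hpb := (vk.1 H').1
  exact hpb.isIso_snd_of_isIso

end General

end Groth.Agent.Helper9.ClosedCompl
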