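import Mathlib

set_option autoImplicit false
universe v u w
open CategoryTheory Limits Opposite

namespace Groth.Agent.Helper9.ClosedTop

variable {C : Type u} [Category.{v} C] (p : C → Prop) (hp : ∀ ⦃W W' : C⦄ (_ : W' ⟶ W), p W → p W')

/-- enlarge a sieve by all arrows whose source satisfies `p` -/
def ext {V : C} (hp : ∀ ⦃W W' : C⦄ (_ : W' ⟶ W), p W → p W') (S : Sieve V) : Sieve V where
  arrows W f := S.arrows f ∨ p W
  downward_closed {W W'} f hf g := by
    rcases hf with hf | hf
    · exact Or.inl (S.downward_closed hf g)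
    · exact Or.inr (hp g hf)

lemma ext_apply {V W : C} (S : Sieve V) (f : W ⟶ V) : (ext p hp S).arrows f ↔ S.arrows f ∨ p W :=
  Iff.rfl

lemma le_ext {V : C} (S : Sieve V) : S ≤ ext p hp S := fun _ _ hf => Or.inl hf

lemma ext_pullback {V V' : C} (S : Sieve V) (g : V' ⟶ V) :
    ext p hp (S.pullback g) = (ext p hp S).pullback g := by
  ext W f
  rfl

/-- the "closed complement" topology -/
def closedTop (J : GrothendieckTopology C) : GrothendieckTopology C where
  sieves V := {S | ext p hp S ∈ J V}
  top_mem' V := J.superset_covering (le_ext p hp ⊤) (J.top_mem V)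
  pullback_stable' V V' S g hS := by
    show ext p hp (S.pullback g) ∈ J V'
    rw [ext_pullback]
    exact J.pullback_stable g hS
  transitive' V S hS R hR := by
    show ext p hp R ∈ J V
    refine J.transitive hS _ ?_
    intro W f hf
    rcases hf with hf | hf
    · have := hR hf
      have h2 : ext p hp (R.pullback f) ∈ J W := this
      rw [ext_pullback] at h2
      exact h2
    · have : (ext p hp R).pullback f = ⊤ := by
        ext W' g
        simp only [Sieve.pullback_apply, Sieve.top_apply, iff_true]
        exact Or.inr (hp g hf)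
      rw [this]
      exact J.top_mem W

variable (J : GrothendieckTopology C)

lemma mem_closedTop {V : C} (S : Sieve V) : S ∈ closedTop p hp J V ↔ ext p hp S ∈ J V := Iff.rfl

lemma le_closedTop : J ≤ closedTop p hp J := fun _ S hS => J.superset_covering (le_ext p hp S) hS

lemma bot_mem_closedTop {W : C} (hW : p W) : (⊥ : Sieve W) ∈ closedTop p hp J W := by
  rw [mem_closedTop]
  have : ext p hp (⊥ : Sieve W) = ⊤ := by
    ext W' g
    simp only [Sieve.top_apply, iff_true]
    exact Or.inr (hp g hW)
  rw [this]
  exact J.top_mem W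

/-- sheaves for the closed topology are `J`-sheaves -/
lemma isSheaf_of_closedTop (P : Cᵒᵖ ⥤ Type w) (h : Presieve.IsSheaf (closedTop p hp J) P) :
    Presieve.IsSheaf J P := Presieve.isSheaf_of_le P (le_closedTop p hp J) h

/-- sheaves for the closed topology have a unique section where `p` holds -/
lemma unique_of_closedTop (P : Cᵒᵖ ⥤ Type w) (h : Presieve.IsSheaf (closedTop p hp J) P)
    {W : C} (hW : p W) : Nonempty (P.obj (op W)) ∧ Subsingleton (P.obj (op W)) := by
  have h1 := h (⊥ : Sieve W) (bot_mem_closedTop p hp J hW)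
  let x : Presieve.FamilyOfElements P ((⊥ : Sieve W) : Presieve W) := fun _ _ hf => False.elim hf
  have hx : x.Compatible := by
    intro _ _ _ _ _ _ _ hf
    exact False.elim hf
  obtain ⟨t, _, ht⟩ := h1 x hx
  refine ⟨⟨t⟩, ⟨fun a b => ?_⟩⟩
  rw [ht a (fun _ _ hf => False.elim hf), ht b (fun _ _ hf => False.elim hf)]

/-- `J`-sheaves with a unique section where `p` holds are sheaves for the closed topology -/
lemma isSheaf_closedTop (P : Cᵒᵖ ⥤ Type w) (h : Presieve.IsSheaf J P)
    (hu : ∀ W : C, p W → Nonempty (P.obj (op W)) ∧ Subsingleton (P.obj (op W))) :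
    Presieve.IsSheaf (closedTop p hp J) P := by
  classical
  intro V S hS
  have hS' : ext p hp S ∈ J V := hS
  intro x hx
  have hxs := (Presieve.compatible_iff_sieveCompatible x).1 hx
  let x' : Presieve.FamilyOfElements P ((ext p hp S : Sieve V) : Presieve V) := fun W f hf =>
    if hS : S.arrows f then x f hS else
      (hu W (hf.resolve_left hS)).1.some
  have hx'S : ∀ {W : C} (f : W ⟶ V) (hf : S.arrows f), x' f (Or.inl hf) = x f hf := by
    intro W f hf
    simp only [x', dif_pos hf]
  have hx' : x'.Compatible := by
    rw [Presieve.compatible_iff_sieveCompatible]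
    intro W W' f g hf
    by_cases hfS : S.arrows f
    · have e1 : x' f hf = x f hfS := hx'S f hfS
      have e2 : x' (g ≫ f) ((ext p hp S).downward_closed hf g) = x (g ≫ f) (S.downward_closed hfS g) :=
        hx'S (g ≫ f) (S.downward_closed hfS g)
      rw [e1, e2]
      exact hxs f g hfS
    · have hW : p W := hf.resolve_left hfS
      haveI := (hu W' (hp g hW)).2
      exact Subsingleton.elim _ _
  obtain ⟨t, ht, huniq⟩ := h (ext p hp S) hS' x' hx'
  refine ⟨t, ?_, ?_⟩
  · intro W f hf
    exact (ht f (Or.inl hf)).trans (hx'S f hf)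
  · intro t₂ ht₂
    apply huniq
    intro W f hf
    by_cases hfS : S.arrows f
    · exact (ht₂ f hfS).trans (hx'S f hfS).symm
    · have hW : p W := hf.resolve_left hfS
      haveI := (hu W hW).2
      exact Subsingleton.elim _ _

end Groth.Agent.Helper9.ClosedTop
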