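import Mathlib
import Groth.Prelude.Def_SGA4a
import Groth.Agent.Helper9.ClosedCompl2
import Groth.Agent.Helper9.ClosedTop

set_option autoImplicit false
universe u
open CategoryTheory Limits Opposite

namespace Groth.Agent.Helper9.ClosedCompl

open Groth.Agent.Helper9.ClosedTop

section Topos

variable {C : Type u} [SmallCategory C] (J : GrothendieckTopology C)

/-- representable sheaf -/
noncomputable abbrev rep (W : C) : Sheaf J (Type u) :=
  (presheafToSheaf J (Type u)).obj (yoneda.obj W)

/-- maps from the representable sheaf are sections -/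
noncomputable def secEquiv (Z : Sheaf J (Type u)) (W : C) : (rep J W ⟶ Z) ≃ Z.obj.obj (op W) :=
  ((sheafificationAdjunction J (Type u)).homEquiv (yoneda.obj W) Z).trans yonedaEquiv

lemma secEquiv_comp {Z Z' : Sheaf J (Type u)} (W : C) (a : rep J W ⟶ Z) (f : Z ⟶ Z') :
    secEquiv J Z' W (a ≫ f) = f.hom.app (op W) (secEquiv J Z W a) := by
  unfold secEquiv
  simp only [Equiv.trans_apply]
  rw [Adjunction.homEquiv_naturality_right, yonedaEquiv_comp]
  rfl

variable (U : Sheaf J (Type u))

/-- `U` has a section over `W` -/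
def pU (W : C) : Prop := Nonempty (U.obj.obj (op W))

lemma pU_stable : ∀ ⦃W W' : C⦄ (_ : W' ⟶ W), pU J U W → pU J U W' := by
  rintro W W' g ⟨s⟩
  exact ⟨U.obj.map g.op s⟩

/-- objects of the closed complement have exactly one section where `U` has one -/
lemma sections_of_closedCompl {Z : Sheaf J (Type u)} (hZ : SGA4.closedCompl U Z) (W : C)
    (hW : pU J U W) : Nonempty (Z.obj.obj (op W)) ∧ Subsingleton (Z.obj.obj (op W)) := by
  obtain ⟨s⟩ := hW
  let q : rep J W ⟶ U := (secEquiv J U W).symm s
  obtain ⟨a⟩ := exists_hom_Z U hZ q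
  refine ⟨⟨secEquiv J Z W a⟩, ⟨fun x y => ?_⟩⟩
  have := hom_ext_Z U hZ q ((secEquiv J Z W).symm x) ((secEquiv J Z W).symm y)
  exact (secEquiv J Z W).symm.injective this

/-- converse -/
lemma closedCompl_of_sections {Z : Sheaf J (Type u)}
    (h : ∀ W : C, pU J U W → Nonempty (Z.obj.obj (op W)) ∧ Subsingleton (Z.obj.obj (op W))) :
    SGA4.closedCompl U Z := by
  show IsIso (prod.fst : U ⨯ Z ⟶ U)
  apply isIso_of_yoneda_map_bijective
  intro T
  constructor
  · intro a b hab
    simp only at hab
    apply prod.hom_ext hab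
    apply Sheaf.hom_ext
    ext ⟨W⟩ t
    have hW : pU J U W := ⟨(a ≫ prod.fst).hom.app (op W) t⟩
    haveI := (h W hW).2
    exact Subsingleton.elim _ _
  · intro q
    have hne : ∀ (W : Cᵒᵖ) (t : T.obj.obj W), Nonempty (Z.obj.obj W) := fun W t =>
      (h W.unop ⟨q.hom.app W t⟩).1
    let c : T ⟶ Z := ObjectProperty.homMk
      { app := fun W => ↾(fun t => (hne W t).some)
        naturality := by
          intro W W' g
          ext t
          haveI := (h W'.unop ⟨q.hom.app W' (T.obj.map g t)⟩).2
          exact Subsingleton.elim _ _ }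
    exact ⟨prod.lift q c, prod.lift_fst _ _⟩

end Topos

section Reflector

variable {C : Type u} [SmallCategory C] (J : GrothendieckTopology C) (U : Sheaf J (Type u))

/-- the closed topology attached to `U` -/
abbrev JU : GrothendieckTopology C := closedTop (pU J U) (pU_stable J U) J

/-- underlying presheaf of the reflector -/
noncomputable abbrev L₀ : Sheaf J (Type u) ⥤ (Cᵒᵖ ⥤ Type u) :=
  sheafToPresheaf J (Type u) ⋙ presheafToSheaf (JU J U) (Type u) ⋙ sheafToPresheaf (JU J U) (Type u)

lemma L₀_isSheafJU (X : Sheaf J (Type u)) : Presieve.IsSheaf (JU J U) ((L₀ J U).obj X) :=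
  (isSheaf_iff_isSheaf_of_type _ _).1 ((presheafToSheaf (JU J U) (Type u)).obj X.obj).property

lemma L₀_isSheaf (X : Sheaf J (Type u)) : Presheaf.IsSheaf J ((L₀ J U).obj X) :=
  (isSheaf_iff_isSheaf_of_type _ _).2 (isSheaf_of_closedTop _ _ J _ (L₀_isSheafJU J U X))

noncomputable abbrev L₁ : Sheaf J (Type u) ⥤ Sheaf J (Type u) :=
  ObjectProperty.lift _ (L₀ J U) (L₀_isSheaf J U)

lemma L₁_closed (X : Sheaf J (Type u)) : SGA4.closedCompl U ((L₁ J U).obj X) :=
  closedCompl_of_sections J U (fun _ hW => unique_of_closedTop _ _ J _ (L₀_isSheafJU J U X) hW)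

/-- the reflector onto the closed complement -/
noncomputable abbrev L : Sheaf J (Type u) ⥤ (SGA4.closedCompl U).FullSubcategory :=
  ObjectProperty.lift _ (L₁ J U) (L₁_closed J U)

/-- the closed complement as sheaves for the closed topology -/
noncomputable abbrev K' : (SGA4.closedCompl U).FullSubcategory ⥤ Sheaf (JU J U) (Type u) :=
  ObjectProperty.lift _ ((SGA4.closedCompl U).ι ⋙ sheafToPresheaf J (Type u)) (fun Z =>
    (isSheaf_iff_isSheaf_of_type _ _).2 (isSheaf_closedTop _ _ J _
      ((isSheaf_iff_isSheaf_of_type _ _).1 Z.obj.property) (sections_of_closedCompl J U Z.property)))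

noncomputable def adjL : L J U ⊣ (SGA4.closedCompl U).ι :=
  (sheafificationAdjunction (JU J U) (Type u)).restrictFullyFaithful
    (iC := sheafToPresheaf J (Type u)) (iD := K' J U)
    (fullyFaithfulSheafToPresheaf J _) (Functor.FullyFaithful.ofFullyFaithful (K' J U))
    (Iso.refl _) (Iso.refl _)

instance : PreservesFiniteLimits (L J U) := by
  have : PreservesFiniteLimits (L J U ⋙ ((SGA4.closedCompl U).ι ⋙ sheafToPresheaf J (Type u))) := by
    show PreservesFiniteLimits (L₀ J U)
    infer_instance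
  exact preservesFiniteLimits_of_reflects_of_preserves (L J U)
    ((SGA4.closedCompl U).ι ⋙ sheafToPresheaf J (Type u))

end Reflector

section Pushout

variable {E : Type*} [Category.{u} E] [HasTerminal E] [HasBinaryProducts E] [HasPushouts E]
  (U : E) (hU : SGA4.IsOpen U)

include hU in
theorem reflector_iso_pushout [PreservesColimitsOfShape WalkingSpan (prod.functor.obj U)]
    (L : E ⥤ (SGA4.closedCompl U).FullSubcategory) (adj : L ⊣ (SGA4.closedCompl U).ι) (X : E) :
    Nonempty (((SGA4.closedCompl U).ι).obj (L.obj X) ≅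
      pushout (prod.fst : U ⨯ X ⟶ U) (prod.snd : U ⨯ X ⟶ X)) := by
  have hP := closedCompl_pushout U hU X
  let P' : (SGA4.closedCompl U).FullSubcategory :=
    ⟨pushout (prod.fst : U ⨯ X ⟶ U) (prod.snd : U ⨯ X ⟶ X), hP⟩
  let a : L.obj X ⟶ P' := (adj.homEquiv X P').symm (pushout.inr _ _)
  have ha : adj.unit.app X ≫ a.hom = pushout.inr _ _ := by
    have := (adj.homEquiv X P').apply_symm_apply (pushout.inr _ _)
    rw [Adjunction.homEquiv_unit] at this
    exact this
  obtain ⟨b, hb⟩ := (inr_bijective U (L.obj X).property X).2 (adj.unit.app X)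
  simp only at hb
  refine ⟨⟨a.hom, b, ?_, ?_⟩⟩
  · have h1 : a ≫ (ObjectProperty.homMk b : P' ⟶ L.obj X) = 𝟙 (L.obj X) := by
      apply (adj.homEquiv X (L.obj X)).injective
      rw [Adjunction.homEquiv_unit, Adjunction.homEquiv_unit]
      show adj.unit.app X ≫ a.hom ≫ b = adj.unit.app X ≫ 𝟙 _
      rw [← Category.assoc, ha, hb, Category.comp_id]
    exact congrArg (fun t => t.hom) h1
  · apply (inr_bijective U hP X).1
    simp only
    rw [← Category.assoc, hb, ha, Category.comp_id]

end Pushout

section Final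

variable {C : Type u} [SmallCategory C] (J : GrothendieckTopology C)

theorem s3083 (U : Sheaf J (Type u)) (hU : SGA4.IsOpen U) :
    ∃ (L : Sheaf J (Type u) ⥤ (SGA4.closedCompl U).FullSubcategory) (_ : L ⊣ (SGA4.closedCompl U).ι),
      PreservesFiniteLimits L ∧
      ∀ X : Sheaf J (Type u), Nonempty (((SGA4.closedCompl U).ι).obj (L.obj X) ≅
        pushout (prod.fst : U ⨯ X ⟶ U) (prod.snd : U ⨯ X ⟶ X)) :=
  ⟨L J U, adjL J U, inferInstance, fun X => reflector_iso_pushout U hU (L J U) (adjL J U) X⟩

end Final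

end Groth.Agent.Helper9.ClosedCompl
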