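import Mathlib
import Groth.Prelude.Def_SGA4a
import Groth.Agent.Helper9.ClosedCompl2

set_option autoImplicit false
universe v u
open CategoryTheory Limits

namespace Groth.Agent.Helper9.ClosedCompl

section General

variable {E : Type v} [Category.{u} E] [HasTerminal E] [HasBinaryProducts E] [HasPushouts E]
  (U : E) (hU : SGA4.IsOpen U)

include hU in
/-- the Van Kampen square -/
theorem isPullback_inr_of_isIso [Adhesive E] {X Y : E} (m : X ⟶ Y) (h1' : IsIso (prod.map (𝟙 U) m))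
    (mC : pushout (prod.fst : U ⨯ X ⟶ U) (prod.snd : U ⨯ X ⟶ X) ⟶
      pushout (prod.fst : U ⨯ Y ⟶ U) (prod.snd : U ⨯ Y ⟶ Y))
    (hinl : pushout.inl _ _ ≫ mC = pushout.inl _ _) (hinr : pushout.inr _ _ ≫ mC = m ≫ pushout.inr _ _) :
    IsPullback (pushout.inr (prod.fst : U ⨯ X ⟶ U) (prod.snd : U ⨯ X ⟶ X)) m mC
      (pushout.inr (prod.fst : U ⨯ Y ⟶ U) (prod.snd : U ⨯ Y ⟶ Y)) := by
  haveI := mono_snd U hU Y
  have H : IsPushout (prod.snd : U ⨯ Y ⟶ Y) (prod.fst : U ⨯ Y ⟶ U) (pushout.inr _ _) (pushout.inl _ _) :=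
    (IsPushout.of_hasPushout (prod.fst : U ⨯ Y ⟶ U) (prod.snd : U ⨯ Y ⟶ Y)).flip
  have H' : IsPushout (prod.snd : U ⨯ X ⟶ X) (prod.fst : U ⨯ X ⟶ U) (pushout.inr _ _) (pushout.inl _ _) :=
    (IsPushout.of_hasPushout (prod.fst : U ⨯ X ⟶ U) (prod.snd : U ⨯ X ⟶ X)).flip
  have vk := Adhesive.van_kampen H (prod.snd : U ⨯ X ⟶ X) (prod.fst : U ⨯ X ⟶ U)
    (pushout.inr _ _) (pushout.inl _ _) (prod.map (𝟙 U) m) m (𝟙 U) mC
    (isPullback_snd U m) (IsPullback.of_vert_isIso ⟨by simp⟩) ⟨hinr⟩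
    ⟨hinl.trans (Category.id_comp _).symm⟩ H'.toCommSq
  exact (vk.1 H').1

include hU in
theorem s12107 [Adhesive E] [PreservesColimitsOfShape WalkingSpan (prod.functor.obj U)]
    {X X' : E} (m : X ⟶ X')
    (k : pushout (prod.fst : U ⨯ X ⟶ U) (prod.snd : U ⨯ X ⟶ X) ⟶
      pushout (prod.fst : U ⨯ X' ⟶ U) (prod.snd : U ⨯ X' ⟶ X'))
    (hk₁ : pushout.inl (prod.fst : U ⨯ X ⟶ U) (prod.snd : U ⨯ X ⟶ X) ≫ k =
      pushout.inl (prod.fst : U ⨯ X' ⟶ U) (prod.snd : U ⨯ X' ⟶ X'))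
    (hk₂ : pushout.inr (prod.fst : U ⨯ X ⟶ U) (prod.snd : U ⨯ X ⟶ X) ≫ k =
      m ≫ pushout.inr (prod.fst : U ⨯ X' ⟶ U) (prod.snd : U ⨯ X' ⟶ X')) :
    IsPullback m (pushout.inr (prod.fst : U ⨯ X ⟶ U) (prod.snd : U ⨯ X ⟶ X))
        (pushout.inr (prod.fst : U ⨯ X' ⟶ U) (prod.snd : U ⨯ X' ⟶ X')) k ↔
      IsIso (prod.map (𝟙 U) m) := by
  constructor
  · intro h
    haveI : PreservesLimitsOfShape WalkingCospan (prod.functor.obj U) := by
      let e := ULiftHomULiftCategory.equiv.{u, u} WalkingCospan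
      haveI : IsConnected (ULiftHom.{u} (ULift.{u} WalkingCospan)) := isConnected_of_equivalent e
      haveI := prod_preservesConnectedLimits (J := ULiftHom.{u} (ULift.{u} WalkingCospan)) U
      exact preservesLimitsOfShape_of_equiv e.symm _
    have hG := h.map (prod.functor.obj U)
    have h1 : IsIso (prod.fst : U ⨯ pushout (prod.fst : U ⨯ X ⟶ U) (prod.snd : U ⨯ X ⟶ X) ⟶ U) :=
      closedCompl_pushout U hU X
    have h2 : IsIso (prod.fst : U ⨯ pushout (prod.fst : U ⨯ X' ⟶ U) (prod.snd : U ⨯ X' ⟶ X') ⟶ U) :=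
      closedCompl_pushout U hU X'
    have e : prod.map (𝟙 U) k ≫
        (prod.fst : U ⨯ pushout (prod.fst : U ⨯ X' ⟶ U) (prod.snd : U ⨯ X' ⟶ X') ⟶ U) =
        (prod.fst : U ⨯ pushout (prod.fst : U ⨯ X ⟶ U) (prod.snd : U ⨯ X ⟶ X) ⟶ U) :=
      (prod.map_fst _ _).trans (Category.comp_id _)
    have h3 : IsIso (prod.map (𝟙 U) k ≫
        (prod.fst : U ⨯ pushout (prod.fst : U ⨯ X' ⟶ U) (prod.snd : U ⨯ X' ⟶ X') ⟶ U)) := by
      rw [e]
      exact h1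
    have h4 : IsIso (prod.map (𝟙 U) k) := IsIso.of_isIso_comp_right _
      (prod.fst : U ⨯ pushout (prod.fst : U ⨯ X' ⟶ U) (prod.snd : U ⨯ X' ⟶ X') ⟶ U)
    have h5 : IsIso ((prod.functor.obj U).map k) := h4
    exact hG.isIso_fst_of_isIso
  · intro h
    exact (isPullback_inr_of_isIso U hU m h k hk₁ hk₂).flip

end General

end Groth.Agent.Helper9.ClosedCompl
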