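import Mathlib

set_option autoImplicit false

namespace Groth.Agent.Helper9.FlatImage

open CategoryTheory CategoryTheory.Limits AlgebraicGeometry

universe u

/-- ring-level: `B` is flat over a Dedekind domain `R` as soon as it embeds into a ring in which
every non-zero element of `R` becomes invertible. -/
theorem flat_of_injective_unit {R B C : Type u} [CommRing R] [IsDedekindDomain R] [CommRing B]
    [CommRing C] (φ : R →+* B) (ι : B →+* C) (hι : Function.Injective ι)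
    (hu : ∀ r : R, r ≠ 0 → IsUnit (ι (φ r))) : φ.Flat := by
  letI := φ.toAlgebra
  change Module.Flat R B
  rw [IsDedekindDomain.flat_iff_torsion_eq_bot, Submodule.eq_bot_iff]
  intro b hb
  rw [Submodule.mem_torsion_iff] at hb
  obtain ⟨⟨r, hr⟩, hrb⟩ := hb
  have hr0 : r ≠ 0 := nonZeroDivisors.ne_zero hr
  have h1 : ι (φ r) * ι b = 0 := by
    rw [← map_mul]
    have : φ r * b = 0 := hrb
    rw [this, map_zero]
  have h2 : ι b = 0 := (hu r hr0).mul_right_eq_zero.mp h1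
  exact hι (by rw [h2, map_zero])

theorem flat_cover_comp {R : CommRingCat.{u}} [IsDedekindDomain R] {W X : Scheme.{u}}
    (ψ : W ⟶ X) [QuasiCompact ψ] (f : X ⟶ Spec R)
    (hunit : ∀ r : R, r ≠ 0 → IsUnit ((ψ ≫ f).appTop ((Scheme.ΓSpecIso R).inv r)))
    (U : X.affineOpens) :
    Flat (ψ.ker.subschemeCover.f U ≫ ψ.imageι ≫ f) := by
  have h1 : ψ.ker.subschemeCover.f U ≫ ψ.imageι ≫ f =
      Spec.map (CommRingCat.ofHom (Ideal.Quotient.mk (ψ.ker.ideal U))) ≫ U.2.fromSpec ≫ f := by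
    rw [← Category.assoc, Scheme.IdealSheafData.subschemeCover_map_subschemeι,
      Scheme.IdealSheafData.glueDataObjι_ι]
    exact Category.assoc _ _ _
  have h2 : U.2.fromSpec ≫ f = Spec.map ((Scheme.ΓSpecIso R).inv ≫ f.appLE ⊤ U.1 le_top) := by
    rw [← IsAffineOpen.SpecMap_appLE_fromSpec f (isAffineOpen_top _) U.2 le_top,
      IsAffineOpen.fromSpec_top, Scheme.isoSpec_Spec_inv, ← Spec.map_comp]
  rw [h1, h2, ← Spec.map_comp]
  erw [HasRingHomProperty.Spec_iff (P := @Flat)]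
  have hker : ∀ a ∈ ψ.ker.ideal U, (ψ.app U.1).hom a = 0 := by
    intro a ha
    rw [Scheme.Hom.ker_apply] at ha
    exact ha
  refine flat_of_injective_unit _ (Ideal.Quotient.lift (ψ.ker.ideal U) (ψ.app U.1).hom hker) ?_ ?_
  · apply RingHom.lift_injective_of_ker_le_ideal
    rw [Scheme.Hom.ker_apply]
  · intro r hr
    have h3 : (Ideal.Quotient.lift (ψ.ker.ideal U) (ψ.app U.1).hom hker)
        ((((Scheme.ΓSpecIso R).inv ≫ f.appLE ⊤ U.1 le_top) ≫
          CommRingCat.ofHom (Ideal.Quotient.mk (ψ.ker.ideal U))).hom r) =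
        (W.presheaf.map (homOfLE (le_top : ψ ⁻¹ᵁ U.1 ≤ ⊤)).op).hom
          ((ψ ≫ f).appTop ((Scheme.ΓSpecIso R).inv r)) := by
      simp only [CommRingCat.hom_comp, RingHom.coe_comp, Function.comp_apply, CommRingCat.hom_ofHom,
        Ideal.Quotient.lift_mk]
      have h4 : f.appLE ⊤ U.1 le_top ≫ ψ.app U.1 =
          (ψ ≫ f).appTop ≫ W.presheaf.map (homOfLE (le_top : ψ ⁻¹ᵁ U.1 ≤ ⊤)).op := by
        rw [Scheme.Hom.app_eq_appLE]
        refine (Scheme.Hom.appLE_comp_appLE ψ f ⊤ U.1 (ψ ⁻¹ᵁ U.1) le_top le_rfl).trans ?_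
        rw [Scheme.Hom.appTop, Scheme.Hom.app_eq_appLE]
        exact (Scheme.Hom.appLE_map (U := ⊤) (V := (ψ ≫ f) ⁻¹ᵁ ⊤) (V' := ψ ⁻¹ᵁ U.1) (ψ ≫ f) (le_refl _)
          (homOfLE (show ψ ⁻¹ᵁ U.1 ≤ ((ψ ≫ f) ⁻¹ᵁ ⊤) from le_top)).op).symm
      exact congrArg (fun t => t.hom ((Scheme.ΓSpecIso R).inv r)) h4
    rw [h3]
    exact (hunit r hr).map _

theorem flat_imageι_comp {R : CommRingCat.{u}} [IsDedekindDomain R] {W X : Scheme.{u}}
    (ψ : W ⟶ X) [QuasiCompact ψ] (f : X ⟶ Spec R)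
    (hunit : ∀ r : R, r ≠ 0 → IsUnit ((ψ ≫ f).appTop ((Scheme.ΓSpecIso R).inv r))) :
    Flat (ψ.imageι ≫ f) := by
  haveI : IsAffine (Spec R) := inferInstance
  haveI hA : ∀ U, IsAffine (ψ.ker.subschemeCover.openCover.X U) := by
    intro U; change IsAffine (Spec _); infer_instance
  refine HasRingHomProperty.of_source_openCover (P := @Flat) ψ.ker.subschemeCover.openCover ?_
  intro U
  rw [← HasRingHomProperty.iff_of_isAffine (P := @Flat)]
  exact flat_cover_comp ψ f hunit U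

end Groth.Agent.Helper9.FlatImage
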