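import Mathlib
import Groth.Prelude.Def_Neron
import Groth.Prelude.Def_Red
import Groth.Agent.Helper9.NeronClosed
import Groth.Agent.Helper9.FlatImage
import Groth.Agent.Helper9.SubGrpObj

set_option autoImplicit false

namespace Groth.Agent.Helper9.ClosureSub

open CategoryTheory CategoryTheory.Limits MonoidalCategory CartesianMonoidalCategory MonObj GrpObj
  AlgebraicGeometry Groth.Agent.Helper9.NeronClosed

universe u

theorem dominant_toImage {X Y : Scheme.{u}} (f : X ⟶ Y) [QuasiCompact f] :
    IsSchemeTheoreticallyDominant f.toImage := by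
  rw [isSchemeTheoreticallyDominant_iff]
  refine Scheme.IdealSheafData.ext_of_iSup_eq_top
    (fun U : Y.affineOpens => ⟨f.imageι ⁻¹ᵁ U.1, U.2.preimage f.imageι⟩) ?_ ?_
  · have h := iSup_affineOpens_eq_top Y
    have h2 := congrArg (fun V => f.imageι ⁻¹ᵁ V) h
    simp only [Scheme.Hom.preimage_iSup, Scheme.Hom.preimage_top] at h2
    exact h2
  · intro U
    rw [Scheme.Hom.ker_apply]
    simp only [Scheme.IdealSheafData.ideal_bot, Pi.bot_apply]
    rw [← RingHom.injective_iff_ker_eq_bot]
    exact f.toImage_app_injective U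

variable (R : Type u) [CommRing R] [IsDomain R]

instance flat_genPt : Flat (Neron.genPt R) := by
  rw [HasRingHomProperty.Spec_iff (P := @Flat)]
  change (algebraMap R (FractionRing R)).Flat
  rw [RingHom.flat_algebraMap_iff]
  exact IsLocalization.flat (FractionRing R) (nonZeroDivisors R)

instance dominant_genPt : IsSchemeTheoreticallyDominant (Neron.genPt R) :=
  isSchemeTheoreticallyDominant_specMap _ (IsFractionRing.injective R (FractionRing R))

instance mono_genPt : Mono (Neron.genPt R) := by
  haveI : IsPreimmersion (Neron.genPt R) :=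
    IsPreimmersion.of_isLocalization (nonZeroDivisors R)
  infer_instance

section Main

variable {R : Type u} [CommRing R] [IsDedekindDomain R]
  {G : Over (Spec (CommRingCat.of R))} [GrpObj G]
  {HK : Over (Spec (CommRingCat.of (FractionRing R)))} [GrpObj HK]
  (i : HK ⟶ Red.bc (Neron.genPt R) G) [IsMonHom i] [IsClosedImmersion i.left]

/-- the composite `HK → G_K → G` -/
noncomputable abbrev psi : HK.left ⟶ G.left := i.left ≫ pullback.fst G.hom (Neron.genPt R)

instance qc_psi : QuasiCompact (psi i) := inferInstance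

theorem psi_comp : psi i ≫ G.hom = HK.hom ≫ Neron.genPt R := by
  rw [Category.assoc, pullback.condition, ← Category.assoc]
  congr 1
  exact Over.w i

/-- the schematic closure -/
noncomputable abbrev H : Over (Spec (CommRingCat.of R)) := Over.mk ((psi i).imageι ≫ G.hom)

noncomputable abbrev j : H i ⟶ G := Over.homMk (psi i).imageι rfl

noncomputable abbrev phi : HK.left ⟶ (H i).left := (psi i).toImage

theorem phi_j : phi i ≫ (j i).left = psi i := (psi i).toImage_imageι

theorem phi_comp : phi i ≫ (H i).hom = HK.hom ≫ Neron.genPt R := by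
  change (psi i).toImage ≫ (psi i).imageι ≫ G.hom = _
  rw [← Category.assoc, (psi i).toImage_imageι, psi_comp]

instance dominant_phi : IsSchemeTheoreticallyDominant (phi i) := dominant_toImage _

instance closed_j : IsClosedImmersion (j i).left := by
  change IsClosedImmersion (psi i).imageι
  infer_instance

instance mono_j : Mono (j i) := by
  haveI : Mono (j i).left := inferInstance
  exact Over.mono_of_mono_left (j i)

theorem flat_H : Flat (H i).hom := by
  change Flat ((psi i).imageι ≫ G.hom)
  refine FlatImage.flat_imageι_comp (R := CommRingCat.of R) (psi i) G.hom ?_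
  intro r hr
  rw [psi_comp]
  rw [Scheme.Hom.comp_appTop]
  have h1 : (Neron.genPt R).appTop ((Scheme.ΓSpecIso (CommRingCat.of R)).inv r) =
      (Scheme.ΓSpecIso (CommRingCat.of (FractionRing R))).inv (algebraMap R (FractionRing R) r) := by
    have := Scheme.ΓSpecIso_inv_naturality (CommRingCat.ofHom (algebraMap R (FractionRing R)))
    exact (congrArg (fun t => t.hom r) this).symm
  rw [CommRingCat.comp_apply, h1]
  have hK : IsUnit (algebraMap R (FractionRing R) r) := by
    rw [isUnit_iff_ne_zero]
    exact (map_ne_zero_iff _ (IsFractionRing.injective R (FractionRing R))).mpr hr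
  exact (hK.map _).map _

/-- the comparison `HK → H_K` -/
noncomputable abbrev uu : HK.left ⟶ pullback (H i).hom (Neron.genPt R) :=
  pullback.lift (phi i) HK.hom (phi_comp i)

theorem uu_map : uu i ≫ ((Over.pullback (Neron.genPt R)).map (j i)).left = i.left := by
  apply pullback.hom_ext
  · rw [Category.assoc, pullback_map_left_fst, pullback.lift_fst_assoc]
    exact phi_j i
  · have h1 : ((Over.pullback (Neron.genPt R)).map (j i)).left ≫ pullback.snd G.hom (Neron.genPt R) =
        pullback.snd (H i).hom (Neron.genPt R) := Over.w ((Over.pullback (Neron.genPt R)).map (j i))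
    rw [Category.assoc, h1, pullback.lift_snd]
    exact (Over.w i).symm

theorem isPullback_uu : IsPullback (𝟙 HK.left) (uu i) (phi i) (pullback.fst (H i).hom (Neron.genPt R)) := by
  refine ⟨⟨by rw [Category.id_comp, pullback.lift_fst]⟩, ⟨PullbackCone.IsLimit.mk _ (fun s => s.fst) ?_ ?_ ?_⟩⟩
  · intro s
    exact Category.comp_id _
  · intro s
    apply pullback.hom_ext
    · rw [Category.assoc, pullback.lift_fst]
      exact s.condition
    · rw [Category.assoc, pullback.lift_snd, ← cancel_mono (Neron.genPt R), Category.assoc,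
        ← phi_comp i, ← Category.assoc, s.condition, Category.assoc, Category.assoc, pullback.condition]
  · intro s m h1 _
    rw [← h1]
    exact (Category.comp_id _).symm

instance dominant_uu : IsSchemeTheoreticallyDominant (uu i) := by
  haveI : QuasiCompact (phi i) := inferInstance
  exact IsSchemeTheoreticallyDominant.of_isPullback (isPullback_uu i)

instance closed_uu : IsClosedImmersion (uu i) := by
  haveI : IsClosedImmersion (uu i ≫ ((Over.pullback (Neron.genPt R)).map (j i)).left) := by
    rw [uu_map]; infer_instance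
  exact IsClosedImmersion.of_comp (uu i) ((Over.pullback (Neron.genPt R)).map (j i)).left

instance isIso_uu : IsIso (uu i) :=
  IsClosedImmersion.isIso_iff_ker_eq_bot.mpr (Scheme.Hom.ker_eq_bot (uu i))

theorem isPullback_phi : IsPullback (phi i) HK.hom (H i).hom (Neron.genPt R) :=
  IsPullback.of_iso_pullback ⟨phi_comp i⟩ (asIso (uu i)) (pullback.lift_fst _ _ _) (pullback.lift_snd _ _ _)

/-- the comparison as an isomorphism over `Spec K` -/
noncomputable def uOver : HK ≅ (Over.pullback (Neron.genPt R)).obj (H i) :=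
  Over.isoMk (asIso (uu i)) (pullback.lift_snd _ _ _)

theorem uOver_hom_map : (uOver i).hom ≫ (Over.pullback (Neron.genPt R)).map (j i) = i := by
  apply Over.OverMorphism.ext
  exact uu_map i

theorem uOver_inv_i : (uOver i).inv ≫ i = (Over.pullback (Neron.genPt R)).map (j i) := by
  rw [Iso.inv_comp_eq, uOver_hom_map]

/-- key factorisation lemma -/
theorem exists_factor {Z : Over (Spec (CommRingCat.of R))} [Flat Z.hom] (g : Z ⟶ G)
    (h' : (Over.pullback (Neron.genPt R)).obj Z ⟶ HK)
    (hh : h' ≫ i = (Over.pullback (Neron.genPt R)).map g) : ∃ h : Z ⟶ H i, h ≫ j i = g := by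
  have hb : pullback.fst Z.hom (Neron.genPt R) ≫ g.left = (h'.left ≫ phi i) ≫ (j i).left := by
    rw [← pullback_map_left_fst (Neron.genPt R) g, ← hh, Category.assoc, phi_j]
    rfl
  obtain ⟨g0, hg0⟩ := exists_factor_of_dominant (pullback.fst Z.hom (Neron.genPt R)) g.left (j i).left
    (h'.left ≫ phi i) hb
  refine ⟨Over.homMk g0 ?_, Over.OverMorphism.ext hg0⟩
  change g0 ≫ (psi i).imageι ≫ G.hom = Z.hom
  rw [← Category.assoc]
  have : g0 ≫ (psi i).imageι = g.left := hg0
  rw [this, Over.w g]

open Functor.LaxMonoidal Functor.OplaxMonoidal Functor.Monoidal in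
theorem exists_one : ∃ e : 𝟙_ (Over (Spec (CommRingCat.of R))) ⟶ H i, e ≫ j i = η[G] := by
  haveI : Flat (𝟙_ (Over (Spec (CommRingCat.of R)))).hom := by
    change Flat (𝟙 _); infer_instance
  refine exists_factor i η[G] (toUnit _ ≫ η[HK]) ?_
  rw [Category.assoc, IsMonHom.one_hom]
  have h1 : η[Red.bc (Neron.genPt R) G] =
      ε (Over.pullback (Neron.genPt R)) ≫ (Over.pullback (Neron.genPt R)).map η[G] := rfl
  rw [h1, ← Category.assoc]
  have h2 : toUnit ((Over.pullback (Neron.genPt R)).obj (𝟙_ (Over (Spec (CommRingCat.of R))))) ≫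
      ε (Over.pullback (Neron.genPt R)) = 𝟙 _ := by
    rw [toUnit_unique (toUnit _) (Functor.OplaxMonoidal.η (Over.pullback (Neron.genPt R))), η_ε]
  rw [h2, Category.id_comp]

theorem exists_inv : ∃ ι' : H i ⟶ H i, ι' ≫ j i = j i ≫ ι[G] := by
  haveI : Flat (H i).hom := flat_H i
  refine exists_factor i (j i ≫ ι[G]) ((uOver i).inv ≫ ι[HK]) ?_
  have h1 : ι[HK] ≫ i = i ≫ ι[Red.bc (Neron.genPt R) G] := GrpObj.inv_hom i
  have h2 : ι[Red.bc (Neron.genPt R) G] = (Over.pullback (Neron.genPt R)).map ι[G] := rfl
  rw [Category.assoc, h1, ← Category.assoc, uOver_inv_i, h2, ← Functor.map_comp]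

open Functor.LaxMonoidal Functor.OplaxMonoidal Functor.Monoidal in
theorem exists_mul : ∃ m : H i ⊗ H i ⟶ H i, m ≫ j i = (j i ⊗ₘ j i) ≫ μ[G] := by
  haveI : Flat (H i).hom := flat_H i
  haveI : Flat (H i ⊗ H i).hom := by
    have h : (H i ⊗ H i).hom = pullback.fst (H i).hom (H i).hom ≫ (H i).hom := rfl
    rw [h]; infer_instance
  refine exists_factor i ((j i ⊗ₘ j i) ≫ μ[G])
    (δ (Over.pullback (Neron.genPt R)) (H i) (H i) ≫ ((uOver i).inv ⊗ₘ (uOver i).inv) ≫ μ[HK]) ?_
  have h1 : μ[Red.bc (Neron.genPt R) G] =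
      Functor.LaxMonoidal.μ (Over.pullback (Neron.genPt R)) G G ≫
        (Over.pullback (Neron.genPt R)).map μ[G] := rfl
  rw [Category.assoc, Category.assoc, IsMonHom.mul_hom, tensorHom_comp_tensorHom_assoc, uOver_inv_i, h1,
    μ_natural_assoc, δ_μ_assoc, ← Functor.map_comp]

theorem main : ∃ (H : Over (Spec (CommRingCat.of R))) (_ : GrpObj H) (j : H ⟶ G) (φ : HK.left ⟶ H.left),
      IsMonHom j ∧ IsClosedImmersion j.left ∧ Flat H.hom ∧
      IsPullback φ HK.hom H.hom (Neron.genPt R) ∧
      φ ≫ j.left = i.left ≫ pullback.fst G.hom (Neron.genPt R) ∧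
      φ.ker = ⊥ := by
  obtain ⟨e, he⟩ := exists_one i
  obtain ⟨m, hm⟩ := exists_mul i
  obtain ⟨ι', hι⟩ := exists_inv i
  refine ⟨H i, SubGrpObj.grpObjOfMono (j i) e m ι' he hm hι, j i, phi i, ?_, closed_j i, flat_H i,
    isPullback_phi i, phi_j i, Scheme.Hom.ker_eq_bot (phi i)⟩
  exact SubGrpObj.isMonHom_of_grpObjOfMono (j i) e m ι' he hm hι

end Main

end Groth.Agent.Helper9.ClosureSub
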