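import Mathlib
import Groth.Prelude.Def_WeakSerre
import Groth.Agent.Helper1.Horseshoe

/-! Inverse image of a weak Serre subcategory under a left exact functor whose `R¹` vanishes on
the inverse image is weak Serre. -/

set_option autoImplicit false

namespace Groth.Agent.Helper9.WSInv

open CategoryTheory Limits Groth.Agent.Helper1
open ZeroObject

universe v u v' u'
variable {A : Type u} [Category.{v} A] [Abelian A] [HasInjectiveResolutions A]
  {B : Type u'} [Category.{v'} B] [Abelian B] (G : A ⥤ B) [G.Additive] [PreservesFiniteLimits G]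

/-- `G` preserves short exactness of `S` when `R¹G(S.X₁) = 0` -/
lemma shortExact_map (S : ShortComplex A) (hS : S.ShortExact)
    (hz : IsZero ((G.rightDerived 1).obj S.X₁)) : (S.map G).ShortExact := by
  have les := Horseshoe.hasLES_rightDerived G S hS
  have hepi : Epi (G.map S.g) := by
    obtain ⟨δ, w₁, w₂, h₁, h₂⟩ := les 0
    have hδ : δ = 0 := hz.eq_of_tgt _ _
    have h0 : Epi ((G.rightDerived 0).map S.g) := h₁.epi_f hδ
    have e := G.rightDerivedZeroIsoSelf
    have : G.map S.g = e.inv.app _ ≫ (G.rightDerived 0).map S.g ≫ e.hom.app _ := by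
      rw [e.hom.naturality, Iso.inv_hom_id_app_assoc]
    rw [this]
    infer_instance
  haveI := hS.mono_f
  exact { exact := hS.exact.map_of_mono_of_preservesKernel _ hS.mono_f inferInstance
          mono_f := by
            show Mono (G.map S.f)
            infer_instance
          epi_g := hepi }

variable (P : ObjectProperty B) [WSerre.IsWeakSerre P]
  (hR1 : ∀ F : A, P (G.obj F) → IsZero ((G.rightDerived 1).obj F))

include hR1 in
theorem isWeakSerre_inverseImage : WSerre.IsWeakSerre (P.inverseImage G) := by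
  have hext : ∀ (S : ShortComplex A), S.ShortExact → P (G.obj S.X₁) → P (G.obj S.X₃) →
      P (G.obj S.X₂) := by
    intro S hS h1 h3
    have hS' := shortExact_map G S hS (hR1 _ h1)
    exact P.prop_X₂_of_shortExact hS' h1 h3
  have hcok : ∀ (S : ShortComplex A), S.ShortExact → P (G.obj S.X₁) → P (G.obj S.X₂) →
      P (G.obj S.X₃) := by
    intro S hS h1 h2
    have hS' := shortExact_map G S hS (hR1 _ h1)
    haveI := hS'.epi_g
    exact P.prop_of_isColimit_cokernelCofork hS'.gIsCokernel h1 h2
  have hker : ∀ {X Y : A} (f : X ⟶ Y), P (G.obj X) → P (G.obj Y) → P (G.obj (kernel f)) := by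
    intro X Y f hX hY
    exact P.prop_of_iso (PreservesKernel.iso G f).symm (P.prop_kernel (G.map f) hX hY)
  refine { exists_zero := ?_, kernels_le := ?_, cokernels_le := ?_, prop_X₂_of_shortExact := ?_ }
  · obtain ⟨Z, hZ, hPZ⟩ := P.exists_prop_of_containsZero
    refine ⟨0, isZero_zero A, ?_⟩
    exact P.prop_of_iso (hZ.iso (G.map_isZero (isZero_zero A))) hPZ
  · rintro _ ⟨f, k, hk, hf⟩
    have e : kernel f ≅ k.pt := IsLimit.conePointUniqueUpToIso (limit.isLimit _) hk
    exact P.prop_of_iso (G.mapIso e) (hker f hf.1 hf.2)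
  · rintro _ ⟨f, k, hk, hf⟩
    -- `0 → ker f → X → im f → 0` and `0 → im f → Y → coker f → 0`
    have hK : P (G.obj (kernel f)) := hker f hf.1 hf.2
    let S₁ : ShortComplex A := ShortComplex.mk (kernel.ι f) (Abelian.factorThruImage f) (by
      rw [← cancel_mono (Abelian.image.ι f)]; simp)
    have hS₁ : S₁.ShortExact := by
      refine ShortComplex.ShortExact.mk' ?_ (by dsimp [S₁]; infer_instance)
        (by dsimp [S₁]; infer_instance)
      rw [ShortComplex.exact_iff_of_epi_of_isIso_of_mono
        (φ := (ShortComplex.Hom.mk (𝟙 _) (𝟙 _) (Abelian.image.ι f) (by simp [S₁]) (by simp [S₁]) :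
          S₁ ⟶ ShortComplex.mk (kernel.ι f) f (by simp)))]
      exact ShortComplex.exact_kernel f
    have hI : P (G.obj (Abelian.image f)) := hcok S₁ hS₁ hK hf.1
    let S₂ : ShortComplex A := ShortComplex.mk (Abelian.image.ι f) (cokernel.π f) (by simp)
    have hS₂ : S₂.ShortExact := by
      refine ShortComplex.ShortExact.mk' ?_ (by dsimp [S₂]; infer_instance)
        (by dsimp [S₂]; infer_instance)
      rw [← ShortComplex.exact_iff_of_epi_of_isIso_of_mono
        (φ := (ShortComplex.Hom.mk (Abelian.factorThruImage f) (𝟙 _) (𝟙 _) (by simp [S₂])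
          (by simp [S₂]) : ShortComplex.mk f (cokernel.π f) (by simp) ⟶ S₂))]
      exact ShortComplex.exact_cokernel f
    have hQ : P (G.obj (cokernel f)) := hcok S₂ hS₂ hI hf.2
    have e : cokernel f ≅ k.pt := IsColimit.coconePointUniqueUpToIso (colimit.isColimit _) hk
    exact P.prop_of_iso (G.mapIso e) hQ
  · intro S hS h1 h3
    exact hext S hS h1 h3

end Groth.Agent.Helper9.WSInv
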