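import Mathlib
import Groth.Prelude.Def_SiteCmp
import Groth.Prelude.Def_WeakSerre
import Groth.Prelude.Def_CohSite
import Groth.Agent.Helper1.SitePush
import Groth.Agent.Helper9.WSInv

/-! S9074 conditional on `R¹ε_* = 0` on the inverse image. -/

set_option autoImplicit false

namespace Groth.Agent.Helper9.Cmp74

open CategoryTheory Limits Opposite

universe u
variable {C : Type u} [SmallCategory C] {J J' : GrothendieckTopology C} (h : J' ≤ J)

theorem isWeakSerre_of_R1 (X : C)
    (A'X : ObjectProperty (Sheaf (J'.over X) AddCommGrpCat.{u})) [WSerre.IsWeakSerre A'X]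
    (hV : ∀ F : Sheaf (J.over X) AddCommGrpCat.{u},
      A'X ((SiteCmp.epsSh (SiteCmp.over_le h X) AddCommGrpCat.{u}).obj F) →
      IsZero (((SiteCmp.epsSh (SiteCmp.over_le h X) AddCommGrpCat.{u}).rightDerived 1).obj F)) :
    WSerre.IsWeakSerre (A'X.inverseImage (SiteCmp.epsSh (SiteCmp.over_le h X) AddCommGrpCat.{u})) := by
  haveI := SiteCmp.idContinuous (SiteCmp.over_le h X)
  exact WSInv.isWeakSerre_inverseImage
    (SiteCmp.epsSh (SiteCmp.over_le h X) AddCommGrpCat.{u}) A'X hV

end Groth.Agent.Helper9.Cmp74
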