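import Mathlib
import Groth.Prelude.Def_EtBase
import Groth.Prelude.Def_EtCore
import Groth.Prelude.Def_EtLim
import Groth.Prelude.Def_PBC
import Groth.Agent.Helper6.LimCohU
import Groth.Agent.Helper6.LimCohJ
import Groth.Agent.Helper6.ConsM

set_option autoImplicit false
set_option linter.style.haveILetI false
set_option linter.unusedSectionVars false
set_option linter.unusedVariables false
set_option linter.unusedSimpArgs false

/-!
# Descent of morphisms out of sums of `j_! ℤ/n` along a limit of schemes (direct image form)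
-/

namespace Groth.Agent.Helper9.CnsDescA

open CategoryTheory CategoryTheory.Limits AlgebraicGeometry Opposite
open Groth.Agent.Helper6.LimCohA Groth.Agent.Helper6.LimCohB Groth.Agent.Helper6.LimCohF
  Groth.Agent.Helper6.LimCohG Groth.Agent.Helper6.LimCohH Groth.Agent.Helper6.LimCohJ
  Groth.Agent.Helper6.ConsD Groth.Agent.Helper6.ConsJ Groth.Agent.Helper6.ConsM

universe u

variable {ι : Type u} [Preorder ι] [IsDirected ι (· ≤ ·)] [Nonempty ι]
  {Xs : ιᵒᵖ ⥤ Scheme.{u}} {c : Cone Xs} (S : PSys Xs) (C : PCone c S)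

/-- a section of the colimit over a qcqs object which is killed by `n` comes from a section at a
finite level which is killed by `n` -/
theorem exists_level (G : Geo Xs c) (hC : C.IsColim) {k : ι} (W' : (Xs.obj (op k)).Etale)
    [CompactSpace W'.left] [QuasiSeparatedSpace W'.left] (n : ℕ)
    (t : C.pt.obj.obj (op ((EtCoh.bc (pm Xs c k)).obj W'))) (ht : n • t = 0) (l₀ : ι) :
    ∃ (l : ι) (h : k ≤ l) (_ : l₀ ≤ l) (s : (S.F l).obj.obj (op ((EtCoh.bc (fm Xs h)).obj W'))),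
      n • s = 0 ∧ Θ S C h W' s = t := by
  obtain ⟨l, h, s, hs⟩ := surj_of_geo S C G hC W' t
  have h0 : Θ S C h W' (n • s) = 0 := by rw [map_nsmul, hs, ht]
  obtain ⟨l', h', hl'⟩ := Θ_inj S C G hC h W' (n • s) h0
  obtain ⟨l'', h1, h2⟩ := exists_ge_ge l' l₀
  refine ⟨l'', h.trans (h'.trans h1), h2, R S h (h'.trans h1) W' s, ?_, ?_⟩
  · rw [← map_nsmul]
    have h3 := ConcreteCategory.congr_hom (R_R S h h' h1 W') (n • s)
    rw [ConcreteCategory.comp_apply, hl', map_zero] at h3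
    exact h3.symm
  · have h3 := ConcreteCategory.congr_hom (R_Θ S C h (h'.trans h1) W') s
    rw [ConcreteCategory.comp_apply] at h3
    rw [h3, hs]

/-- the same for finitely many sections -/
theorem exists_level_fin (G : Geo Xs c) (hC : C.IsColim) {k : ι} :
    ∀ {b : ℕ} (W' : Fin b → (Xs.obj (op k)).Etale)
    (hW : ∀ j, CompactSpace (W' j).left ∧ QuasiSeparatedSpace (W' j).left) (n : Fin b → ℕ)
    (t : ∀ j, C.pt.obj.obj (op ((EtCoh.bc (pm Xs c k)).obj (W' j)))) (ht : ∀ j, n j • t j = 0),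
    ∃ (l : ι) (h : k ≤ l) (s : ∀ j, (S.F l).obj.obj (op ((EtCoh.bc (fm Xs h)).obj (W' j)))),
      ∀ j, n j • s j = 0 ∧ Θ S C h (W' j) (s j) = t j := by
  classical
  intro b W' hW n t ht
  have h1 : ∀ j, ∃ (l : ι) (h : k ≤ l)
      (s : (S.F l).obj.obj (op ((EtCoh.bc (fm Xs h)).obj (W' j)))),
      n j • s = 0 ∧ Θ S C h (W' j) s = t j := by
    intro j
    haveI := (hW j).1
    haveI := (hW j).2
    obtain ⟨l, h, -, s, hs⟩ := exists_level S C G hC (W' j) (n j) (t j) (ht j) k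
    exact ⟨l, h, s, hs⟩
  choose l h s hs using h1
  obtain ⟨M₀, hM₀⟩ := ((Finset.univ : Finset (Fin b)).image l).exists_le
  obtain ⟨M, hkM, hM₀M⟩ := exists_ge_ge k M₀
  have hl : ∀ j, l j ≤ M := fun j =>
    (hM₀ (l j) (Finset.mem_image_of_mem l (Finset.mem_univ j))).trans hM₀M
  refine ⟨M, hkM, fun j => R S (h j) (hl j) (W' j) (s j), fun j => ⟨?_, ?_⟩⟩
  · rw [← map_nsmul, (hs j).1, map_zero]
  · have h3 := ConcreteCategory.congr_hom (R_Θ S C (h j) (hl j) (W' j)) (s j)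
    rw [ConcreteCategory.comp_apply] at h3
    rw [h3, (hs j).2]

/-- a morphism from a finite sum of sheaves `j_! ℤ/n` on qcqs objects at a finite level to the
direct image of the colimit factors through a finite level -/
theorem exists_factor (G : Geo Xs c) (hC : C.IsColim) {k : ι} {b : ℕ}
    (V' : Fin b → (Xs.obj (op k)).Etale)
    (hV : ∀ j, CompactSpace (V' j).left ∧ QuasiSeparatedSpace (V' j).left) (m : Fin b → ℕ)
    (ψ : (⨁ fun j => cyc (V' j) (m j)) ⟶ (EtCoh.push (pm Xs c k)).obj C.pt) :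
    ∃ (l : ι) (h : k ≤ l)
      (ψ' : (⨁ fun j => cyc (V' j) (m j)) ⟶ (EtCoh.push (fm Xs h)).obj (S.F l)),
      Cocycle (fm Xs h) (pm Xs c l) (pm Xs c k) (pm_comp Xs c h) ψ' (C.ρ l) ψ := by
  let t : ∀ j, C.pt.obj.obj (op ((EtCoh.bc (pm Xs c k)).obj (V' j))) := fun j =>
    (evalAt (V' j)).map (biproduct.ι (fun j => cyc (V' j) (m j)) j ≫ ψ)
      (unitHom (V' j) (m j) (ULift.up 1))
  have ht : ∀ j, m j • t j = 0 := by
    intro j
    show m j • ((evalAt (V' j)).map (biproduct.ι (fun j => cyc (V' j) (m j)) j ≫ ψ)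
      (unitHom (V' j) (m j) (ULift.up 1))) = 0
    rw [← map_nsmul, nsmul_unit, map_zero]
  obtain ⟨l, h, s, hs⟩ := exists_level_fin S C G hC V' hV m t ht
  let ψj : ∀ j, cyc (V' j) (m j) ⟶ (EtCoh.push (fm Xs h)).obj (S.F l) := fun j =>
    gen (V' j) (m j) ((EtCoh.push (fm Xs h)).obj (S.F l)) (s j) (hs j).1
  refine ⟨l, h, biproduct.desc ψj, ?_⟩
  show biproduct.desc ψj ≫ (EtCoh.push (fm Xs h)).map (C.ρ l) =
    ψ ≫ pk (fm Xs h) (pm Xs c l) (pm Xs c k) (pm_comp Xs c h) C.pt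
  apply biproduct.hom_ext'
  intro j
  rw [biproduct.ι_desc_assoc]
  apply cyc_hom_ext
  have e1 : (evalAt (V' j)).map (ψj j ≫ (EtCoh.push (fm Xs h)).map (C.ρ l))
      (unitHom (V' j) (m j) (ULift.up 1)) =
      rapp (pm Xs c l) (C.ρ l) ((EtCoh.bc (fm Xs h)).obj (V' j)) (s j) := by
    rw [Functor.map_comp, ConcreteCategory.comp_apply, gen_apply]
    rfl
  have e2 : (evalAt (V' j)).map (biproduct.ι (fun j => cyc (V' j) (m j)) j ≫ ψ ≫
      pk (fm Xs h) (pm Xs c l) (pm Xs c k) (pm_comp Xs c h) C.pt)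
      (unitHom (V' j) (m j) (ULift.up 1)) =
      C.pt.obj.map (kq (fm Xs h) (pm Xs c l) (pm Xs c k) (pm_comp Xs c h) (V' j)).op (t j) := by
    rw [← Category.assoc, Functor.map_comp, ConcreteCategory.comp_apply]
    have h2 : (pk (fm Xs h) (pm Xs c l) (pm Xs c k) (pm_comp Xs c h) C.pt).hom.app (op (V' j)) =
      C.pt.obj.map (kq (fm Xs h) (pm Xs c l) (pm Xs c k) (pm_comp Xs c h) (V' j)).op :=
      pk_app _ _ _ _ C.pt (V' j)
    exact congrArg (fun f => f (t j)) (congrArg (fun f => (ConcreteCategory.hom f)) h2)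
  rw [e1, e2, rapp_eq_Θ_kq, ConcreteCategory.comp_apply, (hs j).2]

end Groth.Agent.Helper9.CnsDescA
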