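import Mathlib
import Groth.Prelude.Def_EtBase
import Groth.Prelude.Def_EtCore
import Groth.Prelude.Def_EtLim
import Groth.Prelude.Def_PBC
import Groth.Agent.Helper6.LimCohU
import Groth.Agent.Helper6.LimCohK
import Groth.Agent.Helper6.ConsK
import Groth.Agent.Helper6.ConsP
import Groth.Agent.Helper6.ConsV
import Groth.Agent.Helper9.CnsDescA

set_option autoImplicit false
set_option linter.style.haveILetI false
set_option linter.unusedSectionVars false
set_option linter.unusedVariables false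
set_option linter.unusedSimpArgs false

/-!
# Constructible sheaves on a limit of schemes descend to a finite level
-/

namespace Groth.Agent.Helper9.CnsDescB

open CategoryTheory CategoryTheory.Limits AlgebraicGeometry Opposite
open Groth.Agent.Helper6.LimCohA Groth.Agent.Helper6.LimCohB Groth.Agent.Helper6.LimCohF
  Groth.Agent.Helper6.LimCohG Groth.Agent.Helper6.LimCohH Groth.Agent.Helper6.LimCohJ
  Groth.Agent.Helper6.LimCohK Groth.Agent.Helper6.LimCohL Groth.Agent.Helper6.LimCohR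
  Groth.Agent.Helper6.LimCohT Groth.Agent.Helper6.LimCohI
  Groth.Agent.Helper6.ConsD Groth.Agent.Helper6.ConsJ Groth.Agent.Helper6.ConsM
  Groth.Agent.Helper6.ConsK Groth.Agent.Helper6.ConsP Groth.Agent.Helper6.ConsI
  Groth.Agent.Helper4.ConsSerre Groth.Agent.Helper4.SuppC

universe u

variable {ι : Type u} [Preorder ι] [IsDirected ι (· ≤ ·)] [Nonempty ι]
  (Xs : ιᵒᵖ ⥤ Scheme.{u})
  (haff : ∀ ⦃a b : ιᵒᵖ⦄ (h : a ⟶ b), IsAffineHom (Xs.map h))
  (c : Cone Xs) (hc : IsLimit c)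

include haff hc in
/-- descent of a qcqs object of the small étale site to an arbitrarily high finite level -/
theorem exists_obj (W : c.pt.Etale) (hW : CompactSpace W.left ∧ QuasiSeparatedSpace W.left)
    (k₀ : ι) :
    ∃ (k : ι) (_ : k₀ ≤ k) (W' : (Xs.obj (op k)).Etale),
      (CompactSpace W'.left ∧ QuasiSeparatedSpace W'.left) ∧
      Nonempty (W ≅ (EtCoh.bc (pm Xs c k)).obj W') := by
  haveI := hW.1
  haveI := hW.2
  obtain ⟨m, W', h1, h2, ⟨e⟩⟩ := geo_obj₀ Xs haff c hc W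
  obtain ⟨k, hmk, hk₀⟩ := exists_ge_ge m k₀
  haveI : IsAffineHom (fm Xs hmk) := haff _
  haveI := h1
  haveI := h2
  exact ⟨k, hk₀, (EtCoh.bc (fm Xs hmk)).obj W',
    ⟨compactSpace_bc _ W', quasiSeparatedSpace_bc _ W'⟩,
    ⟨e ≪≫ trIso (fm Xs hmk) (pm Xs c k) (pm Xs c m) (pm_comp Xs c hmk) W'⟩⟩

include haff hc in
/-- descent of finitely many qcqs objects of the small étale site to a common finite level -/
theorem exists_obj_fin {b : ℕ} (W : Fin b → c.pt.Etale)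
    (hW : ∀ j, CompactSpace (W j).left ∧ QuasiSeparatedSpace (W j).left) (k₀ : ι) :
    ∃ (k : ι) (_ : k₀ ≤ k) (W' : Fin b → (Xs.obj (op k)).Etale),
      (∀ j, CompactSpace (W' j).left ∧ QuasiSeparatedSpace (W' j).left) ∧
      ∀ j, Nonempty (W j ≅ (EtCoh.bc (pm Xs c k)).obj (W' j)) := by
  classical
  have h1 := fun j => exists_obj Xs haff c hc (W j) (hW j) k₀
  choose l hl W' hW' e using h1
  obtain ⟨M₀, hM₀⟩ := ((Finset.univ : Finset (Fin b)).image l).exists_le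
  obtain ⟨M, hkM, hM₀M⟩ := exists_ge_ge k₀ M₀
  have hlM : ∀ j, l j ≤ M := fun j =>
    (hM₀ (l j) (Finset.mem_image_of_mem l (Finset.mem_univ j))).trans hM₀M
  refine ⟨M, hkM, fun j => (EtCoh.bc (fm Xs (hlM j))).obj (W' j), fun j => ?_, fun j => ?_⟩
  · haveI : IsAffineHom (fm Xs (hlM j)) := haff _
    haveI := (hW' j).1
    haveI := (hW' j).2
    exact ⟨compactSpace_bc _ (W' j), quasiSeparatedSpace_bc _ (W' j)⟩
  · obtain ⟨e'⟩ := e j
    exact ⟨e' ≪≫ trIso (fm Xs (hlM j)) (pm Xs c M) (pm Xs c (l j)) (pm_comp Xs c (hlM j)) (W' j)⟩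

/-- `j_! ℤ/n` on a base-changed object is the inverse image of `j_! ℤ/n` -/
theorem nonempty_iso_cyc {X Y : Scheme.{u}} (f : X ⟶ Y) (W : X.Etale) (W' : Y.Etale)
    (e : W ≅ (EtCoh.bc f).obj W') (n : ℕ) :
    Nonempty ((EtCoh.pull f).obj (cyc W' n) ≅ cyc W n) :=
  nonempty_iso_of_isFreeOn
    (isFreeOn_of_objIso e.symm (isFreeOn_pull f (isFreeOn_cyc W' n))) (isFreeOn_cyc W n)

/-- the same for finite sums -/
theorem nonempty_iso_sum {X Y : Scheme.{u}} (f : X ⟶ Y) {b : ℕ} (W : Fin b → X.Etale)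
    (W' : Fin b → Y.Etale) (e : ∀ j, Nonempty (W j ≅ (EtCoh.bc f).obj (W' j))) (n : Fin b → ℕ) :
    Nonempty ((EtCoh.pull f).obj (⨁ fun j => cyc (W' j) (n j)) ≅ ⨁ fun j => cyc (W j) (n j)) := by
  have h1 := fun j => nonempty_iso_cyc f (W j) (W' j) (e j).some (n j)
  exact ⟨(EtCoh.pull f).mapBiproduct (fun j => cyc (W' j) (n j)) ≪≫
    biproduct.mapIso (fun j => (h1 j).some)⟩

/-- finite sums of `j_! ℤ/n` on qcqs objects are constructible -/
theorem isConstructible_sum {Y : Scheme.{u}} [CompactSpace Y] [QuasiSeparatedSpace Y] {b : ℕ}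
    (W : Fin b → Y.Etale) (hW : ∀ j, CompactSpace (W j).left ∧ QuasiSeparatedSpace (W j).left)
    (n : Fin b → ℕ) (hn : ∀ j, 0 < n j) :
    EtPBC.IsConstructible (⨁ fun j => cyc (W j) (n j)) := by
  refine isConstructible_biproduct isConstructible_cyc_top _ _ (fun j => ?_)
  haveI := (hW j).1
  haveI := (hW j).2
  haveI : NeZero (n j) := ⟨(hn j).ne'⟩
  let q : (W j).left ⟶ Y := (W j).hom
  exact Groth.Agent.Helper6.ConsG.isConstructible_of_isFreeOn (W j)
    (@quasiCompact_of_compactSpace (W j).left Y q _ _)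
    (@QuasiSeparated.of_quasiSeparatedSpace (W j).left Y q _)
    (ZMod (n j)) _ (isFreeOn_cyc _ (n j))

include haff hc in
/-- descent of a morphism between inverse images, the source being the inverse image of a finite
sum of sheaves `j_! ℤ/n` on qcqs objects -/
theorem exists_hom_descent (k : ι) {b : ℕ} (V' : Fin b → (Xs.obj (op k)).Etale)
    (hV : ∀ j, CompactSpace (V' j).left ∧ QuasiSeparatedSpace (V' j).left) (m : Fin b → ℕ)
    (Q : EtCoh.Ab (Xs.obj (op k)))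
    (φ : (EtCoh.pull (pm Xs c k)).obj (⨁ fun j => cyc (V' j) (m j)) ⟶
      (EtCoh.pull (pm Xs c k)).obj Q) :
    ∃ (l : ι) (h : k ≤ l)
      (φ' : (EtCoh.pull (fm Xs h)).obj (⨁ fun j => cyc (V' j) (m j)) ⟶
        (EtCoh.pull (fm Xs h)).obj Q),
      φ = (EtCore.pullCongr (pm_comp Xs c h).symm ≪≫
          EtCore.pullComp (pm Xs c l) (fm Xs h)).hom.app (⨁ fun j => cyc (V' j) (m j)) ≫
        (EtCoh.pull (pm Xs c l)).map φ' ≫ (σi Xs c k Q ⟨l, h⟩).hom := by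
  let S : PSys (Xs' Xs k) := sysOf (Xs' Xs k) (F' Xs k Q) (fun j k' h => (φi Xs k Q h).hom)
    (hφ' Xs k Q)
  let C : PCone (c' Xs c k) S := coneOf (Xs' Xs k) (c' Xs c k) (F' Xs k Q)
    (fun j k' h => (φi Xs k Q h).hom) (hφ' Xs k Q) (N Xs c k Q)
    (fun j => (σi Xs c k Q j).hom) (hσ' Xs c k Q)
  have hC : C.IsColim := coneOf_isColim (Xs' Xs k) (c' Xs c k) (F' Xs k Q)
    (fun j k' h => (φi Xs k Q h).hom) (hφ' Xs k Q) (N Xs c k Q)
    (fun j => (σi Xs c k Q j).hom) (hσ' Xs c k Q) (huniv Xs c k Q)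
  have G : Geo (Xs' Xs k) (c' Xs c k) :=
    geo (Xs' Xs k) (fun a b h => haff _) (c' Xs c k) (hc' Xs c k hc)
  let o : J k := ⟨k, le_rfl⟩
  let ψ : (⨁ fun j => cyc (V' j) (m j)) ⟶ (EtCoh.push (pm Xs c k)).obj (N Xs c k Q) :=
    adjR (pm Xs c k) φ
  obtain ⟨l, h, ψ', hcoc⟩ := Groth.Agent.Helper9.CnsDescA.exists_factor S C G hC (k := o)
    V' hV m ψ
  refine ⟨l.1, l.2, adjL (fm Xs l.2) ψ', ?_⟩
  refine (cocycle_iff_pull (fm Xs l.2) (pm Xs c l.1) (pm Xs c k) (pm_comp Xs c l.2)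
    (adjL (fm Xs l.2) ψ') (σi Xs c k Q l).hom φ).1 ?_
  rw [adjR_adjL]
  exact hcoc

variable (hqc : ∀ a, CompactSpace ↥(Xs.obj a)) (hqs : ∀ a, QuasiSeparatedSpace ↥(Xs.obj a))

include haff hc hqc hqs in
/-- a constructible sheaf on the limit is the inverse image of a constructible sheaf at an
arbitrarily high finite level -/
theorem exists_descent [CompactSpace c.pt] [QuasiSeparatedSpace c.pt]
    (F : EtCoh.Ab c.pt) (hF : EtPBC.IsConstructible F) :
    ∃ (l : ι) (F' : EtCoh.Ab (Xs.obj (op l))), EtPBC.IsConstructible F' ∧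
      Nonempty ((EtCoh.pull (pm Xs c l)).obj F' ≅ F) := by
  obtain ⟨a, b, U, V, n, m, hU, hV, φ₀, ⟨eF⟩⟩ := exists_presentation F hF
  obtain ⟨k₀⟩ := ‹Nonempty ι›
  have hU' : ∀ i, CompactSpace (U i).left ∧ QuasiSeparatedSpace (U i).left := fun i => by
    haveI := (hU i).2
    exact ⟨inferInstance, inferInstance⟩
  have hV' : ∀ j, CompactSpace (V j).left ∧ QuasiSeparatedSpace (V j).left := fun j => by
    haveI := (hV j).2
    exact ⟨inferInstance, inferInstance⟩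
  obtain ⟨k₁, -, U₁, hU₁, eU₁⟩ := exists_obj_fin Xs haff c hc U hU' k₀
  obtain ⟨k, hk, V', hV'', eV⟩ := exists_obj_fin Xs haff c hc V hV' k₁
  -- raise the `U`'s to level `k`
  let U' : Fin a → (Xs.obj (op k)).Etale := fun i => (EtCoh.bc (fm Xs hk)).obj (U₁ i)
  have hU'' : ∀ i, CompactSpace (U' i).left ∧ QuasiSeparatedSpace (U' i).left := fun i => by
    haveI : IsAffineHom (fm Xs hk) := haff _
    haveI := (hU₁ i).1
    haveI := (hU₁ i).2
    exact ⟨compactSpace_bc _ (U₁ i), quasiSeparatedSpace_bc _ (U₁ i)⟩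
  have eU : ∀ i, Nonempty (U i ≅ (EtCoh.bc (pm Xs c k)).obj (U' i)) := fun i => by
    obtain ⟨e'⟩ := eU₁ i
    exact ⟨e' ≪≫ trIso (fm Xs hk) (pm Xs c k) (pm Xs c k₁) (pm_comp Xs c hk) (U₁ i)⟩
  haveI := hqc (op k)
  haveI := hqs (op k)
  let P : EtCoh.Ab (Xs.obj (op k)) := ⨁ fun j => cyc (V' j) (m j)
  let Q : EtCoh.Ab (Xs.obj (op k)) := ⨁ fun i => cyc (U' i) (n i)
  have hP : EtPBC.IsConstructible P := isConstructible_sum V' hV'' m (fun j => (hV j).1)
  have hQ : EtPBC.IsConstructible Q := isConstructible_sum U' hU'' n (fun i => (hU i).1)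
  obtain ⟨α⟩ := nonempty_iso_sum (pm Xs c k) V V' eV m
  obtain ⟨β⟩ := nonempty_iso_sum (pm Xs c k) U U' eU n
  obtain ⟨l, h, φ', hφ'⟩ := exists_hom_descent Xs haff c hc k V' hV'' m Q
    (α.hom ≫ φ₀ ≫ β.inv)
  haveI := hqc (op l)
  haveI := hqs (op l)
  refine ⟨l, cokernel φ', isConstructible_cokernel φ'
    (Groth.Agent.Helper6.ConsV.isConstructible_pull _ _ hP)
    (Groth.Agent.Helper6.ConsV.isConstructible_pull _ _ hQ), ⟨?_⟩⟩
  let T := (EtCore.pullCongr (pm_comp Xs c h).symm ≪≫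
    EtCore.pullComp (pm Xs c l) (fm Xs h)).app P
  let σ := σi Xs c k Q ⟨l, h⟩
  haveI : (EtCoh.pull (pm Xs c l)).IsLeftAdjoint := (EtCoh.pullPushAdj _).isLeftAdjoint
  refine PreservesCokernel.iso (EtCoh.pull (pm Xs c l)) φ' ≪≫
    cokernel.mapIso ((EtCoh.pull (pm Xs c l)).map φ') φ₀ (T.symm ≪≫ α) (σ ≪≫ β) ?_ ≪≫ eF.symm
  have h1 : α.hom ≫ φ₀ ≫ β.inv = T.hom ≫ (EtCoh.pull (pm Xs c l)).map φ' ≫ σ.hom := hφ'
  have h2 : (EtCoh.pull (pm Xs c l)).map φ' ≫ σ.hom = T.inv ≫ α.hom ≫ φ₀ ≫ β.inv := by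
    rw [h1, Iso.inv_hom_id_assoc]
  simp only [Iso.trans_hom, Iso.symm_hom]
  rw [← Category.assoc, h2]
  simp only [Category.assoc, Iso.inv_hom_id, Category.comp_id]

end Groth.Agent.Helper9.CnsDescB
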