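import Mathlib
import Groth.Prelude.Def_EtBase

/-! The class of finite sums of direct images, along finite morphisms, of finite constant
sheaves. -/

set_option autoImplicit false
set_option linter.style.haveILetI false
set_option linter.unusedSectionVars false
set_option linter.unusedVariables false
set_option linter.unusedSimpArgs false

universe u

open CategoryTheory CategoryTheory.Limits Opposite AlgebraicGeometry

namespace Groth.Agent.Helper9.EmbG

/-- finite sums of direct images along finite morphisms of finite constant sheaves -/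
inductive Good {Z : Scheme.{u}} : EtCoh.Ab Z → Prop
  | zero (B : EtCoh.Ab Z) : IsZero B → Good B
  | push {Y : Scheme.{u}} (f : Y ⟶ Z) (hf : IsFinite f) (M : Type) [AddCommGroup M] [Finite M] :
      Good ((EtCoh.push f).obj (EtCoh.const Y M))
  | biprod (A B : EtCoh.Ab Z) : Good A → Good B → Good (A ⊞ B)
  | iso {A B : EtCoh.Ab Z} (e : A ≅ B) : Good A → Good B

/-- direct images of good sheaves along finite morphisms are good -/
theorem Good.push_finite {Z' Z : Scheme.{u}} (h : Z' ⟶ Z) [IsFinite h] {B : EtCoh.Ab Z'}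
    (hB : Good B) : Good ((EtCoh.push h).obj B) := by
  induction hB with
  | zero B hz => exact Good.zero _ (Functor.map_isZero (EtCoh.push h) hz)
  | push f hf M =>
    haveI := hf
    exact Good.iso ((EtCoh.pushComp h f).app _).symm (Good.push (f ≫ h) inferInstance M)
  | biprod A B _ _ ihA ihB =>
    haveI : PreservesBinaryBiproducts (EtCoh.push h) :=
      preservesBinaryBiproducts_of_preservesBiproducts _
    exact Good.iso ((EtCoh.push h).mapBiprod A B).symm (Good.biprod _ _ ihA ihB)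
  | iso e _ ih => exact Good.iso ((EtCoh.push h).mapIso e) ih

/-- a good sheaf embeds into a sum indexed by a finite type -/
theorem Good.exists_mono {Z : Scheme.{u}} {B : EtCoh.Ab Z} (hB : Good B) :
    ∃ (κ : Type) (_ : Fintype κ) (Y : κ → Scheme.{u}) (f : ∀ k, Y k ⟶ Z)
      (_ : ∀ k, IsFinite (f k)) (M : κ → Type) (_ : ∀ k, AddCommGroup (M k))
      (_ : ∀ k, Finite (M k))
      (θ : B ⟶ ⨁ fun k => (EtCoh.push (f k)).obj (EtCoh.const (Y k) (M k))), Mono θ := by
  induction hB with
  | zero B hz =>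
    exact ⟨PEmpty, inferInstance, PEmpty.elim, fun k => k.elim, fun k => k.elim, PEmpty.elim,
      fun k => k.elim, fun k => k.elim, 0, hz.mono _⟩
  | @push Y f hf M _ _ =>
    refine ⟨PUnit, inferInstance, fun _ => Y, fun _ => f, fun _ => hf, fun _ => M,
      fun _ => inferInstance, fun _ => inferInstance,
      biproduct.ι (fun _ : PUnit => (EtCoh.push f).obj (EtCoh.const Y M)) PUnit.unit, inferInstance⟩
  | biprod A B _ _ ihA ihB =>
    obtain ⟨κ₁, i₁, Y₁, f₁, hf₁, M₁, g₁, n₁, θ₁, hθ₁⟩ := ihA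
    obtain ⟨κ₂, i₂, Y₂, f₂, hf₂, M₂, g₂, n₂, θ₂, hθ₂⟩ := ihB
    refine ⟨κ₁ ⊕ κ₂, inferInstance, Sum.elim Y₁ Y₂, fun k => Sum.rec f₁ f₂ k,
      fun k => Sum.rec hf₁ hf₂ k, Sum.elim M₁ M₂, fun k => Sum.rec g₁ g₂ k,
      fun k => Sum.rec n₁ n₂ k,
      biproduct.lift (fun k => Sum.rec
        (motive := fun k => (A ⊞ B) ⟶ (EtCoh.push (Sum.rec (motive := fun k => Sum.elim Y₁ Y₂ k ⟶ Z)
          f₁ f₂ k)).obj (@EtCoh.const (Sum.elim Y₁ Y₂ k) (Sum.elim M₁ M₂ k) (Sum.rec g₁ g₂ k)))
        (fun k₁ => biprod.fst ≫ θ₁ ≫ biproduct.π _ k₁)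
        (fun k₂ => biprod.snd ≫ θ₂ ≫ biproduct.π _ k₂) k), ?_⟩
    apply Preadditive.mono_of_cancel_zero
    intro P m hm
    have h1 : (m ≫ biprod.fst) ≫ θ₁ = 0 := by
      apply biproduct.hom_ext
      intro k₁
      have := congrArg (· ≫ biproduct.π _ (Sum.inl k₁)) hm
      simp only [Category.assoc, biproduct.lift_π, zero_comp] at this
      rw [Category.assoc, Category.assoc, zero_comp]
      exact this
    have h2 : (m ≫ biprod.snd) ≫ θ₂ = 0 := by
      apply biproduct.hom_ext
      intro k₂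
      have := congrArg (· ≫ biproduct.π _ (Sum.inr k₂)) hm
      simp only [Category.assoc, biproduct.lift_π, zero_comp] at this
      rw [Category.assoc, Category.assoc, zero_comp]
      exact this
    have h3 : m ≫ biprod.fst = 0 := (cancel_mono θ₁).1 (h1.trans zero_comp.symm)
    have h4 : m ≫ biprod.snd = 0 := (cancel_mono θ₂).1 (h2.trans zero_comp.symm)
    apply biprod.hom_ext
    · rw [h3, zero_comp]
    · rw [h4, zero_comp]
  | iso e _ ih =>
    obtain ⟨κ, i, Y, f, hf, M, g, n, θ, hθ⟩ := ih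
    exact ⟨κ, i, Y, f, hf, M, g, n, e.inv ≫ θ, inferInstance⟩

/-- a good sheaf embeds into a sum indexed by `Fin n` -/
theorem Good.exists_mono_fin {Z : Scheme.{u}} {B : EtCoh.Ab Z} (hB : Good B) :
    ∃ (n : ℕ) (Y : Fin n → Scheme.{u}) (f : ∀ i, Y i ⟶ Z) (_ : ∀ i, IsFinite (f i))
      (M : Fin n → Type) (_ : ∀ i, AddCommGroup (M i)) (_ : ∀ i, Finite (M i))
      (θ : B ⟶ ⨁ fun i => (EtCoh.push (f i)).obj (EtCoh.const (Y i) (M i))), Mono θ := by
  obtain ⟨κ, i, Y, f, hf, M, g, n, θ, hθ⟩ := hB.exists_mono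
  let e : κ ≃ Fin (Fintype.card κ) := Fintype.equivFin κ
  refine ⟨Fintype.card κ, fun i => Y (e.symm i), fun i => f (e.symm i), fun i => hf (e.symm i),
    fun i => M (e.symm i), fun i => g (e.symm i), fun i => n (e.symm i),
    θ ≫ (biproduct.reindex e.symm
      (fun k => (EtCoh.push (f k)).obj (EtCoh.const (Y k) (M k)))).inv, inferInstance⟩

end Groth.Agent.Helper9.EmbG
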