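import Mathlib
import Groth.Prelude.Def_EtBase
import Groth.Agent.Helper9.EtStalkFamily
import Groth.Agent.Helper6.LimCohZ

/-! Testing injectivity of `G ⟶ h_* B` on stalks through the adjoint map `h⁻¹ G ⟶ B`. -/

set_option autoImplicit false
set_option linter.style.haveILetI false
set_option linter.unusedSectionVars false
set_option linter.unusedVariables false
set_option linter.unusedSimpArgs false

universe u

open CategoryTheory CategoryTheory.Limits Opposite AlgebraicGeometry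

namespace Groth.Agent.Helper9.EmbK

open Groth.Agent.Helper9.EtStalkExact Groth.Agent.Helper9.EtStalkPull
  Groth.Agent.Helper9.EtStalkFamily

attribute [local instance] preservesFilteredColimits_forget_ab ab5_ab

variable {Z' Z : Scheme.{u}} (h : Z' ⟶ Z)

/-- a subobject of `G` whose inverse image is killed by a map `h⁻¹ G ⟶ B` which is injective on the
stalk at `ζ` has vanishing stalk at `ζ ≫ h` -/
theorem isZero_stalk_of_comp_eq_zero {G K : EtCoh.Ab Z} {B : EtCoh.Ab Z'} (m : K ⟶ G) [Mono m]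
    (ψ : (EtCoh.pull h).obj G ⟶ B) (hm : (EtCoh.pull h).map m ≫ ψ = 0)
    {Ω : Type u} [Field Ω] [IsSepClosed Ω] (ζ : Spec (CommRingCat.of Ω) ⟶ Z')
    (hψ : Function.Injective ((EtCoh.stalk ζ).map ψ)) :
    IsZero ((EtCoh.stalk (ζ ≫ h)).obj K) := by
  haveI := Groth.Agent.Helper6.LimCohZ.pfl_pull h
  haveI : Mono ((EtCoh.pull h).map m) := inferInstance
  haveI : Mono ((EtCoh.stalk ζ).map ((EtCoh.pull h).map m)) := inferInstance
  have h1 : (EtCoh.stalk ζ).map ((EtCoh.pull h).map m) = 0 := by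
    have h2 : (EtCoh.stalk ζ).map ((EtCoh.pull h).map m) ≫ (EtCoh.stalk ζ).map ψ = 0 := by
      rw [← Functor.map_comp, hm, Functor.map_zero]
    haveI : Mono ((EtCoh.stalk ζ).map ψ) := (AddCommGrpCat.mono_iff_injective _).2 hψ
    exact (cancel_mono ((EtCoh.stalk ζ).map ψ)).1 (h2.trans zero_comp.symm)
  have h3 : IsZero ((EtCoh.stalk ζ).obj ((EtCoh.pull h).obj K)) :=
    IsZero.of_mono_eq_zero _ h1
  exact h3.of_iso ((stalkPullIso h ζ).app K).symm

/-- the same for the adjoint map `G ⟶ h_* B` -/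
theorem isZero_stalk_of_comp_adj_eq_zero {G K : EtCoh.Ab Z} {B : EtCoh.Ab Z'} (m : K ⟶ G) [Mono m]
    (θ : G ⟶ (EtCoh.push h).obj B) (hm : m ≫ θ = 0)
    {Ω : Type u} [Field Ω] [IsSepClosed Ω] (ζ : Spec (CommRingCat.of Ω) ⟶ Z')
    (hψ : Function.Injective
      ((EtCoh.stalk ζ).map (((EtCoh.pullPushAdj h).homEquiv G B).symm θ))) :
    IsZero ((EtCoh.stalk (ζ ≫ h)).obj K) := by
  haveI := Groth.Agent.Helper6.LimCohZ.pfl_pull h
  refine isZero_stalk_of_comp_eq_zero h m _ ?_ ζ hψ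
  rw [← Adjunction.homEquiv_naturality_left_symm, hm, Adjunction.homEquiv_counit,
    Functor.map_zero, zero_comp]

/-- a map to a sum of two direct images is mono if at every point one of the adjoint maps is
injective on stalks -/
theorem mono_lift {Z Z₁ Z₂ : Scheme.{u}} (h₁ : Z₁ ⟶ Z) (h₂ : Z₂ ⟶ Z) {G : EtCoh.Ab Z}
    {B₁ : EtCoh.Ab Z₁} {B₂ : EtCoh.Ab Z₂}
    (θ₁ : G ⟶ (EtCoh.push h₁).obj B₁) (θ₂ : G ⟶ (EtCoh.push h₂).obj B₂)
    (hpt : ∀ x : Z,
      (∃ z : Z₁, h₁ z = x ∧ Function.Injective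
        ((EtCoh.stalk (geomPt z)).map (((EtCoh.pullPushAdj h₁).homEquiv G B₁).symm θ₁))) ∨
      (∃ z : Z₂, h₂ z = x ∧ Function.Injective
        ((EtCoh.stalk (geomPt z)).map (((EtCoh.pullPushAdj h₂).homEquiv G B₂).symm θ₂)))) :
    Mono (biprod.lift θ₁ θ₂) := by
  apply Preadditive.mono_of_isZero_kernel
  apply isZero_of_family
  intro x
  rcases hpt x with ⟨z, hz, hinj⟩ | ⟨z, hz, hinj⟩
  · refine ⟨_, inferInstance, inferInstance, geomPt z ≫ h₁, ?_, ?_⟩
    · rw [Scheme.Hom.comp_apply, geomPt_default, hz]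
    · refine isZero_stalk_of_comp_adj_eq_zero h₁ (kernel.ι (biprod.lift θ₁ θ₂)) θ₁ ?_ _ hinj
      calc kernel.ι (biprod.lift θ₁ θ₂) ≫ θ₁
          = (kernel.ι (biprod.lift θ₁ θ₂) ≫ biprod.lift θ₁ θ₂) ≫ biprod.fst := by
            rw [Category.assoc, biprod.lift_fst]
        _ = 0 := by rw [kernel.condition, zero_comp]
  · refine ⟨_, inferInstance, inferInstance, geomPt z ≫ h₂, ?_, ?_⟩
    · rw [Scheme.Hom.comp_apply, geomPt_default, hz]
    · refine isZero_stalk_of_comp_adj_eq_zero h₂ (kernel.ι (biprod.lift θ₁ θ₂)) θ₂ ?_ _ hinj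
      calc kernel.ι (biprod.lift θ₁ θ₂) ≫ θ₂
          = (kernel.ι (biprod.lift θ₁ θ₂) ≫ biprod.lift θ₁ θ₂) ≫ biprod.snd := by
            rw [Category.assoc, biprod.lift_snd]
        _ = 0 := by rw [kernel.condition, zero_comp]

end Groth.Agent.Helper9.EmbK
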