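import Mathlib
import Groth.Prelude.Def_EtBase
import Groth.Agent.Helper6.ConstValA

/-! The sheaf `V ↦ LC(V ×_X Y, N)` on the small étale site of `X`, for `ν : Y ⟶ X`; it is
isomorphic to `ν_*` of the constant sheaf `N` on `Y`, and contravariantly functorial in `Y` over `X`. -/

set_option autoImplicit false
set_option linter.style.haveILetI false
set_option linter.unusedSectionVars false
set_option linter.unusedVariables false
set_option linter.unusedSimpArgs false

universe u

open CategoryTheory CategoryTheory.Limits Opposite AlgebraicGeometry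

namespace Groth.Agent.Helper9.LcA

open Groth.Agent.Helper4.ConstLoc Groth.Agent.Helper6.ConstValA

section Val

variable {Y : Scheme.{u}} (N : AddCommGrpCat.{u + 1})

lemma val_zero (V : Y.Etale) (x : V.left) : val N V (0 : (cS Y N).obj.obj (op V)) x = 0 := by
  refine val_eq N V _ x (𝟙 V) x rfl 0 ?_
  rw [map_zero, map_zero]

lemma val_add (V : Y.Etale) (t t' : (cS Y N).obj.obj (op V)) (x : V.left) :
    val N V (t + t') x = val N V t x + val N V t' x := by
  obtain ⟨W, g, w, hw, hn⟩ := val_spec N V t x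
  obtain ⟨W', g', w', hw', hn'⟩ := val_spec N V t' x
  obtain ⟨z, hz1, hz2⟩ := Scheme.Pullback.exists_preimage_pullback (f := g.left) (g := g'.left)
    w w' (hw.trans hw'.symm)
  let Z : Y.Etale := Scheme.Etale.mk (pullback.fst g.left g'.left ≫ W.hom)
  have e1 : g.left ≫ V.hom = W.hom := Over.w g.hom
  have e2 : g'.left ≫ V.hom = W'.hom := Over.w g'.hom
  let p : Z ⟶ W := MorphismProperty.Over.homMk (pullback.fst g.left g'.left) rfl
  let p' : Z ⟶ W' := MorphismProperty.Over.homMk (pullback.snd g.left g'.left) (by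
    show pullback.snd g.left g'.left ≫ W'.hom = pullback.fst g.left g'.left ≫ W.hom
    rw [← e1, ← e2, pullback.condition_assoc])
  have hpp : p ≫ g = p' ≫ g' := by
    apply MorphismProperty.Over.Hom.ext
    exact pullback.condition
  refine val_eq N V _ x (p ≫ g) z ?_ _ ?_
  · show g.left (p.left z) = x
    have : p.left z = w := hz1
    rw [this, hw]
  · have h1 : (cS Y N).obj.map (p ≫ g).op t = (η Y N).app (op Z) (val N V t x) := by
      rw [op_comp, Functor.map_comp, ConcreteCategory.comp_apply, hn, η_map]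
    have h2 : (cS Y N).obj.map (p ≫ g).op t' = (η Y N).app (op Z) (val N V t' x) := by
      rw [hpp, op_comp, Functor.map_comp, ConcreteCategory.comp_apply, hn', η_map]
    rw [map_add, h1, h2, map_add]

lemma val_injective (V : Y.Etale) (t t' : (cS Y N).obj.obj (op V))
    (h : ∀ x, val N V t x = val N V t' x) : t = t' := by
  apply sec_ext
  intro x
  obtain ⟨W, g, w, hw, hn⟩ := val_spec N V t x
  obtain ⟨W', g', w', hw', hn'⟩ := val_spec N V t' x
  obtain ⟨z, hz1, hz2⟩ := Scheme.Pullback.exists_preimage_pullback (f := g.left) (g := g'.left)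
    w w' (hw.trans hw'.symm)
  let Z : Y.Etale := Scheme.Etale.mk (pullback.fst g.left g'.left ≫ W.hom)
  have e1 : g.left ≫ V.hom = W.hom := Over.w g.hom
  have e2 : g'.left ≫ V.hom = W'.hom := Over.w g'.hom
  let p : Z ⟶ W := MorphismProperty.Over.homMk (pullback.fst g.left g'.left) rfl
  let p' : Z ⟶ W' := MorphismProperty.Over.homMk (pullback.snd g.left g'.left) (by
    show pullback.snd g.left g'.left ≫ W'.hom = pullback.fst g.left g'.left ≫ W.hom
    rw [← e1, ← e2, pullback.condition_assoc])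
  have hpp : p ≫ g = p' ≫ g' := by
    apply MorphismProperty.Over.Hom.ext
    exact pullback.condition
  refine ⟨Z, p ≫ g, z, ?_, ?_⟩
  · show g.left (p.left z) = x
    have : p.left z = w := hz1
    rw [this, hw]
  · have h1 : (cS Y N).obj.map (p ≫ g).op t = (η Y N).app (op Z) (val N V t x) := by
      rw [op_comp, Functor.map_comp, ConcreteCategory.comp_apply, hn, η_map]
    have h2 : (cS Y N).obj.map (p ≫ g).op t' = (η Y N).app (op Z) (val N V t' x) := by
      rw [hpp, op_comp, Functor.map_comp, ConcreteCategory.comp_apply, hn', η_map]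
    rw [h1, h2, h x]

/-- the value function of a section, as a locally constant function -/
noncomputable def valLC (V : Y.Etale) :
    (cS Y N).obj.obj (op V) →+ LocallyConstant V.left N where
  toFun t := ⟨val N V t, isLocallyConstant_val N V t⟩
  map_zero' := LocallyConstant.ext (fun x => val_zero N V x)
  map_add' t t' := LocallyConstant.ext (fun x => val_add N V t t' x)

lemma valLC_apply (V : Y.Etale) (t : (cS Y N).obj.obj (op V)) (x : V.left) :
    valLC N V t x = val N V t x := rfl

lemma valLC_bijective (V : Y.Etale) : Function.Bijective (valLC N V) := by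
  constructor
  · intro t t' h
    exact val_injective N V t t' (fun x => congrArg (fun f : LocallyConstant V.left N => f x) h)
  · intro φ
    obtain ⟨t, ht⟩ := exists_section N V φ φ.isLocallyConstant
    exact ⟨t, LocallyConstant.ext ht⟩

/-- sections of the constant sheaf are the locally constant functions -/
noncomputable def valEquiv (V : Y.Etale) :
    (cS Y N).obj.obj (op V) ≃+ LocallyConstant V.left N :=
  AddEquiv.ofBijective (valLC N V) (valLC_bijective N V)

end Val

section Sheaf

variable (Y : Scheme.{u}) (N : AddCommGrpCat.{u + 1})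

/-- the presheaf of locally constant `N`-valued functions on the small étale site -/
noncomputable def lcPsh : Y.Etaleᵒᵖ ⥤ AddCommGrpCat.{u + 1} where
  obj W := AddCommGrpCat.of (LocallyConstant W.unop.left N)
  map g := AddCommGrpCat.ofHom (LocallyConstant.comapAddMonoidHom g.unop.left.base.hom)
  map_id W := by
    ext f
    rfl
  map_comp g g' := by
    ext f
    rfl

lemma lcPsh_map_apply {W W' : Y.Etale} (g : W' ⟶ W) (f : LocallyConstant W.left N) (x : W'.left) :
    (show LocallyConstant W'.left N from (lcPsh Y N).map g.op f) x = f (g.left x) := rfl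

/-- the presheaf of locally constant functions is the constant sheaf -/
noncomputable def lcPshIso : (cS Y N).obj ≅ lcPsh Y N :=
  NatIso.ofComponents (fun W => (valEquiv N W.unop).toAddCommGrpIso) (by
    intro W W' g
    ext t
    apply LocallyConstant.ext
    intro x
    exact val_map N g.unop t x)

/-- the sheaf of locally constant functions -/
noncomputable def lcSh : EtCoh.Ab Y :=
  ⟨lcPsh Y N, (Presheaf.isSheaf_of_iso_iff (lcPshIso Y N)).1 (cS Y N).property⟩

/-- the sheaf of locally constant functions is the constant sheaf -/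
noncomputable def lcShIso : cS Y N ≅ lcSh Y N :=
  (fullyFaithfulSheafToPresheaf _ _).preimageIso (lcPshIso Y N)

end Sheaf

section Push

variable {X : Scheme.{u}} (N : AddCommGrpCat.{u + 1})

/-- the sheaf `V ↦ LC(V ×_X Z, N)` on `X`, for an `X`-scheme `Z` -/
noncomputable abbrev lcPush (Z : Over X) : EtCoh.Ab X := (EtCoh.push Z.hom).obj (lcSh Z.left N)

/-- base change along `v` of a morphism of `X`-schemes -/
noncomputable def pbMap {T : Scheme.{u}} (v : T ⟶ X) {Z Z' : Over X} (h : Z ⟶ Z') :
    pullback v Z.hom ⟶ pullback v Z'.hom :=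
  pullback.map v Z.hom v Z'.hom (𝟙 _) h.left (𝟙 _) (by simp) (by simp)

@[reassoc]
lemma pbMap_fst {T : Scheme.{u}} (v : T ⟶ X) {Z Z' : Over X} (h : Z ⟶ Z') :
    pbMap v h ≫ pullback.fst v Z'.hom = pullback.fst v Z.hom :=
  (pullback.lift_fst _ _ _).trans (Category.comp_id _)

@[reassoc]
lemma pbMap_snd {T : Scheme.{u}} (v : T ⟶ X) {Z Z' : Over X} (h : Z ⟶ Z') :
    pbMap v h ≫ pullback.snd v Z'.hom = pullback.snd v Z.hom ≫ h.left :=
  pullback.lift_snd _ _ _

lemma pbMap_id {T : Scheme.{u}} (v : T ⟶ X) (Z : Over X) : pbMap v (𝟙 Z) = 𝟙 _ := by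
  apply pullback.hom_ext
  · rw [pbMap_fst, Category.id_comp]
  · rw [pbMap_snd, Category.id_comp]
    simp

lemma pbMap_comp {T : Scheme.{u}} (v : T ⟶ X) {Z Z' Z'' : Over X} (h : Z ⟶ Z') (h' : Z' ⟶ Z'') :
    pbMap v (h ≫ h') = pbMap v h ≫ pbMap v h' := by
  apply pullback.hom_ext
  · rw [pbMap_fst, Category.assoc, pbMap_fst, pbMap_fst]
  · rw [pbMap_snd, Category.assoc, pbMap_snd, pbMap_snd_assoc]
    simp

/-- naturality of `pbMap` in the first variable -/
lemma pbMap_naturality {T T' : Scheme.{u}} (v : T ⟶ X) (v' : T' ⟶ X) (g : T' ⟶ T)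
    (hg : g ≫ v = v') {Z Z' : Over X} (h : Z ⟶ Z')
    (a : pullback v' Z.hom ⟶ pullback v Z.hom) (a' : pullback v' Z'.hom ⟶ pullback v Z'.hom)
    (ha1 : a ≫ pullback.fst v Z.hom = pullback.fst v' Z.hom ≫ g)
    (ha2 : a ≫ pullback.snd v Z.hom = pullback.snd v' Z.hom)
    (ha1' : a' ≫ pullback.fst v Z'.hom = pullback.fst v' Z'.hom ≫ g)
    (ha2' : a' ≫ pullback.snd v Z'.hom = pullback.snd v' Z'.hom) :
    pbMap v' h ≫ a' = a ≫ pbMap v h := by
  apply pullback.hom_ext
  · rw [Category.assoc, Category.assoc, ha1', pbMap_fst, pbMap_fst_assoc, ha1]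
  · rw [Category.assoc, Category.assoc, ha2', pbMap_snd, pbMap_snd, ← Category.assoc, ha2]

/-- base change to `V` of a morphism of `X`-schemes -/
noncomputable def bcMap {Z Z' : Over X} (h : Z ⟶ Z') (V : X.Etale) :
    ((EtCoh.bc Z.hom).obj V).left ⟶ ((EtCoh.bc Z'.hom).obj V).left :=
  pbMap V.hom h

lemma bc_map_fst {Y : Scheme.{u}} (ν : Y ⟶ X) {V V' : X.Etale} (g : V' ⟶ V) :
    ((EtCoh.bc ν).map g).left ≫ pullback.fst V.hom ν = pullback.fst V'.hom ν ≫ g.left := by
  dsimp [EtCoh.bc]
  exact pullback.lift_fst _ _ _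

lemma bc_map_snd {Y : Scheme.{u}} (ν : Y ⟶ X) {V V' : X.Etale} (g : V' ⟶ V) :
    ((EtCoh.bc ν).map g).left ≫ pullback.snd V.hom ν = pullback.snd V'.hom ν := by
  dsimp [EtCoh.bc]
  exact pullback.lift_snd _ _ _

lemma bcMap_naturality {Z Z' : Over X} (h : Z ⟶ Z') {V V' : X.Etale} (g : V' ⟶ V) :
    bcMap h V' ≫ ((EtCoh.bc Z'.hom).map g).left = ((EtCoh.bc Z.hom).map g).left ≫ bcMap h V :=
  pbMap_naturality V.hom V'.hom g.left (Over.w g.hom) h _ _
    (bc_map_fst Z.hom g) (bc_map_snd Z.hom g) (bc_map_fst Z'.hom g) (bc_map_snd Z'.hom g)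

lemma bcMap_id (Z : Over X) (V : X.Etale) : bcMap (𝟙 Z) V = 𝟙 _ := pbMap_id V.hom Z

lemma bcMap_comp {Z Z' Z'' : Over X} (h : Z ⟶ Z') (h' : Z' ⟶ Z'') (V : X.Etale) :
    bcMap (h ≫ h') V = bcMap h V ≫ bcMap h' V := pbMap_comp V.hom h h'

/-- contravariant functoriality of `lcPush` in the `X`-scheme -/
noncomputable def lcMap {Z Z' : Over X} (h : Z ⟶ Z') : lcPush N Z' ⟶ lcPush N Z :=
  ObjectProperty.homMk
    { app := fun V => AddCommGrpCat.ofHom
        (LocallyConstant.comapAddMonoidHom (bcMap h V.unop).base.hom)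
      naturality := by
        intro V V' g
        apply AddCommGrpCat.hom_ext
        apply AddMonoidHom.ext
        intro (f : LocallyConstant ((EtCoh.bc Z'.hom).obj V.unop).left N)
        apply LocallyConstant.ext
        intro x
        show f (((EtCoh.bc Z'.hom).map g.unop).left (bcMap h V'.unop x)) =
          f (bcMap h V.unop (((EtCoh.bc Z.hom).map g.unop).left x))
        rw [← Scheme.Hom.comp_apply, ← Scheme.Hom.comp_apply, bcMap_naturality] }

lemma lcMap_apply {Z Z' : Over X} (h : Z ⟶ Z') (V : X.Etale)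
    (f : LocallyConstant ((EtCoh.bc Z'.hom).obj V).left N) (x : ((EtCoh.bc Z.hom).obj V).left) :
    (show LocallyConstant ((EtCoh.bc Z.hom).obj V).left N from
      (lcMap N h).hom.app (op V) f) x = f (bcMap h V x) := rfl

lemma lcMap_id (Z : Over X) : lcMap N (𝟙 Z) = 𝟙 _ := by
  apply ObjectProperty.hom_ext
  ext V : 2
  apply AddCommGrpCat.hom_ext
  apply AddMonoidHom.ext
  intro (f : LocallyConstant ((EtCoh.bc Z.hom).obj V.unop).left N)
  apply LocallyConstant.ext
  intro x
  show f (bcMap (𝟙 Z) V.unop x) = f x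
  rw [bcMap_id]
  rfl

lemma lcMap_comp {Z Z' Z'' : Over X} (h : Z ⟶ Z') (h' : Z' ⟶ Z'') :
    lcMap N (h ≫ h') = lcMap N h' ≫ lcMap N h := by
  apply ObjectProperty.hom_ext
  ext V : 2
  apply AddCommGrpCat.hom_ext
  apply AddMonoidHom.ext
  intro (f : LocallyConstant ((EtCoh.bc Z''.hom).obj V.unop).left N)
  apply LocallyConstant.ext
  intro x
  show f (bcMap (h ≫ h') V.unop x) = f (bcMap h' V.unop (bcMap h V.unop x))
  rw [bcMap_comp]
  rfl

/-- `Z ↦ (V ↦ LC(V ×_X Z, N))` as a functor -/
noncomputable def lcFunctor : (Over X)ᵒᵖ ⥤ EtCoh.Ab X where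
  obj Z := lcPush N Z.unop
  map h := lcMap N h.unop
  map_id Z := lcMap_id N Z.unop
  map_comp h h' := lcMap_comp N h'.unop h.unop

/-- `lcPush` is the direct image of the constant sheaf -/
noncomputable def lcPushIso (Z : Over X) :
    (EtCoh.push Z.hom).obj (cS Z.left N) ≅ lcPush N Z :=
  (EtCoh.push Z.hom).mapIso (lcShIso Z.left N)

end Push

end Groth.Agent.Helper9.LcA
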