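import Mathlib

/-! Locally constant functions with finite values on a cofiltered limit of quasi-compact
quasi-separated schemes with affine transition maps come from a finite stage. -/

set_option autoImplicit false
set_option linter.style.haveILetI false
set_option linter.unusedSectionVars false
set_option linter.unusedVariables false
set_option linter.unusedSimpArgs false

universe u

open CategoryTheory CategoryTheory.Limits AlgebraicGeometry TopologicalSpace

namespace Groth.Agent.Helper9.LcB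

variable {J : Type u} [Category.{u} J] [IsCofiltered J] (D : J ⥤ Scheme.{u}) (c : Cone D)
  (hc : IsLimit c) [∀ {i j} (f : i ⟶ j), IsAffineHom (D.map f)] [∀ i, CompactSpace (D.obj i)]

include hc in
/-- two locally constant functions on a stage which agree on the limit agree on a later stage -/
theorem exists_map_eq_of_eq {N : Type*} (j : J) (f f' : LocallyConstant (D.obj j) N)
    (h : ∀ x : c.pt, f (c.π.app j x) = f' (c.π.app j x)) :
    ∃ (k : J) (a : k ⟶ j), ∀ y : D.obj k, f (D.map a y) = f' (D.map a y) := by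
  have hlc : IsLocallyConstant (fun y : D.obj j => (f y, f' y)) :=
    f.isLocallyConstant.prodMk f'.isLocallyConstant
  let U : (D.obj j).Opens := ⟨{y | f y = f' y}, hlc {p | p.1 = p.2}⟩
  have hU : c.π.app j ⁻¹ᵁ U = ⊤ := by
    rw [eq_top_iff]
    intro x _
    exact h x
  obtain ⟨k, a, hk⟩ := exists_map_eq_top D c hc U hU
  exact ⟨k, a, fun y => (hk.ge (Set.mem_univ y) : D.map a y ∈ U)⟩

variable [∀ i, QuasiSeparatedSpace (D.obj i)]

include hc in
/-- a locally constant function with finitely many values on the limit comes from a stage -/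
theorem exists_eq_comp {N : Type*} [Finite N] (f : LocallyConstant c.pt N) :
    ∃ (j : J) (fj : LocallyConstant (D.obj j) N), ∀ x : c.pt, fj (c.π.app j x) = f x := by
  classical
  haveI : Fintype N := Fintype.ofFinite N
  haveI : CompactSpace c.pt := Scheme.compactSpace_of_isLimit D c hc
  -- the fibres of `f`
  let U : N → c.pt.Opens := fun n => ⟨f ⁻¹' {n}, f.isLocallyConstant.isOpen_fiber n⟩
  have hUc : ∀ n, IsCompact (U n : Set c.pt) := fun n =>
    (f.isLocallyConstant.isClosed_fiber n).isCompact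
  choose i V hVc hV using fun n => exists_preimage_eq D c hc (U n) (hUc n)
  obtain ⟨j₀, hj₀⟩ := IsCofiltered.inf_objs_exists (Finset.univ.image i)
  have a : ∀ n, j₀ ⟶ i n := fun n => (hj₀ (Finset.mem_image_of_mem i (Finset.mem_univ n))).some
  let V' : N → (D.obj j₀).Opens := fun n => D.map (a n) ⁻¹ᵁ V n
  have hV'c : ∀ n, IsCompact (V' n : Set (D.obj j₀)) := fun n =>
    QuasiCompact.isCompact_preimage (f := D.map (a n)) _ (V n).2 (hVc n)
  have hV' : ∀ n, c.π.app j₀ ⁻¹ᵁ V' n = U n := by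
    intro n
    rw [← hV n, ← Scheme.Hom.comp_preimage, c.w]
  -- the cover
  have hcov : c.π.app j₀ ⁻¹ᵁ (⨆ n, V' n) = ⊤ := by
    rw [Scheme.Hom.preimage_iSup, eq_top_iff]
    intro x _
    rw [Opens.mem_iSup]
    refine ⟨f x, ?_⟩
    rw [hV']
    rfl
  obtain ⟨j₁, b₁, hj₁⟩ := exists_map_eq_top D c hc _ hcov
  -- disjointness
  let O : (D.obj j₀).Opens := ⨆ p : {p : N × N // p.1 ≠ p.2}, V' p.1.1 ⊓ V' p.1.2
  have hOc : IsCompact (O : Set (D.obj j₀)) := by
    have : (O : Set (D.obj j₀)) = ⋃ p : {p : N × N // p.1 ≠ p.2},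
        ((V' p.1.1 ⊓ V' p.1.2 : (D.obj j₀).Opens) : Set (D.obj j₀)) := by
      simp only [O, Opens.coe_iSup]
    rw [this]
    exact isCompact_iUnion fun p =>
      QuasiSeparatedSpace.inter_isCompact _ _ (V' p.1.1).2 (hV'c p.1.1) (V' p.1.2).2 (hV'c p.1.2)
  have hO : c.π.app j₀ ⁻¹ᵁ O ≤ c.π.app j₀ ⁻¹ᵁ ⊥ := by
    intro x hx
    exfalso
    have hx' : c.π.app j₀ x ∈ O := hx
    rw [Opens.mem_iSup] at hx'
    obtain ⟨p, hp⟩ := hx'
    have h1 : x ∈ c.π.app j₀ ⁻¹ᵁ V' p.1.1 := hp.1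
    have h2 : x ∈ c.π.app j₀ ⁻¹ᵁ V' p.1.2 := hp.2
    rw [hV'] at h1 h2
    exact p.2 ((show f x = p.1.1 from h1).symm.trans (show f x = p.1.2 from h2))
  obtain ⟨j₂, b₂, hj₂⟩ := exists_map_preimage_le_map_preimage D c hc hOc hO
  obtain ⟨k, c₁, c₂, hk⟩ := IsCofiltered.cospan b₁ b₂
  let g : k ⟶ j₀ := c₁ ≫ b₁
  let W : N → (D.obj k).Opens := fun n => D.map g ⁻¹ᵁ V' n
  have hWcov : ∀ y : D.obj k, ∃ n, y ∈ W n := by
    intro y
    have h1 : D.map c₁ y ∈ D.map b₁ ⁻¹ᵁ (⨆ n, V' n) := by rw [hj₁]; trivial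
    have h2 : D.map b₁ (D.map c₁ y) ∈ ⨆ n, V' n := h1
    rw [Opens.mem_iSup] at h2
    obtain ⟨n, hn⟩ := h2
    refine ⟨n, ?_⟩
    show D.map (c₁ ≫ b₁) y ∈ V' n
    rw [Functor.map_comp]
    exact hn
  have hWdis : ∀ (y : D.obj k) (n m : N), y ∈ W n → y ∈ W m → n = m := by
    intro y n m hn hm
    by_contra hnm
    have h1 : D.map c₂ y ∈ D.map b₂ ⁻¹ᵁ O := by
      show D.map b₂ (D.map c₂ y) ∈ O
      rw [Opens.mem_iSup]
      refine ⟨⟨(n, m), hnm⟩, ?_⟩
      have e : D.map b₂ (D.map c₂ y) = D.map g y := by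
        show _ = D.map (c₁ ≫ b₁) y
        rw [hk, Functor.map_comp]
        rfl
      rw [e]
      exact ⟨hn, hm⟩
    exact (hj₂ h1 : D.map b₂ (D.map c₂ y) ∈ (⊥ : (D.obj j₀).Opens))
  choose φ hφ using hWcov
  have hφ' : ∀ (y : D.obj k) (n : N), y ∈ W n → φ y = n := fun y n hn =>
    hWdis y _ _ (hφ y) hn
  have hlc : IsLocallyConstant φ := by
    rw [IsLocallyConstant.iff_exists_open]
    intro y
    refine ⟨W (φ y), (W (φ y)).2, hφ y, fun y' hy' => hφ' y' _ hy'⟩
  refine ⟨k, ⟨φ, hlc⟩, fun x => ?_⟩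
  apply hφ'
  show D.map g (c.π.app k x) ∈ V' (f x)
  have e : D.map g (c.π.app k x) = c.π.app j₀ x := by
    rw [← Scheme.Hom.comp_apply, c.w]
  rw [e]
  have : x ∈ c.π.app j₀ ⁻¹ᵁ V' (f x) := by
    rw [hV']
    rfl
  exact this

end Groth.Agent.Helper9.LcB
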