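import Mathlib
import Groth.Prelude.Def_EtBase
import Groth.Prelude.Def_PBC
import Groth.Agent.Helper6.ConsM

/-! A map from a constructible sheaf to the vertex of a filtered cocone of sheaves which is
"sectionwise a colimit over affine objects" factors through a stage. -/

set_option autoImplicit false
set_option linter.style.haveILetI false
set_option linter.unusedSectionVars false
set_option linter.unusedVariables false
set_option linter.unusedSimpArgs false

universe u w w'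

open CategoryTheory CategoryTheory.Limits Opposite AlgebraicGeometry

namespace Groth.Agent.Helper9.LcC

open Groth.Agent.Helper6.ConsD Groth.Agent.Helper6.ConsI Groth.Agent.Helper6.ConsJ
  Groth.Agent.Helper6.ConsK Groth.Agent.Helper6.ConsM

variable {X : Scheme.{u}} {I : Type w} [Category.{w'} I] [IsFiltered I]
  (𝒜 : I ⥤ EtCoh.Ab X) (c : Cocone 𝒜)

/-- the cocone is sectionwise a colimit over affine étale `X`-schemes -/
structure SecColim : Prop where
  surj : ∀ (V : X.Etale), IsAffine V.left → ∀ s : (evalAt V).obj c.pt,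
    ∃ (i : I) (s' : (evalAt V).obj (𝒜.obj i)), (evalAt V).map (c.ι.app i) s' = s
  inj : ∀ (V : X.Etale), IsAffine V.left → ∀ (i : I) (s' : (evalAt V).obj (𝒜.obj i)),
    (evalAt V).map (c.ι.app i) s' = 0 → ∃ (j : I) (a : i ⟶ j), (evalAt V).map (𝒜.map a) s' = 0

variable {𝒜 c}

lemma ι_map_apply {i j : I} (a : i ⟶ j) (V : X.Etale) (s : (evalAt V).obj (𝒜.obj i)) :
    (evalAt V).map (c.ι.app j) ((evalAt V).map (𝒜.map a) s) = (evalAt V).map (c.ι.app i) s := by
  rw [← ConcreteCategory.comp_apply, ← Functor.map_comp, c.w]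

lemma map_comp_apply {i j k : I} (a : i ⟶ j) (b : j ⟶ k) (V : X.Etale)
    (s : (evalAt V).obj (𝒜.obj i)) :
    (evalAt V).map (𝒜.map (a ≫ b)) s = (evalAt V).map (𝒜.map b) ((evalAt V).map (𝒜.map a) s) := by
  rw [𝒜.map_comp, Functor.map_comp, ConcreteCategory.comp_apply]

/-- maps from `⨁ j_! ℤ/n` to the vertex factor through a stage -/
theorem exists_factor_cyc (h : SecColim 𝒜 c) {a : ℕ} (U : Fin a → X.Etale) (n : Fin a → ℕ)
    (hU : ∀ k, IsAffine (U k).left) (q : (⨁ fun k => cyc (U k) (n k)) ⟶ c.pt) :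
    ∃ (i : I) (b : (⨁ fun k => cyc (U k) (n k)) ⟶ 𝒜.obj i), b ≫ c.ι.app i = q := by
  -- the sections
  let s : ∀ k, (evalAt (U k)).obj c.pt := fun k =>
    (evalAt (U k)).map (biproduct.ι (fun k => cyc (U k) (n k)) k ≫ q)
      (unitHom (U k) (n k) (ULift.up 1))
  have hs : ∀ k, n k • s k = 0 := fun k => by
    show n k • ((evalAt (U k)).map _ _) = 0
    rw [← map_nsmul, nsmul_unit, map_zero]
  choose i₁ s₁ hs₁ using fun k => h.surj (U k) (hU k) (s k)
  have h2 : ∀ k, ∃ (j : I) (a : i₁ k ⟶ j), (evalAt (U k)).map (𝒜.map a) (n k • s₁ k) = 0 := by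
    intro k
    apply h.inj (U k) (hU k)
    rw [map_nsmul, hs₁, hs]
  choose i₂ a₂ ha₂ using h2
  obtain ⟨l, hl⟩ := Groth.Agent.Helper6.FiltShf.exists_above i₂
  let u : ∀ k, i₂ k ⟶ l := fun k => (hl k).some
  let t : ∀ k, (evalAt (U k)).obj (𝒜.obj l) := fun k =>
    (evalAt (U k)).map (𝒜.map (a₂ k ≫ u k)) (s₁ k)
  have ht : ∀ k, n k • t k = 0 := by
    intro k
    show n k • (evalAt (U k)).map (𝒜.map (a₂ k ≫ u k)) (s₁ k) = 0
    rw [← map_nsmul, map_comp_apply, ha₂, map_zero]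
  have htι : ∀ k, (evalAt (U k)).map (c.ι.app l) (t k) = s k := by
    intro k
    show (evalAt (U k)).map (c.ι.app l) ((evalAt (U k)).map (𝒜.map (a₂ k ≫ u k)) (s₁ k)) = s k
    rw [ι_map_apply, hs₁]
  refine ⟨l, biproduct.desc (fun k => gen (U k) (n k) (𝒜.obj l) (t k) (ht k)), ?_⟩
  apply biproduct.hom_ext'
  intro k
  rw [biproduct.ι_desc_assoc]
  apply cyc_hom_ext
  rw [Functor.map_comp, ConcreteCategory.comp_apply, gen_apply]
  exact htι k

/-- maps from `⨁ j_! ℤ/n` to a stage which vanish in the vertex vanish at a later stage -/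
theorem exists_comp_eq_zero (h : SecColim 𝒜 c) {a : ℕ} (U : Fin a → X.Etale) (n : Fin a → ℕ)
    (hU : ∀ k, IsAffine (U k).left) (i : I) (q : (⨁ fun k => cyc (U k) (n k)) ⟶ 𝒜.obj i)
    (hq : q ≫ c.ι.app i = 0) :
    ∃ (l : I) (w : i ⟶ l), q ≫ 𝒜.map w = 0 := by
  let r : ∀ k, (evalAt (U k)).obj (𝒜.obj i) := fun k =>
    (evalAt (U k)).map (biproduct.ι (fun k => cyc (U k) (n k)) k ≫ q)
      (unitHom (U k) (n k) (ULift.up 1))
  have hr : ∀ k, (evalAt (U k)).map (c.ι.app i) (r k) = 0 := by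
    intro k
    show (evalAt (U k)).map (c.ι.app i) ((evalAt (U k)).map _ _) = 0
    rw [← ConcreteCategory.comp_apply, ← Functor.map_comp, Category.assoc, hq, comp_zero,
      Functor.map_zero]
    rfl
  choose jk ak hak using fun k => h.inj (U k) (hU k) i (r k) (hr k)
  obtain ⟨l, w, v, hv⟩ := Groth.Agent.Helper6.FiltShf.exists_wide' i jk ak
  refine ⟨l, w, ?_⟩
  apply biproduct.hom_ext'
  intro k
  rw [comp_zero]
  apply cyc_hom_ext
  rw [← Category.assoc, Functor.map_comp, ConcreteCategory.comp_apply]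
  show (evalAt (U k)).map (𝒜.map w) (r k) = _
  rw [← hv k, map_comp_apply, hak, map_zero, Functor.map_zero]
  rfl

variable [CompactSpace X] [QuasiSeparatedSpace X]

/-- **factorisation through a stage** -/
theorem exists_factor (h : SecColim 𝒜 c) (G : EtCoh.Ab X) (hG : EtPBC.IsConstructible G)
    (a : G ⟶ c.pt) : ∃ (i : I) (a' : G ⟶ 𝒜.obj i), a' ≫ c.ι.app i = a := by
  obtain ⟨na, nb, U, V, n, m, hn, hm, φ, ⟨e⟩⟩ := exists_presentation G hG
  obtain ⟨i, b, hb⟩ := exists_factor_cyc h U n (fun k => (hn k).2) (cokernel.π φ ≫ e.inv ≫ a)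
  have hq : (φ ≫ b) ≫ c.ι.app i = 0 := by
    rw [Category.assoc, hb, cokernel.condition_assoc, zero_comp]
  obtain ⟨l, w, hw⟩ := exists_comp_eq_zero h V m (fun k => (hm k).2) i (φ ≫ b) hq
  refine ⟨l, e.hom ≫ cokernel.desc φ (b ≫ 𝒜.map w) (by rw [← Category.assoc]; exact hw), ?_⟩
  rw [← cancel_epi e.inv, ← cancel_epi (cokernel.π φ)]
  rw [Category.assoc, e.inv_hom_id_assoc, cokernel.π_desc_assoc, Category.assoc, c.w, hb]

end Groth.Agent.Helper9.LcC
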