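import Mathlib
import Groth.Prelude.Def_EtBase
import Groth.Prelude.Def_PBC
import Groth.Agent.Helper4.NApx9
import Groth.Agent.Helper9.LcA
import Groth.Agent.Helper9.LcB
import Groth.Agent.Helper9.LcC

/-! A map from a constructible sheaf to `ν_* N`, `ν` integral, factors through `ν'_* N` for a finite
`ν'` through which `ν` factors. -/

set_option autoImplicit false
set_option linter.style.haveILetI false
set_option linter.unusedSectionVars false
set_option linter.unusedVariables false
set_option linter.unusedSimpArgs false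

universe u

open CategoryTheory CategoryTheory.Limits Opposite AlgebraicGeometry

namespace Groth.Agent.Helper9.LcD

open Groth.Agent.Helper9.LcA Groth.Agent.Helper9.LcB Groth.Agent.Helper9.LcC
  Groth.Agent.Helper6.ConsD

section PbFunctor

variable {X T : Scheme.{u}} (v : T ⟶ X)

/-- base change along `v`, as a functor to schemes -/
noncomputable def pbFunctor : Over X ⥤ Scheme.{u} where
  obj Z := pullback v Z.hom
  map h := pbMap v h
  map_id Z := pbMap_id v Z
  map_comp h h' := pbMap_comp v h h'

/-- comparison with Mathlib's base change functor -/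
noncomputable def pbFunctorIso : Over.pullback v ⋙ Over.forget T ≅ pbFunctor v :=
  NatIso.ofComponents (fun Z => pullbackSymmetry Z.hom v) (by
    intro Z Z' h
    apply pullback.hom_ext
    · simp [pbFunctor, pbMap_fst]
      exact pullback.lift_snd _ _ _
    · simp [pbFunctor, pbMap_snd]
      exact pullback.lift_fst _ _ _)

/-- base change preserves cofiltered limits -/
noncomputable def isLimitPb {J : Type*} [Category J] [IsCofiltered J] {D : J ⥤ Over X}
    {c : Cone D} (hc : IsLimit c) : IsLimit ((pbFunctor v).mapCone c) := by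
  haveI := IsCofiltered.isConnected J
  have h1 : IsLimit ((Over.pullback v ⋙ Over.forget T).mapCone c) :=
    isLimitOfPreserves (Over.forget T) (isLimitOfPreserves (Over.pullback v) hc)
  exact IsLimit.mapConeEquiv (pbFunctorIso v) h1

end PbFunctor

variable {X Y : Scheme.{u}}

lemma isAffine_pullback_of_isAffineHom {V Z : Scheme.{u}} (v : V ⟶ X) (z : Z ⟶ X) [IsAffine V]
    [IsAffineHom z] : IsAffine (pullback v z) :=
  isAffine_of_isAffineHom (pullback.fst v z)

section Main

variable [CompactSpace X] [QuasiSeparatedSpace X] (N : AddCommGrpCat.{u + 1}) [Finite N]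
  {I : Type u} [Preorder I] [IsDirected I (fun a b => a ≤ b)] [Nonempty I]
  (D : Iᵒᵖ ⥤ Over X) (c : Cone D) (hc : IsLimit c) (hfin : ∀ i, IsFinite (D.obj i).hom)

/-- the system of sheaves `V ↦ LC(V ×_X D_i, N)` -/
noncomputable abbrev sys : I ⥤ EtCoh.Ab X := D.rightOp ⋙ lcFunctor N

/-- the cocone with vertex `V ↦ LC(V ×_X lim D_i, N)` -/
noncomputable def cocone : Cocone (sys N D) where
  pt := lcPush N c.pt
  ι :=
    { app := fun i => lcMap N (c.π.app (op i))
      naturality := by
        intro i j f
        show lcMap N (D.map f.op) ≫ lcMap N (c.π.app (op j)) = lcMap N (c.π.app (op i)) ≫ 𝟙 _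
        rw [Category.comp_id, ← lcMap_comp, c.w] }

include hc hfin in
theorem secColim : SecColim (sys N D) (cocone N D c) := by
  haveI : IsFiltered I := isFiltered_of_directed_le_nonempty I
  constructor
  · intro V hV s
    haveI : IsAffine V.left := hV
    haveI : IsAffine ((𝟭 Scheme.{u}).obj V.left) := hV
    let DV : Iᵒᵖ ⥤ Scheme.{u} := D ⋙ pbFunctor V.hom
    let cV : Cone DV := (pbFunctor V.hom).mapCone c
    have hcV : IsLimit cV := isLimitPb V.hom hc
    haveI : ∀ i, IsAffineHom (D.obj i).hom := fun i => by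
      haveI := hfin i
      infer_instance
    haveI hA : ∀ i, IsAffine (DV.obj i) := fun i =>
      isAffine_pullback_of_isAffineHom V.hom (D.obj i).hom
    haveI : ∀ {i j : Iᵒᵖ} (f : i ⟶ j), IsAffineHom (DV.map f) := fun f => inferInstance
    haveI : ∀ i, CompactSpace (DV.obj i) := fun i => inferInstance
    haveI : ∀ i, QuasiSeparatedSpace (DV.obj i) := fun i => inferInstance
    obtain ⟨j, fj, hfj⟩ := exists_eq_comp DV cV hcV
      (show LocallyConstant cV.pt N from s)
    refine ⟨j.unop, (show LocallyConstant (DV.obj j) N from fj), ?_⟩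
    apply LocallyConstant.ext
    intro x
    exact hfj x
  · intro V hV i s' hs'
    haveI : IsAffine V.left := hV
    haveI : IsAffine ((𝟭 Scheme.{u}).obj V.left) := hV
    let DV : Iᵒᵖ ⥤ Scheme.{u} := D ⋙ pbFunctor V.hom
    let cV : Cone DV := (pbFunctor V.hom).mapCone c
    have hcV : IsLimit cV := isLimitPb V.hom hc
    haveI : ∀ i, IsAffineHom (D.obj i).hom := fun i => by
      haveI := hfin i
      infer_instance
    haveI hA : ∀ i, IsAffine (DV.obj i) := fun i =>
      isAffine_pullback_of_isAffineHom V.hom (D.obj i).hom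
    haveI : ∀ {i j : Iᵒᵖ} (f : i ⟶ j), IsAffineHom (DV.map f) := fun f => inferInstance
    haveI : ∀ i, CompactSpace (DV.obj i) := fun i => inferInstance
    obtain ⟨k, a, hk⟩ := exists_map_eq_of_eq DV cV hcV (op i)
      (show LocallyConstant (DV.obj (op i)) N from s') 0 (by
        intro x
        have := congrArg (fun f : LocallyConstant cV.pt N => f x) hs'
        exact this)
    refine ⟨k.unop, a.unop, ?_⟩
    apply LocallyConstant.ext
    intro y
    exact hk y

end Main

/-- **descent to a finite level**: a map from a constructible sheaf to `V ↦ LC(V ×_X Y, N)`,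
`Y` integral over `X`, factors through `V ↦ LC(V ×_X Z, N)` for a finite `X`-scheme `Z` under
`Y` -/
theorem exists_finite_factor [CompactSpace X] [QuasiSeparatedSpace X] (ν : Y ⟶ X)
    [IsIntegralHom ν] (N : AddCommGrpCat.{u + 1}) [Finite N] (G : EtCoh.Ab X)
    (hG : EtPBC.IsConstructible G) (a : G ⟶ lcPush N (Over.mk ν)) :
    ∃ (Z : Over X) (_ : IsFinite Z.hom) (π : Over.mk ν ⟶ Z) (a' : G ⟶ lcPush N Z),
      a' ≫ lcMap N π = a := by
  obtain ⟨I, hP, hD, hN, D, c, hc, e, hfin⟩ :=
    Groth.Agent.Helper4.NApx9.integral_limit_finite ν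
  haveI : IsFiltered I := isFiltered_of_directed_le_nonempty I
  obtain ⟨i, a', ha'⟩ := exists_factor (secColim N D c hc hfin) G hG (a ≫ lcMap N e.hom)
  let a'' : G ⟶ lcPush N (D.obj (op i)) := a'
  refine ⟨D.obj (op i), hfin (op i), e.inv ≫ c.π.app (op i), a'', ?_⟩
  have h1 : a'' ≫ lcMap N (c.π.app (op i)) = a ≫ lcMap N e.hom := ha'
  calc a'' ≫ lcMap N (e.inv ≫ c.π.app (op i))
      = (a'' ≫ lcMap N (c.π.app (op i))) ≫ lcMap N e.inv := by
        rw [lcMap_comp, Category.assoc]
    _ = a ≫ (lcMap N e.hom ≫ lcMap N e.inv) := by rw [h1, Category.assoc]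
    _ = a := by rw [← lcMap_comp, e.inv_hom_id, lcMap_id, Category.comp_id]

end Groth.Agent.Helper9.LcD
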