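import Mathlib
import Groth.Prelude.Def_EtBase
import Groth.Prelude.Def_PBC
import Groth.Agent.Helper5.NormExt
import Groth.Agent.Helper6.ConstUnitD

/-! The normalisation of an integral scheme in the algebraic closure of its function field: it is
normal and integral, and the geometric generic point is a preimmersion onto its generic point, so
constant sheaves on it are direct images from the geometric generic point. -/

set_option autoImplicit false
set_option linter.style.haveILetI false
set_option linter.unusedSectionVars false
set_option linter.unusedVariables false
set_option linter.unusedSimpArgs false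

universe u

open CategoryTheory CategoryTheory.Limits Opposite AlgebraicGeometry

namespace Groth.Agent.Helper9.NrmA

open Groth.Agent.Helper5.NormGen Groth.Agent.Helper5.NormExt Groth.Agent.Helper4.ConstLoc

variable (X : Scheme.{u}) [IsIntegral X]

/-- the algebraic closure of the function field -/
abbrev Kb : Type u := AlgebraicClosure X.functionField

/-- the geometric generic point -/
noncomputable abbrev gb : Spec (CommRingCat.of (Kb X)) ⟶ X :=
  gen (Kb X) (algebraMap X.functionField (Kb X))

variable [QuasiSeparatedSpace X]

/-- the normalisation of `X` in the algebraic closure of its function field -/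
noncomputable abbrev Yb : Scheme.{u} := (gb X).normalization

/-- the structure morphism of the normalisation -/
noncomputable abbrev νb : Yb X ⟶ X := (gb X).fromNormalization

/-- the geometric generic point of the normalisation -/
noncomputable abbrev tb : Spec (CommRingCat.of (Kb X)) ⟶ Yb X := (gb X).toNormalization

lemma tb_νb : tb X ≫ νb X = gb X := (gb X).toNormalization_fromNormalization

instance : IsIntegral (Yb X) := inferInstance

instance : IsIntegralHom (νb X) := inferInstance

theorem isIntegrallyClosed_stalk (y : Yb X) : IsIntegrallyClosed ((Yb X).presheaf.stalk y) := by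
  obtain ⟨_, h, -⟩ := s4448_aux (Kb X) (algebraMap X.functionField (Kb X)) (gb X) rfl
  exact (h y).2

theorem tb_closedPoint :
    (tb X) (IsLocalRing.closedPoint (Kb X)) = genericPoint (Yb X) := by
  obtain ⟨_, -, -, h, -⟩ := s4448_aux (Kb X) (algebraMap X.functionField (Kb X)) (gb X) rfl
  exact h

theorem bijective_stalkClosedPointTo :
    Function.Bijective (Scheme.stalkClosedPointTo (tb X)).hom := by
  obtain ⟨_, -, -, -, h1, h2⟩ := s4448_aux (Kb X) (algebraMap X.functionField (Kb X)) (gb X) rfl
  refine ⟨h1, ?_⟩
  rw [← Set.range_eq_univ, h2, Set.eq_univ_iff_forall]
  intro y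
  exact Algebra.IsIntegral.isIntegral (R := X.functionField) y

instance : IsPreimmersion (tb X) := by
  haveI : IsIso (Scheme.stalkClosedPointTo (tb X)) :=
    (ConcreteCategory.isIso_iff_bijective _).2 (bijective_stalkClosedPointTo X)
  rw [← Scheme.Spec_stalkClosedPointTo_fromSpecStalk (tb X)]
  infer_instance

theorem range_tb : Set.range (tb X) = {genericPoint (Yb X)} := by
  ext y
  simp only [Set.mem_range, Set.mem_singleton_iff]
  constructor
  · rintro ⟨z, rfl⟩
    rw [← tb_closedPoint X]
    congr 1
    exact Subsingleton.elim _ _
  · rintro rfl
    exact ⟨_, tb_closedPoint X⟩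

/-- constant sheaves on the normalisation come from the geometric generic point -/
theorem isIso_c (N : AddCommGrpCat.{u + 1}) :
    IsIso (Groth.Agent.Helper6.ConstUnitA.c (tb X) N) := by
  haveI := Groth.Agent.Helper6.ConstUnitD.isIso_unit_point (tb X) N
    (isIntegrallyClosed_stalk X) (range_tb X)
  unfold Groth.Agent.Helper6.ConstUnitA.c
  infer_instance

end Groth.Agent.Helper9.NrmA
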