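import Mathlib
import Groth.Prelude.Def_EtBase
import Groth.Agent.Helper4.StalkFinB

/-! Every abelian sheaf on the small étale site of the spectrum of a separably closed field is
constant, with value its group of global sections. -/

set_option autoImplicit false
set_option linter.style.haveILetI false
set_option linter.unusedSectionVars false
set_option linter.unusedVariables false
set_option linter.unusedSimpArgs false

universe u

open CategoryTheory CategoryTheory.Limits Opposite AlgebraicGeometry

namespace Groth.Agent.Helper9.SepConst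

open Groth.Agent.Helper4.ConstLoc Groth.Agent.Helper4.EtGeom Groth.Agent.Helper4.LcExtB
  Groth.Agent.Helper4.StalkFinB

variable (Ω : Type u) [Field Ω] [IsSepClosed Ω]

/-- a section of an étale scheme over `Spec Ω` through a given point -/
theorem exists_section (W : (Spec (CommRingCat.of Ω)).Etale) (x : W.left) :
    ∃ s : EtCoh.top (Spec (CommRingCat.of Ω)) ⟶ W,
      (show Spec (CommRingCat.of Ω) ⟶ W.left from s.left) default = x := by
  obtain ⟨l, hl, hx⟩ := Scheme.exists_fac_of_etale_of_isSepClosed W.hom
    (𝟙 (Spec (CommRingCat.of Ω))) x (Subsingleton.elim (α := ↥(Spec (CommRingCat.of Ω))) _ _)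
  exact ⟨MorphismProperty.Over.homMk l (hl.trans (Category.id_comp _).symm) trivial, hx⟩

variable (R : EtCoh.Ab (Spec (CommRingCat.of Ω)))

/-- the group of global sections -/
noncomputable abbrev Γ : AddCommGrpCat.{u + 1} := R.obj.obj (op (EtCoh.top (Spec (CommRingCat.of Ω))))

/-- the canonical map from the constant presheaf on the global sections -/
noncomputable abbrev φΓ : P (Spec (CommRingCat.of Ω)) (Γ Ω R) ⟶ R.obj :=
  φ R (Γ Ω R) (AddMonoidHom.id _)

lemma res_section {W : (Spec (CommRingCat.of Ω)).Etale}
    (s : EtCoh.top (Spec (CommRingCat.of Ω)) ⟶ W) (γ : Γ Ω R) :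
    R.obj.map s.op (R.obj.map (toTop W).op γ) = γ := by
  have h : s ≫ toTop W = 𝟙 _ := (EtCore.topIsTerminal _).hom_ext _ _
  rw [← ConcreteCategory.comp_apply, ← Functor.map_comp, ← op_comp, h, op_id, R.obj.map_id]
  rfl

instance : Presheaf.IsLocallyInjective (Spec (CommRingCat.of Ω)).smallEtaleTopology (φΓ Ω R) :=
  isLocallyInjective_φ R (Γ Ω R) (AddMonoidHom.id _) (by
    intro W x γ hγ
    obtain ⟨s, -⟩ := exists_section Ω W x
    have h1 := res_section Ω R s γ
    have h2 : R.obj.map (toTop W).op γ = 0 := hγ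
    rw [← h1, h2, map_zero])

instance : Presheaf.IsLocallySurjective (Spec (CommRingCat.of Ω)).smallEtaleTopology (φΓ Ω R) where
  imageSieve_mem {W} e := by
    rw [mem_iff]
    intro x₀
    obtain ⟨s, hs⟩ := exists_section Ω W x₀
    refine ⟨EtCoh.top _, s, (default : Spec (CommRingCat.of Ω)), ⟨R.obj.map s.op e, ?_⟩, hs⟩
    rw [φ_app]
    have h : toTop (EtCoh.top (Spec (CommRingCat.of Ω))) = 𝟙 _ :=
      (EtCore.topIsTerminal _).hom_ext _ _
    rw [h, op_id, R.obj.map_id]
    rfl

/-- every abelian sheaf on `Spec Ω`, `Ω` separably closed, is constant -/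
theorem nonempty_iso : Nonempty (cS (Spec (CommRingCat.of Ω)) (Γ Ω R) ≅ R) :=
  ⟨isoOfLocallyBijective (Γ Ω R) R (φΓ Ω R)⟩

end Groth.Agent.Helper9.SepConst
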