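import Mathlib
import Groth.Prelude.Def_EtBase
import Groth.Prelude.Def_PBC
import Groth.Agent.Helper9.LcD
import Groth.Agent.Helper9.NrmA
import Groth.Agent.Helper9.SepConst
import Groth.Agent.Helper9.EmbK
import Groth.Agent.Helper1.Constr
import Groth.Agent.Helper4.SubCons
import Groth.Agent.Helper4.SuppC
import Groth.Agent.Helper5.NormInt
import Groth.Agent.Helper6.ConsV
import Groth.Agent.Helper6.ConsH
import Groth.Agent.Helper6.ConsI

/-! A constructible sheaf on an integral Noetherian scheme maps to `f_* M`, `f` finite, `M` a finite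
constant sheaf, injectively on the stalks over a nonempty open subset. -/

set_option autoImplicit false
set_option linter.style.haveILetI false
set_option linter.unusedSectionVars false
set_option linter.unusedVariables false
set_option linter.unusedSimpArgs false

universe u

open CategoryTheory CategoryTheory.Limits Opposite AlgebraicGeometry

namespace Groth.Agent.Helper9.NrmB

open Groth.Agent.Helper9.LcA Groth.Agent.Helper9.LcD Groth.Agent.Helper9.NrmA
  Groth.Agent.Helper9.EtStalkExact Groth.Agent.Helper4.ConstLoc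

attribute [local instance] preservesFilteredColimits_forget_ab ab5_ab

variable (X : Scheme.{u}) [IsIntegral X] [IsNoetherian X]

/-- a finite abelian group (in any universe) is isomorphic to one in `Type` -/
theorem exists_small_model (N : AddCommGrpCat.{u + 1}) [Finite N] :
    ∃ (M : Type) (_ : AddCommGroup M) (_ : Finite M),
      Nonempty (N ≅ AddCommGrpCat.of (ULift.{u + 1} M)) := by
  refine ⟨Shrink.{0} N, inferInstance, Finite.of_equiv _ (equivShrink.{0} N), ⟨?_⟩⟩
  let e1 : N ≃+ Shrink.{0} N := (Shrink.addEquiv.{0} (α := N)).symm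
  let e2 : Shrink.{0} N ≃+ ULift.{u + 1} (Shrink.{0} N) := AddEquiv.ulift.symm
  exact (e1.trans e2).toAddCommGrpIso

theorem main (G : EtCoh.Ab X) (hG : EtPBC.IsConstructible G) :
    ∃ (Y' : Scheme.{u}) (f : Y' ⟶ X) (_ : IsFinite f) (M : Type) (_ : AddCommGroup M)
      (_ : Finite M) (b : G ⟶ (EtCoh.push f).obj (EtCoh.const Y' M)) (W : Set X),
      IsOpen W ∧ W.Nonempty ∧
      ∀ w ∈ W, Function.Injective ((EtCoh.stalk (geomPt w)).map b) := by
  haveI : QuasiSeparatedSpace X := inferInstance
  haveI : CompactSpace X := inferInstance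
  -- the geometric generic point
  let g := gb X
  let H : EtCoh.Ab (Spec (CommRingCat.of (Kb X))) := (EtCoh.pull g).obj G
  have hH : EtPBC.IsConstructible H := Groth.Agent.Helper6.ConsV.isConstructible_pull g G hG
  let N : AddCommGrpCat.{u + 1} := SepConst.Γ (Kb X) H
  obtain ⟨ε⟩ := SepConst.nonempty_iso (Kb X) H
  let ζ₀ := geomPt (X := Spec (CommRingCat.of (Kb X))) (default : Spec (CommRingCat.of (Kb X)))
  haveI : Finite N := by
    haveI := Groth.Agent.Helper6.ConsH.finite_stalk_of_isConstructible H hH ζ₀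
    have e : (EtCoh.stalk ζ₀).obj H ≅ N :=
      (EtCoh.stalk ζ₀).mapIso ε.symm ≪≫ Groth.Agent.Helper4.SuppA.stalkConst ζ₀ N
    exact Finite.of_equiv _ e.addCommGroupIsoToAddEquiv.toEquiv
  -- the comparison with the normalisation
  haveI := isIso_c X N
  let θ : (EtCoh.push g).obj H ⟶ lcPush N (Over.mk (νb X)) :=
    (EtCoh.push g).map ε.inv ≫ (EtCoh.pushCongr (tb_νb X).symm).hom.app _ ≫
      (EtCoh.pushComp (νb X) (tb X)).inv.app _ ≫
      (EtCoh.push (νb X)).map (inv (Groth.Agent.Helper6.ConstUnitA.c (tb X) N)) ≫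
      (lcPushIso N (Over.mk (νb X))).hom
  haveI : IsIso θ := by
    dsimp only [θ]
    infer_instance
  let a₀ : G ⟶ lcPush N (Over.mk (νb X)) := (EtCoh.pullPushAdj g).unit.app G ≫ θ
  obtain ⟨Z, hZ, π, a', ha'⟩ := exists_finite_factor (νb X) N G hG a₀
  obtain ⟨M, iM, fM, ⟨eM⟩⟩ := exists_small_model N
  let κ : lcPush N Z ≅ (EtCoh.push Z.hom).obj (EtCoh.const Z.left M) :=
    (lcPushIso N Z).symm ≪≫ (EtCoh.push Z.hom).mapIso
      ((constantSheaf Z.left.smallEtaleTopology AddCommGrpCat.{u + 1}).mapIso eM)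
  let b : G ⟶ (EtCoh.push Z.hom).obj (EtCoh.const Z.left M) := a' ≫ κ.hom
  -- the kernel dies at the geometric generic point
  have hunit : kernel.ι b ≫ (EtCoh.pullPushAdj g).unit.app G = 0 := by
    have h1 : (EtCoh.pullPushAdj g).unit.app G = b ≫ κ.inv ≫ lcMap N π ≫ inv θ := by
      have h2 : b ≫ κ.inv ≫ lcMap N π ≫ inv θ = (a' ≫ lcMap N π) ≫ inv θ := by
        simp only [b, Category.assoc, Iso.hom_inv_id_assoc]
      rw [h2, ha']
      simp only [a₀, Category.assoc, IsIso.hom_inv_id, Category.comp_id]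
    rw [h1, kernel.condition_assoc, zero_comp]
  have hK : EtPBC.IsConstructible (kernel b) :=
    Groth.Agent.Helper4.SubCons.isConstructible_of_mono (kernel.ι b) hG
  have hz : IsZero ((EtCoh.stalk (ζ₀ ≫ g)).obj (kernel b)) := by
    refine EmbK.isZero_stalk_of_comp_eq_zero g (kernel.ι b) (𝟙 _) ?_ ζ₀ ?_
    · rw [Category.comp_id]
      have h2 := (EtCoh.pullPushAdj g).left_triangle_components G
      haveI := Groth.Agent.Helper6.LimCohZ.pfl_pull g
      calc (EtCoh.pull g).map (kernel.ι b)
          = (EtCoh.pull g).map (kernel.ι b) ≫ ((EtCoh.pull g).map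
              ((EtCoh.pullPushAdj g).unit.app G) ≫ (EtCoh.pullPushAdj g).counit.app _) := by
            rw [h2, Category.comp_id]
        _ = 0 := by
            rw [← Category.assoc, ← Functor.map_comp, hunit, Functor.map_zero, zero_comp]
    · rw [CategoryTheory.Functor.map_id]
      exact Function.injective_id
  have hη : genericPoint X ∉ EtPBC.supp (kernel b) := by
    have h3 := Groth.Agent.Helper6.ConsH.not_mem_supp_of_isZero_stalk (kernel b) (ζ₀ ≫ g) hz
    have h4 : (ζ₀ ≫ g) default = genericPoint X := by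
      rw [Scheme.Hom.comp_apply]
      exact Groth.Agent.Helper5.NormInt.gen_apply _ _ _
    rwa [h4] at h3
  have hcons : Topology.IsConstructible (EtPBC.supp (kernel b)) :=
    Groth.Agent.Helper4.SuppC.isConstructible_supp _ hK
  rcases Groth.Agent.Helper1.Constr.dichotomy (IrreducibleSpace.isIrreducible_univ X) hcons with
    ⟨U, hU, hne, hsub⟩ | ⟨U, hU, hne, hsub⟩
  · exfalso
    apply hη
    rw [Set.inter_univ] at hne hsub
    apply hsub
    exact ((genericPoint_spec X).mem_open_set_iff hU).2 (by simpa using hne)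
  · rw [Set.inter_univ] at hne hsub
    refine ⟨Z.left, Z.hom, hZ, M, iM, fM, b, U, hU, hne, fun w hw => ?_⟩
    rw [Groth.Agent.Helper4.SuppC.injective_iff_isZero_stalk_kernel]
    exact (Groth.Agent.Helper6.ConsI.not_mem_supp_iff _ w).1 (hsub hw)

end Groth.Agent.Helper9.NrmB
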