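import Mathlib
import Groth.Prelude.Def_EtBase
import Groth.Prelude.Def_PBC
import Groth.Agent.Helper9.NrmB
import Groth.Agent.Helper9.EmbG
import Groth.Agent.Helper9.EmbK

/-! A constructible abelian sheaf on a Noetherian scheme embeds into a finite sum of direct images
of finite constant sheaves along finite morphisms. -/

set_option autoImplicit false
set_option linter.style.haveILetI false
set_option linter.unusedSectionVars false
set_option linter.unusedVariables false
set_option linter.unusedSimpArgs false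

universe u

open CategoryTheory CategoryTheory.Limits Opposite AlgebraicGeometry TopologicalSpace

namespace Groth.Agent.Helper9.EmbM

open Groth.Agent.Helper9.EmbG Groth.Agent.Helper9.EmbK Groth.Agent.Helper9.EtStalkExact
  Groth.Agent.Helper9.EtStalkFamily

attribute [local instance] preservesFilteredColimits_forget_ab ab5_ab

section RedInd

theorem isReduced_subscheme_of_radical (X : Scheme.{u}) (I : X.IdealSheafData)
    (h : I.radical = I) : IsReduced I.subscheme := by
  rw [IsReduced.iff_of_openCover (X := I.subscheme) I.subschemeCover.openCover]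
  intro (U : X.affineOpens)
  change IsReduced (Spec (CommRingCat.of (Γ(X, U) ⧸ I.ideal U)))
  rw [affine_isReduced_iff]
  have h2 : (I.ideal U).IsRadical := by
    have := congrArg (fun J : X.IdealSheafData => J.ideal U) h
    exact Ideal.radical_eq_iff.mp this
  exact (Ideal.isRadical_iff_quotient_reduced _).mp h2

theorem isReduced_vanishingIdeal_subscheme {X : Scheme.{u}} (C : Closeds X) :
    IsReduced (Scheme.IdealSheafData.vanishingIdeal C).subscheme := by
  apply isReduced_subscheme_of_radical
  have hs : (Scheme.IdealSheafData.vanishingIdeal C).support = C :=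
    Closeds.ext (Scheme.IdealSheafData.coe_support_vanishingIdeal C)
  rw [← Scheme.IdealSheafData.vanishingIdeal_support, hs]

/-- the reduced induced structure on a closed subset -/
theorem exists_closedImmersion {Z : Scheme.{u}} (C : Set Z) (hC : IsClosed C) :
    ∃ (Z' : Scheme.{u}) (i : Z' ⟶ Z), IsClosedImmersion i ∧ Set.range i = C ∧ IsReduced Z' := by
  let Cc : Closeds Z := ⟨C, hC⟩
  let I := Scheme.IdealSheafData.vanishingIdeal Cc
  refine ⟨I.subscheme, I.subschemeι, inferInstance, ?_, isReduced_vanishingIdeal_subscheme Cc⟩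
  rw [Scheme.IdealSheafData.range_subschemeι]
  exact Scheme.IdealSheafData.coe_support_vanishingIdeal Cc

/-- the reduced induced structure on an irreducible closed subset is integral -/
theorem exists_integral_closedImmersion {Z : Scheme.{u}} (C : Set Z) (hC : IsClosed C)
    (hirr : IsIrreducible C) :
    ∃ (Z' : Scheme.{u}) (i : Z' ⟶ Z), IsClosedImmersion i ∧ Set.range i = C ∧ IsIntegral Z' := by
  obtain ⟨Z', i, hi, hrange, hred⟩ := exists_closedImmersion C hC
  refine ⟨Z', i, hi, hrange, ?_⟩
  obtain ⟨ξ, hξ⟩ := QuasiSober.sober hirr hC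
  have hξdef : closure ({ξ} : Set Z) = C := hξ.def
  obtain ⟨ξT, hξT⟩ : ξ ∈ Set.range i := by rw [hrange, ← hξdef]; exact subset_closure rfl
  have hξTgen : closure ({ξT} : Set Z') = Set.univ := by
    rw [i.isEmbedding.toIsInducing.closure_eq_preimage_closure_image, Set.image_singleton, hξT,
      hξdef]
    refine Set.eq_univ_of_forall fun t => ?_
    show i t ∈ C
    rw [← hrange]; exact ⟨t, rfl⟩
  haveI : IrreducibleSpace Z' := by
    have h1 : IsIrreducible (Set.univ : Set Z') := by
      rw [← hξTgen]; exact isIrreducible_singleton.closure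
    exact (irreducibleSpace_def _).2 h1
  exact isIntegral_of_irreducibleSpace_of_isReduced _

end RedInd

/-- the embedding property -/
def Emb {Z : Scheme.{u}} (G : EtCoh.Ab Z) : Prop :=
  ∃ (B : EtCoh.Ab Z) (_ : Good B) (θ : G ⟶ B), Mono θ

theorem isNoetherian_of_isClosedImmersion {Z X : Scheme.{u}} (i : Z ⟶ X) [IsClosedImmersion i]
    [IsNoetherian X] : IsNoetherian Z := by
  haveI : IsLocallyNoetherian Z := LocallyOfFiniteType.isLocallyNoetherian i
  haveI : CompactSpace Z := QuasiCompact.compactSpace_of_compactSpace i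
  exact ⟨⟩

variable (X : Scheme.{u}) [IsNoetherian X]

theorem emb_aux (T : Closeds X) : ∀ (Z : Scheme.{u}) (i : Z ⟶ X) [IsClosedImmersion i],
    Set.range i = (T : Set X) → ∀ (G : EtCoh.Ab Z), EtPBC.IsConstructible G → Emb G := by
  induction T using WellFoundedLT.induction with
  | ind T ih =>
  intro Z i _ hrange G hG
  haveI : IsNoetherian Z := isNoetherian_of_isClosedImmersion i
  by_cases hZ : IsEmpty Z
  · have hG0 : IsZero G := isZero_of_family G (fun x => (hZ.false x).elim)
    exact ⟨G, Good.zero G hG0, 𝟙 G, inferInstance⟩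
  rw [not_isEmpty_iff] at hZ
  obtain ⟨x₀⟩ := hZ
  -- an irreducible component
  let C : Set Z := irreducibleComponent x₀
  have hCmem : C ∈ irreducibleComponents Z := irreducibleComponent_mem_irreducibleComponents x₀
  obtain ⟨Z₁, i₁, hi₁, hr₁, hint₁⟩ := exists_integral_closedImmersion C
    isClosed_irreducibleComponent isIrreducible_irreducibleComponent
  haveI := hi₁
  haveI := hint₁
  haveI : IsNoetherian Z₁ := isNoetherian_of_isClosedImmersion i₁
  obtain ⟨o, ho, hone, hoC⟩ :=
    NoetherianSpace.exists_isOpen_nonempty_subset_irreducibleComponent C hCmem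
  -- the generic piece
  obtain ⟨Y', f, hf, M, iM, fM, b, W, hW, hWne, hWinj⟩ := NrmB.main Z₁ ((EtCoh.pull i₁).obj G)
    (Groth.Agent.Helper6.ConsV.isConstructible_pull i₁ G hG)
  -- the open subset on which the generic piece is injective
  let U' : Set Z := o \ (i₁ '' Wᶜ)
  have hU'open : IsOpen U' :=
    ho.sdiff (i₁.isClosedEmbedding.isClosedMap _ hW.isClosed_compl)
  have hU'ne : U'.Nonempty := by
    have h1 : (i₁ ⁻¹' o).Nonempty := by
      obtain ⟨y, hy⟩ := hone
      obtain ⟨z, hz⟩ : y ∈ Set.range i₁ := by rw [hr₁]; exact hoC hy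
      exact ⟨z, by show i₁ z ∈ o; rw [hz]; exact hy⟩
    obtain ⟨z, hz1, hz2⟩ := nonempty_preirreducible_inter (ho.preimage i₁.continuous) hW h1 hWne
    refine ⟨i₁ z, hz1, ?_⟩
    rintro ⟨z', hz', he⟩
    exact hz' ((i₁.isClosedEmbedding.injective he) ▸ hz2)
  -- the closed complement
  obtain ⟨Z', i', hi', hr', -⟩ := exists_closedImmersion U'ᶜ hU'open.isClosed_compl
  haveI := hi'
  let T' : Closeds X := ⟨i '' U'ᶜ, i.isClosedEmbedding.isClosedMap _ hU'open.isClosed_compl⟩
  have hT' : T' < T := by
    refine lt_of_le_of_ne ?_ ?_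
    · intro x hx
      obtain ⟨z, -, rfl⟩ := hx
      show i z ∈ (T : Set X)
      rw [← hrange]; exact ⟨z, rfl⟩
    · intro he
      obtain ⟨u, hu⟩ := hU'ne
      have h1 : i u ∈ (T : Set X) := by rw [← hrange]; exact ⟨u, rfl⟩
      rw [← he] at h1
      obtain ⟨z, hz, hzu⟩ := h1
      exact hz ((i.isClosedEmbedding.injective hzu) ▸ hu)
  have hr'' : Set.range (i' ≫ i) = (T' : Set X) := by
    rw [Scheme.Hom.comp_base, TopCat.coe_comp, Set.range_comp, hr']
    rfl
  obtain ⟨B', hB', φ', hφ'⟩ := ih T' hT' Z' (i' ≫ i) hr'' ((EtCoh.pull i').obj G)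
    (Groth.Agent.Helper6.ConsV.isConstructible_pull i' G hG)
  -- combine
  let B₁ : EtCoh.Ab Z₁ := (EtCoh.push f).obj (EtCoh.const Y' M)
  let θ₁ : G ⟶ (EtCoh.push i₁).obj B₁ := ((EtCoh.pullPushAdj i₁).homEquiv G B₁) b
  let θ₂ : G ⟶ (EtCoh.push i').obj B' := ((EtCoh.pullPushAdj i').homEquiv G B') φ'
  refine ⟨(EtCoh.push i₁).obj B₁ ⊞ (EtCoh.push i').obj B',
    Good.biprod _ _ (Good.push_finite i₁ (Good.push f hf M)) (Good.push_finite i' hB'),
    biprod.lift θ₁ θ₂, ?_⟩
  apply mono_lift i₁ i' θ₁ θ₂
  intro x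
  by_cases hx : x ∈ U'
  · left
    obtain ⟨z, hz⟩ : x ∈ Set.range i₁ := by rw [hr₁]; exact hoC hx.1
    refine ⟨z, hz, ?_⟩
    have hzW : z ∈ W := by
      by_contra hzW
      exact hx.2 ⟨z, hzW, hz⟩
    simp only [θ₁, Equiv.symm_apply_apply]
    exact hWinj z hzW
  · right
    obtain ⟨z, hz⟩ : x ∈ Set.range i' := by rw [hr']; exact hx
    refine ⟨z, hz, ?_⟩
    simp only [θ₂, Equiv.symm_apply_apply]
    exact (mono_iff_stalks φ').1 hφ' _ _

/-- **S0143, abstract form** -/
theorem emb (F : EtCoh.Ab X) (hF : EtPBC.IsConstructible F) : Emb F :=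
  emb_aux X ⊤ X (𝟙 X) (by simp) F hF

end Groth.Agent.Helper9.EmbM
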