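import Mathlib
import Groth.Prelude.Def_EtBase
import Groth.Prelude.Def_EtCore
import Groth.Prelude.Def_PBC
import Groth.Agent.Helper9.CnsDescB
import Groth.Agent.Helper9.EmbM
import Groth.Agent.Helper9.StalkBC5
import Groth.Agent.Helper4.LanExact
import Groth.Agent.S0590

set_option autoImplicit false
set_option linter.style.haveILetI false
set_option linter.unusedSectionVars false
set_option linter.unusedVariables false
set_option linter.unusedSimpArgs false

/-!
# Constructible sheaves on qcqs schemes embed into sums of direct images of constant sheaves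
along finite morphisms of finite presentation
-/

namespace Groth.Agent.Helper9.CnsDescC

open CategoryTheory CategoryTheory.Limits AlgebraicGeometry Opposite
open Groth.Agent.Helper9.CnsDescB Groth.Agent.Helper9.EmbM Groth.Agent.Helper9.EmbG

universe u

theorem lfp_of_noeth {X Y : Scheme.{u}} (f : X ⟶ Y) [LocallyOfFiniteType f]
    [IsLocallyNoetherian Y] : LocallyOfFinitePresentation f := by
  constructor
  intro U hU V hV e
  haveI : IsNoetherianRing Γ(Y, U) := IsLocallyNoetherian.component_noetherian ⟨U, hU⟩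
  exact RingHom.FinitePresentation.of_finiteType.mp (f.finiteType_appLE hU hV e)

theorem main (X : Scheme.{u}) [CompactSpace X] [QuasiSeparatedSpace X]
    (F : EtCoh.Ab X) (hF : EtPBC.IsConstructible F) :
    ∃ (n : ℕ) (Y : Fin n → Scheme.{u}) (f : ∀ i, Y i ⟶ X) (_ : ∀ i, IsFinite (f i))
      (_ : ∀ i, LocallyOfFinitePresentation (f i))
      (M : Fin n → Type) (_ : ∀ i, AddCommGroup (M i)) (_ : ∀ i, Finite (M i))
      (θ : F ⟶ ⨁ fun i => (EtCoh.push (f i)).obj (EtCoh.const (Y i) (M i))), Mono θ := by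
  obtain ⟨I, hP, hD, hN, D, c, hc, hA1, hA2, ⟨eS⟩⟩ := Groth.Agent.S0590.result X
  let c₁ : Cone D := c.extend eS.inv
  have hc₁ : IsLimit c₁ := IsLimit.ofIsoLimit hc (c.extendIso eS)
  haveI : CompactSpace c₁.pt := ‹CompactSpace X›
  haveI : QuasiSeparatedSpace c₁.pt := ‹QuasiSeparatedSpace X›
  have hLN : ∀ a, IsLocallyNoetherian (D.obj a) := fun a => by
    haveI := (hA2 a).2
    exact LocallyOfFiniteType.isLocallyNoetherian (specULiftZIsTerminal.from (D.obj a))
  have hqc : ∀ a, CompactSpace (D.obj a) := fun a => (hA2 a).1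
  have hqs : ∀ a, QuasiSeparatedSpace (D.obj a) := fun a => by
    haveI := hLN a
    infer_instance
  obtain ⟨l, F', hF', ⟨e⟩⟩ := exists_descent D (fun a b h => hA1 a b h) c₁ hc₁ hqc hqs F hF
  haveI := hLN (op l)
  haveI := hqc (op l)
  haveI : IsNoetherian (D.obj (op l)) := {}
  obtain ⟨B, hB, θ, hθ⟩ := emb (D.obj (op l)) F' hF'
  obtain ⟨n, Y, f, hf, M, g, fin, ι, hι⟩ := hB.exists_mono_fin
  let p : X ⟶ D.obj (op l) := c₁.π.app (op l)
  have hfp : ∀ i, LocallyOfFinitePresentation (f i) := fun i => by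
    haveI := hf i
    exact lfp_of_noeth (f i)
  have iso : ∀ i, (EtCoh.pull p).obj ((EtCoh.push (f i)).obj (EtCoh.const (Y i) (M i))) ≅
      (EtCoh.push (pullback.snd (f i) p)).obj (EtCoh.const (pullback (f i) p) (M i)) := fun i => by
    haveI := hf i
    have hpb : IsPullback (pullback.fst (f i) p) (pullback.snd (f i) p) (f i) p :=
      IsPullback.of_hasPullback _ _
    haveI := Groth.Agent.Helper9.StalkBC5.main (f i) p (pullback.snd (f i) p)
      (pullback.fst (f i) p) hpb (EtCoh.const (Y i) (M i))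
    exact asIso (EtCoh.baseChange0 (f i) p _ _ hpb.w _) ≪≫
      (EtCoh.push _).mapIso (EtCore.pullConst (pullback.fst (f i) p) (M i))
  refine ⟨n, fun i => pullback (f i) p, fun i => pullback.snd (f i) p,
    fun i => (haveI := hf i; inferInstance), fun i => (haveI := hfp i; inferInstance), M, g, fin,
    e.inv ≫ (EtCoh.pull p).map (θ ≫ ι) ≫
      ((EtCoh.pull p).mapBiproduct
        (fun i => (EtCoh.push (f i)).obj (EtCoh.const (Y i) (M i)))).hom ≫
      (biproduct.mapIso iso).hom, ?_⟩
  haveI : PreservesFiniteLimits (EtCoh.pull p) :=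
    Groth.Agent.Helper4.LanExact.sheafPullback_preservesFiniteLimits (EtCoh.bc p)
      (D.obj (op l)).smallEtaleTopology X.smallEtaleTopology
  haveI : Mono (θ ≫ ι) := mono_comp _ _
  haveI : Mono ((EtCoh.pull p).map (θ ≫ ι)) := inferInstance
  infer_instance

end Groth.Agent.Helper9.CnsDescC
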