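import Mathlib
import Groth.Prelude.Def_CohSite
import Groth.Agent.Helper9.OverCoh
import Groth.Agent.Helper9.BigSiteCoh

/-! `H^p(U, F ∘ u) ≅ H^p(u U, F)` for `u` continuous, cocontinuous, cover preserving, commuting
with fibre products (S0937); acyclicity of `I ∘ u` for `I` injective (S0860). -/

set_option autoImplicit false
set_option backward.isDefEq.respectTransparency false
universe u

open CategoryTheory CategoryTheory.Limits Opposite Abelian

namespace Groth.Agent.Helper9.CoconCoh

variable {C D : Type u} [SmallCategory C] [SmallCategory D] [HasPullbacks C]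
  (J : GrothendieckTopology C) (K : GrothendieckTopology D) (u : C ⥤ D)
  [PreservesLimitsOfShape WalkingCospan u] (U : C)

instance : HasPullbacks (Over U) := inferInstance

instance : HasFiniteLimits (Over U) := hasFiniteLimits_of_hasTerminal_and_pullbacks

instance : PreservesLimitsOfShape WalkingCospan (Over.post (X := U) u) := by
  haveI : PreservesLimitsOfShape WalkingCospan (Over.post (X := U) u ⋙ Over.forget (u.obj U)) := by
    change PreservesLimitsOfShape WalkingCospan (Over.forget U ⋙ u)
    infer_instance
  exact preservesLimitsOfShape_of_reflects_of_preserves (Over.post (X := U) u)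
    (Over.forget (u.obj U))

/-- the image of the terminal object of `C/U` is terminal in `D/uU` -/
noncomputable def isTerminalPost : IsTerminal ((Over.post (X := U) u).obj (Over.mk (𝟙 U))) :=
  IsTerminal.ofIso (Over.mkIdTerminal (X := u.obj U))
    (Over.isoMk (Iso.refl _) (by
      change 𝟙 _ ≫ u.map (𝟙 U) = 𝟙 (u.obj U)
      rw [u.map_id, Category.id_comp]) : Over.mk (𝟙 (u.obj U)) ≅
      (Over.post (X := U) u).obj (Over.mk (𝟙 U)))

instance : PreservesLimit (Functor.empty.{0} (Over U)) (Over.post (X := U) u) :=
  preservesLimit_of_preserves_limit_cone (Over.mkIdTerminal (X := U))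
    ((isLimitMapConeEmptyConeEquiv _ _).symm (isTerminalPost u U))

instance : PreservesFiniteLimits (Over.post (X := U) u) := by
  haveI := preservesLimitsOfShape_pempty_of_preservesTerminal (Over.post (X := U) u)
  exact preservesFiniteLimits_of_preservesTerminal_and_pullbacks _

variable [u.IsContinuous J K] [u.IsCocontinuous J K]

include K in
lemma isContinuous_post (hu : CoverPreserving J K u) :
    (Over.post (X := U) u).IsContinuous (J.over U) (K.over (u.obj U)) := by
  haveI : RepresentablyFlat (Over.post (X := U) u) := flat_of_preservesFiniteLimits _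
  exact Functor.isContinuous_of_coverPreserving (compatiblePreservingOfFlat _ _) (hu.overPost U)

theorem nonempty_addEquiv (hu : CoverPreserving J K u) (F : Sheaf K AddCommGrpCat.{u}) (p : ℕ) :
    Nonempty (CohSite.HU ((CohSite.push K J u).obj F) p U ≃+ CohSite.HU F p (u.obj U)) := by
  haveI := isContinuous_post J K u U hu
  obtain ⟨e1⟩ := Groth.Agent.Helper9.OverCoh.nonempty_addEquiv J U p ((CohSite.push K J u).obj F)
  obtain ⟨e3⟩ := Groth.Agent.Helper9.OverCoh.nonempty_addEquiv K (u.obj U) p F
  obtain ⟨i⟩ := Groth.Agent.Helper9.BigSiteCoh.nonempty_iso (J.over U) (K.over (u.obj U))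
    (Over.post (X := U) u) (tC := Over.mk (𝟙 U)) Over.mkIdTerminal (isTerminalPost u U) p
    (F.over (u.obj U))
  let e2 : Sheaf.H.{u} (F.over (u.obj U)) p ≃+
      Sheaf.H.{u} (((CohSite.push K J u).obj F).over U) p := i.addCommGroupIsoToAddEquiv
  exact ⟨e1.trans (e2.symm.trans e3.symm)⟩

theorem subsingleton_of_injective (hu : CoverPreserving J K u) (I : Sheaf K AddCommGrpCat.{u})
    [Injective I] (p : ℕ) :
    Subsingleton (CohSite.HU ((CohSite.push K J u).obj I) (p + 1) U) := by
  obtain ⟨e⟩ := nonempty_addEquiv J K u U hu I (p + 1)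
  have : Subsingleton (CohSite.HU I (p + 1) (u.obj U)) :=
    subsingleton_of_forall_eq 0
      fun (x : Ext.{u} (Groth.Agent.Helper1.SiteCoh.freeY K (u.obj U)) I (p + 1)) =>
        Ext.eq_zero_of_injective x
  exact e.toEquiv.subsingleton

end Groth.Agent.Helper9.CoconCoh
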