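import Mathlib
import Groth.Prelude.Def_DualSh
import Groth.Prelude.Def_DerSch2
import Groth.Prelude.Def_DerCA
import Groth.Agent.Helper9.Chart10
import Groth.Agent.Helper9.Chart20

/-! Relative pseudo-coherence: composition with a pseudo-coherent morphism. -/

set_option autoImplicit false
set_option linter.style.haveILetI false
set_option linter.unusedVariables false
set_option linter.unusedSectionVars false
universe u

namespace Groth.Agent.Helper9.Comp1

noncomputable section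

open CategoryTheory CategoryTheory.Limits AlgebraicGeometry HomologicalComplex Pretriangulated
open Groth.Agent.Lead.PcLib Groth.Agent.Lead.PerfLib Groth.Agent.Helper9.Chart1
  Groth.Agent.Helper9.Chart2 Groth.Agent.Helper9.Chart3 Groth.Agent.Helper9.Chart4
  Groth.Agent.Helper9.Chart5 Groth.Agent.Helper9.Chart6 Groth.Agent.Helper9.Chart7
  Groth.Agent.Helper9.Chart8 Groth.Agent.Helper9.Chart9 Groth.Agent.Helper9.Chart10
  Groth.Agent.Helper9.CI1 Groth.Agent.Helper9.CI2 Groth.Agent.Helper9.CI5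
  Groth.Agent.Helper9.ClImm1 Groth.Agent.Helper9.ClImmPF2 Scheme.Modules
open Groth.Agent.Helper3.PcHom MvPolynomial

attribute [local instance] HasDerivedCategory.standard

variable {X T S : Scheme.{u}}

/-- a presentation of `R[x]` over `A` for a pseudo-coherent `A`-algebra `R` -/
theorem exists_pi_pc (A R : Type u) [CommRing A] [CommRing R] (c : A →+* R) (hc : Q c) (n : ℕ) :
    ∃ (N : ℕ) (π : MvPolynomial (Fin N) A →+* MvPolynomial (Fin n) R), Function.Surjective π ∧
      Q π ∧ π.comp (C : A →+* MvPolynomial (Fin N) A) = (C : R →+* MvPolynomial (Fin n) R).comp c := by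
  letI := c.toAlgebra
  have hc' : MoreMor.IsPseudoCoherentHom A R := hc
  haveI : Algebra.FiniteType A R := finiteType_of_pcHom hc'
  haveI : Algebra.FiniteType A (MvPolynomial (Fin n) R) :=
    Algebra.FiniteType.trans (S := R) inferInstance inferInstance
  obtain ⟨N, π, hπ⟩ := Algebra.FiniteType.iff_quotient_mvPolynomial''.1
    (inferInstance : Algebra.FiniteType A (MvPolynomial (Fin n) R))
  have hC : π.toRingHom.comp (C : A →+* MvPolynomial (Fin N) A) =
      (C : R →+* MvPolynomial (Fin n) R).comp c := by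
    refine RingHom.ext fun x => ?_
    have := π.commutes x
    rw [IsScalarTower.algebraMap_apply A R (MvPolynomial (Fin n) R)] at this
    exact this
  refine ⟨N, π.toRingHom, hπ, ?_, hC⟩
  have h1 : Q (C : A →+* MvPolynomial (Fin N) A) :=
    (Q_algebraMap (A := A) (B := MvPolynomial (Fin N) A)).2 (pcHom_mvPolynomial A N)
  have h2 : Q (π.toRingHom.comp (C : A →+* MvPolynomial (Fin N) A)) := by
    rw [hC]
    refine Q_comp _ _ ?_ ((Q_algebraMap (A := R) (B := MvPolynomial (Fin n) R)).2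
      (pcHom_mvPolynomial R n))
    exact (Q_algebraMap (A := A) (B := R)).2 hc'
  exact Q_cancel _ _ h1 h2

variable (a : X ⟶ T) (b : T ⟶ S) [LocallyOfFiniteType a] [LocallyOfFiniteType b]

/-- a chart for `a` over `W` gives a chart for `a ≫ b` over `V ⊇ b(W)` when `Γ(W)` is a
pseudo-coherent `Γ(V)`-algebra -/
theorem hasChart_comp_of_pc (U : X.affineOpens) (W : T.affineOpens) (V : S.affineOpens)
    (hUW : (U : X.Opens) ≤ a ⁻¹ᵁ (W : T.Opens)) (hWV : (W : T.Opens) ≤ b ⁻¹ᵁ (V : S.Opens))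
    (hQ : Q (b.appLE (V : S.Opens) (W : T.Opens) hWV).hom)
    (m : ℤ) (E : DCoh.D X) (h : HasChart a m E (U : X.Opens) (W : T.Opens)) :
    HasChart (a ≫ b) m E (U : X.Opens) (V : S.Opens) := by
  have hft : (a.appLE (W : T.Opens) (U : X.Opens) hUW).hom.FiniteType :=
    HasRingHomProperty.appLE (P := @LocallyOfFiniteType) a inferInstance W U hUW
  obtain ⟨n, φ, hφ⟩ := exists_isChart a hUW hft
  obtain ⟨N, π, hπ, hQπ, hC⟩ := exists_pi_pc _ _ _ hQ n
  have hUV : (U : X.Opens) ≤ (a ≫ b) ⁻¹ᵁ (V : S.Opens) :=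
    hUW.trans (Scheme.Hom.preimage_mono a hWV)
  have hψ : DerSch.IsChart (a ≫ b) (U : X.Opens) (V : S.Opens) hUV (φ.comp π) := by
    refine ⟨hφ.1.comp hπ, ?_⟩
    rw [RingHom.comp_assoc, hC, ← RingHom.comp_assoc, hφ.2]
    have h1 := Scheme.Hom.appLE_comp_appLE a b (V : S.Opens) (W : T.Opens) (U : X.Opens) hWV hUW
    rw [← h1]
    rfl
  have key : DerSch.ChartPC m E (U : X.Opens) (W : T.Opens) φ ↔
      DerSch.ChartPC m E (U : X.Opens) (V : S.Opens) (φ.comp π) :=
    forall₂_congr (fun G _ => pcvia_comp_iff (U : X.Opens) φ π hπ hQπ m G)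
  obtain ⟨_, n', φ', hφ', hc'⟩ := h
  exact ⟨hUV, N, φ.comp π, hψ,
    key.1 (chartPC_of_chartPC a _ _ hUW m E φ' hφ' hc' φ hφ)⟩

/-- sections of a pseudo-coherent morphism over affine opens form a pseudo-coherent ring map -/
theorem Q_appLE_of_pcMor (hb : ∀ n : ℤ, DerSch.IsNPseudoCoherent b n) (W : T.affineOpens)
    (V : S.affineOpens) (hWV : (W : T.Opens) ≤ b ⁻¹ᵁ (V : S.Opens)) :
    Q (b.appLE (V : S.Opens) (W : T.Opens) hWV).hom := by
  letI := (b.appLE (V : S.Opens) (W : T.Opens) hWV).hom.toAlgebra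
  show MoreMor.IsPseudoCoherentHom Γ(S, (V : S.Opens)) Γ(T, (W : T.Opens))
  rw [pcHom_iff_relPCAll]
  intro m
  have h1 := (rel_iff b m _).1 (hb m) W V hWV
  exact (Groth.Agent.Helper9.Chart20.unit_chart_iff b W.2 V.2 hWV m).1 h1

/-- **composition with a pseudo-coherent morphism** -/
theorem rel_comp_of_pcMor (hb : ∀ n : ℤ, DerSch.IsNPseudoCoherent b n) (m : ℤ) (E : DCoh.D X)
    (H : DerSch.IsPseudoCoherentRel a m E) : DerSch.IsPseudoCoherentRel (a ≫ b) m E := by
  haveI : LocallyOfFiniteType (a ≫ b) := inferInstance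
  rw [rel_iff (a ≫ b)]
  rw [rel_iff a] at H
  intro U V hUV
  have hft : ((a ≫ b).appLE (V : S.Opens) (U : X.Opens) hUV).hom.FiniteType :=
    HasRingHomProperty.appLE (P := @LocallyOfFiniteType) (a ≫ b) inferInstance V U hUV
  have key := hasChart_of_cover (a ≫ b) U.2 hUV hft m E (fun x hx => ?_)
  · obtain ⟨_, n, φ, hφ, hc⟩ := key
    exact ⟨n, φ, hφ, hc⟩
  · have hax : a.base x ∈ b ⁻¹ᵁ (V : S.Opens) := hUV hx
    obtain ⟨_, ⟨W, hW, rfl⟩, hxW, hWV⟩ :=
      T.isBasis_affineOpens.exists_subset_of_mem_open hax (b ⁻¹ᵁ (V : S.Opens)).isOpen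
    obtain ⟨u, hule, hxu⟩ := U.2.exists_basicOpen_le
      (V := a ⁻¹ᵁ W) ⟨x, hxW⟩ hx
    refine ⟨u, hxu, ?_⟩
    let U₁ : X.affineOpens := ⟨X.basicOpen u, U.2.basicOpen u⟩
    let W₁ : T.affineOpens := ⟨W, hW⟩
    obtain ⟨n, φ, hφ, hc⟩ := H U₁ W₁ hule
    exact hasChart_comp_of_pc a b U₁ W₁ V hule hWV (Q_appLE_of_pcMor b hb W₁ V hWV) m E
      ⟨_, n, φ, hφ, hc⟩

end

end Groth.Agent.Helper9.Comp1
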