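import Mathlib
import Groth.Prelude.Def_DualSh
import Groth.Prelude.Def_DerSch2
import Groth.Prelude.Def_DerCA
import Groth.Agent.Helper9.Comp1

/-! Relative pseudo-coherence: cancellation of a pseudo-coherent morphism. -/

set_option autoImplicit false
set_option linter.style.haveILetI false
set_option linter.unusedVariables false
set_option linter.unusedSectionVars false
universe u

namespace Groth.Agent.Helper9.Comp2

noncomputable section

open CategoryTheory CategoryTheory.Limits AlgebraicGeometry HomologicalComplex Pretriangulated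
open Groth.Agent.Lead.PcLib Groth.Agent.Lead.PerfLib Groth.Agent.Helper9.Chart1
  Groth.Agent.Helper9.Chart2 Groth.Agent.Helper9.Chart3 Groth.Agent.Helper9.Chart4
  Groth.Agent.Helper9.Chart5 Groth.Agent.Helper9.Chart6 Groth.Agent.Helper9.Chart7
  Groth.Agent.Helper9.Chart8 Groth.Agent.Helper9.Chart9 Groth.Agent.Helper9.Chart10
  Groth.Agent.Helper9.CI1 Groth.Agent.Helper9.CI2 Groth.Agent.Helper9.CI5
  Groth.Agent.Helper9.ClImm1 Groth.Agent.Helper9.ClImmPF2 Scheme.Modules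
  Groth.Agent.Helper9.Comp1
open Groth.Agent.Helper3.PcHom MvPolynomial

attribute [local instance] HasDerivedCategory.standard

variable {X T S : Scheme.{u}}

variable (a : X ⟶ T) (b : T ⟶ S) [LocallyOfFiniteType a] [LocallyOfFiniteType b]

/-- a chart for `a ≫ b` over `V ⊇ b(W)` gives a chart for `a` over `W` when `Γ(W)` is a
pseudo-coherent `Γ(V)`-algebra -/
theorem hasChart_of_comp_of_pc (U : X.affineOpens) (W : T.affineOpens) (V : S.affineOpens)
    (hUW : (U : X.Opens) ≤ a ⁻¹ᵁ (W : T.Opens)) (hWV : (W : T.Opens) ≤ b ⁻¹ᵁ (V : S.Opens))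
    (hQ : Q (b.appLE (V : S.Opens) (W : T.Opens) hWV).hom)
    (m : ℤ) (E : DCoh.D X) (h : HasChart (a ≫ b) m E (U : X.Opens) (V : S.Opens)) :
    HasChart a m E (U : X.Opens) (W : T.Opens) := by
  have hft : (a.appLE (W : T.Opens) (U : X.Opens) hUW).hom.FiniteType :=
    HasRingHomProperty.appLE (P := @LocallyOfFiniteType) a inferInstance W U hUW
  obtain ⟨n, φ, hφ⟩ := exists_isChart a hUW hft
  obtain ⟨N, π, hπ, hQπ, hC⟩ := exists_pi_pc _ _ _ hQ n
  have hUV : (U : X.Opens) ≤ (a ≫ b) ⁻¹ᵁ (V : S.Opens) :=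
    hUW.trans (Scheme.Hom.preimage_mono a hWV)
  have hψ : DerSch.IsChart (a ≫ b) (U : X.Opens) (V : S.Opens) hUV (φ.comp π) := by
    refine ⟨hφ.1.comp hπ, ?_⟩
    rw [RingHom.comp_assoc, hC, ← RingHom.comp_assoc, hφ.2]
    have h1 := Scheme.Hom.appLE_comp_appLE a b (V : S.Opens) (W : T.Opens) (U : X.Opens) hWV hUW
    rw [← h1]
    rfl
  have key : DerSch.ChartPC m E (U : X.Opens) (W : T.Opens) φ ↔
      DerSch.ChartPC m E (U : X.Opens) (V : S.Opens) (φ.comp π) :=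
    forall₂_congr (fun G _ => pcvia_comp_iff (U : X.Opens) φ π hπ hQπ m G)
  obtain ⟨_, n', ψ', hψ', hc'⟩ := h
  exact ⟨hUW, n, φ, hφ,
    key.2 (chartPC_of_chartPC (a ≫ b) _ _ hUV m E ψ' hψ' hc' (φ.comp π) hψ)⟩

/-- **cancellation of a pseudo-coherent morphism** -/
theorem rel_of_comp_of_pcMor (hb : ∀ n : ℤ, DerSch.IsNPseudoCoherent b n) (m : ℤ) (E : DCoh.D X)
    (H : DerSch.IsPseudoCoherentRel (a ≫ b) m E) : DerSch.IsPseudoCoherentRel a m E := by
  haveI : LocallyOfFiniteType (a ≫ b) := inferInstance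
  rw [rel_iff a]
  rw [rel_iff (a ≫ b)] at H
  intro U W hUW
  have hft : (a.appLE (W : T.Opens) (U : X.Opens) hUW).hom.FiniteType :=
    HasRingHomProperty.appLE (P := @LocallyOfFiniteType) a inferInstance W U hUW
  have key := hasChart_of_cover a U.2 hUW hft m E (fun x hx => ?_)
  · obtain ⟨_, n, φ, hφ, hc⟩ := key
    exact ⟨n, φ, hφ, hc⟩
  · obtain ⟨_, ⟨V, hV, rfl⟩, hxV, -⟩ :=
      S.isBasis_affineOpens.exists_subset_of_mem_open
        (Set.mem_univ (b.base (a.base x))) isOpen_univ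
    obtain ⟨w, hwle, hxw⟩ := W.2.exists_basicOpen_le
      (V := b ⁻¹ᵁ V) ⟨a.base x, hxV⟩ (hUW hx)
    obtain ⟨u, hule, hxu⟩ := U.2.exists_basicOpen_le
      (V := a ⁻¹ᵁ (T.basicOpen w)) ⟨x, hxw⟩ hx
    refine ⟨u, hxu, ?_⟩
    let U₁ : X.affineOpens := ⟨X.basicOpen u, U.2.basicOpen u⟩
    let W₁ : T.affineOpens := ⟨T.basicOpen w, W.2.basicOpen w⟩
    let V₁ : S.affineOpens := ⟨V, hV⟩
    obtain ⟨n, ψ, hψ, hc⟩ := H U₁ V₁ (hule.trans (Scheme.Hom.preimage_mono a hwle))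
    have h1 : HasChart a m E (X.basicOpen u) (T.basicOpen w) :=
      hasChart_of_comp_of_pc a b U₁ W₁ V₁ hule hwle (Q_appLE_of_pcMor b hb W₁ V₁ hwle) m E
        ⟨_, n, ψ, hψ, hc⟩
    exact hasChart_enlarge a W.2 w m E h1

end

end Groth.Agent.Helper9.Comp2
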