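import Mathlib
import Groth.Prelude.Def_DualSh
import Groth.Prelude.Def_DerSch2
import Groth.Prelude.Def_DerCA
import Groth.Agent.Helper9.Comp2
import Groth.Agent.Helper9.CI7
import Groth.Agent.Helper9.FinTrans2
import Groth.Agent.Helper9.Chart20
import Groth.Agent.Helper9.ClImm3

/-! Relative pseudo-coherence: cancellation of an `(a + 1 - b)`-pseudo-coherent morphism, for
objects acyclic above `b`. -/

set_option autoImplicit false
set_option linter.style.haveILetI false
set_option linter.unusedVariables false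
set_option linter.unusedSectionVars false
universe u

namespace Groth.Agent.Helper9.Comp3

noncomputable section

open CategoryTheory CategoryTheory.Limits AlgebraicGeometry HomologicalComplex Pretriangulated
open Groth.Agent.Lead.PcLib Groth.Agent.Lead.PerfLib Groth.Agent.Helper9.Chart1
  Groth.Agent.Helper9.Chart2 Groth.Agent.Helper9.Chart3 Groth.Agent.Helper9.Chart4
  Groth.Agent.Helper9.Chart5 Groth.Agent.Helper9.Chart6 Groth.Agent.Helper9.Chart7
  Groth.Agent.Helper9.CI1 Groth.Agent.Helper9.CI2 Groth.Agent.Helper9.CI5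
  Groth.Agent.Helper9.ClImm1 Groth.Agent.Helper9.ClImmPF2 Scheme.Modules
open Groth.Agent.Helper3.DRingLib Groth.Agent.Helper9.FinTrans1 Groth.Agent.Helper9.FinTrans2
open MvPolynomial

attribute [local instance] HasDerivedCategory.standard

section Ring

/-- a presentation of `A[x]` over `R` for an `s`-pseudo-coherent `R`-algebra `A` -/
theorem exists_pi_pcK (R A : Type u) [CommRing R] [CommRing A] (c : R →+* A) (s : ℤ)
    (hc : letI := c.toAlgebra; DerCA.IsRelPseudoCoherent R A s (Dual.inD A A)) (k : ℕ) :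
    ∃ (N : ℕ) (π : MvPolynomial (Fin N) R →+* MvPolynomial (Fin k) A), Function.Surjective π ∧
      (letI := π.toAlgebra
       DRing.IsPseudoCoherent (MvPolynomial (Fin N) R) s
        (Dual.inD (MvPolynomial (Fin N) R) (MvPolynomial (Fin k) A))) ∧
      π.comp (C : R →+* MvPolynomial (Fin N) R) = (C : A →+* MvPolynomial (Fin k) A).comp c := by
  letI := c.toAlgebra
  obtain ⟨n, α, hα, hA1⟩ := hc
  letI algPA : Algebra (MvPolynomial (Fin n) R) A := α.toRingHom.toAlgebra
  have hA' : DRing.IsPseudoCoherent (MvPolynomial (Fin n) R) s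
      (Dual.inD (MvPolynomial (Fin n) R) A) := by
    unfold DerCA.IsRelPseudoCoherentVia at hA1
    have h2 := isPseudoCoherent_of_iso
      (rDSingle (α : MvPolynomial (Fin n) R →+* A) 0 (ModuleCat.of A A)) hA1
    exact isPseudoCoherent_of_iso
      ((DerivedCategory.singleFunctor (ModuleCat.{u} (MvPolynomial (Fin n) R)) 0).mapIso
        (restrictSelfEquiv (A := MvPolynomial (Fin n) R) (B := A)).toModuleIso) h2
  have hAy := isPseudoCoherent_mvPolynomial (Fin k) s hA'
  let eAlg : MvPolynomial (Fin (k + n)) R ≃ₐ[R] MvPolynomial (Fin k) (MvPolynomial (Fin n) R) :=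
    (MvPolynomial.renameEquiv R finSumFinEquiv.symm).trans
      (MvPolynomial.sumAlgEquiv R (Fin k) (Fin n))
  let π₀ : MvPolynomial (Fin k) (MvPolynomial (Fin n) R) →+* MvPolynomial (Fin k) A :=
    MvPolynomial.map (algebraMap (MvPolynomial (Fin n) R) A)
  let π : MvPolynomial (Fin (k + n)) R →+* MvPolynomial (Fin k) A :=
    π₀.comp eAlg.toRingEquiv.toRingHom
  have hπ₀ : Function.Surjective π₀ := MvPolynomial.map_surjective _ hα
  refine ⟨k + n, π, hπ₀.comp eAlg.surjective, ?_, ?_⟩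
  · -- pseudo-coherence
    have h1 : DRing.IsPseudoCoherent (MvPolynomial (Fin k) (MvPolynomial (Fin n) R)) s
        ((DRing.restrictD π₀).obj (Dual.inD (MvPolynomial (Fin k) A) (MvPolynomial (Fin k) A))) := by
      letI := π₀.toAlgebra
      have e1 := rDSingle π₀ 0 (ModuleCat.of (MvPolynomial (Fin k) A) (MvPolynomial (Fin k) A))
      have e2 := (DerivedCategory.singleFunctor
        (ModuleCat.{u} (MvPolynomial (Fin k) (MvPolynomial (Fin n) R))) 0).mapIso
        (restrictSelfEquiv (A := MvPolynomial (Fin k) (MvPolynomial (Fin n) R))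
          (B := MvPolynomial (Fin k) A)).toModuleIso
      exact isPseudoCoherent_of_iso (e1 ≪≫ e2).symm hAy
    have h2 : DRing.IsPseudoCoherent (MvPolynomial (Fin (k + n)) R) s
        ((DRing.restrictD π).obj (Dual.inD (MvPolynomial (Fin k) A) (MvPolynomial (Fin k) A))) :=
      (goodHom_ringEquiv eAlg.toRingEquiv (MvPolynomial (Fin k) A) π₀ _ s).2 h1
    letI := π.toAlgebra
    have e1 := rDSingle π 0 (ModuleCat.of (MvPolynomial (Fin k) A) (MvPolynomial (Fin k) A))
    have e2 := (DerivedCategory.singleFunctor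
      (ModuleCat.{u} (MvPolynomial (Fin (k + n)) R)) 0).mapIso
      (restrictSelfEquiv (A := MvPolynomial (Fin (k + n)) R)
        (B := MvPolynomial (Fin k) A)).toModuleIso
    exact isPseudoCoherent_of_iso (e1 ≪≫ e2) h2
  · -- compatibility with constants
    refine RingHom.ext fun r => ?_
    have h1 : eAlg (C r) = C (C r) := by
      have := eAlg.commutes r
      exact this
    show π₀ (eAlg (C r)) = C (c r)
    rw [h1]
    show MvPolynomial.map (algebraMap (MvPolynomial (Fin n) R) A) (C (C r)) = C (c r)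
    rw [MvPolynomial.map_C]
    congr 1
    exact α.commutes r

end Ring

section Scheme

variable {X T S : Scheme.{u}}

variable (a : X ⟶ T) (b : T ⟶ S) [LocallyOfFiniteType a] [LocallyOfFiniteType b]

/-- a chart for `a ≫ b` over `V ⊇ b(W)` gives a chart for `a` over `W` when `Γ(W)` is an
`(m + 1 - d)`-pseudo-coherent `Γ(V)`-algebra and the object is acyclic above `d` -/
theorem hasChart_of_comp_of_pcK (U : X.affineOpens) (W : T.affineOpens) (V : S.affineOpens)
    (hUW : (U : X.Opens) ≤ a ⁻¹ᵁ (W : T.Opens)) (hWV : (W : T.Opens) ≤ b ⁻¹ᵁ (V : S.Opens))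
    (m d : ℤ)
    (hQ : letI := (b.appLE (V : S.Opens) (W : T.Opens) hWV).hom.toAlgebra
      DerCA.IsRelPseudoCoherent Γ(S, (V : S.Opens)) Γ(T, (W : T.Opens)) (m + 1 - d)
        (Dual.inD Γ(T, (W : T.Opens)) Γ(T, (W : T.Opens))))
    (E : DCoh.D X) (hE : ∀ j : ℤ, d < j → IsZero (DCoh.HD E j))
    (h : HasChart (a ≫ b) m E (U : X.Opens) (V : S.Opens)) :
    HasChart a m E (U : X.Opens) (W : T.Opens) := by
  have hft : (a.appLE (W : T.Opens) (U : X.Opens) hUW).hom.FiniteType :=
    HasRingHomProperty.appLE (P := @LocallyOfFiniteType) a inferInstance W U hUW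
  obtain ⟨n, φ, hφ⟩ := exists_isChart a hUW hft
  obtain ⟨N, π, hπ, hQπ, hC⟩ := exists_pi_pcK _ _ _ _ hQ n
  have hUV : (U : X.Opens) ≤ (a ≫ b) ⁻¹ᵁ (V : S.Opens) :=
    hUW.trans (Scheme.Hom.preimage_mono a hWV)
  have hψ : DerSch.IsChart (a ≫ b) (U : X.Opens) (V : S.Opens) hUV (φ.comp π) := by
    refine ⟨hφ.1.comp hπ, ?_⟩
    rw [RingHom.comp_assoc, hC, ← RingHom.comp_assoc, hφ.2]
    have h1 := Scheme.Hom.appLE_comp_appLE a b (V : S.Opens) (W : T.Opens) (U : X.Opens) hWV hUW
    rw [← h1]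
    rfl
  haveI : IsClosedImmersion (cMap (U : X.Opens) φ) :=
    Groth.Agent.Helper9.ClImm3.isClosedImmersion_chartImm (U : X.Opens) U.2 φ hφ.1
  obtain ⟨_, n', ψ', hψ', hc'⟩ := h
  have hc := chartPC_of_chartPC (a ≫ b) _ _ hUV m E ψ' hψ' hc' (φ.comp π) hψ
  refine ⟨hUW, n, φ, hφ, fun G hG => ?_⟩
  obtain ⟨eG⟩ := hG
  refine Groth.Agent.Helper9.CI7.pcvia_of_comp (U : X.Opens) φ π hπ m d hQπ G (fun j hj => ?_)
    (hc G ⟨eG⟩)
  exact ((hE j hj).of_iso ((DerivedCategory.homologyFunctor X.Modules j).mapIso eG)).of_iso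
    ((DerivedCategory.homologyFunctorFactors X.Modules j).app G).symm

/-- **cancellation of an `(m + 1 - d)`-pseudo-coherent morphism** -/
theorem rel_of_comp_of_NpcMor (m d : ℤ) (hb : DerSch.IsNPseudoCoherent b (m + 1 - d))
    (E : DCoh.D X) (hE : ∀ j : ℤ, d < j → IsZero (DCoh.HD E j))
    (H : DerSch.IsPseudoCoherentRel (a ≫ b) m E) : DerSch.IsPseudoCoherentRel a m E := by
  haveI : LocallyOfFiniteType (a ≫ b) := inferInstance
  rw [rel_iff a]
  rw [rel_iff (a ≫ b)] at H
  have hb' := (rel_iff b (m + 1 - d) _).1 hb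
  intro U W hUW
  have hft : (a.appLE (W : T.Opens) (U : X.Opens) hUW).hom.FiniteType :=
    HasRingHomProperty.appLE (P := @LocallyOfFiniteType) a inferInstance W U hUW
  have key := hasChart_of_cover a U.2 hUW hft m E (fun x hx => ?_)
  · obtain ⟨_, n, φ, hφ, hc⟩ := key
    exact ⟨n, φ, hφ, hc⟩
  · obtain ⟨_, ⟨V, hV, rfl⟩, hxV, -⟩ :=
      S.isBasis_affineOpens.exists_subset_of_mem_open
        (Set.mem_univ (b.base (a.base x))) isOpen_univ
    obtain ⟨w, hwle, hxw⟩ := W.2.exists_basicOpen_le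
      (V := b ⁻¹ᵁ V) ⟨a.base x, hxV⟩ (hUW hx)
    obtain ⟨u, hule, hxu⟩ := U.2.exists_basicOpen_le
      (V := a ⁻¹ᵁ (T.basicOpen w)) ⟨x, hxw⟩ hx
    refine ⟨u, hxu, ?_⟩
    let U₁ : X.affineOpens := ⟨X.basicOpen u, U.2.basicOpen u⟩
    let W₁ : T.affineOpens := ⟨T.basicOpen w, W.2.basicOpen w⟩
    let V₁ : S.affineOpens := ⟨V, hV⟩
    obtain ⟨n, ψ, hψ, hc⟩ := H U₁ V₁ (hule.trans (Scheme.Hom.preimage_mono a hwle))
    have hQ := (Groth.Agent.Helper9.Chart20.unit_chart_iff b W₁.2 V₁.2 hwle (m + 1 - d)).1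
      (hb' W₁ V₁ hwle)
    have h1 : HasChart a m E (X.basicOpen u) (T.basicOpen w) :=
      hasChart_of_comp_of_pcK a b U₁ W₁ V₁ hule hwle m d hQ E hE ⟨_, n, ψ, hψ, hc⟩
    exact hasChart_enlarge a W.2 w m E h1

end Scheme

end

end Groth.Agent.Helper9.Comp3
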