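import Mathlib
import Groth.Prelude.Def_W4c3cyccovratcurvTree

set_option autoImplicit false
open W4c3cyccovratcurv

namespace Groth.Agent.Helper9.ConicTree

variable {k n : ℕ}

/-- marked tree on `Fin n` -/
def mt (G : SimpleGraph (Fin n)) (hG : G.IsTree) (m : Fin k → Fin n) : MarkedTree k :=
  ⟨n, G, hG, m⟩

lemma conicAdj_symm : ∀ T₁ T₂ : MarkedTree k, ConicAdj T₁ T₂ → ConicAdj T₂ T₁ := by
  rintro T₁ T₂ ⟨u₁, w₁, u₂, w₂, h₁, h₂, φ, hφ, hm⟩
  refine ⟨u₂, w₂, u₁, w₁, h₂, h₁, φ.symm, ?_, fun i => ?_⟩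
  · rw [← hφ]; exact φ.symm_apply_apply _
  · rw [← hm i]; exact φ.symm_apply_apply _

/-- the slid graph: replace the edge `w x` by `c x` -/
def slide (G : SimpleGraph (Fin n)) (c w x : Fin n) : SimpleGraph (Fin n) :=
  G.deleteEdges {s(w, x)} ⊔ SimpleGraph.edge c x

section Slide

variable (G : SimpleGraph (Fin n)) (hG : G.IsTree) {c w x : Fin n}
  (hcw : G.Adj c w) (hwx : G.Adj w x) (hcx : c ≠ x)

include hcw hcx in
lemma del_adj_cw : (G.deleteEdges {s(w, x)}).Adj c w := by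
  rw [SimpleGraph.deleteEdges_adj]
  refine ⟨hcw, ?_⟩
  simp only [Set.mem_singleton_iff, Sym2.eq_iff, not_or, not_and]
  exact ⟨fun h => absurd h hcw.ne, fun h => absurd h hcx⟩

include hG hcw hwx hcx in
lemma slide_isAcyclic : (slide G c w x).IsAcyclic := by
  have hbr : G.IsBridge s(w, x) := SimpleGraph.isAcyclic_iff_forall_adj_isBridge.1 hG.2 hwx
  rw [SimpleGraph.isBridge_iff] at hbr
  have hnr : ¬ (G.deleteEdges {s(w, x)}).Reachable c x := by
    intro h
    exact hbr ((del_adj_cw G hcw hcx).symm.reachable.trans h)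
  exact SimpleGraph.IsAcyclic.sup_edge_of_not_reachable hnr
    (hG.2.anti (SimpleGraph.deleteEdges_le _))

include hcw hwx hcx in
lemma slide_reachable_of_adj {a b : Fin n} (hab : G.Adj a b) : (slide G c w x).Reachable a b := by
  by_cases h : s(a, b) = s(w, x)
  · have h1 : (slide G c w x).Adj w c := Or.inl (del_adj_cw G hcw hcx).symm
    have h2 : (slide G c w x).Adj c x := Or.inr ((SimpleGraph.edge_adj _ _ _ _).2 ⟨Or.inl ⟨rfl, rfl⟩, hcx⟩)
    have hwx' : (slide G c w x).Reachable w x := h1.reachable.trans h2.reachable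
    rcases Sym2.eq_iff.1 h with ⟨rfl, rfl⟩ | ⟨rfl, rfl⟩
    · exact hwx'
    · exact hwx'.symm
  · exact SimpleGraph.Adj.reachable (Or.inl ((SimpleGraph.deleteEdges_adj).2 ⟨hab, h⟩))

include hG hcw hwx hcx in
lemma slide_isTree : (slide G c w x).IsTree := by
  refine ⟨?_, slide_isAcyclic G hG hcw hwx hcx⟩
  have : Nonempty (Fin n) := hG.1.nonempty
  refine ⟨fun a b => ?_⟩
  obtain ⟨p⟩ := hG.1.preconnected a b
  induction p with
  | nil => exact SimpleGraph.Reachable.refl _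
  | cons h _ ih => exact (slide_reachable_of_adj G hcw hwx hcx h).trans ih

lemma slide_adj (a b : Fin n) : (slide G c w x).Adj a b ↔
    (G.Adj a b ∧ s(a, b) ≠ s(w, x)) ∨ ((a = c ∧ b = x ∨ a = x ∧ b = c) ∧ a ≠ b) := by
  unfold slide
  rw [SimpleGraph.sup_adj, SimpleGraph.deleteEdges_adj, SimpleGraph.edge_adj]
  simp

include hcw hwx hcx in
lemma contract_slide_adj (a b : {v : Fin n // v ≠ w}) :
    (contract G c w).Adj a b ↔ (contract (slide G c w x) c w).Adj a b := by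
  obtain ⟨a, ha⟩ := a
  obtain ⟨b, hb⟩ := b
  have hcw' : c ≠ w := hcw.ne
  have hwx' : w ≠ x := hwx.ne
  simp only [contract, SimpleGraph.fromRel_adj, slide_adj, ne_eq, Subtype.mk.injEq, Sym2.eq_iff]
  constructor
  · rintro ⟨hab, h⟩
    refine ⟨hab, ?_⟩
    rcases h with (h | ⟨rfl, h⟩) | (h | ⟨rfl, h⟩)
    · exact Or.inl (Or.inl (Or.inl ⟨h, by tauto⟩))
    · by_cases hbx : b = x
      · subst hbx
        exact Or.inl (Or.inl (Or.inr ⟨Or.inl ⟨rfl, rfl⟩, hab⟩))
      · exact Or.inl (Or.inr ⟨rfl, Or.inl ⟨h, by tauto⟩⟩)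
    · exact Or.inr (Or.inl (Or.inl ⟨h, by tauto⟩))
    · by_cases hax : a = x
      · subst hax
        exact Or.inl (Or.inl (Or.inr ⟨Or.inr ⟨rfl, rfl⟩, hab⟩))
      · exact Or.inr (Or.inr ⟨rfl, Or.inl ⟨h, by tauto⟩⟩)
  · rintro ⟨hab, h⟩
    refine ⟨hab, ?_⟩
    rcases h with ((⟨h, -⟩ | ⟨⟨rfl, rfl⟩ | ⟨rfl, rfl⟩, -⟩) | ⟨rfl, ⟨h, -⟩ | ⟨h, -⟩⟩) |
      ((⟨h, -⟩ | ⟨⟨rfl, rfl⟩ | ⟨rfl, rfl⟩, -⟩) | ⟨rfl, ⟨h, -⟩ | ⟨h, -⟩⟩)
    · exact Or.inl (Or.inl h)
    · exact Or.inl (Or.inr ⟨rfl, hwx⟩)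
    · exact Or.inr (Or.inr ⟨rfl, hwx⟩)
    · exact Or.inl (Or.inr ⟨rfl, h⟩)
    · tauto
    · exact Or.inr (Or.inl h)
    · exact Or.inr (Or.inr ⟨rfl, hwx⟩)
    · exact Or.inl (Or.inr ⟨rfl, hwx⟩)
    · exact Or.inr (Or.inr ⟨rfl, h⟩)
    · tauto

include hcw hwx hcx in
lemma conicAdj_slide (m : Fin k → Fin n) :
    ConicAdj (mt G hG m) (mt (slide G c w x) (slide_isTree G hG hcw hwx hcx) m) := by
  have h₂ : (slide G c w x).Adj c w := Or.inl (del_adj_cw G hcw hcx)
  refine ⟨c, w, c, w, hcw, h₂,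
    { toEquiv := Equiv.refl _
      map_rel_iff' := fun {a b} => (contract_slide_adj G hcw hwx hcx a b).symm }, rfl, fun i => rfl⟩

end Slide

section Marks

variable (G : SimpleGraph (Fin n)) (hG : G.IsTree) {c w : Fin n} (hcw : G.Adj c w)

include hcw in
lemma conicAdj_mark (m : Fin k → Fin n) (i : Fin k) (hi : m i = w) :
    ConicAdj (mt G hG m) (mt G hG (Function.update m i c)) := by
  refine ⟨c, w, c, w, hcw, hcw, SimpleGraph.Iso.refl, rfl, fun j => ?_⟩
  show contractMark m c w hcw.ne j = contractMark (Function.update m i c) c w hcw.ne j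
  unfold contractMark
  by_cases hj : j = i
  · subst hj
    rw [dif_pos hi, dif_neg (by rw [Function.update_self]; exact hcw.ne)]
    apply Subtype.ext
    exact (Function.update_self j c m).symm
  · simp only [Function.update_of_ne hj]

end Marks



section Phase2

open Classical in
/-- vertices that are neither `c` nor adjacent to `c` -/
noncomputable def bad (G : SimpleGraph (Fin n)) (c : Fin n) : Finset (Fin n) :=
  Finset.univ.filter (fun v => v ≠ c ∧ ¬ G.Adj c v)

lemma mem_bad {G : SimpleGraph (Fin n)} {c v : Fin n} : v ∈ bad G c ↔ v ≠ c ∧ ¬ G.Adj c v := by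
  unfold bad
  simp

lemma walk_exit (G : SimpleGraph (Fin n)) (c : Fin n) {a b : Fin n} (p : G.Walk a b)
    (ha : a = c ∨ G.Adj c a) (hb : ¬ (b = c ∨ G.Adj c b)) :
    ∃ w x, (w = c ∨ G.Adj c w) ∧ ¬ (x = c ∨ G.Adj c x) ∧ G.Adj w x := by
  induction p with
  | nil => exact absurd ha hb
  | @cons a a' b h p ih =>
    by_cases ha' : a' = c ∨ G.Adj c a'
    · exact ih ha' hb
    · exact ⟨a, a', ha, ha', h⟩

lemma exists_dist_two (G : SimpleGraph (Fin n)) (hG : G.Connected) (c v : Fin n)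
    (hv : v ∈ bad G c) : ∃ w x, G.Adj c w ∧ G.Adj w x ∧ c ≠ x ∧ x ∈ bad G c := by
  rw [mem_bad] at hv
  obtain ⟨p⟩ := hG.preconnected c v
  obtain ⟨w, x, hw, hx, hwx⟩ := walk_exit G c p (Or.inl rfl) (by
    rintro (h | h)
    · exact hv.1 h
    · exact hv.2 h)
  have hxc : x ≠ c := fun h => hx (Or.inl h)
  have hxa : ¬ G.Adj c x := fun h => hx (Or.inr h)
  rcases hw with rfl | hw
  · exact absurd hwx hxa
  · exact ⟨w, x, hw, hwx, fun h => hxc h.symm, mem_bad.2 ⟨hxc, hxa⟩⟩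

lemma bad_slide_ssubset (G : SimpleGraph (Fin n)) {c w x : Fin n} (hcw : G.Adj c w)
    (hcx : c ≠ x) (hx : x ∈ bad G c) : bad (slide G c w x) c ⊂ bad G c := by
  rw [Finset.ssubset_iff_of_subset]
  · refine ⟨x, hx, ?_⟩
    rw [mem_bad]
    intro h
    exact h.2 (Or.inr ((SimpleGraph.edge_adj _ _ _ _).2 ⟨Or.inl ⟨rfl, rfl⟩, hcx⟩))
  · intro v hv
    rw [mem_bad] at hv ⊢
    refine ⟨hv.1, fun h => hv.2 ?_⟩
    refine Or.inl ((SimpleGraph.deleteEdges_adj).2 ⟨h, ?_⟩)
    simp only [Set.mem_singleton_iff, Sym2.eq_iff, not_or, not_and]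
    exact ⟨fun h' => absurd h' hcw.ne, fun h' => absurd h' hcx⟩

theorem phase2 (c : Fin n) : ∀ (d : ℕ) (G : SimpleGraph (Fin n)) (hG : G.IsTree) (m : Fin k → Fin n),
    (bad G c).card = d → ∃ (G' : SimpleGraph (Fin n)) (hG' : G'.IsTree),
      Relation.ReflTransGen ConicAdj (mt G hG m) (mt G' hG' m) ∧ ∀ v, v ≠ c → G'.Adj c v := by
  intro d
  induction d using Nat.strong_induction_on with
  | _ d ih =>
    intro G hG m hd
    by_cases hempty : bad G c = ∅
    · refine ⟨G, hG, Relation.ReflTransGen.refl, fun v hv => ?_⟩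
      by_contra h
      have : v ∈ bad G c := mem_bad.2 ⟨hv, h⟩
      rw [hempty] at this
      exact absurd this (Finset.notMem_empty v)
    · obtain ⟨v, hv⟩ := Finset.nonempty_iff_ne_empty.2 hempty
      obtain ⟨w, x, hcw, hwx, hcx, hx⟩ := exists_dist_two G hG.1 c v hv
      have hlt : (bad (slide G c w x) c).card < d := by
        rw [← hd]
        exact Finset.card_lt_card (bad_slide_ssubset G hcw hcx hx)
      obtain ⟨G', hG', hchain, hall⟩ := ih _ hlt (slide G c w x) (slide_isTree G hG hcw hwx hcx) m rfl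
      exact ⟨G', hG', Relation.ReflTransGen.head (conicAdj_slide G hG hcw hwx hcx m) hchain, hall⟩

end Phase2

section Phase3

open Classical in
theorem phase3 (G : SimpleGraph (Fin n)) (hG : G.IsTree) (c : Fin n) (hall : ∀ v, v ≠ c → G.Adj c v) :
    ∀ (d : ℕ) (m : Fin k → Fin n), (Finset.univ.filter (fun i => m i ≠ c)).card = d →
      Relation.ReflTransGen ConicAdj (mt G hG m) (mt G hG (fun _ => c)) := by
  intro d
  induction d using Nat.strong_induction_on with
  | _ d ih =>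
    intro m hd
    by_cases hempty : Finset.univ.filter (fun i => m i ≠ c) = ∅
    · have hm : m = fun _ => c := by
        funext i
        by_contra h
        have : i ∈ Finset.univ.filter (fun i => m i ≠ c) := by simp [h]
        rw [hempty] at this
        exact absurd this (Finset.notMem_empty i)
      rw [hm]
    · obtain ⟨i, hi⟩ := Finset.nonempty_iff_ne_empty.2 hempty
      have hi' : m i ≠ c := by simpa using hi
      have hlt : (Finset.univ.filter (fun j => Function.update m i c j ≠ c)).card < d := by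
        rw [← hd]
        apply Finset.card_lt_card
        rw [Finset.ssubset_iff_of_subset]
        · refine ⟨i, hi, ?_⟩
          simp
        · intro j hj
          simp only [Finset.mem_filter, Finset.mem_univ, true_and] at hj ⊢
          by_cases hji : j = i
          · subst hji
            exact absurd (Function.update_self j c m) hj
          · rwa [Function.update_of_ne hji] at hj
      exact Relation.ReflTransGen.head (conicAdj_mark G hG (hall _ hi') m i rfl) (ih _ hlt _ rfl)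

end Phase3

section Uniq

lemma star_adj (G : SimpleGraph (Fin n)) (hG : G.IsTree) (c : Fin n) (hall : ∀ v, v ≠ c → G.Adj c v)
    (a b : Fin n) : G.Adj a b ↔ (a = c ∧ b ≠ c) ∨ (b = c ∧ a ≠ c) := by
  constructor
  · intro hab
    by_cases ha : a = c
    · subst ha
      exact Or.inl ⟨rfl, hab.ne.symm⟩
    · by_cases hb : b = c
      · exact Or.inr ⟨hb, ha⟩
      · exfalso
        have h3 : G.IsNClique 3 {c, a, b} :=
          SimpleGraph.is3Clique_triple_iff.2 ⟨hall a ha, hall b hb, hab⟩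
        exact hG.2.cliqueFree (le_refl 3) _ h3
  · rintro (⟨rfl, hb⟩ | ⟨rfl, ha⟩)
    · exact hall b hb
    · exact (hall a ha).symm

lemma star_unique (G G' : SimpleGraph (Fin n)) (hG : G.IsTree) (hG' : G'.IsTree) (c : Fin n)
    (hall : ∀ v, v ≠ c → G.Adj c v) (hall' : ∀ v, v ≠ c → G'.Adj c v) : G = G' := by
  ext a b
  rw [star_adj G hG c hall, star_adj G' hG' c hall']

end Uniq

lemma rtg_symm {a b : MarkedTree k} (h : Relation.ReflTransGen ConicAdj a b) :
    Relation.ReflTransGen ConicAdj b a := by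
  induction h with
  | refl => exact Relation.ReflTransGen.refl
  | tail _ hbc ih => exact Relation.ReflTransGen.head (conicAdj_symm _ _ hbc) ih

theorem main_fixed (G₁ G₂ : SimpleGraph (Fin n)) (h₁ : G₁.IsTree) (h₂ : G₂.IsTree)
    (m₁ m₂ : Fin k → Fin n) : Relation.ReflTransGen ConicAdj (mt G₁ h₁ m₁) (mt G₂ h₂ m₂) := by
  have hne : Nonempty (Fin n) := h₁.1.nonempty
  obtain ⟨c⟩ := hne
  obtain ⟨G₁', h₁', c₁, a₁⟩ := phase2 c _ G₁ h₁ m₁ rfl
  obtain ⟨G₂', h₂', c₂, a₂⟩ := phase2 c _ G₂ h₂ m₂ rfl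
  have e₁ := phase3 (k := k) G₁' h₁' c a₁ _ m₁ rfl
  have e₂ := phase3 (k := k) G₂' h₂' c a₂ _ m₂ rfl
  have hGG : G₁' = G₂' := star_unique G₁' G₂' h₁' h₂' c a₁ a₂
  subst hGG
  have back : Relation.ReflTransGen ConicAdj (mt G₁' h₂' (fun _ => c)) (mt G₂ h₂ m₂) :=
    rtg_symm (c₂.trans e₂)
  exact (c₁.trans e₁).trans back

end Groth.Agent.Helper9.ConicTree
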