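import Mathlib
import Groth.Prelude.Def_ConstGrp

set_option autoImplicit false

namespace Groth.Agent.Helper9.ConstDual

open ConstGrp TensorProduct Coalgebra

universe u

variable (k : Type u) [Field k] (n : ℕ) [NeZero n]

/-- a group-like element of the function algebra is multiplicative -/
theorem groupLike_mul {G : Type*} [Group G] [Fintype G] [DecidableEq G] (χ : F k G)
    (hχ : IsGroupLikeElem k χ) (a b : G) : χ (a * b) = χ a * χ b := by
  have h := pair_comul k G χ a b
  rw [hχ.comul_eq_tmul_self, pair_tmul] at h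
  exact h.symm

theorem groupLike_one {G : Type*} [Group G] [Fintype G] [DecidableEq G] (χ : F k G)
    (hχ : IsGroupLikeElem k χ) : χ 1 = 1 := by
  have := hχ.counit_eq_one
  rwa [counit_apply] at this

theorem groupLike_pow {G : Type*} [Group G] [Fintype G] [DecidableEq G] (χ : F k G)
    (hχ : IsGroupLikeElem k χ) (a : G) (j : ℕ) : χ (a ^ j) = χ a ^ j := by
  induction j with
  | zero => rw [pow_zero, pow_zero, groupLike_one k χ hχ]
  | succ j ih => rw [pow_succ, pow_succ, groupLike_mul k χ hχ, ih]

theorem pow_apply' {G : Type*} (f : F k G) (l : ℕ) (x : G) : (f ^ l) x = f x ^ l := rfl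

theorem zmod_eq_pow (x : Multiplicative (ZMod n)) :
    x = (Multiplicative.ofAdd (1 : ZMod n)) ^ (Multiplicative.toAdd x).val := by
  rw [← ofAdd_nsmul, nsmul_eq_mul, mul_one, ZMod.natCast_zmod_val]
  rfl

theorem exists_primitiveRoot_of_equiv
    (φ : F k (Multiplicative (ZMod n)) ≃ₐc[k] MonoidAlgebra k (Multiplicative (ZMod n))) :
    ∃ ζ : k, IsPrimitiveRoot ζ n := by
  set g₀ : Multiplicative (ZMod n) := Multiplicative.ofAdd 1 with hg₀
  set χ : F k (Multiplicative (ZMod n)) := φ.symm (MonoidAlgebra.single g₀ 1) with hχdef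
  have hχ : IsGroupLikeElem k χ := (MonoidAlgebra.isGroupLikeElem_single_one g₀).map φ.symm
  have hg₀n : ∀ l : ℕ, g₀ ^ l = 1 ↔ n ∣ l := by
    intro l
    rw [hg₀, ← ofAdd_nsmul, nsmul_eq_mul, mul_one, ← ZMod.natCast_eq_zero_iff]
    exact Iff.rfl
  refine ⟨χ g₀, ?_⟩
  rw [IsPrimitiveRoot.iff_def]
  constructor
  · rw [← groupLike_pow k χ hχ, (hg₀n n).mpr dvd_rfl, groupLike_one k χ hχ]
  · intro l hl
    rw [← hg₀n l]
    have h1 : χ ^ l = 1 := by
      apply ConstGrp.ext
      intro x
      rw [pow_apply', one_apply, zmod_eq_pow n x, groupLike_pow k χ hχ, ← pow_mul, mul_comm, pow_mul,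
        hl, one_pow]
    have h2 : φ.symm ((MonoidAlgebra.single g₀ (1 : k)) ^ l) = φ.symm 1 := by
      rw [map_pow, map_one]
      exact h1
    have h3 := φ.symm.injective h2
    rw [MonoidAlgebra.single_pow, one_pow, MonoidAlgebra.one_def] at h3
    exact MonoidAlgebra.single_left_injective one_ne_zero h3


section Converse

variable {k n}
variable {ζ : k} (hζ : IsPrimitiveRoot ζ n)

/-- the exponential `ZMod n → k` -/
def E (ζ : k) (u : ZMod n) : k := ζ ^ u.val

include hζ in
theorem E_add (u v : ZMod n) : E ζ (u + v) = E ζ u * E ζ v := by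
  unfold E
  rw [ZMod.val_add, ← pow_add]
  exact (pow_eq_pow_mod _ hζ.pow_eq_one).symm

theorem E_zero : E ζ (0 : ZMod n) = 1 := by
  unfold E
  rw [ZMod.val_zero, pow_zero]

include hζ in
theorem E_eq_one_iff (u : ZMod n) : E ζ u = 1 ↔ u = 0 := by
  unfold E
  constructor
  · intro h
    have h1 := (hζ.pow_eq_one_iff_dvd _).mp h
    have h2 : u.val < n := ZMod.val_lt u
    have h3 : u.val = 0 := Nat.eq_zero_of_dvd_of_lt h1 h2
    exact (ZMod.val_eq_zero u).mp h3
  · rintro rfl
    rw [ZMod.val_zero, pow_zero]

/-- the character attached to `c` -/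
def chi (ζ : k) (c : Multiplicative (ZMod n)) : F k (Multiplicative (ZMod n)) :=
  fun x => E ζ (Multiplicative.toAdd c * Multiplicative.toAdd x)

theorem chi_apply (c x : Multiplicative (ZMod n)) :
    chi ζ c x = E ζ (Multiplicative.toAdd c * Multiplicative.toAdd x) := rfl

include hζ in
theorem chi_mul_apply (c x y : Multiplicative (ZMod n)) :
    chi ζ c (x * y) = chi ζ c x * chi ζ c y := by
  rw [chi_apply, chi_apply, chi_apply, toAdd_mul, mul_add, E_add hζ]

include hζ in
theorem chi_mul (c c' : Multiplicative (ZMod n)) : chi ζ (c * c') = chi ζ c * chi ζ c' := by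
  apply ConstGrp.ext
  intro x
  rw [mul_apply, chi_apply, chi_apply, chi_apply, toAdd_mul, add_mul, E_add hζ]

theorem chi_one : chi ζ (1 : Multiplicative (ZMod n)) = 1 := by
  apply ConstGrp.ext
  intro x
  rw [chi_apply, one_apply, toAdd_one, zero_mul, E_zero]

include hζ in
theorem chi_groupLike (c : Multiplicative (ZMod n)) : IsGroupLikeElem k (chi ζ c) where
  counit_eq_one := by
    rw [counit_apply, chi_apply, toAdd_one, mul_zero, E_zero]
  comul_eq_tmul_self := by
    rw [comul_eq_sum]
    conv_rhs => rw [eq_sum_smul_e (chi ζ c)]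
    rw [TensorProduct.sum_tmul]
    refine Finset.sum_congr rfl fun a _ => ?_
    rw [TensorProduct.tmul_sum]
    refine Finset.sum_congr rfl fun b _ => ?_
    rw [TensorProduct.smul_tmul_smul, chi_mul_apply hζ]

include hζ in
theorem chi_injective : Function.Injective (chi (n := n) ζ) := by
  intro c c' h
  have h1 := congrFun h (Multiplicative.ofAdd 1)
  rw [chi_apply, chi_apply, toAdd_ofAdd, mul_one, mul_one] at h1
  have h2 : E ζ (Multiplicative.toAdd c - Multiplicative.toAdd c') = 1 := by
    have h3 := E_add hζ (Multiplicative.toAdd c - Multiplicative.toAdd c') (Multiplicative.toAdd c')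
    rw [sub_add_cancel, h1] at h3
    have hne : E ζ (Multiplicative.toAdd c') ≠ 0 := by
      unfold E
      exact pow_ne_zero _ (hζ.ne_zero (NeZero.ne n))
    exact (mul_right_cancel₀ hne (by rw [one_mul]; exact h3)).symm
  have h4 := (E_eq_one_iff hζ _).mp h2
  exact Multiplicative.toAdd.injective (sub_eq_zero.mp h4)

/-- the monoid hom to group-like elements -/
noncomputable def theta : Multiplicative (ZMod n) →* GroupLike k (F k (Multiplicative (ZMod n))) where
  toFun c := ⟨chi ζ c, chi_groupLike hζ c⟩
  map_one' := by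
    apply GroupLike.val_injective
    exact chi_one
  map_mul' c c' := by
    apply GroupLike.val_injective
    exact chi_mul hζ c c'

/-- the Fourier transform as a bialgebra hom -/
noncomputable def Psi :
    MonoidAlgebra k (Multiplicative (ZMod n)) →ₐc[k] F k (Multiplicative (ZMod n)) :=
  (MonoidAlgebra.liftGroupLikeBialgHom (R := k) (A := F k (Multiplicative (ZMod n)))).comp
    (MonoidAlgebra.mapDomainBialgHom k (theta hζ))

theorem Psi_single (c : Multiplicative (ZMod n)) :
    Psi hζ (MonoidAlgebra.single c 1) = chi ζ c := by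
  unfold Psi
  rw [BialgHom.comp_apply, MonoidAlgebra.mapDomainBialgHom_single]
  simp [theta]

theorem Psi_bijective : Function.Bijective (Psi hζ) := by
  have hli : LinearIndependent k (fun c : Multiplicative (ZMod n) => chi ζ c) := by
    have h0 := linearIndepOn_isGroupLikeElem (R := k) (A := F k (Multiplicative (ZMod n)))
    have h1 : LinearIndependent k
        (fun x : {a : F k (Multiplicative (ZMod n)) | IsGroupLikeElem k a} =>
          (x : F k (Multiplicative (ZMod n)))) := h0
    exact h1.comp (fun c => ⟨chi ζ c, chi_groupLike hζ c⟩)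
      (fun c c' h => chi_injective hζ (congrArg Subtype.val h))
  let L : MonoidAlgebra k (Multiplicative (ZMod n)) →ₗ[k] F k (Multiplicative (ZMod n)) :=
    (Psi hζ).toCoalgHom.toLinearMap
  have hL : ∀ x, L x = Psi hζ x := fun x => rfl
  have hinj : Function.Injective L := by
    refine LinearMap.injective_of_linearIndependent (R := k)
      (v := MonoidAlgebra.basis (Multiplicative (ZMod n)) k)
      (MonoidAlgebra.basis (Multiplicative (ZMod n)) k).span_eq ?_
    have hcomp : (⇑L ∘ ⇑(MonoidAlgebra.basis (Multiplicative (ZMod n)) k)) =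
        fun c : Multiplicative (ZMod n) => chi ζ c := by
      funext c
      simp only [Function.comp_apply, MonoidAlgebra.basis_apply]
      rw [hL]
      exact Psi_single hζ c
    rw [hcomp]
    exact hli
  have hfr : Module.finrank k (MonoidAlgebra k (Multiplicative (ZMod n))) =
      Module.finrank k (F k (Multiplicative (ZMod n))) := by
    rw [Module.finrank_eq_card_basis (MonoidAlgebra.basis (Multiplicative (ZMod n)) k),
      Module.finrank_eq_card_basis (ConstGrp.basis k (Multiplicative (ZMod n)))]
  have hsurj : Function.Surjective L :=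
    (LinearMap.injective_iff_surjective_of_finrank_eq_finrank hfr).mp hinj
  exact ⟨hinj, hsurj⟩

end Converse

theorem nonempty_equiv_iff :
    Nonempty (F k (Multiplicative (ZMod n)) ≃ₐc[k] MonoidAlgebra k (Multiplicative (ZMod n))) ↔
      ∃ ζ : k, IsPrimitiveRoot ζ n := by
  constructor
  · rintro ⟨φ⟩
    exact exists_primitiveRoot_of_equiv k n φ
  · rintro ⟨ζ, hζ⟩
    exact ⟨(BialgEquiv.ofBijective (Psi hζ) (Psi_bijective hζ)).symm⟩

end Groth.Agent.Helper9.ConstDual
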