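import Mathlib
import Groth.Prelude.Def_CohTop

set_option autoImplicit false

namespace Groth.Agent.Helper9.Godement
open CategoryTheory TopologicalSpace Opposite Limits TopCat

universe u

/-- Two sections over an empty open agree. -/
lemma eq_of_isEmpty {Y : TopCat.{u}} (G : CohTop.Ab Y) (V : Opens Y) (hV : ∀ y, y ∉ V)
    (s t : ToType (G.obj.obj (op V))) : s = t := by
  refine TopCat.Sheaf.eq_of_locally_eq' G (fun x : PEmpty.{u + 1} => x.elim)
    V (fun x => x.elim) ?_ _ _ (fun x => x.elim)
  intro x hx
  exact (hV x hx).elim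

/-- Every abelian sheaf on a discrete space is flasque. -/
theorem isFlasque_of_discrete {Y : TopCat.{u}} [DiscreteTopology Y] (G : CohTop.Ab Y) :
    TopCat.Sheaf.IsFlasque G where
  epi {U V} i := by
    rw [AddCommGrpCat.epi_iff_surjective]
    intro t
    -- complement
    let W : Opens Y := ⟨(U.unop : Set Y) \ (V.unop : Set Y), isOpen_discrete _⟩
    let Uf : Bool → Opens Y := fun b => if b then V.unop else W
    have hle : ∀ b, Uf b ≤ U.unop := by
      intro b
      cases b
      · intro y hy
        exact hy.1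
      · exact i.unop.le
    let sf : ∀ b : Bool, ToType (G.obj.obj (op (Uf b))) := fun b =>
      match b with
      | true => t
      | false => 0
    have hcompat : TopCat.Presheaf.IsCompatible G.obj Uf sf := by
      intro b c
      cases b <;> cases c
      · rfl
      · apply eq_of_isEmpty
        intro y hy
        exact hy.1.2 hy.2
      · apply eq_of_isEmpty
        intro y hy
        exact hy.2.2 hy.1
      · rfl
    obtain ⟨s, hs, -⟩ := TopCat.Sheaf.existsUnique_gluing' G Uf U.unop (fun b => homOfLE (hle b))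
      (by
        intro y hy
        by_cases hyV : y ∈ V.unop
        · exact Opens.mem_iSup.mpr ⟨true, hyV⟩
        · exact Opens.mem_iSup.mpr ⟨false, ⟨hy, hyV⟩⟩) sf hcompat
    exact ⟨s, hs true⟩

variable {X : TopCat.{u}}

/-- the identity map from the discrete space. -/
noncomputable abbrev fd (X : TopCat.{u}) := TopCat.adj₁.counit.app X

open Classical in
/-- The pushforward of a skyscraper sheaf along `X_disc ⟶ X`. -/
noncomputable def sky (x : X) (A : AddCommGrpCat.{u}) : CohTop.Ab ((forget TopCat ⋙ discrete).obj X) :=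
  skyscraperSheaf (X := (forget TopCat ⋙ discrete).obj X) (show (forget TopCat ⋙ discrete).obj X from x) A

open Classical in
lemma push_sky_obj (x : X) (A : AddCommGrpCat.{u}) :
    ((CohTop.push (fd X)).obj (sky x A)).obj = skyscraperPresheaf x A := rfl

open Classical in
/-- The germ map `F ⟶ f_* (sky x F_x)`. -/
noncomputable def ψ (F : CohTop.Ab X) (x : X) :
    F ⟶ (CohTop.push (fd X)).obj (sky x (TopCat.Presheaf.stalk F.obj x)) :=
  ObjectProperty.homMk
    (StalkSkyscraperPresheafAdjunctionAuxs.toSkyscraperPresheaf x (𝟙 (TopCat.Presheaf.stalk F.obj x)))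

open Classical in
lemma ψ_app (F : CohTop.Ab X) (x : X) (U : Opens X) (hx : x ∈ U) :
    (ψ F x).hom.app (op U) ≫ (eqToHom (if_pos hx) :
      (skyscraperPresheaf x (TopCat.Presheaf.stalk F.obj x)).obj (op U) ⟶ _) =
      TopCat.Presheaf.germ F.obj U x hx := by
  have h1 := StalkSkyscraperPresheafAdjunctionAuxs.germ_fromStalk x
    (StalkSkyscraperPresheafAdjunctionAuxs.toSkyscraperPresheaf x
      (𝟙 (TopCat.Presheaf.stalk F.obj x))) U hx
  rw [StalkSkyscraperPresheafAdjunctionAuxs.fromStalk_to_skyscraper, Category.comp_id] at h1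
  exact h1.symm

open Classical in
lemma germ_eq_zero_of_ψ (F : CohTop.Ab X) (x : X) (U : Opens X) (hx : x ∈ U)
    (s : ToType (F.obj.obj (op U)))
    (h : (ψ F x).hom.app (op U) s = 0) : TopCat.Presheaf.germ F.obj U x hx s = 0 := by
  have h1 := ConcreteCategory.congr_hom (ψ_app F x U hx) s
  rw [← h1]
  show (eqToHom (if_pos hx) :
      (skyscraperPresheaf x (TopCat.Presheaf.stalk F.obj x)).obj (op U) ⟶ _)
        ((ψ F x).hom.app (op U) s) = 0
  rw [h]
  exact map_zero _

theorem mono_unit (F : CohTop.Ab X) :
    Mono ((TopCat.Sheaf.pullbackPushforwardAdjunction AddCommGrpCat.{u} (fd X)).unit.app F) := by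
  set adj := TopCat.Sheaf.pullbackPushforwardAdjunction AddCommGrpCat.{u} (fd X) with hadj
  set η := adj.unit.app F with hη
  have : Mono η.hom := by
    rw [NatTrans.mono_iff_mono_app]
    intro U
    rw [AddCommGrpCat.mono_iff_injective]
    rw [injective_iff_map_eq_zero]
    intro s hs
    apply TopCat.Presheaf.section_ext F U.unop
    intro x hx
    rw [map_zero]
    apply germ_eq_zero_of_ψ F x U.unop hx
    have hfac : ψ F x = η ≫ (CohTop.push (fd X)).map ((adj.homEquiv _ _).symm (ψ F x)) := by
      have h2 := adj.homEquiv_unit (X := F) (f := (adj.homEquiv _ _).symm (ψ F x))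
      exact ((adj.homEquiv _ _).apply_symm_apply (ψ F x)).symm.trans h2
    rw [hfac]
    show ((CohTop.push (fd X)).map ((adj.homEquiv _ _).symm (ψ F x))).hom.app U (η.hom.app U s) = 0
    rw [hs, map_zero]
  exact Sheaf.Hom.mono_of_presheaf_mono _ _ η

end Groth.Agent.Helper9.Godement
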