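import Mathlib
import Groth.Prelude.Def_CohTop
import Groth.Agent.Lead.CohTopE
import Groth.Agent.Helper9.Godement

set_option autoImplicit false

namespace Groth.Agent.Helper9.ConstSub
open CategoryTheory TopologicalSpace Opposite Limits TopCat
open Groth.Agent.Lead.CohTopB

universe u

/-- If sectionwise every value of `f` is a value of `g`, then `im f ≤ im g`. -/
lemma imageSubobject_le_of_forall {Y : TopCat.{u}} {A B C : CohTop.Ab Y} (f : A ⟶ C) (g : B ⟶ C)
    (h : ∀ (W : (Opens Y)ᵒᵖ) (s : ToType (A.obj.obj W)),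
      ∃ t : ToType (B.obj.obj W), g.hom.app W t = f.hom.app W s) :
    imageSubobject f ≤ imageSubobject g := by
  have hz : f ≫ cokernel.π g = 0 := by
    apply CategoryTheory.Sheaf.hom_ext
    apply NatTrans.ext
    funext W
    apply AddCommGrpCat.hom_ext
    apply AddMonoidHom.ext
    intro s
    obtain ⟨t, ht⟩ := h W s
    show (cokernel.π g).hom.app W (f.hom.app W s) = 0
    rw [← ht]
    have h0 : g ≫ cokernel.π g = 0 := cokernel.condition g
    have h1 : (g ≫ cokernel.π g).hom.app W t = 0 := by rw [h0]; rfl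
    exact h1
  have he : imageSubobject g = kernelSubobject (cokernel.π g) :=
    (ShortComplex.exact_iff_image_eq_kernel
      (ShortComplex.mk g (cokernel.π g) (cokernel.condition g))).1 (ShortComplex.exact_cokernel g)
  rw [he]
  apply le_kernelSubobject
  rw [← cancel_epi (factorThruImageSubobject f)]
  simp [hz]

end Groth.Agent.Helper9.ConstSub

namespace Groth.Agent.Helper9.ConstSub
open CategoryTheory TopologicalSpace Opposite Limits TopCat
open Groth.Agent.Lead.CohTopB

universe u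

variable {X : TopCat.{u}}

/-- image of an open of `U` in `X`. -/
noncomputable abbrev jj (U : Opens X) (W : Opens (TopCat.of U)) : Opens X :=
  U.isOpenEmbedding.isOpenMap.functor.obj W

lemma restr_obj (U : Opens X) (G : CohTop.Ab X) (W : Opens (TopCat.of U)) :
    ((CohTop.restrFunctor U).obj G).obj.obj (op W) = G.obj.obj (op (jj U W)) := rfl

lemma restr_map {U : Opens X} {G G' : CohTop.Ab X} (φ : G ⟶ G') (W : Opens (TopCat.of U)) :
    ((CohTop.restrFunctor U).map φ).hom.app (op W) = φ.hom.app (op (jj U W)) := rfl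

lemma jj_le (U : Opens X) (W : Opens (TopCat.of U)) : jj U W ≤ U := by
  rintro _ ⟨x, _, rfl⟩
  exact x.2

lemma jj_nonempty (U : Opens X) (W : Opens (TopCat.of U)) (h : (W : Set (TopCat.of U)).Nonempty) :
    (jj U W : Set X).Nonempty := by
  obtain ⟨x, hx⟩ := h
  exact ⟨x.1, ⟨x, hx, rfl⟩⟩

lemma jj_empty (U : Opens X) (W : Opens (TopCat.of U)) (h : ¬ (W : Set (TopCat.of U)).Nonempty) :
    ∀ y, y ∉ jj U W := by
  rintro _ ⟨x, hx, rfl⟩
  exact h ⟨x, hx⟩

end Groth.Agent.Helper9.ConstSub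

namespace Groth.Agent.Helper9.ConstSub
open CategoryTheory TopologicalSpace Opposite Limits TopCat
open Groth.Agent.Lead.CohTopB

universe u

variable {X : TopCat.{u}} (H : CohTop.Ab X) (ι : H ⟶ CohTop.const X (ULift.{u} ℤ))

/-- the constant section with integer value `n`. -/
noncomputable def cs (V : Opens X) (n : ℤ) : ToType ((CohTop.const X (ULift.{u} ℤ)).obj.obj (op V)) :=
  (constη X (ULift.{u} ℤ)).app (op V) (ULift.up n)

lemma cs_add (V : Opens X) (m n : ℤ) : cs V (m + n) = cs V m + cs V n := by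
  unfold cs
  rw [← map_add]
  rfl

lemma cs_zero (V : Opens X) : cs V 0 = 0 := by
  unfold cs
  exact map_zero ((constη X (ULift.{u} ℤ)).app (op V)).hom

lemma cs_neg (V : Opens X) (n : ℤ) : cs V (-n) = - cs V n := by
  unfold cs
  rw [← map_neg]
  rfl

lemma cs_zsmul (V : Opens X) (d n : ℤ) : cs V (d * n) = d • cs V n := by
  unfold cs
  rw [← map_zsmul]
  congr 1

lemma cs_res {V V' : Opens X} (i : V' ⟶ V) (n : ℤ) :
    (CohTop.const X (ULift.{u} ℤ)).obj.map i.op (cs V n) = cs V' n :=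
  constη_naturality i _

/-- integers appearing as values of `ι` over `V`. -/
noncomputable def S (V : Opens X) : AddSubgroup ℤ where
  carrier := {n | ∃ s : ToType (H.obj.obj (op V)), ι.hom.app (op V) s = cs V n}
  zero_mem' := ⟨0, by rw [map_zero, cs_zero]⟩
  add_mem' := by
    rintro a b ⟨s, hs⟩ ⟨t, ht⟩
    exact ⟨s + t, by rw [map_add, hs, ht, cs_add]⟩
  neg_mem' := by
    rintro a ⟨s, hs⟩
    exact ⟨-s, by rw [map_neg, hs, cs_neg]⟩

lemma S_mono {V V' : Opens X} (i : V' ⟶ V) : S H ι V ≤ S H ι V' := by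
  rintro n ⟨s, hs⟩
  refine ⟨H.obj.map i.op s, ?_⟩
  have h1 := ConcreteCategory.congr_hom (ι.hom.naturality i.op) s
  rw [ConcreteCategory.comp_apply, ConcreteCategory.comp_apply] at h1
  rw [h1, hs, cs_res]

theorem exists_open [IrreducibleSpace X] : ∃ (U : Opens X) (d : ℤ), (U : Set X).Nonempty ∧
    ∀ V : Opens X, V ≤ U → (V : Set X).Nonempty → S H ι V = AddSubgroup.closure {d} := by
  let I := {V : Opens X // (V : Set X).Nonempty}
  have : Nonempty I := ⟨⟨⊤, by
    obtain ⟨x⟩ := (inferInstance : Nonempty X)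
    exact ⟨x, trivial⟩⟩⟩
  let K : I → AddSubgroup ℤ := fun V => S H ι V.1
  have hK : Directed (· ≤ ·) K := by
    intro V V'
    refine ⟨⟨V.1 ⊓ V'.1, nonempty_preirreducible_inter V.1.2 V'.1.2 V.2 V'.2⟩, ?_, ?_⟩
    · exact S_mono H ι (homOfLE inf_le_left)
    · exact S_mono H ι (homOfLE inf_le_right)
  obtain ⟨d, hd⟩ := Int.subgroup_cyclic (⨆ i, K i)
  have hdmem : d ∈ ⨆ i, K i := by
    rw [hd]
    exact AddSubgroup.subset_closure (Set.mem_singleton d)
  obtain ⟨i, hi⟩ := (AddSubgroup.mem_iSup_of_directed hK).1 hdmem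
  refine ⟨i.1, d, i.2, ?_⟩
  intro V hV hVne
  apply le_antisymm
  · rw [← hd]
    exact le_iSup K ⟨V, hVne⟩
  · refine le_trans ?_ (S_mono H ι (homOfLE hV))
    rw [AddSubgroup.closure_le]
    intro x hx
    rw [Set.mem_singleton_iff] at hx
    rw [hx]
    exact hi

end Groth.Agent.Helper9.ConstSub

namespace Groth.Agent.Helper9.ConstSub
open CategoryTheory TopologicalSpace Opposite Limits TopCat
open Groth.Agent.Lead.CohTopB

universe u

variable {X : TopCat.{u}} (H : CohTop.Ab X) (ι : H ⟶ CohTop.const X (ULift.{u} ℤ))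

lemma zsmul_id_app (G : CohTop.Ab X) (d : ℤ) (V : (Opens X)ᵒᵖ) (t : ToType (G.obj.obj V)) :
    (d • 𝟙 G : G ⟶ G).hom.app V t = d • t := by
  have h1 : (d • 𝟙 G : G ⟶ G).hom = d • 𝟙 G.obj :=
    (sheafToPresheaf (Opens.grothendieckTopology X) AddCommGrpCat.{u}).map_zsmul
  rw [h1, NatTrans.app_zsmul]
  rfl

theorem main [IrreducibleSpace X] : ∃ (U : Opens X) (d : ℤ), U ≠ ⊥ ∧
      imageSubobject ((CohTop.restrFunctor U).map ι) =
        imageSubobject ((CohTop.restrFunctor U).map
          (d • 𝟙 (CohTop.const X (ULift.{u} ℤ)))) := by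
  obtain ⟨U, d, hU, hS⟩ := exists_open H ι
  refine ⟨U, d, ?_, le_antisymm ?_ ?_⟩
  · rintro rfl
    obtain ⟨x, hx⟩ := hU
    exact hx
  · apply imageSubobject_le_of_forall
    intro W s
    obtain ⟨W⟩ := W
    change ToType (H.obj.obj (op (jj U W))) at s
    show ∃ t : ToType ((CohTop.const X (ULift.{u} ℤ)).obj.obj (op (jj U W))),
      (d • 𝟙 (CohTop.const X (ULift.{u} ℤ)) : _ ⟶ _).hom.app (op (jj U W)) t =
        ι.hom.app (op (jj U W)) s
    by_cases hW : (W : Set (TopCat.of U)).Nonempty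
    · have hne := jj_nonempty U W hW
      obtain ⟨⟨n⟩, hn⟩ := constη_surjective_of_nonempty (A := ULift.{u} ℤ) hne
        (ι.hom.app (op (jj U W)) s)
      have hmem : n ∈ S H ι (jj U W) := ⟨s, hn.symm⟩
      rw [hS _ (jj_le U W) hne, AddSubgroup.mem_closure_singleton] at hmem
      obtain ⟨k, hk⟩ := hmem
      refine ⟨cs (jj U W) k, ?_⟩
      rw [zsmul_id_app, ← cs_zsmul, ← hn]
      show cs (jj U W) (d * k) = cs (jj U W) n
      rw [← hk, smul_eq_mul, mul_comm]
    · exact ⟨0, Godement.eq_of_isEmpty _ _ (jj_empty U W hW) _ _⟩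
  · apply imageSubobject_le_of_forall
    intro W t
    obtain ⟨W⟩ := W
    change ToType ((CohTop.const X (ULift.{u} ℤ)).obj.obj (op (jj U W))) at t
    show ∃ s : ToType (H.obj.obj (op (jj U W))), ι.hom.app (op (jj U W)) s =
      (d • 𝟙 (CohTop.const X (ULift.{u} ℤ)) : _ ⟶ _).hom.app (op (jj U W)) t
    by_cases hW : (W : Set (TopCat.of U)).Nonempty
    · have hne := jj_nonempty U W hW
      obtain ⟨⟨k⟩, hk⟩ := constη_surjective_of_nonempty (A := ULift.{u} ℤ) hne t
      have hmem : d * k ∈ S H ι (jj U W) := by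
        rw [hS _ (jj_le U W) hne, AddSubgroup.mem_closure_singleton]
        exact ⟨k, by rw [smul_eq_mul, mul_comm]⟩
      obtain ⟨s, hs⟩ := hmem
      refine ⟨s, ?_⟩
      rw [hs, zsmul_id_app, cs_zsmul, ← hk]
      rfl
    · exact ⟨0, Godement.eq_of_isEmpty _ _ (jj_empty U W hW) _ _⟩

end Groth.Agent.Helper9.ConstSub
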