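import Mathlib

/-! Restriction of abelian cosheaves to a full subcategory through which every object is covered
is fully faithful (S18884). -/

set_option autoImplicit false
universe w v u

open CategoryTheory CategoryTheory.Limits

namespace Groth.Agent.Helper9.Cosheaf

variable {C : Type u} [Category.{v} C] [HasPullbacks C] (W : MorphismProperty C)

/-- the cosheaf condition of S18884 -/
def IsCosheaf (F : C ⥤ AddCommGrpCat.{w}) : Prop :=
  ∀ ⦃Y X : C⦄ (π : Y ⟶ X), W π → Function.Surjective (F.map π).hom ∧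
    (F.map π).hom.ker = ((F.map (pullback.fst π π)).hom - (F.map (pullback.snd π π)).hom).range

variable {W} (D : ObjectProperty C)

theorem map_comp_apply (F : C ⥤ AddCommGrpCat.{w}) {X Y Z : C} (f : X ⟶ Y) (g : Y ⟶ Z)
    (x : F.obj X) : (F.map (f ≫ g)).hom x = (F.map g).hom ((F.map f).hom x) := by
  rw [F.map_comp]; rfl

/-- naturality of a transformation between restrictions, for a morphism between `D`-objects -/
theorem nat_apply {F G : C ⥤ AddCommGrpCat.{w}} (γ : D.ι ⋙ F ⟶ D.ι ⋙ G) {Y Y' : C} (hY : D Y)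
    (hY' : D Y') (g : Y ⟶ Y') (y : F.obj Y) :
    (γ.app ⟨Y', hY'⟩).hom ((F.map g).hom y) = (G.map g).hom ((γ.app ⟨Y, hY⟩).hom y) := by
  have h := γ.naturality (ObjectProperty.homMk g : (⟨Y, hY⟩ : D.FullSubcategory) ⟶ ⟨Y', hY'⟩)
  exact congrArg (fun t => t.hom y) h

variable [W.IsStableUnderBaseChange] [W.IsStableUnderComposition]

/-- the key compatibility -/
theorem key (hD : ∀ X : C, ∃ (Y : C) (π : Y ⟶ X), W π ∧ D Y) {F G : C ⥤ AddCommGrpCat.{w}}
    (hF : IsCosheaf W F) (γ : D.ι ⋙ F ⟶ D.ι ⋙ G)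
    {X X' Y Y' : C} (f : X ⟶ X') (π : Y ⟶ X) (π' : Y' ⟶ X') (hπ' : W π')
    (hY : D Y) (hY' : D Y') (y : F.obj Y) (y' : F.obj Y')
    (h : (F.map f).hom ((F.map π).hom y) = (F.map π').hom y') :
    (G.map f).hom ((G.map π).hom ((γ.app ⟨Y, hY⟩).hom y)) =
      (G.map π').hom ((γ.app ⟨Y', hY'⟩).hom y') := by
  -- the pullback of `π ≫ f` and `π'`
  have hq₁ : W (pullback.fst (π ≫ f) π') := W.pullback_fst _ _ hπ'
  obtain ⟨Z, ρ, hρ, hZ⟩ := hD (pullback (π ≫ f) π')
  have hρq : W (ρ ≫ pullback.fst (π ≫ f) π') := W.comp_mem _ _ hρ hq₁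
  obtain ⟨z, hz⟩ := (hF _ hρq).1 y
  have hcond : (ρ ≫ pullback.snd (π ≫ f) π') ≫ π' = (ρ ≫ pullback.fst (π ≫ f) π') ≫ π ≫ f := by
    rw [Category.assoc, Category.assoc, pullback.condition]
  -- y' - F(ρ ≫ q₂) z lies in the kernel of F(π')
  have hker : y' - (F.map (ρ ≫ pullback.snd (π ≫ f) π')).hom z ∈ (F.map π').hom.ker := by
    rw [AddMonoidHom.mem_ker, map_sub, ← map_comp_apply, hcond, map_comp_apply, map_comp_apply,
      hz, h, sub_self]
  rw [(hF _ hπ').2] at hker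
  obtain ⟨u, hu⟩ := hker
  obtain ⟨Z', σ, hσ, hZ'⟩ := hD (pullback π' π')
  obtain ⟨u', hu'⟩ := (hF _ hσ).1 u
  have hu2 : (F.map (σ ≫ pullback.fst π' π')).hom u' - (F.map (σ ≫ pullback.snd π' π')).hom u' =
      y' - (F.map (ρ ≫ pullback.snd (π ≫ f) π')).hom z := by
    rw [map_comp_apply F σ, map_comp_apply F σ, hu']
    exact hu
  have hy' : y' = (F.map (ρ ≫ pullback.snd (π ≫ f) π')).hom z +
      ((F.map (σ ≫ pullback.fst π' π')).hom u' - (F.map (σ ≫ pullback.snd π' π')).hom u') := by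
    rw [hu2]; abel
  have hcond' : (σ ≫ pullback.fst π' π') ≫ π' = (σ ≫ pullback.snd π' π') ≫ π' := by
    rw [Category.assoc, Category.assoc, pullback.condition]
  -- apply γ and G(π')
  have e1 : (G.map π').hom ((γ.app ⟨Y', hY'⟩).hom
      ((F.map (ρ ≫ pullback.snd (π ≫ f) π')).hom z)) =
      (G.map f).hom ((G.map π).hom ((γ.app ⟨Y, hY⟩).hom y)) := by
    rw [nat_apply D γ hZ hY', ← map_comp_apply, hcond, map_comp_apply G _ (π ≫ f),
      map_comp_apply G π f, ← nat_apply D γ hZ hY, hz]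
  have e2 : (G.map π').hom ((γ.app ⟨Y', hY'⟩).hom ((F.map (σ ≫ pullback.fst π' π')).hom u')) =
      (G.map π').hom ((γ.app ⟨Y', hY'⟩).hom ((F.map (σ ≫ pullback.snd π' π')).hom u')) := by
    rw [nat_apply D γ hZ' hY', nat_apply D γ hZ' hY', ← map_comp_apply, ← map_comp_apply, hcond']
  rw [hy', map_add, map_sub, map_add, map_sub, e1, e2, sub_self, add_zero]

section Construction

variable (hD : ∀ X : C, ∃ (Y : C) (π : Y ⟶ X), W π ∧ D Y) {F G : C ⥤ AddCommGrpCat.{w}}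
  (hF : IsCosheaf W F) (γ : D.ι ⋙ F ⟶ D.ι ⋙ G)

include hD hF in
/-- existence of the extension at each object -/
theorem exists_ext (X : C) : ∃ a : F.obj X →+ G.obj X, ∀ {Y : C} (π : Y ⟶ X) (_ : W π) (hY : D Y)
    (y : F.obj Y), a ((F.map π).hom y) = (G.map π).hom ((γ.app ⟨Y, hY⟩).hom y) := by
  obtain ⟨Y₀, π₀, hπ₀, hY₀⟩ := hD X
  have hsurj := (hF π₀ hπ₀).1
  have hk : (F.map π₀).hom.ker ≤ ((G.map π₀).hom.comp (γ.app ⟨Y₀, hY₀⟩).hom).ker := by
    intro y hy
    rw [AddMonoidHom.mem_ker] at hy ⊢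
    have := key D hD hF γ (𝟙 X) π₀ π₀ hπ₀ hY₀ hY₀ y 0 (by
      rw [F.map_id, map_zero]; exact hy)
    rw [G.map_id, map_zero, map_zero] at this
    exact this
  refine ⟨(F.map π₀).hom.liftOfSurjective hsurj ⟨_, hk⟩, ?_⟩
  intro Y π hπ hY y
  obtain ⟨y₀, hy₀⟩ := hsurj ((F.map π).hom y)
  rw [← hy₀, AddMonoidHom.liftOfRightInverse_comp_apply]
  have := key D hD hF γ (𝟙 X) π₀ π hπ hY₀ hY y₀ y (by rw [F.map_id]; exact hy₀)
  rw [G.map_id] at this
  exact this

/-- the extension at each object -/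
noncomputable def ext (X : C) : F.obj X →+ G.obj X := (exists_ext D hD hF γ X).choose

theorem ext_spec (X : C) {Y : C} (π : Y ⟶ X) (hπ : W π) (hY : D Y) (y : F.obj Y) :
    ext D hD hF γ X ((F.map π).hom y) = (G.map π).hom ((γ.app ⟨Y, hY⟩).hom y) :=
  (exists_ext D hD hF γ X).choose_spec π hπ hY y

/-- the extended natural transformation -/
noncomputable def extNat : F ⟶ G where
  app X := AddCommGrpCat.ofHom (ext D hD hF γ X)
  naturality X X' f := by
    ext x
    obtain ⟨Y, π, hπ, hY⟩ := hD X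
    obtain ⟨Y', π', hπ', hY'⟩ := hD X'
    obtain ⟨y, rfl⟩ := (hF π hπ).1 x
    obtain ⟨y', hy'⟩ := (hF π' hπ').1 ((F.map f).hom ((F.map π).hom y))
    change ext D hD hF γ X' ((F.map f).hom ((F.map π).hom y)) =
      (G.map f).hom (ext D hD hF γ X ((F.map π).hom y))
    rw [← hy', ext_spec D hD hF γ X' π' hπ' hY', ext_spec D hD hF γ X π hπ hY]
    exact (key D hD hF γ f π π' hπ' hY hY' y y' hy'.symm).symm

theorem extNat_restrict (X : D.FullSubcategory) :
    (extNat D hD hF γ).app X.obj = γ.app X := by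
  ext x
  obtain ⟨Y, π, hπ, hY⟩ := hD X.obj
  obtain ⟨y, rfl⟩ := (hF π hπ).1 x
  change ext D hD hF γ X.obj ((F.map π).hom y) = (γ.app X).hom ((F.map π).hom y)
  rw [ext_spec D hD hF γ X.obj π hπ hY]
  exact (nat_apply D γ hY X.property π y).symm

end Construction

include W in
theorem faithful_aux (hD : ∀ X : C, ∃ (Y : C) (π : Y ⟶ X), W π ∧ D Y) {F G : C ⥤ AddCommGrpCat.{w}}
    (hF : IsCosheaf W F) (α β : F ⟶ G) (h : ∀ X : D.FullSubcategory, α.app X.obj = β.app X.obj) :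
    α = β := by
  ext X x
  obtain ⟨Y, π, hπ, hY⟩ := hD X
  obtain ⟨y, rfl⟩ := (hF π hπ).1 x
  have h1 := congrArg (fun t => t.hom y) (α.naturality π)
  have h2 := congrArg (fun t => t.hom y) (β.naturality π)
  have h3 := h ⟨Y, hY⟩
  change (α.app X).hom ((F.map π).hom y) = (G.map π).hom ((α.app Y).hom y) at h1
  change (β.app X).hom ((F.map π).hom y) = (G.map π).hom ((β.app Y).hom y) at h2
  change (α.app X).hom ((F.map π).hom y) = (β.app X).hom ((F.map π).hom y)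
  rw [h1, h2, h3]


end Groth.Agent.Helper9.Cosheaf
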