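import Mathlib

namespace Groth.Agent.Helper9.CotangentLocal

open IsLocalRing

lemma linInd_of_local {R S : Type*} [CommRing R] [IsLocalRing R] [CommRing S] [IsLocalRing S]
    (ψ : R →+* S) (hloc : ∀ x, IsUnit (ψ x) → IsUnit x) {κ : Type*} [Fintype κ]
    (X : κ → maximalIdeal R) (Y : κ → maximalIdeal S) (hXY : ∀ k, ψ (X k) = Y k)
    (hY : LinearIndependent (ResidueField S) (⇑(maximalIdeal S).toCotangent ∘ Y)) :
    LinearIndependent (ResidueField R) (⇑(maximalIdeal R).toCotangent ∘ X) := by
  classical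
  rw [Fintype.linearIndependent_iff]
  intro cf hsum k
  choose a ha using fun k => Ideal.Quotient.mk_surjective (I := maximalIdeal R) (cf k)
  have hmap : (maximalIdeal R).map ψ ≤ maximalIdeal S := by
    rw [Ideal.map_le_iff_le_comap]
    intro x hx
    rw [Ideal.mem_comap, mem_maximalIdeal, mem_nonunits_iff]
    intro hu
    exact hx (hloc x hu)
  -- the sum in R
  have h1 : (maximalIdeal R).toCotangent (∑ k, a k • X k) = 0 := by
    rw [map_sum, ← hsum]
    refine Finset.sum_congr rfl fun k _ => ?_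
    rw [map_smul, Function.comp_apply, ← ha k]
    rfl
  rw [Ideal.toCotangent_eq_zero] at h1
  have h2 : ψ ((∑ k, a k • X k : maximalIdeal R) : R) ∈ maximalIdeal S ^ 2 := by
    have : ψ ((∑ k, a k • X k : maximalIdeal R) : R) ∈ (maximalIdeal R ^ 2).map ψ :=
      Ideal.mem_map_of_mem _ h1
    rw [Ideal.map_pow] at this
    exact Ideal.pow_right_mono hmap 2 this
  have h3 : (maximalIdeal S).toCotangent (∑ k, ψ (a k) • Y k) = 0 := by
    rw [Ideal.toCotangent_eq_zero]
    convert h2 using 1
    simp only [AddSubmonoidClass.coe_finsetSum, Submodule.coe_smul, smul_eq_mul, map_sum,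
      map_mul, hXY]
  have h4 : ∑ k, (residue S (ψ (a k))) • ((⇑(maximalIdeal S).toCotangent ∘ Y) k) = 0 := by
    rw [← h3, map_sum]
    refine Finset.sum_congr rfl fun k _ => ?_
    rw [map_smul, Function.comp_apply]
    rfl
  have h5 := (Fintype.linearIndependent_iff.1 hY) _ h4 k
  rw [residue_eq_zero_iff] at h5
  have h6 : a k ∈ maximalIdeal R := by
    rw [mem_maximalIdeal, mem_nonunits_iff]
    intro hu
    exact h5 (hu.map ψ)
  rw [← ha k]
  exact Ideal.Quotient.eq_zero_iff_mem.2 h6

end Groth.Agent.Helper9.CotangentLocal
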