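import Mathlib

/-!
# Kernel subcomplexes

For a morphism `π : L ⟶ M` of cochain complexes in an abelian category, the kernel complex:
its terms, the short exact sequence when `π` is termwise epi, and lifting of morphisms in the
derived category.
-/

set_option autoImplicit false
set_option linter.style.haveILetI false
set_option linter.unusedSectionVars false

namespace Groth.Agent.Helper9.CptR1

open CategoryTheory Limits HomologicalComplex Pretriangulated

universe w v u

variable {A : Type u} [Category.{v} A] [Abelian A]

section Ker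

variable {L M : CochainComplex A ℤ} (π : L ⟶ M)

/-- the kernel short complex -/
noncomputable def kerSC : ShortComplex (CochainComplex A ℤ) :=
  ShortComplex.mk (kernel.ι π) π (kernel.condition π)

lemma kerSC_exact : (kerSC π).Exact :=
  ShortComplex.exact_of_f_is_kernel _ (kernelIsKernel π)

instance : Mono (kerSC π).f := inferInstanceAs (Mono (kernel.ι π))

lemma kerSC_shortExact (h : ∀ i, Epi (π.f i)) : (kerSC π).ShortExact :=
  { exact := kerSC_exact π
    mono_f := inferInstance
    epi_g := epi_of_epi_f _ h }

lemma exact_eval (i : ℤ) : ((kerSC π).map (eval A (ComplexShape.up ℤ) i)).Exact :=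
  (exact_iff_degreewise_exact _).1 (kerSC_exact π) i

instance mono_ι_f (i : ℤ) : Mono ((kernel.ι π).f i) :=
  inferInstanceAs (Mono ((eval A (ComplexShape.up ℤ) i).map (kernel.ι π)))

/-- where `π` is a monomorphism, the kernel complex vanishes -/
lemma isZero_kernel_X (i : ℤ) (h : Mono (π.f i)) : IsZero ((kernel π).X i) := by
  have h1 := exact_eval π i
  haveI : Mono ((kerSC π).map (eval A (ComplexShape.up ℤ) i)).g := h
  have h2 : ((kerSC π).map (eval A (ComplexShape.up ℤ) i)).f = 0 := by
    rw [← cancel_mono ((kerSC π).map (eval A (ComplexShape.up ℤ) i)).g, zero_comp]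
    exact ((kerSC π).map (eval A (ComplexShape.up ℤ) i)).zero
  rw [IsZero.iff_id_eq_zero, ← cancel_mono ((kernel.ι π).f i)]
  rw [Category.id_comp, zero_comp]
  exact h2

/-- where the target of `π` vanishes, the kernel complex is the source -/
lemma isIso_ι_f (i : ℤ) (h : IsZero (M.X i)) : IsIso ((kernel.ι π).f i) := by
  have h1 := exact_eval π i
  have h2 : ((kerSC π).map (eval A (ComplexShape.up ℤ) i)).g = 0 := h.eq_of_tgt _ _
  haveI : Epi ((kernel.ι π).f i) := h1.epi_f h2
  exact isIso_of_mono_of_epi _

end Ker

section Lift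

variable [HasDerivedCategory.{w} A] {L M : CochainComplex A ℤ} (π : L ⟶ M)

/-- lifting to the kernel complex in the derived category -/
lemma exists_lift (h : ∀ i, Epi (π.f i)) {K : DerivedCategory A}
    (φ : K ⟶ DerivedCategory.Q.obj L) (hφ : φ ≫ DerivedCategory.Q.map π = 0) :
    ∃ φ' : K ⟶ DerivedCategory.Q.obj (kernel π), φ' ≫ DerivedCategory.Q.map (kernel.ι π) = φ := by
  have hT := DerivedCategory.triangleOfSES_distinguished (kerSC_shortExact π h)
  obtain ⟨φ', hφ'⟩ := Triangle.coyoneda_exact₂ _ hT φ hφ
  exact ⟨φ', hφ'.symm⟩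

end Lift

end Groth.Agent.Helper9.CptR1
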