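import Mathlib
import Groth.Agent.Helper9.CptR1
import Groth.Agent.Helper9.Peel1

/-!
# The stupid truncations `σ_{≥ m} P` as subcomplexes

`sg P m` is the kernel of the projection `P ⟶ σ_{≤ m-1} P`, with its inclusion `sgι P m` into `P`
and the transition maps `sgTr`.
-/

set_option autoImplicit false
set_option linter.style.haveILetI false
set_option linter.unusedSectionVars false

namespace Groth.Agent.Helper9.CptR2

open CategoryTheory Limits HomologicalComplex
open Groth.Agent.Helper9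

universe w v u

variable {A : Type u} [Category.{v} A] [Abelian A]

/-- a map of complexes which is an isomorphism in degrees `q-1, q, q+1` induces an isomorphism
on `H^q` -/
lemma isIso_homologyMap_of_isIso_f {K L : CochainComplex A ℤ} (φ : K ⟶ L) (q : ℤ)
    (h1 : IsIso (φ.f (q - 1))) (h2 : IsIso (φ.f q)) (h3 : IsIso (φ.f (q + 1))) :
    IsIso (homologyMap φ q) := by
  have e1 : (ComplexShape.up ℤ).prev q = q - 1 := by simp
  have e2 : (ComplexShape.up ℤ).next q = q + 1 := by simp
  apply ShortComplex.isIso_homologyMap_of_epi_of_isIso_of_mono'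
  · show Epi (φ.f ((ComplexShape.up ℤ).prev q))
    rw [e1]; infer_instance
  · show IsIso (φ.f q)
    exact h2
  · show Mono (φ.f ((ComplexShape.up ℤ).next q))
    rw [e2]; infer_instance

variable [HasDerivedCategory.{w} A] (P : CochainComplex A ℤ)

/-- the stupid truncation `σ_{≥ m} P` -/
noncomputable def sg (m : ℤ) : CochainComplex A ℤ := kernel (Peel1.piLE P (m - 1))

/-- the inclusion `σ_{≥ m} P ⟶ P` -/
noncomputable def sgι (m : ℤ) : sg P m ⟶ P := kernel.ι (Peel1.piLE P (m - 1))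

lemma isZero_sg_X (m i : ℤ) (hi : i < m) : IsZero ((sg P m).X i) := by
  haveI := Peel1.isIso_piLE_f P (m - 1) i (by lia)
  exact CptR1.isZero_kernel_X _ i inferInstance

lemma isIso_sgι_f (m i : ℤ) (hi : m ≤ i) : IsIso ((sgι P m).f i) :=
  CptR1.isIso_ι_f _ i (Peel1.isZero_sigmaLE_X P (m - 1) i (by lia))

instance mono_sgι_f (m i : ℤ) : Mono ((sgι P m).f i) := CptR1.mono_ι_f _ i

lemma sgι_piLE (m m' : ℤ) (h : m' ≤ m) : sgι P m ≫ Peel1.piLE P (m' - 1) = 0 := by
  ext i
  by_cases hi : i < m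
  · exact (isZero_sg_X P m i hi).eq_of_src _ _
  · exact (Peel1.isZero_sigmaLE_X P (m' - 1) i (by lia)).eq_of_tgt _ _

/-- the transition maps -/
noncomputable def sgTr (m m' : ℤ) (h : m' ≤ m) : sg P m ⟶ sg P m' :=
  kernel.lift _ (sgι P m) (sgι_piLE P m m' h)

@[reassoc (attr := simp)]
lemma sgTr_ι (m m' : ℤ) (h : m' ≤ m) : sgTr P m m' h ≫ sgι P m' = sgι P m :=
  kernel.lift_ι _ _ _

lemma isIso_homologyMap_sgι (m q : ℤ) (hq : m < q) : IsIso (homologyMap (sgι P m) q) :=
  isIso_homologyMap_of_isIso_f _ q (isIso_sgι_f P m _ (by lia)) (isIso_sgι_f P m _ (by lia))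
    (isIso_sgι_f P m _ (by lia))

lemma isStrictlyGE_sg (m : ℤ) : (sg P m).IsStrictlyGE m := by
  rw [CochainComplex.isStrictlyGE_iff]
  intro i hi
  exact isZero_sg_X P m i hi

lemma isStrictlyLE_sg (m b : ℤ) [P.IsStrictlyLE b] : (sg P m).IsStrictlyLE b := by
  rw [CochainComplex.isStrictlyLE_iff]
  intro i hi
  exact IsZero.of_mono ((sgι P m).f i) (P.isZero_of_isStrictlyLE b i hi)

/-- the terms of the truncation are zero or terms of `P` -/
lemma sg_X (m i : ℤ) : IsZero ((sg P m).X i) ∨ Nonempty ((sg P m).X i ≅ P.X i) := by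
  by_cases hi : i < m
  · exact Or.inl (isZero_sg_X P m i hi)
  · haveI := isIso_sgι_f P m i (by lia)
    exact Or.inr ⟨asIso ((sgι P m).f i)⟩

end Groth.Agent.Helper9.CptR2
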