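import Mathlib
import Groth.Prelude.Def_DerLim
import Groth.Agent.Helper1.HocolimH
import Groth.Agent.Helper9.CP3

/-! Recognition of homotopy colimits in the derived category of a Grothendieck abelian category:
a compatible system `i n : E n ⟶ K` such that each `H^q(i n)` is an isomorphism for `n ≫ 0`
exhibits `K` as the homotopy colimit. -/

set_option autoImplicit false
set_option linter.style.haveILetI false
set_option linter.unusedVariables false
set_option linter.unusedSectionVars false

namespace Groth.Agent.Helper9.HP2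

open CategoryTheory Limits Pretriangulated DerivedCategory

universe w v u

section Colim

variable {C : Type*} [Category C] (F : ℕ ⥤ C) [HasColimit F] {Z : C}

/-- a map out of a sequential colimit which is an isomorphism on all late terms is an
isomorphism -/
lemma isIso_of_eventually (t : colimit F ⟶ Z) (N : ℕ)
    (h : ∀ n, N ≤ n → IsIso (colimit.ι F n ≫ t)) : IsIso t := by
  haveI := h N le_rfl
  have key : ∀ m, N ≤ m → ∀ (hm : IsIso (colimit.ι F m ≫ t)),
      inv (colimit.ι F N ≫ t) ≫ colimit.ι F N = inv (colimit.ι F m ≫ t) ≫ colimit.ι F m := by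
    intro m hNm hm
    have h1 : colimit.ι F N = F.map (homOfLE hNm) ≫ colimit.ι F m := (colimit.w F _).symm
    rw [IsIso.inv_comp_eq]
    have h2 : (colimit.ι F N ≫ t) = F.map (homOfLE hNm) ≫ (colimit.ι F m ≫ t) := by
      rw [h1, Category.assoc]
    rw [h2, Category.assoc, IsIso.hom_inv_id_assoc, ← h1]
  refine ⟨⟨inv (colimit.ι F N ≫ t) ≫ colimit.ι F N, ?_, ?_⟩⟩
  · apply colimit.hom_ext
    intro n
    have hNm : N ≤ max n N := le_max_right _ _
    have hnm : n ≤ max n N := le_max_left _ _
    haveI hm := h (max n N) hNm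
    rw [key _ hNm hm, Category.comp_id]
    have h1 : colimit.ι F n = F.map (homOfLE hnm) ≫ colimit.ι F (max n N) :=
      (colimit.w F _).symm
    have h2 : colimit.ι F n ≫ t = F.map (homOfLE hnm) ≫ (colimit.ι F (max n N) ≫ t) := by
      rw [h1, Category.assoc]
    rw [← Category.assoc (colimit.ι F n), h2, Category.assoc, IsIso.hom_inv_id_assoc, ← h1]
  · rw [Category.assoc, IsIso.inv_hom_id]

end Colim

lemma isIso_of_eq' {C : Type*} [Category C] {X Y : C} {f g : X ⟶ Y} (h : f = g) (hg : IsIso g) :
    IsIso f := h ▸ hg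

variable {A : Type u} [Category.{v} A] [Abelian A] [IsGrothendieckAbelian.{v} A]
  [HasDerivedCategory.{w} A]

lemma hasColimitsOfShape_nat : HasColimitsOfShape ℕ A := by
  haveI : HasColimitsOfSize.{0, 0} A := hasColimitsOfSizeShrink.{0, 0, v, v} A
  infer_instance

lemma hasExactColimitsOfShape_nat :
    haveI : HasColimitsOfShape ℕ A := hasColimitsOfShape_nat
    HasExactColimitsOfShape ℕ A := by
  haveI : HasFilteredColimitsOfSize.{0, 0} A := hasFilteredColimitsOfSize_of_univLE.{0, 0, v, v}
  haveI : AB5OfSize.{0, 0} A := AB5OfSize_of_univLE.{0, 0, v, v} A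
  infer_instance

lemma hasColimitsOfShape_discrete_nat : HasColimitsOfShape (Discrete ℕ) A := by
  haveI : HasColimitsOfSize.{0, 0} A := hasColimitsOfSizeShrink.{0, 0, v, v} A
  infer_instance

lemma hasExactColimitsOfShape_discrete_nat :
    haveI : HasColimitsOfShape (Discrete ℕ) A := hasColimitsOfShape_discrete_nat
    HasExactColimitsOfShape (Discrete ℕ) A := by
  haveI : HasColimitsOfSize.{0, 0} A := hasColimitsOfSizeShrink.{0, 0, v, v} A
  haveI : HasFilteredColimitsOfSize.{0, 0} A := hasFilteredColimitsOfSize_of_univLE.{0, 0, v, v}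
  haveI : AB5OfSize.{0, 0} A := AB5OfSize_of_univLE.{0, 0, v, v} A
  haveI : HasFiniteBiproducts A := Abelian.hasFiniteBiproducts
  haveI : AB4OfSize.{0} A := AB4.of_AB5 A
  infer_instance

/-- the cohomology functors preserve countable coproducts -/
lemma preservesCoproduct_homology (E : ℕ → DerivedCategory A) [HasCoproduct E] (q : ℤ) :
    PreservesColimit (Discrete.functor E) (homologyFunctor A q) := by
  haveI : HasColimitsOfShape (Discrete ℕ) A := hasColimitsOfShape_discrete_nat
  haveI : HasExactColimitsOfShape (Discrete ℕ) A := hasExactColimitsOfShape_discrete_nat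
  obtain ⟨hc⟩ := Groth.Agent.Helper9.CP3.nonempty_isColimit_homology_sigma E q
  apply preservesColimit_of_preserves_colimit_cocone (coproductIsCoproduct E)
  exact (isColimitMapCoconeCofanMkEquiv _ _ _).symm hc

/-- recognition of homotopy colimits -/
theorem isHocolim_of_eventually_iso (E : ℕ → DerivedCategory A) (f : ∀ n, E n ⟶ E (n + 1))
    [HasCoproduct E] (K : DerivedCategory A) (i : ∀ n, E n ⟶ K)
    (hfi : ∀ n, f n ≫ i (n + 1) = i n)
    (hiso : ∀ q : ℤ, ∃ N : ℕ, ∀ n, N ≤ n → IsIso ((homologyFunctor A q).map (i n))) :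
    DerLim.IsHocolim E f K i := by
  haveI : HasColimitsOfShape ℕ A := hasColimitsOfShape_nat
  haveI : HasExactColimitsOfShape ℕ A := hasExactColimitsOfShape_nat
  obtain ⟨L, ρ, c, hT⟩ := distinguished_cocone_triangle (𝟙 (∐ E) - DerLim.shiftMap E f)
  have h0 : (𝟙 (∐ E) - DerLim.shiftMap E f) ≫ Sigma.desc i = 0 := by
    apply Sigma.hom_ext
    intro n
    rw [Preadditive.sub_comp, Preadditive.comp_sub, Category.id_comp, comp_zero]
    unfold DerLim.shiftMap
    rw [Sigma.ι_desc_assoc, Category.assoc, Sigma.ι_desc, Sigma.ι_desc, hfi n, sub_self]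
  obtain ⟨(φ : L ⟶ K), (hφ : Sigma.desc i = ρ ≫ φ)⟩ :=
    Triangle.yoneda_exact₂ _ hT (Sigma.desc i) h0
  have hφ' : ∀ n, Sigma.ι E n ≫ ρ ≫ φ = i n := by
    intro n
    have := congrArg (fun t => Sigma.ι E n ≫ t) hφ
    simp only [Sigma.ι_desc] at this
    exact this.symm
  have hL : DerLim.IsHocolim E f L (fun n => Sigma.ι E n ≫ ρ) := by
    refine ⟨c, ?_⟩
    have : Sigma.desc (fun n => Sigma.ι E n ≫ ρ) = ρ := by
      apply Sigma.hom_ext
      intro n
      rw [Sigma.ι_desc]
    rw [this]
    exact hT
  haveI : IsIso φ := by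
    rw [DerivedCategory.isIso_iff]
    intro q
    haveI := preservesCoproduct_homology E q
    haveI : PreservesColimit (Discrete.functor E)
        (shiftFunctor (DerivedCategory A) (1 : ℤ) ⋙ homologyFunctor A q) := by
      haveI : PreservesColimit (Discrete.functor E) ((homologyFunctor A 0).shift (q + 1)) :=
        preservesCoproduct_homology E (q + 1)
      exact preservesColimit_of_natIso _
        ((homologyFunctor A 0).shiftIso 1 q (q + 1) (by omega)).symm
    obtain ⟨e, he⟩ := Groth.Agent.Helper1.HocolimH.main (homologyFunctor A q) E f L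
      (fun n => Sigma.ι E n ≫ ρ) hL
    obtain ⟨N, hN⟩ := hiso q
    haveI : IsIso (e.hom ≫ (homologyFunctor A q).map φ) := by
      refine isIso_of_eventually _ _ N (fun n hn => ?_)
      have h2 : (homologyFunctor A q).map (Sigma.ι E n ≫ ρ) ≫ (homologyFunctor A q).map φ =
          (homologyFunctor A q).map (i n) := by
        rw [← Functor.map_comp, Category.assoc, hφ' n]
      have h3 : colimit.ι (Functor.ofSequence fun n => (homologyFunctor A q).map (f n)) n ≫
          e.hom ≫ (homologyFunctor A q).map φ = (homologyFunctor A q).map (i n) :=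
        ((Category.assoc _ _ _).symm.trans
          (congrArg (fun t => t ≫ (homologyFunctor A q).map φ) (he n))).trans h2
      exact isIso_of_eq' h3 (hN n hn)
    have : (homologyFunctor A q).map φ = e.inv ≫ (e.hom ≫ (homologyFunctor A q).map φ) := by
      rw [Iso.inv_hom_id_assoc]
    rw [this]
    infer_instance
  refine ⟨inv φ ≫ c, ?_⟩
  refine isomorphic_distinguished _ hT _ ?_
  refine Triangle.isoMk _ _ (Iso.refl _) (Iso.refl _) (asIso φ).symm ?_ ?_ ?_
  · show (𝟙 (∐ E) - DerLim.shiftMap E f) ≫ 𝟙 _ = 𝟙 _ ≫ (𝟙 (∐ E) - DerLim.shiftMap E f)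
    exact (Category.comp_id _).trans (Category.id_comp _).symm
  · show Sigma.desc i ≫ inv φ = 𝟙 _ ≫ ρ
    rw [Category.id_comp, hφ, Category.assoc, IsIso.hom_inv_id, Category.comp_id]
  · show (inv φ ≫ c) ≫ (shiftFunctor (DerivedCategory A) (1 : ℤ)).map (𝟙 _) = inv φ ≫ c
    rw [CategoryTheory.Functor.map_id, Category.comp_id]

end Groth.Agent.Helper9.HP2
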