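import Mathlib

/-!
# Split monomorphisms with a chosen complement, and sequential colimits of such
-/

set_option autoImplicit false
set_option linter.style.haveILetI false
set_option linter.unusedSectionVars false

namespace Groth.Agent.Helper9.RS1

open CategoryTheory Limits

universe v u

variable {A : Type u} [Category.{v} A] [Abelian A]

/-- splitting data for `ι : X ⟶ Y` with complement `Z` -/
structure Spl {X Y : A} (ι : X ⟶ Y) (Z : A) where
  /-- retraction -/
  r : Y ⟶ X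
  /-- projection to the complement -/
  s : Y ⟶ Z
  /-- inclusion of the complement -/
  j : Z ⟶ Y
  ι_r : ι ≫ r = 𝟙 X
  j_s : j ≫ s = 𝟙 Z
  ι_s : ι ≫ s = 0
  total : r ≫ ι + s ≫ j = 𝟙 Y

attribute [reassoc (attr := simp)] Spl.ι_r Spl.j_s Spl.ι_s

namespace Spl

variable {X Y : A} {ι : X ⟶ Y} {Z : A} (h : Spl ι Z)

include h in
@[reassoc (attr := simp)]
lemma j_r : h.j ≫ h.r = 0 := by
  haveI : Epi h.s := epi_of_epi_fac h.j_s
  have h1 : h.s ≫ h.j = 𝟙 Y - h.r ≫ ι := by
    rw [← h.total]; abel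
  rw [← cancel_epi h.s, comp_zero, ← Category.assoc, h1, Preadditive.sub_comp, Category.id_comp,
    Category.assoc, h.ι_r, Category.comp_id, sub_self]

/-- the complement is the cokernel -/
noncomputable def cokernelIso : cokernel ι ≅ Z where
  hom := cokernel.desc ι h.s h.ι_s
  inv := h.j ≫ cokernel.π ι
  hom_inv_id := by
    rw [← cancel_epi (cokernel.π ι), ← Category.assoc, cokernel.π_desc, Category.comp_id,
      ← Category.assoc]
    have h1 : h.s ≫ h.j = 𝟙 Y - h.r ≫ ι := by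
      rw [← h.total]; abel
    rw [h1, Preadditive.sub_comp, Category.id_comp, Category.assoc, cokernel.condition,
      comp_zero, sub_zero]
  inv_hom_id := by
    rw [Category.assoc, cokernel.π_desc, h.j_s]

/-- the target is the biproduct -/
noncomputable def iso : Y ≅ X ⊞ Z where
  hom := biprod.lift h.r h.s
  inv := biprod.desc ι h.j
  hom_inv_id := by
    rw [biprod.lift_desc, h.total]
  inv_hom_id := by
    apply biprod.hom_ext' <;> apply biprod.hom_ext <;>
      simp [h.ι_r, h.ι_s, h.j_s, h.j_r]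

end Spl

/-- splitting data from a retraction -/
noncomputable def Spl.ofRetraction {X Y : A} (ι : X ⟶ Y) (r : Y ⟶ X) (hr : ι ≫ r = 𝟙 X) :
    Spl ι (cokernel ι) where
  r := r
  s := cokernel.π ι
  j := cokernel.desc ι (𝟙 Y - r ≫ ι) (by
    rw [Preadditive.comp_sub, Category.comp_id, ← Category.assoc, hr, Category.id_comp, sub_self])
  ι_r := hr
  j_s := by
    rw [← cancel_epi (cokernel.π ι), ← Category.assoc, cokernel.π_desc, Preadditive.sub_comp,
      Category.id_comp, Category.assoc, cokernel.condition, comp_zero, sub_zero, Category.comp_id]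
  ι_s := cokernel.condition ι
  total := by
    rw [cokernel.π_desc]; abel

/-- the first inclusion of a biproduct -/
noncomputable def Spl.inl (X Z : A) : Spl (biprod.inl : X ⟶ X ⊞ Z) Z where
  r := biprod.fst
  s := biprod.snd
  j := biprod.inr
  ι_r := biprod.inl_fst
  j_s := biprod.inr_snd
  ι_s := biprod.inl_snd
  total := biprod.total

/-- composition -/
noncomputable def Spl.comp {X Y W : A} {ι₁ : X ⟶ Y} {ι₂ : Y ⟶ W} {Z₁ Z₂ : A}
    (h₁ : Spl ι₁ Z₁) (h₂ : Spl ι₂ Z₂) : Spl (ι₁ ≫ ι₂) (Z₁ ⊞ Z₂) where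
  r := h₂.r ≫ h₁.r
  s := biprod.lift (h₂.r ≫ h₁.s) h₂.s
  j := biprod.desc (h₁.j ≫ ι₂) h₂.j
  ι_r := by
    rw [Category.assoc, ← Category.assoc ι₂, h₂.ι_r, Category.id_comp, h₁.ι_r]
  j_s := by
    apply biprod.hom_ext' <;> apply biprod.hom_ext <;> simp
  ι_s := by
    apply biprod.hom_ext <;> simp
  total := by
    rw [biprod.lift_desc]
    have e1 : (h₂.r ≫ h₁.r) ≫ ι₁ ≫ ι₂ + ((h₂.r ≫ h₁.s) ≫ h₁.j ≫ ι₂ + h₂.s ≫ h₂.j) =
        h₂.r ≫ (h₁.r ≫ ι₁ + h₁.s ≫ h₁.j) ≫ ι₂ + h₂.s ≫ h₂.j := by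
      simp only [Preadditive.add_comp, Preadditive.comp_add, Category.assoc]
      abel
    rw [e1, h₁.total, Category.id_comp, h₂.total]

/-- postcomposition with an isomorphism -/
noncomputable def Spl.compIso {X Y Y' : A} {ι : X ⟶ Y} {Z : A} (h : Spl ι Z) (e : Y ≅ Y') :
    Spl (ι ≫ e.hom) Z where
  r := e.inv ≫ h.r
  s := e.inv ≫ h.s
  j := h.j ≫ e.hom
  ι_r := by simp [h.ι_r]
  j_s := by simp [h.j_s]
  ι_s := by simp [h.ι_s]
  total := by
    have e1 : (e.inv ≫ h.r) ≫ ι ≫ e.hom + (e.inv ≫ h.s) ≫ h.j ≫ e.hom =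
        e.inv ≫ (h.r ≫ ι + h.s ≫ h.j) ≫ e.hom := by
      simp only [Preadditive.add_comp, Preadditive.comp_add, Category.assoc]
    rw [e1, h.total, Category.id_comp, e.inv_hom_id]

/-- change of complement along an isomorphism -/
noncomputable def Spl.ofComplIso {X Y : A} {ι : X ⟶ Y} {Z Z' : A} (h : Spl ι Z) (e : Z ≅ Z') :
    Spl ι Z' where
  r := h.r
  s := h.s ≫ e.hom
  j := e.inv ≫ h.j
  ι_r := h.ι_r
  j_s := by
    rw [Category.assoc, ← Category.assoc h.j, h.j_s, Category.id_comp, e.inv_hom_id]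
  ι_s := by rw [← Category.assoc, h.ι_s, zero_comp]
  total := by
    rw [Category.assoc, ← Category.assoc e.hom, e.hom_inv_id, Category.id_comp, h.total]

section Colim

variable (F : ℕ ⥤ A) (Z : ℕ → A) [HasCoproduct Z]
  (h : ∀ n : ℕ, Spl (F.map (homOfLE (Nat.le_succ n))) (Z n))

/-- the legs of the explicit colimit cocone -/
noncomputable def leg : ∀ n : ℕ, F.obj n ⟶ F.obj 0 ⊞ ∐ Z
  | 0 => biprod.inl
  | (n + 1) => (h n).r ≫ leg n + (h n).s ≫ Sigma.ι Z n ≫ biprod.inr

lemma leg_succ (n : ℕ) : leg F Z h (n + 1) =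
    (h n).r ≫ leg F Z h n + (h n).s ≫ Sigma.ι Z n ≫ biprod.inr := rfl

lemma map_leg (n : ℕ) : F.map (homOfLE (Nat.le_succ n)) ≫ leg F Z h (n + 1) = leg F Z h n := by
  rw [leg_succ, Preadditive.comp_add, ← Category.assoc, (h n).ι_r, Category.id_comp,
    ← Category.assoc, (h n).ι_s, zero_comp, add_zero]

lemma j_leg (n : ℕ) : (h n).j ≫ leg F Z h (n + 1) = Sigma.ι Z n ≫ biprod.inr := by
  rw [leg_succ, Preadditive.comp_add, ← Category.assoc, (h n).j_r, zero_comp, zero_add,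
    ← Category.assoc, (h n).j_s, Category.id_comp]

/-- the explicit cocone -/
noncomputable def cocone : Cocone F where
  pt := F.obj 0 ⊞ ∐ Z
  ι := NatTrans.ofSequence (F := F) (G := (Functor.const ℕ).obj (F.obj 0 ⊞ ∐ Z))
    (fun n => leg F Z h n) (by
      intro n
      show F.map (homOfLE (n.le_add_right 1)) ≫ leg F Z h (n + 1) = leg F Z h n ≫ 𝟙 _
      rw [Category.comp_id]
      exact map_leg F Z h n)

lemma cocone_ι_app (n : ℕ) : (cocone F Z h).ι.app n = leg F Z h n := rfl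

lemma leg_desc (s : Cocone F) (n : ℕ) : leg F Z h n ≫
    biprod.desc (s.ι.app 0) (Sigma.desc fun n => (h n).j ≫ s.ι.app (n + 1)) = s.ι.app n := by
  induction n with
  | zero => exact biprod.inl_desc _ _
  | succ n ih =>
    rw [leg_succ, Preadditive.add_comp, Category.assoc, ih, Category.assoc, Category.assoc,
      biprod.inr_desc, Sigma.ι_desc]
    have hw : F.map (homOfLE (Nat.le_succ n)) ≫ s.ι.app (n + 1) = s.ι.app n :=
      s.w (homOfLE (Nat.le_succ n))
    rw [← hw, ← Category.assoc, ← Category.assoc (h n).s, ← Preadditive.add_comp, (h n).total,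
      Category.id_comp]

lemma uniq_aux (s : Cocone F) (m : F.obj 0 ⊞ ∐ Z ⟶ s.pt)
    (hm : ∀ n, leg F Z h n ≫ m = s.ι.app n) :
    m = biprod.desc (s.ι.app 0) (Sigma.desc fun n => (h n).j ≫ s.ι.app (n + 1)) := by
  apply biprod.hom_ext'
  · rw [biprod.inl_desc]
    exact hm 0
  · rw [biprod.inr_desc]
    apply Sigma.hom_ext
    intro n
    rw [Sigma.ι_desc, ← Category.assoc, ← j_leg F Z h n, Category.assoc, hm (n + 1)]

/-- the explicit cocone is a colimit -/
noncomputable def isColimitCocone : IsColimit (cocone F Z h) where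
  desc s := biprod.desc (s.ι.app 0) (Sigma.desc fun n => (h n).j ≫ s.ι.app (n + 1))
  fac s n := leg_desc F Z h s n
  uniq s m hm := uniq_aux F Z h s m hm

variable {F} (c : Cocone F) (hc : IsColimit c)

/-- the first leg of a colimit cocone of a sequence of split monomorphisms is a split
monomorphism, with complement the coproduct of the complements -/
noncomputable def splColim : Spl (c.ι.app 0) (∐ Z) := by
  let e : c.pt ≅ F.obj 0 ⊞ ∐ Z := hc.coconePointUniqueUpToIso (isColimitCocone F Z h)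
  have he : c.ι.app 0 ≫ e.hom = biprod.inl :=
    IsColimit.comp_coconePointUniqueUpToIso_hom hc (isColimitCocone F Z h) 0
  have he' : c.ι.app 0 = biprod.inl ≫ e.inv := by
    rw [Iso.eq_comp_inv]; exact he
  rw [he']
  exact (Spl.inl (F.obj 0) (∐ Z)).compIso e.symm

end Colim

/-- the predicate: split monomorphism with cokernel in `Pr` -/
def PSplit (Pr : A → Prop) {X Y : A} (f : X ⟶ Y) : Prop :=
  ∃ r : Y ⟶ X, f ≫ r = 𝟙 X ∧ Pr (cokernel f)

variable {Pr : A → Prop} (hiso : ∀ X Y : A, (X ≅ Y) → Pr X → Pr Y)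

include hiso in
lemma PSplit.of_spl {X Y : A} {f : X ⟶ Y} {Z : A} (h : Spl f Z) (hZ : Pr Z) : PSplit Pr f :=
  ⟨h.r, h.ι_r, hiso _ _ h.cokernelIso.symm hZ⟩

lemma PSplit.exists_spl {X Y : A} {f : X ⟶ Y} (h : PSplit Pr f) :
    ∃ (_ : Spl f (cokernel f)), Pr (cokernel f) := by
  obtain ⟨r, hr, hP⟩ := h
  exact ⟨Spl.ofRetraction f r hr, hP⟩

include hiso in
lemma PSplit.comp (hsum : ∀ X Y : A, Pr X → Pr Y → Pr (X ⊞ Y)) {X Y W : A} {f : X ⟶ Y} {g : Y ⟶ W}
    (hf : PSplit Pr f) (hg : PSplit Pr g) : PSplit Pr (f ≫ g) := by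
  obtain ⟨s₁, h₁⟩ := hf.exists_spl
  obtain ⟨s₂, h₂⟩ := hg.exists_spl
  exact PSplit.of_spl hiso (s₁.comp s₂) (hsum _ _ h₁ h₂)

include hiso in
lemma PSplit.target (hsum : ∀ X Y : A, Pr X → Pr Y → Pr (X ⊞ Y)) {X Y : A} {f : X ⟶ Y}
    (hf : PSplit Pr f) (hX : Pr X) : Pr Y := by
  obtain ⟨s, h⟩ := hf.exists_spl
  exact hiso _ _ s.iso.symm (hsum _ _ hX h)

include hiso in
/-- sequential colimits -/
lemma PSplit.colim [HasCoproducts.{0} A] (hsig : ∀ Z : ℕ → A, (∀ n, Pr (Z n)) → Pr (∐ Z))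
    {F : ℕ ⥤ A} (hF : ∀ n : ℕ, PSplit Pr (F.map (homOfLE (Nat.le_succ n))))
    (c : Cocone F) (hc : IsColimit c) : PSplit Pr (c.ι.app 0) := by
  have h := fun n => (hF n).exists_spl
  let Z : ℕ → A := fun n => cokernel (F.map (homOfLE (Nat.le_succ n)))
  have hs : ∀ n, Spl (F.map (homOfLE (Nat.le_succ n))) (Z n) := fun n => (h n).choose
  have hZ : ∀ n, Pr (Z n) := fun n => (h n).choose_spec
  exact PSplit.of_spl hiso (splColim Z hs c hc) (hsig Z hZ)

end Groth.Agent.Helper9.RS1
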