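import Mathlib
import Groth.Agent.Helper9.RS1

/-!
# Building blocks for relative cell complexes: zero-differential complexes, covers and gadgets
-/

set_option autoImplicit false
set_option linter.style.haveILetI false
set_option linter.unusedSectionVars false

namespace Groth.Agent.Helper9.RS2

open CategoryTheory Limits HomologicalComplex CochainComplex HomComplex Groth.Agent.Helper9.RS1

universe v u

variable {A : Type u} [Category.{v} A] [Abelian A]

/-- the hypotheses on the class of objects -/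
structure Adm [HasCoproducts.{0} A] (Pr : A → Prop) : Prop where
  iso : ∀ X Y : A, (X ≅ Y) → Pr X → Pr Y
  zero : ∀ X : A, IsZero X → Pr X
  sum : ∀ X Y : A, Pr X → Pr Y → Pr (X ⊞ Y)
  sig : ∀ Z : ℕ → A, (∀ n, Pr (Z n)) → Pr (∐ Z)
  enough : ∀ M : A, ∃ (E : A) (e : E ⟶ M), Pr E ∧ Epi e

section ZC

/-- the complex with terms `E n` and zero differential -/
def zc (E : ℤ → A) : CochainComplex A ℤ where
  X := E
  d _ _ := 0
  shape _ _ _ := rfl
  d_comp_d' _ _ _ _ _ := zero_comp

/-- the terms of `zc E` -/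
def zcXIso (E : ℤ → A) (n : ℤ) : (zc E).X n ≅ E n := Iso.refl _

@[simp] lemma zc_d (E : ℤ → A) (i j : ℤ) : (zc E).d i j = 0 := rfl

lemma isStrictlyLE_zc (E : ℤ → A) (b : ℤ) (h : ∀ n, b < n → IsZero (E n)) :
    (zc E).IsStrictlyLE b := by
  rw [isStrictlyLE_iff]
  intro i hi
  exact h i hi

variable (K : CochainComplex A ℤ) {E : ℤ → A} (e : ∀ n, (zc E).X n ⟶ K.cycles n)

/-- the map from a zero-differential complex given by maps to the cycles -/
noncomputable def zmap : zc E ⟶ K where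
  f n := e n ≫ K.iCycles n
  comm' i j _ := by
    rw [Category.assoc, iCycles_d, comp_zero, zc_d, zero_comp]

lemma epi_cyclesMap_zmap (n : ℤ) [Epi (e n)] : Epi (cyclesMap (zmap K e) n) := by
  haveI : IsIso ((zc E).iCycles n) := isIso_iCycles _ n (n + 1) (by simp) (by simp)
  have h : cyclesMap (zmap K e) n = (zc E).iCycles n ≫ e n := by
    rw [← cancel_mono (K.iCycles n), cyclesMap_i, Category.assoc]
    rfl
  rw [h]
  infer_instance

lemma epi_homologyMap_zmap (n : ℤ) [Epi (e n)] : Epi (homologyMap (zmap K e) n) := by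
  haveI := epi_cyclesMap_zmap K e n
  have h := homologyπ_naturality (zmap K e) n
  haveI : Epi ((zc E).homologyπ n ≫ homologyMap (zmap K e) n) := by
    rw [h]
    infer_instance
  exact epi_of_epi ((zc E).homologyπ n) _

end ZC

section Cone

variable {F G : CochainComplex A ℤ} (φ : F ⟶ G)

/-- the inclusion of the target in the mapping cone is termwise split -/
noncomputable def splCone (p q : ℤ) (hpq : p + 1 = q) : Spl ((mappingCone.inr φ).f p) (F.X q) where
  r := (mappingCone.snd φ).v p p (add_zero p)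
  s := (mappingCone.fst φ).1.v p q hpq
  j := (mappingCone.inl φ).v q p (by lia)
  ι_r := mappingCone.inr_f_snd_v φ p
  j_s := mappingCone.inl_v_fst_v φ q p hpq
  ι_s := mappingCone.inr_f_fst_v φ p q hpq
  total := by
    rw [add_comm]
    exact mappingCone.id_X φ p q hpq

lemma isZero_cone_X (p q : ℤ) (hpq : p + 1 = q) (h1 : IsZero (F.X q)) (h2 : IsZero (G.X p)) :
    IsZero ((mappingCone φ).X p) := by
  rw [IsZero.iff_id_eq_zero, ← mappingCone.id_X φ p q hpq, h1.eq_of_tgt ((mappingCone.fst φ).1.v p q hpq) 0,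
    h2.eq_of_tgt ((mappingCone.snd φ).v p p (add_zero p)) 0, zero_comp, zero_comp, add_zero]

lemma isStrictlyLE_cone (B : ℤ) [F.IsStrictlyLE (B + 1)] [G.IsStrictlyLE B] :
    (mappingCone φ).IsStrictlyLE B := by
  rw [isStrictlyLE_iff]
  intro i hi
  exact isZero_cone_X φ i (i + 1) rfl (F.isZero_of_isStrictlyLE (B + 1) (i + 1) (by lia))
    (G.isZero_of_isStrictlyLE B i hi)

/-- the first inclusion into the mapping cocone is termwise split -/
noncomputable def splCocone (p q : ℤ) (hpq : p + -1 = q) :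
    Spl ((mappingCocone.inl φ).v p p (add_zero p)) (G.X q) where
  r := (mappingCocone.fst φ).f p
  s := (mappingCocone.snd φ).v p q hpq
  j := (mappingCocone.inr φ).1.v q p (by lia)
  ι_r := mappingCocone.inl_v_fst_f φ p
  j_s := mappingCocone.inr_v_snd_v φ q p (by lia)
  ι_s := mappingCocone.inl_v_snd_v φ p q hpq
  total := mappingCocone.id_X φ p q hpq

lemma isZero_cocone_X (p q : ℤ) (hpq : p + -1 = q) (h1 : IsZero (F.X p)) (h2 : IsZero (G.X q)) :
    IsZero ((mappingCocone φ).X p) := by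
  rw [IsZero.iff_id_eq_zero, ← mappingCocone.id_X φ p q hpq,
    h1.eq_of_tgt ((mappingCocone.fst φ).f p) 0,
    h2.eq_of_tgt ((mappingCocone.snd φ).v p q hpq) 0, zero_comp, zero_comp, add_zero]

lemma isStrictlyLE_cocone (B B' : ℤ) (hB : B' + 1 ≤ B) [F.IsStrictlyLE B] [G.IsStrictlyLE B'] :
    (mappingCocone φ).IsStrictlyLE B := by
  rw [isStrictlyLE_iff]
  intro i hi
  exact isZero_cocone_X φ i (i + -1) rfl (F.isZero_of_isStrictlyLE B i hi)
    (G.isZero_of_isStrictlyLE B' (i + -1) (by lia))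

end Cone

section Biprod

variable (P Q : CochainComplex A ℤ)

/-- the first inclusion into a biproduct of complexes is termwise split -/
noncomputable def splBiprod (i : ℤ) : Spl ((biprod.inl : P ⟶ P ⊞ Q).f i) (Q.X i) where
  r := (biprod.fst : P ⊞ Q ⟶ P).f i
  s := (biprod.snd : P ⊞ Q ⟶ Q).f i
  j := (biprod.inr : Q ⟶ P ⊞ Q).f i
  ι_r := by rw [← comp_f, biprod.inl_fst, id_f]
  j_s := by rw [← comp_f, biprod.inr_snd, id_f]
  ι_s := by rw [← comp_f, biprod.inl_snd, zero_f]
  total := by rw [← comp_f, ← comp_f, ← add_f_apply, biprod.total, id_f]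

lemma isStrictlyLE_biprod (B : ℤ) [P.IsStrictlyLE B] [Q.IsStrictlyLE B] :
    (P ⊞ Q).IsStrictlyLE B := by
  rw [isStrictlyLE_iff]
  intro i hi
  have h := (splBiprod P Q i).total
  rw [IsZero.iff_id_eq_zero, ← h,
    (P.isZero_of_isStrictlyLE B i hi).eq_of_tgt ((splBiprod P Q i).r) 0,
    (Q.isZero_of_isStrictlyLE B i hi).eq_of_tgt ((splBiprod P Q i).s) 0, zero_comp, zero_comp,
    add_zero]

end Biprod

section Covers

variable [HasCoproducts.{0} A] {Pr : A → Prop} (hPr : Adm Pr)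

include hPr in
/-- objects of the class covering a family which vanishes above `b` -/
lemma exists_family (M : ℤ → A) (b : ℤ) (hM : ∀ n, b < n → IsZero (M n)) :
    ∃ (E : ℤ → A) (e : ∀ n, E n ⟶ M n), (∀ n, Pr (E n)) ∧ (∀ n, Epi (e n)) ∧
      ∀ n, b < n → IsZero (E n) := by
  have h : ∀ n : ℤ, ∃ (E : A) (e : E ⟶ M n), Pr E ∧ Epi e ∧ (b < n → IsZero E) := by
    intro n
    by_cases hn : b < n
    · refine ⟨M n, 𝟙 _, hPr.zero _ (hM n hn), inferInstance, fun _ => hM n hn⟩
    · obtain ⟨E, e, h1, h2⟩ := hPr.enough (M n)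
      exact ⟨E, e, h1, h2, fun h => absurd h hn⟩
  choose E e h1 h2 h3 using h
  exact ⟨E, e, h1, h2, h3⟩

include hPr in
/-- a bounded above complex with terms in the class, mapping epimorphically on cohomology -/
theorem exists_cover (K : CochainComplex A ℤ) (b : ℤ) [K.IsStrictlyLE b] :
    ∃ (R : CochainComplex A ℤ) (θ : R ⟶ K), R.IsStrictlyLE b ∧ (∀ n, Pr (R.X n)) ∧
      ∀ n, Epi (homologyMap θ n) := by
  have hM : ∀ n, b < n → IsZero (K.cycles n) := fun n hn =>
    IsZero.of_mono (K.iCycles n) (K.isZero_of_isStrictlyLE b n hn)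
  obtain ⟨E, e, h1, h2, h3⟩ := exists_family hPr (fun n => K.cycles n) b hM
  refine ⟨zc E, zmap K (fun n => (zcXIso E n).hom ≫ e n), isStrictlyLE_zc E b h3, h1, fun n => ?_⟩
  haveI := h2 n
  haveI : Epi ((zcXIso E n).hom ≫ e n) := inferInstance
  exact epi_homologyMap_zmap K (fun n => (zcXIso E n).hom ≫ e n) n

include hPr in
/-- a bounded above complex with terms in the class, mapping termwise epimorphically -/
theorem exists_gadget (K : CochainComplex A ℤ) (b : ℤ) [K.IsStrictlyLE b] :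
    ∃ (W : CochainComplex A ℤ) (w : W ⟶ K), W.IsStrictlyLE (b + 1) ∧ (∀ n, Pr (W.X n)) ∧
      ∀ n, Epi (w.f n) := by
  obtain ⟨E, e, h1, h2, h3⟩ := exists_family hPr (fun n => K.X n) b
    (fun n hn => K.isZero_of_isStrictlyLE b n hn)
  let Z := zc E
  haveI : Z.IsStrictlyLE b := isStrictlyLE_zc E b h3
  haveI : Z.IsStrictlyLE (b + 1) := isStrictlyLE_of_le Z b (b + 1) (by lia)
  let α : Cochain Z K 0 := Cochain.ofHoms (fun n => (zcXIso E n).hom ≫ e n)
  let β : Cocycle Z K 1 := Cocycle.mk (-(δ 0 1 α)) 2 (by simp) (by rw [δ_neg, δ_δ, neg_zero])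
  have hαβ : δ 0 1 α + (Cochain.ofHom (𝟙 Z)).comp β.1 (zero_add 1) = 0 := by
    show δ 0 1 α + (Cochain.ofHom (𝟙 Z)).comp (-(δ 0 1 α)) (zero_add 1) = 0
    rw [Cochain.id_comp, add_neg_cancel]
  let w : mappingCocone (𝟙 Z) ⟶ K := mappingCocone.desc (𝟙 Z) α β hαβ
  refine ⟨mappingCocone (𝟙 Z), w, isStrictlyLE_cocone (𝟙 Z) (b + 1) b le_rfl, ?_, ?_⟩
  · intro n
    exact hPr.iso _ _ (splCocone (𝟙 Z) n (n + -1) rfl).iso.symm (hPr.sum _ _ (h1 n) (h1 (n + -1)))
  · intro n
    have h1 : (mappingCocone.inl (𝟙 Z)).v n n (add_zero n) ≫ w.f n = (zcXIso E n).hom ≫ e n := by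
      rw [mappingCocone.inl_v_desc_f]
      exact Cochain.ofHoms_v _ _
    haveI := h2 n
    haveI : Epi ((mappingCocone.inl (𝟙 Z)).v n n (add_zero n) ≫ w.f n) := by
      rw [h1]; infer_instance
    exact epi_of_epi ((mappingCocone.inl (𝟙 Z)).v n n (add_zero n)) _

end Covers

end Groth.Agent.Helper9.RS2
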