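import Mathlib
import Groth.Agent.Helper9.RS2
import Groth.Agent.Helper9.KFlat13
import Groth.Agent.Helper9.KFlat15

/-!
# Relative cell complexes: factorization of a map of bounded above complexes as a termwise split
monomorphism with cokernels in a class followed by a termwise epimorphic quasi-isomorphism
-/

set_option autoImplicit false
set_option linter.style.haveILetI false
set_option linter.unusedSectionVars false

namespace Groth.Agent.Helper9.RS3

open CategoryTheory Limits HomologicalComplex CochainComplex HomComplex Groth.Agent.Helper9.RS1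
  Groth.Agent.Helper9.RS2

universe v u

variable {A : Type u} [Category.{v} A] [Abelian A] [HasCoproducts.{0} A] {Pr : A → Prop}
  (hPr : Adm Pr)

section Stage

variable {P T : CochainComplex A ℤ} (q : P ⟶ T) (B B' : ℤ) (hB : B' + 1 ≤ B)
  [P.IsStrictlyLE B] [T.IsStrictlyLE B']

include hPr hB in
/-- one stage: kill the kernel on cohomology -/
theorem stage : ∃ (P' : CochainComplex A ℤ) (ι : P ⟶ P') (q' : P' ⟶ T),
    ι ≫ q' = q ∧ P'.IsStrictlyLE B ∧ (∀ i, PSplit Pr (ι.f i)) ∧
    ∀ n, kernel.ι (homologyMap q n) ≫ homologyMap ι n = 0 := by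
  haveI : (mappingCocone q).IsStrictlyLE B := isStrictlyLE_cocone q B B' hB
  obtain ⟨R, θ, hR, hRP, hθ⟩ := exists_cover hPr (mappingCocone q) B
  haveI := hR
  haveI : R.IsStrictlyLE (B + 1) := isStrictlyLE_of_le R B (B + 1) (by lia)
  refine ⟨KFlat15.P' q θ, KFlat15.ι q θ, KFlat15.q' q θ, KFlat15.ι_q' q θ, ?_, ?_, ?_⟩
  · exact isStrictlyLE_cone (KFlat15.ψ q θ) B
  · intro i
    exact PSplit.of_spl hPr.iso (splCone (KFlat15.ψ q θ) i (i + 1) rfl) (hRP (i + 1))
  · intro n
    haveI := hθ n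
    exact KFlat15.kill q θ n

include hPr hB in
/-- the initial stage: make the map an epimorphism termwise and on cohomology -/
theorem stage0 : ∃ (P' : CochainComplex A ℤ) (ι : P ⟶ P') (q' : P' ⟶ T),
    ι ≫ q' = q ∧ P'.IsStrictlyLE B ∧ (∀ i, PSplit Pr (ι.f i)) ∧
    (∀ n, Epi (homologyMap q' n)) ∧ ∀ n, Epi (q'.f n) := by
  haveI : T.IsStrictlyLE B := isStrictlyLE_of_le T B' B (by lia)
  obtain ⟨R, θ, hR, hRP, hθ⟩ := exists_cover hPr T B
  obtain ⟨W, w, hW, hWP, hw⟩ := exists_gadget hPr T B'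
  haveI := hR
  haveI := hW
  haveI : W.IsStrictlyLE B := isStrictlyLE_of_le W (B' + 1) B hB
  haveI : (R ⊞ W).IsStrictlyLE B := isStrictlyLE_biprod R W B
  let Q := R ⊞ W
  let q' : P ⊞ Q ⟶ T := biprod.desc q (biprod.desc θ w)
  refine ⟨P ⊞ Q, biprod.inl, q', biprod.inl_desc _ _, isStrictlyLE_biprod P Q B, ?_, ?_, ?_⟩
  · intro i
    refine PSplit.of_spl hPr.iso (splBiprod P Q i) ?_
    exact hPr.iso _ _ (splBiprod R W i).iso.symm (hPr.sum _ _ (hRP i) (hWP i))
  · intro n
    haveI := hθ n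
    have h1 : homologyMap ((biprod.inl : R ⟶ R ⊞ W) ≫ (biprod.inr : Q ⟶ P ⊞ Q)) n ≫
        homologyMap q' n = homologyMap θ n := by
      rw [← homologyMap_comp, Category.assoc, biprod.inr_desc, biprod.inl_desc]
    haveI : Epi (homologyMap ((biprod.inl : R ⟶ R ⊞ W) ≫ (biprod.inr : Q ⟶ P ⊞ Q)) n ≫
        homologyMap q' n) := by
      rw [h1]; infer_instance
    exact epi_of_epi (homologyMap ((biprod.inl : R ⟶ R ⊞ W) ≫ (biprod.inr : Q ⟶ P ⊞ Q)) n) _
  · intro n
    haveI := hw n
    have h1 : ((biprod.inr : W ⟶ R ⊞ W) ≫ (biprod.inr : Q ⟶ P ⊞ Q)).f n ≫ q'.f n = w.f n := by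
      rw [← comp_f, Category.assoc, biprod.inr_desc, biprod.inr_desc]
    haveI : Epi (((biprod.inr : W ⟶ R ⊞ W) ≫ (biprod.inr : Q ⟶ P ⊞ Q)).f n ≫ q'.f n) := by
      rw [h1]; infer_instance
    exact epi_of_epi (((biprod.inr : W ⟶ R ⊞ W) ≫ (biprod.inr : Q ⟶ P ⊞ Q)).f n) _

end Stage

section Iterate

variable (T : CochainComplex A ℤ) (B B' : ℤ) (hB : B' + 1 ≤ B) [T.IsStrictlyLE B']

/-- a bounded above complex over `T` -/
structure Stg where
  /-- the complex -/
  P : CochainComplex A ℤ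
  /-- the map -/
  q : P ⟶ T
  le : P.IsStrictlyLE B

variable {T B}

include hPr hB in
lemma stage' (s : Stg T B) : ∃ (P' : CochainComplex A ℤ) (ι : s.P ⟶ P') (q' : P' ⟶ T),
    ι ≫ q' = s.q ∧ P'.IsStrictlyLE B ∧ (∀ i, PSplit Pr (ι.f i)) ∧
    ∀ n, kernel.ι (homologyMap s.q n) ≫ homologyMap ι n = 0 :=
  haveI := s.le
  stage hPr s.q B B' hB

/-- the next stage -/
noncomputable def next (s : Stg T B) : Stg T B :=
  ⟨(stage' hPr B' hB s).choose, (stage' hPr B' hB s).choose_spec.choose_spec.choose,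
    (stage' hPr B' hB s).choose_spec.choose_spec.choose_spec.2.1⟩

/-- the transition map -/
noncomputable def nextι (s : Stg T B) : s.P ⟶ (next hPr B' hB s).P :=
  (stage' hPr B' hB s).choose_spec.choose

lemma nextι_q (s : Stg T B) : nextι hPr B' hB s ≫ (next hPr B' hB s).q = s.q :=
  (stage' hPr B' hB s).choose_spec.choose_spec.choose_spec.1

lemma psplit_nextι (s : Stg T B) (i : ℤ) : PSplit Pr ((nextι hPr B' hB s).f i) :=
  (stage' hPr B' hB s).choose_spec.choose_spec.choose_spec.2.2.1 i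

lemma kill_next (s : Stg T B) (n : ℤ) :
    kernel.ι (homologyMap s.q n) ≫ homologyMap (nextι hPr B' hB s) n = 0 :=
  (stage' hPr B' hB s).choose_spec.choose_spec.choose_spec.2.2.2 n

/-- the sequence of stages -/
noncomputable def seq (s : Stg T B) : ℕ → Stg T B
  | 0 => s
  | (n + 1) => next hPr B' hB (seq s n)

/-- the diagram -/
noncomputable def diag (s : Stg T B) : ℕ ⥤ CochainComplex A ℤ :=
  Functor.ofSequence (X := fun n => (seq hPr B' hB s n).P)
    (fun n => nextι hPr B' hB (seq hPr B' hB s n))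

lemma diag_map_succ (s : Stg T B) (n : ℕ) :
    (diag hPr B' hB s).map (homOfLE (Nat.le_succ n)) = nextι hPr B' hB (seq hPr B' hB s n) :=
  Functor.ofSequence_map_homOfLE_succ _ n

/-- the cocone over the diagram with point `T` -/
noncomputable def coconeT (s : Stg T B) : Cocone (diag hPr B' hB s) where
  pt := T
  ι := NatTrans.ofSequence (F := diag hPr B' hB s) (G := (Functor.const ℕ).obj T)
    (fun n => (seq hPr B' hB s n).q) (by
      intro n
      have h1 : (diag hPr B' hB s).map (homOfLE (n.le_add_right 1)) =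
          nextι hPr B' hB (seq hPr B' hB s n) :=
        Functor.ofSequence_map_homOfLE_succ _ n
      rw [h1]
      show nextι hPr B' hB (seq hPr B' hB s n) ≫ (next hPr B' hB (seq hPr B' hB s n)).q =
        (seq hPr B' hB s n).q ≫ 𝟙 T
      rw [nextι_q, Category.comp_id])

end Iterate

/-- a colimit of objects which are all zero is zero -/
lemma isZero_of_isColimit {J : Type*} [Category J] {F : J ⥤ A} (c : Cocone F) (hc : IsColimit c)
    (h : ∀ j, IsZero (F.obj j)) : IsZero c.pt := by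
  rw [IsZero.iff_id_eq_zero]
  apply hc.hom_ext
  intro j
  exact (h j).eq_of_src _ _

section Main

variable [HasColimitsOfShape ℕ A] [HasExactColimitsOfShape ℕ A]

include hPr in
/-- **Factorization**: a map `P ⟶ T` of bounded above complexes factors as a termwise split
monomorphism with cokernels in the class followed by a termwise epimorphic quasi-isomorphism. -/
theorem exists_factorization {P T : CochainComplex A ℤ} (q : P ⟶ T) (B B' : ℤ) (hB : B' + 1 ≤ B)
    [P.IsStrictlyLE B] [T.IsStrictlyLE B'] :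
    ∃ (P' : CochainComplex A ℤ) (ι : P ⟶ P') (q' : P' ⟶ T),
      ι ≫ q' = q ∧ QuasiIso q' ∧ (∀ i, Epi (q'.f i)) ∧ P'.IsStrictlyLE B ∧
      ∀ i, PSplit Pr (ι.f i) := by
  obtain ⟨P₁, ι₁, q₁, h1, hle1, hsp1, hE, hEf⟩ := stage0 hPr q B B' hB
  let s : Stg T B := ⟨P₁, q₁, hle1⟩
  let D := diag hPr B' hB s
  let c : Cocone D := colimit.cocone D
  let hc : IsColimit c := colimit.isColimit D
  let t : Cocone D := coconeT hPr B' hB s
  let i₀ : P₁ ⟶ c.pt := c.ι.app 0
  let d : c.pt ⟶ T := hc.desc t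
  have hi₀ : i₀ ≫ d = q₁ := hc.fac t 0
  refine ⟨c.pt, ι₁ ≫ i₀, d, ?_, ?_, ?_, ?_, ?_⟩
  · rw [Category.assoc, hi₀]
    exact h1
  · show QuasiIso (hc.desc t)
    apply KFlat13.quasiIso_desc c hc t
    · intro n
      exact hE n
    · intro i n
      have h2 : D.map (homOfLE (Nat.le_succ i)) = nextι hPr B' hB (seq hPr B' hB s i) :=
        diag_map_succ hPr B' hB s i
      rw [h2]
      exact kill_next hPr B' hB (seq hPr B' hB s i) n
  · intro i
    haveI := hEf i
    have h2 : i₀.f i ≫ d.f i = q₁.f i := by rw [← comp_f, hi₀]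
    haveI : Epi (i₀.f i ≫ d.f i) := by rw [h2]; infer_instance
    exact epi_of_epi (i₀.f i) _
  · rw [isStrictlyLE_iff]
    intro i hi
    have hc' := isColimitOfPreserves (eval A (ComplexShape.up ℤ) i) hc
    refine isZero_of_isColimit _ hc' (fun j => ?_)
    haveI := (seq hPr B' hB s j).le
    exact (seq hPr B' hB s j).P.isZero_of_isStrictlyLE B i hi
  · intro i
    have hc' := isColimitOfPreserves (eval A (ComplexShape.up ℤ) i) hc
    have h3 : PSplit Pr (((eval A (ComplexShape.up ℤ) i).mapCocone c).ι.app 0) := by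
      refine PSplit.colim hPr.iso hPr.sig (F := D ⋙ eval A (ComplexShape.up ℤ) i) ?_ _ hc'
      intro n
      have h2 : D.map (homOfLE (Nat.le_succ n)) = nextι hPr B' hB (seq hPr B' hB s n) :=
        diag_map_succ hPr B' hB s n
      show PSplit Pr ((D.map (homOfLE (Nat.le_succ n))).f i)
      rw [h2]
      exact psplit_nextι hPr B' hB _ i
    have h4 : (ι₁ ≫ i₀).f i = ι₁.f i ≫ i₀.f i := comp_f _ _ _
    rw [h4]
    exact PSplit.comp hPr.iso hPr.sum (hsp1 i) h3

end Main

end Groth.Agent.Helper9.RS3
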