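import Mathlib
import Groth.Prelude.Def_ModSite
import Groth.Agent.Helper9.RS3
import Groth.Agent.Helper9.FreeOnHom
import Groth.Agent.Helper9.KFlat17

/-!
# Direct sums of the modules `j_{U!} O_U` form an admissible class
-/

set_option autoImplicit false
set_option linter.style.haveILetI false
set_option linter.unusedSectionVars false

namespace Groth.Agent.Helper9.RS4

open CategoryTheory Limits Opposite Groth.Agent.Helper9.RS1 Groth.Agent.Helper9.RS2

universe u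

variable {C : Type u} [SmallCategory C] {J : GrothendieckTopology C} (O : Sheaf J CommRingCat.{u})

/-- being a direct sum of modules of the form `j_{U!} O_U` -/
def IsFreeSum (M : ModSite.Mod O) : Prop :=
  ∃ (ι : Type u) (U : ι → C), Nonempty (M ≅ ∐ fun j => ModSite.freeOn O (U j))

variable {O}

lemma isFreeSum_of_iso {X Y : ModSite.Mod O} (e : X ≅ Y) (h : IsFreeSum O X) : IsFreeSum O Y := by
  obtain ⟨ι, U, ⟨f⟩⟩ := h
  exact ⟨ι, U, ⟨e.symm ≪≫ f⟩⟩

lemma isFreeSum_of_isZero {X : ModSite.Mod O} (h : IsZero X) : IsFreeSum O X := by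
  refine ⟨PEmpty, fun j => j.elim, ⟨h.iso ?_⟩⟩
  rw [IsZero.iff_id_eq_zero]
  apply Sigma.hom_ext
  intro j
  exact j.elim

lemma isFreeSum_biprod {X Y : ModSite.Mod O} (hX : IsFreeSum O X) (hY : IsFreeSum O Y) :
    IsFreeSum O (X ⊞ Y) := by
  obtain ⟨ι₁, U₁, ⟨e₁⟩⟩ := hX
  obtain ⟨ι₂, U₂, ⟨e₂⟩⟩ := hY
  let f₁ : ι₁ → ModSite.Mod O := fun j => ModSite.freeOn O (U₁ j)
  let f₂ : ι₂ → ModSite.Mod O := fun j => ModSite.freeOn O (U₂ j)
  let c₁ : Cofan f₁ := Cofan.mk (∐ f₁) (Sigma.ι f₁)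
  let c₂ : Cofan f₂ := Cofan.mk (∐ f₂) (Sigma.ι f₂)
  have h₁ : IsColimit c₁ := coproductIsCoproduct f₁
  have h₂ : IsColimit c₂ := coproductIsCoproduct f₂
  let bc : BinaryCofan c₁.pt c₂.pt := (BinaryBiproduct.bicone (∐ f₁) (∐ f₂)).toCocone
  have hbc : IsColimit bc := BinaryBiproduct.isColimit _ _
  have hcomb := Cofan.combPairIsColimit h₁ h₂ hbc
  let e : (∐ f₁) ⊞ (∐ f₂) ≅ ∐ (Sum.elim f₁ f₂) :=
    hcomb.coconePointUniqueUpToIso (coproductIsCoproduct (Sum.elim f₁ f₂))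
  refine ⟨ι₁ ⊕ ι₂, Sum.elim U₁ U₂, ⟨biprod.mapIso e₁ e₂ ≪≫ e ≪≫
    Sigma.mapIso (fun j => eqToIso ?_)⟩⟩
  cases j <;> rfl

lemma isFreeSum_sigma (Z : ℕ → ModSite.Mod O) (hZ : ∀ n, IsFreeSum O (Z n)) :
    IsFreeSum O (∐ Z) := by
  choose ι U e using hZ
  let g : (n : ℕ) → ι n → ModSite.Mod O := fun n j => ModSite.freeOn O (U n j)
  refine ⟨Σ n, ι n, fun p => U p.1 p.2, ⟨?_⟩⟩
  exact Sigma.mapIso (fun n => (e n).some) ≪≫ sigmaSigmaIso ι g

lemma exists_epi_isFreeSum (F : ModSite.Mod O) :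
    ∃ (E : ModSite.Mod O) (e : E ⟶ F), IsFreeSum O E ∧ Epi e := by
  let ι : Type u := Σ U : C, (F.val.obj (op U) : Type u)
  let f : ι → ModSite.Mod O := fun j => ModSite.freeOn O j.1
  let e : ∐ f ⟶ F := Sigma.desc fun j => (FreeOnHom.homEquiv O j.1 F).symm j.2
  refine ⟨∐ f, e, ⟨ι, fun j => j.1, ⟨Iso.refl _⟩⟩, ⟨?_⟩⟩
  intro F' a b hab
  apply SheafOfModules.Hom.ext
  apply PresheafOfModules.Hom.ext
  funext V
  induction V using Opposite.rec with | _ V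
  apply ModuleCat.hom_ext
  apply LinearMap.ext
  intro s
  have h1 : (FreeOnHom.homEquiv O V F).symm s ≫ a = (FreeOnHom.homEquiv O V F).symm s ≫ b := by
    have h2 := Sigma.ι f ⟨V, s⟩ ≫= hab
    rw [Sigma.ι_desc_assoc, Sigma.ι_desc_assoc] at h2
    exact h2
  have h3 := congrArg (FreeOnHom.homEquiv O V F') h1
  rw [FreeOnHom.homEquiv_comp, FreeOnHom.homEquiv_comp, Equiv.apply_symm_apply] at h3
  exact h3

variable (O) in
/-- the class of direct sums of the modules `j_{U!} O_U` is admissible -/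
theorem adm : Adm (IsFreeSum O) where
  iso _ _ e h := isFreeSum_of_iso e h
  zero _ h := isFreeSum_of_isZero h
  sum _ _ hX hY := isFreeSum_biprod hX hY
  sig Z hZ := isFreeSum_sigma Z hZ
  enough F := exists_epi_isFreeSum F

end Groth.Agent.Helper9.RS4
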