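import Mathlib
import Groth.Prelude.Def_ModSite
import Groth.Agent.Helper9.RS4

/-!
# The tower of resolutions of the truncations of a complex
-/

set_option autoImplicit false
set_option linter.style.haveILetI false
set_option linter.unusedSectionVars false

namespace Groth.Agent.Helper9.RS5

open CategoryTheory Limits Opposite HomologicalComplex CochainComplex
  Groth.Agent.Helper9.RS1 Groth.Agent.Helper9.RS2 Groth.Agent.Helper9.RS3
open ZeroObject

universe v u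

section Trunc

variable {A : Type u} [Category.{v} A] [Abelian A] (G : CochainComplex A ℤ)

/-- the inclusion of truncations -/
noncomputable def truncIncl (a b : ℤ) (h : a ≤ b) : G.truncLE a ⟶ G.truncLE b :=
  haveI : (G.truncLE a).IsStrictlyLE b := isStrictlyLE_of_le _ a b h
  inv ((G.truncLE a).ιTruncLE b) ≫ truncLEMap (G.ιTruncLE a) b

@[reassoc (attr := simp)]
lemma truncIncl_ι (a b : ℤ) (h : a ≤ b) : truncIncl G a b h ≫ G.ιTruncLE b = G.ιTruncLE a := by
  haveI : (G.truncLE a).IsStrictlyLE b := isStrictlyLE_of_le _ a b h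
  rw [truncIncl, Category.assoc, CochainComplex.ιTruncLE_naturality, IsIso.inv_hom_id_assoc]

lemma mono_homologyMap_ιTruncLE (n i : ℤ) : Mono (homologyMap (G.ιTruncLE n) i) := by
  by_cases hi : i ≤ n
  · haveI := G.quasiIsoAt_ιTruncLE n i hi
    haveI : IsIso (homologyMap (G.ιTruncLE n) i) :=
      (quasiIsoAt_iff_isIso_homologyMap (G.ιTruncLE n) i).1 inferInstance
    infer_instance
  · have hz : IsZero ((G.truncLE n).homology i) := by
      have h1 : IsZero ((G.truncLE n).X i) := (G.truncLE n).isZero_of_isStrictlyLE n i (by lia)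
      exact IsZero.of_mono ((G.truncLE n).homologyι i) (IsZero.of_epi ((G.truncLE n).pOpcycles i) h1)
    exact ⟨fun a b _ => hz.eq_of_tgt a b⟩

lemma isIso_homologyMap_ιTruncLE (n i : ℤ) (hi : i ≤ n) : IsIso (homologyMap (G.ιTruncLE n) i) := by
  haveI := G.quasiIsoAt_ιTruncLE n i hi
  exact (quasiIsoAt_iff_isIso_homologyMap (G.ιTruncLE n) i).1 inferInstance

end Trunc

section Tower

variable {C : Type u} [SmallCategory C] {J : GrothendieckTopology C} (O : Sheaf J CommRingCat.{u})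
  (G : CochainComplex (ModSite.Mod O) ℤ)

open Groth.Agent.Helper9.RS4

/-- a level of the tower -/
structure Lvl (n : ℕ) where
  /-- the complex -/
  K : CochainComplex (ModSite.Mod O) ℤ
  /-- the map to the truncation -/
  π : K ⟶ G.truncLE ((n : ℤ) + 1)
  le : K.IsStrictlyLE ((n : ℤ) + 2)
  qis : QuasiIso π
  epi : ∀ i, Epi (π.f i)
  free : ∀ i, IsFreeSum O (K.X i)

lemma isZero_zero_X (i : ℤ) : IsZero ((0 : CochainComplex (ModSite.Mod O) ℤ).X i) :=
  (eval (ModSite.Mod O) (ComplexShape.up ℤ) i).map_isZero (isZero_zero _)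

lemma exists_lvl0 : ∃ (K : CochainComplex (ModSite.Mod O) ℤ) (π : K ⟶ G.truncLE (((0 : ℕ) : ℤ) + 1)),
    K.IsStrictlyLE (((0 : ℕ) : ℤ) + 2) ∧ QuasiIso π ∧ (∀ i, Epi (π.f i)) ∧
      ∀ i, IsFreeSum O (K.X i) := by
  haveI : (0 : CochainComplex (ModSite.Mod O) ℤ).IsStrictlyLE (((0 : ℕ) : ℤ) + 2) := by
    rw [isStrictlyLE_iff]
    intro i _
    exact isZero_zero_X O i
  obtain ⟨K, ι, π, _, h2, h3, h4, h5⟩ := exists_factorization (adm O)
    (0 : (0 : CochainComplex (ModSite.Mod O) ℤ) ⟶ G.truncLE (((0 : ℕ) : ℤ) + 1))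
    (((0 : ℕ) : ℤ) + 2) (((0 : ℕ) : ℤ) + 1) (by lia)
  exact ⟨K, π, h4, h2, h3, fun i => PSplit.target (adm O).iso (adm O).sum (h5 i)
    (isFreeSum_of_isZero (isZero_zero_X O i))⟩

/-- the bottom level -/
noncomputable def lvl0 : Lvl O G 0 :=
  ⟨(exists_lvl0 O G).choose, (exists_lvl0 O G).choose_spec.choose,
    (exists_lvl0 O G).choose_spec.choose_spec.1, (exists_lvl0 O G).choose_spec.choose_spec.2.1,
    (exists_lvl0 O G).choose_spec.choose_spec.2.2.1, (exists_lvl0 O G).choose_spec.choose_spec.2.2.2⟩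

variable {O G}

lemma le_aux (n : ℕ) : (n : ℤ) + 1 ≤ ((n + 1 : ℕ) : ℤ) + 1 := by push_cast; lia

lemma exists_step {n : ℕ} (l : Lvl O G n) : ∃ (K' : CochainComplex (ModSite.Mod O) ℤ) (ι : l.K ⟶ K')
    (π' : K' ⟶ G.truncLE (((n + 1 : ℕ) : ℤ) + 1)),
    ι ≫ π' = l.π ≫ truncIncl G ((n : ℤ) + 1) (((n + 1 : ℕ) : ℤ) + 1) (le_aux n) ∧
      QuasiIso π' ∧ (∀ i, Epi (π'.f i)) ∧ K'.IsStrictlyLE (((n + 1 : ℕ) : ℤ) + 2) ∧
      ∀ i, PSplit (IsFreeSum O) (ι.f i) := by
  haveI := l.le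
  haveI : l.K.IsStrictlyLE (((n + 1 : ℕ) : ℤ) + 2) :=
    isStrictlyLE_of_le _ ((n : ℤ) + 2) _ (by push_cast; lia)
  exact exists_factorization (adm O) _ (((n + 1 : ℕ) : ℤ) + 2) (((n + 1 : ℕ) : ℤ) + 1) (by lia)

/-- the next level -/
noncomputable def next {n : ℕ} (l : Lvl O G n) : Lvl O G (n + 1) :=
  ⟨(exists_step l).choose, (exists_step l).choose_spec.choose_spec.choose,
    (exists_step l).choose_spec.choose_spec.choose_spec.2.2.2.1,
    (exists_step l).choose_spec.choose_spec.choose_spec.2.1,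
    (exists_step l).choose_spec.choose_spec.choose_spec.2.2.1,
    fun i => PSplit.target (adm O).iso (adm O).sum
      ((exists_step l).choose_spec.choose_spec.choose_spec.2.2.2.2 i) (l.free i)⟩

/-- the transition map -/
noncomputable def tr {n : ℕ} (l : Lvl O G n) : l.K ⟶ (next l).K :=
  (exists_step l).choose_spec.choose

lemma tr_π {n : ℕ} (l : Lvl O G n) :
    tr l ≫ (next l).π = l.π ≫ truncIncl G ((n : ℤ) + 1) (((n + 1 : ℕ) : ℤ) + 1) (le_aux n) :=
  (exists_step l).choose_spec.choose_spec.choose_spec.1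

lemma psplit_tr {n : ℕ} (l : Lvl O G n) (i : ℤ) : PSplit (IsFreeSum O) ((tr l).f i) :=
  (exists_step l).choose_spec.choose_spec.choose_spec.2.2.2.2 i

variable (O G)

/-- the levels -/
noncomputable def lvl : ∀ n : ℕ, Lvl O G n
  | 0 => lvl0 O G
  | (n + 1) => next (lvl n)

/-- the tower -/
noncomputable def Kc : ℕ ⥤ CochainComplex (ModSite.Mod O) ℤ :=
  Functor.ofSequence (X := fun n => (lvl O G n).K) (fun n => tr (lvl O G n))

lemma Kc_map_succ (n : ℕ) : (Kc O G).map (homOfLE (Nat.le_succ n)) = tr (lvl O G n) :=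
  Functor.ofSequence_map_homOfLE_succ _ n

lemma tr_π_ι (n : ℕ) : tr (lvl O G n) ≫ (lvl O G (n + 1)).π ≫ G.ιTruncLE (((n + 1 : ℕ) : ℤ) + 1) =
    (lvl O G n).π ≫ G.ιTruncLE ((n : ℤ) + 1) := by
  have h := tr_π (lvl O G n)
  show tr (lvl O G n) ≫ (next (lvl O G n)).π ≫ G.ιTruncLE (((n + 1 : ℕ) : ℤ) + 1) = _
  rw [← Category.assoc, h, Category.assoc, truncIncl_ι]

/-- the cocone with point `G` -/
noncomputable def coconeG : Cocone (Kc O G) where
  pt := G
  ι := NatTrans.ofSequence (F := Kc O G) (G := (Functor.const ℕ).obj G)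
    (fun n => (lvl O G n).π ≫ G.ιTruncLE ((n : ℤ) + 1)) (by
      intro n
      have h1 : (Kc O G).map (homOfLE (n.le_add_right 1)) = tr (lvl O G n) :=
        Functor.ofSequence_map_homOfLE_succ _ n
      rw [h1]
      show tr (lvl O G n) ≫ (lvl O G (n + 1)).π ≫ G.ιTruncLE (((n + 1 : ℕ) : ℤ) + 1) =
        ((lvl O G n).π ≫ G.ιTruncLE ((n : ℤ) + 1)) ≫ 𝟙 G
      rw [Category.comp_id]
      exact tr_π_ι O G n)

lemma coconeG_ι_app (n : ℕ) :
    (coconeG O G).ι.app n = (lvl O G n).π ≫ G.ιTruncLE ((n : ℤ) + 1) := rfl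

lemma homologyMap_coconeG (n : ℕ) (m : ℤ) : homologyMap ((coconeG O G).ι.app n) m =
    homologyMap (lvl O G n).π m ≫ homologyMap (G.ιTruncLE ((n : ℤ) + 1)) m := by
  rw [← homologyMap_comp]
  rfl

lemma mono_homologyMap_coconeG (n : ℕ) (m : ℤ) :
    Mono (homologyMap ((coconeG O G).ι.app n) m) := by
  haveI : QuasiIsoAt (lvl O G n).π m := (lvl O G n).qis.quasiIsoAt m
  haveI := mono_homologyMap_ιTruncLE G ((n : ℤ) + 1) m
  haveI : IsIso (homologyMap (lvl O G n).π m) := inferInstance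
  have h3 : Mono (homologyMap (lvl O G n).π m ≫ homologyMap (G.ιTruncLE ((n : ℤ) + 1)) m) :=
    mono_comp _ _
  rw [homologyMap_coconeG]
  exact h3

lemma isIso_homologyMap_coconeG (n : ℕ) (m : ℤ) (hm : m ≤ (n : ℤ) + 1) :
    IsIso (homologyMap ((coconeG O G).ι.app n) m) := by
  haveI : QuasiIsoAt (lvl O G n).π m := (lvl O G n).qis.quasiIsoAt m
  haveI := isIso_homologyMap_ιTruncLE G ((n : ℤ) + 1) m hm
  haveI : IsIso (homologyMap (lvl O G n).π m) := inferInstance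
  have h3 : IsIso (homologyMap (lvl O G n).π m ≫ homologyMap (G.ιTruncLE ((n : ℤ) + 1)) m) :=
    IsIso.comp_isIso
  rw [homologyMap_coconeG]
  exact h3

theorem quasiIso_desc : QuasiIso (colimit.desc (Kc O G) (coconeG O G)) := by
  rw [quasiIso_iff]
  intro m
  rw [quasiIsoAt_iff_isIso_homologyMap]
  haveI : Mono (homologyMap (colimit.desc (Kc O G) (coconeG O G)) m) := by
    refine KFlat13.mono_homologyMap_desc (colimit.cocone (Kc O G)) (colimit.isColimit (Kc O G))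
      (coconeG O G) m (fun i => ?_)
    haveI := mono_homologyMap_coconeG O G i m
    rw [kernel.ι_of_mono, zero_comp]
  haveI : Epi (homologyMap (colimit.desc (Kc O G) (coconeG O G)) m) := by
    obtain ⟨j, hj⟩ : ∃ j : ℕ, m ≤ (j : ℤ) + 1 := ⟨m.toNat, by lia⟩
    haveI := isIso_homologyMap_coconeG O G j m hj
    have h1 : homologyMap (colimit.ι (Kc O G) j) m ≫
        homologyMap (colimit.desc (Kc O G) (coconeG O G)) m =
          homologyMap ((coconeG O G).ι.app j) m := by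
      rw [← homologyMap_comp, colimit.ι_desc]
    haveI : Epi (homologyMap (colimit.ι (Kc O G) j) m ≫
        homologyMap (colimit.desc (Kc O G) (coconeG O G)) m) := by
      rw [h1]; infer_instance
    exact epi_of_epi (homologyMap (colimit.ι (Kc O G) j) m) _
  exact isIso_of_mono_of_epi _

/-- the tower of resolutions -/
theorem main :
    ∃ (Kc : ℕ ⥤ CochainComplex (ModSite.Mod O) ℤ) (π : ∀ n : ℕ, Kc.obj n ⟶ G.truncLE ((n : ℤ) + 1)),
      (∀ n : ℕ, Kc.map (homOfLE (Nat.le_succ n)) ≫ π (n + 1) ≫ G.ιTruncLE (((n + 1 : ℕ) : ℤ) + 1) =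
        π n ≫ G.ιTruncLE ((n : ℤ) + 1)) ∧
      (∀ n : ℕ, QuasiIso (π n) ∧ ∀ i : ℤ, Epi ((π n).f i)) ∧
      (∀ n : ℕ, ∃ b : ℤ, (Kc.obj n).IsStrictlyLE b) ∧
      (∀ (n : ℕ) (i : ℤ), ∃ (ι : Type u) (U : ι → C),
        Nonempty ((Kc.obj n).X i ≅ ∐ fun j => ModSite.freeOn O (U j))) ∧
      (∀ (n : ℕ) (i : ℤ), ∃ r : (Kc.obj (n + 1)).X i ⟶ (Kc.obj n).X i,
        (Kc.map (homOfLE (Nat.le_succ n))).f i ≫ r = 𝟙 _ ∧
        ∃ (ι : Type u) (U : ι → C),
          Nonempty (cokernel ((Kc.map (homOfLE (Nat.le_succ n))).f i) ≅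
            ∐ fun j => ModSite.freeOn O (U j))) ∧
      ∃ c : colimit Kc ⟶ G, (∀ n : ℕ, colimit.ι Kc n ≫ c = π n ≫ G.ιTruncLE ((n : ℤ) + 1)) ∧
        QuasiIso c := by
  refine ⟨Kc O G, fun n => (lvl O G n).π, ?_, ?_, ?_, ?_, ?_, ?_⟩
  · intro n
    rw [Kc_map_succ]
    exact tr_π_ι O G n
  · intro n
    exact ⟨(lvl O G n).qis, (lvl O G n).epi⟩
  · intro n
    exact ⟨(n : ℤ) + 2, (lvl O G n).le⟩
  · intro n i
    exact (lvl O G n).free i
  · intro n i
    rw [Kc_map_succ]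
    obtain ⟨r, hr, hP⟩ := psplit_tr (lvl O G n) i
    exact ⟨r, hr, hP⟩
  · refine ⟨colimit.desc (Kc O G) (coconeG O G), fun n => ?_, quasiIso_desc O G⟩
    exact colimit.ι_desc (coconeG O G) n

end Tower

end Groth.Agent.Helper9.RS5
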