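import Mathlib
import Groth.Prelude.Def_CohDer
import Groth.Prelude.Def_DerLim
import Groth.Agent.Helper9.CptR2
import Groth.Agent.Helper9.HP2
import Groth.Agent.Helper9.BR2v1
import Groth.Agent.Helper9.CO1
import Groth.Agent.Helper9.FN0
import Groth.Agent.Helper9.RS3
import Groth.Agent.Helper9.RS5

/-!
# A compact object of `D(A)` is a retract of a bounded complex with terms in an admissible class
-/

set_option autoImplicit false
set_option linter.style.haveILetI false
set_option linter.unusedSectionVars false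

namespace Groth.Agent.Helper9.CptR3

open CategoryTheory Limits HomologicalComplex
open Groth.Agent.Helper9 ZeroObject

universe v u

section Fin

variable {D : Type u} [Category.{v} D] [Preadditive D] [HasCoproducts.{v} D]

lemma fin_of_isCompactObject {E : D} (hE : CohDer.IsCompactObject E) {ι : Type v} (K : ι → D) :
    CP1.Fin K E :=
  (CO1.cohDer_bijective_iff K E).1 (hE ι K)

lemma hasCoproduct_nat (K : ℕ → D) : HasCoproduct K := by
  haveI : HasColimitsOfShape (Discrete ℕ) D :=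
    hasColimitsOfShape_of_equivalence (Discrete.equivalence (Equiv.ulift.{v} : ULift.{v} ℕ ≃ ℕ))
  infer_instance

lemma fin_nat_of_isCompactObject {E : D} (hE : CohDer.IsCompactObject E) (K : ℕ → D)
    [HasCoproduct K] : CP1.Fin K E :=
  FN0.fin_of_equiv (Equiv.ulift.{v} : ULift.{v} ℕ ≃ ℕ) K (fin_of_isCompactObject hE _)

end Fin

section Shift

variable {D : Type u} [Category.{v} D] [Preadditive D] [HasCoproducts.{v} D]
  [HasZeroObject D] [HasShift D ℤ]
  [∀ n : ℤ, (shiftFunctor D n).Additive] [Pretriangulated D]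

lemma fin_nat_shift_of_isCompactObject {E : D} (hE : CohDer.IsCompactObject E) (K : ℕ → D)
    [HasCoproduct K] : CP1.Fin K (E⟦(-1 : ℤ)⟧) := by
  haveI : HasCoproduct (fun i => (K i)⟦-(-1 : ℤ)⟧) := hasCoproduct_nat _
  exact FN0.fin_shift K (-1 : ℤ) E (fin_nat_of_isCompactObject hE _)

end Shift

variable {A : Type u} [Category.{v} A] [Abelian A] [IsGrothendieckAbelian.{v} A]
  [HasDerivedCategory.{v} A] [HasCoproducts.{v} (DerivedCategory A)]

open DerivedCategory

lemma isIso_homologyFunctor_map_Q {K L : CochainComplex A ℤ} (φ : K ⟶ L) (q : ℤ)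
    (h : IsIso (homologyMap φ q)) : IsIso ((DerivedCategory.homologyFunctor A q).map (Q.map φ)) := by
  have h' : IsIso ((HomologicalComplex.homologyFunctor A (ComplexShape.up ℤ) q).map φ) := h
  exact (NatIso.isIso_map_iff (homologyFunctorFactors A q) φ).2 h'

/-- maps from a compact object to a complex factor through a canonical truncation -/
lemma exists_factor_truncLE (G : CochainComplex A ℤ) {K : DerivedCategory A}
    (hK : CohDer.IsCompactObject K) (a : K ⟶ Q.obj G) :
    ∃ (N : ℤ) (aN : K ⟶ Q.obj (G.truncLE N)), a = aN ≫ Q.map (G.ιTruncLE N) := by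
  let E : ℕ → DerivedCategory A := fun n => Q.obj (G.truncLE (n : ℤ))
  let f : ∀ n, E n ⟶ E (n + 1) := fun n =>
    Q.map (RS5.truncIncl G (n : ℤ) ((n + 1 : ℕ) : ℤ) (by push_cast; lia))
  let i : ∀ n, E n ⟶ Q.obj G := fun n => Q.map (G.ιTruncLE (n : ℤ))
  haveI : HasCoproduct E := hasCoproduct_nat E
  have hfi : ∀ n, f n ≫ i (n + 1) = i n := by
    intro n
    show Q.map _ ≫ Q.map _ = Q.map _
    rw [← Functor.map_comp, RS5.truncIncl_ι]
  have hiso : ∀ q : ℤ, ∃ N : ℕ, ∀ n, N ≤ n →
      IsIso ((DerivedCategory.homologyFunctor A q).map (i n)) := by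
    intro q
    refine ⟨q.toNat, fun n hn => ?_⟩
    exact isIso_homologyFunctor_map_Q _ q
      (RS5.isIso_homologyMap_ιTruncLE G (n : ℤ) q (by lia))
  have hL := HP2.isHocolim_of_eventually_iso E f (Q.obj G) i hfi hiso
  obtain ⟨N, aN, h⟩ := BR2.exists_factor hL (fin_nat_of_isCompactObject hK E)
    (fin_nat_shift_of_isCompactObject hK E) a
  exact ⟨(N : ℤ), aN, h⟩

/-- maps from a compact object to a complex factor through a stupid truncation -/
lemma exists_factor_sg (P : CochainComplex A ℤ) {K : DerivedCategory A}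
    (hK : CohDer.IsCompactObject K) (a : K ⟶ Q.obj P) :
    ∃ (m : ℤ) (am : K ⟶ Q.obj (CptR2.sg P m)), a = am ≫ Q.map (CptR2.sgι P m) := by
  let E : ℕ → DerivedCategory A := fun n => Q.obj (CptR2.sg P (-(n : ℤ)))
  let f : ∀ n, E n ⟶ E (n + 1) := fun n =>
    Q.map (CptR2.sgTr P (-(n : ℤ)) (-((n + 1 : ℕ) : ℤ)) (by push_cast; lia))
  let i : ∀ n, E n ⟶ Q.obj P := fun n => Q.map (CptR2.sgι P (-(n : ℤ)))
  haveI : HasCoproduct E := hasCoproduct_nat E
  have hfi : ∀ n, f n ≫ i (n + 1) = i n := by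
    intro n
    show Q.map _ ≫ Q.map _ = Q.map _
    rw [← Functor.map_comp, CptR2.sgTr_ι]
  have hiso : ∀ q : ℤ, ∃ N : ℕ, ∀ n, N ≤ n →
      IsIso ((DerivedCategory.homologyFunctor A q).map (i n)) := by
    intro q
    refine ⟨(1 - q).toNat, fun n hn => ?_⟩
    exact isIso_homologyFunctor_map_Q _ q
      (CptR2.isIso_homologyMap_sgι P (-(n : ℤ)) q (by lia))
  have hL := HP2.isHocolim_of_eventually_iso E f (Q.obj P) i hfi hiso
  obtain ⟨N, aN, h⟩ := BR2.exists_factor hL (fin_nat_of_isCompactObject hK E)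
    (fin_nat_shift_of_isCompactObject hK E) a
  exact ⟨-(N : ℤ), aN, h⟩

lemma isStrictlyLE_zero (B : ℤ) : (0 : CochainComplex A ℤ).IsStrictlyLE B := by
  rw [CochainComplex.isStrictlyLE_iff]
  intro i _
  exact (HomologicalComplex.eval A (ComplexShape.up ℤ) i).map_isZero (isZero_zero _)

lemma hasCoproducts_zero : HasCoproducts.{0} A := by
  haveI : HasColimitsOfSize.{0, 0} A := hasColimitsOfSizeShrink.{0, 0, v, v} A
  intro J
  infer_instance

/-- **Bounded retract**: a compact object of `D(A)` is a retract of a bounded complex with terms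
in an admissible class. -/
theorem exists_bounded_retract
    {Pr : A → Prop}
    (hPr : haveI := hasCoproducts_zero (A := A); RS2.Adm Pr)
    (K : DerivedCategory A) (hK : CohDer.IsCompactObject K) :
    ∃ (L : CochainComplex A ℤ) (a b : ℤ), L.IsStrictlyGE a ∧ L.IsStrictlyLE b ∧
      (∀ i, Pr (L.X i)) ∧ Nonempty (Retract K (Q.obj L)) := by
  haveI := hasCoproducts_zero (A := A)
  haveI : HasColimitsOfShape ℕ A := HP2.hasColimitsOfShape_nat
  haveI : HasExactColimitsOfShape ℕ A := HP2.hasExactColimitsOfShape_nat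
  let G : CochainComplex A ℤ := Q.objPreimage K
  let eK : Q.obj G ≅ K := Q.objObjPreimageIso K
  -- stage 1
  obtain ⟨N, aN, h1⟩ := exists_factor_truncLE G hK eK.inv
  let T := G.truncLE N
  -- stage 2
  haveI : (0 : CochainComplex A ℤ).IsStrictlyLE (N + 1) := isStrictlyLE_zero _
  obtain ⟨P, ι, q, -, hq, -, hP, hsp⟩ :=
    RS3.exists_factorization hPr (0 : (0 : CochainComplex A ℤ) ⟶ T) (N + 1) N le_rfl
  haveI := hq
  haveI := hP
  have hPX : ∀ i, Pr (P.X i) := fun i =>
    RS1.PSplit.target hPr.iso hPr.sum (hsp i)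
      (hPr.zero _ ((HomologicalComplex.eval A (ComplexShape.up ℤ) i).map_isZero (isZero_zero _)))
  let i2 : K ⟶ Q.obj P := aN ≫ inv (Q.map q)
  let r2 : Q.obj P ⟶ K := Q.map q ≫ Q.map (G.ιTruncLE N) ≫ eK.hom
  have h2 : i2 ≫ r2 = 𝟙 K := by
    show (aN ≫ inv (Q.map q)) ≫ Q.map q ≫ Q.map (G.ιTruncLE N) ≫ eK.hom = 𝟙 K
    rw [Category.assoc, IsIso.inv_hom_id_assoc, ← Category.assoc, ← h1, Iso.inv_hom_id]
  -- stage 3
  obtain ⟨m, am, h3⟩ := exists_factor_sg P hK i2
  refine ⟨CptR2.sg P m, m, N + 1, CptR2.isStrictlyGE_sg P m, CptR2.isStrictlyLE_sg P m (N + 1),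
    fun i => ?_, ⟨⟨am, Q.map (CptR2.sgι P m) ≫ r2, ?_⟩⟩⟩
  · rcases CptR2.sg_X P m i with h | ⟨⟨e⟩⟩
    · exact hPr.zero _ h
    · exact hPr.iso _ _ e.symm (hPX i)
  · rw [← Category.assoc, ← h3, h2]

end Groth.Agent.Helper9.CptR3
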