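import Mathlib
import Groth.Agent.Helper1.Compact
import Groth.Agent.Helper4.CptFam
import Groth.Agent.Helper9.RS2

/-!
# Direct sums of members of a set of objects: admissibility, finite supports, complements
-/

set_option autoImplicit false
set_option linter.style.haveILetI false
set_option linter.unusedSectionVars false

namespace Groth.Agent.Helper9.CptR4

open CategoryTheory Limits
open Groth.Agent.Helper1.Compact Groth.Agent.Helper4.CptFam Groth.Agent.Helper9

universe v u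

section Proj

variable {D : Type u} [Category.{v} D] [Preadditive D] {ι : Type v} (X : ι → D) [HasCoproduct X]

lemma comp_one_sub_proj_of_subset {T : D} {x : T ⟶ ∐ X} {S S' : Finset ι}
    (h : x ≫ (𝟙 _ - proj X S) = 0) (hS : S ⊆ S') : x ≫ (𝟙 _ - proj X S') = 0 := by
  classical
  have h1 : (𝟙 _ - proj X S) ≫ (𝟙 _ - proj X S') = 𝟙 _ - proj X S' := by
    rw [one_sub_proj_comp, Finset.union_eq_right.2 hS]
  rw [← h1, ← Category.assoc, h, zero_comp]

lemma eq_comp_proj {T : D} {x : T ⟶ ∐ X} {S : Finset ι}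
    (h : x ≫ (𝟙 _ - proj X S) = 0) : x = x ≫ proj X S := by
  rw [Preadditive.comp_sub, Category.comp_id, sub_eq_zero] at h
  exact h

lemma proj_comp_one_sub_proj (S : Finset ι) : proj X S ≫ (𝟙 _ - proj X S) = 0 := by
  classical
  apply Sigma.hom_ext
  intro i
  rw [ι_proj_assoc, comp_zero]
  split_ifs with hi
  · rw [Preadditive.comp_sub, Category.comp_id, ι_proj, if_pos hi, sub_self]
  · rw [zero_comp]

lemma one_sub_proj_comp_proj (S : Finset ι) : (𝟙 _ - proj X S) ≫ proj X S = 0 := by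
  have h := proj_comp_one_sub_proj X S
  rw [Preadditive.comp_sub, Category.comp_id] at h
  rw [Preadditive.sub_comp, Category.id_comp]
  exact h

end Proj

variable {A : Type u} [Category.{v} A] [Abelian A] [HasCoproducts.{v} A] [HasFiniteBiproducts A]

/-- direct sums of members of `S` -/
def SPr (S : Set A) (X : A) : Prop :=
  ∃ (ι : Type v) (E : ι → A), (∀ i, E i ∈ S) ∧ Nonempty (X ≅ ∐ E)

/-- finite direct sums of members of `S` -/
def FPr (S : Set A) (X : A) : Prop :=
  ∃ (n : ℕ) (E : Fin n → A), (∀ j, E j ∈ S) ∧ Nonempty (X ≅ ⨁ E)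

variable {S : Set A}

lemma SPr.of_iso {X Y : A} (e : X ≅ Y) (h : SPr S X) : SPr S Y := by
  obtain ⟨ι, E, hE, ⟨f⟩⟩ := h
  exact ⟨ι, E, hE, ⟨e.symm ≪≫ f⟩⟩

lemma FPr.of_iso {X Y : A} (e : X ≅ Y) (h : FPr S X) : FPr S Y := by
  obtain ⟨n, E, hE, ⟨f⟩⟩ := h
  exact ⟨n, E, hE, ⟨e.symm ≪≫ f⟩⟩

lemma SPr.of_isZero {X : A} (h : IsZero X) : SPr S X := by
  refine ⟨PEmpty, fun j => j.elim, fun j => j.elim, ⟨h.iso ?_⟩⟩
  rw [IsZero.iff_id_eq_zero]
  apply Sigma.hom_ext
  intro j
  exact j.elim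

lemma FPr.of_isZero {X : A} (h : IsZero X) : FPr S X := by
  refine ⟨0, fun j => j.elim0, fun j => j.elim0, ⟨h.iso ?_⟩⟩
  rw [IsZero.iff_id_eq_zero]
  apply biproduct.hom_ext
  intro j
  exact j.elim0

lemma SPr.biprod {X Y : A} (hX : SPr S X) (hY : SPr S Y) : SPr S (X ⊞ Y) := by
  obtain ⟨ι₁, f₁, hf₁, ⟨e₁⟩⟩ := hX
  obtain ⟨ι₂, f₂, hf₂, ⟨e₂⟩⟩ := hY
  let c₁ : Cofan f₁ := Cofan.mk (∐ f₁) (Sigma.ι f₁)
  let c₂ : Cofan f₂ := Cofan.mk (∐ f₂) (Sigma.ι f₂)
  have h₁ : IsColimit c₁ := coproductIsCoproduct f₁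
  have h₂ : IsColimit c₂ := coproductIsCoproduct f₂
  let bc : BinaryCofan c₁.pt c₂.pt := (BinaryBiproduct.bicone (∐ f₁) (∐ f₂)).toCocone
  have hbc : IsColimit bc := BinaryBiproduct.isColimit _ _
  have hcomb := Cofan.combPairIsColimit h₁ h₂ hbc
  let e : (∐ f₁) ⊞ (∐ f₂) ≅ ∐ (Sum.elim f₁ f₂) :=
    hcomb.coconePointUniqueUpToIso (coproductIsCoproduct (Sum.elim f₁ f₂))
  refine ⟨ι₁ ⊕ ι₂, Sum.elim f₁ f₂, ?_, ⟨biprod.mapIso e₁ e₂ ≪≫ e⟩⟩
  rintro (j | j)
  · exact hf₁ j
  · exact hf₂ j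

lemma SPr.sigma [HasCoproducts.{0} A] (Z : ℕ → A) (hZ : ∀ n, SPr S (Z n)) : SPr S (∐ Z) := by
  choose ι g hg e using hZ
  refine ⟨Σ n, ι n, fun p => g p.1 p.2, fun p => hg p.1 p.2, ⟨?_⟩⟩
  exact Sigma.mapIso (fun n => (e n).some) ≪≫ sigmaSigmaIso ι g

/-- the class of direct sums of members of `S` is admissible when every object is a quotient of
such a direct sum -/
theorem adm [HasCoproducts.{0} A]
    (h1 : ∀ X : A, ∃ (ι : Type v) (E : ι → A) (π : ∐ E ⟶ X), (∀ i, E i ∈ S) ∧ Epi π) :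
    RS2.Adm (SPr S) where
  iso _ _ e h := SPr.of_iso e h
  zero _ h := SPr.of_isZero h
  sum _ _ hX hY := SPr.biprod hX hY
  sig Z hZ := SPr.sigma Z hZ
  enough X := by
    obtain ⟨ι, E, π, hE, hπ⟩ := h1 X
    exact ⟨∐ E, π, ⟨ι, E, hE, ⟨Iso.refl _⟩⟩, hπ⟩

/-- maps from a finite direct sum of members of `S` to a coproduct are finitely supported -/
lemma fSupp_of_fPr (H2 : ∀ E ∈ S, ∀ (ι : Type v) (F : ι → A), AllFSupp E F) {X : A}
    (hX : FPr S X) {ι : Type v} (F : ι → A) (u : X ⟶ ∐ F) : FSupp F u := by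
  classical
  obtain ⟨n, E, hE, ⟨e⟩⟩ := hX
  choose T hT using fun j => H2 (E j) (hE j) ι F (biproduct.ι E j ≫ e.inv ≫ u)
  refine ⟨Finset.univ.biUnion T, ?_⟩
  rw [← cancel_epi e.inv, comp_zero]
  apply biproduct.hom_ext'
  intro j
  rw [comp_zero]
  have h := comp_one_sub_proj_of_subset F (hT j)
    (Finset.subset_biUnion_of_mem T (Finset.mem_univ j))
  simpa only [Category.assoc] using h

section Compl

variable {ι : Type v} (E : ι → A) (F : Finset ι)

/-- enumeration of the finite set of indices -/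
noncomputable def enum : Fin F.card → ι := fun k => (F.equivFin.symm k).1

lemma enum_injective : Function.Injective (enum F) := fun _ _ h =>
  F.equivFin.symm.injective (Subtype.ext h)

lemma sum_enum {M : Type*} [AddCommMonoid M] (f : ι → M) :
    ∑ k : Fin F.card, f (enum F k) = ∑ i ∈ F, f i := by
  rw [← Finset.sum_coe_sort F f]
  exact Fintype.sum_equiv F.equivFin.symm _ _ (fun _ => rfl)

/-- the inclusion of the finite sub-sum -/
noncomputable def subIncl : (⨁ fun k : Fin F.card => E (enum F k)) ⟶ ∐ E :=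
  biproduct.desc (fun k => Sigma.ι E (enum F k))

/-- the projection to the finite sub-sum -/
noncomputable def subProj : ∐ E ⟶ ⨁ fun k : Fin F.card => E (enum F k) :=
  biproduct.lift (fun k => π E (enum F k))

lemma subIncl_subProj : subIncl E F ≫ subProj E F = 𝟙 _ := by
  classical
  apply biproduct.hom_ext'
  intro x
  apply biproduct.hom_ext
  intro y
  unfold subIncl subProj
  rw [biproduct.ι_desc_assoc, Category.assoc, biproduct.lift_π, Category.comp_id,
    biproduct.ι_π]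
  by_cases h : x = y
  · subst h
    rw [ι_π_self, dif_pos rfl]
    rfl
  · rw [dif_neg h, ι_π_of_ne]
    intro h'
    exact h (enum_injective F h')

lemma subProj_subIncl : subProj E F ≫ subIncl E F = proj E F := by
  classical
  unfold subIncl subProj
  rw [biproduct.lift_desc, proj_eq_sum]
  exact sum_enum F (fun i => π E i ≫ Sigma.ι E i)

lemma subIncl_one_sub_proj : subIncl E F ≫ (𝟙 _ - proj E F) = 0 := by
  rw [← subProj_subIncl, Preadditive.comp_sub, Category.comp_id, ← Category.assoc,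
    subIncl_subProj, Category.id_comp, sub_self]

/-- the finite sub-sum is the kernel of the complementary idempotent -/
noncomputable def isLimitSubIncl :
    IsLimit (KernelFork.ofι (subIncl E F) (subIncl_one_sub_proj E F)) :=
  KernelFork.IsLimit.ofι _ _ (fun t _ => t ≫ subProj E F)
    (fun t ht => by
      rw [Category.assoc, subProj_subIncl]
      exact (eq_comp_proj E ht).symm)
    (fun t ht m hm => by
      rw [← hm, Category.assoc, subIncl_subProj, Category.comp_id])

/-- the finite sub-sum is a finite direct sum of members of `S` -/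
lemma fPr_sub (hE : ∀ i, E i ∈ S) : FPr S (⨁ fun k : Fin F.card => E (enum F k)) :=
  ⟨F.card, fun k => E (enum F k), fun _ => hE _, ⟨Iso.refl _⟩⟩

end Compl

end Groth.Agent.Helper9.CptR4
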