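import Mathlib
import Groth.Prelude.Def_CohDer
import Groth.Agent.Helper4.CptSingle
import Groth.Agent.Helper9.CptR1
import Groth.Agent.Helper9.CptR3
import Groth.Agent.Helper9.CptR4

/-!
# Compact objects of `D(A)` are retracts of bounded complexes of finite direct sums
-/

set_option autoImplicit false
set_option linter.style.haveILetI false
set_option linter.unusedSectionVars false

namespace Groth.Agent.Helper9.CptR5

open CategoryTheory Limits HomologicalComplex
open Groth.Agent.Helper1.Compact Groth.Agent.Helper4.CptFam Groth.Agent.Helper9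
open Groth.Agent.Helper9.CptR4

universe v u

section Cmp

variable {C : Type*} [Category C] [Preadditive C] {D' : Type*} [Category D'] [Preadditive D']
  (G : C ⥤ D') [G.Additive] {ι : Type*} (E : ι → C) [HasCoproduct E]
  [HasCoproduct (fun i => G.obj (E i))]

end Cmp

variable {A : Type u} [Category.{v} A] [Abelian A] [IsGrothendieckAbelian.{v} A]
  [HasCoproducts.{v} A] [HasFiniteBiproducts A]
  [HasDerivedCategory.{v} A] [HasCoproducts.{v} (DerivedCategory A)]

open DerivedCategory

/-- the functor `X ↦ X[-c]` to the derived category -/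
noncomputable abbrev sQ (c : ℤ) : A ⥤ DerivedCategory A :=
  HomologicalComplex.single A (ComplexShape.up ℤ) c ⋙ Q

lemma isIso_sigmaComparison_sQ (c : ℤ) {ι : Type v} (E : ι → A) :
    IsIso (sigmaComparison (sQ (A := A) c) E) :=
  Groth.Agent.Helper4.CptSingle.isIso_sigmaComparison_single (A := A) c E

lemma sigmaComparison_map_one_sub_proj (c : ℤ) {ι : Type v} (E : ι → A) (F : Finset ι) :
    sigmaComparison (sQ (A := A) c) E ≫ (sQ c).map (𝟙 _ - proj E F) =
      (𝟙 _ - proj (fun i => (sQ (A := A) c).obj (E i)) F) ≫ sigmaComparison (sQ c) E := by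
  classical
  apply Sigma.hom_ext
  intro i
  rw [ι_comp_sigmaComparison_assoc, ← Functor.map_comp, Preadditive.comp_sub, Category.comp_id,
    ι_proj, Preadditive.sub_comp, Category.id_comp, Preadditive.comp_sub,
    ι_comp_sigmaComparison, ι_proj_assoc]
  by_cases hi : i ∈ F
  · rw [if_pos hi, if_pos hi, sub_self, ι_comp_sigmaComparison, sub_self, Functor.map_zero]
  · rw [if_neg hi, if_neg hi, sub_zero, zero_comp, sub_zero]

/-- compactness, applied to maps to a coproduct placed in a single degree -/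
lemma exists_finset_comp_eq_zero {K : DerivedCategory A} (hK : CohDer.IsCompactObject K) (c : ℤ)
    {ι : Type v} (E : ι → A)
    (x : K ⟶ Q.obj ((HomologicalComplex.single A (ComplexShape.up ℤ) c).obj (∐ E))) :
    ∃ F : Finset ι, x ≫ Q.map ((HomologicalComplex.single A (ComplexShape.up ℤ) c).map
      (𝟙 _ - proj E F)) = 0 := by
  haveI := isIso_sigmaComparison_sQ (A := A) c E
  let σ := sigmaComparison (sQ (A := A) c) E
  obtain ⟨F, hF⟩ := exists_one_sub_proj_comp_eq_zero hK (fun i => (sQ (A := A) c).obj (E i))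
    (x ≫ inv σ)
  refine ⟨F, ?_⟩
  have h1 : x = (x ≫ inv σ) ≫ σ := by rw [Category.assoc, IsIso.inv_hom_id, Category.comp_id]
  have h2 := sigmaComparison_map_one_sub_proj (A := A) c E F
  show x ≫ (sQ c).map (𝟙 _ - proj E F) = 0
  rw [h1, Category.assoc, h2, ← Category.assoc, hF, zero_comp]

/-- **The step**: make the term in degree `c` a finite direct sum. -/
theorem step {S : Set A} (H2 : ∀ E ∈ S, ∀ (ι : Type v) (F : ι → A), AllFSupp E F)
    {K : DerivedCategory A} (hK : CohDer.IsCompactObject K) (L : CochainComplex A ℤ) (c : ℤ)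
    (hc1 : FPr S (L.X (c - 1))) (hc : SPr S (L.X c)) (r : Retract K (Q.obj L)) :
    ∃ (L' : CochainComplex A ℤ) (j : L' ⟶ L), (∀ i, Mono (j.f i)) ∧
      (∀ i, i ≠ c → IsIso (j.f i)) ∧ FPr S (L'.X c) ∧ Nonempty (Retract K (Q.obj L')) := by
  classical
  obtain ⟨ι, E, hE, ⟨e⟩⟩ := hc
  obtain ⟨F₀, hF₀⟩ := fSupp_of_fPr H2 hc1 E (L.d (c - 1) c ≫ e.hom)
  have hd : ∀ (F : Finset ι), F₀ ⊆ F → ∀ i, (ComplexShape.up ℤ).Rel i c →
      L.d i c ≫ e.hom ≫ (𝟙 _ - proj E F) = 0 := by
    intro F hF i hi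
    obtain rfl : i = c - 1 := by
      have : i + 1 = c := hi
      lia
    have := comp_one_sub_proj_of_subset E hF₀ hF
    simpa only [Category.assoc] using this
  let πt : ∀ (F : Finset ι), F₀ ⊆ F →
      (L ⟶ (HomologicalComplex.single A (ComplexShape.up ℤ) c).obj (∐ E)) :=
    fun F hF => mkHomToSingle (e.hom ≫ (𝟙 _ - proj E F)) (hd F hF)
  obtain ⟨F₁, hF₁⟩ := exists_finset_comp_eq_zero hK c E
    (r.i ≫ Q.map (πt F₀ (Finset.Subset.refl _)))
  let F := F₀ ∪ F₁
  have hF : F₀ ⊆ F := Finset.subset_union_left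
  have hπt : πt F₀ (Finset.Subset.refl _) ≫
      (HomologicalComplex.single A (ComplexShape.up ℤ) c).map (𝟙 _ - proj E F₁) = πt F hF := by
    apply to_single_hom_ext
    rw [comp_f, mkHomToSingle_f, mkHomToSingle_f, single_map_f_self, Category.assoc,
      Category.assoc, Iso.inv_hom_id_assoc, ← Category.assoc (𝟙 _ - proj E F₀),
      one_sub_proj_comp, Category.assoc]
  have h0t : r.i ≫ Q.map (πt F hF) = 0 := by
    rw [← hπt, Functor.map_comp, ← Category.assoc]
    rw [Category.assoc] at hF₁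
    rw [Category.assoc]
    exact hF₁
  -- the complement
  let Z := kernel (proj E F)
  let q : ∐ E ⟶ Z := kernel.lift _ (𝟙 _ - proj E F) (one_sub_proj_comp_proj E F)
  have hq1 : q ≫ kernel.ι (proj E F) = 𝟙 _ - proj E F := kernel.lift_ι _ _ _
  have hq2 : kernel.ι (proj E F) ≫ q = 𝟙 Z := by
    rw [← cancel_mono (kernel.ι (proj E F)), Category.assoc, hq1, Preadditive.comp_sub,
      Category.comp_id, kernel.condition, sub_zero, Category.id_comp]
  have hq3 : (𝟙 _ - proj E F) ≫ q = q := by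
    rw [← hq1, Category.assoc, hq2, Category.comp_id]
  let π : L ⟶ (HomologicalComplex.single A (ComplexShape.up ℤ) c).obj Z :=
    πt F hF ≫ (HomologicalComplex.single A (ComplexShape.up ℤ) c).map q
  have hπf : π.f c = (e.hom ≫ q) ≫ (singleObjXSelf (ComplexShape.up ℤ) c Z).inv := by
    show (πt F hF).f c ≫ ((HomologicalComplex.single A (ComplexShape.up ℤ) c).map q).f c = _
    rw [mkHomToSingle_f, single_map_f_self, Category.assoc, Category.assoc,
      Iso.inv_hom_id_assoc, ← Category.assoc (𝟙 _ - proj E F), hq3, Category.assoc]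
  have h0 : r.i ≫ Q.map π = 0 := by
    show r.i ≫ Q.map (πt F hF ≫ _) = 0
    rw [Functor.map_comp, ← Category.assoc, h0t, zero_comp]
  have hepi : ∀ i, Epi (π.f i) := by
    intro i
    by_cases hi : i = c
    · subst hi
      rw [hπf]
      haveI : IsSplitEpi q := ⟨⟨kernel.ι _, hq2⟩⟩
      infer_instance
    · exact ⟨fun _ _ _ => (isZero_single_obj_X (ComplexShape.up ℤ) c Z i hi).eq_of_src _ _⟩
  obtain ⟨φ', hφ'⟩ := CptR1.exists_lift π hepi r.i h0
  refine ⟨kernel π, kernel.ι π, fun i => CptR1.mono_ι_f π i,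
    fun i hi => CptR1.isIso_ι_f π i (isZero_single_obj_X _ c Z i hi), ?_,
    ⟨⟨φ', Q.map (kernel.ι π) ≫ r.r, by rw [← Category.assoc, hφ', r.retract]⟩⟩⟩
  have hex := CptR1.exact_eval π c
  haveI : Mono ((CptR1.kerSC π).map (eval A (ComplexShape.up ℤ) c)).f := CptR1.mono_ι_f π c
  have hk1 := hex.fIsKernel
  have hk2 := KernelFork.isLimitOfIsLimitOfIff (isLimitSubIncl E F) (π.f c) e.symm (by
    intro W φ
    rw [hπf]
    show φ ≫ (𝟙 _ - proj E F) = 0 ↔
      φ ≫ e.inv ≫ (e.hom ≫ q) ≫ (singleObjXSelf (ComplexShape.up ℤ) c Z).inv = 0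
    have key : φ ≫ e.inv ≫ (e.hom ≫ q) ≫ (singleObjXSelf (ComplexShape.up ℤ) c Z).inv =
        (φ ≫ q) ≫ (singleObjXSelf (ComplexShape.up ℤ) c Z).inv := by
      simp only [Category.assoc, Iso.inv_hom_id_assoc]
    rw [key]
    constructor
    · intro h
      have h' : φ ≫ q = 0 := by
        rw [← cancel_mono (kernel.ι (proj E F)), Category.assoc, hq1, h, zero_comp]
      rw [h', zero_comp]
    · intro h
      have h' : φ ≫ q = 0 := by
        rw [← cancel_mono (singleObjXSelf (ComplexShape.up ℤ) c Z).inv, h, zero_comp]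
      rw [← hq1, ← Category.assoc, h', zero_comp])
  exact (fPr_sub E F hE).of_iso (hk2.conePointUniqueUpToIso hk1)

/-- the invariant of the induction -/
structure Inv (S : Set A) (K : DerivedCategory A) (a b c : ℤ) (L : CochainComplex A ℤ) :
    Prop where
  zero : ∀ i : ℤ, i < a ∨ b < i → IsZero (L.X i)
  spr : ∀ i : ℤ, c ≤ i → SPr S (L.X i)
  fpr : ∀ i : ℤ, i < c → FPr S (L.X i)
  retr : Nonempty (Retract K (Q.obj L))

lemma inv_succ {S : Set A} (H2 : ∀ E ∈ S, ∀ (ι : Type v) (F : ι → A), AllFSupp E F)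
    {K : DerivedCategory A} (hK : CohDer.IsCompactObject K) {a b c : ℤ}
    {L : CochainComplex A ℤ} (h : Inv S K a b c L) :
    ∃ L' : CochainComplex A ℤ, Inv S K a b (c + 1) L' := by
  obtain ⟨r⟩ := h.retr
  obtain ⟨L', j, hmono, hiso, hfin, hr⟩ :=
    step H2 hK L c (h.fpr (c - 1) (by lia)) (h.spr c le_rfl) r
  refine ⟨L', ⟨?_, ?_, ?_, hr⟩⟩
  · intro i hi
    haveI := hmono i
    exact IsZero.of_mono (j.f i) (h.zero i hi)
  · intro i hi
    haveI := hiso i (by lia)
    exact (h.spr i (by lia)).of_iso (asIso (j.f i)).symm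
  · intro i hi
    by_cases hic : i = c
    · subst hic
      exact hfin
    · haveI := hiso i hic
      exact (h.fpr i (by lia)).of_iso (asIso (j.f i)).symm

lemma inv_add {S : Set A} (H2 : ∀ E ∈ S, ∀ (ι : Type v) (F : ι → A), AllFSupp E F)
    {K : DerivedCategory A} (hK : CohDer.IsCompactObject K) {a b : ℤ}
    {L : CochainComplex A ℤ} (h : Inv S K a b a L) (k : ℕ) :
    ∃ L' : CochainComplex A ℤ, Inv S K a b (a + k) L' := by
  induction k with
  | zero => exact ⟨L, by simpa using h⟩
  | succ k ih =>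
    obtain ⟨L', h'⟩ := ih
    obtain ⟨L'', h''⟩ := inv_succ H2 hK h'
    refine ⟨L'', ?_⟩
    rw [Nat.cast_succ, ← add_assoc]
    exact h''

/-- **Core theorem**: if every object of `A` is a quotient of a direct sum of members of `S`, and
maps from members of `S` to direct sums are finitely supported, then every compact object of
`D(A)` is a retract of a bounded complex of finite direct sums of members of `S`. -/
theorem core (S : Set A)
    (h1 : ∀ X : A, ∃ (ι : Type v) (E : ι → A) (π : ∐ E ⟶ X), (∀ i, E i ∈ S) ∧ Epi π)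
    (H2 : ∀ E ∈ S, ∀ (ι : Type v) (F : ι → A), AllFSupp E F)
    (K : DerivedCategory A) (hK : CohDer.IsCompactObject K) :
    ∃ (L : CochainComplex A ℤ) (a b : ℤ),
      (∀ i : ℤ, i < a ∨ b < i → IsZero (L.X i)) ∧
      (∀ i : ℤ, ∃ (n : ℕ) (E : Fin n → A), (∀ j, E j ∈ S) ∧ Nonempty (L.X i ≅ ⨁ E)) ∧
      Nonempty (Retract K (DerivedCategory.Q.obj L)) := by
  haveI := CptR3.hasCoproducts_zero (A := A)
  obtain ⟨L, a, b, hGE, hLE, hSP, hr⟩ := CptR3.exists_bounded_retract (adm h1) K hK
  haveI := hGE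
  haveI := hLE
  have h0 : Inv S K a b a L :=
    ⟨fun i hi => by
      rcases hi with hi | hi
      · exact L.isZero_of_isStrictlyGE a i hi
      · exact L.isZero_of_isStrictlyLE b i hi,
     fun i _ => hSP i, fun i hi => FPr.of_isZero (L.isZero_of_isStrictlyGE a i hi), hr⟩
  obtain ⟨L', h'⟩ := inv_add H2 hK h0 (b + 1 - a).toNat
  refine ⟨L', a, b, h'.zero, fun i => ?_, h'.retr⟩
  by_cases hi : i < a ∨ b < i
  · exact FPr.of_isZero (h'.zero i hi)
  · push Not at hi
    exact h'.fpr i (by lia)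

end Groth.Agent.Helper9.CptR5
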