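import Mathlib
import Groth.Agent.Helper4.CptSingle
import Groth.Agent.Helper4.CptFam

/-!
# Finite supports from `Hom(E, -)` commuting with direct sums
-/

set_option autoImplicit false
set_option linter.style.haveILetI false
set_option linter.unusedSectionVars false

namespace Groth.Agent.Helper9.CptR6

open CategoryTheory Limits Opposite
open Groth.Agent.Helper4.CptFam Groth.Agent.Helper4

universe v u

variable {A : Type u} [Category.{v} A] [Preadditive A]

/-- if `Hom(E', -)` preserves the coproduct of the family `F` then every map `E' ⟶ ∐ F` is
finitely supported -/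
lemma allFSupp_of_preserves (E' : A) {ι : Type v} (F : ι → A) [HasCoproduct F]
    [PreservesColimitsOfShape (Discrete ι) (preadditiveCoyoneda.obj (op E'))] :
    AllFSupp E' F := by
  intro u
  let G := preadditiveCoyoneda.obj (op E')
  have hc : IsColimit (G.mapCocone (colimit.cocone (Discrete.functor F))) :=
    isColimitOfPreserves G (colimit.isColimit _)
  have hx := CptSingle.mem_iSup_range_of_isColimit _ hc u
  refine AddSubgroup.iSup_induction _ (C := fun x : E' ⟶ ∐ F => FSupp F x) hx ?_ ?_ ?_
  · intro j x hx
    obtain ⟨y, rfl⟩ := hx
    exact FSupp.comp_ι j y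
  · exact FSupp.zero _
  · intro x y hx hy
    exact hx.add hy

end Groth.Agent.Helper9.CptR6
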