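import Mathlib
import Groth.Prelude.Def_CohCx
import Groth.Prelude.Def_ModSite
import Groth.Agent.Helper9.FreeOnHom

/-!
# Every module on a site with enough quasi-compact objects is a quotient of a direct sum of
modules `j_{U!} O_U` with `U` quasi-compact
-/

set_option autoImplicit false
set_option linter.style.haveILetI false
set_option linter.unusedSectionVars false

namespace Groth.Agent.Helper9.CptR7

open CategoryTheory Limits Opposite
open Groth.Agent.Helper9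

universe u

variable {C : Type u} [SmallCategory C] {J : GrothendieckTopology C} (O : Sheaf J CommRingCat.{u})

/-- reformulation of "every object has a covering by objects of `G`" -/
lemma exists_ofArrows (G : Set C)
    (hC : ∀ V : C, ∃ R ∈ J V, ∀ ⦃W : C⦄ (g : W ⟶ V), R g →
      ∃ (U : C) (a : W ⟶ U) (b : U ⟶ V), U ∈ G ∧ a ≫ b = g) (X : C) :
    ∃ (ι : Type u) (Y : ι → C) (f : ∀ i, Y i ⟶ X), Sieve.ofArrows Y f ∈ J X ∧ ∀ i, Y i ∈ G := by
  obtain ⟨R, hR, h⟩ := hC X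
  let ι : Type u := Σ W : C, {g : W ⟶ X // R g}
  have h' : ∀ i : ι, ∃ (U : C) (a : i.1 ⟶ U) (b : U ⟶ X), U ∈ G ∧ a ≫ b = i.2.1 :=
    fun i => h i.2.1 i.2.2
  choose U a b hU hab using h'
  refine ⟨ι, U, b, ?_, hU⟩
  refine J.superset_covering ?_ hR
  intro W g hg
  have := hab ⟨W, g, hg⟩
  rw [← show a ⟨W, g, hg⟩ ≫ b ⟨W, g, hg⟩ = g from this]
  exact Sieve.downward_closed _ (Sieve.ofArrows_mk U b ⟨W, g, hg⟩) _

/-- every module is a quotient of a direct sum of modules `j_{U!} O_U` with `U ∈ G` -/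
theorem exists_epi (G : Set C)
    (hG : ∀ X : C, ∃ (ι : Type u) (Y : ι → C) (f : ∀ i, Y i ⟶ X),
      Sieve.ofArrows Y f ∈ J X ∧ ∀ i, Y i ∈ G) (F : ModSite.Mod O) :
    ∃ (ι : Type u) (E : ι → ModSite.Mod O) (π : ∐ E ⟶ F),
      (∀ i, ∃ U ∈ G, E i = ModSite.freeOn O U) ∧ Epi π := by
  let ι : Type u := Σ U : G, (F.val.obj (op U.1) : Type u)
  let f : ι → ModSite.Mod O := fun j => ModSite.freeOn O j.1.1
  let e : ∐ f ⟶ F := Sigma.desc fun j => (FreeOnHom.homEquiv O j.1.1 F).symm j.2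
  refine ⟨ι, f, e, fun j => ⟨j.1.1, j.1.2, rfl⟩, ⟨?_⟩⟩
  intro F' a b hab
  apply FreeOnHom.hom_ext_of_generating G hG
  intro V hV s
  have h1 : (FreeOnHom.homEquiv O V F).symm s ≫ a = (FreeOnHom.homEquiv O V F).symm s ≫ b := by
    have h2 := Sigma.ι f ⟨⟨V, hV⟩, s⟩ ≫= hab
    rw [Sigma.ι_desc_assoc, Sigma.ι_desc_assoc] at h2
    exact h2
  have h3 := congrArg (FreeOnHom.homEquiv O V F') h1
  rw [FreeOnHom.homEquiv_comp, FreeOnHom.homEquiv_comp, Equiv.apply_symm_apply] at h3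
  exact h3

end Groth.Agent.Helper9.CptR7
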