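import Mathlib
set_option autoImplicit false

namespace Groth.Agent.Helper9.Cross

open MvPolynomial

universe u

variable (k : Type u) [Field k]

/-- the ideal `(XY)` of `k[X,Y]` -/
noncomputable abbrev I : Ideal (MvPolynomial (Fin 2) k) :=
  Ideal.span {(MvPolynomial.X 0 * MvPolynomial.X 1 : MvPolynomial (Fin 2) k)}

lemma mem_I_iff (F : MvPolynomial (Fin 2) k) :
    F ∈ I k ↔ ∀ m ∈ F.support, 1 ≤ m 0 ∧ 1 ≤ m 1 := by
  have h1 : (MvPolynomial.X 0 * MvPolynomial.X 1 : MvPolynomial (Fin 2) k) =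
      monomial (Finsupp.single 0 1 + Finsupp.single 1 1) 1 := by
    rw [X, X, monomial_mul, one_mul]
  have h2 : ({(MvPolynomial.X 0 * MvPolynomial.X 1 : MvPolynomial (Fin 2) k)} : Set _) =
      (fun s => monomial s (1 : k)) '' {Finsupp.single 0 1 + Finsupp.single 1 1} := by
    rw [Set.image_singleton, h1]
  show F ∈ Ideal.span _ ↔ _
  rw [h2, mem_ideal_span_monomial_image]
  refine forall₂_congr fun m _ => ?_
  simp only [Set.mem_singleton_iff, exists_eq_left, Finsupp.le_def, Fin.forall_fin_two]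
  simp

/-- Euler derivation `X_i ∂_i` -/
noncomputable def E (i : Fin 2) : Derivation k (MvPolynomial (Fin 2) k) (MvPolynomial (Fin 2) k) :=
  (MvPolynomial.X i : MvPolynomial (Fin 2) k) • pderiv i

lemma E_apply (i : Fin 2) (F : MvPolynomial (Fin 2) k) : E k i F = X i * pderiv i F := rfl

lemma coeff_E (i : Fin 2) (F : MvPolynomial (Fin 2) k) (m : Fin 2 →₀ ℕ) :
    coeff m (E k i F) = (m i : k) * coeff m F := by
  induction F using MvPolynomial.induction_on' with
  | monomial u a =>
    rw [E_apply, X_mul_pderiv_monomial, coeff_smul, coeff_monomial]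
    split_ifs with h
    · rw [h, nsmul_eq_mul]
    · simp
  | add p q hp hq => rw [map_add, coeff_add, coeff_add, hp, hq, mul_add]

lemma E_mem (i : Fin 2) (F : MvPolynomial (Fin 2) k) (hF : F ∈ I k) : E k i F ∈ I k := by
  rw [mem_I_iff] at hF ⊢
  intro m hm
  apply hF
  rw [mem_support_iff] at hm ⊢
  rw [coeff_E] at hm
  exact right_ne_zero_of_mul hm

/-- the induced derivation on the quotient -/
noncomputable def Ebar (i : Fin 2) : Derivation k (MvPolynomial (Fin 2) k ⧸ I k)
    (MvPolynomial (Fin 2) k ⧸ I k) :=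
  Derivation.liftOfRightInverse (f := Ideal.Quotient.mkₐ k (I k))
    (f_inv := Function.surjInv (Ideal.Quotient.mkₐ_surjective k (I k)))
    (Function.rightInverse_surjInv _) (d := E k i) (by
      intro x hx
      rw [Ideal.Quotient.mkₐ_eq_mk, Ideal.Quotient.eq_zero_iff_mem] at hx ⊢
      exact E_mem k i x hx)

lemma Ebar_mk (i : Fin 2) (F : MvPolynomial (Fin 2) k) :
    Ebar k i (Ideal.Quotient.mk (I k) F) = Ideal.Quotient.mk (I k) (E k i F) :=
  Derivation.liftOfRightInverse_apply (f := Ideal.Quotient.mkₐ k (I k)) _ _ F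

/-- key: a class killed by both Euler derivations is constant -/
lemma const_of_E [CharZero k] (F : MvPolynomial (Fin 2) k)
    (h0 : E k 0 F ∈ I k) (h1 : E k 1 F ∈ I k) :
    F - C (coeff 0 F) ∈ I k := by
  rw [mem_I_iff] at h0 h1 ⊢
  intro m hm
  rw [mem_support_iff, coeff_sub, coeff_C] at hm
  have hm0 : m ≠ 0 := by
    rintro rfl
    simp at hm
  have hmF : coeff m F ≠ 0 := by
    rw [if_neg (Ne.symm hm0), sub_zero] at hm
    exact hm
  have : m 0 ≠ 0 ∨ m 1 ≠ 0 := by
    by_contra hcon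
    push Not at hcon
    apply hm0
    ext j
    fin_cases j
    · exact hcon.1
    · exact hcon.2
  rcases this with h | h
  · apply h0
    rw [mem_support_iff, coeff_E]
    exact mul_ne_zero (Nat.cast_ne_zero.mpr h) hmF
  · apply h1
    rw [mem_support_iff, coeff_E]
    exact mul_ne_zero (Nat.cast_ne_zero.mpr h) hmF

lemma const_of_Ebar [CharZero k] (P : MvPolynomial (Fin 2) k ⧸ I k)
    (h0 : Ebar k 0 P = 0) (h1 : Ebar k 1 P = 0) :
    P ∈ Set.range (algebraMap k (MvPolynomial (Fin 2) k ⧸ I k)) := by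
  obtain ⟨F, rfl⟩ := Ideal.Quotient.mk_surjective P
  rw [Ebar_mk, Ideal.Quotient.eq_zero_iff_mem] at h0 h1
  have := const_of_E k F h0 h1
  refine ⟨coeff 0 F, ?_⟩
  rw [← Ideal.Quotient.eq_zero_iff_mem, map_sub, sub_eq_zero] at this
  rw [this]
  rfl

theorem main [CharZero k] (P : MvPolynomial (Fin 2) k ⧸ I k) :
    KaehlerDifferential.D k (MvPolynomial (Fin 2) k ⧸ I k) P = 0 ↔
      P ∈ Set.range (algebraMap k (MvPolynomial (Fin 2) k ⧸ I k)) := by
  constructor
  · intro h
    apply const_of_Ebar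
    · rw [← (Ebar k 0).liftKaehlerDifferential_comp_D, h, map_zero]
    · rw [← (Ebar k 1).liftKaehlerDifferential_comp_D, h, map_zero]
  · rintro ⟨c, rfl⟩
    exact Derivation.map_algebraMap _ c

end Groth.Agent.Helper9.Cross
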