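import Groth.Agent.Helper9.Cross
import Mathlib
set_option autoImplicit false

namespace Groth.Agent.Helper9.Cross

open MvPolynomial

universe u

/-- descend a derivation along a surjection of algebras -/
theorem descend {k R A M : Type*} [CommRing k] [CommRing R] [CommRing A] [Algebra k R] [Algebra k A]
    [Algebra R A] [IsScalarTower k R A] [AddCommGroup M] [Module k M] [Module R M] [Module A M]
    [IsScalarTower k R M] [IsScalarTower k A M] [IsScalarTower R A M]
    (hsurj : Function.Surjective (algebraMap R A)) (d : Derivation k R M)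
    (hd : ∀ x, algebraMap R A x = 0 → d x = 0) :
    ∃ δ : Derivation k A M, ∀ x, δ (algebraMap R A x) = d x := by
  let s : A → R := Function.surjInv hsurj
  have hs : ∀ a, algebraMap R A (s a) = a := Function.surjInv_eq hsurj
  have hwd : ∀ x y : R, algebraMap R A x = algebraMap R A y → d x = d y := by
    intro x y hxy
    rw [← sub_eq_zero, ← map_sub]
    apply hd
    rw [map_sub, hxy, sub_self]
  refine ⟨{ toFun := fun a => d (s a)
            map_add' := ?_
            map_smul' := ?_
            map_one_eq_zero' := ?_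
            leibniz' := ?_ }, ?_⟩
  · intro a b
    rw [← map_add]
    apply hwd
    rw [map_add, hs, hs, hs]
  · intro c a
    simp only [RingHom.id_apply]
    rw [← d.map_smul]
    apply hwd
    rw [hs, Algebra.smul_def c (s a), map_mul, hs, ← IsScalarTower.algebraMap_apply, ← Algebra.smul_def]
  · show d (s 1) = 0
    rw [← d.map_one_eq_zero]
    apply hwd
    rw [hs, map_one]
  · intro a b
    show d (s (a * b)) = a • d (s b) + b • d (s a)
    have : d (s (a * b)) = d (s a * s b) := by
      apply hwd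
      rw [hs, map_mul, hs, hs]
    rw [this, d.leibniz, ← hs a, ← hs b, algebraMap_smul, algebraMap_smul, hs, hs]
  · intro x
    show d (s (algebraMap R A x)) = d x
    apply hwd
    rw [hs]

end Groth.Agent.Helper9.Cross

namespace Groth.Agent.Helper9.Cross

open MvPolynomial

universe u

variable (k : Type u) [Field k]

noncomputable abbrev J : Ideal (Polynomial k) := Ideal.span {(Polynomial.X ^ 3 : Polynomial k)}

noncomputable def psi : MvPolynomial (Fin 2) k →ₐ[k] (Polynomial k ⧸ J k) :=
  (Ideal.Quotient.mkₐ k (J k)).comp (aeval ![Polynomial.X, Polynomial.X ^ 2])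

lemma psi_X0 : psi k (X 0) = Ideal.Quotient.mk (J k) Polynomial.X := by
  simp [psi]

lemma psi_X1 : psi k (X 1) = Ideal.Quotient.mk (J k) (Polynomial.X ^ 2) := by
  simp [psi]

lemma psi_I (F : MvPolynomial (Fin 2) k) (hF : F ∈ I k) : psi k F = 0 := by
  have : I k ≤ RingHom.ker (psi k) := by
    rw [Ideal.span_le, Set.singleton_subset_iff]
    show psi k (X 0 * X 1) = 0
    rw [map_mul, psi_X0, psi_X1, ← map_mul, Ideal.Quotient.eq_zero_iff_mem]
    apply Ideal.subset_span
    rw [Set.mem_singleton_iff]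
    ring
  exact this hF

noncomputable def phi : (MvPolynomial (Fin 2) k ⧸ I k) →ₐ[k] (Polynomial k ⧸ J k) :=
  Ideal.Quotient.liftₐ (I k) (psi k) (psi_I k)

lemma phi_mk (F : MvPolynomial (Fin 2) k) : phi k (Ideal.Quotient.mk (I k) F) = psi k F := rfl

lemma X2_ne : Ideal.Quotient.mk (J k) (Polynomial.X ^ 2) ≠ 0 := by
  rw [Ne, Ideal.Quotient.eq_zero_iff_mem, Ideal.mem_span_singleton, Polynomial.X_pow_dvd_iff]
  intro h
  have := h 2 (by norm_num)
  simp at this

theorem xdy_ne_zero :
    (Ideal.Quotient.mk (I k) (X 0)) •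
      KaehlerDifferential.D k (MvPolynomial (Fin 2) k ⧸ I k) (Ideal.Quotient.mk (I k) (X 1)) ≠ 0 := by
  let _ : Algebra (MvPolynomial (Fin 2) k ⧸ I k) (Polynomial k ⧸ J k) := (phi k).toRingHom.toAlgebra
  let _ : Algebra (MvPolynomial (Fin 2) k) (Polynomial k ⧸ J k) := (psi k).toRingHom.toAlgebra
  have t1 : IsScalarTower k (MvPolynomial (Fin 2) k ⧸ I k) (Polynomial k ⧸ J k) :=
    .of_algebraMap_eq (fun c => ((phi k).commutes c).symm)
  have t2 : IsScalarTower k (MvPolynomial (Fin 2) k) (Polynomial k ⧸ J k) :=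
    .of_algebraMap_eq (fun c => ((psi k).commutes c).symm)
  have t3 : IsScalarTower (MvPolynomial (Fin 2) k) (MvPolynomial (Fin 2) k ⧸ I k) (Polynomial k ⧸ J k) :=
    ⟨fun x y z => by
      obtain ⟨y, rfl⟩ := Ideal.Quotient.mk_surjective y
      show phi k (Ideal.Quotient.mk (I k) (x * y)) * z = psi k x * (phi k (Ideal.Quotient.mk (I k) y) * z)
      rw [phi_mk, phi_mk, map_mul, mul_assoc]⟩
  let d : Derivation k (MvPolynomial (Fin 2) k) (Polynomial k ⧸ J k) :=
    mkDerivation k ![Ideal.Quotient.mk (J k) (-1), Ideal.Quotient.mk (J k) Polynomial.X]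
  have hd0 : d (X 0) = Ideal.Quotient.mk (J k) (-1) := by simp [d, mkDerivation_X]
  have hd1 : d (X 1) = Ideal.Quotient.mk (J k) Polynomial.X := by simp [d, mkDerivation_X]
  have hsm : ∀ (F : MvPolynomial (Fin 2) k) (m : Polynomial k ⧸ J k), F • m = psi k F * m :=
    fun F m => rfl
  have hdXY : d (X 0 * X 1) = 0 := by
    rw [d.leibniz, hd0, hd1, hsm, hsm, psi_X0, psi_X1, ← map_mul, ← map_mul,
      ← map_add, Ideal.Quotient.eq_zero_iff_mem]
    have : (Polynomial.X * Polynomial.X + Polynomial.X ^ 2 * -1 : Polynomial k) = 0 := by ring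
    rw [this]; exact Ideal.zero_mem _
  have hdI : ∀ x, algebraMap (MvPolynomial (Fin 2) k) (MvPolynomial (Fin 2) k ⧸ I k) x = 0 → d x = 0 := by
    intro x hx
    rw [Ideal.Quotient.algebraMap_eq, Ideal.Quotient.eq_zero_iff_mem, Ideal.mem_span_singleton] at hx
    obtain ⟨G, rfl⟩ := hx
    rw [d.leibniz, hdXY, hsm, hsm, mul_zero, add_zero, psi_I k _ (Ideal.subset_span rfl), zero_mul]
  obtain ⟨δ, hδ⟩ := descend (k := k) (R := MvPolynomial (Fin 2) k) (A := MvPolynomial (Fin 2) k ⧸ I k)
    (M := Polynomial k ⧸ J k) Ideal.Quotient.mk_surjective d hdI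
  intro h
  have h2 := congrArg δ.liftKaehlerDifferential h
  rw [map_smul, Derivation.liftKaehlerDifferential_comp_D, map_zero] at h2
  have h3 : δ (Ideal.Quotient.mk (I k) (X 1)) = Ideal.Quotient.mk (J k) Polynomial.X := by
    rw [← hd1]; exact hδ (X 1)
  rw [h3] at h2
  have h4 : (Ideal.Quotient.mk (I k) (X 0 : MvPolynomial (Fin 2) k)) •
      (Ideal.Quotient.mk (J k) Polynomial.X) = Ideal.Quotient.mk (J k) (Polynomial.X ^ 2) := by
    show phi k (Ideal.Quotient.mk (I k) (X 0)) * _ = _
    rw [phi_mk, psi_X0, ← map_mul]; congr 1; ring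
  rw [h4] at h2
  exact X2_ne k h2

theorem not_surj [CharZero k] :
    ¬ Function.Surjective (KaehlerDifferential.D k (MvPolynomial (Fin 2) k ⧸ I k)) := by
  intro hsurj
  obtain ⟨P, hP⟩ := hsurj ((Ideal.Quotient.mk (I k) (X 0)) •
      KaehlerDifferential.D k (MvPolynomial (Fin 2) k ⧸ I k) (Ideal.Quotient.mk (I k) (X 1)))
  have hE : ∀ i : Fin 2, Ebar k i P = 0 := by
    intro i
    rw [← (Ebar k i).liftKaehlerDifferential_comp_D, hP, map_smul,
      Derivation.liftKaehlerDifferential_comp_D, Ebar_mk, smul_eq_mul, ← map_mul,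
      Ideal.Quotient.eq_zero_iff_mem, E_apply]
    fin_cases i
    · simp [pderiv_X]
    · simp only [pderiv_X, Fin.mk_one, Pi.single_eq_same, mul_one]
      exact Ideal.subset_span rfl
  have hc := (main k P).mpr (const_of_Ebar k P (hE 0) (hE 1))
  rw [hc] at hP
  exact xdy_ne_zero k hP.symm

end Groth.Agent.Helper9.Cross
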