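import Groth.Agent.Helper9.CubicEckardt

/-!
# From homogeneous cubic polynomials over ℂ to symmetric trilinear forms
-/

set_option linter.unusedSimpArgs false

namespace Groth.Agent.Helper9.CubicForm

open MvPolynomial Module

variable {n : ℕ}

lemma exists_split (d : Fin n →₀ ℕ) (k : ℕ) (hd : d.degree = k + 1) :
    ∃ (i : Fin n) (d' : Fin n →₀ ℕ), d = d' + Finsupp.single i 1 ∧ d'.degree = k := by
  have hd0 : d ≠ 0 := by
    rintro rfl
    simp at hd
  obtain ⟨i, hi⟩ : ∃ i, d i ≠ 0 := by
    by_contra h
    push Not at h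
    exact hd0 (Finsupp.ext h)
  refine ⟨i, d - Finsupp.single i 1, ?_, ?_⟩
  · ext j
    by_cases hj : j = i
    · subst hj
      simp
      omega
    · simp [Finsupp.single_apply, Ne.symm hj]
  · have h1 : d = (d - Finsupp.single i 1) + Finsupp.single i 1 := by
      ext j
      by_cases hj : j = i
      · subst hj
        simp
        omega
      · simp [Finsupp.single_apply, Ne.symm hj]
    have h2 := congrArg Finsupp.degree h1
    rw [map_add, Finsupp.degree_single, hd] at h2
    omega

/-- induction principle for homogeneous cubics -/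
theorem cubic_induction {P : MvPolynomial (Fin n) ℂ → Prop}
    (hmon : ∀ i j k : Fin n, P (X i * X j * X k)) (h0 : P 0)
    (hadd : ∀ p q, P p → P q → P (p + q)) (hsmul : ∀ (c : ℂ) p, P p → P (c • p))
    {f : MvPolynomial (Fin n) ℂ} (hf : f.IsHomogeneous 3) : P f := by
  rw [← mem_homogeneousSubmodule, homogeneousSubmodule_eq_finsupp_supported,
    AddMonoidAlgebra.supported_eq_span_single] at hf
  refine Submodule.span_induction ?_ h0 (fun p q _ _ hp hq => hadd p q hp hq)
    (fun r p _ h => hsmul r p h) hf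
  rintro _ ⟨d, hd, rfl⟩
  obtain ⟨i, d₁, rfl, h1⟩ := exists_split d 2 hd
  obtain ⟨j, d₂, rfl, h2⟩ := exists_split d₁ 1 h1
  obtain ⟨k, d₃, rfl, h3⟩ := exists_split d₂ 0 h2
  have : d₃ = 0 := by
    rw [Finsupp.degree_eq_zero_iff] at h3
    exact h3
  subst this
  have : (AddMonoidAlgebra.single (0 + Finsupp.single k 1 + Finsupp.single j 1 + Finsupp.single i 1) (1:ℂ)
      : MvPolynomial (Fin n) ℂ) = X k * X j * X i := by
    rw [zero_add]
    simp only [X, monomial_mul, mul_one]
    rfl
  show P (AddMonoidAlgebra.single _ _)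
  rw [this]
  exact hmon k j i

/-- polarisation of a cubic -/
noncomputable def pol (f : MvPolynomial (Fin n) ℂ) (u v w : Fin n → ℂ) : ℂ :=
  (1/6 : ℂ) * (eval (u+v+w) f - eval (u+v) f - eval (u+w) f - eval (v+w) f
    + eval u f + eval v f + eval w f)

lemma pol_add_poly (f g : MvPolynomial (Fin n) ℂ) (u v w : Fin n → ℂ) :
    pol (f + g) u v w = pol f u v w + pol g u v w := by
  simp only [pol, map_add]; ring

lemma pol_smul_poly (c : ℂ) (f : MvPolynomial (Fin n) ℂ) (u v w : Fin n → ℂ) :
    pol (c • f) u v w = c * pol f u v w := by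
  simp only [pol, smul_eval]; ring

lemma pol_symm12 (f : MvPolynomial (Fin n) ℂ) (u v w : Fin n → ℂ) : pol f u v w = pol f v u w := by
  simp only [pol, add_comm u v]; ring

lemma pol_symm23 (f : MvPolynomial (Fin n) ℂ) (u v w : Fin n → ℂ) : pol f u v w = pol f u w v := by
  simp only [pol, add_assoc, add_comm v w]; ring

/-- the package of properties of the polarisation -/
def PolProps (f : MvPolynomial (Fin n) ℂ) : Prop :=
  (∀ u u' v w, pol f (u + u') v w = pol f u v w + pol f u' v w) ∧
  (∀ (c : ℂ) u v w, pol f (c • u) v w = c * pol f u v w) ∧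
  (∀ v, pol f v v v = eval v f) ∧
  (∀ v w, ∑ i, w i * eval v (pderiv i f) = 3 * pol f v v w)

lemma polProps_of_homogeneous {f : MvPolynomial (Fin n) ℂ} (hf : f.IsHomogeneous 3) :
    PolProps f := by
  refine cubic_induction (P := PolProps) ?_ ?_ ?_ ?_ hf
  · intro i j k
    refine ⟨?_, ?_, ?_, ?_⟩
    · intro u u' v w
      simp only [pol, map_mul, eval_X, Pi.add_apply]
      ring
    · intro c u v w
      simp only [pol, map_mul, eval_X, Pi.add_apply, Pi.smul_apply, smul_eq_mul]
      ring
    · intro v
      simp only [pol, map_mul, eval_X, Pi.add_apply]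
      ring
    · intro v w
      simp only [pol, map_mul, eval_X, Pi.add_apply, Derivation.leibniz, pderiv_X, smul_eq_mul,
        map_add, Pi.single_apply]
      simp only [apply_ite (eval v), map_one, map_zero, mul_ite, mul_one, mul_zero, mul_add,
        Finset.sum_add_distrib, Finset.sum_ite_eq, Finset.mem_univ, if_true]
      ring
  · refine ⟨?_, ?_, ?_, ?_⟩ <;> intros <;> simp [pol]
  · rintro p q ⟨a1, a2, a3, a4⟩ ⟨b1, b2, b3, b4⟩
    refine ⟨?_, ?_, ?_, ?_⟩
    · intro u u' v w
      simp only [pol_add_poly, a1, b1]; ring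
    · intro c u v w
      simp only [pol_add_poly, a2, b2]; ring
    · intro v
      simp only [pol_add_poly, a3, b3, map_add]
    · intro v w
      simp only [pol_add_poly, map_add, mul_add, Finset.sum_add_distrib, a4, b4]
  · rintro c p ⟨a1, a2, a3, a4⟩
    refine ⟨?_, ?_, ?_, ?_⟩
    · intro u u' v w
      simp only [pol_smul_poly, a1]; ring
    · intro c' u v w
      simp only [pol_smul_poly, a2]; ring
    · intro v
      simp only [pol_smul_poly, a3, smul_eval]
    · intro v w
      rw [pol_smul_poly, ← mul_assoc, mul_comm 3 c, mul_assoc, ← a4, Finset.mul_sum]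
      refine Finset.sum_congr rfl fun i _ => ?_
      rw [Derivation.map_smul, smul_eval]
      ring

/-- the symmetric trilinear form of a homogeneous cubic polynomial -/
noncomputable def triOf (f : MvPolynomial (Fin n) ℂ) (hf : f.IsHomogeneous 3) :
    Tri (Fin n → ℂ) where
  T := LinearMap.mk₂ ℂ
    (fun u v => ({ toFun := fun w => pol f u v w
                   map_add' := fun w w' => by
                    rw [pol_symm23 f u v (w + w'), pol_symm12 f u (w + w') v,
                      (polProps_of_homogeneous hf).1, pol_symm12 f w u v, pol_symm23 f u w v,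
                      pol_symm12 f w' u v, pol_symm23 f u w' v]
                   map_smul' := fun c w => by
                    rw [pol_symm23 f u v (c • w), pol_symm12 f u (c • w) v,
                      (polProps_of_homogeneous hf).2.1, pol_symm12 f w u v, pol_symm23 f u w v]
                    rfl } : (Fin n → ℂ) →ₗ[ℂ] ℂ))
    (fun u u' v => LinearMap.ext fun w => (polProps_of_homogeneous hf).1 u u' v w)
    (fun c u v => LinearMap.ext fun w => (polProps_of_homogeneous hf).2.1 c u v w)
    (fun u v v' => LinearMap.ext fun w => by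
      show pol f u (v + v') w = pol f u v w + pol f u v' w
      rw [pol_symm12 f u (v + v') w, (polProps_of_homogeneous hf).1, pol_symm12 f v u w,
        pol_symm12 f v' u w])
    (fun c u v => LinearMap.ext fun w => by
      show pol f u (c • v) w = c * pol f u v w
      rw [pol_symm12 f u (c • v) w, (polProps_of_homogeneous hf).2.1, pol_symm12 f v u w])
  s12 := fun u v w => pol_symm12 f u v w
  s23 := fun u v w => pol_symm23 f u v w

lemma triOf_F (f : MvPolynomial (Fin n) ℂ) (hf : f.IsHomogeneous 3) (v : Fin n → ℂ) :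
    (triOf f hf).F v = eval v f := (polProps_of_homogeneous hf).2.2.1 v

lemma triOf_pderiv (f : MvPolynomial (Fin n) ℂ) (hf : f.IsHomogeneous 3) (v w : Fin n → ℂ) :
    ∑ i, w i * eval v (pderiv i f) = 3 * (triOf f hf).T v v w :=
  (polProps_of_homogeneous hf).2.2.2 v w

lemma triOf_smooth (f : MvPolynomial (Fin n) ℂ) (hf : f.IsHomogeneous 3)
    (hsm : ∀ v : Fin n → ℂ, v ≠ 0 → eval v f = 0 → ∃ i : Fin n, eval v (pderiv i f) ≠ 0) :
    (triOf f hf).Smooth := by
  intro v hv hF
  rw [triOf_F] at hF
  obtain ⟨i, hi⟩ := hsm v hv hF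
  refine ⟨Pi.single i 1, fun h => hi ?_⟩
  have := triOf_pderiv f hf v (Pi.single i 1)
  rw [h, mul_zero] at this
  simpa [Pi.single_apply] using this

/-- evaluation of a linear substitution -/
lemma eval_aeval_matrix (A : Matrix (Fin n) (Fin n) ℂ) (f : MvPolynomial (Fin n) ℂ) (v : Fin n → ℂ) :
    eval v (aeval (fun i : Fin n => ∑ j : Fin n, C (A i j) * X j) f) = eval (A.mulVec v) f := by
  induction f using MvPolynomial.induction_on with
  | C a => simp
  | add p q hp hq => simp only [map_add, hp, hq]
  | mul_X p i hp =>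
    simp only [map_mul, hp, aeval_X, eval_X, map_sum, eval_C]
    rfl

lemma triOf_inv (f : MvPolynomial (Fin n) ℂ) (hf : f.IsHomogeneous 3)
    (A : Matrix (Fin n) (Fin n) ℂ) (c : ℂ)
    (h : aeval (fun i : Fin n => ∑ j : Fin n, C (A i j) * X j) f = C c * f) (v : Fin n → ℂ) :
    (triOf f hf).F (Matrix.toLin' A v) = c * (triOf f hf).F v := by
  rw [triOf_F, triOf_F, Matrix.toLin'_apply, ← eval_aeval_matrix, h]
  simp

lemma triOf_isEckardt_iff (f : MvPolynomial (Fin n) ℂ) (hf : f.IsHomogeneous 3) (e : Fin n → ℂ) :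
    (triOf f hf).IsEckardt e ↔
      ∃ U : Fin 3 → Submodule ℂ (Fin n → ℂ), Function.Injective U ∧
        ∀ i : Fin 3, Module.finrank ℂ ↥(U i) = 2 ∧ e ∈ U i ∧ ∀ u ∈ U i, eval u f = 0 := by
  simp only [Tri.IsEckardt, triOf_F]

end Groth.Agent.Helper9.CubicForm
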