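import Groth.Agent.Helper9.CubicEckardt

/-!
# The reflection attached to an Eckardt point: existence and uniqueness
-/

set_option linter.unusedSimpArgs false

namespace Groth.Agent.Helper9.CubicForm

open Module

variable {V : Type*} [AddCommGroup V] [Module ℂ V] (C : Tri V)

/-- the structure attached to an Eckardt point: the functional `m` of its reflection -/
structure EData (e : V) where
  m : V →ₗ[ℂ] ℂ
  me : m e = 1
  hFe : C.F e = 0
  hQ : ∀ w w', C.T e w w' = C.T e e w * m w' + C.T e e w' * m w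

namespace EData
variable {C} {e : V} (D : EData C e)

lemma hq (h h' : V) (hh : D.m h = 0) (hh' : D.m h' = 0) : C.T e h h' = 0 := by
  rw [D.hQ, hh, hh']; ring

lemma inv (v : V) : C.F (v - (2 * D.m v) • e) = C.F v := by
  have : v - (2 * D.m v) • e = (1:ℂ) • v + (-(2 * D.m v)) • e := by
    rw [one_smul, neg_smul, sub_eq_add_neg]
  rw [this, C.expand2, D.hFe, C.s13 v v e, D.hQ v v, C.s12 v e e, C.s23 e v e]
  ring

include D in
lemma ne_zero : e ≠ 0 := by
  intro h
  have h1 : D.m e = D.m 0 := congrArg D.m h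
  rw [D.me, map_zero] at h1
  exact one_ne_zero h1

end EData

lemma exists_dual_eq_one [FiniteDimensional ℂ V] (e : V) (he : e ≠ 0) : ∃ φ : V →ₗ[ℂ] ℂ, φ e = 1 := by
  obtain ⟨φ, hφ⟩ : ∃ φ : Module.Dual ℂ V, φ e ≠ 0 := by
    by_contra h
    push Not at h
    exact he ((Module.forall_dual_apply_eq_zero_iff ℂ e).mp h)
  exact ⟨(φ e)⁻¹ • φ, by simp [hφ]⟩

theorem eData_of_isEckardt [FiniteDimensional ℂ V] (hV : finrank ℂ V = 4) (hs : C.Smooth) (e : V)
    (he : e ≠ 0) (hE : C.IsEckardt e) : Nonempty (EData C e) := by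
  obtain ⟨U, hUinj, hU⟩ := hE
  have hFe : C.F e = 0 := (hU 0).2.2 e (hU 0).2.1
  have hFe' : C.T e e e = 0 := hFe
  -- lines are tangent and asymptotic
  have hline : ∀ i, ∀ u ∈ U i, C.T e e u = 0 ∧ C.T e u u = 0 := by
    intro i u hu
    have h1 := (hU i).2.2 ((1:ℂ) • e + (1:ℂ) • u)
      ((U i).add_mem ((U i).smul_mem _ (hU i).2.1) ((U i).smul_mem _ hu))
    have h2 := (hU i).2.2 ((1:ℂ) • e + (-1:ℂ) • u)
      ((U i).add_mem ((U i).smul_mem _ (hU i).2.1) ((U i).smul_mem _ hu))
    rw [C.expand2, hFe, (hU i).2.2 u hu] at h1 h2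
    constructor
    · linear_combination (1/6:ℂ) * h1 - (1/6:ℂ) * h2
    · linear_combination (1/6:ℂ) * h1 + (1/6:ℂ) * h2
  obtain ⟨φ, hφ⟩ := exists_dual_eq_one e he
  -- direction vectors of the three lines
  have hdir : ∀ i, ∃ h, h ∈ U i ∧ φ h = 0 ∧ h ≠ 0 ∧ ∀ u ∈ U i, ∃ x y : ℂ, u = x • e + y • h := by
    intro i
    obtain ⟨y, hy⟩ := exists_linearIndependent_pair_of_one_lt_finrank (R := ℂ) (M := U i)
      (by rw [(hU i).1]; norm_num) (x := ⟨e, (hU i).2.1⟩) (by simpa using he)
    have hy' : LinearIndependent ℂ ![e, (y : V)] := by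
      rw [LinearIndependent.pair_iff] at hy ⊢
      intro s t hst
      apply hy s t
      ext
      simpa using hst
    have hind : LinearIndependent ℂ ![e, (y : V) - φ y • e] := by
      rw [LinearIndependent.pair_iff] at hy' ⊢
      intro s t hst
      have := hy' (s - t * φ y) t (by rw [← hst]; simp only [sub_smul, smul_sub, mul_smul]; abel)
      obtain ⟨h1, h2⟩ := this
      subst h2
      simpa using h1
    have hmem : (y : V) - φ y • e ∈ U i := (U i).sub_mem y.2 ((U i).smul_mem _ (hU i).2.1)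
    refine ⟨(y : V) - φ y • e, hmem, by simp [hφ], ?_, ?_⟩
    · intro h0
      rw [LinearIndependent.pair_iff] at hind
      have := (hind 0 1 (by rw [h0]; simp)).2
      exact one_ne_zero this
    · exact mem_span_pair_of_finrank_two (U i) (hU i).1 e _ (hU i).2.1 hmem hind
  choose h hhU hhφ hh0 hhspan using hdir
  have hhl : ∀ i, C.T e e (h i) = 0 := fun i => (hline i _ (hhU i)).1
  have hhq : ∀ i, C.T e (h i) (h i) = 0 := fun i => (hline i _ (hhU i)).2
  -- pairwise independent directions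
  have hpair : ∀ i j, i ≠ j → LinearIndependent ℂ ![h i, h j] := by
    intro i j hij
    rw [LinearIndependent.pair_iff]
    intro s t hst
    by_contra hne
    have ht : t ≠ 0 := by
      intro ht
      subst ht
      simp only [zero_smul, add_zero, smul_eq_zero] at hst
      rcases hst with h1 | h1
      · exact hne ⟨h1, rfl⟩
      · exact hh0 i h1
    have hj : h j = (-(s / t)) • h i := by
      have : t • h j = -(s • h i) := by
        rw [eq_neg_iff_add_eq_zero, add_comm]; exact hst
      calc h j = t⁻¹ • (t • h j) := by rw [smul_smul, inv_mul_cancel₀ ht, one_smul]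
        _ = _ := by rw [this, smul_neg, smul_smul, neg_smul]; congr 2; field_simp
    have hle : U j ≤ U i := by
      intro u hu
      obtain ⟨x, y, rfl⟩ := hhspan j u hu
      rw [hj]
      exact (U i).add_mem ((U i).smul_mem _ (hU i).2.1)
        ((U i).smul_mem _ ((U i).smul_mem _ (hhU i)))
    have := Submodule.eq_of_le_of_finrank_eq hle (by rw [(hU i).1, (hU j).1])
    exact hij (hUinj this).symm
  -- the plane K₀ = ker φ ⊓ ker ℓ
  have htr := exists_transverse C hs e φ hφ hFe
  have hK := finrank_K C hV e φ hφ hFe htr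
  have hmemK : ∀ i, h i ∈ LinearMap.ker φ ⊓ LinearMap.ker (C.T e e) := fun i => ⟨hhφ i, hhl i⟩
  have hspanK := mem_span_pair_of_finrank_two _ hK (h 0) (h 1) (hmemK 0) (hmemK 1)
    (hpair 0 1 (by decide))
  have h01 : C.T e (h 0) (h 1) = 0 := by
    obtain ⟨x, y, hxy⟩ := hspanK (h 2) (hmemK 2)
    have hx : x ≠ 0 := by
      rintro rfl
      have := LinearIndependent.pair_iff.mp (hpair 1 2 (by decide)) y (-1)
        (by rw [hxy]; simp)
      norm_num at this
    have hy : y ≠ 0 := by
      rintro rfl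
      have := LinearIndependent.pair_iff.mp (hpair 0 2 (by decide)) x (-1)
        (by rw [hxy]; simp)
      norm_num at this
    have h2 := hhq 2
    rw [hxy] at h2
    simp only [map_add, map_smul, LinearMap.add_apply, LinearMap.smul_apply, smul_eq_mul] at h2
    rw [C.s23 e (h 1) (h 0), hhq 0, hhq 1] at h2
    have : 2 * x * y * C.T e (h 0) (h 1) = 0 := by linear_combination h2
    simpa [hx, hy] using this
  have hKK : ∀ k k', φ k = 0 → C.T e e k = 0 → φ k' = 0 → C.T e e k' = 0 → C.T e k k' = 0 := by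
    intro k k' a1 a2 a3 a4
    obtain ⟨x, y, rfl⟩ := hspanK k ⟨a1, a2⟩
    obtain ⟨x', y', rfl⟩ := hspanK k' ⟨a3, a4⟩
    simp only [map_add, map_smul, LinearMap.add_apply, LinearMap.smul_apply, smul_eq_mul]
    rw [C.s23 e (h 1) (h 0), hhq 0, hhq 1, h01]
    ring
  have hWW : ∀ w w', C.T e e w = 0 → C.T e e w' = 0 → C.T e w w' = 0 := by
    intro w w' hw hw'
    have h1 := hKK (w - φ w • e) (w' - φ w' • e) (by simp [hφ])
      (by simp [hw, hFe']) (by simp [hφ]) (by simp [hw', hFe'])
    simp only [map_sub, map_smul, LinearMap.sub_apply, LinearMap.smul_apply, smul_eq_mul] at h1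
    rw [C.s23 e w e, hw, hw', hFe'] at h1
    linear_combination h1
  -- a vector with ℓ v₀ = 1
  obtain ⟨v₀, hv₀⟩ : ∃ v₀, C.T e e v₀ = 1 := by
    obtain ⟨w, hw⟩ := hs e he hFe
    exact ⟨(C.T e e w)⁻¹ • w, by simp [hw]⟩
  refine ⟨⟨C.T e v₀ - ((1/2 : ℂ) * C.T e v₀ v₀) • C.T e e, ?_, hFe, ?_⟩⟩
  · simp only [LinearMap.sub_apply, LinearMap.smul_apply, smul_eq_mul, hFe', mul_zero, sub_zero]
    rw [C.s23 e v₀ e, hv₀]
  · intro w w'
    have h1 := hWW (w - C.T e e w • v₀) (w' - C.T e e w' • v₀) (by simp [hv₀]) (by simp [hv₀])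
    simp only [map_sub, map_smul, LinearMap.sub_apply, LinearMap.smul_apply, smul_eq_mul] at h1
    simp only [LinearMap.sub_apply, LinearMap.smul_apply, smul_eq_mul]
    rw [C.s23 e w v₀] at h1
    linear_combination h1

/-- uniqueness of the functional of the reflection at an Eckardt point -/
theorem eData_unique [FiniteDimensional ℂ V] (hV : finrank ℂ V = 4) (hs : C.Smooth) {e : V}
    (D : EData C e) (m' : V →ₗ[ℂ] ℂ) (me' : m' e = 1) (c : ℂ)
    (hinv : ∀ v, C.F (v - (2 * m' v) • e) = c * C.F v) : m' = D.m := by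
  obtain ⟨-, -, hq'⟩ := normal_form C hV hs e m' me' c hinv
  have hFe' : C.T e e e = 0 := D.hFe
  -- on ker m', ℓ * m = 0
  have hprod : ∀ h, m' h = 0 → C.T e e h * D.m h = 0 := by
    intro h hh
    have := hq' h h hh hh
    rw [D.hQ] at this
    linear_combination (1/2:ℂ) * this
  have hsub : ∀ h, m' h = 0 → D.m h = 0 := by
    by_contra hcon
    push Not at hcon
    obtain ⟨h₁, hh₁, hm₁⟩ := hcon
    have hl : ∀ h, m' h = 0 → C.T e e h = 0 := by
      intro h hh
      have := hprod (h + ((1 - D.m h) / D.m h₁) • h₁) (by simp [hh, hh₁])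
      have h1 : C.T e e h₁ = 0 := (mul_eq_zero.mp (hprod h₁ hh₁)).resolve_right hm₁
      simp only [map_add, map_smul, smul_eq_mul, h1, mul_zero, add_zero] at this
      have h2 : D.m h + (1 - D.m h) / D.m h₁ * D.m h₁ = 1 := by field_simp; ring
      rw [h2, mul_one] at this
      exact this
    obtain ⟨w, hw⟩ := hs e D.ne_zero D.hFe
    apply hw
    have : w = m' w • e + (w - m' w • e) := by abel
    rw [this, map_add, map_smul, smul_eq_mul, hFe', mul_zero, zero_add]
    exact hl _ (by simp [me'])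
  ext v
  have := hsub (v - m' v • e) (by simp [me'])
  simp only [map_sub, map_smul, smul_eq_mul, D.me, mul_one] at this
  linear_combination - this

/-- the reflection with centre `e` and functional `m` -/
def reflMap (e : V) (m : V →ₗ[ℂ] ℂ) : V →ₗ[ℂ] V := LinearMap.id - (2:ℂ) • m.smulRight e

@[simp] lemma reflMap_apply (e : V) (m : V →ₗ[ℂ] ℂ) (v : V) : reflMap e m v = v - (2 * m v) • e := by
  simp [reflMap, mul_smul]

lemma reflMap_reflMap (e : V) (m : V →ₗ[ℂ] ℂ) (me : m e = 1) (v : V) : reflMap e m (reflMap e m v) = v := by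
  rw [reflMap_apply, reflMap_apply]
  simp only [map_sub, map_smul, me, smul_eq_mul, mul_one]
  module

/-- `A` is a reflection negating `e` with hyperplane of fixed points which preserves the cubic up to a constant -/
def Tri.IsReflOf (A : V →ₗ[ℂ] V) (e : V) : Prop :=
  A ∘ₗ A = LinearMap.id ∧ finrank ℂ (LinearMap.ker (A - LinearMap.id)) = 3 ∧ A e = -e ∧
    ∃ c : ℂ, ∀ v, C.F (A v) = c * C.F v

theorem isReflOf_refl [FiniteDimensional ℂ V] (hV : finrank ℂ V = 4) {e : V} (D : EData C e) :
    C.IsReflOf (reflMap e D.m) e := by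
  refine ⟨?_, ?_, ?_, 1, fun v => ?_⟩
  · ext v
    exact reflMap_reflMap e D.m D.me v
  · have hm0 : D.m ≠ 0 := by
      intro h
      have := D.me
      rw [h] at this
      simp at this
    have hker : LinearMap.ker (reflMap e D.m - LinearMap.id) = LinearMap.ker D.m := by
      ext v
      simp only [LinearMap.mem_ker, LinearMap.sub_apply, reflMap_apply, LinearMap.id_apply]
      rw [sub_sub_cancel_left, neg_eq_zero, smul_eq_zero]
      simp [D.ne_zero]
    rw [hker]
    have := Module.Dual.finrank_ker_add_one_of_ne_zero hm0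
    omega
  · rw [reflMap_apply, D.me, mul_one, two_smul]
    abel
  · rw [reflMap_apply, D.inv, one_mul]

theorem eq_refl_of_isReflOf [FiniteDimensional ℂ V] (hV : finrank ℂ V = 4) (hs : C.Smooth) {e : V}
    (D : EData C e) (A : V →ₗ[ℂ] V) (hA : C.IsReflOf A e) : A = reflMap e D.m := by
  obtain ⟨-, hfix, hAe, c, hc⟩ := hA
  obtain ⟨m', me', hm'⟩ := refl_form hV A hfix e D.ne_zero hAe
  have := eData_unique C hV hs D m' me' c (fun v => by rw [← hm' v]; exact hc v)
  subst this
  ext v
  rw [hm' v, reflMap_apply]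

theorem existsUnique_isReflOf [FiniteDimensional ℂ V] (hV : finrank ℂ V = 4) (hs : C.Smooth) (e : V)
    (he : e ≠ 0) (hE : C.IsEckardt e) : ∃! A : V →ₗ[ℂ] V, C.IsReflOf A e := by
  obtain ⟨D⟩ := eData_of_isEckardt C hV hs e he hE
  exact ⟨reflMap e D.m, isReflOf_refl C hV D, fun A hA => eq_refl_of_isReflOf C hV hs D A hA⟩

end Groth.Agent.Helper9.CubicForm
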