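import Groth.Agent.Helper9.CubicBridge
import Groth.Agent.Helper9.CubicEckardt2

/-!
# Matrix form of the reflection predicate
-/

set_option linter.unusedSimpArgs false

namespace Groth.Agent.Helper9.CubicForm

open MvPolynomial Module

variable {n : ℕ}

lemma matrix_isReflOf_iff (f : MvPolynomial (Fin n) ℂ) (hf : f.IsHomogeneous 3)
    (A : Matrix (Fin n) (Fin n) ℂ) (e : Fin n → ℂ) :
    (A * A = 1 ∧ Module.finrank ℂ ↥(LinearMap.ker (Matrix.toLin' A - LinearMap.id)) = 3 ∧
        A.mulVec e = -e ∧ ∃ c : ℂ, aeval (fun i : Fin n => ∑ j : Fin n, C (A i j) * X j) f = C c * f) ↔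
      (triOf f hf).IsReflOf (Matrix.toLin' A) e := by
  unfold Tri.IsReflOf
  refine and_congr ?_ (and_congr Iff.rfl (and_congr ?_ (exists_congr fun c => ?_)))
  · constructor
    · intro h
      rw [← Matrix.toLin'_mul, h, Matrix.toLin'_one]
    · intro h
      apply Matrix.toLin'.injective
      rw [Matrix.toLin'_mul, Matrix.toLin'_one]
      exact h
  · rw [Matrix.toLin'_apply]
  · constructor
    · intro h v
      exact triOf_inv f hf A c h v
    · intro h
      apply MvPolynomial.funext
      intro v
      have := h v
      rw [triOf_F, triOf_F, Matrix.toLin'_apply] at this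
      rw [eval_aeval_matrix, this]
      simp


end Groth.Agent.Helper9.CubicForm
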