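import Groth.Agent.Helper9.CubicEckardt2

/-!
# Two Eckardt points: the line through them, and the group generated by their reflections
-/

set_option linter.unusedSimpArgs false

namespace Groth.Agent.Helper9.CubicForm

open Module

variable {V : Type*} [AddCommGroup V] [Module ℂ V] (C : Tri V)

lemma indep_of_not_mem_span (e e' : V) (he : e ≠ 0) (h : e' ∉ Submodule.span ℂ {e}) :
    LinearIndependent ℂ ![e, e'] := by
  rw [LinearIndependent.pair_iff' he]
  intro a ha
  exact h (Submodule.mem_span_singleton.mpr ⟨a, ha⟩)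

/-- transport of Eckardt points along an injective linear map preserving the cubic -/
lemma isEckardt_map [FiniteDimensional ℂ V] (A : V →ₗ[ℂ] V) (hinj : Function.Injective A)
    (hF : ∀ v, C.F (A v) = C.F v) (e : V) (hE : C.IsEckardt e) : C.IsEckardt (A e) := by
  obtain ⟨U, hUinj, hU⟩ := hE
  refine ⟨fun i => (U i).map A, ?_, fun i => ⟨?_, ?_, ?_⟩⟩
  · intro i j hij
    exact hUinj (Submodule.map_injective_of_injective hinj hij)
  · rw [← (hU i).1]
    exact (LinearEquiv.finrank_eq (Submodule.equivMapOfInjective A hinj (U i))).symm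
  · exact Submodule.mem_map_of_mem (hU i).2.1
  · rintro u ⟨x, hx, rfl⟩
    rw [hF]
    exact (hU i).2.2 x hx

lemma reflMap_injective (e : V) (m : V →ₗ[ℂ] ℂ) (me : m e = 1) :
    Function.Injective (reflMap e m) := by
  intro v w h
  have := congrArg (reflMap e m) h
  rwa [reflMap_reflMap e m me, reflMap_reflMap e m me] at this

variable {C}

/-- relations between the data of two Eckardt points -/
lemma EData.b_eq {e e' : V} (D : EData C e) : C.T e e' e' = 2 * C.T e e e' * D.m e' := by
  rw [D.hQ]; ring

lemma EData.F_pair {e e' : V} (D : EData C e) (hF' : C.F e' = 0) (s t : ℂ) :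
    C.F (s • e + t • e') = 3 * s * t * C.T e e e' * (s + 2 * D.m e' * t) := by
  rw [C.expand2, D.hFe, hF', D.b_eq]; ring

variable (C)

lemma isEckardt_F_eq_zero {e : V} (hE : C.IsEckardt e) : C.F e = 0 := by
  obtain ⟨U, -, hU⟩ := hE
  exact (hU 0).2.2 e (hU 0).2.1

/-- the analysis of the line through two Eckardt points when it is not contained in the surface -/
theorem third_point [FiniteDimensional ℂ V] {e e' : V} (D : EData C e) (D' : EData C e')
    (hind : LinearIndependent ℂ ![e, e']) (ha : C.T e e e' ≠ 0) :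
    D.m e' ≠ 0 ∧ C.F (reflMap e D.m e') = 0 ∧ reflMap e D.m e' ∈ Submodule.span ℂ {e, e'} ∧
      reflMap e D.m e' ∉ Submodule.span ℂ {e} ∧ reflMap e D.m e' ∉ Submodule.span ℂ {e'} ∧
      ∀ u ∈ Submodule.span ℂ {e, e'}, C.F u = 0 →
        u ∈ Submodule.span ℂ {e} ∨ u ∈ Submodule.span ℂ {e'} ∨
          u ∈ Submodule.span ℂ {reflMap e D.m e'} := by
  have hind' := LinearIndependent.pair_iff.mp hind
  have hb : C.T e e' e' ≠ 0 := by
    intro hb
    apply ha
    have := D'.b_eq (e' := e)
    rw [C.s13 e e e', this, C.s13 e' e' e, hb]; ring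
  have hx : D.m e' ≠ 0 := by
    intro hx
    apply hb
    rw [D.b_eq, hx, mul_zero]
  have hrefl : reflMap e D.m e' = (-(2 * D.m e')) • e + (1:ℂ) • e' := by
    rw [reflMap_apply, one_smul, neg_smul]; abel
  refine ⟨hx, ?_, ?_, ?_, ?_, ?_⟩
  · rw [reflMap_apply, D.inv]; exact D'.hFe
  · rw [hrefl]
    exact Submodule.add_mem _ (Submodule.smul_mem _ _ (Submodule.subset_span (by simp)))
      (Submodule.smul_mem _ _ (Submodule.subset_span (by simp)))
  · intro hmem
    obtain ⟨c, hc⟩ := Submodule.mem_span_singleton.mp hmem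
    rw [hrefl] at hc
    have := (hind' (c + 2 * D.m e') (-1) (by
      rw [add_smul, hc]; simp only [neg_smul, one_smul]; abel)).2
    norm_num at this
  · intro hmem
    obtain ⟨c, hc⟩ := Submodule.mem_span_singleton.mp hmem
    rw [hrefl] at hc
    have := (hind' (2 * D.m e') (c - 1) (by
      rw [sub_smul, hc]; simp only [neg_smul, one_smul]; abel)).1
    simp at this
    exact hx this
  · intro u hu hFu
    obtain ⟨s, t, rfl⟩ := Submodule.mem_span_pair.mp hu
    rw [D.F_pair D'.hFe] at hFu
    have h3 : (3:ℂ) ≠ 0 := by norm_num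
    simp only [mul_eq_zero, h3, ha, false_or, or_false] at hFu
    rcases hFu with (hs | ht) | hst
    · right; left
      rw [hs, zero_smul, zero_add]
      exact Submodule.smul_mem _ _ (Submodule.mem_span_singleton_self _)
    · left
      rw [ht, zero_smul, add_zero]
      exact Submodule.smul_mem _ _ (Submodule.mem_span_singleton_self _)
    · right; right
      have hs : s = -(2 * D.m e') * t := by linear_combination hst
      rw [Submodule.mem_span_singleton]
      refine ⟨t, ?_⟩
      rw [hrefl, hs, smul_add, smul_smul, smul_smul, mul_one, mul_comm]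

/-- S18409 in abstract form. -/
theorem line_through_two_eckardt [FiniteDimensional ℂ V] (hV : finrank ℂ V = 4) (hs : C.Smooth)
    (e e' : V) (he : e ≠ 0) (hne : e' ∉ Submodule.span ℂ {e}) (hE : C.IsEckardt e)
    (hE' : C.IsEckardt e') :
    Xor (∀ u ∈ Submodule.span ℂ {e, e'}, C.F u = 0)
      (∃ e'' : V, e'' ∈ Submodule.span ℂ {e, e'} ∧ e'' ∉ Submodule.span ℂ {e} ∧
        e'' ∉ Submodule.span ℂ {e'} ∧ C.IsEckardt e'' ∧
        ∀ u ∈ Submodule.span ℂ {e, e'}, C.F u = 0 →
          u ∈ Submodule.span ℂ {e} ∨ u ∈ Submodule.span ℂ {e'} ∨ u ∈ Submodule.span ℂ {e''}) := by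
  have hind := indep_of_not_mem_span e e' he hne
  have hind' := LinearIndependent.pair_iff.mp hind
  have he' : e' ≠ 0 := fun h => hne (h ▸ Submodule.zero_mem _)
  obtain ⟨D⟩ := eData_of_isEckardt C hV hs e he hE
  obtain ⟨D'⟩ := eData_of_isEckardt C hV hs e' he' hE'
  by_cases ha : C.T e e e' = 0
  · left
    have hall : ∀ u ∈ Submodule.span ℂ {e, e'}, C.F u = 0 := by
      intro u hu
      obtain ⟨s, t, rfl⟩ := Submodule.mem_span_pair.mp hu
      rw [D.F_pair D'.hFe, ha]; ring
    refine ⟨hall, ?_⟩
    rintro ⟨e'', -, -, -, -, hz⟩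
    have hmem : ∀ t : ℂ, t ≠ 0 → e + t • e' ∈ Submodule.span ℂ {e''} := by
      intro t ht
      have hin : e + t • e' ∈ Submodule.span ℂ {e, e'} :=
        Submodule.add_mem _ (Submodule.subset_span (by simp))
          (Submodule.smul_mem _ _ (Submodule.subset_span (by simp)))
      rcases hz _ hin (hall _ hin) with h | h | h
      · exfalso
        obtain ⟨c, hc⟩ := Submodule.mem_span_singleton.mp h
        have := (hind' (c - 1) (-t) (by rw [sub_smul, hc]; simp only [neg_smul, one_smul]; abel)).2
        exact ht (by simpa using this)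
      · exfalso
        obtain ⟨c, hc⟩ := Submodule.mem_span_singleton.mp h
        have := (hind' (-1) (c - t) (by rw [sub_smul, hc]; simp only [neg_smul, one_smul]; abel)).1
        norm_num at this
      · exact h
    obtain ⟨c₁, hc₁⟩ := Submodule.mem_span_singleton.mp (hmem 1 one_ne_zero)
    obtain ⟨c₂, hc₂⟩ := Submodule.mem_span_singleton.mp (hmem 2 two_ne_zero)
    have key : (c₂ - c₁) • e + (c₂ - 2 * c₁) • e' = 0 := by
      have : c₂ • (e + (1:ℂ) • e') - c₁ • (e + (2:ℂ) • e') = 0 := by
        rw [← hc₁, ← hc₂, smul_smul, smul_smul, mul_comm, sub_self]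
      rw [← this]
      simp only [smul_add, smul_smul, sub_smul, mul_one]
      rw [mul_comm c₁ 2]
      abel
    obtain ⟨h1, h2⟩ := hind' _ _ key
    have hc1 : c₁ = 0 := by linear_combination h1 - h2
    rw [hc1, zero_smul] at hc₁
    have := (hind' 1 1 (by rw [one_smul]; exact hc₁.symm)).1
    exact one_ne_zero this
  · right
    obtain ⟨hx, hF, hmem, hn1, hn2, hz⟩ := third_point C D D' hind ha
    refine ⟨⟨reflMap e D.m e', hmem, hn1, hn2, ?_, hz⟩, ?_⟩
    · exact isEckardt_map C (reflMap e D.m) (reflMap_injective e D.m D.me)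
        (fun v => by rw [reflMap_apply, D.inv]) e' hE'
    · intro hall
      apply ha
      have hT := T_eq_zero_of_F_eq_zero C _ hall
      exact hT e (Submodule.subset_span (by simp)) e (Submodule.subset_span (by simp)) e'
        (Submodule.subset_span (by simp))

end Groth.Agent.Helper9.CubicForm
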