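import Groth.Agent.Helper9.CubicEckardt3

/-!
# Reflections of two Eckardt points: commuting case and the dihedral case
-/

set_option linter.unusedSimpArgs false

namespace Groth.Agent.Helper9.CubicForm

open Module

variable {V : Type*} [AddCommGroup V] [Module ℂ V] (C : Tri V)

/-- If the line through two Eckardt points lies on the surface, each reflection functional kills the other
point. -/
theorem m_eq_zero_of_line (hs : C.Smooth) {e e' : V} (D : EData C e) (D' : EData C e')
    (hind : LinearIndependent ℂ ![e, e'])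
    (hL : ∀ u ∈ Submodule.span ℂ {e, e'}, C.F u = 0) : D.m e' = 0 := by
  by_contra hs0
  have hind' := LinearIndependent.pair_iff.mp hind
  have hT := T_eq_zero_of_F_eq_zero C _ hL
  have hemem : e ∈ Submodule.span ℂ {e, e'} := Submodule.subset_span (by simp)
  have hemem' : e' ∈ Submodule.span ℂ {e, e'} := Submodule.subset_span (by simp)
  have ha : C.T e e e' = 0 := hT e hemem e hemem e' hemem'
  have hb : C.T e' e' e = 0 := hT e' hemem' e' hemem' e hemem
  have hFe' : C.T e e e = 0 := D.hFe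
  set s := D.m e' with hsdef
  set h₁ := e' - s • e with hh₁
  have hm₁ : D.m h₁ = 0 := by simp [hh₁, D.me, hsdef]
  have hl₁ : C.T e e h₁ = 0 := by
    simp only [hh₁, map_sub, map_smul, smul_eq_mul, ha, hFe', mul_zero, sub_zero]
  have h₁0 : h₁ ≠ 0 := by
    intro h
    have := (hind' (-s) 1 (by rw [← h, hh₁]; simp only [neg_smul, one_smul]; abel)).2
    exact one_ne_zero this
  have hF₁ : C.F h₁ = 0 := hL _ (Submodule.sub_mem _ hemem' (Submodule.smul_mem _ _ hemem))
  obtain ⟨k, hmk, hlk, hTk⟩ := simple_roots C hs e D.m D.me D.hFe D.hq h₁ hm₁ hl₁ h₁0 hF₁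
  obtain ⟨hstar, hmstar, hlstar⟩ := exists_transverse C hs e D.m D.me D.hFe
  set β := -(s ^ 2 * C.T e e hstar + C.T h₁ h₁ hstar) / C.T h₁ h₁ k with hβ
  set h := hstar + β • k with hh
  have hmh : D.m h = 0 := by simp [hh, hmstar, hmk]
  have hlh : C.T e e h = C.T e e hstar := by simp [hh, hlk]
  have he'dec : e' = s • e + (1:ℂ) • h₁ := by rw [hh₁]; simp
  have hl'h : C.T e' e' h = 0 := by
    have h1 : C.T e' e' h = s ^ 2 * C.T e e h + 2 * s * 1 * C.T e h₁ h + 1 ^ 2 * C.T h₁ h₁ h := by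
      conv_lhs => rw [he'dec]
      exact C.texpand2 e h₁ h s 1
    rw [h1, D.hq h₁ h hm₁ hmh, hlh]
    have h2 : C.T h₁ h₁ h = C.T h₁ h₁ hstar + β * C.T h₁ h₁ k := by simp [hh]
    rw [h2, hβ]
    field_simp
    ring
  have h1 : C.T e' e h = 0 := by
    rw [D'.hQ, hb, hl'h]; ring
  have h2 : C.T e' e h = s * C.T e e hstar := by
    rw [C.s12 e' e h, D.hQ, ha, hmh, hlh]; ring
  rw [h2] at h1
  rcases mul_eq_zero.mp h1 with h | h
  · exact hs0 h
  · exact hlstar h

/-- S18410 in abstract form. -/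
theorem commute_of_line [FiniteDimensional ℂ V] (hV : finrank ℂ V = 4) (hs : C.Smooth)
    (e e' : V) (he : e ≠ 0) (hne : e' ∉ Submodule.span ℂ {e}) (hE : C.IsEckardt e)
    (hE' : C.IsEckardt e') (hL : ∀ u ∈ Submodule.span ℂ {e, e'}, C.F u = 0)
    (A A' : V →ₗ[ℂ] V) (hA : C.IsReflOf A e) (hA' : C.IsReflOf A' e') :
    (∃ c : ℂ, A ∘ₗ A' = c • (A' ∘ₗ A)) ∧ (∃ d : ℂ, A e' = d • e') ∧ (∃ d : ℂ, A' e = d • e) := by
  have hind := indep_of_not_mem_span e e' he hne
  have he' : e' ≠ 0 := fun h => hne (h ▸ Submodule.zero_mem _)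
  obtain ⟨D⟩ := eData_of_isEckardt C hV hs e he hE
  obtain ⟨D'⟩ := eData_of_isEckardt C hV hs e' he' hE'
  have hAeq := eq_refl_of_isReflOf C hV hs D A hA
  have hAeq' := eq_refl_of_isReflOf C hV hs D' A' hA'
  have hm := m_eq_zero_of_line C hs D D' hind hL
  have hind2 : LinearIndependent ℂ ![e', e] := by
    rw [LinearIndependent.pair_iff] at hind ⊢
    intro s t hst
    have := hind t s (by rw [add_comm]; exact hst)
    exact ⟨this.2, this.1⟩
  have hm' := m_eq_zero_of_line C hs D' D hind2 (by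
    intro u hu
    apply hL
    rwa [Set.pair_comm] at hu)
  subst hAeq hAeq'
  refine ⟨⟨1, ?_⟩, ⟨1, ?_⟩, ⟨1, ?_⟩⟩
  · ext v
    simp only [LinearMap.comp_apply, reflMap_apply, map_sub, map_smul, smul_eq_mul, hm, hm',
      mul_zero, sub_zero, one_smul, zero_smul]
    abel
  · simp [hm]
  · simp [hm']

end Groth.Agent.Helper9.CubicForm
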