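import Groth.Agent.Helper9.CubicEckardt4

/-!
# Three collinear Eckardt points off the surface: their reflections generate S₃
-/

set_option linter.unusedSimpArgs false

namespace Groth.Agent.Helper9.CubicForm

open Module

variable {V : Type*} [AddCommGroup V] [Module ℂ V] (C : Tri V)

/-- conjugating the reflection of `e'` by that of `e` gives the reflection of a third Eckardt point `e''`
on the line, as soon as `e''` is proportional to the image of `e'`. -/
lemma conj_eq_refl [FiniteDimensional ℂ V] (hV : finrank ℂ V = 4) (hs : C.Smooth) {e e' e'' : V}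
    (D : EData C e) (D' : EData C e') (D'' : EData C e'') (κ : ℂ)
    (hκ : e'' = κ • reflMap e D.m e') :
    reflMap e D.m ∘ₗ reflMap e' D'.m ∘ₗ reflMap e D.m = reflMap e'' D''.m := by
  have hκ0 : κ ≠ 0 := by
    rintro rfl
    rw [zero_smul] at hκ
    exact D''.ne_zero hκ
  have hrefl : reflMap e D.m e' = κ⁻¹ • e'' := by
    rw [hκ, smul_smul, inv_mul_cancel₀ hκ0, one_smul]
  set m₂ : V →ₗ[ℂ] ℂ := κ⁻¹ • (D'.m ∘ₗ reflMap e D.m) with hm₂
  have hform : ∀ v, (reflMap e D.m ∘ₗ reflMap e' D'.m ∘ₗ reflMap e D.m) v = v - (2 * m₂ v) • e'' := by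
    intro v
    simp only [LinearMap.comp_apply]
    rw [reflMap_apply e' D'.m, map_sub, map_smul, reflMap_reflMap e D.m D.me, hrefl, smul_smul]
    simp only [hm₂, LinearMap.smul_apply, LinearMap.comp_apply, smul_eq_mul]
    congr 2
    ring
  have hme : m₂ e'' = 1 := by
    simp only [hm₂, LinearMap.smul_apply, LinearMap.comp_apply, smul_eq_mul]
    rw [hκ, map_smul, reflMap_reflMap e D.m D.me, map_smul, D'.me, smul_eq_mul, mul_one,
      inv_mul_cancel₀ hκ0]
  have hinv : ∀ v, C.F (v - (2 * m₂ v) • e'') = 1 * C.F v := by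
    intro v
    rw [← hform v, one_mul]
    simp only [LinearMap.comp_apply]
    rw [reflMap_apply e D.m, D.inv, reflMap_apply e' D'.m, D'.inv, reflMap_apply e D.m, D.inv]
  have := eData_unique C hV hs D'' m₂ hme 1 hinv
  ext v
  rw [hform v, this, reflMap_apply]

/-- S18411 in abstract form. -/
theorem dihedral [FiniteDimensional ℂ V] (hV : finrank ℂ V = 4) (hs : C.Smooth)
    (e e' e'' : V) (he : e ≠ 0) (hne : e' ∉ Submodule.span ℂ {e})
    (h1 : e'' ∉ Submodule.span ℂ {e}) (h2 : e'' ∉ Submodule.span ℂ {e'})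
    (hmem : e'' ∈ Submodule.span ℂ {e, e'})
    (hE : C.IsEckardt e) (hE' : C.IsEckardt e') (hE'' : C.IsEckardt e'')
    (hL : ¬ ∀ u ∈ Submodule.span ℂ {e, e'}, C.F u = 0)
    (A A' A'' : V →ₗ[ℂ] V) (hA : C.IsReflOf A e) (hA' : C.IsReflOf A' e')
    (hA'' : C.IsReflOf A'' e'') :
    (¬ ∃ c : ℂ, A ∘ₗ A' = c • LinearMap.id) ∧
      (∃ c : ℂ, (A ∘ₗ A') ∘ₗ (A ∘ₗ A') ∘ₗ (A ∘ₗ A') = c • LinearMap.id) ∧
      ∃ c : ℂ, A'' = c • (A ∘ₗ A' ∘ₗ A) := by
  have hind := indep_of_not_mem_span e e' he hne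
  have he' : e' ≠ 0 := fun h => hne (h ▸ Submodule.zero_mem _)
  have he'' : e'' ≠ 0 := fun h => h1 (h ▸ Submodule.zero_mem _)
  obtain ⟨D⟩ := eData_of_isEckardt C hV hs e he hE
  obtain ⟨D'⟩ := eData_of_isEckardt C hV hs e' he' hE'
  obtain ⟨D''⟩ := eData_of_isEckardt C hV hs e'' he'' hE''
  have hAeq := eq_refl_of_isReflOf C hV hs D A hA
  have hAeq' := eq_refl_of_isReflOf C hV hs D' A' hA'
  have hAeq'' := eq_refl_of_isReflOf C hV hs D'' A'' hA''
  have hind2 : LinearIndependent ℂ ![e', e] := by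
    rw [LinearIndependent.pair_iff] at hind ⊢
    intro s t hst
    have := hind t s (by rw [add_comm]; exact hst)
    exact ⟨this.2, this.1⟩
  have hspan : Submodule.span ℂ {e', e} = Submodule.span ℂ {e, e'} := by rw [Set.pair_comm]
  have ha : C.T e e e' ≠ 0 := by
    intro ha
    apply hL
    intro u hu
    obtain ⟨s, t, rfl⟩ := Submodule.mem_span_pair.mp hu
    rw [D.F_pair D'.hFe, ha]; ring
  have hb : C.T e' e' e ≠ 0 := by
    intro hb
    apply hL
    intro u hu
    rw [← hspan] at hu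
    obtain ⟨s, t, rfl⟩ := Submodule.mem_span_pair.mp hu
    rw [D'.F_pair D.hFe, hb]; ring
  obtain ⟨-, -, -, -, hn2, hz⟩ := third_point C D D' hind ha
  obtain ⟨-, -, -, -, -, hz'⟩ := third_point C D' D hind2 hb
  obtain ⟨κ, hκ⟩ : ∃ κ : ℂ, e'' = κ • reflMap e D.m e' := by
    rcases hz e'' hmem D''.hFe with h | h | h
    · exact absurd h h1
    · exact absurd h h2
    · obtain ⟨κ, hκ⟩ := Submodule.mem_span_singleton.mp h
      exact ⟨κ, hκ.symm⟩
  obtain ⟨κ', hκ'⟩ : ∃ κ : ℂ, e'' = κ • reflMap e' D'.m e := by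
    rcases hz' e'' (by rw [hspan]; exact hmem) D''.hFe with h | h | h
    · exact absurd h h2
    · exact absurd h h1
    · obtain ⟨κ, hκ⟩ := Submodule.mem_span_singleton.mp h
      exact ⟨κ, hκ.symm⟩
  have hc1 := conj_eq_refl C hV hs D D' D'' κ hκ
  have hc2 := conj_eq_refl C hV hs D' D D'' κ' hκ'
  subst hAeq hAeq' hAeq''
  refine ⟨?_, ⟨1, ?_⟩, ⟨1, ?_⟩⟩
  · rintro ⟨c, hc⟩
    have := LinearMap.congr_fun hc e'
    simp only [LinearMap.comp_apply, LinearMap.smul_apply, LinearMap.id_apply] at this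
    rw [reflMap_apply e' D'.m, D'.me, mul_one, two_smul, sub_add_cancel_left, map_neg] at this
    apply hn2
    rw [Submodule.mem_span_singleton]
    exact ⟨-c, by rw [neg_smul, ← this, neg_neg]⟩
  · rw [one_smul]
    have : (reflMap e D.m ∘ₗ reflMap e' D'.m) ∘ₗ (reflMap e D.m ∘ₗ reflMap e' D'.m) ∘ₗ
        (reflMap e D.m ∘ₗ reflMap e' D'.m) =
        (reflMap e D.m ∘ₗ reflMap e' D'.m ∘ₗ reflMap e D.m) ∘ₗ
          (reflMap e' D'.m ∘ₗ reflMap e D.m ∘ₗ reflMap e' D'.m) := by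
      simp only [LinearMap.comp_assoc]
    rw [this, hc1, hc2]
    ext v
    exact reflMap_reflMap e'' D''.m D''.me v
  · rw [one_smul, hc1]

end Groth.Agent.Helper9.CubicForm
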