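import Groth.Agent.Helper9.CubicBridge2
import Groth.Agent.Helper9.CubicEckardt3
import Groth.Agent.Helper9.CubicEckardt4
import Groth.Agent.Helper9.CubicEckardt5
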