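import Groth.Agent.Helper9.CubicForm

/-!
# Eckardt points and their reflections (abstract form)
-/

set_option linter.unusedSimpArgs false

namespace Groth.Agent.Helper9.CubicForm

open Module

variable {V : Type*} [AddCommGroup V] [Module ℂ V] (C : Tri V)

/-- `e` lies on three distinct lines of the cubic surface. -/
def Tri.IsEckardt (e : V) : Prop :=
  ∃ U : Fin 3 → Submodule ℂ V, Function.Injective U ∧
    ∀ i : Fin 3, finrank ℂ ↥(U i) = 2 ∧ e ∈ U i ∧ ∀ u ∈ U i, C.F u = 0

lemma exists_transverse (hs : C.Smooth) (e : V) (m : V →ₗ[ℂ] ℂ) (me : m e = 1)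
    (hFe : C.F e = 0) : ∃ h, m h = 0 ∧ C.T e e h ≠ 0 := by
  have he : e ≠ 0 := by
    rintro rfl
    simp at me
  have hFe' : C.T e e e = 0 := hFe
  obtain ⟨w, hw⟩ := hs e he hFe
  refine ⟨w - m w • e, by simp [me], ?_⟩
  simp only [map_sub, map_smul, smul_eq_mul, hFe', mul_zero, sub_zero]
  exact hw

lemma finrank_span_pair [FiniteDimensional ℂ V] (a b : V) (hab : LinearIndependent ℂ ![a, b]) :
    finrank ℂ (Submodule.span ℂ {a, b}) = 2 := by
  have h1 := finrank_span_eq_card hab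
  have h2 : Set.range ![a, b] = {a, b} := by
    ext x
    simp [eq_comm, or_comm]
  rw [h2] at h1
  simpa using h1

lemma indep_e_h (e : V) (m : V →ₗ[ℂ] ℂ) (me : m e = 1) (h : V) (hm : m h = 0) (h0 : h ≠ 0) :
    LinearIndependent ℂ ![e, h] := by
  rw [LinearIndependent.pair_iff]
  intro s t hst
  have h1 := congrArg m hst
  simp only [map_add, map_smul, me, hm, smul_eq_mul, mul_one, mul_zero, add_zero, map_zero] at h1
  subst h1
  simp only [zero_smul, zero_add, smul_eq_zero] at hst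
  exact ⟨rfl, hst.resolve_right h0⟩

lemma line_of_dir [FiniteDimensional ℂ V] (e : V) (m : V →ₗ[ℂ] ℂ) (me : m e = 1)
    (hFe : C.F e = 0) (hq : ∀ h h', m h = 0 → m h' = 0 → C.T e h h' = 0)
    (h : V) (hm : m h = 0) (hl : C.T e e h = 0) (h0 : h ≠ 0) (hF : C.F h = 0) :
    finrank ℂ (Submodule.span ℂ {e, h}) = 2 ∧ e ∈ Submodule.span ℂ {e, h} ∧
      ∀ u ∈ Submodule.span ℂ {e, h}, C.F u = 0 := by
  refine ⟨finrank_span_pair e h (indep_e_h e m me h hm h0), Submodule.subset_span (by simp), ?_⟩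
  intro u hu
  obtain ⟨s, t, rfl⟩ := Submodule.mem_span_pair.mp hu
  rw [C.expand2, hFe, hF, hl, hq h h hm hm]
  ring

lemma span_pair_injective (e : V) (m : V →ₗ[ℂ] ℂ) (me : m e = 1) (h h' : V) (hm : m h = 0)
    (hm' : m h' = 0) (hind : LinearIndependent ℂ ![h, h']) :
    Submodule.span ℂ {e, h} ≠ Submodule.span ℂ {e, h'} := by
  intro heq
  have : h' ∈ Submodule.span ℂ {e, h} := by
    rw [heq]; exact Submodule.subset_span (by simp)
  obtain ⟨s, t, hst⟩ := Submodule.mem_span_pair.mp this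
  have h1 := congrArg m hst
  simp only [map_add, map_smul, me, hm, hm', smul_eq_mul, mul_one, mul_zero, add_zero] at h1
  subst h1
  rw [zero_smul, zero_add] at hst
  rw [LinearIndependent.pair_iff] at hind
  have := (hind t (-1) (by rw [hst]; simp)).2
  norm_num at this

/-- A smooth cubic surface invariant (up to a constant) under a reflection with centre `e`: then `e` is an
Eckardt point. -/
theorem isEckardt_of_reflection [FiniteDimensional ℂ V] (hV : finrank ℂ V = 4) (hs : C.Smooth)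
    (e : V) (m : V →ₗ[ℂ] ℂ) (me : m e = 1) (c : ℂ)
    (hinv : ∀ v, C.F (v - (2 * m v) • e) = c * C.F v) : C.IsEckardt e := by
  obtain ⟨-, hFe, hq⟩ := normal_form C hV hs e m me c hinv
  have htr := exists_transverse C hs e m me hFe
  have hK := finrank_K C hV e m me hFe htr
  obtain ⟨h₁, hh₁, h₂, hh₂, h₃, hh₃, hF₁, hF₂, hF₃, h12, h13, h23, -⟩ :=
    binary_cubic C _ hK (by
      intro h₀ hh₀ h0 hF0
      obtain ⟨k, hk1, hk2, hk3⟩ := simple_roots C hs e m me hFe hq h₀ hh₀.1 hh₀.2 h0 hF0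
      exact ⟨k, ⟨hk1, hk2⟩, hk3⟩)
  have hne : ∀ a b : V, LinearIndependent ℂ ![a, b] → a ≠ 0 ∧ b ≠ 0 := by
    intro a b hab
    rw [LinearIndependent.pair_iff] at hab
    constructor
    · rintro rfl
      exact one_ne_zero (hab 1 0 (by simp)).1
    · rintro rfl
      exact one_ne_zero (hab 0 1 (by simp)).2
  refine ⟨![Submodule.span ℂ {e, h₁}, Submodule.span ℂ {e, h₂}, Submodule.span ℂ {e, h₃}], ?_, ?_⟩
  · have n12 := span_pair_injective e m me h₁ h₂ hh₁.1 hh₂.1 h12
    have n13 := span_pair_injective e m me h₁ h₃ hh₁.1 hh₃.1 h13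
    have n23 := span_pair_injective e m me h₂ h₃ hh₂.1 hh₃.1 h23
    intro i j hij
    fin_cases i <;> fin_cases j <;> simp_all
  · intro i
    fin_cases i
    · exact line_of_dir C e m me hFe hq h₁ hh₁.1 hh₁.2 (hne _ _ h12).1 hF₁
    · exact line_of_dir C e m me hFe hq h₂ hh₂.1 hh₂.2 (hne _ _ h12).2 hF₂
    · exact line_of_dir C e m me hFe hq h₃ hh₃.1 hh₃.2 (hne _ _ h13).2 hF₃

end Groth.Agent.Helper9.CubicForm
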