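import Mathlib

/-!
# Symmetric trilinear forms over ℂ (cubic forms), reflections preserving them, Eckardt points
Abstract linear algebra used for the cubic-surface statements.
-/

set_option linter.unusedSimpArgs false

namespace Groth.Agent.Helper9.CubicForm

open Module

variable {V : Type*} [AddCommGroup V] [Module ℂ V]

/-- A symmetric trilinear form. -/
structure Tri (V : Type*) [AddCommGroup V] [Module ℂ V] where
  T : V →ₗ[ℂ] V →ₗ[ℂ] V →ₗ[ℂ] ℂ
  s12 : ∀ u v w, T u v w = T v u w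
  s23 : ∀ u v w, T u v w = T u w v

namespace Tri

variable (C : Tri V)

/-- The cubic form. -/
def F (v : V) : ℂ := C.T v v v

/-- Smoothness of the projective cubic hypersurface. -/
def Smooth : Prop := ∀ v : V, v ≠ 0 → C.F v = 0 → ∃ w, C.T v v w ≠ 0

lemma s13 (u v w : V) : C.T u v w = C.T w v u := by
  rw [C.s12 u v w, C.s23 v u w, C.s12 v w u]

lemma expand2 (u w : V) (s t : ℂ) :
    C.F (s • u + t • w) =
      s ^ 3 * C.F u + 3 * s ^ 2 * t * C.T u u w + 3 * s * t ^ 2 * C.T u w w + t ^ 3 * C.F w := by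
  simp only [F, map_add, map_smul, LinearMap.add_apply, LinearMap.smul_apply, smul_eq_mul]
  rw [C.s12 w u u, C.s23 u w u, C.s12 w u w, C.s23 w w u, C.s12 w u w]
  ring

lemma texpand2 (u w x : V) (s t : ℂ) :
    C.T (s • u + t • w) (s • u + t • w) x =
      s ^ 2 * C.T u u x + 2 * s * t * C.T u w x + t ^ 2 * C.T w w x := by
  simp only [map_add, map_smul, LinearMap.add_apply, LinearMap.smul_apply, smul_eq_mul]
  rw [C.s12 w u x]
  ring

end Tri

variable (C : Tri V)

open Polynomial in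
lemma cubic_three_roots (α β γ δ : ℂ) (hα : α ≠ 0)
    (hsimple : ∀ r : ℂ, α*r^3 + β*r^2 + γ*r + δ = 0 → 3*α*r^2 + 2*β*r + γ ≠ 0) :
    ∃ r₁ r₂ r₃ : ℂ, r₁ ≠ r₂ ∧ r₁ ≠ r₃ ∧ r₂ ≠ r₃ ∧
      ∀ r, α*r^3 + β*r^2 + γ*r + δ = 0 ↔ (r = r₁ ∨ r = r₂ ∨ r = r₃) := by
  set P : ℂ[X] := C α * X ^ 3 + C β * X ^ 2 + C γ * X + C δ with hP
  have hdeg : P.natDegree = 3 := natDegree_cubic hα
  have hP0 : P ≠ 0 := by
    intro h; rw [h] at hdeg; simp at hdeg
  have heval : ∀ r, eval r P = α*r^3 + β*r^2 + γ*r + δ := by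
    intro r; simp [hP]
  have hder : ∀ r, eval r (derivative P) = 3*α*r^2 + 2*β*r + γ := by
    intro r; simp [hP]; ring
  have hcard : P.roots.card = 3 := by rw [IsAlgClosed.card_roots_eq_natDegree, hdeg]
  have hnodup : P.roots.Nodup := by
    rw [Multiset.nodup_iff_count_le_one]
    intro r
    rw [count_roots]
    by_contra hlt
    push Not at hlt
    have := (one_lt_rootMultiplicity_iff_isRoot hP0).mp hlt
    refine hsimple r ?_ ?_
    · rw [← heval]; exact this.1
    · rw [← hder]; exact this.2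
  obtain ⟨r₁, r₂, r₃, h123⟩ := Multiset.card_eq_three.mp hcard
  rw [h123] at hnodup
  simp only [Multiset.insert_eq_cons, Multiset.nodup_cons, Multiset.mem_cons, Multiset.mem_singleton,
    Multiset.nodup_singleton, not_or] at hnodup
  refine ⟨r₁, r₂, r₃, hnodup.1.1, hnodup.1.2, hnodup.2.1, fun r => ?_⟩
  rw [← heval, ← IsRoot.def, ← mem_roots hP0, h123]
  simp

lemma exists_isotropic (x h₁ h₂ : V) (hind : LinearIndependent ℂ ![h₁, h₂]) :
    ∃ h : V, h ∈ Submodule.span ℂ {h₁, h₂} ∧ h ≠ 0 ∧ C.T x h h = 0 := by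
  rw [LinearIndependent.pair_iff] at hind
  by_cases h2 : C.T x h₂ h₂ = 0
  · refine ⟨h₂, Submodule.subset_span (by simp), ?_, h2⟩
    intro h
    have := (hind 0 1 (by simp [h])).2
    exact one_ne_zero this
  · obtain ⟨y, hy⟩ := exists_quadratic_eq_zero (a := C.T x h₂ h₂) (b := 2 * C.T x h₁ h₂)
      (c := C.T x h₁ h₁) h2 (IsAlgClosed.exists_eq_mul_self _)
    refine ⟨h₁ + y • h₂, ?_, ?_, ?_⟩
    · exact Submodule.add_mem _ (Submodule.subset_span (by simp))
        (Submodule.smul_mem _ _ (Submodule.subset_span (by simp)))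
    · intro h
      have := (hind 1 y (by simpa using h)).1
      exact one_ne_zero this
    · simp only [map_add, map_smul, LinearMap.add_apply, LinearMap.smul_apply, smul_eq_mul]
      rw [C.s23 x h₂ h₁]
      linear_combination hy

/-- Polarisation: if the cubic form vanishes on a submodule then so does the trilinear form. -/
lemma T_eq_zero_of_F_eq_zero (K : Submodule ℂ V) (hK : ∀ k ∈ K, C.F k = 0) :
    ∀ x ∈ K, ∀ y ∈ K, ∀ z ∈ K, C.T x y z = 0 := by
  have h2 : ∀ x ∈ K, ∀ y ∈ K, C.T x x y = 0 := by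
    intro x hx y hy
    have e1 := hK (x + y) (K.add_mem hx hy)
    have e2 := hK (x - y) (K.sub_mem hx hy)
    have e3 := hK x hx
    have e4 := hK y hy
    simp only [Tri.F, map_add, map_sub, map_smul, LinearMap.add_apply, LinearMap.sub_apply,
      LinearMap.smul_apply, smul_eq_mul] at e1 e2 e3 e4
    simp only [C.s12, C.s23] at e1 e2 e3 e4 ⊢
    linear_combination (1/6 : ℂ) * e1 - (1/6 : ℂ) * e2 - (1/3 : ℂ) * e4
  intro x hx y hy z hz
  have e1 := h2 (x + y) (K.add_mem hx hy) z hz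
  have e2 := h2 x hx z hz
  have e3 := h2 y hy z hz
  simp only [map_add, LinearMap.add_apply] at e1
  simp only [C.s12, C.s23] at e1 e2 e3 ⊢
  linear_combination (1/2 : ℂ) * e1 - (1/2 : ℂ) * e2 - (1/2 : ℂ) * e3

/-- two independent vectors in a submodule of finrank ≥ 2 -/
lemma exists_pair_in [FiniteDimensional ℂ V] (K : Submodule ℂ V) (hK : 1 < finrank ℂ K) :
    ∃ a ∈ K, ∃ b ∈ K, LinearIndependent ℂ ![a, b] := by
  have hpos : 0 < finrank ℂ K := by omega
  obtain ⟨x, hx⟩ := Module.finrank_pos_iff_exists_ne_zero.mp hpos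
  obtain ⟨y, hy⟩ := exists_linearIndependent_pair_of_one_lt_finrank hK hx
  refine ⟨x, x.2, y, y.2, ?_⟩
  rw [LinearIndependent.pair_iff] at hy ⊢
  intro s t hst
  apply hy s t
  ext
  simpa using hst


/-- An involution of a 4-dimensional space whose fixed space is a hyperplane and which negates `e ≠ 0`
is the reflection `v ↦ v - 2 m(v) e` for a functional `m` with `m e = 1`. -/
lemma refl_form [FiniteDimensional ℂ V] (hV : finrank ℂ V = 4) (A : V →ₗ[ℂ] V)
    (hH : finrank ℂ (LinearMap.ker (A - LinearMap.id)) = 3) (e : V) (he : e ≠ 0) (hAe : A e = -e) :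
    ∃ m : V →ₗ[ℂ] ℂ, m e = 1 ∧ ∀ v, A v = v - (2 * m v) • e := by
  set H := LinearMap.ker (A - LinearMap.id) with hHdef
  have hlt : H < ⊤ := by
    refine lt_top_iff_ne_top.mpr fun h => ?_
    have := finrank_top ℂ V
    rw [← h, hH, hV] at this
    omega
  obtain ⟨μ, hμ0, hμ⟩ := H.exists_le_ker_of_lt_top hlt
  have hker : H = LinearMap.ker μ := by
    refine Submodule.eq_of_le_of_finrank_eq hμ ?_
    have := Module.Dual.finrank_ker_add_one_of_ne_zero hμ0
    omega
  have hfix : ∀ v, μ v = 0 → A v = v := by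
    intro v hv
    have : v ∈ H := by rw [hker]; exact hv
    have h2 : (A - (LinearMap.id : V →ₗ[ℂ] V)) v = 0 := this
    simpa [sub_eq_zero] using h2
  have hμe : μ e ≠ 0 := by
    intro h
    have := hfix e h
    rw [hAe] at this
    have h2 : (2 : ℂ) • e = 0 := by rw [two_smul]; nth_rewrite 1 [← this]; simp
    exact he (by simpa using h2)
  refine ⟨(μ e)⁻¹ • μ, by simp [hμe], fun v => ?_⟩
  have h1 : A (v - ((μ e)⁻¹ * μ v) • e) = v - ((μ e)⁻¹ * μ v) • e := by
    apply hfix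
    simp only [map_sub, map_smul, smul_eq_mul]
    field_simp
    ring
  simp only [map_sub, map_smul, hAe] at h1
  simp only [LinearMap.smul_apply, smul_eq_mul]
  have : A v = v - ((μ e)⁻¹ * μ v) • e - ((μ e)⁻¹ * μ v) • e := by
    rw [← h1]; simp
  rw [this, sub_sub, ← add_smul]
  congr 2
  ring

lemma normal_form [FiniteDimensional ℂ V] (hV : finrank ℂ V = 4) (hs : C.Smooth) (e : V)
    (m : V →ₗ[ℂ] ℂ) (me : m e = 1) (c : ℂ)
    (hinv : ∀ v, C.F (v - (2 * m v) • e) = c * C.F v) :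
    c = 1 ∧ C.F e = 0 ∧ ∀ h h', m h = 0 → m h' = 0 → C.T e h h' = 0 := by
  have he : e ≠ 0 := by
    rintro rfl
    simp at me
  have hm0 : m ≠ 0 := by
    rintro rfl
    simp at me
  have key : ∀ h, m h = 0 → ∀ t : ℂ,
      C.F ((-t) • e + (1:ℂ) • h) = c * C.F (t • e + (1:ℂ) • h) := by
    intro h hh t
    rw [← hinv]
    congr 1
    simp only [map_add, map_smul, me, hh, smul_eq_mul, mul_one, mul_zero, add_zero, one_smul]
    rw [mul_smul, two_smul]
    simp only [neg_smul]
    abel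
  have coef : ∀ h, m h = 0 → (1 + c) * C.F e = 0 ∧ (1 - c) * C.T e e h = 0 ∧
      (1 + c) * C.T e h h = 0 ∧ (1 - c) * C.F h = 0 := by
    intro h hh
    have k0 := key h hh 0
    have k1 := key h hh 1
    have k2 := key h hh (-1)
    have k3 := key h hh 2
    rw [C.expand2, C.expand2] at k0 k1 k2 k3
    refine ⟨?_, ?_, ?_, ?_⟩
    · linear_combination (-1/6:ℂ)*k3 + (1/2:ℂ)*k1 + (1/6:ℂ)*k2 - (1/2:ℂ)*k0
    · linear_combination (1/6:ℂ)*k1 + (1/6:ℂ)*k2 - (1/3:ℂ)*k0
    · linear_combination (1/9:ℂ)*k2 - (1/3:ℂ)*k1 + (1/18:ℂ)*k3 + (1/6:ℂ)*k0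
    · linear_combination k0
  have hdec : ∀ w : V, m (w - m w • e) = 0 := by
    intro w; simp [me]
  by_cases hc : c = 1
  · subst hc
    have hFe : C.F e = 0 := by
      have := (coef 0 (by simp)).1
      have h2 : (1 + 1 : ℂ) ≠ 0 := by norm_num
      exact (mul_eq_zero.mp this).resolve_left h2
    have hq : ∀ h, m h = 0 → C.T e h h = 0 := by
      intro h hh
      have := (coef h hh).2.2.1
      have h2 : (1 + 1 : ℂ) ≠ 0 := by norm_num
      exact (mul_eq_zero.mp this).resolve_left h2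
    refine ⟨rfl, hFe, fun h h' hh hh' => ?_⟩
    have e1 := hq (h + h') (by simp [hh, hh'])
    have e2 := hq h hh
    have e3 := hq h' hh'
    simp only [map_add, LinearMap.add_apply] at e1
    rw [C.s23 e h' h] at e1
    linear_combination (1/2:ℂ) * e1 - (1/2:ℂ) * e2 - (1/2:ℂ) * e3
  · exfalso
    have hc' : (1 - c) ≠ 0 := sub_ne_zero.mpr (Ne.symm hc)
    have hL : ∀ h, m h = 0 → C.T e e h = 0 := fun h hh =>
      (mul_eq_zero.mp (coef h hh).2.1).resolve_left hc'
    have hF : ∀ h ∈ LinearMap.ker m, C.F h = 0 := fun h hh =>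
      (mul_eq_zero.mp (coef h hh).2.2.2).resolve_left hc'
    have hT := T_eq_zero_of_F_eq_zero C (LinearMap.ker m) hF
    have hk : finrank ℂ (LinearMap.ker m) = 3 := by
      have := Module.Dual.finrank_ker_add_one_of_ne_zero hm0
      omega
    obtain ⟨a, ha, b, hb, hab⟩ := exists_pair_in (LinearMap.ker m) (by omega)
    obtain ⟨h, hmem, hne, hiso⟩ := exists_isotropic C e a b hab
    have hhk : h ∈ LinearMap.ker m := by
      refine Submodule.span_le.mpr ?_ hmem
      rintro x (rfl | rfl)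
      · exact ha
      · exact hb
    obtain ⟨w, hw⟩ := hs h hne (hF h hhk)
    apply hw
    have : w = m w • e + (w - m w • e) := by abel
    rw [this, map_add, map_smul, smul_eq_mul, C.s13 h h e, hiso, mul_zero, zero_add]
    exact hT h hhk h hhk _ (hdec w)

lemma simple_roots (hs : C.Smooth) (e : V) (m : V →ₗ[ℂ] ℂ) (me : m e = 1)
    (hFe : C.F e = 0) (hq : ∀ h h', m h = 0 → m h' = 0 → C.T e h h' = 0)
    (h₀ : V) (h0m : m h₀ = 0) (h0l : C.T e e h₀ = 0) (h0 : h₀ ≠ 0) (hF0 : C.F h₀ = 0) :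
    ∃ k, m k = 0 ∧ C.T e e k = 0 ∧ C.T h₀ h₀ k ≠ 0 := by
  by_contra hcon
  push Not at hcon
  have he : e ≠ 0 := by
    rintro rfl
    simp at me
  have hdec : ∀ w : V, m (w - m w • e) = 0 := by
    intro w; simp [me]
  have hFe' : C.T e e e = 0 := hFe
  obtain ⟨w, hw⟩ := hs e he hFe
  obtain ⟨hs', hms, hls⟩ : ∃ h', m h' = 0 ∧ C.T e e h' ≠ 0 := by
    refine ⟨w - m w • e, hdec w, ?_⟩
    simp only [map_sub, map_smul, smul_eq_mul, hFe', mul_zero, sub_zero]
    exact hw
  set lam := C.T h₀ h₀ hs' / C.T e e hs' with hlam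
  have hprop : ∀ h, m h = 0 → C.T h₀ h₀ h = lam * C.T e e h := by
    intro h hh
    have := hcon (h - (C.T e e h / C.T e e hs') • hs') (by simp [hh, hms])
      (by simp only [map_sub, map_smul, smul_eq_mul]; field_simp; ring)
    simp only [map_sub, map_smul, smul_eq_mul] at this
    rw [sub_eq_zero.mp this, hlam]
    ring
  obtain ⟨t, ht⟩ := IsAlgClosed.exists_eq_mul_self (-lam)
  have hv0 : t • e + (1:ℂ) • h₀ ≠ 0 := by
    intro h
    have h1 := congrArg m h
    simp only [map_add, map_smul, me, h0m, smul_eq_mul, mul_one, mul_zero, add_zero, map_zero] at h1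
    rw [h1] at h
    simp at h
    exact h0 h
  have hFv : C.F (t • e + (1:ℂ) • h₀) = 0 := by
    rw [C.expand2, hFe, hF0, h0l, hq h₀ h₀ h0m h0m]
    ring
  obtain ⟨w', hw'⟩ := hs _ hv0 hFv
  apply hw'
  rw [C.texpand2]
  have hw2 : w' = m w' • e + (w' - m w' • e) := by abel
  have h1 : C.T e e w' = C.T e e (w' - m w' • e) := by
    simp only [map_sub, map_smul, smul_eq_mul, hFe', mul_zero, sub_zero]
  have h2 : C.T e h₀ w' = 0 := by
    rw [hw2, map_add, map_smul, smul_eq_mul, C.s23 e h₀ e, h0l, hq h₀ _ h0m (hdec w')]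
    ring
  have h3 : C.T h₀ h₀ w' = lam * C.T e e (w' - m w' • e) := by
    rw [← hprop _ (hdec w')]
    simp only [map_sub, map_smul, smul_eq_mul]
    rw [C.s13 h₀ h₀ e, hq h₀ h₀ h0m h0m]
    ring
  rw [h1, h2, h3]
  linear_combination (- C.T e e (w' - m w' • e)) * ht

lemma mem_span_pair_of_finrank_two [FiniteDimensional ℂ V] (K : Submodule ℂ V)
    (hK : finrank ℂ K = 2) (a b : V) (ha : a ∈ K) (hb : b ∈ K)
    (hab : LinearIndependent ℂ ![a, b]) : ∀ k ∈ K, ∃ x y : ℂ, k = x • a + y • b := by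
  have hle : Submodule.span ℂ {a, b} ≤ K := by
    refine Submodule.span_le.mpr ?_
    rintro x (rfl | rfl)
    · exact ha
    · exact hb
  have hfr : finrank ℂ (Submodule.span ℂ {a, b}) = 2 := by
    have h1 := finrank_span_eq_card hab
    have h2 : Set.range ![a, b] = {a, b} := by
      ext x
      simp [eq_comm, or_comm]
    rw [h2] at h1
    simpa using h1
  have heq := Submodule.eq_of_le_of_finrank_eq hle (by rw [hfr, hK])
  intro k hk
  rw [← heq, Submodule.mem_span_pair] at hk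
  obtain ⟨x, y, rfl⟩ := hk
  exact ⟨x, y, rfl⟩

lemma binary_cubic [FiniteDimensional ℂ V] (K : Submodule ℂ V) (hK : finrank ℂ K = 2)
    (hsimple : ∀ h₀ ∈ K, h₀ ≠ 0 → C.F h₀ = 0 → ∃ k ∈ K, C.T h₀ h₀ k ≠ 0) :
    ∃ h₁ ∈ K, ∃ h₂ ∈ K, ∃ h₃ ∈ K, C.F h₁ = 0 ∧ C.F h₂ = 0 ∧ C.F h₃ = 0 ∧
      LinearIndependent ℂ ![h₁, h₂] ∧ LinearIndependent ℂ ![h₁, h₃] ∧
      LinearIndependent ℂ ![h₂, h₃] ∧
      ∀ h ∈ K, C.F h = 0 → h ∈ Submodule.span ℂ {h₁} ∨ h ∈ Submodule.span ℂ {h₂} ∨
        h ∈ Submodule.span ℂ {h₃} := by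
  -- a vector with F a ≠ 0
  obtain ⟨a, haK, hFa⟩ : ∃ a ∈ K, C.F a ≠ 0 := by
    by_contra hcon
    push Not at hcon
    have hT := T_eq_zero_of_F_eq_zero C K hcon
    obtain ⟨x, hx, y, -, hxy⟩ := exists_pair_in K (by omega)
    have hx0 : x ≠ 0 := by
      rintro rfl
      rw [LinearIndependent.pair_iff] at hxy
      have := (hxy 1 0 (by simp)).1
      exact one_ne_zero this
    obtain ⟨k, hk, hne⟩ := hsimple x hx hx0 (hcon x hx)
    exact hne (hT x hx x hx k hk)
  have ha0 : a ≠ 0 := by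
    rintro rfl
    apply hFa
    simp [Tri.F]
  -- complete to a basis
  obtain ⟨b, hbK, hab⟩ : ∃ b ∈ K, LinearIndependent ℂ ![a, b] := by
    obtain ⟨y, hy⟩ := exists_linearIndependent_pair_of_one_lt_finrank (R := ℂ) (M := K)
      (by omega) (x := ⟨a, haK⟩) (by simpa using ha0)
    refine ⟨y, y.2, ?_⟩
    rw [LinearIndependent.pair_iff] at hy ⊢
    intro s t hst
    apply hy s t
    ext
    simpa using hst
  have hspan := mem_span_pair_of_finrank_two K hK a b haK hbK hab
  have hab' := LinearIndependent.pair_iff.mp hab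
  -- the dehomogenised cubic
  have hroot : ∀ r : ℂ, C.F (r • a + (1:ℂ) • b) =
      C.F a * r ^ 3 + (3 * C.T a a b) * r ^ 2 + (3 * C.T a b b) * r + C.F b := by
    intro r; rw [C.expand2]; ring
  obtain ⟨r₁, r₂, r₃, h12, h13, h23, hr⟩ := cubic_three_roots (C.F a) (3 * C.T a a b)
    (3 * C.T a b b) (C.F b) hFa (by
      intro r hr hder
      rw [← hroot] at hr
      have hv0 : r • a + (1:ℂ) • b ≠ 0 := by
        intro h
        exact one_ne_zero (hab' r 1 h).2
      obtain ⟨k, hk, hne⟩ := hsimple _ (K.add_mem (K.smul_mem _ haK) (K.smul_mem _ hbK)) hv0 hr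
      apply hne
      have hTa : C.T (r • a + (1:ℂ) • b) (r • a + (1:ℂ) • b) a = 0 := by
        rw [C.texpand2, C.s23 a b a, C.s13 b b a]
        have : C.T a a a = C.F a := rfl
        rw [this]
        linear_combination (1/3 : ℂ) * hder
      have hTb : C.T (r • a + (1:ℂ) • b) (r • a + (1:ℂ) • b) b = 0 := by
        have h1 : C.T (r • a + (1:ℂ) • b) (r • a + (1:ℂ) • b) (r • a + (1:ℂ) • b) = 0 := hr
        rw [map_add, map_smul, map_smul, hTa] at h1
        simpa using h1
      obtain ⟨x, y, rfl⟩ := hspan k hk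
      rw [map_add, map_smul, map_smul, hTa, hTb]
      simp)
  have hmemK : ∀ r : ℂ, r • a + (1:ℂ) • b ∈ K := fun r =>
    K.add_mem (K.smul_mem _ haK) (K.smul_mem _ hbK)
  have hind : ∀ r s : ℂ, r ≠ s → LinearIndependent ℂ ![r • a + (1:ℂ) • b, s • a + (1:ℂ) • b] := by
    intro r s hrs
    rw [LinearIndependent.pair_iff]
    intro x y hxy
    have h1 : (x * r + y * s) • a + (x + y) • b = 0 := by
      rw [← hxy]
      simp only [smul_add, smul_smul, add_smul, mul_one]
      abel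
    obtain ⟨e1, e2⟩ := hab' _ _ h1
    have hx : x * (r - s) = 0 := by linear_combination e1 - s * e2
    have hx0 : x = 0 := (mul_eq_zero.mp hx).resolve_right (sub_ne_zero.mpr hrs)
    refine ⟨hx0, ?_⟩
    rw [hx0] at e2
    simpa using e2
  refine ⟨_, hmemK r₁, _, hmemK r₂, _, hmemK r₃, ?_, ?_, ?_, hind _ _ h12, hind _ _ h13,
    hind _ _ h23, ?_⟩
  · rw [hroot]; exact (hr r₁).mpr (Or.inl rfl)
  · rw [hroot]; exact (hr r₂).mpr (Or.inr (Or.inl rfl))
  · rw [hroot]; exact (hr r₃).mpr (Or.inr (Or.inr rfl))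
  · intro h hh hFh
    obtain ⟨x, y, rfl⟩ := hspan h hh
    by_cases hy : y = 0
    · subst hy
      rw [zero_smul, add_zero] at hFh ⊢
      have : C.F (x • a) = x ^ 3 * C.F a := by
        simp only [Tri.F, map_smul, LinearMap.smul_apply, smul_eq_mul]; ring
      rw [this] at hFh
      have hx : x = 0 := by
        rcases mul_eq_zero.mp hFh with h | h
        · exact pow_eq_zero_iff (by norm_num) |>.mp h
        · exact absurd h hFa
      rw [hx, zero_smul]
      exact Or.inl (Submodule.zero_mem _)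
    · have hxy : x • a + y • b = y • ((x / y) • a + (1:ℂ) • b) := by
        rw [smul_add, smul_smul, smul_smul, mul_div_cancel₀ _ hy, mul_one]
      have hF2 : C.F ((x / y) • a + (1:ℂ) • b) = 0 := by
        rw [hxy] at hFh
        have : C.F (y • ((x / y) • a + (1:ℂ) • b)) = y ^ 3 * C.F ((x / y) • a + (1:ℂ) • b) := by
          simp only [Tri.F, map_smul, LinearMap.smul_apply, smul_eq_mul]; ring
        rw [this] at hFh
        rcases mul_eq_zero.mp hFh with h | h
        · exact absurd (pow_eq_zero_iff (by norm_num) |>.mp h) hy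
        · exact h
      rw [hroot] at hF2
      rw [hxy]
      rcases (hr _).mp hF2 with h | h | h
      · exact Or.inl (Submodule.smul_mem _ _ (by rw [h]; exact Submodule.mem_span_singleton_self _))
      · exact Or.inr (Or.inl (Submodule.smul_mem _ _ (by rw [h]; exact Submodule.mem_span_singleton_self _)))
      · exact Or.inr (Or.inr (Submodule.smul_mem _ _ (by rw [h]; exact Submodule.mem_span_singleton_self _)))

lemma finrank_K [FiniteDimensional ℂ V] (hV : finrank ℂ V = 4) (e : V) (m : V →ₗ[ℂ] ℂ)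
    (me : m e = 1) (hFe : C.F e = 0) (hs : ∃ h, m h = 0 ∧ C.T e e h ≠ 0) :
    finrank ℂ ↥(LinearMap.ker m ⊓ LinearMap.ker (C.T e e)) = 2 := by
  obtain ⟨h, hm, hl⟩ := hs
  have hker : LinearMap.ker m ⊓ LinearMap.ker (C.T e e) = LinearMap.ker (m.prod (C.T e e)) := by
    rw [LinearMap.ker_prod]
  have hsurj : LinearMap.range (m.prod (C.T e e)) = ⊤ := by
    rw [LinearMap.range_eq_top]
    rintro ⟨x, y⟩
    refine ⟨x • e + (y / C.T e e h) • h, ?_⟩
    have hFe' : C.T e e e = 0 := hFe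
    ext
    · simp [me, hm]
    · simp [hFe', hl]
  have := LinearMap.finrank_range_add_finrank_ker (m.prod (C.T e e))
  rw [hsurj, finrank_top, hV, Module.finrank_prod, Module.finrank_self] at this
  rw [hker]
  omega

end Groth.Agent.Helper9.CubicForm
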