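import Mathlib

namespace Groth.Agent.Helper9.Curvilinear
universe u
open Polynomial

lemma key_gen (A : Type u) [CommRing A] [IsRegularLocalRing A] (hdim : ringKrullDim A = 2)
    (g : A) (hgM : g ∈ IsLocalRing.maximalIdeal A) (hg : g ∉ IsLocalRing.maximalIdeal A ^ 2) :
    ∃ b' : A, b' ∈ IsLocalRing.maximalIdeal A ∧ IsLocalRing.maximalIdeal A = Ideal.span {g, b'} := by
  classical
  have hsf : (IsLocalRing.maximalIdeal A).spanFinrank = 2 := by
    have := IsRegularLocalRing.spanFinrank_maximalIdeal (R := A)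
    rw [hdim] at this
    exact_mod_cast this
  obtain ⟨s, hs1, hs2⟩ := Submodule.FG.exists_span_finset_card_eq_spanFinrank
    (IsNoetherian.noetherian (IsLocalRing.maximalIdeal A))
  rw [hsf] at hs1
  obtain ⟨a, b, hab, rfl⟩ := Finset.card_eq_two.1 hs1
  have haM : a ∈ IsLocalRing.maximalIdeal A := by
    rw [← hs2]; exact Submodule.subset_span (by simp)
  have hbM : b ∈ IsLocalRing.maximalIdeal A := by
    rw [← hs2]; exact Submodule.subset_span (by simp)
  have hg' := hgM
  rw [← hs2] at hg'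
  simp only [Finset.coe_insert, Finset.coe_singleton] at hg' hs2
  rw [Submodule.mem_span_pair] at hg'
  obtain ⟨α, β, hαβ⟩ := hg'
  have hgb : Ideal.span {g, a} ≤ IsLocalRing.maximalIdeal A ∧
      Ideal.span {g, b} ≤ IsLocalRing.maximalIdeal A := by
    constructor <;>
    · rw [Ideal.span_le]
      intro x hx
      rcases hx with rfl | rfl <;> assumption
  by_cases hα : IsUnit α
  · refine ⟨b, hbM, le_antisymm ?_ hgb.2⟩
    rw [← hs2]
    refine Submodule.span_le.2 ?_
    intro x hx
    rcases hx with rfl | rfl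
    · obtain ⟨u, rfl⟩ := hα
      have : x = (↑u⁻¹ : A) * g - (↑u⁻¹ : A) * β * b := by
        rw [← hαβ]; simp only [smul_eq_mul]; ring_nf; simp
      rw [this]
      exact sub_mem (Ideal.mul_mem_left _ _ (Ideal.subset_span (by simp)))
        (Ideal.mul_mem_left _ _ (Ideal.subset_span (by simp)))
    · exact Ideal.subset_span (by simp)
  · by_cases hβ : IsUnit β
    · refine ⟨a, haM, le_antisymm ?_ hgb.1⟩
      rw [← hs2]
      refine Submodule.span_le.2 ?_
      intro x hx
      rcases hx with rfl | rfl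
      · exact Ideal.subset_span (by simp)
      · obtain ⟨u, rfl⟩ := hβ
        have : x = (↑u⁻¹ : A) * g - (↑u⁻¹ : A) * α * a := by
          rw [← hαβ]; simp only [smul_eq_mul]; ring_nf; simp
        rw [this]
        exact sub_mem (Ideal.mul_mem_left _ _ (Ideal.subset_span (by simp)))
          (Ideal.mul_mem_left _ _ (Ideal.subset_span (by simp)))
    · exfalso
      apply hg
      rw [← hαβ, pow_two]
      exact add_mem (Ideal.mul_mem_mul ((IsLocalRing.mem_maximalIdeal _).2 hα) haM)
        (Ideal.mul_mem_mul ((IsLocalRing.mem_maximalIdeal _).2 hβ) hbM)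

lemma trunc_of_principal (k : Type u) [Field k] (B : Type u) [CommRing B] [Algebra k B]
    [Module.Finite k B] [IsLocalRing B] (x : B) (hx : x ∈ IsLocalRing.maximalIdeal B)
    (hdec : ∀ y : B, ∃ c : k, ∃ z : B, y = algebraMap k B c + x * z) (n : ℕ)
    (hn : Module.finrank k B = n) :
    Nonempty (B ≃ₐ[k] (k[X] ⧸ Ideal.span {(X : k[X]) ^ n})) := by
  haveI : IsArtinianRing B := IsArtinianRing.of_finite k B
  -- nilpotent
  obtain ⟨N, hN⟩ : ∃ N, x ^ N = 0 := by
    have h1 := IsArtinianRing.isNilpotent_jacobson_bot (R := B)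
    rw [IsLocalRing.jacobson_eq_maximalIdeal ⊥ bot_ne_top] at h1
    obtain ⟨N, hN⟩ := h1
    refine ⟨N, ?_⟩
    have : x ^ N ∈ IsLocalRing.maximalIdeal B ^ N := Ideal.pow_mem_pow hx N
    rw [hN] at this
    exact this
  let φ : k[X] →ₐ[k] B := aeval x
  have hsurj : Function.Surjective φ := by
    have : ∀ j : ℕ, ∀ y : B, ∃ p : k[X], ∃ z : B, y = φ p + x ^ j * z := by
      intro j
      induction j with
      | zero => intro y; exact ⟨0, y, by simp⟩
      | succ j ih =>
        intro y
        obtain ⟨p, z, hz⟩ := ih y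
        obtain ⟨c, w, hw⟩ := hdec z
        refine ⟨p + C c * X ^ j, w, ?_⟩
        rw [hz, hw]
        simp only [φ, map_add, map_mul, aeval_C, map_pow, aeval_X]
        ring
    intro y
    obtain ⟨p, z, hz⟩ := this N y
    exact ⟨p, by rw [hz, hN, zero_mul, add_zero]⟩
  -- kernel
  have hXN : (X : k[X]) ^ N ∈ RingHom.ker φ := by
    rw [RingHom.mem_ker]
    change aeval x (X ^ N) = 0
    rw [map_pow, aeval_X, hN]
  obtain ⟨p, hp⟩ : ∃ p, RingHom.ker φ = Ideal.span {p} :=
    ⟨_, (Ideal.span_singleton_generator (RingHom.ker φ)).symm⟩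
  have hdvd : p ∣ X ^ N := by
    rw [← Ideal.mem_span_singleton, ← hp]; exact hXN
  obtain ⟨m, hm, hass⟩ := (dvd_prime_pow Polynomial.prime_X N).1 hdvd
  have hker : RingHom.ker φ = Ideal.span {(X : k[X]) ^ m} := by
    rw [hp]; exact Ideal.span_singleton_eq_span_singleton.2 hass
  let e : (k[X] ⧸ RingHom.ker φ) ≃ₐ[k] B := Ideal.quotientKerAlgEquivOfSurjective hsurj
  have hfin : Module.finrank k (k[X] ⧸ Ideal.span {(X:k[X]) ^ m}) = m := by
    rw [finrank_quotient_span_eq_natDegree]; simp
  have hmn : m = n := by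
    rw [← hn, ← hfin]
    exact LinearEquiv.finrank_eq ((Ideal.quotientEquivAlgOfEq k hker).symm.trans e).toLinearEquiv
  subst hmn
  exact ⟨(e.symm).trans (Ideal.quotientEquivAlgOfEq k hker)⟩

end Groth.Agent.Helper9.Curvilinear
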