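import Mathlib
import Groth.Prelude.Def_KFlatSite
import Groth.Agent.Helper9.CxAssoc1

/-!
# Naturality of the associator of the tensor product of complexes in the first variable
-/

set_option autoImplicit false
set_option linter.style.haveILetI false
set_option linter.unusedSectionVars false

namespace Groth.Agent.Helper9.CxAssoc2

open CategoryTheory Category Limits HomologicalComplex CochainComplex
  Groth.Agent.Helper9.CxAssoc1

universe u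

variable {C : Type u} [SmallCategory C] {J : GrothendieckTopology C} {O : Sheaf J CommRingCat.{u}}

variable {K₁ K₁' : CochainComplex (ModSite.Mod O) ℤ} (f : K₁ ⟶ K₁')
  (K₂ K₃ : CochainComplex (ModSite.Mod O) ℤ)

local notation "T" => Groth.Agent.Helper9.TensorAssoc3.T O
local notation "c" => ComplexShape.up ℤ

lemma ι₁₂_map (i₁ i₂ i₃ j : ℤ) (h : ComplexShape.r c c c c c (i₁, i₂, i₃) = j) :
    mapBifunctor₁₂.ι T T K₁ K₂ K₃ c c i₁ i₂ i₃ j h ≫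
      (mapBifunctorMap (mapBifunctorMap f (𝟙 K₂) T c) (𝟙 K₃) T c).f j =
    ((T).map (((T).map (f.f i₁)).app (K₂.X i₂))).app (K₃.X i₃) ≫
      mapBifunctor₁₂.ι T T K₁' K₂ K₃ c c i₁ i₂ i₃ j h := by
  have h₁₂ : ComplexShape.π c c c (i₁, i₂) = i₁ + i₂ := rfl
  have h' : ComplexShape.π c c c (i₁ + i₂, i₃) = j := h
  have e₁ := mapBifunctor₁₂.ι_eq T T K₁ K₂ K₃ c c i₁ i₂ i₃ (i₁ + i₂) j h₁₂ h'
  have e₁' := mapBifunctor₁₂.ι_eq T T K₁' K₂ K₃ c c i₁ i₂ i₃ (i₁ + i₂) j h₁₂ h'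
  rw [e₁, e₁', Category.assoc, ι_mapBifunctorMap]
  simp only [HomologicalComplex.id_f]
  rw [← NatTrans.comp_app_assoc, ← Functor.map_comp, ι_mapBifunctorMap,
    ← NatTrans.comp_app_assoc, ← Functor.map_comp]
  simp

lemma ι₂₃_map (i₁ i₂ i₃ j : ℤ) (h : ComplexShape.r c c c c c (i₁, i₂, i₃) = j) :
    mapBifunctor₂₃.ι T T K₁ K₂ K₃ c c c i₁ i₂ i₃ j h ≫
      (mapBifunctorMap f (𝟙 (mapBifunctor K₂ K₃ T c)) T c).f j =
    ((T).map (f.f i₁)).app (((T).obj (K₂.X i₂)).obj (K₃.X i₃)) ≫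
      mapBifunctor₂₃.ι T T K₁' K₂ K₃ c c c i₁ i₂ i₃ j h := by
  have h₂₃ : ComplexShape.π c c c (i₂, i₃) = i₂ + i₃ := rfl
  have h' : ComplexShape.π c c c (i₁, i₂ + i₃) = j := by
    rw [← h]
    show i₁ + (i₂ + i₃) = i₁ + i₂ + i₃
    ring
  have e₁ := mapBifunctor₂₃.ι_eq T T K₁ K₂ K₃ c c c i₁ i₂ i₃ (i₂ + i₃) j h₂₃ h'
  have e₁' := mapBifunctor₂₃.ι_eq T T K₁' K₂ K₃ c c c i₁ i₂ i₃ (i₂ + i₃) j h₂₃ h'
  have nat := ((T).map (f.f i₁)).naturality (ιMapBifunctor K₂ K₃ T c i₂ i₃ (i₂ + i₃) h₂₃)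
  rw [e₁, e₁', Category.assoc, ι_mapBifunctorMap]
  rw [HomologicalComplex.id_f, CategoryTheory.Functor.map_id, Category.id_comp,
    ← Category.assoc, nat, Category.assoc]

/-- naturality of the associator in the first variable -/
theorem assocCx_naturality₁ :
    mapBifunctorMap (mapBifunctorMap f (𝟙 K₂) T c) (𝟙 K₃) T c ≫ (assocCx K₁' K₂ K₃).hom =
      (assocCx K₁ K₂ K₃).hom ≫ mapBifunctorMap f (𝟙 (mapBifunctor K₂ K₃ T c)) T c := by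
  refine HomologicalComplex.hom_ext _ _ (fun j => ?_)
  apply mapBifunctor₁₂.hom_ext
  intro i₁ i₂ i₃ h
  have e1 : (assocCx K₁' K₂ K₃).hom.f j =
      (mapBifunctorAssociatorX (Groth.Agent.Helper9.TensorAssoc3.assoc3 (O := O))
        K₁' K₂ K₃ c c c j).hom := rfl
  have e2 : (assocCx K₁ K₂ K₃).hom.f j =
      (mapBifunctorAssociatorX (Groth.Agent.Helper9.TensorAssoc3.assoc3 (O := O))
        K₁ K₂ K₃ c c c j).hom := rfl
  have a1 : mapBifunctor₁₂.ι T T K₁' K₂ K₃ c c i₁ i₂ i₃ j h ≫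
      (mapBifunctorAssociatorX (Groth.Agent.Helper9.TensorAssoc3.assoc3 (O := O))
        K₁' K₂ K₃ c c c j).hom =
      (Groth.Agent.Helper9.TensorAssoc3.assocObj (K₁'.X i₁) (K₂.X i₂) (K₃.X i₃)).hom ≫
        mapBifunctor₂₃.ι T T K₁' K₂ K₃ c c c i₁ i₂ i₃ j h :=
    ι_mapBifunctorAssociatorX_hom (Groth.Agent.Helper9.TensorAssoc3.assoc3 (O := O))
      K₁' K₂ K₃ c c c i₁ i₂ i₃ j h
  have a2 : mapBifunctor₁₂.ι T T K₁ K₂ K₃ c c i₁ i₂ i₃ j h ≫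
      (mapBifunctorAssociatorX (Groth.Agent.Helper9.TensorAssoc3.assoc3 (O := O))
        K₁ K₂ K₃ c c c j).hom =
      (Groth.Agent.Helper9.TensorAssoc3.assocObj (K₁.X i₁) (K₂.X i₂) (K₃.X i₃)).hom ≫
        mapBifunctor₂₃.ι T T K₁ K₂ K₃ c c c i₁ i₂ i₃ j h :=
    ι_mapBifunctorAssociatorX_hom (Groth.Agent.Helper9.TensorAssoc3.assoc3 (O := O))
      K₁ K₂ K₃ c c c i₁ i₂ i₃ j h
  have n : ((T).map (((T).map (f.f i₁)).app (K₂.X i₂))).app (K₃.X i₃) ≫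
      (Groth.Agent.Helper9.TensorAssoc3.assocObj (K₁'.X i₁) (K₂.X i₂) (K₃.X i₃)).hom =
      (Groth.Agent.Helper9.TensorAssoc3.assocObj (K₁.X i₁) (K₂.X i₂) (K₃.X i₃)).hom ≫
        ((T).map (f.f i₁)).app (((T).obj (K₂.X i₂)).obj (K₃.X i₃)) :=
    NatTrans.naturality_app_app (Groth.Agent.Helper9.TensorAssoc3.assoc3 (O := O)).hom
      (f.f i₁) (K₂.X i₂) (K₃.X i₃)
  have m1 := ι₁₂_map f K₂ K₃ i₁ i₂ i₃ j h
  have m2 := ι₂₃_map f K₂ K₃ i₁ i₂ i₃ j h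
  rw [HomologicalComplex.comp_f, HomologicalComplex.comp_f, e1, e2,
    ← Category.assoc, m1, Category.assoc, a1,
    ← Category.assoc (mapBifunctor₁₂.ι T T K₁ K₂ K₃ c c i₁ i₂ i₃ j h), a2, Category.assoc, m2,
    ← Category.assoc, ← Category.assoc, n]

end Groth.Agent.Helper9.CxAssoc2
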