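import Mathlib
import Groth.Prelude.Def_DRing4
import Groth.Agent.Helper9.CxPair1

/-!
# Exact pairings of complexes of modules: the `M` side
-/

universe u
open CategoryTheory CategoryTheory.Limits MonoidalCategory
open Groth.Agent.Helper6
open scoped TensorProduct

namespace Groth.Agent.Helper9.CxPair

variable {R : Type u} [CommRing R] (M N : DRing.Cx R) [ExactPairing M N]

/-- the endomorphism of `M.X n` attached to an element of `(M ⊗ N).X 0` -/
noncomputable def psi (n : ℤ) (v : ((M ⊗ N).X 0 : Type u)) : (M.X n : Type u) →ₗ[R] (M.X n : Type u) :=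
  ((ρ_ M).hom.f n).hom ∘ₗ ((M ◁ ε_ M N).f n).hom ∘ₗ ((α_ M N M).hom.f n).hom ∘ₗ
    (TenCx.ι (M ⊗ N) M 0 n n (zero_add n)).hom ∘ₗ (TensorProduct.mk R _ _ v)

lemma psi_apply (n : ℤ) (v : ((M ⊗ N).X 0 : Type u)) (m : M.X n) :
    psi M N n v m = (ρ_ M).hom.f n ((M ◁ ε_ M N).f n ((α_ M N M).hom.f n
      (TenCx.ι (M ⊗ N) M 0 n n (zero_add n) (v ⊗ₜ[R] m)))) := rfl

lemma psi_zero (n : ℤ) : psi M N n 0 = 0 := by
  ext m
  rw [psi_apply, TensorProduct.zero_tmul]
  simp

lemma psi_add (n : ℤ) (v w : ((M ⊗ N).X 0 : Type u)) :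
    psi M N n (v + w) = psi M N n v + psi M N n w := by
  ext m
  rw [LinearMap.add_apply, psi_apply, psi_apply, psi_apply, TensorProduct.add_tmul]
  simp

lemma psi_eta (n : ℤ) : psi M N n ((η_ M N).f 0 one') = LinearMap.id := by
  ext m
  rw [psi_apply, LinearMap.id_apply]
  have e1 : TenCx.ι (M ⊗ N) M 0 n n (zero_add n) ((η_ M N).f 0 one' ⊗ₜ[R] m) =
      (η_ M N ▷ M).f n ((λ_ M).inv.f n m) := by
    rw [leftUnitor_inv_apply, whiskerRight_apply]
  rw [e1]
  have e2 := ExactPairing.evaluation_coevaluation M N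
  have e3 : ∀ z, (M ◁ ε_ M N).f n ((α_ M N M).hom.f n ((η_ M N ▷ M).f n z)) =
      (ρ_ M).inv.f n ((λ_ M).hom.f n z) := fun z =>
    congrArg (fun f => (f.f n).hom z) e2
  rw [e3]
  have e4 : (λ_ M).hom.f n ((λ_ M).inv.f n m) = m := by
    have : (λ_ M).inv.f n ≫ (λ_ M).hom.f n = 𝟙 _ := by
      rw [← HomologicalComplex.comp_f, Iso.inv_hom_id]
      rfl
    exact congrArg (fun f => f.hom m) this
  rw [e4]
  have : (ρ_ M).inv.f n ≫ (ρ_ M).hom.f n = 𝟙 _ := by
    rw [← HomologicalComplex.comp_f, Iso.inv_hom_id]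
    rfl
  exact congrArg (fun f => f.hom m) this


lemma rightUnitor_hom_apply (K : DRing.Cx R) (n : ℤ) (x : K.X n)
    (r : ((𝟙_ (DRing.Cx R) : DRing.Cx R).X 0 : Type u)) :
    (ρ_ K).hom.f n (TenCx.ι K (𝟙_ (DRing.Cx R)) n 0 n (add_zero n) (x ⊗ₜ[R] r)) = coord r • x := by
  conv_lhs => rw [← coord_smul_one' r]
  rw [TensorProduct.tmul_smul, map_smul, map_smul, ← rightUnitor_inv_apply]
  congr 1
  have : (ρ_ K).inv.f n ≫ (ρ_ K).hom.f n = 𝟙 _ := by
    rw [← HomologicalComplex.comp_f, Iso.inv_hom_id]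
    rfl
  exact congrArg (fun f => f.hom x) this

lemma leftUnitor_hom_apply (K : DRing.Cx R) (n : ℤ) (x : K.X n)
    (r : ((𝟙_ (DRing.Cx R) : DRing.Cx R).X 0 : Type u)) :
    (λ_ K).hom.f n (TenCx.ι (𝟙_ (DRing.Cx R)) K 0 n n (zero_add n) (r ⊗ₜ[R] x)) = coord r • x := by
  conv_lhs => rw [← coord_smul_one' r]
  rw [← TensorProduct.smul_tmul', map_smul, map_smul, ← leftUnitor_inv_apply]
  congr 1
  have : (λ_ K).inv.f n ≫ (λ_ K).hom.f n = 𝟙 _ := by
    rw [← HomologicalComplex.comp_f, Iso.inv_hom_id]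
    rfl
  exact congrArg (fun f => f.hom x) this

lemma psi_pure_core (p q n k : ℤ) (h : p + q = 0) (hk : q + n = k) (hpk : p + k = n)
    (x : M.X p) (y : N.X q) (m : M.X n) :
    (M ◁ ε_ M N).f n ((α_ M N M).hom.f n (TenCx.ι (M ⊗ N) M 0 n n (zero_add n)
      (TenCx.ι M N p q 0 h (x ⊗ₜ[R] y) ⊗ₜ[R] m))) =
    TenCx.ι M (𝟙_ (DRing.Cx R)) p k n hpk
      (x ⊗ₜ[R] (ε_ M N).f k (TenCx.ι N M q n k hk (y ⊗ₜ[R] m))) := by
  rw [associator_hom_apply M N M p q n 0 k n h hk (zero_add n) hpk, whiskerLeft_apply]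

lemma psi_pure_ne (p q n : ℤ) (h : p + q = 0) (hn : n ≠ p) (x : M.X p) (y : N.X q) :
    psi M N n (TenCx.ι M N p q 0 h (x ⊗ₜ[R] y)) = 0 := by
  ext m
  rw [psi_apply, psi_pure_core M N p q n (q + n) h rfl (by omega)]
  have : (ε_ M N).f (q + n) (TenCx.ι N M q n (q + n) rfl (y ⊗ₜ[R] m)) = 0 :=
    unit_eq_zero _ (by omega) _
  rw [this, TensorProduct.tmul_zero, map_zero, map_zero]
  rfl

lemma psi_pure_eq (p q : ℤ) (h : p + q = 0) (x : M.X p) (y : N.X q) :
    ∃ c : (M.X p : Type u) →ₗ[R] R,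
      psi M N p (TenCx.ι M N p q 0 h (x ⊗ₜ[R] y)) = c.smulRight x := by
  have hq : q + p = 0 := by omega
  refine ⟨coord ∘ₗ ((ε_ M N).f 0).hom ∘ₗ (TenCx.ι N M q p 0 hq).hom ∘ₗ TensorProduct.mk R _ _ y, ?_⟩
  ext m
  rw [psi_apply, psi_pure_core M N p q p 0 h hq (add_zero p), rightUnitor_hom_apply]
  rfl


/-- the property proved by induction -/
def Good (v : ((M ⊗ N).X 0 : Type u)) : Prop :=
  (∀ n, IsFF (psi M N n v)) ∧ ∃ S : Finset ℤ, ∀ n, n ∉ S → psi M N n v = 0

lemma good_zero : Good M N 0 :=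
  ⟨fun n => by rw [psi_zero]; exact isFF_zero, ∅, fun n _ => psi_zero M N n⟩

lemma good_add {v w : ((M ⊗ N).X 0 : Type u)} (hv : Good M N v) (hw : Good M N w) :
    Good M N (v + w) := by
  classical
  obtain ⟨hv1, S, hS⟩ := hv
  obtain ⟨hw1, S', hS'⟩ := hw
  refine ⟨fun n => by rw [psi_add]; exact isFF_add (hv1 n) (hw1 n), S ∪ S', fun n hn => ?_⟩
  rw [Finset.mem_union, not_or] at hn
  rw [psi_add, hS n hn.1, hS' n hn.2, add_zero]

theorem good (v : ((M ⊗ N).X 0 : Type u)) : Good M N v := by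
  refine TenCx.induction_on (P := fun v => Good M N v) (good_zero M N)
    (fun x y hx hy => good_add M N hx hy) (fun p q h t => ?_) v
  induction t using TensorProduct.induction_on with
  | zero => rw [map_zero]; exact good_zero M N
  | add a b ha hb => rw [map_add]; exact good_add M N ha hb
  | tmul x y =>
    refine ⟨fun n => ?_, {p}, fun n hn => ?_⟩
    · by_cases hn : n = p
      · subst hn
        obtain ⟨c, hc⟩ := psi_pure_eq M N n q h x y
        rw [hc]
        exact isFF_smulRight c x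
      · rw [psi_pure_ne M N p q n h hn]
        exact isFF_zero
    · rw [Finset.mem_singleton] at hn
      exact psi_pure_ne M N p q n h hn x y

theorem left_result (M N : DRing.Cx R) [ExactPairing M N] :
    (∃ a b : ℤ, DRing.VanishesOutside M a b) ∧ DRing.TermwiseFiniteProjective M := by
  obtain ⟨h1, S, hS⟩ := good M N ((η_ M N).f 0 one')
  refine ⟨?_, fun n => ?_⟩
  · obtain ⟨b, hb⟩ := S.bddAbove
    obtain ⟨a, ha⟩ := S.bddBelow
    refine ⟨a, b, fun i hi => ?_⟩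
    have hiS : i ∉ S := fun hmem => by
      have h1 := ha hmem
      have h2 := hb hmem
      omega
    have h0 := hS i hiS
    rw [psi_eta] at h0
    have : Subsingleton (M.X i) := ⟨fun x y => by
      have hx := LinearMap.congr_fun h0 x
      have hy := LinearMap.congr_fun h0 y
      simp only [LinearMap.id_apply, LinearMap.zero_apply] at hx hy
      rw [hx, hy]⟩
    exact ModuleCat.isZero_of_subsingleton _
  · have := h1 n
    rw [psi_eta] at this
    exact finite_projective_of_isFF_id this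

end Groth.Agent.Helper9.CxPair
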