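import Mathlib
import Groth.Prelude.Def_DRing4
import Groth.Agent.Helper9.CxPair2

/-!
# Exact pairings of complexes of modules: the `N` side
-/

universe u
open CategoryTheory CategoryTheory.Limits MonoidalCategory
open Groth.Agent.Helper6
open scoped TensorProduct

namespace Groth.Agent.Helper9.CxPair

variable {R : Type u} [CommRing R] (M N : DRing.Cx R) [ExactPairing M N]

/-- the endomorphism of `N.X n` attached to an element of `(M ⊗ N).X 0` -/
noncomputable def phi (n : ℤ) (v : ((M ⊗ N).X 0 : Type u)) : (N.X n : Type u) →ₗ[R] (N.X n : Type u) :=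
  ((λ_ N).hom.f n).hom ∘ₗ ((ε_ M N ▷ N).f n).hom ∘ₗ ((α_ N M N).inv.f n).hom ∘ₗ
    (TenCx.ι N (M ⊗ N) n 0 n (add_zero n)).hom ∘ₗ ((TensorProduct.mk R _ _).flip v)

lemma phi_apply (n : ℤ) (v : ((M ⊗ N).X 0 : Type u)) (y : N.X n) :
    phi M N n v y = (λ_ N).hom.f n ((ε_ M N ▷ N).f n ((α_ N M N).inv.f n
      (TenCx.ι N (M ⊗ N) n 0 n (add_zero n) (y ⊗ₜ[R] v)))) := rfl

lemma phi_zero (n : ℤ) : phi M N n 0 = 0 := by
  ext m
  rw [phi_apply, TensorProduct.tmul_zero]
  simp

lemma phi_add (n : ℤ) (v w : ((M ⊗ N).X 0 : Type u)) :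
    phi M N n (v + w) = phi M N n v + phi M N n w := by
  ext m
  rw [LinearMap.add_apply, phi_apply, phi_apply, phi_apply, TensorProduct.tmul_add]
  simp

lemma phi_eta (n : ℤ) : phi M N n ((η_ M N).f 0 one') = LinearMap.id := by
  ext y
  rw [phi_apply, LinearMap.id_apply]
  have e1 : TenCx.ι N (M ⊗ N) n 0 n (add_zero n) (y ⊗ₜ[R] (η_ M N).f 0 one') =
      (N ◁ η_ M N).f n ((ρ_ N).inv.f n y) := by
    rw [rightUnitor_inv_apply, whiskerLeft_apply]
  rw [e1]
  have e2 := ExactPairing.coevaluation_evaluation M N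
  have e3 : ∀ z, (ε_ M N ▷ N).f n ((α_ N M N).inv.f n ((N ◁ η_ M N).f n z)) =
      (λ_ N).inv.f n ((ρ_ N).hom.f n z) := fun z =>
    congrArg (fun f => (f.f n).hom z) e2
  rw [e3]
  have e4 : (ρ_ N).hom.f n ((ρ_ N).inv.f n y) = y := by
    have : (ρ_ N).inv.f n ≫ (ρ_ N).hom.f n = 𝟙 _ := by
      rw [← HomologicalComplex.comp_f, Iso.inv_hom_id]
      rfl
    exact congrArg (fun f => f.hom y) this
  rw [e4]
  have : (λ_ N).inv.f n ≫ (λ_ N).hom.f n = 𝟙 _ := by
    rw [← HomologicalComplex.comp_f, Iso.inv_hom_id]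
    rfl
  exact congrArg (fun f => f.hom y) this

lemma phi_pure_core (p q n k : ℤ) (h : p + q = 0) (hk : n + p = k) (hkq : k + q = n)
    (x : M.X p) (y' : N.X q) (y : N.X n) :
    (ε_ M N ▷ N).f n ((α_ N M N).inv.f n (TenCx.ι N (M ⊗ N) n 0 n (add_zero n)
      (y ⊗ₜ[R] TenCx.ι M N p q 0 h (x ⊗ₜ[R] y')))) =
    TenCx.ι (𝟙_ (DRing.Cx R)) N k q n hkq
      ((ε_ M N).f k (TenCx.ι N M n p k hk (y ⊗ₜ[R] x)) ⊗ₜ[R] y') := by
  rw [associator_inv_apply N M N n p q k 0 n hk h hkq (add_zero n), whiskerRight_apply]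

lemma phi_pure_ne (p q n : ℤ) (h : p + q = 0) (hn : n ≠ q) (x : M.X p) (y' : N.X q) :
    phi M N n (TenCx.ι M N p q 0 h (x ⊗ₜ[R] y')) = 0 := by
  ext y
  rw [phi_apply, phi_pure_core M N p q n (n + p) h rfl (by omega)]
  have : (ε_ M N).f (n + p) (TenCx.ι N M n p (n + p) rfl (y ⊗ₜ[R] x)) = 0 :=
    unit_eq_zero _ (by omega) _
  rw [this, TensorProduct.zero_tmul, map_zero, map_zero]
  rfl

lemma phi_pure_eq (p q : ℤ) (h : p + q = 0) (x : M.X p) (y' : N.X q) :
    ∃ c : (N.X q : Type u) →ₗ[R] R,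
      phi M N q (TenCx.ι M N p q 0 h (x ⊗ₜ[R] y')) = c.smulRight y' := by
  have hq : q + p = 0 := by omega
  refine ⟨coord ∘ₗ ((ε_ M N).f 0).hom ∘ₗ (TenCx.ι N M q p 0 hq).hom ∘ₗ
    (TensorProduct.mk R _ _).flip x, ?_⟩
  ext y
  rw [phi_apply, phi_pure_core M N p q q 0 h hq (zero_add q), leftUnitor_hom_apply]
  rfl

/-- the property proved by induction -/
def Good' (v : ((M ⊗ N).X 0 : Type u)) : Prop :=
  (∀ n, IsFF (phi M N n v)) ∧ ∃ S : Finset ℤ, ∀ n, n ∉ S → phi M N n v = 0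

lemma good'_zero : Good' M N 0 :=
  ⟨fun n => by rw [phi_zero]; exact isFF_zero, ∅, fun n _ => phi_zero M N n⟩

lemma good'_add {v w : ((M ⊗ N).X 0 : Type u)} (hv : Good' M N v) (hw : Good' M N w) :
    Good' M N (v + w) := by
  classical
  obtain ⟨hv1, S, hS⟩ := hv
  obtain ⟨hw1, S', hS'⟩ := hw
  refine ⟨fun n => by rw [phi_add]; exact isFF_add (hv1 n) (hw1 n), S ∪ S', fun n hn => ?_⟩
  rw [Finset.mem_union, not_or] at hn
  rw [phi_add, hS n hn.1, hS' n hn.2, add_zero]

theorem good' (v : ((M ⊗ N).X 0 : Type u)) : Good' M N v := by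
  refine TenCx.induction_on (P := fun v => Good' M N v) (good'_zero M N)
    (fun x y hx hy => good'_add M N hx hy) (fun p q h t => ?_) v
  induction t using TensorProduct.induction_on with
  | zero => rw [map_zero]; exact good'_zero M N
  | add a b ha hb => rw [map_add]; exact good'_add M N ha hb
  | tmul x y =>
    refine ⟨fun n => ?_, {q}, fun n hn => ?_⟩
    · by_cases hn : n = q
      · subst hn
        obtain ⟨c, hc⟩ := phi_pure_eq M N p n h x y
        rw [hc]
        exact isFF_smulRight c y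
      · rw [phi_pure_ne M N p q n h hn]
        exact isFF_zero
    · rw [Finset.mem_singleton] at hn
      exact phi_pure_ne M N p q n h hn x y

theorem right_result (M N : DRing.Cx R) [ExactPairing M N] :
    (∃ a b : ℤ, DRing.VanishesOutside N a b) ∧ DRing.TermwiseFiniteProjective N := by
  obtain ⟨h1, S, hS⟩ := good' M N ((η_ M N).f 0 one')
  refine ⟨?_, fun n => ?_⟩
  · obtain ⟨b, hb⟩ := S.bddAbove
    obtain ⟨a, ha⟩ := S.bddBelow
    refine ⟨a, b, fun i hi => ?_⟩
    have hiS : i ∉ S := fun hmem => by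
      have h1 := ha hmem
      have h2 := hb hmem
      omega
    have h0 := hS i hiS
    rw [phi_eta] at h0
    have : Subsingleton (N.X i) := ⟨fun x y => by
      have hx := LinearMap.congr_fun h0 x
      have hy := LinearMap.congr_fun h0 y
      simp only [LinearMap.id_apply, LinearMap.zero_apply] at hx hy
      rw [hx, hy]⟩
    exact ModuleCat.isZero_of_subsingleton _
  · have := h1 n
    rw [phi_eta] at this
    exact finite_projective_of_isFF_id this

end Groth.Agent.Helper9.CxPair
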