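import Mathlib

/-!
If `Φ_n(t) = 0` in a commutative ring in which `n` is invertible, then `t ^ k - 1` is a unit for
every `k` not divisible by `n`.
-/

namespace Groth.Agent.Helper9.CycUnit

open Polynomial

variable {Q : Type*} [CommRing Q]

lemma sub_one_dvd_geom_sum_sub (y : Q) (m : ℕ) :
    y - 1 ∣ (∑ i ∈ Finset.range m, y ^ i) - (m : Q) := by
  have : (∑ i ∈ Finset.range m, y ^ i) - (m : Q) = ∑ i ∈ Finset.range m, (y ^ i - 1) := by
    rw [Finset.sum_sub_distrib]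
    simp
  rw [this]
  refine Finset.dvd_sum fun i _ => ?_
  simpa using sub_dvd_pow_sub_pow y 1 i

lemma isUnit_pow_sub_one_of_properDivisor {n e : ℕ} (t : Q) (hn : IsUnit (n : Q))
    (ht : aeval t (cyclotomic n ℤ) = 0) (he : e ∈ n.properDivisors) (he0 : e ≠ 0) :
    IsUnit (t ^ e - 1) := by
  obtain ⟨hen, hlt⟩ := Nat.mem_properDivisors.mp he
  obtain ⟨m, rfl⟩ := hen
  obtain ⟨H, hH⟩ := X_pow_sub_one_mul_cyclotomic_dvd_X_pow_sub_one_of_dvd ℤ he
  have hgeom : (X ^ (e * m) - 1 : ℤ[X]) = (∑ i ∈ Finset.range m, (X ^ e) ^ i) * (X ^ e - 1) := by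
    rw [geom_sum_mul, pow_mul]
  have hmonic : (X ^ e - 1 : ℤ[X]).Monic := by
    have := monic_X_pow_sub_C (1 : ℤ) he0
    simpa using this
  have hG : (∑ i ∈ Finset.range m, (X ^ e) ^ i : ℤ[X]) = cyclotomic (e * m) ℤ * H := by
    have h1 : (X ^ e - 1 : ℤ[X]) * (∑ i ∈ Finset.range m, (X ^ e) ^ i) =
        (X ^ e - 1) * (cyclotomic (e * m) ℤ * H) := by
      rw [mul_comm, ← hgeom, hH, mul_assoc]
    exact hmonic.isRegular.left h1
  have hGt : ∑ i ∈ Finset.range m, (t ^ e) ^ i = 0 := by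
    have := congrArg (aeval t) hG
    simpa [ht] using this
  have hdvd := sub_one_dvd_geom_sum_sub (t ^ e) m
  rw [hGt, zero_sub] at hdvd
  have hm : IsUnit (m : Q) := by
    have : ((e * m : ℕ) : Q) = (e : Q) * (m : Q) := by push_cast; ring
    rw [this] at hn
    exact isUnit_of_mul_isUnit_right hn
  exact isUnit_of_dvd_unit ((dvd_neg).mp hdvd) hm

lemma isUnit_pow_sub_one {n k : ℕ} (t : Q) (hn : IsUnit (n : Q))
    (ht : aeval t (cyclotomic n ℤ) = 0) (hk : ¬ n ∣ k) : IsUnit (t ^ k - 1) := by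
  rcases Nat.eq_zero_or_pos n with rfl | hnpos
  · have : Subsingleton Q := by
      rw [Nat.cast_zero] at hn
      exact subsingleton_of_zero_eq_one (isUnit_zero_iff.mp hn)
    exact isUnit_of_subsingleton _
  have htn : t ^ n = 1 := by
    obtain ⟨c, hc⟩ := cyclotomic.dvd_X_pow_sub_one n ℤ
    have := congrArg (aeval t) hc
    simp only [map_sub, map_pow, aeval_X, map_one, map_mul, ht, zero_mul] at this
    exact sub_eq_zero.mp this
  obtain ⟨e, he⟩ : ∃ e, e = Nat.gcd k n := ⟨_, rfl⟩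
  have hen : e ∣ n := he ▸ Nat.gcd_dvd_right k n
  have he0 : e ≠ 0 := by
    rw [he]
    exact Nat.gcd_ne_zero_right hnpos.ne'
  have hlt : e < n := by
    refine lt_of_le_of_ne (Nat.le_of_dvd hnpos hen) ?_
    intro h
    apply hk
    rw [← h, he]
    exact Nat.gcd_dvd_left k n
  have hunit := isUnit_pow_sub_one_of_properDivisor t hn ht
    (Nat.mem_properDivisors.mpr ⟨hen, hlt⟩) he0
  -- Bezout
  obtain ⟨k', hk'⟩ : ∃ k' : ℕ, (k * k') % n = e % n := by
    have hb := Nat.gcd_eq_gcd_ab k n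
    refine ⟨(Nat.gcdA k n % (n : ℤ)).toNat, ?_⟩
    have hnn : (0 : ℤ) ≤ Nat.gcdA k n % (n : ℤ) :=
      Int.emod_nonneg _ (by exact_mod_cast hnpos.ne')
    have : ((k * (Nat.gcdA k n % (n : ℤ)).toNat : ℕ) : ℤ) % (n : ℤ) = ((e : ℕ) : ℤ) % (n : ℤ) := by
      push_cast
      rw [Int.toNat_of_nonneg hnn, he, hb]
      rw [Int.mul_emod, Int.emod_emod_of_dvd _ (dvd_refl _), ← Int.mul_emod,
        Int.add_mul_emod_self_left]
    exact_mod_cast this
  have hpow : t ^ e = (t ^ k) ^ k' := by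
    rw [← pow_mul, pow_eq_pow_mod (k * k') htn, hk', ← pow_eq_pow_mod e htn]
  have hdvd : t ^ k - 1 ∣ t ^ e - 1 := by
    rw [hpow]
    simpa using sub_dvd_pow_sub_pow (t ^ k) 1 k'
  exact isUnit_of_dvd_unit hdvd hunit

end Groth.Agent.Helper9.CycUnit
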