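import Mathlib

/-!
# A natural transformation between additive functors on modules which is bijective at the ring
is bijective at all finite projective modules
-/

set_option autoImplicit false
set_option linter.style.haveILetI false
set_option linter.unusedSectionVars false

universe w w' u
open CategoryTheory

namespace Groth.Agent.Helper9.DPa0

variable {A : Type u} [CommRing A]
  (Ψ : ModuleCat.{u} A → Type w') [∀ N, AddCommGroup (Ψ N)] [∀ N, Module A (Ψ N)]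
  (Ψmap : ∀ {N N' : ModuleCat.{u} A}, (N ⟶ N') → (Ψ N →ₗ[A] Ψ N'))
  (Ψid : ∀ N : ModuleCat.{u} A, Ψmap (𝟙 N) = LinearMap.id)
  (Ψcomp : ∀ {N N' N'' : ModuleCat.{u} A} (f : N ⟶ N') (g : N' ⟶ N''),
    Ψmap (f ≫ g) = (Ψmap g).comp (Ψmap f))
  (Ψadd : ∀ {N N' : ModuleCat.{u} A} (f g : N ⟶ N'), Ψmap (f + g) = Ψmap f + Ψmap g)
  (Φ : ModuleCat.{u} A → Type w) [∀ N, AddCommGroup (Φ N)] [∀ N, Module A (Φ N)]
  (Φmap : ∀ {N N' : ModuleCat.{u} A}, (N ⟶ N') → (Φ N →ₗ[A] Φ N'))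
  (Φid : ∀ N : ModuleCat.{u} A, Φmap (𝟙 N) = LinearMap.id)
  (Φcomp : ∀ {N N' N'' : ModuleCat.{u} A} (f : N ⟶ N') (g : N' ⟶ N''),
    Φmap (f ≫ g) = (Φmap g).comp (Φmap f))
  (Φadd : ∀ {N N' : ModuleCat.{u} A} (f g : N ⟶ N'), Φmap (f + g) = Φmap f + Φmap g)
  (η : ∀ N : ModuleCat.{u} A, Ψ N →ₗ[A] Φ N)
  (ηnat : ∀ {N N' : ModuleCat.{u} A} (f : N ⟶ N') (l : Ψ N),
    Φmap f (η N l) = η N' (Ψmap f l))

include Φadd in
lemma Φmap_zero {N N' : ModuleCat.{u} A} : Φmap (0 : N ⟶ N') = 0 := by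
  have h := Φadd (0 : N ⟶ N') 0
  rw [add_zero] at h
  exact left_eq_add.mp h

include Φadd in
lemma Φmap_sum {N N' : ModuleCat.{u} A} {ι : Type*} (s : Finset ι) (f : ι → (N ⟶ N')) :
    Φmap (∑ j ∈ s, f j) = ∑ j ∈ s, Φmap (f j) := by
  classical
  induction s using Finset.induction_on with
  | empty => simpa using Φmap_zero Φ (fun {N N'} => Φmap) Φadd
  | insert a s ha ih => rw [Finset.sum_insert ha, Finset.sum_insert ha, Φadd, ih]

include Φid Φcomp Φadd in
lemma sum_eq {m : ℕ} (π : Fin m → (ModuleCat.of A (Fin m → A) ⟶ ModuleCat.of A A))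
    (ι : Fin m → (ModuleCat.of A A ⟶ ModuleCat.of A (Fin m → A)))
    (hsum : ∑ j, π j ≫ ι j = 𝟙 (ModuleCat.of A (Fin m → A)))
    (y : Φ (ModuleCat.of A (Fin m → A))) :
    ∑ j, Φmap (ι j) (Φmap (π j) y) = y := by
  have h3 : Φmap (∑ j, π j ≫ ι j) y = y := by rw [hsum, Φid]; rfl
  rw [Φmap_sum Φ (fun {N N'} => Φmap) Φadd] at h3
  simpa only [LinearMap.sum_apply, Φcomp, LinearMap.comp_apply] using h3

include Ψid Ψcomp Ψadd Φid Φcomp Φadd ηnat in
/-- bijectivity at free modules of finite rank -/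
theorem bijective_free (h1 : Function.Bijective (η (ModuleCat.of A A))) (m : ℕ) :
    Function.Bijective (η (ModuleCat.of A (Fin m → A))) := by
  let F : ModuleCat.{u} A := ModuleCat.of A (Fin m → A)
  let R : ModuleCat.{u} A := ModuleCat.of A A
  let π : Fin m → (F ⟶ R) := fun j => ModuleCat.ofHom (LinearMap.proj j)
  let ι : Fin m → (R ⟶ F) := fun j => ModuleCat.ofHom (LinearMap.single A (fun _ => A) j)
  have hsum : ∑ j, π j ≫ ι j = 𝟙 F := by
    ext x k
    simp only [ModuleCat.hom_sum, LinearMap.coe_sum, Finset.sum_apply]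
    simp [π, ι, F, Pi.single_apply]
  constructor
  · intro x y hxy
    have hz : ∀ j, Ψmap (π j) x = Ψmap (π j) y := fun j => by
      apply h1.1
      rw [← ηnat (π j) x, ← ηnat (π j) y, hxy]
    rw [← sum_eq Ψ (fun {N N'} => Ψmap) Ψid Ψcomp Ψadd π ι hsum x,
      ← sum_eq Ψ (fun {N N'} => Ψmap) Ψid Ψcomp Ψadd π ι hsum y]
    exact Finset.sum_congr rfl (fun j _ => by rw [hz j])
  · intro y
    choose a ha using fun j => h1.2 (Φmap (π j) y)
    refine ⟨∑ j, Ψmap (ι j) (a j), ?_⟩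
    rw [map_sum]
    refine Eq.trans (Finset.sum_congr rfl (fun j _ => ?_))
      (sum_eq Φ (fun {N N'} => Φmap) Φid Φcomp Φadd π ι hsum y)
    rw [← ηnat (ι j) (a j), ha j]

include Ψid Ψcomp Ψadd Φid Φcomp Φadd ηnat in
/-- bijectivity at finite projective modules -/
theorem bijective_of_finite_projective (h1 : Function.Bijective (η (ModuleCat.of A A)))
    (N : ModuleCat.{u} A) [Module.Finite A N] [Module.Projective A N] :
    Function.Bijective (η N) := by
  obtain ⟨m, s, r, -, -, hrs⟩ := Module.Finite.exists_comp_eq_id_of_projective A N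
  let F : ModuleCat.{u} A := ModuleCat.of A (Fin m → A)
  let s' : N ⟶ F := ModuleCat.ofHom r
  let r' : F ⟶ N := ModuleCat.ofHom s
  have hid : s' ≫ r' = 𝟙 N := by
    ext x
    exact LinearMap.congr_fun hrs x
  have hF := bijective_free Ψ (fun {N N'} => Ψmap) Ψid Ψcomp Ψadd Φ (fun {N N'} => Φmap)
    Φid Φcomp Φadd η ηnat h1 m
  have hΨ : ∀ z : Ψ N, Ψmap r' (Ψmap s' z) = z := fun z => by
    have h3 : Ψmap (s' ≫ r') z = z := by rw [hid, Ψid]; rfl
    rw [Ψcomp] at h3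
    exact h3
  constructor
  · intro x y hxy
    have h2 : Ψmap s' x = Ψmap s' y := by
      apply hF.1
      rw [← ηnat s' x, ← ηnat s' y, hxy]
    have h3 := congrArg (Ψmap r') h2
    rwa [hΨ, hΨ] at h3
  · intro y
    obtain ⟨z, hz⟩ := hF.2 (Φmap s' y)
    refine ⟨Ψmap r' z, ?_⟩
    rw [← ηnat r' z, hz]
    have h3 : Φmap (s' ≫ r') y = y := by rw [hid, Φid]; rfl
    rw [Φcomp] at h3
    exact h3

end Groth.Agent.Helper9.DPa0
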