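import Mathlib
import Groth.Prelude.Def_DDual2

/-!
# Exact endofunctors with an inverse induce equivalences of derived categories;
# the derived tensor product with a flat module
-/

set_option autoImplicit false
set_option linter.style.haveILetI false
set_option linter.unusedSectionVars false

universe w v u
open CategoryTheory CategoryTheory.Limits MonoidalCategory DerivedCategory

namespace Groth.Agent.Helper9.InvTw1

section General

variable {C : Type u} [Category.{v} C] [Abelian C] [HasDerivedCategory.{w} C]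
  (F G : C ⥤ C) [F.Additive] [G.Additive]
  [PreservesFiniteLimits F] [PreservesFiniteColimits F]
  [PreservesFiniteLimits G] [PreservesFiniteColimits G]

/-- if `F ⋙ G ≅ 𝟭` for exact functors then the same holds on derived categories -/
noncomputable def compIdIso (e : F ⋙ G ≅ 𝟭 C) :
    F.mapDerivedCategory ⋙ G.mapDerivedCategory ≅ 𝟭 (DerivedCategory C) :=
  Localization.liftNatIso Q (HomologicalComplex.quasiIso C (ComplexShape.up ℤ))
    ((F.mapHomologicalComplex (ComplexShape.up ℤ) ⋙ Q) ⋙ G.mapDerivedCategory) Q _ _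
    (Functor.associator _ _ _ ≪≫ Functor.isoWhiskerLeft _ G.mapDerivedCategoryFactors ≪≫
      (Functor.associator _ _ _).symm ≪≫
      Functor.isoWhiskerRight (Functor.mapHomologicalComplexCompIso e (ComplexShape.up ℤ) ≪≫
        Functor.mapHomologicalComplexIdIso C (ComplexShape.up ℤ)) Q ≪≫ Functor.leftUnitor _)

/-- mutually inverse exact functors induce an equivalence of derived categories -/
noncomputable def equivOfInverse (e : F ⋙ G ≅ 𝟭 C) (e' : G ⋙ F ≅ 𝟭 C) :
    DerivedCategory C ≌ DerivedCategory C :=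
  CategoryTheory.Equivalence.mk F.mapDerivedCategory G.mapDerivedCategory (compIdIso F G e).symm
    (compIdIso G F e')

lemma equivOfInverse_functor (e : F ⋙ G ≅ 𝟭 C) (e' : G ⋙ F ≅ 𝟭 C) :
    (equivOfInverse F G e e').functor = F.mapDerivedCategory := rfl

lemma equivOfInverse_inverse (e : F ⋙ G ≅ 𝟭 C) (e' : G ⋙ F ≅ 𝟭 C) :
    (equivOfInverse F G e e').inverse = G.mapDerivedCategory := rfl

/-- an exact functor commutes with cohomology of objects of the derived category -/
theorem nonempty_homologyIso (X : DerivedCategory C) (i : ℤ) :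
    Nonempty ((homologyFunctor C i).obj (F.mapDerivedCategory.obj X) ≅
      F.obj ((homologyFunctor C i).obj X)) := by
  obtain ⟨K, ⟨eK⟩⟩ : ∃ K, Nonempty (Q.obj K ≅ X) := ⟨_, ⟨Q.objObjPreimageIso X⟩⟩
  have e1 : (homologyFunctor C i).obj (F.mapDerivedCategory.obj X) ≅
      (homologyFunctor C i).obj (Q.obj ((F.mapHomologicalComplex (ComplexShape.up ℤ)).obj K)) :=
    (homologyFunctor C i).mapIso (F.mapDerivedCategory.mapIso eK.symm ≪≫
      F.mapDerivedCategoryFactors.app K)
  have e2 : (homologyFunctor C i).obj (Q.obj ((F.mapHomologicalComplex (ComplexShape.up ℤ)).obj K)) ≅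
      ((F.mapHomologicalComplex (ComplexShape.up ℤ)).obj K).homology i :=
    (homologyFunctorFactors C i).app _
  have e3 : ((F.mapHomologicalComplex (ComplexShape.up ℤ)).obj K).homology i ≅
      F.obj (K.homology i) := (K.sc i).mapHomologyIso F
  have e4 : K.homology i ≅ (homologyFunctor C i).obj X :=
    ((homologyFunctorFactors C i).app K).symm ≪≫ (homologyFunctor C i).mapIso eK
  exact ⟨e1 ≪≫ e2 ≪≫ e3 ≪≫ F.mapIso e4⟩

end General

section Ring

attribute [local instance] HasDerivedCategory.standard

variable {A : Type u} [CommRing A]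

/-- `- ⊗ P` on the derived category, for a flat module `P` -/
noncomputable abbrev tenD (P : ModuleCat.{u} A) [Module.Flat A P] : Dual.D A ⥤ Dual.D A :=
  (tensorRight P).mapDerivedCategory

/-- `Qh ⋙ tenD P ≅ tensorKh A P` -/
noncomputable def tenDFac (P : ModuleCat.{u} A) [Module.Flat A P] :
    Qh ⋙ tenD P ≅ DRing.tensorKh A P :=
  (tensorRight P).mapDerivedCategoryFactorsh

instance (P : ModuleCat.{u} A) [Module.Flat A P] :
    (tenD P).IsLeftDerivedFunctor (tenDFac P).hom
      (HomotopyCategory.quasiIso (ModuleCat.{u} A) (ComplexShape.up ℤ)) :=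
  Functor.isLeftDerivedFunctor_of_inverts _ _ _

/-- the derived tensor product with a flat module is induced by the exact functor -/
noncomputable def ltIso (P : ModuleCat.{u} A) [Module.Flat A P] [DRing.HasLTensor A P] :
    DRing.LTensor A P ≅ tenD P :=
  Functor.leftDerivedUnique (tenD P) (DRing.LTensor A P)
    ((DRing.tensorKh A P).totalLeftDerivedCounit Qh
      (HomotopyCategory.quasiIso (ModuleCat.{u} A) (ComplexShape.up ℤ)))
    (tenDFac P).hom
    (HomotopyCategory.quasiIso (ModuleCat.{u} A) (ComplexShape.up ℤ))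

/-- `(- ⊗ P) ⋙ (- ⊗ P') ≅ 𝟭` when `P ⊗ P' ≅ A` -/
noncomputable def tensorRightCompIso (P P' : ModuleCat.{u} A) (e : P ⊗ P' ≅ 𝟙_ (ModuleCat.{u} A)) :
    tensorRight P ⋙ tensorRight P' ≅ 𝟭 (ModuleCat.{u} A) :=
  (tensorRightTensor P P').symm ≪≫ (tensoringRight (ModuleCat.{u} A)).mapIso e ≪≫
    rightUnitorNatIso (ModuleCat.{u} A)

/-- tensoring with an invertible module is an equivalence of derived categories -/
noncomputable def tenEquiv (P P' : ModuleCat.{u} A) [Module.Flat A P] [Module.Flat A P']
    (e : P ⊗ P' ≅ 𝟙_ (ModuleCat.{u} A)) : Dual.D A ≌ Dual.D A :=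
  equivOfInverse (tensorRight P) (tensorRight P') (tensorRightCompIso P P' e)
    (tensorRightCompIso P' P ((β_ P' P) ≪≫ e))

end Ring

end Groth.Agent.Helper9.InvTw1
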