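import Mathlib
import Groth.Prelude.Def_DDual2
import Groth.Agent.Helper9.InvTw1
import Groth.Agent.Helper9.InvTw4

/-!
# `Hom(ω, ω ⊗ N) ≅ N` for finite projective `N` when `A → End(ω)` is bijective
-/

set_option autoImplicit false
set_option linter.style.haveILetI false
set_option linter.unusedSectionVars false

universe u
open CategoryTheory CategoryTheory.Limits MonoidalCategory DerivedCategory
attribute [local instance] HasDerivedCategory.standard

namespace Groth.Agent.Helper9.InvTw5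

open Groth.Agent.Helper9.InvTw1

variable {A : Type u} [CommRing A] (K : CochainComplex (ModuleCat.{u} A) ℤ)

/-- `N ↦ K ⊗ N` as a functor to complexes -/
noncomputable def TK : ModuleCat.{u} A ⥤ CochainComplex (ModuleCat.{u} A) ℤ where
  obj N := ((tensorRight N).mapHomologicalComplex (ComplexShape.up ℤ)).obj K
  map {N N'} f := (NatTrans.mapHomologicalComplex ((tensoringRight (ModuleCat.{u} A)).map f)
    (ComplexShape.up ℤ)).app K
  map_id N := by
    ext i : 2
    simp
  map_comp f g := by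
    ext i : 2
    simp

lemma TK_map_f {N N' : ModuleCat.{u} A} (f : N ⟶ N') (i : ℤ) :
    ((TK K).map f).f i = K.X i ◁ f := rfl

lemma TK_map_add {N N' : ModuleCat.{u} A} (f g : N ⟶ N') :
    (TK K).map (f + g) = (TK K).map f + (TK K).map g := by
  ext i : 1
  simp only [TK_map_f, HomologicalComplex.add_f_apply, MonoidalPreadditive.whiskerLeft_add]
  rfl

lemma TK_map_smul {N N' : ModuleCat.{u} A} (a : A) (f : N ⟶ N') :
    (TK K).map (a • f) = a • (TK K).map f := by
  ext i : 1
  simp only [TK_map_f, HomologicalComplex.smul_f_apply, MonoidalLinear.whiskerLeft_smul]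
  rfl

/-- `K ⊗ A ≅ K` -/
noncomputable def ρK : (TK K).obj (𝟙_ (ModuleCat.{u} A)) ≅ K :=
  (NatIso.mapHomologicalComplex (rightUnitorNatIso (ModuleCat.{u} A)) (ComplexShape.up ℤ)).app K ≪≫
    (Functor.mapHomologicalComplexIdIso (ModuleCat.{u} A) (ComplexShape.up ℤ)).app K

/-- the map `A → N`, `1 ↦ l` -/
noncomputable def lin {N : ModuleCat.{u} A} (l : N) : 𝟙_ (ModuleCat.{u} A) ⟶ N :=
  ModuleCat.ofHom (LinearMap.toSpanSingleton A N l)

lemma lin_add {N : ModuleCat.{u} A} (l l' : N) : lin (l + l') = lin l + lin l' := by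
  ext : 1
  exact LinearMap.toSpanSingleton_add _ _

lemma lin_smul {N : ModuleCat.{u} A} (a : A) (l : N) : lin (a • l) = a • lin l := by
  ext : 1
  exact LinearMap.toSpanSingleton_smul _ _

lemma lin_comp {N N' : ModuleCat.{u} A} (f : N ⟶ N') (l : N) : lin l ≫ f = lin (f.hom l) := by
  ext : 1
  refine LinearMap.ext_ring ?_
  simp [lin]

lemma lin_self (a : A) : lin (N := 𝟙_ (ModuleCat.{u} A)) a = a • 𝟙 _ := by
  ext : 1
  refine LinearMap.ext_ring ?_
  simp [lin]

/-- the functor `N ↦ Hom(QK, Q(K ⊗ N))` on objects -/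
abbrev Φ (N : ModuleCat.{u} A) : Type (u + 1) := (Q.obj K ⟶ Q.obj ((TK K).obj N))

/-- the functor `N ↦ Hom(QK, Q(K ⊗ N))` on maps -/
noncomputable def Φmap {N N' : ModuleCat.{u} A} (f : N ⟶ N') : Φ K N →ₗ[A] Φ K N' :=
  Linear.rightComp A (Q.obj K) (Q.map ((TK K).map f))

/-- the natural map `N → Hom(QK, Q(K ⊗ N))` -/
noncomputable def η (N : ModuleCat.{u} A) : N →ₗ[A] Φ K N where
  toFun l := Q.map ((ρK K).inv ≫ (TK K).map (lin l))
  map_add' l l' := by
    rw [lin_add, TK_map_add, Preadditive.comp_add, Functor.map_add]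
  map_smul' a l := by
    rw [lin_smul, TK_map_smul, Linear.comp_smul, Functor.map_smul]
    rfl

lemma η_nat {N N' : ModuleCat.{u} A} (f : N ⟶ N') (l : N) :
    Φmap K f (η K N l) = η K N' (f.hom l) := by
  show Q.map ((ρK K).inv ≫ (TK K).map (lin l)) ≫ Q.map ((TK K).map f) =
    Q.map ((ρK K).inv ≫ (TK K).map (lin (f.hom l)))
  rw [← Functor.map_comp, Category.assoc, ← Functor.map_comp, lin_comp]

theorem η_bijective_unit (hK : Function.Bijective (fun a : A => a • 𝟙 (Q.obj K))) :
    Function.Bijective (η K (ModuleCat.of A A)) := by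
  have h1 : ∀ a : A, η K (ModuleCat.of A A) a = (a • 𝟙 (Q.obj K)) ≫ Q.map (ρK K).inv := by
    intro a
    show Q.map ((ρK K).inv ≫ (TK K).map (lin (N := 𝟙_ (ModuleCat.{u} A)) a)) = _
    rw [lin_self, TK_map_smul, CategoryTheory.Functor.map_id, Linear.comp_smul, Category.comp_id,
      Functor.map_smul, Linear.smul_comp, Category.id_comp]
  have h2 : (η K (ModuleCat.of A A) : A → _) =
      (fun g : Q.obj K ⟶ Q.obj K => g ≫ Q.map (ρK K).inv) ∘ (fun a : A => a • 𝟙 (Q.obj K)) := by
    funext a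
    exact h1 a
  rw [h2]
  refine Function.Bijective.comp ?_ hK
  refine ⟨fun g g' h => ?_, fun y => ⟨y ≫ Q.map (ρK K).hom, ?_⟩⟩
  · exact (cancel_mono (Q.map (ρK K).inv)).mp h
  · show (y ≫ Q.map (ρK K).hom) ≫ Q.map (ρK K).inv = y
    rw [Category.assoc, ← Functor.map_comp, Iso.hom_inv_id, CategoryTheory.Functor.map_id,
      Category.comp_id]

theorem η_bijective (hK : Function.Bijective (fun a : A => a • 𝟙 (Q.obj K)))
    (N : ModuleCat.{u} A) [Module.Finite A N] [Module.Projective A N] :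
    Function.Bijective (η K N) :=
  Groth.Agent.Helper9.InvTw4.bijective_of_finite_projective (Φ K) (fun {N N'} => Φmap K)
    (fun N => by
      ext g
      show g ≫ Q.map ((TK K).map (𝟙 N)) = g
      rw [CategoryTheory.Functor.map_id, CategoryTheory.Functor.map_id, Category.comp_id])
    (fun f g => by
      ext x
      show x ≫ Q.map ((TK K).map (f ≫ g)) = (x ≫ Q.map ((TK K).map f)) ≫ Q.map ((TK K).map g)
      rw [Functor.map_comp, Functor.map_comp, Category.assoc])
    (fun f g => by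
      ext x
      show x ≫ Q.map ((TK K).map (f + g)) = x ≫ Q.map ((TK K).map f) + x ≫ Q.map ((TK K).map g)
      rw [TK_map_add, Functor.map_add, Preadditive.comp_add])
    (η K) (fun f l => η_nat K f l) (η_bijective_unit K hK) N

/-- `Hom(ω, ω ⊗ N) ≅ N` for `N` finite projective, when `A → End(ω)` is bijective -/
theorem main (ω : Dual.D A) (hω : Function.Bijective (fun a : A => a • 𝟙 ω))
    (N : ModuleCat.{u} A) [Module.Finite A N] [Module.Projective A N] :
    Nonempty (N ≃ₗ[A] (ω ⟶ (tenD N).obj ω)) := by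
  obtain ⟨K, ⟨eK⟩⟩ : ∃ K, Nonempty (Q.obj K ≅ ω) := ⟨_, ⟨Q.objObjPreimageIso ω⟩⟩
  have hK : Function.Bijective (fun a : A => a • 𝟙 (Q.obj K)) := by
    have h1 : (fun a : A => a • 𝟙 (Q.obj K)) = (Iso.homCongr eK.symm eK.symm) ∘
        (fun a : A => a • 𝟙 ω) := by
      funext a
      show a • 𝟙 (Q.obj K) = eK.symm.inv ≫ (a • 𝟙 ω) ≫ eK.symm.hom
      rw [Linear.smul_comp, Linear.comp_smul, Category.id_comp]
      simp
    rw [h1]
    exact (Equiv.bijective _).comp hω
  let e1 : N ≃ₗ[A] (Q.obj K ⟶ Q.obj ((TK K).obj N)) := LinearEquiv.ofBijective _ (η_bijective K hK N)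
  let e2 : (Q.obj K ⟶ Q.obj ((TK K).obj N)) ≃ₗ[A] (ω ⟶ (tenD N).obj ω) :=
    Linear.homCongr A eK (((tensorRight N).mapDerivedCategoryFactors.app K).symm ≪≫
      (tenD N).mapIso eK)
  exact ⟨e1.trans e2⟩

end Groth.Agent.Helper9.InvTw5
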