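import Mathlib
import Groth.Prelude.Def_DDual2
import Groth.Agent.Helper9.InvTw1
import Groth.Agent.Helper9.InvTw5
import Groth.Agent.Helper9.DPa0

/-!
# `Hom(X, Y) ⊗ N ≅ Hom(X, Y ⊗ N)` in the derived category, for finite projective `N`
-/

set_option autoImplicit false
set_option linter.style.haveILetI false
set_option linter.unusedSectionVars false

universe u
open CategoryTheory CategoryTheory.Limits MonoidalCategory DerivedCategory TensorProduct
attribute [local instance] HasDerivedCategory.standard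

namespace Groth.Agent.Helper9.DPa1

open Groth.Agent.Helper9.InvTw1 Groth.Agent.Helper9.InvTw5

variable {A : Type u} [CommRing A] (X : Dual.D A) (L : CochainComplex (ModuleCat.{u} A) ℤ)

/-- the functor `N ↦ Hom(X, Q L) ⊗ N` on objects -/
abbrev Ψ (N : ModuleCat.{u} A) : Type (u + 1) := (X ⟶ Q.obj L) ⊗[A] N

/-- the functor `N ↦ Hom(X, Q L) ⊗ N` on maps -/
noncomputable def Ψmap {N N' : ModuleCat.{u} A} (f : N ⟶ N') : Ψ X L N →ₗ[A] Ψ X L N' :=
  LinearMap.lTensor (X ⟶ Q.obj L) f.hom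

/-- the functor `N ↦ Hom(X, Q(L ⊗ N))` on objects -/
abbrev Φ' (N : ModuleCat.{u} A) : Type (u + 1) := (X ⟶ Q.obj ((TK L).obj N))

/-- the functor `N ↦ Hom(X, Q(L ⊗ N))` on maps -/
noncomputable def Φ'map {N N' : ModuleCat.{u} A} (f : N ⟶ N') : Φ' X L N →ₗ[A] Φ' X L N' :=
  Linear.rightComp A X (Q.map ((TK L).map f))

/-- the natural map `Hom(X, Q L) ⊗ N → Hom(X, Q(L ⊗ N))` -/
noncomputable def η' (N : ModuleCat.{u} A) : Ψ X L N →ₗ[A] Φ' X L N :=
  TensorProduct.lift (LinearMap.mk₂ A (fun (g : X ⟶ Q.obj L) (l : N) => g ≫ η L N l)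
    (fun g g' l => Preadditive.add_comp _ _ _ _ _ _)
    (fun a g l => Linear.smul_comp _ _ _ _ _ _)
    (fun g l l' => by rw [map_add, Preadditive.comp_add])
    (fun a g l => by rw [map_smul, Linear.comp_smul]))

lemma η'_tmul (N : ModuleCat.{u} A) (g : X ⟶ Q.obj L) (l : N) :
    η' X L N (g ⊗ₜ l) = g ≫ η L N l := rfl

lemma η'_nat {N N' : ModuleCat.{u} A} (f : N ⟶ N') (z : Ψ X L N) :
    Φ'map X L f (η' X L N z) = η' X L N' (Ψmap X L f z) := by
  induction z using TensorProduct.induction_on with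
  | zero => simp
  | tmul g l =>
    show (g ≫ η L N l) ≫ Q.map ((TK L).map f) = η' X L N' (g ⊗ₜ f.hom l)
    rw [η'_tmul, Category.assoc]
    congr 1
    exact η_nat L f l
  | add x y hx hy => rw [map_add, map_add, hx, hy, map_add, map_add]

lemma η_unit (a : A) :
    η L (ModuleCat.of A A) a = (a • 𝟙 (Q.obj L)) ≫ Q.map (ρK L).inv := by
  show Q.map ((ρK L).inv ≫ (TK L).map (lin (N := 𝟙_ (ModuleCat.{u} A)) a)) = _
  rw [lin_self, TK_map_smul, CategoryTheory.Functor.map_id, Linear.comp_smul, Category.comp_id,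
    Functor.map_smul, Linear.smul_comp, Category.id_comp]

theorem η'_bijective_unit : Function.Bijective (η' X L (ModuleCat.of A A)) := by
  have h2 : η' X L (ModuleCat.of A A) =
      (Linear.rightComp A X (Q.map (ρK L).inv)) ∘ₗ
        (TensorProduct.rid A (X ⟶ Q.obj L)).toLinearMap := by
    apply TensorProduct.ext'
    intro g a
    show g ≫ η L (ModuleCat.of A A) a = (a • g) ≫ Q.map (ρK L).inv
    rw [η_unit, Linear.smul_comp, Linear.smul_comp, Linear.comp_smul, Category.id_comp]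
  rw [h2, LinearMap.coe_comp]
  refine Function.Bijective.comp (g := (Linear.rightComp A X (Q.map (ρK L).inv))) ?_
    (TensorProduct.rid A (X ⟶ Q.obj L)).bijective
  refine ⟨fun g g' h => ?_, fun y => ⟨y ≫ Q.map (ρK L).hom, ?_⟩⟩
  · exact (cancel_mono (Q.map (ρK L).inv)).mp h
  · show (y ≫ Q.map (ρK L).hom) ≫ Q.map (ρK L).inv = y
    rw [Category.assoc, ← Functor.map_comp, Iso.hom_inv_id, CategoryTheory.Functor.map_id,
      Category.comp_id]

theorem η'_bijective (N : ModuleCat.{u} A) [Module.Finite A N] [Module.Projective A N] :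
    Function.Bijective (η' X L N) :=
  Groth.Agent.Helper9.DPa0.bijective_of_finite_projective
    (Ψ X L) (fun {N N'} => Ψmap X L)
    (fun N => by
      show LinearMap.lTensor _ (𝟙 N : N ⟶ N).hom = LinearMap.id
      rw [ModuleCat.hom_id, LinearMap.lTensor_id])
    (fun f g => by
      show LinearMap.lTensor _ (f ≫ g).hom = _
      rw [ModuleCat.hom_comp, LinearMap.lTensor_comp]
      rfl)
    (fun f g => by
      show LinearMap.lTensor _ (f + g).hom = _
      rw [ModuleCat.hom_add, LinearMap.lTensor_add]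
      rfl)
    (Φ' X L) (fun {N N'} => Φ'map X L)
    (fun N => by
      ext g
      show g ≫ Q.map ((TK L).map (𝟙 N)) = g
      rw [CategoryTheory.Functor.map_id, CategoryTheory.Functor.map_id, Category.comp_id])
    (fun f g => by
      ext x
      show x ≫ Q.map ((TK L).map (f ≫ g)) = (x ≫ Q.map ((TK L).map f)) ≫ Q.map ((TK L).map g)
      rw [Functor.map_comp, Functor.map_comp, Category.assoc])
    (fun f g => by
      ext x
      show x ≫ Q.map ((TK L).map (f + g)) = x ≫ Q.map ((TK L).map f) + x ≫ Q.map ((TK L).map g)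
      rw [TK_map_add, Functor.map_add, Preadditive.comp_add])
    (η' X L) (fun f z => η'_nat X L f z) (η'_bijective_unit X L) N

/-- `Hom(X, Y) ⊗ N ≅ Hom(X, Y ⊗ N)` for `N` finite projective -/
theorem main (Y : Dual.D A) (N : ModuleCat.{u} A) [Module.Finite A N] [Module.Projective A N] :
    Nonempty (((X ⟶ Y) ⊗[A] N) ≃ₗ[A] (X ⟶ (tenD N).obj Y)) := by
  obtain ⟨L, ⟨eL⟩⟩ : ∃ L, Nonempty (Q.obj L ≅ Y) := ⟨_, ⟨Q.objObjPreimageIso Y⟩⟩
  let e0 : (X ⟶ Y) ≃ₗ[A] (X ⟶ Q.obj L) := Linear.homCongr A (Iso.refl X) eL.symm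
  let e1 : ((X ⟶ Q.obj L) ⊗[A] N) ≃ₗ[A] (X ⟶ Q.obj ((TK L).obj N)) :=
    LinearEquiv.ofBijective _ (η'_bijective X L N)
  let e2 : (X ⟶ Q.obj ((TK L).obj N)) ≃ₗ[A] (X ⟶ (tenD N).obj Y) :=
    Linear.homCongr A (Iso.refl X) (((tensorRight N).mapDerivedCategoryFactors.app L).symm ≪≫
      (tenD N).mapIso eL)
  exact ⟨(TensorProduct.congr e0 (LinearEquiv.refl A N)).trans (e1.trans e2)⟩

end Groth.Agent.Helper9.DPa1
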