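import Mathlib
import Groth.Prelude.Def_DRing4
import Groth.Agent.Helper6.LocExt6
import Groth.Agent.Helper6.DualFun3

/-!
# Local analysis of `Hom(ω, ω'[m])` for two dualizing complexes
-/

set_option autoImplicit false
set_option linter.style.haveILetI false
set_option linter.unusedSectionVars false

universe u
open CategoryTheory CategoryTheory.Limits Pretriangulated DerivedCategory TensorProduct
attribute [local instance] HasDerivedCategory.standard

namespace Groth.Agent.Helper9.DPa2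

open Groth.Agent.Helper3.DRingLib Groth.Agent.Helper6.LocExt

variable {A : Type u} [CommRing A] [IsNoetherianRing A]

/-- a dualizing complex is pseudo-coherent and bounded -/
lemma pc_of_isDualizing (ω : Dual.D A) (hω : Dual.IsDualizing A ω) :
    (∀ m : ℤ, DRing.IsPseudoCoherent A m ω) ∧ ∃ a b : ℤ, ω.IsGE a ∧ ω.IsLE b := by
  obtain ⟨a, b, hab⟩ := hω.finite_injective_dimension
  obtain ⟨hge, hle⟩ := bounds_of_hinj ω a b hab
  exact ⟨pc_of_finite ω b hω.finite_cohomology, a, b, hge, hle⟩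

variable (ω ω' : Dual.D A) (hω : Dual.IsDualizing A ω) (hω' : Dual.IsDualizing A ω')
  (p : PrimeSpectrum A)

include hω hω' in
/-- locally, two dualizing complexes differ by a shift -/
lemma exists_shift : ∃ n : ℤ, Nonempty
    ((bcD A (Localization.AtPrime p.asIdeal)).obj ω' ≅
      ((bcD A (Localization.AtPrime p.asIdeal)).obj ω)⟦n⟧) := by
  haveI : IsNoetherianRing (Localization.AtPrime p.asIdeal) :=
    IsLocalization.isNoetherianRing p.asIdeal.primeCompl _ inferInstance
  exact Groth.Agent.Helper6.DualFun.unique_up_to_shift _ _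
    (isDualizing_bcD p.asIdeal.primeCompl (Localization.AtPrime p.asIdeal) ω hω)
    (isDualizing_bcD p.asIdeal.primeCompl (Localization.AtPrime p.asIdeal) ω' hω')

include hω hω' in
/-- morphisms `ω ⟶ Y` localize, for `Y` bounded below -/
lemma nonempty_loc_equiv (Y : Dual.D A) (a : ℤ) [Y.IsGE a]
    (K : Type u) [AddCommGroup K] [Module A K] (e : K ≃ₗ[A] (ω ⟶ Y)) :
    Nonempty (Localization.AtPrime p.asIdeal ⊗[A] K ≃ₗ[Localization.AtPrime p.asIdeal]
      ((bcD A (Localization.AtPrime p.asIdeal)).obj ω ⟶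
        (bcD A (Localization.AtPrime p.asIdeal)).obj Y)) := by
  have hpc := (pc_of_isDualizing ω hω).1
  exact nonempty_localized_equiv p.asIdeal.primeCompl (Localization.AtPrime p.asIdeal) ω Y
    (locSurj_of_pc p.asIdeal.primeCompl _ ω Y hpc a)
    (locInj_of_pc p.asIdeal.primeCompl _ ω Y hpc a) K e

include hω hω' in
/-- the localization of `Hom(ω, ω'[m])` at a prime is free of rank one or zero -/
theorem local_hom (n : ℤ) (ι : (bcD A (Localization.AtPrime p.asIdeal)).obj ω' ≅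
      ((bcD A (Localization.AtPrime p.asIdeal)).obj ω)⟦n⟧)
    (m : ℤ) (K : Type u) [AddCommGroup K] [Module A K]
    (e : K ≃ₗ[A] (ω ⟶ ω'⟦m⟧)) :
      (n + m = 0 → Nonempty (Localization.AtPrime p.asIdeal ⊗[A] K
        ≃ₗ[Localization.AtPrime p.asIdeal] Localization.AtPrime p.asIdeal)) ∧
      (n + m ≠ 0 → Subsingleton (Localization.AtPrime p.asIdeal ⊗[A] K)) := by
  obtain ⟨-, a', b', hge', hle'⟩ := pc_of_isDualizing ω' hω'
  haveI : (ω'⟦m⟧).IsGE (a' - m) := TStructure.t.isGE_shift ω' a' m (a' - m) (by omega)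
  obtain ⟨e1⟩ := nonempty_loc_equiv ω ω' hω hω' p (ω'⟦m⟧) (a' - m) K e
  set B := Localization.AtPrime p.asIdeal with hB
  haveI : IsNoetherianRing B := IsLocalization.isNoetherianRing p.asIdeal.primeCompl _ inferInstance
  have hωp : Dual.IsDualizing B ((bcD A B).obj ω) :=
    isDualizing_bcD p.asIdeal.primeCompl B ω hω
  -- `bcD (ω'[m]) ≅ (bcD ω)[n + m]`
  let j : (bcD A B).obj (ω'⟦m⟧) ≅ ((bcD A B).obj ω)⟦n + m⟧ :=
    ((bcD A B).commShiftIso m).app ω' ≪≫ (shiftFunctor (Dual.D B) m).mapIso ι ≪≫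
      ((shiftFunctorAdd' (Dual.D B) n m (n + m) rfl).app _).symm
  let e2 : ((bcD A B).obj ω ⟶ (bcD A B).obj (ω'⟦m⟧)) ≃ₗ[B]
      ((bcD A B).obj ω ⟶ ((bcD A B).obj ω)⟦n + m⟧) := Linear.homCongr B (Iso.refl _) j
  constructor
  · intro h0
    let e3 : ((bcD A B).obj ω ⟶ ((bcD A B).obj ω)⟦n + m⟧) ≃ₗ[B]
        ((bcD A B).obj ω ⟶ (bcD A B).obj ω) :=
      Linear.homCongr B (Iso.refl _) ((shiftFunctorZero' (Dual.D B) (n + m) h0).app _)
    let e4 : B ≃ₗ[B] ((bcD A B).obj ω ⟶ (bcD A B).obj ω) :=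
      LinearEquiv.ofBijective (LinearMap.toSpanSingleton B _ (𝟙 ((bcD A B).obj ω)))
        hωp.toEnd_bijective
    exact ⟨e1.trans (e2.trans (e3.trans e4.symm))⟩
  · intro h0
    haveI := hωp.ext_self_subsingleton (n + m) h0
    exact (e1.trans e2).toEquiv.subsingleton

end Groth.Agent.Helper9.DPa2
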