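import Mathlib

/-!
# A finite module over a Noetherian ring with connected spectrum which is locally free of
rank `≤ 1` and of rank one at one point is locally free of rank one
-/

set_option autoImplicit false
set_option linter.style.haveILetI false
set_option linter.unusedSectionVars false

universe u
open TensorProduct

namespace Groth.Agent.Helper9.DPa3

variable (A : Type u) [CommRing A] (K : Type u) [AddCommGroup K] [Module A K]

/-- the comparison between the two models of the localization of a module -/
noncomputable def locEquiv (p : PrimeSpectrum A) :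
    LocalizedModule p.asIdeal.primeCompl K ≃ₗ[Localization.AtPrime p.asIdeal]
      Localization.AtPrime p.asIdeal ⊗[A] K :=
  (IsLocalizedModule.isBaseChange p.asIdeal.primeCompl (Localization.AtPrime p.asIdeal)
    (LocalizedModule.mkLinearMap p.asIdeal.primeCompl K)).equiv.symm

theorem all_rank_one [IsNoetherianRing A] [PreconnectedSpace (PrimeSpectrum A)]
    [Module.Finite A K]
    (h : ∀ p : PrimeSpectrum A,
      Nonempty (Localization.AtPrime p.asIdeal ⊗[A] K ≃ₗ[Localization.AtPrime p.asIdeal]
        Localization.AtPrime p.asIdeal) ∨
      Subsingleton (Localization.AtPrime p.asIdeal ⊗[A] K))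
    (p₀ : PrimeSpectrum A)
    (h₀ : Nonempty (Localization.AtPrime p₀.asIdeal ⊗[A] K ≃ₗ[Localization.AtPrime p₀.asIdeal]
        Localization.AtPrime p₀.asIdeal)) :
    ∀ p : PrimeSpectrum A,
      Nonempty (Localization.AtPrime p.asIdeal ⊗[A] K ≃ₗ[Localization.AtPrime p.asIdeal]
        Localization.AtPrime p.asIdeal) := by
  haveI : Module.FinitePresentation A K := Module.finitePresentation_of_finite A K
  have hfree : ∀ p : PrimeSpectrum A, Module.Free (Localization.AtPrime p.asIdeal)
      (LocalizedModule p.asIdeal.primeCompl K) := by
    intro p
    rcases h p with ⟨⟨e⟩⟩ | hs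
    · exact Module.Free.of_equiv ((locEquiv A K p).trans e).symm
    · haveI : Subsingleton (LocalizedModule p.asIdeal.primeCompl K) :=
        (locEquiv A K p).toEquiv.subsingleton
      exact Module.Free.of_subsingleton _ _
  haveI : Module.Projective A K :=
    Module.projective_of_localization_maximal (fun I hI => by
      haveI := hfree ⟨I, hI.isPrime⟩
      exact Module.Projective.of_free)
  have hlc := Module.isLocallyConstant_rankAtStalk (R := A) (M := K)
  have hrank : ∀ p : PrimeSpectrum A, Module.rankAtStalk K p = Module.rankAtStalk K p₀ :=
    fun p => hlc.apply_eq_of_preconnectedSpace p p₀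
  have h1 : ∀ p : PrimeSpectrum A,
      Nonempty (Localization.AtPrime p.asIdeal ⊗[A] K ≃ₗ[Localization.AtPrime p.asIdeal]
        Localization.AtPrime p.asIdeal) → Module.rankAtStalk K p = 1 := by
    rintro p ⟨e⟩
    show Module.finrank _ _ = 1
    rw [((locEquiv A K p).trans e).finrank_eq, Module.finrank_self]
  intro p
  rcases h p with he | hs
  · exact he
  · exfalso
    have h2 : Module.rankAtStalk K p = 0 := by
      show Module.finrank _ _ = 0
      haveI : Subsingleton (LocalizedModule p.asIdeal.primeCompl K) :=
        (locEquiv A K p).toEquiv.subsingleton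
      exact Module.finrank_zero_of_subsingleton
    rw [hrank p, h1 p₀ h₀] at h2
    exact one_ne_zero h2

end Groth.Agent.Helper9.DPa3
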