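import Mathlib
import Groth.Prelude.Def_DRing4
import Groth.Agent.Helper6.LocExt6
import Groth.Agent.Helper6.DualFun3
import Groth.Agent.Helper3.DRingBC3
import Groth.Agent.Helper9.DPa2
import Groth.Agent.Helper9.DPa3

/-!
# A generator of `Hom(ω, ω'') ≅ A` between dualizing complexes is an isomorphism
-/

set_option autoImplicit false
set_option linter.style.haveILetI false
set_option linter.unusedSectionVars false

universe u
open CategoryTheory CategoryTheory.Limits Pretriangulated DerivedCategory TensorProduct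
attribute [local instance] HasDerivedCategory.standard

namespace Groth.Agent.Helper9.DPa4

open Groth.Agent.Helper3.DRingLib Groth.Agent.Helper6.LocExt

variable {A : Type u} [CommRing A]

/-- the localizations at all primes are jointly faithful -/
lemma jointlyFaithful_primes :
    JointlyFaithful A (fun p : PrimeSpectrum A => Localization.AtPrime p.asIdeal) := by
  intro M _ _ h
  rw [← Module.support_eq_empty_iff (R := A)]
  ext p
  simp only [Set.mem_empty_iff_false, iff_false]
  rw [Module.notMem_support_iff]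
  haveI := h p
  exact (Groth.Agent.Helper9.DPa3.locEquiv A M p).toEquiv.subsingleton

/-- a morphism in `D(A)` which becomes an isomorphism at all primes is an isomorphism -/
theorem isIso_of_forall_bcD {X Y : Dual.D A} (θ : X ⟶ Y)
    (h : ∀ p : PrimeSpectrum A, IsIso ((bcD A (Localization.AtPrime p.asIdeal)).map θ)) :
    IsIso θ := by
  obtain ⟨C, g, d, hT⟩ := distinguished_cocone_triangle θ
  have hz : ∀ p : PrimeSpectrum A, IsZero ((bcD A (Localization.AtPrime p.asIdeal)).obj C) := by
    intro p
    have hT' := (bcD A (Localization.AtPrime p.asIdeal)).map_distinguished _ hT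
    exact (Triangle.isZero₃_iff_isIso₁ _ hT').mpr (h p)
  have hle : ∀ b : ℤ, C.IsLE b := fun b =>
    isLE_of_forall_bcD jointlyFaithful_primes C b (fun p => TStructure.t.isLE_of_isZero (hz p) b)
  have hzero : IsZero C := by
    haveI := hle 0
    haveI : C.IsGE 1 := by
      rw [DerivedCategory.isGE_iff]
      intro i hi
      haveI := hle (i - 1)
      exact C.isZero_of_isLE (i - 1) i (by omega)
    exact TStructure.t.isZero C 0 1 (by omega)
  exact (Triangle.isZero₃_iff_isIso₁ _ hT).mp hzero

variable [IsNoetherianRing A]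

/-- if `Hom(ω, ω'')` is free of rank one generated by `θ`, for dualizing complexes `ω`, `ω''`,
then `θ` is an isomorphism -/
theorem isIso_of_generator (ω ω'' : Dual.D A) (hω : Dual.IsDualizing A ω)
    (hω'' : Dual.IsDualizing A ω'') (θ : ω ⟶ ω'')
    (hθ : Function.Bijective (fun a : A => a • θ)) : IsIso θ := by
  apply isIso_of_forall_bcD
  intro p
  set B := Localization.AtPrime p.asIdeal with hB
  set S := p.asIdeal.primeCompl with hS
  haveI : IsNoetherianRing B := IsLocalization.isNoetherianRing S _ inferInstance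
  have hωp : Dual.IsDualizing B ((bcD A B).obj ω) := isDualizing_bcD S B ω hω
  obtain ⟨hpc, -⟩ := Groth.Agent.Helper9.DPa2.pc_of_isDualizing ω hω
  obtain ⟨-, a'', b'', hge'', hle''⟩ := Groth.Agent.Helper9.DPa2.pc_of_isDualizing ω'' hω''
  haveI := hge''
  have hsurj : LocSurj S B ω ω'' := locSurj_of_pc S B ω ω'' hpc a''
  have hinj : LocInj S B ω ω'' := locInj_of_pc S B ω ω'' hpc a''
  -- every local morphism is a multiple of `θ`
  have hmult : ∀ g : (bcD A B).obj ω ⟶ (bcD A B).obj ω'', ∃ c : B, g = c • (bcD A B).map θ := by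
    intro g
    obtain ⟨s, hs, f, hf⟩ := hsurj g
    obtain ⟨a, ha⟩ := hθ.2 f
    have ha' : f = a • θ := ha.symm
    obtain ⟨u, hu⟩ := IsLocalization.map_units B (⟨s, hs⟩ : S)
    refine ⟨(↑u⁻¹ : B) * algebraMap A B a, ?_⟩
    rw [ha', bcD_map_smul] at hf
    have : g = (↑u⁻¹ : B) • ((algebraMap A B s) • g) := by
      rw [smul_smul]
      have : (↑u⁻¹ : B) * algebraMap A B s = 1 := by
        have h1 : (u : B) = algebraMap A B s := hu
        rw [← h1, Units.inv_mul]
      rw [this, one_smul]
    rw [this, hf, smul_smul]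
  -- the local shift
  obtain ⟨k, ⟨ι⟩⟩ := Groth.Agent.Helper9.DPa2.exists_shift ω ω'' hω hω'' p
  have hk : k = 0 := by
    by_contra hk
    haveI := hωp.ext_self_subsingleton k hk
    have h0 : (bcD A B).map θ = 0 := by
      have : (bcD A B).map θ ≫ ι.hom = 0 := Subsingleton.elim _ _
      rw [← cancel_mono ι.hom, this, zero_comp]
    obtain ⟨s, hs, hsθ⟩ := hinj θ h0
    have : s = 0 := hθ.1 (by simpa using hsθ)
    rw [this] at hs
    exact hs (Ideal.zero_mem _)
  let ι' : (bcD A B).obj ω'' ≅ (bcD A B).obj ω :=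
    ι ≪≫ (shiftFunctorZero' (Dual.D B) k hk).app _
  obtain ⟨c, hc⟩ := hmult ι'.inv
  refine ⟨c • ι'.hom, ?_, ?_⟩
  · rw [Linear.comp_smul, ← Linear.smul_comp, ← hc, Iso.inv_hom_id]
  · rw [Linear.smul_comp, ← Linear.comp_smul, ← hc, Iso.hom_inv_id]

end Groth.Agent.Helper9.DPa4
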