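import Mathlib
import Groth.Prelude.Def_DDual2
import Groth.Agent.Helper9.InvTw1
import Groth.Agent.Helper6.LocExt4
import Groth.Agent.Helper6.LD5

/-!
# Twisting a dualizing complex by an invertible module
-/

set_option autoImplicit false
set_option linter.style.haveILetI false
set_option linter.unusedSectionVars false

universe u
open CategoryTheory CategoryTheory.Limits MonoidalCategory DerivedCategory
attribute [local instance] HasDerivedCategory.standard

namespace Groth.Agent.Helper9.InvTw2

open Groth.Agent.Helper9.InvTw1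

variable {A : Type u} [CommRing A]

/-- the twist of a dualizing complex by an invertible module is dualizing -/
theorem isDualizing_tenD (P P' : ModuleCat.{u} A) [Module.Flat A P] [Module.Flat A P']
    [Module.Finite A P] (e : P ⊗ P' ≅ 𝟙_ (ModuleCat.{u} A)) (ω : Dual.D A)
    (hω : Dual.IsDualizing A ω) : Dual.IsDualizing A ((tenD P).obj ω) := by
  obtain ⟨hN, ⟨a, b, hab⟩, hfin, hbij, hext⟩ := hω
  let E := tenEquiv P P' e
  have hff : (tenD P).FullyFaithful := E.fullyFaithfulFunctor
  refine ⟨hN, ⟨a, b, ?_⟩, ?_, ?_, ?_⟩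
  · intro M _ _ i hi
    have e1 : (tenD P').obj (Dual.inD A M) ≅ Dual.inD A (ModuleCat.of A M ⊗ P' : ModuleCat.{u} A) :=
      ((tensorRight P').mapDerivedCategorySingleFunctor 0).app (ModuleCat.of A M)
    haveI := hab (ModuleCat.of A M ⊗ P' : ModuleCat.{u} A) i hi
    let φ : (Dual.inD A M ⟶ ((tenD P).obj ω)⟦i⟧) ≃
        (Dual.inD A (ModuleCat.of A M ⊗ P' : ModuleCat.{u} A) ⟶ ω⟦i⟧) :=
      (Iso.homCongr (Iso.refl _) (((tenD P).commShiftIso i).app ω).symm).trans
        ((E.symm.toAdjunction.homEquiv (Dual.inD A M) (ω⟦i⟧)).symm.trans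
          (Iso.homCongr e1 (Iso.refl _)))
    exact φ.subsingleton
  · intro i
    obtain ⟨ei⟩ := nonempty_homologyIso (tensorRight P) ω i
    haveI := hfin i
    haveI : Module.Finite A ((tensorRight P).obj ((homologyFunctor (ModuleCat.{u} A) i).obj ω)) :=
      inferInstanceAs (Module.Finite A (TensorProduct A
        ((homologyFunctor (ModuleCat.{u} A) i).obj ω) P))
    exact Module.Finite.equiv ei.toLinearEquiv.symm
  · have h1 : (fun x : A => x • 𝟙 ((tenD P).obj ω)) =
        (fun f : ω ⟶ ω => (tenD P).map f) ∘ (fun x : A => x • 𝟙 ω) := by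
      funext x
      simp only [Function.comp_apply, Functor.map_smul]
      rw [CategoryTheory.Functor.map_id]
    rw [h1]
    exact (hff.map_bijective ω ω).comp hbij
  · intro i hi
    haveI := hext i hi
    let φ : ((tenD P).obj ω ⟶ ((tenD P).obj ω)⟦i⟧) ≃ (ω ⟶ ω⟦i⟧) :=
      (Iso.homCongr (Iso.refl _) (((tenD P).commShiftIso i).app ω).symm).trans
        hff.homEquiv.symm
    exact φ.subsingleton

end Groth.Agent.Helper9.InvTw2
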