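import Mathlib
import Groth.Prelude.Def_DRing4
import Groth.Agent.Helper6.BiD9
import Groth.Agent.Helper6.DFinExt
import Groth.Agent.Helper6.LD5
import Groth.Agent.Helper3.QFSynt2
import Groth.Agent.Helper9.InvTw1
import Groth.Agent.Helper9.InvTw2
import Groth.Agent.Helper9.DPa1
import Groth.Agent.Helper9.DPa2
import Groth.Agent.Helper9.DPa3
import Groth.Agent.Helper9.DPa4

/-!
# Two dualizing complexes over a Noetherian ring with connected spectrum differ by
an invertible module and a shift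
-/

set_option autoImplicit false
set_option linter.style.haveILetI false
set_option linter.unusedSectionVars false

universe u
open CategoryTheory CategoryTheory.Limits Pretriangulated DerivedCategory TensorProduct
  MonoidalCategory
attribute [local instance] HasDerivedCategory.standard

namespace Groth.Agent.Helper9.DPa5

open Groth.Agent.Helper3.DRingLib Groth.Agent.Helper6.LocExt Groth.Agent.Helper6.BiD
  Groth.Agent.Helper9.InvTw1

variable {A : Type u} [CommRing A] [IsNoetherianRing A]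

/-- a `u`-small model of `Hom(ω, ω'[m])`, which is a finite module -/
lemma exists_small_model (ω ω' : Dual.D A) (hω : Dual.IsDualizing A ω)
    (hω' : Dual.IsDualizing A ω') (m : ℤ) :
    ∃ (K : Type u) (_ : AddCommGroup K) (_ : Module A K), Module.Finite A K ∧
      Nonempty (K ≃ₗ[A] (ω ⟶ ω'⟦m⟧)) := by
  obtain ⟨I, a, b, hv, hinj, hKI, ⟨eI⟩, -, -⟩ := exists_dualizing_rep ω' hω'
  haveI := hKI
  let X₀ : DRing.Cx A := DerivedCategory.Q.objPreimage ω
  let eX : DRing.toD X₀ ≅ ω := DerivedCategory.Q.objObjPreimageIso ω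
  let e : Dual.HD A (DRing.toD (DRing.homCx X₀ I)) m ≃ₗ[A] (ω ⟶ ω'⟦m⟧) :=
    Psi' X₀ I m ≪≫ₗ Linear.homCongr A eX ((shiftFunctor (Dual.D A) m).mapIso eI)
  haveI : Module.Finite A (ω ⟶ ω'⟦m⟧) :=
    Groth.Agent.Helper6.DFinExt.main ω ω' hω.finite_cohomology hω'.finite_cohomology
      ⟨a, b, I, hv, hinj, ⟨eI⟩⟩ m
  exact ⟨_, inferInstance, inferInstance, Module.Finite.equiv e.symm, ⟨e⟩⟩

theorem main [ConnectedSpace (PrimeSpectrum A)] (ω ω' : Dual.D A)
    (hω : Dual.IsDualizing A ω) (hω' : Dual.IsDualizing A ω') :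
    ∃ (P : ModuleCat.{u} A) (_ : Module.Invertible A P) (n : ℤ),
      ∀ [DRing.HasLTensor A P], Nonempty (ω' ≅ ((DRing.LTensor A P).obj ω)⟦n⟧) := by
  obtain ⟨p₀⟩ : Nonempty (PrimeSpectrum A) := inferInstance
  obtain ⟨n₀, ⟨ι₀⟩⟩ := Groth.Agent.Helper9.DPa2.exists_shift ω ω' hω hω' p₀
  obtain ⟨K, _, _, hKfin, ⟨e⟩⟩ := exists_small_model ω ω' hω hω' (-n₀)
  -- `K` is locally free of rank one
  have hloc : ∀ p : PrimeSpectrum A,
      Nonempty (Localization.AtPrime p.asIdeal ⊗[A] K ≃ₗ[Localization.AtPrime p.asIdeal]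
        Localization.AtPrime p.asIdeal) := by
    apply Groth.Agent.Helper9.DPa3.all_rank_one A K _ p₀
    · exact (Groth.Agent.Helper9.DPa2.local_hom ω ω' hω hω' p₀ n₀ ι₀ (-n₀) K e).1 (by omega)
    · intro p
      obtain ⟨n, ⟨ι⟩⟩ := Groth.Agent.Helper9.DPa2.exists_shift ω ω' hω hω' p
      have h := Groth.Agent.Helper9.DPa2.local_hom ω ω' hω hω' p n ι (-n₀) K e
      by_cases hn : n + -n₀ = 0
      · exact Or.inl (h.1 hn)
      · exact Or.inr (h.2 hn)
  haveI : Module.FinitePresentation A K := Module.finitePresentation_of_finite A K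
  haveI hinv : Module.Invertible A K :=
    Groth.Agent.Helper3.QFSynt.invertible_of_locally_free_rank_one A K
      (fun P hP => hloc ⟨P, hP.isPrime⟩)
  -- the modules `P` and `P'`
  let P : ModuleCat.{u} A := ModuleCat.of A K
  let P' : ModuleCat.{u} A := ModuleCat.of A (Module.Dual A K)
  haveI : Module.Flat A P := inferInstanceAs (Module.Flat A K)
  haveI : Module.Flat A P' := inferInstanceAs (Module.Flat A (Module.Dual A K))
  haveI : Module.Finite A P' := inferInstanceAs (Module.Finite A (Module.Dual A K))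
  haveI : Module.Projective A P' := inferInstanceAs (Module.Projective A (Module.Dual A K))
  let eP : P' ⊗ P ≅ 𝟙_ (ModuleCat.{u} A) :=
    LinearEquiv.toModuleIso (Module.Invertible.linearEquiv A K)
  -- the dualizing complex `ω'' = ω'[-n₀] ⊗ P'`
  let Y : Dual.D A := ω'⟦-n₀⟧
  let ω'' : Dual.D A := (tenD P').obj Y
  have hY : Dual.IsDualizing A Y := Groth.Agent.Helper6.LD.isDualizing_shift ω' hω' (-n₀)
  have hω'' : Dual.IsDualizing A ω'' :=
    Groth.Agent.Helper9.InvTw2.isDualizing_tenD P' P eP Y hY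
  -- `Hom(ω, ω'') ≅ A`
  obtain ⟨E1⟩ := Groth.Agent.Helper9.DPa1.main ω Y P'
  let E : A ≃ₗ[A] (ω ⟶ ω'') :=
    (Module.Invertible.linearEquiv A K).symm ≪≫ₗ
      (TensorProduct.comm A (Module.Dual A K) K) ≪≫ₗ
      (TensorProduct.congr e (LinearEquiv.refl A (Module.Dual A K))) ≪≫ₗ E1
  let θ : ω ⟶ ω'' := E 1
  have hθ : Function.Bijective (fun a : A => a • θ) := by
    have : (fun a : A => a • θ) = E := by
      funext a
      show a • E 1 = E a
      rw [← map_smul, smul_eq_mul, mul_one]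
    rw [this]
    exact E.bijective
  haveI : IsIso θ := Groth.Agent.Helper9.DPa4.isIso_of_generator ω ω'' hω hω'' θ hθ
  refine ⟨P, hinv, n₀, ?_⟩
  intro _
  -- `ω ⊗ P ≅ ω'' ⊗ P ≅ ω'[-n₀]`
  let c : tenD P' ⋙ tenD P ≅ 𝟭 (Dual.D A) :=
    compIdIso (tensorRight P') (tensorRight P) (tensorRightCompIso P' P eP)
  let i1 : (tenD P).obj ω ≅ Y := (tenD P).mapIso (asIso θ) ≪≫ c.app Y
  let i2 : ((tenD P).obj ω)⟦n₀⟧ ≅ ω' :=
    (shiftFunctor (Dual.D A) n₀).mapIso i1 ≪≫
      (shiftFunctorCompIsoId (Dual.D A) (-n₀) n₀ (by omega)).app ω'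
  exact ⟨i2.symm ≪≫ (shiftFunctor (Dual.D A) n₀).mapIso ((ltIso P).app ω).symm⟩

end Groth.Agent.Helper9.DPa5
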