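import Mathlib

/-!
# Products in the derived category (AB4* case)

If `A` is abelian with exact products of shape `J`, the termwise product of complexes
gives a product in `DerivedCategory A`.  (Dual of `Helper1.DCoprod`.)
-/

set_option autoImplicit false
set_option linter.unusedSectionVars false

namespace Groth.Agent.Helper9.DProdX
open CategoryTheory Limits DerivedCategory

universe w' w v u
variable {A : Type u} [Category.{v} A] [Abelian A] {J : Type w}

/-- A family of complexes as a complex in the functor category. -/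
@[simps, reducible]
def fam (K : J → CochainComplex A ℤ) : CochainComplex (Discrete J ⥤ A) ℤ where
  X n := Discrete.functor (fun j => (K j).X n)
  d p q := Discrete.natTrans (fun j => (K j.as).d p q)
  shape p q h := by
    ext ⟨j⟩
    simp [(K j).shape p q h]
  d_comp_d' p q r _ _ := by
    ext ⟨j⟩
    simp

/-- A family of morphisms of complexes as a morphism in the functor category. -/
@[simps]
def famMap {K L : J → CochainComplex A ℤ} (f : ∀ j, K j ⟶ L j) : fam K ⟶ fam L where
  f n := Discrete.natTrans (fun j => (f j.as).f n)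
  comm' p q _ := by
    ext ⟨j⟩
    simp

lemma quasiIso_famMap {K L : J → CochainComplex A ℤ} (f : ∀ j, K j ⟶ L j)
    (hf : ∀ j, QuasiIso (f j)) : QuasiIso (famMap f) := by
  rw [HomologicalComplex.quasiIso_iff_evaluation]
  rintro ⟨j⟩
  exact hf j

variable [HasLimitsOfShape (Discrete J) A]

/-- The termwise product of a family of complexes. -/
@[simps, reducible]
noncomputable def pi (K : J → CochainComplex A ℤ) : CochainComplex A ℤ where
  X n := ∏ᶜ (fun j => (K j).X n)
  d p q := Limits.Pi.map (fun j => (K j).d p q)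
  shape p q h := by
    apply Pi.hom_ext
    intro j
    simp [(K j).shape p q h]
  d_comp_d' p q r _ _ := by
    apply Pi.hom_ext
    intro j
    simp

/-- Functoriality of the termwise product. -/
@[simps]
noncomputable def piMap {K L : J → CochainComplex A ℤ} (f : ∀ j, K j ⟶ L j) : pi K ⟶ pi L where
  f n := Limits.Pi.map (fun j => (f j).f n)
  comm' p q _ := by
    apply Pi.hom_ext
    intro j
    simp

/-- The projections from the termwise product. -/
@[simps]
noncomputable def π (K : J → CochainComplex A ℤ) (j : J) : pi K ⟶ K j where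
  f n := Pi.π (fun j => (K j).X n) j
  comm' p q _ := by simp

/-- The universal map into the termwise product. -/
@[simps]
noncomputable def lift {K : J → CochainComplex A ℤ} {M : CochainComplex A ℤ}
    (g : ∀ j, M ⟶ K j) : M ⟶ pi K where
  f n := Pi.lift (fun j => (g j).f n)
  comm' p q _ := by
    apply Pi.hom_ext
    intro j
    simp

@[reassoc (attr := simp)]
lemma lift_π {K : J → CochainComplex A ℤ} {M : CochainComplex A ℤ}
    (g : ∀ j, M ⟶ K j) (j : J) : lift g ≫ π K j = g j := by
  ext n
  simp

@[reassoc (attr := simp)]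
lemma piMap_π {K L : J → CochainComplex A ℤ} (f : ∀ j, K j ⟶ L j) (j : J) :
    piMap f ≫ π L j = π K j ≫ f j := by
  ext n
  simp

lemma hom_ext {K : J → CochainComplex A ℤ} {M : CochainComplex A ℤ}
    {a b : M ⟶ pi K} (h : ∀ j, a ≫ π K j = b ≫ π K j) : a = b := by
  ext n
  rename_i j
  have := congr_arg (fun φ => φ.f n) (h j)
  simpa using this

/-- Assembling null-homotopies into the termwise product. -/
noncomputable def homotopyLift {K : J → CochainComplex A ℤ} {M : CochainComplex A ℤ}
    (g : M ⟶ pi K) (h : ∀ j, Homotopy (g ≫ π K j) 0) : Homotopy g 0 where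
  hom p q := Pi.lift (fun j => (h j).hom p q)
  zero p q hpq := by
    apply Pi.hom_ext
    intro j
    simp [(h j).zero p q hpq]
  comm n := by
    apply Pi.hom_ext
    intro j
    have := (h j).comm n
    simp only [HomologicalComplex.comp_f, HomologicalComplex.zero_f, add_zero, π_f] at this
    rw [this]
    simp [dNext, prevD]

lemma quasiIso_piMap [HasExactLimitsOfShape (Discrete J) A]
    {K L : J → CochainComplex A ℤ} (f : ∀ j, K j ⟶ L j)
    (hf : ∀ j, QuasiIso (f j)) : QuasiIso (piMap f) := by
  have := quasiIso_famMap f hf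
  haveI : PreservesLimitsOfSize.{0, 0} (lim : (Discrete J ⥤ A) ⥤ A) :=
    (constLimAdj (J := Discrete J) (C := A)).rightAdjoint_preservesLimits
  haveI : PreservesFiniteLimits (lim : (Discrete J ⥤ A) ⥤ A) :=
    PreservesLimitsOfSize.preservesFiniteLimits _
  haveI : (lim : (Discrete J ⥤ A) ⥤ A).IsRightAdjoint := ⟨_, ⟨constLimAdj⟩⟩
  haveI : (lim : (Discrete J ⥤ A) ⥤ A).Additive := Functor.additive_of_preserves_binary_products _
  haveI : (lim : (Discrete J ⥤ A) ⥤ A).PreservesHomology := inferInstance
  have h : QuasiIso (((lim (J := Discrete J) (C := A)).mapHomologicalComplex _).map (famMap f)) :=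
    HomologicalComplex.quasiIso_map_of_preservesHomology (famMap f) _
  exact h

section Derived

variable [HasDerivedCategory.{w'} A]

lemma exists_homotopy {K M : CochainComplex A ℤ} (g : K ⟶ M) (hg : Q.map g = 0) :
    ∃ (M' : CochainComplex A ℤ) (u : M ⟶ M'), QuasiIso u ∧ Nonempty (Homotopy (g ≫ u) 0) := by
  have h1 : Qh.map ((HomotopyCategory.quotient A (ComplexShape.up ℤ)).map g) =
      Qh.map ((HomotopyCategory.quotient A (ComplexShape.up ℤ)).map 0) := by
    rw [Functor.map_zero, Functor.map_zero]
    exact hg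
  rw [MorphismProperty.map_eq_iff_postcomp Qh (HomotopyCategory.quasiIso A (ComplexShape.up ℤ))] at h1
  obtain ⟨X, s, hs, eq⟩ := h1
  obtain ⟨M', rfl⟩ := HomotopyCategory.quotient_obj_surjective X
  obtain ⟨u, rfl⟩ := (HomotopyCategory.quotient _ _).map_surjective s
  rw [HomotopyCategory.quotient_map_mem_quasiIso_iff] at hs
  refine ⟨M', u, hs, ⟨HomotopyCategory.homotopyOfEq _ _ ?_⟩⟩
  rw [Functor.map_comp, eq, Functor.map_zero, Functor.map_zero, zero_comp]

variable [HasExactLimitsOfShape (Discrete J) A]

lemma exists_lift (K : J → CochainComplex A ℤ) (M : CochainComplex A ℤ)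
    (g : ∀ j, Q.obj M ⟶ Q.obj (K j)) :
    ∃ φ : Q.obj M ⟶ Q.obj (pi K), ∀ j, φ ≫ Q.map (π K j) = g j := by
  choose K' f s hs hf using fun j => left_fac (g j)
  have hq : QuasiIso (piMap s) :=
    quasiIso_piMap s (fun j => (isIso_Q_map_iff_quasiIso (C := A) (s j)).1 (hs j))
  refine ⟨Q.map (lift f) ≫ inv (Q.map (piMap s)), fun j => ?_⟩
  rw [hf j]
  have e : inv (Q.map (piMap s)) ≫ Q.map (π K j) = Q.map (π K' j) ≫ inv (Q.map (s j)) := by
    have := hs j
    rw [← cancel_epi (Q.map (piMap s)), ← cancel_mono (Q.map (s j))]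
    simp [← Functor.map_comp]
  rw [Category.assoc, e, ← Category.assoc, ← Functor.map_comp, lift_π]

lemma eq_zero (K : J → CochainComplex A ℤ) (M : CochainComplex A ℤ)
    (φ : Q.obj M ⟶ Q.obj (pi K)) (h : ∀ j, φ ≫ Q.map (π K j) = 0) : φ = 0 := by
  obtain ⟨M', w, hw, f, rfl⟩ := right_fac φ
  have h' : ∀ j, Q.map (f ≫ π K j) = 0 := fun j => by
    have := h j
    rw [Category.assoc, ← Functor.map_comp] at this
    rw [← cancel_epi (inv (Q.map w)), this, comp_zero]
  choose K' u hu H using fun j => exists_homotopy _ (h' j)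
  have hq : QuasiIso (piMap u) := quasiIso_piMap u hu
  have h2 : Q.map (f ≫ piMap u) = 0 := by
    have hh : Homotopy (f ≫ piMap u) 0 := homotopyLift (f ≫ piMap u) (fun j =>
      (Homotopy.ofEq (by rw [Category.assoc, piMap_π, ← Category.assoc])).trans (H j).some)
    rw [Q_map_eq_of_homotopy (C := A) hh, Functor.map_zero]
  rw [Functor.map_comp] at h2
  have h3 : Q.map f = 0 := by
    rw [← cancel_mono (Q.map (piMap u)), h2, zero_comp]
  rw [h3, comp_zero]

/-- The fan in the derived category given by the termwise product. -/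
noncomputable def fan (K : J → CochainComplex A ℤ) : Fan (fun j => Q.obj (K j)) :=
  Fan.mk (Q.obj (pi K)) (fun j => Q.map (π K j))

lemma exists_lift' (K : J → CochainComplex A ℤ) (T : DerivedCategory A)
    (g : ∀ j, T ⟶ Q.obj (K j)) :
    ∃ φ : T ⟶ Q.obj (pi K), ∀ j, φ ≫ Q.map (π K j) = g j := by
  let e := Q.objObjPreimageIso T
  obtain ⟨φ, hφ⟩ := exists_lift K _ (fun j => e.hom ≫ g j)
  exact ⟨e.inv ≫ φ, fun j => by rw [Category.assoc, hφ]; simp⟩

lemma hom_ext' (K : J → CochainComplex A ℤ) (T : DerivedCategory A)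
    (a b : T ⟶ Q.obj (pi K)) (h : ∀ j, a ≫ Q.map (π K j) = b ≫ Q.map (π K j)) : a = b := by
  let e := Q.objObjPreimageIso T
  rw [← cancel_epi e.hom, ← sub_eq_zero, ← Preadditive.comp_sub]
  apply eq_zero
  intro j
  rw [Category.assoc, Preadditive.sub_comp, h j, sub_self, comp_zero]

/-- The termwise product is a product in the derived category. -/
noncomputable def isLimitFan (K : J → CochainComplex A ℤ) : IsLimit (fan K) :=
  Fan.IsLimit.mk _ (fun s => (exists_lift' K s.pt s.proj).choose)
    (fun s j => (exists_lift' K s.pt s.proj).choose_spec j)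
    (fun s _ hm => hom_ext' K _ _ _ (fun j =>
      (hm j).trans ((exists_lift' K s.pt s.proj).choose_spec j).symm))

end Derived

end Groth.Agent.Helper9.DProdX
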