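import Mathlib

/-! Formal compatibility of coreflections with an adjoint pair preserving the coreflective
subcategories: `R ∘ Q_C ≅ Q_D ∘ R`. -/

set_option autoImplicit false
set_option linter.style.haveILetI false
set_option linter.unusedVariables false
set_option linter.unusedSectionVars false

namespace Groth.Agent.Helper9.DQ1

open CategoryTheory

variable {C D : Type*} [Category C] [Category D] (PC : ObjectProperty C) (PD : ObjectProperty D)
  {L : D ⥤ C} {R : C ⥤ D} (adj : L ⊣ R)
  {QC : C ⥤ PC.FullSubcategory} (aC : PC.ι ⊣ QC) {QD : D ⥤ PD.FullSubcategory} (aD : PD.ι ⊣ QD)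
  (hL : ∀ N : D, PD N → PC (L.obj N)) (hR : ∀ K : C, PC K → PD (R.obj K))

include hL in
lemma bijective_comp_counit (N : D) (hN : PD N) (K : C) :
    Function.Bijective (fun χ : L.obj N ⟶ (QC.obj K).obj => χ ≫ aC.counit.app K) := by
  let M' : PC.FullSubcategory := ⟨L.obj N, hL N hN⟩
  have h1 : Function.Bijective (fun φ : M' ⟶ QC.obj K => PC.ι.map φ) :=
    (PC.fullyFaithfulι.homEquiv (X := M') (Y := QC.obj K)).bijective
  have h2 : (fun χ : L.obj N ⟶ (QC.obj K).obj => χ ≫ aC.counit.app K) ∘
      (fun φ : M' ⟶ QC.obj K => PC.ι.map φ) = ⇑(aC.homEquiv M' K).symm := by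
    funext φ
    exact (Adjunction.homEquiv_counit aC M' K φ).symm
  have h3 : Function.Bijective ((fun χ : L.obj N ⟶ (QC.obj K).obj => χ ≫ aC.counit.app K) ∘
      (fun φ : M' ⟶ QC.obj K => PC.ι.map φ)) := by
    rw [h2]
    exact (aC.homEquiv M' K).symm.bijective
  exact (Function.Bijective.of_comp_iff _ h1).1 h3

include adj hL in
lemma bijective_comp_map_counit (N : D) (hN : PD N) (K : C) :
    Function.Bijective (fun ψ : N ⟶ R.obj (QC.obj K).obj => ψ ≫ R.map (aC.counit.app K)) := by
  have h1 := bijective_comp_counit PC PD aC hL N hN K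
  have h2 : (fun ψ : N ⟶ R.obj (QC.obj K).obj => ψ ≫ R.map (aC.counit.app K)) =
      ⇑(adj.homEquiv N K) ∘ (fun χ : L.obj N ⟶ (QC.obj K).obj => χ ≫ aC.counit.app K) ∘
        ⇑(adj.homEquiv N (QC.obj K).obj).symm := by
    funext ψ
    simp only [Function.comp_apply]
    rw [Adjunction.homEquiv_naturality_right, Equiv.apply_symm_apply]
  rw [h2]
  exact (adj.homEquiv N K).bijective.comp (h1.comp (adj.homEquiv N _).symm.bijective)

include adj hL in
/-- the comparison `R (Q_C K) ⟶ Q_D (R K)` is an isomorphism -/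
theorem isIso_comparison (K : C) :
    IsIso (aD.homEquiv (⟨R.obj (QC.obj K).obj, hR _ (QC.obj K).property⟩ : PD.FullSubcategory)
      (R.obj K) (R.map (aC.counit.app K))) := by
  apply isIso_of_yoneda_map_bijective
  intro N
  let N₀ : PD.FullSubcategory := ⟨R.obj (QC.obj K).obj, hR _ (QC.obj K).property⟩
  have h1 : Function.Bijective (fun φ : N ⟶ N₀ => PD.ι.map φ) :=
    (PD.fullyFaithfulι.homEquiv (X := N) (Y := N₀)).bijective
  have h2 := bijective_comp_map_counit PC PD adj aC hL N.obj N.property K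
  have h3 : (fun φ : N ⟶ N₀ => φ ≫ aD.homEquiv N₀ (R.obj K) (R.map (aC.counit.app K))) =
      ⇑(aD.homEquiv N (R.obj K)) ∘
        (fun ψ : N.obj ⟶ R.obj (QC.obj K).obj => ψ ≫ R.map (aC.counit.app K)) ∘
          (fun φ : N ⟶ N₀ => PD.ι.map φ) := by
    funext φ
    simp only [Function.comp_apply]
    exact (Adjunction.homEquiv_naturality_left aD φ _).symm
  rw [h3]
  exact (aD.homEquiv N (R.obj K)).bijective.comp (h2.comp h1)

end Groth.Agent.Helper9.DQ1
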