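import Mathlib
import Groth.Agent.Helper1.DeltaCmp
import Groth.Agent.Helper1.ExtLES
import Groth.Agent.Helper1.DeltaFunctor

/-!
# `Ext` groups from `ℤ[0]` in the category of nonnegatively graded complexes of abelian groups

`Extⁿ(ℤ[0], M) ≅ Hⁿ(M)` in `CochainComplex Ab ℕ`.
-/

set_option autoImplicit false

namespace Groth.Agent.Helper9.DblA

open CategoryTheory Limits Abelian Groth.Agent.Helper1

universe u

/-- nonnegatively graded cochain complexes of abelian groups -/
abbrev BB := CochainComplex AddCommGrpCat.{u} ℕ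

/-- `ℤ` in degree `0` -/
noncomputable def X₀ : BB.{u} :=
  (CochainComplex.single₀ AddCommGrpCat.{u}).obj (AddCommGrpCat.of (ULift.{u} ℤ))

section Path

variable (M : BB.{u})

/-- the differential of the path complex -/
def pd (n : ℕ) : (M.X n × M.X (n + 1)) →+ (M.X (n + 1) × M.X (n + 1 + 1)) where
  toFun x := (x.2, 0)
  map_zero' := rfl
  map_add' x y := by
    ext
    · rfl
    · simp

/-- the path complex: `(PP M)ⁿ = Mⁿ × Mⁿ⁺¹`, `d (x, y) = (y, 0)` -/
noncomputable def PP : BB.{u} :=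
  CochainComplex.of (fun n => AddCommGrpCat.of (M.X n × M.X (n + 1)))
    (fun n => AddCommGrpCat.ofHom (pd M n)) (fun n => by
      rw [← AddCommGrpCat.ofHom_comp]
      have : (pd M (n + 1)).comp (pd M n) = 0 := AddMonoidHom.ext fun x => rfl
      rw [this]
      rfl)

lemma PP_d (n : ℕ) : (PP M).d n (n + 1) = AddCommGrpCat.ofHom (pd M n) := by
  unfold PP
  exact CochainComplex.of_d (V := AddCommGrpCat.{u})
    (fun n => AddCommGrpCat.of (M.X n × M.X (n + 1)))
    (fun n => AddCommGrpCat.ofHom (pd M n)) n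

/-- the components of the inclusion -/
def ιf (n : ℕ) : M.X n →+ (M.X n × M.X (n + 1)) :=
  AddMonoidHom.prod (AddMonoidHom.id _) (M.d n (n + 1)).hom

/-- the inclusion `M ⟶ PP M`, `x ↦ (x, d x)` -/
noncomputable def ι : M ⟶ PP M where
  f n := AddCommGrpCat.ofHom (ιf M n)
  comm' := by
    rintro i _ rfl
    rw [PP_d]
    ext x
    change ((M.d i (i + 1)).hom x, (0 : M.X (i + 1 + 1))) =
      ((M.d i (i + 1)).hom x, (M.d (i + 1) (i + 1 + 1)).hom ((M.d i (i + 1)).hom x))
    have h : (M.d (i + 1) (i + 1 + 1)).hom ((M.d i (i + 1)).hom x) = 0 := by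
      have := M.d_comp_d i (i + 1) (i + 1 + 1)
      exact congrArg (fun φ => φ.hom x) this
    rw [h]

instance : Mono (ι M) := by
  haveI : ∀ n, Mono ((ι M).f n) := by
    intro n
    rw [AddCommGrpCat.mono_iff_injective]
    intro x y h
    exact congrArg Prod.fst h
  exact HomologicalComplex.mono_of_mono_f _ this

lemma PP_exactAt (n : ℕ) : (PP M).ExactAt (n + 1) := by
  rw [HomologicalComplex.exactAt_iff' _ n (n + 1) (n + 1 + 1) (by simp) (by simp)]
  rw [ShortComplex.ab_exact_iff]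
  intro x hx
  replace hx : ((PP M).d (n + 1) (n + 1 + 1)).hom x = 0 := hx
  rw [PP_d] at hx
  have hx2 : (x : M.X (n + 1) × M.X (n + 1 + 1)).2 = 0 := congrArg Prod.fst hx
  refine ⟨(((0 : M.X n), (x : M.X (n + 1) × M.X (n + 1 + 1)).1) : M.X n × M.X (n + 1)), ?_⟩
  change ((PP M).d n (n + 1)).hom _ = x
  rw [PP_d]
  change ((x : M.X (n + 1) × M.X (n + 1 + 1)).1, (0 : M.X (n + 1 + 1))) = x
  rw [← hx2]
  rfl

end Path

/-- injective objects are acyclic in positive degrees -/
lemma isZero_homology_of_injective (J : BB.{u}) [Injective J] (n : ℕ) :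
    IsZero (J.homology (n + 1)) := by
  have hP : IsZero ((PP J).homology (n + 1)) := (PP_exactAt J n).isZero_homology
  let r : PP J ⟶ J := Injective.factorThru (𝟙 J) (ι J)
  have hr : ι J ≫ r = 𝟙 J := Injective.comp_factorThru _ _
  rw [IsZero.iff_id_eq_zero]
  have h1 : 𝟙 (J.homology (n + 1)) =
      HomologicalComplex.homologyMap (ι J) (n + 1) ≫ HomologicalComplex.homologyMap r (n + 1) := by
    rw [← HomologicalComplex.homologyMap_comp, hr, HomologicalComplex.homologyMap_id]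
  rw [h1, hP.eq_of_tgt (HomologicalComplex.homologyMap (ι J) (n + 1)) 0, zero_comp]

section Zero

/-- `ℤ` -/
abbrev Z' : AddCommGrpCat.{u} := AddCommGrpCat.of (ULift.{u} ℤ)

lemma X₀_X_zero : (X₀.{u}).X 0 = Z'.{u} := rfl

lemma X₀_d : (X₀.{u}).d 0 1 = 0 := HomologicalComplex.single_obj_d _ _ _ _ _

lemma ulift_hom_ext {G : Type u} [AddCommGroup G] (φ ψ : ULift.{u} ℤ →+ G)
    (h : φ ⟨1⟩ = ψ ⟨1⟩) : φ = ψ := by
  have h' : φ.comp AddEquiv.ulift.symm.toAddMonoidHom =
      ψ.comp AddEquiv.ulift.symm.toAddMonoidHom := by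
    apply AddMonoidHom.ext_int
    exact h
  ext ⟨x⟩
  exact DFunLike.congr_fun h' x

lemma hom_ext_one {G : AddCommGrpCat.{u}} (φ ψ : Z'.{u} ⟶ G)
    (h : φ.hom ⟨1⟩ = ψ.hom ⟨1⟩) : φ = ψ :=
  AddCommGrpCat.hom_ext (ulift_hom_ext _ _ h)

/-- the morphism from `ℤ` with a given value at `1` -/
def ofElt {G : AddCommGrpCat.{u}} (m : G) : Z'.{u} ⟶ G :=
  AddCommGrpCat.ofHom ((zmultiplesHom G m).comp AddEquiv.ulift.toAddMonoidHom)

lemma ofElt_one {G : AddCommGrpCat.{u}} (m : G) : (ofElt m).hom ⟨1⟩ = m := by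
  change (1 : ℤ) • m = m
  exact one_zsmul m

variable (M : BB.{u})

lemma f_zero_d (f : X₀.{u} ⟶ M) : f.f 0 ≫ M.d 0 1 = 0 := by
  rw [f.comm 0 1, X₀_d, zero_comp]

/-- the cycle associated to a morphism from `X₀` -/
noncomputable def zf (f : X₀.{u} ⟶ M) : Z'.{u} ⟶ M.cycles 0 :=
  M.liftCycles (f.f 0) 1 (by simp) (f_zero_d M f)

lemma zf_i (f : X₀.{u} ⟶ M) : zf M f ≫ M.iCycles 0 = f.f 0 :=
  HomologicalComplex.liftCycles_i _ _ _ _ _

lemma zf_add (f f' : X₀.{u} ⟶ M) : zf M (f + f') = zf M f + zf M f' := by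
  rw [← cancel_mono (M.iCycles 0), Preadditive.add_comp, zf_i, zf_i, zf_i]
  rfl

lemma zf_comp {M' : BB.{u}} (f : X₀.{u} ⟶ M) (g : M ⟶ M') :
    zf M' (f ≫ g) = zf M f ≫ HomologicalComplex.cyclesMap g 0 := by
  rw [← cancel_mono (M'.iCycles 0), Category.assoc, HomologicalComplex.cyclesMap_i,
    ← Category.assoc, zf_i, zf_i]
  rfl

/-- the class associated to a morphism from `X₀` -/
noncomputable def toH : (X₀.{u} ⟶ M) →+ M.homology 0 where
  toFun f := (zf M f ≫ M.homologyπ 0).hom ⟨1⟩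
  map_zero' := by
    have : zf M 0 = 0 := by
      rw [← cancel_mono (M.iCycles 0), zf_i, zero_comp]
      rfl
    rw [this, zero_comp]
    rfl
  map_add' f f' := by
    rw [zf_add, Preadditive.add_comp]
    rfl

lemma toH_apply (f : X₀.{u} ⟶ M) : toH M f = (zf M f ≫ M.homologyπ 0).hom ⟨1⟩ := rfl

lemma toH_nat {M' : BB.{u}} (f : X₀.{u} ⟶ M) (g : M ⟶ M') :
    toH M' (f ≫ g) = (HomologicalComplex.homologyMap g 0).hom (toH M f) := by
  rw [toH_apply, toH_apply, zf_comp, Category.assoc,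
    ← HomologicalComplex.homologyπ_naturality, ← Category.assoc]
  rfl

lemma toH_injective : Function.Injective (toH M) := by
  rw [injective_iff_map_eq_zero]
  intro f hf
  rw [toH_apply] at hf
  have h1 : zf M f ≫ M.homologyπ 0 = 0 := by
    apply hom_ext_one
    rw [hf]
    rfl
  have h2 : zf M f = 0 := by
    rw [← cancel_mono (M.homologyπ 0), h1, zero_comp]
  have h3 : f.f 0 = 0 := by
    rw [← zf_i, h2]
    exact zero_comp
  apply HomologicalComplex.from_single_hom_ext
  rw [h3]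
  rfl

lemma toH_surjective : Function.Surjective (toH M) := by
  intro h
  let k : Z'.{u} ⟶ M.homology 0 := ofElt h
  let k' : Z'.{u} ⟶ M.X 0 := k ≫ M.isoHomologyπ₀.inv ≫ M.iCycles 0
  have hk' : k' ≫ M.d 0 1 = 0 := by
    dsimp only [k']
    rw [Category.assoc, Category.assoc, HomologicalComplex.iCycles_d, comp_zero, comp_zero]
  let f : X₀.{u} ⟶ M := (CochainComplex.fromSingle₀Equiv M Z'.{u}).symm ⟨k', hk'⟩
  have hf : f.f 0 = k' := CochainComplex.fromSingle₀Equiv_symm_apply_f_zero _ _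
  have hz : zf M f = k ≫ M.isoHomologyπ₀.inv := by
    rw [← cancel_mono (M.iCycles 0), zf_i, hf, Category.assoc]
  refine ⟨f, ?_⟩
  rw [toH_apply, hz, Category.assoc, HomologicalComplex.isoHomologyπ_inv_hom_id, Category.comp_id]
  exact ofElt_one h

/-- `Hom(X₀, M) ≃ H⁰(M)` -/
noncomputable def homEquiv : (X₀.{u} ⟶ M) ≃+ M.homology 0 :=
  AddEquiv.ofBijective (toH M) ⟨toH_injective M, toH_surjective M⟩

end Zero

section Main

/-- the homology functors -/
noncomputable abbrev T (n : ℕ) : BB.{u} ⥤ AddCommGrpCat.{u} :=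
  𝟭 BB.{u} ⋙ HomologicalComplex.homologyFunctor AddCommGrpCat.{u} (ComplexShape.up ℕ) n

/-- the `Ext` functors -/
noncomputable abbrev T' (n : ℕ) : BB.{u} ⥤ AddCommGrpCat.{u} :=
  DeltaCmp.extSeq (𝟭 BB.{u}) X₀.{u} n

lemma addEquiv₀_comp_mk₀ {A B B' : BB.{u}} (α : Ext.{u} A B 0) (β : B ⟶ B') :
    Ext.addEquiv₀ (α.comp (Ext.mk₀ β) (add_zero 0)) = Ext.addEquiv₀ α ≫ β := by
  apply (Ext.mk₀_bijective _ _).1
  rw [Ext.mk₀_addEquiv₀_apply, ← Ext.mk₀_comp_mk₀, Ext.mk₀_addEquiv₀_apply]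

/-- the comparison in degree `0`, on objects -/
noncomputable def e0app (M : BB.{u}) : Ext.{u} X₀.{u} M 0 ≃+ M.homology 0 :=
  Ext.addEquiv₀.trans (homEquiv M)

lemma e0app_nat {M M' : BB.{u}} (g : M ⟶ M') (α : Ext.{u} X₀.{u} M 0) :
    e0app M' (α.comp (Ext.mk₀ g) (add_zero 0)) =
      (HomologicalComplex.homologyMap g 0).hom (e0app M α) := by
  change toH M' (Ext.addEquiv₀ (α.comp (Ext.mk₀ g) (add_zero 0))) = _
  rw [addEquiv₀_comp_mk₀, toH_nat]
  rfl

/-- the comparison in degree `0` -/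
noncomputable def e0 : T'.{u} 0 ≅ T.{u} 0 :=
  NatIso.ofComponents (fun M => (e0app M).toAddCommGrpIso)
    (by
      intro M M' g
      ext α
      exact e0app_nat g α)

lemma hasLES_T (S : ShortComplex BB.{u}) (hS : S.ShortExact) : DeltaCmp.HasLES T.{u} S :=
  (DeltaFun.ofComplex (𝟭 BB.{u}) (fun S hS => hS)).hasLES S hS

lemma hasLES_T' (S : ShortComplex BB.{u}) (hS : S.ShortExact) : DeltaCmp.HasLES T'.{u} S :=
  DeltaCmp.hasLES_extSeq (𝟭 BB.{u}) X₀.{u} S hS

theorem nonempty_iso (n : ℕ) (M : BB.{u}) :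
    Nonempty (AddCommGrpCat.of (Ext.{u} X₀.{u} M n) ≅ M.homology n) := by
  have h := DeltaCmp.nonempty_iso (T := T'.{u}) (T' := T.{u}) (fun _ => True) e0.{u}
    (fun F _ => by
      let S : ShortComplex BB.{u} := ShortComplex.mk (Injective.ι F) (cokernel.π (Injective.ι F))
        (cokernel.condition _)
      have hS : S.ShortExact :=
        { exact := ShortComplex.exact_cokernel _ }
      exact ⟨{ S := S
               iso := rfl
               mem := True.intro
               zero := fun n => by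
                 have : Subsingleton (Ext.{u} X₀.{u} (Injective.under F) (n + 1)) :=
                   subsingleton_of_forall_eq 0 (fun x => Ext.eq_zero_of_injective x)
                 exact AddCommGrpCat.isZero_of_subsingleton
                   (AddCommGrpCat.of (Ext.{u} X₀.{u} (Injective.under F) (n + 1)))
               zero' := fun n => isZero_homology_of_injective _ n
               les := hasLES_T' S hS
               les' := hasLES_T S hS }⟩) n M True.intro
  exact h

end Main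

end Groth.Agent.Helper9.DblA
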