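import Mathlib
import Groth.Prelude.Def_SpSeq
import Groth.Agent.Helper9.DblA
import Groth.Agent.Helper9.SpE1B
import Groth.Agent.Helper9.SpFinalGen

/-!
# The first spectral sequence of a first quadrant double complex of abelian groups with exact rows
-/

set_option autoImplicit false
set_option backward.isDefEq.respectTransparency false

namespace Groth.Agent.Helper9.DblB

open CategoryTheory Limits Abelian Groth.Agent.Helper9.DblA

universe u

variable (K : CochainComplex BB.{u} ℕ) (A : BB.{u}) (aug : A ⟶ K.X 0)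
  (haug : aug ≫ K.d 0 1 = 0)

/-- the augmentation as a morphism of complexes -/
noncomputable def ι : (CochainComplex.single₀ BB.{u}).obj A ⟶ K :=
  (CochainComplex.fromSingle₀Equiv _ _).symm ⟨aug, haug⟩

lemma ι_f_zero : (ι K A aug haug).f 0 = aug :=
  CochainComplex.fromSingle₀Equiv_symm_apply_f_zero _ _

variable (hmono : ∀ q, Function.Injective (aug.f q))
  (hex0 : ∀ q (x : (K.X 0).X q), ((K.d 0 1).f q) x = 0 → ∃ a, (aug.f q) a = x)
  (hex : ∀ p q (x : (K.X (p + 1)).X q), ((K.d (p + 1) (p + 1 + 1)).f q) x = 0 →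
    ∃ y : (K.X p).X q, ((K.d p (p + 1)).f q) y = x)

include hmono in
lemma mono_aug : Mono aug := by
  apply HomologicalComplex.mono_of_mono_f
  intro q
  rw [AddCommGrpCat.mono_iff_injective]
  exact hmono q

include hex0 in
lemma exact_aug : (ShortComplex.mk aug (K.d 0 1) haug).Exact := by
  rw [HomologicalComplex.exact_iff_degreewise_exact]
  intro q
  rw [ShortComplex.ab_exact_iff]
  intro x hx
  exact hex0 q x hx

include hex in
lemma exactAt_succ (n : ℕ) : K.ExactAt (n + 1) := by
  rw [HomologicalComplex.exactAt_iff' _ n (n + 1) (n + 1 + 1) (by simp) (by simp)]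
  rw [HomologicalComplex.exact_iff_degreewise_exact]
  intro q
  rw [ShortComplex.ab_exact_iff]
  intro x hx
  exact hex n q x hx

include hmono hex0 hex in
lemma quasiIso_ι : QuasiIso (ι K A aug haug) := ⟨fun n => by
  cases n
  · rw [CochainComplex.quasiIsoAt₀_iff, ShortComplex.quasiIso_iff_of_zeros]
    · refine (ShortComplex.exact_and_mono_f_iff_of_iso ?_).2
        ⟨exact_aug K A aug haug hex0, mono_aug K A aug hmono⟩
      exact ShortComplex.isoMk (Iso.refl _) (Iso.refl _) (Iso.refl _)
        (by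
          dsimp
          rw [Category.id_comp, Category.comp_id]
          exact ι_f_zero K A aug haug)
        (by
          dsimp
          rw [Category.id_comp, Category.comp_id]
          rfl)
    · rfl
    · rfl
    · exact K.shape 0 0 (by simp)
  · rw [quasiIsoAt_iff_exactAt]
    · apply exactAt_succ K hex
    · apply CochainComplex.exactAt_succ_single_obj⟩

/-- the complex, indexed by the integers -/
noncomputable def L : CochainComplex BB.{u} ℤ :=
  K.extend ComplexShape.embeddingUpNat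

instance : (L K).IsStrictlyGE 0 := by
  dsimp [L]
  infer_instance

/-- the terms of `L` in nonnegative degrees -/
noncomputable def LXIso (n : ℕ) : (L K).X (n : ℤ) ≅ K.X n :=
  HomologicalComplex.extendXIso K ComplexShape.embeddingUpNat (i := n) (i' := (n : ℤ)) rfl

/-- the augmentation `A[0] ⟶ L` -/
noncomputable def φ : (CochainComplex.singleFunctor BB.{u} 0).obj A ⟶ L K :=
  (HomologicalComplex.extendSingleIso _ _ _ _ (by simp)).inv ≫
    (ComplexShape.embeddingUpNat.extendFunctor BB.{u}).map (ι K A aug haug)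

set_option backward.defeqAttrib.useBackward true in
include hmono hex0 hex in
lemma quasiIso_φ : QuasiIso (φ K A aug haug) := by
  haveI := quasiIso_ι K A aug haug hmono hex0 hex
  dsimp [φ]
  infer_instance

/-- `Ext` groups only depend on the isomorphism class of the second variable -/
noncomputable def extPostcompIso (X : BB.{u}) {Y Y' : BB.{u}} (e : Y ≅ Y') (n : ℕ) :
    Ext.{u} X Y n ≃+ Ext.{u} X Y' n where
  toFun x := x.comp (Ext.mk₀ e.hom) (add_zero n)
  invFun x := x.comp (Ext.mk₀ e.inv) (add_zero n)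
  left_inv x := by
    dsimp only
    rw [Ext.comp_assoc _ _ _ (add_zero n) (add_zero 0) (by omega), Ext.mk₀_comp_mk₀,
      e.hom_inv_id, Ext.comp_mk₀_id]
  right_inv x := by
    dsimp only
    rw [Ext.comp_assoc _ _ _ (add_zero n) (add_zero 0) (by omega), Ext.mk₀_comp_mk₀,
      e.inv_hom_id, Ext.comp_mk₀_id]
  map_add' x y := Ext.add_comp _ _ _ _

include haug hmono hex0 hex in
/-- **The first spectral sequence of a first quadrant double complex with exact rows.** -/
theorem main (Hn : ℕ → AddCommGrpCat.{u}) (eH : ∀ n, Nonempty (A.homology n ≅ Hn n))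
    (E1 : ℕ → ℕ → AddCommGrpCat.{u}) (eE : ∀ p q, Nonempty ((K.X p).homology q ≅ E1 p q)) :
    ∃ (E : CohomologicalSpectralSequence AddCommGrpCat.{u} 1)
      (a : SpSeq.Abutment E (fun n : ℤ =>
        if 0 ≤ n then Hn n.toNat else AddCommGrpCat.of PUnit.{u + 1})),
      (∀ n, a.IsFinite n) ∧ SpSeq.IsBounded E ∧
      ∀ p q : ℤ, Nonempty ((E.page 1 le_rfl).X (p, q) ≅
        (if 0 ≤ p ∧ 0 ≤ q then E1 p.toNat q.toNat else AddCommGrpCat.of PUnit.{u + 1})) := by
  haveI := quasiIso_φ K A aug haug hmono hex0 hex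
  have hZ : IsZero (AddCommGrpCat.of PUnit.{u + 1}) := AddCommGrpCat.isZero_of_subsingleton _
  obtain ⟨E, a, hfin, hbd, hE1⟩ := SpE1B.exists_spectralSequence X₀.{u} (L K) A (φ K A aug haug)
    (AddCommGrpCat.of PUnit.{u + 1}) (AddCommGrpCat.of PUnit.{u + 1}) hZ hZ
  refine ⟨E, ?_⟩
  refine SpFinalGen.exists_final E _ a hfin hbd E1 ?_ ?_ Hn _ _ hZ hZ ?_ ?_
  · intro p' q'
    obtain ⟨e⟩ := hE1 (p' : ℤ) (q' : ℤ)
    rw [if_pos ⟨Int.natCast_nonneg p', Int.natCast_nonneg q'⟩, Int.toNat_natCast,
      Int.toNat_natCast] at e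
    obtain ⟨e2⟩ := DblA.nonempty_iso q' (K.X p')
    obtain ⟨e3⟩ := eE p' q'
    exact ⟨e ≪≫ (extPostcompIso X₀.{u} (LXIso K p') q').toAddCommGrpIso ≪≫ e2 ≪≫ e3⟩
  · intro p q hpq
    obtain ⟨e⟩ := hE1 p q
    rw [if_neg (by omega)] at e
    exact hZ.of_iso e
  · intro n'
    obtain ⟨e2⟩ := DblA.nonempty_iso n' A
    obtain ⟨e3⟩ := eH n'
    refine ⟨?_ ≪≫ e2 ≪≫ e3⟩
    rw [if_pos (Int.natCast_nonneg n'), Int.toNat_natCast]
  · intro n hn
    rw [if_neg (by omega)]
    exact hZ

end Groth.Agent.Helper9.DblB
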