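import Mathlib
set_option autoImplicit false
universe u v

namespace Groth.Agent.Helper9.DblInv

lemma mat_id {A : Type u} [CommRing A] (X Y : Matrix (Fin 2) (Fin 2) A) :
    X * Y + Y * X - X.trace • Y - Y.trace • X + (X.trace * Y.trace - (X * Y).trace) • (1 : Matrix (Fin 2) (Fin 2) A) = 0 := by
  ext i j
  fin_cases i <;> fin_cases j <;>
    simp [Matrix.mul_apply, Fin.sum_univ_two, Matrix.trace_fin_two, Matrix.one_apply] <;> ring

variable {A : Type u} {B : Type v} [CommRing A] [CommRing B] [Algebra A B]

lemma key (bas : Module.Basis (Fin 2) A B) (x y : B) :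
    2 * (x * y) - algebraMap A B (Algebra.trace A B x) * y - algebraMap A B (Algebra.trace A B y) * x +
      algebraMap A B (Algebra.trace A B x * Algebra.trace A B y - Algebra.trace A B (x * y)) = 0 := by
  apply Algebra.leftMulMatrix_injective bas
  have h := mat_id (Algebra.leftMulMatrix bas x) (Algebra.leftMulMatrix bas y)
  rw [map_zero]
  simp only [map_add, map_sub, map_mul, Algebra.trace_eq_matrix_trace bas] at h ⊢
  rw [← h]
  have e1 : ∀ a : A, Algebra.leftMulMatrix bas (algebraMap A B a) = a • (1 : Matrix (Fin 2) (Fin 2) A) := by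
    intro a
    rw [AlgHom.commutes, Algebra.algebraMap_eq_smul_one]
  have e2 : Algebra.leftMulMatrix bas (2 : B) = 2 := by
    rw [map_ofNat]
  have hc : Algebra.leftMulMatrix bas y * Algebra.leftMulMatrix bas x =
      Algebra.leftMulMatrix bas x * Algebra.leftMulMatrix bas y := by
    rw [← map_mul, ← map_mul, mul_comm]
  simp only [e1, e2, hc, map_mul]
  simp only [smul_mul_assoc, one_mul, sub_smul, mul_smul, two_mul]

theorem main (h2 : IsUnit (2 : A)) [Module.Free A B] [Module.Finite A B]
    (hrk : Module.finrank A B = 2) :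
    ∃ σ : B →ₐ[A] B, (∀ b : B, σ b = algebraMap A B (Algebra.trace A B b) - b) ∧
      σ ≠ AlgHom.id A B ∧ σ.comp σ = AlgHom.id A B ∧
      ∀ b : B, σ b = b ↔ b ∈ Set.range (algebraMap A B) := by
  have : Nontrivial A := by
    by_contra h
    rw [not_nontrivial_iff_subsingleton] at h
    rw [Module.finrank_subsingleton] at hrk
    omega
  have bas : Module.Basis (Fin 2) A B := Module.finBasisOfFinrankEq A B hrk
  have htr1 : Algebra.trace A B 1 = 2 := by
    rw [Algebra.trace_eq_matrix_trace bas, map_one, Matrix.trace_one]
    simp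
  have htrA : ∀ a : A, Algebra.trace A B (algebraMap A B a) = 2 * a := by
    intro a
    rw [Algebra.algebraMap_eq_smul_one, map_smul, htr1, smul_eq_mul, mul_comm]
  obtain ⟨u, hu⟩ := h2
  let σ : B →ₐ[A] B := AlgHom.ofLinearMap
    ((Algebra.linearMap A B) ∘ₗ (Algebra.trace A B) - LinearMap.id)
    (by
      simp only [LinearMap.sub_apply, LinearMap.comp_apply, Algebra.linearMap_apply,
        LinearMap.id_apply, htr1]
      rw [map_ofNat]; ring)
    (by
      intro x y
      simp only [LinearMap.sub_apply, LinearMap.comp_apply, Algebra.linearMap_apply,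
        LinearMap.id_apply]
      have := key bas x y
      simp only [map_sub, map_mul] at this
      linear_combination (-1 : B) * this)
  have hσ : ∀ b : B, σ b = algebraMap A B (Algebra.trace A B b) - b := fun b => rfl
  have hfix : ∀ b : B, σ b = b ↔ b ∈ Set.range (algebraMap A B) := by
    intro b
    rw [hσ]
    constructor
    · intro h
      refine ⟨(↑u⁻¹ : A) * Algebra.trace A B b, ?_⟩
      have h2b : algebraMap A B (Algebra.trace A B b) = algebraMap A B 2 * b := by
        rw [map_ofNat]; linear_combination h
      rw [map_mul, h2b, ← mul_assoc, ← map_mul, ← hu, Units.inv_mul, map_one, one_mul]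
    · rintro ⟨a, rfl⟩
      rw [htrA, map_mul, map_ofNat]; ring
  refine ⟨σ, hσ, ?_, ?_, hfix⟩
  · intro hid
    -- then every b lies in the image of A, so rank ≤ 1
    have hall : ∀ b : B, b ∈ Set.range (algebraMap A B) := by
      intro b
      rw [← hfix, hid]; rfl
    have hsurj : Function.Surjective (Algebra.linearMap A B) := hall
    have : Module.finrank A B ≤ Module.finrank A A :=
      LinearMap.finrank_le_finrank_of_surjective hsurj
    rw [hrk, Module.finrank_self] at this
    omega
  · apply AlgHom.ext
    intro b
    simp only [AlgHom.comp_apply, hσ, AlgHom.id_apply, map_sub, htrA]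
    rw [map_mul, map_ofNat]; ring

end Groth.Agent.Helper9.DblInv
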