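import Mathlib
import Groth.Agent.Helper1.HocolimH

/-!
# Localisation at a central endomorphism, abstractly

`𝒜` an abelian category with countable (co)products and a natural endomorphism `s` of the identity
functor.  `loc M = coker (1 - s·shift : ⨁_ℕ M ⟶ ⨁_ℕ M)` (the colimit of `M →s M →s …`) and
`Gf N = ker (1 - shift·s : ∏_ℕ N ⟶ ∏_ℕ N)` (the limit of `… →s N →s N`) form an adjoint pair, and
`loc` is exact when sequential colimits are exact.
-/

set_option autoImplicit false
set_option linter.style.haveILetI false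
set_option linter.unusedSectionVars false

namespace Groth.Agent.Helper9.DcSeq

open CategoryTheory Category Limits

universe v u

variable {𝒜 : Type u} [Category.{v} 𝒜] [Abelian 𝒜] [HasColimitsOfShape (Discrete ℕ) 𝒜]
  [HasLimitsOfShape (Discrete ℕ) 𝒜] (s : 𝟭 𝒜 ⟶ 𝟭 𝒜)

/-- `s` on `M` -/
abbrev sa (M : 𝒜) : M ⟶ M := s.app M

lemma sa_comm {M N : 𝒜} (f : M ⟶ N) : f ≫ sa s N = sa s M ≫ f := s.naturality f

/-- `1 - s·shift` on the countable coproduct -/
noncomputable def aMap (M : 𝒜) : (∐ fun _ : ℕ => M) ⟶ ∐ fun _ : ℕ => M :=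
  Sigma.desc fun n => Sigma.ι (fun _ : ℕ => M) n - sa s M ≫ Sigma.ι (fun _ : ℕ => M) (n + 1)

@[reassoc]
lemma ι_aMap (M : 𝒜) (n : ℕ) : Sigma.ι (fun _ : ℕ => M) n ≫ aMap s M =
    Sigma.ι (fun _ : ℕ => M) n - sa s M ≫ Sigma.ι (fun _ : ℕ => M) (n + 1) := by
  unfold aMap
  rw [Sigma.ι_desc]

/-- `1 - shift·s` on the countable product -/
noncomputable def pMap (N : 𝒜) : (∏ᶜ fun _ : ℕ => N) ⟶ ∏ᶜ fun _ : ℕ => N :=
  Pi.lift fun n => Pi.π (fun _ : ℕ => N) n - Pi.π (fun _ : ℕ => N) (n + 1) ≫ sa s N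

@[reassoc]
lemma pMap_π (N : 𝒜) (n : ℕ) : pMap s N ≫ Pi.π (fun _ : ℕ => N) n =
    Pi.π (fun _ : ℕ => N) n - Pi.π (fun _ : ℕ => N) (n + 1) ≫ sa s N := by
  unfold pMap
  rw [Pi.lift_π]

lemma sigmaMap_aMap {M M' : 𝒜} (f : M ⟶ M') :
    aMap s M ≫ Limits.Sigma.map (fun _ : ℕ => f) = Limits.Sigma.map (fun _ : ℕ => f) ≫ aMap s M' := by
  refine Sigma.hom_ext _ _ (fun n => ?_)
  rw [ι_aMap_assoc, Preadditive.sub_comp, Sigma.ι_map, assoc, Sigma.ι_map, Sigma.ι_map_assoc,
    ι_aMap, Preadditive.comp_sub, ← assoc, ← assoc, sa_comm]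

lemma piMap_pMap {N N' : 𝒜} (f : N ⟶ N') :
    pMap s N ≫ Limits.Pi.map (fun _ : ℕ => f) = Limits.Pi.map (fun _ : ℕ => f) ≫ pMap s N' := by
  refine Pi.hom_ext _ _ (fun n => ?_)
  simp only [assoc, Pi.map_π, Pi.map_π_assoc, pMap_π, pMap_π_assoc, Preadditive.sub_comp,
    Preadditive.comp_sub]
  rw [sa_comm]

/-- the localisation functor -/
noncomputable def loc : 𝒜 ⥤ 𝒜 where
  obj M := cokernel (aMap s M)
  map f := cokernel.map _ _ (Limits.Sigma.map fun _ : ℕ => f) (Limits.Sigma.map fun _ : ℕ => f)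
    (sigmaMap_aMap s f)
  map_id M := by
    apply coequalizer.hom_ext
    refine Sigma.hom_ext _ _ (fun n => ?_)
    simp
  map_comp f g := by
    apply coequalizer.hom_ext
    refine Sigma.hom_ext _ _ (fun n => ?_)
    simp

/-- the component `M ⟶ loc M` "`x ↦ x / s^n`" -/
noncomputable def toLoc (M : 𝒜) (n : ℕ) : M ⟶ (loc s).obj M :=
  Sigma.ι (fun _ : ℕ => M) n ≫ cokernel.π (aMap s M)

lemma sa_toLoc_succ (M : 𝒜) (n : ℕ) : sa s M ≫ toLoc s M (n + 1) = toLoc s M n := by
  have h := ι_aMap_assoc s M n (cokernel.π (aMap s M))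
  rw [cokernel.condition, comp_zero, Preadditive.sub_comp, assoc] at h
  exact (sub_eq_zero.1 h.symm).symm

@[reassoc]
lemma toLoc_map {M M' : 𝒜} (f : M ⟶ M') (n : ℕ) :
    toLoc s M n ≫ (loc s).map f = f ≫ toLoc s M' n := by
  unfold toLoc loc
  simp

lemma loc_hom_ext {M X : 𝒜} {a b : (loc s).obj M ⟶ X}
    (h : ∀ n, toLoc s M n ≫ a = toLoc s M n ≫ b) : a = b := by
  refine (cancel_epi (cokernel.π (aMap s M))).1 (Sigma.hom_ext _ _ (fun n => ?_))
  exact (assoc _ _ _).symm.trans ((h n).trans (assoc _ _ _))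

/-- the right adjoint -/
noncomputable def Gf : 𝒜 ⥤ 𝒜 where
  obj N := kernel (pMap s N)
  map f := kernel.map _ _ (Limits.Pi.map fun _ : ℕ => f) (Limits.Pi.map fun _ : ℕ => f) (piMap_pMap s f)
  map_id N := by
    apply equalizer.hom_ext
    refine Pi.hom_ext _ _ (fun n => ?_)
    simp
  map_comp f g := by
    apply equalizer.hom_ext
    refine Pi.hom_ext _ _ (fun n => ?_)
    simp

/-- the component `Gf N ⟶ N` -/
noncomputable def fromG (N : 𝒜) (n : ℕ) : (Gf s).obj N ⟶ N :=
  kernel.ι (pMap s N) ≫ Pi.π (fun _ : ℕ => N) n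

lemma fromG_succ_sa (N : 𝒜) (n : ℕ) : fromG s N (n + 1) ≫ sa s N = fromG s N n := by
  have h := pMap_π s N n
  have h' := congrArg (fun t => kernel.ι (pMap s N) ≫ t) h
  simp only [kernel.condition_assoc, zero_comp, Preadditive.comp_sub] at h'
  unfold fromG
  rw [assoc]
  exact (sub_eq_zero.1 h'.symm).symm

@[reassoc]
lemma map_fromG {N N' : 𝒜} (f : N ⟶ N') (n : ℕ) :
    (Gf s).map f ≫ fromG s N' n = fromG s N n ≫ f := by
  unfold fromG Gf
  simp

lemma G_hom_ext {N X : 𝒜} {a b : X ⟶ (Gf s).obj N}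
    (h : ∀ n, a ≫ fromG s N n = b ≫ fromG s N n) : a = b := by
  refine (cancel_mono (kernel.ι (pMap s N))).1 (Pi.hom_ext _ _ (fun n => ?_))
  exact (assoc _ _ _).trans ((h n).trans (assoc _ _ _).symm)

/-- a compatible family `f n : M ⟶ X`, `s ≫ f (n+1) = f n`, gives a map out of `loc M` -/
noncomputable def locDesc {M X : 𝒜} (f : ℕ → (M ⟶ X)) (hf : ∀ n, sa s M ≫ f (n + 1) = f n) :
    (loc s).obj M ⟶ X :=
  cokernel.desc (aMap s M) (Sigma.desc f) (by
    refine Sigma.hom_ext _ _ (fun n => ?_)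
    rw [ι_aMap_assoc, Preadditive.sub_comp, Sigma.ι_desc, assoc, Sigma.ι_desc, hf, sub_self,
      comp_zero])

@[reassoc (attr := simp)]
lemma toLoc_locDesc {M X : 𝒜} (f : ℕ → (M ⟶ X)) (hf : ∀ n, sa s M ≫ f (n + 1) = f n) (n : ℕ) :
    toLoc s M n ≫ locDesc s f hf = f n := by
  have h1 : cokernel.π (aMap s M) ≫ locDesc s f hf = Sigma.desc f := cokernel.π_desc _ _ _
  have h2 : toLoc s M n ≫ locDesc s f hf =
      Sigma.ι (fun _ : ℕ => M) n ≫ cokernel.π (aMap s M) ≫ locDesc s f hf := assoc _ _ _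
  rw [h2, h1, Sigma.ι_desc]

/-- a compatible family `g n : X ⟶ N`, `g (n+1) ≫ s = g n`, gives a map into `Gf N` -/
noncomputable def GLift {N X : 𝒜} (g : ℕ → (X ⟶ N)) (hg : ∀ n, g (n + 1) ≫ sa s N = g n) :
    X ⟶ (Gf s).obj N :=
  kernel.lift (pMap s N) (Pi.lift g) (by
    refine Pi.hom_ext _ _ (fun n => ?_)
    rw [assoc, pMap_π, Preadditive.comp_sub, Pi.lift_π, Pi.lift_π_assoc, hg, sub_self,
      zero_comp])

@[reassoc (attr := simp)]
lemma GLift_fromG {N X : 𝒜} (g : ℕ → (X ⟶ N)) (hg : ∀ n, g (n + 1) ≫ sa s N = g n) (n : ℕ) :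
    GLift s g hg ≫ fromG s N n = g n := by
  have h1 : GLift s g hg ≫ kernel.ι (pMap s N) = Pi.lift g := kernel.lift_ι _ _ _
  have h2 : GLift s g hg ≫ fromG s N n =
      (GLift s g hg ≫ kernel.ι (pMap s N)) ≫ Pi.π (fun _ : ℕ => N) n := (assoc _ _ _).symm
  rw [h2, h1, Pi.lift_π]

/-- the adjunction `loc ⊣ Gf` -/
noncomputable def adj : loc s ⊣ Gf s :=
  Adjunction.mkOfHomEquiv
    { homEquiv := fun M N =>
        { toFun := fun f => GLift s (fun n => toLoc s M n ≫ f) (fun n => by
            rw [assoc, sa_comm s f, ← assoc, sa_comm s (toLoc s M (n + 1)), sa_toLoc_succ])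
          invFun := fun g => locDesc s (fun n => g ≫ fromG s N n) (fun n => by
            rw [← assoc, ← sa_comm s g, assoc, ← sa_comm s (fromG s N (n + 1)), fromG_succ_sa])
          left_inv := fun f => by
            apply loc_hom_ext
            intro n
            rw [toLoc_locDesc, GLift_fromG]
          right_inv := fun g => by
            apply G_hom_ext
            intro n
            rw [GLift_fromG, toLoc_locDesc] }
      homEquiv_naturality_left_symm := fun {M' M N} f g => by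
        apply loc_hom_ext
        intro n
        simp only [Equiv.coe_fn_symm_mk]
        rw [toLoc_locDesc, toLoc_map_assoc, toLoc_locDesc, assoc]
      homEquiv_naturality_right := fun {M N N'} f g => by
        apply G_hom_ext
        intro n
        simp only [Equiv.coe_fn_mk]
        rw [GLift_fromG, assoc, map_fromG, GLift_fromG_assoc, assoc] }

lemma adj_homEquiv_fromG {M N : 𝒜} (f : (loc s).obj M ⟶ N) (n : ℕ) :
    (adj s).homEquiv M N f ≫ fromG s N n = toLoc s M n ≫ f := by
  unfold adj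
  simp

/-! ### Exactness of `loc` -/

section Exact

open Groth.Agent.Helper1

lemma aMap_eq_ψ (M : 𝒜) : aMap s M = HocolimH.ψ (fun _ : ℕ => M) (fun _ => sa s M) := by
  refine Sigma.hom_ext _ _ (fun n => ?_)
  rw [ι_aMap, Preadditive.comp_sub, comp_id, DerLim.shiftMap, Sigma.ι_desc]

variable [HasColimitsOfShape ℕ 𝒜]

instance mono_aMap [HasExactColimitsOfShape ℕ 𝒜] (M : 𝒜) : Mono (aMap s M) := by
  rw [aMap_eq_ψ]
  exact HocolimH.mono_ψ _ _

/-- the constant sequence `M →s M →s ⋯`, functorially in `M` -/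
noncomputable def seqF : 𝒜 ⥤ (ℕ ⥤ 𝒜) where
  obj M := Functor.ofSequence (fun _ : ℕ => sa s M)
  map {M M'} f := NatTrans.ofSequence (fun _ => f) (fun n => by
    rw [Functor.ofSequence_map_homOfLE_succ, Functor.ofSequence_map_homOfLE_succ]
    exact (sa_comm s f).symm)
  map_id M := by
    ext n
    rfl
  map_comp f g := by
    ext n
    rfl

/-- the canonical map `loc M ⟶ colim (M →s M →s ⋯)` -/
noncomputable def locToColim (M : 𝒜) : (loc s).obj M ⟶ colimit ((seqF s).obj M) :=
  locDesc s (fun n => colimit.ι ((seqF s).obj M) n) (fun n => by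
    have h := colimit.w ((seqF s).obj M) (homOfLE (Nat.le_succ n))
    have h2 : ((seqF s).obj M).map (homOfLE (Nat.le_succ n)) = sa s M :=
      Functor.ofSequence_map_homOfLE_succ _ n
    rw [h2] at h
    exact h)

lemma isIso_locToColim (M : 𝒜) : IsIso (locToColim s M) := by
  have hc := HocolimH.isColimitCokernelCofork (fun _ : ℕ => M) (fun _ => sa s M)
  have hw : aMap s M ≫ HocolimH.p (fun _ : ℕ => M) (fun _ => sa s M) = 0 := by
    rw [aMap_eq_ψ]
    exact HocolimH.ψ_p _ _
  have hc' : IsColimit (CokernelCofork.ofπ (HocolimH.p (fun _ : ℕ => M) (fun _ => sa s M)) hw) := by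
    refine CokernelCofork.IsColimit.ofπ _ _
      (fun {T} a ha => hc.desc (CokernelCofork.ofπ a (by rw [← aMap_eq_ψ]; exact ha)))
      (fun {T} a ha => hc.fac (CokernelCofork.ofπ a (by rw [← aMap_eq_ψ]; exact ha))
        WalkingParallelPair.one)
      (fun {T} a ha m hm => Cofork.IsColimit.hom_ext hc (by
        have := hc.fac (CokernelCofork.ofπ a (by rw [← aMap_eq_ψ]; exact ha))
          WalkingParallelPair.one
        exact hm.trans this.symm))
  let e : (loc s).obj M ≅ colimit ((seqF s).obj M) :=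
    (cokernelIsCokernel (aMap s M)).coconePointUniqueUpToIso hc'
  have he : e.hom = locToColim s M := by
    apply loc_hom_ext
    intro n
    have h1 : cokernel.π (aMap s M) ≫ e.hom =
        HocolimH.p (fun _ : ℕ => M) (fun _ => sa s M) :=
      (cokernelIsCokernel (aMap s M)).comp_coconePointUniqueUpToIso_hom hc'
        WalkingParallelPair.one
    have h2 : toLoc s M n ≫ e.hom = Sigma.ι (fun _ : ℕ => M) n ≫ cokernel.π (aMap s M) ≫ e.hom :=
      assoc _ _ _
    rw [h2, h1, locToColim, toLoc_locDesc]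
    exact Sigma.ι_desc _ _
  rw [← he]
  infer_instance

/-- `loc` is the sequential colimit, naturally -/
noncomputable def locIso : loc s ≅ seqF s ⋙ colim :=
  haveI := isIso_locToColim s
  NatIso.ofComponents (fun M => asIso (locToColim s M)) (fun {M M'} f => by
    apply loc_hom_ext
    intro n
    have h1 : ∀ (X : 𝒜) (k : ℕ), toLoc s X k ≫ locToColim s X = colimit.ι ((seqF s).obj X) k :=
      fun X k => toLoc_locDesc s _ _ k
    have h2 : toLoc s M n ≫ (loc s).map f ≫ locToColim s M' =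
        f ≫ colimit.ι ((seqF s).obj M') n := by
      rw [toLoc_map_assoc, h1]
    have h3 : toLoc s M n ≫ locToColim s M ≫ colimMap ((seqF s).map f) =
        f ≫ colimit.ι ((seqF s).obj M') n := by
      rw [← assoc, h1]
      exact ι_colimMap ((seqF s).map f) n
    exact h2.trans h3.symm)

instance : (loc s).IsLeftAdjoint := (adj s).isLeftAdjoint
instance : (Gf s).IsRightAdjoint := (adj s).isRightAdjoint

instance : PreservesFiniteColimits (loc s) := by
  haveI : PreservesColimitsOfSize.{0, 0} (loc s) := (adj s).leftAdjoint_preservesColimits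
  exact PreservesColimitsOfSize.preservesFiniteColimits _

instance : PreservesFiniteLimits (Gf s) := by
  haveI : PreservesLimitsOfSize.{0, 0} (Gf s) := (adj s).rightAdjoint_preservesLimits
  exact PreservesLimitsOfSize.preservesFiniteLimits _

instance : (loc s).Additive :=
  haveI := preservesBinaryBiproducts_of_preservesBinaryCoproducts (loc s)
  Functor.additive_of_preservesBinaryBiproducts _
instance : (Gf s).Additive :=
  haveI := preservesBinaryBiproducts_of_preservesBinaryProducts (Gf s)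
  Functor.additive_of_preservesBinaryBiproducts _

instance [HasExactColimitsOfShape ℕ 𝒜] : PreservesFiniteLimits (loc s) := by
  haveI : PreservesFiniteLimits (seqF s) := by
    constructor
    intro J _ _
    haveI : ∀ k : ℕ, PreservesLimitsOfShape J (seqF s ⋙ (evaluation ℕ 𝒜).obj k) := fun k =>
      (inferInstance : PreservesLimitsOfShape J (𝟭 𝒜))
    exact preservesLimitsOfShape_of_evaluation (seqF s) J this
  haveI : PreservesFiniteLimits (colim : (ℕ ⥤ 𝒜) ⥤ 𝒜) := inferInstance
  exact preservesFiniteLimits_of_natIso (locIso s).symm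

end Exact

end Groth.Agent.Helper9.DcSeq
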