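import Mathlib
import Groth.Prelude.Def_DerComp
import Groth.Agent.Helper9.Unitor1
import Groth.Agent.Helper9.KFlat10
import Groth.Agent.Helper9.DcSeq

/-!
# Tensoring with the localisation `O_s` is localisation at `s`
-/

set_option autoImplicit false
set_option linter.style.haveILetI false
set_option linter.unusedSectionVars false

namespace Groth.Agent.Helper9.DcTens1

open CategoryTheory Category Limits MonoidalCategory TensorProduct
  Groth.Agent.Helper9.TensorSh Groth.Agent.Helper9.TensorAdj Groth.Agent.Helper9.TensorFlat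
  Groth.Agent.Helper9.Unitor1 Groth.Agent.Helper9.DcSeq Groth.Agent.Helper1

universe u

variable {C : Type u} [SmallCategory C] {J : GrothendieckTopology C} {O : Sheaf J CommRingCat.{u}}
  (s : DerComp.GSec O)

/-- multiplication by `s`, as an endomorphism of the identity functor -/
noncomputable def sNat : 𝟭 (ModSite.Mod O) ⟶ 𝟭 (ModSite.Mod O) where
  app M := DerComp.smulEnd s M
  naturality _ _ f := (DerComp.smulEnd_comm s f).symm

lemma sa_sNat (M : ModSite.Mod O) : sa (sNat s) M = DerComp.smulEnd s M := rfl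

section Presheaf

set_option backward.isDefEq.respectTransparency false

lemma whiskerLeft_app_tmul (P : PM O) {N N' : PM O} (ψ : N ⟶ N') (X : Cᵒᵖ) (p : P.obj X)
    (n : N.obj X) : (P ◁ ψ).app X (p ⊗ₜ n) = p ⊗ₜ ψ.app X n := rfl

lemma ρ'_app_tmul (P : PM O) (X : Cᵒᵖ) (p : P.obj X)
    (r : ((ι O).obj (ModSite.unit O)).obj X) :
    (ρ' O P).hom.app X (p ⊗ₜ r) = (show (ModSite.ringSh O).obj.obj X from r) • p := rfl

/-- the presheaf-level identity behind `M ⊗ (s·) = s·` -/
lemma presheaf_key (M : ModSite.Mod O) :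
    ((ι O).obj M ◁ (ι O).map (DerComp.smulEnd s (ModSite.unit O))) ≫ (ρ' O ((ι O).obj M)).hom =
      (ρ' O ((ι O).obj M)).hom ≫ (ι O).map (DerComp.smulEnd s M) := by
  apply PresheafOfModules.hom_ext
  intro X
  apply ModuleCat.hom_ext
  apply TensorProduct.ext'
  intro m r
  change (ρ' O ((ι O).obj M)).hom.app X
      (((ι O).obj M ◁ (ι O).map (DerComp.smulEnd s (ModSite.unit O))).app X (m ⊗ₜ r)) =
    ((ι O).map (DerComp.smulEnd s M)).app X ((ρ' O ((ι O).obj M)).hom.app X (m ⊗ₜ r))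
  rw [whiskerLeft_app_tmul, ρ'_app_tmul, ρ'_app_tmul]
  change (DerComp.GSec.val' s X • (show (ModSite.ringSh O).obj.obj X from r)) • m =
    DerComp.GSec.val' s X • ((show (ModSite.ringSh O).obj.obj X from r) • m)
  exact mul_smul _ _ _

end Presheaf

/-- `M ⊗ (s·) = s·` through the right unitor -/
lemma TL_map_smulEnd (M : ModSite.Mod O) :
    (TL M).map (DerComp.smulEnd s (ModSite.unit O)) ≫ (rUnitor O M).hom =
      (rUnitor O M).hom ≫ DerComp.smulEnd s M := by
  have h1 : (a O).map (((ι O).obj M ◁ (ι O).map (DerComp.smulEnd s (ModSite.unit O))) ≫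
      (ρ' O ((ι O).obj M)).hom) ≫ ε O M =
      (a O).map ((ρ' O ((ι O).obj M)).hom ≫ (ι O).map (DerComp.smulEnd s M)) ≫ ε O M := by
    rw [presheaf_key]
  rw [Functor.map_comp, Functor.map_comp, assoc, assoc, Unitor1.ε_naturality] at h1
  exact h1.trans (assoc _ _ _).symm

lemma smulEnd_rUnitor_inv (M : ModSite.Mod O) :
    DerComp.smulEnd s M ≫ (rUnitor O M).inv =
      (rUnitor O M).inv ≫ (TL M).map (DerComp.smulEnd s (ModSite.unit O)) := by
  rw [← cancel_mono (rUnitor O M).hom, assoc, assoc, TL_map_smulEnd, Iso.inv_hom_id,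
    Iso.inv_hom_id_assoc, comp_id]

section Generic

variable {𝒞 : Type*} [Category 𝒞] [HasZeroMorphisms 𝒞]

/-- transporting a cokernel cofork along an isomorphism of arrows -/
def isColimitOfIso {X Y X' Y' Z : 𝒞} (f : X ⟶ Y) (f' : X' ⟶ Y') (eX : X' ≅ X) (eY : Y' ≅ Y)
    (comm : f' ≫ eY.hom = eX.hom ≫ f) (π : Y ⟶ Z) (w : f ≫ π = 0)
    (hc : IsColimit (CokernelCofork.ofπ π w)) :
    IsColimit (CokernelCofork.ofπ (eY.hom ≫ π)
      (show f' ≫ eY.hom ≫ π = 0 by rw [← assoc, comm, assoc, w, comp_zero])) :=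
  have hk : ∀ {T : 𝒞} (k : Y' ⟶ T), f' ≫ k = 0 → f ≫ eY.inv ≫ k = 0 := fun k hk => by
    have : f ≫ eY.inv = eX.inv ≫ f' := by
      rw [← cancel_mono eY.hom, assoc, assoc, comm, Iso.inv_hom_id, comp_id,
        Iso.inv_hom_id_assoc]
    rw [← assoc, this, assoc, hk, comp_zero]
  CokernelCofork.IsColimit.ofπ _ _
    (fun {T} k h => hc.desc (CokernelCofork.ofπ (eY.inv ≫ k) (hk k h)))
    (fun {T} k h => by
      have := hc.fac (CokernelCofork.ofπ (eY.inv ≫ k) (hk k h)) WalkingParallelPair.one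
      change π ≫ _ = eY.inv ≫ k at this
      rw [assoc, this, Iso.hom_inv_id_assoc])
    (fun {T} k h m hm => Cofork.IsColimit.hom_ext hc (by
      have := hc.fac (CokernelCofork.ofπ (eY.inv ≫ k) (hk k h)) WalkingParallelPair.one
      change π ≫ _ = eY.inv ≫ k at this
      change π ≫ m = π ≫ _
      rw [this, ← hm, assoc, Iso.inv_hom_id_assoc]))

end Generic

section Iso

variable (M : ModSite.Mod O)

/-- `O_s` -/
noncomputable abbrev Os : ModSite.Mod O := (loc (sNat s)).obj (ModSite.unit O)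

lemma Os_eq : Os s = DerComp.locAway s (ModSite.unit O) := rfl

/-- the iso `∐ M ≅ M ⊗ ∐ O` -/
noncomputable def E : (∐ fun _ : ℕ => M) ≅ (TL M).obj (∐ fun _ : ℕ => ModSite.unit O) :=
  Limits.Sigma.mapIso (fun _ : ℕ => ((rUnitor O M).symm : M ≅ (TL M).obj (ModSite.unit O))) ≪≫
    HocolimH.e (TL M) (fun _ : ℕ => ModSite.unit O)

@[reassoc]
lemma ι_E (n : ℕ) : Sigma.ι (fun _ : ℕ => M) n ≫ (E M).hom =
    (rUnitor O M).inv ≫ (TL M).map (Sigma.ι (fun _ : ℕ => ModSite.unit O) n) := by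
  change Sigma.ι (fun _ : ℕ => M) n ≫
    Limits.Sigma.map (fun _ : ℕ => ((rUnitor O M).inv : M ⟶ (TL M).obj (ModSite.unit O))) ≫
      (HocolimH.e (TL M) (fun _ : ℕ => ModSite.unit O)).hom = _
  rw [Sigma.ι_map_assoc]
  exact congrArg (fun x => (rUnitor O M).inv ≫ x)
    (HocolimH.ι_e (TL M) (fun _ : ℕ => ModSite.unit O) n)

lemma aMap_E : aMap (sNat s) M ≫ (E M).hom =
    (E M).hom ≫ (TL M).map (aMap (sNat s) (ModSite.unit O)) := by
  refine Sigma.hom_ext _ _ (fun n => ?_)
  rw [ι_aMap_assoc, Preadditive.sub_comp, assoc, ι_E, ι_E, ι_E_assoc, ← Functor.map_comp,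
    ι_aMap, Functor.map_sub, Preadditive.comp_sub, Functor.map_comp, sa_sNat, sa_sNat,
    ← assoc, smulEnd_rUnitor_inv, assoc]

/-- `M ⊗ O_s` is a cokernel of `1 - s·shift` on `∐ M` -/
noncomputable def isColimitTL : IsColimit (CokernelCofork.ofπ
    ((E M).hom ≫ (TL M).map (cokernel.π (aMap (sNat s) (ModSite.unit O))))
    (show aMap (sNat s) M ≫ (E M).hom ≫ (TL M).map (cokernel.π (aMap (sNat s) (ModSite.unit O))) = 0 by
      rw [← assoc, aMap_E, assoc, ← Functor.map_comp, cokernel.condition, Functor.map_zero,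
        comp_zero])) :=
  isColimitOfIso _ _ (E M) (E M) (aMap_E s M) _
    (by rw [← Functor.map_comp, cokernel.condition, Functor.map_zero])
    (CokernelCofork.mapIsColimit _ (cokernelIsCokernel (aMap (sNat s) (ModSite.unit O))) (TL M))

/-- `M_s ≅ M ⊗ O_s` -/
noncomputable def τ : (loc (sNat s)).obj M ≅ (TN (Os s)).obj M :=
  (cokernelIsCokernel (aMap (sNat s) M)).coconePointUniqueUpToIso (isColimitTL s M)

@[reassoc]
lemma toLoc_τ (n : ℕ) : toLoc (sNat s) M n ≫ (τ s M).hom =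
    (rUnitor O M).inv ≫ (TL M).map (toLoc (sNat s) (ModSite.unit O) n) := by
  have h1 : cokernel.π (aMap (sNat s) M) ≫ (τ s M).hom =
      (E M).hom ≫ (TL M).map (cokernel.π (aMap (sNat s) (ModSite.unit O))) :=
    (cokernelIsCokernel (aMap (sNat s) M)).comp_coconePointUniqueUpToIso_hom (isColimitTL s M)
      WalkingParallelPair.one
  have h2 : toLoc (sNat s) M n ≫ (τ s M).hom =
      Sigma.ι (fun _ : ℕ => M) n ≫ cokernel.π (aMap (sNat s) M) ≫ (τ s M).hom := assoc _ _ _
  have h3 : Sigma.ι (fun _ : ℕ => M) n ≫ (E M).hom ≫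
      (TL M).map (cokernel.π (aMap (sNat s) (ModSite.unit O))) =
      (rUnitor O M).inv ≫ (TL M).map (Sigma.ι (fun _ : ℕ => ModSite.unit O) n ≫
        cokernel.π (aMap (sNat s) (ModSite.unit O))) := by
    rw [ι_E_assoc, ← Functor.map_comp]
  exact h2.trans ((congrArg (fun x => Sigma.ι (fun _ : ℕ => M) n ≫ x) h1).trans h3)

end Iso

/-- `loc ≅ - ⊗ O_s` -/
noncomputable def tensIso : loc (sNat s) ≅ TN (Os s) :=
  NatIso.ofComponents (τ s) (fun {M M'} f => by
    apply loc_hom_ext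
    intro n
    rw [toLoc_map_assoc, toLoc_τ, toLoc_τ_assoc]
    have h1 : f ≫ (rUnitor O M').inv = (rUnitor O M).inv ≫ (TN (ModSite.unit O)).map f := by
      have := (rUnitorIso O).inv.naturality f
      exact this
    have h2 : (TL M).map (toLoc (sNat s) (ModSite.unit O) n) ≫ (TN (Os s)).map f =
        (TN (ModSite.unit O)).map f ≫ (TL M').map (toLoc (sNat s) (ModSite.unit O) n) :=
      ((ModSite.tensorBi O).map f).naturality (toLoc (sNat s) (ModSite.unit O) n)
    rw [← assoc, h1, assoc, h2])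

end Groth.Agent.Helper9.DcTens1
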