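import Mathlib
import Groth.Agent.Helper9.DProdX
import Groth.Agent.Helper9.Leray1

/-!
# Total right derived functors commute with products

`B` Grothendieck abelian, `F : B ⥤ A` additive commuting with products of shape `J`, products of
shape `J` exact in `A`: the total right derived functor `RF : D(B) ⥤ D(A)` preserves products of
shape `J`.
-/

set_option autoImplicit false
set_option linter.unusedSectionVars false
set_option linter.style.haveILetI false

namespace Groth.Agent.Helper9.RFProd

open CategoryTheory Category Limits DerivedCategory Groth.Agent.Helper1 Groth.Agent.Helper4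
  Groth.Agent.Helper9.DProdX

universe w w' w'' v v' u u'

section Generic

variable {C : Type*} [Category C] {J : Type*}

/-- a fan isomorphic to a limit fan is a limit fan -/
def isLimitFanOfIso {X_ Y_ : J → C} {X Y : C} (a : ∀ j, X ⟶ X_ j) (b : ∀ j, Y ⟶ Y_ j)
    (θ : X ≅ Y) (γ : ∀ j, X_ j ≅ Y_ j) (comm : ∀ j, a j ≫ (γ j).hom = θ.hom ≫ b j)
    (hb : IsLimit (Fan.mk Y b)) : IsLimit (Fan.mk X a) :=
  Fan.IsLimit.mk _ (fun s => Fan.IsLimit.lift hb (fun j => s.proj j ≫ (γ j).hom) ≫ θ.inv)
    (fun s j => by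
      have h := Fan.IsLimit.fac hb (fun j => s.proj j ≫ (γ j).hom) j
      have c : θ.inv ≫ a j = b j ≫ (γ j).inv := by
        rw [← cancel_mono (γ j).hom, assoc, comm j, Iso.inv_hom_id_assoc, assoc,
          Iso.inv_hom_id, comp_id]
      change (_ ≫ θ.inv) ≫ a j = s.proj j
      rw [assoc, c, ← assoc]
      erw [h]
      rw [assoc, Iso.hom_inv_id, comp_id])
    (fun s m hm => by
      rw [← cancel_mono θ.hom, assoc, Iso.inv_hom_id, comp_id]
      apply Fan.IsLimit.hom_ext hb
      intro j
      have h := Fan.IsLimit.fac hb (fun j => s.proj j ≫ (γ j).hom) j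
      erw [h]
      change (m ≫ θ.hom) ≫ b j = _
      rw [assoc, ← comm j, ← assoc]
      erw [hm j])

end Generic

section KInj

variable {B : Type u'} [Category.{v'} B] [Abelian B] {J : Type w''}
  [HasLimitsOfShape (Discrete J) B]

/-- a product of K-injective complexes is K-injective -/
lemma isKInjective_pi (I : J → CochainComplex B ℤ) [∀ j, (I j).IsKInjective] :
    (pi I).IsKInjective where
  nonempty_homotopy_zero f hK :=
    ⟨homotopyLift f (fun j => CochainComplex.IsKInjective.homotopyZero (f ≫ π I j) hK)⟩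

variable [HasDerivedCategory.{w'} B]

lemma Q_map_bijective (M : CochainComplex B ℤ) (I : CochainComplex B ℤ) [I.IsKInjective] :
    Function.Bijective (fun f : (HomotopyCategory.quotient B (ComplexShape.up ℤ)).obj M ⟶
      (HomotopyCategory.quotient B (ComplexShape.up ℤ)).obj I => Qh.map f) :=
  KInjDer.bij _ (CochainComplex.IsKInjective.rightOrthogonal I)

lemma exists_lift (I : J → CochainComplex B ℤ) [∀ j, (I j).IsKInjective]
    (M : CochainComplex B ℤ) (g : ∀ j, Q.obj M ⟶ Q.obj (I j)) :
    ∃ φ : Q.obj M ⟶ Q.obj (pi I), ∀ j, φ ≫ Q.map (π I j) = g j := by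
  have h : ∀ j, ∃ f : M ⟶ I j, Q.map f = g j := fun j => by
    obtain ⟨f', hf'⟩ := (Q_map_bijective M (I j)).surjective (g j)
    obtain ⟨f, rfl⟩ := (HomotopyCategory.quotient B (ComplexShape.up ℤ)).map_surjective f'
    exact ⟨f, hf'⟩
  choose f hf using h
  exact ⟨Q.map (lift f), fun j => by rw [← Functor.map_comp, lift_π, hf]⟩

lemma eq_zero (I : J → CochainComplex B ℤ) [∀ j, (I j).IsKInjective]
    (M : CochainComplex B ℤ) (φ : Q.obj M ⟶ Q.obj (pi I))
    (h : ∀ j, φ ≫ Q.map (π I j) = 0) : φ = 0 := by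
  haveI := isKInjective_pi I
  obtain ⟨f', hf'⟩ := (Q_map_bijective M (pi I)).surjective φ
  obtain ⟨f, rfl⟩ := (HomotopyCategory.quotient B (ComplexShape.up ℤ)).map_surjective f'
  have hf'' : Q.map f = φ := hf'
  subst hf''
  have hh : ∀ j, Nonempty (Homotopy (f ≫ π I j) 0) := fun j => by
    have h1 : Qh.map ((HomotopyCategory.quotient B (ComplexShape.up ℤ)).map (f ≫ π I j)) =
        Qh.map ((HomotopyCategory.quotient B (ComplexShape.up ℤ)).map 0) := by
      rw [Functor.map_zero, Functor.map_zero]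
      have := h j
      rw [← Functor.map_comp] at this
      exact this
    exact ⟨HomotopyCategory.homotopyOfEq _ _ ((Q_map_bijective M (I j)).injective h1)⟩
  have H : Homotopy f 0 := homotopyLift f (fun j => (hh j).some)
  rw [Q_map_eq_of_homotopy (C := B) H, Functor.map_zero]

lemma exists_lift' (I : J → CochainComplex B ℤ) [∀ j, (I j).IsKInjective]
    (T : DerivedCategory B) (g : ∀ j, T ⟶ Q.obj (I j)) :
    ∃ φ : T ⟶ Q.obj (pi I), ∀ j, φ ≫ Q.map (π I j) = g j := by
  let e := Q.objObjPreimageIso T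
  obtain ⟨φ, hφ⟩ := exists_lift I _ (fun j => e.hom ≫ g j)
  exact ⟨e.inv ≫ φ, fun j => by rw [Category.assoc, hφ]; simp⟩

lemma hom_ext' (I : J → CochainComplex B ℤ) [∀ j, (I j).IsKInjective]
    (T : DerivedCategory B)
    (a b : T ⟶ Q.obj (pi I)) (h : ∀ j, a ≫ Q.map (π I j) = b ≫ Q.map (π I j)) : a = b := by
  let e := Q.objObjPreimageIso T
  rw [← cancel_epi e.hom, ← sub_eq_zero, ← Preadditive.comp_sub]
  apply eq_zero I
  intro j
  rw [Category.assoc, Preadditive.sub_comp, h j, sub_self, comp_zero]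

/-- The termwise product of K-injective complexes is a product in the derived category. -/
noncomputable def isLimitFanKInj (I : J → CochainComplex B ℤ) [∀ j, (I j).IsKInjective] :
    IsLimit (fan I) :=
  Fan.IsLimit.mk _ (fun s => (exists_lift' I s.pt s.proj).choose)
    (fun s j => (exists_lift' I s.pt s.proj).choose_spec j)
    (fun s _ hm => hom_ext' I _ _ _ (fun j =>
      (hm j).trans ((exists_lift' I s.pt s.proj).choose_spec j).symm))

end KInj

section Map

variable {A : Type u} [Category.{v} A] [Abelian A]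
  {B : Type u'} [Category.{v'} B] [Abelian B] {J : Type w''}
  [HasLimitsOfShape (Discrete J) B] [HasLimitsOfShape (Discrete J) A]
  (F : B ⥤ A) [F.Additive] [PreservesLimitsOfShape (Discrete J) F]

/-- `F` commutes with termwise products of complexes -/
noncomputable def mapPi (I : J → CochainComplex B ℤ) :
    (F.mapHomologicalComplex (ComplexShape.up ℤ)).obj (pi I) ⟶
      pi (fun j => (F.mapHomologicalComplex (ComplexShape.up ℤ)).obj (I j)) :=
  lift (fun j => (F.mapHomologicalComplex (ComplexShape.up ℤ)).map (π I j))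

lemma mapPi_π (I : J → CochainComplex B ℤ) (j : J) :
    mapPi F I ≫ π _ j = (F.mapHomologicalComplex (ComplexShape.up ℤ)).map (π I j) :=
  lift_π _ j

instance (I : J → CochainComplex B ℤ) : IsIso (mapPi F I) := by
  haveI : ∀ n, IsIso ((mapPi F I).f n) := fun n => by
    change IsIso (piComparison F (fun j => (I j).X n))
    infer_instance
  exact HomologicalComplex.Hom.isIso_of_components _

end Map

section Main

variable {A : Type u} [Category.{v} A] [Abelian A] [HasDerivedCategory.{w} A]
  {B : Type u'} [Category.{v'} B] [Abelian B] [IsGrothendieckAbelian.{v'} B]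
  [HasDerivedCategory.{w'} B]
  (F : B ⥤ A) [F.Additive] (RF : DerivedCategory B ⥤ DerivedCategory A)
  (β : F.mapHomotopyCategory (ComplexShape.up ℤ) ⋙ DerivedCategory.Qh ⟶ DerivedCategory.Qh ⋙ RF)
  [RF.IsRightDerivedFunctor β (HomotopyCategory.quasiIso B (ComplexShape.up ℤ))]
  {J : Type w''} [HasLimitsOfShape (Discrete J) B] [HasLimitsOfShape (Discrete J) A]
  [HasExactLimitsOfShape (Discrete J) A] [PreservesLimitsOfShape (Discrete J) F]

include β in
/-- the image under `RF` of the product fan of K-injective complexes is a product fan -/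
theorem nonempty_isLimit_map_fan (I : J → CochainComplex B ℤ) [∀ j, (I j).IsKInjective] :
    Nonempty (IsLimit (Fan.mk (RF.obj (Q.obj (pi I)))
      (fun j => RF.map (Q.map (π I j))))) := by
  haveI := isKInjective_pi I
  haveI := Leray1.isIso_βQ_of_isKInjective F RF β (pi I)
  haveI : ∀ j, IsIso (Leray1.βQ F RF β (I j)) := fun j =>
    Leray1.isIso_βQ_of_isKInjective F RF β (I j)
  let FI : J → CochainComplex A ℤ := fun j => (F.mapHomologicalComplex (ComplexShape.up ℤ)).obj (I j)
  let θ : RF.obj (Q.obj (pi I)) ≅ Q.obj (pi FI) :=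
    (asIso (Leray1.βQ F RF β (pi I))).symm ≪≫ Q.mapIso (asIso (mapPi F I))
  refine ⟨isLimitFanOfIso _ (fun j => Q.map (π FI j)) θ
    (fun j => (asIso (Leray1.βQ F RF β (I j))).symm) (fun j => ?_) (isLimitFan FI)⟩
  dsimp [θ]
  rw [assoc, ← Functor.map_comp, mapPi_π, IsIso.comp_inv_eq, assoc, IsIso.eq_inv_comp]
  exact (Leray1.βQ_naturality F RF β (π I j)).symm

include β in
/-- `RF` preserves products of shape `J` -/
theorem nonempty_isLimit_mapCone (K : J → DerivedCategory B) (c : Fan K) (hc : IsLimit c) :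
    Nonempty (IsLimit (Fan.mk (RF.obj c.pt) (fun j => RF.map (c.proj j)))) := by
  have h : ∀ j, ∃ (I : CochainComplex B ℤ) (_ : I.IsKInjective), Nonempty (K j ≅ Q.obj I) := by
    intro j
    obtain ⟨I, f, hI, hf⟩ := KDerAdj.hKinj (Q.objPreimage (K j))
    exact ⟨I, hI, ⟨(Q.objObjPreimageIso (K j)).symm ≪≫ asIso (Q.map f)⟩⟩
  choose I hI a using h
  haveI : ∀ j, (I j).IsKInjective := hI
  obtain ⟨h1⟩ := nonempty_isLimit_map_fan F RF β I
  -- the comparison of the two product fans
  let a' : ∀ j, K j ≅ Q.obj (I j) := fun j => (a j).some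
  have h2 : IsLimit (Fan.mk c.pt (fun j => c.proj j ≫ (a' j).hom)) :=
    isLimitFanOfIso _ c.proj (Iso.refl _) (fun j => (a' j).symm)
      (fun j => by simp) (hc.ofIsoLimit (Cone.ext (Iso.refl _) (fun ⟨j⟩ => by simp [Fan.proj])))
  let u : c.pt ≅ Q.obj (pi I) := h2.conePointUniqueUpToIso (isLimitFanKInj I)
  have hu : ∀ j, u.hom ≫ Q.map (π I j) = c.proj j ≫ (a' j).hom := fun j =>
    h2.conePointUniqueUpToIso_hom_comp (isLimitFanKInj I) ⟨j⟩
  refine ⟨isLimitFanOfIso _ (fun j => RF.map (Q.map (π I j))) (RF.mapIso u)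
    (fun j => RF.mapIso (a' j)) (fun j => ?_) h1⟩
  dsimp
  rw [← RF.map_comp, ← RF.map_comp, hu]

end Main

end Groth.Agent.Helper9.RFProd
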