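import Mathlib
import Groth.Prelude.Def_DCoh2
import Groth.Agent.Helper9.RFProd
import Groth.Agent.Helper9.DcSeq

/-!
# The derived limit triangle for the right adjoint of localisation at a central endomorphism

For a K-injective complex `I` with injective terms, `0 → Gf I → ∏ I → ∏ I → 0` is a short exact
sequence of complexes, and its triangle exhibits `Q (Gf I)` as a derived limit of
`⋯ →s Q I →s Q I`.
-/

set_option autoImplicit false
set_option linter.style.haveILetI false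
set_option linter.unusedSectionVars false

namespace Groth.Agent.Helper9.DcTri

open CategoryTheory Category Limits DerivedCategory Pretriangulated Groth.Agent.Helper9.DcSeq
  Groth.Agent.Helper9.DProdX

universe w v u

variable {𝒜 : Type u} [Category.{v} 𝒜] [Abelian 𝒜] [HasColimitsOfShape (Discrete ℕ) 𝒜]
  [HasLimitsOfShape (Discrete ℕ) 𝒜] [HasColimitsOfShape ℕ 𝒜] [HasExactColimitsOfShape ℕ 𝒜]
  (s : 𝟭 𝒜 ⟶ 𝟭 𝒜)

/-- `1 - shift·s` is a split epimorphism on `∏ J` for `J` injective -/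
lemma exists_section (J : 𝒜) [Injective J] :
    ∃ u : (∏ᶜ fun _ : ℕ => J) ⟶ ∏ᶜ fun _ : ℕ => J, u ≫ pMap s J = 𝟙 _ := by
  let M : 𝒜 := ∏ᶜ fun _ : ℕ => J
  let v : (∐ fun _ : ℕ => M) ⟶ J := Sigma.desc (fun n => Pi.π (fun _ : ℕ => J) n)
  let w : (∐ fun _ : ℕ => M) ⟶ J := Injective.factorThru v (aMap s M)
  have hw : aMap s M ≫ w = v := Injective.comp_factorThru v (aMap s M)
  refine ⟨Pi.lift (fun n => Sigma.ι (fun _ : ℕ => M) n ≫ w), ?_⟩
  apply Pi.hom_ext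
  intro n
  rw [assoc, pMap_π, Preadditive.comp_sub, Pi.lift_π, Pi.lift_π_assoc, id_comp]
  have h : Sigma.ι (fun _ : ℕ => M) n ≫ aMap s M ≫ w = Pi.π (fun _ : ℕ => J) n := by
    rw [hw]
    exact Sigma.ι_desc _ _
  rw [ι_aMap_assoc, Preadditive.sub_comp, assoc] at h
  rw [← h, sa_comm s (Sigma.ι (fun _ : ℕ => M) (n + 1) ≫ w)]

instance epi_pMap (J : 𝒜) [Injective J] : Epi (pMap s J) := by
  obtain ⟨u, hu⟩ := exists_section s J
  exact epi_of_epi_fac hu

/-- multiplication by `s` on a complex -/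
def sI (I : CochainComplex 𝒜 ℤ) : I ⟶ I where
  f n := s.app (I.X n)
  comm' p q _ := (s.naturality (I.d p q)).symm

/-- the inclusion `Gf I ⟶ ∏ I` of complexes -/
noncomputable def ιG (I : CochainComplex 𝒜 ℤ) :
    ((Gf s).mapHomologicalComplex (ComplexShape.up ℤ)).obj I ⟶ pi (fun _ : ℕ => I) where
  f n := kernel.ι (pMap s (I.X n))
  comm' p q _ := by
    change kernel.ι (pMap s (I.X p)) ≫ Limits.Pi.map (fun _ : ℕ => I.d p q) =
      (Gf s).map (I.d p q) ≫ kernel.ι (pMap s (I.X q))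
    exact (kernel.lift_ι _ _ _).symm

/-- `1 - shift·s` on the product complex -/
noncomputable def pC (I : CochainComplex 𝒜 ℤ) :
    pi (fun _ : ℕ => I) ⟶ pi (fun _ : ℕ => I) where
  f n := pMap s (I.X n)
  comm' p q _ := piMap_pMap s (I.d p q)

lemma pC_π (I : CochainComplex 𝒜 ℤ) (n : ℕ) :
    pC s I ≫ π (fun _ : ℕ => I) n =
      π (fun _ : ℕ => I) n - π (fun _ : ℕ => I) (n + 1) ≫ sI s I := by
  ext i
  exact pMap_π s (I.X i) n

/-- the short complex `Gf I ⟶ ∏ I ⟶ ∏ I` -/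
noncomputable def S (I : CochainComplex 𝒜 ℤ) : ShortComplex (CochainComplex 𝒜 ℤ) :=
  ShortComplex.mk (ιG s I) (pC s I) (by
    apply HomologicalComplex.hom_ext
    intro n
    exact kernel.condition (pMap s (I.X n)))

lemma shortExact_S (I : CochainComplex 𝒜 ℤ) (hI : ∀ n, Injective (I.X n)) :
    (S s I).ShortExact := by
  apply HomologicalComplex.shortExact_of_degreewise_shortExact
  intro n
  haveI := hI n
  exact
    { exact := ShortComplex.exact_of_f_is_kernel _ (kernelIsKernel (pMap s (I.X n)))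
      mono_f := (inferInstance : Mono (kernel.ι (pMap s (I.X n))))
      epi_g := epi_pMap s (I.X n) }

variable [HasDerivedCategory.{w} 𝒜]

/-- the abstract statement: `L ≅ Q (Gf I)` is a derived limit of `⋯ →t K →t K` when `K ≅ Q I`
and `t` is multiplication by `s`. -/
theorem isRlim_of_iso (I : CochainComplex 𝒜 ℤ) [I.IsKInjective] (hI : ∀ n, Injective (I.X n))
    (K L : DerivedCategory 𝒜) [HasProduct fun _ : ℕ => K] (e : K ≅ Q.obj I)
    (γ : L ≅ Q.obj (((Gf s).mapHomologicalComplex (ComplexShape.up ℤ)).obj I))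
    (t : K ⟶ K) (ht : e.inv ≫ t = Q.map (sI s I) ≫ e.inv) :
    DCoh.IsRlim (fun _ : ℕ => K) (fun _ => t) L := by
  have hS := shortExact_S s I hI
  have hT := triangleOfSES_distinguished hS
  let Kf : ℕ → DerivedCategory 𝒜 := fun _ => K
  have hlim : IsLimit (Fan.mk (Q.obj (pi (fun _ : ℕ => I)))
      (fun n : ℕ => Q.map (π (fun _ : ℕ => I) n) ≫ e.inv) : Fan Kf) :=
    RFProd.isLimitFanOfIso (Y_ := fun _ : ℕ => Q.obj I) _ (fun n => Q.map (π (fun _ : ℕ => I) n))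
      (Iso.refl _) (fun _ => e) (fun n => by
        dsimp
        rw [id_comp, assoc, Iso.inv_hom_id, comp_id])
      (RFProd.isLimitFanKInj (fun _ : ℕ => I))
  let Θ : Q.obj (pi (fun _ : ℕ => I)) ≅ ∏ᶜ Kf :=
    hlim.conePointUniqueUpToIso (productIsProduct Kf)
  have hΘ : ∀ n, Θ.hom ≫ Pi.π Kf n = Q.map (π (fun _ : ℕ => I) n) ≫ e.inv := fun n =>
    hlim.conePointUniqueUpToIso_hom_comp (productIsProduct Kf) ⟨n⟩
  refine ⟨γ.hom ≫ Q.map (ιG s I) ≫ Θ.hom, Θ.inv ≫ triangleOfSESδ hS ≫ γ.inv⟦(1 : ℤ)⟧', ?_⟩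
  refine isomorphic_distinguished _ hT _ (Triangle.isoMk _ _ γ Θ.symm Θ.symm ?_ ?_ ?_)
  · change (γ.hom ≫ Q.map (ιG s I) ≫ Θ.hom) ≫ Θ.inv = γ.hom ≫ Q.map (ιG s I)
    rw [assoc, assoc, Iso.hom_inv_id, comp_id]
  · change (Pi.lift fun n => Pi.π Kf n - Pi.π Kf (n + 1) ≫ t) ≫ Θ.inv =
      Θ.inv ≫ Q.map (pC s I)
    rw [← cancel_mono Θ.hom, assoc, Iso.inv_hom_id, comp_id, assoc]
    rw [← cancel_epi Θ.hom, Iso.hom_inv_id_assoc]
    apply Pi.hom_ext
    intro n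
    have h1 : (Θ.hom ≫ Pi.lift fun n => Pi.π Kf n - Pi.π Kf (n + 1) ≫ t) ≫ Pi.π Kf n =
        Q.map (π (fun _ : ℕ => I) n) ≫ e.inv -
          Q.map (π (fun _ : ℕ => I) (n + 1)) ≫ Q.map (sI s I) ≫ e.inv := by
      rw [assoc, Pi.lift_π, Preadditive.comp_sub, hΘ, ← assoc, hΘ, assoc, ht]
    have h2 : (Q.map (pC s I) ≫ Θ.hom) ≫ Pi.π Kf n =
        Q.map (π (fun _ : ℕ => I) n) ≫ e.inv -
          Q.map (π (fun _ : ℕ => I) (n + 1)) ≫ Q.map (sI s I) ≫ e.inv := by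
      rw [assoc, hΘ, ← assoc, ← Q.map_comp, pC_π, Functor.map_sub, Preadditive.sub_comp,
        Q.map_comp, assoc]
    exact h1.trans h2.symm
  · change (Θ.inv ≫ triangleOfSESδ hS ≫ γ.inv⟦(1 : ℤ)⟧') ≫ γ.hom⟦(1 : ℤ)⟧' =
      Θ.inv ≫ triangleOfSESδ hS
    have h3 : γ.inv⟦(1 : ℤ)⟧' ≫ γ.hom⟦(1 : ℤ)⟧' = 𝟙 _ := by
      rw [← Functor.map_comp, Iso.inv_hom_id, CategoryTheory.Functor.map_id]
    exact (assoc _ _ _).trans (congrArg (fun x => Θ.inv ≫ x)
      ((assoc _ _ _).trans ((congrArg (fun x => triangleOfSESδ hS ≫ x) h3).trans (comp_id _))))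

end Groth.Agent.Helper9.DcTri
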