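import Mathlib
import Groth.Agent.Helper9.KFlat7

/-!
# `Tot(L ⊗ M[0])` is `L ⊗ M` termwise (generic version, second variable), naturally in `L`
-/

set_option autoImplicit false
set_option linter.style.haveILetI false
set_option linter.unusedSectionVars false

namespace Groth.Agent.Helper9.LTCx3R

open CategoryTheory Limits HomologicalComplex CochainComplex Groth.Agent.Helper9.KFlat1
  Groth.Agent.Helper9.KFlat2 Groth.Agent.Helper9.KFlat3 Groth.Agent.Helper9.KFlat4
  Groth.Agent.Helper9.KFlat7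

universe v u

variable {A : Type u} [Category.{v} A] [Abelian A] (F : A ⥤ A ⥤ A) [F.Additive]
  [∀ X, (F.obj X).Additive]
  [∀ (K₁ K₂ : CochainComplex A ℤ), HomologicalComplex.HasMapBifunctor K₁ K₂ F (ComplexShape.up ℤ)]
  [∀ n : ℤ, HasColimitsOfShape (Discrete ((ComplexShape.π (ComplexShape.up ℤ) (ComplexShape.up ℤ)
    (ComplexShape.up ℤ)) ⁻¹' {n})) A]
  [∀ n : ℤ, HasExactColimitsOfShape (Discrete ((ComplexShape.π (ComplexShape.up ℤ)
    (ComplexShape.up ℤ) (ComplexShape.up ℤ)) ⁻¹' {n})) A]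
  (L : CochainComplex A ℤ) (M : A)

instance : (F.flip.obj M).Additive where
  map_add {X Y f g} := by
    change (F.map (f + g)).app M = (F.map f).app M + (F.map g).app M
    rw [Functor.map_add]
    rfl

/-- `L ⊗ M` termwise -/
noncomputable abbrev tensR : CochainComplex A ℤ :=
  ((F.flip.obj M).mapHomologicalComplex (ComplexShape.up ℤ)).obj L

/-- the degreewise isomorphism -/
noncomputable def xIso (n : ℤ) :
    (mapBifunctor L (Ks M) F (ComplexShape.up ℤ)).X n ≅ (tensR F L M).X n :=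
  haveI := isIso_ιs F L M n
  (asIso (ιs F L M n)).symm ≪≫
    (F.obj (L.X n)).mapIso (singleObjXSelf (ComplexShape.up ℤ) 0 M)

@[reassoc]
lemma ιs_xIso_hom (n : ℤ) :
    ιs F L M n ≫ (xIso F L M n).hom =
      (F.obj (L.X n)).map (singleObjXSelf (ComplexShape.up ℤ) 0 M).hom := by
  haveI := isIso_ιs F L M n
  show ιs F L M n ≫ (inv (ιs F L M n) ≫ _) = _
  rw [IsIso.hom_inv_id_assoc]
  rfl

/-- `Tot(L ⊗ M[0]) ≅ L ⊗ M` -/
noncomputable def tensorSingleIso :
    mapBifunctor L (Ks M) F (ComplexShape.up ℤ) ≅ tensR F L M :=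
  HomologicalComplex.Hom.isoOfComponents (xIso F L M) (by
    intro i j hij
    have hij' : i + 1 = j := hij
    haveI := isIso_ιs F L M i
    rw [← cancel_epi (ιs F L M i), ιs_xIso_hom_assoc, ← Category.assoc, ιs_d F L M i j hij',
      Category.assoc, ιs_xIso_hom]
    show (F.obj (L.X i)).map _ ≫ (F.map (L.d i j)).app M = _
    exact (F.map (L.d i j)).naturality (singleObjXSelf (ComplexShape.up ℤ) 0 M).hom)

lemma tensorSingleIso_hom_f (n : ℤ) :
    (tensorSingleIso F L M).hom.f n = (xIso F L M n).hom := rfl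

variable {L}

lemma tensorSingleIso_naturality {L' : CochainComplex A ℤ} (φ : L ⟶ L') :
    mapBifunctorMap φ (𝟙 (Ks M)) F (ComplexShape.up ℤ) ≫ (tensorSingleIso F L' M).hom =
      (tensorSingleIso F L M).hom ≫
        ((F.flip.obj M).mapHomologicalComplex (ComplexShape.up ℤ)).map φ := by
  refine HomologicalComplex.hom_ext _ _ (fun n => ?_)
  haveI := isIso_ιs F L M n
  rw [HomologicalComplex.comp_f, HomologicalComplex.comp_f, tensorSingleIso_hom_f,
    tensorSingleIso_hom_f, ← cancel_epi (ιs F L M n), ιs_xIso_hom_assoc]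
  have h1 : ιs F L M n ≫ (mapBifunctorMap φ (𝟙 (Ks M)) F (ComplexShape.up ℤ)).f n =
      (F.map (φ.f n)).app ((Ks M).X 0) ≫ ιs F L' M n := by
    unfold ιs
    rw [ι_mapBifunctorMap]
    simp
  rw [← Category.assoc, h1, Category.assoc, ιs_xIso_hom]
  exact ((F.map (φ.f n)).naturality (singleObjXSelf (ComplexShape.up ℤ) 0 M).hom).symm

end Groth.Agent.Helper9.LTCx3R
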