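import Mathlib
import Groth.Prelude.Def_DerComp
import Groth.Agent.S0484
import Groth.Agent.Helper9.DcTens1
import Groth.Agent.Helper9.DcTri
import Groth.Agent.Helper9.LTCx3R
import Groth.Agent.Helper9.LTCx1
import Groth.Agent.Helper9.KFlat8
import Groth.Agent.Helper4.KDerAdj
import Groth.Agent.Helper4.HasRD
import Groth.Agent.Helper4.KInjRes

/-!
# `RHom(O_s, K)` is a derived limit of `⋯ →s K →s K`
-/

set_option autoImplicit false
set_option linter.style.haveILetI false
set_option linter.unusedSectionVars false

namespace Groth.Agent.Helper9.DcTens2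

open CategoryTheory Category Limits DerivedCategory
  Groth.Agent.Helper9.TensorSh Groth.Agent.Helper9.TensorAdj Groth.Agent.Helper9.TensorFlat
  Groth.Agent.Helper9.DcSeq Groth.Agent.Helper9.DcTens1 Groth.Agent.Helper1 Groth.Agent.Helper4

attribute [local instance] HasDerivedCategory.standard

universe u

variable {C : Type u} [SmallCategory C] {J : GrothendieckTopology C} {O : Sheaf J CommRingCat.{u}}
  (s : DerComp.GSec O)

/-- sheaves of modules form a Grothendieck abelian category -/
instance isGrothendieckAbelian : IsGrothendieckAbelian.{u} (ModSite.Mod O) :=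
  Groth.Agent.S0484.result J (ModSite.ringSh O)

/-- `O_s` is flat -/
theorem isFlat_Os : ModSite.IsFlat (Os s) :=
  ⟨preservesFiniteLimits_of_natIso (tensIso s), inferInstance⟩

/-- `O_s` in degree `0` -/
noncomputable abbrev P : CochainComplex (ModSite.Mod O) ℤ :=
  (CochainComplex.singleFunctor (ModSite.Mod O) 0).obj (DerComp.locAway s (ModSite.unit O))

theorem isKFlat_P : ModSite.IsKFlat (P s) := KFlat8.isKFlat_single _ (isFlat_Os s)

/-- `Tot(- ⊗ O_s[0])` is localisation termwise -/
noncomputable def cxIso : (ModSite.tensorCx O).flip.obj (P s) ≅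
    (loc (sNat s)).mapHomologicalComplex (ComplexShape.up ℤ) :=
  (NatIso.ofComponents (fun L => LTCx3R.tensorSingleIso (ModSite.tensorBi O) L (Os s))
    (fun φ => LTCx3R.tensorSingleIso_naturality (ModSite.tensorBi O) (Os s) φ) :
      (ModSite.tensorCx O).flip.obj (P s) ≅ (TN (Os s)).mapHomologicalComplex (ComplexShape.up ℤ)) ≪≫
    NatIso.mapHomologicalComplex (tensIso s).symm (ComplexShape.up ℤ)

section

variable [ModSite.HasLTensorCx (P s)]

/-- `- ⊗^L O_s` is the derived functor of localisation -/
noncomputable def ltIso : ModSite.LTensorCx (P s) ≅ (loc (sNat s)).mapDerivedCategory :=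
  Localization.liftNatIso DerivedCategory.Q
    (HomologicalComplex.quasiIso (ModSite.Mod O) (ComplexShape.up ℤ))
    (DerivedCategory.Q ⋙ ModSite.LTensorCx (P s))
    (DerivedCategory.Q ⋙ (loc (sNat s)).mapDerivedCategory) _ _
    (LTCx1.counitIso (P s) (isKFlat_P s) ≪≫ Functor.isoWhiskerRight (cxIso s) DerivedCategory.Q ≪≫
      ((loc (sNat s)).mapDerivedCategoryFactors).symm)

end

/-- the functor to be right derived -/
noncomputable abbrev GK : HomotopyCategory (ModSite.Mod O) (ComplexShape.up ℤ) ⥤
    DerivedCategory (ModSite.Mod O) :=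
  (Gf (sNat s)).mapHomotopyCategory (ComplexShape.up ℤ) ⋙ DerivedCategory.Qh

instance : (GK s).HasRightDerivedFunctor
    (HomotopyCategory.quasiIso (ModSite.Mod O) (ComplexShape.up ℤ)) :=
  HasRD.hasRightDerivedFunctor _

/-- the right derived functor of `Gf` -/
noncomputable abbrev RG : DerivedCategory (ModSite.Mod O) ⥤ DerivedCategory (ModSite.Mod O) :=
  (GK s).totalRightDerived DerivedCategory.Qh
    (HomotopyCategory.quasiIso (ModSite.Mod O) (ComplexShape.up ℤ))

/-- its unit -/
noncomputable abbrev β : GK s ⟶ DerivedCategory.Qh ⋙ RG s :=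
  (GK s).totalRightDerivedUnit DerivedCategory.Qh
    (HomotopyCategory.quasiIso (ModSite.Mod O) (ComplexShape.up ℤ))

/-- the derived adjunction -/
noncomputable def derAdj : (loc (sNat s)).mapDerivedCategory ⊣ RG s :=
  KDerAdj.derivedAdj (adj (sNat s)) (RG s) (β s)

section

variable [ModSite.HasLTensorCx (P s)] [DerComp.HasRHom (P s)]

/-- `RHom(O_s, -)` is the right derived functor of `Gf` -/
noncomputable def rhomIso : DerComp.RHom (P s) ≅ RG s :=
  ((DerComp.RHomAdj (P s)).ofNatIsoLeft (ltIso s)).rightAdjointUniq (derAdj s)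

end

end Groth.Agent.Helper9.DcTens2
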