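import Mathlib
import Groth.Prelude.Def_DerComp
import Groth.Agent.Helper9.DcTens2
import Groth.Agent.Helper4.RDerComp

/-!
# `RHom(O_s, K)` is a derived limit of `⋯ →s K →s K`: the statement
-/

set_option autoImplicit false
set_option linter.style.haveILetI false
set_option linter.unusedSectionVars false

namespace Groth.Agent.Helper9.DcTens3

open CategoryTheory Category Limits DerivedCategory
  Groth.Agent.Helper9.DcSeq Groth.Agent.Helper9.DcTens1 Groth.Agent.Helper9.DcTens2
  Groth.Agent.Helper1 Groth.Agent.Helper4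

attribute [local instance] HasDerivedCategory.standard

universe u

variable {C : Type u} [SmallCategory C] {J : GrothendieckTopology C} {O : Sheaf J CommRingCat.{u}}
  (s : DerComp.GSec O)

lemma sI_eq (I : CochainComplex (ModSite.Mod O) ℤ) : DcTri.sI (sNat s) I = s • 𝟙 I := by
  apply HomologicalComplex.hom_ext
  intro n
  change DerComp.smulEnd s (I.X n) = s • 𝟙 (I.X n)
  rw [DerComp.smul_def, comp_id]

theorem isT [ModSite.HasLTensorCx (P s)] [DerComp.HasRHom (P s)]
    (K : DerivedCategory (ModSite.Mod O)) [HasProduct fun _ : ℕ => K] :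
    DerComp.IsT s K ((DerComp.RHom (P s)).obj K) := by
  obtain ⟨I, f, hI, hf, -, hinj⟩ := KInjRes.exists_resolution (DerivedCategory.Q.objPreimage K)
  haveI := hI
  haveI := hf
  haveI : IsIso (DerivedCategory.Q.map f) := inferInstance
  let e : K ≅ Q.obj I := (Q.objObjPreimageIso K).symm ≪≫ asIso (Q.map f)
  have hP : KInjDer.P (ModSite.Mod O) ((HomotopyCategory.quotient _ _).obj I) :=
    CochainComplex.IsKInjective.rightOrthogonal I
  haveI : IsIso ((β s).app ((HomotopyCategory.quotient _ _).obj I)) :=
    RDerComp.isIso_β_app' (GK s) (RG s) (β s) ⟨_, hP⟩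
  let γ : (DerComp.RHom (P s)).obj K ≅
      Q.obj (((Gf (sNat s)).mapHomologicalComplex (ComplexShape.up ℤ)).obj I) :=
    (rhomIso s).app K ≪≫ (RG s).mapIso e ≪≫
      (asIso ((β s).app ((HomotopyCategory.quotient _ _).obj I))).symm
  refine DcTri.isRlim_of_iso (sNat s) I hinj K _ e γ (s • 𝟙 K) ?_
  rw [sI_eq, Functor.map_smul, CategoryTheory.Functor.map_id, Linear.comp_smul, Linear.smul_comp,
    comp_id, id_comp]

end Groth.Agent.Helper9.DcTens3
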