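import Groth.Prelude.Def_DeRham
import Mathlib

/-!
# Generators of exterior powers of a module generated by the image of a derivation
-/

set_option autoImplicit false

namespace Groth.Agent.Helper9.DeRhamGen

open exteriorPower DeRham

universe v u

variable {R : Type v} {A M : Type u} [CommRing R] [CommRing A] [Algebra R A]
  [AddCommGroup M] [Module A M] [Module R M]

/-- Two additive maps out of `⋀^p M` agreeing on all `b₀ · δb₁ ∧ … ∧ δb_p` are equal, when the image
of `δ` spans `M`. -/
theorem addHom_ext_gen (δ : Derivation R A M) (hδ : Submodule.span A (Set.range δ) = ⊤)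
    {G : Type*} [AddCommGroup G] (p : ℕ) (f g : ↥(⋀[A]^p M) →+ G)
    (h : ∀ (b₀ : A) (b : Fin p → A), f (gen δ p b₀ b) = g (gen δ p b₀ b)) : f = g := by
  have key : ∀ x : ↥(⋀[A]^p M), ∀ c : A, f (c • x) = g (c • x) := by
    intro x
    have hx : x ∈ Submodule.span A (ιMulti A p '' {a : Fin p → M | Set.range a ⊆ Set.range δ}) := by
      rw [ιMulti_span_of_span A p M hδ]; trivial
    induction hx using Submodule.span_induction with
    | mem x hx =>
      obtain ⟨a, ha, rfl⟩ := hx
      intro c
      have : ∀ i, ∃ b : A, δ b = a i := fun i => ha ⟨i, rfl⟩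
      choose b hb using this
      have e : (fun i => δ (b i)) = a := funext hb
      have := h c b
      rwa [gen, e] at this
    | zero => intro c; rw [smul_zero, map_zero, map_zero]
    | add x y _ _ hx hy => intro c; rw [smul_add, map_add, map_add, hx c, hy c]
    | smul r x _ hx => intro c; rw [smul_smul]; exact hx (c * r)
  ext x
  have := key x 1
  rwa [one_smul] at this

end Groth.Agent.Helper9.DeRhamGen
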