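import Mathlib
set_option autoImplicit false

namespace Groth.Agent.Helper9.DefEnd

open TensorProduct

universe u v w

section Key

variable {R : Type*} [CommRing R] [IsLocalRing R] {F : Type*} [AddCommGroup F] [Module R F]
  [Module.Flat R F]

/-- flatness key lemma -/
lemma key (J' : Ideal R) (ε : R) (hε : ε ∉ J')
    (hm : ∀ a ∈ IsLocalRing.maximalIdeal R, a * ε ∈ J') (y : F)
    (hy : ε • y ∈ J' • (⊤ : Submodule R F)) :
    y ∈ IsLocalRing.maximalIdeal R • (⊤ : Submodule R F) := by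
  let m := IsLocalRing.maximalIdeal R
  let μ : (R ⧸ m) →ₗ[R] (R ⧸ J') :=
    Submodule.liftQ m ((Submodule.mkQ J') ∘ₗ (LinearMap.toSpanSingleton R R ε)) (by
      intro a ha
      rw [LinearMap.mem_ker, LinearMap.comp_apply, LinearMap.toSpanSingleton_apply, smul_eq_mul,
        Submodule.mkQ_apply, Submodule.Quotient.mk_eq_zero]
      exact hm a ha)
  have hμ : ∀ a : R, μ (Ideal.Quotient.mk m a) = Ideal.Quotient.mk J' (a * ε) := fun a => rfl
  have hμinj : Function.Injective μ := by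
    rw [← LinearMap.ker_eq_bot, eq_bot_iff]
    intro t ht
    obtain ⟨a, rfl⟩ := Ideal.Quotient.mk_surjective t
    rw [LinearMap.mem_ker, hμ, Ideal.Quotient.eq_zero_iff_mem] at ht
    rw [Submodule.mem_bot, Ideal.Quotient.eq_zero_iff_mem]
    by_contra ha
    have hu : IsUnit a := by
      by_contra hnu
      exact ha ((IsLocalRing.mem_maximalIdeal a).mpr hnu)
    obtain ⟨u, rfl⟩ := hu
    apply hε
    have := J'.mul_mem_left (↑u⁻¹ : R) ht
    rwa [← mul_assoc, Units.inv_mul, one_mul] at this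
  have hinj := Module.Flat.rTensor_preserves_injective_linearMap (M := F) μ hμinj
  have h0 : μ.rTensor F ((Ideal.Quotient.mk m 1) ⊗ₜ[R] y) = 0 := by
    rw [LinearMap.rTensor_tmul, hμ, one_mul]
    apply (quotTensorEquivQuotSMul F J').injective
    rw [quotTensorEquivQuotSMul_mk_tmul, map_zero, Submodule.Quotient.mk_eq_zero]
    exact hy
  have h1 : (Ideal.Quotient.mk m 1) ⊗ₜ[R] y = (0 : (R ⧸ m) ⊗[R] F) := hinj (by rw [h0, map_zero])
  have h2 := congrArg (quotTensorEquivQuotSMul F m) h1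
  rw [quotTensorEquivQuotSMul_mk_tmul, map_zero, one_smul, Submodule.Quotient.mk_eq_zero] at h2
  exact h2

end Key

section MaxSub

variable {R : Type*} [CommRing R] [IsLocalRing R] [IsNoetherianRing R]

lemma exists_max_sub (J : Ideal R) (hJ : J ≠ ⊥) :
    ∃ (J' : Ideal R) (ε : R), J' < J ∧ ε ∈ J ∧ ε ∉ J' ∧ J = J' ⊔ Ideal.span {ε} ∧
      ∀ a ∈ IsLocalRing.maximalIdeal R, a * ε ∈ J' := by
  have hwf : WellFounded ((· > ·) : Ideal R → Ideal R → Prop) := wellFounded_gt
  obtain ⟨J', hJ'lt0, hJ'max⟩ := hwf.has_min {I : Ideal R | I < J} ⟨⊥, bot_lt_iff_ne_bot.mpr hJ⟩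
  have hJ'lt : J' < J := hJ'lt0
  have hmax : ∀ I : Ideal R, J' ≤ I → I < J → I = J' := by
    intro I h1 h2
    by_contra hne
    exact hJ'max I h2 (lt_of_le_of_ne h1 (Ne.symm hne))
  obtain ⟨ε, hεJ, hεJ'⟩ := SetLike.exists_of_lt hJ'lt
  have hsup : J = J' ⊔ Ideal.span {ε} := by
    by_contra hne
    have hle : J' ⊔ Ideal.span {ε} ≤ J :=
      sup_le hJ'lt.le ((Ideal.span_singleton_le_iff_mem J).mpr hεJ)
    have := hmax _ le_sup_left (lt_of_le_of_ne hle (Ne.symm hne))
    apply hεJ'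
    rw [← this]
    exact Ideal.mem_sup_right (Ideal.mem_span_singleton_self ε)
  refine ⟨J', ε, hJ'lt, hεJ, hεJ', hsup, ?_⟩
  intro a ha
  have hle : J' ⊔ Ideal.span {a * ε} ≤ J :=
    sup_le hJ'lt.le ((Ideal.span_singleton_le_iff_mem J).mpr (J.mul_mem_left a hεJ))
  have hne : J' ⊔ Ideal.span {a * ε} ≠ J := by
    intro heq
    have hε : ε ∈ J' ⊔ Ideal.span {a * ε} := heq ▸ hεJ
    rw [Submodule.mem_sup] at hε
    obtain ⟨j, hj, z, hz, hjz⟩ := hε
    obtain ⟨b, rfl⟩ := Ideal.mem_span_singleton'.mp hz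
    have h1 : (1 - b * a) * ε = j := by linear_combination (-1 : R) * hjz
    have hu : IsUnit (1 - b * a) := by
      have hba : b * a ∈ IsLocalRing.maximalIdeal R := Ideal.mul_mem_left _ b ha
      by_contra hnu
      have h2 : 1 - b * a ∈ IsLocalRing.maximalIdeal R := (IsLocalRing.mem_maximalIdeal _).mpr hnu
      have h3 : (1 : R) ∈ IsLocalRing.maximalIdeal R := by
        have := Ideal.add_mem _ h2 hba
        rwa [sub_add_cancel] at this
      exact (Ideal.ne_top_iff_one _).mp (IsLocalRing.maximalIdeal.isMaximal R).ne_top h3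
    obtain ⟨u, hu⟩ := hu
    apply hεJ'
    have := J'.mul_mem_left (↑u⁻¹ : R) (h1 ▸ hj : (1 - b * a) * ε ∈ J')
    rwa [← hu, ← mul_assoc, Units.inv_mul, one_mul] at this
  have := hmax _ le_sup_left (lt_of_le_of_ne hle hne)
  rw [← this]
  exact Ideal.mem_sup_right (Ideal.mem_span_singleton_self _)

end MaxSub

section Main

variable {K : Type u} [Field K] {D : Type v} [Ring D]
  {E : Type w} [AddCommGroup E] [Module K E] [Module D E]
  {R : Type*} [CommRing R] [IsLocalRing R] [IsArtinianRing R] [Algebra K R]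
  {F : Type*} [AddCommGroup F] [Module R F] [Module D F] [SMulCommClass R D F] [Module.Flat R F]

lemma dsmul_mem (J : Ideal R) (d : D) (z : F) (hz : z ∈ J • (⊤ : Submodule R F)) :
    d • z ∈ J • (⊤ : Submodule R F) := by
  induction hz using Submodule.smul_induction_on' with
  | smul a ha w _ =>
    rw [← smul_comm a d w]
    exact Submodule.smul_mem_smul ha Submodule.mem_top
  | add x _ y _ hx hy => rw [smul_add]; exact add_mem hx hy

lemma smul_mem_of_mul (I J J' : Ideal R) (h : ∀ a ∈ I, ∀ j ∈ J, a * j ∈ J') (a : R) (ha : a ∈ I)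
    (z : F) (hz : z ∈ J • (⊤ : Submodule R F)) : a • z ∈ J' • (⊤ : Submodule R F) := by
  induction hz using Submodule.smul_induction_on' with
  | smul j hj w _ =>
    rw [smul_smul]
    exact Submodule.smul_mem_smul (h a ha j hj) Submodule.mem_top
  | add x _ y _ hx hy => rw [smul_add]; exact add_mem hx hy

theorem exists_scalar (hE : ∀ ψ : E →ₗ[D] E, ∃ c : K, ∀ y : E, ψ y = c • y)
    (res : R →ₐ[K] K)
    (θ : F →ₗ[D] E) (hθ : ∀ (r : R) (x : F), θ (r • x) = res r • θ x)
    (hsurj : Function.Surjective θ)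
    (hker : ∀ x : F, θ x = 0 ↔ x ∈ IsLocalRing.maximalIdeal R • (⊤ : Submodule R F))
    (J : Ideal R) :
    ∀ (ψ : F →ₗ[R] F), (∀ (d : D) (x : F), ψ (d • x) = d • ψ x) →
      (∀ x, ψ x ∈ J • (⊤ : Submodule R F)) → ∃ r ∈ J, ∀ x, ψ x = r • x := by
  induction J using WellFoundedLT.induction with
  | ind J ih =>
  intro ψ hψD hψJ
  by_cases hJ : J = ⊥
  · refine ⟨0, J.zero_mem, fun x => ?_⟩
    have := hψJ x
    rw [hJ, Submodule.bot_smul, Submodule.mem_bot] at this
    rw [this, zero_smul]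
  obtain ⟨J', ε, hlt, hεJ, hεJ', hsup, hmε⟩ := exists_max_sub J hJ
  set m := IsLocalRing.maximalIdeal R
  have hmJ : ∀ a ∈ m, ∀ j ∈ J, a * j ∈ J' := by
    intro a ha j hj
    rw [hsup, Submodule.mem_sup] at hj
    obtain ⟨j', hj', z, hz, rfl⟩ := hj
    obtain ⟨b, rfl⟩ := Ideal.mem_span_singleton'.mp hz
    rw [mul_add]
    refine J'.add_mem (J'.mul_mem_left a hj') ?_
    have : a * (b * ε) = b * (a * ε) := by ring
    rw [this]
    exact J'.mul_mem_left b (hmε a ha)
  have hεm : ∀ z : F, z ∈ m • (⊤ : Submodule R F) → ε • z ∈ J' • (⊤ : Submodule R F) := by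
    intro z hz
    induction hz using Submodule.smul_induction_on' with
    | smul a ha w _ =>
      rw [smul_smul, mul_comm]
      exact Submodule.smul_mem_smul (hmε a ha) Submodule.mem_top
    | add x _ y _ hx hy => rw [smul_add]; exact add_mem hx hy
  have hdec : ∀ x, ∃ y' ∈ J' • (⊤ : Submodule R F), ∃ y : F, ψ x = y' + ε • y := by
    intro x
    have h1 := hψJ x
    rw [hsup, Submodule.sup_smul, Submodule.mem_sup] at h1
    obtain ⟨y', hy', z, hz, hyz⟩ := h1
    rw [Submodule.ideal_span_singleton_smul, Submodule.mem_smul_pointwise_iff_exists] at hz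
    obtain ⟨y, -, rfl⟩ := hz
    exact ⟨y', hy', y, hyz.symm⟩
  choose y' hy' y hy using hdec
  have hwd : ∀ (x : F) (z' : F), z' ∈ J' • (⊤ : Submodule R F) → ∀ z : F, ψ x = z' + ε • z →
      θ z = θ (y x) := by
    intro x z' hz' z hz
    have h1 : ε • (z - y x) ∈ J' • (⊤ : Submodule R F) := by
      have : ε • (z - y x) = y' x - z' := by
        rw [smul_sub]
        have := hy x
        rw [hz] at this
        rw [sub_eq_sub_iff_add_eq_add]
        rw [add_comm, this, add_comm]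
      rw [this]
      exact sub_mem (hy' x) hz'
    have h2 := key J' ε hεJ' hmε _ h1
    rw [← hker, map_sub, sub_eq_zero] at h2
    exact h2
  let g : F →ₗ[D] E :=
    { toFun := fun x => θ (y x)
      map_add' := by
        intro a b
        rw [← map_add]
        symm
        apply hwd (a + b) (y' a + y' b) (add_mem (hy' a) (hy' b))
        rw [map_add, hy a, hy b, smul_add]
        abel
      map_smul' := by
        intro d x
        rw [RingHom.id_apply, ← map_smul]
        symm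
        apply hwd (d • x) (d • y' x) (dsmul_mem J' d _ (hy' x))
        rw [hψD, hy x, smul_add, ← smul_comm ε d] }
  have hψm : ∀ z : F, z ∈ m • (⊤ : Submodule R F) → ψ z ∈ J' • (⊤ : Submodule R F) := by
    intro z hz
    induction hz using Submodule.smul_induction_on' with
    | smul a ha w _ =>
      rw [map_smul]
      exact smul_mem_of_mul m J J' hmJ a ha _ (hψJ w)
    | add u _ v _ hu hv => rw [map_add]; exact add_mem hu hv
  have hgker : LinearMap.ker θ ≤ LinearMap.ker g := by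
    intro x hx
    rw [LinearMap.mem_ker] at hx ⊢
    have hxm : x ∈ m • (⊤ : Submodule R F) := (hker x).mp hx
    have h1 : ψ x ∈ J' • (⊤ : Submodule R F) := hψm x hxm
    have := hwd x (ψ x) h1 0 (by rw [smul_zero, add_zero])
    show θ (y x) = 0
    rw [← this, map_zero]
  let ψb : E →ₗ[D] E :=
    (LinearMap.ker θ).liftQ g hgker ∘ₗ (θ.quotKerEquivOfSurjective hsurj).symm.toLinearMap
  have hψb : ∀ x, ψb (θ x) = θ (y x) := by
    intro x
    have : (θ.quotKerEquivOfSurjective hsurj).symm (θ x) = Submodule.Quotient.mk x := by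
      rw [LinearEquiv.symm_apply_eq]
      rfl
    show (LinearMap.ker θ).liftQ g hgker ((θ.quotKerEquivOfSurjective hsurj).symm (θ x)) = _
    rw [this]
    rfl
  obtain ⟨c, hc⟩ := hE ψb
  let ct : R := algebraMap K R c
  have hct : res ct = c := by
    show res (algebraMap K R c) = c
    rw [res.commutes]; rfl
  let r₁ : R := ct * ε
  have hr₁ : r₁ ∈ J := J.mul_mem_left ct hεJ
  let ψ₁ : F →ₗ[R] F := ψ - LinearMap.lsmul R F r₁
  have hψ₁ : ∀ x, ψ₁ x = ψ x - r₁ • x := fun x => rfl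
  have hψ₁D : ∀ (d : D) (x : F), ψ₁ (d • x) = d • ψ₁ x := by
    intro d x
    rw [hψ₁, hψ₁, hψD, smul_sub, ← smul_comm r₁ d]
  have hψ₁J : ∀ x, ψ₁ x ∈ J' • (⊤ : Submodule R F) := by
    intro x
    have h1 : ψ₁ x = y' x + ε • (y x - ct • x) := by
      rw [hψ₁, hy x, smul_sub, smul_smul]
      show _ = _ + (_ - (ε * ct) • x)
      rw [mul_comm ε ct]
      abel
    rw [h1]
    refine add_mem (hy' x) (hεm _ ?_)
    rw [← hker, map_sub, hθ, hct, ← hψb, hc, sub_self]
  obtain ⟨r', hr', hr'x⟩ := ih J' hlt ψ₁ hψ₁D hψ₁J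
  refine ⟨r' + r₁, J.add_mem (hlt.le hr') hr₁, fun x => ?_⟩
  have := hr'x x
  rw [hψ₁, sub_eq_iff_eq_add] at this
  rw [this, add_smul]

theorem unique_scalar [Nontrivial E]
    (θ : F →ₗ[D] E) (hsurj : Function.Surjective θ)
    (hker : ∀ x : F, θ x = 0 ↔ x ∈ IsLocalRing.maximalIdeal R • (⊤ : Submodule R F))
    (r : R) (hr : ∀ x : F, r • x = 0) : r = 0 := by
  by_contra hr0
  have hJ : Ideal.span {r} ≠ ⊥ := by
    rw [Ne, Ideal.span_singleton_eq_bot]; exact hr0
  obtain ⟨J', ε, hlt, hεJ, hεJ', hsup, hmε⟩ := exists_max_sub (Ideal.span {r}) hJ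
  have hrJ' : r ∉ J' := fun h =>
    absurd ((Ideal.span_singleton_le_iff_mem J').mpr h) (not_le_of_gt hlt)
  have hmr : ∀ a ∈ IsLocalRing.maximalIdeal R, a * r ∈ J' := by
    intro a ha
    have hrJ : r ∈ J' ⊔ Ideal.span {ε} := hsup ▸ Ideal.mem_span_singleton_self r
    rw [Submodule.mem_sup] at hrJ
    obtain ⟨j', hj', z, hz, hjz⟩ := hrJ
    obtain ⟨b, rfl⟩ := Ideal.mem_span_singleton'.mp hz
    rw [← hjz, mul_add]
    refine J'.add_mem (J'.mul_mem_left a hj') ?_
    have : a * (b * ε) = b * (a * ε) := by ring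
    rw [this]
    exact J'.mul_mem_left b (hmε a ha)
  have hall : ∀ y : F, y ∈ IsLocalRing.maximalIdeal R • (⊤ : Submodule R F) := fun y =>
    key J' r hrJ' hmr y (by rw [hr]; exact zero_mem _)
  obtain ⟨e, he⟩ := exists_ne (0 : E)
  obtain ⟨x, rfl⟩ := hsurj e
  exact he ((hker x).mpr (hall x))

theorem main [Nontrivial E] (hE : ∀ ψ : E →ₗ[D] E, ∃ c : K, ∀ y : E, ψ y = c • y)
    (res : R →ₐ[K] K)
    (θ : F →ₗ[D] E) (hθ : ∀ (r : R) (x : F), θ (r • x) = res r • θ x)
    (hsurj : Function.Surjective θ)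
    (hker : ∀ x : F, θ x = 0 ↔ x ∈ IsLocalRing.maximalIdeal R • (⊤ : Submodule R F))
    (φ : F →ₗ[R] F) (hφ : ∀ (d : D) (x : F), φ (d • x) = d • φ x) :
    ∃! r : R, ∀ x : F, φ x = r • x := by
  obtain ⟨r, -, hr⟩ := exists_scalar hE res θ hθ hsurj hker ⊤ φ hφ (fun x => by
    rw [Submodule.top_smul]; exact Submodule.mem_top)
  refine ⟨r, hr, fun r' hr' => ?_⟩
  have : r' - r = 0 := unique_scalar θ hsurj hker (r' - r) (fun x => by
    rw [sub_smul, ← hr, ← hr', sub_self])
  exact sub_eq_zero.mp this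

end Main

end Groth.Agent.Helper9.DefEnd
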