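import Mathlib
import Groth.Prelude.Def_DDual2
import Groth.Agent.Helper9.SV1
import Groth.Agent.Helper9.SV5

set_option autoImplicit false
set_option linter.style.haveILetI false
set_option linter.unusedSectionVars false

/-!
# `Hom(B/q, RHom_A(B, ω)[i]) ≅ Hom(A/p, ω[i])` semilinearly, for `A → B` surjective
-/

open CategoryTheory CategoryTheory.Limits DerivedCategory Pretriangulated

universe u

attribute [local instance] HasDerivedCategory.standard

namespace Groth.Agent.Helper9.DeltaRes

section alg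

variable {A B : Type u} [CommRing A] [CommRing B] (φ : A →+* B)
  (hs : Function.Surjective φ)

include hs in
/-- transport of nontriviality of localizations along a semilinear additive bijection -/
lemma nontrivial_localized_iff (q : Ideal B) [q.IsPrime]
    {M N : Type*} [AddCommGroup M] [Module B M] [AddCommGroup N] [Module A N]
    (Φ : M ≃+ N) (hΦ : ∀ a m, Φ (φ a • m) = a • Φ m) :
    Nontrivial (LocalizedModule q.primeCompl M) ↔
      Nontrivial (LocalizedModule (q.comap φ).primeCompl N) := by
  rw [← not_iff_not, not_nontrivial_iff_subsingleton, not_nontrivial_iff_subsingleton,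
    LocalizedModule.subsingleton_iff, LocalizedModule.subsingleton_iff]
  constructor
  · intro h n
    obtain ⟨m, rfl⟩ := Φ.surjective n
    obtain ⟨s, hsq, hsm⟩ := h m
    obtain ⟨a, rfl⟩ := hs s
    refine ⟨a, ?_, ?_⟩
    · exact hsq
    · rw [← hΦ, hsm, map_zero]
  · intro h m
    obtain ⟨a, ha, ham⟩ := h (Φ m)
    refine ⟨φ a, ha, ?_⟩
    apply Φ.injective
    rw [hΦ, ham, map_zero]

end alg

variable {A B : Type u} [CommRing A] [CommRing B] [Algebra A B]
  (hs : Function.Surjective (algebraMap A B))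

/-- the comparison map `A/p → B/q` as a morphism of `A`-modules -/
noncomputable def quotHom (q : Ideal B) :
    ModuleCat.of A (A ⧸ q.comap (algebraMap A B)) ⟶
      (ModuleCat.restrictScalars (algebraMap A B)).obj (ModuleCat.of B (B ⧸ q)) :=
  ModuleCat.ofHom (Y := (ModuleCat.restrictScalars (algebraMap A B)).obj (ModuleCat.of B (B ⧸ q)))
    { toFun := fun x => Ideal.quotientMap q (algebraMap A B) le_rfl x
      map_add' := fun x y => map_add _ x y
      map_smul' := fun a x => by
        obtain ⟨x, rfl⟩ := Ideal.Quotient.mk_surjective x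
        change Ideal.quotientMap q (algebraMap A B) le_rfl (Ideal.Quotient.mk _ (a * x)) =
          algebraMap A B a • Ideal.quotientMap q (algebraMap A B) le_rfl (Ideal.Quotient.mk _ x)
        rw [Ideal.quotientMap_mk, Ideal.quotientMap_mk, map_mul]
        rfl }

include hs in
lemma isIso_quotHom (q : Ideal B) : IsIso (quotHom (A := A) q) := by
  rw [ConcreteCategory.isIso_iff_bijective]
  exact ⟨Ideal.quotientMap_injective (f := algebraMap A B) (I := q),
    Ideal.quotientMap_surjective (H := le_rfl) hs⟩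

/-- `(B/q)` restricted to `A` is `A/p`, in the derived category -/
noncomputable def e2 (q : Ideal B) :
    (DRing.restrictD (algebraMap A B)).obj (Dual.inD B (B ⧸ q)) ≅
      Dual.inD A (A ⧸ q.comap (algebraMap A B)) :=
  haveI := isIso_quotHom hs q
  ((ModuleCat.restrictScalars.{u} (algebraMap A B)).mapDerivedCategorySingleFunctor 0).app
      (ModuleCat.of B (B ⧸ q)) ≪≫
    (singleFunctor (ModuleCat.{u} A) 0).mapIso (asIso (quotHom (A := A) q)).symm

variable {R : Dual.D A ⥤ Dual.D B} (adj : DRing.restrictD (algebraMap A B) ⊣ R)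

/-- the semilinear comparison -/
noncomputable def Φ (q : Ideal B) (ω : Dual.D A) (i : ℤ) :
    (Dual.inD B (B ⧸ q) ⟶ (R.obj ω)⟦i⟧) ≃+
      (Dual.inD A (A ⧸ q.comap (algebraMap A B)) ⟶ ω⟦i⟧) :=
  let e1 : R.obj (ω⟦i⟧) ≅ (R.obj ω)⟦i⟧ := (SV1.rightAdj_shift adj ω i).some
  { toFun := fun m => (e2 hs q).inv ≫ (adj.homEquiv _ _).symm (m ≫ e1.inv)
    invFun := fun n => (adj.homEquiv _ _) ((e2 hs q).hom ≫ n) ≫ e1.hom
    left_inv := fun m => by simp
    right_inv := fun n => by simp
    map_add' := fun m m' => by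
      simp only [Adjunction.homEquiv_counit, Preadditive.add_comp, Functor.map_add,
        Preadditive.comp_add] }

lemma Φ_smul (q : Ideal B) (ω : Dual.D A) (i : ℤ) (a : A)
    (m : Dual.inD B (B ⧸ q) ⟶ (R.obj ω)⟦i⟧) :
    Φ hs adj q ω i (algebraMap A B a • m) = a • Φ hs adj q ω i m := by
  change (e2 hs q).inv ≫ (adj.homEquiv _ _).symm ((algebraMap A B a • m) ≫ _) =
    a • ((e2 hs q).inv ≫ (adj.homEquiv _ _).symm (m ≫ _))
  rw [Adjunction.homEquiv_counit, Adjunction.homEquiv_counit, Linear.smul_comp,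
    SV5.res_map_smul, Linear.smul_comp, Linear.comp_smul]

include hs adj in
theorem main (ω : Dual.D A) (q : PrimeSpectrum B) (i : ℤ) :
    Nontrivial (LocalizedModule q.asIdeal.primeCompl
      (Dual.inD B (B ⧸ q.asIdeal) ⟶ (R.obj ω)⟦i⟧)) ↔
    Nontrivial (LocalizedModule (q.asIdeal.comap (algebraMap A B)).primeCompl
      (Dual.inD A (A ⧸ q.asIdeal.comap (algebraMap A B)) ⟶ ω⟦i⟧)) :=
  nontrivial_localized_iff (algebraMap A B) hs q.asIdeal (Φ hs adj q.asIdeal ω i)
    (fun a m => Φ_smul hs adj q.asIdeal ω i a m)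

end Groth.Agent.Helper9.DeltaRes
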