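import Mathlib
import Groth.Agent.Helper6.AdjHC

/-!
# An adjunction of exact functors induces an adjunction on derived categories
-/

namespace Groth.Agent.Helper9.DerivedAdj

open CategoryTheory Limits

universe w₁ w₂ v₁ v₂ u₁ u₂

variable {C₁ : Type u₁} [Category.{v₁} C₁] [Abelian C₁] [HasDerivedCategory.{w₁} C₁]
  {C₂ : Type u₂} [Category.{v₂} C₂] [Abelian C₂] [HasDerivedCategory.{w₂} C₂]
  {L : C₁ ⥤ C₂} {R : C₂ ⥤ C₁} (adj : L ⊣ R)
  [L.Additive] [PreservesFiniteLimits L] [PreservesFiniteColimits L]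
  [R.Additive] [PreservesFiniteLimits R] [PreservesFiniteColimits R]

/-- the derived adjunction -/
noncomputable def adjD : L.mapDerivedCategory ⊣ R.mapDerivedCategory :=
  letI : CatCommSq (L.mapHomologicalComplex (ComplexShape.up ℤ))
      (DerivedCategory.Q (C := C₁)) (DerivedCategory.Q (C := C₂)) L.mapDerivedCategory :=
    ⟨L.mapDerivedCategoryFactors.symm⟩
  letI : CatCommSq (R.mapHomologicalComplex (ComplexShape.up ℤ))
      (DerivedCategory.Q (C := C₂)) (DerivedCategory.Q (C := C₁)) R.mapDerivedCategory :=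
    ⟨R.mapDerivedCategoryFactors.symm⟩
  (Groth.Agent.Helper6.AdjHC.adjHC adj (ComplexShape.up ℤ)).localization DerivedCategory.Q
    (HomologicalComplex.quasiIso C₁ (ComplexShape.up ℤ)) DerivedCategory.Q
    (HomologicalComplex.quasiIso C₂ (ComplexShape.up ℤ)) L.mapDerivedCategory R.mapDerivedCategory

end Groth.Agent.Helper9.DerivedAdj
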