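import Mathlib
import Groth.Agent.Helper9.DerivedAdj

/-!
# `Hom_D(L A, K[p]) ≃+ Hom_D(A, (R K)[p])` for an exact adjoint pair
-/

namespace Groth.Agent.Helper9.DerivedAdjHom

open CategoryTheory Limits

universe w₁ w₂ v₁ v₂ u₁ u₂

/-- conjugation by isomorphisms as an additive equivalence -/
def homAddCongr {D : Type*} [Category D] [Preadditive D] {X X' Y Y' : D} (e₁ : X ≅ X')
    (e₂ : Y ≅ Y') : (X ⟶ Y) ≃+ (X' ⟶ Y') :=
  { e₁.homCongr e₂ with
    map_add' := fun f g => by
      show e₁.inv ≫ (f + g) ≫ e₂.hom = e₁.inv ≫ f ≫ e₂.hom + e₁.inv ≫ g ≫ e₂.hom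
      rw [Preadditive.add_comp, Preadditive.comp_add] }

variable {C₁ : Type u₁} [Category.{v₁} C₁] [Abelian C₁] [HasDerivedCategory.{w₁} C₁]
  {C₂ : Type u₂} [Category.{v₂} C₂] [Abelian C₂] [HasDerivedCategory.{w₂} C₂]
  {L : C₁ ⥤ C₂} {R : C₂ ⥤ C₁} (adj : L ⊣ R)
  [L.Additive] [PreservesFiniteLimits L] [PreservesFiniteColimits L]
  [R.Additive] [PreservesFiniteLimits R] [PreservesFiniteColimits R]

/-- the derived adjunction on morphisms into shifts -/
noncomputable def homShiftAddEquiv (A : C₁) (K : DerivedCategory C₂) (p : ℤ) :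
    ((DerivedCategory.singleFunctor C₂ 0).obj (L.obj A) ⟶
        (shiftFunctor (DerivedCategory C₂) p).obj K) ≃+
      ((DerivedCategory.singleFunctor C₁ 0).obj A ⟶
        (shiftFunctor (DerivedCategory C₁) p).obj (R.mapDerivedCategory.obj K)) :=
  ((homAddCongr ((L.mapDerivedCategorySingleFunctor 0).app A).symm (Iso.refl _)).trans
    ((Groth.Agent.Helper9.DerivedAdj.adjD adj).homAddEquiv _ _)).trans
    (homAddCongr (Iso.refl _) ((R.mapDerivedCategory.commShiftIso p).app K))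

end Groth.Agent.Helper9.DerivedAdjHom
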