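import Mathlib
set_option autoImplicit false

namespace Groth.Agent.Helper9.Descent

open TensorProduct

universe u

variable (A A' : Type u) [CommRing A] [CommRing A'] [Algebra A A'] [Module.FaithfullyFlat A A']
  (M' : Type u) [AddCommGroup M'] [Module A M'] [Module A' M'] [IsScalarTower A A' M']

theorem main
    (φ : M' ⊗[A] A' →ₗ[A] A' ⊗[A] M') (hφ : Function.Bijective φ)
    (h1 : ∀ (x : A') (u : M') (z : A'),
      φ ((x • u) ⊗ₜ[A] z) = LinearMap.rTensor M' (LinearMap.mulLeft A x) (φ (u ⊗ₜ[A] z)))
    (hcoc : ∀ (u : M') (a b : A'),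
      LinearMap.lTensor A' φ (TensorProduct.assoc A A' M' A' (LinearMap.rTensor A' φ ((u ⊗ₜ[A] a) ⊗ₜ[A] b))) =
        LinearMap.lTensor A' (TensorProduct.mk A A' M' a) (φ (u ⊗ₜ[A] b)))
    (M : Submodule A M') (hM : ∀ u : M', u ∈ M ↔ φ (u ⊗ₜ[A] (1 : A')) = (1 : A') ⊗ₜ[A] u) :
    Function.Bijective
      ((TensorProduct.lift (Algebra.lsmul A A M').toLinearMap) ∘ₗ (LinearMap.lTensor A' M.subtype)) := by
  -- the two maps
  let α : M' →ₗ[A] A' ⊗[A] M' := TensorProduct.mk A A' M' 1
  let β : M' →ₗ[A] A' ⊗[A] M' := φ ∘ₗ (TensorProduct.mk A M' A').flip 1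
  let ε : A' ⊗[A] M' →ₗ[A] M' := TensorProduct.lift (Algebra.lsmul A A M').toLinearMap
  have hβ : ∀ u, β u = φ (u ⊗ₜ 1) := fun u => rfl
  have hα : ∀ u, α u = 1 ⊗ₜ u := fun u => rfl
  have hε : ∀ (a : A') (u : M'), ε (a ⊗ₜ u) = a • u := fun a u => rfl
  have hMeq : M = LinearMap.eqLocus β α := by
    ext u
    rw [hM, LinearMap.mem_eqLocus, hβ, hα]
  -- β injective
  have hβinj : Function.Injective β := by
    have h2 : Function.Injective ((TensorProduct.mk A M' A').flip 1) := by
      have h3 : ((TensorProduct.mk A M' A').flip 1) =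
          (TensorProduct.comm A A' M').toLinearMap ∘ₗ (TensorProduct.mk A A' M' 1) := by
        ext u; simp
      rw [h3]
      exact (TensorProduct.comm A A' M').injective.comp
        (Module.FaithfullyFlat.tensorProduct_mk_injective (A := A) (B := A') M')
    exact hφ.1.comp h2
  -- flatness: lTensor of the inclusion is injective with range the equalizer
  have hιinj : Function.Injective (LinearMap.lTensor A' M.subtype) :=
    Module.Flat.lTensor_preserves_injective_linearMap _ M.injective_subtype
  have hrange : ∀ t : A' ⊗[A] M', LinearMap.lTensor A' β t = LinearMap.lTensor A' α t →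
      t ∈ LinearMap.range (LinearMap.lTensor A' M.subtype) := by
    intro t ht
    have := Module.Flat.eqLocus_lTensor_eq (R := A) (S := A) A' β α
    have h3 : t ∈ LinearMap.eqLocus (AlgebraTensorModule.lTensor A A' β)
        (AlgebraTensorModule.lTensor A A' α) := ht
    rw [this] at h3
    obtain ⟨y, hy⟩ := h3
    subst hMeq
    exact ⟨y, hy⟩
  -- cocycle at a = b = 1
  have hcoc1 : ∀ u : M', LinearMap.lTensor A' β (β u) = LinearMap.lTensor A' α (β u) := by
    intro u
    have h3 := hcoc u 1 1
    have h4 : ∀ t : A' ⊗[A] M', LinearMap.lTensor A' φ (TensorProduct.assoc A A' M' A' (t ⊗ₜ[A] (1 : A'))) =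
        LinearMap.lTensor A' β t := by
      intro t
      induction t using TensorProduct.induction_on with
      | zero => simp
      | tmul a v => simp [hβ]
      | add x y hx hy => rw [add_tmul, map_add, map_add, hx, hy, map_add]
    rw [LinearMap.rTensor_tmul, h4] at h3
    exact h3
  -- contraction
  let c : A' ⊗[A] (A' ⊗[A] M') →ₗ[A] A' ⊗[A] M' :=
    (LinearMap.rTensor M' (LinearMap.mul' A A')) ∘ₗ (TensorProduct.assoc A A' A' M').symm.toLinearMap
  have hc : ∀ (a b : A') (u : M'), c (a ⊗ₜ (b ⊗ₜ u)) = (a * b) ⊗ₜ u := by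
    intro a b u; simp [c]
  have hcα : ∀ t : A' ⊗[A] M', c (LinearMap.lTensor A' α t) = t := by
    intro t
    induction t using TensorProduct.induction_on with
    | zero => simp
    | tmul a v => rw [LinearMap.lTensor_tmul, hα, hc, mul_one]
    | add x y hx hy => rw [map_add, map_add, hx, hy]
  have hcz : ∀ (a : A') (z : A' ⊗[A] M'), c (a ⊗ₜ z) = LinearMap.rTensor M' (LinearMap.mulLeft A a) z := by
    intro a z
    induction z using TensorProduct.induction_on with
    | zero => simp
    | tmul b u => rw [hc]; rfl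
    | add x y hx hy => rw [tmul_add, map_add, hx, hy, map_add]
  have hcβ : ∀ t : A' ⊗[A] M', c (LinearMap.lTensor A' β t) = β (ε t) := by
    intro t
    induction t using TensorProduct.induction_on with
    | zero => simp
    | tmul a v => rw [LinearMap.lTensor_tmul, hcz, hβ, hε, hβ, h1]
    | add x y hx hy => rw [map_add, map_add, hx, hy, map_add, map_add]
  have hεβ : ∀ u : M', ε (β u) = u := by
    intro u
    apply hβinj
    rw [← hcβ, hcoc1, hcα]
  -- β ∘ λ = lTensor ι
  have hbl : ∀ y : A' ⊗[A] M, β (ε (LinearMap.lTensor A' M.subtype y)) =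
      LinearMap.lTensor A' M.subtype y := by
    intro y
    induction y using TensorProduct.induction_on with
    | zero => simp
    | tmul x m =>
      rw [LinearMap.lTensor_tmul, hε, hβ, h1, Submodule.subtype_apply, (hM m).mp m.2]
      simp
    | add x y hx hy => simp only [map_add, hx, hy]
  constructor
  · rw [injective_iff_map_eq_zero]
    intro y hy
    apply hιinj
    rw [map_zero, ← hbl]
    have : ε (LinearMap.lTensor A' M.subtype y) = 0 := hy
    rw [this, map_zero]
  · intro u
    obtain ⟨y, hy⟩ := hrange (β u) (hcoc1 u)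
    refine ⟨y, ?_⟩
    show ε (LinearMap.lTensor A' M.subtype y) = u
    rw [hy, hεβ]

end Groth.Agent.Helper9.Descent
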