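import Mathlib
set_option autoImplicit false

namespace Groth.Agent.Helper9.DetPow

open Matrix

variable {R : Type*} [CommRing R] [IsLocalRing R] {n : ℕ}

/-- lift of a transvection structure along the residue map -/
noncomputable def liftT (t : TransvectionStruct (Fin n) (IsLocalRing.ResidueField R)) :
    TransvectionStruct (Fin n) R :=
  ⟨t.i, t.j, t.hij, (IsLocalRing.residue_surjective t.c).choose⟩

lemma liftT_map (t : TransvectionStruct (Fin n) (IsLocalRing.ResidueField R)) :
    (liftT t).toMatrix.map (IsLocalRing.residue R) = t.toMatrix := by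
  have hc : IsLocalRing.residue R (liftT t).c = t.c := (IsLocalRing.residue_surjective t.c).choose_spec
  show (transvection t.i t.j (liftT t).c).map (IsLocalRing.residue R) = transvection t.i t.j t.c
  rw [transvection, transvection, Matrix.map_add _ (by intros; exact map_add _ _ _),
    Matrix.map_one _ (map_zero _) (map_one _), Matrix.map_single, hc]

lemma prod_map (L : List (TransvectionStruct (Fin n) (IsLocalRing.ResidueField R))) :
    ((L.map liftT).map TransvectionStruct.toMatrix).prod.map (IsLocalRing.residue R) =
      (L.map TransvectionStruct.toMatrix).prod := by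
  induction L with
  | nil => simp
  | cons t L ih =>
    simp only [List.map_cons, List.prod_cons]
    rw [Matrix.map_mul, ih, liftT_map]

theorem main (M : Matrix (Fin n) (Fin n) R) (r : ℕ)
    (hr : (M.map (IsLocalRing.residue R)).rank ≤ r) :
    M.det ∈ IsLocalRing.maximalIdeal R ^ (n - r) := by
  classical
  obtain ⟨L, L', D, hD⟩ :=
    Matrix.Pivot.exists_list_transvec_mul_mul_list_transvec_eq_diagonal (M.map (IsLocalRing.residue R))
  set P := ((L.map liftT).map TransvectionStruct.toMatrix).prod with hP
  set Q := ((L'.map liftT).map TransvectionStruct.toMatrix).prod with hQ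
  set N := P * M * Q with hN
  have hdet : N.det = M.det := by
    rw [hN, det_mul, det_mul, hP, hQ, TransvectionStruct.det_toMatrix_prod,
      TransvectionStruct.det_toMatrix_prod, one_mul, mul_one]
  have hNmap : N.map (IsLocalRing.residue R) = diagonal D := by
    rw [hN, Matrix.map_mul, Matrix.map_mul, hP, hQ, prod_map, prod_map, hD]
  have hrank : (diagonal D).rank ≤ r := by
    rw [← hD]
    rw [rank_mul_eq_left_of_isUnit_det _ _ (by rw [TransvectionStruct.det_toMatrix_prod]; exact isUnit_one),
      rank_mul_eq_right_of_isUnit_det _ _ (by rw [TransvectionStruct.det_toMatrix_prod]; exact isUnit_one)]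
    exact hr
  rw [rank_diagonal] at hrank
  let Z : Finset (Fin n) := Finset.univ.filter (fun i => D i = 0)
  have hZ : n - r ≤ Z.card := by
    have h1 : Fintype.card {i // D i ≠ 0} = (Finset.univ.filter (fun i => D i ≠ 0)).card :=
      Fintype.card_subtype _
    have h2 : (Finset.univ.filter (fun i => D i ≠ 0)).card + Z.card = n := by
      have := Finset.card_filter_add_card_filter_not (s := (Finset.univ : Finset (Fin n)))
        (fun i => D i ≠ 0)
      simp only [not_not, Finset.card_univ, Fintype.card_fin] at this
      exact this
    omega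
  have hentry : ∀ (a i : Fin n), i ∈ Z → N a i ∈ IsLocalRing.maximalIdeal R := by
    intro a i hi
    have hi' : D i = 0 := (Finset.mem_filter.mp hi).2
    have := congrFun (congrFun hNmap a) i
    rw [map_apply, diagonal_apply] at this
    rw [← IsLocalRing.residue_eq_zero_iff, this]
    split_ifs with hai
    · rw [hai]; exact hi'
    · rfl
  rw [← hdet, det_apply']
  refine Ideal.sum_mem _ fun σ _ => Ideal.mul_mem_left _ _ ?_
  refine Ideal.pow_le_pow_right hZ ?_
  rw [← Finset.prod_filter_mul_prod_filter_not Finset.univ (fun i => D i = 0)]
  refine Ideal.mul_mem_right _ _ ?_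
  have : (IsLocalRing.maximalIdeal R) ^ Z.card = ∏ _i ∈ Z, IsLocalRing.maximalIdeal R := by
    rw [Finset.prod_const]
  rw [this]
  exact Ideal.prod_mem_prod fun i hi => hentry _ i hi

end Groth.Agent.Helper9.DetPow
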