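import Groth.Agent.Helper9.LocFin
import Groth.Prelude.Def_GLin
set_option autoImplicit false
set_option linter.unusedSectionVars false

namespace Groth.Agent.Helper9.Diag

open TensorProduct

universe u

variable {k : Type u} [Field k] {M : Type u} [AddCommGroup M] [Finite M]
  {R : Type u} [AddCommGroup R] [Module k R] [HopfRep.Comod k (AddMonoidAlgebra k M) R]

local notation "kM" => AddMonoidAlgebra k M

/-- coefficient functional -/
noncomputable def ee (a : M) : kM →ₗ[k] k :=
  Finsupp.lapply a ∘ₗ (AddMonoidAlgebra.coeffLinearEquiv k).toLinearMap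

omit [Finite M] in
lemma ee_single (a b : M) (c : k) [Decidable (b = a)] :
    ee a (AddMonoidAlgebra.single b c) = if b = a then c else 0 := by
  unfold ee
  simp [Finsupp.single_apply]

variable (k) in
/-- the weight component -/
noncomputable def comp (a : M) (f : R) : R := act k kM R (ee a) f

omit [Finite M] in
lemma conv_ee (φ : kM →ₗ[k] k) (a : M) :
    conv φ (ee a) = φ (AddMonoidAlgebra.single a 1) • ee a := by
  classical
  apply LinearMap.ext
  intro x
  induction x using AddMonoidAlgebra.induction_linear with
  | zero => simp
  | add f g hf hg => simp only [map_add, hf, hg]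
  | single b c =>
    unfold conv
    simp only [LinearMap.comp_apply, LinearMap.smul_apply]
    rw [AddMonoidAlgebra.comul_single, CommSemiring.comul_apply, TensorProduct.map_tmul,
      TensorProduct.map_tmul]
    simp only [AddMonoidAlgebra.lsingle_apply, LinearEquiv.coe_coe, TensorProduct.lid_tmul,
      ee_single]
    by_cases hba : b = a
    · subst hba
      simp
    · simp [hba]

omit [Finite M] in
lemma comp_mem (a : M) (f : R) :
    HopfRep.Comod.coact (k := k) (A := kM) (comp k a f) =
      comp k a f ⊗ₜ[k] (AddMonoidAlgebra.single a (1 : k)) := by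
  rw [← sub_eq_zero]
  apply eq_zero_of_forall_functional
  intro φ
  rw [map_sub, map_sub, sub_eq_zero]
  have h1 : TensorProduct.rid k R (φ.lTensor R (HopfRep.Comod.coact (k := k) (A := kM) (comp k a f))) =
      act k kM R φ (comp k a f) := rfl
  rw [h1]
  unfold comp
  rw [act_comp, conv_ee]
  simp [act]

lemma expand [Fintype M] (z : R ⊗[k] kM) :
    z = ∑ a : M, TensorProduct.rid k R ((ee a).lTensor R z) ⊗ₜ[k]
      (AddMonoidAlgebra.single a (1 : k)) := by
  classical
  induction z using TensorProduct.induction_on with
  | zero => simp
  | tmul x b =>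
    induction b using AddMonoidAlgebra.induction_linear with
    | zero => simp
    | add f g hf hg =>
      conv_lhs => rw [TensorProduct.tmul_add, hf, hg, ← Finset.sum_add_distrib]
      apply Finset.sum_congr rfl
      intro a _
      simp only [TensorProduct.tmul_add, map_add, TensorProduct.add_tmul]
    | single b c =>
      simp only [LinearMap.lTensor_tmul, TensorProduct.rid_tmul, ee_single]
      rw [Finset.sum_eq_single b]
      · rw [if_pos rfl, TensorProduct.smul_tmul, AddMonoidAlgebra.smul_single, smul_eq_mul, mul_one]
      · intro a _ hab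
        rw [if_neg (Ne.symm hab), zero_smul, TensorProduct.zero_tmul]
      · intro h; exact absurd (Finset.mem_univ b) h
  | add x y hx hy =>
    conv_lhs => rw [hx, hy, ← Finset.sum_add_distrib]
    apply Finset.sum_congr rfl
    intro a _
    simp only [map_add, TensorProduct.add_tmul]

lemma coact_expand [Fintype M] (f : R) :
    HopfRep.Comod.coact (k := k) (A := kM) f =
      ∑ a : M, comp k a f ⊗ₜ[k] (AddMonoidAlgebra.single a (1 : k)) :=
  expand _

lemma sum_comp [Fintype M] (f : R) : ∑ a : M, comp k a f = f := by
  classical
  have h := act_counit (k := k) (C := kM) f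
  rw [act_apply, coact_expand f, map_sum, map_sum] at h
  conv_rhs => rw [← h]
  apply Finset.sum_congr rfl
  intro a _
  rw [LinearMap.lTensor_tmul, TensorProduct.rid_tmul, AddMonoidAlgebra.counit_single]
  simp

end Groth.Agent.Helper9.Diag
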