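import Mathlib

/-!
Helper lemmas for the `DiagIdeal` sym3 statements: everything here is k-linear algebra in
`A ⊗[k] A` valid for any commutative algebra `A` over a field `k` of characteristic zero.
-/

namespace Groth.Agent.Helper9.DiagSym3

open TensorProduct

universe u v
variable (k : Type u) [Field k] (A : Type v) [CommRing A] [Algebra k A]

/-- `σ(a,b,c) = ab ⊗ c + ac ⊗ b + bc ⊗ a`. -/
def sig (a b c : A) : A ⊗[k] A := (a * b) ⊗ₜ[k] c + (a * c) ⊗ₜ[k] b + (b * c) ⊗ₜ[k] a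

/-- the symmetrisation of `a ⊗ b ⊗ c`. -/
def sym3 (a b c : A) : A ⊗[k] (A ⊗[k] A) :=
  a ⊗ₜ[k] (b ⊗ₜ[k] c) + a ⊗ₜ[k] (c ⊗ₜ[k] b) + b ⊗ₜ[k] (a ⊗ₜ[k] c) + b ⊗ₜ[k] (c ⊗ₜ[k] a)
    + c ⊗ₜ[k] (a ⊗ₜ[k] b) + c ⊗ₜ[k] (b ⊗ₜ[k] a)

/-- the k-span of the `σ(a,b,c)`. -/
def S : Submodule k (A ⊗[k] A) := Submodule.span k {y | ∃ a b c : A, y = sig k A a b c}

lemma sig_mem (a b c : A) : sig k A a b c ∈ S k A := Submodule.subset_span ⟨a, b, c, rfl⟩

lemma key (a b c e : A) :
    (c ⊗ₜ[k] e) * (((1 : A) ⊗ₜ[k] a - a ⊗ₜ[k] 1) * ((1 : A) ⊗ₜ[k] b - b ⊗ₜ[k] 1)) =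
      sig k A 1 c (a * b * e) - sig k A 1 (a * e) (b * c) - sig k A a c (b * e)
        + sig k A a e (b * c) := by
  simp only [sig, mul_sub, sub_mul, Algebra.TensorProduct.tmul_mul_tmul, one_mul, mul_one]
  simp only [mul_comm, mul_left_comm, mul_assoc]
  abel

lemma sym3_leftComm (a b c : A) :
    TensorProduct.leftComm k A A A (sym3 k A a b c) = sym3 k A a b c := by
  simp only [sym3, map_add, TensorProduct.leftComm_tmul]
  abel

lemma sym3_lTensor (a b c : A) :
    LinearMap.lTensor A (TensorProduct.comm k A A).toLinearMap (sym3 k A a b c) = sym3 k A a b c := by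
  simp only [sym3, map_add, LinearMap.lTensor_tmul, LinearEquiv.coe_coe, TensorProduct.comm_tmul]
  abel

/-- the elements fixed by both swaps. -/
def Inv : Submodule k (A ⊗[k] (A ⊗[k] A)) where
  carrier := {x | TensorProduct.leftComm k A A A x = x ∧
    LinearMap.lTensor A (TensorProduct.comm k A A).toLinearMap x = x}
  add_mem' := by
    rintro x y ⟨hx1, hx2⟩ ⟨hy1, hy2⟩
    exact ⟨by rw [map_add, hx1, hy1], by rw [map_add, hx2, hy2]⟩
  zero_mem' := ⟨map_zero _, map_zero _⟩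
  smul_mem' := by
    rintro c x ⟨hx1, hx2⟩
    exact ⟨by rw [map_smul, hx1], by rw [map_smul, hx2]⟩

lemma mem_Inv (x : A ⊗[k] (A ⊗[k] A)) : x ∈ Inv k A ↔
    (TensorProduct.leftComm k A A A x = x ∧
      LinearMap.lTensor A (TensorProduct.comm k A A).toLinearMap x = x) := Iff.rfl

lemma sym3_mem (a b c : A) : sym3 k A a b c ∈ Inv k A :=
  ⟨sym3_leftComm k A a b c, sym3_lTensor k A a b c⟩

variable {k A}

section r
variable {r : A ⊗[k] (A ⊗[k] A) →ₗ[k] A ⊗[k] A}
  (hr : ∀ a b c : A, r (a ⊗ₜ[k] (b ⊗ₜ[k] c)) = (a * b) ⊗ₜ[k] c)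

include hr in
lemma r_sym3 (a b c : A) : r (sym3 k A a b c) = (2 : k) • sig k A a b c := by
  simp only [sym3, map_add, hr, sig]
  rw [mul_comm b a, mul_comm c a, mul_comm c b, two_smul]
  abel

include hr in
lemma S_le [CharZero k] : S k A ≤ (Inv k A).map r := by
  refine Submodule.span_le.mpr ?_
  rintro _ ⟨a, b, c, rfl⟩
  refine ⟨(2 : k)⁻¹ • sym3 k A a b c, Submodule.smul_mem _ _ (sym3_mem k A a b c), ?_⟩
  rw [map_smul, r_sym3 hr, smul_smul, inv_mul_cancel₀ (by norm_num), one_smul]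

variable {D : A ⊗[k] A →ₗ[k] Ω[A⁄k]}
  (hD : ∀ a b : A, D (a ⊗ₜ[k] b) =
    (2 : A) • (a • KaehlerDifferential.D k A b) - b • KaehlerDifferential.D k A a)

include hD in
lemma D_eq (f : A ⊗[k] A) :
    D f = (3 : k) • (KaehlerDifferential.D k A).tensorProductTo f
      - KaehlerDifferential.D k A (LinearMap.mul' k A f) := by
  have : D = (3 : k) • ((KaehlerDifferential.D k A).tensorProductTo.restrictScalars k)
      - (KaehlerDifferential.D k A).toLinearMap ∘ₗ (LinearMap.mul' k A) := by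
    apply TensorProduct.ext'
    intro a b
    simp only [hD, LinearMap.sub_apply, LinearMap.smul_apply, LinearMap.restrictScalars_apply,
      Derivation.tensorProductTo_tmul, LinearMap.comp_apply, LinearMap.mul'_apply,
      Derivation.coeFn_coe, Derivation.leibniz]
    rw [ofNat_smul_eq_nsmul k 3, ofNat_smul_eq_nsmul A 2]
    abel
  rw [this]
  rfl

include hD in
lemma D_sig (a b c : A) : D (sig k A a b c) = 0 := by
  simp only [sig, map_add, hD, Derivation.leibniz]
  module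

include hD in
lemma D_comm [CharZero k] (f : A ⊗[k] A) :
    D ((3 : k)⁻¹ • ((2 : k) • f + TensorProduct.comm k A A f)) =
      (KaehlerDifferential.D k A).tensorProductTo f := by
  have : D ∘ₗ ((3 : k)⁻¹ • ((2 : k) • LinearMap.id + (TensorProduct.comm k A A).toLinearMap))
      = (KaehlerDifferential.D k A).tensorProductTo.restrictScalars k := by
    apply TensorProduct.ext'
    intro a b
    simp only [LinearMap.comp_apply, LinearMap.smul_apply, LinearMap.add_apply,
      LinearMap.id_apply, LinearEquiv.coe_coe, TensorProduct.comm_tmul, map_smul, map_add, hD,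
      LinearMap.restrictScalars_apply, Derivation.tensorProductTo_tmul]
    rw [two_smul A, two_smul A, two_smul k]
    have h3 : ((a • KaehlerDifferential.D k A b + a • KaehlerDifferential.D k A b
          - b • KaehlerDifferential.D k A a)
        + (a • KaehlerDifferential.D k A b + a • KaehlerDifferential.D k A b
          - b • KaehlerDifferential.D k A a))
        + (b • KaehlerDifferential.D k A a + b • KaehlerDifferential.D k A a
          - a • KaehlerDifferential.D k A b)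
        = (3 : k) • (a • KaehlerDifferential.D k A b) := by
      rw [show (3 : k) = 1 + 1 + 1 by norm_num, add_smul, add_smul, one_smul]
      abel
    rw [h3, smul_smul, inv_mul_cancel₀ (by norm_num), one_smul]
  exact LinearMap.congr_fun this f

include hD in
lemma D_surj [CharZero k] : Function.Surjective D := by
  intro ω
  obtain ⟨f, rfl⟩ := KaehlerDifferential.tensorProductTo_surjective k A ω
  exact ⟨_, D_comm hD f⟩

include hr hD in
lemma D_r_inv [CharZero k] (x : A ⊗[k] (A ⊗[k] A)) (hx : x ∈ Inv k A) : D (r x) = 0 := by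
  obtain ⟨h1, h2⟩ := hx
  obtain ⟨s₁, hs₁⟩ : ∃ s₁, s₁ = (TensorProduct.leftComm k A A A).toLinearMap := ⟨_, rfl⟩
  obtain ⟨s₂, hs₂⟩ : ∃ s₂, s₂ = LinearMap.lTensor A (TensorProduct.comm k A A).toLinearMap :=
    ⟨_, rfl⟩
  have hN : (D ∘ₗ r) ∘ₗ (LinearMap.id + s₁ + s₂ + s₁ ∘ₗ s₂ + s₂ ∘ₗ s₁ + s₁ ∘ₗ s₂ ∘ₗ s₁) = 0 := by
    apply TensorProduct.ext_threefold'
    intro a b c
    have : ((LinearMap.id + s₁ + s₂ + s₁ ∘ₗ s₂ + s₂ ∘ₗ s₁ + s₁ ∘ₗ s₂ ∘ₗ s₁ :
        A ⊗[k] (A ⊗[k] A) →ₗ[k] A ⊗[k] (A ⊗[k] A)))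
        (a ⊗ₜ[k] (b ⊗ₜ[k] c)) = sym3 k A a b c := by
      subst hs₁ hs₂
      simp only [sym3, LinearMap.add_apply, LinearMap.id_apply, LinearMap.comp_apply,
        LinearEquiv.coe_coe, TensorProduct.leftComm_tmul, LinearMap.lTensor_tmul,
        TensorProduct.comm_tmul]
      abel
    rw [LinearMap.comp_apply, this, LinearMap.comp_apply, r_sym3 hr, map_smul, D_sig hD,
      smul_zero, LinearMap.zero_apply]
  have h1' : s₁ x = x := by subst hs₁; exact h1
  have h2' : s₂ x = x := by subst hs₂; exact h2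
  have h6 := LinearMap.congr_fun hN x
  simp only [LinearMap.comp_apply, LinearMap.add_apply, LinearMap.id_apply, h1', h2',
    LinearMap.zero_apply, map_add] at h6
  have h6' : (6 : k) • D (r x) = 0 := by
    rw [ofNat_smul_eq_nsmul k 6]
    rw [← h6]
    abel
  exact (smul_eq_zero.mp h6').resolve_left (by norm_num)

end r

lemma sq_le (x : A ⊗[k] A) (hx : x ∈ (KaehlerDifferential.ideal k A) ^ 2) : x ∈ S k A := by
  rw [← KaehlerDifferential.span_range_eq_ideal, pow_two, Ideal.span_mul_span'] at hx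
  have : ∀ t : A ⊗[k] A, t * x ∈ S k A := by
    refine Submodule.span_induction (p := fun x _ => ∀ t : A ⊗[k] A, t * x ∈ S k A)
      ?_ ?_ ?_ ?_ hx
    · rintro _ ⟨_, ⟨a, rfl⟩, _, ⟨b, rfl⟩, rfl⟩ t
      induction t using TensorProduct.induction_on with
      | zero => rw [zero_mul]; exact zero_mem _
      | tmul c e =>
        rw [key]
        exact add_mem (sub_mem (sub_mem (sig_mem _ _ _ _ _) (sig_mem _ _ _ _ _))
          (sig_mem _ _ _ _ _)) (sig_mem _ _ _ _ _)
      | add t₁ t₂ h₁ h₂ => rw [add_mul]; exact add_mem h₁ h₂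
    · intro t; rw [mul_zero]; exact zero_mem _
    · intro x y _ _ hx hy t; rw [mul_add]; exact add_mem (hx t) (hy t)
    · intro s x _ hx t
      rw [smul_eq_mul, ← mul_assoc]
      exact hx _
  simpa using this 1

section main
variable {r : A ⊗[k] (A ⊗[k] A) →ₗ[k] A ⊗[k] A}
  (hr : ∀ a b c : A, r (a ⊗ₜ[k] (b ⊗ₜ[k] c)) = (a * b) ⊗ₜ[k] c)
variable {D : A ⊗[k] A →ₗ[k] Ω[A⁄k]}
  (hD : ∀ a b : A, D (a ⊗ₜ[k] b) =
    (2 : A) • (a • KaehlerDifferential.D k A b) - b • KaehlerDifferential.D k A a)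

include hD in
lemma ker_le [CharZero k] (y : A ⊗[k] A) (hy : D y = 0) : y ∈ S k A := by
  obtain ⟨g, hg⟩ : ∃ g, g = (3 : k)⁻¹ • LinearMap.mul' k A y := ⟨_, rfl⟩
  have hm : LinearMap.mul' k A (y - sig k A g 1 1) = 0 := by
    simp only [sig, map_sub, map_add, LinearMap.mul'_apply, mul_one, one_mul]
    rw [hg]
    have : (3 : k)⁻¹ • LinearMap.mul' k A y + (3 : k)⁻¹ • LinearMap.mul' k A y
        + (3 : k)⁻¹ • LinearMap.mul' k A y = LinearMap.mul' k A y := by
      rw [← add_smul, ← add_smul]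
      norm_num
    rw [this, sub_self]
  have hD0 : D (y - sig k A g 1 1) = 0 := by rw [map_sub, hy, D_sig hD, sub_zero]
  rw [D_eq hD, hm, map_zero, sub_zero] at hD0
  have h3 := (smul_eq_zero.mp hD0).resolve_left (by norm_num)
  have hmem : y - sig k A g 1 1 ∈ KaehlerDifferential.ideal k A := by
    rw [RingHom.mem_ker]
    exact hm
  have h4 := KaehlerDifferential.D_tensorProductTo (R := k) (S := A) ⟨_, hmem⟩
  rw [h3] at h4
  have h5 := (Ideal.toCotangent_eq_zero _ _).mp h4.symm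
  have h6 := add_mem (sq_le _ h5) (sig_mem k A g 1 1)
  simpa using h6

end main

end Groth.Agent.Helper9.DiagSym3
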