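import Mathlib

/-!
Helper lemmas for the `DiagIdeal` transposition-invariants statement (sym3, swap of the last two
factors): k-linear algebra in `A ⊗[k] A` valid for any commutative algebra over a char-0 field.
-/

namespace Groth.Agent.Helper9.DiagSym3b

open TensorProduct

universe u v
variable (k : Type u) [Field k] (A : Type v) [CommRing A] [Algebra k A]

/-- symmetrisation in the last two factors. -/
def sym2 (x u v : A) : A ⊗[k] (A ⊗[k] A) := x ⊗ₜ[k] (u ⊗ₜ[k] v) + x ⊗ₜ[k] (v ⊗ₜ[k] u)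

/-- the elements fixed by the swap of the last two factors. -/
def Inv2 : Submodule k (A ⊗[k] (A ⊗[k] A)) where
  carrier := {x | LinearMap.lTensor A (TensorProduct.comm k A A).toLinearMap x = x}
  add_mem' := by
    intro x y hx hy
    change _ = _ at hx hy ⊢
    rw [map_add, hx, hy]
  zero_mem' := map_zero _
  smul_mem' := by
    intro c x hx
    change _ = _ at hx ⊢
    rw [map_smul, hx]

lemma mem_Inv2 (x : A ⊗[k] (A ⊗[k] A)) : x ∈ Inv2 k A ↔
    LinearMap.lTensor A (TensorProduct.comm k A A).toLinearMap x = x := Iff.rfl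

lemma sym2_mem (x u v : A) : sym2 k A x u v ∈ Inv2 k A := by
  rw [mem_Inv2]
  simp only [sym2, map_add, LinearMap.lTensor_tmul, LinearEquiv.coe_coe, TensorProduct.comm_tmul]
  abel

variable {k A}

section main
variable {r₁₂ r₂₃ : A ⊗[k] (A ⊗[k] A) →ₗ[k] A ⊗[k] A}
  (h₁₂ : ∀ a u v : A, r₁₂ (a ⊗ₜ[k] (u ⊗ₜ[k] v)) = (a * u) ⊗ₜ[k] v)
  (h₂₃ : ∀ a u v : A, r₂₃ (a ⊗ₜ[k] (u ⊗ₜ[k] v)) = (u * v) ⊗ₜ[k] a)

include h₁₂ in
lemma r12_sym2 (x u v : A) : r₁₂ (sym2 k A x u v) = (x * u) ⊗ₜ[k] v + (x * v) ⊗ₜ[k] u := by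
  simp only [sym2, map_add, h₁₂]

include h₂₃ in
lemma r23_sym2 (x u v : A) : r₂₃ (sym2 k A x u v) = (u * v) ⊗ₜ[k] x + (u * v) ⊗ₜ[k] x := by
  simp only [sym2, map_add, h₂₃, mul_comm v u]

include h₁₂ h₂₃ in
lemma mul_r (x : A ⊗[k] (A ⊗[k] A)) :
    LinearMap.mul' k A (r₁₂ x) = LinearMap.mul' k A (r₂₃ x) := by
  have : (LinearMap.mul' k A) ∘ₗ r₁₂ = (LinearMap.mul' k A) ∘ₗ r₂₃ := by
    apply TensorProduct.ext_threefold'
    intro a u v
    simp only [LinearMap.comp_apply, h₁₂, h₂₃, LinearMap.mul'_apply]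
    ring
  exact LinearMap.congr_fun this x

include h₁₂ h₂₃ in
lemma sq_le2 (x : A ⊗[k] A) (hx : x ∈ (KaehlerDifferential.ideal k A) ^ 2) :
    ∃ z ∈ Inv2 k A, r₁₂ z = x ∧ r₂₃ z = 0 := by
  rw [← KaehlerDifferential.span_range_eq_ideal, pow_two, Ideal.span_mul_span'] at hx
  have : ∀ t : A ⊗[k] A, ∃ z ∈ Inv2 k A, r₁₂ z = t * x ∧ r₂₃ z = 0 := by
    refine Submodule.span_induction
      (p := fun x _ => ∀ t : A ⊗[k] A, ∃ z ∈ Inv2 k A, r₁₂ z = t * x ∧ r₂₃ z = 0)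
      ?_ ?_ ?_ ?_ hx
    · rintro _ ⟨_, ⟨a, rfl⟩, _, ⟨b, rfl⟩, rfl⟩ t
      induction t using TensorProduct.induction_on with
      | zero => exact ⟨0, zero_mem _, by simp, by simp⟩
      | tmul c e =>
        refine ⟨sym2 k A 1 c (a * b * e) - sym2 k A 1 (a * e) (b * c) - sym2 k A a c (b * e)
          + sym2 k A a e (b * c), ?_, ?_, ?_⟩
        · exact add_mem (sub_mem (sub_mem (sym2_mem _ _ _ _ _) (sym2_mem _ _ _ _ _))
            (sym2_mem _ _ _ _ _)) (sym2_mem _ _ _ _ _)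
        · simp only [map_add, map_sub, r12_sym2 h₁₂, mul_sub, sub_mul,
            Algebra.TensorProduct.tmul_mul_tmul, one_mul, mul_one]
          simp only [mul_comm, mul_left_comm, mul_assoc]
          abel
        · simp only [map_add, map_sub, r23_sym2 h₂₃]
          simp only [mul_comm, mul_left_comm, mul_assoc]
          abel
      | add t₁ t₂ h₁ h₂ =>
        obtain ⟨z₁, hz₁, h11, h12⟩ := h₁
        obtain ⟨z₂, hz₂, h21, h22⟩ := h₂
        exact ⟨z₁ + z₂, add_mem hz₁ hz₂, by rw [map_add, h11, h21, add_mul],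
          by rw [map_add, h12, h22, add_zero]⟩
    · intro t; exact ⟨0, zero_mem _, by simp, by simp⟩
    · intro x y _ _ hx hy t
      obtain ⟨z₁, hz₁, h11, h12⟩ := hx t
      obtain ⟨z₂, hz₂, h21, h22⟩ := hy t
      exact ⟨z₁ + z₂, add_mem hz₁ hz₂, by rw [map_add, h11, h21, mul_add],
        by rw [map_add, h12, h22, add_zero]⟩
    · intro s x _ hx t
      obtain ⟨z, hz, h1, h2⟩ := hx (t * s)
      exact ⟨z, hz, by rw [h1, smul_eq_mul, mul_assoc], h2⟩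
  simpa using this 1

include h₂₃ in
lemma exists_r23 [CharZero k] (q : A ⊗[k] A) : ∃ z ∈ Inv2 k A, r₂₃ z = q := by
  induction q using TensorProduct.induction_on with
  | zero => exact ⟨0, zero_mem _, map_zero _⟩
  | tmul b v =>
    refine ⟨(2 : k)⁻¹ • sym2 k A v b 1, Submodule.smul_mem _ _ (sym2_mem _ _ _ _ _), ?_⟩
    rw [map_smul, r23_sym2 h₂₃, mul_one, ← two_smul k, smul_smul, inv_mul_cancel₀ (by norm_num),
      one_smul]
  | add q₁ q₂ h₁ h₂ =>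
    obtain ⟨z₁, hz₁, h11⟩ := h₁
    obtain ⟨z₂, hz₂, h21⟩ := h₂
    exact ⟨z₁ + z₂, add_mem hz₁ hz₂, by rw [map_add, h11, h21]⟩

variable {ψ : (A ⊗[k] A) × (A ⊗[k] A) →ₗ[k] Ω[A⁄k]}
  (hψ : ∀ a u b v : A, ψ (a ⊗ₜ[k] u, b ⊗ₜ[k] v) =
    (2 : A) • (a • KaehlerDifferential.D k A u) - v • KaehlerDifferential.D k A b)

include hψ in
lemma psi_left (p : A ⊗[k] A) :
    ψ (p, 0) = (2 : k) • (KaehlerDifferential.D k A).tensorProductTo p := by
  have : ψ ∘ₗ LinearMap.inl k _ _ =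
      (2 : k) • ((KaehlerDifferential.D k A).tensorProductTo.restrictScalars k) := by
    apply TensorProduct.ext'
    intro a u
    have h := hψ a u 0 0
    rw [TensorProduct.zero_tmul] at h
    simp only [LinearMap.comp_apply, LinearMap.inl_apply, h, map_zero, smul_zero, sub_zero,
      LinearMap.smul_apply, LinearMap.restrictScalars_apply, Derivation.tensorProductTo_tmul]
    rw [two_smul A, two_smul k]
  exact LinearMap.congr_fun this p

include hψ in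
lemma psi_right_tmul (b v : A) :
    ψ (0, b ⊗ₜ[k] v) = - (v • KaehlerDifferential.D k A b) := by
  have h := hψ 0 0 b v
  rw [TensorProduct.zero_tmul] at h
  rw [h, zero_smul, smul_zero, zero_sub]

include h₁₂ h₂₃ hψ in
lemma psi_inv [CharZero k] (x : A ⊗[k] (A ⊗[k] A)) (hx : x ∈ Inv2 k A) :
    ψ (r₁₂ x, r₂₃ x) = 0 := by
  obtain ⟨s₂, hs₂⟩ : ∃ s₂, s₂ = LinearMap.lTensor A (TensorProduct.comm k A A).toLinearMap :=
    ⟨_, rfl⟩
  have hN : (ψ ∘ₗ (LinearMap.prod r₁₂ r₂₃)) ∘ₗ (LinearMap.id + s₂) = 0 := by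
    apply TensorProduct.ext_threefold'
    intro a u v
    have : ((LinearMap.id + s₂ : A ⊗[k] (A ⊗[k] A) →ₗ[k] A ⊗[k] (A ⊗[k] A)))
        (a ⊗ₜ[k] (u ⊗ₜ[k] v)) = sym2 k A a u v := by
      subst hs₂
      simp only [sym2, LinearMap.add_apply, LinearMap.id_apply,
        LinearEquiv.coe_coe, LinearMap.lTensor_tmul, TensorProduct.comm_tmul]
    have hprod : ∀ y, (LinearMap.prod r₁₂ r₂₃) y = (r₁₂ y, r₂₃ y) := fun _ => rfl
    rw [LinearMap.comp_apply, this, LinearMap.comp_apply, hprod,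
      r12_sym2 h₁₂, r23_sym2 h₂₃, LinearMap.zero_apply]
    have hsplit : (((a * u) ⊗ₜ[k] v + (a * v) ⊗ₜ[k] u, (u * v) ⊗ₜ[k] a + (u * v) ⊗ₜ[k] a) :
        (A ⊗[k] A) × (A ⊗[k] A)) =
        ((a * u) ⊗ₜ[k] v, (u * v) ⊗ₜ[k] a) + ((a * v) ⊗ₜ[k] u, (u * v) ⊗ₜ[k] a) := by
      simp
    rw [hsplit, map_add, hψ, hψ, Derivation.leibniz]
    module
  have h2' : s₂ x = x := by subst hs₂; exact hx
  have hprod : ∀ y, (LinearMap.prod r₁₂ r₂₃) y = (r₁₂ y, r₂₃ y) := fun _ => rfl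
  have h6 := LinearMap.congr_fun hN x
  simp only [LinearMap.comp_apply, LinearMap.add_apply, LinearMap.id_apply, h2',
    LinearMap.zero_apply, hprod, map_add] at h6
  have h6' : (2 : k) • ψ (r₁₂ x, r₂₃ x) = 0 := by
    rw [two_smul]
    exact h6
  exact (smul_eq_zero.mp h6').resolve_left (by norm_num)

include h₁₂ h₂₃ hψ in
lemma main_fwd [CharZero k] (p q : A ⊗[k] A)
    (hm : LinearMap.mul' k A p = LinearMap.mul' k A q) (h0 : ψ (p, q) = 0) :
    ∃ x ∈ Inv2 k A, r₁₂ x = p ∧ r₂₃ x = q := by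
  obtain ⟨x₁, hx₁, hq⟩ := exists_r23 h₂₃ q
  have hm' : LinearMap.mul' k A (p - r₁₂ x₁) = 0 := by
    rw [map_sub, mul_r h₁₂ h₂₃, hq, hm, sub_self]
  have hψ0 : ψ (p - r₁₂ x₁, 0) = 0 := by
    have : ((p - r₁₂ x₁, 0) : (A ⊗[k] A) × (A ⊗[k] A)) = (p, q) - (r₁₂ x₁, r₂₃ x₁) := by
      rw [hq]; simp
    rw [this, map_sub, h0, psi_inv h₁₂ h₂₃ hψ x₁ hx₁, sub_zero]
  rw [psi_left hψ] at hψ0
  have h3 := (smul_eq_zero.mp hψ0).resolve_left (by norm_num)
  have hmem : p - r₁₂ x₁ ∈ KaehlerDifferential.ideal k A := by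
    rw [RingHom.mem_ker]
    exact hm'
  have h4 := KaehlerDifferential.D_tensorProductTo (R := k) (S := A) ⟨_, hmem⟩
  rw [h3] at h4
  have h5 := (Ideal.toCotangent_eq_zero _ _).mp h4.symm
  obtain ⟨x₂, hx₂, h21, h22⟩ := sq_le2 h₁₂ h₂₃ _ h5
  refine ⟨x₁ + x₂, add_mem hx₁ hx₂, ?_, ?_⟩
  · rw [map_add, h21]
    exact add_sub_cancel _ _
  · rw [map_add, h22, hq, add_zero]

include hψ in
lemma psi_surj [CharZero k] (ω : Ω[A⁄k]) :
    ∃ p q : A ⊗[k] A, LinearMap.mul' k A p = LinearMap.mul' k A q ∧ ψ (p, q) = ω := by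
  obtain ⟨f, rfl⟩ := KaehlerDifferential.tensorProductTo_surjective k A ω
  refine ⟨(2 : k)⁻¹ • (f - (LinearMap.mul' k A f) ⊗ₜ[k] 1), 0, ?_, ?_⟩
  · simp [LinearMap.mul'_apply]
  · rw [psi_left hψ, LinearMap.map_smul_of_tower, smul_smul, mul_inv_cancel₀ (by norm_num),
      one_smul, map_sub, Derivation.tensorProductTo_tmul]
    simp

end main

end Groth.Agent.Helper9.DiagSym3b
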