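import Mathlib

namespace Groth.Agent.Helper9.DirLimFactor

universe u

lemma factor_fg {ι : Type u} [Preorder ι] [IsDirected ι (· ≤ ·)] [Nonempty ι]
    (G : ι → Type u) [∀ i, CommRing (G i)] (f : ∀ i j, i ≤ j → (G i →+* G j))
    (A : Type u) [CommRing A] (g : ∀ i, G i →+* A)
    (hg : ∀ i j (h : i ≤ j), (g j).comp (f i j h) = g i)
    (hsurj : ∀ a : A, ∃ i, ∃ x : G i, g i x = a)
    (hker : ∀ i (x : G i), g i x = 0 → ∃ j, ∃ h : i ≤ j, f i j h x = 0)
    (A₀ : Subalgebra ℤ A) (hA₀ : A₀.FG) :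
    ∃ (j : ι) (ψ : A₀ →+* G j), (g j).comp ψ = A₀.val.toRingHom := by
  classical
  have hfp : Algebra.FinitePresentation ℤ A₀ :=
    Algebra.FinitePresentation.of_finiteType.1 ((Subalgebra.fg_iff_finiteType A₀).1 hA₀)
  obtain ⟨n, π, hπ, hkerfg⟩ := hfp.out
  -- Step A: lift the generators
  choose ik xk hxk using fun k : Fin n => hsurj ((π (MvPolynomial.X k) : A₀) : A)
  obtain ⟨i, hi⟩ := Finset.exists_le (Finset.univ.image ik)
  have hik : ∀ k, ik k ≤ i := fun k => hi _ (Finset.mem_image_of_mem _ (Finset.mem_univ k))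
  let x' : Fin n → G i := fun k => f (ik k) i (hik k) (xk k)
  have hx' : ∀ k, g i (x' k) = ((π (MvPolynomial.X k) : A₀) : A) := by
    intro k
    rw [← hxk k, ← hg (ik k) i (hik k)]
    rfl
  let φ₁ : MvPolynomial (Fin n) ℤ →+* G i := (MvPolynomial.aeval x' : _ →ₐ[ℤ] G i).toRingHom
  have hφ₁ : (g i).comp φ₁ = A₀.val.toRingHom.comp π.toRingHom := by
    refine MvPolynomial.ringHom_ext (fun m => ?_) (fun k => ?_)
    · simp [φ₁]
    · simp only [φ₁, RingHom.comp_apply, AlgHom.toRingHom_eq_coe, RingHom.coe_coe,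
        MvPolynomial.aeval_X]
      exact hx' k
  obtain ⟨T, hT⟩ := hkerfg
  -- induction over finite subsets of the kernel
  have key : ∀ T' : Finset (MvPolynomial (Fin n) ℤ), (∀ p ∈ T', π p = 0) →
      ∃ (j : ι) (φ : MvPolynomial (Fin n) ℤ →+* G j),
        (g j).comp φ = A₀.val.toRingHom.comp π.toRingHom ∧ ∀ p ∈ T', φ p = 0 := by
    intro T'
    induction T' using Finset.induction_on with
    | empty => intro _; exact ⟨i, φ₁, hφ₁, by simp⟩
    | insert p T' hp ih =>
      intro hT'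
      obtain ⟨j, φ, hφ, hφT⟩ := ih (fun q hq => hT' q (Finset.mem_insert_of_mem hq))
      have h0 : g j (φ p) = 0 := by
        have := RingHom.congr_fun hφ p
        simp only [RingHom.comp_apply] at this
        rw [this]
        have hp0 : π p = 0 := hT' p (Finset.mem_insert_self _ _)
        simp [hp0]
      obtain ⟨j', hjj', hj'⟩ := hker j (φ p) h0
      refine ⟨j', (f j j' hjj').comp φ, ?_, ?_⟩
      · rw [← RingHom.comp_assoc, hg j j' hjj', hφ]
      · intro q hq
        rcases Finset.mem_insert.1 hq with rfl | hq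
        · exact hj'
        · rw [RingHom.comp_apply, hφT q hq, map_zero]
  obtain ⟨j, φ, hφ, hφT⟩ := key T (by
    intro p hp
    have : p ∈ RingHom.ker π.toRingHom := by rw [← hT]; exact Ideal.subset_span hp
    exact this)
  have hle : RingHom.ker π.toRingHom ≤ RingHom.ker φ := by
    rw [← hT, Ideal.span_le]
    intro p hp
    exact hφT p hp
  refine ⟨j, π.toRingHom.liftOfSurjective hπ ⟨φ, hle⟩, ?_⟩
  ext a
  obtain ⟨q, rfl⟩ := hπ a
  have h1 := RingHom.liftOfSurjective_comp_apply π.toRingHom hπ ⟨φ, hle⟩ q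
  have h2 := RingHom.congr_fun hφ q
  simp only [RingHom.comp_apply] at h2
  simp only [RingHom.comp_apply]
  erw [h1]
  exact h2

end Groth.Agent.Helper9.DirLimFactor
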