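import Mathlib
import Groth.Prelude.Def_CohTop
import Groth.Agent.Helper4.GV2
import Groth.Agent.Lead.CohTopB

/-!
# Dévissage to `ℤ_U`: the sheaf of integer valued functions and the concrete model of `ℤ_W`
-/

set_option autoImplicit false

namespace Groth.Agent.Helper9.DvZA

open CategoryTheory Limits TopologicalSpace Opposite
open Groth.Agent.Helper4.GV Groth.Agent.Lead.CohTopB

universe u
variable {X : TopCat.{u}}

/-- presheaf of all `ℤ`-valued functions -/
noncomputable def fnPresheaf (X : TopCat.{u}) : (Opens X)ᵒᵖ ⥤ AddCommGrpCat.{u} where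
  obj V := AddCommGrpCat.of (V.unop → ℤ)
  map {A B} i := AddCommGrpCat.ofHom
    { toFun := fun f y => f ⟨y.1, i.unop.le y.2⟩
      map_zero' := rfl
      map_add' := fun _ _ => rfl }
  map_id A := by
    ext f
    rfl
  map_comp i j := by
    ext f
    rfl

lemma fn_isSheaf : TopCat.Presheaf.IsSheaf (fnPresheaf X) := by
  rw [TopCat.Presheaf.isSheaf_iff_isSheafUniqueGluing]
  intro ι U sf hsf
  have hmem : ∀ y : (iSup U : Opens X), ∃ i, y.1 ∈ U i := fun y => Opens.mem_iSup.mp y.2
  choose idx hidx using hmem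
  refine ⟨fun y => sf (idx y) ⟨y.1, hidx y⟩, ?_, ?_⟩
  · intro i
    funext y
    have := congrFun (hsf (idx ⟨y.1, Opens.mem_iSup.mpr ⟨i, y.2⟩⟩) i)
      ⟨y.1, ⟨hidx ⟨y.1, Opens.mem_iSup.mpr ⟨i, y.2⟩⟩, y.2⟩⟩
    exact this
  · intro t ht
    funext y
    have := congrFun (ht (idx y)) ⟨y.1, hidx y⟩
    exact this

/-- the sheaf of all `ℤ`-valued functions -/
noncomputable def Fn (X : TopCat.{u}) : CohTop.Ab X := ⟨fnPresheaf X, fn_isSheaf⟩

lemma rs_Fn {V V' : Opens X} (h : V' ≤ V) (f : V → ℤ) (y : V') :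
    (rs (Fn X) h f : V' → ℤ) y = f ⟨y.1, h y.2⟩ := rfl

/-- locally constant functions vanishing outside `W` -/
noncomputable def E (W : Opens X) : LocPred (Fn X) where
  S V :=
    { carrier := {f : V → ℤ | ∀ y : V, (y.1 ∉ W → f y = 0) ∧
        ∃ N : Opens X, y.1 ∈ N ∧ ∀ z : V, z.1 ∈ N → f z = f y}
      zero_mem' := fun y => ⟨fun _ => rfl, ⊤, trivial, fun _ _ => rfl⟩
      add_mem' := by
        intro f f' hf hf' y
        obtain ⟨h0, N, hN, hc⟩ := hf y
        obtain ⟨h0', N', hN', hc'⟩ := hf' y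
        refine ⟨fun hy => ?_, N ⊓ N', ⟨hN, hN'⟩, fun z hz => ?_⟩
        · show f y + f' y = 0
          rw [h0 hy, h0' hy, add_zero]
        · show f z + f' z = f y + f' y
          rw [hc z hz.1, hc' z hz.2]
      neg_mem' := by
        intro f hf y
        obtain ⟨h0, N, hN, hc⟩ := hf y
        refine ⟨fun hy => ?_, N, hN, fun z hz => ?_⟩
        · show -f y = 0
          rw [h0 hy, neg_zero]
        · show -f z = -f y
          rw [hc z hz] }
  res := by
    intro V V' h f hf y
    obtain ⟨h0, N, hN, hc⟩ := hf ⟨y.1, h y.2⟩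
    exact ⟨fun hy => h0 hy, N, hN, fun z hz => hc ⟨z.1, h z.2⟩ hz⟩
  loc := by
    intro V f hf y
    obtain ⟨V', hV', hyV', hm⟩ := hf y.1 y.2
    obtain ⟨h0, N, hN, hc⟩ := hm ⟨y.1, hyV'⟩
    refine ⟨fun hy => h0 hy, N ⊓ V', ⟨hN, hyV'⟩, fun z hz => ?_⟩
    exact hc ⟨z.1, hz.2⟩ hz.1

lemma mem_E {W V : Opens X} (f : V → ℤ) :
    f ∈ (E W).S V ↔ ∀ y : V, (y.1 ∉ W → f y = 0) ∧
        ∃ N : Opens X, y.1 ∈ N ∧ ∀ z : V, z.1 ∈ N → f z = f y := Iff.rfl

lemma E_mono {W W' : Opens X} (h : W ≤ W') (V : Opens X) : (E W).S V ≤ (E W').S V := by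
  intro f hf y
  obtain ⟨h0, hN⟩ := hf y
  exact ⟨fun hy => h0 (fun hy' => hy (h hy')), hN⟩

/-- constant sections -/
noncomputable def cst (W : Opens X) {V : Opens X} (h : V ≤ W) (n : ℤ) : (E W).S V :=
  ⟨fun _ => n, fun y => ⟨fun hy => (hy (h y.2)).elim, ⊤, trivial, fun _ _ => rfl⟩⟩

/-- the presheaf `V ↦ ℤ[Hom(V, W)]` -/
noncomputable abbrev PW (W : Opens X) : (Opens X)ᵒᵖ ⥤ AddCommGrpCat.{u} :=
  yoneda.obj W ⋙ AddCommGrpCat.free.{u}

/-- the comparison map on sections -/
noncomputable def φapp (W V : Opens X) : FreeAbelianGroup (V ⟶ W) →+ (E W).S V :=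
  FreeAbelianGroup.lift (fun i => cst W i.le 1)

lemma φapp_of (W V : Opens X) (i : V ⟶ W) :
    φapp W V (FreeAbelianGroup.of i) = cst W i.le 1 := by
  simp [φapp]

/-- the comparison map `ℤ[Hom(-, W)] ⟶ E_W` -/
noncomputable def φ (W : Opens X) : PW W ⟶ (E W).sheaf.obj where
  app V := AddCommGrpCat.ofHom (φapp W V.unop)
  naturality A B j := by
    apply AddCommGrpCat.hom_ext
    apply FreeAbelianGroup.lift_ext
    intro i
    have h1 : (AddCommGrpCat.Hom.hom ((PW W).map j)) (FreeAbelianGroup.of i) =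
        FreeAbelianGroup.of (show (unop B ⟶ W) from j.unop ≫ i) := by
      show FreeAbelianGroup.map _ (FreeAbelianGroup.of i) = _
      rw [FreeAbelianGroup.map_of_apply]
      rfl
    show φapp W (unop B) ((AddCommGrpCat.Hom.hom ((PW W).map j)) (FreeAbelianGroup.of i)) =
      (E W).resHom j.unop.le (φapp W (unop A) (FreeAbelianGroup.of i))
    rw [h1, φapp_of, φapp_of]
    rfl

/-- the underlying function of a section of a subsheaf of `Fn` -/
def val {P : LocPred (Fn X)} {V : Opens X} (s : P.S V) : V → ℤ := s.1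

lemma val_injective {P : LocPred (Fn X)} {V : Opens X} : Function.Injective (val (P := P) (V := V)) :=
  Subtype.val_injective

/-- the augmentation -/
noncomputable def aug (W V : Opens X) : FreeAbelianGroup (V ⟶ W) →+ ℤ :=
  FreeAbelianGroup.lift (fun _ => (1 : ℤ))

lemma eval_φapp (W V : Opens X) (pt : V) (x : FreeAbelianGroup (V ⟶ W)) :
    val (φapp W V x) pt = aug W V x := by
  have : ((Pi.evalAddMonoidHom (fun _ : V => ℤ) pt).comp ((E W).S V).subtype).comp (φapp W V) =
      aug W V := by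
    apply FreeAbelianGroup.lift_ext
    intro i
    simp only [AddMonoidHom.comp_apply, φapp_of, aug, FreeAbelianGroup.lift_apply_of]
    rfl
  exact DFunLike.congr_fun this x

lemma eq_smul_of (W V : Opens X) (i₀ : V ⟶ W) (x : FreeAbelianGroup (V ⟶ W)) :
    x = aug W V x • FreeAbelianGroup.of i₀ := by
  induction x using FreeAbelianGroup.induction_on with
  | zero => simp
  | of i =>
    rw [Subsingleton.elim i i₀]
    simp [aug]
  | neg i ih =>
    rw [map_neg, neg_smul, ← ih]
  | add x y hx hy =>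
    rw [map_add, add_smul, ← hx, ← hy]

lemma eq_zero_of_isEmpty (W V : Opens X) (h : IsEmpty (V ⟶ W)) (x : FreeAbelianGroup (V ⟶ W)) :
    x = 0 := by
  induction x using FreeAbelianGroup.induction_on with
  | zero => rfl
  | of i => exact (h.false i).elim
  | neg i ih => exact (h.false i).elim
  | add x y hx hy => rw [hx, hy, add_zero]

lemma aug_injective (W V : Opens X) : Function.Injective (aug W V) := by
  intro x y hxy
  by_cases h : Nonempty (V ⟶ W)
  · obtain ⟨i₀⟩ := h
    rw [eq_smul_of W V i₀ x, eq_smul_of W V i₀ y, hxy]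
  · rw [not_nonempty_iff] at h
    rw [eq_zero_of_isEmpty W V h x, eq_zero_of_isEmpty W V h y]

instance (W : Opens X) : Presheaf.IsLocallyInjective (Opens.grothendieckTopology X) (φ W) where
  equalizerSieve_mem {A} x y hxy := by
    intro pt hpt
    have h1 : x = y := by
      apply aug_injective W A.unop
      have h2 := congrArg (fun s : (E W).S A.unop => val s ⟨pt, hpt⟩) hxy
      exact (eval_φapp W A.unop ⟨pt, hpt⟩ x).symm.trans (h2.trans (eval_φapp W A.unop ⟨pt, hpt⟩ y))
    exact ⟨A.unop, 𝟙 _, by rw [h1]; rfl, hpt⟩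

instance (W : Opens X) : Presheaf.IsLocallySurjective (Opens.grothendieckTopology X) (φ W) where
  imageSieve_mem {V} f := by
    intro pt hpt
    obtain ⟨h0, N, hN, hc⟩ := (show (E W).S V from f).2 ⟨pt, hpt⟩
    by_cases hW : pt ∈ W
    · refine ⟨(N ⊓ V) ⊓ W, homOfLE (inf_le_left.trans inf_le_right), ?_, ⟨⟨hN, hpt⟩, hW⟩⟩
      refine ⟨val (show (E W).S V from f) ⟨pt, hpt⟩ •
        FreeAbelianGroup.of (homOfLE (inf_le_right : (N ⊓ V) ⊓ W ≤ W)), ?_⟩
      apply val_injective
      funext z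
      show val (φapp W _ _) z = val (show (E W).S V from f) ⟨z.1, _⟩
      rw [eval_φapp, map_zsmul]
      have := hc ⟨z.1, z.2.1.2⟩ z.2.1.1
      change val (show (E W).S V from f) ⟨z.1, _⟩ = val (show (E W).S V from f) ⟨pt, hpt⟩ at this
      rw [this]
      simp [aug]
    · refine ⟨N ⊓ V, homOfLE inf_le_right, ?_, ⟨hN, hpt⟩⟩
      refine ⟨0, ?_⟩
      apply val_injective
      funext z
      show val (φapp W _ 0) z = val (show (E W).S V from f) ⟨z.1, _⟩
      have := hc ⟨z.1, z.2.2⟩ z.2.1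
      change val (show (E W).S V from f) ⟨z.1, _⟩ = val (show (E W).S V from f) ⟨pt, hpt⟩ at this
      rw [this]
      have h0' := h0 hW
      change val (show (E W).S V from f) ⟨pt, hpt⟩ = 0 at h0'
      rw [h0', map_zero]
      rfl

/-- **`ℤ_W` is the sheaf of locally constant functions vanishing outside `W`** -/
noncomputable def isoE (W : Opens X) : freeU W ≅ (E W).sheaf := by
  have hW : (Opens.grothendieckTopology X).W (φ W) :=
    GrothendieckTopology.W_of_isLocallyBijective _ _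
  haveI : IsIso ((presheafToSheaf (Opens.grothendieckTopology X) AddCommGrpCat.{u}).map (φ W)) :=
    (GrothendieckTopology.W_iff _ _).1 hW
  exact asIso ((presheafToSheaf (Opens.grothendieckTopology X) AddCommGrpCat.{u}).map (φ W)) ≪≫
    (sheafificationIso (E W).sheaf).symm

end Groth.Agent.Helper9.DvZA
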