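import Mathlib
import Groth.Prelude.Def_CohTop
import Groth.Agent.Helper4.GV4
import Groth.Agent.Helper1.ColimCoh

/-!
# Dévissage to `ℤ_U`: general tools
-/

set_option autoImplicit false

namespace Groth.Agent.Helper9.DvZB

open CategoryTheory Limits TopologicalSpace Opposite Abelian
open Groth.Agent.Helper4.GV

universe u
variable {X : TopCat.{u}}

lemma van_of_iso {F G : CohTop.Ab X} (e : F ≅ G) {n : ℕ} (h : Van F n) : Van G n := by
  intro p hp
  have := h p hp
  refine subsingleton_of_forall_eq 0 (fun x => ?_)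
  have h1 : x = (x.comp (Ext.mk₀ e.inv) (add_zero p)).comp (Ext.mk₀ e.hom) (add_zero p) := by
    rw [Ext.comp_assoc_of_third_deg_zero, Ext.mk₀_comp_mk₀, e.inv_hom_id, Ext.comp_mk₀_id]
  rw [h1, Subsingleton.elim (x.comp (Ext.mk₀ e.inv) (add_zero p)) 0, Ext.zero_comp]

lemma van_right {S : ShortComplex (CohTop.Ab X)} (hS : S.ShortExact) {m : ℕ}
    (h1 : Van S.X₁ (m + 1)) (h2 : Van S.X₂ m) : Van S.X₃ m := by
  intro p hp
  have := h1 (p + 1) (by omega)
  have := h2 p hp
  refine subsingleton_of_forall_eq 0 (fun x₃ => ?_)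
  obtain ⟨x₂, hx₂⟩ := Ext.covariant_sequence_exact₃ _ hS x₃ rfl (Subsingleton.elim _ _)
  rw [← hx₂, Subsingleton.elim x₂ 0, Ext.zero_comp]

open Groth.Agent.Helper1.MVTop in
/-- vanishing passes to directed colimits on a quasi-compact space with a good basis -/
lemma van_of_isColimit [CompactSpace X] [PrespectralSpace X] [QuasiSeparatedSpace X]
    {ι : Type u} [Preorder ι] [IsDirected ι (· ≤ ·)]
    [Nonempty ι] (D : ι ⥤ CohTop.Ab X) (c : Cocone D) (hc : IsColimit c) (n : ℕ)
    (h : ∀ i, Van (D.obj i) n) : Van c.pt n := by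
  intro p hp
  let Φ : CohTop.Ab X ⥤ AddCommGrpCat.{u} :=
    (Sheaf.cohomologyPresheafFunctor (Opens.grothendieckTopology X) p).flip.obj (op ⊤)
  have hpres : PreservesColimitsOfShape ι Φ := by
    constructor
    intro F
    have h : IsIso (colimit.post F Φ) :=
      Groth.Agent.Helper1.ColimCoh.isIso_post_ext ⊤ isCompact_univ p F
    exact preservesColimit_of_isIso_post _ _
  have hc' : IsColimit (Φ.mapCocone c) := isColimitOfPreserves Φ hc
  have hsub : Subsingleton (CohTop.HU c.pt p ⊤) := by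
    refine subsingleton_of_forall_eq 0 (fun x => ?_)
    obtain ⟨i, y, hy⟩ := Concrete.isColimit_exists_rep (D ⋙ Φ) hc' x
    have : Subsingleton (CohTop.HU (D.obj i) p ⊤) :=
      have := h i p hp
      (globEquiv (D.obj i) p).symm.toEquiv.subsingleton
    have hy0 : y = 0 := Subsingleton.elim (α := CohTop.HU (D.obj i) p ⊤) y 0
    rw [← hy, hy0, map_zero]
  exact (globEquiv c.pt p).toEquiv.subsingleton

attribute [local instance] IsFiltered.isConnected in
/-- a directed system of subsheaves which jointly locally exhaust a sheaf has this sheaf as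
colimit -/
theorem isColimit_of_mono_of_locSurj {ι : Type u} [Preorder ι] [IsDirected ι (· ≤ ·)] [Nonempty ι]
    (D : ι ⥤ CohTop.Ab X) (c : Cocone D) (hm : ∀ i, Mono (c.ι.app i))
    (hs : ∀ (V : Opens X) (s : c.pt.obj.obj (op V)) (x : X), x ∈ V →
      ∃ (N : Opens X) (hN : N ≤ V), x ∈ N ∧ ∃ (i : ι) (t : (D.obj i).obj.obj (op N)),
        ((c.ι.app i).hom.app (op N)).hom t = rs c.pt hN s) : Nonempty (IsColimit c) := by
  haveI : Mono c.ι := NatTrans.mono_of_mono_app c.ι
  have hmono : Mono (colimit.desc D c) :=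
    colim.map_mono' c.ι (colimit.isColimit D) (isColimitConstCocone ι c.pt) (colimit.desc D c)
      (fun j => by
        show colimit.ι D j ≫ colimit.desc D c = c.ι.app j ≫ 𝟙 _
        rw [colimit.ι_desc]
        exact (Category.comp_id _).symm)
  have hepi : Epi (colimit.desc D c) := by
    refine (TopCat.Sheaf.isLocallySurjective_iff_epi (colimit.desc D c)).1 ?_
    rw [TopCat.Presheaf.isLocallySurjective_iff]
    intro V s x hx
    obtain ⟨N, hN, hxN, i, t, ht⟩ := hs V s x hx
    refine ⟨N, hN, ⟨((colimit.ι D i).hom.app (op N)).hom t, ?_⟩, hxN⟩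
    refine Eq.trans ?_ ht
    have := congrArg (fun f : D.obj i ⟶ c.pt => (f.hom.app (op N)).hom t) (colimit.ι_desc c i)
    exact this
  haveI : IsIso ((colimit.isColimit D).desc c) := isIso_of_mono_of_epi (colimit.desc D c)
  exact ⟨IsColimit.ofPointIso (colimit.isColimit D)⟩

lemma injective_of_mono {F G : CohTop.Ab X} (f : F ⟶ G) [Mono f] (V : Opens X) :
    Function.Injective (f.hom.app (op V)).hom := by
  have h1 : Mono f.hom := (Sheaf.Hom.mono_iff_presheaf_mono _ _ f).1 inferInstance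
  have h2 : Mono (f.hom.app (op V)) := (NatTrans.mono_iff_mono_app f.hom).1 h1 (op V)
  exact (AddCommGrpCat.mono_iff_injective _).1 h2

lemma mono_of_injective {F G : CohTop.Ab X} (f : F ⟶ G)
    (h : ∀ V : Opens X, Function.Injective (f.hom.app (op V)).hom) : Mono f := by
  have : ∀ A, Mono (f.hom.app A) := fun A => by
    rw [AddCommGrpCat.mono_iff_injective]
    exact h A.unop
  have : Mono f.hom := NatTrans.mono_of_mono_app _
  exact Sheaf.Hom.mono_of_presheaf_mono _ _ _

lemma epi_of_locSurj {F G : CohTop.Ab X} (f : F ⟶ G)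
    (h : ∀ (V : Opens X) (c : G.obj.obj (op V)) (x : X), x ∈ V →
      ∃ (N : Opens X) (hN : N ≤ V), x ∈ N ∧ ∃ b : F.obj.obj (op N),
        (f.hom.app (op N)).hom b = rs G hN c) : Epi f := by
  refine (TopCat.Sheaf.isLocallySurjective_iff_epi f).1 ?_
  rw [TopCat.Presheaf.isLocallySurjective_iff]
  intro V s x hx
  obtain ⟨N, hN, hxN, b, hb⟩ := h V s x hx
  exact ⟨N, hN, ⟨b, hb⟩, hxN⟩

/-- short exactness can be checked on sections -/
theorem shortExact_of_sections (S : ShortComplex (CohTop.Ab X))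
    (h1 : ∀ V : Opens X, Function.Injective (S.f.hom.app (op V)).hom)
    (h2 : ∀ (V : Opens X) (b : S.X₂.obj.obj (op V)), (S.g.hom.app (op V)).hom b = 0 →
      ∃ a, (S.f.hom.app (op V)).hom a = b)
    (h3 : ∀ (V : Opens X) (c : S.X₃.obj.obj (op V)) (x : X), x ∈ V →
      ∃ (N : Opens X) (hN : N ≤ V), x ∈ N ∧ ∃ b : S.X₂.obj.obj (op N),
        (S.g.hom.app (op N)).hom b = rs S.X₃ hN c) : S.ShortExact := by
  haveI : Mono S.f := mono_of_injective S.f h1
  haveI : Epi S.g := epi_of_locSurj S.g h3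
  refine ShortComplex.ShortExact.mk ?_
  rw [S.exact_iff_epi_kernel_lift]
  apply epi_of_locSurj
  intro V κ x hx
  have hκ : (S.g.hom.app (op V)).hom (((kernel.ι S.g).hom.app (op V)).hom κ) = 0 :=
    comp_eq_zero_apply _ _ (kernel.condition S.g) V κ
  obtain ⟨a, ha⟩ := h2 V _ hκ
  refine ⟨V, le_rfl, hx, a, ?_⟩
  rw [rs_self]
  apply injective_of_mono (kernel.ι S.g) V
  rw [← ha, ← comp_hom_apply, kernel.lift_ι]

end Groth.Agent.Helper9.DvZB
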