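import Mathlib
import Groth.Prelude.Def_CohTop
import Groth.Agent.Helper9.DvZA
import Groth.Agent.Helper9.DvZB

/-!
# Dévissage to `ℤ_U`: `ℤ_W` for arbitrary opens
-/

set_option autoImplicit false

namespace Groth.Agent.Helper9.DvZC

open CategoryTheory Limits TopologicalSpace Opposite Abelian
open Groth.Agent.Helper4.GV Groth.Agent.Helper9.DvZA Groth.Agent.Helper9.DvZB

universe u
variable {X : TopCat.{u}}

/-- intersection of two local predicates -/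
def inf {F : CohTop.Ab X} (P Q : LocPred F) : LocPred F where
  S V := P.S V ⊓ Q.S V
  res h s hs := ⟨P.res h s hs.1, Q.res h s hs.2⟩
  loc V s hs :=
    ⟨P.loc V s (fun x hx => by
      obtain ⟨V', hV', hxV', hm⟩ := hs x hx
      exact ⟨V', hV', hxV', hm.1⟩),
     Q.loc V s (fun x hx => by
      obtain ⟨V', hV', hxV', hm⟩ := hs x hx
      exact ⟨V', hV', hxV', hm.2⟩)⟩

lemma inf_le_left' {F : CohTop.Ab X} (P Q : LocPred F) (V : Opens X) : (inf P Q).S V ≤ P.S V :=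
  fun _ hs => hs.1

lemma inf_le_right' {F : CohTop.Ab X} (P Q : LocPred F) (V : Opens X) : (inf P Q).S V ≤ Q.S V :=
  fun _ hs => hs.2

/-- membership in `E W'` only depends on the support -/
lemma mem_E_of {W W' V : Opens X} (f : V → ℤ) (hf : f ∈ (E W).S V)
    (h : ∀ y : V, f y ≠ 0 → y.1 ∈ W') : f ∈ (E W').S V := by
  intro y
  obtain ⟨-, hN⟩ := hf y
  refine ⟨fun hy => ?_, hN⟩
  by_contra h0
  exact hy (h y h0)

lemma mem_E_of_le {W W' V : Opens X} (f : V → ℤ) (hf : f ∈ (E W).S V) (h : V ≤ W') :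
    f ∈ (E W').S V :=
  mem_E_of f hf (fun y _ => h y.2)

/-- the constant function -/
def cfn (N : Opens X) (n : ℤ) : N → ℤ := fun _ => n

lemma rs_cfn {N N' : Opens X} (h : N' ≤ N) (n : ℤ) : rs (Fn X) h (cfn N n) = cfn N' n := rfl

lemma zsmul_cfn (N : Opens X) (c n : ℤ) :
    (c • (show (Fn X).obj.obj (op N) from cfn N n)) = cfn N (c * n) := by
  funext y
  show c • n = c * n
  simp

lemma cfn_mem_E {W N : Opens X} (h : N ≤ W) (n : ℤ) : cfn N n ∈ (E W).S N :=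
  (cst W h n).2

section

variable {P : LocPred (Fn X)} {W : Opens X} (hP : ∀ V, P.S V ≤ (E W).S V)

include hP in
/-- sections of a subsheaf of `ℤ_W` are locally constant sections of it -/
lemma exists_cfn {V : Opens X} (f : V → ℤ) (hf : f ∈ P.S V) (y : V) :
    ∃ (N : Opens X) (hN : N ≤ V), y.1 ∈ N ∧ rs (Fn X) hN f = cfn N (f y) ∧
      cfn N (f y) ∈ P.S N := by
  obtain ⟨-, N, hN, hc⟩ := hP V hf y
  have h1 : rs (Fn X) (inf_le_right : N ⊓ V ≤ V) f = cfn (N ⊓ V) (f y) := by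
    funext z
    exact hc ⟨z.1, z.2.2⟩ z.2.1
  refine ⟨N ⊓ V, inf_le_right, ⟨hN, y.2⟩, h1, ?_⟩
  rw [← h1]
  exact P.res _ f hf

end

/-- multiples of sections of `ℤ_{W₁}` when the constant `n` on `W₁` is a section of `P` -/
lemma zsmul_mem_of_cfn_mem {P : LocPred (Fn X)} {W₁ : Opens X} (n : ℤ)
    (hn : cfn W₁ n ∈ P.S W₁) {V : Opens X} (s : V → ℤ) (hs : s ∈ (E W₁).S V) :
    (n • (show (Fn X).obj.obj (op V) from s)) ∈ P.S V := by
  refine P.loc V _ (fun x hx => ?_)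
  obtain ⟨h0, N, hN, hc⟩ := hs ⟨x, hx⟩
  by_cases hxW : x ∈ W₁
  · refine ⟨(N ⊓ V) ⊓ W₁, inf_le_left.trans inf_le_right, ⟨⟨hN, hx⟩, hxW⟩, ?_⟩
    have h1 : rs (Fn X) (inf_le_left.trans inf_le_right : (N ⊓ V) ⊓ W₁ ≤ V)
        (n • (show (Fn X).obj.obj (op V) from s)) =
        s ⟨x, hx⟩ • rs (Fn X) (inf_le_right : (N ⊓ V) ⊓ W₁ ≤ W₁) (cfn W₁ n) := by
      funext z
      show n • s ⟨z.1, _⟩ = s ⟨x, hx⟩ • n
      rw [hc ⟨z.1, z.2.1.2⟩ z.2.1.1]
      simp [mul_comm]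
    rw [h1]
    exact zsmul_mem (P.res _ _ hn) _
  · refine ⟨N ⊓ V, inf_le_right, ⟨hN, hx⟩, ?_⟩
    have h1 : rs (Fn X) (inf_le_right : N ⊓ V ≤ V)
        (n • (show (Fn X).obj.obj (op V) from s)) = 0 := by
      funext z
      show n • s ⟨z.1, _⟩ = 0
      rw [hc ⟨z.1, z.2.2⟩ z.2.1, h0 hxW, smul_zero]
    rw [h1]
    exact zero_mem _

/-- multiplication by `n` as a morphism `ℤ_{W₁} ⟶ P` -/
noncomputable def mulHom {P : LocPred (Fn X)} {W₁ : Opens X} (n : ℤ)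
    (h : ∀ (V : Opens X) (s : V → ℤ), s ∈ (E W₁).S V →
      (n • (show (Fn X).obj.obj (op V) from s)) ∈ P.S V) : (E W₁).sheaf ⟶ P.sheaf :=
  ⟨{ app := fun A => AddCommGrpCat.ofHom
        { toFun := fun s => ⟨n • s.1, h A.unop s.1 s.2⟩
          map_zero' := Subtype.ext (smul_zero n)
          map_add' := fun s t => Subtype.ext (smul_add n s.1 t.1) }
     naturality := fun A B i => by
      ext s
      apply Subtype.ext
      exact (map_zsmul (rs (Fn X) i.unop.le) n s.1).symm }⟩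

lemma mulHom_apply {P : LocPred (Fn X)} {W₁ : Opens X} (n : ℤ)
    (h : ∀ (V : Opens X) (s : V → ℤ), s ∈ (E W₁).S V →
      (n • (show (Fn X).obj.obj (op V) from s)) ∈ P.S V) (V : Opens X) (s : (E W₁).S V) :
    (((mulHom n h).hom.app (op V)).hom s).1 = n • s.1 := rfl

section ClaimA

/-- index: quasi-compact opens inside `W` -/
abbrev QC (W : Opens X) : Type u := {V : Opens X // IsCompact (V : Set X) ∧ V ≤ W}

instance (W : Opens X) : IsDirected (QC W) (· ≤ ·) :=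
  ⟨fun a b => ⟨⟨a.1 ⊔ b.1, by rw [Opens.coe_sup]; exact a.2.1.union b.2.1, sup_le a.2.2 b.2.2⟩,
    (le_sup_left : a.1 ≤ a.1 ⊔ b.1), (le_sup_right : b.1 ≤ a.1 ⊔ b.1)⟩⟩

instance (W : Opens X) : Nonempty (QC W) := ⟨⟨⊥, by simp, bot_le⟩⟩

/-- the diagram of the `ℤ_V`, `V ⊆ W` quasi-compact -/
noncomputable def DA (W : Opens X) : QC W ⥤ CohTop.Ab X where
  obj V := (E V.1).sheaf
  map {V V'} h := LocPred.incl (E V.1) (E V'.1) (E_mono (leOfHom h))
  map_id V := by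
    apply Sheaf.hom_ext
    ext A s
    rfl
  map_comp h h' := by
    apply Sheaf.hom_ext
    ext A s
    rfl

/-- the cocone with point `ℤ_W` -/
noncomputable def cA (W : Opens X) : Cocone (DA W) where
  pt := (E W).sheaf
  ι :=
    { app := fun V => LocPred.incl (E V.1) (E W) (E_mono V.2.2)
      naturality := fun V V' h => by
        apply Sheaf.hom_ext
        ext A s
        rfl }

lemma incl_injective {F : CohTop.Ab X} (P Q : LocPred F) (h : ∀ W, P.S W ≤ Q.S W) (V : Opens X) :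
    Function.Injective ((LocPred.incl P Q h).hom.app (op V)).hom := by
  intro s t hst
  apply Subtype.ext
  exact congrArg (fun z : Q.S V => z.1) hst

instance mono_incl {F : CohTop.Ab X} (P Q : LocPred F) (h : ∀ W, P.S W ≤ Q.S W) :
    Mono (LocPred.incl P Q h) :=
  mono_of_injective _ (incl_injective P Q h)

variable [PrespectralSpace X]

theorem nonempty_isColimit_cA (W : Opens X) : Nonempty (IsColimit (cA W)) := by
  refine isColimit_of_mono_of_locSurj (DA W) (cA W) (fun V => ?_) ?_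
  · exact mono_incl (E V.1) (E W) (E_mono V.2.2)
  · intro V s x hx
    obtain ⟨h0, N, hN, hc⟩ := (show (E W).S V from s).2 ⟨x, hx⟩
    by_cases hxW : x ∈ W
    · obtain ⟨Q, ⟨hQo, hQc⟩, hxQ, hQ⟩ :=
        PrespectralSpace.isTopologicalBasis.exists_subset_of_mem_open
          (show x ∈ (((N ⊓ V) ⊓ W : Opens X) : Set X) from ⟨⟨hN, hx⟩, hxW⟩) ((N ⊓ V) ⊓ W).isOpen
      let Q' : Opens X := ⟨Q, hQo⟩
      have hQV : Q' ≤ V := fun z hz => (hQ hz).1.2
      have hQW : Q' ≤ W := fun z hz => (hQ hz).2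
      refine ⟨Q', hQV, hxQ, ⟨Q', hQc, hQW⟩, ⟨rs (Fn X) hQV (show (E W).S V from s).1, ?_⟩, ?_⟩
      · exact mem_E_of_le _ ((E W).res hQV _ (show (E W).S V from s).2) le_rfl
      · rfl
    · refine ⟨N ⊓ V, inf_le_right, ⟨hN, hx⟩, ⟨⊥, by simp, bot_le⟩, 0, ?_⟩
      apply Subtype.ext
      funext z
      have h1 := hc ⟨z.1, z.2.2⟩ z.2.1
      have h2 := h0 hxW
      exact (h1.trans h2).symm

variable [CompactSpace X] [QuasiSeparatedSpace X]

/-- **Claim A**: vanishing for `ℤ_W`, `W` any open -/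
theorem van_E (m : ℕ) (hqc : ∀ U : Opens X, IsCompact (U : Set X) → Van (E U).sheaf m)
    (W : Opens X) : Van (E W).sheaf m := by
  obtain ⟨hc⟩ := nonempty_isColimit_cA W
  exact van_of_isColimit (DA W) (cA W) hc m (fun V => hqc V.1 V.2.1)

end ClaimA

section ClaimC

variable (P : LocPred (Fn X))

/-- the open set where the constant `n` is a section of `P` -/
def Un (n : ℕ) : Opens X := sSup {N | cfn N (n : ℤ) ∈ P.S N}

/-- the open set where some constant `1 ≤ n ≤ k` is a section of `P` -/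
def On (k : ℕ) : Opens X := sSup {N | ∃ n : ℕ, 1 ≤ n ∧ n ≤ k ∧ cfn N (n : ℤ) ∈ P.S N}

variable {P}

lemma mem_Un {n : ℕ} {x : X} : x ∈ Un P n ↔ ∃ N : Opens X, cfn N (n : ℤ) ∈ P.S N ∧ x ∈ N :=
  Opens.mem_sSup

lemma mem_On {k : ℕ} {x : X} :
    x ∈ On P k ↔ ∃ N : Opens X, (∃ n : ℕ, 1 ≤ n ∧ n ≤ k ∧ cfn N (n : ℤ) ∈ P.S N) ∧ x ∈ N :=
  Opens.mem_sSup

lemma le_Un {n : ℕ} {N : Opens X} (h : cfn N (n : ℤ) ∈ P.S N) : N ≤ Un P n :=
  fun _ hx => mem_Un.2 ⟨N, h, hx⟩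

lemma Un_le_On {n k : ℕ} (h1 : 1 ≤ n) (h2 : n ≤ k) : Un P n ≤ On P k := by
  intro x hx
  obtain ⟨N, hN, hxN⟩ := mem_Un.1 hx
  exact mem_On.2 ⟨N, ⟨n, h1, h2, hN⟩, hxN⟩

lemma On_mono {k k' : ℕ} (h : k ≤ k') : On P k ≤ On P k' := by
  intro x hx
  obtain ⟨N, ⟨n, h1, h2, hN⟩, hxN⟩ := mem_On.1 hx
  exact mem_On.2 ⟨N, ⟨n, h1, h2.trans h, hN⟩, hxN⟩

lemma On_zero : On P 0 = ⊥ := by
  rw [eq_bot_iff]
  intro x hx
  obtain ⟨N, ⟨n, h1, h2, -⟩, -⟩ := mem_On.1 hx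
  omega

lemma mem_On_succ {k : ℕ} {x : X} (hx : x ∈ On P (k + 1)) : x ∈ On P k ∨ x ∈ Un P (k + 1) := by
  obtain ⟨N, ⟨n, h1, h2, hN⟩, hxN⟩ := mem_On.1 hx
  by_cases h : n ≤ k
  · exact Or.inl (mem_On.2 ⟨N, ⟨n, h1, h, hN⟩, hxN⟩)
  · have : n = k + 1 := by omega
    subst this
    exact Or.inr (mem_Un.2 ⟨N, hN, hxN⟩)

/-- the constant `n` is a section of `P` over `Un P n` -/
lemma cfn_mem_Un (n : ℕ) : cfn (Un P n) (n : ℤ) ∈ P.S (Un P n) := by
  refine P.loc _ _ (fun x hx => ?_)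
  obtain ⟨N, hN, hxN⟩ := mem_Un.1 hx
  exact ⟨N, le_Un hN, hxN, hN⟩

variable (P) in
/-- the sections of `P` vanishing outside `On P k` -/
noncomputable def K (k : ℕ) : LocPred (Fn X) := inf P (E (On P k))

lemma K_mono {k k' : ℕ} (h : k ≤ k') (V : Opens X) : (K P k).S V ≤ (K P k').S V :=
  fun _ hs => ⟨hs.1, E_mono (On_mono h) V hs.2⟩

lemma isZero_K_zero : IsZero (K P 0).sheaf := by
  apply isZero_of_forall_eq_zero
  intro V s
  apply Subtype.ext
  funext y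
  have h := s.2.2 y
  rw [On_zero] at h
  exact h.1 (fun h' => h')

end ClaimC

end Groth.Agent.Helper9.DvZC
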