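import Mathlib
import Groth.Prelude.Def_CohTop
import Groth.Agent.Helper9.DvZC

/-!
# Dévissage to `ℤ_U`: subsheaves of `ℤ_W`
-/

set_option autoImplicit false

namespace Groth.Agent.Helper9.DvZD

open CategoryTheory Limits TopologicalSpace Opposite Abelian
open Groth.Agent.Helper4.GV Groth.Agent.Helper9.DvZA Groth.Agent.Helper9.DvZB
open Groth.Agent.Helper9.DvZC

universe u
variable {X : TopCat.{u}} (P : LocPred (Fn X))

/-- the inclusion `K k ⟶ K (k+1)` -/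
noncomputable abbrev iK (k : ℕ) : (K P k).sheaf ⟶ (K P (k + 1)).sheaf :=
  LocPred.incl _ _ (K_mono (Nat.le_succ k))

/-- `0 → K k → K (k+1) → Q → 0` -/
noncomputable def S1 (k : ℕ) : ShortComplex (CohTop.Ab X) :=
  ShortComplex.mk (iK P k) (cokernel.π (iK P k)) (cokernel.condition _)

lemma S1_shortExact (k : ℕ) : (S1 P k).ShortExact where
  exact := ShortComplex.exact_cokernel _
  mono_f := by dsimp [S1]; infer_instance
  epi_g := by dsimp [S1]; infer_instance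

lemma mul_mem (k : ℕ) (V : Opens X) (s : V → ℤ) (hs : s ∈ (E (Un P (k + 1))).S V) :
    ((((k + 1 : ℕ) : ℤ)) • (show (Fn X).obj.obj (op V) from s)) ∈ (K P (k + 1)).S V :=
  ⟨zsmul_mem_of_cfn_mem _ (cfn_mem_Un (k + 1)) s hs,
    zsmul_mem (E_mono (Un_le_On (by omega) le_rfl) V hs) _⟩

/-- multiplication by `k + 1` from `ℤ_{U_{k+1}}` to `K (k+1)` -/
noncomputable def μ (k : ℕ) : (E (Un P (k + 1))).sheaf ⟶ (K P (k + 1)).sheaf :=
  mulHom (((k + 1 : ℕ) : ℤ)) (mul_mem P k)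

/-- the open `U_{k+1} ∩ O_k` -/
abbrev W2 (k : ℕ) : Opens X := Un P (k + 1) ⊓ On P k

lemma mul_mem' (k : ℕ) (V : Opens X) (s : V → ℤ) (hs : s ∈ (E (W2 P k)).S V) :
    ((((k + 1 : ℕ) : ℤ)) • (show (Fn X).obj.obj (op V) from s)) ∈ (K P k).S V :=
  ⟨zsmul_mem_of_cfn_mem _ (cfn_mem_Un (k + 1)) s (E_mono inf_le_left V hs),
    zsmul_mem (E_mono inf_le_right V hs) _⟩

/-- multiplication by `k + 1` from `ℤ_{U_{k+1} ∩ O_k}` to `K k` -/
noncomputable def μ' (k : ℕ) : (E (W2 P k)).sheaf ⟶ (K P k).sheaf :=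
  mulHom (((k + 1 : ℕ) : ℤ)) (mul_mem' P k)

/-- the inclusion `ℤ_{U_{k+1} ∩ O_k} ⟶ ℤ_{U_{k+1}}` -/
noncomputable abbrev jW (k : ℕ) : (E (W2 P k)).sheaf ⟶ (E (Un P (k + 1))).sheaf :=
  LocPred.incl (E (W2 P k)) (E (Un P (k + 1))) (E_mono inf_le_left)

lemma comm (k : ℕ) : jW P k ≫ μ P k = μ' P k ≫ iK P k := by
  apply Sheaf.hom_ext
  ext A s
  rfl

/-- `0 → ℤ_{U_{k+1} ∩ O_k} → ℤ_{U_{k+1}} → Q → 0` -/
noncomputable def S2 (k : ℕ) : ShortComplex (CohTop.Ab X) :=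
  ShortComplex.mk (jW P k) (μ P k ≫ cokernel.π (iK P k)) (by
    rw [← Category.assoc, comm, Category.assoc, cokernel.condition, comp_zero])

variable {P}

/-- Bezout for constant sections -/
lemma cfn_gcd_mem {N : Opens X} {a b : ℤ} (ha : cfn N a ∈ P.S N) (hb : cfn N b ∈ P.S N) :
    cfn N ((Int.gcd a b : ℕ) : ℤ) ∈ P.S N := by
  have h1 : cfn N ((Int.gcd a b : ℕ) : ℤ) =
      Int.gcdA a b • (show (Fn X).obj.obj (op N) from cfn N a) +
        Int.gcdB a b • (show (Fn X).obj.obj (op N) from cfn N b) := by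
    funext y
    show ((Int.gcd a b : ℕ) : ℤ) = Int.gcdA a b • a + Int.gcdB a b • b
    rw [Int.gcd_eq_gcd_ab a b]
    simp [mul_comm]
  rw [h1]
  exact add_mem (zsmul_mem ha _) (zsmul_mem hb _)

lemma π_iK_apply (k : ℕ) (V : Opens X) (t : (K P k).S V) :
    ((cokernel.π (iK P k)).hom.app (op V)).hom (((iK P k).hom.app (op V)).hom t) = 0 :=
  comp_eq_zero_apply _ _ (cokernel.condition (iK P k)) V t

lemma zsmul_apply {V : Opens X} (n : ℤ) (f : V → ℤ) (y : V) :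
    (show V → ℤ from (n • (show (Fn X).obj.obj (op V) from f))) y = n * f y := by
  show n • f y = n * f y
  simp

lemma h2_aux (k : ℕ) (V : Opens X) (b : (E (Un P (k + 1))).S V)
    (hb : ((cokernel.π (iK P k)).hom.app (op V)).hom (((μ P k).hom.app (op V)).hom b) = 0) :
    b.1 ∈ (E (W2 P k)).S V := by
  obtain ⟨t, ht⟩ : ∃ t : (K P k).S V,
      ((iK P k).hom.app (op V)).hom t = ((μ P k).hom.app (op V)).hom b :=
    TopCat.Sheaf.sections_exact_of_left_exact (S1_shortExact P k).exact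
      (S1_shortExact P k).mono_f (((μ P k).hom.app (op V)).hom b) hb
  have h1 : ((((k + 1 : ℕ) : ℤ)) • b.1) ∈ (E (On P k)).S V := by
    have h2 : t.1 = (((k + 1 : ℕ) : ℤ)) • b.1 := by
      have h3 := congrArg Subtype.val ht
      rw [LocPred.incl_app_apply] at h3
      exact h3.trans (mulHom_apply _ (mul_mem P k) V b)
    rw [← h2]
    exact t.2.2
  refine mem_E_of (W := Un P (k + 1)) (show V → ℤ from b.1) b.2 (fun y hy => ⟨?_, ?_⟩)
  · by_contra hyU
    exact hy ((b.2 y).1 hyU)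
  · by_contra hyO
    have h4 : ((k + 1 : ℕ) : ℤ) * val b y = 0 := (h1 y).1 hyO
    rw [mul_eq_zero] at h4
    rcases h4 with h4 | h4
    · have : ((k + 1 : ℕ) : ℤ) ≠ 0 := by positivity
      exact this h4
    · exact hy h4

lemma h3_aux (k : ℕ) (V : Opens X) (c : (cokernel (iK P k)).obj.obj (op V)) (x : X) (hx : x ∈ V) :
    ∃ (N : Opens X) (hN : N ≤ V), x ∈ N ∧ ∃ b : (E (Un P (k + 1))).S N,
      ((cokernel.π (iK P k)).hom.app (op N)).hom (((μ P k).hom.app (op N)).hom b) =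
        rs (cokernel (iK P k)) hN c := by
  obtain ⟨N, hN, hxN, y, hy⟩ := exists_local_lift (cokernel.π (iK P k)) c x hx
  obtain ⟨y, hy⟩ : ∃ y : (K P (k + 1)).S N,
      ((cokernel.π (iK P k)).hom.app (op N)).hom y = rs (cokernel (iK P k)) hN c := ⟨y, hy⟩
  obtain ⟨N₁, hN₁, hxN₁, hc, hmem⟩ := exists_cfn (P := K P (k + 1)) (W := On P (k + 1))
    (inf_le_right' _ _) (val y) y.2 ⟨x, hxN⟩
  generalize hc₀ : val y ⟨x, hxN⟩ = c₀ at hc hmem
  have key : ∀ (N' : Opens X) (h' : N' ≤ N₁),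
      rs (cokernel (iK P k)) (h'.trans (hN₁.trans hN)) c =
        ((cokernel.π (iK P k)).hom.app (op N')).hom
          (⟨cfn N' c₀, (K P (k + 1)).res h' _ hmem⟩ : (K P (k + 1)).S N') := by
    intro N' h'
    rw [← rs_rs (cokernel (iK P k)) hN (h'.trans hN₁) c, ← hy,
      ← hom_rs (cokernel.π (iK P k)) (h'.trans hN₁) y]
    congr 1
    apply Subtype.ext
    show rs (Fn X) (h'.trans hN₁) y.1 = cfn N' c₀
    rw [← rs_rs (Fn X) hN₁ h']
    exact congrArg (rs (Fn X) h') hc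
  have h0 : ∀ N' : Opens X, ((cokernel.π (iK P k)).hom.app (op N')).hom
      (((μ P k).hom.app (op N')).hom (0 : (E (Un P (k + 1))).S N')) = 0 := fun N' => by
    have h1 : ((μ P k).hom.app (op N')).hom (0 : (E (Un P (k + 1))).S N') = 0 :=
      map_zero ((μ P k).hom.app (op N')).hom
    rw [h1]
    exact map_zero _
  by_cases hxO : x ∈ On P k
  · refine ⟨N₁ ⊓ On P k, inf_le_left.trans (hN₁.trans hN), ⟨hxN₁, hxO⟩, 0, ?_⟩
    rw [h0, key _ inf_le_left]
    have hk : cfn (N₁ ⊓ On P k) c₀ ∈ (K P k).S (N₁ ⊓ On P k) :=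
      ⟨((K P (k + 1)).res inf_le_left _ hmem).1,
        mem_E_of_le _ ((K P (k + 1)).res inf_le_left _ hmem).2 inf_le_right⟩
    exact (π_iK_apply k _ ⟨_, hk⟩).symm
  · by_cases hc0 : c₀ = 0
    · refine ⟨N₁, hN₁.trans hN, hxN₁, 0, ?_⟩
      rw [h0, key _ le_rfl]
      subst hc0
      have : (⟨cfn N₁ 0, (K P (k + 1)).res le_rfl _ hmem⟩ : (K P (k + 1)).S N₁) = 0 :=
        Subtype.ext rfl
      rw [this]
      exact (map_zero ((cokernel.π (iK P k)).hom.app (op N₁)).hom).symm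
    · have hxO1 : x ∈ On P (k + 1) := by
        by_contra h
        exact hc0 (hc₀.symm.trans ((y.2.2 ⟨x, hxN⟩).1 h))
      have hxU : x ∈ Un P (k + 1) := (mem_On_succ hxO1).resolve_left hxO
      obtain ⟨N₃, hN₃, hxN₃⟩ := mem_Un.1 hxU
      have ha : cfn (N₁ ⊓ N₃) c₀ ∈ P.S (N₁ ⊓ N₃) := ((K P (k + 1)).res inf_le_left _ hmem).1
      have hb : cfn (N₁ ⊓ N₃) ((k + 1 : ℕ) : ℤ) ∈ P.S (N₁ ⊓ N₃) := P.res inf_le_right _ hN₃
      have hg := cfn_gcd_mem ha hb
      have hg1 : 1 ≤ Int.gcd c₀ ((k + 1 : ℕ) : ℤ) := Int.gcd_pos_of_ne_zero_left _ hc0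
      have hgd : Int.gcd c₀ ((k + 1 : ℕ) : ℤ) ∣ k + 1 :=
        Int.natCast_dvd_natCast.1 (Int.gcd_dvd_right c₀ ((k + 1 : ℕ) : ℤ))
      have hgk : Int.gcd c₀ ((k + 1 : ℕ) : ℤ) = k + 1 := by
        by_contra hne
        have h1 := Nat.le_of_dvd (Nat.succ_pos k) hgd
        have h2 : Int.gcd c₀ ((k + 1 : ℕ) : ℤ) ≤ k := by omega
        exact hxO (Un_le_On hg1 h2 (le_Un hg ⟨hxN₁, hxN₃⟩))
      obtain ⟨q, hq⟩ : ((k + 1 : ℕ) : ℤ) ∣ c₀ := by
        have := Int.gcd_dvd_left c₀ ((k + 1 : ℕ) : ℤ)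
        rwa [hgk] at this
      refine ⟨N₁ ⊓ N₃, inf_le_left.trans (hN₁.trans hN), ⟨hxN₁, hxN₃⟩,
        cst (Un P (k + 1)) (inf_le_right.trans (le_Un hN₃)) q, ?_⟩
      rw [key _ inf_le_left]
      congr 1
      apply Subtype.ext
      funext z
      show ((k + 1 : ℕ) : ℤ) • q = c₀
      rw [hq]
      simp

theorem S2_shortExact (k : ℕ) : (S2 P k).ShortExact := by
  refine shortExact_of_sections (S2 P k) ?_ ?_ ?_
  · exact incl_injective (E (W2 P k)) (E (Un P (k + 1))) (E_mono inf_le_left)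
  · intro V b hb
    exact ⟨⟨_, h2_aux k V b hb⟩, rfl⟩
  · intro V c x hx
    exact h3_aux k V c x hx

/-- vanishing for the `K k` -/
theorem van_K (m : ℕ) (hE : ∀ W : Opens X, Van (E W).sheaf m) : ∀ k : ℕ, Van (K P k).sheaf m
  | 0 => van_of_isZero isZero_K_zero m
  | k + 1 =>
    van_mid (S1_shortExact P k) (van_K m hE k)
      (van_right (S2_shortExact k) ((hE (W2 P k)).mono (Nat.le_succ m)) (hE (Un P (k + 1))))

/-- the diagram of the `K k` -/
noncomputable def DK (P : LocPred (Fn X)) : ULift.{u} ℕ ⥤ CohTop.Ab X where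
  obj i := (K P i.down).sheaf
  map {i j} h := LocPred.incl (K P i.down) (K P j.down)
    (K_mono (show i.down ≤ j.down from (leOfHom h : i ≤ j)))
  map_id i := by
    apply Sheaf.hom_ext
    ext A s
    rfl
  map_comp h h' := by
    apply Sheaf.hom_ext
    ext A s
    rfl

/-- the cocone with point `P` -/
noncomputable def cK (P : LocPred (Fn X)) : Cocone (DK P) where
  pt := P.sheaf
  ι :=
    { app := fun i => LocPred.incl (K P i.down) P (inf_le_left' _ _)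
      naturality := fun i j h => by
        apply Sheaf.hom_ext
        ext A s
        rfl }

instance : IsDirected (ULift.{u} ℕ) (· ≤ ·) :=
  ⟨fun a b => ⟨⟨max a.down b.down⟩, le_max_left a.down b.down, le_max_right a.down b.down⟩⟩

theorem nonempty_isColimit_cK {W : Opens X} (hP : ∀ V, P.S V ≤ (E W).S V) :
    Nonempty (IsColimit (cK P)) := by
  refine isColimit_of_mono_of_locSurj (DK P) (cK P) (fun i => ?_) ?_
  · exact mono_incl (K P i.down) P (inf_le_left' _ _)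
  · intro V s x hx
    obtain ⟨s, rfl⟩ : ∃ s' : P.S V, s = s' := ⟨s, rfl⟩
    obtain ⟨N₁, hN₁, hxN₁, hc, hmem⟩ := exists_cfn hP (val s) s.2 ⟨x, hx⟩
    generalize val s ⟨x, hx⟩ = c₀ at hc hmem
    have hmem' : cfn N₁ ((c₀.natAbs : ℕ) : ℤ) ∈ P.S N₁ := by
      rcases Int.natAbs_eq c₀ with h | h
      · rw [← h]
        exact hmem
      · have h1 : cfn N₁ ((c₀.natAbs : ℕ) : ℤ) = -(show (Fn X).obj.obj (op N₁) from cfn N₁ c₀) := by
          funext z
          show ((c₀.natAbs : ℕ) : ℤ) = -c₀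
          omega
        rw [h1]
        exact neg_mem hmem
    refine ⟨N₁, hN₁, hxN₁, ⟨c₀.natAbs⟩, ⟨rs (Fn X) hN₁ s.1, P.res hN₁ _ s.2, ?_⟩, rfl⟩
    have h2 : rs (Fn X) hN₁ s.1 = cfn N₁ c₀ := hc
    rw [h2]
    by_cases h0 : c₀ = 0
    · subst h0
      exact zero_mem _
    · have h3 : N₁ ≤ On P c₀.natAbs :=
        (le_Un hmem').trans (Un_le_On (Int.natAbs_pos.2 h0) le_rfl)
      exact mem_E_of_le _ (cfn_mem_E le_rfl c₀) h3

/-- **Claim C**: vanishing for subsheaves of `ℤ_W` -/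
theorem van_sub [CompactSpace X] [PrespectralSpace X] [QuasiSeparatedSpace X] (m : ℕ)
    (hE : ∀ W : Opens X, Van (E W).sheaf m) {W : Opens X} (hP : ∀ V, P.S V ≤ (E W).S V) :
    Van P.sheaf m := by
  obtain ⟨hc⟩ := nonempty_isColimit_cK hP
  exact van_of_isColimit (DK P) (cK P) hc m (fun i => van_K m hE i.down)

end Groth.Agent.Helper9.DvZD
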