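import Mathlib
import Groth.Prelude.Def_CohTop
import Groth.Agent.Helper9.DvZD
import Groth.Agent.Helper4.GV5
import Groth.Agent.Helper1.CohTopExt

/-!
# Dévissage to `ℤ_U`: quotients of `ℤ_W`, finitely generated sheaves, all sheaves
-/

set_option autoImplicit false

namespace Groth.Agent.Helper9.DvZE

open CategoryTheory Limits TopologicalSpace Opposite Abelian
open Groth.Agent.Helper4.GV Groth.Agent.Helper9.DvZA Groth.Agent.Helper9.DvZB
open Groth.Agent.Helper9.DvZC Groth.Agent.Helper9.DvZD Groth.Agent.Lead.CohTopB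

universe u
variable {X : TopCat.{u}}

section quot

variable {W : Opens X} {Q : CohTop.Ab X} (π : (E W).sheaf ⟶ Q)

/-- the kernel of a morphism out of `ℤ_W`, as a subsheaf of the sheaf of functions -/
noncomputable def kerPred : LocPred (Fn X) where
  S V := (AddMonoidHom.ker (π.hom.app (op V)).hom).map ((E W).S V).subtype
  res := by
    rintro V V' h _ ⟨s, hs, rfl⟩
    refine ⟨(E W).resHom h s, ?_, rfl⟩
    have h1 : (π.hom.app (op V')).hom ((E W).resHom h s) = rs Q h ((π.hom.app (op V)).hom s) :=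
      hom_rs π h s
    show (π.hom.app (op V')).hom ((E W).resHom h s) = 0
    rw [h1, (show (π.hom.app (op V)).hom s = 0 from hs), map_zero]
  loc := by
    intro V f hf
    have hfE : f ∈ (E W).S V := (E W).loc V f (fun x hx => by
      obtain ⟨V', hV', hxV', s, -, hfs⟩ := hf x hx
      refine ⟨V', hV', hxV', ?_⟩
      rw [← hfs]
      exact s.2)
    refine ⟨⟨f, hfE⟩, ?_, rfl⟩
    show (π.hom.app (op V)).hom ⟨f, hfE⟩ = 0
    apply eq_zero_of_locally Q
    intro x hx
    obtain ⟨V', hV', hxV', s, hs, hfs⟩ := hf x hx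
    refine ⟨V', hV', hxV', ?_⟩
    have h1 : rs Q hV' ((π.hom.app (op V)).hom ⟨f, hfE⟩) =
        (π.hom.app (op V')).hom ((E W).resHom hV' ⟨f, hfE⟩) := (hom_rs π hV' ⟨f, hfE⟩).symm
    rw [h1]
    have h2 : (E W).resHom hV' ⟨f, hfE⟩ = s := Subtype.ext hfs.symm
    rw [h2]
    exact hs

lemma kerPred_le (V : Opens X) : (kerPred π).S V ≤ (E W).S V := by
  rintro _ ⟨s, -, rfl⟩
  exact s.2

lemma kerPred_zero : LocPred.incl (kerPred π) (E W) (kerPred_le π) ≫ π = 0 := by
  apply Sheaf.hom_ext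
  ext A t
  obtain ⟨s, hs, hst⟩ := t.2
  have h1 : ((LocPred.incl (kerPred π) (E W) (kerPred_le π)).hom.app A).hom t = s :=
    Subtype.ext hst.symm
  show (π.hom.app A).hom (((LocPred.incl (kerPred π) (E W) (kerPred_le π)).hom.app A).hom t) = 0
  rw [h1]
  exact hs

/-- `0 → ker π → ℤ_W → Q → 0` -/
noncomputable def S3 : ShortComplex (CohTop.Ab X) :=
  ShortComplex.mk (LocPred.incl (kerPred π) (E W) (kerPred_le π)) π (kerPred_zero π)

theorem S3_shortExact [Epi π] : (S3 π).ShortExact := by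
  refine shortExact_of_sections (S3 π) ?_ ?_ ?_
  · exact incl_injective (kerPred π) (E W) (kerPred_le π)
  · intro V b hb
    obtain ⟨b, rfl⟩ : ∃ b' : (E W).S V, b = b' := ⟨b, rfl⟩
    exact ⟨⟨b.1, ⟨b, hb, rfl⟩⟩, rfl⟩
  · intro V c x hx
    obtain ⟨N, hN, hxN, a, ha⟩ := exists_local_lift π c x hx
    exact ⟨N, hN, hxN, a, ha⟩

/-- vanishing for quotients of `ℤ_W` -/
theorem van_quot [CompactSpace X] [PrespectralSpace X] [QuasiSeparatedSpace X] (m : ℕ)
    (hE : ∀ W : Opens X, Van (E W).sheaf m) [Epi π] : Van Q m :=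
  van_right (S3_shortExact π) ((van_sub m hE (kerPred_le π)).mono (Nat.le_succ m)) (hE W)

end quot

section fg

variable (F : CohTop.Ab X)

lemma genAt_le (β : Set (Gens F)) (N : Opens X) : GenAt F β N ≤ (genPred F β).S N := by
  intro z hz x hx
  exact ⟨N, le_rfl, hx, by rw [rs_self]; exact hz⟩

lemma isZero_genPred_empty : IsZero (genPred F (∅ : Set (Gens F))).sheaf := by
  apply isZero_of_forall_eq_zero
  intro V s
  apply Subtype.ext
  apply eq_zero_of_locally F
  intro x hx
  obtain ⟨N, hN, hxN, h0⟩ := s.2 x hx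
  refine ⟨N, hN, hxN, ?_⟩
  have h1 : GenAt F (∅ : Set (Gens F)) N = ⊥ := by
    rw [GenAt, eq_bot_iff]
    apply (AddSubgroup.closure_le _).2
    rintro _ ⟨g, hg, -⟩
    exact (Set.notMem_empty g hg).elim
  rw [h1] at h0
  exact (AddSubgroup.mem_bot).1 h0

variable {F}

/-- the inclusion of the subsheaf generated by `β` into the one generated by `insert g β` -/
noncomputable abbrev iG (β : Set (Gens F)) (g : Gens F) :
    (genPred F β).sheaf ⟶ (genPred F (insert g β)).sheaf :=
  LocPred.incl _ _ (genPred_mono F (Set.subset_insert g β))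

/-- the generator `g` as a section of the subsheaf generated by `insert g β` -/
noncomputable def sg (β : Set (Gens F)) (g : Gens F) : (genPred F (insert g β)).S g.1 :=
  ⟨g.2, mem_genPred F (Set.mem_insert g β)⟩

/-- the morphism `ℤ_{g.1} ⟶ ⟨insert g β⟩` hitting `g` -/
noncomputable def ψ (β : Set (Gens F)) (g : Gens F) :
    (E g.1).sheaf ⟶ (genPred F (insert g β)).sheaf :=
  (isoE g.1).inv ≫ (homEquiv g.1 (genPred F (insert g β)).sheaf).symm (sg β g)

/-- the unit section of `ℤ_{g.1}` -/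
noncomputable def b₀ (g : Gens F) : (E g.1).S g.1 :=
  ((isoE g.1).hom.hom.app (op g.1)).hom (Groth.Agent.Helper1.CohTopExt.univ g.1)

lemma ψ_b₀ (β : Set (Gens F)) (g : Gens F) :
    ((ψ β g).hom.app (op g.1)).hom (b₀ g) = sg β g := by
  have h1 : ((isoE g.1).inv.hom.app (op g.1)).hom (b₀ g) =
      Groth.Agent.Helper1.CohTopExt.univ g.1 := by
    have := congrArg (fun f : freeU g.1 ⟶ freeU g.1 =>
      (f.hom.app (op g.1)).hom (Groth.Agent.Helper1.CohTopExt.univ g.1)) (isoE g.1).hom_inv_id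
    exact this
  show (((homEquiv g.1 (genPred F (insert g β)).sheaf).symm (sg β g)).hom.app (op g.1)).hom
    (((isoE g.1).inv.hom.app (op g.1)).hom (b₀ g)) = sg β g
  rw [h1]
  have h2 := Groth.Agent.Helper1.CohTopExt.homEquiv_eq g.1 (genPred F (insert g β)).sheaf
    ((homEquiv g.1 (genPred F (insert g β)).sheaf).symm (sg β g))
  rw [Equiv.apply_symm_apply] at h2
  exact h2.symm

lemma π_iG_apply (β : Set (Gens F)) (g : Gens F) (V : Opens X) (t : (genPred F β).S V) :
    ((cokernel.π (iG β g)).hom.app (op V)).hom (((iG β g).hom.app (op V)).hom t) = 0 :=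
  comp_eq_zero_apply _ _ (cokernel.condition (iG β g)) V t

/-- every generated section is, modulo `⟨β⟩`, a multiple of `g` -/
lemma exists_b (β : Set (Gens F)) (g : Gens F) (N : Opens X) (z : F.obj.obj (op N))
    (hz : z ∈ GenAt F (insert g β) N) :
    ∃ b : (E g.1).S N, ((cokernel.π (iG β g)).hom.app (op N)).hom
        (((ψ β g).hom.app (op N)).hom b) =
      ((cokernel.π (iG β g)).hom.app (op N)).hom
        (⟨z, genAt_le F _ N hz⟩ : (genPred F (insert g β)).S N) := by
  induction hz using AddSubgroup.closure_induction with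
  | mem z hz =>
    obtain ⟨g', hg', h₀, rfl⟩ := hz
    rcases hg' with rfl | hg'
    · refine ⟨(E g'.1).resHom h₀ (b₀ g'), ?_⟩
      congr 1
      have h1 : ((ψ β g').hom.app (op N)).hom ((E g'.1).resHom h₀ (b₀ g')) =
          rs (genPred F (insert g' β)).sheaf h₀ (((ψ β g').hom.app (op g'.1)).hom (b₀ g')) :=
        hom_rs (ψ β g') h₀ (b₀ g')
      rw [h1, ψ_b₀]
      rfl
    · refine ⟨0, ?_⟩
      have h1 : ((ψ β g).hom.app (op N)).hom (0 : (E g.1).S N) = 0 :=
        map_zero ((ψ β g).hom.app (op N)).hom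
      rw [h1]
      have h2 : (⟨rs F h₀ g'.2, genAt_le F _ N
          (AddSubgroup.subset_closure ⟨g', Set.mem_insert_of_mem g hg', h₀, rfl⟩)⟩ :
            (genPred F (insert g β)).S N) =
          ((iG β g).hom.app (op N)).hom ⟨rs F h₀ g'.2, genAt_le F β N
            (AddSubgroup.subset_closure ⟨g', hg', h₀, rfl⟩)⟩ := rfl
      rw [h2, π_iG_apply]
      exact map_zero _
  | zero =>
    refine ⟨0, ?_⟩
    have h1 : ((ψ β g).hom.app (op N)).hom (0 : (E g.1).S N) = 0 :=
      map_zero ((ψ β g).hom.app (op N)).hom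
    rw [h1]
    rfl
  | add z z' hz hz' ih ih' =>
    obtain ⟨b, hb⟩ := ih
    obtain ⟨b', hb'⟩ := ih'
    refine ⟨b + b', ?_⟩
    have h1 : ((ψ β g).hom.app (op N)).hom (b + b') =
        ((ψ β g).hom.app (op N)).hom b + ((ψ β g).hom.app (op N)).hom b' :=
      map_add ((ψ β g).hom.app (op N)).hom b b'
    rw [h1, map_add, hb, hb', ← map_add]
    rfl
  | neg z hz ih =>
    obtain ⟨b, hb⟩ := ih
    refine ⟨-b, ?_⟩
    have h1 : ((ψ β g).hom.app (op N)).hom (-b) = -((ψ β g).hom.app (op N)).hom b :=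
      map_neg ((ψ β g).hom.app (op N)).hom b
    rw [h1, map_neg, hb, ← map_neg]
    rfl

instance epi_ψ_π (β : Set (Gens F)) (g : Gens F) : Epi (ψ β g ≫ cokernel.π (iG β g)) := by
  apply epi_of_locSurj
  intro V c x hx
  obtain ⟨N, hN, hxN, y, hy⟩ := exists_local_lift (cokernel.π (iG β g)) c x hx
  obtain ⟨y, hy⟩ : ∃ y : (genPred F (insert g β)).S N,
      ((cokernel.π (iG β g)).hom.app (op N)).hom y = rs (cokernel (iG β g)) hN c := ⟨y, hy⟩
  obtain ⟨N', hN', hxN', hgen⟩ := y.2 x hxN
  obtain ⟨b, hb⟩ := exists_b β g N' _ hgen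
  refine ⟨N', hN'.trans hN, hxN', b, ?_⟩
  rw [← rs_rs (cokernel (iG β g)) hN hN' c, ← hy, ← hom_rs (cokernel.π (iG β g)) hN' y]
  exact hb

theorem van_insert [CompactSpace X] [PrespectralSpace X] [QuasiSeparatedSpace X] (m : ℕ)
    (hE : ∀ W : Opens X, Van (E W).sheaf m) (β : Set (Gens F)) (g : Gens F)
    (h : Van (genPred F β).sheaf m) : Van (genPred F (insert g β)).sheaf m := by
  have hS : (ShortComplex.mk (iG β g) (cokernel.π (iG β g)) (cokernel.condition _)).ShortExact :=
    { exact := ShortComplex.exact_cokernel _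
      mono_f := by dsimp; infer_instance
      epi_g := by dsimp; infer_instance }
  exact van_mid hS h (van_quot (ψ β g ≫ cokernel.π (iG β g)) m hE)

variable (F) in
theorem van_fg [CompactSpace X] [PrespectralSpace X] [QuasiSeparatedSpace X] (m : ℕ)
    (hE : ∀ W : Opens X, Van (E W).sheaf m) (α : Finset (Gens F)) :
    Van (genPred F (α : Set (Gens F))).sheaf m := by
  classical
  induction α using Finset.induction_on with
  | empty =>
    rw [Finset.coe_empty]
    exact van_of_isZero (isZero_genPred_empty F) m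
  | insert g α _ ih =>
    rw [Finset.coe_insert]
    exact van_insert m hE _ g ih

end fg

/-- **all sheaves** -/
theorem van_all [CompactSpace X] [PrespectralSpace X] [QuasiSeparatedSpace X] (m : ℕ)
    (hqc : ∀ U : Opens X, IsCompact (U : Set X) → Van (freeU U) m) (F : CohTop.Ab X) :
    Van F m := by
  have hE : ∀ W : Opens X, Van (E W).sheaf m :=
    van_E m (fun U hU => van_of_iso (isoE U) (hqc U hU))
  exact van_of_isColimit (fgFunctor F) (fgCocone F) (fgIsColimit F) m
    (fun α => van_fg F m hE α)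

end Groth.Agent.Helper9.DvZE
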