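import Mathlib
import Groth.Prelude.Def_Magnet

set_option autoImplicit false

namespace Groth.Agent.Helper9.EqvHomSheaf

open CategoryTheory MonoidalCategory CartesianMonoidalCategory MonObj Opposite Magnet Magnet.MonAct

universe v u

variable {C : Type u} [Category.{v} C] [CartesianMonoidalCategory C]
  (J : GrothendieckTopology C) [J.Subcanonical]
  {A B X : C} [MonObj A] (ρ : MonAct A B) (a : MonAct A X)

theorem family_congr {T : C} {R : Sieve T} (x : Presieve.FamilyOfElements (eqvHom ρ a) R.arrows)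
    {Y : C} {f f' : Y ⟶ T} (h : f = f') (hf : R f) : x f hf = x f' (h ▸ hf) := by
  subst h; rfl

theorem isSheaf_eqvHom : Presieve.IsSheaf J (eqvHom ρ a) := by
  intro T R hR
  have hX : Presieve.IsSheaf J (yoneda.obj X) :=
    GrothendieckTopology.Subcanonical.isSheaf_of_isRepresentable _
  intro x hx
  have hsc : x.SieveCompatible := (Presieve.compatible_iff_sieveCompatible x).mp hx
  have hR' : R.pullback (snd B T) ∈ J (B ⊗ T) := J.pullback_stable (snd B T) hR
  let ψ : Presieve.FamilyOfElements (yoneda.obj X) (R.pullback (snd B T)).arrows :=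
    fun W w hw => lift (w ≫ fst B T) (𝟙 W) ≫ (x (w ≫ snd B T) hw).1
  have hψ : ψ.Compatible := by
    rw [Presieve.compatible_iff_sieveCompatible]
    intro W V w v hw
    change lift ((v ≫ w) ≫ fst B T) (𝟙 V) ≫ (x ((v ≫ w) ≫ snd B T) _).1 =
      v ≫ lift (w ≫ fst B T) (𝟙 W) ≫ (x (w ≫ snd B T) hw).1
    have h1 : x ((v ≫ w) ≫ snd B T) (by simpa using R.downward_closed hw v) =
        (eqvHom ρ a).map v.op (x (w ≫ snd B T) hw) := by
      rw [family_congr ρ a x (Category.assoc v w (snd B T))]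
      exact hsc (w ≫ snd B T) v hw
    rw [h1, eqvHom_map_coe]
    simp only [Quiver.Hom.unop_op, Category.assoc, lift_whiskerLeft_assoc, comp_lift_assoc,
      Category.comp_id, Category.id_comp]
  obtain ⟨φ, hφ, hφu⟩ := hX (R.pullback (snd B T)) hR' ψ hψ
  have hφ' : ∀ {W : C} (w : W ⟶ B ⊗ T) (hw : R (w ≫ snd B T)),
      w ≫ φ = lift (w ≫ fst B T) (𝟙 W) ≫ (x (w ≫ snd B T) hw).1 := fun w hw => hφ w hw
  -- Claim A
  have hA : ∀ {T' : C} (t : T' ⟶ T) (ht : R t), (B ◁ t) ≫ φ = (x t ht).1 := by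
    intro T' t ht
    have hw : R ((B ◁ t) ≫ snd B T) := by
      rw [whiskerLeft_snd]
      exact R.downward_closed ht _
    rw [hφ' (B ◁ t) hw]
    have h1 : x ((B ◁ t) ≫ snd B T) hw = (eqvHom ρ a).map (snd B T').op (x t ht) := by
      rw [family_congr ρ a x (whiskerLeft_snd B t)]
      exact hsc t (snd B T') ht
    rw [h1, eqvHom_map_coe]
    simp only [Quiver.Hom.unop_op, whiskerLeft_fst, lift_whiskerLeft_assoc, Category.id_comp]
    rw [lift_fst_snd, Category.id_comp]
  -- Claim B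
  have hB : IsEquivariant (ρ.prod (trivial A T)) a φ := by
    rw [mem_eqvHom_iff]
    intro T' g b t
    have hsep : Presieve.IsSeparatedFor (yoneda.obj X) (R.pullback t).arrows :=
      (hX (R.pullback t) (J.pullback_stable t hR)).isSeparatedFor
    refine hsep.ext ?_
    intro V v hv
    change v ≫ lift (lift g b ≫ ρ.act) t ≫ φ = v ≫ lift g (lift b t ≫ φ) ≫ a.act
    have hv' : R (v ≫ t) := hv
    have heq := (x (v ≫ t) hv').2
    rw [mem_eqvHom_iff] at heq
    have h1 := heq V (v ≫ g) (v ≫ b) (𝟙 V)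
    have h2 : ∀ (β : V ⟶ B), lift β (v ≫ t) ≫ φ = lift β (𝟙 V) ≫ (x (v ≫ t) hv').1 := by
      intro β
      rw [← hA (v ≫ t) hv', lift_whiskerLeft_assoc, Category.id_comp]
    simp only [comp_lift_assoc, Category.assoc]
    rw [h2, h2]
    exact h1
  refine ⟨⟨φ, hB⟩, ?_, ?_⟩
  · intro T' t ht
    apply Subtype.ext
    change (B ◁ t) ≫ φ = _
    exact hA t ht
  · intro φ' hφ'am
    apply Subtype.ext
    refine hφu φ'.1 ?_
    intro W w hw
    change w ≫ φ'.1 = lift (w ≫ fst B T) (𝟙 W) ≫ (x (w ≫ snd B T) hw).1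
    have h3 : (eqvHom ρ a).map (w ≫ snd B T).op φ' = x (w ≫ snd B T) hw := hφ'am (w ≫ snd B T) hw
    rw [← h3]
    change _ = lift (w ≫ fst B T) (𝟙 W) ≫ (B ◁ (w ≫ snd B T)) ≫ φ'.1
    rw [lift_whiskerLeft_assoc, Category.id_comp, lift_comp_fst_snd]

end Groth.Agent.Helper9.EqvHomSheaf
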