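import Mathlib
import Groth.Prelude.Def_EtBase
import Groth.Agent.Helper9.EtClosedLift
import Groth.Agent.Helper9.EtPushClosedZero

/-! Étale covers of a closed subscheme are refined from the ambient scheme. -/

set_option autoImplicit false
universe u

open CategoryTheory CategoryTheory.Limits Opposite AlgebraicGeometry

namespace Groth.Agent.Helper9.EtClosedCover

set_option backward.isDefEq.respectTransparency.types false in
theorem main {X Y : Scheme.{u}} (f : X ⟶ Y) [IsClosedImmersion f]
    {ι : Type u} (U : ι → X.Etale) (hU : EtCoh.Covers U) :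
    ∃ (κ : Type u) (V : κ → Y.Etale), EtCoh.Covers V ∧
      ∀ j, IsEmpty ↥(pullback (V j).hom f) ∨
        ∃ (i : ι) (h : pullback (V j).hom f ⟶ (U i).left), h ≫ (U i).hom = pullback.snd (V j).hom f := by
  classical
  have hkey : ∀ x : X, ∃ (V : Y.Etale) (i : ι) (h : (EtCoh.bc f).obj V ⟶ U i) (p : ((EtCoh.bc f).obj V).left),
      ((EtCoh.bc f).obj V).hom p = x := by
    intro x
    obtain ⟨i, y, hy⟩ := hU x
    obtain ⟨V, h, -, ⟨p, hp⟩⟩ := Groth.Agent.Helper9.EtClosedLift.key f (U i) y
    refine ⟨V, i, h, p, ?_⟩
    have hw : h.left ≫ (U i).hom = ((EtCoh.bc f).obj V).hom := MorphismProperty.Over.w h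
    rw [← hw, Scheme.Hom.comp_apply, hp]
    exact hy
  choose V idx h p hp using hkey
  let V' : Option ↥X → Y.Etale := fun j =>
    match j with
    | none => Scheme.Etale.mk (Groth.Agent.Helper9.EtPushClosedZero.compl f).ι
    | some x => V x
  refine ⟨Option ↥X, V', ?_, ?_⟩
  · intro y
    by_cases hy : y ∈ Set.range f.base
    · obtain ⟨x, rfl⟩ := hy
      refine ⟨some x, (pullback.fst (V x).hom f) (p x), ?_⟩
      show (V x).hom ((pullback.fst (V x).hom f) (p x)) = f x
      rw [← Scheme.Hom.comp_apply, pullback.condition, Scheme.Hom.comp_apply]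
      congr 1
      exact hp x
    · refine ⟨none, ⟨y, hy⟩, ?_⟩
      rfl
  · intro j
    cases j with
    | none =>
      left
      constructor
      intro q
      have h1 : (Groth.Agent.Helper9.EtPushClosedZero.compl f).ι
          (pullback.fst (Groth.Agent.Helper9.EtPushClosedZero.compl f).ι f q) =
          f (pullback.snd (Groth.Agent.Helper9.EtPushClosedZero.compl f).ι f q) := by
        rw [← Scheme.Hom.comp_apply, ← Scheme.Hom.comp_apply, pullback.condition]
      have h2 : (Groth.Agent.Helper9.EtPushClosedZero.compl f).ι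
          (pullback.fst (Groth.Agent.Helper9.EtPushClosedZero.compl f).ι f q) ∈
          ((Groth.Agent.Helper9.EtPushClosedZero.compl f : Y.Opens) : Set Y) := by
        rw [← Scheme.Opens.range_ι]
        exact ⟨_, rfl⟩
      rw [h1] at h2
      exact h2 ⟨_, rfl⟩
    | some x =>
      right
      exact ⟨idx x, (h x).left, MorphismProperty.Over.w (h x)⟩

end Groth.Agent.Helper9.EtClosedCover
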