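import Mathlib
import Groth.Prelude.Def_SixF1
import Groth.Agent.Helper4.RDerComp2
import Groth.Agent.Helper4.KDerAdj
import Groth.Agent.Helper9.KInjAdj
import Groth.Agent.Helper9.EtPushInj

/-! Composition of unbounded derived direct images of abelian étale sheaves. -/

set_option autoImplicit false
set_option linter.style.haveILetI false
set_option linter.unusedVariables false
set_option linter.unusedSectionVars false
universe u

namespace Groth.Agent.Helper9.EtComp1

open CategoryTheory CategoryTheory.Limits AlgebraicGeometry Opposite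

attribute [local instance] HasDerivedCategory.standard

/-- a natural isomorphism induces one on homotopy categories -/
def mapHomotopyCategoryIso {V W : Type*} [Category V] [Preadditive V] [Category W] [Preadditive W]
    {ι : Type*} {F G : V ⥤ W} [F.Additive] [G.Additive] (e : F ≅ G) (c : ComplexShape ι) :
    F.mapHomotopyCategory c ≅ G.mapHomotopyCategory c where
  hom := NatTrans.mapHomotopyCategory e.hom c
  inv := NatTrans.mapHomotopyCategory e.inv c
  hom_inv_id := by
    rw [← NatTrans.mapHomotopyCategory_comp, e.hom_inv_id, NatTrans.mapHomotopyCategory_id]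
  inv_hom_id := by
    rw [← NatTrans.mapHomotopyCategory_comp, e.inv_hom_id, NatTrans.mapHomotopyCategory_id]

variable {X Y Z : Scheme.{u}} (f : X ⟶ Y) (g : Y ⟶ Z)

instance : IsGrothendieckAbelian.{u + 1} (EtCoh.Ab X) := inferInstance

theorem isIso_compMap [DCoh.HasRpushEt X f] [DCoh.HasRpushEt Y g] [DCoh.HasRpushEt X (f ≫ g)] :
    IsIso (EtSix.compMap f g) := by
  let W := HomotopyCategory.quasiIso (EtCoh.Ab X) (ComplexShape.up ℤ)
  let βf := (DCoh.pushEtKh X f).totalRightDerivedUnit DerivedCategory.Qh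
      (HomotopyCategory.quasiIso (EtCoh.Ab X) (ComplexShape.up ℤ))
  let βg := (DCoh.pushEtKh Y g).totalRightDerivedUnit DerivedCategory.Qh
      (HomotopyCategory.quasiIso (EtCoh.Ab Y) (ComplexShape.up ℤ))
  let 𝓕 := (EtCoh.push f).mapHomotopyCategory (ComplexShape.up ℤ)
  let α := Functor.whiskerLeft 𝓕 βg ≫ (Functor.associator _ _ _).inv ≫
      Functor.whiskerRight βf (DCoh.RpushEt Y g) ≫ (Functor.associator _ _ _).hom
  have h : (DCoh.RpushEt X f ⋙ DCoh.RpushEt Y g).IsRightDerivedFunctor α
      (HomotopyCategory.quasiIso (EtCoh.Ab X) (ComplexShape.up ℤ)) := by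
    refine Groth.Agent.Helper4.RDerComp.comp 𝓕 (DCoh.RpushEt X f) βf (DCoh.pushEtKh Y g)
      (DCoh.RpushEt Y g) βg ?_
    intro I
    obtain ⟨K, hK⟩ : ∃ K : CochainComplex (EtCoh.Ab X) ℤ,
        (HomotopyCategory.quotient _ _).obj K = I.obj := ⟨I.obj.as, rfl⟩
    haveI : K.IsKInjective := by
      rw [CochainComplex.isKInjective_iff_rightOrthogonal, hK]
      exact I.property
    haveI : CochainComplex.IsKInjective
        (((EtCoh.push f).mapHomologicalComplex (ComplexShape.up ℤ)).obj K) :=
      Groth.Agent.Helper9.KInjAdj.isKInjective_map (EtCoh.pullPushAdj f) K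
    let J : (Groth.Agent.Helper1.KInjDer.P (EtCoh.Ab Y)).FullSubcategory :=
      ⟨(HomotopyCategory.quotient _ _).obj
        (((EtCoh.push f).mapHomologicalComplex (ComplexShape.up ℤ)).obj K),
        (CochainComplex.isKInjective_iff_rightOrthogonal _).1 inferInstance⟩
    have h1 := Groth.Agent.Helper4.KDerAdj.isIso_β_app (DCoh.RpushEt Y g) βg J
    have h2 : (Groth.Agent.Helper1.KInjDer.Φ (EtCoh.Ab X)).functor.obj I =
        (HomotopyCategory.quotient _ _).obj K := hK.symm
    rw [h2]
    exact h1
  unfold EtSix.compMap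
  rw [← Functor.isRightDerivedFunctor_iff_isIso_rightDerivedDesc]
  rw [Functor.isRightDerivedFunctor_iff_isLeftKanExtension] at h ⊢
  let τ : DCoh.pushEtKh X (f ≫ g) ≅ 𝓕 ⋙ DCoh.pushEtKh Y g :=
    Functor.isoWhiskerRight
      ((mapHomotopyCategoryIso (EtCoh.pushComp g f).symm (ComplexShape.up ℤ)) ≪≫
        (Functor.mapHomotopyCategoryCompIso (Iso.refl (EtCoh.push f ⋙ EtCoh.push g))
          (ComplexShape.up ℤ)).symm)
      DerivedCategory.Qh ≪≫ Functor.associator _ _ _
  refine (Functor.isLeftKanExtension_iff_of_iso₂ (EtSix.compUnit f g) α τ (Iso.refl _) ?_).2 h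
  ext K
  simp [EtSix.compUnit, α, τ, mapHomotopyCategoryIso]
  rfl

end Groth.Agent.Helper9.EtComp1
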