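import Mathlib
import Groth.Prelude.Def_SpSeq
import Groth.Agent.Helper8.SpSeqOne

/-! A cohomological spectral sequence starting at page one which degenerates at page two:
the first page is a given complex, every later page is its homology with zero differentials.
If the homology is concentrated in the column `p = 0`, it abuts to that column. -/

set_option autoImplicit false
set_option linter.style.haveILetI false
universe v u

namespace Groth.Agent.Helper9.SpOne1

open CategoryTheory Limits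

variable {C : Type u} [Category.{v} C] [Abelian C]
variable (P₁ : HomologicalComplex C (ComplexShape.up' (⟨1, 1 - 1⟩ : ℤ × ℤ)))

/-- the page `r ≥ 2`: homology of the first page, zero differentials -/
noncomputable def zeroPage (r : ℤ) :
    HomologicalComplex C (ComplexShape.up' (⟨r, 1 - r⟩ : ℤ × ℤ)) where
  X pq := P₁.homology pq
  d _ _ := 0
  shape _ _ _ := rfl
  d_comp_d' _ _ _ _ _ := zero_comp

/-- the pages -/
noncomputable def page (r : ℤ) : HomologicalComplex C (ComplexShape.up' (⟨r, 1 - r⟩ : ℤ × ℤ)) :=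
  if h : r = 1 then by subst h; exact P₁ else zeroPage P₁ r

lemma page_one : page P₁ 1 = P₁ := by
  simp [page]

lemma page_of_ne (r : ℤ) (h : r ≠ 1) : page P₁ r = zeroPage P₁ r := dif_neg h

lemma page_d_of_ne (r : ℤ) (h : r ≠ 1) (a b : ℤ × ℤ) : (page P₁ r).d a b = 0 := by
  rw [page_of_ne P₁ r h]
  rfl

/-- the object at `pq` on page `r ≥ 2` -/
noncomputable def pageXIso (r : ℤ) (h : r ≠ 1) (pq : ℤ × ℤ) :
    (page P₁ r).X pq ≅ P₁.homology pq :=
  eqToIso (by rw [page_of_ne P₁ r h]; rfl)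

/-- homology of page `r ≥ 2` -/
noncomputable def pageHomologyIso (r : ℤ) (h : r ≠ 1) (pq : ℤ × ℤ) :
    (page P₁ r).homology pq ≅ P₁.homology pq :=
  (ShortComplex.LeftHomologyData.ofZeros _ (page_d_of_ne P₁ r h _ _)
    (page_d_of_ne P₁ r h _ _)).homologyIso ≪≫ pageXIso P₁ r h pq

/-- homology of page one -/
noncomputable def pageOneHomologyIso (pq : ℤ × ℤ) :
    (page P₁ 1).homology pq ≅ P₁.homology pq :=
  eqToIso (by rw [page_one])

/-- the spectral sequence -/
noncomputable def E : CohomologicalSpectralSequence C 1 where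
  page r _ := page P₁ r
  iso r r' pq hrr' hr :=
    if h : r = 1 then
      (eqToIso (by subst h; rfl) : (page P₁ r).homology pq ≅ (page P₁ 1).homology pq) ≪≫
        pageOneHomologyIso P₁ pq ≪≫ (pageXIso P₁ r' (by omega) pq).symm
    else pageHomologyIso P₁ r h pq ≪≫ (pageXIso P₁ r' (by omega) pq).symm

lemma E_page (r : ℤ) (hr : 1 ≤ r) : (E P₁).page r hr = page P₁ r := rfl

lemma E_page_one : (E P₁).page 1 le_rfl = P₁ := page_one P₁

lemma stat (pq : ℤ × ℤ) : SpSeq.StationaryAt (E P₁) pq 2 := by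
  refine ⟨by norm_num, fun r' h₀ hr' => ⟨?_, ?_⟩⟩
  · exact page_d_of_ne P₁ r' (by omega) _ _
  · exact page_d_of_ne P₁ r' (by omega) _ _

section Abut

variable (hz : ∀ p q : ℤ, p ≠ 0 → IsZero (P₁.homology (p, q)))

/-- the filtration: everything in degrees `≤ 0`, nothing above -/
noncomputable def fil (n : ℤ) (p : ℤ) : Subobject (P₁.homology ((0 : ℤ), n)) :=
  if p ≤ 0 then ⊤ else ⊥

lemma fil_anti (n : ℤ) : Antitone (fil P₁ n) := by
  intro p p' h
  dsimp only [fil]
  by_cases h1 : p' ≤ 0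
  · rw [if_pos h1, if_pos (h.trans h1)]
  · rw [if_neg h1]
    exact bot_le

lemma isZero_cokernel_ofLE {X : C} (B Z : Subobject X) (h : B ≤ Z) (h' : B = Z) :
    IsZero (cokernel (B.ofLE Z h)) := by
  subst h'
  have : B.ofLE B h = 𝟙 _ := by
    rw [← cancel_mono B.arrow, Subobject.ofLE_arrow, Category.id_comp]
  rw [this]
  exact isZero_cokernel_of_epi _

include hz in
lemma nonempty_β (pq : ℤ × ℤ) :
    Nonempty (((E P₁).page 2 (by norm_num)).X pq ≅
      SpSeq.grPiece (fil P₁ (pq.1 + pq.2)) (fil_anti P₁ (pq.1 + pq.2)) pq.1) := by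
  obtain ⟨p, q⟩ := pq
  by_cases hp : p = 0
  · subst hp
    obtain ⟨e⟩ := Groth.Agent.Helper8.SpSeqOne.iso_cokernel_of_bot_top
      (fil P₁ ((0 : ℤ) + q) ((0 : ℤ) + 1)) (fil P₁ ((0 : ℤ) + q) 0)
      (fil_anti P₁ _ (by norm_num)) (by simp [fil]) (by simp [fil])
    refine ⟨pageXIso P₁ 2 (by norm_num) _ ≪≫ eqToIso ?_ ≪≫ e⟩
    rw [zero_add]
  · refine ⟨IsZero.iso ?_ ?_⟩
    · exact IsZero.of_iso (hz p q hp) (pageXIso P₁ 2 (by norm_num) _)
    · refine isZero_cokernel_ofLE _ _ _ ?_
      dsimp only [fil]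
      by_cases h1 : p + 1 ≤ 0
      · rw [if_pos h1, if_pos (by omega)]
      · rw [if_neg h1, if_neg (by omega)]

/-- the abutment -/
noncomputable def abut : SpSeq.Abutment (E P₁) (fun n => P₁.homology ((0 : ℤ), n)) where
  fil n := fil P₁ n
  anti n := fil_anti P₁ n
  rk _ := 2
  stat pq := stat P₁ pq
  β pq := (nonempty_β P₁ hz pq).some

lemma abut_isFinite (n : ℤ) : (abut P₁ hz).IsFinite n :=
  ⟨⟨0, show fil P₁ n 0 = ⊤ from if_pos le_rfl⟩, ⟨1, show fil P₁ n 1 = ⊥ from if_neg (by norm_num)⟩⟩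

end Abut

end Groth.Agent.Helper9.SpOne1
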