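import Mathlib

/-! The first page of a spectral sequence assembled from a family of rows. -/

set_option autoImplicit false
set_option linter.style.haveILetI false
universe v u

namespace Groth.Agent.Helper9.SpOne2

open CategoryTheory Limits

variable {C : Type u} [Category.{v} C] [Abelian C]
variable (R : ℤ → CochainComplex C ℤ)

/-- the first page with rows `R q` -/
noncomputable def P₁ : HomologicalComplex C (ComplexShape.up' (⟨1, 1 - 1⟩ : ℤ × ℤ)) where
  X pq := (R pq.2).X pq.1
  d pq pq' := if h : pq.2 = pq'.2 then (R pq.2).d pq.1 pq'.1 ≫ eqToHom (by rw [h]) else 0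
  shape := by
    rintro ⟨p, q⟩ ⟨p', q'⟩ hrel
    by_cases h : q = q'
    · subst h
      rw [dif_pos rfl]
      have : ¬ (ComplexShape.up ℤ).Rel p p' := by
        intro h1
        apply hrel
        have h2 : p + 1 = p' := h1
        show (p, q) + ((1 : ℤ), (1 : ℤ) - 1) = (p', q)
        ext
        · simpa using h2
        · simp
      rw [(R q).shape _ _ this, zero_comp]
    · rw [dif_neg h]
  d_comp_d' := by
    rintro ⟨p, q⟩ ⟨p', q'⟩ ⟨p'', q''⟩ _ _
    by_cases h : q = q'
    · subst h
      by_cases h' : q = q''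
      · subst h'
        simp
      · rw [dif_neg h', comp_zero]
    · rw [dif_neg h, zero_comp]

lemma P₁_X (p q : ℤ) : (P₁ R).X (p, q) = (R q).X p := rfl

lemma P₁_d (p p' q : ℤ) : (P₁ R).d (p, q) (p', q) = (R q).d p p' := by
  simp [P₁]

/-- homology of the first page is homology of the rows -/
noncomputable def homologyIso (p q : ℤ) : (P₁ R).homology (p, q) ≅ (R q).homology p := by
  have hprev : (ComplexShape.up' (⟨1, 1 - 1⟩ : ℤ × ℤ)).prev (p, q) = (p - 1, q) :=
    (ComplexShape.up' (⟨1, 1 - 1⟩ : ℤ × ℤ)).prev_eq' (by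
      show (p - 1, q) + ((1 : ℤ), (1 : ℤ) - 1) = (p, q)
      ext <;> simp)
  have hnext : (ComplexShape.up' (⟨1, 1 - 1⟩ : ℤ × ℤ)).next (p, q) = (p + 1, q) :=
    (ComplexShape.up' (⟨1, 1 - 1⟩ : ℤ × ℤ)).next_eq' (by
      show (p, q) + ((1 : ℤ), (1 : ℤ) - 1) = (p + 1, q)
      ext <;> simp)
  have hprev' : (ComplexShape.up ℤ).prev p = p - 1 := by simp
  have hnext' : (ComplexShape.up ℤ).next p = p + 1 := by simp
  refine ShortComplex.homologyMapIso ((HomologicalComplex.natIsoSc' C _ _ _ _ hprev hnext).app (P₁ R))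
    ≪≫ ?_ ≪≫
    ShortComplex.homologyMapIso ((HomologicalComplex.natIsoSc' C _ _ _ _ hprev' hnext').app (R q)).symm
  have e : (P₁ R).sc' (p - 1, q) (p, q) (p + 1, q) ≅ (R q).sc' (p - 1) p (p + 1) :=
    ShortComplex.isoMk (Iso.refl _) (Iso.refl _) (Iso.refl _)
      ((Category.id_comp _).trans ((P₁_d R _ _ _).symm.trans (Category.comp_id _).symm))
      ((Category.id_comp _).trans ((P₁_d R _ _ _).symm.trans (Category.comp_id _).symm))
  exact ShortComplex.homologyMapIso e

end Groth.Agent.Helper9.SpOne2
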