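import Mathlib

/-! A tower of split monomorphisms `A 0 → A 1 → A 2 → …` gives a contractible cochain complex
with the same terms; its truncation `A 1 → A 2 → …` is a resolution of `A 0`. -/

set_option autoImplicit false
set_option linter.style.haveILetI false
universe v u

namespace Groth.Agent.Helper9.SpRetr1

open CategoryTheory Limits

variable (C : Type u) [Category.{v} C] [Abelian C]

/-- a tower of split monomorphisms -/
structure RetrSys where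
  A : ℕ → C
  ι : ∀ n, A n ⟶ A (n + 1)
  ρ : ∀ n, A (n + 1) ⟶ A n
  ι_ρ : ∀ n, ι n ≫ ρ n = 𝟙 (A n)

variable {C}

namespace RetrSys

variable (S : RetrSys C)

/-- the idempotents -/
noncomputable def π : ∀ n, S.A n ⟶ S.A n
  | 0 => 0
  | n + 1 => S.ρ n ≫ (𝟙 _ - π n) ≫ S.ι n

lemma π_zero : S.π 0 = 0 := rfl

lemma π_succ (n : ℕ) : S.π (n + 1) = S.ρ n ≫ (𝟙 _ - S.π n) ≫ S.ι n := rfl

lemma π_idem : ∀ n, S.π n ≫ S.π n = S.π n
  | 0 => by simp [π_zero]
  | n + 1 => by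
    have ih := π_idem n
    have h2 : (𝟙 (S.A n) - S.π n) ≫ (𝟙 (S.A n) - S.π n) = 𝟙 (S.A n) - S.π n := by
      simp [Preadditive.sub_comp, Preadditive.comp_sub, ih]
    rw [π_succ]
    simp only [Category.assoc]
    rw [reassoc_of% (S.ι_ρ n), reassoc_of% h2]

lemma one_sub_π_idem (n : ℕ) :
    (𝟙 (S.A n) - S.π n) ≫ (𝟙 (S.A n) - S.π n) = 𝟙 (S.A n) - S.π n := by
  simp [Preadditive.sub_comp, Preadditive.comp_sub, S.π_idem n]

/-- the differential -/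
noncomputable def d (n : ℕ) : S.A n ⟶ S.A (n + 1) := (𝟙 _ - S.π n) ≫ S.ι n

lemma ρ_d (n : ℕ) : S.ρ n ≫ S.d n = S.π (n + 1) := rfl

lemma d_ρ (n : ℕ) : S.d n ≫ S.ρ n = 𝟙 _ - S.π n := by
  rw [d, Category.assoc, S.ι_ρ, Category.comp_id]

lemma d_zero : S.d 0 = S.ι 0 := by
  rw [d, π_zero, sub_zero, Category.id_comp]

lemma d_comp_π (n : ℕ) : S.d n ≫ S.π (n + 1) = S.d n := by
  rw [π_succ, d]
  simp only [Category.assoc]
  rw [reassoc_of% (S.ι_ρ n), reassoc_of% (S.one_sub_π_idem n)]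

lemma d_comp_d (n : ℕ) : S.d n ≫ S.d (n + 1) = 0 := by
  have h := S.d_comp_π n
  rw [show S.d (n + 1) = (𝟙 _ - S.π (n + 1)) ≫ S.ι (n + 1) from rfl, ← Category.assoc,
    Preadditive.comp_sub, Category.comp_id, h, sub_self, zero_comp]

lemma homotopy_zero : S.d 0 ≫ S.ρ 0 = 𝟙 _ := by
  rw [d_ρ, π_zero, sub_zero]

lemma homotopy_succ (n : ℕ) : S.ρ n ≫ S.d n + S.d (n + 1) ≫ S.ρ (n + 1) = 𝟙 _ := by
  rw [ρ_d, d_ρ]
  abel

instance mono_d_zero : Mono (S.d 0) := mono_of_mono_fac S.homotopy_zero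

end RetrSys

/-- a short complex with a contracting homotopy is exact -/
lemma exact_of_homotopy (T : ShortComplex C) (s : T.X₂ ⟶ T.X₁) (s' : T.X₃ ⟶ T.X₂)
    (h : s ≫ T.f + T.g ≫ s' = 𝟙 _) : T.Exact := by
  rw [ShortComplex.exact_iff_exact_up_to_refinements]
  intro A x hx
  refine ⟨A, 𝟙 A, inferInstance, x ≫ s, ?_⟩
  rw [Category.id_comp]
  calc x = x ≫ 𝟙 _ := (Category.comp_id x).symm
    _ = x ≫ (s ≫ T.f + T.g ≫ s') := by rw [h]
    _ = (x ≫ s) ≫ T.f := by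
      rw [Preadditive.comp_add, ← Category.assoc x T.g, hx, zero_comp, add_zero, Category.assoc]

namespace RetrSys

variable (S : RetrSys C)

lemma exact_d (n : ℕ) : (ShortComplex.mk (S.d n) (S.d (n + 1)) (S.d_comp_d n)).Exact :=
  exact_of_homotopy _ (S.ρ n) (S.ρ (n + 1)) (S.homotopy_succ n)

/-- the truncated complex `A 1 → A 2 → …` -/
noncomputable def K : CochainComplex C ℕ :=
  CochainComplex.of (fun p => S.A (p + 1)) (fun p => S.d (p + 1)) (fun p => S.d_comp_d (p + 1))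

lemma K_X (p : ℕ) : S.K.X p = S.A (p + 1) := rfl

lemma K_d (p : ℕ) : S.K.d p (p + 1) = S.d (p + 1) := by
  simp [K]

lemma K_exactAt (p : ℕ) : S.K.ExactAt (p + 1) := by
  rw [HomologicalComplex.exactAt_iff' S.K p (p + 1) (p + 2) (by simp) (by simp)]
  refine exact_of_homotopy _ (S.ρ (p + 1)) (S.ρ (p + 2)) ?_
  have key : ∀ (f : S.A (p + 1) ⟶ S.A (p + 1 + 1)) (g : S.A (p + 1 + 1) ⟶ S.A (p + 1 + 1 + 1)),
      f = S.d (p + 1) → g = S.d (p + 1 + 1) →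
      S.ρ (p + 1) ≫ f + g ≫ S.ρ (p + 1 + 1) = 𝟙 _ := by
    rintro _ _ rfl rfl
    exact S.homotopy_succ (p + 1)
  exact key _ _ (S.K_d p) (S.K_d (p + 1))

lemma K_isZero_homology (p : ℕ) : IsZero (S.K.homology (p + 1)) :=
  (S.K_exactAt p).isZero_homology

lemma d_zero_comp_K_d : S.d 0 ≫ S.K.d 0 1 = 0 := by
  rw [K_d]
  exact S.d_comp_d 0

lemma exact_zero : (ShortComplex.mk (S.d 0) (S.K.d 0 1) S.d_zero_comp_K_d).Exact := by
  refine exact_of_homotopy _ (S.ρ 0) (S.ρ 1) ?_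
  have key : ∀ (g : S.A (0 + 1) ⟶ S.A (0 + 1 + 1)), g = S.d (0 + 1) →
      S.ρ 0 ≫ S.d 0 + g ≫ S.ρ (0 + 1) = 𝟙 _ := by
    rintro _ rfl
    exact S.homotopy_succ 0
  exact key _ (S.K_d 0)

/-- `H⁰` of the truncated complex is `A 0` -/
noncomputable def K_homologyZeroIso : S.K.homology 0 ≅ S.A 0 := by
  have h0 : S.K.d 0 0 = 0 := S.K.shape _ _ (by simp)
  refine (S.K.isoHomologyπ 0 0 (by simp) h0).symm ≪≫ ?_
  have hk := S.K.cyclesIsKernel 0 1 (by simp)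
  haveI : Mono (ShortComplex.mk (S.d 0) (S.K.d 0 1) S.d_zero_comp_K_d).f := S.mono_d_zero
  have hk' := S.exact_zero.fIsKernel
  exact IsLimit.conePointUniqueUpToIso hk hk'

end RetrSys

end Groth.Agent.Helper9.SpRetr1
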