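import Mathlib
import Groth.Prelude.Def_SpSeq
import Groth.Agent.Helper9.SpRetr1
import Groth.Agent.Helper9.SpOne1
import Groth.Agent.Helper9.SpOne2
import Groth.Agent.Helper9.SpConvC

/-! The degenerate first-quadrant spectral sequence, starting at page one, attached to a family
of towers of split monomorphisms: `E₁^{p,q} = A_q (p+1)`, abutting to `A_n 0`. -/

set_option autoImplicit false
set_option linter.style.haveILetI false
universe v u

namespace Groth.Agent.Helper9.SpOne3

open CategoryTheory Limits ZeroObject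
open Groth.Agent.Helper9 Groth.Agent.Helper9.SpRetr1

variable {C : Type u} [Category.{v} C] [Abelian C]
variable (S : ℕ → RetrSys C)

/-- the rows -/
noncomputable def R (q : ℤ) : CochainComplex C ℤ :=
  if 0 ≤ q then ((S q.toNat).K).extend ComplexShape.embeddingUpNat else 0

lemma R_of_nonneg (q : ℤ) (hq : 0 ≤ q) :
    R S q = ((S q.toNat).K).extend ComplexShape.embeddingUpNat := if_pos hq

lemma R_of_neg (q : ℤ) (hq : ¬ 0 ≤ q) : R S q = 0 := if_neg hq

lemma isZero_R_X_of_neg (p q : ℤ) (hq : ¬ 0 ≤ q) : IsZero ((R S q).X p) := by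
  rw [R_of_neg S q hq]
  exact (HomologicalComplex.eval C (ComplexShape.up ℤ) p).map_isZero (isZero_zero _)

lemma isZero_R_X_of_neg' (p q : ℤ) (hp : ¬ 0 ≤ p) : IsZero ((R S q).X p) := by
  by_cases hq : 0 ≤ q
  · rw [R_of_nonneg S q hq]
    refine HomologicalComplex.isZero_extend_X _ _ _ ?_
    intro i hi
    apply hp
    rw [← hi]
    exact Int.natCast_nonneg i
  · exact isZero_R_X_of_neg S p q hq

/-- the terms of the rows -/
noncomputable def RXIso (p q : ℕ) : (R S (q : ℤ)).X (p : ℤ) ≅ (S q).A (p + 1) :=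
  eqToIso (by rw [R_of_nonneg S _ (Int.natCast_nonneg q), Int.toNat_natCast]; rfl) ≪≫
    HomologicalComplex.extendXIso (S q).K ComplexShape.embeddingUpNat (i := p) rfl

lemma isZero_R_homology_of_neg (p q : ℤ) (hq : ¬ 0 ≤ q) : IsZero ((R S q).homology p) := by
  have h : ((R S q).sc p).Exact := ShortComplex.exact_of_isZero_X₂ _ (isZero_R_X_of_neg S p q hq)
  exact (ShortComplex.exact_iff_isZero_homology _).1 h

lemma isZero_R_homology (p q : ℤ) (hp : p ≠ 0) : IsZero ((R S q).homology p) := by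
  by_cases hq : 0 ≤ q
  · by_cases hp' : 0 ≤ p
    · obtain ⟨p', rfl⟩ := Int.eq_ofNat_of_zero_le hp'
      obtain ⟨p'', rfl⟩ : ∃ p'' : ℕ, p' = p'' + 1 := ⟨p' - 1, by omega⟩
      rw [R_of_nonneg S q hq]
      refine IsZero.of_iso ((S q.toNat).K_isZero_homology p'')
        (HomologicalComplex.extendHomologyIso (S q.toNat).K ComplexShape.embeddingUpNat
          (j := p'' + 1) (by simp))
    · have h : ((R S q).sc p).Exact :=
        ShortComplex.exact_of_isZero_X₂ _ (isZero_R_X_of_neg' S p q hp')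
      exact (ShortComplex.exact_iff_isZero_homology _).1 h
  · exact isZero_R_homology_of_neg S p q hq

/-- `H⁰` of the rows -/
noncomputable def RHomologyZeroIso (q : ℕ) : (R S (q : ℤ)).homology 0 ≅ (S q).A 0 :=
  eqToIso (by rw [R_of_nonneg S _ (Int.natCast_nonneg q), Int.toNat_natCast]; rfl) ≪≫
    HomologicalComplex.extendHomologyIso (S q).K ComplexShape.embeddingUpNat (j := 0) rfl ≪≫
    (S q).K_homologyZeroIso

theorem main (Z Z' : C) (hZ : IsZero Z) (hZ' : IsZero Z') :
    ∃ (E : CohomologicalSpectralSequence C 1)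
      (a : SpSeq.Abutment E (fun n : ℤ => if 0 ≤ n then (S n.toNat).A 0 else Z)),
      (∀ n, a.IsFinite n) ∧ SpSeq.IsBounded E ∧
      ∀ p q : ℤ, Nonempty ((E.page 1 le_rfl).X (p, q) ≅
        (if 0 ≤ p ∧ 0 ≤ q then (S q.toNat).A (p.toNat + 1) else Z')) := by
  have hz : ∀ p q : ℤ, p ≠ 0 → IsZero ((SpOne2.P₁ (R S)).homology (p, q)) := fun p q hp =>
    IsZero.of_iso (isZero_R_homology S p q hp) (SpOne2.homologyIso (R S) p q)
  have e : ∀ n : ℤ, Nonempty ((SpOne2.P₁ (R S)).homology ((0 : ℤ), n) ≅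
      (if 0 ≤ n then (S n.toNat).A 0 else Z)) := by
    intro n
    by_cases hn : 0 ≤ n
    · obtain ⟨n', rfl⟩ := Int.eq_ofNat_of_zero_le hn
      rw [if_pos hn, Int.toNat_natCast]
      exact ⟨SpOne2.homologyIso (R S) 0 n' ≪≫ RHomologyZeroIso S n'⟩
    · rw [if_neg hn]
      exact ⟨(IsZero.of_iso (isZero_R_homology_of_neg S 0 n hn)
        (SpOne2.homologyIso (R S) 0 n)).iso hZ⟩
  have hX : ∀ p q : ℤ, ((SpOne1.E (SpOne2.P₁ (R S))).page 1 le_rfl).X (p, q) = (R S q).X p := by
    intro p q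
    rw [SpOne1.E_page_one]
    rfl
  refine ⟨SpOne1.E (SpOne2.P₁ (R S)),
    SpConvC.transport (fun n => (e n).some) (SpOne1.abut (SpOne2.P₁ (R S)) hz),
    fun n => SpConvC.transport_isFinite _ _ n (SpOne1.abut_isFinite _ hz n), ?_, fun p q => ?_⟩
  · intro n
    refine Set.Finite.subset (Set.finite_Icc (0 : ℤ) n) ?_
    intro p hp
    change ¬ IsZero _ at hp
    rw [hX] at hp
    by_contra hp'
    apply hp
    simp only [Set.mem_Icc, not_and_or, not_le] at hp'
    rcases hp' with h | h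
    · exact isZero_R_X_of_neg' S p (n - p) (by omega)
    · exact isZero_R_X_of_neg S p (n - p) (by omega)
  · rw [hX]
    by_cases hpq : 0 ≤ p ∧ 0 ≤ q
    · obtain ⟨p', rfl⟩ := Int.eq_ofNat_of_zero_le hpq.1
      obtain ⟨q', rfl⟩ := Int.eq_ofNat_of_zero_le hpq.2
      rw [if_pos hpq, Int.toNat_natCast, Int.toNat_natCast]
      exact ⟨RXIso S p' q'⟩
    · rw [if_neg hpq]
      rw [not_and_or] at hpq
      rcases hpq with h | h
      · exact ⟨(isZero_R_X_of_neg' S p q h).iso hZ'⟩
      · exact ⟨(isZero_R_X_of_neg S p q h).iso hZ'⟩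

end Groth.Agent.Helper9.SpOne3
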