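import Mathlib
import Groth.Prelude.Def_EtCore
import Groth.Prelude.Def_SpSeq
import Groth.Agent.Helper9.EtRetr
import Groth.Agent.Helper9.SpOne3

/-! The descent spectral sequence of a morphism of schemes with a section (étale cohomology). -/

set_option autoImplicit false
set_option linter.style.haveILetI false
universe u

namespace Groth.Agent.Helper9.EtDescSect

open CategoryTheory CategoryTheory.Limits AlgebraicGeometry Opposite
open Groth.Agent.Helper9

variable {X Y : Scheme.{u}} (f : X ⟶ Y) (s : Y ⟶ X) (hs : s ≫ f = 𝟙 Y)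

/-- the `(n+1)`-fold fibre product -/
noncomputable abbrev W (n : ℕ) : Scheme.{u} :=
  widePullback Y (fun _ : Fin (n + 1) => X) (fun _ => f)

noncomputable abbrev a (n : ℕ) : W f n ⟶ Y := WidePullback.base (fun _ : Fin (n + 1) => f)

/-- forget the last factor -/
noncomputable def g (n : ℕ) : W f (n + 1) ⟶ W f n :=
  WidePullback.lift (a f (n + 1)) (fun i : Fin (n + 1) => WidePullback.π _ (Fin.castSucc i))
    (fun _ => WidePullback.π_arrow _ _)

lemma g_a (n : ℕ) : g f n ≫ a f n = a f (n + 1) :=
  WidePullback.lift_base _ _ _ _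

include hs in
/-- add the section as last factor -/
noncomputable def t (n : ℕ) : W f n ⟶ W f (n + 1) :=
  WidePullback.lift (a f n)
    (fun j : Fin (n + 1 + 1) => Fin.lastCases (a f n ≫ s) (fun i => WidePullback.π _ i) j)
    (fun j => by
      refine Fin.lastCases ?_ (fun i => ?_) j
      · rw [Fin.lastCases_last, Category.assoc, hs, Category.comp_id]
      · rw [Fin.lastCases_castSucc]
        exact WidePullback.π_arrow _ _)

lemma t_g (n : ℕ) : t f s hs n ≫ g f n = 𝟙 _ := by
  apply WidePullback.hom_ext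
  · intro i
    rw [Category.assoc, Category.id_comp]
    dsimp only [g, t]
    rw [WidePullback.lift_π, WidePullback.lift_π, Fin.lastCases_castSucc]
  · rw [Category.assoc, Category.id_comp]
    dsimp only [g, t]
    rw [WidePullback.lift_base, WidePullback.lift_base]

include hs in
noncomputable def t₀ : Y ⟶ W f 0 :=
  WidePullback.lift (𝟙 Y) (fun _ => s) (fun _ => hs)

lemma t₀_a : t₀ f s hs ≫ a f 0 = 𝟙 Y :=
  WidePullback.lift_base _ _ _ _

variable (F : EtCoh.Ab Y) (q : ℕ)

/-- the groups -/
noncomputable def A : ℕ → AddCommGrpCat.{u + 1}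
  | 0 => AddCommGrpCat.of (EtCoh.H Y F q)
  | n + 1 => AddCommGrpCat.of (EtCoh.H (W f n) ((EtCoh.pull (a f n)).obj F) q)

include hs in
lemma exists_retract : ∀ n : ℕ, ∃ (ι : A f F q n ⟶ A f F q (n + 1))
    (ρ : A f F q (n + 1) ⟶ A f F q n), ι ≫ ρ = 𝟙 _
  | 0 => EtRetr.exists_retract (a f 0) (t₀ f s hs) (t₀_a f s hs) F _ (Iso.refl _) q
  | n + 1 => EtRetr.exists_retract (g f n) (t f s hs n) (t_g f s hs n)
      ((EtCoh.pull (a f n)).obj F) ((EtCoh.pull (a f (n + 1))).obj F)
      ((EtCore.pullCongr (g_a f n).symm).app F ≪≫ (EtCore.pullComp (g f n) (a f n)).app F) q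

/-- the tower of split monomorphisms -/
noncomputable def sys : SpRetr1.RetrSys AddCommGrpCat.{u + 1} where
  A := A f F q
  ι n := (exists_retract f s hs F q n).choose
  ρ n := (exists_retract f s hs F q n).choose_spec.choose
  ι_ρ n := (exists_retract f s hs F q n).choose_spec.choose_spec

include hs in
theorem main :
    ∃ (E : CohomologicalSpectralSequence AddCommGrpCat.{u + 1} 1)
      (ab : SpSeq.Abutment E (fun n : ℤ =>
        if 0 ≤ n then AddCommGrpCat.of (EtCoh.H Y F n.toNat) else AddCommGrpCat.of PUnit.{u + 2})),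
      (∀ n, ab.IsFinite n) ∧ SpSeq.IsBounded E ∧
      ∀ p q : ℤ, Nonempty ((E.page 1 le_rfl).X (p, q) ≅
        (if 0 ≤ p ∧ 0 ≤ q then
          AddCommGrpCat.of (EtCoh.H (widePullback Y (fun _ : Fin (p.toNat + 1) => X) (fun _ => f))
            ((EtCoh.pull (WidePullback.base (fun _ : Fin (p.toNat + 1) => f) :
              widePullback Y (fun _ : Fin (p.toNat + 1) => X) (fun _ => f) ⟶ Y)).obj F) q.toNat)
         else AddCommGrpCat.of PUnit.{u + 2})) :=
  SpOne3.main (fun q => sys f s hs F q) (AddCommGrpCat.of PUnit.{u + 2})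
    (AddCommGrpCat.of PUnit.{u + 2}) (AddCommGrpCat.isZero_of_subsingleton _)
    (AddCommGrpCat.isZero_of_subsingleton _)

end Groth.Agent.Helper9.EtDescSect
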