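import Mathlib
import Groth.Prelude.Def_EtCore
import Groth.Agent.Helper9.EtMV2

/-! The Mayer–Vietoris sequence in étale cohomology. -/

set_option autoImplicit false
set_option linter.style.haveILetI false
set_option linter.unusedSectionVars false
universe u

namespace Groth.Agent.Helper9.EtMV3

open CategoryTheory CategoryTheory.Limits AlgebraicGeometry Opposite Abelian
open Groth.Agent.Helper9.EtMV1 Groth.Agent.Helper9.EtMV2

variable {X : Scheme.{u}} (U V : X.Opens) (F : EtCoh.Ab X)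
  [PreservesFiniteLimits (EtCoh.pull U.ι)] [PreservesFiniteLimits (EtCoh.pull V.ι)]
  [PreservesFiniteLimits (EtCoh.pull (U ⊓ V).ι)]

/-- `Ext^n(ℤ_U ⊕ ℤ_V, F) → H^n(U) × H^n(V)` -/
noncomputable def ΘUV (n : ℕ) : Ext (K U.ι ⊞ K V.ι) F n →+
    EtCoh.H ↑U ((EtCoh.pull U.ι).obj F) n × EtCoh.H ↑V ((EtCoh.pull V.ι).obj F) n :=
  AddMonoidHom.prod
    ((θ U.ι F n).toAddMonoidHom.comp ((Ext.mk₀ biprod.inl).precomp F (zero_add n)))
    ((θ V.ι F n).toAddMonoidHom.comp ((Ext.mk₀ biprod.inr).precomp F (zero_add n)))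

lemma ΘUV_apply (n : ℕ) (x : Ext (K U.ι ⊞ K V.ι) F n) :
    ΘUV U V F n x = (θ U.ι F n ((Ext.mk₀ biprod.inl).comp x (zero_add n)),
      θ V.ι F n ((Ext.mk₀ biprod.inr).comp x (zero_add n))) := rfl

theorem ΘUV_injective (n : ℕ) : Function.Injective (ΘUV U V F n) := by
  rw [injective_iff_map_eq_zero]
  intro x hx
  rw [ΘUV_apply, Prod.mk_eq_zero] at hx
  have h1 : (Ext.mk₀ biprod.inl).comp x (zero_add n) = 0 :=
    (θ U.ι F n).injective (hx.1.trans (map_zero _).symm)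
  have h2 : (Ext.mk₀ biprod.inr).comp x (zero_add n) = 0 :=
    (θ V.ι F n).injective (hx.2.trans (map_zero _).symm)
  have h3 : x = (Ext.mk₀ (𝟙 (K U.ι ⊞ K V.ι))).comp x (zero_add n) := (Ext.mk₀_id_comp x).symm
  rw [h3, ← biprod.total, Ext.mk₀_add, Ext.add_comp, ← Ext.mk₀_comp_mk₀, ← Ext.mk₀_comp_mk₀,
    Ext.comp_assoc_of_second_deg_zero, Ext.comp_assoc_of_second_deg_zero, h1, h2,
    Ext.comp_zero, Ext.comp_zero, add_zero]

theorem ΘUV_surjective (n : ℕ) : Function.Surjective (ΘUV U V F n) := by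
  rintro ⟨y1, y2⟩
  refine ⟨(Ext.mk₀ biprod.fst).comp ((θ U.ι F n).symm y1) (zero_add n) +
    (Ext.mk₀ biprod.snd).comp ((θ V.ι F n).symm y2) (zero_add n), ?_⟩
  rw [ΘUV_apply, Ext.comp_add, Ext.comp_add, ← Ext.comp_assoc_of_second_deg_zero,
    ← Ext.comp_assoc_of_second_deg_zero, ← Ext.comp_assoc_of_second_deg_zero,
    ← Ext.comp_assoc_of_second_deg_zero]
  simp only [Ext.mk₀_comp_mk₀, biprod.inl_fst, biprod.inl_snd, biprod.inr_fst, biprod.inr_snd,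
    Ext.mk₀_zero, Ext.zero_comp, Ext.mk₀_id_comp, add_zero, zero_add, AddEquiv.apply_symm_apply]

theorem ΘUV_g (n : ℕ) (x : EtCoh.H X F n) :
    ΘUV U V F n ((Ext.mk₀ (biprod.desc (c U.ι) (c V.ι))).comp x (zero_add n)) =
      (EtCore.Hpull U.ι F n x, EtCore.Hpull V.ι F n x) := by
  rw [ΘUV_apply]
  have e1 : (Ext.mk₀ (biprod.inl : K U.ι ⟶ K U.ι ⊞ K V.ι)).comp
      ((Ext.mk₀ (biprod.desc (c U.ι) (c V.ι))).comp x (zero_add n)) (zero_add n) =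
      (Ext.mk₀ (c U.ι)).comp x (zero_add n) := by
    rw [← Ext.comp_assoc_of_second_deg_zero, Ext.mk₀_comp_mk₀, biprod.inl_desc]
  have e2 : (Ext.mk₀ (biprod.inr : K V.ι ⟶ K U.ι ⊞ K V.ι)).comp
      ((Ext.mk₀ (biprod.desc (c U.ι) (c V.ι))).comp x (zero_add n)) (zero_add n) =
      (Ext.mk₀ (c V.ι)).comp x (zero_add n) := by
    rw [← Ext.comp_assoc_of_second_deg_zero, Ext.mk₀_comp_mk₀, biprod.inr_desc]
  rw [e1, e2, θ_c, θ_c]

variable [PreservesFiniteLimits (EtCoh.pull (X.homOfLE (inf_le_left : U ⊓ V ≤ U)))]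
  [PreservesFiniteLimits (EtCoh.pull (X.homOfLE (inf_le_right : U ⊓ V ≤ V)))]

/-- the difference map -/
noncomputable def d (n : ℕ) :
    EtCoh.H ↑U ((EtCoh.pull U.ι).obj F) n × EtCoh.H ↑V ((EtCoh.pull V.ι).obj F) n →+
      EtCoh.H ↑(U ⊓ V) ((EtCoh.pull (U ⊓ V).ι).obj F) n :=
  (EtCore.HpullVia (X.homOfLE (inf_le_left : U ⊓ V ≤ U)) U.ι (U ⊓ V).ι
      (X.homOfLE_ι inf_le_left) F n).comp (AddMonoidHom.fst _ _) -
    (EtCore.HpullVia (X.homOfLE (inf_le_right : U ⊓ V ≤ V)) V.ι (U ⊓ V).ι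
      (X.homOfLE_ι inf_le_right) F n).comp (AddMonoidHom.snd _ _)

theorem θ_f (n : ℕ) (y : Ext (K U.ι ⊞ K V.ι) F n) :
    θ (U ⊓ V).ι F n ((Ext.mk₀ (biprod.lift (aU U V) (-(aV U V)))).comp y (zero_add n)) =
      d U V F n (ΘUV U V F n y) := by
  have eU : θ (U ⊓ V).ι F n ((Ext.mk₀ (aU U V)).comp
      ((Ext.mk₀ biprod.inl).comp y (zero_add n)) (zero_add n)) =
      EtCore.HpullVia (X.homOfLE (inf_le_left : U ⊓ V ≤ U)) U.ι (U ⊓ V).ι
        (X.homOfLE_ι inf_le_left) F n (θ U.ι F n ((Ext.mk₀ biprod.inl).comp y (zero_add n))) :=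
    θ_a _ _ _ _ F n _
  have eV : θ (U ⊓ V).ι F n ((Ext.mk₀ (aV U V)).comp
      ((Ext.mk₀ biprod.inr).comp y (zero_add n)) (zero_add n)) =
      EtCore.HpullVia (X.homOfLE (inf_le_right : U ⊓ V ≤ V)) V.ι (U ⊓ V).ι
        (X.homOfLE_ι inf_le_right) F n (θ V.ι F n ((Ext.mk₀ biprod.inr).comp y (zero_add n))) :=
    θ_a _ _ _ _ F n _
  rw [biprod.lift_eq, Preadditive.neg_comp, Ext.mk₀_add, Ext.mk₀_neg, Ext.add_comp, Ext.neg_comp,
    ← Ext.mk₀_comp_mk₀, ← Ext.mk₀_comp_mk₀, Ext.comp_assoc_of_second_deg_zero,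
    Ext.comp_assoc_of_second_deg_zero, map_add, map_neg, eU, eV, ← sub_eq_add_neg]
  rfl

theorem main' (hUV : U ⊔ V = ⊤) :
    ∃ δ : ∀ n : ℕ, EtCoh.H ↑(U ⊓ V) ((EtCoh.pull (U ⊓ V).ι).obj F) n →+ EtCoh.H X F (n + 1),
      (AddMonoidHom.prod (EtCore.Hpull U.ι F 0) (EtCore.Hpull V.ι F 0)).ker = ⊥ ∧
      (∀ n : ℕ, (AddMonoidHom.prod (EtCore.Hpull U.ι F (n + 1))
        (EtCore.Hpull V.ι F (n + 1))).ker = (δ n).range) ∧
      (∀ n : ℕ, (d U V F n).ker =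
        (AddMonoidHom.prod (EtCore.Hpull U.ι F n) (EtCore.Hpull V.ι F n)).range) ∧
      (∀ n : ℕ, (δ n).ker = (d U V F n).range) := by
  have hS := shortExact U V hUV
  haveI : Epi (biprod.desc (c U.ι) (c V.ι)) := hS.epi_g
  let δ : ∀ n : ℕ, EtCoh.H ↑(U ⊓ V) ((EtCoh.pull (U ⊓ V).ι).obj F) n →+ EtCoh.H X F (n + 1) :=
    fun n => (hS.extClass.precomp F (add_comm 1 n)).comp (θ (U ⊓ V).ι F n).symm.toAddMonoidHom
  have hδ : ∀ n y, δ n y = hS.extClass.comp ((θ (U ⊓ V).ι F n).symm y) (add_comm 1 n) :=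
    fun _ _ => rfl
  have hprod : ∀ (n : ℕ) (x : EtCoh.H X F n),
      AddMonoidHom.prod (EtCore.Hpull U.ι F n) (EtCore.Hpull V.ι F n) x =
        ΘUV U V F n ((Ext.mk₀ (biprod.desc (c U.ι) (c V.ι))).comp x (zero_add n)) :=
    fun n x => (ΘUV_g U V F n x).symm
  refine ⟨δ, ?_, ?_, ?_, ?_⟩
  · rw [AddSubgroup.eq_bot_iff_forall]
    intro x hx
    rw [AddMonoidHom.mem_ker, hprod] at hx
    have h0 := ΘUV_injective U V F 0 (hx.trans (map_zero _).symm)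
    exact Ext.precomp_mk₀_injective_of_epi F (biprod.desc (c U.ι) (c V.ι))
      (h0.trans (map_zero _).symm)
  · intro n
    ext x
    rw [AddMonoidHom.mem_ker, AddMonoidHom.mem_range, hprod]
    constructor
    · intro hx
      have h0 := ΘUV_injective U V F (n + 1) (hx.trans (map_zero _).symm)
      obtain ⟨(x₁ : Ext (K (U ⊓ V).ι) F n), hx₁⟩ :=
        Ext.contravariant_sequence_exact₃ hS F x h0 (add_comm 1 n)
      refine ⟨θ (U ⊓ V).ι F n x₁, ?_⟩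
      rw [hδ, AddEquiv.symm_apply_apply]
      exact hx₁
    · rintro ⟨y, rfl⟩
      rw [hδ]
      have := hS.comp_extClass_assoc ((θ (U ⊓ V).ι F n).symm y) (add_comm 1 n)
      rw [show (Ext.mk₀ (biprod.desc (c U.ι) (c V.ι))).comp
        (hS.extClass.comp ((θ (U ⊓ V).ι F n).symm y) (add_comm 1 n)) (zero_add (n + 1)) = 0
        from this, map_zero]
  · intro n
    ext p
    obtain ⟨y, rfl⟩ := ΘUV_surjective U V F n p
    rw [AddMonoidHom.mem_ker, ← θ_f, AddMonoidHom.mem_range]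
    constructor
    · intro h
      have h0 : (Ext.mk₀ (S U V).f).comp y (zero_add n) = 0 :=
        (θ (U ⊓ V).ι F n).injective (h.trans (map_zero _).symm)
      obtain ⟨(x : EtCoh.H X F n), hx⟩ := Ext.contravariant_sequence_exact₂ hS F y h0
      exact ⟨x, (hprod n x).trans (congrArg _ hx)⟩
    · rintro ⟨x, hx⟩
      rw [hprod] at hx
      have h1 := ΘUV_injective U V F n hx
      rw [← h1, ← Ext.comp_assoc_of_second_deg_zero, Ext.mk₀_comp_mk₀]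
      have hz : biprod.lift (aU U V) (-(aV U V)) ≫ biprod.desc (c U.ι) (c V.ι) = 0 := (S U V).zero
      rw [hz, Ext.mk₀_zero, Ext.zero_comp, map_zero]
  · intro n
    ext y
    rw [AddMonoidHom.mem_ker, AddMonoidHom.mem_range, hδ]
    constructor
    · intro h
      obtain ⟨(x₂ : Ext (K U.ι ⊞ K V.ι) F n), hx₂⟩ := Ext.contravariant_sequence_exact₁ hS F
        ((θ (U ⊓ V).ι F n).symm y) (add_comm 1 n) h
      refine ⟨ΘUV U V F n x₂, ?_⟩
      rw [← θ_f]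
      exact (congrArg _ hx₂).trans (AddEquiv.apply_symm_apply _ _)
    · rintro ⟨p, rfl⟩
      obtain ⟨x₂, rfl⟩ := ΘUV_surjective U V F n p
      rw [← θ_f, AddEquiv.symm_apply_apply]
      exact hS.extClass_comp_assoc x₂

end Groth.Agent.Helper9.EtMV3

namespace Groth.Agent.Helper9.EtMV3

open CategoryTheory CategoryTheory.Limits AlgebraicGeometry Opposite Abelian

theorem main (X : Scheme.{u}) (U V : X.Opens) (hUV : U ⊔ V = ⊤) (F : EtCoh.Ab X)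
    [PreservesFiniteLimits (EtCoh.pull U.ι)] [PreservesFiniteLimits (EtCoh.pull V.ι)]
    [PreservesFiniteLimits (EtCoh.pull (X.homOfLE (inf_le_left : U ⊓ V ≤ U)))]
    [PreservesFiniteLimits (EtCoh.pull (X.homOfLE (inf_le_right : U ⊓ V ≤ V)))] :
    ∃ δ : ∀ n : ℕ, EtCoh.H ↑(U ⊓ V) ((EtCoh.pull (U ⊓ V).ι).obj F) n →+ EtCoh.H X F (n + 1),
      (AddMonoidHom.prod (EtCore.Hpull U.ι F 0) (EtCore.Hpull V.ι F 0)).ker = ⊥ ∧
      (∀ n : ℕ, (AddMonoidHom.prod (EtCore.Hpull U.ι F (n + 1)) (EtCore.Hpull V.ι F (n + 1))).ker = (δ n).range) ∧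
      (∀ n : ℕ, (((EtCore.HpullVia (X.homOfLE (inf_le_left : U ⊓ V ≤ U)) U.ι (U ⊓ V).ι (X.homOfLE_ι inf_le_left) F n)).comp (AddMonoidHom.fst _ _) - ((EtCore.HpullVia (X.homOfLE (inf_le_right : U ⊓ V ≤ V)) V.ι (U ⊓ V).ι (X.homOfLE_ι inf_le_right) F n)).comp (AddMonoidHom.snd _ _)).ker =
        (AddMonoidHom.prod (EtCore.Hpull U.ι F n) (EtCore.Hpull V.ι F n)).range) ∧
      (∀ n : ℕ, (δ n).ker = (((EtCore.HpullVia (X.homOfLE (inf_le_left : U ⊓ V ≤ U)) U.ι (U ⊓ V).ι (X.homOfLE_ι inf_le_left) F n)).comp (AddMonoidHom.fst _ _) - ((EtCore.HpullVia (X.homOfLE (inf_le_right : U ⊓ V ≤ V)) V.ι (U ⊓ V).ι (X.homOfLE_ι inf_le_right) F n)).comp (AddMonoidHom.snd _ _)).range) := by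
  haveI : PreservesFiniteLimits (EtCoh.pull (U ⊓ V).ι) :=
    Groth.Agent.Helper9.EtMV1.preservesFiniteLimits_pull _
  exact main' U V F hUV

end Groth.Agent.Helper9.EtMV3
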