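import Mathlib
import Groth.Prelude.Def_SGA4b
import Groth.Prelude.Def_EtShriek2
import Groth.Agent.Helper9.EtShriekOpen
import Groth.Agent.Helper9.EtClosedSets

/-! Sheaves of sets: for étale `j`, `j^* ≅` restriction along `compEtale j`; for an étale
monomorphism (open immersion) `j_*` is fully faithful; for an immersion `f` the counit
`f^* f_* F ⟶ F` is an isomorphism. -/

set_option autoImplicit false
set_option backward.isDefEq.respectTransparency false
universe u

open CategoryTheory CategoryTheory.Limits Opposite AlgebraicGeometry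

namespace Groth.Agent.Helper9.EtOpenSets

open Groth.Agent.Helper9.EtShriekOpen

variable {U X : Scheme.{u}} (j : U ⟶ X) [hj : Etale j]

variable [EtShriek.JCont j]

/-- restriction of sheaves of sets along an étale morphism -/
noncomputable abbrev restrSh : EtDesc.Sh X ⥤ EtDesc.Sh U :=
  (EtShriek.compEtale j).sheafPushforwardContinuous (Type (u + 1)) U.smallEtaleTopology
    X.smallEtaleTopology

/-- the adjunction `j⁻¹ ⊣ j_*` coming from the site adjunction -/
noncomputable def sheafAdj : restrSh j ⊣ EtDesc.pushSh j :=
  (siteAdj j).sheafPushforwardContinuous (E := Type (u + 1))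
    U.smallEtaleTopology X.smallEtaleTopology

/-- restriction along an étale morphism is the inverse image -/
noncomputable def pullIsoRestr : EtDesc.pullSh j ≅ restrSh j :=
  (EtDesc.adjSh j).leftAdjointUniq (sheafAdj j)

section Mono

variable [Mono j]

omit [Mono j] in
lemma sheafAdj_counit_app_hom_app (F : EtDesc.Sh U) (V : U.Etale) :
    (((sheafAdj j).counit.app F).hom).app (op V) = F.obj.map ((siteAdj j).unit.app V).op := by
  dsimp [sheafAdj]
  simp

instance isIso_sheafAdj_counit_app (F : EtDesc.Sh U) : IsIso ((sheafAdj j).counit.app F) := by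
  haveI : IsIso ((sheafToPresheaf _ _).map ((sheafAdj j).counit.app F)) := by
    haveI : ∀ V, IsIso (((sheafToPresheaf _ _).map ((sheafAdj j).counit.app F)).app V) := by
      rintro ⟨V⟩
      change IsIso ((((sheafAdj j).counit.app F).hom).app (op V))
      rw [sheafAdj_counit_app_hom_app]
      infer_instance
    exact NatIso.isIso_of_isIso_app _
  exact isIso_of_reflects_iso _ (sheafToPresheaf _ _)

instance isIso_sheafAdj_counit : IsIso (sheafAdj j).counit :=
  NatIso.isIso_of_isIso_app _

/-- `j_*` is fully faithful on sheaves of sets for an étale monomorphism -/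
noncomputable def fullyFaithful : (EtDesc.pushSh j).FullyFaithful :=
  (sheafAdj j).fullyFaithfulROfIsIsoCounit

end Mono

section Immersion

theorem isIso_counit_app_of_comp {Z V Y : Scheme.{u}} (i : Z ⟶ V) [IsClosedImmersion i]
    (j : V ⟶ Y) [IsOpenImmersion j] {f : Z ⟶ Y} (hf : i ≫ j = f) (F : EtDesc.Sh Z) :
    IsIso ((EtDesc.adjSh f).counit.app F) := by
  subst hf
  have ff : (EtDesc.pushSh (i ≫ j)).FullyFaithful :=
    ((Groth.Agent.Helper9.EtClosedSets.fullyFaithful i).comp (fullyFaithful j)).ofIso
      (EtDesc.pushCompSh j i)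
  have := ff.full
  have := ff.faithful
  infer_instance

theorem isIso_counit_app_of_isImmersion {X Y : Scheme.{u}} (f : X ⟶ Y) [IsImmersion f]
    (F : EtDesc.Sh X) : IsIso ((EtDesc.adjSh f).counit.app F) :=
  isIso_counit_app_of_comp f.liftCoborder f.coborderRange.ι f.liftCoborder_ι F

end Immersion

end Groth.Agent.Helper9.EtOpenSets
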