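import Mathlib
import Groth.Prelude.Def_BigSite
import Groth.Prelude.Def_SGA4b

/-! Condition (C) on `f : X ⟶ Y` implies that `f_*` on étale sheaves of sets reflects
monomorphisms and epimorphisms. -/

set_option autoImplicit false
universe u

open CategoryTheory CategoryTheory.Limits Opposite AlgebraicGeometry

namespace Groth.Agent.Helper9.EtPropC

variable {X Y : Scheme.{u}} (f : X ⟶ Y)

set_option backward.isDefEq.respectTransparency.types false in
/-- the sieve generated by a surjective morphism of the small étale site is covering -/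
theorem generate_mem_of_surjective {U W : X.Etale} (h : W ⟶ U)
    (hs : Function.Surjective h.left.base) :
    Sieve.ofArrows (fun _ : Unit => W) (fun _ => h) ∈ X.smallEtaleTopology U := by
  rw [Scheme.ofArrows_mem_smallEtaleTopology_iff]
  ext x
  simp only [Set.mem_iUnion, Set.mem_range, Set.mem_univ, iff_true]
  obtain ⟨w, hw⟩ := hs x
  exact ⟨(), w, hw⟩

/-- a sieve whose pullback along a surjective morphism is covering is covering -/
theorem mem_of_pullback_mem {U W : X.Etale} (h : W ⟶ U)
    (hs : Function.Surjective h.left.base) (R : Sieve U)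
    (hR : R.pullback h ∈ X.smallEtaleTopology W) : R ∈ X.smallEtaleTopology U := by
  refine X.smallEtaleTopology.transitive (generate_mem_of_surjective h hs) R ?_
  rintro Z g ⟨_, w, _, ⟨⟨⟩⟩, rfl⟩
  rw [Sieve.pullback_comp]
  exact X.smallEtaleTopology.pullback_stable w hR

set_option backward.isDefEq.respectTransparency.types false in
/-- site-level form of condition (C) -/
theorem exists_surj_of_propC (hC : BigSite.PropC f) (U : X.Etale) :
    ∃ (V : Y.Etale) (h : (EtCoh.bc f).obj V ⟶ U), Function.Surjective h.left.base := by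
  have : Etale U.hom := U.prop
  obtain ⟨V, v, hv, h, hh, hs⟩ := hC U.left U.hom
  let V' : Y.Etale := Scheme.Etale.mk v
  let h₀ : ((EtCoh.bc f).obj V').left ⟶ U.left := (pullbackSymmetry v f).hom ≫ h
  have hw : h₀ ≫ U.hom = ((EtCoh.bc f).obj V').hom := by
    show ((pullbackSymmetry v f).hom ≫ h) ≫ U.hom = pullback.snd v f
    rw [Category.assoc, hh, pullbackSymmetry_hom_comp_fst]
  refine ⟨V', MorphismProperty.Over.homMk h₀ hw trivial, ?_⟩
  show Function.Surjective h₀.base
  intro x
  obtain ⟨y, hy⟩ := hs.surj x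
  refine ⟨(pullbackSymmetry v f).inv y, ?_⟩
  show ((pullbackSymmetry v f).hom ≫ h) ((pullbackSymmetry v f).inv y) = x
  rw [← Scheme.Hom.comp_apply, Iso.inv_hom_id_assoc]
  exact hy

variable {f}

theorem mono_of_mono_push (hC : BigSite.PropC f) {F G : EtDesc.Sh X} (a : F ⟶ G)
    (hm : Mono ((EtDesc.pushSh f).map a)) : Mono a := by
  have hinj : ∀ V : Y.Etale, Function.Injective (a.hom.app (op ((EtCoh.bc f).obj V))) := by
    intro V
    have h1 : Mono ((sheafToPresheaf _ _).map ((EtDesc.pushSh f).map a)) := inferInstance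
    have h2 := (NatTrans.mono_iff_mono_app _).1 h1 (op V)
    exact (mono_iff_injective _).1 h2
  apply Sheaf.mono_of_injective
  rintro ⟨U⟩ s s' hss
  obtain ⟨V, h, hs⟩ := exists_surj_of_propC f hC U
  have h3 : F.obj.map h.op s = F.obj.map h.op s' := by
    apply hinj V
    have n1 := NatTrans.naturality_apply a.hom h.op s
    have n2 := NatTrans.naturality_apply a.hom h.op s'
    rw [n1, n2, hss]
  have hsep := ((isSheaf_iff_isSheaf_of_type _ _).1 F.property).isSeparated _
    (generate_mem_of_surjective h hs)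
  apply hsep.ext
  rintro Z g ⟨_, w, _, ⟨⟨⟩⟩, rfl⟩
  rw [op_comp, Functor.map_comp_apply, Functor.map_comp_apply, h3]

theorem epi_of_epi_push (hC : BigSite.PropC f) {F G : EtDesc.Sh X} (a : F ⟶ G)
    (he : Epi ((EtDesc.pushSh f).map a)) : Epi a := by
  have hls : Sheaf.IsLocallySurjective ((EtDesc.pushSh f).map a) :=
    (Sheaf.isLocallySurjective_iff_epi _).2 he
  rw [← Sheaf.isLocallySurjective_iff_epi]
  constructor
  intro U t
  obtain ⟨V, h, hs⟩ := exists_surj_of_propC f hC U
  apply mem_of_pullback_mem h hs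
  have hS := Presheaf.imageSieve_mem Y.smallEtaleTopology ((EtDesc.pushSh f).map a).hom
    (U := op V) (G.obj.map h.op t)
  refine X.smallEtaleTopology.superset_covering ?_
    ((EtCoh.coverPreserving_bc f).cover_preserve hS)
  rintro Z g ⟨V', k, w, ⟨s, hs'⟩, rfl⟩
  refine ⟨F.obj.map w.op s, ?_⟩
  have n1 := NatTrans.naturality_apply a.hom w.op s
  refine n1.trans ?_
  have hs'' : a.hom.app (op ((EtCoh.bc f).obj V')) s =
      G.obj.map ((EtCoh.bc f).map k).op (G.obj.map h.op t) := hs'
  rw [hs'']
  simp only [← Functor.map_comp_apply, ← op_comp, Category.assoc]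

theorem main (hC : BigSite.PropC f) :
    (EtDesc.pushSh f).ReflectsMonomorphisms ∧ (EtDesc.pushSh f).ReflectsEpimorphisms :=
  ⟨⟨fun a hm => mono_of_mono_push hC a hm⟩, ⟨fun a he => epi_of_epi_push hC a he⟩⟩

end Groth.Agent.Helper9.EtPropC
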