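import Mathlib
import Groth.Prelude.Def_EtBase
import Groth.Agent.Helper9.EtClosedEss
import Groth.Agent.Helper9.EtPushInj

/-! For a closed immersion `i` with open complement `j` and an injective abelian étale sheaf `I`
on `X`, the sheaf `i⁻¹ ker(I ⟶ j_* j⁻¹ I)` is injective. -/

set_option autoImplicit false
universe u

open CategoryTheory CategoryTheory.Limits Opposite AlgebraicGeometry

namespace Groth.Agent.Helper9.EtSuppInj

open Groth.Agent.Helper9.EtStalkPull Groth.Agent.Helper9.EtStalkExact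
  Groth.Agent.Helper9.EtClosedEss Groth.Agent.Helper9.EtPushInj

variable {Z X U : Scheme.{u}} (i : Z ⟶ X) [IsClosedImmersion i]
  (j : U ⟶ X) [IsOpenImmersion j] (hZU : Set.range j = (Set.range i)ᶜ)

attribute [local instance] preservesFilteredColimits_forget_ab

omit [IsClosedImmersion i] [IsOpenImmersion j] in
include hZU in
theorem disjoint_comp {Ω : Type u} [Field Ω] (η : Spec (CommRingCat.of Ω) ⟶ U) :
    Disjoint (Set.range (η ≫ j).base) (Set.range i.base) := by
  rw [Set.disjoint_left]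
  rintro _ ⟨p, rfl⟩ hcon
  have h1 : (η ≫ j).base p ∈ Set.range j := ⟨η.base p, by simp⟩
  rw [hZU] at h1
  exact h1 hcon

omit [IsClosedImmersion i] in
include hZU in
theorem exists_lift {Ω : Type u} [Field Ω] (ξ : Spec (CommRingCat.of Ω) ⟶ X)
    (hξ : Disjoint (Set.range ξ.base) (Set.range i.base)) :
    ∃ η : Spec (CommRingCat.of Ω) ⟶ U, η ≫ j = ξ := by
  have hr : Set.range ξ.base ⊆ Set.range j.base := by
    intro x hx
    have : x ∈ (Set.range i)ᶜ := fun hcon => (Set.disjoint_left.1 hξ) hx hcon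
    rw [← hZU] at this
    exact this
  exact ⟨IsOpenImmersion.lift j ξ hr, IsOpenImmersion.lift_fac j ξ hr⟩

include hZU in
theorem isZero_pull_push (B : EtCoh.Ab Z) :
    IsZero ((EtCoh.pull j).obj ((EtCoh.push i).obj B)) := by
  apply isZero_of_stalks
  intro Ω _ _ η
  have h1 : IsZero ((EtCoh.stalk (η ≫ j)).obj ((EtCoh.push i).obj B)) :=
    Groth.Agent.Helper9.EtPushClosedZero.main i B (η ≫ j) (disjoint_comp i j hZU η)
  exact h1.of_iso ((stalkPullIso j η).app _)

include hZU in
theorem isIso_unit_of_isZero_pull (F : EtCoh.Ab X) (hF : IsZero ((EtCoh.pull j).obj F)) :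
    IsIso ((EtCoh.pullPushAdj i).unit.app F) := by
  have key : ∀ (Ω : Type u) [Field Ω] [IsSepClosed Ω] (ξ : Spec (CommRingCat.of Ω) ⟶ X),
      Function.Bijective ((EtCoh.stalk ξ).map ((EtCoh.pullPushAdj i).unit.app F)) := by
    intro Ω _ _ ξ
    by_cases hξ : Disjoint (Set.range ξ.base) (Set.range i.base)
    · obtain ⟨η, rfl⟩ := exists_lift i j hZU ξ hξ
      have h0 : IsZero ((EtCoh.stalk (η ≫ j)).obj F) :=
        (((EtCoh.stalk η).map_isZero hF)).of_iso ((stalkPullIso j η).app F).symm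
      have h1 : Subsingleton ↑((EtCoh.stalk (η ≫ j)).obj F) :=
        AddCommGrpCat.subsingleton_of_isZero h0
      have h2 : Subsingleton
          ↑((EtCoh.stalk (η ≫ j)).obj ((EtCoh.push i).obj ((EtCoh.pull i).obj F))) :=
        AddCommGrpCat.subsingleton_of_isZero
          (Groth.Agent.Helper9.EtPushClosedZero.main i _ (η ≫ j) hξ)
      exact ⟨fun a b _ => @Subsingleton.elim _ h1 a b,
        fun y => ⟨0, @Subsingleton.elim _ h2 _ _⟩⟩
    · obtain ⟨ζ, rfl⟩ := exists_lift_geomPt i ξ hξ
      exact (ConcreteCategory.isIso_iff_bijective _).1 (isIso_stalk_map_unit i F ζ)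
  have hm : Mono ((EtCoh.pullPushAdj i).unit.app F) := by
    rw [mono_iff_stalks]
    exact fun Ω _ _ ξ => (key Ω ξ).1
  have he : Epi ((EtCoh.pullPushAdj i).unit.app F) := by
    rw [epi_iff_stalks]
    exact fun Ω _ _ ξ => (key Ω ξ).2
  exact isIso_of_mono_of_epi _

/-- the kernel of the unit `F ⟶ j_* j⁻¹ F` restricts to zero on `U` -/
theorem isZero_pull_kernel (F : EtCoh.Ab X) :
    IsZero ((EtCoh.pull j).obj (kernel ((EtCoh.pullPushAdj j).unit.app F))) := by
  have hmono : Mono ((EtCoh.pull j).map ((EtCoh.pullPushAdj j).unit.app F)) := by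
    have h := (EtCoh.pullPushAdj j).left_triangle_components F
    exact (SplitMono.mk ((EtCoh.pullPushAdj j).counit.app ((EtCoh.pull j).obj F)) h).mono
  have e := PreservesKernel.iso (EtCoh.pull j) ((EtCoh.pullPushAdj j).unit.app F)
  exact (isZero_kernel_of_mono _).of_iso e

include hZU in
theorem injective_pull_kernel (I : EtCoh.Ab X) [Injective I] :
    Injective ((EtCoh.pull i).obj (kernel ((EtCoh.pullPushAdj j).unit.app I))) := by
  set K := kernel ((EtCoh.pullPushAdj j).unit.app I) with hK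
  have hunit : IsIso ((EtCoh.pullPushAdj i).unit.app K) :=
    isIso_unit_of_isZero_pull i j hZU K (isZero_pull_kernel j I)
  let e : K ≅ (EtCoh.push i).obj ((EtCoh.pull i).obj K) := asIso ((EtCoh.pullPushAdj i).unit.app K)
  let ff := Groth.Agent.Helper9.EtClosedFF.fullyFaithful i
  constructor
  intro A B g m hm
  have : Mono ((EtCoh.push i).map m) := inferInstance
  let g' : (EtCoh.push i).obj A ⟶ I := (EtCoh.push i).map g ≫ e.inv ≫ kernel.ι _
  obtain ⟨h', hh'⟩ : ∃ h' : (EtCoh.push i).obj B ⟶ I, (EtCoh.push i).map m ≫ h' = g' :=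
    ⟨Injective.factorThru g' ((EtCoh.push i).map m), Injective.comp_factorThru _ _⟩
  have hz : h' ≫ (EtCoh.pullPushAdj j).unit.app I = 0 := by
    apply ((EtCoh.pullPushAdj j).homEquiv _ _).symm.injective
    exact (isZero_pull_push i j hZU B).eq_of_src _ _
  let h'' : (EtCoh.push i).obj B ⟶ K := kernel.lift _ h' hz
  have hh'' : h'' ≫ kernel.ι _ = h' := kernel.lift_ι _ _ _
  refine ⟨ff.preimage (h'' ≫ e.hom), ?_⟩
  apply ff.map_injective
  rw [Functor.map_comp, ff.map_preimage]
  have h3 : (EtCoh.push i).map m ≫ h'' = (EtCoh.push i).map g ≫ e.inv := by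
    rw [← cancel_mono (kernel.ι ((EtCoh.pullPushAdj j).unit.app I)), Category.assoc, hh'', hh',
      Category.assoc]
  rw [← Category.assoc, h3, Category.assoc, Iso.inv_hom_id, Category.comp_id]

end Groth.Agent.Helper9.EtSuppInj
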