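import Mathlib
import Groth.Prelude.Def_W4c1etweilhu916Glue
import Groth.Agent.Helper9.AbsGlue
import Groth.Agent.Helper9.EtSuppInj
import Groth.Agent.Helper9.EtShriekOpen
import Groth.Agent.Helper9.EtClosedFF

/-! The recollement functor `F ↦ (i⁻¹F, j⁻¹F, i⁻¹F ⟶ i⁻¹j_*j⁻¹F)` for a closed immersion `i` with
open complement `j` is an equivalence (abelian étale sheaves). -/

set_option autoImplicit false
universe u

open CategoryTheory CategoryTheory.Limits Opposite AlgebraicGeometry

namespace Groth.Agent.Helper9.EtRecollEquiv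

open Groth.Agent.Helper9.EtStalkPull Groth.Agent.Helper9.EtStalkExact
  Groth.Agent.Helper9.EtClosedEss Groth.Agent.Helper9.EtPushInj Groth.Agent.Helper9.EtSuppInj

variable {X Z U : Scheme.{u}} (i : Z ⟶ X) [IsClosedImmersion i]
  (j : U ⟶ X) [IsOpenImmersion j] (hZU : Set.range j = (Set.range i)ᶜ)

attribute [local instance] preservesFilteredColimits_forget_ab

include hZU in
/-- `i⁻¹` and `j⁻¹` are jointly conservative -/
theorem isIso_of_isIso_pull {F G : EtCoh.Ab X} (c : F ⟶ G)
    (hj : IsIso ((EtCoh.pull j).map c)) (hi : IsIso ((EtCoh.pull i).map c)) : IsIso c := by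
  have key : ∀ (Ω : Type u) [Field Ω] [IsSepClosed Ω] (ξ : Spec (CommRingCat.of Ω) ⟶ X),
      Function.Bijective ((EtCoh.stalk ξ).map c) := by
    intro Ω _ _ ξ
    by_cases hξ : Disjoint (Set.range ξ.base) (Set.range i.base)
    · obtain ⟨η, rfl⟩ := exists_lift i j hZU ξ hξ
      have h2 : IsIso ((EtCoh.pull j ⋙ EtCoh.stalk η).map c) := by
        rw [Functor.comp_map]
        infer_instance
      exact (ConcreteCategory.isIso_iff_bijective _).1
        ((NatIso.isIso_map_iff (stalkPullIso j η) c).1 h2)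
    · obtain ⟨ζ, rfl⟩ := exists_lift_geomPt i ξ hξ
      have h2 : IsIso ((EtCoh.pull i ⋙ EtCoh.stalk ζ).map c) := by
        rw [Functor.comp_map]
        infer_instance
      exact (ConcreteCategory.isIso_iff_bijective _).1
        ((NatIso.isIso_map_iff (stalkPullIso i ζ) c).1 h2)
  have hm : Mono c := by
    rw [mono_iff_stalks]
    exact fun Ω _ _ ξ => (key Ω ξ).1
  have he : Epi c := by
    rw [epi_iff_stalks]
    exact fun Ω _ _ ξ => (key Ω ξ).2
  exact isIso_of_mono_of_epi _

include hZU in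
theorem main : (EtCore.recollTriple i j).IsEquivalence := by
  haveI : IsIso (EtCoh.pullPushAdj i).counit := Groth.Agent.Helper9.EtClosedFF.isIso_counit i
  haveI : IsIso (EtCoh.pullPushAdj j).counit := by
    haveI := fun F => Groth.Agent.Helper9.EtShriekOpen.isIso_pullPushAdj_counit_app j F
    exact NatIso.isIso_of_isIso_app _
  have hz : ∀ {B B' : EtCoh.Ab Z} (m : B ⟶ B'),
      IsIso ((EtCoh.pull j).map ((EtCoh.push i).map m)) := by
    intro B B' m
    have h1 := isZero_pull_push i j hZU B
    have h2 := isZero_pull_push i j hZU B'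
    exact ⟨⟨0, h1.eq_of_src _ _, h2.eq_of_src _ _⟩⟩
  have hcons : ∀ {F G : EtCoh.Ab X} (c : F ⟶ G), IsIso ((EtCoh.pull j).map c) →
      IsIso ((EtCoh.pull i).map c) → IsIso c := fun c hj hi => isIso_of_isIso_pull i j hZU c hj hi
  exact Groth.Agent.Helper9.AbsGlue.isEquivalence (EtCoh.pullPushAdj i) (EtCoh.pullPushAdj j)
    hz hcons

end Groth.Agent.Helper9.EtRecollEquiv
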