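import Mathlib
import Groth.Prelude.Def_SGA4b
import Groth.Agent.Helper9.EtPullSurjSets

/-! Sections of étale sheaves of sets: naturality of `secPull`, and the "mono + injective"
lemma. -/

set_option autoImplicit false
universe u

open CategoryTheory CategoryTheory.Limits Opposite AlgebraicGeometry

namespace Groth.Agent.Helper9.EtSecPullMono

open Groth.Agent.Helper9.EtPullSurjSets

noncomputable instance adhesiveSh (X : Scheme.{u}) : Adhesive (EtDesc.Sh X) :=
  adhesive_of_reflective (sheafificationAdjunction X.smallEtaleTopology (Type (u + 1)))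

variable {X Y : Scheme.{u}}

theorem secPull_naturality (f : X ⟶ Y) {F G : EtDesc.Sh Y} (v : F ⟶ G)
    (s : EtDesc.sect F (EtCoh.top Y)) :
    ((EtDesc.pullSh f).map v).hom.app (op (EtCoh.top X)) (EtDesc.secPull f F s) =
      EtDesc.secPull f G (v.hom.app (op (EtCoh.top Y)) s) := by
  unfold EtDesc.secPull
  have h1 := NatTrans.naturality_apply ((EtDesc.pullSh f).map v).hom (EtCore.bcTopIso f).inv.op
    (((EtDesc.adjSh f).unit.app F).hom.app (op (EtCoh.top Y)) s)
  refine h1.trans ?_
  congr 1
  have h2 := (EtDesc.adjSh f).unit.naturality v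
  have h3 := congrArg (fun m => m.hom.app (op (EtCoh.top Y)) s) h2
  exact h3.symm

theorem injective_app_of_mono {F G : EtDesc.Sh X} (v : F ⟶ G) [Mono v] (U : X.Etaleᵒᵖ) :
    Function.Injective (v.hom.app U) := by
  have h1 : Mono v.hom := (Sheaf.Hom.mono_iff_presheaf_mono _ _ v).1 inferInstance
  have h2 : Mono (v.hom.app U) := inferInstance
  exact (mono_iff_injective _).1 h2

theorem mem_range (h : Y ⟶ X)
    (hinj : ∀ F : EtDesc.Sh X, Function.Injective (EtDesc.secPull h F))
    {F G : EtDesc.Sh X} (v : F ⟶ G) [Mono v]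
    (ξ : EtDesc.sect ((EtDesc.pullSh h).obj F) (EtCoh.top Y))
    (hξ : ((EtDesc.pullSh h).map v).hom.app (op (EtCoh.top Y)) ξ ∈
      Set.range (EtDesc.secPull h G)) :
    ξ ∈ Set.range (EtDesc.secPull h F) := by
  obtain ⟨η, hη⟩ := hξ
  have hpo : IsPushout v v (pushout.inl v v) (pushout.inr v v) := IsPushout.of_hasPushout v v
  have hpb : IsPullback v v (pushout.inl v v) (pushout.inr v v) :=
    Adhesive.isPullback_of_isPushout_of_mono_left hpo
  let ev : EtDesc.Sh X ⥤ Type (u + 1) :=
    sheafToPresheaf X.smallEtaleTopology (Type (u + 1)) ⋙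
      (evaluation _ _).obj (op (EtCoh.top X))
  have hpb' := hpb.map ev
  have heq : (pushout.inl v v).hom.app (op (EtCoh.top X)) η =
      (pushout.inr v v).hom.app (op (EtCoh.top X)) η := by
    apply hinj
    rw [← secPull_naturality, ← secPull_naturality, hη]
    have := congrArg (fun m => ((EtDesc.pullSh h).map m).hom.app (op (EtCoh.top Y)) ξ) hpo.w
    simpa using this
  obtain ⟨ζ, hζ1, hζ2⟩ := Types.exists_of_isPullback hpb' η η heq
  refine ⟨ζ, ?_⟩
  apply injective_app_of_mono ((EtDesc.pullSh h).map v)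
  rw [secPull_naturality]
  exact (congrArg (EtDesc.secPull h G) hζ1).trans hη

end Groth.Agent.Helper9.EtSecPullMono
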