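import Mathlib
import Groth.Prelude.Def_SGA4b
import Groth.Prelude.Def_EtBCD
import Groth.Agent.Helper9.EtSecPullMono

/-! Compatibility of the base change morphism for sheaves of sets with pullback of global
sections, and descent of injectivity/bijectivity of `secPull` along a surjective morphism. -/

set_option autoImplicit false
universe u

open CategoryTheory CategoryTheory.Limits Opposite AlgebraicGeometry

namespace Groth.Agent.Helper9.EtSecPullBC

open Groth.Agent.Helper9.EtPullSurjSets Groth.Agent.Helper9.EtSecPullMono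

variable {X Y Xb Yb : Scheme.{u}} (h : Y ⟶ X) (p : Xb ⟶ X) (hb : Yb ⟶ Xb) (pY : Yb ⟶ Y)
  (w : hb ≫ p = pY ≫ h)

/-- `bc hb (bc p top)` is terminal -/
noncomputable def isTerminalBcBc :
    IsTerminal ((EtCoh.bc hb).obj ((EtCoh.bc p).obj (EtCoh.top X))) :=
  IsTerminal.isTerminalObj (EtCoh.bc hb) _ (EtCore.bcTopIsTerminal p)

variable (Fb : EtDesc.Sh Xb)

/-- the morphism whose transpose is the base change morphism -/
noncomputable def theta : (EtDesc.pushSh p).obj Fb ⟶
    (EtDesc.pushSh h).obj ((EtDesc.pushSh pY).obj ((EtDesc.pullSh hb).obj Fb)) :=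
  (EtDesc.pushSh p).map ((EtDesc.adjSh hb).unit.app Fb) ≫ (EtDesc.pushCompSh p hb).hom.app _ ≫
      (EtBC.pushCongrSh w).hom.app _ ≫ (EtDesc.pushCompSh h pY).inv.app _

theorem unit_comp_push_bc :
    (EtDesc.adjSh h).unit.app _ ≫ (EtDesc.pushSh h).map (EtBC.baseChange0Sh p h pY hb w Fb) =
      theta h p hb pY w Fb := by
  have := ((EtDesc.adjSh h).homEquiv _ _).apply_symm_apply (theta h p hb pY w Fb)
  rw [Adjunction.homEquiv_unit] at this
  exact this

theorem piece1 (G : EtDesc.Sh Yb) :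
    ∃ m : (EtCoh.bc (hb ≫ p)).obj (EtCoh.top X) ⟶
        (EtCoh.bc hb).obj ((EtCoh.bc p).obj (EtCoh.top X)),
      ((EtDesc.pushCompSh p hb).hom.app G).hom.app (op (EtCoh.top X)) = G.obj.map m.op :=
  ⟨_, rfl⟩

theorem piece2 (G : EtDesc.Sh Yb) :
    ∃ m : (EtCoh.bc (pY ≫ h)).obj (EtCoh.top X) ⟶ (EtCoh.bc (hb ≫ p)).obj (EtCoh.top X),
      ((EtBC.pushCongrSh w).hom.app G).hom.app (op (EtCoh.top X)) = G.obj.map m.op :=
  ⟨_, rfl⟩

theorem piece3 (G : EtDesc.Sh Yb) :
    ∃ m : (EtCoh.bc pY).obj ((EtCoh.bc h).obj (EtCoh.top X)) ⟶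
        (EtCoh.bc (pY ≫ h)).obj (EtCoh.top X),
      ((EtDesc.pushCompSh h pY).inv.app G).hom.app (op (EtCoh.top X)) = G.obj.map m.op :=
  ⟨_, rfl⟩

theorem theta_app (η : EtDesc.sect ((EtDesc.pushSh p).obj Fb) (EtCoh.top X)) :
    ∃ m : (EtCoh.bc pY).obj ((EtCoh.bc h).obj (EtCoh.top X)) ⟶
        (EtCoh.bc hb).obj ((EtCoh.bc p).obj (EtCoh.top X)),
      (theta h p hb pY w Fb).hom.app (op (EtCoh.top X)) η =
        ((EtDesc.pullSh hb).obj Fb).obj.map m.op
          (((EtDesc.adjSh hb).unit.app Fb).hom.app (op ((EtCoh.bc p).obj (EtCoh.top X))) η) := by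
  obtain ⟨m1, h1⟩ := piece1 p hb ((EtDesc.pullSh hb).obj Fb)
  obtain ⟨m2, h2⟩ := piece2 h p hb pY w ((EtDesc.pullSh hb).obj Fb)
  obtain ⟨m3, h3⟩ := piece3 h pY ((EtDesc.pullSh hb).obj Fb)
  refine ⟨m3 ≫ m2 ≫ m1, ?_⟩
  have e : (theta h p hb pY w Fb).hom.app (op (EtCoh.top X)) =
      ((EtDesc.adjSh hb).unit.app Fb).hom.app (op ((EtCoh.bc p).obj (EtCoh.top X))) ≫
        ((EtDesc.pushCompSh p hb).hom.app _).hom.app (op (EtCoh.top X)) ≫
        ((EtBC.pushCongrSh w).hom.app _).hom.app (op (EtCoh.top X)) ≫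
        ((EtDesc.pushCompSh h pY).inv.app _).hom.app (op (EtCoh.top X)) := rfl
  rw [e, h1, h2, h3, op_comp, op_comp, Functor.map_comp, Functor.map_comp]
  rfl

theorem key (η : EtDesc.sect ((EtDesc.pushSh p).obj Fb) (EtCoh.top X)) :
    ((EtDesc.pullSh hb).obj Fb).obj.map (EtCore.bcTopIso pY).inv.op
      ((EtBC.baseChange0Sh p h pY hb w Fb).hom.app (op (EtCoh.top Y))
        (EtDesc.secPull h ((EtDesc.pushSh p).obj Fb) η)) =
    EtDesc.secPull hb Fb (Fb.obj.map (EtCore.bcTopIso p).inv.op η) := by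
  unfold EtDesc.secPull
  have s1 := NatTrans.naturality_apply (EtBC.baseChange0Sh p h pY hb w Fb).hom
    (EtCore.bcTopIso h).inv.op (((EtDesc.adjSh h).unit.app _).hom.app (op (EtCoh.top X)) η)
  have s2 : (EtBC.baseChange0Sh p h pY hb w Fb).hom.app (op ((EtCoh.bc h).obj (EtCoh.top X)))
      (((EtDesc.adjSh h).unit.app _).hom.app (op (EtCoh.top X)) η) =
      (theta h p hb pY w Fb).hom.app (op (EtCoh.top X)) η :=
    congrArg (fun m => m.hom.app (op (EtCoh.top X)) η) (unit_comp_push_bc h p hb pY w Fb)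
  obtain ⟨m, hm⟩ := theta_app h p hb pY w Fb η
  have s3 := NatTrans.naturality_apply ((EtDesc.adjSh hb).unit.app Fb).hom
    (EtCore.bcTopIso p).inv.op η
  let G := (EtDesc.pullSh hb).obj Fb
  let z : G.obj.obj (op ((EtCoh.bc hb).obj ((EtCoh.bc p).obj (EtCoh.top X)))) :=
    ((EtDesc.adjSh hb).unit.app Fb).hom.app (op ((EtCoh.bc p).obj (EtCoh.top X))) η
  have e1 : G.obj.map (EtCore.bcTopIso pY).inv.op
      ((EtBC.baseChange0Sh p h pY hb w Fb).hom.app (op (EtCoh.top Y))
        (((EtDesc.pullSh h).obj ((EtDesc.pushSh p).obj Fb)).obj.map (EtCore.bcTopIso h).inv.op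
          (((EtDesc.adjSh h).unit.app ((EtDesc.pushSh p).obj Fb)).hom.app (op (EtCoh.top X)) η))) =
      G.obj.map (EtCore.bcTopIso pY).inv.op
        (G.obj.map ((EtCoh.bc pY).map (EtCore.bcTopIso h).inv).op (G.obj.map m.op z)) := by
    refine congrArg (G.obj.map (EtCore.bcTopIso pY).inv.op) ?_
    refine s1.trans ?_
    refine congrArg (G.obj.map ((EtCoh.bc pY).map (EtCore.bcTopIso h).inv).op) ?_
    exact s2.trans hm
  have e2 : G.obj.map (EtCore.bcTopIso hb).inv.op
      (((EtDesc.adjSh hb).unit.app Fb).hom.app (op (EtCoh.top Xb))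
        (Fb.obj.map (EtCore.bcTopIso p).inv.op η)) =
      G.obj.map (EtCore.bcTopIso hb).inv.op
        (G.obj.map ((EtCoh.bc hb).map (EtCore.bcTopIso p).inv).op z) :=
    congrArg (G.obj.map (EtCore.bcTopIso hb).inv.op) s3
  refine e1.trans (Eq.trans ?_ e2.symm)
  rw [← Functor.map_comp_apply, ← Functor.map_comp_apply,
    ← Functor.map_comp_apply, ← op_comp, ← op_comp, ← op_comp]
  congr 4
  exact (isTerminalBcBc p hb).hom_ext _ _

theorem injective_transport {A B : Scheme.{u}} (q : A ⟶ B) (G : EtDesc.Sh A) :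
    Function.Injective (G.obj.map (EtCore.bcTopIso q).inv.op) := by
  have : IsIso (G.obj.map (EtCore.bcTopIso q).inv.op) := inferInstance
  exact ((isIso_iff_bijective _).1 this).1

theorem mono_unit_of_surjective (hp : Function.Surjective p.base) (F : EtDesc.Sh X) :
    Mono ((EtDesc.adjSh p).unit.app F) := by
  have : Surjective p := ⟨hp⟩
  have := faithful p
  infer_instance

include pY w in
/-- injectivity of `secPull` descends along a surjective morphism -/
theorem injective_of_surjective (hp : Function.Surjective p.base)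
    (hinj : ∀ Fb : EtDesc.Sh Xb, Function.Injective (EtDesc.secPull hb Fb))
    (F : EtDesc.Sh X) : Function.Injective (EtDesc.secPull h F) := by
  intro s t hst
  have := mono_unit_of_surjective p hp F
  let Fb : EtDesc.Sh Xb := (EtDesc.pullSh p).obj F
  let v : F ⟶ (EtDesc.pushSh p).obj Fb := (EtDesc.adjSh p).unit.app F
  have : Mono v := this
  apply injective_app_of_mono v (op (EtCoh.top X))
  apply injective_transport p Fb
  apply hinj
  have k1 := key h p hb pY w Fb (v.hom.app (op (EtCoh.top X)) s)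
  have k2 := key h p hb pY w Fb (v.hom.app (op (EtCoh.top X)) t)
  refine k1.symm.trans (Eq.trans ?_ k2)
  have n1 := secPull_naturality h v s
  have n2 := secPull_naturality h v t
  rw [← n1, ← n2, hst]

/-- bijectivity of `secPull` descends along a surjective morphism if the base change maps are
monomorphisms -/
theorem bijective_of_surjective (hp : Function.Surjective p.base)
    (hbij : ∀ Fb : EtDesc.Sh Xb, Function.Bijective (EtDesc.secPull hb Fb))
    (hmono : ∀ Fb : EtDesc.Sh Xb, Mono (EtBC.baseChange0Sh p h pY hb w Fb))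
    (F : EtDesc.Sh X) : Function.Bijective (EtDesc.secPull h F) := by
  have hinj := injective_of_surjective h p hb pY w hp (fun Fb => (hbij Fb).1)
  refine ⟨hinj F, fun ξ => ?_⟩
  have := mono_unit_of_surjective p hp F
  let Fb : EtDesc.Sh Xb := (EtDesc.pullSh p).obj F
  let v : F ⟶ (EtDesc.pushSh p).obj Fb := (EtDesc.adjSh p).unit.app F
  have : Mono v := this
  apply mem_range h hinj v ξ
  obtain ⟨η', hη'⟩ := (hbij Fb).2 (((EtDesc.pullSh hb).obj Fb).obj.map (EtCore.bcTopIso pY).inv.op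
      ((EtBC.baseChange0Sh p h pY hb w Fb).hom.app (op (EtCoh.top Y))
        (((EtDesc.pullSh h).map v).hom.app (op (EtCoh.top Y)) ξ)))
  let η : EtDesc.sect ((EtDesc.pushSh p).obj Fb) (EtCoh.top X) :=
    Fb.obj.map (EtCore.bcTopIso p).hom.op η'
  refine ⟨η, ?_⟩
  have := hmono Fb
  apply injective_app_of_mono (EtBC.baseChange0Sh p h pY hb w Fb) (op (EtCoh.top Y))
  apply injective_transport pY ((EtDesc.pullSh hb).obj Fb)
  refine (key h p hb pY w Fb η).trans (Eq.trans ?_ hη')
  congr 1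
  show Fb.obj.map (EtCore.bcTopIso p).inv.op (Fb.obj.map (EtCore.bcTopIso p).hom.op η') = η'
  rw [← Functor.map_comp_apply, ← op_comp, Iso.inv_hom_id]
  simp

end Groth.Agent.Helper9.EtSecPullBC
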