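import Mathlib
import Groth.Agent.Helper9.EtSecPullBC

/-! `secPull` for the base change `hb` in terms of `secPull` for `h` and the base change map. -/

set_option autoImplicit false
universe u

open CategoryTheory CategoryTheory.Limits Opposite AlgebraicGeometry

namespace Groth.Agent.Helper9.EtSecPullBC2

open Groth.Agent.Helper9.EtPullSurjSets Groth.Agent.Helper9.EtSecPullMono
  Groth.Agent.Helper9.EtSecPullBC

variable {X Y Xb Yb : Scheme.{u}} (h : Y ⟶ X) (p : Xb ⟶ X) (hb : Yb ⟶ Xb) (pY : Yb ⟶ Y)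
  (w : hb ≫ p = pY ≫ h) (Fb : EtDesc.Sh Xb)

theorem bijective_transport {A B : Scheme.{u}} (q : A ⟶ B) (G : EtDesc.Sh A) :
    Function.Bijective (G.obj.map (EtCore.bcTopIso q).inv.op) := by
  have : IsIso (G.obj.map (EtCore.bcTopIso q).inv.op) := inferInstance
  exact (isIso_iff_bijective _).1 this

theorem bijective_transport' {A B : Scheme.{u}} (q : A ⟶ B) (G : EtDesc.Sh A) :
    Function.Bijective (G.obj.map (EtCore.bcTopIso q).hom.op) := by
  have : IsIso (G.obj.map (EtCore.bcTopIso q).hom.op) := inferInstance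
  exact (isIso_iff_bijective _).1 this

theorem secPull_eq :
    EtDesc.secPull hb Fb =
      (((EtDesc.pullSh hb).obj Fb).obj.map (EtCore.bcTopIso pY).inv.op) ∘
        ((EtBC.baseChange0Sh p h pY hb w Fb).hom.app (op (EtCoh.top Y))) ∘
          (EtDesc.secPull h ((EtDesc.pushSh p).obj Fb)) ∘
            (Fb.obj.map (EtCore.bcTopIso p).hom.op) := by
  funext η'
  refine Eq.trans ?_ (key h p hb pY w Fb (Fb.obj.map (EtCore.bcTopIso p).hom.op η')).symm
  congr 1
  show η' = Fb.obj.map (EtCore.bcTopIso p).inv.op (Fb.obj.map (EtCore.bcTopIso p).hom.op η')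
  rw [← Functor.map_comp_apply, ← op_comp, Iso.inv_hom_id]
  simp

theorem injective_hb (hinj : ∀ F : EtDesc.Sh X, Function.Injective (EtDesc.secPull h F))
    (hmono : ∀ Fb : EtDesc.Sh Xb, Mono (EtBC.baseChange0Sh p h pY hb w Fb)) :
    Function.Injective (EtDesc.secPull hb Fb) := by
  rw [secPull_eq h p hb pY w Fb]
  have := hmono Fb
  exact (bijective_transport pY _).1.comp
    ((injective_app_of_mono (EtBC.baseChange0Sh p h pY hb w Fb) (op (EtCoh.top Y))).comp
      ((hinj _).comp (bijective_transport' p Fb).1))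

theorem bijective_hb (hbij : ∀ F : EtDesc.Sh X, Function.Bijective (EtDesc.secPull h F))
    (hiso : ∀ Fb : EtDesc.Sh Xb, IsIso (EtBC.baseChange0Sh p h pY hb w Fb)) :
    Function.Bijective (EtDesc.secPull hb Fb) := by
  rw [secPull_eq h p hb pY w Fb]
  have := hiso Fb
  have h1 : IsIso ((EtBC.baseChange0Sh p h pY hb w Fb).hom.app (op (EtCoh.top Y))) := by
    have : IsIso (EtBC.baseChange0Sh p h pY hb w Fb).hom :=
      (inferInstance : IsIso ((sheafToPresheaf _ _).map (EtBC.baseChange0Sh p h pY hb w Fb)))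
    infer_instance
  exact (bijective_transport pY _).comp
    (((isIso_iff_bijective _).1 h1).comp
      ((hbij _).comp (bijective_transport' p Fb)))

end Groth.Agent.Helper9.EtSecPullBC2
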