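import Mathlib
import Groth.Prelude.Def_SGA4b
import Groth.Prelude.Def_EtCore
import Groth.Agent.Helper9.EtSepClosedSections

/-! Inverse image of étale sheaves of sets along an extension of separably closed fields is an
equivalence. -/

set_option autoImplicit false
universe u

open CategoryTheory CategoryTheory.Limits Opposite AlgebraicGeometry

namespace Groth.Agent.Helper9.EtSepClosedPull

open Groth.Agent.Helper9.EtSepClosedSections

variable (k k' : Type u) [Field k] [IsSepClosed k] [Field k'] [IsSepClosed k'] [Algebra k k']

/-- the morphism `Spec k' ⟶ Spec k` -/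
noncomputable abbrev um : Spec (CommRingCat.of k') ⟶ Spec (CommRingCat.of k) :=
  Spec.map (CommRingCat.ofHom (algebraMap k k'))

/-- `u_*` followed by global sections is global sections -/
noncomputable def pushΓIso : EtDesc.pushSh (um k k') ⋙ Γ k ≅ Γ k' :=
  NatIso.ofComponents (fun F => F.obj.mapIso (EtCore.bcTopIso (um k k')).op.symm)
    (fun {F G} φ => by
      simp only [Functor.comp_map, Functor.mapIso_hom, Iso.symm_hom]
      exact (φ.hom.naturality _).symm)

/-- pullback of constant sheaves of sets is constant -/
noncomputable def pullConstIso :
    constantSheaf (Spec (CommRingCat.of k)).smallEtaleTopology (Type (u + 1)) ⋙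
        EtDesc.pullSh (um k k') ≅
      constantSheaf (Spec (CommRingCat.of k')).smallEtaleTopology (Type (u + 1)) :=
  Adjunction.leftAdjointUniq
    (((adj k).comp (EtDesc.adjSh (um k k'))).ofNatIsoRight (pushΓIso k k')) (adj k')

theorem main : (EtDesc.pullSh (um k k')).IsEquivalence := by
  haveI h1 : (constantSheaf (Spec (CommRingCat.of k)).smallEtaleTopology
      (Type (u + 1))).IsEquivalence := (adj k).toEquivalence.isEquivalence_functor
  haveI h2 : (constantSheaf (Spec (CommRingCat.of k')).smallEtaleTopology
      (Type (u + 1))).IsEquivalence := (adj k').toEquivalence.isEquivalence_functor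
  haveI h3 : (constantSheaf (Spec (CommRingCat.of k)).smallEtaleTopology (Type (u + 1)) ⋙
      EtDesc.pullSh (um k k')).IsEquivalence :=
    Functor.isEquivalence_of_iso (pullConstIso k k').symm
  exact Functor.isEquivalence_of_comp_left
    (constantSheaf (Spec (CommRingCat.of k)).smallEtaleTopology (Type (u + 1))) _

end Groth.Agent.Helper9.EtSepClosedPull
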