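import Mathlib
import Groth.Prelude.Def_EtBase
import Groth.Prelude.Def_EtShriek2

/-! Restriction along a surjective étale morphism is faithful; the counit `u_! u^* F ⟶ F` is epi. -/

set_option autoImplicit false
set_option backward.isDefEq.respectTransparency false
universe u

open CategoryTheory CategoryTheory.Limits Opposite AlgebraicGeometry

namespace Groth.Agent.Helper9.EtShriekEpi

variable {X Y : Scheme.{u}} (u : X ⟶ Y) [hu : Etale u]

/-- the base change of `W` to `X`, as an étale `X`-scheme -/
noncomputable def TObj (W : Y.Etale) : X.Etale :=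
  MorphismProperty.Over.mk ⊤ (pullback.snd W.hom u)
    (MorphismProperty.pullback_snd (P := EtCoh.etaleMP) _ _ W.prop)

/-- the projection `W ×_Y X ⟶ W` over `Y` -/
noncomputable def proj (W : Y.Etale) : (EtShriek.compEtale u).obj (TObj u W) ⟶ W :=
  MorphismProperty.Over.homMk (pullback.fst W.hom u) (by
    change pullback.fst W.hom u ≫ W.hom = pullback.snd W.hom u ≫ u
    exact pullback.condition)

lemma generate_proj_mem [Surjective u] (W : Y.Etale) :
    Sieve.generate (Presieve.singleton (proj u W)) ∈ Y.smallEtaleTopology W := by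
  have eY : Y.smallEtaleTopology =
      (Y.smallPretopology (P := EtCoh.etaleMP) (Q := EtCoh.etaleMP)).toGrothendieck :=
    Scheme.smallGrothendieckTopology_eq_toGrothendieck_smallPretopology Y le_rfl
  rw [eY]
  refine (Scheme.mem_toGrothendieck_smallPretopology W _).2 ?_
  intro x
  haveI : Surjective (pullback.fst W.hom u) := inferInstance
  obtain ⟨y, hy⟩ := (pullback.fst W.hom u).surjective x
  refine ⟨_, proj u W, y, Sieve.le_generate _ _ _ (Presieve.singleton.mk), ?_, hy⟩
  exact MorphismProperty.pullback_fst (P := EtCoh.etaleMP) _ _ hu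

variable [EtShriek.JCont u]

lemma restr_map_app {F G : EtCoh.Ab Y} (φ : F ⟶ G) (T : X.Etale) :
    ((EtShriek.restrAlong u).map φ).hom.app (op T) =
      φ.hom.app (op ((EtShriek.compEtale u).obj T)) := rfl

instance faithful_restrAlong [Surjective u] : (EtShriek.restrAlong u).Faithful := by
  constructor
  intro F G φ ψ h
  apply Sheaf.hom_ext
  ext ⟨W⟩ : 2
  refine Presheaf.IsSheaf.hom_ext G.property ⟨_, generate_proj_mem u W⟩ _ _ ?_
  rintro ⟨Z, f, ⟨Z', g, p, ⟨⟩, rfl⟩⟩
  have h1 : φ.hom.app (op ((EtShriek.compEtale u).obj (TObj u W))) =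
      ψ.hom.app (op ((EtShriek.compEtale u).obj (TObj u W))) := by
    rw [← restr_map_app, ← restr_map_app, h]
  have h2 : φ.hom.app (op W) ≫ G.obj.map (proj u W).op =
      ψ.hom.app (op W) ≫ G.obj.map (proj u W).op := by
    rw [← φ.hom.naturality, ← ψ.hom.naturality, h1]
  dsimp
  rw [G.obj.map_comp, reassoc_of% h2]

theorem epi_counit [Surjective u] (F : EtCoh.Ab Y) :
    Epi ((EtShriek.extZeroAdj u).counit.app F) :=
  inferInstance

end Groth.Agent.Helper9.EtShriekEpi
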