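import Mathlib
import Groth.Prelude.Def_EtBase

/-! Pointwise criteria for covering sieves of the small étale site. -/

set_option autoImplicit false
universe u
open CategoryTheory CategoryTheory.Limits AlgebraicGeometry Opposite

namespace Groth.Agent.Helper9.EtSievePt

/-- pointwise criterion for covering sieves of the small étale site -/
theorem mem_of_forall_point {Y : Scheme.{u}} (U : Y.Etale) (S : Sieve U)
    (h : ∀ x : U.left, ∃ (W : Y.Etale) (g : W ⟶ U), S g ∧ x ∈ Set.range g.left) :
    S ∈ Y.smallEtaleTopology U := by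
  choose W g hg hx using h
  have h1 : Sieve.ofArrows W g ∈ Y.smallEtaleTopology U := by
    rw [Scheme.ofArrows_mem_smallEtaleTopology_iff]
    ext x
    simp only [Set.mem_iUnion, Set.mem_univ, iff_true]
    exact ⟨x, hx x⟩
  refine Y.smallEtaleTopology.superset_covering ?_ h1
  rw [Sieve.ofArrows, Sieve.generate_le_iff]
  rintro _ _ ⟨x⟩
  exact hg x

theorem exists_of_mem {Y : Scheme.{u}} (U : Y.Etale) (S : Sieve U)
    (hS : S ∈ Y.smallEtaleTopology U) (x : U.left) :
    ∃ (W : Y.Etale) (g : W ⟶ U), S g ∧ x ∈ Set.range g.left := by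
  let ι := Σ W : Y.Etale, {g : W ⟶ U // S g}
  have h1 : Sieve.ofArrows (fun i : ι => i.1) (fun i => i.2.1) = S := by
    apply le_antisymm
    · rw [Sieve.ofArrows, Sieve.generate_le_iff]
      rintro _ _ ⟨i⟩
      exact i.2.2
    · intro W g hg
      exact Sieve.ofArrows_mk _ _ (⟨W, g, hg⟩ : ι)
  rw [← h1, Scheme.ofArrows_mem_smallEtaleTopology_iff] at hS
  have hx : x ∈ ⋃ i : ι, Set.range (i.2.1).left := by rw [hS]; trivial
  simp only [Set.mem_iUnion] at hx
  obtain ⟨i, hi⟩ := hx
  exact ⟨i.1, i.2.1, i.2.2, hi⟩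

end Groth.Agent.Helper9.EtSievePt
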