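import Mathlib
import Groth.Prelude.Def_EtBase
import Groth.Agent.Helper9.EtStalkPull
import Groth.Agent.Helper9.StalkFinA
import Groth.Agent.Helper9.EtStalkExact

/-! The canonical map `G_η ⟶ (f⁻¹G)_ξ` (germ of `g` at `η` to the germ at `ξ` of the pulled back
section) is an isomorphism, for a geometric point `ξ` of `X` over the geometric point `η` of `Y`. -/

set_option autoImplicit false
set_option linter.style.haveILetI false
universe u

open CategoryTheory CategoryTheory.Limits Opposite AlgebraicGeometry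

namespace Groth.Agent.Helper9.EtStalkPullB

open Groth.Agent.Helper9.StalkFinA Groth.Agent.Helper9.EtStalkPull

attribute [local instance] Groth.Agent.Helper9.EtStalkExact.preservesFilteredColimits_forget_ab


section General

universe w v v' u₁ u'

variable {C : Type u₁} [Category.{v} C] {J : GrothendieckTopology C}
  (Φ : GrothendieckTopology.Point.{w} J) {A : Type u'} [Category.{v'} A]
  [HasProducts.{w} A] [HasColimitsOfSize.{w, w} A]

theorem unit_π (H : Sheaf J A) (U : C) (x : Φ.fiber.obj U) :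
    (Φ.skyscraperSheafAdjunction.unit.app H).hom.app (op U) ≫
      Pi.π (fun (_ : Φ.fiber.obj U) => Φ.sheafFiber.obj H) x = Φ.toPresheafFiber U x H.obj := by
  have h1 : Φ.skyscraperSheafAdjunction.unit.app H =
      Φ.skyscraperSheafAdjunction.homEquiv H _ (𝟙 _) :=
    (Adjunction.homEquiv_id _ _).symm
  have h2 := Φ.skyscraperSheafAdjunction_homEquiv_apply_hom (F := H)
    (𝟙 (Φ.presheafFiber.obj H.obj))
  have h3 := Φ.skyscraperPresheafHomEquiv_app_π (𝟙 (Φ.presheafFiber.obj H.obj)) U x
  refine Eq.trans ?_ (h3.trans (Category.comp_id _))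
  rw [h1]
  exact congrArg (fun m => m.app (op U) ≫
    Pi.π (fun (_ : Φ.fiber.obj U) => Φ.presheafFiber.obj H.obj) x) h2

theorem π_counit (M : A) (U : C) (x : Φ.fiber.obj U) :
    Φ.toPresheafFiber U x (Φ.skyscraperSheaf M).obj ≫ Φ.skyscraperSheafAdjunction.counit.app M =
      Pi.π (fun (_ : Φ.fiber.obj U) => M) x := by
  have h1 : Φ.skyscraperSheafAdjunction.counit.app M =
      (Φ.skyscraperSheafAdjunction.homEquiv _ M).symm (𝟙 _) :=
    (Adjunction.homEquiv_symm_id _ _).symm
  have h2 := Φ.skyscraperSheafAdjunction_homEquiv_symm_apply (F := Φ.skyscraperSheaf M) (M := M)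
    (𝟙 _)
  have h3 := Φ.toPresheafFiber_skyscraperPresheafHomEquiv_symm (P := (Φ.skyscraperSheaf M).obj)
    (M := M) (𝟙 _) U x
  refine Eq.trans ?_ (h3.trans (Category.id_comp _))
  rw [h1]
  exact congrArg (fun m => Φ.toPresheafFiber U x (Φ.skyscraperSheaf M).obj ≫ m) h2

end General

variable {X Y : Scheme.{u}} (f : X ⟶ Y) {Ω : Type u} [Field Ω] [IsSepClosed Ω]
  (η : Spec (CommRingCat.of Ω) ⟶ Y) (ξ : Spec (CommRingCat.of Ω) ⟶ X)

set_option backward.isDefEq.respectTransparency.types false in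
theorem low_aux (hξ : ξ ≫ f = η) {W : Y.Etale}
    (x : (Scheme.pointSmallEtale ξ).fiber.obj ((EtCoh.bc f).obj W)) :
    (ptLeft x ≫ pullback.fst W.hom f) ≫ W.hom = η := by
  have h1 : ptLeft x ≫ pullback.snd W.hom f = ξ := ptLeft_w x
  have hc : pullback.fst W.hom f ≫ W.hom = pullback.snd W.hom f ≫ f := pullback.condition
  exact (Category.assoc _ _ _).trans ((congrArg (fun t => ptLeft x ≫ t) hc).trans
    ((Category.assoc _ _ _).symm.trans ((congrArg (fun t => t ≫ f) h1).trans hξ)))

/-- the point of the fibre of `η` under a point of the fibre of `ξ` at the base change -/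
noncomputable def low (hξ : ξ ≫ f = η) {W : Y.Etale}
    (x : (Scheme.pointSmallEtale ξ).fiber.obj ((EtCoh.bc f).obj W)) :
    (Scheme.pointSmallEtale η).fiber.obj W :=
  mkPt η (ptLeft x ≫ pullback.fst W.hom f) (low_aux f η ξ hξ x)

variable (hξ : ξ ≫ f = η)

theorem low_liftPt {W : Y.Etale} (l : (Scheme.pointSmallEtale η).fiber.obj W) :
    low f η ξ hξ (liftPt f η ξ hξ l) = l := by
  apply pt_ext
  exact ptLeft_liftPt_fst f η ξ hξ l

theorem liftPt_low {W : Y.Etale} (x : (Scheme.pointSmallEtale ξ).fiber.obj ((EtCoh.bc f).obj W)) :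
    liftPt f η ξ hξ (low f η ξ hξ x) = x := by
  apply pt_ext
  apply pullback.hom_ext
  · exact ptLeft_liftPt_fst f η ξ hξ _
  · exact (ptLeft_liftPt_snd f η ξ hξ _).trans (ptLeft_w x).symm

/-- the fibre functor of `η` is the fibre functor of `ξ` composed with base change -/
noncomputable def fibIso :
    (Scheme.pointSmallEtale η).fiber ≅ EtCoh.bc f ⋙ (Scheme.pointSmallEtale ξ).fiber :=
  NatIso.ofComponents (fun W => Equiv.toIso
    ⟨liftPt f η ξ hξ, low f η ξ hξ, low_liftPt f η ξ hξ, liftPt_low f η ξ hξ⟩)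
    (by
      intro W W' a
      ext l
      exact (liftPt_map f η ξ hξ a l).symm)

/-- the point `ξ` transported to `Y` is the point `η` -/
noncomputable def ptIso : comapPt f ξ ≅ Scheme.pointSmallEtale η where
  hom := ⟨(fibIso f η ξ hξ).hom⟩
  inv := ⟨(fibIso f η ξ hξ).inv⟩
  hom_inv_id := by
    apply GrothendieckTopology.Point.hom_ext
    exact (fibIso f η ξ hξ).inv_hom_id
  inv_hom_id := by
    apply GrothendieckTopology.Point.hom_ext
    exact (fibIso f η ξ hξ).hom_inv_id

section Comap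

variable (G : EtCoh.Ab Y)

/-- the pulled back section -/
noncomputable def ug (W : Y.Etale) (g : G.obj.obj (op W)) :
    ((EtCoh.pull f).obj G).obj.obj (op ((EtCoh.bc f).obj W)) :=
  ((EtCoh.pullPushAdj f).unit.app G).hom.app (op W) g

instance isRightAdjoint_push : ((EtCoh.bc f).sheafPushforwardContinuous AddCommGrpCat.{u + 1}
    Y.smallEtaleTopology X.smallEtaleTopology).IsRightAdjoint :=
  (EtCoh.pullPushAdj f).isRightAdjoint

/-- the comparison isomorphism `G_{comap} ≅ (f⁻¹G)_ξ` -/
noncomputable def cIso : (comapPt f ξ).sheafFiber.obj G ≅ (EtCoh.stalk ξ).obj ((EtCoh.pull f).obj G) :=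
  (GrothendieckTopology.Point.sheafFiberComapIso (Scheme.pointSmallEtale ξ) (EtCoh.bc f)
    (EtCoh.coverPreserving_bc f) AddCommGrpCat.{u + 1}).app G

set_option backward.isDefEq.respectTransparency.types false in
theorem cIso_germ (W : Y.Etale) (x : (Scheme.pointSmallEtale ξ).fiber.obj ((EtCoh.bc f).obj W)) :
    (comapPt f ξ).toPresheafFiber W x G.obj ≫ (cIso f ξ G).hom =
      ((EtCoh.pullPushAdj f).unit.app G).hom.app (op W) ≫
        (Scheme.pointSmallEtale ξ).toPresheafFiber ((EtCoh.bc f).obj W) x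
          ((EtCoh.pull f).obj G).obj := by
  unfold cIso
  rw [Iso.app_hom, GrothendieckTopology.Point.sheafFiberComapIso_hom_app]
  have hc := π_counit (comapPt f ξ) ((EtCoh.stalk ξ).obj ((EtCoh.pull f).obj G)) W x
  have hu := unit_π (Scheme.pointSmallEtale ξ) ((EtCoh.pull f).obj G) ((EtCoh.bc f).obj W) x
  erw [(comapPt f ξ).toPresheafFiber_naturality_assoc,
    (comapPt f ξ).toPresheafFiber_naturality_assoc,
    (comapPt f ξ).toPresheafFiber_naturality_assoc]
  show ((EtCoh.pullPushAdj f).unit.app G).hom.app (op W) ≫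
      ((Scheme.pointSmallEtale ξ).skyscraperSheafAdjunction.unit.app
        ((EtCoh.pull f).obj G)).hom.app (op ((EtCoh.bc f).obj W)) ≫
      𝟙 _ ≫ ((comapPt f ξ).toPresheafFiber W x
        ((comapPt f ξ).skyscraperSheaf ((EtCoh.stalk ξ).obj ((EtCoh.pull f).obj G))).obj ≫
      (comapPt f ξ).skyscraperSheafAdjunction.counit.app
        ((EtCoh.stalk ξ).obj ((EtCoh.pull f).obj G))) = _
  refine (congrArg (fun t => ((EtCoh.pullPushAdj f).unit.app G).hom.app (op W) ≫
      ((Scheme.pointSmallEtale ξ).skyscraperSheafAdjunction.unit.app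
        ((EtCoh.pull f).obj G)).hom.app (op ((EtCoh.bc f).obj W)) ≫ t)
      ((Category.id_comp _).trans hc)).trans ?_
  exact congrArg (fun t => ((EtCoh.pullPushAdj f).unit.app G).hom.app (op W) ≫ t) hu

/-- the canonical map `G_η ⟶ (f⁻¹G)_ξ` -/
noncomputable def psi : (EtCoh.stalk η).obj G ⟶ (EtCoh.stalk ξ).obj ((EtCoh.pull f).obj G) :=
  (EtCoh.stalk η).map ((EtCoh.pullPushAdj f).unit.app G) ≫
    theta f η ξ hξ ((EtCoh.pull f).obj G).obj

theorem germ_psi (W : Y.Etale) (l : (Scheme.pointSmallEtale η).fiber.obj W) :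
    (Scheme.pointSmallEtale η).toPresheafFiber W l G.obj ≫ psi f η ξ hξ G =
      ((EtCoh.pullPushAdj f).unit.app G).hom.app (op W) ≫
        (Scheme.pointSmallEtale ξ).toPresheafFiber ((EtCoh.bc f).obj W) (liftPt f η ξ hξ l)
          ((EtCoh.pull f).obj G).obj := by
  unfold psi
  have h1 := (Scheme.pointSmallEtale η).toPresheafFiber_naturality
    ((EtCoh.pullPushAdj f).unit.app G).hom W l
  have h2 := toPresheafFiber_theta f η ξ hξ ((EtCoh.pull f).obj G).obj W l
  refine (Category.assoc _ _ _).symm.trans ?_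
  refine (congrArg (fun t => t ≫ theta f η ξ hξ ((EtCoh.pull f).obj G).obj) h1).trans ?_
  refine (Category.assoc _ _ _).trans ?_
  exact congrArg (fun t => ((EtCoh.pullPushAdj f).unit.app G).hom.app (op W) ≫ t) h2

theorem psi_apply (W : Y.Etale) (l : (Scheme.pointSmallEtale η).fiber.obj W)
    (g : G.obj.obj (op W)) :
    psi f η ξ hξ G ((Scheme.pointSmallEtale η).toPresheafFiber W l G.obj g) =
      (Scheme.pointSmallEtale ξ).toPresheafFiber ((EtCoh.bc f).obj W) (liftPt f η ξ hξ l)
        ((EtCoh.pull f).obj G).obj (ug f G W g) :=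
  congrArg (fun m => m g) (congrArg AddCommGrpCat.Hom.hom (germ_psi f η ξ hξ G W l))

/-- the identification `G_η ≅ G_{comap}` -/
noncomputable def lamIso : (EtCoh.stalk η).obj G ≅ (comapPt f ξ).sheafFiber.obj G :=
  (sheafFiberIsoOfIso (A := AddCommGrpCat.{u + 1}) (ptIso f η ξ hξ)).app G

theorem germ_lamIso (W : Y.Etale) (l : (Scheme.pointSmallEtale η).fiber.obj W) :
    (Scheme.pointSmallEtale η).toPresheafFiber W l G.obj ≫ (lamIso f η ξ hξ G).hom =
      (comapPt f ξ).toPresheafFiber W (liftPt f η ξ hξ l) G.obj := by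
  show (Scheme.pointSmallEtale η).toPresheafFiber W l G.obj ≫
    (GrothendieckTopology.Point.Hom.presheafFiber (A := AddCommGrpCat.{u + 1})
      (ptIso f η ξ hξ).hom).app G.obj = _
  simp only [GrothendieckTopology.Point.Hom.presheafFiber_app,
    GrothendieckTopology.Point.toPresheafFiber_presheafFiberDesc]
  rfl

theorem psi_eq : psi f η ξ hξ G = (lamIso f η ξ hξ G).hom ≫ (cIso f ξ G).hom := by
  apply (Scheme.pointSmallEtale η).presheafFiber_hom_ext
  intro W l
  refine (germ_psi f η ξ hξ G W l).trans ?_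
  refine Eq.trans ?_ (Category.assoc _ _ _)
  refine Eq.trans ?_ (congrArg (fun t => t ≫ (cIso f ξ G).hom) (germ_lamIso f η ξ hξ G W l)).symm
  exact (cIso_germ f ξ G W (liftPt f η ξ hξ l)).symm

instance isIso_psi : IsIso (psi f η ξ hξ G) := by
  rw [psi_eq]
  infer_instance

end Comap

end Groth.Agent.Helper9.EtStalkPullB
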