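import Groth.Prelude.Def_W4c5stcicurvesp3Euclid
import Mathlib
set_option autoImplicit false
open W4c5stcicurvesp3

namespace Groth.Agent.Helper9.Euclid

lemma irem_shift (a b : ℕ) (h : a % b ≠ 0) : ∀ n, irem a b (n + 1) = irem b (a % b) n
  | 0 => by simp [irem]
  | 1 => by
    show (if irem a b 1 = 0 then 0 else irem a b 0 % irem a b 1) = b % (a % b)
    have : irem a b 1 = a % b := rfl
    rw [this, if_neg h]
    rfl
  | (n + 2) => by
    show (if irem a b (n + 2) = 0 then 0 else irem a b (n + 1) % irem a b (n + 2)) =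
      (if irem b (a % b) (n + 1) = 0 then 0 else irem b (a % b) n % irem b (a % b) (n + 1))
    rw [irem_shift a b h (n + 1), irem_shift a b h n]

lemma idiv_shift (a b : ℕ) (h : a % b ≠ 0) : ∀ n, 1 ≤ n → idiv a b (n + 1) = idiv b (a % b) n
  | 0, h0 => absurd h0 (by omega)
  | 1, _ => by
    show (if irem a b 1 = 0 then 0 else irem a b 0 / irem a b 1) = b / (a % b)
    have : irem a b 1 = a % b := rfl
    rw [this, if_neg h]
    rfl
  | (n + 2), _ => by
    show (if irem a b (n + 2) = 0 then 0 else irem a b (n + 1) / irem a b (n + 2)) =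
      (if irem b (a % b) (n + 1) = 0 then 0 else irem b (a % b) n / irem b (a % b) (n + 1))
    rw [irem_shift a b h (n + 1), irem_shift a b h n]

lemma sum_Icc_shift (f : ℕ → ℕ) : ∀ m : ℕ,
    ∑ i ∈ Finset.Icc 1 (m + 1), f i = f 1 + ∑ i ∈ Finset.Icc 1 m, f (i + 1)
  | 0 => by simp
  | (m + 1) => by
    rw [Finset.sum_Icc_succ_top (by omega), sum_Icc_shift f m,
      Finset.sum_Icc_succ_top (by omega), add_assoc]

theorem sum_idiv_mul_gcd_le : ∀ (t : ℕ), 0 < t → ∀ (N k : ℕ), 0 < k → k ≤ N →
    irem N k t = 0 → (∀ i, 0 < i → i < t → irem N k i ≠ 0) →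
    (∑ i ∈ Finset.Icc 1 t, idiv N k i) * Nat.gcd k N ≤ N
  | 0, h0 => absurd h0 (by omega)
  | 1, _ => by
    intro N k hk hkN hzero _
    have hdvd : k ∣ N := Nat.dvd_of_mod_eq_zero hzero
    have hg : Nat.gcd k N = k := Nat.gcd_eq_left hdvd
    simp only [Finset.Icc_self, Finset.sum_singleton, hg]
    show N / k * k ≤ N
    exact Nat.div_mul_le_self N k
  | (t + 2), _ => by
    intro N k hk hkN hzero hmin
    have hr : N % k ≠ 0 := hmin 1 (by omega) (by omega)
    have hrpos : 0 < N % k := Nat.pos_of_ne_zero hr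
    have hrk : N % k ≤ k := (Nat.mod_lt N hk).le
    have ih := sum_idiv_mul_gcd_le (t + 1) (by omega) k (N % k) hrpos hrk
      (by rw [← irem_shift N k hr]; exact hzero)
      (by
        intro i hi hit
        rw [← irem_shift N k hr]
        exact hmin (i + 1) (by omega) (by omega))
    have hsum : ∑ i ∈ Finset.Icc 1 (t + 2), idiv N k i =
        N / k + ∑ i ∈ Finset.Icc 1 (t + 1), idiv k (N % k) i := by
      rw [sum_Icc_shift]
      congr 1
      apply Finset.sum_congr rfl
      intro i hi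
      rw [Finset.mem_Icc] at hi
      exact idiv_shift N k hr i hi.1
    rw [hsum]
    have hg : Nat.gcd (N % k) k = Nat.gcd k N := by
      exact (Nat.gcd_rec k N).symm
    rw [hg] at ih
    set g := Nat.gcd k N with hgdef
    set S' := ∑ i ∈ Finset.Icc 1 (t + 1), idiv k (N % k) i
    obtain ⟨k', hk'⟩ : g ∣ k := Nat.gcd_dvd_left k N
    have hgr : g ∣ N % k := by
      rw [← hg]; exact Nat.gcd_dvd_left _ _
    have hgle : g ≤ N % k := Nat.le_of_dvd hrpos hgr
    have hd : 1 ≤ N / k := Nat.div_pos hkN hk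
    have hN : N = k * (N / k) + N % k := (Nat.div_add_mod N k).symm
    have hgpos : 0 < g := Nat.gcd_pos_of_pos_left N hk
    have hk'pos : 1 ≤ k' := by
      rcases Nat.eq_zero_or_pos k' with h0 | h0
      · rw [h0, mul_zero] at hk'; omega
      · exact h0
    set d := N / k
    set r := N % k
    rw [add_mul]
    have h1 : d * g + k ≤ k * d + r := by
      rw [hk']
      obtain ⟨d', hd'⟩ : ∃ d', d = d' + 1 := ⟨d - 1, by omega⟩
      obtain ⟨k'', hk''⟩ : ∃ k'', k' = k'' + 1 := ⟨k' - 1, by omega⟩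
      rw [hd', hk'']
      have : 0 ≤ d' * k'' * g := Nat.zero_le _
      nlinarith
    omega

end Groth.Agent.Helper9.Euclid
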