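import Mathlib
import Groth.Prelude.Def_Exal2

set_option autoImplicit false
set_option linter.unusedSectionVars false
universe u v

/-! General facts on `Exal.Ext`: the kernel is a square-zero f.g. ideal; lifts of a presentation
`P → P ⧸ J` into an extension, the comparison of two extensions through their lifts, and the
extension attached to a linear map `J → L`. -/

namespace Groth.Agent.Helper9.ExalA

open Exal

section Basic

variable {A : Type u} {B L : Type v} [CommRing A] [CommRing B] [Algebra A B] [AddCommGroup L]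
  [Module B L] (X : Exal.Ext A B L)

theorem proj_incl (z : L) : X.proj (X.incl z) = 0 := (X.isExtension.exact _).2 ⟨z, rfl⟩

theorem incl_mul_incl (z z' : L) : X.incl z * X.incl z' = 0 := by
  rw [X.isExtension.mul_incl, proj_incl, zero_smul, map_zero]

theorem exists_incl_of_proj_eq_zero {x : X.E} (hx : X.proj x = 0) : ∃ z, X.incl z = x :=
  (X.isExtension.exact x).1 hx

theorem ker_sq : RingHom.ker X.proj.toRingHom ^ 2 = ⊥ := by
  rw [eq_bot_iff, pow_two, Ideal.mul_le]
  intro x hx y hy
  obtain ⟨z, rfl⟩ := exists_incl_of_proj_eq_zero X ((RingHom.mem_ker).1 hx)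
  obtain ⟨z', rfl⟩ := exists_incl_of_proj_eq_zero X ((RingHom.mem_ker).1 hy)
  rw [incl_mul_incl]
  exact Ideal.zero_mem _

theorem ker_fg [Module.Finite B L] : (RingHom.ker X.proj.toRingHom).FG := by
  classical
  obtain ⟨s, hs⟩ := (Module.Finite.fg_top : (⊤ : Submodule B L).FG)
  refine ⟨s.image X.incl, ?_⟩
  apply le_antisymm
  · rw [Ideal.span_le]
    intro x hx
    rw [Finset.coe_image] at hx
    obtain ⟨z, -, rfl⟩ := hx
    exact (RingHom.mem_ker).2 (proj_incl X z)
  · intro x hx
    obtain ⟨z, rfl⟩ := exists_incl_of_proj_eq_zero X ((RingHom.mem_ker).1 hx)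
    have hz : z ∈ Submodule.span B (s : Set L) := by rw [hs]; trivial
    induction hz using Submodule.span_induction with
    | mem w hw =>
      apply Ideal.subset_span
      rw [Finset.coe_image]
      exact ⟨w, hw, rfl⟩
    | zero => rw [map_zero]; exact Ideal.zero_mem _
    | add w w' _ _ h1 h2 =>
      rw [map_add]
      exact Ideal.add_mem _ (h1 ((RingHom.mem_ker).2 (proj_incl X w)))
        (h2 ((RingHom.mem_ker).2 (proj_incl X w')))
    | smul b w _ h1 =>
      obtain ⟨e, rfl⟩ := X.isExtension.proj_surjective b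
      rw [← X.isExtension.mul_incl]
      exact Ideal.mul_mem_left _ _ (h1 ((RingHom.mem_ker).2 (proj_incl X w)))

end Basic

section Lift

variable {A : Type u} {P : Type v} [CommRing A] [CommRing P] [Algebra A P] (J : Ideal P)
  {L : Type v} [AddCommGroup L] [Module (P ⧸ J) L] [Module P L] [IsScalarTower P (P ⧸ J) L]

theorem mk_smul (a : P) (z : L) : Ideal.Quotient.mk J a • z = a • z := by
  rw [← Ideal.Quotient.algebraMap_eq, algebraMap_smul]

theorem smul_eq_zero_of_mem {j : P} (hj : j ∈ J) (z : L) : j • z = 0 := by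
  rw [← mk_smul J, Ideal.Quotient.eq_zero_iff_mem.2 hj, zero_smul]

/-- two lifts of the presentation into the same extension agree on `I ^ 2` when `I` kills `L` -/
theorem lift_eq_on_sq (X : Exal.Ext A (P ⧸ J) L) (u₁ u₂ : P →ₐ[A] X.E)
    (h₁ : ∀ p, X.proj (u₁ p) = Ideal.Quotient.mk J p)
    (h₂ : ∀ p, X.proj (u₂ p) = Ideal.Quotient.mk J p)
    (I : Ideal P) (hI : ∀ a ∈ I, ∀ z : L, a • z = 0) {x : P} (hx : x ∈ I ^ 2) :
    u₁ x = u₂ x := by
  rw [pow_two] at hx
  refine Submodule.mul_induction_on hx ?_ ?_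
  · intro a ha b hb
    have hd : ∀ c, ∃ z, X.incl z = u₁ c - u₂ c := fun c =>
      exists_incl_of_proj_eq_zero X (by rw [map_sub, h₁, h₂, sub_self])
    obtain ⟨za, hza⟩ := hd a
    obtain ⟨zb, hzb⟩ := hd b
    have e1 : u₁ a * (u₁ b - u₂ b) = 0 := by
      rw [← hzb, X.isExtension.mul_incl, h₁, mk_smul, hI a ha, map_zero]
    have e2 : u₂ b * (u₁ a - u₂ a) = 0 := by
      rw [← hza, X.isExtension.mul_incl, h₂, mk_smul, hI b hb, map_zero]
    have : u₁ (a * b) - u₂ (a * b) = u₁ a * (u₁ b - u₂ b) + u₂ b * (u₁ a - u₂ a) := by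
      rw [map_mul, map_mul]; ring
    rw [e1, e2, add_zero, sub_eq_zero] at this
    exact this
  · intro a b h1 h2
    rw [map_add, map_add, h1, h2]

variable {J}

/-- the necessity in the comparison: equivalent extensions have lifts agreeing on `J ≤ I ^ 2` -/
theorem agree_of_equiv (X X' : Exal.Ext A (P ⧸ J) L) (u : P →ₐ[A] X.E) (u' : P →ₐ[A] X'.E)
    (h : ∀ p, X.proj (u p) = Ideal.Quotient.mk J p)
    (h' : ∀ p, X'.proj (u' p) = Ideal.Quotient.mk J p)
    (I : Ideal P) (hI : ∀ a ∈ I, ∀ z : L, a • z = 0) (hJ : J ≤ I ^ 2)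
    (e : X.Equiv X') : ∀ j ∈ J, ∃ z : L, X.incl z = u j ∧ X'.incl z = u' j := by
  intro j hj
  obtain ⟨z, hz⟩ := exists_incl_of_proj_eq_zero X
    (show X.proj (u j) = 0 by rw [h, Ideal.Quotient.eq_zero_iff_mem.2 hj])
  refine ⟨z, hz, ?_⟩
  have h1 : ∀ p, X'.proj ((e.toAlgEquiv.toAlgHom.comp u) p) = Ideal.Quotient.mk J p := by
    intro p
    change X'.proj (e.toAlgEquiv (u p)) = _
    rw [e.proj_apply, h]
  have h2 := lift_eq_on_sq J X' (e.toAlgEquiv.toAlgHom.comp u) u' h1 h' I hI (hJ hj)
  rw [← h2]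
  change X'.incl z = e.toAlgEquiv (u j)
  rw [← hz, e.apply_incl]

section Transfer

variable (X X' : Exal.Ext A (P ⧸ J) L) (u : P →ₐ[A] X.E) (u' : P →ₐ[A] X'.E)
  (h : ∀ p, X.proj (u p) = Ideal.Quotient.mk J p)
  (h' : ∀ p, X'.proj (u' p) = Ideal.Quotient.mk J p)
  (H : ∀ j ∈ J, ∃ z : L, X.incl z = u j ∧ X'.incl z = u' j)

include h in
theorem exists_decomp (e : X.E) : ∃ (p : P) (z : L), e = u p + X.incl z := by
  obtain ⟨p, hp⟩ := Ideal.Quotient.mk_surjective (X.proj e)
  obtain ⟨z, hz⟩ := exists_incl_of_proj_eq_zero X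
    (show X.proj (e - u p) = 0 by rw [map_sub, h, hp, sub_self])
  exact ⟨p, z, by rw [hz]; ring⟩

include h H in
theorem transfer_wd {p₁ p₂ : P} {z₁ z₂ : L} (hE : u p₁ + X.incl z₁ = u p₂ + X.incl z₂) :
    u' p₁ + X'.incl z₁ = u' p₂ + X'.incl z₂ := by
  have hj : p₁ - p₂ ∈ J := by
    rw [← Ideal.Quotient.eq_zero_iff_mem, map_sub, ← h, ← h, ← map_sub]
    have : u p₁ - u p₂ = X.incl (z₂ - z₁) := by
      rw [map_sub]
      linear_combination hE
    rw [this, proj_incl]
  obtain ⟨w, hw, hw'⟩ := H _ hj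
  have hw2 : w = z₂ - z₁ := by
    apply X.isExtension.incl_injective
    rw [hw, map_sub, map_sub]
    linear_combination hE
  have : u' p₁ - u' p₂ = X'.incl z₂ - X'.incl z₁ := by
    rw [← map_sub, ← hw', hw2, map_sub]
  linear_combination this

include h h' H in
theorem exists_algHom :
    ∃ φ : X.E →ₐ[A] X'.E, ∀ (p : P) (z : L), φ (u p + X.incl z) = u' p + X'.incl z := by
  classical
  choose pp zz hpz using exists_decomp X u h
  have char : ∀ (p : P) (z : L), u' (pp (u p + X.incl z)) + X'.incl (zz (u p + X.incl z)) =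
      u' p + X'.incl z := fun p z =>
    transfer_wd X X' u u' h H (hpz (u p + X.incl z)).symm
  have key : ∀ (e : X.E) (p : P) (z : L), e = u p + X.incl z →
      u' (pp e) + X'.incl (zz e) = u' p + X'.incl z := by
    intro e p z he
    subst he
    exact char p z
  refine ⟨{ toFun := fun e => u' (pp e) + X'.incl (zz e)
            map_one' := ?_
            map_mul' := ?_
            map_zero' := ?_
            map_add' := ?_
            commutes' := ?_ }, ?_⟩
  · rw [key 1 1 0 (by rw [map_one, map_zero, add_zero]), map_one, map_zero, add_zero]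
  · intro e₁ e₂
    have he : e₁ * e₂ = u (pp e₁ * pp e₂) +
        X.incl (Ideal.Quotient.mk J (pp e₁) • zz e₂ + Ideal.Quotient.mk J (pp e₂) • zz e₁) := by
      conv_lhs => rw [hpz e₁, hpz e₂]
      rw [map_mul, map_add, ← h, ← h, ← X.isExtension.mul_incl, ← X.isExtension.mul_incl]
      have := incl_mul_incl X (zz e₁) (zz e₂)
      linear_combination this
    change u' (pp (e₁ * e₂)) + X'.incl (zz (e₁ * e₂)) = _
    rw [key _ _ _ he, map_mul, map_add, ← h', ← h', ← X'.isExtension.mul_incl,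
      ← X'.isExtension.mul_incl]
    have := incl_mul_incl X' (zz e₁) (zz e₂)
    linear_combination -this
  · change u' (pp 0) + X'.incl (zz 0) = 0
    rw [key 0 0 0 (by rw [map_zero, map_zero, add_zero]), map_zero, map_zero, add_zero]
  · intro e₁ e₂
    have he : e₁ + e₂ = u (pp e₁ + pp e₂) + X.incl (zz e₁ + zz e₂) := by
      conv_lhs => rw [hpz e₁, hpz e₂]
      rw [map_add, map_add]; ring
    change u' (pp (e₁ + e₂)) + X'.incl (zz (e₁ + e₂)) = _
    rw [key _ _ _ he, map_add, map_add]; ring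
  · intro a
    rw [key _ (algebraMap A P a) 0 (by rw [map_zero, add_zero, AlgHom.commutes]), map_zero,
      add_zero, AlgHom.commutes]
  · intro p z
    exact char p z

include h h' H in
/-- the sufficiency in the comparison: extensions whose lifts agree on `J` are equivalent -/
theorem nonempty_equiv_of_agree : Nonempty (X.Equiv X') := by
  obtain ⟨φ, hφ⟩ := exists_algHom X X' u u' h h' H
  obtain ⟨ψ, hψ⟩ := exists_algHom X' X u' u h' h (fun j hj => by
    obtain ⟨z, hz, hz'⟩ := H j hj
    exact ⟨z, hz', hz⟩)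
  have h1 : φ.comp ψ = AlgHom.id A X'.E := by
    ext e
    obtain ⟨p, z, rfl⟩ := exists_decomp X' u' h' e
    rw [AlgHom.comp_apply, hψ, hφ, AlgHom.id_apply]
  have h2 : ψ.comp φ = AlgHom.id A X.E := by
    ext e
    obtain ⟨p, z, rfl⟩ := exists_decomp X u h e
    rw [AlgHom.comp_apply, hφ, hψ, AlgHom.id_apply]
  refine ⟨{ toAlgEquiv := AlgEquiv.ofAlgHom φ ψ h1 h2
            proj_apply := ?_
            apply_incl := ?_ }⟩
  · intro e
    obtain ⟨p, z, rfl⟩ := exists_decomp X u h e
    change X'.proj (φ (u p + X.incl z)) = _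
    rw [hφ, map_add, map_add, h, h', proj_incl, proj_incl]
  · intro z
    change φ (X.incl z) = _
    have := hφ 0 z
    rwa [map_zero, map_zero, zero_add, zero_add] at this

end Transfer

end Lift

end Groth.Agent.Helper9.ExalA
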