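import Mathlib
import Groth.Prelude.Def_Exal2
import Groth.Agent.Helper9.ExalA
import Groth.Agent.Helper8.SqZeroAdic
import Groth.Agent.Helper8.Schl21
import Groth.Agent.Helper7.CohenV1
import Groth.Agent.Helper7.PSSmooth

set_option autoImplicit false
set_option linter.unusedSectionVars false
set_option linter.style.haveILetI false
universe u v

/-! Lifting the presentation `Λ[[X]] → Λ[[X]] ⧸ J` into an extension by a finite module. -/

namespace Groth.Agent.Helper9.ExalB

open Exal MvPowerSeries IsLocalRing Groth.Agent.Helper9.ExalA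

/-- algebra maps out of a power series ring into a separated ring are determined by the images of
the variables -/
theorem algHom_ext_of_iInf {Λ : Type*} [CommRing Λ] {d : ℕ} {D : Type*} [CommRing D] [Algebra Λ D]
    (I : Ideal D) (hI : ⨅ n, I ^ n = ⊥) (u v : MvPowerSeries (Fin d) Λ →ₐ[Λ] D)
    (huv : ∀ i, u (X i) = v (X i)) (hu : ∀ i, u (X i) ∈ I) : u = v := by
  have hpoly : u.comp (MvPolynomial.coeToMvPowerSeries.algHom Λ) =
      v.comp (MvPolynomial.coeToMvPowerSeries.algHom Λ) := by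
    apply MvPolynomial.algHom_ext
    intro i
    simp only [AlgHom.comp_apply, MvPolynomial.coeToMvPowerSeries.algHom_apply,
      MvPolynomial.coe_X, Algebra.algebraMap_self, map_id]
    exact huv i
  have hpow : ∀ (w : MvPowerSeries (Fin d) Λ →ₐ[Λ] D), (∀ i, w (X i) ∈ I) → ∀ (N : ℕ),
      ∀ x ∈ Ideal.span (Set.range (X : Fin d → MvPowerSeries (Fin d) Λ)) ^ N, w x ∈ I ^ N := by
    intro w hw N x hx
    have h1 : w x ∈ (Ideal.span (Set.range (X : Fin d → MvPowerSeries (Fin d) Λ)) ^ N).map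
        w.toRingHom := Ideal.mem_map_of_mem _ hx
    rw [Ideal.map_pow, Ideal.map_span] at h1
    refine Ideal.pow_right_mono ?_ N h1
    rw [Ideal.span_le]
    rintro _ ⟨_, ⟨i, rfl⟩, rfl⟩
    exact hw i
  ext f
  rw [← sub_eq_zero]
  have hmem : ∀ N, u f - v f ∈ I ^ N := by
    intro N
    have hm := Groth.Agent.Helper7.PSSmooth.sub_truncTotal_mem N f
    have e3 := AlgHom.congr_fun hpoly (truncTotal N f)
    simp only [AlgHom.comp_apply, MvPolynomial.coeToMvPowerSeries.algHom_apply,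
      Algebra.algebraMap_self, map_id, RingHom.id_apply] at e3
    have e4 : u f - v f = u (f - ((truncTotal N f : MvPolynomial (Fin d) Λ) :
        MvPowerSeries (Fin d) Λ)) - v (f - ((truncTotal N f : MvPolynomial (Fin d) Λ) :
        MvPowerSeries (Fin d) Λ)) := by
      rw [map_sub, map_sub, e3]; ring
    rw [e4]
    exact sub_mem (hpow u hu N _ hm) (hpow v (fun i => huv i ▸ hu i) N _ hm)
  have : u f - v f ∈ ⨅ n, I ^ n := by
    rw [Ideal.mem_iInf]
    exact hmem
  rwa [hI] at this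

section

variable {Λ : Type u} [CommRing Λ] [IsLocalRing Λ] [IsNoetherianRing Λ]
  [IsAdicComplete (maximalIdeal Λ) Λ] (d : ℕ) (J : Ideal (MvPowerSeries (Fin d) Λ))

omit [IsNoetherianRing Λ] [IsAdicComplete (maximalIdeal Λ) Λ] in
theorem span_X_le_maximalIdeal :
    Ideal.span (Set.range (X : Fin d → MvPowerSeries (Fin d) Λ)) ≤
      maximalIdeal (MvPowerSeries (Fin d) Λ) := by
  rw [Ideal.span_le]
  rintro _ ⟨i, rfl⟩
  rw [SetLike.mem_coe, Groth.Agent.Helper8.Schl.ps_mem_maximalIdeal_iff, constantCoeff_X]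
  exact Ideal.zero_mem _

/-- the presentation lifts to any extension by a finite module -/
theorem exists_lift (hJ : J ≠ ⊤) (L : Type u) [AddCommGroup L]
    [Module (MvPowerSeries (Fin d) Λ ⧸ J) L] [Module.Finite (MvPowerSeries (Fin d) Λ ⧸ J) L]
    (Y : Exal.Ext Λ (MvPowerSeries (Fin d) Λ ⧸ J) L) :
    ∃ u : MvPowerSeries (Fin d) Λ →ₐ[Λ] Y.E, ∀ p, Y.proj (u p) = Ideal.Quotient.mk J p := by
  haveI : Nontrivial (MvPowerSeries (Fin d) Λ ⧸ J) := Ideal.Quotient.nontrivial_iff.mpr hJ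
  haveI : IsLocalRing (MvPowerSeries (Fin d) Λ ⧸ J) :=
    IsLocalRing.of_surjective' (Ideal.Quotient.mk J) Ideal.Quotient.mk_surjective
  haveI : IsAdicComplete (maximalIdeal (MvPowerSeries (Fin d) Λ)) (MvPowerSeries (Fin d) Λ) :=
    Groth.Agent.Helper8.Schl.ps_isAdicComplete d
  haveI : IsAdicComplete (maximalIdeal (MvPowerSeries (Fin d) Λ ⧸ J))
      (MvPowerSeries (Fin d) Λ ⧸ J) := Groth.Agent.Helper7.Cohen.isAdicComplete_quotient J
  haveI hc := Groth.Agent.Helper8.SqZeroAdic.s16981 Y.proj.toRingHom Y.isExtension.proj_surjective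
    (ker_sq Y) (ker_fg Y)
  have hXm : ∀ i, Ideal.Quotient.mk J (X i) ∈ maximalIdeal (MvPowerSeries (Fin d) Λ ⧸ J) := by
    intro i
    rw [← IsLocalRing.map_maximalIdeal_of_surjective (Ideal.Quotient.mk J)
      Ideal.Quotient.mk_surjective]
    exact Ideal.mem_map_of_mem _ (span_X_le_maximalIdeal d (Ideal.subset_span ⟨i, rfl⟩))
  choose e he using fun i => Y.isExtension.proj_surjective (Ideal.Quotient.mk J (X i))
  have hmem : ∀ i, e i ∈ (maximalIdeal (MvPowerSeries (Fin d) Λ ⧸ J)).comap Y.proj.toRingHom := by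
    intro i
    rw [Ideal.mem_comap]
    change Y.proj (e i) ∈ _
    rw [he]
    exact hXm i
  obtain ⟨ψ, hψ⟩ := Groth.Agent.Helper7.PSEval.exists_algHom_X (k := Λ)
    ((maximalIdeal (MvPowerSeries (Fin d) Λ ⧸ J)).comap Y.proj.toRingHom) e hmem
  refine ⟨ψ, fun p => ?_⟩
  have key := algHom_ext_of_iInf (maximalIdeal (MvPowerSeries (Fin d) Λ ⧸ J))
    (Ideal.iInf_pow_eq_bot_of_isLocalRing _ (maximalIdeal.isMaximal _).ne_top)
    (Y.proj.comp ψ) (Ideal.Quotient.mkₐ Λ J)
    (fun i => by rw [AlgHom.comp_apply, hψ, he, Ideal.Quotient.mkₐ_eq_mk])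
    (fun i => by rw [AlgHom.comp_apply, hψ, he]; exact hXm i)
  exact AlgHom.congr_fun key p

omit [IsNoetherianRing Λ] [IsAdicComplete (maximalIdeal Λ) Λ] in
/-- the ideal of the variables kills a simple module over the quotient -/
theorem span_X_smul (L : Type u) [AddCommGroup L]
    [Module (MvPowerSeries (Fin d) Λ ⧸ J) L] [Module (MvPowerSeries (Fin d) Λ) L]
    [IsScalarTower (MvPowerSeries (Fin d) Λ) (MvPowerSeries (Fin d) Λ ⧸ J) L]
    [IsSimpleModule (MvPowerSeries (Fin d) Λ ⧸ J) L] :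
    ∀ a ∈ Ideal.span (Set.range (X : Fin d → MvPowerSeries (Fin d) Λ)), ∀ z : L, a • z = 0 := by
  intro a ha z
  haveI : Nontrivial L := IsSimpleModule.nontrivial (MvPowerSeries (Fin d) Λ ⧸ J) L
  haveI : Nontrivial (MvPowerSeries (Fin d) Λ ⧸ J) := Module.nontrivial _ L
  haveI : IsLocalRing (MvPowerSeries (Fin d) Λ ⧸ J) :=
    IsLocalRing.of_surjective' (Ideal.Quotient.mk J) Ideal.Quotient.mk_surjective
  have hann : Module.annihilator (MvPowerSeries (Fin d) Λ ⧸ J) L =
      maximalIdeal (MvPowerSeries (Fin d) Λ ⧸ J) :=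
    IsLocalRing.eq_maximalIdeal IsSimpleModule.annihilator_isMaximal
  have h1 : Ideal.Quotient.mk J a ∈ maximalIdeal (MvPowerSeries (Fin d) Λ ⧸ J) := by
    rw [← IsLocalRing.map_maximalIdeal_of_surjective (Ideal.Quotient.mk J)
      Ideal.Quotient.mk_surjective]
    exact Ideal.mem_map_of_mem _ (span_X_le_maximalIdeal d ha)
  rw [← hann, Module.mem_annihilator] at h1
  rw [← mk_smul J]
  exact h1 z

end

end Groth.Agent.Helper9.ExalB
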