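import Mathlib
import Groth.Prelude.Def_Exal2
import Groth.Agent.Helper9.ExalA

set_option autoImplicit false
set_option linter.unusedSectionVars false
universe u v

/-! The extension of `P ⧸ J` by `L` attached to a `P`-linear map `δ : J → L`: the quotient of the
trivial extension `P ⊕ L` by the ideal `{(j, -δ j)}`. -/

namespace Groth.Agent.Helper9.ExalC

open Exal Groth.Agent.Helper9.ExalA

attribute [local instance] Exal.opModule Exal.isCentralScalar_opModule

variable {A : Type u} {P : Type v} [CommRing A] [CommRing P] [Algebra A P] (J : Ideal P)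
  {L : Type v} [AddCommGroup L] [Module (P ⧸ J) L] [Module P L] [IsScalarTower P (P ⧸ J) L]
  (δ : J →ₗ[P] L)

/-- the ideal `{(j, -δ j)}` of `P ⊕ L` -/
def K : Ideal (TrivSqZeroExt P L) where
  carrier := {t | ∃ j : J, t = TrivSqZeroExt.inl (j : P) + TrivSqZeroExt.inr (-(δ j))}
  zero_mem' := ⟨0, by simp⟩
  add_mem' := by
    rintro _ _ ⟨j, rfl⟩ ⟨j', rfl⟩
    refine ⟨j + j', ?_⟩
    rw [Submodule.coe_add, TrivSqZeroExt.inl_add, map_add, neg_add, TrivSqZeroExt.inr_add]
    abel
  smul_mem' := by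
    rintro t _ ⟨j, rfl⟩
    refine ⟨⟨t.fst * j, J.mul_mem_left _ j.2⟩, ?_⟩
    apply TrivSqZeroExt.ext
    · simp
    · have h0 : (j : P) • t.snd = 0 := smul_eq_zero_of_mem J j.2 _
      have h1 : δ ⟨t.fst * j, J.mul_mem_left _ j.2⟩ = t.fst • δ j := by
        rw [← map_smul]
        rfl
      simp only [smul_eq_mul, TrivSqZeroExt.snd_mul, TrivSqZeroExt.fst_add, TrivSqZeroExt.fst_inl,
        TrivSqZeroExt.fst_inr, add_zero, TrivSqZeroExt.snd_add, TrivSqZeroExt.snd_inl,
        TrivSqZeroExt.snd_inr, zero_add, op_smul_eq_smul, h0, h1, smul_neg]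

theorem mem_K {t : TrivSqZeroExt P L} :
    t ∈ K J δ ↔ ∃ j : J, t = TrivSqZeroExt.inl (j : P) + TrivSqZeroExt.inr (-(δ j)) := Iff.rfl

/-- the first projection as a ring homomorphism -/
def fstHom : TrivSqZeroExt P L →+* P where
  toFun := TrivSqZeroExt.fst
  map_one' := TrivSqZeroExt.fst_one
  map_mul' := TrivSqZeroExt.fst_mul
  map_zero' := TrivSqZeroExt.fst_zero
  map_add' := TrivSqZeroExt.fst_add

omit [Module (P ⧸ J) L] [IsScalarTower P (P ⧸ J) L] in
theorem fstHom_apply (t : TrivSqZeroExt P L) : fstHom t = t.fst := rfl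

theorem mul_inr (t : TrivSqZeroExt P L) (z : L) :
    t * TrivSqZeroExt.inr z = TrivSqZeroExt.inr (t.fst • z) := by
  apply TrivSqZeroExt.ext
  · simp
  · simp

theorem exists_ext : ∃ (X : Exal.Ext A (P ⧸ J) L) (u : P →ₐ[A] X.E),
    (∀ p, X.proj (u p) = Ideal.Quotient.mk J p) ∧ ∀ j : J, X.incl (δ j) = u j := by
  classical
  let q : TrivSqZeroExt P L →+* (TrivSqZeroExt P L ⧸ K J δ) := Ideal.Quotient.mk (K J δ)
  letI alg : Algebra A (TrivSqZeroExt P L ⧸ K J δ) :=
    (q.comp ((TrivSqZeroExt.inlHom P L).comp (algebraMap A P))).toAlgebra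
  have hker : ∀ t ∈ K J δ, ((Ideal.Quotient.mk J).comp (fstHom (L := L))) t = 0 := by
    rintro t ⟨j, rfl⟩
    rw [RingHom.comp_apply, fstHom_apply, TrivSqZeroExt.fst_add, TrivSqZeroExt.fst_inl,
      TrivSqZeroExt.fst_inr, add_zero]
    exact Ideal.Quotient.eq_zero_iff_mem.2 j.2
  let pr0 : (TrivSqZeroExt P L ⧸ K J δ) →+* (P ⧸ J) :=
    Ideal.Quotient.lift (K J δ) ((Ideal.Quotient.mk J).comp fstHom) hker
  have hpr0 : ∀ t, pr0 (q t) = Ideal.Quotient.mk J t.fst := fun t => rfl
  let pr : (TrivSqZeroExt P L ⧸ K J δ) →ₐ[A] (P ⧸ J) :=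
    { pr0 with
      commutes' := fun a => by
        change pr0 (q (TrivSqZeroExt.inl (algebraMap A P a))) = _
        rw [hpr0, TrivSqZeroExt.fst_inl]
        rfl }
  have hpr : ∀ t, pr (q t) = Ideal.Quotient.mk J t.fst := fun t => rfl
  let inc : L →+ (TrivSqZeroExt P L ⧸ K J δ) :=
    (q : TrivSqZeroExt P L →+ _).comp (TrivSqZeroExt.inrHom P L).toAddMonoidHom
  have hinc : ∀ z, inc z = q (TrivSqZeroExt.inr z) := fun z => rfl
  let u : P →ₐ[A] (TrivSqZeroExt P L ⧸ K J δ) :=
    { q.comp (TrivSqZeroExt.inlHom P L) with commutes' := fun a => rfl }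
  have hu : ∀ p, u p = q (TrivSqZeroExt.inl p) := fun p => rfl
  have hext : Exal.IsExtension pr inc :=
    { proj_surjective := fun b => by
        obtain ⟨p, rfl⟩ := Ideal.Quotient.mk_surjective b
        exact ⟨q (TrivSqZeroExt.inl p), by rw [hpr, TrivSqZeroExt.fst_inl]⟩
      incl_injective := by
        rw [injective_iff_map_eq_zero]
        intro z hz
        rw [hinc] at hz
        obtain ⟨j, hj⟩ := (mem_K J δ).1 (Ideal.Quotient.eq_zero_iff_mem.1 hz)
        have h1 := congrArg TrivSqZeroExt.fst hj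
        have h2 := congrArg TrivSqZeroExt.snd hj
        simp only [TrivSqZeroExt.fst_inr, TrivSqZeroExt.fst_add, TrivSqZeroExt.fst_inl,
          add_zero] at h1
        simp only [TrivSqZeroExt.snd_inr, TrivSqZeroExt.snd_add, TrivSqZeroExt.snd_inl,
          zero_add] at h2
        have hj0 : j = 0 := Subtype.ext h1.symm
        rw [h2, hj0, map_zero, neg_zero]
      exact := fun x => by
        obtain ⟨t, rfl⟩ := Ideal.Quotient.mk_surjective x
        change pr (q t) = 0 ↔ _
        rw [hpr, Ideal.Quotient.eq_zero_iff_mem]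
        constructor
        · intro ht
          refine ⟨t.snd + δ ⟨t.fst, ht⟩, ?_⟩
          rw [hinc]
          change q _ = q t
          rw [Ideal.Quotient.eq, ← neg_mem_iff]
          refine (mem_K J δ).2 ⟨⟨t.fst, ht⟩, ?_⟩
          apply TrivSqZeroExt.ext
          · simp
          · simp
        · rintro ⟨z, hz⟩
          rw [hinc] at hz
          change q _ = q t at hz
          rw [Ideal.Quotient.eq] at hz
          obtain ⟨j, hj⟩ := (mem_K J δ).1 hz
          have h1 := congrArg TrivSqZeroExt.fst hj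
          simp only [TrivSqZeroExt.fst_sub, TrivSqZeroExt.fst_inr, zero_sub,
            TrivSqZeroExt.fst_add, TrivSqZeroExt.fst_inl, add_zero] at h1
          have : t.fst = -(j : P) := by rw [← h1, neg_neg]
          rw [this]
          exact J.neg_mem j.2
      mul_incl := fun x z => by
        obtain ⟨t, rfl⟩ := Ideal.Quotient.mk_surjective x
        change q t * inc z = inc (pr (q t) • z)
        rw [hinc, hinc, hpr, mk_smul, ← map_mul, mul_inr] }
  refine ⟨{ E := TrivSqZeroExt P L ⧸ K J δ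
            commRing := inferInstance
            algebra := alg
            proj := pr
            incl := inc
            isExtension := hext }, u, ?_, ?_⟩
  · intro p
    change pr (u p) = _
    rw [hu, hpr, TrivSqZeroExt.fst_inl]
  · intro j
    change inc (δ j) = u j
    rw [hinc, hu, Ideal.Quotient.eq, ← neg_mem_iff]
    refine (mem_K J δ).2 ⟨j, ?_⟩
    apply TrivSqZeroExt.ext
    · simp
    · simp

end Groth.Agent.Helper9.ExalC
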