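import Mathlib
import Groth.Prelude.Def_Exal2
import Groth.Agent.Helper9.ExalA
import Groth.Agent.Helper7.PSSmooth
import Groth.Agent.Helper1.CompleteNoeth

set_option autoImplicit false
set_option linter.unusedSectionVars false
set_option linter.style.haveILetI false
universe u v

/-! More general facts on `Exal.Ext`: morphisms of extensions are equivalences; the middle ring
of an extension of a Noetherian local ring by a finite module is Noetherian local. -/

namespace Groth.Agent.Helper9.ExalD

open Exal IsLocalRing Groth.Agent.Helper9.ExalA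

section Basic

variable {A : Type u} {B L : Type v} [CommRing A] [CommRing B] [Algebra A B] [AddCommGroup L]
  [Module B L]

/-- a morphism of extensions is an equivalence (five lemma) -/
theorem nonempty_equiv_of_algHom (X Y : Exal.Ext A B L) (θ : X.E →ₐ[A] Y.E)
    (hp : ∀ x, Y.proj (θ x) = X.proj x) (hi : ∀ z, θ (X.incl z) = Y.incl z) :
    Nonempty (X.Equiv Y) := by
  have hinj : Function.Injective θ := by
    rw [injective_iff_map_eq_zero]
    intro x hx
    have h1 : X.proj x = 0 := by rw [← hp, hx, map_zero]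
    obtain ⟨z, rfl⟩ := exists_incl_of_proj_eq_zero X h1
    rw [hi] at hx
    have : z = 0 := Y.isExtension.incl_injective (by rw [hx, map_zero])
    rw [this, map_zero]
  have hsurj : Function.Surjective θ := by
    intro y
    obtain ⟨x, hx⟩ := X.isExtension.proj_surjective (Y.proj y)
    obtain ⟨z, hz⟩ := exists_incl_of_proj_eq_zero Y
      (show Y.proj (y - θ x) = 0 by rw [map_sub, hp, hx, sub_self])
    refine ⟨x + X.incl z, ?_⟩
    rw [map_add, hi, hz]; ring
  exact ⟨{ toAlgEquiv := AlgEquiv.ofBijective θ ⟨hinj, hsurj⟩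
           proj_apply := hp
           apply_incl := hi }⟩

variable (X : Exal.Ext A B L)

theorem isUnit_of_isUnit_proj {x : X.E} (hx : IsUnit (X.proj x)) : IsUnit x := by
  obtain ⟨b, hb⟩ := hx.exists_right_inv
  obtain ⟨y, rfl⟩ := X.isExtension.proj_surjective b
  obtain ⟨z, hz⟩ := exists_incl_of_proj_eq_zero X
    (show X.proj (x * y - 1) = 0 by rw [map_sub, map_mul, hb, map_one, sub_self])
  have h1 : x * y = 1 + X.incl z := by rw [hz]; ring
  refine IsUnit.of_mul_eq_one (y * (1 - X.incl z)) ?_
  have h2 := incl_mul_incl X z z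
  rw [← mul_assoc, h1]
  linear_combination -h2

theorem isUnit_iff {x : X.E} : IsUnit x ↔ IsUnit (X.proj x) :=
  ⟨fun h => h.map X.proj, isUnit_of_isUnit_proj X⟩

theorem isLocalRing_E [IsLocalRing B] : IsLocalRing X.E := by
  haveI : Nontrivial X.E := by
    refine ⟨⟨0, 1, fun h => ?_⟩⟩
    have := congrArg X.proj h
    rw [map_zero, map_one] at this
    exact zero_ne_one this
  refine IsLocalRing.of_isUnit_or_isUnit_one_sub_self fun a => ?_
  rcases IsLocalRing.isUnit_or_isUnit_one_sub_self (X.proj a) with h | h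
  · exact Or.inl (isUnit_of_isUnit_proj X h)
  · exact Or.inr (isUnit_of_isUnit_proj X (by rwa [map_sub, map_one]))

theorem mem_maximalIdeal_iff [IsLocalRing B] (x : X.E) :
    haveI := isLocalRing_E X
    x ∈ maximalIdeal X.E ↔ X.proj x ∈ maximalIdeal B := by
  haveI := isLocalRing_E X
  rw [mem_maximalIdeal, mem_maximalIdeal, mem_nonunits_iff, mem_nonunits_iff, isUnit_iff]

theorem isNoetherianRing_E [IsNoetherianRing B] [Module.Finite B L] : IsNoetherianRing X.E := by
  have hnil : IsNilpotent (RingHom.ker X.proj.toRingHom) := ⟨2, ker_sq X⟩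
  haveI : IsAdicComplete (RingHom.ker X.proj.toRingHom) X.E :=
    Groth.Agent.Helper7.PSSmooth.isAdicComplete_of_isNilpotent _ hnil
  let e : (X.E ⧸ RingHom.ker X.proj.toRingHom) ≃+* B :=
    RingHom.quotientKerEquivOfSurjective (f := X.proj.toRingHom) X.isExtension.proj_surjective
  haveI : IsNoetherianRing (X.E ⧸ RingHom.ker X.proj.toRingHom) :=
    isNoetherianRing_of_ringEquiv B e.symm
  exact Groth.Agent.Helper1.CompleteNoeth.isNoetherianRing_of_isAdicComplete _ (ker_fg X)

theorem map_pow_maximalIdeal [IsLocalRing B] (n : ℕ) :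
    haveI := isLocalRing_E X
    (maximalIdeal X.E ^ n).map X.proj.toRingHom = maximalIdeal B ^ n := by
  haveI := isLocalRing_E X
  have h1 : maximalIdeal X.E = (maximalIdeal B).comap X.proj.toRingHom := by
    ext x
    rw [Ideal.mem_comap]
    exact mem_maximalIdeal_iff X x
  rw [Ideal.map_pow, h1,
    Ideal.map_comap_of_surjective X.proj.toRingHom X.isExtension.proj_surjective]

/-- elements of `𝔪_B ^ n` lift to `𝔪_E ^ n` -/
theorem exists_mem_pow_proj_eq [IsLocalRing B] (n : ℕ) {b : B} (hb : b ∈ maximalIdeal B ^ n) :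
    haveI := isLocalRing_E X
    ∃ t ∈ maximalIdeal X.E ^ n, X.proj t = b := by
  haveI := isLocalRing_E X
  rw [← map_pow_maximalIdeal X n] at hb
  obtain ⟨t, ht, rfl⟩ := (Ideal.mem_map_iff_of_surjective _ X.isExtension.proj_surjective).1 hb
  exact ⟨t, ht, rfl⟩

theorem proj_mem_pow [IsLocalRing B] (n : ℕ) {t : X.E}
    (ht : haveI := isLocalRing_E X; t ∈ maximalIdeal X.E ^ n) :
    X.proj t ∈ maximalIdeal B ^ n := by
  haveI := isLocalRing_E X
  rw [← map_pow_maximalIdeal X n]
  exact Ideal.mem_map_of_mem X.proj.toRingHom ht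

theorem maximalIdeal_smul [IsLocalRing B] [IsSimpleModule B L] {b : B} (hb : b ∈ maximalIdeal B)
    (z : L) : b • z = 0 := by
  have hann : Module.annihilator B L = maximalIdeal B :=
    IsLocalRing.eq_maximalIdeal IsSimpleModule.annihilator_isMaximal
  rw [← hann, Module.mem_annihilator] at hb
  exact hb z

/-- a high power of the maximal ideal of the middle ring meets the kernel trivially -/
theorem exists_pow_inter_eq_bot [IsLocalRing B] [IsNoetherianRing B] [IsSimpleModule B L] :
    haveI := isLocalRing_E X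
    ∃ N : ℕ, ∀ z : L, X.incl z ∈ maximalIdeal X.E ^ N → z = 0 := by
  haveI := isLocalRing_E X
  haveI := isNoetherianRing_E X
  haveI : Nontrivial L := IsSimpleModule.nontrivial B L
  obtain ⟨z₀, hz₀⟩ := exists_ne (0 : L)
  have h0 : X.incl z₀ ≠ 0 := fun h => hz₀ (X.isExtension.incl_injective (by rw [h, map_zero]))
  have hK : ⨅ n, maximalIdeal X.E ^ n = ⊥ :=
    Ideal.iInf_pow_eq_bot_of_isLocalRing _ (maximalIdeal.isMaximal _).ne_top
  obtain ⟨N, hN⟩ : ∃ N, X.incl z₀ ∉ maximalIdeal X.E ^ N := by
    by_contra hcon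
    push Not at hcon
    have : X.incl z₀ ∈ ⨅ n, maximalIdeal X.E ^ n := by
      rw [Ideal.mem_iInf]; exact hcon
    rw [hK] at this
    exact h0 this
  refine ⟨N, fun z hz => ?_⟩
  by_contra hne
  obtain ⟨b, hb⟩ := IsSimpleModule.toSpanSingleton_surjective B hne z₀
  rw [LinearMap.toSpanSingleton_apply] at hb
  obtain ⟨e, rfl⟩ := X.isExtension.proj_surjective b
  apply hN
  rw [← hb, ← X.isExtension.mul_incl]
  exact Ideal.mul_mem_left _ _ hz

end Basic

section Pullback

variable {A : Type u} {B L : Type v} [CommRing A] [CommRing B] [Algebra A B] [AddCommGroup L]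
  [Module B L] (B₀ : Type v) [CommRing B₀] [Algebra A B₀] [Algebra B₀ B] [IsScalarTower A B₀ B]
  [Module B₀ L] [IsScalarTower B₀ B L]

/-- the first projection from the pullback extension -/
noncomputable def pullbackFst (X : Exal.Ext A B L) : (X.pullback B₀).E →ₐ[A] X.E :=
  (AlgHom.fst A X.E B₀).comp (X.fiberProd B₀).val

theorem proj_pullbackFst (X : Exal.Ext A B L) (e : (X.pullback B₀).E) :
    X.proj (pullbackFst B₀ X e) = algebraMap B₀ B ((X.pullback B₀).proj e) := by
  obtain ⟨⟨x, b⟩, hx⟩ := e
  have hx' : X.proj x = algebraMap B₀ B b := by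
    simpa [Exal.Ext.fiberProd, AlgHom.mem_equalizer] using hx
  exact hx'

theorem pullbackFst_incl (X : Exal.Ext A B L) (z : L) :
    pullbackFst B₀ X ((X.pullback B₀).incl z) = X.incl z := rfl

/-- an extension of `B₀` mapping compatibly to an extension of `B` is its pullback -/
theorem nonempty_pullback_equiv (X : Exal.Ext A B L) (Y : Exal.Ext A B₀ L) (g : Y.E →ₐ[A] X.E)
    (hp : ∀ f, X.proj (g f) = algebraMap B₀ B (Y.proj f)) (hi : ∀ z, g (Y.incl z) = X.incl z) :
    Nonempty ((X.pullback B₀).Equiv Y) := by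
  have hmem : ∀ f, (g.prod Y.proj) f ∈ X.fiberProd B₀ := by
    intro f
    simp only [Exal.Ext.fiberProd, AlgHom.mem_equalizer, AlgHom.comp_apply, AlgHom.prod_apply,
      AlgHom.fst_apply, AlgHom.snd_apply, IsScalarTower.toAlgHom_apply]
    exact hp f
  let θ : Y.E →ₐ[A] (X.pullback B₀).E := AlgHom.codRestrict (g.prod Y.proj) (X.fiberProd B₀) hmem
  have h := nonempty_equiv_of_algHom Y (X.pullback B₀) θ (fun f => rfl) (fun z => by
    apply Subtype.ext
    apply Prod.ext
    · exact hi z
    · exact proj_incl Y z)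
  obtain ⟨e⟩ := h
  exact ⟨e.symm⟩

end Pullback

end Groth.Agent.Helper9.ExalD
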