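import Mathlib
import Groth.Prelude.Def_Exal2
import Groth.Agent.Helper9.ExalA
import Groth.Agent.Helper9.ExalD
import Groth.Agent.Helper8.SqZeroAdic
import Groth.Agent.S0543

set_option autoImplicit false
set_option linter.unusedSectionVars false
set_option linter.style.haveILetI false
universe u v

/-! The completion of an extension of a Noetherian local ring by a simple module: an extension
of the completed ring by the same module. -/

namespace Groth.Agent.Helper9.ExalE

open Exal IsLocalRing Groth.Agent.Helper9.ExalA Groth.Agent.Helper9.ExalD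

section Rep

variable {S : Type*} [CommRing S] (I : Ideal S)

theorem exists_rep (x : AdicCompletion I S) :
    ∃ a : ℕ → S, (∀ m n, m ≤ n → a m - a n ∈ I ^ m) ∧
      ∀ n, AdicCompletion.evalₐ I n x = Ideal.Quotient.mk (I ^ n) (a n) := by
  obtain ⟨a, rfl⟩ := AdicCompletion.mk_surjective I S x
  refine ⟨a.1, fun m n hmn => ?_, fun n => AdicCompletion.evalₐ_mk I n a⟩
  have := a.2 hmn
  rw [SModEq.sub_mem, smul_eq_mul, Ideal.mul_top] at this
  exact this

theorem exists_of_seq (a : ℕ → S) (h : ∀ n, a n - a (n + 1) ∈ I ^ n) :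
    ∃ x : AdicCompletion I S, ∀ n, AdicCompletion.evalₐ I n x = Ideal.Quotient.mk (I ^ n) (a n) := by
  refine ⟨AdicCompletion.mk I S (AdicCompletion.AdicCauchySequence.mk I S a (fun n => ?_)),
    fun n => ?_⟩
  · rw [SModEq.sub_mem, smul_eq_mul, Ideal.mul_top]
    exact h n
  · rw [AdicCompletion.evalₐ_mk]
    rfl

end Rep

section Compl

variable {R : Type u} [CommRing R] [IsLocalRing R] [IsNoetherianRing R]

/-- `evalₐ n` kills the `n`-th power of the maximal ideal of the completion -/
theorem evalₐ_eq_zero_of_mem_pow (n : ℕ) {x : AdicCompletion (maximalIdeal R) R}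
    (hx : x ∈ maximalIdeal (AdicCompletion (maximalIdeal R) R) ^ n) :
    AdicCompletion.evalₐ (maximalIdeal R) n x = 0 := by
  rw [AdicCompletion.maximalIdeal_eq_map, ← Ideal.map_pow] at hx
  have h1 : AdicCompletion.evalₐ (maximalIdeal R) n x ∈
      ((maximalIdeal R ^ n).map (algebraMap R (AdicCompletion (maximalIdeal R) R))).map
        (AdicCompletion.evalₐ (maximalIdeal R) n).toRingHom := Ideal.mem_map_of_mem _ hx
  rw [Ideal.map_map] at h1
  have h2 : (AdicCompletion.evalₐ (maximalIdeal R) n).toRingHom.comp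
      (algebraMap R (AdicCompletion (maximalIdeal R) R)) =
      Ideal.Quotient.mk (maximalIdeal R ^ n) := by
    ext r
    exact (AdicCompletion.evalₐ (maximalIdeal R) n).commutes r
  rw [h2, Ideal.map_quotient_self] at h1
  exact h1

end Compl

section Main

variable {A : Type u} [CommRing A] {R : Type u} [CommRing R] [Algebra A R] [IsLocalRing R]
  [IsNoetherianRing R] {L : Type u} [AddCommGroup L] [Module R L]
  (Y : Exal.Ext A R L) [IsLocalRing Y.E] [IsNoetherianRing Y.E]

theorem pow_le_comap (n : ℕ) :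
    maximalIdeal Y.E ^ n ≤ (maximalIdeal R ^ n).comap Y.proj := fun _ ht => proj_mem_pow Y n ht

/-- the map induced by the projection on the truncations -/
noncomputable def qm (n : ℕ) : (Y.E ⧸ maximalIdeal Y.E ^ n) →ₐ[A] (R ⧸ maximalIdeal R ^ n) :=
  Ideal.quotientMapₐ (maximalIdeal R ^ n) Y.proj (pow_le_comap Y n)

theorem qm_mk (n : ℕ) (f : Y.E) :
    qm Y n (Ideal.Quotient.mk _ f) = Ideal.Quotient.mk _ (Y.proj f) := rfl

/-- evaluation as an `A`-algebra map -/
noncomputable def ev (n : ℕ) :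
    AdicCompletion (maximalIdeal Y.E) Y.E →ₐ[A] (Y.E ⧸ maximalIdeal Y.E ^ n) :=
  (AdicCompletion.evalₐ (maximalIdeal Y.E) n).restrictScalars A

theorem ev_apply (n : ℕ) (x : AdicCompletion (maximalIdeal Y.E) Y.E) :
    ev Y n x = AdicCompletion.evalₐ (maximalIdeal Y.E) n x := rfl

theorem compat {m n : ℕ} (hle : m ≤ n) :
    (Ideal.Quotient.factorₐ A (Ideal.pow_le_pow_right hle)).comp ((qm Y n).comp (ev Y n)) =
      (qm Y m).comp (ev Y m) := by
  ext x
  obtain ⟨a, haC, ha⟩ := exists_rep (maximalIdeal Y.E) x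
  simp only [AlgHom.comp_apply, ev_apply, ha, qm_mk]
  rw [Ideal.Quotient.factorₐ_apply, Ideal.Quotient.factor_mk, Ideal.Quotient.eq, ← map_sub]
  exact proj_mem_pow Y m (by
    have := haC m n hle
    rw [← neg_sub]
    exact neg_mem this)

/-- the projection of the completed extension -/
noncomputable def prHat :
    AdicCompletion (maximalIdeal Y.E) Y.E →ₐ[A] AdicCompletion (maximalIdeal R) R :=
  AdicCompletion.liftAlgHom (maximalIdeal R) (fun n => (qm Y n).comp (ev Y n))
    (fun hle => compat Y hle)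

theorem evalₐ_prHat (n : ℕ) (x : AdicCompletion (maximalIdeal Y.E) Y.E) :
    AdicCompletion.evalₐ (maximalIdeal R) n (prHat Y x) =
      qm Y n (AdicCompletion.evalₐ (maximalIdeal Y.E) n x) :=
  AdicCompletion.evalₐ_liftAlgHom (maximalIdeal R) _ _ n x

/-- the inclusion of the completed extension -/
noncomputable def inclHat : L →+ AdicCompletion (maximalIdeal Y.E) Y.E :=
  (AdicCompletion.of (maximalIdeal Y.E) Y.E).toAddMonoidHom.comp Y.incl

theorem inclHat_apply (z : L) :
    inclHat Y z = AdicCompletion.of (maximalIdeal Y.E) Y.E (Y.incl z) := rfl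

/-- the canonical map to the completion -/
noncomputable def cHat : Y.E →ₐ[A] AdicCompletion (maximalIdeal Y.E) Y.E :=
  (Algebra.ofId Y.E (AdicCompletion (maximalIdeal Y.E) Y.E)).restrictScalars A

theorem cHat_apply (f : Y.E) : cHat Y f = AdicCompletion.of (maximalIdeal Y.E) Y.E f := rfl

theorem prHat_of (f : Y.E) :
    prHat Y (AdicCompletion.of (maximalIdeal Y.E) Y.E f) =
      AdicCompletion.of (maximalIdeal R) R (Y.proj f) := by
  refine AdicCompletion.ext_evalₐ fun n => ?_
  rw [evalₐ_prHat, AdicCompletion.evalₐ_of, AdicCompletion.evalₐ_of, qm_mk]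

theorem prHat_surjective : Function.Surjective (prHat Y) := by
  intro r
  obtain ⟨b, hbC, hb⟩ := exists_rep (maximalIdeal R) r
  have hstep : ∀ n, ∃ t ∈ maximalIdeal Y.E ^ n, Y.proj t = b (n + 1) - b n := fun n =>
    exists_mem_pow_proj_eq Y n (by
      have := hbC n (n + 1) (Nat.le_succ n)
      rw [← neg_sub]
      exact neg_mem this)
  choose t ht htp using hstep
  obtain ⟨f₀, hf₀⟩ := Y.isExtension.proj_surjective (b 0)
  obtain ⟨x, hx⟩ := exists_of_seq (maximalIdeal Y.E) (fun n => f₀ + ∑ i ∈ Finset.range n, t i)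
    (fun n => by
      rw [Finset.sum_range_succ]
      have : f₀ + ∑ i ∈ Finset.range n, t i - (f₀ + (∑ i ∈ Finset.range n, t i + t n)) = -t n := by
        ring
      rw [this]
      exact neg_mem (ht n))
  refine ⟨x, AdicCompletion.ext_evalₐ fun n => ?_⟩
  rw [evalₐ_prHat, hx, qm_mk, hb, map_add, map_sum, hf₀]
  simp only [htp]
  rw [Finset.sum_range_sub]
  ring_nf

variable [Module (AdicCompletion (maximalIdeal R) R) L]
  [IsScalarTower R (AdicCompletion (maximalIdeal R) R) L] [IsSimpleModule R L]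

omit [IsScalarTower R (AdicCompletion (maximalIdeal R) R) L] [IsSimpleModule R L]
  [Module (AdicCompletion (maximalIdeal R) R) L] [Module R L] in
theorem mem_maximalIdeal_of_evalₐ_one {x : AdicCompletion (maximalIdeal R) R}
    (h : AdicCompletion.evalₐ (maximalIdeal R) 1 x = 0) :
    x ∈ maximalIdeal (AdicCompletion (maximalIdeal R) R) := by
  rw [mem_maximalIdeal, mem_nonunits_iff]
  intro hu
  have h1 := hu.map (AdicCompletion.evalₐ (maximalIdeal R) 1)
  rw [h] at h1
  haveI : Nontrivial (R ⧸ maximalIdeal R ^ 1) := by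
    rw [Ideal.Quotient.nontrivial_iff, pow_one]
    exact (maximalIdeal.isMaximal R).ne_top
  exact not_isUnit_zero h1

theorem maximalIdeal_hat_smul {y : AdicCompletion (maximalIdeal R) R}
    (hy : y ∈ maximalIdeal (AdicCompletion (maximalIdeal R) R)) (z : L) : y • z = 0 := by
  rw [AdicCompletion.maximalIdeal_eq_map] at hy
  refine Submodule.span_induction (p := fun y _ => y • z = 0) ?_ ?_ ?_ ?_ hy
  · rintro _ ⟨a, ha, rfl⟩
    rw [algebraMap_smul]
    exact maximalIdeal_smul ha z
  · exact zero_smul _ _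
  · intro a b _ _ h1 h2
    rw [add_smul, h1, h2, add_zero]
  · intro c a _ h1
    rw [smul_eq_mul, mul_smul, h1, smul_zero]

theorem hat_smul_eq (r : AdicCompletion (maximalIdeal R) R) (s : R)
    (h : AdicCompletion.evalₐ (maximalIdeal R) 1 r = Ideal.Quotient.mk _ s) (z : L) :
    r • z = s • z := by
  have h1 : r - algebraMap R _ s ∈ maximalIdeal (AdicCompletion (maximalIdeal R) R) := by
    apply mem_maximalIdeal_of_evalₐ_one
    rw [map_sub, h, AlgHom.commutes, Ideal.Quotient.algebraMap_eq, sub_self]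
  have h2 := maximalIdeal_hat_smul h1 z
  rw [sub_smul, algebraMap_smul, sub_eq_zero] at h2
  exact h2

theorem isExtension_hat : Exal.IsExtension (prHat Y) (inclHat Y) where
  proj_surjective := prHat_surjective Y
  incl_injective := fun z z' h => by
    rw [inclHat_apply, inclHat_apply] at h
    exact Y.isExtension.incl_injective (AdicCompletion.of_injective _ _ h)
  exact := fun x => by
    constructor
    · intro hx
      obtain ⟨a, haC, ha⟩ := exists_rep (maximalIdeal Y.E) x
      obtain ⟨N, hN⟩ := exists_pow_inter_eq_bot Y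
      have hpa : ∀ n, Y.proj (a n) ∈ maximalIdeal R ^ n := by
        intro n
        have := evalₐ_prHat Y n x
        rw [hx, map_zero, ha, qm_mk] at this
        exact Ideal.Quotient.eq_zero_iff_mem.1 this.symm
      have hdec : ∀ n, ∃ g ∈ maximalIdeal Y.E ^ n, ∃ z : L, a n = g + Y.incl z := by
        intro n
        obtain ⟨g, hg, hgp⟩ := exists_mem_pow_proj_eq Y n (hpa n)
        obtain ⟨z, hz⟩ := exists_incl_of_proj_eq_zero Y
          (show Y.proj (a n - g) = 0 by rw [map_sub, hgp, sub_self])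
        exact ⟨g, hg, z, by rw [hz]; ring⟩
      choose g hg z hz using hdec
      refine ⟨z N, ?_⟩
      rw [inclHat_apply]
      refine AdicCompletion.ext_evalₐ fun n => ?_
      rw [AdicCompletion.evalₐ_of, ha, eq_comm, Ideal.Quotient.eq]
      rcases le_total N n with hNn | hnN
      · have h1 : Y.incl (z n - z N) ∈ maximalIdeal Y.E ^ N := by
          have e1 : Y.incl (z n - z N) = (a n - a N) - g n + g N := by
            rw [map_sub, hz n, hz N]; ring
          rw [e1]
          refine add_mem (sub_mem ?_ (Ideal.pow_le_pow_right hNn (hg n))) (hg N)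
          rw [← neg_sub]
          exact neg_mem (haC N n hNn)
        have h2 : z n = z N := sub_eq_zero.1 (hN _ h1)
        have e2 : a n - Y.incl (z N) = g n := by rw [hz n, h2]; ring
        rw [e2]
        exact hg n
      · have e2 : a n - Y.incl (z N) = (a n - a N) + g N := by rw [hz N]; ring
        rw [e2]
        exact add_mem (haC n N hnN) (Ideal.pow_le_pow_right hnN (hg N))
    · rintro ⟨z, rfl⟩
      rw [inclHat_apply, prHat_of, proj_incl, map_zero]
  mul_incl := fun x z => by
    obtain ⟨a, haC, ha⟩ := exists_rep (maximalIdeal Y.E) x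
    have hB : prHat Y x • z = Y.proj (a 1) • z := by
      apply hat_smul_eq
      rw [evalₐ_prHat, ha, qm_mk]
    rw [hB, inclHat_apply, inclHat_apply]
    refine AdicCompletion.ext_evalₐ fun n => ?_
    rw [map_mul, ha, AdicCompletion.evalₐ_of, AdicCompletion.evalₐ_of, ← map_mul,
      Y.isExtension.mul_incl]
    rcases Nat.eq_zero_or_pos n with rfl | hn
    · rw [Ideal.Quotient.eq, pow_zero, Ideal.one_eq_top]
      trivial
    · have h1 : Y.proj (a n) - Y.proj (a 1) ∈ maximalIdeal R := by
        rw [← map_sub, ← pow_one (maximalIdeal R)]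
        apply proj_mem_pow Y 1
        rw [← neg_sub]
        exact neg_mem (haC 1 n hn)
      have h2 := maximalIdeal_smul h1 z
      rw [sub_smul, sub_eq_zero] at h2
      rw [h2]

theorem exists_hat_lift (X' : Exal.Ext A (AdicCompletion (maximalIdeal R) R) L)
    (g : Y.E →ₐ[A] X'.E)
    (hp : ∀ f, X'.proj (g f) = algebraMap R (AdicCompletion (maximalIdeal R) R) (Y.proj f)) :
    ∃ θ : AdicCompletion (maximalIdeal Y.E) Y.E →ₐ[A] X'.E,
      (∀ x, X'.proj (θ x) = prHat Y x) ∧
      ∀ f, θ (AdicCompletion.of (maximalIdeal Y.E) Y.E f) = g f := by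
  haveI : IsNoetherianRing (AdicCompletion (maximalIdeal R) R) :=
    Groth.Agent.S0543.result R (maximalIdeal R)
  haveI : Module.Finite (AdicCompletion (maximalIdeal R) R) L :=
    Module.Finite.of_restrictScalars_finite R _ L
  obtain ⟨𝔫, h𝔫⟩ : ∃ 𝔫 : Ideal X'.E, 𝔫 = (maximalIdeal (AdicCompletion (maximalIdeal R) R)).comap
      X'.proj.toRingHom := ⟨_, rfl⟩
  haveI hc : IsAdicComplete 𝔫 X'.E := by
    rw [h𝔫]
    exact Groth.Agent.Helper8.SqZeroAdic.s16981 X'.proj.toRingHom
      X'.isExtension.proj_surjective (ker_sq X') (ker_fg X')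
  have h1 : maximalIdeal Y.E ≤ 𝔫.comap g := by
    intro f hf
    rw [Ideal.mem_comap, h𝔫, Ideal.mem_comap]
    change X'.proj (g f) ∈ _
    rw [hp, AdicCompletion.maximalIdeal_eq_map]
    exact Ideal.mem_map_of_mem _ ((mem_maximalIdeal_iff Y f).1 hf)
  have hg𝔪 : ∀ n, maximalIdeal Y.E ^ n ≤ (𝔫 ^ n).comap g := fun n =>
    (Ideal.pow_right_mono h1 n).trans (Ideal.le_comap_pow _ n)
  let gq : ∀ n, (Y.E ⧸ maximalIdeal Y.E ^ n) →ₐ[A] (X'.E ⧸ 𝔫 ^ n) := fun n =>
    Ideal.quotientMapₐ (𝔫 ^ n) g (hg𝔪 n)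
  have hgq : ∀ n f, gq n (Ideal.Quotient.mk _ f) = Ideal.Quotient.mk _ (g f) := fun n f => rfl
  have hcompat : ∀ {m n : ℕ} (hle : m ≤ n),
      (Ideal.Quotient.factorₐ A (Ideal.pow_le_pow_right hle)).comp ((gq n).comp (ev Y n)) =
        (gq m).comp (ev Y m) := by
    intro m n hle
    ext x
    obtain ⟨a, haC, ha⟩ := exists_rep (maximalIdeal Y.E) x
    simp only [AlgHom.comp_apply, ev_apply, ha, hgq]
    rw [Ideal.Quotient.factorₐ_apply, Ideal.Quotient.factor_mk, Ideal.Quotient.eq, ← map_sub]
    apply hg𝔪 m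
    rw [← neg_sub]
    exact neg_mem (haC m n hle)
  let θ : AdicCompletion (maximalIdeal Y.E) Y.E →ₐ[A] X'.E :=
    IsAdicComplete.liftAlgHom 𝔫 (fun n => (gq n).comp (ev Y n)) (fun hle => hcompat hle)
  have hθ : ∀ n x, Ideal.Quotient.mk (𝔫 ^ n) (θ x) =
      gq n (AdicCompletion.evalₐ (maximalIdeal Y.E) n x) := fun n x =>
    IsAdicComplete.mk_liftAlgHom 𝔫 _ _ n x
  have hproj𝔫 : ∀ n, ∀ e ∈ 𝔫 ^ n, X'.proj e ∈
      maximalIdeal (AdicCompletion (maximalIdeal R) R) ^ n := by
    intro n e he
    have h2 : X'.proj e ∈ (𝔫 ^ n).map X'.proj.toRingHom := Ideal.mem_map_of_mem _ he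
    rw [Ideal.map_pow, h𝔫] at h2
    exact Ideal.pow_right_mono Ideal.map_comap_le n h2
  refine ⟨θ, fun x => ?_, fun f => ?_⟩
  · obtain ⟨a, haC, ha⟩ := exists_rep (maximalIdeal Y.E) x
    refine AdicCompletion.ext_evalₐ fun n => ?_
    have h3 : θ x - g (a n) ∈ 𝔫 ^ n := by
      rw [← Ideal.Quotient.eq, hθ, ha, hgq]
    have h4 := evalₐ_eq_zero_of_mem_pow n (hproj𝔫 n _ h3)
    rw [map_sub, map_sub, sub_eq_zero] at h4
    rw [h4, evalₐ_prHat, ha, qm_mk, hp, AlgHom.commutes, Ideal.Quotient.algebraMap_eq]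
  · rw [← sub_eq_zero]
    apply IsHausdorff.haus' (I := 𝔫)
    intro n
    rw [SModEq.zero, smul_eq_mul, Ideal.mul_top, ← Ideal.Quotient.eq, hθ,
      AdicCompletion.evalₐ_of, hgq]

/-- the completion of an extension, with its two characteristic properties -/
theorem exists_completion :
    ∃ X : Exal.Ext A (AdicCompletion (maximalIdeal R) R) L,
      Nonempty ((X.pullback R).Equiv Y) ∧
      ∀ (X' : Exal.Ext A (AdicCompletion (maximalIdeal R) R) L) (g : Y.E →ₐ[A] X'.E),
        (∀ f, X'.proj (g f) = algebraMap R (AdicCompletion (maximalIdeal R) R) (Y.proj f)) →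
        (∀ z, g (Y.incl z) = X'.incl z) → Nonempty (X.Equiv X') := by
  refine ⟨{ E := AdicCompletion (maximalIdeal Y.E) Y.E
            proj := prHat Y
            incl := inclHat Y
            isExtension := isExtension_hat Y }, ?_, ?_⟩
  · refine nonempty_pullback_equiv R _ Y (cHat Y) (fun f => ?_) (fun z => rfl)
    change prHat Y (cHat Y f) = _
    rw [cHat_apply, prHat_of]
    rfl
  · intro X' g hp hi
    obtain ⟨θ, hθp, hθo⟩ := exists_hat_lift Y X' g hp
    refine nonempty_equiv_of_algHom _ X' θ hθp (fun z => ?_)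
    change θ (inclHat Y z) = _
    rw [inclHat_apply, hθo, hi]

end Main

end Groth.Agent.Helper9.ExalE
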