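import Mathlib

/-! If `Ext^*(X, -)` vanishes on the kernel and the cokernel of `f`, then composition with `f` is
bijective on `Ext^n(X, -)`. -/

set_option autoImplicit false
set_option linter.style.haveILetI false
set_option linter.unusedSectionVars false
universe w v u

open CategoryTheory CategoryTheory.Limits Abelian

namespace Groth.Agent.Helper9.ExtBij

variable {𝒜 : Type u} [Category.{v} 𝒜] [Abelian 𝒜] [HasExt.{w} 𝒜]

/-- composition with an isomorphism is bijective -/
theorem bijective_comp_iso (X : 𝒜) {F F' : 𝒜} (f : F ⟶ F') [IsIso f] (n : ℕ) :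
    Function.Bijective (fun y : Ext.{w} X F n => y.comp (Ext.mk₀ f) (add_zero n)) := by
  refine Function.bijective_iff_has_inverse.2
    ⟨fun z => z.comp (Ext.mk₀ (inv f)) (add_zero n), fun y => ?_, fun z => ?_⟩
  · show (y.comp (Ext.mk₀ f) (add_zero n)).comp (Ext.mk₀ (inv f)) (add_zero n) = y
    rw [Ext.comp_assoc_of_third_deg_zero, Ext.mk₀_comp_mk₀, IsIso.hom_inv_id, Ext.comp_mk₀_id]
  · show (z.comp (Ext.mk₀ (inv f)) (add_zero n)).comp (Ext.mk₀ f) (add_zero n) = z
    rw [Ext.comp_assoc_of_third_deg_zero, Ext.mk₀_comp_mk₀, IsIso.inv_hom_id, Ext.comp_mk₀_id]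

/-- precomposition with an isomorphism is bijective -/
theorem bijective_iso_comp {X X' : 𝒜} (g : X' ⟶ X) [IsIso g] (F : 𝒜) (n : ℕ) :
    Function.Bijective (fun y : Ext.{w} X F n => (Ext.mk₀ g).comp y (zero_add n)) := by
  refine Function.bijective_iff_has_inverse.2
    ⟨fun z => (Ext.mk₀ (inv g)).comp z (zero_add n), fun y => ?_, fun z => ?_⟩
  · show (Ext.mk₀ (inv g)).comp ((Ext.mk₀ g).comp y (zero_add n)) (zero_add n) = y
    rw [← Ext.comp_assoc_of_second_deg_zero, Ext.mk₀_comp_mk₀, IsIso.inv_hom_id, Ext.mk₀_id_comp]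
  · show (Ext.mk₀ g).comp ((Ext.mk₀ (inv g)).comp z (zero_add n)) (zero_add n) = z
    rw [← Ext.comp_assoc_of_second_deg_zero, Ext.mk₀_comp_mk₀, IsIso.hom_inv_id, Ext.mk₀_id_comp]

/-- for a short exact sequence with acyclic kernel, composition with the epimorphism is bijective -/
theorem bijective_comp_g (X : 𝒜) {S : ShortComplex 𝒜} (hS : S.ShortExact)
    (hK : ∀ (n : ℕ) (y : Ext.{w} X S.X₁ n), y = 0) (n : ℕ) :
    Function.Bijective (fun y : Ext.{w} X S.X₂ n => y.comp (Ext.mk₀ S.g) (add_zero n)) := by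
  constructor
  · intro y y' h
    have h0 : (y - y').comp (Ext.mk₀ S.g) (add_zero n) = 0 := by
      show (Ext.mk₀ S.g).postcomp X (add_zero n) (y - y') = 0
      rw [map_sub]
      exact sub_eq_zero.2 h
    obtain ⟨x, hx⟩ := Ext.covariant_sequence_exact₂ X hS (y - y') h0
    rw [hK n x, Ext.zero_comp] at hx
    exact sub_eq_zero.1 hx.symm
  · intro z
    exact Ext.covariant_sequence_exact₃ X hS z rfl (hK _ _)

/-- for a short exact sequence with acyclic cokernel, composition with the monomorphism is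
bijective -/
theorem bijective_comp_f (X : 𝒜) {S : ShortComplex 𝒜} (hS : S.ShortExact)
    (hC : ∀ (n : ℕ) (y : Ext.{w} X S.X₃ n), y = 0) (n : ℕ) :
    Function.Bijective (fun y : Ext.{w} X S.X₁ n => y.comp (Ext.mk₀ S.f) (add_zero n)) := by
  constructor
  · intro y y' h
    have h0 : (y - y').comp (Ext.mk₀ S.f) (add_zero n) = 0 := by
      show (Ext.mk₀ S.f).postcomp X (add_zero n) (y - y') = 0
      rw [map_sub]
      exact sub_eq_zero.2 h
    apply sub_eq_zero.1
    cases n with
    | zero =>
      haveI := hS.mono_f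
      apply Ext.postcomp_mk₀_injective_of_mono X S.f
      rw [map_zero]
      exact h0
    | succ m =>
      obtain ⟨x, hx⟩ := Ext.covariant_sequence_exact₁ X hS (y - y') h0 rfl
      rw [hC m x, Ext.zero_comp] at hx
      exact hx.symm
  · intro z
    exact Ext.covariant_sequence_exact₂ X hS z (hC _ _)

/-- if `Ext^*(X, -)` vanishes on kernel and cokernel of `f`, then `f` induces bijections on
`Ext^n(X, -)` -/
theorem bijective_comp (X : 𝒜) {F F' : 𝒜} (f : F ⟶ F')
    (hK : ∀ (n : ℕ) (y : Ext.{w} X (kernel f) n), y = 0)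
    (hC : ∀ (n : ℕ) (y : Ext.{w} X (cokernel f) n), y = 0) (n : ℕ) :
    Function.Bijective (fun y : Ext.{w} X F n => y.comp (Ext.mk₀ f) (add_zero n)) := by
  have hS1 : (ShortComplex.mk (kernel.ι f) (cokernel.π (kernel.ι f))
      (cokernel.condition _)).ShortExact := { exact := ShortComplex.exact_cokernel _ }
  have hS2 : (ShortComplex.mk (kernel.ι (cokernel.π f)) (cokernel.π f)
      (kernel.condition _)).ShortExact := { exact := ShortComplex.exact_kernel _ }
  have b1 := bijective_comp_g X hS1 hK n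
  have b2 := bijective_comp_f X hS2 hC n
  have b3 := bijective_comp_iso X (Abelian.coimageImageComparison f) n
  have hfac := Abelian.coimage_image_factorisation f
  have : (fun y : Ext.{w} X F n => y.comp (Ext.mk₀ f) (add_zero n)) =
      (fun y => y.comp (Ext.mk₀ (kernel.ι (cokernel.π f))) (add_zero n)) ∘
      (fun y => y.comp (Ext.mk₀ (Abelian.coimageImageComparison f)) (add_zero n)) ∘
      (fun y => y.comp (Ext.mk₀ (cokernel.π (kernel.ι f))) (add_zero n)) := by
    funext y
    show _ = ((y.comp (Ext.mk₀ (cokernel.π (kernel.ι f))) (add_zero n)).comp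
      (Ext.mk₀ (Abelian.coimageImageComparison f)) (add_zero n)).comp
      (Ext.mk₀ (kernel.ι (cokernel.π f))) (add_zero n)
    rw [Ext.comp_assoc_of_third_deg_zero, Ext.mk₀_comp_mk₀, Ext.comp_assoc_of_third_deg_zero,
      Ext.mk₀_comp_mk₀]
    congr 2
    exact hfac.symm
  rw [this]
  exact b2.comp (b3.comp b1)

end Groth.Agent.Helper9.ExtBij
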