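import Mathlib
import Groth.Prelude.Def_AlgGrp
import Groth.Prelude.Def_QuotSh
import Groth.Agent.Helper9.RepEpi
import Groth.Agent.Helper9.QuotFlat
import Groth.Agent.Helper2.LfpComp

set_option autoImplicit false
set_option linter.unusedSectionVars false

namespace Groth.Agent.Helper9.KerSq

open CategoryTheory CategoryTheory.Limits MonoidalCategory CartesianMonoidalCategory MonObj GrpObj
  AlgebraicGeometry
open Groth.Agent.Helper9.DescTools Groth.Agent.Helper9.LocDesc

universe u

variable {S : Scheme.{u}} {G H N : Over S} [GrpObj G] [GrpObj H] (f : G ⟶ H) [IsMonHom f]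
  (i : N ⟶ G) (hker : AlgGrp.IsKernel i f)

include hker in
theorem i_f {T : Over S} (n : T ⟶ N) : (n ≫ i) ≫ f = 1 := by
  rw [Category.assoc, hker.w, ← Category.assoc, toUnit_unique (n ≫ toUnit N) (toUnit T)]
  rfl

include hker in
/-- the kernel pair of a homomorphism is `G × N` -/
theorem kerPair : IsPullback (fst G N) ((G ◁ i) ≫ μ[G]) f f := by
  have hc : ∀ s : PullbackCone f f, (s.fst⁻¹ * s.snd) ≫ f = toUnit s.pt ≫ η[H] := by
    intro s
    rw [MonObj.mul_comp, GrpObj.inv_comp, s.condition, inv_mul_cancel]
    rfl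
  refine ⟨⟨?_⟩, ⟨PullbackCone.IsLimit.mk _
    (fun s => lift s.fst (hker.lift (s.fst⁻¹ * s.snd) (toUnit s.pt) (hc s))) ?_ ?_ ?_⟩⟩
  · apply AlgGrp.Action.hom_ext_lift₂
    intro T a n
    rw [lift_fst_assoc, Category.assoc, lift_whiskerLeft_assoc, ← Category.assoc, ← Hom.mul_def,
      MonObj.mul_comp, i_f f i hker, _root_.mul_one]
  · intro s
    rw [lift_fst]
  · intro s
    rw [lift_whiskerLeft_assoc, ← Hom.mul_def, hker.lift_fst, mul_inv_cancel_left]
  · intro s m hm1 hm2
    have e : m = lift (m ≫ fst G N) (m ≫ snd G N) := by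
      rw [← comp_lift, lift_fst_snd, Category.comp_id]
    rw [e, hm1]
    congr 1
    apply hker.hom_ext
    · rw [hker.lift_fst]
      rw [e, lift_whiskerLeft_assoc, ← Hom.mul_def, hm1] at hm2
      rw [← hm2, inv_mul_cancel_left]
    · exact toUnit_unique _ _

set_option backward.isDefEq.respectTransparency false in
include hker in
theorem flat_of_flat_ker (hloc : Loc Scheme.fpqcPrecoverage f) (h : Flat N.hom) :
    Flat f.left := by
  have h1 : Flat (fst G N).left := inferInstanceAs (Flat (pullback.fst G.hom N.hom))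
  exact desc_of_loc @Flat f hloc (left_isPullback (kerPair f i hker)).flip h1

include hker in
theorem flat_ker_of_flat (h : Flat f.left) : Flat N.hom := by
  have h2 : Flat (toUnit N).left :=
    MorphismProperty.of_isPullback (left_isPullback hker) h
  exact h2

include hker in
/-- a property of `N ⟶ S` stable under base change, Zariski local on the target and descending along
fpqc morphisms passes to a homomorphism with kernel `N` having sections fpqc-locally -/
theorem prop_of_ker (P : MorphismProperty Scheme.{u}) [IsZariskiLocalAtTarget P]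
    [P.DescendsAlong (@Surjective ⊓ @Flat ⊓ @QuasiCompact)] [P.IsStableUnderBaseChange]
    (hloc : Loc Scheme.fpqcPrecoverage f) (h : P N.hom) : P f.left := by
  have h1 : P (fst G N).left := by
    change P (pullback.fst G.hom N.hom)
    exact P.pullback_fst _ _ h
  exact desc_of_loc P f hloc (left_isPullback (kerPair f i hker)).flip h1

theorem loc_of_epi (he : Epi (QuotSh.repMap Scheme.fppfPrecoverage f)) :
    Loc Scheme.fpqcPrecoverage f := by
  obtain ⟨R, hR, hlift⟩ := (RepEpi.epi_repMap_iff Scheme.fppfPrecoverage f).mp he H (𝟙 H)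
  refine ⟨R, Scheme.fppfPrecoverage_le_fpqcPrecoverage _ hR, fun U t ht => ?_⟩
  obtain ⟨v, hv⟩ := hlift t ht
  refine ⟨v, ?_⟩
  change v ≫ f.left = t
  rw [hv]
  exact Category.comp_id _

theorem epi_of_fppf [Flat f.left] [Surjective f.left] [LocallyOfFinitePresentation f.left] :
    Epi (QuotSh.repMap Scheme.fppfPrecoverage f) := by
  rw [RepEpi.epi_repMap_iff]
  intro T w
  refine ⟨Presieve.singleton (pullback.fst w.left f.left),
    Scheme.Hom.singleton_mem_fppfPrecoverage _, ?_⟩
  rintro U t ⟨⟩
  exact ⟨pullback.snd w.left f.left, pullback.condition.symm⟩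

end Groth.Agent.Helper9.KerSq
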