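import Mathlib
import Groth.Prelude.Def_AlgGrp
import Groth.Prelude.Def_ChGrp
import Groth.Agent.Helper9.LocFactor
import Groth.Agent.Helper9.LocDesc
import Groth.Agent.Helper9.KerSq

set_option autoImplicit false
set_option linter.unusedSectionVars false

namespace Groth.Agent.Helper9.ExtClosed

open CategoryTheory CategoryTheory.Limits MonoidalCategory CartesianMonoidalCategory MonObj
  AlgebraicGeometry
open Groth.Agent.Helper9.DescTools Groth.Agent.Helper9.ExactH1 Groth.Agent.Helper9.LocDesc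

universe u

variable {S : Scheme.{u}}
  {H₁' H₁ H₁'' H₂' H₂ H₂'' : Over S} [GrpObj H₁'] [GrpObj H₁] [GrpObj H₁''] [GrpObj H₂']
  [GrpObj H₂] [GrpObj H₂'']
  (a₁ : H₁' ⟶ H₁) (b₁ : H₁ ⟶ H₁'') (a₂ : H₂' ⟶ H₂) (b₂ : H₂ ⟶ H₂'')
  [IsMonHom a₁] [IsMonHom b₁] [IsMonHom a₂] [IsMonHom b₂]
  (h₁ : AlgGrp.IsKernel a₁ b₁) (h₂ : AlgGrp.IsKernel a₂ b₂)
  (hloc : Loc Scheme.fpqcPrecoverage b₁)
  (j' : H₁' ⟶ H₂') (j : H₁ ⟶ H₂) (j'' : H₁'' ⟶ H₂'') [IsMonHom j'] [IsMonHom j] [IsMonHom j'']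
  (sq₁ : a₁ ≫ j = j' ≫ a₂) (sq₂ : b₁ ≫ j'' = j ≫ b₂)

include h₁ in
theorem mono_a₁ : Mono a₁ := by
  refine ⟨fun {T} x y hxy => ?_⟩
  exact h₁.hom_ext hxy (toUnit_unique _ _)

include h₁ in
theorem ker_pt₁ {T : Over S} (g : T ⟶ H₁) (hg : g ≫ b₁ = 1) : ∃ m : T ⟶ H₁', m ≫ a₁ = g := by
  refine ⟨h₁.lift g (toUnit T) ?_, h₁.lift_fst _ _ _⟩
  rw [hg, Hom.one_def]

include h₁ in
theorem a₁_b₁ {T : Over S} (m : T ⟶ H₁') : (m ≫ a₁) ≫ b₁ = 1 := by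
  rw [Category.assoc, h₁.w, ← Category.assoc, toUnit_unique (m ≫ toUnit H₁') (toUnit T),
    Hom.one_def]

section Main

variable {Hh : Over S} (pH : Hh ⟶ H₂) (pr : Hh ⟶ H₁'') (sqH : IsPullback pH pr b₂ j'')

/-- the map `H₁ ⟶ H₂ ×_{H₂''} H₁''` -/
noncomputable def j₁ : H₁ ⟶ Hh := sqH.lift j b₁ sq₂.symm

include h₂ sq₂ in
theorem c_w : ((a₂ ⊗ₘ j) ≫ μ[H₂]) ≫ b₂ = (snd H₂' H₁ ≫ b₁) ≫ j'' := by
  apply AlgGrp.Action.hom_ext_lift₂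
  intro T n g
  rw [← Category.assoc, ← Category.assoc, lift_map, ← Hom.mul_def, MonObj.mul_comp,
    a₁_b₁ a₂ b₂ h₂, _root_.one_mul, ← Category.assoc, lift_snd_assoc, Category.assoc,
    Category.assoc, sq₂]

/-- the cover `H₂' × H₁ ⟶ H₂ ×_{H₂''} H₁''` -/
noncomputable def c : H₂' ⊗ H₁ ⟶ Hh :=
  sqH.lift ((a₂ ⊗ₘ j) ≫ μ[H₂]) (snd H₂' H₁ ≫ b₁) (c_w b₁ a₂ b₂ h₂ j j'' sq₂)

theorem c_pt_fst {T : Over S} (n : T ⟶ H₂') (g : T ⟶ H₁) :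
    (lift n g ≫ c b₁ a₂ b₂ h₂ j j'' sq₂ pH pr sqH) ≫ pH = (n ≫ a₂) * (g ≫ j) := by
  rw [Category.assoc, c, sqH.lift_fst, ← Category.assoc, lift_map, ← Hom.mul_def]

theorem c_pt_snd {T : Over S} (n : T ⟶ H₂') (g : T ⟶ H₁) :
    (lift n g ≫ c b₁ a₂ b₂ h₂ j j'' sq₂ pH pr sqH) ≫ pr = g ≫ b₁ := by
  rw [Category.assoc, c, sqH.lift_snd, lift_snd_assoc]

include hloc in
theorem loc_c : Loc Scheme.fpqcPrecoverage (c b₁ a₂ b₂ h₂ j j'' sq₂ pH pr sqH) := by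
  obtain ⟨X, p₁, p₂, sqX⟩ : ∃ (X : Over S) (p₁ : X ⟶ Hh) (p₂ : X ⟶ H₁), IsPullback p₁ p₂ pr b₁ :=
    ⟨_, _, _, IsPullback.of_hasPullback _ _⟩
  have hp₁ : Loc Scheme.fpqcPrecoverage p₁ := pullback_loc _ sqX hloc
  have e1 : ((p₁ ≫ pH) * (p₂ ≫ j)⁻¹) ≫ b₂ = 1 := by
    rw [MonObj.mul_comp, GrpObj.inv_comp, Category.assoc, sqH.w, Category.assoc, ← sq₂,
      ← Category.assoc, sqX.w, ← Category.assoc, Category.assoc p₂, mul_inv_cancel]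
  obtain ⟨n, hn⟩ := ker_pt₁ a₂ b₂ h₂ _ e1
  have e2 : lift n p₂ ≫ c b₁ a₂ b₂ h₂ j j'' sq₂ pH pr sqH = p₁ := by
    apply sqH.hom_ext
    · rw [c_pt_fst, hn, inv_mul_cancel_right]
    · rw [c_pt_snd, sqX.w]
  apply LocFactor.loc_of_comp _ (lift n p₂)
  rw [e2]
  exact hp₁

theorem aa_pt {T : Over S} (m : T ⟶ H₁') (g : T ⟶ H₁) :
    lift m g ≫ (a₁ ▷ H₁) ≫ μ[H₁] = (m ≫ a₁) * g := by
  rw [lift_whiskerRight_assoc, ← Hom.mul_def]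

include h₁ sq₁ in
theorem main_w : ((a₁ ▷ H₁) ≫ μ[H₁]) ≫ j₁ b₁ b₂ j j'' sq₂ pH pr sqH =
    (j' ▷ H₁) ≫ c b₁ a₂ b₂ h₂ j j'' sq₂ pH pr sqH := by
  apply AlgGrp.Action.hom_ext_lift₂
  intro T m g
  apply sqH.hom_ext
  · have e1 : (lift m g ≫ ((a₁ ▷ H₁) ≫ μ[H₁]) ≫ j₁ b₁ b₂ j j'' sq₂ pH pr sqH) ≫ pH =
        ((m ≫ a₁) * g) ≫ j := by
      rw [← aa_pt]
      simp only [Category.assoc, j₁, sqH.lift_fst]
    have e2 : (lift m g ≫ (j' ▷ H₁) ≫ c b₁ a₂ b₂ h₂ j j'' sq₂ pH pr sqH) ≫ pH =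
        ((m ≫ j') ≫ a₂) * (g ≫ j) := by
      rw [← Category.assoc, lift_whiskerRight, c_pt_fst]
    rw [e1, e2, MonObj.mul_comp, Category.assoc, sq₁, Category.assoc]
  · have e1 : (lift m g ≫ ((a₁ ▷ H₁) ≫ μ[H₁]) ≫ j₁ b₁ b₂ j j'' sq₂ pH pr sqH) ≫ pr =
        ((m ≫ a₁) * g) ≫ b₁ := by
      rw [← aa_pt]
      simp only [Category.assoc, j₁, sqH.lift_snd]
    have e2 : (lift m g ≫ (j' ▷ H₁) ≫ c b₁ a₂ b₂ h₂ j j'' sq₂ pH pr sqH) ≫ pr = g ≫ b₁ := by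
      rw [← Category.assoc, lift_whiskerRight, c_pt_snd]
    rw [e1, e2, MonObj.mul_comp, a₁_b₁ a₁ b₁ h₁, _root_.one_mul]

include h₁ sq₁ in
theorem main_ex (s : PullbackCone (j₁ b₁ b₂ j j'' sq₂ pH pr sqH)
    (c b₁ a₂ b₂ h₂ j j'' sq₂ pH pr sqH)) :
    ∃ m : s.pt ⟶ H₁', m ≫ a₁ = s.fst * (s.snd ≫ snd H₂' H₁)⁻¹ ∧ m ≫ j' = s.snd ≫ fst H₂' H₁ := by
  haveI := mono_a₁ a₂ b₂ h₂
  have hc := s.condition
  have e0 : s.snd = lift (s.snd ≫ fst H₂' H₁) (s.snd ≫ snd H₂' H₁) := by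
    rw [← comp_lift, lift_fst_snd, Category.comp_id]
  have c1 : s.fst ≫ j = ((s.snd ≫ fst H₂' H₁) ≫ a₂) * ((s.snd ≫ snd H₂' H₁) ≫ j) := by
    have := congrArg (fun k => k ≫ pH) hc
    simp only [Category.assoc, j₁, sqH.lift_fst] at this
    rw [this, e0, ← Category.assoc, c_pt_fst, ← e0]
  have c2 : s.fst ≫ b₁ = (s.snd ≫ snd H₂' H₁) ≫ b₁ := by
    have := congrArg (fun k => k ≫ pr) hc
    simp only [Category.assoc, j₁, sqH.lift_snd] at this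
    rw [this, e0, ← Category.assoc, c_pt_snd, ← e0]
  have c3 : (s.fst * (s.snd ≫ snd H₂' H₁)⁻¹) ≫ b₁ = 1 := by
    rw [MonObj.mul_comp, GrpObj.inv_comp, c2, mul_inv_cancel]
  obtain ⟨m, hm⟩ := ker_pt₁ a₁ b₁ h₁ _ c3
  refine ⟨m, hm, ?_⟩
  rw [← cancel_mono a₂, Category.assoc, ← sq₁, ← Category.assoc, hm, MonObj.mul_comp,
    GrpObj.inv_comp, c1, mul_inv_cancel_right]

include h₁ sq₁ in
theorem main_sq : IsPullback ((a₁ ▷ H₁) ≫ μ[H₁]) (j' ▷ H₁) (j₁ b₁ b₂ j j'' sq₂ pH pr sqH)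
    (c b₁ a₂ b₂ h₂ j j'' sq₂ pH pr sqH) := by
  haveI := mono_a₁ a₁ b₁ h₁
  refine ⟨⟨main_w a₁ b₁ a₂ b₂ h₁ h₂ j' j j'' sq₁ sq₂ pH pr sqH⟩, ⟨PullbackCone.IsLimit.mk _
    (fun s => lift (main_ex a₁ b₁ a₂ b₂ h₁ h₂ j' j j'' sq₁ sq₂ pH pr sqH s).choose
      (s.snd ≫ snd H₂' H₁)) ?_ ?_ ?_⟩⟩
  · intro s
    rw [aa_pt, (main_ex a₁ b₁ a₂ b₂ h₁ h₂ j' j j'' sq₁ sq₂ pH pr sqH s).choose_spec.1,
      inv_mul_cancel_right]
  · intro s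
    rw [lift_whiskerRight, (main_ex a₁ b₁ a₂ b₂ h₁ h₂ j' j j'' sq₁ sq₂ pH pr sqH s).choose_spec.2,
      ← comp_lift, lift_fst_snd, Category.comp_id]
  · intro s l hl1 hl2
    have e0 : l = lift (l ≫ fst H₁' H₁) (l ≫ snd H₁' H₁) := by
      rw [← comp_lift, lift_fst_snd, Category.comp_id]
    have e1 : l ≫ snd H₁' H₁ = s.snd ≫ snd H₂' H₁ := by
      rw [← hl2, Category.assoc, whiskerRight_snd]
    rw [e0, e1]
    congr 1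
    rw [← cancel_mono a₁, (main_ex a₁ b₁ a₂ b₂ h₁ h₂ j' j j'' sq₁ sq₂ pH pr sqH s).choose_spec.1,
      ← hl1, e0, aa_pt, e1, lift_fst, mul_inv_cancel_right]

end Main

set_option backward.isDefEq.respectTransparency false in
include h₁ h₂ hloc sq₁ sq₂ in
/-- in a morphism of short exact sequences with outer maps closed immersions, the middle map is a
closed immersion -/
theorem closedImmersion_mid (hj' : IsClosedImmersion j'.left) (hj'' : IsClosedImmersion j''.left) :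
    IsClosedImmersion j.left := by
  obtain ⟨Hh, pH, pr, sqH⟩ : ∃ (Hh : Over S) (pH : Hh ⟶ H₂) (pr : Hh ⟶ H₁''),
      IsPullback pH pr b₂ j'' := ⟨_, _, _, IsPullback.of_hasPullback _ _⟩
  have hpH : IsClosedImmersion pH.left :=
    MorphismProperty.of_isPullback (P := @IsClosedImmersion) (left_isPullback sqH).flip hj''
  have hw : IsClosedImmersion (j' ▷ H₁).left :=
    MorphismProperty.of_isPullback (P := @IsClosedImmersion)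
      (left_isPullback (isPullback_whiskerRight j' H₁)).flip hj'
  have hj₁ : IsClosedImmersion (j₁ b₁ b₂ j j'' sq₂ pH pr sqH).left :=
    desc_of_loc @IsClosedImmersion (c b₁ a₂ b₂ h₂ j j'' sq₂ pH pr sqH)
      (loc_c b₁ a₂ b₂ h₂ hloc j j'' sq₂ pH pr sqH)
      (left_isPullback (main_sq a₁ b₁ a₂ b₂ h₁ h₂ j' j j'' sq₁ sq₂ pH pr sqH)) hw
  have e : j = j₁ b₁ b₂ j j'' sq₂ pH pr sqH ≫ pH := (sqH.lift_fst _ _ _).symm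
  rw [e, Over.comp_left]
  infer_instance

end Groth.Agent.Helper9.ExtClosed
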