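import Mathlib
import Groth.Agent.Helper9.ExtNat

/-! Positive-degree `Ext` classes are killed by pulling back along a suitable epimorphism. -/

set_option autoImplicit false
set_option linter.style.haveILetI false
universe w v u

namespace Groth.Agent.Helper9.ExtEfface

open CategoryTheory CategoryTheory.Limits Abelian Groth.Agent.Helper9.ExtNat

variable {𝒞 : Type u} [Category.{v} 𝒞] [Abelian 𝒞] [HasExt.{w} 𝒞] [EnoughInjectives 𝒞]

theorem exists_epi_comp_eq_zero : ∀ (n : ℕ) {A F : 𝒞} (y : Ext.{w} A F (n + 1)),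
    ∃ (A' : 𝒞) (p : A' ⟶ A), Epi p ∧ (Ext.mk₀ p).comp y (zero_add (n + 1)) = 0
  | 0, A, F, y => by
    obtain ⟨z, rfl⟩ := exists_comp_extClass y
    obtain ⟨g, rfl⟩ := (Ext.mk₀_bijective _ _).2 z
    have hS := sc_shortExact F
    haveI : Epi (sc F).g := hS.epi_g
    refine ⟨pullback g (sc F).g, pullback.fst g (sc F).g, inferInstance, ?_⟩
    rw [← Ext.comp_assoc_of_second_deg_zero, Ext.mk₀_comp_mk₀, pullback.condition,
      ← Ext.mk₀_comp_mk₀, Ext.comp_assoc_of_second_deg_zero, hS.comp_extClass, Ext.comp_zero]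
  | n + 1, A, F, y => by
    obtain ⟨z, rfl⟩ := exists_comp_extClass y
    obtain ⟨A', p, hp, h⟩ := exists_epi_comp_eq_zero n z
    refine ⟨A', p, hp, ?_⟩
    rw [← Ext.comp_assoc (Ext.mk₀ p) z (sc_shortExact F).extClass (zero_add (n + 1)) rfl
      (by omega), h, Ext.zero_comp]

end Groth.Agent.Helper9.ExtEfface
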