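import Mathlib

set_option autoImplicit false

namespace Groth.Agent.Helper9.ExtOne

open CategoryTheory CategoryTheory.Limits Abelian DerivedCategory Pretriangulated

universe w v u

variable {C : Type u} [Category.{v} C] [Abelian C] [HasExt.{w} C]

/-- converse of the naturality of extension classes -/
theorem exists_hom_of_extClass_eq {S₁ S₂ : ShortComplex C} (h₁ : S₁.ShortExact)
    (h₂ : S₂.ShortExact) (a : S₁.X₁ ⟶ S₂.X₁) (c : S₁.X₃ ⟶ S₂.X₃)
    (h : h₁.extClass.comp (Ext.mk₀ a) (add_zero 1) = (Ext.mk₀ c).comp h₂.extClass (zero_add 1)) :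
    ∃ b : S₁.X₂ ⟶ S₂.X₂, S₁.f ≫ b = a ≫ S₂.f ∧ S₁.g ≫ c = b ≫ S₂.g := by
  let := HasDerivedCategory.standard C
  have h' := congrArg Ext.hom h
  simp only [Ext.comp_hom, Ext.mk₀_hom, ShortComplex.ShortExact.extClass_hom,
    ShiftedHom.comp_mk₀, ShiftedHom.mk₀_comp] at h'
  obtain ⟨b', hb₁, hb₂⟩ := complete_distinguished_triangle_morphism₂ _ _
    h₁.singleTriangle_distinguished h₂.singleTriangle_distinguished
    ((singleFunctor C 0).map a) ((singleFunctor C 0).map c) h'
  obtain ⟨b, rfl⟩ := (singleFunctor C 0).map_surjective b'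
  refine ⟨b, ?_, ?_⟩
  · apply (singleFunctor C 0).map_injective
    rw [Functor.map_comp, Functor.map_comp]
    exact hb₁
  · apply (singleFunctor C 0).map_injective
    rw [Functor.map_comp, Functor.map_comp]
    exact hb₂


/-- every class in `Ext¹` is the class of an extension -/
theorem exists_extClass_eq {X Z : C} (α : Ext Z X 1) :
    ∃ (E : C) (f : X ⟶ E) (g : E ⟶ Z) (w : f ≫ g = 0)
      (hS : (ShortComplex.mk f g w).ShortExact), hS.extClass = α := by
  let := HasDerivedCategory.standard C
  obtain ⟨E', f', g', hT⟩ := distinguished_cocone_triangle₂ α.hom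
  haveI : E'.IsLE 0 := TStructure.t.isLE₂ _ hT 0
    (inferInstanceAs (((singleFunctor C 0).obj X).IsLE 0))
    (inferInstanceAs (((singleFunctor C 0).obj Z).IsLE 0))
  haveI : E'.IsGE 0 := TStructure.t.isGE₂ _ hT 0
    (inferInstanceAs (((singleFunctor C 0).obj X).IsGE 0))
    (inferInstanceAs (((singleFunctor C 0).obj Z).IsGE 0))
  obtain ⟨E, ⟨e⟩⟩ := exists_iso_singleFunctor_obj_of_isGE_of_isLE E' 0
  obtain ⟨f, hf⟩ := (singleFunctor C 0).map_surjective (f' ≫ e.hom)
  obtain ⟨g, hg⟩ := (singleFunctor C 0).map_surjective (e.inv ≫ g')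
  let T : Triangle (DerivedCategory C) :=
    Triangle.mk ((singleFunctor C 0).map f) ((singleFunctor C 0).map g) α.hom
  have hT' : T ∈ distTriang (DerivedCategory C) := by
    refine isomorphic_distinguished _ hT _ ?_
    exact Triangle.isoMk _ _ (Iso.refl _) e.symm (Iso.refl _)
      (by
        show (singleFunctor C 0).map f ≫ e.inv = 𝟙 _ ≫ f'
        rw [hf, Category.assoc, e.hom_inv_id, Category.comp_id, Category.id_comp])
      (by
        show (singleFunctor C 0).map g ≫ 𝟙 _ = e.inv ≫ g'
        rw [hg, Category.comp_id])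
      (by
        show α.hom ≫ (𝟙 _)⟦(1 : ℤ)⟧' = 𝟙 _ ≫ α.hom
        rw [CategoryTheory.Functor.map_id]
        exact (Category.comp_id _).trans (Category.id_comp _).symm)
  have w : f ≫ g = 0 := by
    apply (singleFunctor C 0).map_injective
    rw [Functor.map_comp, Functor.map_zero]
    exact comp_distTriang_mor_zero₁₂ _ hT'
  -- short exactness from the homology sequence
  have hmono : Mono ((homologyFunctor C 0).map T.mor₁) := by
    rw [HomologySequence.mono_homologyMap_mor₁_iff T hT' (-1) 0 (by lia)]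
    exact (isZero_of_isGE ((singleFunctor C 0).obj Z) 0 (-1) (by lia)).eq_of_src _ _
  have hepi : Epi ((homologyFunctor C 0).map T.mor₂) := by
    rw [HomologySequence.epi_homologyMap_mor₂_iff T hT' 0 1 (by lia)]
    exact (isZero_of_isLE ((singleFunctor C 0).obj X) 0 1 (by lia)).eq_of_tgt _ _
  have hex := HomologySequence.exact₂ T hT' 0
  let ι := singleFunctorCompHomologyFunctorIso C 0
  let S' : ShortComplex C := ShortComplex.mk ((homologyFunctor C 0).map T.mor₁)
    ((homologyFunctor C 0).map T.mor₂) (by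
      rw [← Functor.map_comp, comp_distTriang_mor_zero₁₂ _ hT', Functor.map_zero])
  have hS' : S'.ShortExact := { exact := hex, mono_f := hmono, epi_g := hepi }
  let iso : S' ≅ ShortComplex.mk f g w :=
    ShortComplex.isoMk (ι.app X) (ι.app E) (ι.app Z) (ι.hom.naturality f).symm
      (ι.hom.naturality g).symm
  have hS : (ShortComplex.mk f g w).ShortExact := ShortComplex.shortExact_of_iso iso hS'
  refine ⟨E, f, g, w, hS, ?_⟩
  apply Ext.ext
  rw [ShortComplex.ShortExact.extClass_hom]
  obtain ⟨c', hc₁, hc₂⟩ := complete_distinguished_triangle_morphism T hS.singleTriangle hT'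
    hS.singleTriangle_distinguished (𝟙 _) (𝟙 _) (by
      show (singleFunctor C 0).map f ≫ 𝟙 _ = 𝟙 _ ≫ (singleFunctor C 0).map f
      rw [Category.comp_id, Category.id_comp])
  obtain ⟨c, rfl⟩ := (singleFunctor C 0).map_surjective c'
  have hc : g ≫ c = g := by
    apply (singleFunctor C 0).map_injective
    rw [Functor.map_comp]
    have hc₁' : (singleFunctor C 0).map g ≫ (singleFunctor C 0).map c =
        𝟙 _ ≫ (singleFunctor C 0).map g := hc₁
    rw [Category.id_comp] at hc₁'
    exact hc₁'
  haveI : Epi g := hS.epi_g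
  have hc' : c = 𝟙 Z := by rw [← cancel_epi g, hc, Category.comp_id]
  subst hc'
  have hc₂' : α.hom ≫ (𝟙 ((singleFunctor C 0).obj X))⟦(1 : ℤ)⟧' =
      (singleFunctor C 0).map (𝟙 Z) ≫ hS.singleδ := hc₂
  rw [CategoryTheory.Functor.map_id, CategoryTheory.Functor.map_id] at hc₂'
  exact ((Category.id_comp _).symm.trans hc₂'.symm).trans (Category.comp_id _)

end Groth.Agent.Helper9.ExtOne
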