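import Mathlib

/-! `Ext¹(A, ∏ F_i) → ∏ Ext¹(A, F_i)` is injective in an abelian category with products and enough
injectives (S0857). -/

set_option autoImplicit false
universe w v u t

open CategoryTheory CategoryTheory.Limits Abelian

namespace Groth.Agent.Helper9.ExtOnePi

variable {𝒜 : Type u} [Category.{v} 𝒜] [Abelian 𝒜] [HasExt.{w} 𝒜] [EnoughInjectives 𝒜]
  {ι : Type t} [HasProductsOfShape ι 𝒜] (F : ι → 𝒜)

/-- the injective hulls -/
noncomputable abbrev I (i : ι) : 𝒜 := Injective.under (F i)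

/-- the quotients -/
noncomputable abbrev Q (i : ι) : 𝒜 := cokernel (Injective.ι (F i))

/-- the short exact sequences `F i → I i → Q i` -/
noncomputable abbrev Si (i : ι) : ShortComplex 𝒜 :=
  ShortComplex.mk (Injective.ι (F i)) (cokernel.π (Injective.ι (F i))) (cokernel.condition _)

lemma hSi (i : ι) : (Si F i).ShortExact :=
  { exact := ShortComplex.exact_cokernel _
    mono_f := by dsimp; infer_instance
    epi_g := by dsimp; infer_instance }

/-- the product of the monomorphisms -/
noncomputable abbrev f' : ∏ᶜ F ⟶ ∏ᶜ (I F) := Limits.Pi.map (fun i => Injective.ι (F i))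

/-- the product of the quotient maps -/
noncomputable abbrev G : ∏ᶜ (I F) ⟶ ∏ᶜ (Q F) := Limits.Pi.map (fun i => cokernel.π (Injective.ι (F i)))

lemma f'_G : f' F ≫ G F = 0 := by
  apply Pi.hom_ext
  intro i
  simp

instance : Mono (f' F) := by
  constructor
  intro Z a b hab
  apply Pi.hom_ext
  intro i
  have h := congrArg (fun t => t ≫ Pi.π _ i) hab
  simp only [Category.assoc, Limits.Pi.map_π] at h
  rw [← Category.assoc, ← Category.assoc] at h
  exact (cancel_mono _).1 h

/-- the left exact product sequence -/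
noncomputable abbrev SL : ShortComplex 𝒜 := ShortComplex.mk (f' F) (G F) (f'_G F)

lemma exact_SL : (SL F).Exact := by
  apply ShortComplex.exact_of_f_is_kernel
  refine KernelFork.IsLimit.ofι _ _
    (fun {Z} k hk => Pi.lift (fun i => (hSi F i).exact.lift (k ≫ Pi.π _ i) (by
      have h := congrArg (fun t => t ≫ Pi.π _ i) hk
      simpa using h))) ?_ ?_
  · intro Z k hk
    apply Pi.hom_ext
    intro i
    simp only [Category.assoc, Limits.Pi.map_π, Pi.lift_π_assoc]
    exact (hSi F i).exact.lift_f _ _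
  · intro Z k hk b hb
    rw [← cancel_mono (f' F)]
    rw [hb]
    apply Pi.hom_ext
    intro i
    simp only [Category.assoc, Limits.Pi.map_π, Pi.lift_π_assoc]
    exact ((hSi F i).exact.lift_f _ _).symm

/-- the short exact sequence `∏ F → ∏ I → coker` -/
noncomputable abbrev S : ShortComplex 𝒜 :=
  ShortComplex.mk (f' F) (cokernel.π (f' F)) (cokernel.condition _)

lemma hS : (S F).ShortExact :=
  { exact := ShortComplex.exact_cokernel _
    mono_f := by dsimp; infer_instance
    epi_g := by dsimp; infer_instance }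

/-- the comparison `coker → ∏ Q` -/
noncomputable abbrev m : cokernel (f' F) ⟶ ∏ᶜ (Q F) := cokernel.desc (f' F) (G F) (f'_G F)

instance : Mono (m F) := (exact_SL F).mono_cokernelDesc

/-- the morphism of short exact sequences to the `i`-th one -/
noncomputable def proj (i : ι) : S F ⟶ Si F i where
  τ₁ := Pi.π _ i
  τ₂ := Pi.π _ i
  τ₃ := m F ≫ Pi.π _ i
  comm₁₂ := by simp
  comm₂₃ := by simp

instance : Injective (∏ᶜ (I F)) := inferInstance

theorem eq_zero_of_comp_π {A : 𝒜} (x : Ext A (∏ᶜ F) 1)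
    (hx : ∀ i, x.comp (Ext.mk₀ (Pi.π F i)) (add_zero 1) = 0) : x = 0 := by
  -- `x` comes from a morphism `A ⟶ coker`
  obtain ⟨q', hq'⟩ := Ext.covariant_sequence_exact₁ A (hS F) x
    (Ext.eq_zero_of_injective _) (zero_add 1)
  obtain ⟨q, rfl⟩ := (Ext.mk₀_bijective A (cokernel (f' F))).2 q'
  -- componentwise lifts
  have hlift : ∀ i, ∃ t : A ⟶ I F i, t ≫ cokernel.π (Injective.ι (F i)) = q ≫ m F ≫ Pi.π _ i := by
    intro i
    have h1 := ShortComplex.ShortExact.extClass_naturality (hS F) (hSi F i) (proj F i)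
    have h2 : ((Ext.mk₀ (q ≫ m F ≫ Pi.π _ i)).comp (hSi F i).extClass (zero_add 1)) = 0 := by
      have h3 : Ext.mk₀ (q ≫ m F ≫ Pi.π _ i) =
          (Ext.mk₀ q).comp (Ext.mk₀ (proj F i).τ₃) (add_zero 0) := by
        rw [Ext.mk₀_comp_mk₀]
        rfl
      rw [h3, Ext.comp_assoc_of_second_deg_zero, ← h1, ← Ext.comp_assoc_of_third_deg_zero, hq']
      exact hx i
    obtain ⟨t', ht'⟩ := Ext.covariant_sequence_exact₃ A (hSi F i) _ (zero_add 1) h2
    obtain ⟨t, rfl⟩ := (Ext.mk₀_bijective A (I F i)).2 t'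
    refine ⟨t, ?_⟩
    apply (Ext.mk₀_bijective A _).1
    rw [← ht', Ext.mk₀_comp_mk₀]
  choose t ht using hlift
  have hq : q = Pi.lift t ≫ cokernel.π (f' F) := by
    rw [← cancel_mono (m F)]
    apply Pi.hom_ext
    intro i
    simp only [Category.assoc, cokernel.π_desc, Limits.Pi.map_π, Pi.lift_π_assoc]
    exact (ht i).symm
  rw [← hq', hq, ← Ext.mk₀_comp_mk₀, Ext.comp_assoc_of_second_deg_zero]
  have h4 := (hS F).comp_extClass
  rw [h4, Ext.comp_zero]

end Groth.Agent.Helper9.ExtOnePi
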