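import Mathlib
import Groth.Agent.Helper1.DeltaFunctor
import Groth.Agent.Helper1.DeltaComp

/-! `U ↦ Ext^n(G U, -)` as a δ-functor with values in presheaves, for a functor `G : C ⥤ 𝒜` into an
abelian category. -/

set_option autoImplicit false
universe w v u v₁ u₁

open CategoryTheory CategoryTheory.Limits Opposite Abelian

namespace Groth.Agent.Helper9.ExtPshDelta

open Groth.Agent.Helper1.DeltaFun Groth.Agent.Helper1

variable {𝒜 : Type u} [Category.{v} 𝒜] [Abelian 𝒜] [HasExt.{w} 𝒜]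
  {C : Type u₁} [Category.{v₁} C] (G : C ⥤ 𝒜)

/-- `F ↦ (U ↦ Ext^n(G U, F))` -/
noncomputable abbrev T (n : ℕ) : 𝒜 ⥤ (Cᵒᵖ ⥤ AddCommGrpCat.{w}) :=
  (G.op ⋙ extFunctor n).flip

/-- the connecting morphisms -/
noncomputable def δ {S : ShortComplex 𝒜} (hS : S.ShortExact) (n : ℕ) :
    (T G n).obj S.X₃ ⟶ (T G (n + 1)).obj S.X₁ where
  app U := AddCommGrpCat.ofHom (hS.extClass.postcomp (G.obj U.unop) rfl)
  naturality U V g := by
    apply AddCommGrpCat.hom_ext
    apply AddMonoidHom.ext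
    intro (x : Ext.{w} (G.obj U.unop) S.X₃ n)
    show ((Ext.mk₀ (G.map g.unop)).comp x (zero_add n)).comp hS.extClass rfl =
      (Ext.mk₀ (G.map g.unop)).comp (x.comp hS.extClass rfl) (zero_add (n + 1))
    exact Ext.comp_assoc _ _ _ (zero_add n) rfl (by omega)

lemma δ_nat {S S' : ShortComplex 𝒜} (φ : S ⟶ S') (hS : S.ShortExact)
    (hS' : S'.ShortExact) (n : ℕ) :
    δ G hS n ≫ (T G (n + 1)).map φ.τ₁ = (T G n).map φ.τ₃ ≫ δ G hS' n := by
  ext U : 2
  apply AddCommGrpCat.hom_ext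
  apply AddMonoidHom.ext
  intro (x : Ext.{w} (G.obj U.unop) S.X₃ n)
  show (x.comp hS.extClass rfl).comp (Ext.mk₀ φ.τ₁) (add_zero _) =
    (x.comp (Ext.mk₀ φ.τ₃) (add_zero _)).comp hS'.extClass rfl
  rw [Ext.comp_assoc_of_third_deg_zero, ShortComplex.ShortExact.extClass_naturality hS hS' φ,
    Ext.comp_assoc_of_second_deg_zero]

lemma w₃ (S : ShortComplex 𝒜) (hS : S.ShortExact) (n : ℕ) :
    (T G n).map S.g ≫ δ G hS n = 0 := by
  ext U : 2
  apply AddCommGrpCat.hom_ext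
  apply AddMonoidHom.ext
  intro (x : Ext.{w} (G.obj U.unop) S.X₂ n)
  show (x.comp (Ext.mk₀ S.g) (add_zero _)).comp hS.extClass rfl = 0
  rw [Ext.comp_assoc_of_second_deg_zero, ShortComplex.ShortExact.comp_extClass, Ext.comp_zero]

lemma w₁ (S : ShortComplex 𝒜) (hS : S.ShortExact) (n : ℕ) :
    δ G hS n ≫ (T G (n + 1)).map S.f = 0 := by
  ext U : 2
  apply AddCommGrpCat.hom_ext
  apply AddMonoidHom.ext
  intro (x : Ext.{w} (G.obj U.unop) S.X₃ n)
  show (x.comp hS.extClass rfl).comp (Ext.mk₀ S.f) (add_zero _) = 0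
  rw [Ext.comp_assoc_of_third_deg_zero, ShortComplex.ShortExact.extClass_comp, Ext.comp_zero]

lemma exact_of_evaluation {K : Type*} [Category K] {A : Type*} [Category A] [Abelian A]
    (S : ShortComplex (K ⥤ A))
    (h : ∀ q, (S.map ((evaluation K A).obj q)).Exact) : S.Exact := by
  simp only [ShortComplex.exact_iff_isZero_homology] at h ⊢
  rw [Functor.isZero_iff]
  intro q
  exact IsZero.of_iso (h q) (S.mapHomologyIso ((evaluation K A).obj q)).symm


lemma exact₃ (S : ShortComplex 𝒜) (hS : S.ShortExact) (n : ℕ) :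
    (ShortComplex.mk _ _ (w₃ G S hS n)).Exact := by
  apply exact_of_evaluation
  intro U
  exact Ext.covariant_sequence_exact₃' (G.obj U.unop) hS n (n + 1) rfl


lemma exact₁ (S : ShortComplex 𝒜) (hS : S.ShortExact) (n : ℕ) :
    (ShortComplex.mk _ _ (w₁ G S hS n)).Exact := by
  apply exact_of_evaluation
  intro U
  exact Ext.covariant_sequence_exact₁' (G.obj U.unop) hS n (n + 1) rfl


/-- the δ-functor `F ↦ (U ↦ Ext^•(G U, F))` -/
noncomputable def delta : DeltaFunctor 𝒜 (Cᵒᵖ ⥤ AddCommGrpCat.{w}) :=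
  DeltaFunctor.mk (fun n => T G n) (fun _ hS n => δ G hS n)
    (fun φ hS hS' n => δ_nat G φ hS hS' n) (w₃ G) (w₁ G) (exact₃ G) (exact₁ G)

lemma delta_effaceable : (delta.{w} G).Effaceable := by
  intro I _ n
  show IsZero ((T G (n + 1)).obj I)
  rw [Functor.isZero_iff]
  intro U
  have : Subsingleton (((T G (n + 1)).obj I).obj U) :=
    subsingleton_of_forall_eq 0 fun (x : Ext.{w} (G.obj U.unop) I (n + 1)) =>
      Ext.eq_zero_of_injective x
  exact AddCommGrpCat.isZero_of_subsingleton _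

end Groth.Agent.Helper9.ExtPshDelta
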