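import Mathlib
import Groth.Prelude.Def_ModSite2
import Groth.Agent.Helper9.ModCechExt
import Groth.Agent.Helper9.ModUnitExt

/-!
# `Hom_O(coker(O[K] → O[L]), F) ≃ Hom(coker(ℤ[K] → ℤ[L]), F_ab)` and vanishing of
`Ext^{>0}(coker(ℤ[K] → ℤ[L]), I_ab)` for injective modules `I`
-/

set_option autoImplicit false
set_option linter.style.haveILetI false
set_option linter.unusedSectionVars false

namespace Groth.Agent.Helper9.HZCompare1

open CategoryTheory Limits Opposite Abelian
  Groth.Agent.Helper9.CechNerveRes Groth.Agent.Helper9.ModCechRes Groth.Agent.Helper9.ModCechExt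

universe u

variable {C : Type u} [SmallCategory C] {J : GrothendieckTopology C} (O : Sheaf J RingCat.{u})
  {K L : Sheaf J (Type u)} (g : K ⟶ L)

/-- `coker(O[K] → O[L])` -/
noncomputable abbrev Qm : SheafOfModules.{u} O := cokernel ((Φm O).map g)

/-- `coker(ℤ[K] → ℤ[L])` -/
noncomputable abbrev Qz : Sheaf J AddCommGrpCat.{u} := cokernel ((Φ J).map g)

lemma β_zero (M : Sheaf J (Type u)) (F : SheafOfModules.{u} O) :
    β O M F 0 = 0 := (map_zero (βA O M F))

lemma β_symm_zero (M : Sheaf J (Type u)) (F : SheafOfModules.{u} O) :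
    (β O M F).symm 0 = 0 := (map_zero (βA O M F).symm)

/-- forward map -/
noncomputable def fwd (F : SheafOfModules.{u} O) (s : Qm O g ⟶ F) :
    Qz g ⟶ (SheafOfModules.toSheaf O).obj F :=
  cokernel.desc ((Φ J).map g) (β O L F (cokernel.π ((Φm O).map g) ≫ s)) (by
    rw [← β_comp_left, ← Category.assoc, cokernel.condition, zero_comp, β_zero])

/-- backward map -/
noncomputable def bwd (F : SheafOfModules.{u} O) (r : Qz g ⟶ (SheafOfModules.toSheaf O).obj F) :
    Qm O g ⟶ F :=
  cokernel.desc ((Φm O).map g) ((β O L F).symm (cokernel.π ((Φ J).map g) ≫ r)) (by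
    apply (β O K F).injective
    rw [β_comp_left, Equiv.apply_symm_apply, ← Category.assoc, cokernel.condition, zero_comp,
      β_zero])

lemma π_fwd (F : SheafOfModules.{u} O) (s : Qm O g ⟶ F) :
    cokernel.π ((Φ J).map g) ≫ fwd O g F s = β O L F (cokernel.π ((Φm O).map g) ≫ s) :=
  cokernel.π_desc _ _ _

lemma π_bwd (F : SheafOfModules.{u} O) (r : Qz g ⟶ (SheafOfModules.toSheaf O).obj F) :
    cokernel.π ((Φm O).map g) ≫ bwd O g F r = (β O L F).symm (cokernel.π ((Φ J).map g) ≫ r) :=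
  cokernel.π_desc _ _ _

/-- `Hom_O(coker(O[K] → O[L]), F) ≃ Hom(coker(ℤ[K] → ℤ[L]), F_ab)` -/
noncomputable def γ (F : SheafOfModules.{u} O) :
    (Qm O g ⟶ F) ≃+ (Qz g ⟶ (SheafOfModules.toSheaf O).obj F) where
  toFun := fwd O g F
  invFun := bwd O g F
  left_inv s := by
    rw [← cancel_epi (cokernel.π ((Φm O).map g)), π_bwd, π_fwd, Equiv.symm_apply_apply]
  right_inv r := by
    rw [← cancel_epi (cokernel.π ((Φ J).map g)), π_fwd, π_bwd, Equiv.apply_symm_apply]
  map_add' s s' := by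
    rw [← cancel_epi (cokernel.π ((Φ J).map g)), Preadditive.comp_add, π_fwd, π_fwd, π_fwd,
      Preadditive.comp_add]
    exact map_add (βA O L F) _ _

lemma γ_comp (F F' : SheafOfModules.{u} O) (s : Qm O g ⟶ F) (t : F ⟶ F') :
    γ O g F' (s ≫ t) = γ O g F s ≫ (SheafOfModules.toSheaf O).map t := by
  show fwd O g F' (s ≫ t) = fwd O g F s ≫ _
  rw [← cancel_epi (cokernel.π ((Φ J).map g)), π_fwd, ← Category.assoc, β_comp_right,
    ← Category.assoc, π_fwd]


section Vanish

lemma injective_app_of_mono {K L : Sheaf J (Type u)} (ι : K ⟶ L) [Mono ι] (X : Cᵒᵖ) :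
    Function.Injective (ι.hom.app X) := by
  haveI : Mono ((sheafToPresheaf J (Type u)).map ι) := inferInstance
  haveI : Mono (ι.hom) := inferInstanceAs (Mono ((sheafToPresheaf J (Type u)).map ι))
  haveI : Mono (ι.hom.app X) := inferInstance
  exact (mono_iff_injective (ι.hom.app X)).1 inferInstance

lemma mono_Φm_map {K L : Sheaf J (Type u)} (ι : K ⟶ L) [Mono ι] : Mono ((Φm O).map ι) := by
  haveI : Mono ((Ψm O).map ι) :=
    ModFree.mono_free_map O ι.hom (injective_app_of_mono ι)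
  exact (PresheafOfModules.sheafification (𝟙 O.obj)).map_mono ((Ψm O).map ι)

lemma mono_Φ_map {K L : Sheaf J (Type u)} (ι : K ⟶ L) [Mono ι] : Mono ((Φ J).map ι) := by
  haveI : Mono (ι.hom) := inferInstanceAs (Mono ((sheafToPresheaf J (Type u)).map ι))
  haveI : ∀ X, Mono (ι.hom.app X) := fun X => inferInstance
  haveI : ∀ X, Mono ((Functor.whiskerRight ι.hom AddCommGrpCat.free.{u}).app X) := fun X =>
    inferInstanceAs (Mono (AddCommGrpCat.free.{u}.map (ι.hom.app X)))
  haveI : Mono (Functor.whiskerRight ι.hom AddCommGrpCat.free.{u}) := NatTrans.mono_of_mono_app _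
  exact (presheafToSheaf J AddCommGrpCat.{u}).map_mono _

lemma epi_Φ_map {K L : Sheaf J (Type u)} (p : K ⟶ L) [Epi p] : Epi ((Φ J).map p) := by
  haveI : (Φ J).IsLeftAdjoint := (adjZ (J := J)).isLeftAdjoint
  infer_instance

variable (I : SheafOfModules.{u} O) [Injective I]

/-- the case of a monomorphism -/
theorem subsingleton_ext_Qz_of_mono {K L : Sheaf J (Type u)} (ι : K ⟶ L) [Mono ι] (n : ℕ) :
    Subsingleton (Ext.{u} (Qz ι) ((SheafOfModules.toSheaf O).obj I) (n + 1)) := by
  haveI := mono_Φ_map ι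
  haveI := mono_Φm_map O ι
  let S : ShortComplex (Sheaf J AddCommGrpCat.{u}) :=
    ShortComplex.mk ((Φ J).map ι) (cokernel.π ((Φ J).map ι)) (cokernel.condition _)
  have hS : S.ShortExact :=
    { exact := ShortComplex.exact_cokernel _
      mono_f := inferInstanceAs (Mono ((Φ J).map ι))
      epi_g := inferInstanceAs (Epi (cokernel.π ((Φ J).map ι))) }
  have hacyc := totallyAcyclic_of_injective_mod O I
  refine subsingleton_of_forall_eq 0 (fun (x₃ : Ext.{u} S.X₃ _ (n + 1)) => ?_)
  have h0 : (Ext.mk₀ S.g).comp x₃ (zero_add (n + 1)) = 0 := (hacyc L n).elim _ _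
  obtain ⟨x₁, hx₁⟩ := Ext.contravariant_sequence_exact₃ hS _ x₃ h0
    (show 1 + n = n + 1 by omega)
  rw [← hx₁]
  cases n with
  | zero =>
    obtain ⟨r, rfl⟩ := (Ext.mk₀_bijective _ _).2 x₁
    let r' : (Φm O).obj K ⟶ I := (β O K I).symm r
    let r'' : (Φm O).obj L ⟶ I := Injective.factorThru r' ((Φm O).map ι)
    have hr'' : (Φm O).map ι ≫ r'' = r' := Injective.comp_factorThru _ _
    have hr : r = S.f ≫ β O L I r'' := by
      show r = (Φ J).map ι ≫ β O L I r''
      rw [← β_comp_left, hr'']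
      exact (Equiv.apply_symm_apply _ _).symm
    rw [hr, ← Ext.mk₀_comp_mk₀,
      ← Ext.comp_assoc _ _ _ (add_zero 1) (zero_add 0) (by omega),
      ShortComplex.ShortExact.extClass_comp, Ext.zero_comp]
  | succ n =>
    rw [(hacyc K n).elim x₁ 0, Ext.comp_zero]

theorem subsingleton_ext_Qz (n : ℕ) :
    Subsingleton (Ext.{u} (Qz g) ((SheafOfModules.toSheaf O).obj I) (n + 1)) := by
  let p := Sheaf.toImage g
  let ι := Sheaf.imageι g
  have hpi : p ≫ ι = g := Sheaf.toImage_ι g
  haveI := epi_Φ_map p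
  have hg : (Φ J).map g = (Φ J).map p ≫ (Φ J).map ι := by rw [← Functor.map_comp, hpi]
  let e : Qz g ≅ Qz ι := cokernelIsoOfEq hg ≪≫ cokernelEpiComp _ _
  haveI := subsingleton_ext_Qz_of_mono O I ι n
  exact (ModUnitExt.extPrecompIso e ((SheafOfModules.toSheaf O).obj I) (n + 1)).symm.toEquiv.subsingleton

end Vanish

end Groth.Agent.Helper9.HZCompare1
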