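import Mathlib
import Groth.Prelude.Def_CohCx
import Groth.Prelude.Def_ModSite2
import Groth.Agent.Helper9.HZCompare1
import Groth.Agent.Helper1.ExtLES

/-!
# `Ext^{>0}(coker(ℤ[K'] → ℤ[K]), A) = 0` for totally acyclic `A` (Mayer–Vietoris retract trick),
and the module version `Ext^{>0}_O(coker(O[K'] → O[K]), M) = 0` for `M` with totally acyclic
underlying abelian sheaf
-/

set_option autoImplicit false
set_option linter.style.haveILetI false
set_option linter.unusedSectionVars false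

namespace Groth.Agent.Helper9.HZAcyc1

open CategoryTheory Limits Opposite Abelian
  Groth.Agent.Helper9.CechNerveRes Groth.Agent.Helper9.ModCechRes Groth.Agent.Helper9.ModCechExt
  Groth.Agent.Helper9.HZCompare1

universe u

variable {C : Type u} [SmallCategory C] {J : GrothendieckTopology C}

section Retract

variable {K' K : Sheaf J (Type u)} (g : K' ⟶ K)

/-- `K ⊔_{K'} K` -/
noncomputable abbrev P : Sheaf J (Type u) := pushout g g

/-- first inclusion -/
noncomputable abbrev i₁ : K ⟶ P g := pushout.inl g g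

/-- second inclusion -/
noncomputable abbrev i₂ : K ⟶ P g := pushout.inr g g

/-- the section `ℤ[K]/ℤ[K'] ⟶ ℤ[K ⊔_{K'} K]` -/
noncomputable def s : Qz g ⟶ (Φ J).obj (P g) :=
  cokernel.desc ((Φ J).map g) ((Φ J).map (i₂ g) - (Φ J).map (i₁ g)) (by
    rw [Preadditive.comp_sub, ← Functor.map_comp, ← Functor.map_comp, pushout.condition, sub_self])

/-- the retraction `ℤ[K ⊔_{K'} K] ⟶ ℤ[K]/ℤ[K']` -/
noncomputable def r : (Φ J).obj (P g) ⟶ Qz g :=
  ((adjZ (J := J)).homEquiv (P g) (Qz g)).symm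
    (pushout.desc ((adjZ (J := J)).homEquiv K (Qz g) 0)
      ((adjZ (J := J)).homEquiv K (Qz g) (cokernel.π ((Φ J).map g))) (by
        rw [← Adjunction.homEquiv_naturality_left, ← Adjunction.homEquiv_naturality_left,
          comp_zero, cokernel.condition]))

lemma i₁_r : (Φ J).map (i₁ g) ≫ r g = 0 := by
  unfold r
  rw [← Adjunction.homEquiv_naturality_left_symm, pushout.inl_desc, Equiv.symm_apply_apply]

lemma i₂_r : (Φ J).map (i₂ g) ≫ r g = cokernel.π ((Φ J).map g) := by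
  unfold r
  rw [← Adjunction.homEquiv_naturality_left_symm, pushout.inr_desc, Equiv.symm_apply_apply]

lemma s_r : s g ≫ r g = 𝟙 _ := by
  rw [← cancel_epi (cokernel.π ((Φ J).map g))]
  unfold s
  rw [cokernel.π_desc_assoc, Preadditive.sub_comp, i₁_r, i₂_r, sub_zero, Category.comp_id]

/-- `Ext^{n+1}(ℤ[K]/ℤ[K'], A) = 0` for totally acyclic `A` -/
theorem subsingleton_ext_Qz (A : Sheaf J AddCommGrpCat.{u}) (hA : CohCx.IsTotallyAcyclic A)
    (n : ℕ) : Subsingleton (Ext.{u} (Qz g) A (n + 1)) := by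
  refine subsingleton_of_forall_eq 0 (fun x => ?_)
  have h1 : x = (Ext.mk₀ (s g)).comp ((Ext.mk₀ (r g)).comp x (zero_add (n + 1)))
      (zero_add (n + 1)) := by
    rw [← Ext.comp_assoc _ _ _ (zero_add 0) (zero_add (n + 1)) (by omega), Ext.mk₀_comp_mk₀, s_r,
      Ext.mk₀_id_comp]
  have h2 : (Ext.mk₀ (r g)).comp x (zero_add (n + 1)) = 0 := (hA (P g) n).elim _ _
  rw [h1, h2, Ext.comp_zero]

end Retract

section Mod

variable (O : Sheaf J RingCat.{u}) {K' K : Sheaf J (Type u)} (g : K' ⟶ K)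

open Groth.Agent.Helper1.DeltaCmp

variable [HasExt.{u} (SheafOfModules.{u} O)]

/-- `F ↦ Ext^n_O(coker(O[K'] → O[K]), F)` -/
noncomputable abbrev T (n : ℕ) : SheafOfModules.{u} O ⥤ AddCommGrpCat.{u} :=
  extSeq (𝟭 (SheafOfModules.{u} O)) (Qm O g) n

/-- `F ↦ Ext^n(coker(ℤ[K'] → ℤ[K]), F_ab)` -/
noncomputable abbrev T' (n : ℕ) : SheafOfModules.{u} O ⥤ AddCommGrpCat.{u} :=
  extSeq (SheafOfModules.toSheaf.{u} O) (Qz g) n

/-- the comparison in degree `0` -/
noncomputable def e₀ : T O g 0 ≅ T' O g 0 :=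
  NatIso.ofComponents
    (fun F => ((Ext.addEquiv₀.trans (γ O g F)).trans Ext.addEquiv₀.symm).toAddCommGrpIso)
    (by
      intro F G φ
      apply AddCommGrpCat.hom_ext
      apply AddMonoidHom.ext
      intro x
      obtain ⟨s, rfl⟩ := (Ext.mk₀_bijective _ _).2 x
      show Ext.mk₀ (γ O g G (Ext.addEquiv₀ ((Ext.mk₀ s).comp (Ext.mk₀ φ) (add_zero 0)))) =
        (Ext.mk₀ (γ O g F (Ext.addEquiv₀ (Ext.mk₀ s)))).comp
          (Ext.mk₀ ((SheafOfModules.toSheaf O).map φ)) (add_zero 0)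
      have h1 : ∀ {A B : SheafOfModules.{u} O} (t : A ⟶ B), Ext.addEquiv₀ (Ext.mk₀ t) = t :=
        fun t => Ext.addEquiv₀.apply_symm_apply t
      rw [Ext.mk₀_comp_mk₀, h1, h1, Ext.mk₀_comp_mk₀, γ_comp]
      rfl)

theorem nonempty_iso (n : ℕ) (F : SheafOfModules.{u} O) :
    Nonempty ((T O g n).obj F ≅ (T' O g n).obj F) := by
  haveI : EnoughInjectives (SheafOfModules.{u} O) := enoughInjectives_mod O
  refine Groth.Agent.Helper1.DeltaCmp.nonempty_iso (T := T O g) (T' := T' O g) (fun _ => True)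
    (e₀ O g) ?_ n F trivial
  intro F _
  let S : ShortComplex (SheafOfModules.{u} O) :=
    ShortComplex.mk (Injective.ι F) (cokernel.π (Injective.ι F)) (cokernel.condition _)
  have hS : S.ShortExact :=
    { exact := ShortComplex.exact_cokernel _
      mono_f := by dsimp [S]; infer_instance
      epi_g := by dsimp [S]; infer_instance }
  haveI : Injective S.X₂ := by dsimp [S]; infer_instance
  refine ⟨{ S := S, iso := rfl, mem := trivial, zero := ?_, zero' := ?_,
            les := hasLES_extSeq _ _ S hS, les' := hasLES_extSeq _ _ S hS }⟩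
  · intro n
    have : Subsingleton ((T O g (n + 1)).obj S.X₂) :=
      subsingleton_of_forall_eq 0 fun (x : Ext.{u} _ S.X₂ (n + 1)) =>
        Ext.eq_zero_of_injective x
    exact AddCommGrpCat.isZero_of_subsingleton _
  · intro n
    have : Subsingleton ((T' O g (n + 1)).obj S.X₂) :=
      HZCompare1.subsingleton_ext_Qz O g S.X₂ n
    exact AddCommGrpCat.isZero_of_subsingleton _

/-- `Ext^n_O(coker(O[K'] → O[K]), F) ≃ Ext^n(coker(ℤ[K'] → ℤ[K]), F_ab)` -/
theorem nonempty_addEquiv (F : SheafOfModules.{u} O) (n : ℕ) :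
    Nonempty (Ext.{u} (Qm O g) F n ≃+ Ext.{u} (Qz g) ((SheafOfModules.toSheaf O).obj F) n) := by
  obtain ⟨i⟩ := nonempty_iso O g n F
  exact ⟨i.addCommGroupIsoToAddEquiv⟩

/-- `Ext^{n+1}_O(coker(O[K'] → O[K]), M) = 0` if `M_ab` is totally acyclic -/
theorem subsingleton_ext_Qm (M : SheafOfModules.{u} O)
    (hM : CohCx.IsTotallyAcyclic ((SheafOfModules.toSheaf O).obj M)) (n : ℕ) :
    Subsingleton (Ext.{u} (Qm O g) M (n + 1)) := by
  obtain ⟨e⟩ := nonempty_addEquiv O g M (n + 1)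
  haveI := subsingleton_ext_Qz g _ hM n
  exact e.toEquiv.subsingleton

end Mod

end Groth.Agent.Helper9.HZAcyc1
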