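import Mathlib
import Groth.Prelude.Def_ModSite2
import Groth.Prelude.Def_ExtSupp
import Groth.Agent.Helper9.HZCompare1
import Groth.Agent.Helper9.QuotSectAdj
import Groth.Agent.Helper1.ExtLES

/-!
# `Ext^n_O(O/O_U, F) ≃ H^n_Z(F)`
-/

set_option autoImplicit false
set_option linter.style.haveILetI false
set_option linter.unusedSectionVars false

namespace Groth.Agent.Helper9.HZCompare2

open CategoryTheory Limits Opposite Abelian
  Groth.Agent.Helper9.CechNerveRes Groth.Agent.Helper9.ModCechRes Groth.Agent.Helper9.ModCechExt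
  Groth.Agent.Helper9.HZCompare1

universe u

variable {C : Type u} [SmallCategory C] {J : GrothendieckTopology C} (O : Sheaf J CommRingCat.{u})
  (U : C)

/-- the sheaf of rings -/
abbrev R : Sheaf J RingCat.{u} := ModSite.ringSh O

/-- the value at `1` over `U` of a morphism out of the structure sheaf -/
noncomputable def val1 {F : ModSite.Mod O} (φ : ModSite.unit O ⟶ F) : F.val.obj (op U) :=
  (φ.val.app (op U)).hom (1 : (R O).obj.obj (op U))

section L2

variable {K : Sheaf J (Type u)} (h : K ⟶ ModUnitExt.Kt J) {F : ModSite.Mod O}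
  (φ : ModSite.unit O ⟶ F)

/-- the morphism `O[K] ⟶ O` induced by `K ⟶ pt` -/
noncomputable def m : (Φm (R O)).obj K ⟶ ModSite.unit O :=
  (Φm (R O)).map h ≫ ModUnitExt.a J (R O)

lemma homEquiv_m_comp :
    (ModFree.adjL (R O)).homEquiv _ _ (m O h ≫ φ) =
      h.hom ≫ ModUnitExt.one J (R O) ≫ (ModFree.G (R O)).map φ := by
  have h1 : (ModFree.adjL (R O)).homEquiv (ModUnitExt.Kt J).obj _ (ModUnitExt.a J (R O)) =
      ModUnitExt.one J (R O) :=
    Equiv.apply_symm_apply _ _
  unfold m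
  rw [Category.assoc]
  refine ((ModFree.adjL (R O)).homEquiv_naturality_left h.hom (ModUnitExt.a J (R O) ≫ φ)).trans ?_
  rw [(ModFree.adjL (R O)).homEquiv_naturality_right, h1]

lemma homEquiv_m_comp_app (V : Cᵒᵖ) (x : K.obj.obj V) :
    ((ModFree.adjL (R O)).homEquiv _ _ (m O h ≫ φ)).app V x =
      (φ.val.app V).hom (1 : (R O).obj.obj V) := by
  rw [homEquiv_m_comp]
  rfl

lemma homEquiv_zero_app {P : Cᵒᵖ ⥤ Type u} (V : Cᵒᵖ) (x : P.obj V) :
    ((ModFree.adjL (R O)).homEquiv P F 0).app V x = (0 : F.val.obj V) := by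
  rw [Adjunction.homEquiv_unit]
  have h0 : (ModFree.G (R O)).map (0 : (ModFree.L (R O)).obj P ⟶ F) =
      (ModFree.G (R O)).map (0 : (ModFree.L (R O)).obj P ⟶ F) := rfl
  rfl

end L2

section L2'

variable (h : ToposFin.eps J U ⟶ ModUnitExt.Kt J) {F : ModSite.Mod O}
  (φ : ModSite.unit O ⟶ F)

/-- the tautological section of `h_U^#` over `U` -/
noncomputable def x₀ : (ToposFin.eps J U).obj.obj (op U) :=
  ((sheafificationAdjunction J (Type u)).unit.app (yoneda.obj U)).app (op U) (𝟙 U)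

lemma m_comp_eq_zero_iff : m O h ≫ φ = 0 ↔ val1 O U φ = 0 := by
  constructor
  · intro h0
    have h1 := homEquiv_m_comp_app O h φ (op U) (x₀ U)
    rw [h0, homEquiv_zero_app] at h1
    exact h1.symm
  · intro h0
    apply ((ModFree.adjL (R O)).homEquiv _ _).injective
    let E : ToposFin.eps J U ⟶ Gs (R O) F := ⟨(ModFree.adjL (R O)).homEquiv _ _ (m O h ≫ φ)⟩
    let Z : ToposFin.eps J U ⟶ Gs (R O) F :=
      ⟨(ModFree.adjL (R O)).homEquiv (ToposFin.eps J U).obj F 0⟩
    suffices hEZ : E = Z from congrArg (fun t => t.hom) hEZ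
    apply ((sheafificationAdjunction J (Type u)).homEquiv (yoneda.obj U) (Gs (R O) F)).injective
    apply yonedaEquiv.injective
    rw [Adjunction.homEquiv_unit, Adjunction.homEquiv_unit]
    show E.hom.app (op U) (x₀ U) = Z.hom.app (op U) (x₀ U)
    show ((ModFree.adjL (R O)).homEquiv _ _ (m O h ≫ φ)).app (op U) (x₀ U) =
      ((ModFree.adjL (R O)).homEquiv (ToposFin.eps J U).obj F 0).app (op U) (x₀ U)
    rw [homEquiv_m_comp_app, homEquiv_zero_app]
    exact h0

end L2'

section L1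

variable {F : ModSite.Mod O} (φ : ModSite.unit O ⟶ F)

lemma app_one_eq {V : C} (g : V ⟶ U) :
    (φ.val.app (op V)).hom (1 : (R O).obj.obj (op V)) = F.val.map g.op (val1 O U φ) := by
  have h := PresheafOfModules.naturality_apply φ.val g.op (1 : (R O).obj.obj (op U))
  refine Eq.trans ?_ h
  congr 1
  exact (map_one ((R O).obj.map g.op).hom).symm

lemma app_eq_zero_of_val1 (h0 : val1 O U φ = 0) {V : C} (g : V ⟶ U) (x : (R O).obj.obj (op V)) :
    (φ.val.app (op V)).hom x = 0 := by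
  have h1 : (φ.val.app (op V)).hom (x • (1 : (R O).obj.obj (op V))) =
      x • (φ.val.app (op V)).hom (1 : (R O).obj.obj (op V)) := map_smul _ _ _
  have h2 : x • (1 : (R O).obj.obj (op V)) = x := mul_one x
  rw [h2] at h1
  have h3 : (φ.val.app (op V)).hom (1 : (R O).obj.obj (op V)) = (0 : F.val.obj (op V)) := by
    rw [app_one_eq O U φ g, h0]
    exact map_zero (F.val.map g.op).hom
  rw [h1, h3]
  exact smul_zero x

lemma restr_map_eq_zero_iff : (ModSite.restr O U).map φ = 0 ↔ val1 O U φ = 0 := by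
  constructor
  · intro h
    exact congrArg (fun ψ : (ModSite.restr O U).obj (ModSite.unit O) ⟶ (ModSite.restr O U).obj F =>
      (ψ.val.app (op (Over.mk (𝟙 U)))).hom (1 : (R O).obj.obj (op U))) h
  · intro h0
    apply (SheafOfModules.toSheaf _).map_injective
    ext Y x
    exact app_eq_zero_of_val1 O U φ h0 (unop Y).hom x

lemma counit_comp_eq_zero_iff :
    (ModSite.extZeroAdj O U).counit.app (ModSite.unit O) ≫ φ = 0 ↔ val1 O U φ = 0 :=
  (QuotSectAdj.counit_comp_iff O U φ).trans (restr_map_eq_zero_iff O U φ)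

end L1

section Final

/-- `⊤_ ≅ pt` -/
noncomputable def iTop : ⊤_ (Sheaf J (Type u)) ≅ ModUnitExt.Kt J :=
  terminalIsTerminal.uniqueUpToIso (Sheaf.isTerminalTerminal J Types.isTerminalPUnit)

/-- `h_U^# ⟶ ⊤_` -/
noncomputable abbrev g : ToposFin.eps J U ⟶ ⊤_ (Sheaf J (Type u)) := terminal.from _

/-- `O[⊤_] ≅ O` -/
noncomputable def uIso : (Φm (R O)).obj (⊤_ (Sheaf J (Type u))) ≅ ModSite.unit O :=
  (Φm (R O)).mapIso iTop ≪≫ (ModUnitExt.isoU J (R O)).symm

lemma map_g_comp_uIso :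
    (Φm (R O)).map (g U) ≫ (uIso O).hom = m O (g U ≫ (iTop (J := J)).hom) := by
  unfold m uIso
  rw [Functor.map_comp, Category.assoc]
  rfl

/-- the counit `j_! j^* O ⟶ O` -/
noncomputable abbrev ε : (ModSite.extZero O U).obj ((ModSite.restr O U).obj (ModSite.unit O)) ⟶
    ModSite.unit O :=
  (ModSite.extZeroAdj O U).counit.app (ModSite.unit O)

lemma ε_comp_iff {F : ModSite.Mod O} (φ : ModSite.unit O ⟶ F) :
    ε O U ≫ φ = 0 ↔ ((Φm (R O)).map (g U) ≫ (uIso O).hom) ≫ φ = 0 := by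
  rw [map_g_comp_uIso, m_comp_eq_zero_iff]
  exact counit_comp_eq_zero_iff O U φ

/-- `coker(j_! j^* O → O) ≅ coker(O[h_U^#] → O[⊤_])` -/
noncomputable def quotIso' : cokernel (ε O U) ≅ Qm (R O) (g U) where
  hom := cokernel.desc (ε O U) ((uIso O).inv ≫ cokernel.π ((Φm (R O)).map (g U))) (by
    rw [ε_comp_iff, Category.assoc, Iso.hom_inv_id_assoc, cokernel.condition])
  inv := cokernel.desc ((Φm (R O)).map (g U)) ((uIso O).hom ≫ cokernel.π (ε O U)) (by
    rw [← Category.assoc, ← ε_comp_iff, cokernel.condition])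
  hom_inv_id := by
    apply coequalizer.hom_ext
    refine (cokernel.π_desc_assoc _ _ _ _).trans ?_
    rw [Category.assoc, cokernel.π_desc, Iso.inv_hom_id_assoc]
    exact (Category.comp_id _).symm
  inv_hom_id := by
    apply coequalizer.hom_ext
    refine (cokernel.π_desc_assoc _ _ _ _).trans ?_
    rw [Category.assoc, cokernel.π_desc, Iso.hom_inv_id_assoc]
    exact (Category.comp_id _).symm

/-- `O/O_U ≅ coker(O[h_U^#] → O[⊤_])` -/
noncomputable def quotIso :
    (ModSite.quotOn O U).obj (ModSite.unit O) ≅ Qm (R O) (g U) :=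
  (Iso.refl _ : (ModSite.quotOn O U).obj (ModSite.unit O) ≅ cokernel (ε O U)) ≪≫ quotIso' O U

end Final

section ExtCmp

open Groth.Agent.Helper1.DeltaCmp

/-- hom-level comparison -/
noncomputable def γ' (F : ModSite.Mod O) :
    ((ModSite.quotOn O U).obj (ModSite.unit O) ⟶ F) ≃+
      (Qz (g U) ⟶ (SheafOfModules.toSheaf (R O)).obj F) :=
  AddEquiv.trans
    { toFun := fun f => (quotIso O U).inv ≫ f
      invFun := fun f => (quotIso O U).hom ≫ f
      left_inv := fun f => by simp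
      right_inv := fun f => by simp
      map_add' := fun f f' => Preadditive.comp_add _ _ _ _ _ _ }
    (γ (R O) (g U) F)

lemma γ'_comp {F F' : ModSite.Mod O} (s : (ModSite.quotOn O U).obj (ModSite.unit O) ⟶ F)
    (t : F ⟶ F') :
    γ' O U F' (s ≫ t) = γ' O U F s ≫ (SheafOfModules.toSheaf (R O)).map t := by
  show γ (R O) (g U) F' ((quotIso O U).inv ≫ s ≫ t) =
    γ (R O) (g U) F ((quotIso O U).inv ≫ s) ≫ _
  rw [← Category.assoc, γ_comp]

variable [HasExt.{u} (ModSite.Mod O)]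

/-- `F ↦ Ext^n_O(O/O_U, F)` -/
noncomputable abbrev T (n : ℕ) : ModSite.Mod O ⥤ AddCommGrpCat.{u} :=
  extSeq (𝟭 (ModSite.Mod O)) ((ModSite.quotOn O U).obj (ModSite.unit O)) n

/-- `F ↦ H^n_Z(F_ab)` -/
noncomputable abbrev T' (n : ℕ) : ModSite.Mod O ⥤ AddCommGrpCat.{u} :=
  extSeq (SheafOfModules.toSheaf.{u} (R O)) (Qz (g U)) n

/-- the comparison in degree `0` -/
noncomputable def e₀ : T O U 0 ≅ T' O U 0 :=
  NatIso.ofComponents
    (fun F => ((Ext.addEquiv₀.trans (γ' O U F)).trans Ext.addEquiv₀.symm).toAddCommGrpIso)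
    (by
      intro F G φ
      apply AddCommGrpCat.hom_ext
      apply AddMonoidHom.ext
      intro x
      obtain ⟨s, rfl⟩ := (Ext.mk₀_bijective _ _).2 x
      show Ext.mk₀ (γ' O U G (Ext.addEquiv₀ ((Ext.mk₀ s).comp (Ext.mk₀ φ) (add_zero 0)))) =
        (Ext.mk₀ (γ' O U F (Ext.addEquiv₀ (Ext.mk₀ s)))).comp
          (Ext.mk₀ ((SheafOfModules.toSheaf (R O)).map φ)) (add_zero 0)
      have h1 : ∀ {A B : ModSite.Mod O} (t : A ⟶ B), Ext.addEquiv₀ (Ext.mk₀ t) = t :=
        fun t => Ext.addEquiv₀.apply_symm_apply t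
      rw [Ext.mk₀_comp_mk₀, h1, h1, Ext.mk₀_comp_mk₀, γ'_comp]
      rfl)

theorem nonempty_iso (n : ℕ) (F : ModSite.Mod O) :
    Nonempty ((T O U n).obj F ≅ (T' O U n).obj F) := by
  haveI : EnoughInjectives (ModSite.Mod O) := enoughInjectives_mod (R O)
  refine Groth.Agent.Helper1.DeltaCmp.nonempty_iso (T := T O U) (T' := T' O U) (fun _ => True)
    (e₀ O U) ?_ n F trivial
  intro F _
  let S : ShortComplex (ModSite.Mod O) :=
    ShortComplex.mk (Injective.ι F) (cokernel.π (Injective.ι F)) (cokernel.condition _)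
  have hS : S.ShortExact :=
    { exact := ShortComplex.exact_cokernel _
      mono_f := by dsimp [S]; infer_instance
      epi_g := by dsimp [S]; infer_instance }
  haveI : Injective S.X₂ := by dsimp [S]; infer_instance
  refine ⟨{ S := S, iso := rfl, mem := trivial, zero := ?_, zero' := ?_,
            les := hasLES_extSeq _ _ S hS, les' := hasLES_extSeq _ _ S hS }⟩
  · intro n
    have : Subsingleton ((T O U (n + 1)).obj S.X₂) :=
      subsingleton_of_forall_eq 0 fun (x : Ext.{u} _ S.X₂ (n + 1)) =>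
        Ext.eq_zero_of_injective x
    exact AddCommGrpCat.isZero_of_subsingleton _
  · intro n
    have : Subsingleton ((T' O U (n + 1)).obj S.X₂) :=
      subsingleton_ext_Qz (R O) (g U) S.X₂ n
    exact AddCommGrpCat.isZero_of_subsingleton _

/-- `Ext^n_O(O/O_U, F) ≃ H^n_Z(F)` -/
theorem nonempty_addEquiv (F : ModSite.Mod O) (n : ℕ) :
    Nonempty (Ext.{u} ((ModSite.quotOn O U).obj (ModSite.unit O)) F n ≃+ ModSite.HZ U F n) := by
  obtain ⟨i⟩ := nonempty_iso O U n F
  exact ⟨i.addCommGroupIsoToAddEquiv⟩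

end ExtCmp

end Groth.Agent.Helper9.HZCompare2
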