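import Mathlib
import Groth.Prelude.Def_ModSite2
import Groth.Prelude.Def_ExtSupp
import Groth.Agent.Helper9.HZCompare2
import Groth.Agent.Helper9.QuotExact
import Groth.Agent.Helper9.HZAcyc1

/-!
# The `U`-locus of a sheaf of sets and morphisms out of `O[K]` vanishing over `U`
-/

set_option autoImplicit false
set_option linter.style.haveILetI false
set_option linter.unusedSectionVars false

namespace Groth.Agent.Helper9.HZAcyc2

open CategoryTheory Limits Opposite Abelian
  Groth.Agent.Helper9.CechNerveRes Groth.Agent.Helper9.ModCechRes Groth.Agent.Helper9.ModCechExt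
  Groth.Agent.Helper9.HZCompare1 Groth.Agent.Helper9.HZCompare2
  Groth.Agent.Helper9.TensorLoc Groth.Agent.Helper9.TensorSh

universe u

variable {C : Type u} [SmallCategory C] {J : GrothendieckTopology C} (O : Sheaf J CommRingCat.{u})
  (U : C)

section Locus

variable (K : Sheaf J (Type u))

/-- sections over objects mapping to `U` -/
def G₀ : Subfunctor K.obj where
  obj W := {_k | Nonempty (W.unop ⟶ U)}
  map := by
    rintro W W' i k ⟨a⟩
    exact ⟨i.unop ≫ a⟩

/-- the `U`-locus of `K`: sections over objects locally mapping to `U` -/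
def KU : Sheaf J (Type u) :=
  ⟨((G₀ U K).sheafify J).toFunctor, (isSheaf_iff_isSheaf_of_type J _).2
    (Subfunctor.sheafify_isSheaf _ ((isSheaf_iff_isSheaf_of_type J _).1 K.2))⟩

/-- the inclusion -/
def ιU : KU (J := J) U K ⟶ K := ⟨((G₀ U K).sheafify J).ι⟩

instance : Mono (ιU (J := J) U K) := by
  haveI : Mono ((sheafToPresheaf J (Type u)).map (ιU (J := J) U K)) :=
    inferInstanceAs (Mono ((G₀ U K).sheafify J).ι)
  exact (sheafToPresheaf J (Type u)).mono_of_mono_map inferInstance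

lemma surjective_ιU_app {V : C} (a : V ⟶ U) :
    Function.Surjective ((ιU (J := J) U K).hom.app (op V)) := by
  intro k
  exact ⟨⟨k, Subfunctor.le_sheafify J (G₀ U K) (op V) (⟨a⟩ : k ∈ (G₀ U K).obj (op V))⟩, rfl⟩

end Locus

section Sep

lemma eq_zero_of_cover (F : ModSite.Mod O) {W : C} (t : ((ι O).obj F).obj (op W)) (S : Sieve W)
    (hS : S ∈ J W) (h : ∀ ⦃W' : C⦄ (g : W' ⟶ W), S g → res ((ι O).obj F) g.op t = 0) : t = 0 := by
  have hsh : Presieve.IsSheaf J (F.val.presheaf ⋙ forget AddCommGrpCat) :=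
    (isSheaf_iff_isSheaf_of_type J _).1
      ((Presheaf.isSheaf_iff_isSheaf_forget J F.val.presheaf (forget AddCommGrpCat)).1 F.isSheaf)
  refine (hsh.isSeparated _ hS).ext (t₁ := t) (t₂ := (0 : F.val.obj (op W))) ?_
  intro W' g hg
  exact (h g hg).trans (map_zero (F.val.presheaf.map g.op).hom).symm

variable {O U}

lemma app_eq_zero_of_restr {F₁ F₂ : ModSite.Mod O} (φ : F₁ ⟶ F₂)
    (h : (ModSite.restr O U).map φ = 0) {V : C} (a : V ⟶ U) (x : ((ι O).obj F₁).obj (op V)) :
    ((ι O).map φ).app (op V) x = 0 :=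
  congrArg (fun ψ : (ModSite.restr O U).obj F₁ ⟶ (ModSite.restr O U).obj F₂ =>
    (ψ.val.app (op (Over.mk a))).hom x) h

lemma restr_eq_zero_of_app {F₁ F₂ : ModSite.Mod O} (φ : F₁ ⟶ F₂)
    (h : ∀ {V : C} (_ : V ⟶ U) (x : ((ι O).obj F₁).obj (op V)), ((ι O).map φ).app (op V) x = 0) :
    (ModSite.restr O U).map φ = 0 := by
  apply (SheafOfModules.toSheaf _).map_injective
  ext Y x
  exact h (unop Y).hom x

end Sep

section KL

variable {O U} {K : Sheaf J (Type u)} {F : ModSite.Mod O} (φ : (Φm (R O)).obj K ⟶ F)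

/-- the adjunct -/
noncomputable abbrev adjt : K.obj ⟶ (ModFree.G (R O)).obj F :=
  (ModFree.adjL (R O)).homEquiv K.obj F φ

lemma adjt_app (W : Cᵒᵖ) (k : K.obj.obj W) :
    (adjt φ).app W k =
      ((ι O).map φ).app W (((ModFree.adjL (R O)).unit.app K.obj).app W k) := by
  unfold adjt
  rw [Adjunction.homEquiv_unit]
  rfl

lemma adjt_res {W W' : C} (g : W' ⟶ W) (k : K.obj.obj (op W)) :
    res ((ι O).obj F) g.op ((adjt φ).app (op W) k) =
      (adjt φ).app (op W') (K.obj.map g.op k) :=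
  (NatTrans.naturality_apply (adjt φ) g.op k).symm

lemma adjt_ιU_eq_zero (h : (ModSite.restr O U).map φ = 0) (W : Cᵒᵖ)
    (x : (KU (J := J) U K).obj.obj W) :
    (adjt φ).app W ((ιU U K).hom.app W x) = (0 : F.val.obj W) := by
  induction W using Opposite.rec with | _ W
  obtain ⟨k, hk⟩ := x
  show (adjt φ).app (op W) k = (0 : F.val.obj (op W))
  refine eq_zero_of_cover O F _ _ hk (fun W' g hg => ?_)
  obtain ⟨a⟩ := hg
  rw [adjt_res, adjt_app]
  exact app_eq_zero_of_restr φ h a _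

theorem comp_eq_zero_of_restr (h : (ModSite.restr O U).map φ = 0) :
    (Φm (R O)).map (ιU U K) ≫ φ = 0 := by
  apply ((ModFree.adjL (R O)).homEquiv _ _).injective
  refine ((ModFree.adjL (R O)).homEquiv_naturality_left (ιU U K).hom φ).trans ?_
  ext W x
  exact (adjt_ιU_eq_zero φ h W x).trans (homEquiv_zero_app O W x).symm

theorem restr_eq_zero_of_comp (h : (Φm (R O)).map (ιU U K) ≫ φ = 0) :
    (ModSite.restr O U).map φ = 0 := by
  refine restr_eq_zero_of_app φ (fun {V} a x => ?_)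
  obtain ⟨S, hS, hS'⟩ := locSurj_η (O := O) ((Ψm (R O)).obj K) V x
  refine eq_zero_of_cover O F _ S hS (fun W' g hg => ?_)
  obtain ⟨t, ht⟩ := hS' g hg
  have ht' : (η O ((Ψm (R O)).obj K)).app (op W') t =
      res ((ι O).obj ((Φm (R O)).obj K)) g.op x := ht
  rw [res_naturality, ← ht']
  clear ht ht'
  have hsurj : Function.Surjective (((Ψm (R O)).map (ιU U K)).app (op W')) :=
    Finsupp.mapDomain_surjective (surjective_ιU_app U K (g ≫ a))
  obtain ⟨t', rfl⟩ := hsurj t
  have nat := (adj O).unit.naturality ((Ψm (R O)).map (ιU U K))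
  have nat' : (η O ((Ψm (R O)).obj K)).app (op W') (((Ψm (R O)).map (ιU U K)).app (op W') t') =
      ((ι O).map ((Φm (R O)).map (ιU U K))).app (op W')
        ((η O ((Ψm (R O)).obj (KU U K))).app (op W') t') :=
    congrArg (fun ψ : (Ψm (R O)).obj (KU U K) ⟶ (ι O).obj ((Φm (R O)).obj K) =>
      ψ.app (op W') t') nat
  rw [nat']
  exact congrArg (fun ψ : (Φm (R O)).obj (KU U K) ⟶ F =>
    ((ι O).map ψ).app (op W') ((η O ((Ψm (R O)).obj (KU U K))).app (op W') t')) h

theorem restr_eq_zero_iff : (ModSite.restr O U).map φ = 0 ↔ (Φm (R O)).map (ιU U K) ≫ φ = 0 :=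
  ⟨comp_eq_zero_of_restr φ, restr_eq_zero_of_comp φ⟩

end KL

end Groth.Agent.Helper9.HZAcyc2
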