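import Mathlib
import Groth.Prelude.Def_ModSite2
import Groth.Prelude.Def_ExtSupp
import Groth.Agent.Helper9.HZAcyc2

/-!
# Sections of `Γ_Z(F)`: the sections of `F` vanishing on all objects mapping to `U`
-/

set_option autoImplicit false
set_option linter.style.haveILetI false
set_option linter.unusedSectionVars false

namespace Groth.Agent.Helper9.HZSec

open CategoryTheory Limits Opposite Abelian
  Groth.Agent.Helper9.CechNerveRes Groth.Agent.Helper9.ModCechRes Groth.Agent.Helper9.ModCechExt
  Groth.Agent.Helper9.HZCompare1 Groth.Agent.Helper9.HZCompare2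
  Groth.Agent.Helper9.HZAcyc2
  Groth.Agent.Helper9.TensorLoc Groth.Agent.Helper9.TensorSh

universe u

variable {C : Type u} [SmallCategory C] {J : GrothendieckTopology C} {O : Sheaf J CommRingCat.{u}}
  {U : C}

section Presheaf

variable {P : Cᵒᵖ ⥤ Type u} {F : ModSite.Mod O} (φ : (ModFree.L (R O)).obj P ⟶ F)

/-- the adjunct -/
noncomputable abbrev adjtP : P ⟶ (ModFree.G (R O)).obj F :=
  (ModFree.adjL (R O)).homEquiv P F φ

lemma adjtP_app (W : Cᵒᵖ) (k : P.obj W) :
    (adjtP φ).app W k =
      ((ι O).map φ).app W (((ModFree.adjL (R O)).unit.app P).app W k) := by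
  unfold adjtP
  rw [Adjunction.homEquiv_unit]
  rfl

variable (U) in
/-- sections over objects mapping to `U` -/
def PU (P : Cᵒᵖ ⥤ Type u) : Subfunctor P where
  obj W := {_k | Nonempty (W.unop ⟶ U)}
  map := by
    rintro W W' i k ⟨a⟩
    exact ⟨i.unop ≫ a⟩

lemma surjective_PU_ι_app {V : C} (a : V ⟶ U) :
    Function.Surjective ((PU U P).ι.app (op V)) := by
  intro k
  exact ⟨⟨k, ⟨a⟩⟩, rfl⟩

theorem adjtP_eq_zero_of_restr (h : (ModSite.restr O U).map φ = 0) {W : C} (a : W ⟶ U)
    (k : P.obj (op W)) : (adjtP φ).app (op W) k = (0 : F.val.obj (op W)) := by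
  rw [adjtP_app]
  exact app_eq_zero_of_restr φ h a _

theorem restr_eq_zero_of_adjtP
    (h : ∀ {W : C} (_ : W ⟶ U) (k : P.obj (op W)), (adjtP φ).app (op W) k = (0 : F.val.obj (op W))) :
    (ModSite.restr O U).map φ = 0 := by
  have h0 : (ModFree.L (R O)).map (PU U P).ι ≫ φ = 0 := by
    apply ((ModFree.adjL (R O)).homEquiv _ _).injective
    refine ((ModFree.adjL (R O)).homEquiv_naturality_left (PU U P).ι φ).trans ?_
    ext W x
    induction W using Opposite.rec with | _ W
    obtain ⟨k, ⟨a⟩⟩ := x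
    exact (h a k).trans (homEquiv_zero_app O (op W) _).symm
  refine restr_eq_zero_of_app φ (fun {V} a x => ?_)
  obtain ⟨S, hS, hS'⟩ := locSurj_η (O := O) ((PresheafOfModules.free (R O).obj).obj P) V x
  refine eq_zero_of_cover O F _ S hS (fun W' g hg => ?_)
  obtain ⟨t, ht⟩ := hS' g hg
  have ht' : (η O ((PresheafOfModules.free (R O).obj).obj P)).app (op W') t =
      res ((ι O).obj ((ModFree.L (R O)).obj P)) g.op x := ht
  rw [res_naturality, ← ht']
  clear ht ht'
  have hsurj : Function.Surjective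
      (((PresheafOfModules.free (R O).obj).map (PU U P).ι).app (op W')) :=
    Finsupp.mapDomain_surjective (surjective_PU_ι_app (g ≫ a))
  obtain ⟨t', rfl⟩ := hsurj t
  have nat := (adj O).unit.naturality ((PresheafOfModules.free (R O).obj).map (PU U P).ι)
  have nat' : (η O ((PresheafOfModules.free (R O).obj).obj P)).app (op W')
      (((PresheafOfModules.free (R O).obj).map (PU U P).ι).app (op W') t') =
      ((ι O).map ((ModFree.L (R O)).map (PU U P).ι)).app (op W')
        ((η O ((PresheafOfModules.free (R O).obj).obj (PU U P).toFunctor)).app (op W') t') :=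
    congrArg (fun ψ : (PresheafOfModules.free (R O).obj).obj (PU U P).toFunctor ⟶
      (ι O).obj ((ModFree.L (R O)).obj P) => ψ.app (op W') t') nat
  rw [nat']
  exact congrArg (fun ψ : (ModFree.L (R O)).obj (PU U P).toFunctor ⟶ F =>
    ((ι O).map ψ).app (op W')
      ((η O ((PresheafOfModules.free (R O).obj).obj (PU U P).toFunctor)).app (op W') t')) h0

end Presheaf

section Sec

variable [ModSite.HasPushOver O U] (F : ModSite.Mod O) {W : C}

/-- the morphism out of the free module on `h_W` attached to a section over `W` -/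
noncomputable def hat (t : ((ModFree.G (R O)).obj F).obj (op W)) :
    (ModFree.L (R O)).obj (yoneda.obj W) ⟶ F :=
  ((ModFree.adjL (R O)).homEquiv _ _).symm (yonedaEquiv.symm t)

lemma adjtP_hat (t : ((ModFree.G (R O)).obj F).obj (op W)) :
    adjtP (hat F t) = yonedaEquiv.symm t := Equiv.apply_symm_apply _ _

lemma adjtP_hat_app (t : ((ModFree.G (R O)).obj F).obj (op W)) {V : C} (g : V ⟶ W) :
    (adjtP (hat F t)).app (op V) g = ((ModFree.G (R O)).obj F).map g.op t := by
  rw [adjtP_hat]
  rfl

variable (U) in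
/-- sections vanishing over `U` come from `Γ_Z` -/
theorem exists_of_vanish (t : F.val.obj (op W))
    (h : ∀ {V : C} (g : V ⟶ W), Nonempty (V ⟶ U) → res ((ι O).obj F) g.op t = 0) :
    ∃ s : ((ModSite.sectOn O U).obj F).val.obj (op W),
      (((ModSite.sectOnι O U).app F).val.app (op W)).hom s = t := by
  have h1 : (ModSite.restr O U).map (hat F t) = 0 := by
    refine restr_eq_zero_of_adjtP (hat F t) (fun {V} a k => ?_)
    exact (adjtP_hat_app F t k).trans (h k ⟨a⟩)
  have h2 : hat F t ≫ (ModSite.restrPushOverAdj O U).unit.app F = 0 :=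
    (QuotSectAdj.comp_unit_iff O U _).2 h1
  let s' : (ModFree.L (R O)).obj (yoneda.obj W) ⟶ (ModSite.sectOn O U).obj F :=
    kernel.lift _ (hat F t) h2
  have hs' : s' ≫ (ModSite.sectOnι O U).app F = hat F t := kernel.lift_ι _ _ _
  refine ⟨(adjtP s').app (op W) (𝟙 W), ?_⟩
  have nat : adjtP (s' ≫ (ModSite.sectOnι O U).app F) =
      adjtP s' ≫ (ModFree.G (R O)).map ((ModSite.sectOnι O U).app F) :=
    (ModFree.adjL (R O)).homEquiv_naturality_right _ _
  rw [hs'] at nat
  have e1 := congrArg (fun ψ : yoneda.obj W ⟶ (ModFree.G (R O)).obj F => ψ.app (op W) (𝟙 W)) nat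
  refine Eq.trans ?_ (e1.symm.trans ((adjtP_hat_app F t (𝟙 W)).trans ?_))
  · rfl
  · have := ((ModFree.G (R O)).obj F).map_id (op W)
    exact congrArg (fun f : ((ModFree.G (R O)).obj F).obj (op W) ⟶
      ((ModFree.G (R O)).obj F).obj (op W) => f t) this

variable (U) in
/-- sections of `Γ_Z` vanish over `U` -/
theorem vanish_of_sectOn (s : ((ModSite.sectOn O U).obj F).val.obj (op W)) {V : C} (g : V ⟶ W)
    (a : V ⟶ U) :
    res ((ι O).obj F) g.op ((((ModSite.sectOnι O U).app F).val.app (op W)).hom s) = 0 := by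
  have h := res_naturality ((ι O).map ((ModSite.sectOnι O U).app F)) g.op s
  refine h.trans ?_
  exact app_eq_zero_of_restr ((ModSite.sectOnι O U).app F)
    (QuotSectAdj.restr_map_sectOnι O U F) a _

end Sec

end Groth.Agent.Helper9.HZSec
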