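import Mathlib
import Groth.Prelude.Def_ModSite2
import Groth.Prelude.Def_ExtSupp
import Groth.Agent.Helper9.HZSec
import Groth.Agent.Helper9.RestrExact
import Groth.Agent.Helper1.DeltaComp

/-!
# `Γ_Z` and `ℋ^q_Z` commute with localisation
-/

set_option autoImplicit false
set_option linter.style.haveILetI false
set_option linter.unusedSectionVars false

namespace Groth.Agent.Helper9.HZLoc

open CategoryTheory Limits Opposite Abelian
  Groth.Agent.Helper9.ModCechExt
  Groth.Agent.Helper9.HZCompare2
  Groth.Agent.Helper9.HZAcyc2 Groth.Agent.Helper9.HZSec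
  Groth.Agent.Helper9.TensorLoc Groth.Agent.Helper9.TensorSh
  Groth.Agent.Helper9.RestrExact

universe u

section Epi

variable {C : Type u} [SmallCategory C] {J : GrothendieckTopology C}

lemma epi_of_surjective {O : Sheaf J CommRingCat.{u}} {F₁ F₂ : ModSite.Mod O} (f : F₁ ⟶ F₂)
    (h : ∀ W : Cᵒᵖ, Function.Surjective (((ι O).map f).app W)) : Epi f := by
  haveI : Epi ((ι O).map f) := PresheafOfModules.epi_of_surjective (fun W => h W)
  haveI : (SheafOfModules.forget (ModSite.ringSh O)).Faithful := inferInstance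
  haveI : (SheafOfModules.forget (ModSite.ringSh O)).ReflectsEpimorphisms :=
    Functor.reflectsEpimorphisms_of_faithful _
  exact (SheafOfModules.forget (ModSite.ringSh O)).epi_of_epi_map
    (inferInstanceAs (Epi ((ι O).map f)))

end Epi

variable {C : Type u} [SmallCategory C] {J : GrothendieckTopology C} (O : Sheaf J CommRingCat.{u})
  [HasBinaryProducts C] (U X : C)

/-- the object `U × X → X` of `C/X` -/
noncomputable abbrev UX : Over X := Over.mk (Limits.prod.snd : U ⨯ X ⟶ X)

section Deg0

variable [ModSite.HasPushOver (O.over X) (UX U X)]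

/-- the comparison `(Γ_Z F)|_X ⟶ Γ_{Z/X}(F|_X)` -/
noncomputable def α (F : ModSite.Mod O) :
    (ModSite.restr O X).obj ((ModSite.sectOn O U).obj F) ⟶
      (ModSite.sectOn (O.over X) (UX U X)).obj ((ModSite.restr O X).obj F) :=
  kernel.lift _ ((ModSite.restr O X).map ((ModSite.sectOnι O U).app F))
    ((QuotSectAdj.comp_unit_iff (O.over X) (UX U X) _).2
      (restr_eq_zero_of_app _ (fun {V} a x =>
        app_eq_zero_of_restr ((ModSite.sectOnι O U).app F)
          (QuotSectAdj.restr_map_sectOnι O U F) (a.left ≫ Limits.prod.fst) x)))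

lemma α_ι (F : ModSite.Mod O) :
    α O U X F ≫ (ModSite.sectOnι (O.over X) (UX U X)).app ((ModSite.restr O X).obj F) =
      (ModSite.restr O X).map ((ModSite.sectOnι O U).app F) :=
  kernel.lift_ι _ _ _

instance (F : ModSite.Mod O) : Mono (α O U X F) := by
  haveI : Mono ((ModSite.restr O X).map ((ModSite.sectOnι O U).app F)) := inferInstance
  haveI : Mono (α O U X F ≫
      (ModSite.sectOnι (O.over X) (UX U X)).app ((ModSite.restr O X).obj F)) := by
    rw [α_ι]
    infer_instance
  exact mono_of_mono _
    ((ModSite.sectOnι (O.over X) (UX U X)).app ((ModSite.restr O X).obj F))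

theorem surjective_α (F : ModSite.Mod O) (Y : (Over X)ᵒᵖ) :
    Function.Surjective (((ι (O.over X)).map (α O U X F)).app Y) := by
  intro x
  induction Y using Opposite.rec with | _ Y
  let t : F.val.obj (op Y.left) :=
    (((ModSite.sectOnι (O.over X) (UX U X)).app ((ModSite.restr O X).obj F)).val.app (op Y)).hom x
  obtain ⟨s, hs⟩ := exists_of_vanish U F (W := Y.left) t (fun {V} g ha => by
    obtain ⟨a⟩ := ha
    exact vanish_of_sectOn (UX U X) ((ModSite.restr O X).obj F) x
      (V := Over.mk (g ≫ Y.hom)) (Over.homMk g rfl)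
      (Over.homMk (prod.lift a (g ≫ Y.hom)) (prod.lift_snd _ _)))
  refine ⟨s, ?_⟩
  apply QuotExact.injective_app_of_mono
    ((ModSite.sectOnι (O.over X) (UX U X)).app ((ModSite.restr O X).obj F)) (op Y)
  have h1 := congrArg (fun ψ : (ModSite.restr O X).obj ((ModSite.sectOn O U).obj F) ⟶
    (ModSite.restr O X).obj F => ((ι (O.over X)).map ψ).app (op Y) s) (α_ι O U X F)
  exact h1.trans hs

instance (F : ModSite.Mod O) : Epi (α O U X F) := epi_of_surjective _ (surjective_α O U X F)

instance (F : ModSite.Mod O) : IsIso (α O U X F) := isIso_of_mono_of_epi _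

/-- `Γ_Z` commutes with localisation -/
noncomputable def e₀ : ModSite.sectOn O U ⋙ ModSite.restr O X ≅
    ModSite.restr O X ⋙ ModSite.sectOn (O.over X) (UX U X) :=
  NatIso.ofComponents (fun F => asIso (α O U X F)) (by
    intro F F' f
    rw [← cancel_mono ((ModSite.sectOnι (O.over X) (UX U X)).app ((ModSite.restr O X).obj F'))]
    have nat := (ModSite.sectOnι (O.over X) (UX U X)).naturality ((ModSite.restr O X).map f)
    have nat' := (ModSite.sectOnι O U).naturality f
    rw [Functor.id_map] at nat nat'
    simp only [Category.assoc, asIso_hom, Functor.comp_map]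
    rw [α_ι, nat, ← Category.assoc, α_ι, ← Functor.map_comp, ← Functor.map_comp, nat'])

end Deg0

section Main

open Groth.Agent.Helper1.DeltaFun

variable [ModSite.HasPushOver (O.over X) (UX U X)]
  [HasInjectiveResolutions (ModSite.Mod O)] [HasInjectiveResolutions (ModSite.Mod (O.over X))]

/-- `ℋ^q_Z` commutes with localisation -/
theorem main (q : ℕ) :
    Nonempty (ModSite.HZsh O U q ⋙ ModSite.restr O X ≅
      ModSite.restr O X ⋙ ModSite.HZsh (O.over X) (UX U X) q) := by
  haveI : EnoughInjectives (ModSite.Mod O) := enoughInjectives_mod (R O)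
  haveI : EnoughInjectives (ModSite.Mod (O.over X)) := enoughInjectives_mod (R (O.over X))
  haveI : (ModSite.sectOn O U).IsRightAdjoint := (QuotSectAdj.adj O U).isRightAdjoint
  haveI : PreservesFiniteLimits (ModSite.sectOn O U) := inferInstance
  haveI : (ModSite.sectOn (O.over X) (UX U X)).IsRightAdjoint :=
    (QuotSectAdj.adj (O.over X) (UX U X)).isRightAdjoint
  haveI : PreservesFiniteLimits (ModSite.sectOn (O.over X) (UX U X)) := inferInstance
  let T₁ : DeltaFunctor (ModSite.Mod O) (ModSite.Mod (O.over X)) :=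
    (rightDerivedDelta (ModSite.sectOn O U)).postcomp (ModSite.restr O X)
  let T₂ : DeltaFunctor (ModSite.Mod O) (ModSite.Mod (O.over X)) :=
    (rightDerivedDelta (ModSite.sectOn (O.over X) (UX U X))).precomp (ModSite.restr O X)
      (fun S hS => hS.map_of_exact _)
  have hT₁ : T₁.Effaceable := fun I _ n =>
    (ModSite.restr O X).map_isZero (Functor.isZero_rightDerived_obj_injective_succ _ n I)
  have hT₂ : T₂.Effaceable := fun I _ n => by
    haveI := injective_restr O X I
    exact Functor.isZero_rightDerived_obj_injective_succ _ n _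
  have e0 : T₁.T 0 ≅ T₂.T 0 :=
    Functor.isoWhiskerRight (ModSite.sectOn O U).rightDerivedZeroIsoSelf (ModSite.restr O X) ≪≫
      e₀ O U X ≪≫ Functor.isoWhiskerLeft (ModSite.restr O X)
        (ModSite.sectOn (O.over X) (UX U X)).rightDerivedZeroIsoSelf.symm
  exact nonempty_iso_of_effaceable T₁ T₂ hT₁ hT₂ e0 q

end Main

end Groth.Agent.Helper9.HZLoc
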