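import Mathlib
import Groth.Prelude.Def_ModSite
import Groth.Agent.Helper9.RestrExact
import Groth.Agent.Helper9.ExtAdj
import Groth.Agent.Helper9.ModCechExt

/-!
# `Ext^i(j_! A, N) ≃+ Ext^i(A, j^* N)`
-/

namespace Groth.Agent.Helper9.RestrExt

open CategoryTheory Opposite Limits Abelian Groth.Agent.Helper9.ShriekSh
  Groth.Agent.Helper9.RestrExact

universe w' w v u

section ChgUniv

variable {𝒞 : Type u} [Category.{v} 𝒞] [Abelian 𝒞] [HasExt.{w} 𝒞] [HasExt.{w'} 𝒞]

/-- the change of universe of `Ext` is additive -/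
noncomputable def chgUnivAddEquiv (X Y : 𝒞) (n : ℕ) : Ext.{w} X Y n ≃+ Ext.{w'} X Y n :=
  { Ext.chgUniv.{w', w} with
    map_add' := fun x y => by
      letI := HasDerivedCategory.standard 𝒞
      apply Ext.homEquiv.injective
      show (Ext.chgUniv.{w', w} (x + y)).hom = (Ext.chgUniv.{w', w} x + Ext.chgUniv.{w', w} y).hom
      rw [Ext.add_hom]
      show Ext.homEquiv (Ext.chgUniv.{w', w} (x + y)) =
        Ext.homEquiv (Ext.chgUniv.{w', w} x) + Ext.homEquiv (Ext.chgUniv.{w', w} y)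
      rw [Ext.homEquiv_chgUniv, Ext.homEquiv_chgUniv, Ext.homEquiv_chgUniv]
      exact Ext.add_hom x y }

end ChgUniv


variable {C : Type u} [SmallCategory C] {J : GrothendieckTopology C} (O : Sheaf J CommRingCat.{u})
  (U : C)

/-- `Ext^i(j_! A, N) ≃+ Ext^i(A, j^* N)` with a common universe -/
theorem nonempty_addEquiv_std [HasExt.{w} (ModSite.Mod O)] [HasExt.{w} (ModSite.Mod (O.over U))]
    (A : ModSite.Mod (O.over U)) (N : ModSite.Mod O) (i : ℕ) :
    Nonempty (Ext.{w} ((ModSite.extZero O U).obj A) N i ≃+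
      Ext.{w} A ((ModSite.restr O U).obj N) i) := by
  haveI : (ModSite.extZero O U).Additive := (ModSite.extZeroAdj O U).left_adjoint_additive
  haveI : EnoughInjectives (ModSite.Mod O) :=
    Groth.Agent.Helper9.ModCechExt.enoughInjectives_mod (ModSite.ringSh O)
  obtain ⟨e⟩ := Groth.Agent.Helper9.ExtAdj.nonempty_iso (ModSite.extZeroAdj O U)
    (fun I hI => injective_restr O U I) A i N
  exact ⟨e.addCommGroupIsoToAddEquiv⟩

theorem nonempty_addEquiv [h1 : HasExt.{w} (ModSite.Mod O)]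
    [h2 : HasExt.{w'} (ModSite.Mod (O.over U))]
    (A : ModSite.Mod (O.over U)) (N : ModSite.Mod O) (i : ℕ) :
    Nonempty (Ext.{w} ((ModSite.extZero O U).obj A) N i ≃+
      Ext.{w'} A ((ModSite.restr O U).obj N) i) := by
  let s1 : HasExt.{u + 1} (ModSite.Mod O) := HasExt.standard (ModSite.Mod O)
  let s2 : HasExt.{u + 1} (ModSite.Mod (O.over U)) := HasExt.standard (ModSite.Mod (O.over U))
  obtain ⟨e⟩ := @nonempty_addEquiv_std.{u + 1, u} C _ J O U s1 s2 A N i
  have e1 := @chgUnivAddEquiv.{u + 1, w, u, u + 1} (ModSite.Mod O) _ _ h1 s1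
    ((ModSite.extZero O U).obj A) N i
  have e2 := @chgUnivAddEquiv.{w', u + 1, u, u + 1} (ModSite.Mod (O.over U)) _ _ s2 h2
    A ((ModSite.restr O U).obj N) i
  exact ⟨(e1.trans e).trans e2⟩

end Groth.Agent.Helper9.RestrExt
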