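import Mathlib
import Groth.Prelude.Def_ModSite
import Groth.Agent.Helper9.Shriek
import Groth.Agent.Helper9.ShriekSh

/-!
# For a subterminal object `X`, the counit `j_! j^* F ⟶ F` is a monomorphism
-/

namespace Groth.Agent.Helper9.ShriekCounitMono

open CategoryTheory Opposite Limits DirectSum
  Groth.Agent.Helper9.TensorLoc Groth.Agent.Helper9.FreeTensor Groth.Agent.Helper9.Shriek

universe u

set_option backward.isDefEq.respectTransparency false

open scoped Classical

section Presheaf

variable {C : Type u} [SmallCategory C] {R : Cᵒᵖ ⥤ CommRingCat.{u}} {X : C}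

lemma counit_app_eq (Q : PMod R) : (shAdj R X).counit.app Q = Shriek.bwd (𝟙 ((pf R X).obj Q)) := rfl

lemma bwdApp_id_eq (Q : PMod R) {V : C} [Subsingleton (V ⟶ X)] (a : V ⟶ X)
    (s : Sec ((pf R X).obj Q) V) :
    bwdApp (𝟙 ((pf R X).obj Q)) V s = (s a : Q.obj (op V)) := by
  induction s using sec_induction with
  | zero => rw [map_zero]; rfl
  | add s t hs ht => rw [map_add, hs, ht]; rfl
  | single b x =>
    obtain rfl : b = a := Subsingleton.elim _ _
    rw [bwdApp_inc, Shriek.cmp_apply]
    show x = (DirectSum.lof (R.obj (op V)) (V ⟶ X) (fun c => Cmp ((pf R X).obj Q) c) b x) b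
    rw [DirectSum.lof_apply]

theorem mono_shAdj_counit (hX : ∀ V : C, Subsingleton (V ⟶ X)) (Q : PMod R) :
    Mono ((shAdj R X).counit.app Q) := by
  rw [counit_app_eq]
  apply PresheafOfModules.mono_of_injective
  intro V
  induction V using Opposite.rec with | _ V
  haveI := hX V
  intro s t hst
  have h1 : bwdApp (𝟙 ((pf R X).obj Q)) V s = bwdApp (𝟙 ((pf R X).obj Q)) V t := hst
  apply DFinsupp.ext
  intro a
  have h2 := bwdApp_id_eq Q a s
  have h3 := bwdApp_id_eq Q a t
  rw [h1] at h2
  exact h2.symm.trans h3

end Presheaf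


section Sheaf

open Groth.Agent.Helper9.TensorSh Groth.Agent.Helper9.ShriekSh

variable {C : Type u} [SmallCategory C] {J : GrothendieckTopology C} (O : Sheaf J CommRingCat.{u})
  (X : C)

/-- the counit `j_! j^* N ⟶ N` is a monomorphism for `X` subterminal -/
theorem mono_extAdj_counit (hX : ∀ V : C, Subsingleton (V ⟶ X)) (N : ModSite.Mod O) :
    Mono ((extAdj O X).counit.app N) := by
  have h := Adjunction.map_restrictFullyFaithful_counit_app
    (L := ext O X) (R := ModSite.restr O X)
    ((shAdj O.obj X).comp (adj O))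
    (SheafOfModules.fullyFaithfulForget (ModSite.ringSh (O.over X)))
    (Functor.FullyFaithful.id _) (Iso.refl _) (comm2 O X) N
  haveI := mono_shAdj_counit (R := O.obj) hX ((ι' O).obj N)
  have h2 : (extAdj O X).counit.app N =
      (a O).map ((shAdj O.obj X).counit.app ((ι' O).obj N)) ≫ (adj O).counit.app N := by
    refine h.trans ?_
    simp only [Iso.refl_inv, NatTrans.id_app, Functor.comp_map, Functor.id_obj,
      Adjunction.comp_counit_app]
    have h3 : (comm2 O X).inv.app N = 𝟙 _ := rfl
    rw [h3]
    erw [CategoryTheory.Functor.map_id, CategoryTheory.Functor.map_id, Category.id_comp,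
      Category.id_comp]
  rw [h2]
  have hm1 : Mono ((a O).map ((shAdj O.obj X).counit.app ((ι' O).obj N))) :=
    (a O).map_mono _
  have hm2 : IsIso ((adj O).counit.app N) := inferInstance
  have hm3 : Mono ((adj O).counit.app N) := inferInstance
  exact @mono_comp _ _ _ _ _ _ hm1 _ hm3

end Sheaf

end Groth.Agent.Helper9.ShriekCounitMono
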