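import Mathlib
import Groth.Prelude.Def_ModSite2
import Groth.Prelude.Def_ExtSupp
import Groth.Agent.Helper9.HZLoc
import Groth.Agent.Helper9.RestrExt
import Groth.Agent.Helper9.ShriekCounitMono
import Groth.Agent.Helper9.QuotExact

/-!
# Excision for `Ext` with supports on a ringed site
-/

set_option autoImplicit false
set_option linter.style.haveILetI false
set_option linter.unusedSectionVars false

namespace Groth.Agent.Helper9.ExtZExcision

open CategoryTheory Limits Opposite Abelian
  Groth.Agent.Helper9.HZAcyc2 Groth.Agent.Helper9.HZLoc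
  Groth.Agent.Helper9.TensorLoc Groth.Agent.Helper9.TensorSh

universe w' w u

section Over

variable {C : Type u} [SmallCategory C]

/-- `C/V` has binary products when `C` does and `V` is subterminal -/
lemma hasBinaryProducts_over [HasBinaryProducts C] (V : C) (hV : ∀ X : C, Subsingleton (X ⟶ V)) :
    HasBinaryProducts (Over V) := by
  haveI := hV
  refine @hasBinaryProducts_of_hasLimit_pair _ _ (fun {Y₁ Y₂} => ?_)
  let P : Over V := Over.mk (prod.fst ≫ Y₁.hom : Y₁.left ⨯ Y₂.left ⟶ V)
  let p₁ : P ⟶ Y₁ := Over.homMk prod.fst rfl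
  let p₂ : P ⟶ Y₂ := Over.homMk prod.snd (Subsingleton.elim _ _)
  exact ⟨⟨⟨BinaryFan.mk p₁ p₂, BinaryFan.isLimitMk
    (fun s => Over.homMk (prod.lift s.fst.left s.snd.left) (Subsingleton.elim _ _))
    (fun s => by ext; exact prod.lift_fst _ _) (fun s => by ext; exact prod.lift_snd _ _)
    (fun s m h1 h2 => by
      ext
      apply prod.hom_ext
      · refine Eq.trans ?_ (prod.lift_fst _ _).symm
        exact congrArg (fun t => t.left) h1
      · refine Eq.trans ?_ (prod.lift_snd _ _).symm
        exact congrArg (fun t => t.left) h2)⟩⟩⟩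

end Over

section Main

variable {C : Type u} [SmallCategory C] [HasBinaryProducts C] {J : GrothendieckTopology C}
  (O : Sheaf J CommRingCat.{u}) (U V : C)

/-- `(j_! A)/(j_! A)_U ≅ j_!(A/A_{U × V})` -/
theorem nonempty_quotOn_extZero_iso [ModSite.HasPushOver (O.over V) (UX U V)] :
    Nonempty (ModSite.extZero O V ⋙ ModSite.quotOn O U ≅
      ModSite.quotOn (O.over V) (UX U V) ⋙ ModSite.extZero O V) := by
  let adj1 := (ModSite.extZeroAdj O V).comp (QuotSectAdj.adj O U)
  let adj2 := (QuotSectAdj.adj (O.over V) (UX U V)).comp (ModSite.extZeroAdj O V)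
  exact ⟨(adj1.ofNatIsoRight (e₀ O U V)).leftAdjointUniq adj2⟩

/-- the counit `j_! j^* M ⟶ M` is a monomorphism for `V` subterminal -/
lemma mono_counit (hV : ∀ X : C, Subsingleton (X ⟶ V)) (M : ModSite.Mod O) :
    Mono ((ModSite.extZeroAdj O V).counit.app M) := by
  have h := Adjunction.leftAdjointUniq_hom_app_counit (ModSite.extZeroAdj O V)
    (ShriekSh.extAdj O V) M
  rw [← h]
  haveI := ShriekCounitMono.mono_extAdj_counit O V hV M
  infer_instance

/-- a module which is null on `U` and on `V` is zero if `U` and `V` cover -/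
lemma isZero_of_isNullOn (hUV : J.CoversTop (fun b : Bool => cond b U V)) (T : ModSite.Mod O)
    (h1 : ModSite.IsNullOn O U T) (h2 : ModSite.IsNullOn O V T) : IsZero T := by
  rw [ExtSupp.isNullOn_iff] at h1 h2
  have key : ∀ (W : C) (t : T.val.obj (op W)), t = 0 := by
    intro W t
    refine eq_zero_of_cover O T t _ (hUV W) (fun W' g hg => ?_)
    obtain ⟨b, ⟨k⟩⟩ := hg
    cases b with
    | true => exact (h1 k _).trans (h1 k _).symm
    | false => exact (h2 k _).trans (h2 k _).symm
  rw [IsZero.iff_id_eq_zero]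
  apply (SheafOfModules.toSheaf _).map_injective
  ext W t
  exact (key _ _).trans (key _ _).symm

/-- `(j_! j^* M)/(…)_U ⟶ M/M_U` is an isomorphism when `V` is subterminal and `U`, `V` cover -/
theorem isIso_quotOn_map_counit (hV : ∀ X : C, Subsingleton (X ⟶ V))
    (hUV : J.CoversTop (fun b : Bool => cond b U V)) (M : ModSite.Mod O) :
    IsIso ((ModSite.quotOn O U).map ((ModSite.extZeroAdj O V).counit.app M)) := by
  haveI := mono_counit O V hV M
  haveI : Mono ((ModSite.quotOn O U).map ((ModSite.extZeroAdj O V).counit.app M)) :=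
    QuotExact.mono_quotOn_map O U _
  have hS := ExtSupp.openSeq_exact V M
  haveI : (ModSite.quotOn O U).IsLeftAdjoint := (QuotSectAdj.adj O U).isLeftAdjoint
  haveI : (ModSite.quotOn O U).PreservesZeroMorphisms := inferInstance
  have hex : ((ExtSupp.openSeq V M).map (ModSite.quotOn O U)).Exact :=
    hS.1.map_of_epi_of_preservesCokernel _ hS.2 inferInstance
  have hz : IsZero ((ModSite.quotOn O U).obj ((ModSite.quotOn O V).obj M)) := by
    refine isZero_of_isNullOn O U V hUV _ (ExtSupp.isNullOn_quotOn O U _) ?_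
    have h0 : IsZero ((ModSite.restr O V).obj ((ModSite.quotOn O V).obj M)) :=
      ExtSupp.isNullOn_quotOn O V M
    haveI := RestrExact.epi_restr_map O V
      ((ModSite.quotOnπ O U).app ((ModSite.quotOn O V).obj M))
    exact IsZero.of_epi
      ((ModSite.restr O V).map ((ModSite.quotOnπ O U).app ((ModSite.quotOn O V).obj M))) h0
  haveI : Epi ((ModSite.quotOn O U).map ((ModSite.extZeroAdj O V).counit.app M)) :=
    hex.epi_f (hz.eq_of_tgt _ _)
  exact isIso_of_mono_of_epi _

/-- excision for `Ext` with supports -/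
theorem main [h1 : HasExt.{w} (ModSite.Mod O)] [h2 : HasExt.{w'} (ModSite.Mod (O.over V))]
    (hV : ∀ X : C, Subsingleton (X ⟶ V)) (hUV : J.CoversTop (fun b : Bool => cond b U V))
    (M N : ModSite.Mod O) (i : ℕ) :
    Nonempty (ExtSupp.ExtZ U M N i ≃+ ExtSupp.ExtZover V (UX U V) M N i) := by
  haveI := hasBinaryProducts_over V hV
  haveI : ModSite.HasPushOver (O.over V) (UX U V) := inferInstance
  obtain ⟨e1⟩ := nonempty_quotOn_extZero_iso O U V
  haveI := isIso_quotOn_map_counit O U V hV hUV M
  let i1 : (ModSite.quotOn O U).obj ((ModSite.extZero O V).obj ((ModSite.restr O V).obj M)) ≅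
      (ModSite.quotOn O U).obj M :=
    asIso ((ModSite.quotOn O U).map ((ModSite.extZeroAdj O V).counit.app M))
  let i2 : (ModSite.extZero O V).obj
      ((ModSite.quotOn (O.over V) (UX U V)).obj ((ModSite.restr O V).obj M)) ≅
      (ModSite.quotOn O U).obj M :=
    (e1.app ((ModSite.restr O V).obj M)).symm ≪≫ i1
  obtain ⟨e3⟩ := RestrExt.nonempty_addEquiv.{w', w} O V
    ((ModSite.quotOn (O.over V) (UX U V)).obj ((ModSite.restr O V).obj M)) N i
  exact ⟨(ModUnitExt.extPrecompIso i2 N i).trans e3⟩

end Main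

end Groth.Agent.Helper9.ExtZExcision
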