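import Mathlib
import Groth.Agent.Helper1.Horseshoe
import Groth.Agent.Helper1.DerLES
import Groth.Agent.Helper1.RDAdd

/-!
# Objects of bounded dimension for a left exact functor

`Dim F j X` means `RⁱF(X) = 0` for all `i > j`.
-/

set_option autoImplicit false

namespace Groth.Agent.Helper9.FAc1

open CategoryTheory Category Limits Groth.Agent.Helper1 Groth.Agent.Helper1.DeltaCmp

universe v u v' u'

variable {A : Type u} [Category.{v} A] [Abelian A] [HasInjectiveResolutions A]
  {B : Type u'} [Category.{v'} B] [Abelian B] (F : A ⥤ B) [F.Additive]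

/-- `RⁱF(X) = 0` for all `i > j` -/
def Dim (j : ℕ) (X : A) : Prop := ∀ i : ℕ, j < i → IsZero ((F.rightDerived i).obj X)

omit [HasInjectiveResolutions A] in
theorem enoughInjectives_of_hasInjectiveResolutions [HasInjectiveResolutions A] :
    EnoughInjectives A where
  presentation X := by
    obtain ⟨I⟩ := (HasInjectiveResolutions.out X).out
    exact ⟨{ J := I.cocomplex.X 0
             injective := I.injective 0
             f := I.ι.f 0
             mono := inferInstanceAs (Mono (I.ι.f 0)) }⟩

variable {F}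

lemma dim_mono {j k : ℕ} (hjk : j ≤ k) {X : A} (h : Dim F j X) : Dim F k X :=
  fun i hi => h i (lt_of_le_of_lt hjk hi)

lemma dim_of_iso {j : ℕ} {X Y : A} (e : X ≅ Y) (h : Dim F j X) : Dim F j Y :=
  fun i hi => (h i hi).of_iso ((F.rightDerived i).mapIso e.symm)

lemma dim_of_isZero {j : ℕ} {X : A} (h : IsZero X) : Dim F j X := fun i _ => by
  haveI : (F.rightDerived i).Additive := RDAdd.rightDerived_additive F i
  exact Functor.map_isZero _ h

lemma dim_of_injective (j : ℕ) (X : A) [Injective X] : Dim F j X := fun i hi => by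
  obtain ⟨i', rfl⟩ : ∃ i', i = i' + 1 := ⟨i - 1, by omega⟩
  exact F.isZero_rightDerived_obj_injective_succ i' X

lemma dim_biprod {j : ℕ} {X Y : A} (hX : Dim F j X) (hY : Dim F j Y) : Dim F j (X ⊞ Y) :=
  fun i hi => by
    haveI : (F.rightDerived i).Additive := RDAdd.rightDerived_additive F i
    haveI : PreservesBinaryBiproducts (F.rightDerived i) :=
      preservesBinaryBiproducts_of_preservesBiproducts _
    refine IsZero.of_iso ?_ ((F.rightDerived i).mapBiprod X Y)
    rw [IsZero.iff_id_eq_zero]
    apply biprod.hom_ext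
    · exact (hX i hi).eq_of_tgt _ _
    · exact (hY i hi).eq_of_tgt _ _

/-- dimension shifting -/
lemma dim_X₃ {S : ShortComplex A} (hS : S.ShortExact) {j : ℕ} (h₂ : Dim F 0 S.X₂)
    (h₁ : Dim F (j + 1) S.X₁) : Dim F j S.X₃ := fun i hi => by
  obtain ⟨i', rfl⟩ : ∃ i', i = i' + 1 := ⟨i - 1, by omega⟩
  exact DerLES.isZero_rightDerived_X₃ F S hS i' (h₂ _ (by omega)) (h₁ _ (by omega))

variable (F)

/-- if `RⁿF = 0`, then `RⁱF = 0` for all `i ≥ n` -/
theorem isZero_rightDerived_of_le (n : ℕ) (hn : ∀ X : A, IsZero ((F.rightDerived n).obj X))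
    (i : ℕ) (hi : n ≤ i) (X : A) : IsZero ((F.rightDerived i).obj X) := by
  haveI := enoughInjectives_of_hasInjectiveResolutions (A := A)
  induction i, hi using Nat.le_induction generalizing X with
  | base => exact hn X
  | succ i _ ih =>
    let S : ShortComplex A := ShortComplex.mk (Injective.ι X) (cokernel.π (Injective.ι X))
      (cokernel.condition _)
    have hS : S.ShortExact :=
      { exact := ShortComplex.exact_cokernel _ }
    obtain ⟨δ, w₁, w₂, e₁, e₂⟩ := Horseshoe.hasLES_rightDerived F S hS i
    exact e₂.isZero_of_both_zeros ((ih S.X₃).eq_of_src _ _)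
      ((F.isZero_rightDerived_obj_injective_succ i (Injective.under X)).eq_of_tgt _ _)

theorem dim_all (n : ℕ) (hn : ∀ X : A, IsZero ((F.rightDerived n).obj X)) (X : A) :
    Dim F n X := fun i hi => isZero_rightDerived_of_le F n hn i hi.le X

end Groth.Agent.Helper9.FAc1
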