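import Mathlib

/-!
# Embedding a cochain complex into a complex of injectives

With enough injectives, every cochain complex `K` admits a degreewise monomorphism into a
complex with injective terms.
-/

set_option autoImplicit false

namespace Groth.Agent.Helper9.FAc2

open CategoryTheory Category Limits HomologicalComplex

universe v u

variable {A : Type u} [Category.{v} A] [Abelian A] [EnoughInjectives A]
  (K : CochainComplex A ℤ)

/-- the injective objects -/
noncomputable abbrev J (p : ℤ) : A := Injective.under (K.X p)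

/-- the differential of the complex of injectives -/
noncomputable def D (p : ℤ) : J K p ⊞ J K (p + 1) ⟶ J K (p + 1) ⊞ J K (p + 1 + 1) :=
  biprod.snd ≫ biprod.inl

lemma D_D (p : ℤ) : D K p ≫ D K (p + 1) = 0 := by
  simp [D]

/-- a complex of injectives (which happens to be contractible) -/
noncomputable def C : CochainComplex A ℤ :=
  CochainComplex.of (fun p => J K p ⊞ J K (p + 1)) (D K) (D_D K)

lemma C_d (p : ℤ) : (C K).d p (p + 1) = D K p :=
  CochainComplex.of_d (fun p => J K p ⊞ J K (p + 1)) (D K) p

instance (p : ℤ) : Injective ((C K).X p) :=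
  inferInstanceAs (Injective (J K p ⊞ J K (p + 1)))

/-- the embedding, degreewise -/
noncomputable def ιf (p : ℤ) : K.X p ⟶ J K p ⊞ J K (p + 1) :=
  biprod.lift (Injective.ι (K.X p)) (K.d p (p + 1) ≫ Injective.ι (K.X (p + 1)))

lemma ιf_fst (p : ℤ) : ιf K p ≫ biprod.fst = Injective.ι (K.X p) := biprod.lift_fst _ _

lemma ιf_snd (p : ℤ) : ιf K p ≫ biprod.snd = K.d p (p + 1) ≫ Injective.ι (K.X (p + 1)) :=
  biprod.lift_snd _ _

instance (p : ℤ) : Mono (ιf K p) := mono_of_mono_fac (ιf_fst K p)

lemma ιf_D (p : ℤ) : ιf K p ≫ D K p = K.d p (p + 1) ≫ ιf K (p + 1) := by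
  apply biprod.hom_ext
  · rw [assoc, assoc, ιf_fst, D, assoc, biprod.inl_fst, comp_id, ιf_snd]
  · rw [assoc, assoc, ιf_snd, D, assoc, biprod.inl_snd, comp_zero, comp_zero,
      K.d_comp_d_assoc, zero_comp]

/-- the embedding -/
noncomputable def ι : K ⟶ C K where
  f := ιf K
  comm' p q hpq := by
    obtain rfl : p + 1 = q := hpq
    rw [C_d]
    exact ιf_D K p

instance (p : ℤ) : Mono ((ι K).f p) := inferInstanceAs (Mono (ιf K p))

instance : Mono (ι K) := HomologicalComplex.mono_of_mono_f _ inferInstance

/-- the short exact sequence `0 → K → C K → C K / K → 0` -/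
noncomputable def S : ShortComplex (CochainComplex A ℤ) :=
  ShortComplex.mk (ι K) (cokernel.π (ι K)) (cokernel.condition _)

lemma S_shortExact : (S K).ShortExact where
  exact := ShortComplex.exact_cokernel _
  mono_f := inferInstanceAs (Mono (ι K))
  epi_g := inferInstanceAs (Epi (cokernel.π (ι K)))

/-- the quotient -/
noncomputable abbrev Q : CochainComplex A ℤ := (S K).X₃

/-- the degreewise short exact sequences -/
lemma shortExact_eval (p : ℤ) :
    ((S K).map (HomologicalComplex.eval A (ComplexShape.up ℤ) p)).ShortExact :=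
  (S_shortExact K).map_of_exact _

end Groth.Agent.Helper9.FAc2
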