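import Mathlib
import Groth.Agent.Helper9.FAc1

/-!
# A left exact functor of finite cohomological dimension preserves acyclic complexes of acyclic
objects
-/

set_option autoImplicit false

namespace Groth.Agent.Helper9.FAc3

open CategoryTheory Category Limits HomologicalComplex Groth.Agent.Helper1
  Groth.Agent.Helper9.FAc1

universe v u v' u'

variable {A : Type u} [Category.{v} A] [Abelian A]
  (K : CochainComplex A ℤ)

/-- the cycles -/
noncomputable abbrev Z (p : ℤ) : A := kernel (K.d p (p + 1))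

/-- `K.X p ⟶ Z (p + 1)` -/
noncomputable def toZ (p : ℤ) : K.X p ⟶ Z K (p + 1) :=
  kernel.lift _ (K.d p (p + 1)) (K.d_comp_d _ _ _)

@[reassoc (attr := simp)]
lemma toZ_ι (p : ℤ) : toZ K p ≫ kernel.ι (K.d (p + 1) (p + 1 + 1)) = K.d p (p + 1) :=
  kernel.lift_ι _ _ _

@[reassoc (attr := simp)]
lemma ι_toZ (p : ℤ) : kernel.ι (K.d p (p + 1)) ≫ toZ K p = 0 := by
  rw [← cancel_mono (kernel.ι (K.d (p + 1) (p + 1 + 1))), assoc, toZ_ι, kernel.condition,
    zero_comp]

/-- the short complex `0 → Z p → K.X p → Z (p + 1) → 0` -/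
noncomputable def S (p : ℤ) : ShortComplex A :=
  ShortComplex.mk (kernel.ι (K.d p (p + 1))) (toZ K p) (ι_toZ K p)

lemma S_exact (p : ℤ) : (S K p).Exact := by
  apply ShortComplex.exact_of_f_is_kernel
  exact isKernelOfComp (kernel.ι (K.d (p + 1) (p + 1 + 1))) (K.d p (p + 1))
    (kernelIsKernel (K.d p (p + 1))) (ι_toZ K p) (toZ_ι K p)

lemma epi_toZ (p : ℤ) (h : K.ExactAt (p + 1)) : Epi (toZ K p) := by
  rw [K.exactAt_iff' p (p + 1) (p + 1 + 1) (by simp) (by simp)] at h
  exact h.epi_kernelLift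

lemma S_shortExact (hK : ∀ p, K.ExactAt p) (p : ℤ) : (S K p).ShortExact where
  exact := S_exact K p
  mono_f := inferInstanceAs (Mono (kernel.ι _))
  epi_g := epi_toZ K p (hK _)

variable [HasInjectiveResolutions A]
  {B : Type u'} [Category.{v'} B] [Abelian B] (F : A ⥤ B) [F.Additive]

/-- downward induction on the dimension of the cycles -/
lemma dim_Z (hK : ∀ p, K.ExactAt p) (hX : ∀ p, Dim F 0 (K.X p)) (j : ℕ)
    (hj : ∀ p, Dim F j (Z K p)) : ∀ p, Dim F 0 (Z K p) := by
  induction j with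
  | zero => exact hj
  | succ j ih =>
    apply ih
    intro p
    have := dim_X₃ (S_shortExact K hK (p - 1)) (hX (p - 1)) (hj (p - 1))
    have e : (S K (p - 1)).X₃ = Z K p := by
      dsimp [S]
      rw [sub_add_cancel]
    rw [← e]
    exact this

variable [PreservesFiniteLimits F]

/-- if the cycles have no `R¹F`, the image of the complex is exact -/
lemma map_exactAt (hK : ∀ p, K.ExactAt p)
    (hZ : ∀ p, IsZero ((F.rightDerived 1).obj (Z K p))) (p : ℤ) :
    (((F.mapHomologicalComplex (ComplexShape.up ℤ)).obj K).sc' p (p + 1) (p + 1 + 1)).Exact := by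
  have h₁ : ((S K p).map F).ShortExact := DerLES.shortExact_map F _ (S_shortExact K hK p) (hZ p)
  haveI : Epi (F.map (toZ K p)) := h₁.epi_g
  -- the kernel of `F(d)`
  have hker : IsLimit (KernelFork.ofι (F.map (kernel.ι (K.d (p + 1) (p + 1 + 1))))
      (by rw [← F.map_comp, kernel.condition, F.map_zero]) :
        KernelFork (F.map (K.d (p + 1) (p + 1 + 1)))) :=
    (KernelFork.mapIsLimit _ (kernelIsKernel (K.d (p + 1) (p + 1 + 1))) F)
  let S₂ : ShortComplex B := ShortComplex.mk (F.map (kernel.ι (K.d (p + 1) (p + 1 + 1))))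
    (F.map (K.d (p + 1) (p + 1 + 1))) (by rw [← F.map_comp, kernel.condition, F.map_zero])
  have hS₂ : S₂.Exact := ShortComplex.exact_of_f_is_kernel _ hker
  let S₁ : ShortComplex B := ShortComplex.mk (F.map (K.d p (p + 1)))
    (F.map (K.d (p + 1) (p + 1 + 1))) (by rw [← F.map_comp, K.d_comp_d, F.map_zero])
  let φ : S₁ ⟶ S₂ :=
    { τ₁ := F.map (toZ K p)
      τ₂ := 𝟙 _
      τ₃ := 𝟙 _
      comm₁₂ := by
        dsimp [S₁, S₂]
        rw [comp_id, ← F.map_comp, toZ_ι]
      comm₂₃ := by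
        dsimp [S₁, S₂]
        rw [comp_id, id_comp] }
  haveI : Epi φ.τ₁ := inferInstanceAs (Epi (F.map (toZ K p)))
  haveI : IsIso φ.τ₂ := inferInstanceAs (IsIso (𝟙 _))
  haveI : Mono φ.τ₃ := inferInstanceAs (Mono (𝟙 _))
  have hS₁ : S₁.Exact := (ShortComplex.exact_iff_of_epi_of_isIso_of_mono φ).2 hS₂
  exact hS₁

/-- `F` preserves acyclic complexes with `F`-acyclic terms, when `RⁿF = 0`. -/
theorem map_acyclic (n : ℕ) (hn : ∀ X : A, IsZero ((F.rightDerived n).obj X))
    (hK : ∀ p, K.ExactAt p) (hX : ∀ p, Dim F 0 (K.X p)) (p : ℤ) :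
    ((F.mapHomologicalComplex (ComplexShape.up ℤ)).obj K).ExactAt p := by
  have hZ : ∀ p, Dim F 0 (Z K p) := dim_Z K F hK hX n (fun p => dim_all F n hn _)
  have := map_exactAt K F hK (fun p => hZ p 1 Nat.zero_lt_one) (p - 1)
  rw [HomologicalComplex.exactAt_iff' _ (p - 1) p (p + 1) (by simp) (by simp)]
  have e : p - 1 + 1 = p := sub_add_cancel p 1
  rw [e] at this
  exact this

end Groth.Agent.Helper9.FAc3
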