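import Mathlib

/-!
# A right derivability structure from right resolutions in a triangulated category

Dual of `LDeriv2`, with the relative resolutions deduced from the absolute ones.
-/

set_option autoImplicit false
set_option linter.style.haveILetI false
set_option linter.unusedSectionVars false

namespace Groth.Agent.Helper9.RDeriv2

open CategoryTheory Category Limits Pretriangulated ObjectProperty ZeroObject

variable {C : Type*} [Category C] [HasZeroObject C] [HasShift C ℤ] [Preadditive C]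
  [∀ n : ℤ, (shiftFunctor C n).Additive] [Pretriangulated C] [IsTriangulated C]
  (A B : ObjectProperty C) [A.IsTriangulated] [A.IsClosedUnderIsomorphisms]
  [B.IsTriangulated] [B.IsClosedUnderIsomorphisms]

/-- right resolutions: any object admits a `B.trW`-morphism to an object of `A`. -/
structure HasRes : Prop where
  exists_res : ∀ (X : C), ∃ (P : C) (q : X ⟶ P), A P ∧ B.trW q

variable {A B}

/-- a relative right resolution of the first morphism of a distinguished triangle, from a right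
resolution of its cone -/
lemma exists_relRes_of_cone (T : Triangle C) (hT : T ∈ distTriang C) (hP₀ : A T.obj₂)
    {R : C} (r : T.obj₃ ⟶ R) (hR : A R) (hr : B.trW r) :
    ∃ (P : C) (q : T.obj₁ ⟶ P) (π : P ⟶ T.obj₂), A P ∧ B.trW q ∧ q ≫ π = T.mor₁ := by
  obtain ⟨P, hP, π, l, hT'⟩ := A.distinguished_cocone_triangle₁ (T.mor₂ ≫ r) hP₀ hR
  obtain ⟨c, hc, comm₃'⟩ : ∃ (c : (shiftFunctor C (1 : ℤ)).obj T.obj₁ ⟶
      (shiftFunctor C (1 : ℤ)).obj P),
      B.trW c ∧ (-(shiftFunctor C (1 : ℤ)).map T.mor₁) ≫ (shiftFunctor C (1 : ℤ)).map (𝟙 T.obj₂) =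
        c ≫ (-(shiftFunctor C (1 : ℤ)).map π) := by
    obtain ⟨c, hc, -, comm₃⟩ :=
      MorphismProperty.compatible_with_triangulation (W := B.trW) _ _
        (rot_of_distTriang _ hT) (rot_of_distTriang _ hT') (𝟙 T.obj₂) r
        (MorphismProperty.id_mem _ _) hr
        (by change T.mor₂ ≫ r = 𝟙 T.obj₂ ≫ T.mor₂ ≫ r; rw [id_comp])
    exact ⟨c, hc, comm₃⟩
  obtain ⟨q, hq⟩ := (shiftFunctor C (1 : ℤ)).map_surjective c
  subst hq
  refine ⟨P, q, π, hP, hc.unshift, ?_⟩
  apply (shiftFunctor C (1 : ℤ)).map_injective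
  rw [CategoryTheory.Functor.map_id, comp_id, Preadditive.comp_neg, neg_inj] at comm₃'
  rw [CategoryTheory.Functor.map_comp, ← comm₃']

variable (h : HasRes A B)

include h

/-- relative right resolutions -/
lemma exists_relRes {X P₀ : C} (f₀ : X ⟶ P₀) (hP₀ : A P₀) :
    ∃ (P : C) (q : X ⟶ P) (π : P ⟶ P₀), A P ∧ B.trW q ∧ q ≫ π = f₀ := by
  obtain ⟨T, g, k, hT⟩ := distinguished_cocone_triangle f₀
  obtain ⟨R, r, hR, hr⟩ := h.exists_res T
  exact exists_relRes_of_cone (Triangle.mk f₀ g k) hT hP₀ r hR hr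

lemma hasRightResolutions : (A.triangulatedLocalizerMorphism B).HasRightResolutions := by
  intro X
  obtain ⟨P, q, hP, hq⟩ := h.exists_res X
  exact ⟨{ X₁ := ⟨P, hP⟩, w := q, hw := hq }⟩

lemma trW_inf_of_trW {X Y : C} (s : X ⟶ Y) (hX : A X) (hY : A Y) (hs : B.trW s) :
    (A ⊓ B).trW s := by
  obtain ⟨Z, hZ, b, c, hT⟩ := A.distinguished_cocone_triangle s hX hY
  exact ⟨Z, b, c, hT, hZ, (B.trW_iff_of_distinguished _ hT).1 hs⟩

lemma isVerdierRightLocalizing : A.IsVerdierRightLocalizing B := by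
  rw [isVerdierRightLocalizing_iff]
  intro X Y s hX hs
  obtain ⟨Z, a, hZ, ha⟩ := h.exists_res Y
  exact ⟨Z, s ≫ a, a, hZ, trW_inf_of_trW h _ hX hZ (B.trW.comp_mem _ _ hs ha), rfl⟩

lemma isLocalizedEquivalence : (A.triangulatedLocalizerMorphism B).IsLocalizedEquivalence := by
  haveI := isVerdierRightLocalizing h
  haveI := hasRightResolutions h
  let Φ := A.triangulatedLocalizerMorphism B
  let L₁ := (B.inverseImage A.ι).trW.Q
  let L₂ := B.trW.Q
  let G := Φ.localizedFunctor L₁ L₂
  haveI : G.Full := inferInstance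
  haveI : G.Faithful := inferInstance
  haveI : (Φ.functor ⋙ L₂).EssSurj := Φ.essSurj_of_hasRightResolutions L₂
  haveI : (L₁ ⋙ G).EssSurj := Functor.essSurj_of_iso (CatCommSq.iso Φ.functor L₁ L₂ G)
  haveI : G.EssSurj := ⟨fun Y => by
      obtain ⟨X, ⟨e⟩⟩ := Functor.EssSurj.mem_essImage (F := L₁ ⋙ G) Y
      exact ⟨L₁.obj X, ⟨e⟩⟩⟩
  haveI : G.IsEquivalence := { }
  exact LocalizerMorphism.IsLocalizedEquivalence.mk' Φ L₁ L₂ G

lemma exists_prod {P₁ P₂ X : C} (w₁ : X ⟶ P₁) (w₂ : X ⟶ P₂) (h₁ : A P₁) (h₂ : A P₂) :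
    ∃ (P : C) (p₁ : P ⟶ P₁) (p₂ : P ⟶ P₂) (q : X ⟶ P), A P ∧ B.trW q ∧ q ≫ p₁ = w₁ ∧
      q ≫ p₂ = w₂ := by
  have h₁₂ : A (P₁ ⊞ P₂) :=
    A.ext_of_isTriangulatedClosed₂ _ (binaryBiproductTriangle_distinguished P₁ P₂) h₁ h₂
  obtain ⟨P, q, π, hP, hq, fac⟩ := exists_relRes h (biprod.lift w₁ w₂) h₁₂
  refine ⟨P, π ≫ biprod.fst, π ≫ biprod.snd, q, hP, hq, ?_, ?_⟩
  · rw [reassoc_of% fac, biprod.lift_fst]
  · rw [reassoc_of% fac, biprod.lift_snd]

lemma isConnected_rightResolution (X : C) :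
    IsConnected ((A.triangulatedLocalizerMorphism B).RightResolution X) := by
  haveI : Nonempty ((A.triangulatedLocalizerMorphism B).RightResolution X) :=
    hasRightResolutions h X
  refine zigzag_isConnected (fun R₁ R₂ => ?_)
  obtain ⟨P, p₁, p₂, q, hP, hq, fac₁, fac₂⟩ :=
    exists_prod h R₁.w R₂.w R₁.X₁.property R₂.X₁.property
  let R : (A.triangulatedLocalizerMorphism B).RightResolution X :=
    { X₁ := ⟨P, hP⟩, w := q, hw := hq }
  let φ₁ : R ⟶ R₁ := { f := A.homMk p₁, comm := fac₁ }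
  let φ₂ : R ⟶ R₂ := { f := A.homMk p₂, comm := fac₂ }
  exact (Zigzag.of_inv φ₁).trans (Zigzag.of_hom φ₂)

lemma hasRightResolutions_arrow :
    (A.triangulatedLocalizerMorphism B).arrow.HasRightResolutions := by
  intro f
  obtain ⟨Q, q, hQ, hq⟩ := h.exists_res f.right
  obtain ⟨P, p, π, hP, hp, fac⟩ := exists_relRes h (f.hom ≫ q) hQ
  exact ⟨{ X₁ := Arrow.mk (A.homMk π : (⟨P, hP⟩ : A.FullSubcategory) ⟶ ⟨Q, hQ⟩)
           w := Arrow.homMk p q fac
           hw := ⟨hp, hq⟩ }⟩

theorem isRightDerivabilityStructure :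
    (A.triangulatedLocalizerMorphism B).IsRightDerivabilityStructure := by
  haveI := isLocalizedEquivalence h
  haveI := hasRightResolutions_arrow h
  haveI := isConnected_rightResolution h
  exact LocalizerMorphism.IsRightDerivabilityStructure.mk' _

/-- A functor which inverts the `B.trW`-morphisms between objects of `A` has a right derived
functor with respect to `B.trW`. -/
theorem hasRightDerivedFunctor {H : Type*} [Category H] (F : C ⥤ H)
    (hF : ∀ {X Y : C} (s : X ⟶ Y), A X → A Y → B.trW s → IsIso (F.map s)) :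
    F.HasRightDerivedFunctor B.trW := by
  haveI := isRightDerivabilityStructure h
  have hd : (A.triangulatedLocalizerMorphism B).Derives F := by
    intro X Y f hf
    have hf' := (A.triangulatedLocalizerMorphism B).map f hf
    exact hF _ X.property Y.property hf'
  haveI := hd.hasPointwiseRightDerivedFunctor
  infer_instance

/-- The unit of a right derived functor (with respect to `B.trW`) of a functor which inverts the
`B.trW`-morphisms between objects of `A` is an isomorphism on objects of `A`. -/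
theorem isIso_unit_app {H D : Type*} [Category H] [Category D] (F : C ⥤ H)
    (hF : ∀ {X Y : C} (s : X ⟶ Y), A X → A Y → B.trW s → IsIso (F.map s))
    (L : C ⥤ D) [L.IsLocalization B.trW] (RF : D ⥤ H) (α : F ⟶ L ⋙ RF)
    [RF.IsRightDerivedFunctor α B.trW] (P : C) (hP : A P) : IsIso (α.app P) := by
  haveI := isRightDerivabilityStructure h
  have hd : (A.triangulatedLocalizerMorphism B).Derives F := by
    intro X Y f hf
    have hf' := (A.triangulatedLocalizerMorphism B).map f hf
    exact hF _ X.property Y.property hf'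
  exact hd.isIso_of_isRightDerivedFunctor α ⟨P, hP⟩

end Groth.Agent.Helper9.RDeriv2
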