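import Mathlib
import Groth.Agent.Helper9.FAc1
import Groth.Agent.Helper9.FAc2
import Groth.Agent.Helper9.FAc3
import Groth.Agent.Helper9.RDeriv2
import Groth.Agent.Helper9.KFlat3

/-!
# Right derived functors on unbounded derived categories for functors of finite cohomological
dimension

Let `F : A ⥤ B` be a left exact functor between abelian categories, `A` with injective
resolutions, such that `RⁿF = 0` for some `n`. The complexes with `F`-acyclic terms form (up to
isomorphism in the homotopy category) a triangulated subcategory of `K(A)`, every complex has a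
right resolution by such a complex, and `F` preserves the quasi-isomorphisms between them.
-/

set_option autoImplicit false
set_option linter.style.haveILetI false
set_option linter.unusedSectionVars false

namespace Groth.Agent.Helper9.FAc4

open CategoryTheory Category Limits Pretriangulated ObjectProperty HomologicalComplex
  CochainComplex ZeroObject Groth.Agent.Helper9.FAc1

universe w w' v u v' u'

variable {A : Type u} [Category.{v} A] [Abelian A] [HasInjectiveResolutions A]
  {B : Type u'} [Category.{v'} B] [Abelian B] (F : A ⥤ B) [F.Additive]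

/-- objects of `K(A)` isomorphic to complexes with `F`-acyclic terms -/
def AF : ObjectProperty (HomotopyCategory A (ComplexShape.up ℤ)) := fun Z =>
  ∃ L : CochainComplex A ℤ, (∀ p, Dim F 0 (L.X p)) ∧
    Nonempty (Z ≅ (HomotopyCategory.quotient A (ComplexShape.up ℤ)).obj L)

lemma af_quotient_obj (L : CochainComplex A ℤ) (hL : ∀ p, Dim F 0 (L.X p)) :
    AF F ((HomotopyCategory.quotient A (ComplexShape.up ℤ)).obj L) := ⟨L, hL, ⟨Iso.refl _⟩⟩

instance : (AF F).IsClosedUnderIsomorphisms where
  of_iso e := by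
    rintro ⟨L, hL, ⟨e'⟩⟩
    exact ⟨L, hL, ⟨e.symm ≪≫ e'⟩⟩

instance : (AF F).ContainsZero where
  exists_zero := ⟨(HomotopyCategory.quotient _ _).obj 0,
    Functor.map_isZero _ (isZero_zero _), af_quotient_obj F 0 (fun p => dim_of_isZero
      (Functor.map_isZero (HomologicalComplex.eval A (ComplexShape.up ℤ) p) (isZero_zero _)))⟩

instance : (AF F).IsStableUnderShift ℤ where
  isStableUnderShiftBy n :=
    { le_shift := fun X hX => by
        obtain ⟨L, hL, ⟨e⟩⟩ := hX
        exact ⟨L⟦n⟧, fun p => hL _, ⟨(CategoryTheory.shiftFunctor (HomotopyCategory A (ComplexShape.up ℤ)) n).mapIso e ≪≫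
          (((HomotopyCategory.quotient A (ComplexShape.up ℤ)).commShiftIso n).app L).symm⟩⟩ }

lemma dim_mappingCone {K L : CochainComplex A ℤ} (φ : K ⟶ L) (hK : ∀ p, Dim F 0 (K.X p))
    (hL : ∀ p, Dim F 0 (L.X p)) (p : ℤ) : Dim F 0 ((mappingCone φ).X p) :=
  dim_of_iso (homotopyCofiber.XIsoBiprod φ p (p + 1) rfl).symm (dim_biprod (hK _) (hL _))

instance : (AF F).IsTriangulatedClosed₃ := .mk' (by
  rintro T hT ⟨K, hK, ⟨e₁⟩⟩ ⟨L, hL, ⟨e₂⟩⟩
  obtain ⟨φ, hφ⟩ := (HomotopyCategory.quotient A (ComplexShape.up ℤ)).map_surjective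
    (e₁.inv ≫ T.mor₁ ≫ e₂.hom)
  have hT' := HomotopyCategory.mappingCone_triangleh_distinguished φ
  obtain ⟨e, -, -⟩ := exists_iso_of_arrow_iso T _ hT hT'
    (Arrow.isoMk e₁ e₂ (by
      change e₁.hom ≫ (HomotopyCategory.quotient A (ComplexShape.up ℤ)).map φ = T.mor₁ ≫ e₂.hom
      rw [hφ, Iso.hom_inv_id_assoc]))
  exact ⟨mappingCone φ, dim_mappingCone F φ hK hL, ⟨Triangle.π₃.mapIso e⟩⟩)

instance : (AF F).IsTriangulatedClosed₂ := IsTriangulatedClosed₂.of_isTriangulatedClosed₃

instance : (AF F).IsTriangulated where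

/-- right resolutions by complexes with `F`-acyclic terms, by induction on the dimension of the
terms -/
lemma res_of_dim (j : ℕ) : ∀ (K : CochainComplex A ℤ), (∀ p, Dim F j (K.X p)) →
    ∃ (P : HomotopyCategory A (ComplexShape.up ℤ))
      (q : (HomotopyCategory.quotient A (ComplexShape.up ℤ)).obj K ⟶ P),
      AF F P ∧ (HomotopyCategory.subcategoryAcyclic A).trW q := by
  haveI := enoughInjectives_of_hasInjectiveResolutions (A := A)
  induction j with
  | zero =>
    intro K hK
    exact ⟨_, 𝟙 _, af_quotient_obj F K hK, MorphismProperty.id_mem _ _⟩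
  | succ j ih =>
    intro K hK
    have hS := FAc2.S_shortExact K
    have hQ : ∀ p, Dim F j ((FAc2.Q K).X p) := fun p =>
      dim_X₃ (FAc2.shortExact_eval K p) (dim_of_injective 0 ((FAc2.C K).X p)) (hK p)
    obtain ⟨P', r', hP', hr'⟩ := ih (FAc2.Q K) hQ
    have hT := HomotopyCategory.mappingCone_triangleh_distinguished (FAc2.ι K)
    have hdesc : (HomotopyCategory.subcategoryAcyclic A).trW
        ((HomotopyCategory.quotient A (ComplexShape.up ℤ)).map
          (mappingCone.descShortComplex (FAc2.S K))) := by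
      rw [← HomotopyCategory.quasiIso_eq_trW_subcategoryAcyclic,
        HomotopyCategory.quotient_map_mem_quasiIso_iff, HomologicalComplex.mem_quasiIso_iff]
      exact mappingCone.quasiIso_descShortComplex hS
    obtain ⟨P, q, π, hP, hq, -⟩ := RDeriv2.exists_relRes_of_cone (A := AF F)
      (B := HomotopyCategory.subcategoryAcyclic A) _ hT
      (af_quotient_obj F (FAc2.C K) (fun p => dim_of_injective 0 ((FAc2.C K).X p)))
      ((HomotopyCategory.quotient A (ComplexShape.up ℤ)).map
          (mappingCone.descShortComplex (FAc2.S K)) ≫ r') hP'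
      (MorphismProperty.comp_mem _ _ _ hdesc hr')
    exact ⟨P, q, hP, hq⟩

variable (n : ℕ) (hn : ∀ X : A, IsZero ((F.rightDerived n).obj X))

include hn

theorem hasRes : RDeriv2.HasRes (AF F) (HomotopyCategory.subcategoryAcyclic A) where
  exists_res X := by
    obtain ⟨K, rfl⟩ : ∃ K, X = (HomotopyCategory.quotient A (ComplexShape.up ℤ)).obj K :=
      ⟨X.as, rfl⟩
    exact res_of_dim F n K (fun p => dim_all F n hn _)

variable [PreservesFiniteLimits F]

/-- `F` preserves quasi-isomorphisms between complexes with `F`-acyclic terms -/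
lemma quasiIso_map {K L : CochainComplex A ℤ} (φ : K ⟶ L) (hK : ∀ p, Dim F 0 (K.X p))
    (hL : ∀ p, Dim F 0 (L.X p)) [QuasiIso φ] :
    QuasiIso ((F.mapHomologicalComplex (ComplexShape.up ℤ)).map φ) := by
  rw [KFlat3.quasiIso_iff_acyclic_mappingCone]
  have hc : (mappingCone φ).Acyclic := (KFlat3.quasiIso_iff_acyclic_mappingCone φ).1 inferInstance
  intro p
  exact (FAc3.map_acyclic (mappingCone φ) F n hn hc (dim_mappingCone F φ hK hL) p).of_iso
    (mappingCone.mapHomologicalComplexIso φ F)

variable [HasDerivedCategory.{w'} B]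

theorem isIso_map {X Y : HomotopyCategory A (ComplexShape.up ℤ)} (s : X ⟶ Y)
    (hX : AF F X) (hY : AF F Y) (hs : (HomotopyCategory.subcategoryAcyclic A).trW s) :
    IsIso ((F.mapHomotopyCategory (ComplexShape.up ℤ) ⋙ DerivedCategory.Qh).map s) := by
  obtain ⟨K, hK, ⟨e₁⟩⟩ := hX
  obtain ⟨L, hL, ⟨e₂⟩⟩ := hY
  obtain ⟨φ, hφ⟩ := (HomotopyCategory.quotient A (ComplexShape.up ℤ)).map_surjective
    (e₁.inv ≫ s ≫ e₂.hom)
  haveI : QuasiIso φ := by
    have h1 : (HomotopyCategory.subcategoryAcyclic A).trW
        ((HomotopyCategory.quotient A (ComplexShape.up ℤ)).map φ) := by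
      rw [hφ]
      exact MorphismProperty.comp_mem _ _ _ (ObjectProperty.trW_of_isIso _ _)
        (MorphismProperty.comp_mem _ _ _ hs (ObjectProperty.trW_of_isIso _ _))
    rw [← HomotopyCategory.quasiIso_eq_trW_subcategoryAcyclic,
      HomotopyCategory.quotient_map_mem_quasiIso_iff, HomologicalComplex.mem_quasiIso_iff] at h1
    exact h1
  haveI := quasiIso_map F n hn φ hK hL
  have h1 : IsIso ((F.mapHomotopyCategory (ComplexShape.up ℤ) ⋙ DerivedCategory.Qh).map
      ((HomotopyCategory.quotient A (ComplexShape.up ℤ)).map φ)) := by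
    rw [Functor.comp_map, Functor.mapHomotopyCategory_map, DerivedCategory.isIso_Qh_map_iff]
    exact (HomotopyCategory.quotient_map_mem_quasiIso_iff _).2
      ((HomologicalComplex.mem_quasiIso_iff _).2 inferInstance)
  have hs' : s = e₁.hom ≫ (HomotopyCategory.quotient A (ComplexShape.up ℤ)).map φ ≫ e₂.inv := by
    rw [hφ]
    simp
  rw [hs', Functor.map_comp, Functor.map_comp]
  infer_instance

variable [HasDerivedCategory.{w} A]

/-- existence of the right derived functor on the unbounded derived category -/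
theorem hasRightDerivedFunctor :
    (F.mapHomotopyCategory (ComplexShape.up ℤ) ⋙ DerivedCategory.Qh).HasRightDerivedFunctor
      (HomotopyCategory.quasiIso A (ComplexShape.up ℤ)) := by
  rw [HomotopyCategory.quasiIso_eq_trW_subcategoryAcyclic]
  exact RDeriv2.hasRightDerivedFunctor (hasRes F n hn) _
    (fun s hX hY hs => isIso_map F n hn s hX hY hs)

/-- the unit of the right derived functor is an isomorphism on complexes with `F`-acyclic terms -/
theorem isIso_totalRightDerivedUnit_app
    [(F.mapHomotopyCategory (ComplexShape.up ℤ) ⋙ DerivedCategory.Qh).HasRightDerivedFunctor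
      (HomotopyCategory.quasiIso A (ComplexShape.up ℤ))]
    (K : CochainComplex A ℤ) (hK : ∀ p, Dim F 0 (K.X p)) :
    IsIso (((F.mapHomotopyCategory (ComplexShape.up ℤ) ⋙ DerivedCategory.Qh).totalRightDerivedUnit
      DerivedCategory.Qh (HomotopyCategory.quasiIso A (ComplexShape.up ℤ))).app
        ((HomotopyCategory.quotient A (ComplexShape.up ℤ)).obj K)) := by
  let G := F.mapHomotopyCategory (ComplexShape.up ℤ) ⋙ (DerivedCategory.Qh (C := B))
  let W := HomotopyCategory.quasiIso A (ComplexShape.up ℤ)
  let RF := G.totalRightDerived DerivedCategory.Qh W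
  let α := G.totalRightDerivedUnit DerivedCategory.Qh W
  haveI hK' : RF.IsLeftKanExtension α := Functor.IsRightDerivedFunctor.isLeftKanExtension RF α W
  haveI : (DerivedCategory.Qh (C := A)).IsLocalization
      (HomotopyCategory.subcategoryAcyclic A).trW := by
    rw [← HomotopyCategory.quasiIso_eq_trW_subcategoryAcyclic]; infer_instance
  haveI : RF.IsRightDerivedFunctor α (HomotopyCategory.subcategoryAcyclic A).trW := ⟨hK'⟩
  exact RDeriv2.isIso_unit_app (hasRes F n hn) G
    (fun s hX hY hs => isIso_map F n hn s hX hY hs) DerivedCategory.Qh RF α _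
    (af_quotient_obj F K hK)

end Groth.Agent.Helper9.FAc4
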