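import Mathlib
import Groth.Agent.Helper9.FC11

/-! Pointwise relative tor amplitude on `Spec A` over `Spec R` from tor amplitude of the
localized complex over `R`. -/

set_option autoImplicit false
set_option linter.style.haveILetI false
set_option linter.unusedVariables false
set_option linter.unusedSectionVars false
universe u

namespace Groth.Agent.Helper9.FC12

open CategoryTheory CategoryTheory.Limits AlgebraicGeometry HomologicalComplex TensorProduct
open Groth.Agent.Helper3.DRingLib Groth.Agent.Helper9.TorOpen1 Groth.Agent.Helper9.RingProj1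
  Groth.Agent.Helper9.RingProj4 Groth.Agent.Helper9.RLT1 Groth.Agent.Helper9.RLT3
  Groth.Agent.Helper9.RLT5 Groth.Agent.Helper9.TorT1 Groth.Agent.Helper9.FC11
  Groth.Agent.Helper9.StalkTensor9 Groth.Agent.Helper9.Tilde1 Groth.Agent.Helper9.Tilde2

attribute [local instance] HasDerivedCategory.standard

variable {R A : CommRingCat.{u}} (φ : R ⟶ A) [PreservesFiniteLimits (tilde.functor A)]

/-- **pointwise**: tor amplitude of the localized complex over `R` gives relative tor amplitude
at the point -/
theorem hasTorAmplitudeAt_of_Floc (K : DRing.Cx A) (F : CochainComplex (Spec A).Modules ℤ)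
    (e : DCoh.toD (Spec A) F ≅ (DCoh.tildeD A).obj (DRing.toD K)) (a b : ℤ) (x : Spec A)
    (h : letI : Algebra R A := φ.hom.toAlgebra
      DRing.HasTorAmplitudeIn R a b (DRing.toD (Floc (A := R) (pr A x) K))) :
    DerSch.HasTorAmplitudeAt (Spec.map φ) a b F x := by
  letI : Algebra R A := φ.hom.toAlgebra
  letI := stalkAlg A x
  haveI := isLocalization_stalk A x
  let lam : Localization.AtPrime (pr A x) →+* (Spec A).presheaf.stalk x :=
    locLift (pr A x).primeCompl (pr A x).primeCompl le_rfl (Localization.AtPrime (pr A x)) _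
  have hlam : lam.comp (algebraMap A (Localization.AtPrime (pr A x))) = ψ A x :=
    locLift_comp _ _ le_rfl _ _
  have hcomm : lam.comp (algebraMap R (Localization.AtPrime (pr A x))) =
      ((Spec.map φ).stalkMap x).hom.comp (ψ R ((Spec.map φ).base x)) := by
    rw [IsScalarTower.algebraMap_eq R A (Localization.AtPrime (pr A x)), ← RingHom.comp_assoc,
      hlam]
    exact square_comm φ x
  have h1 := down (algebraMap R (Localization.AtPrime (pr A x))) lam
    (ψ R ((Spec.map φ).base x)) ((Spec.map φ).stalkMap x).hom
    (locLift_flat _ _ le_rfl _ _) (flat_ψ R _) (nonempty_ext_rs_iso_ψ R _) hcomm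
    ((extCx (algebraMap A (Localization.AtPrime (pr A x)))).obj K) a b h
  have h2 : DRing.HasTorAmplitudeIn ((Spec R).presheaf.stalk ((Spec.map φ).base x)) a b
      (DRing.toD ((Groth.Agent.Helper9.RingProj1.rCx ((Spec.map φ).stalkMap x).hom).obj
        ((extCx (ψ A x)).obj K))) :=
    hasTorAmplitudeIn_of_iso (DerivedCategory.Q.mapIso
      ((Groth.Agent.Helper9.RingProj1.rCx ((Spec.map φ).stalkMap x).hom).mapIso
        (extCompIso (algebraMap A (Localization.AtPrime (pr A x))) lam (ψ A x)
          hlam.symm K).symm)) _ _ h1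
  exact hasTorAmplitudeIn_of_iso (rCxDIso _ (stalkTildeDIso K F e x)).symm _ _ h2

end Groth.Agent.Helper9.FC12
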