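import Mathlib
import Groth.Prelude.Def_DCoh3
import Groth.Prelude.Def_CxOX
import Groth.Agent.Lead.PcLib2
import Groth.Agent.Lead.PerfLib5
import Groth.Agent.Helper4.TildeExact

/-! Lower bounds (`IsGE`) for objects of `D(O_X)`: restriction to opens, locality, `tildeD`. -/

set_option autoImplicit false
set_option linter.style.haveILetI false
set_option linter.unusedVariables false
set_option linter.unusedSectionVars false
universe u

namespace Groth.Agent.Helper9.FC5

open CategoryTheory CategoryTheory.Limits AlgebraicGeometry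
open Groth.Agent.Lead.PcLib Groth.Agent.Lead.PerfLib

attribute [local instance] HasDerivedCategory.standard

section Restrict

variable {Y Z : Scheme.{u}} (j : Z ⟶ Y) [IsOpenImmersion j]

/-- cohomology sheaves commute with restriction to opens -/
noncomputable def hdRestrictIso (K : DCoh.D Y) (i : ℤ) :
    (DerivedCategory.homologyFunctor Z.Modules i).obj ((DCoh.restrictD j).obj K) ≅
      ((DerivedCategory.homologyFunctor Y.Modules i).obj K).restrict j :=
  (mapDerivedCategoryHomologyIso (Scheme.Modules.restrictFunctor j) i).app K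

theorem isGE_restrictD (K : DCoh.D Y) (a : ℤ) [K.IsGE a] : ((DCoh.restrictD j).obj K).IsGE a := by
  rw [DerivedCategory.isGE_iff]
  intro i hi
  exact IsZero.of_iso (Functor.map_isZero (Scheme.Modules.restrictFunctor j)
    (K.isZero_of_isGE a i hi)) (hdRestrictIso j K i)

end Restrict

/-- `IsGE` is local -/
theorem isGE_of_locally {Y : Scheme.{u}} (K : DCoh.D Y) (a : ℤ)
    (h : ∀ y : Y, ∃ (Z : Scheme.{u}) (j : Z ⟶ Y) (_ : IsOpenImmersion j), y ∈ Set.range j ∧
      ((DCoh.restrictD j).obj K).IsGE a) : K.IsGE a := by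
  rw [DerivedCategory.isGE_iff]
  intro i hi
  apply isZero_of_locally
  intro y
  obtain ⟨Z, j, hj, hy, hGE⟩ := h y
  haveI := hj
  haveI := hGE
  exact ⟨Z, j, hj, hy, IsZero.of_iso (((DCoh.restrictD j).obj K).isZero_of_isGE a i hi)
    (hdRestrictIso j K i).symm⟩

theorem isGE_of_iso {Y : Scheme.{u}} {K K' : DCoh.D Y} (e : K ≅ K') (a : ℤ) [K.IsGE a] :
    K'.IsGE a := by
  rw [DerivedCategory.isGE_iff]
  intro i hi
  exact IsZero.of_iso (K.isZero_of_isGE a i hi)
    ((DerivedCategory.homologyFunctor Y.Modules i).mapIso e.symm)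

section Tilde

variable (R : CommRingCat.{u}) [PreservesFiniteLimits (tilde.functor R)]

theorem isGE_of_isGE_tildeD (M : DerivedCategory (ModuleCat.{u} R)) (a : ℤ)
    [((DCoh.tildeD R).obj M).IsGE a] : M.IsGE a := by
  rw [DerivedCategory.isGE_iff]
  intro i hi
  have h1 : IsZero ((tilde.functor R).obj
      ((DerivedCategory.homologyFunctor (ModuleCat.{u} R) i).obj M)) :=
    IsZero.of_iso (((DCoh.tildeD R).obj M).isZero_of_isGE a i hi)
      ((mapDerivedCategoryHomologyIso (tilde.functor R) i).app M).symm
  exact IsZero.of_full_of_faithful_of_isZero (tilde.functor R) _ h1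

end Tilde

end Groth.Agent.Helper9.FC5
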