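import Mathlib
import Groth.Agent.Helper9.RPBC2
import Groth.Agent.Helper9.FC5
import Groth.Agent.Helper9.FC6

set_option autoImplicit false
set_option linter.style.haveILetI false
set_option linter.unusedVariables false
set_option linter.unusedSectionVars false
universe u

namespace Groth.Agent.Helper9.FC7

noncomputable section

open CategoryTheory CategoryTheory.Limits AlgebraicGeometry HomologicalComplex TensorProduct
open Groth.Agent.Lead.PerfLib Groth.Agent.Lead.PcLib Groth.Agent.Lead.FlatLib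
  Groth.Agent.Helper9.RelTor2 Groth.Agent.Helper9.RPL1 Groth.Agent.Helper9.RPBC1
  Groth.Agent.Helper9.RPBC2

attribute [local instance] HasDerivedCategory.standard
attribute [local instance] Algebra.TensorProduct.rightAlgebra

/-- the residue field of a point of an affine open, as a chart of `Spec κ(s)` -/
theorem exists_resChart {S : Scheme.{u}} {V : S.Opens} (hV : IsAffineOpen V) (p : Spec Γ(S, V)) :
    ∃ (k' : Spec (CommRingCat.of p.asIdeal.ResidueField) ⟶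
        Spec (S.residueField (hV.fromSpec p))), IsIso k' ∧
      Spec.map (CommRingCat.ofHom (algebraMap Γ(S, V) p.asIdeal.ResidueField)) ≫ hV.fromSpec =
        k' ≫ S.fromSpecResidueField (hV.fromSpec p) := by
  refine ⟨Spec.map (hV.fromSpec.residueFieldMap p ≫ (Scheme.Spec.residueFieldIso Γ(S, V) p).hom),
    inferInstance, ?_⟩
  rw [Spec.map_comp, Category.assoc, Scheme.Hom.SpecMap_residueFieldMap_fromSpecResidueField,
    ← Scheme.Spec.map_residueFieldIso_inv_eq_fromSpecResidueField, ← Category.assoc,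
    ← Category.assoc, ← Spec.map_comp, Iso.inv_hom_id, Spec.map_id, Category.id_comp]

/-- a quasi-compact open part of a scheme on which `L` is locally bounded below is bounded
below -/
theorem exists_isGE_restrictD {Y T : Scheme.{u}} [CompactSpace T] (j : T ⟶ Y) [IsOpenImmersion j]
    (L : DCoh.D Y)
    (h : ∀ y : Y, ∃ (W : Y.Opens) (a : ℤ), y ∈ W ∧ ((DCoh.restrictD W.ι).obj L).IsGE a) :
    ∃ a : ℤ, ((DCoh.restrictD j).obj L).IsGE a := by
  choose W a hyW hGE using h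
  obtain ⟨t, ht⟩ := isCompact_univ.elim_finite_subcover
    (fun x : T => ((j ⁻¹ᵁ (W (j x)) : T.Opens) : Set T)) (fun x => (j ⁻¹ᵁ (W (j x))).isOpen)
    (fun x _ => Set.mem_iUnion.mpr ⟨x, hyW (j x)⟩)
  obtain ⟨A, hA⟩ := (t.image (fun x => - a (j x))).exists_le
  refine ⟨-A, Groth.Agent.Helper9.FC5.isGE_of_locally _ _ (fun x' => ?_)⟩
  have h1 := ht (Set.mem_univ x')
  simp only [Set.mem_iUnion] at h1
  obtain ⟨x, hxt, hx'⟩ := h1
  have h2 := hA (- a (j x)) (Finset.mem_image_of_mem (fun x => - a (j x)) hxt)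
  let Z : T.Opens := j ⁻¹ᵁ (W (j x))
  have hr : Set.range (Z.ι ≫ j) ⊆ Set.range (W (j x)).ι := by
    rintro _ ⟨z, rfl⟩
    rw [Scheme.Opens.range_ι]
    exact z.2
  let m : (Z : Scheme.{u}) ⟶ (W (j x) : Scheme.{u}) :=
    IsOpenImmersion.lift (W (j x)).ι (Z.ι ≫ j) hr
  have hm : m ≫ (W (j x)).ι = Z.ι ≫ j := IsOpenImmersion.lift_fac _ _ _
  haveI : IsOpenImmersion (m ≫ (W (j x)).ι) := by
    rw [hm]
    infer_instance
  haveI : IsOpenImmersion m := IsOpenImmersion.of_comp m (W (j x)).ι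
  obtain ⟨ι₁⟩ := Groth.Agent.Helper9.TT6.nonempty_restrictD_comp_iso j Z.ι (Z.ι ≫ j) rfl L
  obtain ⟨ι₂⟩ := Groth.Agent.Helper9.TT6.nonempty_restrictD_comp_iso (W (j x)).ι m (Z.ι ≫ j)
    hm.symm L
  haveI := hGE (j x)
  haveI : ((DCoh.restrictD m).obj ((DCoh.restrictD (W (j x)).ι).obj L)).IsGE (a (j x)) :=
    Groth.Agent.Helper9.FC5.isGE_restrictD m _ _
  haveI : ((DCoh.restrictD Z.ι).obj ((DCoh.restrictD j).obj L)).IsGE (a (j x)) :=
    Groth.Agent.Helper9.FC5.isGE_of_iso (ι₂ ≪≫ ι₁.symm) _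
  refine ⟨Z, Z.ι, inferInstance, ?_, ?_⟩
  · rw [Scheme.Opens.range_ι]
    exact hx'
  · exact DerivedCategory.TStructure.t.isGE_of_ge _ (-A) (a (j x)) (by omega)

section FibreBound

variable {X S : Scheme.{u}} (f : X ⟶ S)

/-- the fibres of the chart complex are bounded below -/
theorem fibre_bound [∀ s : S, DCoh.HasLpull (f.fiberι s)] (E : DCoh.D X)
    (hB : ∀ (s : S) (y : ↥(f.fiber s)), ∃ (W : (f.fiber s).Opens) (a : ℤ), y ∈ W ∧
      ((DCoh.restrictD W.ι).obj ((DCoh.Lpull (f.fiberι s)).obj E)).IsGE a)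
    {U : X.Opens} (hU : IsAffineOpen U) {V : S.Opens} (hV : IsAffineOpen V) (hUV : U ≤ f ⁻¹ᵁ V)
    [PreservesFiniteLimits (tilde.functor Γ(X, U))]
    (M : DerivedCategory (ModuleCat.{u} Γ(X, U)))
    (eM : (DCoh.tildeD Γ(X, U)).obj M ≅ (DCoh.restrictD hU.fromSpec).obj E)
    (E₀ : DRing.Cx Γ(X, U)) (b : ℤ) (hv : DRing.VanishesAbove E₀ b) (hf : DRing.TermwiseFlat E₀)
    (e : DRing.toD E₀ ≅ M) (p : Spec Γ(S, V)) :
    letI : Algebra Γ(S, V) Γ(X, U) := (f.appLE V U hUV).hom.toAlgebra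
    ∃ a : ℤ, ∀ i : ℤ, i < a →
      (DRing.tensorCx ((Groth.Agent.Helper3.DRingLib.rCx (algebraMap Γ(S, V) Γ(X, U))).obj E₀)
        (ModuleCat.of Γ(S, V) p.asIdeal.ResidueField)).ExactAt i := by
  letI alg : Algebra Γ(S, V) Γ(X, U) := (f.appLE V U hUV).hom.toAlgebra
  obtain ⟨k', hk', e₂⟩ := exists_resChart hV p
  haveI := hk'
  have e₁ : Spec.map (CommRingCat.ofHom (algebraMap Γ(S, V) Γ(X, U))) ≫ hV.fromSpec =
      hU.fromSpec ≫ f := IsAffineOpen.SpecMap_appLE_fromSpec f hV hU hUV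
  haveI : DCoh.HasLpull (pullback.fst f (S.fromSpecResidueField (hV.fromSpec p))) :=
    inferInstanceAs (DCoh.HasLpull (f.fiberι (hV.fromSpec p)))
  let j' := chart Γ(S, V) p.asIdeal.ResidueField Γ(X, U) f
    (S.fromSpecResidueField (hV.fromSpec p)) hU.fromSpec hV.fromSpec k' e₁ e₂
  haveI := Groth.Agent.Helper6.HasLBC.hasLBaseChange
    (algebraMap Γ(X, U) (p.asIdeal.ResidueField ⊗[Γ(S, V)] Γ(X, U)))
  haveI : PreservesFiniteLimits
      (tilde.functor (CommRingCat.of (p.asIdeal.ResidueField ⊗[Γ(S, V)] Γ(X, U)))) :=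
    Groth.Agent.Helper4.TildeExact.preservesFiniteLimits_tilde _
  obtain ⟨eM'⟩ := nonempty_tildeD_lbc_iso
    (pullback.fst f (S.fromSpecResidueField (hV.fromSpec p)))
    (CommRingCat.ofHom (algebraMap Γ(X, U) (p.asIdeal.ResidueField ⊗[Γ(S, V)] Γ(X, U))))
    hU.fromSpec j'
    (chart_fst Γ(S, V) p.asIdeal.ResidueField Γ(X, U) f
      (S.fromSpecResidueField (hV.fromSpec p)) hU.fromSpec hV.fromSpec k' e₁ e₂).symm
    E M eM
  obtain ⟨a, ha⟩ := exists_isGE_restrictD j'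
    ((DCoh.Lpull (pullback.fst f (S.fromSpecResidueField (hV.fromSpec p)))).obj E)
    (hB (hV.fromSpec p))
  haveI := ha
  haveI h1 : ((DCoh.tildeD (CommRingCat.of (p.asIdeal.ResidueField ⊗[Γ(S, V)] Γ(X, U)))).obj
      ((DRing.LBaseChange
        (algebraMap Γ(X, U) (p.asIdeal.ResidueField ⊗[Γ(S, V)] Γ(X, U)))).obj M)).IsGE a :=
    Groth.Agent.Helper9.FC5.isGE_of_iso eM'.symm a
  haveI h2 : ((DRing.LBaseChange
      (algebraMap Γ(X, U) (p.asIdeal.ResidueField ⊗[Γ(S, V)] Γ(X, U)))).obj M).IsGE a :=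
    Groth.Agent.Helper9.FC5.isGE_of_isGE_tildeD
      (CommRingCat.of (p.asIdeal.ResidueField ⊗[Γ(S, V)] Γ(X, U))) _ a
  obtain ⟨i₀⟩ := Groth.Agent.Helper6.LBCFlatCx.nonempty_lbcIso_of_flat
    (algebraMap Γ(X, U) (p.asIdeal.ResidueField ⊗[Γ(S, V)] Γ(X, U))) E₀ b hv hf
  refine ⟨a, fun i hi => Groth.Agent.Helper9.FC6.exactAt_tensorCx_of_exactAt_bc E₀ i ?_⟩
  apply Groth.Agent.Helper3.DRingLib.exactAt_of_isZero
  exact IsZero.of_iso (((DRing.LBaseChange
      (algebraMap Γ(X, U) (p.asIdeal.ResidueField ⊗[Γ(S, V)] Γ(X, U)))).obj M).isZero_of_isGE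
        a i hi)
    ((DerivedCategory.homologyFunctor _ i).mapIso (i₀.symm ≪≫
      (DRing.LBaseChange
        (algebraMap Γ(X, U) (p.asIdeal.ResidueField ⊗[Γ(S, V)] Γ(X, U)))).mapIso e))

end FibreBound

end

end Groth.Agent.Helper9.FC7
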