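import Mathlib
import Groth.Agent.Helper9.FC7
import Groth.Agent.Helper9.TP3
import Groth.Agent.Helper9.TT6

/-! The fibre criterion for `S`-perfectness on schemes. -/

set_option autoImplicit false
set_option linter.style.haveILetI false
set_option linter.unusedVariables false
set_option linter.unusedSectionVars false
universe u

namespace Groth.Agent.Helper9.FC8

noncomputable section

open CategoryTheory CategoryTheory.Limits AlgebraicGeometry HomologicalComplex TensorProduct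
open Groth.Agent.Lead.PerfLib Groth.Agent.Lead.PcLib Groth.Agent.Lead.FlatLib
  Groth.Agent.Helper9.RelTor2 Groth.Agent.Helper9.RPL1 Groth.Agent.Helper9.RPBC1
  Groth.Agent.Helper9.RPBC2 Groth.Agent.Helper9.FC7

attribute [local instance] HasDerivedCategory.standard
attribute [local instance] Algebra.TensorProduct.rightAlgebra

/-- locally of finite relative tor dimension implies locally bounded below -/
theorem locally_isGE {Y T : Scheme.{u}} (g : Y ⟶ T) (K : DCoh.D Y)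
    (h : DCoh.LocHasFiniteRelTorDim g K) (y : Y) :
    ∃ (V : Y.Opens) (a : ℤ), y ∈ V ∧ ((DCoh.restrictD V.ι).obj K).IsGE a := by
  let F₀ : CochainComplex Y.Modules ℤ := DerivedCategory.Q.objPreimage K
  let e₀ : DerivedCategory.Q.obj F₀ ≅ K := DerivedCategory.Q.objObjPreimageIso K
  obtain ⟨V, a, b, hyV, hV⟩ := h y
  obtain ⟨G, hGv, -, ⟨eG⟩⟩ := hV F₀ ⟨e₀⟩
  refine ⟨V, a, hyV, ?_⟩
  haveI : G.IsStrictlyGE a := by
    rw [CochainComplex.isStrictlyGE_iff]
    intro i hi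
    exact hGv i (Or.inl hi)
  haveI : (DerivedCategory.Q.obj G).IsGE a := inferInstance
  exact Groth.Agent.Helper9.FC5.isGE_of_iso (eG ≪≫
    ((Scheme.Modules.restrictFunctor V.ι).mapDerivedCategoryFactors.app F₀).symm ≪≫
    (DCoh.restrictD V.ι).mapIso e₀) a

variable {X S : Scheme.{u}} (f : X ⟶ S) [Flat f] [LocallyOfFinitePresentation f]

/-- **the fibre criterion**: a pseudo-coherent object which is locally bounded below, with
locally bounded below fibres, is `S`-perfect -/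
theorem locHasFiniteRelTorDim_of_fibres [∀ s : S, DCoh.HasLpull (f.fiberι s)] (E : DCoh.D X)
    (hE : ∀ m : ℤ, DCoh.IsPseudoCoherentD m E)
    (hA : ∀ x : X, ∃ (V : X.Opens) (a : ℤ), x ∈ V ∧ ((DCoh.restrictD V.ι).obj E).IsGE a)
    (hB : ∀ (s : S) (y : ↥(f.fiber s)), ∃ (W : (f.fiber s).Opens) (a : ℤ), y ∈ W ∧
      ((DCoh.restrictD W.ι).obj ((DCoh.Lpull (f.fiberι s)).obj E)).IsGE a) :
    DCoh.LocHasFiniteRelTorDim f E := by
  let F₀ : CochainComplex X.Modules ℤ := DerivedCategory.Q.objPreimage E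
  let e₀ : DerivedCategory.Q.obj F₀ ≅ E := DerivedCategory.Q.objObjPreimageIso E
  suffices h : Groth.Agent.Helper9.RPL1.P f E from h.2
  rw [P_iff_at f E F₀ e₀]
  intro x
  obtain ⟨V, hV, hsV, -⟩ := exists_isAffineOpen_mem_and_subset (x := f.base x) (U := ⊤) trivial
  obtain ⟨VA, a₀, hxVA, hGE⟩ := hA x
  obtain ⟨U, hU, hxU, hUle⟩ := exists_isAffineOpen_mem_and_subset (x := x)
    (U := f ⁻¹ᵁ V ⊓ VA) ⟨hsV, hxVA⟩
  have hUV : U ≤ f ⁻¹ᵁ V := hUle.trans inf_le_left
  have hUVA : U ≤ VA := hUle.trans inf_le_right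
  letI algB : Algebra Γ(S, V) Γ(X, U) := (f.appLE V U hUV).hom.toAlgebra
  have hfl : (f.appLE V U hUV).hom.Flat :=
    HasRingHomProperty.appLE (P := @Flat) f inferInstance ⟨V, hV⟩ ⟨U, hU⟩ hUV
  haveI : Module.Flat Γ(S, V) Γ(X, U) := hfl
  have hfp : (f.appLE V U hUV).hom.FinitePresentation :=
    HasRingHomProperty.appLE (P := @LocallyOfFinitePresentation) f inferInstance ⟨V, hV⟩
      ⟨U, hU⟩ hUV
  haveI : Algebra.FinitePresentation Γ(S, V) Γ(X, U) := hfp
  have e₁ : Spec.map (CommRingCat.ofHom (algebraMap Γ(S, V) Γ(X, U))) ≫ hV.fromSpec =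
      hU.fromSpec ≫ f := IsAffineOpen.SpecMap_appLE_fromSpec f hV hU hUV
  have hKq : DCoh.IsQCohD E := Groth.Agent.Helper9.QcPc1.isQCohD_of_pc E hE
  haveI : PreservesFiniteLimits (tilde.functor Γ(X, U)) :=
    Groth.Agent.Helper4.TildeExact.preservesFiniteLimits_tilde _
  obtain ⟨M, ⟨eM⟩⟩ := Groth.Agent.Helper9.QcLpull1.exists_iso_tildeD Γ(X, U)
    ((DCoh.restrictD hU.fromSpec).obj E)
    (Groth.Agent.Helper9.QP7.isQCohD_restrictD hU.fromSpec E hKq)
  have eM0 : DerivedCategory.Q.obj ((Rc hU.fromSpec).obj F₀) ≅ (DCoh.tildeD Γ(X, U)).obj M :=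
    ((Scheme.Modules.restrictFunctor hU.fromSpec).mapDerivedCategoryFactors.app F₀).symm ≪≫
      (DCoh.restrictD hU.fromSpec).mapIso e₀ ≪≫ eM.symm
  -- pseudo-coherence of `M`
  have hMpc : DRing.IsPseudoCoherent' Γ(X, U) M := by
    rw [Groth.Agent.Helper3.DRingLib.isPseudoCoherent'_iff_forall]
    intro m
    rw [← Groth.Agent.Helper9.TP3.isPseudoCoherentD_tildeD_iff]
    exact isPseudoCoherentD_of_iso eM.symm
      (Groth.Agent.Helper9.TT6.isPseudoCoherentD_restrictD hU.fromSpec m E (hE m))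
  -- `M` is bounded below
  haveI hMGE : M.IsGE a₀ := by
    have hr : Set.range hU.fromSpec ⊆ Set.range VA.ι := by
      rw [hU.range_fromSpec, Scheme.Opens.range_ι]
      exact hUVA
    let k : Spec Γ(X, U) ⟶ (VA : Scheme.{u}) := IsOpenImmersion.lift VA.ι hU.fromSpec hr
    have hk : k ≫ VA.ι = hU.fromSpec := IsOpenImmersion.lift_fac _ _ _
    haveI : IsOpenImmersion (k ≫ VA.ι) := by
      rw [hk]
      infer_instance
    haveI : IsOpenImmersion k := IsOpenImmersion.of_comp k VA.ι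
    obtain ⟨ι₁⟩ := Groth.Agent.Helper9.TT6.nonempty_restrictD_comp_iso VA.ι k hU.fromSpec
      hk.symm E
    haveI := hGE
    haveI : ((DCoh.restrictD k).obj ((DCoh.restrictD VA.ι).obj E)).IsGE a₀ :=
      Groth.Agent.Helper9.FC5.isGE_restrictD k _ _
    haveI : ((DCoh.tildeD Γ(X, U)).obj M).IsGE a₀ :=
      Groth.Agent.Helper9.FC5.isGE_of_iso (ι₁ ≪≫ eM.symm) a₀
    exact Groth.Agent.Helper9.FC5.isGE_of_isGE_tildeD Γ(X, U) M a₀
  obtain ⟨E₀, b, hv, hff, ⟨e⟩⟩ := hMpc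
  have hf : DRing.TermwiseFlat E₀ := fun i => by
    haveI := (hff i).2
    infer_instance
  have hex : ∀ i, i < a₀ → E₀.ExactAt i := fun i hi =>
    Groth.Agent.Helper3.DRingLib.exactAt_of_isZero E₀ i
      (IsZero.of_iso (M.isZero_of_isGE a₀ i hi)
        ((DerivedCategory.homologyFunctor _ i).mapIso e))
  obtain ⟨a, ha⟩ := Groth.Agent.Helper9.FC4.exists_hasTorAmplitudeIn_of_fibres
    (R := Γ(S, V)) (A := Γ(X, U)) E₀ b hv hff a₀ hex
    (fun p => fibre_bound f E hB hU hV hUV M eM E₀ b hv hf e p)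
  have hrel : Dual2.IsRelPerfect Γ(S, V) Γ(X, U) M :=
    ⟨⟨E₀, b, hv, hff, ⟨e⟩⟩, a, b,
      Groth.Agent.Helper3.DRingLib.hasTorAmplitudeIn_of_iso
        ((Groth.Agent.Helper3.DRingLib.rDToD (algebraMap Γ(S, V) Γ(X, U)) E₀).symm ≪≫
          (DRing.restrictD (algebraMap Γ(S, V) Γ(X, U))).mapIso e) _ _ ha⟩
  obtain ⟨p, hp⟩ : x ∈ Set.range hU.fromSpec := by
    rw [hU.range_fromSpec]
    exact hxU
  rw [← hp]
  exact (chart_iff f Γ(S, V) Γ(X, U) hU.fromSpec hV.fromSpec e₁.symm F₀ M eM0).2 hrel p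

/-- **S1101** -/
theorem main [∀ s : S, DCoh.HasLpull (f.fiberι s)] (E : DCoh.D X)
    (hE : ∀ m : ℤ, DCoh.IsPseudoCoherentD m E) :
    DCoh.LocHasFiniteRelTorDim f E ↔
      ((∀ x : X, ∃ (V : X.Opens) (a : ℤ), x ∈ V ∧ ((DCoh.restrictD V.ι).obj E).IsGE a) ∧
       ∀ (s : S) (y : ↥(f.fiber s)), ∃ (W : (f.fiber s).Opens) (a : ℤ), y ∈ W ∧
         ((DCoh.restrictD W.ι).obj ((DCoh.Lpull (f.fiberι s)).obj E)).IsGE a) := by
  constructor
  · intro h
    refine ⟨fun x => locally_isGE f E h x, fun s y => ?_⟩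
    haveI : DCoh.HasLpull (pullback.fst f (S.fromSpecResidueField s)) :=
      inferInstanceAs (DCoh.HasLpull (f.fiberι s))
    have h1 := Groth.Agent.Helper9.RPBC2.main f (S.fromSpecResidueField s) E ⟨hE, h⟩
    exact locally_isGE (pullback.snd f (S.fromSpecResidueField s)) _ h1.2 y
  · rintro ⟨hA, hB⟩
    exact locHasFiniteRelTorDim_of_fibres f E hE hA hB

end

end Groth.Agent.Helper9.FC8
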