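import Mathlib
import Groth.Agent.Helper9.FC12
import Groth.Agent.Helper9.FC8

/-! The chart-level step for the fibre criterion over an ideal in the Jacobson radical. -/

set_option autoImplicit false
set_option linter.style.haveILetI false
set_option linter.unusedVariables false
set_option linter.unusedSectionVars false
universe u

namespace Groth.Agent.Helper9.FC13

noncomputable section

open CategoryTheory CategoryTheory.Limits AlgebraicGeometry HomologicalComplex TensorProduct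
open Groth.Agent.Lead.PerfLib Groth.Agent.Lead.PcLib Groth.Agent.Lead.FlatLib
  Groth.Agent.Helper9.RelTor2 Groth.Agent.Helper9.RPL1 Groth.Agent.Helper9.RPBC1
  Groth.Agent.Helper9.RPBC2

attribute [local instance] HasDerivedCategory.standard
attribute [local instance] Algebra.TensorProduct.rightAlgebra

variable (R : Type u) [CommRing R] (I : Ideal R) {X : Scheme.{u}}
  (f : X ⟶ Spec (CommRingCat.of R)) [Flat f] [LocallyOfFinitePresentation f]

/-- **chart step**: on an affine open `U` of `X`, the points of `U` generizing a point over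
`V(I)` have relative tor amplitude in `[a, b]`, for some `b` depending on `U` only -/
theorem chart_main
    [DCoh.HasLpull (pullback.fst f (Spec.map (CommRingCat.ofHom (Ideal.Quotient.mk I))))]
    (E : DCoh.D X) (hpc : ∀ m : ℤ, DCoh.IsPseudoCoherentD m E)
    (F : CochainComplex X.Modules ℤ) (e : DCoh.toD X F ≅ E)
    (F₀ : CochainComplex
      (pullback f (Spec.map (CommRingCat.ofHom (Ideal.Quotient.mk I)))).Modules ℤ)
    (e₀ : DCoh.toD _ F₀ ≅
      (DCoh.Lpull (pullback.fst f (Spec.map (CommRingCat.ofHom (Ideal.Quotient.mk I))))).obj E)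
    (a b' : ℤ)
    (h₀ : DerSch.HasTorAmplitude
      (pullback.snd f (Spec.map (CommRingCat.ofHom (Ideal.Quotient.mk I)))) a b' F₀)
    {U : X.Opens} (hU : IsAffineOpen U) :
    ∃ b : ℤ, ∀ (q q₁ : Spec Γ(X, U)), q.asIdeal ≤ q₁.asIdeal →
      f.base (hU.fromSpec.base q₁) ∈ PrimeSpectrum.zeroLocus (I : Set R) →
      DerSch.HasTorAmplitudeAt f a b F (hU.fromSpec.base q) := by
  let g : Spec (CommRingCat.of (R ⧸ I)) ⟶ Spec (CommRingCat.of R) :=
    Spec.map (CommRingCat.ofHom (Ideal.Quotient.mk I))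
  let φ : CommRingCat.of R ⟶ Γ(X, U) := Spec.preimage (hU.fromSpec ≫ f)
  have hφ : Spec.map φ = hU.fromSpec ≫ f := Spec.map_preimage _
  letI algB : Algebra R Γ(X, U) := φ.hom.toAlgebra
  haveI : Flat (Spec.map φ) := by
    rw [hφ]
    infer_instance
  haveI : LocallyOfFinitePresentation (Spec.map φ) := by
    rw [hφ]
    infer_instance
  have hfl : φ.hom.Flat := (HasRingHomProperty.Spec_iff (P := @Flat)).1 inferInstance
  haveI : Module.Flat R Γ(X, U) := hfl
  have hfp : φ.hom.FinitePresentation :=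
    (HasRingHomProperty.Spec_iff (P := @LocallyOfFinitePresentation)).1 inferInstance
  haveI : Algebra.FinitePresentation R Γ(X, U) := hfp
  have e₁ : Spec.map (CommRingCat.ofHom (algebraMap R Γ(X, U))) ≫ 𝟙 (Spec (CommRingCat.of R)) =
      hU.fromSpec ≫ f := by
    rw [Category.comp_id]
    exact hφ
  have e₂ : Spec.map (CommRingCat.ofHom (algebraMap R (R ⧸ I))) ≫ 𝟙 (Spec (CommRingCat.of R)) =
      𝟙 (Spec (CommRingCat.of (R ⧸ I))) ≫ g := by
    rw [Category.comp_id, Category.id_comp]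
  let j' := chart R (R ⧸ I) Γ(X, U) f g hU.fromSpec (𝟙 _) (𝟙 _) e₁ e₂
  have hKq : DCoh.IsQCohD E := Groth.Agent.Helper9.QcPc1.isQCohD_of_pc E hpc
  haveI : PreservesFiniteLimits (tilde.functor Γ(X, U)) :=
    Groth.Agent.Helper4.TildeExact.preservesFiniteLimits_tilde _
  haveI : PreservesFiniteLimits
      (tilde.functor (CommRingCat.of ((R ⧸ I) ⊗[R] Γ(X, U)))) :=
    Groth.Agent.Helper4.TildeExact.preservesFiniteLimits_tilde _
  obtain ⟨M, ⟨eM⟩⟩ := Groth.Agent.Helper9.QcLpull1.exists_iso_tildeD Γ(X, U)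
    ((DCoh.restrictD hU.fromSpec).obj E)
    (Groth.Agent.Helper9.QP7.isQCohD_restrictD hU.fromSpec E hKq)
  have eM0 : DerivedCategory.Q.obj ((Rc hU.fromSpec).obj F) ≅ (DCoh.tildeD Γ(X, U)).obj M :=
    ((Scheme.Modules.restrictFunctor hU.fromSpec).mapDerivedCategoryFactors.app F).symm ≪≫
      (DCoh.restrictD hU.fromSpec).mapIso e ≪≫ eM.symm
  have hMpc : DRing.IsPseudoCoherent' Γ(X, U) M := by
    rw [Groth.Agent.Helper3.DRingLib.isPseudoCoherent'_iff_forall]
    intro m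
    rw [← Groth.Agent.Helper9.TP3.isPseudoCoherentD_tildeD_iff]
    exact isPseudoCoherentD_of_iso eM.symm
      (Groth.Agent.Helper9.TT6.isPseudoCoherentD_restrictD hU.fromSpec m E (hpc m))
  obtain ⟨E₀, b, hv, hff, ⟨eE⟩⟩ := hMpc
  have hf : DRing.TermwiseFlat E₀ := fun i => by
    haveI := (hff i).2
    infer_instance
  refine ⟨b, ?_⟩
  -- the reduction modulo `I`
  haveI := Groth.Agent.Helper6.HasLBC.hasLBaseChange
    (algebraMap Γ(X, U) ((R ⧸ I) ⊗[R] Γ(X, U)))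
  obtain ⟨eM'⟩ := nonempty_tildeD_lbc_iso (pullback.fst f g)
    (CommRingCat.ofHom (algebraMap Γ(X, U) ((R ⧸ I) ⊗[R] Γ(X, U)))) hU.fromSpec j'
    (chart_fst R (R ⧸ I) Γ(X, U) f g hU.fromSpec (𝟙 _) (𝟙 _) e₁ e₂).symm E M eM
  obtain ⟨i₀⟩ := Groth.Agent.Helper6.LBCFlatCx.nonempty_lbcIso_of_flat
    (algebraMap Γ(X, U) ((R ⧸ I) ⊗[R] Γ(X, U))) E₀ b hv hf
  have eF₀ : DCoh.toD _ ((Rc j').obj F₀) ≅
      (DCoh.tildeD (CommRingCat.of ((R ⧸ I) ⊗[R] Γ(X, U)))).obj
        (DRing.toD ((Groth.Agent.Helper6.LBCCompute.bcCxF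
          (algebraMap Γ(X, U) ((R ⧸ I) ⊗[R] Γ(X, U)))).obj E₀)) :=
    ((Scheme.Modules.restrictFunctor j').mapDerivedCategoryFactors.app F₀).symm ≪≫
      (DCoh.restrictD j').mapIso e₀ ≪≫ eM'.symm ≪≫
      (DCoh.tildeD (CommRingCat.of ((R ⧸ I) ⊗[R] Γ(X, U)))).mapIso
        ((DRing.LBaseChange (algebraMap Γ(X, U) ((R ⧸ I) ⊗[R] Γ(X, U)))).mapIso eE.symm ≪≫ i₀)
  have hT : DerSch.HasTorAmplitude
      (Spec.map (CommRingCat.ofHom (algebraMap (R ⧸ I) ((R ⧸ I) ⊗[R] Γ(X, U))))) a b'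
      ((Rc j').obj F₀) := by
    intro z
    have h1 := (hasTorAmplitudeAt_restrict_iff (pullback.snd f g) j' F₀ a b' z).2 (h₀ _)
    rw [chart_snd R (R ⧸ I) Γ(X, U) f g hU.fromSpec (𝟙 _) (𝟙 _) e₁ e₂, Category.comp_id] at h1
    exact h1
  have hT' := (Groth.Agent.Helper9.RLT5.main
    (CommRingCat.ofHom (algebraMap (R ⧸ I) ((R ⧸ I) ⊗[R] Γ(X, U))))
    ((Groth.Agent.Helper6.LBCCompute.bcCxF
      (algebraMap Γ(X, U) ((R ⧸ I) ⊗[R] Γ(X, U)))).obj E₀) ((Rc j').obj F₀) eF₀ a b').1 hT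
  -- the pointwise statement
  have eF : DCoh.toD _ ((Rc hU.fromSpec).obj F) ≅ (DCoh.tildeD Γ(X, U)).obj (DRing.toD E₀) :=
    eM0 ≪≫ (DCoh.tildeD Γ(X, U)).mapIso eE.symm
  intro q q₁ hle hq₁
  have hIp : I ≤ q₁.asIdeal.comap (algebraMap R Γ(X, U)) := by
    have h2 : f.base (hU.fromSpec.base q₁) = (Spec.map φ).base q₁ := by
      rw [hφ]
      rfl
    rw [h2] at hq₁
    exact hq₁
  have h3 := Groth.Agent.Helper9.FC10.hasTorAmplitudeIn_Floc
    (q₁.asIdeal.comap (algebraMap R Γ(X, U))) q₁.asIdeal rfl E₀ b hv hff a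
    (fun i hi => Groth.Agent.Helper9.FC11.fibre_exact_of_quotient I
      (q₁.asIdeal.comap (algebraMap R Γ(X, U))) hIp E₀ b hv hf a b' hT' i hi)
  have h4 := Groth.Agent.Helper9.FC11.hasTorAmplitudeIn_Floc_of_le (R := R) q.asIdeal q₁.asIdeal
    hle E₀ a b h3
  have h5 := Groth.Agent.Helper9.FC12.hasTorAmplitudeAt_of_Floc φ E₀ _ eF a b q h4
  rw [hφ] at h5
  exact (hasTorAmplitudeAt_restrict_iff f hU.fromSpec F a b q).1 h5

end

end Groth.Agent.Helper9.FC13
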