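import Mathlib
import Groth.Agent.Helper9.FC13
import Groth.Agent.Helper9.RelTor3

/-! Relative perfectness from the reduction modulo an ideal contained in the Jacobson radical,
for proper flat morphisms of finite presentation over an affine base. -/

set_option autoImplicit false
set_option linter.style.haveILetI false
set_option linter.unusedVariables false
set_option linter.unusedSectionVars false
universe u

namespace Groth.Agent.Helper9.FC14

noncomputable section

open CategoryTheory CategoryTheory.Limits AlgebraicGeometry HomologicalComplex TensorProduct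

attribute [local instance] HasDerivedCategory.standard

variable (R : Type u) [CommRing R] (I : Ideal R) {X : Scheme.{u}}
  (f : X ⟶ Spec (CommRingCat.of R))

/-- every point of a scheme proper over `Spec R` specializes to a point over `V(I)`, for `I`
contained in the Jacobson radical -/
theorem exists_specializes (hI : I ≤ Ideal.jacobson ⊥) [UniversallyClosed f] (x : X) :
    ∃ x₁ : X, x ⤳ x₁ ∧ f.base x₁ ∈ PrimeSpectrum.zeroLocus (I : Set R) := by
  let fb : X → PrimeSpectrum R := fun y => f.base y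
  have hcl : IsClosed (fb '' closure {x}) := f.isClosedMap _ isClosed_closure
  obtain ⟨J, hJ⟩ := (PrimeSpectrum.isClosed_iff_zeroLocus_ideal (fb '' closure {x})).1 hcl
  have hZ : ∀ y : PrimeSpectrum R, y ∈ fb '' closure {x} ↔ J ≤ y.asIdeal := fun y => by
    rw [hJ, PrimeSpectrum.mem_zeroLocus]
    exact SetLike.coe_subset_coe
  have hne : J ≠ ⊤ := by
    intro h
    have h1 : fb x ∈ fb '' closure {x} := ⟨x, subset_closure rfl, rfl⟩
    rw [hZ, h] at h1
    exact (fb x).isPrime.ne_top (top_le_iff.1 h1)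
  obtain ⟨𝔪, h𝔪, hle⟩ := Ideal.exists_le_maximal J hne
  have hmem : (⟨𝔪, h𝔪.isPrime⟩ : PrimeSpectrum R) ∈ fb '' closure {x} := (hZ _).2 hle
  obtain ⟨x₁, hx₁, hfx₁⟩ := hmem
  refine ⟨x₁, specializes_iff_mem_closure.2 hx₁, ?_⟩
  show fb x₁ ∈ PrimeSpectrum.zeroLocus (I : Set R)
  rw [hfx₁, PrimeSpectrum.mem_zeroLocus]
  have h2 : Ideal.jacobson (⊥ : Ideal R) ≤ 𝔪 := sInf_le ⟨bot_le, h𝔪⟩
  exact hI.trans h2

variable [IsProper f] [Flat f] [LocallyOfFinitePresentation f]

/-- **S7233** -/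
theorem main (hI : I ≤ Ideal.jacobson ⊥)
    [DCoh.HasLpull (pullback.fst f (Spec.map (CommRingCat.ofHom (Ideal.Quotient.mk I))))]
    (E : DCoh.D X) (hpc : ∀ m : ℤ, DCoh.IsPseudoCoherentD m E)
    (h₀ : ∃ F₀ : CochainComplex
        (pullback f (Spec.map (CommRingCat.ofHom (Ideal.Quotient.mk I)))).Modules ℤ,
      Nonempty (DCoh.toD _ F₀ ≅
        (DCoh.Lpull (pullback.fst f (Spec.map (CommRingCat.ofHom (Ideal.Quotient.mk I))))).obj E) ∧
        (∀ m : ℤ, DCoh.IsPseudoCoherentD m (DCoh.toD _ F₀)) ∧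
        DerSch.LocFiniteTorAmplitude
          (pullback.snd f (Spec.map (CommRingCat.ofHom (Ideal.Quotient.mk I)))) F₀) :
    DerSch.LocFiniteTorAmplitudeD f E := by
  rintro F ⟨e⟩
  obtain ⟨F₀, ⟨e₀⟩, -, hloc⟩ := h₀
  haveI : CompactSpace ↥(pullback f (Spec.map (CommRingCat.ofHom (Ideal.Quotient.mk I)))) :=
    QuasiCompact.compactSpace_of_compactSpace
      (pullback.snd f (Spec.map (CommRingCat.ofHom (Ideal.Quotient.mk I))))
  haveI : CompactSpace ↥X := QuasiCompact.compactSpace_of_compactSpace f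
  obtain ⟨a, b', hab⟩ := Groth.Agent.Helper9.RelTor3.exists_hasTorAmplitude_of_locFinite
    (pullback.snd f (Spec.map (CommRingCat.ofHom (Ideal.Quotient.mk I)))) F₀ hloc
  -- affine charts
  have hch : ∀ x : X, ∃ (U : X.Opens) (hU : IsAffineOpen U) (b : ℤ), x ∈ U ∧
      ∀ (q q₁ : Spec Γ(X, U)), q.asIdeal ≤ q₁.asIdeal →
        f.base (hU.fromSpec.base q₁) ∈ PrimeSpectrum.zeroLocus (I : Set R) →
        DerSch.HasTorAmplitudeAt f a b F (hU.fromSpec.base q) := by
    intro x
    obtain ⟨U, hU, hxU, -⟩ := exists_isAffineOpen_mem_and_subset (x := x) (U := ⊤) trivial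
    obtain ⟨b, hb⟩ := Groth.Agent.Helper9.FC13.chart_main R I f E hpc F e F₀ e₀ a b' hab hU
    exact ⟨U, hU, b, hxU, hb⟩
  choose U hU bU hxU hUb using hch
  obtain ⟨t, ht⟩ := CompactSpace.elim_nhds_subcover (fun x : X => ((U x : X.Opens) : Set X))
    (fun x => (U x).isOpen.mem_nhds (hxU x))
  obtain ⟨b, hb⟩ := (t.image bU).exists_le
  have hall : ∀ x : X, DerSch.HasTorAmplitudeAt f a b F x := by
    intro x
    obtain ⟨x₁, hsp, hx₁⟩ := exists_specializes R I f hI x
    have h1 : x₁ ∈ ⋃ y ∈ t, ((U y : X.Opens) : Set X) := by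
      rw [ht]
      trivial
    simp only [Set.mem_iUnion] at h1
    obtain ⟨y, hyt, hx₁U⟩ := h1
    have hxU' : x ∈ U y := hsp.mem_open (U y).isOpen hx₁U
    obtain ⟨q₁, hq₁⟩ : x₁ ∈ Set.range (hU y).fromSpec.base := by
      rw [(hU y).range_fromSpec]
      exact hx₁U
    obtain ⟨q, hq⟩ : x ∈ Set.range (hU y).fromSpec.base := by
      rw [(hU y).range_fromSpec]
      exact hxU'
    have hsp' : q ⤳ q₁ := by
      rw [← (hU y).fromSpec.isOpenEmbedding.isInducing.specializes_iff, hq, hq₁]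
      exact hsp
    have hle : q.asIdeal ≤ q₁.asIdeal :=
      (PrimeSpectrum.le_iff_specializes (show PrimeSpectrum Γ(X, U y) from q) q₁).2 hsp'
    have h2 := hUb y q q₁ hle (by rw [hq₁]; exact hx₁)
    rw [hq] at h2
    exact Groth.Agent.Helper3.DRingLib.hasTorAmplitudeIn_mono le_rfl
      (hb (bU y) (Finset.mem_image_of_mem bU hyt)) h2
  intro x
  exact ⟨⊤, a, b, trivial, fun x' _ => hall x'⟩

end

end Groth.Agent.Helper9.FC14
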