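import Mathlib
import Groth.Agent.Helper9.TP3
import Groth.Agent.Helper4.SecDict
import Groth.Agent.Helper4.QcohGlue
import Groth.Agent.Helper4.FinLocFree6
import Groth.Agent.Helper3.KPerfA
import Groth.Agent.Helper3.DRingPeel2
import Groth.Agent.Lead.PerfLib10
import Groth.Prelude.Def_RegImm

/-! The direct image of the structure sheaf along a Koszul-regular closed immersion is perfect. -/

set_option autoImplicit false
set_option linter.style.haveILetI false
set_option linter.unusedVariables false
set_option linter.unusedSectionVars false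
universe u

namespace Groth.Agent.Helper9.KR1

open CategoryTheory CategoryTheory.Limits AlgebraicGeometry Opposite
open Scheme.Modules Groth.Agent.Lead.PerfLib Groth.Agent.Lead.PcLib Groth.Agent.Helper9.TP1
  Groth.Agent.Helper9.TP2

attribute [local instance] HasDerivedCategory.standard

/-- linearly equivalent modules give isomorphic objects of `D(A)` -/
noncomputable def inDIso {A : Type u} [CommRing A] {M M' : Type u} [AddCommGroup M] [Module A M]
    [AddCommGroup M'] [Module A M'] (e : M ≃ₗ[A] M') : Dual.inD A M ≅ Dual.inD A M' :=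
  (DerivedCategory.singleFunctor (ModuleCat.{u} A) 0).mapIso e.toModuleIso

theorem isPerfect_inD_of_equiv {A : Type u} [CommRing A] {M M' : Type u} [AddCommGroup M]
    [Module A M] [AddCommGroup M'] [Module A M'] (e : M ≃ₗ[A] M')
    (h : DRing.IsPerfect A (Dual.inD A M)) : DRing.IsPerfect A (Dual.inD A M') := by
  obtain ⟨E, a, b, hv, hE, ⟨ε⟩⟩ := h
  exact ⟨E, a, b, hv, hE, ⟨ε ≪≫ inDIso e⟩⟩

variable {X : Scheme.{u}}

set_option backward.isDefEq.respectTransparency false in
/-- a quasi-coherent module whose sections over an affine open form a perfect module is perfect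
near the points of that open -/
theorem locSP_sg_of_affine (F : X.Modules) [F.IsQuasicoherent] {U : X.Opens} (hU : IsAffineOpen U)
    (x : X) (hx : x ∈ U)
    (hperf : DRing.IsPerfect Γ(X, U) (Dual.inD Γ(X, U) Γ(F, U))) : LocSP (sg F) x := by
  let A : CommRingCat.{u} := Γ(X, U)
  let j : Spec A ⟶ X := hU.fromSpec
  let N : (Spec A).Modules := F.restrict j
  haveI : N.IsQuasicoherent := inferInstance
  haveI : IsIso N.fromTildeΓ := inferInstance
  let ΓN : ModuleCat.{u} A := moduleSpecΓFunctor.obj N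
  let e : tilde ΓN ≅ N := asIso N.fromTildeΓ
  haveI : PreservesFiniteLimits (tilde.functor A) :=
    Groth.Agent.Helper4.TildeExact.preservesFiniteLimits_tilde _
  haveI : PreservesFiniteColimits (tilde.functor A) :=
    Groth.Agent.Helper4.TildeExact.preservesFiniteColimits_tilde _
  have hΓ : DRing.IsPerfect A (Dual.inD A ΓN) :=
    isPerfect_inD_of_equiv (Groth.Agent.Helper4.SecDict.sectionsEquiv hU F) hperf
  have h1 : DCoh.IsPerfect ((DCoh.tildeD A).obj (Dual.inD A ΓN)) :=
    (TP3.isPerfect_tildeD_iff A _).2 hΓ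
  have h2 : DCoh.IsPerfect (DCoh.inD (Spec A) (tilde ΓN)) :=
    isPerfect_of_iso (((tilde.functor A).mapDerivedCategorySingleFunctor 0).app ΓN) h1
  have h3 : DCoh.IsPerfect (DCoh.inD (Spec A) N) :=
    isPerfect_of_iso ((DerivedCategory.singleFunctor (Spec A).Modules 0).mapIso e) h2
  obtain ⟨w, hw⟩ : ∃ w : Spec A, j w = x := by
    have : x ∈ Set.range j := by
      rw [hU.range_fromSpec]
      exact hx
    exact this
  have h4 : LocSP (sg N) w := (isPerfect_iff_locSP _ (sg N) (sgIso N)).1 h3 w
  have h5 : LocSP ((Rc j).obj (sg F)) w :=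
    h4.of_iso (DerivedCategory.Q.mapIso
      ((HomologicalComplex.singleMapHomologicalComplex (restrictFunctor j) (ComplexShape.up ℤ) 0).app
        F).symm)
  rw [← hw]
  exact h5.of_restrict j

section Main

variable {Z : Scheme.{u}} (i : Z ⟶ X) [IsClosedImmersion i]

/-- `i_* O_Z` -/
noncomputable abbrev pushO : X.Modules :=
  (Scheme.Modules.pushforward i).obj (Coh.structureModule Z)

instance isQuasicoherent_pushO : (pushO i).IsQuasicoherent := by
  haveI : (Coh.structureModule Z).IsQuasicoherent :=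
    Groth.Agent.Helper4.FinLocFree4.isQuasicoherent_of_isFinLocFree _
      (Groth.Agent.Helper4.FinLocFree6.isFinLocFree_unit (X := Z))
  exact Groth.Agent.Helper4.QcohGlue.isQuasicoherent_pushforward i (Coh.structureModule Z)

/-- the sections of `i_* O_Z` over an affine open are the quotient by the kernel -/
theorem nonempty_sections_equiv (U : X.Opens) (hU : IsAffineOpen U) (I : Ideal Γ(X, U))
    (hI : RingHom.ker (i.app U).hom = I) :
    Nonempty ((Γ(X, U) ⧸ I) ≃ₗ[Γ(X, U)] Γ(pushO i, U)) := by
  let one : Γ(pushO i, U) := (show Γ(pushO i, U) from (1 : Γ(Z, i ⁻¹ᵁ U)))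
  let L : Γ(X, U) →ₗ[Γ(X, U)] Γ(pushO i, U) := LinearMap.toSpanSingleton _ _ one
  have hL : ∀ r : Γ(X, U), L r = (show Γ(pushO i, U) from ((i.app U).hom r : Γ(Z, i ⁻¹ᵁ U))) := by
    intro r
    show r • one = _
    show (show Γ(pushO i, U) from ((i.app U).hom r * (1 : Γ(Z, i ⁻¹ᵁ U)) : Γ(Z, i ⁻¹ᵁ U))) = _
    rw [mul_one]
  have hsurj : Function.Surjective L := by
    intro s
    obtain ⟨r, hr⟩ := i.app_surjective U hU (show Γ(Z, i ⁻¹ᵁ U) from s)
    exact ⟨r, (hL r).trans hr⟩
  have hker : LinearMap.ker L = I := by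
    rw [← hI]
    ext r
    rw [LinearMap.mem_ker, hL, RingHom.mem_ker]
    rfl
  exact ⟨(Submodule.quotEquivOfEq _ _ hker.symm).trans (L.quotKerEquivOfSurjective hsurj)⟩

theorem isPerfect_pushO (hi : RegImm.IsRegularImmersion RegImm.Kind.koszul i) :
    DCoh.IsPerfect (DCoh.inD X (pushO i)) := by
  rw [isPerfect_iff_locSP _ (sg (pushO i)) (sgIso (pushO i))]
  intro x
  by_cases hx : x ∈ Set.range i
  · obtain ⟨z, rfl⟩ := hx
    obtain ⟨U, hzU, -, rs, hrs, hker⟩ := hi.2 z
    obtain ⟨e⟩ := nonempty_sections_equiv i U.1 U.2 _ hker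
    have hrs' : LCI.IsKoszulRegularSeq Γ(X, U.1) rs := hrs
    exact locSP_sg_of_affine (pushO i) U.2 (i z) hzU
      (isPerfect_inD_of_equiv e (Groth.Agent.Helper3.KPerfA.isPerfect_quot_of_kreg rs hrs'))
  · have hcl : IsClosed (Set.range i) := i.isClosedEmbedding.isClosed_range
    obtain ⟨_, ⟨U, hU, rfl⟩, hxU, hUsub⟩ :=
      X.isBasis_affineOpens.exists_subset_of_mem_open (show x ∈ (Set.range i)ᶜ from hx)
        hcl.isOpen_compl
    have hbot : i ⁻¹ᵁ U = ⊥ := by
      ext z
      simp only [TopologicalSpace.Opens.coe_bot, Set.mem_empty_iff_false, iff_false]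
      intro hz
      exact hUsub hz ⟨z, rfl⟩
    have hsub : Subsingleton Γ(pushO i, U) := by
      show Subsingleton Γ(Z, i ⁻¹ᵁ U)
      rw [hbot]
      infer_instance
    refine locSP_sg_of_affine (pushO i) hU x hxU
      (Groth.Agent.Helper3.DRingLib.isPerfect_of_isZero _ ?_)
    have : IsZero (ModuleCat.of Γ(X, U) Γ(pushO i, U)) := ModuleCat.isZero_of_subsingleton _
    exact Functor.map_isZero (DerivedCategory.singleFunctor (ModuleCat.{u} Γ(X, U)) 0) this

end Main

end Groth.Agent.Helper9.KR1
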