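import Mathlib
import Groth.Agent.Helper9.KR1
import Groth.Agent.Helper9.TorT1
import Groth.Agent.Helper9.PA1
import Groth.Agent.Helper4.QcohGlue

/-! Tor amplitude of the stalks of a module from the tor amplitude of its module of sections over
an affine open on which it is localizing. -/

set_option autoImplicit false
set_option linter.style.haveILetI false
set_option linter.unusedVariables false
set_option linter.unusedSectionVars false
universe u

namespace Groth.Agent.Helper9.TorLoc1

open CategoryTheory CategoryTheory.Limits AlgebraicGeometry Opposite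
open Scheme.Modules Groth.Agent.Lead.PerfLib Groth.Agent.Lead.PcLib Groth.Agent.Helper9.TP1
  Groth.Agent.Helper9.TP2 Groth.Agent.Helper9.KR1 Groth.Agent.Helper3.DRingLib
  Groth.Agent.Helper9.SkyMod4 Groth.Agent.Helper9.SkyMod5 Groth.Agent.Helper9.TorD1
  Groth.Agent.Helper9.StalkTensor9
  Groth.Agent.Helper4.QcqsMod Groth.Agent.Helper4.QcohGlue Groth.Agent.Helper4.StalkDict
  Groth.Agent.Helper4

attribute [local instance] HasDerivedCategory.standard

variable {X : Scheme.{u}}

set_option backward.isDefEq.respectTransparency false in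
/-- a module, localizing on the affine open `U`, whose sections over `U` have tor amplitude in
`[a, b]`, has stalks of tor amplitude in `[a, b]` at the points of `U` -/
theorem hasTorAmplitudeIn_stalk_of_sections (F : X.Modules) {U : X.Opens} (hU : IsAffineOpen U)
    (hloc : IsLocalizingOn F U) (x : X) (hx : x ∈ U) (a b : ℤ)
    (h : DRing.HasTorAmplitudeIn Γ(X, U) a b (Dual.inD Γ(X, U) Γ(F, U))) :
    DRing.HasTorAmplitudeIn (X.presheaf.stalk x) a b (DRing.toD ((StCx x).obj (sg F))) := by
  let A : CommRingCat.{u} := Γ(X, U)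
  let j : Spec A ⟶ X := hU.fromSpec
  let N : (Spec A).Modules := F.restrict j
  haveI : N.IsQuasicoherent := by
    rw [isQuasicoherent_iff_isIso_fromTildeΓ, isIso_fromTildeΓ_iff_isLocalizing]
    exact isLocalizing_restrict_fromSpec_of_isLocalizingOn hU F hloc
  haveI : IsIso N.fromTildeΓ := inferInstance
  let ΓN : ModuleCat.{u} A := moduleSpecΓFunctor.obj N
  let e : tilde ΓN ≅ N := asIso N.fromTildeΓ
  haveI : PreservesFiniteLimits (tilde.functor A) :=
    Groth.Agent.Helper4.TildeExact.preservesFiniteLimits_tilde _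
  haveI : PreservesFiniteColimits (tilde.functor A) :=
    Groth.Agent.Helper4.TildeExact.preservesFiniteColimits_tilde _
  have hΓ : DRing.HasTorAmplitudeIn A a b (Dual.inD A ΓN) :=
    hasTorAmplitudeIn_of_iso (inDIso (Groth.Agent.Helper4.SecDict.sectionsEquiv hU F)) _ _ h
  have h1 : DCoh.HasFlatAmplitudeIn a b ((DCoh.tildeD A).obj (Dual.inD A ΓN)) :=
    (Groth.Agent.Helper9.TorT1.hasFlatAmplitudeIn_tildeD_iff A _ a b).2 hΓ
  have h2 : DCoh.HasFlatAmplitudeIn a b (DCoh.inD (Spec A) (tilde ΓN)) :=
    hasFlatAmplitudeIn_of_iso (((tilde.functor A).mapDerivedCategorySingleFunctor 0).app ΓN) a b h1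
  have h3 : DCoh.HasFlatAmplitudeIn a b (DCoh.inD (Spec A) N) :=
    hasFlatAmplitudeIn_of_iso ((DerivedCategory.singleFunctor (Spec A).Modules 0).mapIso e) a b h2
  obtain ⟨w, hw⟩ : ∃ w : Spec A, j w = x := by
    have : x ∈ Set.range j := by
      rw [hU.range_fromSpec]
      exact hx
    exact this
  have h4 : DCoh.HasFlatAmplitudeIn a b (DerivedCategory.Q.obj (sg N)) :=
    hasFlatAmplitudeIn_of_iso (sgIso N).symm a b h3
  have h5 : DCoh.HasFlatAmplitudeIn a b (DerivedCategory.Q.obj
      (((Scheme.Modules.restrictFunctor j).mapHomologicalComplex (ComplexShape.up ℤ)).obj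
        (sg F))) :=
    hasFlatAmplitudeIn_of_iso (DerivedCategory.Q.mapIso
      ((HomologicalComplex.singleMapHomologicalComplex (restrictFunctor j) (ComplexShape.up ℤ) 0).app
        F).symm) a b h4
  rw [← hw]
  exact Groth.Agent.Helper9.PA1.hasTorAmplitudeIn_stalk_of_restrict j (sg F) a b w h5

end Groth.Agent.Helper9.TorLoc1
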