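import Mathlib
import Groth.Prelude.Def_DerSch2
import Groth.Prelude.Def_RegImm
import Groth.Agent.Helper9.TorLoc1
import Groth.Agent.Helper9.ClImm2
import Groth.Agent.Helper9.Comp1
import Groth.Agent.Helper3.PcMorA
import Groth.Agent.Helper3.KPerfF
import Groth.Agent.Helper3.KPerfA
import Groth.Agent.Helper3.DRingTor6

/-! A Koszul-regular immersion of codimension `d` has perfect dimension at most `d`. -/

set_option autoImplicit false
set_option linter.style.haveILetI false
set_option linter.unusedVariables false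
set_option linter.unusedSectionVars false
universe u

namespace Groth.Agent.Helper9.PerfKR1

open CategoryTheory CategoryTheory.Limits AlgebraicGeometry Opposite
open Scheme.Modules Groth.Agent.Lead.PerfLib Groth.Agent.Lead.PcLib
  Groth.Agent.Helper9.KR1 Groth.Agent.Helper3.DRingLib
  Groth.Agent.Helper9.SkyMod4 Groth.Agent.Helper9.SkyMod5 Groth.Agent.Helper9.StalkTensor9
  Groth.Agent.Helper4.QcqsMod Groth.Agent.Helper3.PcHom

attribute [local instance] HasDerivedCategory.standard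

/-- a pseudo-coherent morphism is `n`-pseudo-coherent (chart form) for every `n` -/
theorem isNPseudoCoherent_of_pcMor {X Y : Scheme.{u}} (f : X ⟶ Y)
    (hf : MoreMor.IsPseudoCoherentMor f) (n : ℤ) : DerSch.IsNPseudoCoherent f n := by
  haveI : LocallyOfFinitePresentation f := Groth.Agent.Helper3.KPerfF.s7168 f hf
  haveI : LocallyOfFiniteType f := inferInstance
  show DerSch.IsPseudoCoherentRel f n (DCoh.toD X (DerSch.unitCx X))
  rw [Groth.Agent.Helper9.Chart6.rel_iff]
  intro U V h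
  refine (Groth.Agent.Helper9.Chart20.unit_chart_iff f U.2 V.2 h n).2 ?_
  letI := (f.appLE (V : Y.Opens) (U : X.Opens) h).hom.toAlgebra
  exact (pcHom_iff_relPCAll.1 (hf U V U.2 V.2 h)) n

section Ring

variable {A : Type u} [CommRing A]

/-- the quotient by a Koszul-regular sequence of length `d` has tor amplitude in `[-d, 0]` -/
theorem hasTorAmplitudeIn_quot_of_kreg (l : List A) (hl : LCI.IsKoszulRegularSeq A l) :
    DRing.HasTorAmplitudeIn A (-(l.length : ℤ)) 0 (Dual.inD A (A ⧸ Ideal.ofList l)) := by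
  obtain ⟨e⟩ := Groth.Agent.Helper3.KPerfA.nonempty_toD_iso_of_homology (Koszul.koszul A l) hl
  have e0' : Nonempty ((Koszul.koszul A l).homology 0 ≅ ModuleCat.of A (A ⧸ Ideal.ofList l)) := by
    rw [Groth.Agent.Lead.KoszulFunC.koszul_eq]
    exact Groth.Agent.Helper3.KzTor.nonempty_homology_zero_iso l
  obtain ⟨e0⟩ := e0'
  refine ⟨Koszul.koszul A l, Groth.Agent.Helper3.KPerfA.koszul_vanishesOutside l, fun i => ?_,
    ⟨e ≪≫ (DerivedCategory.singleFunctor (ModuleCat.{u} A) 0).mapIso e0⟩⟩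
  haveI := (Groth.Agent.Helper3.KPerfA.koszul_termwiseFiniteFree l i).2
  infer_instance

end Ring

variable {X Z : Scheme.{u}} (i : Z ⟶ X)

/-- the sections of `i_* O_Z` over an open are the quotient by the kernel, when `i^♯` is
surjective there -/
theorem nonempty_sections_equiv' (U : X.Opens) (hsurj' : Function.Surjective (i.app U).hom)
    (I : Ideal Γ(X, U)) (hI : RingHom.ker (i.app U).hom = I) :
    Nonempty ((Γ(X, U) ⧸ I) ≃ₗ[Γ(X, U)] Γ(pushO i, U)) := by
  let one : Γ(pushO i, U) := (show Γ(pushO i, U) from (1 : Γ(Z, i ⁻¹ᵁ U)))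
  let L : Γ(X, U) →ₗ[Γ(X, U)] Γ(pushO i, U) := LinearMap.toSpanSingleton _ _ one
  have hL : ∀ r : Γ(X, U), L r = (show Γ(pushO i, U) from ((i.app U).hom r : Γ(Z, i ⁻¹ᵁ U))) := by
    intro r
    show r • one = _
    show (show Γ(pushO i, U) from ((i.app U).hom r * (1 : Γ(Z, i ⁻¹ᵁ U)) : Γ(Z, i ⁻¹ᵁ U))) = _
    rw [mul_one]
  have hsurj : Function.Surjective L := by
    intro s
    obtain ⟨r, hr⟩ := hsurj' (show Γ(Z, i ⁻¹ᵁ U) from s)
    exact ⟨r, (hL r).trans hr⟩
  have hker : LinearMap.ker L = I := by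
    rw [← hI]
    ext r
    rw [LinearMap.mem_ker, hL, RingHom.mem_ker]
    rfl
  exact ⟨(Submodule.quotEquivOfEq _ _ hker.symm).trans (L.quotKerEquivOfSurjective hsurj)⟩

/-- over an affine open on which `i` restricts to a closed immersion, the preimage is affine -/
theorem isAffineOpen_preimage_of_restrict (U : X.Opens) (hU : IsAffineOpen U)
    [IsClosedImmersion (i ∣_ U)] : IsAffineOpen (i ⁻¹ᵁ U) := by
  haveI : IsAffine (U : Scheme.{u}) := hU
  exact isAffine_of_isAffineHom (i ∣_ U)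

/-- over an affine open on which `i` restricts to a closed immersion, `i^♯` is surjective -/
theorem app_surjective_of_restrict (U : X.Opens) (hU : IsAffineOpen U)
    [IsClosedImmersion (i ∣_ U)] : Function.Surjective (i.app U).hom := by
  haveI : IsAffine (U : Scheme.{u}) := hU
  have h1 := (i ∣_ U).app_surjective ⊤ (isAffineOpen_top _)
  rw [morphismRestrict_app'] at h1
  have key : ∀ (U' : X.Opens) (W' : Z.Opens) (e : W' ≤ i ⁻¹ᵁ U'), U' = U → W' = i ⁻¹ᵁ U →
      Function.Surjective (i.appLE U' W' e).hom → Function.Surjective (i.app U).hom := by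
    rintro _ _ e rfl rfl h
    rwa [Scheme.Hom.app_eq_appLE]
  refine key _ _ _ ?_ ?_ h1
  · exact Scheme.Opens.ι_image_top U
  · rw [Scheme.Hom.preimage_top, Scheme.Opens.ι_image_top]

theorem isQuasicoherent_structureModule (Z : Scheme.{u}) :
    (Coh.structureModule Z).IsQuasicoherent :=
  Groth.Agent.Helper4.FinLocFree4.isQuasicoherent_of_isFinLocFree _
    (Groth.Agent.Helper4.FinLocFree6.isFinLocFree_unit (X := Z))

/-- the local statement on tor amplitude -/
theorem hasTorAmplitudeAt_of_kreg [IsImmersion i] (z : Z) (U : X.Opens) (hU : IsAffineOpen U)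
    (hzU : i z ∈ U) [IsClosedImmersion (i ∣_ U)] (rs : List Γ(X, U))
    (hrs : LCI.IsKoszulRegularSeq Γ(X, U) rs)
    (hker : RingHom.ker (i.app U).hom = Ideal.ofList rs) :
    DerSch.HasTorAmplitudeAt i (-(rs.length : ℤ)) 0 (DerSch.unitCx Z) z := by
  haveI := isQuasicoherent_structureModule Z
  have hUZ : IsAffineOpen (i ⁻¹ᵁ U) := isAffineOpen_preimage_of_restrict i U hU
  have hloc : IsLocalizingOn (pushO i) U :=
    isLocalizingOn_pushforward i (Coh.structureModule Z) U
      (isLocalizingOn_of_isAffineOpen _ hUZ)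
  obtain ⟨e⟩ := nonempty_sections_equiv' i U (app_surjective_of_restrict i U hU) _ hker
  have h1 : DRing.HasTorAmplitudeIn Γ(X, U) (-(rs.length : ℤ)) 0
      (Dual.inD Γ(X, U) Γ(pushO i, U)) :=
    hasTorAmplitudeIn_of_iso (inDIso e) _ _ (hasTorAmplitudeIn_quot_of_kreg rs hrs)
  have h2 := Groth.Agent.Helper9.TorLoc1.hasTorAmplitudeIn_stalk_of_sections (pushO i) hU hloc
    (i z) hzU _ _ h1
  have h3 : DRing.HasTorAmplitudeIn (X.presheaf.stalk (i z)) (-(rs.length : ℤ)) 0
      (DRing.toD ((StCx (i z)).obj (((Scheme.Modules.pushforward i).mapHomologicalComplex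
        (ComplexShape.up ℤ)).obj (DerSch.unitCx Z)))) :=
    hasTorAmplitudeIn_of_iso (DerivedCategory.Q.mapIso ((StCx (i z)).mapIso
      ((HomologicalComplex.singleMapHomologicalComplex (Scheme.Modules.pushforward i)
        (ComplexShape.up ℤ) 0).app (Coh.structureModule Z)).symm)) _ _ h2
  have h4 : DRing.HasTorAmplitudeIn (X.presheaf.stalk (i z)) (-(rs.length : ℤ)) 0
      (DRing.toD ((Groth.Agent.Helper9.RingProj1.rCx (i.stalkMap z).hom).obj
        ((StCx z).obj (DerSch.unitCx Z)))) :=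
    hasTorAmplitudeIn_of_iso (DerivedCategory.Q.mapIso
      (Groth.Agent.Helper9.ClImm2.stalkCxPushIso i i.isEmbedding.isInducing z (DerSch.unitCx Z)))
      _ _ h3
  exact h4

/-- the pseudo-coherence part -/
theorem isPseudoCoherentMor_of_kreg (hi : RegImm.IsRegularImmersion RegImm.Kind.koszul i) :
    MoreMor.IsPseudoCoherentMor i := by
  rw [Groth.Agent.Helper3.PcMor.s7166]
  intro z
  obtain ⟨U, hzU, hcl, rs, hrs, hker⟩ := hi.2 z
  haveI := hcl
  have hUZ : IsAffineOpen (i ⁻¹ᵁ U.1) := isAffineOpen_preimage_of_restrict i U.1 U.2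
  refine ⟨i ⁻¹ᵁ U.1, U.1, le_rfl, hUZ, U.2, hzU, ?_⟩
  letI : Algebra Γ(X, U.1) Γ(Z, i ⁻¹ᵁ U.1) := (i.appLE U.1 (i ⁻¹ᵁ U.1) le_rfl).hom.toAlgebra
  have hsurj : Function.Surjective (algebraMap Γ(X, U.1) Γ(Z, i ⁻¹ᵁ U.1)) := by
    have := app_surjective_of_restrict i U.1 U.2
    rw [Scheme.Hom.app_eq_appLE] at this
    exact this
  rw [pcHom_iff_of_surjective hsurj]
  have hrs' : LCI.IsKoszulRegularSeq Γ(X, U.1) rs := hrs
  have h1 : DRing.IsPseudoCoherent' Γ(X, U.1) (Dual.inD Γ(X, U.1) (Γ(X, U.1) ⧸ Ideal.ofList rs)) :=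
    ((isPerfect_iff_pc_and_torDim _).1
      (Groth.Agent.Helper3.KPerfA.isPerfect_quot_of_kreg rs hrs')).1
  have hk : LinearMap.ker (Algebra.linearMap Γ(X, U.1) Γ(Z, i ⁻¹ᵁ U.1)) = Ideal.ofList rs := by
    rw [← hker]
    ext r
    rw [LinearMap.mem_ker, RingHom.mem_ker, Algebra.linearMap_apply, Scheme.Hom.app_eq_appLE]
    rfl
  let e0 : (Γ(X, U.1) ⧸ Ideal.ofList rs) ≃ₗ[Γ(X, U.1)] Γ(Z, i ⁻¹ᵁ U.1) :=
    (Submodule.quotEquivOfEq _ _ hk.symm).trans
      ((Algebra.linearMap Γ(X, U.1) Γ(Z, i ⁻¹ᵁ U.1)).quotKerEquivOfSurjective hsurj)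
  exact isPseudoCoherent'_of_iso (inDIso e0) h1

theorem main (d : ℕ) (hi : RegImm.IsRegularImmersionOfCodim RegImm.Kind.koszul d i) :
    DerSch.HasPerfDimLE i d := by
  haveI := hi.1
  have hreg : RegImm.IsRegularImmersion RegImm.Kind.koszul i := by
    refine ⟨hi.1, fun z => ?_⟩
    obtain ⟨U, hzU, hcl, rs, -, hrs, hker⟩ := hi.2 z
    exact ⟨U, hzU, hcl, rs, hrs, hker⟩
  refine ⟨fun m => isNPseudoCoherent_of_pcMor i (isPseudoCoherentMor_of_kreg i hreg) m, ?_⟩
  intro z
  obtain ⟨U, hzU, hcl, rs, hlen, hrs, hker⟩ := hi.2 z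
  haveI := hcl
  have h := hasTorAmplitudeAt_of_kreg i z U.1 U.2 hzU rs hrs hker
  rw [hlen] at h
  exact h

end Groth.Agent.Helper9.PerfKR1
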