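import Mathlib
import Groth.Prelude.Def_MoreMor
import Groth.Agent.Helper9.SmTor5
import Groth.Agent.Helper9.FlatPC3
import Groth.Agent.Helper3.PerfMorA
import Groth.Agent.Helper3.TorDimA

/-! Cancellation of perfect morphisms along smooth morphisms. -/

set_option autoImplicit false
set_option linter.style.haveILetI false
set_option linter.unusedVariables false
set_option linter.unusedSectionVars false
set_option linter.unusedSimpArgs false
universe u

namespace Groth.Agent.Helper9.SmTor9

open CategoryTheory CategoryTheory.Limits AlgebraicGeometry Opposite TopologicalSpace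
open Groth.Agent.Helper3.DRingLib Groth.Agent.Helper3.PcHom Groth.Agent.Helper3.TorDim
  DerivedCategory

attribute [local instance] HasDerivedCategory.standard

section Ring

variable {A B C : Type u} [CommRing A] [CommRing B] [CommRing C]

/-- finite tor dimension over the base gives finite tor dimension over a standard smooth algebra -/
theorem R_cancel_stdSmooth (φ : A →+* B) (n : ℕ) (hφ : φ.IsStandardSmoothOfRelativeDimension n)
    (ψ : B →+* C) (h : R (ψ.comp φ)) : R ψ := by
  letI algAC : Algebra A C := (ψ.comp φ).toAlgebra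
  letI algBC : Algebra B C := ψ.toAlgebra
  have h' : DRing.HasFiniteTorDim A C := h
  obtain ⟨d, hd⟩ := (hasFiniteTorDim_iff C).1 h'
  show DRing.HasFiniteTorDim B C
  refine hasFiniteTorDim_of_amp C (-(d : ℤ) - n) 0 ?_
  let K : DRing.Cx B :=
    (CochainComplex.singleFunctor (ModuleCat.{u} B) 0).obj (ModuleCat.of B C)
  have e : DRing.toD K ≅ Dual.inD B C :=
    ((singleFunctorIsoCompQ (ModuleCat.{u} B) 0).app (ModuleCat.of B C)).symm
  refine hasTorAmplitudeIn_of_iso e _ _ ?_
  have hloc : letI := (RingHom.id B).toAlgebra; IsLocalization (⊥ : Submonoid B) B :=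
    IsLocalization.self (by
      intro x hx
      rw [Submonoid.mem_bot] at hx
      subst hx
      exact isUnit_one)
  refine Groth.Agent.Helper9.SmTor4.main φ n hφ (RingHom.id A) (RingHom.Flat.id A)
    (RingHom.id B) ⊥ hloc φ rfl K _ _ ?_
  let eM : ((rF φ).obj (ModuleCat.of B C)) ≃ₗ[A] C :=
    { toFun := fun m => m
      invFun := fun m => m
      map_add' := fun _ _ => rfl
      map_smul' := fun c m => rfl
      left_inv := fun _ => rfl
      right_inv := fun _ => rfl }
  have e1 : DRing.toD ((rCx φ).obj K) ≅ Dual.inD A C :=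
    (rDToD φ K).symm ≪≫ (DRing.restrictD φ).mapIso e ≪≫
      rDSingle φ 0 (ModuleCat.of B C) ≪≫
      (singleFunctor (ModuleCat.{u} A) 0).mapIso eM.toModuleIso
  exact hasTorAmplitudeIn_of_iso e1.symm _ _ hd

/-- perfect ring maps cancel along standard smooth ring maps -/
theorem Perf_cancel_stdSmooth (φ : A →+* B) (n : ℕ)
    (hφ : φ.IsStandardSmoothOfRelativeDimension n) (ψ : B →+* C) (h : Perf (ψ.comp φ)) :
    Perf ψ := by
  refine ⟨Q_cancel φ ψ ?_ h.1, R_cancel_stdSmooth φ n hφ ψ h.2⟩
  have hsm : φ.Smooth := (hφ.isStandardSmooth).smooth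
  letI := φ.toAlgebra
  haveI : Algebra.Smooth A B := hsm
  show MoreMor.IsPseudoCoherentHom A B
  exact Groth.Agent.Helper9.FlatPC3.pcHom_of_flat_fp A B

end Ring

/-- **cancellation of perfect morphisms along smooth morphisms** -/
theorem s1510 {X Y S : Scheme.{u}} (f : X ⟶ Y) (g : Y ⟶ S) [Smooth g]
    (h : MoreMor.IsPerfectMor (f ≫ g)) : MoreMor.IsPerfectMor f := by
  rw [Groth.Agent.Helper3.PerfMor.s7171]
  intro x
  obtain ⟨W, hW, V, hV, hyV, e, hsm⟩ := Smooth.exists_isStandardSmooth g (f.base x)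
  obtain ⟨n, hn⟩ := Groth.Agent.Helper9.SmTor5.exists_relDim hsm
  obtain ⟨_, ⟨U, hU, rfl⟩, hxU, hUV0⟩ :=
    (X.isBasis_affineOpens).exists_subset_of_mem_open (show x ∈ f ⁻¹ᵁ V from hyV) (f ⁻¹ᵁ V).2
  have hUV : U ≤ f ⁻¹ᵁ V := hUV0
  have hUW : U ≤ (f ≫ g) ⁻¹ᵁ W := fun z hz => e (hUV hz)
  refine ⟨U, V, hUV, hU, hV, hxU, ?_⟩
  have h1 := h U W hU hW hUW
  have hcomp : ((f ≫ g).appLE W U hUW).hom = (f.appLE V U hUV).hom.comp (g.appLE W V e).hom := by
    rw [← CommRingCat.hom_comp, Scheme.Hom.appLE_comp_appLE]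
  have h2 : Perf ((f.appLE V U hUV).hom.comp (g.appLE W V e).hom) := by
    rw [← hcomp]
    exact h1
  exact Perf_cancel_stdSmooth _ n hn _ h2

end Groth.Agent.Helper9.SmTor9
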