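import Mathlib
import Groth.Prelude.Def_DerSch2
import Groth.Agent.Helper9.SmTor9
import Groth.Agent.Helper9.SmTor7
import Groth.Agent.Helper9.TorLoc1
import Groth.Agent.Helper9.PerfKR1
import Groth.Agent.Lead.FlatLib4

/-! The direct image of the structure sheaf along an affine morphism `f : X ⟶ Y` with `Y` smooth
over `S` and `X` flat over `S`: pseudo-coherent implies perfect. -/

set_option autoImplicit false
set_option linter.style.haveILetI false
set_option linter.unusedVariables false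
set_option linter.unusedSectionVars false
set_option linter.unusedSimpArgs false
universe u

namespace Groth.Agent.Helper9.SmTor10

open CategoryTheory CategoryTheory.Limits AlgebraicGeometry Opposite TopologicalSpace
open Groth.Agent.Helper3.DRingLib Groth.Agent.Helper3.PcHom Groth.Agent.Helper3.TorDim
  Groth.Agent.Lead.PerfLib Groth.Agent.Helper9.KR1 Groth.Agent.Helper4.QcqsMod
  Groth.Agent.Helper9.SkyMod4 Groth.Agent.Helper9.StalkTensor9

attribute [local instance] HasDerivedCategory.standard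

variable {X Y S : Scheme.{u}}

theorem locHasFiniteTorDim_of_iso {K K' : DCoh.D Y} (e : K ≅ K')
    (h : DCoh.LocHasFiniteTorDim K) : DCoh.LocHasFiniteTorDim K' := by
  intro y
  obtain ⟨V, a, b, hyV, hV⟩ := h y
  exact ⟨V, a, b, hyV, fun F' ⟨e'⟩ => hV F' ⟨e' ≪≫ e.symm⟩⟩

/-- the sections of `f_* O_X` over an open, as a module over the sections of `O_Y` -/
theorem nonempty_sections_equiv (f : X ⟶ Y) (V : Y.Opens) :
    letI := (f.app V).hom.toAlgebra
    Nonempty (Γ(X, f ⁻¹ᵁ V) ≃ₗ[Γ(Y, V)] Γ(pushO f, V)) := by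
  letI := (f.app V).hom.toAlgebra
  exact ⟨{ toFun := fun c => (show Γ(pushO f, V) from c)
           invFun := fun m => (show Γ(X, f ⁻¹ᵁ V) from m)
           map_add' := fun _ _ => rfl
           map_smul' := fun r c => rfl
           left_inv := fun _ => rfl
           right_inv := fun _ => rfl }⟩

/-- **the direct image of the structure sheaf is perfect** -/
theorem s7872 (f : X ⟶ Y) (g : Y ⟶ S) [IsAffineHom f] [Smooth g] [Flat (f ≫ g)]
    (hpc : ∀ m : ℤ, DCoh.IsPseudoCoherentD m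
      (DCoh.inD Y ((Coh.push f).obj (Coh.structureModule X)))) :
    DCoh.IsPerfect (DCoh.inD Y ((Coh.push f).obj (Coh.structureModule X))) := by
  rw [Groth.Agent.Lead.FlatLib.isPerfect_iff_pc_locFiniteTorDim]
  refine ⟨hpc, ?_⟩
  refine locHasFiniteTorDim_of_iso (sgIso (pushO f)) ?_
  rw [Groth.Agent.Helper9.SmTor7.locHasFiniteTorDim_iff]
  intro y
  obtain ⟨W, hW, V, hV, hyV, e, hsm⟩ := Smooth.exists_isStandardSmooth g y
  obtain ⟨n, hn⟩ := Groth.Agent.Helper9.SmTor5.exists_relDim hsm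
  have hUX : IsAffineOpen (f ⁻¹ᵁ V) := hV.preimage f
  have hUW : f ⁻¹ᵁ V ≤ (f ≫ g) ⁻¹ᵁ W := fun z hz => e hz
  have hfl : ((f ≫ g).appLE W (f ⁻¹ᵁ V) hUW).hom.Flat :=
    HasRingHomProperty.appLE (P := @Flat) (f ≫ g) inferInstance ⟨W, hW⟩ ⟨_, hUX⟩ hUW
  have hcomp : ((f ≫ g).appLE W (f ⁻¹ᵁ V) hUW).hom =
      (f.app V).hom.comp (g.appLE W V e).hom := by
    rw [← CommRingCat.hom_comp, Scheme.Hom.app_eq_appLE, Scheme.Hom.appLE_comp_appLE]
  have hR : R ((f.app V).hom.comp (g.appLE W V e).hom) := by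
    rw [← hcomp]
    exact R_of_flat _ hfl
  have hR' : R (f.app V).hom :=
    Groth.Agent.Helper9.SmTor9.R_cancel_stdSmooth _ n hn _ hR
  obtain ⟨eq⟩ := nonempty_sections_equiv f V
  letI := (f.app V).hom.toAlgebra
  obtain ⟨d, hd⟩ := (hasFiniteTorDim_iff Γ(X, f ⁻¹ᵁ V)).1 hR'
  have h1 : DRing.HasTorAmplitudeIn Γ(Y, V) (-(d : ℤ)) 0 (Dual.inD Γ(Y, V) Γ(pushO f, V)) :=
    hasTorAmplitudeIn_of_iso (inDIso eq) _ _ hd
  haveI := Groth.Agent.Helper9.PerfKR1.isQuasicoherent_structureModule X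
  have hloc : IsLocalizingOn (pushO f) V :=
    isLocalizingOn_pushforward f (Coh.structureModule X) V
      (isLocalizingOn_of_isAffineOpen _ hUX)
  refine ⟨V, -(d : ℤ), 0, hyV, fun y' hy' => ?_⟩
  exact Groth.Agent.Helper9.TorLoc1.hasTorAmplitudeIn_stalk_of_sections (pushO f) hV hloc
    y' hy' _ _ h1

end Groth.Agent.Helper9.SmTor10
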