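import Mathlib
import Groth.Agent.Helper9.FC8
import Groth.Agent.Helper9.Lpull5
import Groth.Agent.Helper9.SmTor10
import Groth.Agent.Helper9.TorStalk1
import Groth.Agent.Lead.PerfLib11
import Groth.Agent.Lead.FlatLib4

/-! The criterion of perfection by fibres. -/

set_option autoImplicit false
set_option linter.style.haveILetI false
set_option linter.unusedVariables false
set_option linter.unusedSectionVars false
universe u

namespace Groth.Agent.Helper9.FC9

noncomputable section

open CategoryTheory CategoryTheory.Limits AlgebraicGeometry HomologicalComplex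
open Groth.Agent.Lead.PerfLib Groth.Agent.Lead.PcLib Groth.Agent.Lead.FlatLib

attribute [local instance] HasDerivedCategory.standard

variable {X S : Scheme.{u}} (f : X ⟶ S)

/-- the canonical morphism from the fibre of the identity at `x` (that is, `Spec κ(x)`) to the
fibre of `f` through `x` -/
def fibreLift (x : X) : pullback (𝟙 X) (X.fromSpecResidueField x) ⟶
    pullback f (S.fromSpecResidueField (f x)) :=
  pullback.lift (pullback.fst (𝟙 X) (X.fromSpecResidueField x))
    (pullback.snd (𝟙 X) (X.fromSpecResidueField x) ≫ Spec.map (f.residueFieldMap x)) (by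
      rw [Category.assoc, Scheme.Hom.SpecMap_residueFieldMap_fromSpecResidueField,
        ← Category.assoc, ← pullback.condition, Category.comp_id])

lemma fibreLift_fst (x : X) :
    fibreLift f x ≫ pullback.fst f (S.fromSpecResidueField (f x)) =
      pullback.fst (𝟙 X) (X.fromSpecResidueField x) :=
  pullback.lift_fst _ _ _

/-- local finiteness of tor dimension relative to the identity is the absolute one -/
theorem locHasFiniteTorDim_of_rel_id (E : DCoh.D X)
    (h : DCoh.LocHasFiniteRelTorDim (𝟙 X) E) : DCoh.LocHasFiniteTorDim E := by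
  let F₀ : CochainComplex X.Modules ℤ := DerivedCategory.Q.objPreimage E
  let e₀ : DerivedCategory.Q.obj F₀ ≅ E := DerivedCategory.Q.objObjPreimageIso E
  rw [Groth.Agent.Helper9.RelTor2.locHasFiniteRelTorDim_iff (𝟙 X) E F₀ e₀] at h
  refine Groth.Agent.Helper9.SmTor10.locHasFiniteTorDim_of_iso e₀ ?_
  rw [Groth.Agent.Helper9.SmTor7.locHasFiniteTorDim_iff F₀]
  intro x
  obtain ⟨V, a, b, hxV, hV⟩ := h x
  exact ⟨V, a, b, hxV, fun x' hx' =>
    (Groth.Agent.Helper9.TorStalk1.hasTorAmplitudeAt_id_iff F₀ a b x').1 (hV x' hx')⟩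

variable [Flat f] [LocallyOfFinitePresentation f]

/-- **S5629** -/
theorem main [∀ s : S, DCoh.HasLpull (f.fiberι s)] (E : DCoh.D X) :
    DCoh.IsPerfect E ↔
      ((∀ m : ℤ, DCoh.IsPseudoCoherentD m E) ∧ DCoh.LocHasFiniteRelTorDim f E ∧
        ∀ s : S, DCoh.IsPerfect ((DCoh.Lpull (f.fiberι s)).obj E)) := by
  constructor
  · intro hE
    have h1 := relativelyPerfect_of_perfect f E hE
    exact ⟨h1.1, h1.2, fun s => Groth.Agent.Helper9.Lpull5.isPerfect_lpull (f.fiberι s) E hE⟩
  · rintro ⟨hpc, hrel, hfib⟩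
    rw [isPerfect_iff_pc_locFiniteTorDim]
    refine ⟨hpc, locHasFiniteTorDim_of_rel_id E ?_⟩
    haveI : ∀ x : X, DCoh.HasLpull ((𝟙 X : X ⟶ X).fiberι x) :=
      fun x => Groth.Agent.Helper9.Lpull1.hasLpull _
    refine Groth.Agent.Helper9.FC8.locHasFiniteRelTorDim_of_fibres (𝟙 X) E hpc
      (fun x => Groth.Agent.Helper9.FC8.locally_isGE f E hrel x) (fun x y => ?_)
    haveI : DCoh.HasLpull (pullback.fst f (S.fromSpecResidueField (f x))) :=
      inferInstanceAs (DCoh.HasLpull (f.fiberι (f x)))
    haveI : DCoh.HasLpull (pullback.fst (𝟙 X) (X.fromSpecResidueField x)) :=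
      Groth.Agent.Helper9.Lpull1.hasLpull _
    haveI : DCoh.HasLpull (fibreLift f x) := Groth.Agent.Helper9.Lpull1.hasLpull _
    haveI : DCoh.HasLpull (fibreLift f x ≫ pullback.fst f (S.fromSpecResidueField (f x))) :=
      Groth.Agent.Helper9.Lpull1.hasLpull _
    let e1 := (Groth.Agent.Helper9.Lpull3.lpullComp (fibreLift f x)
      (pullback.fst f (S.fromSpecResidueField (f x)))).app E
    obtain ⟨e2⟩ := Groth.Agent.Helper9.QcLpull1.lpullCongr (fibreLift_fst f x) E
    have hperf : DCoh.IsPerfect
        ((DCoh.Lpull (pullback.fst (𝟙 X) (X.fromSpecResidueField x))).obj E) :=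
      Groth.Agent.Lead.PerfLib.isPerfect_of_iso (e1 ≪≫ e2)
        (Groth.Agent.Helper9.Lpull5.isPerfect_lpull (fibreLift f x) _ (hfib (f x)))
    have h2 := relativelyPerfect_of_perfect
      (𝟙 (pullback (𝟙 X) (X.fromSpecResidueField x))) _ hperf
    exact Groth.Agent.Helper9.FC8.locally_isGE
      (𝟙 (pullback (𝟙 X) (X.fromSpecResidueField x))) _ h2.2 y

end

end Groth.Agent.Helper9.FC9
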