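import Mathlib

/-! Complexes of functors `J ⥤ A` versus functors to complexes: the colimit cocone obtained by
applying `colim` termwise, and transfer lemmas for colimit cocones. -/

set_option autoImplicit false
set_option linter.unusedSectionVars false
set_option linter.unusedVariables false
universe w' w v u

namespace Groth.Agent.Helper9.FCol1

open CategoryTheory Limits

section Transfer

variable {J : Type*} [Category J] {E : Type*} [Category E]

/-- transfer of colimit cocones along a natural iso of diagrams and a compatible iso of points -/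
def isColimitEquivOfIsos {F₁ F₂ : J ⥤ E} (e : F₁ ≅ F₂) (c₁ : Cocone F₁) (c₂ : Cocone F₂)
    (ept : c₁.pt ≅ c₂.pt) (h : ∀ j, c₁.ι.app j ≫ ept.hom = e.hom.app j ≫ c₂.ι.app j) :
    IsColimit c₁ ≃ IsColimit c₂ :=
  IsColimit.equivOfNatIsoOfIso e c₁ c₂ (Cocone.ext ept (fun j => by
    dsimp
    rw [Category.assoc, h j, ← Category.assoc, ← NatTrans.comp_app, e.inv_hom_id,
      NatTrans.id_app, Category.id_comp]))

variable {𝒞 : Type*} [Category 𝒞]

/-- a natural transformation which is invertible on a cocone transfers colimit-ness of the images -/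
noncomputable def isColimitMapCoconeEquiv {G₁ G₂ : 𝒞 ⥤ E} (τ : G₁ ⟶ G₂) {D : J ⥤ 𝒞} (c : Cocone D)
    (hD : ∀ j, IsIso (τ.app (D.obj j))) (hc : IsIso (τ.app c.pt)) :
    IsColimit (G₁.mapCocone c) ≃ IsColimit (G₂.mapCocone c) :=
  isColimitEquivOfIsos
    (NatIso.ofComponents (fun j => asIso (τ.app (D.obj j))) (fun f => by simp))
    _ _ (asIso (τ.app c.pt)) (fun j => by simp)

/-- a functor inverting a morphism of cocones transfers colimit-ness of the images -/
noncomputable def isColimitMapCoconeEquiv' (G : 𝒞 ⥤ E) {D D' : J ⥤ 𝒞} (α : D ⟶ D') (c : Cocone D)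
    (c' : Cocone D') (a : c.pt ⟶ c'.pt) (ha : ∀ j, c.ι.app j ≫ a = α.app j ≫ c'.ι.app j)
    (hα : ∀ j, IsIso (G.map (α.app j))) (hpt : IsIso (G.map a)) :
    IsColimit (G.mapCocone c) ≃ IsColimit (G.mapCocone c') :=
  isColimitEquivOfIsos (F₁ := D ⋙ G) (F₂ := D' ⋙ G)
    (NatIso.ofComponents (fun j => asIso (G.map (α.app j))) (fun f => by
      dsimp
      rw [← G.map_comp, ← G.map_comp, α.naturality]))
    (G.mapCocone c) (G.mapCocone c') (asIso (G.map a)) (fun j => by
      dsimp
      rw [← G.map_comp, ← G.map_comp, ha j])

end Transfer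

section Gamma

variable {J : Type w} [Category.{w'} J] {A : Type u} [Category.{v} A] [HasZeroMorphisms A]
  [HasColimitsOfShape J A] {ι : Type*} {c : ComplexShape ι}

/-- the complex of functors attached to a functor to complexes -/
@[simps]
def ofFunctor (C : J ⥤ HomologicalComplex A c) : HomologicalComplex (J ⥤ A) c where
  X m := C ⋙ HomologicalComplex.eval A c m
  d m m' :=
    { app := fun j => (C.obj j).d m m'
      naturality := fun j j' h => by
        dsimp
        exact ((C.map h).comm m m') }
  shape m m' h := by
    ext j
    exact (C.obj j).shape m m' h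
  d_comp_d' m m' m'' _ _ := by
    ext j
    exact (C.obj j).d_comp_d m m' m''

/-- `ofFunctor` is inverse to `asFunctor` -/
def ofFunctorIso (C : J ⥤ HomologicalComplex A c) : (ofFunctor C).asFunctor ≅ C :=
  NatIso.ofComponents (fun j => HomologicalComplex.Hom.isoOfComponents (fun m => Iso.refl _)
    (fun m m' _ => (Category.id_comp _).trans (Category.comp_id _).symm)) (fun {j j'} h => by
      ext m
      exact (Category.comp_id _).trans (Category.id_comp _).symm)

/-- the termwise colimit cocone of a complex of functors -/
@[simps]
noncomputable def γ (K : HomologicalComplex (J ⥤ A) c) : Cocone K.asFunctor where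
  pt := ((colim (J := J) (C := A)).mapHomologicalComplex c).obj K
  ι :=
    { app := fun j =>
        { f := fun m => colimit.ι (K.X m) j
          comm' := fun m m' _ => by
            exact ι_colimMap (K.d m m') j }
      naturality := fun j j' h => by
        ext m
        dsimp
        rw [Category.comp_id]
        exact colimit.w (K.X m) h }

/-- the termwise colimit cocone is a colimit -/
noncomputable def isColimitγ (K : HomologicalComplex (J ⥤ A) c) : IsColimit (γ K) :=
  HomologicalComplex.isColimitOfEval _ _ (fun m =>
    (isColimitEquivOfIsos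
      (NatIso.ofComponents (fun j => Iso.refl _)
        (fun {j j'} h => (Category.comp_id _).trans (Category.id_comp _).symm) :
        K.X m ≅ K.asFunctor ⋙ HomologicalComplex.eval A c m)
      (colimit.cocone (K.X m)) ((HomologicalComplex.eval A c m).mapCocone (γ K)) (Iso.refl _)
      (fun j => (Category.comp_id _).trans (Category.id_comp _).symm)) (colimit.isColimit (K.X m)))

/-- naturality of the termwise colimit cocone -/
lemma γ_naturality {K L : HomologicalComplex (J ⥤ A) c} (f : K ⟶ L) (j : J) :
    (γ K).ι.app j ≫ ((colim (J := J) (C := A)).mapHomologicalComplex c).map f =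
      (HomologicalComplex.complexOfFunctorsToFunctorToComplex.map f).app j ≫ (γ L).ι.app j := by
  ext m
  dsimp
  exact ι_colimMap (f.f m) j

end Gamma

end Groth.Agent.Helper9.FCol1
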