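import Mathlib
import Groth.Agent.Helper9.FCol1

/-! Homology commutes with colimits of shape `J` when `colim : (J ⥤ B) ⥤ B` is exact. -/

set_option autoImplicit false
set_option linter.unusedSectionVars false
set_option linter.unusedVariables false
universe w' w v u

namespace Groth.Agent.Helper9.FCol2

open CategoryTheory Limits Groth.Agent.Helper9.FCol1

variable {J : Type w} [Category.{w'} J] {B : Type u} [Category.{v} B] [Abelian B]
  [HasColimitsOfShape J B] [HasExactColimitsOfShape J B]
  {ι : Type*} {c : ComplexShape ι}

/-- the natural transformation `ev_j ⟶ colim` -/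
noncomputable def ιNat (j : J) : (evaluation J B).obj j ⟶ (colim : (J ⥤ B) ⥤ B) where
  app F := colimit.ι F j
  naturality F G α := (ι_colimMap α j).symm

variable (K : HomologicalComplex (J ⥤ B) c) (i : ι)

/-- homology of the value at `j` -/
noncomputable def evIso (j : J) :
    (K.asFunctor.obj j).homology i ≅ (K.homology i).obj j :=
  (K.sc i).mapHomologyIso ((evaluation J B).obj j)

/-- homology of the termwise colimit -/
noncomputable def colimIso :
    ((γ K).pt).homology i ≅ colimit (K.homology i) :=
  (K.sc i).mapHomologyIso (colim : (J ⥤ B) ⥤ B)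

lemma evIso_naturality {j j' : J} (h : j ⟶ j') :
    HomologicalComplex.homologyMap (K.asFunctor.map h) i ≫ (evIso K i j').hom =
      (evIso K i j).hom ≫ (K.homology i).map h := by
  have h1 := NatTrans.app_homology ((evaluation J B).map h) (K.sc i)
  have h2 : ((K.sc i).mapHomologyIso ((evaluation J B).obj j)).hom ≫
      ((evaluation J B).map h).app (K.sc i).homology =
      ShortComplex.homologyMap ((K.sc i).mapNatTrans ((evaluation J B).map h)) ≫
        ((K.sc i).mapHomologyIso ((evaluation J B).obj j')).hom := by
    rw [h1, Iso.hom_inv_id_assoc]
  exact h2.symm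

lemma ι_colimIso (j : J) :
    HomologicalComplex.homologyMap ((γ K).ι.app j) i ≫ (colimIso K i).hom =
      (evIso K i j).hom ≫ colimit.ι (K.homology i) j := by
  have h1 := NatTrans.app_homology (ιNat (B := B) j) (K.sc i)
  have h2 : ((K.sc i).mapHomologyIso ((evaluation J B).obj j)).hom ≫
      (ιNat (B := B) j).app (K.sc i).homology =
      ShortComplex.homologyMap ((K.sc i).mapNatTrans (ιNat (B := B) j)) ≫
        ((K.sc i).mapHomologyIso (colim : (J ⥤ B) ⥤ B)).hom := by
    rw [h1, Iso.hom_inv_id_assoc]
  exact h2.symm

/-- the homology of the termwise colimit cocone is a colimit cocone -/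
noncomputable def isColimitHomologyγ :
    IsColimit ((HomologicalComplex.homologyFunctor B c i).mapCocone (γ K)) :=
  (isColimitEquivOfIsos (F₁ := K.asFunctor ⋙ HomologicalComplex.homologyFunctor B c i)
    (F₂ := K.homology i)
    (NatIso.ofComponents (fun j => evIso K i j) (fun h => evIso_naturality K i h))
    ((HomologicalComplex.homologyFunctor B c i).mapCocone (γ K))
    (colimit.cocone (K.homology i)) (colimIso K i) (fun j => ι_colimIso K i j)).symm
    (colimit.isColimit _)

/-- homology preserves colimits of shape `J` -/
instance preservesColimitsOfShape_homologyFunctor :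
    PreservesColimitsOfShape J (HomologicalComplex.homologyFunctor B c i) where
  preservesColimit {D} := by
    haveI : PreservesColimit (ofFunctor D).asFunctor (HomologicalComplex.homologyFunctor B c i) :=
      preservesColimit_of_preserves_colimit_cocone (isColimitγ (ofFunctor D))
        (isColimitHomologyγ (ofFunctor D) i)
    exact preservesColimit_of_iso_diagram _ (ofFunctorIso D)

end Groth.Agent.Helper9.FCol2
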