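import Mathlib
import Groth.Agent.Helper9.Leray2
import Groth.Agent.Helper9.FCol2
import Groth.Agent.Helper9.KFlat1

/-! Abstract form: a total right derived functor `RF` of a functor `F` commuting with filtered
colimits of shape `J`, such that `J`-colimits of injectives are `F`-acyclic, commutes (on
cohomology) with `J`-colimits of uniformly bounded below complexes. -/

set_option autoImplicit false
set_option linter.unusedSectionVars false
set_option linter.unusedVariables false
set_option linter.style.haveILetI false
universe w w' v v' u u'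

namespace Groth.Agent.Helper9.FCol3

open CategoryTheory Limits DerivedCategory
open Groth.Agent.Helper9.Leray1 Groth.Agent.Helper9.Leray2 Groth.Agent.Helper9.FCol1
  Groth.Agent.Helper9.FCol2

section FunctorCategory

variable (J : Type v') [SmallCategory J] (B : Type u') [Category.{v'} B] [Abelian B]
  [IsGrothendieckAbelian.{v'} B]

instance : HasSeparator (Jᵒᵖᵒᵖ ⥤ B) :=
  Presheaf.hasSeparator (C := Jᵒᵖ) (A := B)

instance : IsGrothendieckAbelian.{v'} (Jᵒᵖᵒᵖ ⥤ B) where
  ab5OfSize := ⟨fun K _ _ => inferInstance⟩

instance isGrothendieckAbelian : IsGrothendieckAbelian.{v'} (J ⥤ B) :=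
  IsGrothendieckAbelian.of_equivalence (C := Jᵒᵖᵒᵖ ⥤ B) ((opOpEquivalence J).congrLeft)

instance enoughInjectives : EnoughInjectives (J ⥤ B) := inferInstance

variable {J B}

instance (j : J) : (evaluationLeftAdjoint B j).PreservesMonomorphisms where
  preserves {M N} f hf := by
    rw [NatTrans.mono_iff_mono_app]
    intro t
    show Mono (Limits.Sigma.desc fun h : (j ⟶ t) => f ≫ Sigma.ι (fun _ => N) h)
    have h : (Limits.Sigma.desc fun h : (j ⟶ t) => f ≫ Sigma.ι (fun _ => N) h) =
        colim.map (Discrete.natTrans (F := Discrete.functor fun _ : (j ⟶ t) => M)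
        (G := Discrete.functor fun _ : (j ⟶ t) => N) (fun _ => f)) := by
      apply Sigma.hom_ext
      intro a
      rw [Sigma.ι_desc]
      exact (ι_colimMap (Discrete.natTrans (F := Discrete.functor fun _ : (j ⟶ t) => M)
        (G := Discrete.functor fun _ : (j ⟶ t) => N) (fun _ => f)) ⟨a⟩).symm
    rw [h]
    have : Mono (Discrete.natTrans (F := Discrete.functor fun _ : (j ⟶ t) => M)
        (G := Discrete.functor fun _ : (j ⟶ t) => N) (fun _ => f)) := by
      rw [NatTrans.mono_iff_mono_app]
      intro a
      exact hf
    have hp : (colim : (Discrete (j ⟶ t) ⥤ B) ⥤ B).PreservesMonomorphisms :=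
      inferInstance
    exact hp.preserves _

/-- the values of an injective diagram are injective -/
instance injective_obj (E : J ⥤ B) [Injective E] (j : J) : Injective (E.obj j) :=
  Injective.injective_of_adjoint (evaluationAdjunctionRight B j) E

end FunctorCategory

variable {A : Type u} [Category.{v} A] [Abelian A] [HasDerivedCategory.{w} A]
  {B : Type u'} [Category.{v'} B] [Abelian B] [IsGrothendieckAbelian.{v'} B]
  [HasDerivedCategory.{w'} B]
  (F : B ⥤ A) [F.Additive] [PreservesFiniteLimits F]
  (RF : DerivedCategory B ⥤ DerivedCategory A)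
  (β : F.mapHomotopyCategory (ComplexShape.up ℤ) ⋙ DerivedCategory.Qh ⟶ DerivedCategory.Qh ⋙ RF)
  [RF.IsRightDerivedFunctor β (HomotopyCategory.quasiIso B (ComplexShape.up ℤ))]

/-- the unit of the derived functor as a natural transformation on complexes -/
noncomputable def βQnat :
    F.mapHomologicalComplex (ComplexShape.up ℤ) ⋙ Q ⟶ Q ⋙ RF where
  app K := βQ F RF β K
  naturality K L φ := βQ_naturality F RF β φ

variable {J : Type v'} [SmallCategory J] [IsFiltered J]
  [HasColimitsOfShape J A] [HasExactColimitsOfShape J A] [PreservesColimitsOfShape J F]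

lemma isIso_map_of_quasiIso (i : ℤ) {K L : CochainComplex B ℤ} (φ : K ⟶ L) (hφ : QuasiIso φ) :
    IsIso ((Q ⋙ RF ⋙ homologyFunctor A i).map φ) := by
  dsimp only [Functor.comp_map]
  infer_instance

lemma isGE_of_evaluation (K : CochainComplex (J ⥤ B) ℤ) (n : ℤ)
    (hK : ∀ j, CochainComplex.IsGE (K.asFunctor.obj j) n) : K.IsGE n := by
  rw [CochainComplex.isGE_iff]
  intro m hm
  rw [HomologicalComplex.exactAt_iff]
  apply KFlat1.exact_of_evaluation
  intro j
  haveI := hK j
  have h := CochainComplex.exactAt_of_isGE (K.asFunctor.obj j) n m hm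
  rw [HomologicalComplex.exactAt_iff] at h
  exact h

lemma quasiIso_app {K L : CochainComplex (J ⥤ B) ℤ} (φ : K ⟶ L) [QuasiIso φ] (j : J) :
    QuasiIso ((HomologicalComplex.complexOfFunctorsToFunctorToComplex.map φ).app j) := by
  have h := (HomologicalComplex.quasiIso_iff_evaluation φ).1 inferInstance j
  exact h

include β in
theorem isColimit_of_complex_of_functors
    (hacy : ∀ E : J ⥤ B, (∀ j, Injective (E.obj j)) → Acy RF (colimit E))
    (K : CochainComplex (J ⥤ B) ℤ) (n : ℤ)
    (hK : ∀ j, CochainComplex.IsGE (K.asFunctor.obj j) n) (i : ℤ) :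
    Nonempty (IsColimit ((Q ⋙ RF ⋙ homologyFunctor A i).mapCocone (γ K))) := by
  let G : CochainComplex B ℤ ⥤ A := Q ⋙ RF ⋙ homologyFunctor A i
  haveI : K.IsGE n := isGE_of_evaluation K n hK
  -- truncation and injective resolution in the functor category
  obtain ⟨I, ι, hι, hinj, hge⟩ :=
    CochainComplex.Plus.modelCategoryQuillen.exists_quasiIso_injective (K.truncGE n) n
  haveI := hι
  haveI := hge
  let α : K ⟶ I := K.πTruncGE n ≫ ι
  haveI : QuasiIso α := by dsimp only [α]; infer_instance
  -- step b: replace `K` by `I`
  refine ⟨(isColimitMapCoconeEquiv' G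
    (HomologicalComplex.complexOfFunctorsToFunctorToComplex.map α) (γ K) (γ I)
    (((colim (J := J) (C := B)).mapHomologicalComplex (ComplexShape.up ℤ)).map α)
    (fun j => γ_naturality α j)
    (fun j => by
      exact isIso_map_of_quasiIso RF i _ (quasiIso_app α j))
    (by
      haveI : (colim : (J ⥤ B) ⥤ B).Additive := inferInstance
      haveI : (colim : (J ⥤ B) ⥤ B).PreservesHomology := inferInstance
      have hq : QuasiIso (((colim (J := J) (C := B)).mapHomologicalComplex
        (ComplexShape.up ℤ)).map α) :=
        HomologicalComplex.quasiIso_map_of_preservesHomology α colim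
      exact isIso_map_of_quasiIso RF i _ hq)).symm ?_⟩
  -- step c: the unit of the derived functor is invertible on the cocone `γ I`
  have hI : ∀ j, CochainComplex.IsStrictlyGE (I.asFunctor.obj j) n := fun j => by
    rw [CochainComplex.isStrictlyGE_iff]
    intro m hm
    exact ((I.isZero_of_isStrictlyGE n m hm).obj j)
  have hIinj : ∀ j m, Injective ((I.asFunctor.obj j).X m) := fun j m => by
    haveI := hinj m
    exact injective_obj (I.X m) j
  haveI : ∀ j, CochainComplex.IsKInjective (I.asFunctor.obj j) := fun j =>
    haveI := hI j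
    haveI := hIinj j
    CochainComplex.isKInjective_of_injective (I.asFunctor.obj j) n
  have hpt : CochainComplex.IsStrictlyGE (γ I).pt n := by
    rw [CochainComplex.isStrictlyGE_iff]
    intro m hm
    exact Functor.map_isZero colim (I.isZero_of_isStrictlyGE n m hm)
  have c1 : ∀ j, IsIso ((Functor.whiskerRight (βQnat F RF β) (homologyFunctor A i)).app
      (I.asFunctor.obj j)) := fun j => by
    haveI := isIso_βQ_of_isKInjective F RF β (I.asFunctor.obj j)
    dsimp only [Functor.whiskerRight_app, βQnat]
    infer_instance
  have c2 : IsIso ((Functor.whiskerRight (βQnat F RF β) (homologyFunctor A i)).app (γ I).pt) := by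
    haveI := hpt
    haveI := isIso_βQ_of_isStrictlyGE F RF β (γ I).pt n (fun m =>
      hacy (I.X m) (fun j => hIinj j m))
    dsimp only [Functor.whiskerRight_app, βQnat]
    infer_instance
  refine (isColimitMapCoconeEquiv (Functor.whiskerRight (βQnat F RF β) (homologyFunctor A i))
    (γ I) c1 c2) ?_
  -- step d: the underived side
  haveI : PreservesColimitsOfShape J (F.mapHomologicalComplex (ComplexShape.up ℤ)) :=
    HomologicalComplex.preservesColimitsOfShape_of_eval _ (fun m => by
      show PreservesColimitsOfShape J (F.mapHomologicalComplex (ComplexShape.up ℤ) ⋙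
        HomologicalComplex.eval A (ComplexShape.up ℤ) m)
      exact preservesColimitsOfShape_of_natIso
        (Iso.refl _ : HomologicalComplex.eval B (ComplexShape.up ℤ) m ⋙ F ≅ _))
  haveI : PreservesColimit I.asFunctor ((F.mapHomologicalComplex (ComplexShape.up ℤ) ⋙ Q) ⋙
      homologyFunctor A i) :=
    preservesColimit_of_natIso I.asFunctor
      ((Functor.isoWhiskerLeft (F.mapHomologicalComplex (ComplexShape.up ℤ))
        (homologyFunctorFactors A i)).symm ≪≫ (Functor.associator _ _ _).symm)
  exact isColimitOfPreserves _ (isColimitγ I)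

end Groth.Agent.Helper9.FCol3
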