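import Mathlib
import Groth.Agent.Helper9.FCol3
import Groth.Agent.Helper9.CPB1

/-! `Hⁱ ∘ Rf_*` commutes with filtered colimits of uniformly bounded below complexes
(`f` quasi-compact quasi-separated). -/

set_option autoImplicit false
set_option linter.style.haveILetI false
set_option linter.unusedVariables false
set_option linter.unusedSectionVars false
universe u

namespace Groth.Agent.Helper9.FCol4

open CategoryTheory Limits AlgebraicGeometry Opposite TopologicalSpace DerivedCategory
open Groth.Agent.Helper9.Leray1 Groth.Agent.Helper9.Leray2 Groth.Agent.Helper9.RpushCmp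
  Groth.Agent.Helper1 Groth.Agent.Helper9.FCol1 Groth.Agent.Helper9.FCol2
  Groth.Agent.Helper9.FCol3

attribute [local instance] HasDerivedCategory.standard

section General

variable {C : Type*} [Category C] [HasZeroMorphisms C] {J : Type*} [Category J]

lemma isZero_colimit (D : J ⥤ C) [HasColimit D] (hD : ∀ j, IsZero (D.obj j)) :
    IsZero (colimit D) := by
  rw [IsZero.iff_id_eq_zero]
  apply colimit.hom_ext
  intro j
  exact (hD j).eq_of_src _ _

end General

variable {X S : Scheme.{u}} (f : X ⟶ S) [QuasiCompact f] [QuasiSeparated f]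
  {J : Type u} [SmallCategory J] [IsFiltered J]

/-- `f_*` on modules preserves filtered colimits (`f` qcqs). -/
theorem preservesColimitsOfShape_push :
    PreservesColimitsOfShape J (Scheme.Modules.pushforward f) := by
  haveI : PreservesColimitsOfSize.{u, u} (tA X) :=
    Groth.Agent.Helper3.SheafModLib.toSheaf_preservesColimits X.ringCatSheaf
  haveI : ReflectsColimitsOfSize.{u, u} (tA S) :=
    Groth.Agent.Helper3.SheafModLib.toSheaf_reflectsColimits S.ringCatSheaf
  haveI := Groth.Agent.Helper1.AM.preservesColimitsOfShape_pushAb f J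
  haveI : PreservesColimitsOfShape J (tA X ⋙ Coh.pushAb f) := inferInstance
  haveI : PreservesColimitsOfShape J (Coh.push f ⋙ tA S) :=
    preservesColimitsOfShape_of_natIso (pushIso f).symm
  exact preservesColimitsOfShape_of_reflects_of_preserves (Coh.push f) (tA S)

/-- a filtered colimit of injective modules has no higher direct images -/
theorem isZero_Rpush_colimit [HasInjectiveResolutions X.Modules] (E : J ⥤ X.Modules)
    (hE : ∀ j, Injective (E.obj j)) (p : ℕ) :
    IsZero ((Coh.Rpush f (p + 1)).obj (colimit E)) := by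
  haveI : PreservesColimitsOfSize.{u, u} (tA X) :=
    Groth.Agent.Helper3.SheafModLib.toSheaf_preservesColimits X.ringCatSheaf
  obtain ⟨e⟩ := RpushCmp.nonempty_iso f (p + 1) (colimit E)
  haveI : PreservesColimitsOfShape J (Coh.RpushAb f (p + 1)) :=
    Groth.Agent.S0800.result f (p + 1) J
  let e1 : (tA X).obj (colimit E) ≅ colimit (E ⋙ tA X) := preservesColimitIso (tA X) E
  let e2 : (Coh.RpushAb f (p + 1)).obj (colimit (E ⋙ tA X)) ≅
      colimit ((E ⋙ tA X) ⋙ Coh.RpushAb f (p + 1)) :=
    preservesColimitIso (Coh.RpushAb f (p + 1)) _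
  have hz : ∀ j, IsZero (((E ⋙ tA X) ⋙ Coh.RpushAb f (p + 1)).obj j) := by
    intro j
    obtain ⟨ej⟩ := RpushCmp.nonempty_iso f (p + 1) (E.obj j)
    haveI := hE j
    exact IsZero.of_iso (Functor.map_isZero (tA S)
      (Functor.isZero_rightDerived_obj_injective_succ _ _ _)) ej.symm
  have hz2 : IsZero (colimit ((E ⋙ tA X) ⋙ Coh.RpushAb f (p + 1))) := isZero_colimit _ hz
  have hz3 : IsZero ((tA S).obj ((Coh.Rpush f (p + 1)).obj (colimit E))) :=
    IsZero.of_iso hz2 (e ≪≫ (Coh.RpushAb f (p + 1)).mapIso e1 ≪≫ e2)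
  haveI : (tA S).Faithful :=
    inferInstanceAs ((SheafOfModules.toSheaf.{u} S.ringCatSheaf).Faithful)
  rw [IsZero.iff_id_eq_zero]
  apply (tA S).map_injective
  exact hz3.eq_of_src _ _

variable [DCoh.HasRpush f]

/-- a filtered colimit of injective modules is `Rf_*`-acyclic -/
theorem acy_colimit (E : J ⥤ X.Modules) (hE : ∀ j, Injective (E.obj j)) :
    haveI := Groth.Agent.Helper4.SchAdj.isGrothendieckAbelian_modules X
    Acy (DCoh.Rpush f) (colimit E) := by
  haveI := Groth.Agent.Helper4.SchAdj.isGrothendieckAbelian_modules X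
  intro i hi
  refine Amp1.isZero_homology_single (Scheme.Modules.pushforward f) (DCoh.Rpush f)
    ((DCoh.pushKh f).totalRightDerivedUnit DerivedCategory.Qh
      (HomotopyCategory.quasiIso X.Modules (ComplexShape.up ℤ))) (colimit E) 1
    (fun p hp => ?_) 0 i (Or.inr (by omega))
  obtain ⟨q, rfl⟩ : ∃ q, p = q + 1 := ⟨p - 1, by omega⟩
  exact isZero_Rpush_colimit f E hE q

/-- **`Hⁱ(Rf_* -)` commutes with filtered colimits of uniformly bounded below complexes** -/
theorem preservesColimit_homology_Rpush (C : J ⥤ CochainComplex X.Modules ℤ) (n : ℤ)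
    (hC : ∀ j : J, (Q.obj (C.obj j)).IsGE n) (i : ℤ) :
    PreservesColimit C (Q ⋙ DCoh.Rpush f ⋙ homologyFunctor S.Modules i) := by
  haveI := Groth.Agent.Helper4.SchAdj.isGrothendieckAbelian_modules X
  haveI := Groth.Agent.Helper4.SchAdj.isGrothendieckAbelian_modules S
  haveI : HasExactColimitsOfShape J S.Modules := inferInstance
  haveI := preservesColimitsOfShape_push f (J := J)
  let K := ofFunctor C
  have hK : ∀ j, CochainComplex.IsGE (K.asFunctor.obj j) n := by
    intro j
    have h1 : (C.obj j).IsGE n := (DerivedCategory.isGE_Q_obj_iff _ _).1 (hC j)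
    rw [CochainComplex.isGE_iff] at h1 ⊢
    intro m hm
    exact (h1 m hm).of_iso ((ofFunctorIso C).app j).symm
  obtain ⟨h⟩ := isColimit_of_complex_of_functors (Scheme.Modules.pushforward f) (DCoh.Rpush f)
    ((DCoh.pushKh f).totalRightDerivedUnit DerivedCategory.Qh
      (HomotopyCategory.quasiIso X.Modules (ComplexShape.up ℤ)))
    (fun E hE => acy_colimit f E hE) K n hK i
  haveI : PreservesColimit K.asFunctor (Q ⋙ DCoh.Rpush f ⋙ homologyFunctor S.Modules i) :=
    preservesColimit_of_preserves_colimit_cocone (isColimitγ K) h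
  exact preservesColimit_of_iso_diagram _ (ofFunctorIso C)

end Groth.Agent.Helper9.FCol4
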