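import Mathlib
import Groth.Agent.Helper9.FCol4

/-! If `f_* C_j ⟶ Rf_* C_j` is an isomorphism for all `j` (filtered, uniformly bounded below), then
so is `f_* colim C ⟶ Rf_* colim C`. -/

set_option autoImplicit false
set_option linter.style.haveILetI false
set_option linter.unusedVariables false
set_option linter.unusedSectionVars false
universe u

namespace Groth.Agent.Helper9.FCol5

open CategoryTheory Limits AlgebraicGeometry Opposite TopologicalSpace DerivedCategory
open Groth.Agent.Helper9.Leray1 Groth.Agent.Helper9.Leray2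
  Groth.Agent.Helper9.FCol1 Groth.Agent.Helper9.FCol2
  Groth.Agent.Helper9.FCol3 Groth.Agent.Helper9.FCol4

attribute [local instance] HasDerivedCategory.standard

section General

variable {J : Type*} [Category J] {𝒞 : Type*} [Category 𝒞] {E : Type*} [Category E]

/-- a natural transformation between two functors preserving a colimit, invertible on the diagram,
is invertible on the colimit -/
lemma isIso_app_pt {G₁ G₂ : 𝒞 ⥤ E} (τ : G₁ ⟶ G₂) {D : J ⥤ 𝒞} (c : Cocone D)
    (h₁ : IsColimit (G₁.mapCocone c)) (h₂ : IsColimit (G₂.mapCocone c))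
    (hD : ∀ j, IsIso (τ.app (D.obj j))) : IsIso (τ.app c.pt) := by
  let θ : D ⋙ G₁ ≅ D ⋙ G₂ :=
    NatIso.ofComponents (fun j => asIso (τ.app (D.obj j))) (fun f => by simp)
  let e := IsColimit.coconePointsIsoOfNatIso h₁ h₂ θ
  have he : e.hom = τ.app c.pt := by
    apply h₁.hom_ext
    intro j
    rw [IsColimit.comp_coconePointsIsoOfNatIso_hom]
    simp [θ]
  rw [← he]
  infer_instance

end General

variable {X S : Scheme.{u}} (f : X ⟶ S) [QuasiCompact f] [QuasiSeparated f]
  {J : Type u} [SmallCategory J] [IsFiltered J] [DCoh.HasRpush f]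

theorem isIso_unit_colimit (C : J ⥤ CochainComplex X.Modules ℤ) [HasColimit C] (n : ℤ)
    (hC : ∀ j : J, (Q.obj (C.obj j)).IsGE n)
    (hac : ∀ j : J, IsIso (((DCoh.pushKh f).totalRightDerivedUnit DerivedCategory.Qh
      (HomotopyCategory.quasiIso X.Modules (ComplexShape.up ℤ))).app
      ((HomotopyCategory.quotient X.Modules (ComplexShape.up ℤ)).obj (C.obj j)))) :
    IsIso (((DCoh.pushKh f).totalRightDerivedUnit DerivedCategory.Qh
      (HomotopyCategory.quasiIso X.Modules (ComplexShape.up ℤ))).app
      ((HomotopyCategory.quotient X.Modules (ComplexShape.up ℤ)).obj (colimit C))) := by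
  haveI := Groth.Agent.Helper4.SchAdj.isGrothendieckAbelian_modules X
  haveI := Groth.Agent.Helper4.SchAdj.isGrothendieckAbelian_modules S
  haveI : HasExactColimitsOfShape J S.Modules := inferInstance
  let Φ := Scheme.Modules.pushforward f
  let RF := DCoh.Rpush f
  let β := (DCoh.pushKh f).totalRightDerivedUnit DerivedCategory.Qh
    (HomotopyCategory.quasiIso X.Modules (ComplexShape.up ℤ))
  rw [← isIso_βQ_iff Φ RF β]
  rw [DerivedCategory.isIso_iff]
  intro i
  let τ := Functor.whiskerRight (βQnat Φ RF β) (homologyFunctor S.Modules i)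
  -- the derived side preserves the colimit
  haveI := preservesColimit_homology_Rpush f C n hC i
  have h₂ : IsColimit (((Q ⋙ RF) ⋙ homologyFunctor S.Modules i).mapCocone (colimit.cocone C)) :=
    isColimitOfPreserves (Q ⋙ DCoh.Rpush f ⋙ homologyFunctor S.Modules i) (colimit.isColimit C)
  -- the underived side preserves the colimit
  haveI := preservesColimitsOfShape_push f (J := J)
  haveI : PreservesColimitsOfShape J (Φ.mapHomologicalComplex (ComplexShape.up ℤ)) :=
    HomologicalComplex.preservesColimitsOfShape_of_eval _ (fun m => by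
      show PreservesColimitsOfShape J (Φ.mapHomologicalComplex (ComplexShape.up ℤ) ⋙
        HomologicalComplex.eval S.Modules (ComplexShape.up ℤ) m)
      exact preservesColimitsOfShape_of_natIso
        (Iso.refl _ : HomologicalComplex.eval X.Modules (ComplexShape.up ℤ) m ⋙ Φ ≅ _))
  haveI : PreservesColimit C ((Φ.mapHomologicalComplex (ComplexShape.up ℤ) ⋙ Q) ⋙
      homologyFunctor S.Modules i) :=
    preservesColimit_of_natIso C
      ((Functor.isoWhiskerLeft (Φ.mapHomologicalComplex (ComplexShape.up ℤ))
        (homologyFunctorFactors S.Modules i)).symm ≪≫ (Functor.associator _ _ _).symm)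
  have h₁ := isColimitOfPreserves ((Φ.mapHomologicalComplex (ComplexShape.up ℤ) ⋙ Q) ⋙
      homologyFunctor S.Modules i) (colimit.isColimit C)
  have key := isIso_app_pt τ (colimit.cocone C) h₁ h₂ (fun j => by
    haveI : IsIso (βQ Φ RF β (C.obj j)) := (isIso_βQ_iff Φ RF β (C.obj j)).2 (hac j)
    dsimp only [τ, Functor.whiskerRight_app, βQnat]
    infer_instance)
  exact key

end Groth.Agent.Helper9.FCol5
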