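import Mathlib
import Groth.Agent.Helper9.FCol4
import Groth.Agent.Helper9.Leray4
import Groth.Agent.Helper4.AffineIso
import Groth.Agent.Helper4.QcohWSerre

/-! `Hⁱ ∘ Rf_*` commutes with filtered colimits of complexes with quasi-coherent cohomology
(`f` quasi-compact quasi-separated): localize on the base and truncate. -/

set_option autoImplicit false
set_option linter.style.haveILetI false
set_option linter.unusedVariables false
set_option linter.unusedSectionVars false
universe u

namespace Groth.Agent.Helper9.FCol6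

open CategoryTheory Limits AlgebraicGeometry Opposite TopologicalSpace DerivedCategory Pretriangulated
open Groth.Agent.Helper9.Leray1 Groth.Agent.Helper9.Leray2
  Groth.Agent.Helper9.FCol1 Groth.Agent.Helper9.FCol2
  Groth.Agent.Helper9.FCol3 Groth.Agent.Helper9.FCol4

attribute [local instance] HasDerivedCategory.standard

section Transfer

variable {J : Type*} [Category J] {𝒞 : Type*} [Category 𝒞] {E : Type*} [Category E]
  {E' : Type*} [Category E']

/-- a composite of functors inverting a morphism of cocones transfers colimit-ness -/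
noncomputable def isColimitMapCoconeEquiv'' (G : 𝒞 ⥤ E) (R : E ⥤ E') {D D' : J ⥤ 𝒞} (α : D ⟶ D')
    (c : Cocone D) (c' : Cocone D') (a : c.pt ⟶ c'.pt)
    (ha : ∀ j, c.ι.app j ≫ a = α.app j ≫ c'.ι.app j)
    (hα : ∀ j, IsIso (R.map (G.map (α.app j)))) (hpt : IsIso (R.map (G.map a))) :
    IsColimit (R.mapCocone (G.mapCocone c)) ≃ IsColimit (R.mapCocone (G.mapCocone c')) :=
  isColimitEquivOfIsos (F₁ := (D ⋙ G) ⋙ R) (F₂ := (D' ⋙ G) ⋙ R)
    (NatIso.ofComponents (fun j => asIso (R.map (G.map (α.app j)))) (fun f => by
      dsimp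
      rw [← R.map_comp, ← R.map_comp, ← G.map_comp, ← G.map_comp, α.naturality]))
    (R.mapCocone (G.mapCocone c)) (R.mapCocone (G.mapCocone c')) (asIso (R.map (G.map a)))
    (fun j => by
      dsimp
      rw [← R.map_comp, ← R.map_comp, ← G.map_comp, ← G.map_comp, ha j])

end Transfer

variable {X S : Scheme.{u}}

section Local

/-- a cocone of modules is a colimit cocone if it is so locally on the base -/
theorem isColimit_of_restrict {J : Type u} [SmallCategory J] {D : J ⥤ S.Modules} (c : Cocone D)
    (h : ∀ x : S, ∃ V : S.Opens, x ∈ V ∧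
      Nonempty (IsColimit ((Scheme.Modules.restrictFunctor V.ι).mapCocone c))) :
    Nonempty (IsColimit c) := by
  haveI : IsIso ((colimit.isColimit D).desc c) := by
    apply Groth.Agent.Helper4.AffineIso.isIso_of_isIso_restrict
    intro x
    obtain ⟨V, hx, ⟨hV⟩⟩ := h x
    refine ⟨V, hx, ?_⟩
    let R := Scheme.Modules.restrictFunctor V.ι
    have h1 : IsColimit (R.mapCocone (colimit.cocone D)) :=
      isColimitOfPreserves R (colimit.isColimit D)
    have e : R.map ((colimit.isColimit D).desc c) = (h1.coconePointUniqueUpToIso hV).hom := by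
      apply h1.hom_ext
      intro j
      rw [IsColimit.comp_coconePointUniqueUpToIso_hom]
      dsimp only [Functor.mapCocone_ι_app]
      rw [← R.map_comp, IsColimit.fac]
    rw [e]
    infer_instance
  exact ⟨IsColimit.ofPointIso (colimit.isColimit D)⟩

end Local

variable (f : X ⟶ S) [QuasiCompact f] [QuasiSeparated f] [DCoh.HasRpush f]

/-- the key local comparison: a map `K ⟶ L` from a `D_QCoh` object to an object of `D^{≥ b}` which is
an isomorphism on cohomology in degrees `≥ b` induces an isomorphism on `Hⁱ(Rf_* -)|_V` for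
`i ≥ N + b - 1`, `N` the local bound of `Rf_*` over `V`. -/
theorem isIso_restrict_HD_Rpush_map (V : S.Opens) (N : ℤ)
    (hN : ∀ (Z : DCoh.D X), DCoh.IsQCohD Z → ∀ (m : ℤ), Z.IsLE m → ∀ j : ℤ, N + m ≤ j →
      IsZero ((Scheme.Modules.restrictFunctor V.ι).obj (DCoh.HD ((DCoh.Rpush f).obj Z) j)))
    {K L : DCoh.D X} (φ : K ⟶ L) (hK : DCoh.IsQCohD K) (b : ℤ) [L.IsGE b]
    (hφ : ∀ m, b ≤ m → IsIso ((homologyFunctor X.Modules m).map φ)) (i : ℤ) (hi : N + b ≤ i + 1) :
    IsIso ((Scheme.Modules.restrictFunctor V.ι).map
      ((homologyFunctor S.Modules i).map ((DCoh.Rpush f).map φ))) := by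
  haveI := Groth.Agent.Helper4.SchAdj.isGrothendieckAbelian_modules X
  let Φ := Scheme.Modules.pushforward f
  let RF := DCoh.Rpush f
  let β := (DCoh.pushKh f).totalRightDerivedUnit DerivedCategory.Qh
        (HomotopyCategory.quasiIso X.Modules (ComplexShape.up ℤ))
  let R := Scheme.Modules.restrictFunctor V.ι
  obtain ⟨W, g, h, hT⟩ := distinguished_cocone_triangle φ
  -- `L` has quasi-coherent cohomology
  have hL : DCoh.IsQCohD L := by
    intro m
    by_cases hm : b ≤ m
    · haveI := hφ m hm
      have h1 : (DCoh.HD K m).IsQuasicoherent := hK m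
      exact Groth.Agent.Helper4.QcohLimits.isQuasicoherent_of_iso
        (asIso ((homologyFunctor X.Modules m).map φ)) (hF := h1)
    · exact Groth.Agent.Helper4.RpushQc.isQuasicoherent_of_isZero
        (L.isZero_of_isGE b m (by omega))
  have hW : DCoh.IsQCohD W :=
    Groth.Agent.Helper4.QcohWSerre.isQCohD_obj₃ (Triangle.mk φ g h) hT hK hL
  -- `W` is concentrated in degrees `≤ b - 2`
  haveI hWle : W.IsLE (b - 2) := by
    rw [DerivedCategory.isLE_iff]
    intro m hm
    have hδ : HomologySequence.δ (Triangle.mk φ g h) m (m + 1) rfl = 0 := by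
      refine (HomologySequence.mono_homologyMap_mor₁_iff (Triangle.mk φ g h) hT m (m + 1) rfl).1 ?_
      haveI := hφ (m + 1) (by omega)
      show Mono ((homologyFunctor X.Modules (m + 1)).map φ)
      infer_instance
    haveI hepi : Epi ((homologyFunctor X.Modules m).map g) :=
      (HomologySequence.epi_homologyMap_mor₂_iff (Triangle.mk φ g h) hT m (m + 1) rfl).2 hδ
    have hzero : (homologyFunctor X.Modules m).map g = 0 := by
      by_cases hm' : b ≤ m
      · refine (HomologySequence.epi_homologyMap_mor₁_iff (Triangle.mk φ g h) hT m).1 ?_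
        haveI := hφ m hm'
        show Epi ((homologyFunctor X.Modules m).map φ)
        infer_instance
      · exact (L.isZero_of_isGE b m (by omega)).eq_of_src _ _
    exact IsZero.of_epi_eq_zero _ hzero
  -- the long exact sequence for `Rf_*`
  obtain ⟨c, hc⟩ := Groth.Agent.Helper4.RDerTri.exists_distinguished_map Φ RF β _ hT
  have z1 : IsZero (R.obj (DCoh.HD (RF.obj W) (i - 1))) :=
    hN W hW (b - 2) hWle (i - 1) (by omega)
  have z2 : IsZero (R.obj (DCoh.HD (RF.obj W) i)) :=
    hN W hW (b - 2) hWle i (by omega)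
  have e1 := (HomologySequence.exact₁ _ hc (i - 1) i (by omega)).map R
  have e2 := (HomologySequence.exact₂ _ hc i).map R
  haveI : Mono (R.map ((homologyFunctor S.Modules i).map (RF.map φ))) :=
    e1.mono_g (z1.eq_of_src _ _)
  haveI : Epi (R.map ((homologyFunctor S.Modules i).map (RF.map φ))) :=
    e2.epi_f (z2.eq_of_tgt _ _)
  exact isIso_of_mono_of_epi _

variable {J : Type u} [SmallCategory J] [IsFiltered J]

/-- **`Hⁱ(Rf_* -)` commutes with filtered colimits of complexes with quasi-coherent cohomology** -/
theorem isColimit_homology_Rpush_of_isQCohD (C : J ⥤ CochainComplex X.Modules ℤ) [HasColimit C]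
    (hC : ∀ j : J, DCoh.IsQCohD (Q.obj (C.obj j))) (i : ℤ) :
    Nonempty (IsColimit ((Q ⋙ DCoh.Rpush f ⋙ homologyFunctor S.Modules i).mapCocone
      (colimit.cocone C))) := by
  haveI := Groth.Agent.Helper4.SchAdj.isGrothendieckAbelian_modules X
  haveI := Groth.Agent.Helper4.SchAdj.isGrothendieckAbelian_modules S
  haveI : HasExactColimitsOfShape J X.Modules := inferInstance
  haveI : HasExactColimitsOfShape J S.Modules := inferInstance
  haveI := preservesColimitsOfShape_push f (J := J)
  let Φ := Scheme.Modules.pushforward f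
  let RF := DCoh.Rpush f
  let β := (DCoh.pushKh f).totalRightDerivedUnit DerivedCategory.Qh
        (HomotopyCategory.quasiIso X.Modules (ComplexShape.up ℤ))
  let G : CochainComplex X.Modules ℤ ⥤ S.Modules := Q ⋙ RF ⋙ homologyFunctor S.Modules i
  let K : CochainComplex (J ⥤ X.Modules) ℤ := ofFunctor C
  -- reduce to the termwise colimit cocone
  suffices hγ : Nonempty (IsColimit (G.mapCocone (γ K))) by
    obtain ⟨h⟩ := hγ
    haveI : PreservesColimit K.asFunctor G :=
      preservesColimit_of_preserves_colimit_cocone (isColimitγ K) h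
    haveI : PreservesColimit C G := preservesColimit_of_iso_diagram _ (ofFunctorIso C)
    exact ⟨isColimitOfPreserves G (colimit.isColimit C)⟩
  -- the values of `K` have quasi-coherent cohomology
  have hKq : ∀ j, DCoh.IsQCohD (Q.obj (K.asFunctor.obj j)) := fun j =>
    Groth.Agent.Helper4.QcohWSerre.isQCohD_of_iso (Q.mapIso ((ofFunctorIso C).app j).symm) (hC j)
  -- localize on the base
  apply isColimit_of_restrict
  intro y
  obtain ⟨_, ⟨V, hV, rfl⟩, hyV, -⟩ :=
    (S.isBasis_affineOpens).exists_subset_of_mem_open (Set.mem_univ y) isOpen_univ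
  refine ⟨V, hyV, ?_⟩
  obtain ⟨N, hN⟩ := Leray4.exists_local_bound f V hV
  let R := Scheme.Modules.restrictFunctor (Scheme.Opens.ι V)
  let b : ℤ := i + 1 - N
  let K' : CochainComplex (J ⥤ X.Modules) ℤ := CochainComplex.truncGE K b
  let π : K ⟶ K' := CochainComplex.πTruncGE K b
  have hπ : ∀ m, b ≤ m → QuasiIsoAt π m := fun m hm => CochainComplex.quasiIsoAt_πTruncGE K b m hm
  haveI : K'.IsStrictlyGE b := by dsimp only [K']; infer_instance
  -- the truncated diagram is uniformly bounded below
  have hK's : ∀ j, CochainComplex.IsStrictlyGE (K'.asFunctor.obj j) b := fun j => by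
    rw [CochainComplex.isStrictlyGE_iff]
    intro m hm
    exact ((K'.isZero_of_isStrictlyGE b m hm).obj j)
  have hK' : ∀ j, CochainComplex.IsGE (K'.asFunctor.obj j) b := fun j =>
    haveI := hK's j
    inferInstance
  obtain ⟨h'⟩ := isColimit_of_complex_of_functors Φ RF β
    (fun E hE => acy_colimit f E hE) K' b hK' i
  have h'' : IsColimit (R.mapCocone (G.mapCocone (γ K'))) := isColimitOfPreserves R h'
  -- the comparison on the diagram
  have hα : ∀ j, IsIso (R.map (G.map
      ((HomologicalComplex.complexOfFunctorsToFunctorToComplex.map π).app j))) := fun j => by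
    haveI : (Q.obj ((HomologicalComplex.complexOfFunctorsToFunctorToComplex.obj K').obj j)).IsGE b :=
      (DerivedCategory.isGE_Q_obj_iff _ _).2 (hK' j)
    refine isIso_restrict_HD_Rpush_map f V N hN
      (Q.map ((HomologicalComplex.complexOfFunctorsToFunctorToComplex.map π).app j)) (hKq j) b
      (fun m hm => ?_) i (by omega)
    rw [isIso_homology_Q_map_iff]
    exact (HomologicalComplex.quasiIsoAt_iff_evaluation π m).1 (hπ m hm) j
  -- the comparison on the colimit
  have hptq : DCoh.IsQCohD (Q.obj (γ K).pt) := by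
    intro m
    have h1 : ∀ j, ((K.homology m).obj j).IsQuasicoherent := fun j => by
      have h2 : (DCoh.HD (Q.obj (K.asFunctor.obj j)) m).IsQuasicoherent := hKq j m
      exact Groth.Agent.Helper4.QcohLimits.isQuasicoherent_of_iso
        (((homologyFunctorFactors X.Modules m).app (K.asFunctor.obj j)) ≪≫ evIso K m j) (hF := h2)
    have h3 : (colimit (K.homology m)).IsQuasicoherent :=
      Groth.Agent.Helper4.QcohLimits.isQuasicoherent_colimit (K.homology m) h1
    exact Groth.Agent.Helper4.QcohLimits.isQuasicoherent_of_iso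
      ((colimIso K m).symm ≪≫ ((homologyFunctorFactors X.Modules m).app (γ K).pt).symm) (hF := h3)
  have hpts : CochainComplex.IsStrictlyGE (γ K').pt b := by
    rw [CochainComplex.isStrictlyGE_iff]
    intro m hm
    exact Functor.map_isZero colim (K'.isZero_of_isStrictlyGE b m hm)
  have hpt : IsIso (R.map (G.map
      (((colim (J := J) (C := X.Modules)).mapHomologicalComplex (ComplexShape.up ℤ)).map π))) := by
    haveI : (Q.obj (γ K').pt).IsGE b := by
      rw [DerivedCategory.isGE_Q_obj_iff]
      haveI := hpts
      infer_instance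
    refine isIso_restrict_HD_Rpush_map f V N hN
      (Q.map (((colim (J := J) (C := X.Modules)).mapHomologicalComplex
        (ComplexShape.up ℤ)).map π)) hptq b (fun m hm => ?_) i (by omega)
    rw [isIso_homology_Q_map_iff]
    haveI := hπ m hm
    infer_instance
  exact ⟨(isColimitMapCoconeEquiv'' G R
    (HomologicalComplex.complexOfFunctorsToFunctorToComplex.map π) (γ K) (γ K')
    (((colim (J := J) (C := X.Modules)).mapHomologicalComplex (ComplexShape.up ℤ)).map π)
    (fun j => γ_naturality π j) hα hpt).symm h''⟩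

end Groth.Agent.Helper9.FCol6
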