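import Mathlib
import Groth.Prelude.Def_DualSh
import Groth.Agent.Helper9.RE4
import Groth.Agent.Helper6.GorFib3
import Groth.Agent.Helper6.DualFun3
import Groth.Agent.Helper6.LocExt5

/-!
# Base change of dualizing complexes of finite type algebras along a field extension
-/

set_option autoImplicit false
set_option linter.style.haveILetI false
set_option linter.unusedSectionVars false

universe u
open CategoryTheory CategoryTheory.Limits Pretriangulated DerivedCategory TensorProduct
attribute [local instance] HasDerivedCategory.standard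

namespace Groth.Agent.Helper9.FE1
open Groth.Agent.Helper3.DRingLib Groth.Agent.Helper6.FlatBC Groth.Agent.Helper6.LocExt
  Groth.Agent.Helper6.FBC Groth.Agent.Helper6.LD Groth.Agent.Helper6

attribute [local instance] Algebra.TensorProduct.rightAlgebra

section Local

/-- two dualizing complexes have locally isomorphic (up to shift) flat base changes: transfer
of the dualizing property for the base change along a flat map `A → B` from `ω₀` to `ω` -/
theorem isDualizing_bcD_of_dualizing {A B : Type u} [CommRing A] [CommRing B] [Algebra A B]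
    [IsNoetherianRing A] [IsNoetherianRing B] [Module.Flat A B] (hdim : ringKrullDim B < ⊤)
    (ω₀ ω : Dual.D A) (hω₀ : Dual.IsDualizing A ω₀) (hω : Dual.IsDualizing A ω)
    (h₀ : Dual.IsDualizing B ((bcD A B).obj ω₀)) :
    Dual.IsDualizing B ((bcD A B).obj ω) := by
  obtain ⟨a, b, hab⟩ := hω.finite_injective_dimension
  obtain ⟨hGE, _⟩ := bounds_of_hinj ω a b hab
  haveI := hGE
  haveI : ((bcD A B).obj ω).IsGE a := bcD_isGE B ω a
  refine Groth.Agent.Helper6.LocGlob.isDualizing_of_local hdim _
    (finite_HD_bcD B ω hω.finite_cohomology) a (fun q => ?_)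
  obtain ⟨r, hr⟩ := q
  haveI := hr
  show Dual.IsDualizing (Localization.AtPrime r)
    ((bcD B (Localization.AtPrime r)).obj ((bcD A B).obj ω))
  haveI : IsNoetherianRing (Localization.AtPrime (r.comap (algebraMap A B))) :=
    IsLocalization.isNoetherianRing (r.comap (algebraMap A B)).primeCompl _ inferInstance
  haveI : IsNoetherianRing (Localization.AtPrime r) :=
    IsLocalization.isNoetherianRing r.primeCompl _ inferInstance
  letI : Algebra (Localization.AtPrime (r.comap (algebraMap A B))) (Localization.AtPrime r) :=
    (Localization.localRingHom (r.comap (algebraMap A B)) r (algebraMap A B) rfl).toAlgebra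
  haveI : Module.Flat (Localization.AtPrime (r.comap (algebraMap A B)))
      (Localization.AtPrime r) :=
    RingHom.Flat.localRingHom ((RingHom.flat_algebraMap_iff).mpr inferInstance) r
      (r.comap (algebraMap A B)) rfl
  haveI : IsScalarTower A (Localization.AtPrime (r.comap (algebraMap A B)))
      (Localization.AtPrime r) := IsScalarTower.of_algebraMap_eq (fun x => by
    rw [IsScalarTower.algebraMap_apply A B (Localization.AtPrime r)]
    exact (Localization.localRingHom_to_map (r.comap (algebraMap A B)) r (algebraMap A B)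
      rfl x).symm)
  haveI : Module.Flat A (Localization.AtPrime r) := Module.Flat.trans A B (Localization.AtPrime r)
  -- both localizations at `p` are dualizing, hence differ by a shift
  have hp₀ : Dual.IsDualizing (Localization.AtPrime (r.comap (algebraMap A B)))
      ((bcD A (Localization.AtPrime (r.comap (algebraMap A B)))).obj ω₀) :=
    isDualizing_bcD (r.comap (algebraMap A B)).primeCompl _ ω₀ hω₀
  have hp : Dual.IsDualizing (Localization.AtPrime (r.comap (algebraMap A B)))
      ((bcD A (Localization.AtPrime (r.comap (algebraMap A B)))).obj ω) :=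
    isDualizing_bcD (r.comap (algebraMap A B)).primeCompl _ ω hω
  obtain ⟨m, ⟨e⟩⟩ := Groth.Agent.Helper6.DualFun.unique_up_to_shift _ _ hp₀ hp
  -- the localization of the base change of `ω₀` is dualizing
  have hr₀ : Dual.IsDualizing (Localization.AtPrime r)
      ((bcD B (Localization.AtPrime r)).obj ((bcD A B).obj ω₀)) :=
    isDualizing_bcD r.primeCompl _ _ h₀
  have hr₀' := isDualizing_shift _ hr₀ m
  refine isDualizing_of_iso ?_ hr₀'
  exact (shiftFunctor _ m).mapIso ((bcDTrans A B (Localization.AtPrime r) ω₀).symm ≪≫
      bcDTrans A (Localization.AtPrime (r.comap (algebraMap A B))) (Localization.AtPrime r) ω₀) ≪≫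
    (((bcD (Localization.AtPrime (r.comap (algebraMap A B)))
      (Localization.AtPrime r)).commShiftIso m).app _).symm ≪≫
    (bcD (Localization.AtPrime (r.comap (algebraMap A B))) (Localization.AtPrime r)).mapIso e.symm ≪≫
    (bcDTrans A (Localization.AtPrime (r.comap (algebraMap A B))) (Localization.AtPrime r) ω).symm ≪≫
    bcDTrans A B (Localization.AtPrime r) ω

end Local

section Main

variable (k K : Type u) [Field k] [Field K] [Algebra k K] (A : Type u) [CommRing A] [Algebra k A]
  [Algebra.FiniteType k A]
  [DRing.HasLBaseChange (Algebra.TensorProduct.includeRight : A →ₐ[k] K ⊗[k] A).toRingHom]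

/-- **S8932**: base change of a dualizing complex along a field extension -/
theorem main (ω : Dual.D A) (hω : Dual.IsDualizing A ω) :
    Dual.IsDualizing (K ⊗[k] A)
      ((DRing.LBaseChange (Algebra.TensorProduct.includeRight : A →ₐ[k] K ⊗[k] A).toRingHom).obj
        ω) := by
  obtain ⟨n, ψ, hψ⟩ := Algebra.FiniteType.iff_quotient_mvPolynomial''.mp
    (inferInstance : Algebra.FiniteType k A)
  haveI : IsNoetherianRing A := hω.isNoetherianRing
  haveI := HasLBC.hasLBaseChange (algebraMap k (MvPolynomial (Fin n) k))
  haveI := Groth.Agent.Helper9.BR3.isLeftAdjoint_restrictD ψ.toRingHom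
  have adj := Adjunction.ofIsLeftAdjoint (DRing.restrictD ψ.toRingHom)
  have hω₀ := Groth.Agent.S1782.result k A n ψ hψ _ adj (Dual.inD k k)
    (Groth.Agent.Helper9.RE4.isDualizing_field k)
  have hfib := Groth.Agent.Helper9.RE4.fibre k A n ψ hψ _ adj K
  haveI : IsNoetherianRing (K ⊗[k] A) := hfib.isNoetherianRing
  haveI : Module.Flat A (K ⊗[k] A) :=
    Module.Flat.isBaseChange (R := k) (M := K) (S := A) (K ⊗[k] A)
      (Algebra.IsPushout.out (R := k) (S := A) (R' := K) (S' := K ⊗[k] A))
  have hdim : ringKrullDim (K ⊗[k] A) < ⊤ :=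
    Groth.Agent.Helper6.GorFib.ringKrullDim_lt_top_of_finiteType (R := K) (by
      rw [ringKrullDim_eq_zero_of_isField (Field.toIsField K)]
      exact WithBot.coe_lt_coe.mpr (ENat.natCast_lt_top 0))
  have h₀ : Dual.IsDualizing (K ⊗[k] A) ((bcD A (K ⊗[k] A)).obj
      (Dual2.shriekVia n _ (Dual.inD k k))) :=
    isDualizing_of_iso (lbcIsoBcD A (K ⊗[k] A) _) hfib
  exact isDualizing_of_iso (lbcIsoBcD A (K ⊗[k] A) ω).symm
    (isDualizing_bcD_of_dualizing hdim _ ω hω₀ hω h₀)

end Main

end Groth.Agent.Helper9.FE1
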