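import Mathlib

set_option autoImplicit false

namespace Groth.Agent.Helper9.FFinite

universe u v

section General

variable (p : ℕ) {A : Type u} [CommRing A] [ExpChar A p]

theorem frobenius_isIntegral (hp : p ≠ 0) : (frobenius A p).IsIntegral := by
  intro x
  refine ⟨Polynomial.X ^ p - Polynomial.C x, Polynomial.monic_X_pow_sub_C x hp, ?_⟩
  simp [frobenius_def]

/-- F-finiteness passes to algebras of finite type. -/
theorem frobenius_finite_of_finiteType (hp : p ≠ 0) {S : Type v} [CommRing S] [ExpChar S p]
    [Algebra S A] [Algebra.FiniteType S A] (hS : (frobenius S p).Finite) :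
    (frobenius A p).Finite := by
  apply RingHom.IsIntegral.to_finite (frobenius_isIntegral p hp)
  have h1 : ((algebraMap S A).comp (frobenius S p)).FiniteType :=
    (RingHom.finiteType_algebraMap.mpr inferInstance).comp hS.finiteType
  have h2 : (frobenius A p).comp (algebraMap S A) = (algebraMap S A).comp (frobenius S p) := by
    ext x
    simp [frobenius_def]
  rw [← h2] at h1
  exact RingHom.FiniteType.of_comp_finiteType h1

/-- F-finiteness passes to localizations. -/
theorem frobenius_finite_localization (hA : (frobenius A p).Finite) (M : Submonoid A)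
    (B : Type u) [CommRing B] [ExpChar B p] [Algebra A B] [IsLocalization M B] :
    (frobenius B p).Finite := by
  have hp0 : p ≠ 0 := (expChar_pos A p).ne'
  haveI : IsLocalization (M.map (frobenius A p)) B := by
    refine ⟨?_, ?_, ?_⟩
    · rintro ⟨y, hy⟩
      obtain ⟨s, hs, rfl⟩ := hy
      show IsUnit (algebraMap A B (frobenius A p s))
      rw [frobenius_def, map_pow]
      exact (IsLocalization.map_units B ⟨s, hs⟩).pow p
    · intro b
      obtain ⟨⟨a, s⟩, h⟩ := IsLocalization.surj M b
      refine ⟨(a * (s : A) ^ (p - 1), ⟨(s : A) ^ p, ⟨s, s.2, rfl⟩⟩), ?_⟩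
      simp only at h ⊢
      rw [map_pow, map_mul, map_pow, ← h]
      have : p = (p - 1) + 1 := by omega
      conv_lhs => rw [this]
      ring
    · intro a a' h
      obtain ⟨c, hc⟩ := IsLocalization.exists_of_eq (M := M) h
      refine ⟨⟨(c : A) ^ p, ⟨c, c.2, rfl⟩⟩, ?_⟩
      simp only
      have : p = (p - 1) + 1 := by omega
      rw [this, pow_succ, mul_assoc, mul_assoc, hc]
  have h := RingHom.finite_localizationPreserves (frobenius A p) M B B hA
  have h2 : IsLocalization.map B (frobenius A p) (Submonoid.le_comap_map M) = frobenius B p := by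
    apply IsLocalization.ringHom_ext M
    rw [IsLocalization.map_comp]
    ext x
    simp [frobenius_def]
  rwa [h2] at h

end General

section PowerSeries

variable (p : ℕ) [Fact p.Prime] (k : Type u) [Field k] [CharP k p]

open PowerSeries

theorem coeff_pow_p (g : PowerSeries k) (n : ℕ) :
    coeff n (g ^ p) = if p ∣ n then (coeff (n / p) g) ^ p else 0 := by
  have hp : p ≠ 0 := (Fact.out : p.Prime).ne_zero
  have h := MvPowerSeries.map_frobenius_expand (σ := Unit) (R := k) p hp (f := g)
  have h' : g ^ p = PowerSeries.map (frobenius k p) (PowerSeries.expand p hp g) := h.symm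
  rw [h', PowerSeries.coeff_map, PowerSeries.coeff_expand]
  split_ifs
  · rw [frobenius_def]
  · rw [map_zero]

theorem frobenius_finite_powerSeries [ExpChar (PowerSeries k) p]
    (hk : Function.Surjective (frobenius k p)) :
    (frobenius (PowerSeries k) p).Finite := by
  classical
  have hp : p.Prime := Fact.out
  have hp0 : 0 < p := hp.pos
  choose φ hφ using hk
  have hfin : Module.Finite (frobenius (PowerSeries k) p).range (PowerSeries k) := by
    refine ⟨⟨Finset.image (fun j : ℕ => (X : PowerSeries k) ^ j) (Finset.range p), ?_⟩⟩
    rw [eq_top_iff]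
    rintro f -
    have key : f = ∑ j ∈ Finset.range p,
        (⟨(PowerSeries.mk fun i => φ (coeff (p * i + j) f)) ^ p,
            ⟨PowerSeries.mk fun i => φ (coeff (p * i + j) f), rfl⟩⟩ :
          (frobenius (PowerSeries k) p).range) • ((X : PowerSeries k) ^ j) := by
      ext m
      rw [map_sum]
      rw [Finset.sum_eq_single (m % p)]
      · rw [Subring.smul_def, smul_eq_mul, PowerSeries.coeff_mul_X_pow']
        rw [if_pos (Nat.mod_le m p), coeff_pow_p]
        have h1 : p ∣ m - m % p := Nat.dvd_sub_mod m
        rw [if_pos h1, coeff_mk]
        have h2 : (m - m % p) / p = m / p := by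
          conv_lhs => rw [← Nat.div_add_mod m p]
          rw [Nat.mul_add_mod_self_left, Nat.mod_mod, Nat.add_sub_cancel,
            Nat.mul_div_cancel_left _ hp0]
        rw [h2, Nat.div_add_mod]
        have := hφ (coeff m f)
        rw [frobenius_def] at this
        exact this.symm
      · intro j hj hjm
        rw [Subring.smul_def, smul_eq_mul, PowerSeries.coeff_mul_X_pow']
        split_ifs with hle
        · rw [coeff_pow_p, if_neg]
          intro hdvd
          apply hjm
          have hjlt : j < p := Finset.mem_range.mp hj
          have : m % p = j % p := by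
            have h3 : (m - j) % p = 0 := Nat.mod_eq_zero_of_dvd hdvd
            have h4 : m = (m - j) + j := by omega
            rw [h4, Nat.add_mod, h3, zero_add, Nat.mod_mod]
          rw [this, Nat.mod_eq_of_lt hjlt]
        · rfl
      · intro h
        exact absurd (Finset.mem_range.mpr (Nat.mod_lt m hp0)) h
    rw [key]
    refine Submodule.sum_mem _ fun j hj => Submodule.smul_mem _ _ (Submodule.subset_span ?_)
    exact Finset.mem_coe.mpr (Finset.mem_image.mpr ⟨j, hj, rfl⟩)
  have h1 : ((frobenius (PowerSeries k) p).range.subtype).Finite := by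
    have : (frobenius (PowerSeries k) p).range.subtype =
        algebraMap (frobenius (PowerSeries k) p).range (PowerSeries k) := rfl
    rw [this, RingHom.finite_algebraMap]
    exact hfin
  have h2 : ((frobenius (PowerSeries k) p).rangeRestrict).Finite :=
    RingHom.Finite.of_surjective _ (frobenius (PowerSeries k) p).rangeRestrict_surjective
  have h3 : (frobenius (PowerSeries k) p) =
      ((frobenius (PowerSeries k) p).range.subtype).comp (frobenius (PowerSeries k) p).rangeRestrict := by
    ext x
    rfl
  rw [h3]
  exact h1.comp h2

end PowerSeries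

end Groth.Agent.Helper9.FFinite
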