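import Mathlib
import Groth.Prelude.Def_W4c61motalbdualityCompl

set_option autoImplicit false

universe u

namespace Groth.Agent.Helper9.FILim

open W4c61motalbduality CategoryTheory

variable {G : Type u} [AddCommGroup G] [TopologicalSpace G]

instance instPreorderOpenFI : Preorder (OpenFI G) where
  le U V := V.toAddSubgroup ≤ U.toAddSubgroup
  le_refl _ := le_rfl
  le_trans _ _ _ h1 h2 := le_trans h2 h1

theorem le_def (U V : OpenFI G) : U ≤ V ↔ V.toAddSubgroup ≤ U.toAddSubgroup := Iff.rfl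

/-- intersection of two open finite-index subgroups -/
def inf' (U V : OpenFI G) : OpenFI G :=
  ⟨U.toAddSubgroup ⊓ V.toAddSubgroup, U.isOpen'.inter V.isOpen', by
    haveI := U.finiteIndex'
    haveI := V.finiteIndex'
    infer_instance⟩

instance : IsDirectedOrder (OpenFI G) :=
  ⟨fun U V => ⟨inf' U V, (inf_le_left : U.toAddSubgroup ⊓ V.toAddSubgroup ≤ _),
    (inf_le_right : U.toAddSubgroup ⊓ V.toAddSubgroup ≤ _)⟩⟩

/-- transition map -/
def tr {U V : AddSubgroup G} (h : V ≤ U) : G ⧸ V →+ G ⧸ U :=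
  QuotientAddGroup.map V U (AddMonoidHom.id G) h

@[simp] theorem tr_mk {U V : AddSubgroup G} (h : V ≤ U) (g : G) :
    tr h (QuotientAddGroup.mk g) = QuotientAddGroup.mk g := rfl

theorem tr_tr {U V W : AddSubgroup G} (h : V ≤ U) (h' : W ≤ V) (x : G ⧸ W) :
    tr h (tr h' x) = tr (h'.trans h) x := by
  induction x using QuotientAddGroup.induction_on with
  | H g => rfl

theorem tr_self {U : AddSubgroup G} (x : G ⧸ U) : tr (le_refl U) x = x := by
  induction x using QuotientAddGroup.induction_on with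
  | H g => rfl

theorem exists_compatible (S : ∀ U : OpenFI G, Set (G ⧸ U.toAddSubgroup))
    (hne : ∀ U, (S U).Nonempty)
    (htr : ∀ (U V : OpenFI G) (h : V.toAddSubgroup ≤ U.toAddSubgroup), ∀ x ∈ S V, tr h x ∈ S U) :
    ∃ g : FICompl G, ∀ U, g.1 U ∈ S U := by
  let F : (OpenFI G)ᵒᵖ ⥤ Type u :=
    { obj := fun U => ↥(S U.unop)
      map := fun {U V} f => TypeCat.ofHom fun x : ↥(S U.unop) =>
        (⟨tr (leOfHom f.unop) x.1, htr _ _ (leOfHom f.unop) x.1 x.2⟩ : ↥(S V.unop))
      map_id := fun U => by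
        ext x
        exact tr_self x.1
      map_comp := fun {U V W} f g => by
        ext x
        exact (tr_tr _ _ x.1).symm }
  haveI : ∀ j : (OpenFI G)ᵒᵖ, Finite (F.obj j) := fun j => by
    haveI := j.unop.finiteIndex'
    show Finite ↥(S j.unop)
    infer_instance
  haveI : ∀ j : (OpenFI G)ᵒᵖ, Nonempty (F.obj j) := fun j => (hne j.unop).to_subtype
  obtain ⟨s, hs⟩ := nonempty_sections_of_finite_inverse_system F
  refine ⟨⟨fun U => (s (Opposite.op U)).1, ?_⟩, fun U => (s (Opposite.op U)).2⟩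
  intro U V h
  have hUV : V ≤ U := h
  have := hs (homOfLE hUV).op
  exact congrArg Subtype.val this

end Groth.Agent.Helper9.FILim
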