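import Mathlib

/-! Generic homological algebra for filtered K-injective resolutions:
* cokernels of monos between injectives / kernels of split epis from injectives are injective;
* two-out-of-three for K-injectivity in degreewise split short exact sequences of complexes;
* `quasiIso_τ₁` for morphisms of short exact sequences of cochain complexes. -/

set_option autoImplicit false
universe v u

open CategoryTheory CategoryTheory.Limits Pretriangulated

namespace Groth.Agent.Helper9.FKI1

variable {A : Type u} [Category.{v} A] [Abelian A]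

/-- a retract of an injective object is injective -/
lemma injective_of_retract {X Y : A} (i : X ⟶ Y) (r : Y ⟶ X) (h : i ≫ r = 𝟙 X) [Injective Y] :
    Injective X :=
  ⟨fun g m _ => ⟨Injective.factorThru (g ≫ i) m ≫ r, by
    rw [← Category.assoc, Injective.comp_factorThru, Category.assoc, h, Category.comp_id]⟩⟩

/-- the third term of a short exact sequence whose first two terms are injective is injective -/
lemma injective_X₃ (S : ShortComplex A) (hS : S.ShortExact) [Injective S.X₁] [Injective S.X₂] :
    Injective S.X₃ := by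
  haveI := hS.mono_f
  haveI := hS.epi_g
  let sp := ShortComplex.Splitting.ofExactOfRetraction S hS.exact
    (Injective.factorThru (𝟙 S.X₁) S.f) (Injective.comp_factorThru _ _) inferInstance
  exact injective_of_retract sp.s S.g sp.s_g

/-- the first term of an exact sequence `0 → X₁ → X₂ → X₃` with `X₂ → X₃` split epi and `X₂`
injective is injective -/
lemma injective_X₁ (S : ShortComplex A) (hS : S.Exact) [Mono S.f] [IsSplitEpi S.g]
    [Injective S.X₂] : Injective S.X₁ := by
  let sp := ShortComplex.Splitting.ofExactOfSection S hS (section_ S.g)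
    (IsSplitEpi.id S.g) inferInstance
  exact injective_of_retract S.f sp.r sp.f_r

section KInj

open HomologicalComplex

variable (S : ShortComplex (CochainComplex A ℤ))
  (σ : ∀ n, (S.map (eval A (ComplexShape.up ℤ) n)).Splitting)

include σ in
lemma isKInjective_X₁ [S.X₂.IsKInjective] [S.X₃.IsKInjective] : S.X₁.IsKInjective := by
  rw [CochainComplex.isKInjective_iff_rightOrthogonal]
  have hT : CochainComplex.trianglehOfDegreewiseSplit S σ ∈ distTriang _ :=
    (HomotopyCategory.distinguished_iff_iso_trianglehOfDegreewiseSplit _).2 ⟨S, σ, ⟨Iso.refl _⟩⟩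
  exact (HomotopyCategory.subcategoryAcyclic A).rightOrthogonal.ext_of_isTriangulatedClosed₁ _ hT
    (CochainComplex.IsKInjective.rightOrthogonal S.X₂)
    (CochainComplex.IsKInjective.rightOrthogonal S.X₃)

include σ in
lemma isKInjective_X₃ [S.X₁.IsKInjective] [S.X₂.IsKInjective] : S.X₃.IsKInjective := by
  rw [CochainComplex.isKInjective_iff_rightOrthogonal]
  have hT : CochainComplex.trianglehOfDegreewiseSplit S σ ∈ distTriang _ :=
    (HomotopyCategory.distinguished_iff_iso_trianglehOfDegreewiseSplit _).2 ⟨S, σ, ⟨Iso.refl _⟩⟩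
  exact (HomotopyCategory.subcategoryAcyclic A).rightOrthogonal.ext_of_isTriangulatedClosed₃ _ hT
    (CochainComplex.IsKInjective.rightOrthogonal S.X₁)
    (CochainComplex.IsKInjective.rightOrthogonal S.X₂)

end KInj

section Tau1

open HomologicalComplex HomologicalComplex.HomologySequence ComposableArrows

variable {ι : Type*} {c : ComplexShape ι}
  {S₁ S₂ : ShortComplex (HomologicalComplex A c)} (φ : S₁ ⟶ S₂)
  (hS₁ : S₁.ShortExact) (hS₂ : S₂.ShortExact)

include hS₁ hS₂ in
lemma isIso_homologyMap_τ₁ (i j : ι) (hij : c.Rel i j)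
    (h₂ : IsIso (homologyMap φ.τ₂ i)) (h₃ : IsIso (homologyMap φ.τ₃ i))
    (h₂' : IsIso (homologyMap φ.τ₂ j)) (h₃' : IsIso (homologyMap φ.τ₃ j)) :
    IsIso (homologyMap φ.τ₁ j) := by
  have := Abelian.isIso_of_epi_of_isIso_of_isIso_of_mono' (n := 5) (k := 1) (by norm_num)
    (composableArrows₅_exact hS₁ i j hij) (composableArrows₅_exact hS₂ i j hij)
    (mapComposableArrows₅ φ hS₁ hS₂ i j hij) 1 2 3 4 5 rfl rfl rfl rfl rfl
    (by
      show Epi (homologyMap φ.τ₂ i)
      infer_instance)
    (by
      show IsIso (homologyMap φ.τ₃ i)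
      infer_instance)
    (by
      show IsIso (homologyMap φ.τ₂ j)
      infer_instance)
    (by
      show Mono (homologyMap φ.τ₃ j)
      infer_instance)
  exact this

end Tau1

lemma quasiIso_τ₁ {T₁ T₂ : ShortComplex (CochainComplex A ℤ)} (ψ : T₁ ⟶ T₂)
    (hT₁ : T₁.ShortExact) (hT₂ : T₂.ShortExact)
    (h₂ : QuasiIso ψ.τ₂) (h₃ : QuasiIso ψ.τ₃) : QuasiIso ψ.τ₁ := by
  rw [quasiIso_iff]
  intro j
  rw [quasiIsoAt_iff_isIso_homologyMap]
  exact isIso_homologyMap_τ₁ ψ hT₁ hT₂ (j - 1) j (by simp)
    inferInstance inferInstance inferInstance inferInstance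

end Groth.Agent.Helper9.FKI1

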