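import Mathlib
import Groth.Agent.Helper9.FCol3
import Groth.Agent.Helper9.KInjAdj
import Groth.Agent.Helper9.FKI1

/-! Functor categories over a thin small category: the transition maps of an injective diagram are
split epimorphisms; evaluation preserves K-injective complexes and quasi-isomorphisms. -/

set_option autoImplicit false
set_option backward.isDefEq.respectTransparency false
universe v u

open CategoryTheory CategoryTheory.Limits

namespace Groth.Agent.Helper9.FKI2

variable {C : Type v} [SmallCategory C] {B : Type u} [Category.{v} B] [Abelian B]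
  [IsGrothendieckAbelian.{v} B]

instance (x : C) : (evaluationLeftAdjoint B x).Additive :=
  (evaluationAdjunctionRight B x).left_adjoint_additive

instance (x : C) : PreservesFiniteColimits (evaluationLeftAdjoint B x) := by
  haveI := (evaluationAdjunctionRight B x).leftAdjoint_preservesColimits
  infer_instance

instance (x : C) : PreservesFiniteLimits (evaluationLeftAdjoint B x) := by
  rw [Functor.preservesFiniteLimits_iff_forall_exact_map_and_mono]
  intro S hS
  haveI := hS.mono_f
  exact ⟨((Functor.preservesFiniteColimits_iff_forall_exact_map_and_epi _).1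
    inferInstance S hS).1, inferInstance⟩

/-- evaluation preserves K-injective complexes -/
theorem isKInjective_eval (𝒥 : CochainComplex (C ⥤ B) ℤ) [𝒥.IsKInjective] (x : C) :
    CochainComplex.IsKInjective (𝒥.asFunctor.obj x) :=
  KInjAdj.isKInjective_map (evaluationAdjunctionRight B x) 𝒥

/-- evaluation preserves quasi-isomorphisms -/
theorem quasiIso_eval {𝒦 𝒥 : CochainComplex (C ⥤ B) ℤ} (f : 𝒦 ⟶ 𝒥) [QuasiIso f] (x : C) :
    QuasiIso ((HomologicalComplex.complexOfFunctorsToFunctorToComplex.map f).app x) :=
  (HomologicalComplex.quasiIso_iff_evaluation f).1 inferInstance x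

section Thin

variable [Quiver.IsThin C]

/-- the comparison map between the left adjoints of two evaluations -/
noncomputable def ιφ {x y : C} (φ : x ⟶ y) (M : B) :
    (evaluationLeftAdjoint B y).obj M ⟶ (evaluationLeftAdjoint B x).obj M where
  app t := Sigma.desc fun g : y ⟶ t => Sigma.ι (fun _ : x ⟶ t => M) (φ ≫ g)
  naturality t t' f := by
    refine Sigma.hom_ext (f := fun _ : y ⟶ t => M) _ _ (fun g => ?_)
    simp

instance {x y : C} (φ : x ⟶ y) (M : B) : Mono (ιφ φ M) := by
  rw [NatTrans.mono_iff_mono_app]
  intro t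
  classical
  let r : (∐ fun _ : x ⟶ t => M) ⟶ ∐ fun _ : y ⟶ t => M :=
    Sigma.desc fun _ => if h : Nonempty (y ⟶ t) then Sigma.ι (fun _ : y ⟶ t => M) h.some else 0
  have hr : (ιφ φ M).app t ≫ r = 𝟙 _ := by
    refine Sigma.hom_ext (f := fun _ : y ⟶ t => M) _ _ (fun g => ?_)
    dsimp only [ιφ]
    have hg : Nonempty (y ⟶ t) := ⟨g⟩
    simp only [r, colimit.ι_desc_assoc, colimit.ι_desc, Cofan.mk_ι_app, dif_pos hg]
    rw [Subsingleton.elim hg.some g]
    exact (Category.comp_id _).symm
  exact mono_of_mono_fac hr

/-- the transition maps of an injective diagram over a thin category are split epimorphisms -/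
theorem isSplitEpi_map (E : C ⥤ B) [Injective E] {x y : C} (φ : x ⟶ y) :
    IsSplitEpi (E.map φ) := by
  let M := E.obj y
  let a : (evaluationLeftAdjoint B y).obj M ⟶ E :=
    { app := fun t => Sigma.desc fun g : y ⟶ t => E.map g
      naturality := by
        intro t t' f
        refine Sigma.hom_ext (f := fun _ : y ⟶ t => M) _ _ (fun g => ?_)
        simp }
  let b := Injective.factorThru a (ιφ φ M)
  have hb : ιφ φ M ≫ b = a := Injective.comp_factorThru _ _
  refine IsSplitEpi.mk' ⟨Sigma.ι (fun _ : x ⟶ x => M) (𝟙 x) ≫ b.app x, ?_⟩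
  have h1 := b.naturality φ
  have h2 : (ιφ φ M).app y ≫ b.app y = a.app y := by
    rw [← NatTrans.comp_app, hb]
  have h3 : Sigma.ι (fun _ : x ⟶ x => M) (𝟙 x) ≫ ((evaluationLeftAdjoint B x).obj M).map φ =
      Sigma.ι (fun _ : y ⟶ y => M) (𝟙 y) ≫ (ιφ φ M).app y := by
    simp [ιφ]
  rw [Category.assoc, ← h1, reassoc_of% h3, h2]
  simp [a, M]

end Thin

end Groth.Agent.Helper9.FKI2
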