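import Mathlib
import Groth.Prelude.Def_SpSeq
import Groth.Agent.Helper9.FKI1

/-! Filtered complexes: the induced maps on steps, quotients and graded pieces of a morphism of
filtered objects; reduction of the filtered K-injective embedding theorem to properties of the
steps. -/

set_option autoImplicit false
universe v u

open CategoryTheory CategoryTheory.Limits

namespace Groth.Agent.Helper9.FKI3

section General

variable {D : Type u} [Category.{v} D] [Abelian D]

/-- the short exact sequence `0 → X → Y → coker f → 0` of a monomorphism -/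
noncomputable abbrev sesMono {X Y : D} (f : X ⟶ Y) : ShortComplex D :=
  ShortComplex.mk f (cokernel.π f) (cokernel.condition f)

lemma sesMono_shortExact {X Y : D} (f : X ⟶ Y) [Mono f] : (sesMono f).ShortExact :=
  { exact := ShortComplex.exact_cokernel f }

/-- morphism of short exact sequences induced by a commutative square -/
noncomputable def sesMonoMap {X Y X' Y' : D} (f : X ⟶ Y) (f' : X' ⟶ Y') (a : X ⟶ X')
    (b : Y ⟶ Y') (w : a ≫ f' = f ≫ b) : sesMono f ⟶ sesMono f' where
  τ₁ := a
  τ₂ := b
  τ₃ := cokernel.map f f' a b w.symm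
  comm₁₂ := w
  comm₂₃ := by simp

lemma le_pullback_of_fac {X Y : D} (f : X ⟶ Y) (S : Subobject X) (T : Subobject Y)
    (k : (S : D) ⟶ (T : D)) (hk : k ≫ T.arrow = S.arrow ≫ f) :
    S ≤ (Subobject.pullback f).obj T := by
  have h := Subobject.isPullback f T
  exact Subobject.le_of_comm (h.lift k S.arrow hk) (h.lift_snd _ _ _)

open SpSeq

variable {K J : FilObj D} (j : K ⟶ J)

/-- the map induced on the steps of the filtrations -/
noncomputable def stepMap (p : ℤ) : K.step p ⟶ J.step p :=
  Subobject.ofLE _ _ (j.compat p) ≫ Subobject.pullbackπ j.hom (J.fil p)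

@[reassoc]
lemma stepMap_arrow (p : ℤ) : stepMap j p ≫ (J.fil p).arrow = (K.fil p).arrow ≫ j.hom := by
  unfold stepMap
  rw [Category.assoc, (Subobject.isPullback j.hom (J.fil p)).w, ← Category.assoc,
    Subobject.ofLE_arrow]

lemma stepMap_unique (p : ℤ) (k : K.step p ⟶ J.step p)
    (hk : k ≫ (J.fil p).arrow = (K.fil p).arrow ≫ j.hom) : k = stepMap j p := by
  rw [← cancel_mono (J.fil p).arrow, hk, stepMap_arrow]

@[reassoc]
lemma stepMap_stepLE {p p' : ℤ} (h : p ≤ p') :
    stepMap j p' ≫ J.stepLE h = K.stepLE h ≫ stepMap j p := by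
  rw [← cancel_mono (J.fil p).arrow]
  simp only [Category.assoc, stepMap_arrow]
  rw [Subobject.ofLE_arrow, stepMap_arrow, Subobject.ofLE_arrow_assoc]

/-- the map induced on the quotients by the steps -/
noncomputable def quotMap' (p : ℤ) : K.quot p ⟶ J.quot p :=
  cokernel.map (K.fil p).arrow (J.fil p).arrow (stepMap j p) j.hom (stepMap_arrow j p).symm

@[reassoc]
lemma π_quotMap' (p : ℤ) :
    cokernel.π (K.fil p).arrow ≫ quotMap' j p = j.hom ≫ cokernel.π (J.fil p).arrow := by
  simp [quotMap']

/-- the map induced on the cokernels of the inclusions of steps -/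
noncomputable def grMap {p p' : ℤ} (h : p ≤ p') :
    cokernel (K.stepLE h) ⟶ cokernel (J.stepLE h) :=
  cokernel.map (K.stepLE h) (J.stepLE h) (stepMap j p') (stepMap j p) (stepMap_stepLE j h).symm

@[reassoc]
lemma π_grMap {p p' : ℤ} (h : p ≤ p') :
    cokernel.π (K.stepLE h) ≫ grMap j h = stepMap j p ≫ cokernel.π (J.stepLE h) := by
  simp [grMap]

/-- if the ambient object and the steps of a filtered object are injective, so are the quotients -/
lemma injective_quot (J : FilObj D) [Injective J.obj] (p : ℤ) [Injective (J.step p)] :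
    Injective (J.quot p) :=
  FKI1.injective_X₃ (sesMono (J.fil p).arrow) (sesMono_shortExact _)

lemma injective_cokernel_stepLE (J : FilObj D) {p p' : ℤ} (h : p ≤ p') [Injective (J.step p)]
    [Injective (J.step p')] : Injective (cokernel (J.stepLE h)) :=
  FKI1.injective_X₃ (sesMono (J.stepLE h)) (sesMono_shortExact _)

end General

section Complexes

open SpSeq

variable {A : Type u} [Category.{v} A] [Abelian A]

section

variable {K J : FilCx A} (j : K ⟶ J)

lemma quasiIso_stepMap (p : ℤ) (h1 : QuasiIso j.hom) (h2 : QuasiIso (quotMap' j p)) :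
    QuasiIso (stepMap j p) :=
  FKI1.quasiIso_τ₁ (sesMonoMap (K.fil p).arrow (J.fil p).arrow (stepMap j p) j.hom
    (stepMap_arrow j p)) (sesMono_shortExact _) (sesMono_shortExact _) h1 h2

lemma quasiIso_grMap {p p' : ℤ} (h : p ≤ p') (h1 : QuasiIso (stepMap j p'))
    (h2 : QuasiIso (stepMap j p)) : QuasiIso (grMap j h) :=
  HomologicalComplex.HomologySequence.quasiIso_τ₃
    (sesMonoMap (K.stepLE h) (J.stepLE h) (stepMap j p') (stepMap j p) (stepMap_stepLE j h))
    (sesMono_shortExact _) (sesMono_shortExact _) h1 h2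

end

/-- a short exact sequence of complexes whose first term has injective components is
degreewise split -/
noncomputable def splittingOfInjective (S : ShortComplex (CochainComplex A ℤ)) (hS : S.ShortExact)
    (hinj : ∀ n, Injective (S.X₁.X n)) (n : ℤ) :
    (S.map (HomologicalComplex.eval A (ComplexShape.up ℤ) n)).Splitting := by
  have hS' := (HomologicalComplex.shortExact_iff_degreewise_shortExact S).1 hS n
  haveI := hS'.mono_f
  haveI := hS'.epi_g
  haveI : Injective (S.map (HomologicalComplex.eval A (ComplexShape.up ℤ) n)).X₁ := hinj n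
  exact ShortComplex.Splitting.ofExactOfRetraction _ hS'.exact
    (Injective.factorThru (𝟙 _) (S.map (HomologicalComplex.eval A (ComplexShape.up ℤ) n)).f)
    (Injective.comp_factorThru _ _) inferInstance

lemma isKInjective_X₃ (S : ShortComplex (CochainComplex A ℤ)) (hS : S.ShortExact)
    (hinj : ∀ n, Injective (S.X₁.X n)) [S.X₁.IsKInjective] [S.X₂.IsKInjective] :
    S.X₃.IsKInjective :=
  FKI1.isKInjective_X₃ S (splittingOfInjective S hS hinj)

/-- the components of the steps of `J.XFil n` -/
noncomputable def xfilStepIso (J : FilCx A) (n p : ℤ) : (J.XFil n).step p ≅ (J.step p).X n :=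
  Subobject.underlyingIso ((J.fil p).arrow.f n)

/-- Reduction: it suffices to control the ambient complex and the steps. -/
theorem reduction (K J : FilCx A) (j : K ⟶ J)
    (hinj : ∀ n, Injective (J.obj.X n)) (hinjs : ∀ p n, Injective ((J.step p).X n))
    (hK : CochainComplex.IsKInjective J.obj) (hKs : ∀ p, CochainComplex.IsKInjective (J.step p))
    (hq : QuasiIso j.hom) (hqq : ∀ p, QuasiIso (quotMap' j p)) :
    (∀ n p : ℤ, Injective (J.obj.X n) ∧ Injective ((J.XFil n).step p) ∧
        Injective ((J.XFil n).quot p) ∧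
        ∀ (p' : ℤ) (h : p ≤ p'), Injective (cokernel ((J.XFil n).stepLE h))) ∧
      (CochainComplex.IsKInjective J.obj ∧ ∀ p : ℤ, CochainComplex.IsKInjective (J.step p) ∧
        CochainComplex.IsKInjective (J.quot p) ∧
        ∀ (p' : ℤ) (h : p ≤ p'), CochainComplex.IsKInjective (cokernel (J.stepLE h))) ∧
      QuasiIso j.hom ∧
      (∀ p : ℤ, ∃ jp : K.step p ⟶ J.step p,
        jp ≫ (J.fil p).arrow = (K.fil p).arrow ≫ j.hom ∧ QuasiIso jp ∧
        (∀ (p' : ℤ) (h : p ≤ p'), ∃ (jp' : K.step p' ⟶ J.step p')
          (jg : cokernel (K.stepLE h) ⟶ cokernel (J.stepLE h)),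
          jp' ≫ (J.fil p').arrow = (K.fil p').arrow ≫ j.hom ∧
          jp' ≫ J.stepLE h = K.stepLE h ≫ jp ∧
          cokernel.π (K.stepLE h) ≫ jg = jp ≫ cokernel.π (J.stepLE h) ∧ QuasiIso jg)) ∧
      (∀ p : ℤ, ∃ jq : K.quot p ⟶ J.quot p,
        cokernel.π (K.fil p).arrow ≫ jq = j.hom ≫ cokernel.π (J.fil p).arrow ∧ QuasiIso jq) := by
  have hstep : ∀ p, QuasiIso (stepMap j p) := fun p => quasiIso_stepMap j p hq (hqq p)
  have hXstep : ∀ n p, Injective ((J.XFil n).step p) := fun n p =>
    haveI := hinjs p n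
    Injective.of_iso (xfilStepIso J n p).symm inferInstance
  refine ⟨fun n p => ⟨hinj n, hXstep n p, ?_, fun p' h => ?_⟩,
    ⟨hK, fun p => ⟨hKs p, ?_, fun p' h => ?_⟩⟩, hq,
    fun p => ⟨stepMap j p, stepMap_arrow j p, hstep p, fun p' h =>
      ⟨stepMap j p', grMap j h, stepMap_arrow j p', stepMap_stepLE j h, π_grMap j h,
        quasiIso_grMap j h (hstep p') (hstep p)⟩⟩,
    fun p => ⟨quotMap' j p, π_quotMap' j p, hqq p⟩⟩
  · haveI : Injective (J.XFil n).obj := hinj n
    haveI := hXstep n p
    exact injective_quot (J.XFil n) p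
  · haveI := hXstep n p
    haveI := hXstep n p'
    exact injective_cokernel_stepLE (J.XFil n) h
  · haveI := hK
    haveI := hKs p
    exact isKInjective_X₃ (sesMono (J.fil p).arrow) (sesMono_shortExact _) (hinjs p)
  · haveI := hKs p
    haveI := hKs p'
    exact isKInjective_X₃ (sesMono (J.stepLE h)) (sesMono_shortExact _) (hinjs p')

end Complexes

end Groth.Agent.Helper9.FKI3
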