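import Mathlib
import Groth.Prelude.Def_SpSeq
import Groth.Agent.Helper4.KInjRes
import Groth.Agent.Helper9.FKI2
import Groth.Agent.Helper9.FKI3

/-! Filtered K-injective embeddings: construction from a K-injective resolution of the diagram of
quotients `K/F^pK` in the functor category over `(ℤ ∪ {∞})`. -/

set_option autoImplicit false
universe v u

open CategoryTheory CategoryTheory.Limits

namespace Groth.Agent.Helper9.FKI4

open SpSeq

/-- the index set `ℤ ∪ {∞}` with the reversed order, in an arbitrary universe -/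
structure Idx : Type v where
  val : WithTop ℤ

instance : Preorder Idx.{v} where
  le x y := y.val ≤ x.val
  le_refl x := le_refl x.val
  le_trans _ _ _ h1 h2 := le_trans h2 h1

/-- the point at infinity -/
def top : Idx.{v} := ⟨⊤⟩

/-- the finite points -/
def pt (p : ℤ) : Idx.{v} := ⟨(p : WithTop ℤ)⟩

/-- `∞ → p` -/
def topTo (p : ℤ) : (top.{v} ⟶ pt p) :=
  homOfLE (show (pt p).val ≤ top.val from le_top)

/-- `q → p` for `p ≤ q` -/
def ptTo {p q : ℤ} (h : p ≤ q) : (pt.{v} q ⟶ pt p) :=
  homOfLE (show (pt p).val ≤ (pt q).val from WithTop.coe_le_coe.2 h)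

section General

variable {D : Type u} [Category.{v} D] [Abelian D]

/-- the diagram of quotients by a monotone family of subobjects -/
noncomputable def quotDiagram {C : Type*} [Preorder C] {X : D} (S : C → Subobject X)
    (hS : Monotone S) : C ⥤ D where
  obj x := cokernel (S x).arrow
  map {x y} φ := cokernel.desc _ (cokernel.π (S y).arrow) (by
    rw [← Subobject.ofLE_arrow (hS (leOfHom φ)), Category.assoc, cokernel.condition, comp_zero])
  map_id x := by
    apply coequalizer.hom_ext
    simp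
  map_comp φ ψ := by
    apply coequalizer.hom_ext
    simp

lemma isIso_π_of_eq_zero {X Y : D} (f : X ⟶ Y) (h : f = 0) : IsIso (cokernel.π f) := by
  subst h
  infer_instance

/-- the short complex `ker f → X → Y` -/
noncomputable abbrev sesKer {X Y : D} (f : X ⟶ Y) : ShortComplex D :=
  ShortComplex.mk (kernelSubobject f).arrow f (kernelSubobject_arrow_comp f)

lemma sesKer_exact {X Y : D} (f : X ⟶ Y) : (sesKer f).Exact := by
  refine ShortComplex.exact_of_iso ?_ (ShortComplex.exact_kernel f)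
  exact ShortComplex.isoMk (kernelSubobjectIso f).symm (Iso.refl _) (Iso.refl _)
    (by simp) (by simp)

lemma sesKer_shortExact {X Y : D} (f : X ⟶ Y) [Epi f] : (sesKer f).ShortExact :=
  { exact := sesKer_exact f }

/-- the cokernel of the kernel of an epimorphism is its target -/
noncomputable def cokerKerIso {X Y : D} (f : X ⟶ Y) [Epi f] :
    cokernel (kernelSubobject f).arrow ≅ Y :=
  (cokernelIsCokernel (kernelSubobject f).arrow).coconePointUniqueUpToIso
    (sesKer_shortExact f).gIsCokernel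

@[reassoc (attr := simp)]
lemma π_cokerKerIso_hom {X Y : D} (f : X ⟶ Y) [Epi f] :
    cokernel.π (kernelSubobject f).arrow ≫ (cokerKerIso f).hom = f :=
  (cokernelIsCokernel (kernelSubobject f).arrow).comp_coconePointUniqueUpToIso_hom
    (sesKer_shortExact f).gIsCokernel WalkingParallelPair.one

end General

variable {A : Type u} [Category.{v} A] [Abelian A]

/-- a functor to complexes as a complex of functors -/
@[simps]
def cxOfFunctor {C : Type*} [Category C] (F : C ⥤ CochainComplex A ℤ) :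
    CochainComplex (C ⥤ A) ℤ where
  X n := F ⋙ HomologicalComplex.eval A _ n
  d n m :=
    { app := fun x => (F.obj x).d n m
      naturality := fun x y φ => (F.map φ).comm n m }
  shape n m h := by
    ext x
    exact (F.obj x).shape n m h
  d_comp_d' n m k _ _ := by
    ext x
    exact (F.obj x).d_comp_d n m k

/-- the comparison isomorphism -/
def cxOfFunctorIso {C : Type*} [Category C] (F : C ⥤ CochainComplex A ℤ) :
    (cxOfFunctor F).asFunctor ≅ F :=
  NatIso.ofComponents (fun x => HomologicalComplex.Hom.isoOfComponents (fun n => Iso.refl _)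
    (by
      intro i j _
      exact (Category.id_comp _).trans (Category.comp_id _).symm)) (by
      intro x y φ
      ext n
      exact (Category.comp_id _).trans (Category.id_comp _).symm)

section Construction

variable (K : FilCx A)

/-- the filtration extended by `F^∞ = 0` -/
noncomputable def filE : WithTop ℤ → Subobject K.obj
  | none => ⊥
  | some p => K.fil p

lemma filE_anti : Antitone (filE K) := by
  intro x y h
  cases x with
  | top =>
    have : y = ⊤ := top_le_iff.1 h
    subst this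
    exact le_rfl
  | coe p =>
    cases y with
    | top => exact bot_le
    | coe q => exact K.anti (WithTop.coe_le_coe.1 h)

/-- the diagram `∞ ↦ K, p ↦ K / F^p K` -/
noncomputable def diag : Idx.{v} ⥤ CochainComplex A ℤ :=
  quotDiagram (fun x : Idx.{v} => filE K x.val) (fun _ _ h => filE_anti K h)

variable (𝒥' : Idx.{v} ⥤ CochainComplex A ℤ) (fx : diag K ⟶ 𝒥')

/-- the filtered complex attached to a diagram: the filtration by the kernels of the
transition maps from `∞` -/
noncomputable def Jobj : FilCx A where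
  obj := 𝒥'.obj top
  fil p := kernelSubobject (𝒥'.map (topTo p))
  anti := fun p q h => by
    have : 𝒥'.map (topTo p) = 𝒥'.map (topTo q) ≫ 𝒥'.map (ptTo h) := by
      rw [← Functor.map_comp]
      congr 1
    show kernelSubobject (𝒥'.map (topTo q)) ≤ kernelSubobject (𝒥'.map (topTo p))
    rw [this]
    exact kernelSubobject_comp_le _ _

/-- the projection `K → 𝒦(∞)` (an isomorphism) -/
noncomputable def πtop : K.obj ⟶ (diag K).obj top := cokernel.π (filE K ⊤).arrow

/-- the projection `K → 𝒦(p) = K / F^p K` -/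
noncomputable def πpt (p : ℤ) : K.obj ⟶ (diag K).obj (pt p) := cokernel.π (K.fil p).arrow

/-- the identification `K / F^p K = 𝒦(p)` -/
noncomputable def quotTo (p : ℤ) : K.quot p ⟶ (diag K).obj (pt p) := 𝟙 _

lemma πtop_map (p : ℤ) : πtop K ≫ (diag K).map (topTo p) = πpt K p := cokernel.π_desc _ _ _

lemma πpt_eq (p : ℤ) : πpt K p = cokernel.π (K.fil p).arrow ≫ quotTo K p :=
  (Category.comp_id _).symm

lemma fil_πpt (p : ℤ) : (K.fil p).arrow ≫ πpt K p = 0 := cokernel.condition _

instance : IsIso (πtop K) :=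
  isIso_π_of_eq_zero (filE K ⊤).arrow Subobject.bot_arrow

instance (p : ℤ) : IsIso (quotTo K p) :=
  (inferInstance : IsIso (𝟙 (K.quot p)))

/-- the underlying map of the embedding -/
noncomputable def gmap : K.obj ⟶ 𝒥'.obj top := πtop K ≫ fx.app top

lemma gmap_comp (p : ℤ) :
    gmap K 𝒥' fx ≫ 𝒥'.map (topTo p) = πpt K p ≫ fx.app (pt p) := by
  unfold gmap
  rw [Category.assoc, ← fx.naturality (topTo p), ← Category.assoc, πtop_map]

/-- the embedding -/
noncomputable def jmap : K ⟶ Jobj 𝒥' :=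
  ⟨gmap K 𝒥' fx, fun p => FKI3.le_pullback_of_fac _ _ _
    (factorThruKernelSubobject (𝒥'.map (topTo p)) ((K.fil p).arrow ≫ gmap K 𝒥' fx)
      (by rw [Category.assoc, gmap_comp, ← Category.assoc, fil_πpt, zero_comp]))
    (factorThruKernelSubobject_comp_arrow _ _ _)⟩

section Main

variable (h1 : ∀ x, CochainComplex.IsKInjective (𝒥'.obj x))
  (h2 : ∀ x n, Injective ((𝒥'.obj x).X n))
  (h3 : ∀ {x y : Idx.{v}} (φ : x ⟶ y) (n : ℤ), IsSplitEpi ((𝒥'.map φ).f n))
  (h4 : ∀ x, QuasiIso (fx.app x))

include h3 in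
lemma epi_map {x y : Idx.{v}} (φ : x ⟶ y) : Epi (𝒥'.map φ) :=
  HomologicalComplex.epi_of_epi_f _ (fun n => (h3 φ n).exists_splitEpi.some.epi)

include h3 in
lemma sesKer_topTo_shortExact (p : ℤ) : (sesKer (𝒥'.map (topTo p))).ShortExact := by
  haveI := epi_map 𝒥' h3 (topTo p)
  exact sesKer_shortExact _

include h2 h3 in
lemma injective_step (p n : ℤ) : Injective (((Jobj 𝒥').step p).X n) := by
  have hS := (HomologicalComplex.shortExact_iff_degreewise_shortExact _).1
    (sesKer_topTo_shortExact 𝒥' h3 p) n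
  haveI := hS.mono_f
  haveI : IsSplitEpi ((sesKer (𝒥'.map (topTo p))).map
      (HomologicalComplex.eval A (ComplexShape.up ℤ) n)).g := h3 (topTo p) n
  haveI : Injective ((sesKer (𝒥'.map (topTo p))).map
      (HomologicalComplex.eval A (ComplexShape.up ℤ) n)).X₂ := h2 top n
  exact FKI1.injective_X₁ _ hS.exact

include h1 h3 in
lemma isKInjective_step (p : ℤ) : CochainComplex.IsKInjective ((Jobj 𝒥').step p) := by
  haveI : CochainComplex.IsKInjective (sesKer (𝒥'.map (topTo p))).X₂ := h1 top
  haveI : CochainComplex.IsKInjective (sesKer (𝒥'.map (topTo p))).X₃ := h1 (pt p)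
  refine FKI1.isKInjective_X₁ (sesKer (𝒥'.map (topTo p))) (fun n => ?_)
  have hS := (HomologicalComplex.shortExact_iff_degreewise_shortExact _).1
    (sesKer_topTo_shortExact 𝒥' h3 p) n
  haveI : IsSplitEpi ((sesKer (𝒥'.map (topTo p))).map
      (HomologicalComplex.eval A (ComplexShape.up ℤ) n)).g := h3 (topTo p) n
  exact ShortComplex.Splitting.ofExactOfSection _ hS.exact (section_ _) (IsSplitEpi.id _)
    hS.mono_f

include h4 in
lemma quasiIso_gmap : QuasiIso (gmap K 𝒥' fx) := by
  haveI := h4 top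
  unfold gmap
  infer_instance

include h3 h4 in
lemma quasiIso_quotMap' (p : ℤ) : QuasiIso (FKI3.quotMap' (jmap K 𝒥' fx) p) := by
  haveI := epi_map 𝒥' h3 (topTo p)
  haveI := h4 (pt p)
  have h : FKI3.quotMap' (jmap K 𝒥' fx) p ≫ (cokerKerIso (𝒥'.map (topTo p))).hom =
      quotTo K p ≫ fx.app (pt p) := by
    rw [← cancel_epi (cokernel.π (K.fil p).arrow), FKI3.π_quotMap'_assoc]
    have e1 : cokernel.π ((Jobj 𝒥').fil p).arrow ≫ (cokerKerIso (𝒥'.map (topTo p))).hom =
        𝒥'.map (topTo p) := π_cokerKerIso_hom (𝒥'.map (topTo p))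
    rw [e1]
    have e2 : (jmap K 𝒥' fx).hom ≫ 𝒥'.map (topTo p) = πpt K p ≫ fx.app (pt p) :=
      gmap_comp K 𝒥' fx p
    rw [e2, πpt_eq, Category.assoc]
  have h5 : QuasiIso (FKI3.quotMap' (jmap K 𝒥' fx) p ≫ (cokerKerIso (𝒥'.map (topTo p))).hom) := by
    rw [h]
    infer_instance
  exact (quasiIso_iff_comp_right (FKI3.quotMap' (jmap K 𝒥' fx) p)
    (cokerKerIso (𝒥'.map (topTo p))).hom).1 h5

end Main

end Construction

/-- **Filtered K-injective embedding** of a filtered complex in a Grothendieck abelian category. -/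
theorem main [IsGrothendieckAbelian.{v} A] (K : FilCx A) :
    ∃ (J : SpSeq.FilCx A) (j : K ⟶ J),
      (∀ n p : ℤ, Injective (J.obj.X n) ∧ Injective ((J.XFil n).step p) ∧
        Injective ((J.XFil n).quot p) ∧
        ∀ (p' : ℤ) (h : p ≤ p'), Injective (cokernel ((J.XFil n).stepLE h))) ∧
      (CochainComplex.IsKInjective J.obj ∧ ∀ p : ℤ, CochainComplex.IsKInjective (J.step p) ∧
        CochainComplex.IsKInjective (J.quot p) ∧
        ∀ (p' : ℤ) (h : p ≤ p'), CochainComplex.IsKInjective (cokernel (J.stepLE h))) ∧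
      QuasiIso j.hom ∧
      (∀ p : ℤ, ∃ jp : K.step p ⟶ J.step p,
        jp ≫ (J.fil p).arrow = (K.fil p).arrow ≫ j.hom ∧ QuasiIso jp ∧
        (∀ (p' : ℤ) (h : p ≤ p'), ∃ (jp' : K.step p' ⟶ J.step p')
          (jg : cokernel (K.stepLE h) ⟶ cokernel (J.stepLE h)),
          jp' ≫ (J.fil p').arrow = (K.fil p').arrow ≫ j.hom ∧
          jp' ≫ J.stepLE h = K.stepLE h ≫ jp ∧
          cokernel.π (K.stepLE h) ≫ jg = jp ≫ cokernel.π (J.stepLE h) ∧ QuasiIso jg)) ∧
      (∀ p : ℤ, ∃ jq : K.quot p ⟶ J.quot p,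
        cokernel.π (K.fil p).arrow ≫ jq = j.hom ≫ cokernel.π (J.fil p).arrow ∧ QuasiIso jq) := by
  obtain ⟨𝒥, f, hKinj, hqi, -, hinj⟩ :=
    Groth.Agent.Helper4.KInjRes.exists_resolution (cxOfFunctor (diag.{v} K))
  haveI := hKinj
  haveI := hqi
  let 𝒥' : Idx.{v} ⥤ CochainComplex A ℤ := 𝒥.asFunctor
  let fx : diag.{v} K ⟶ 𝒥' := (cxOfFunctorIso (diag.{v} K)).inv ≫
    HomologicalComplex.complexOfFunctorsToFunctorToComplex.map f
  have h1 : ∀ x, CochainComplex.IsKInjective (𝒥'.obj x) := fun x => FKI2.isKInjective_eval 𝒥 x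
  have h2 : ∀ x n, Injective ((𝒥'.obj x).X n) := fun x n =>
    haveI := hinj n
    FCol3.injective_obj (𝒥.X n) x
  have h3 : ∀ {x y : Idx.{v}} (φ : x ⟶ y) (n : ℤ), IsSplitEpi ((𝒥'.map φ).f n) := fun φ n =>
    haveI := hinj n
    FKI2.isSplitEpi_map (𝒥.X n) φ
  have h4 : ∀ x, QuasiIso (fx.app x) := fun x => by
    haveI : IsIso ((cxOfFunctorIso (diag.{v} K)).inv.app x) := inferInstance
    exact (quasiIso_iff_comp_left ((cxOfFunctorIso (diag.{v} K)).inv.app x)
      ((HomologicalComplex.complexOfFunctorsToFunctorToComplex.map f).app x)).2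
      (FKI2.quasiIso_eval f x)
  exact ⟨Jobj 𝒥', jmap K 𝒥' fx, FKI3.reduction K (Jobj 𝒥') (jmap K 𝒥' fx)
    (h2 top) (fun p n => injective_step 𝒥' h2 h3 p n)
    (h1 top) (fun p => isKInjective_step 𝒥' h1 h3 p)
    (quasiIso_gmap K 𝒥' fx h4) (fun p => quasiIso_quotMap' K 𝒥' fx h3 h4 p)⟩

end Groth.Agent.Helper9.FKI4
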