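import Groth.Agent.Helper9.FM2
import Mathlib

/-!
# Freyd–Mitchell toolkit for the homology of a short complex
-/

set_option autoImplicit false

namespace Groth.Agent.Helper9.FMS

open CategoryTheory CategoryTheory.Limits
open Groth.Agent.Helper9.FM

universe v u

variable {A : Type u} [Category.{v} A] [Abelian A]

variable (S : ShortComplex A)

theorem exact_iCycles_g :
    (ShortComplex.mk S.iCycles S.g S.iCycles_g).Exact :=
  ShortComplex.exact_of_f_is_kernel _ S.cyclesIsKernel

theorem exists_cycle (x : (F A).obj S.X₂) (hx : m S.g x = 0) :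
    ∃ z : (F A).obj S.cycles, m S.iCycles z = x :=
  (exact_iff _).1 (exact_iCycles_g S) x hx

theorem iCycles_g_apply (z : (F A).obj S.cycles) : m S.g (m S.iCycles z) = 0 := by
  rw [← m_comp_apply, S.iCycles_g]; simp

theorem iCycles_injective : Function.Injective (m S.iCycles) :=
  (mono_iff _).1 inferInstance

theorem homologyπ_surjective : Function.Surjective (m S.homologyπ) :=
  (epi_iff _).1 inferInstance

theorem exact_toCycles_homologyπ :
    (ShortComplex.mk S.toCycles S.homologyπ S.toCycles_comp_homologyπ).Exact :=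
  ShortComplex.exact_of_g_is_cokernel _ S.homologyIsCokernel

theorem homologyπ_eq_zero_iff (z : (F A).obj S.cycles) :
    m S.homologyπ z = 0 ↔ ∃ y : (F A).obj S.X₁, m S.f y = m S.iCycles z := by
  constructor
  · intro h
    obtain ⟨y, hy⟩ := (exact_iff _).1 (exact_toCycles_homologyπ S) z h
    refine ⟨y, ?_⟩
    have : m S.toCycles y = z := hy
    rw [← this, ← m_comp_apply, S.toCycles_i]
  · rintro ⟨y, hy⟩
    have : m S.toCycles y = z := by
      apply iCycles_injective S
      rw [← m_comp_apply, S.toCycles_i, hy]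
    rw [← this, ← m_comp_apply, S.toCycles_comp_homologyπ]; simp

/-- the homology class of a cycle (an element of `X₂` killed by `g`) -/
noncomputable def cls (x : (F A).obj S.X₂) (hx : m S.g x = 0) : (F A).obj S.homology :=
  m S.homologyπ (exists_cycle S x hx).choose

theorem cls_eq {x : (F A).obj S.X₂} (hx : m S.g x = 0)
    (z : (F A).obj S.cycles) (hz : m S.iCycles z = x) :
    cls S x hx = m S.homologyπ z := by
  have : (exists_cycle S x hx).choose = z := by
    apply iCycles_injective S
    rw [(exists_cycle S x hx).choose_spec, hz]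
  rw [cls, this]

theorem exists_cls (h : (F A).obj S.homology) :
    ∃ (x : (F A).obj S.X₂) (hx : m S.g x = 0), cls S x hx = h := by
  obtain ⟨z, rfl⟩ := homologyπ_surjective S h
  exact ⟨m S.iCycles z, iCycles_g_apply S z, cls_eq S _ z rfl⟩

theorem cls_eq_zero_iff {x : (F A).obj S.X₂} (hx : m S.g x = 0) :
    cls S x hx = 0 ↔ ∃ y : (F A).obj S.X₁, m S.f y = x := by
  obtain ⟨z, hz⟩ := exists_cycle S x hx
  rw [cls_eq S hx z hz, homologyπ_eq_zero_iff, hz]

theorem cls_sub {x x' : (F A).obj S.X₂} (hx : m S.g x = 0) (hx' : m S.g x' = 0) :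
    cls S x hx - cls S x' hx' = cls S (x - x') (by rw [map_sub, hx, hx', sub_self]) := by
  obtain ⟨z, hz⟩ := exists_cycle S x hx
  obtain ⟨z', hz'⟩ := exists_cycle S x' hx'
  rw [cls_eq S hx z hz, cls_eq S hx' z' hz',
    cls_eq S _ (z - z') (by rw [map_sub, hz, hz']), map_sub]

theorem cls_eq_cls_iff {x x' : (F A).obj S.X₂} (hx : m S.g x = 0) (hx' : m S.g x' = 0) :
    cls S x hx = cls S x' hx' ↔ ∃ y : (F A).obj S.X₁, m S.f y = x - x' := by
  rw [← sub_eq_zero, cls_sub, cls_eq_zero_iff]

theorem liftCycles_cls {T : A} (k : T ⟶ S.X₂) (hk : k ≫ S.g = 0) (a : (F A).obj T) :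
    m (S.liftCycles k hk ≫ S.homologyπ) a =
      cls S (m k a) (by rw [← m_comp_apply, hk]; simp) := by
  rw [m_comp_apply]
  symm
  apply cls_eq
  rw [← m_comp_apply, S.liftCycles_i]

theorem homologyι_desc_cls {T : A} (k : S.X₂ ⟶ T) (hk : S.f ≫ k = 0)
    {x : (F A).obj S.X₂} (hx : m S.g x = 0) :
    m (S.homologyι ≫ S.descOpcycles k hk) (cls S x hx) = m k x := by
  obtain ⟨z, hz⟩ := exists_cycle S x hx
  rw [cls_eq S hx z hz, ← m_comp_apply, ← Category.assoc, S.homology_π_ι, Category.assoc,
    S.p_descOpcycles, m_comp_apply, hz]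

end Groth.Agent.Helper9.FMS
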