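import Mathlib

/-! Tools for lifting an inverse system in `D(A)` with a cocone to a filtered complex:
recursion over `ℤ`, the homotopy extension property, contractibility of products. -/

set_option autoImplicit false
universe w v u
open CategoryTheory CategoryTheory.Limits

namespace Groth.Agent.Helper9.FSys1

/-- two-sided dependent recursion over `ℤ` -/
theorem exists_int_family {X : ℤ → Type*}
    (R : ∀ i j : ℤ, j = i + 1 → X j → X i → Prop) (h0 : Nonempty (X 0))
    (up : ∀ (i j : ℤ) (h : j = i + 1) (x : X i), ∃ y : X j, R i j h y x)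
    (dn : ∀ (i j : ℤ) (h : j = i + 1) (y : X j), ∃ x : X i, R i j h y x) :
    ∃ f : ∀ i, X i, ∀ (i j : ℤ) (h : j = i + 1), R i j h (f j) (f i) := by
  obtain ⟨x0⟩ := h0
  let f : ∀ i, X i := fun z => Int.inductionOn' (motive := X) z 0 x0
    (fun k _ x => (up k (k + 1) rfl x).choose)
    (fun k _ y => (dn (k - 1) k (by omega) y).choose)
  refine ⟨f, ?_⟩
  intro i j h
  by_cases hi : 0 ≤ i
  · subst h
    have : f (i + 1) = (up i (i + 1) rfl (f i)).choose := Int.inductionOn'_add_one hi
    rw [this]
    exact (up i (i + 1) rfl (f i)).choose_spec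
  · have hj : j ≤ 0 := by omega
    obtain rfl : i = j - 1 := by omega
    have : f (j - 1) = (dn (j - 1) j (by omega) (f j)).choose := Int.inductionOn'_sub_one hj
    rw [this]
    exact (dn (j - 1) j (by omega) (f j)).choose_spec


section hep

open CochainComplex HomComplex

variable {A : Type u} [Category.{v} A] [Abelian A]

/-- homotopy extension property: termwise monomorphisms into complexes with injective terms -/
theorem exists_extension_of_homotopy {X Y I : CochainComplex A ℤ} (φ : X ⟶ Y)
    [∀ n, Mono (φ.f n)] (hI : ∀ n, Injective (I.X n)) (f : Y ⟶ I) (g : X ⟶ I)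
    (h : Homotopy (φ ≫ f) g) :
    ∃ f' : Y ⟶ I, φ ≫ f' = g ∧ Nonempty (Homotopy f' f) := by
  let κ : Cochain Y I (-1) := Cochain.mk (fun p q hpq =>
    Injective.factorThru ((Cochain.ofHomotopy h).v p q hpq) (φ.f p))
  have hκ : (Cochain.ofHom φ).comp κ (zero_add (-1)) = Cochain.ofHomotopy h := by
    ext p q hpq
    rw [Cochain.zero_cochain_comp_v, Cochain.ofHom_v]
    exact Injective.comp_factorThru _ _
  let ψc : Cochain Y I 0 := Cochain.ofHom f - δ (-1) 0 κ
  have hψc : δ 0 1 ψc = 0 := by
    dsimp only [ψc]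
    rw [δ_sub, δ_ofHom, δ_δ, sub_zero]
  refine ⟨Cocycle.homOf (Cocycle.mk ψc 1 (zero_add 1) hψc), ?_, ?_⟩
  · apply Cochain.ofHom_injective
    rw [Cochain.ofHom_comp, Cocycle.cochain_ofHom_homOf_eq_coe]
    change (Cochain.ofHom φ).comp ψc (zero_add 0) = _
    dsimp only [ψc]
    rw [Cochain.comp_sub, ← δ_ofHom_comp, hκ, δ_ofHomotopy, ← Cochain.ofHom_comp]
    abel
  · refine ⟨(Cochain.equivHomotopy _ _).symm ⟨-κ, ?_⟩⟩
    rw [Cocycle.cochain_ofHom_homOf_eq_coe]
    change ψc = _
    dsimp only [ψc]
    rw [δ_neg]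
    abel

end hep


section contr

open CochainComplex HomComplex

variable {A : Type u} [Category.{v} A] [Abelian A]

/-- a retraction of `X ⟶ Cone(𝟙 X)` from a contracting homotopy -/
noncomputable def coneRetr {X : CochainComplex A ℤ} (h : Homotopy (𝟙 X) 0) :
    mappingCone (𝟙 X) ⟶ X :=
  mappingCone.desc (𝟙 X) (Cochain.ofHomotopy h) (𝟙 X) (by simp [δ_ofHomotopy])

@[reassoc (attr := simp)]
lemma inr_coneRetr {X : CochainComplex A ℤ} (h : Homotopy (𝟙 X) 0) :
    mappingCone.inr (𝟙 X) ≫ coneRetr h = 𝟙 X := by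
  simp [coneRetr]

/-- the mapping cone of the identity, functorially -/
noncomputable def coneMap {X Y : CochainComplex A ℤ} (f : X ⟶ Y) :
    mappingCone (𝟙 X) ⟶ mappingCone (𝟙 Y) :=
  mappingCone.map (𝟙 X) (𝟙 Y) f f (by simp)

@[reassoc (attr := simp)]
lemma inr_coneMap {X Y : CochainComplex A ℤ} (f : X ⟶ Y) :
    mappingCone.inr (𝟙 X) ≫ coneMap f = f ≫ mappingCone.inr (𝟙 Y) := by
  simp [coneMap, mappingCone.map]

/-- a complex which is a retract of the cone of its identity is contractible -/
noncomputable def homotopyOfRetr {X : CochainComplex A ℤ} (r : mappingCone (𝟙 X) ⟶ X)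
    (hr : mappingCone.inr (𝟙 X) ≫ r = 𝟙 X) : Homotopy (𝟙 X) 0 :=
  (Homotopy.ofEq (by simp [hr])).trans
    ((((mappingCone.homotopyToZeroOfId X).compRight r).compLeft (mappingCone.inr (𝟙 X))).trans
      (Homotopy.ofEq (by simp)))

/-- a product of contractible complexes is contractible -/
theorem nonempty_homotopy_pi {ι : Type*} (W : ι → CochainComplex A ℤ) [HasProduct W]
    (h : ∀ j, Homotopy (𝟙 (W j)) 0) : Nonempty (Homotopy (𝟙 (∏ᶜ W)) 0) := by
  refine ⟨homotopyOfRetr (Pi.lift (fun j => coneMap (Pi.π W j) ≫ coneRetr (h j))) ?_⟩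
  apply Pi.hom_ext
  intro j
  simp

end contr


section derived

open DerivedCategory

variable {A : Type u} [Category.{v} A] [Abelian A] [HasDerivedCategory.{w} A]

/-- Morphisms in `D(A)` into a K-injective complex lift to chain maps. -/
lemma exists_Q_map_eq (L I : CochainComplex A ℤ) [I.IsKInjective]
    (f : Q.obj L ⟶ Q.obj I) : ∃ φ : L ⟶ I, Q.map φ = f := by
  obtain ⟨g, hg⟩ := (CochainComplex.IsKInjective.Qh_map_bijective
    ((HomotopyCategory.quotient _ _).obj L) I).surjective
      ((DerivedCategory.quotientCompQhIso _).hom.app L ≫ f ≫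
        (DerivedCategory.quotientCompQhIso _).inv.app I)
  obtain ⟨φ, rfl⟩ := (HomotopyCategory.quotient _ _).map_surjective g
  refine ⟨φ, ?_⟩
  have := DerivedCategory.quotientCompQhIso_hom_naturality φ
  rw [hg] at this
  simpa using this.symm

/-- Chain maps into a K-injective complex which agree in `D(A)` are homotopic. -/
lemma nonempty_homotopy_of_Q_map_eq (L I : CochainComplex A ℤ) [I.IsKInjective] (φ ψ : L ⟶ I)
    (h : Q.map φ = Q.map ψ) : Nonempty (Homotopy φ ψ) := by
  have h2 : DerivedCategory.Qh.map ((HomotopyCategory.quotient _ _).map φ) =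
      DerivedCategory.Qh.map ((HomotopyCategory.quotient _ _).map ψ) := by
    have h1 := DerivedCategory.quotientCompQhIso_hom_naturality φ
    have h1' := DerivedCategory.quotientCompQhIso_hom_naturality ψ
    rw [← cancel_mono ((DerivedCategory.quotientCompQhIso _).hom.app I), h1, h1', h]
  have := (CochainComplex.IsKInjective.Qh_map_bijective
    ((HomotopyCategory.quotient _ _).obj L) I).injective h2
  exact ⟨HomotopyCategory.homotopyOfEq _ _ this⟩

/-- the projection `N ⊞ P ⟶ N` is invertible in `D(A)` when `P` is contractible -/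
noncomputable def qFstIso (N P : CochainComplex A ℤ) (h : Homotopy (𝟙 P) 0) :
    Q.obj (N ⊞ P) ≅ Q.obj N where
  hom := Q.map biprod.fst
  inv := Q.map biprod.inl
  hom_inv_id := by
    have h1 : Q.map (𝟙 P) = 0 := by
      rw [DerivedCategory.Q_map_eq_of_homotopy (h := h), Functor.map_zero]
    have h2 : (biprod.fst : N ⊞ P ⟶ N) ≫ biprod.inl =
        𝟙 _ - biprod.snd ≫ 𝟙 P ≫ biprod.inr := by
      rw [Category.id_comp, eq_sub_iff_add_eq, biprod.total]
    rw [← Functor.map_comp, h2, Functor.map_sub, Functor.map_comp, Functor.map_comp, h1,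
      zero_comp, comp_zero, sub_zero, CategoryTheory.Functor.map_id]
  inv_hom_id := by
    rw [← Functor.map_comp, biprod.inl_fst, CategoryTheory.Functor.map_id]

end derived

end Groth.Agent.Helper9.FSys1
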