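import Mathlib
import Groth.Prelude.Def_SpSeq
import Groth.Agent.Helper9.FSys1

/-! The tower `F p = N p ⊞ ∏_{j > p} W j` attached to a sequence `N (j+1) ⟶ N j` with
monomorphisms `N j ⟶ W j`, embedded compatibly in `∏_j W j`. -/

set_option autoImplicit false
universe w v u
open CategoryTheory CategoryTheory.Limits

namespace Groth.Agent.Helper9.FSys2

section tower

variable {C : Type u} [Category.{v} C] [Abelian C]
variable (N : ℤ → C) (τ : ∀ j, N (j + 1) ⟶ N j) (W : ℤ → C) (ι : ∀ j, N j ⟶ W j)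

/-- the composite `N q ⟶ N j` for `j ≤ q` -/
noncomputable def comp (j : ℤ) : ∀ q, j ≤ q → (N q ⟶ N j) :=
  Int.leInduction (motive := fun q _ => N q ⟶ N j) (𝟙 _) (fun q _ ih => τ q ≫ ih)

lemma comp_self (j : ℤ) : comp N τ j j le_rfl = 𝟙 _ :=
  Int.leInduction_base (motive := fun q _ => N q ⟶ N j) _ _

lemma comp_succ (j q : ℤ) (h : j ≤ q) :
    comp N τ j (q + 1) (by omega) = τ q ≫ comp N τ j q h :=
  Int.leInduction_add_one (motive := fun q _ => N q ⟶ N j) _ _ _ _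

/-- the indices above `p` -/
abbrev Jgt (p : ℤ) : Type := {j : ℤ // p < j}

variable [HasProduct W] [∀ p, HasProduct (fun j : Jgt p => W j.1)]

/-- the product of the `W j` with `j > p` -/
noncomputable abbrev P (p : ℤ) : C := ∏ᶜ (fun j : Jgt p => W j.1)

/-- the `p`-th step of the tower -/
noncomputable abbrev F (p : ℤ) : C := N p ⊞ P W p

/-- the product of all the `W j` -/
noncomputable abbrev Pall : C := ∏ᶜ W

/-- the embedding of the `p`-th step in the product of all the `W j` -/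
noncomputable def ν (p : ℤ) : F N W p ⟶ Pall W :=
  Pi.lift (fun j => if h : j ≤ p then
    (biprod.fst : N p ⊞ P W p ⟶ N p) ≫ comp N τ j p h ≫ ι j
    else (biprod.snd : N p ⊞ P W p ⟶ P W p) ≫ Pi.π (fun j : Jgt p => W j.1) ⟨j, lt_of_not_ge h⟩)

lemma ν_π_le (p j : ℤ) (h : j ≤ p) :
    ν N τ W ι p ≫ Pi.π W j = (biprod.fst : N p ⊞ P W p ⟶ N p) ≫ comp N τ j p h ≫ ι j := by
  simp [ν, Pall, dif_pos h]

lemma ν_π_gt (p j : ℤ) (h : p < j) :
    ν N τ W ι p ≫ Pi.π W j =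
      (biprod.snd : N p ⊞ P W p ⟶ P W p) ≫ Pi.π (fun j : Jgt p => W j.1) ⟨j, h⟩ := by
  simp [ν, Pall, dif_neg (not_le.2 h)]

/-- the restriction to the indices above `p` -/
noncomputable def res (p : ℤ) : Pall W ⟶ P W p :=
  Pi.lift (fun j : Jgt p => Pi.π W j.1)

/-- the transition maps of the tower -/
noncomputable def φ (p : ℤ) : F N W (p + 1) ⟶ F N W p :=
  biprod.lift ((biprod.fst : N (p + 1) ⊞ P W (p + 1) ⟶ N (p + 1)) ≫ τ p)
    (ν N τ W ι (p + 1) ≫ res W p)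

lemma φ_fst (p : ℤ) :
    φ N τ W ι p ≫ (biprod.fst : N p ⊞ P W p ⟶ N p) =
      (biprod.fst : N (p + 1) ⊞ P W (p + 1) ⟶ N (p + 1)) ≫ τ p := by
  simp [φ]

lemma φ_ν (p : ℤ) : φ N τ W ι p ≫ ν N τ W ι p = ν N τ W ι (p + 1) := by
  apply Pi.hom_ext
  intro j
  by_cases h : j ≤ p
  · rw [Category.assoc, ν_π_le N τ W ι p j h, ν_π_le N τ W ι (p + 1) j (by omega),
      comp_succ N τ j p h]
    simp [φ]
  · have h' : p < j := lt_of_not_ge h
    rw [Category.assoc, ν_π_gt N τ W ι p j h']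
    simp [φ, res]

lemma mono_ν [∀ j, Mono (ι j)] (p : ℤ) : Mono (ν N τ W ι p) := by
  apply Preadditive.mono_of_cancel_zero
  intro Z x hx
  have h1 : x ≫ (biprod.fst : N p ⊞ P W p ⟶ N p) = 0 := by
    have := congrArg (fun f => f ≫ Pi.π W p) hx
    simp only [Category.assoc, zero_comp] at this
    rw [ν_π_le N τ W ι p p le_rfl, comp_self, Category.id_comp, ← Category.assoc] at this
    exact (cancel_mono (ι p)).1 (by rw [this, zero_comp])
  have h2 : x ≫ (biprod.snd : N p ⊞ P W p ⟶ P W p) = 0 := by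
    apply Pi.hom_ext
    intro j
    have := congrArg (fun f => f ≫ Pi.π W j.1) hx
    simp only [Category.assoc, zero_comp] at this
    rw [ν_π_gt N τ W ι p j.1 j.2] at this
    rw [Category.assoc, zero_comp]
    exact this
  apply biprod.hom_ext
  · rw [h1, zero_comp]
  · rw [h2, zero_comp]

lemma mono_φ [∀ j, Mono (ι j)] (p : ℤ) : Mono (φ N τ W ι p) := by
  haveI := mono_ν N τ W ι (p + 1)
  haveI : Mono (φ N τ W ι p ≫ ν N τ W ι p) := by rw [φ_ν]; infer_instance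
  exact mono_of_mono (φ N τ W ι p) (ν N τ W ι p)

end tower


section assemble

open DerivedCategory

variable {A : Type u} [Category.{v} A] [Abelian A] [HasDerivedCategory.{w} A]

/-- from a strictly compatible tower of subcomplexes to the filtered complex -/
theorem assemble (E : DerivedCategory A) (Es : ℤ → DerivedCategory A)
    (t : ∀ i : ℤ, Es (i + 1) ⟶ Es i) (a : ∀ i : ℤ, Es i ⟶ E)
    (K0 : CochainComplex A ℤ) (e : Q.obj K0 ≅ E) (F : ℤ → CochainComplex A ℤ)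
    (μ : ∀ p, F p ⟶ K0) [∀ p, Mono (μ p)]
    (φ : ∀ p, F (p + 1) ⟶ F p) (hφ : ∀ p, φ p ≫ μ p = μ (p + 1))
    (eF : ∀ p, Q.obj (F p) ≅ Es p)
    (h1 : ∀ p, Q.map (μ p) ≫ e.hom = (eF p).hom ≫ a p)
    (h2 : ∀ p, Q.map (φ p) ≫ (eF p).hom = (eF (p + 1)).hom ≫ t p) :
    ∃ (K : SpSeq.FilCx A) (e : DerivedCategory.Q.obj K.obj ≅ E)
      (ei : ∀ i : ℤ, DerivedCategory.Q.obj (K.step i) ≅ Es i),
      (∀ i : ℤ, DerivedCategory.Q.map (K.fil i).arrow ≫ e.hom = (ei i).hom ≫ a i) ∧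
      (∀ i : ℤ, DerivedCategory.Q.map (K.stepLE (le_of_lt (Int.lt_succ_self i))) ≫ (ei i).hom =
        (ei (i + 1)).hom ≫ t i) := by
  have hle : ∀ p, Subobject.mk (μ (p + 1)) ≤ Subobject.mk (μ p) := fun p =>
    Subobject.mk_le_mk_of_comm (φ p) (hφ p)
  let K : SpSeq.FilCx A :=
    { obj := K0
      fil := fun p => Subobject.mk (μ p)
      anti := antitone_int_of_succ_le hle }
  let ui : ∀ i, K.step i ≅ F i := fun i => Subobject.underlyingIso (μ i)
  have hui : ∀ i, (ui i).hom ≫ μ i = (K.fil i).arrow := fun i =>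
    Subobject.underlyingIso_hom_comp_eq_mk (μ i)
  refine ⟨K, e, fun i => Q.mapIso (ui i) ≪≫ eF i, ?_, ?_⟩
  · intro i
    rw [← hui i, Functor.map_comp, Category.assoc, h1]
    simp
  · intro i
    have hstep : K.stepLE (show i ≤ i + 1 by omega) ≫ (ui i).hom = (ui (i + 1)).hom ≫ φ i := by
      rw [← cancel_mono (μ i), Category.assoc, Category.assoc, hφ, hui, hui]
      exact Subobject.ofLE_arrow _
    show Q.map (K.stepLE (show i ≤ i + 1 by omega)) ≫ (Q.mapIso (ui i) ≪≫ eF i).hom =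
      (Q.mapIso (ui (i + 1)) ≪≫ eF (i + 1)).hom ≫ t i
    calc Q.map (K.stepLE (show i ≤ i + 1 by omega)) ≫ (Q.mapIso (ui i) ≪≫ eF i).hom
        = Q.map (K.stepLE (show i ≤ i + 1 by omega) ≫ (ui i).hom) ≫ (eF i).hom := by
          rw [Functor.map_comp, Category.assoc]; rfl
      _ = Q.map ((ui (i + 1)).hom ≫ φ i) ≫ (eF i).hom := by rw [hstep]
      _ = Q.map (ui (i + 1)).hom ≫ Q.map (φ i) ≫ (eF i).hom := by
          rw [Functor.map_comp, Category.assoc]
      _ = Q.map (ui (i + 1)).hom ≫ (eF (i + 1)).hom ≫ t i := by rw [h2]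
      _ = (Q.mapIso (ui (i + 1)) ≪≫ eF (i + 1)).hom ≫ t i := by
          rw [Iso.trans_hom, Category.assoc]; rfl

end assemble

end Groth.Agent.Helper9.FSys2
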