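import Mathlib
import Groth.Prelude.Def_SpSeq
import Groth.Agent.Helper4.KInjRes
import Groth.Agent.Helper9.FSys1
import Groth.Agent.Helper9.FSys2

/-! An inverse system `… → E^{i+1} → E^i → … → E` in `D(A)` is represented by a filtered
complex (`A` Grothendieck abelian). -/

set_option autoImplicit false
universe w v u
open CategoryTheory CategoryTheory.Limits

namespace Groth.Agent.Helper9.FSys3

open DerivedCategory FSys1 FSys2 CochainComplex

variable {A : Type u} [Category.{v} A] [Abelian A] [IsGrothendieckAbelian.{v} A]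
  [HasDerivedCategory.{w} A]

/-- every object of `D(A)` has a K-injective model with injective terms -/
lemma exists_model (E : DerivedCategory A) :
    ∃ (I : CochainComplex A ℤ), I.IsKInjective ∧ (∀ n, Injective (I.X n)) ∧
      Nonempty (Q.obj I ≅ E) := by
  obtain ⟨I, f, hI, hf, -, hinj⟩ := Groth.Agent.Helper4.KInjRes.exists_resolution (Q.objPreimage E)
  haveI : IsIso (Q.map f) := (DerivedCategory.isIso_Q_map_iff_quasiIso (φ := f)).2 hf
  exact ⟨I, hI, hinj, ⟨(asIso (Q.map f)).symm ≪≫ Q.objObjPreimageIso E⟩⟩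

theorem main (E : DerivedCategory A) (Es : ℤ → DerivedCategory A) (t : ∀ i : ℤ, Es (i + 1) ⟶ Es i)
    (a : ∀ i : ℤ, Es i ⟶ E) (hat : ∀ i : ℤ, t i ≫ a i = a (i + 1)) :
    ∃ (K : SpSeq.FilCx A) (e : DerivedCategory.Q.obj K.obj ≅ E)
      (ei : ∀ i : ℤ, DerivedCategory.Q.obj (K.step i) ≅ Es i),
      (∀ i : ℤ, DerivedCategory.Q.map (K.fil i).arrow ≫ e.hom = (ei i).hom ≫ a i) ∧
      (∀ i : ℤ, DerivedCategory.Q.map (K.stepLE (le_of_lt (Int.lt_succ_self i))) ≫ (ei i).hom =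
        (ei (i + 1)).hom ≫ t i) := by
  obtain ⟨I, hI, hinj, ⟨eI⟩⟩ := exists_model E
  choose N hN _ eN' using fun j => exists_model (Es j)
  let eN : ∀ j, Q.obj (N j) ≅ Es j := fun j => (eN' j).some
  haveI := hI
  haveI := hN
  have hτ : ∀ j, ∃ τ : N (j + 1) ⟶ N j, Q.map τ = (eN (j + 1)).hom ≫ t j ≫ (eN j).inv :=
    fun j => exists_Q_map_eq _ _ _
  choose τ hτ using hτ
  let W : ℤ → CochainComplex A ℤ := fun j => mappingCone (𝟙 (N j))
  let ι : ∀ j, N j ⟶ W j := fun j => mappingCone.inr (𝟙 (N j))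
  haveI : ∀ j, Mono (ι j) := fun j => by
    have hm : ∀ n, Mono ((ι j).f n) := fun n => by
      have h := mappingCone.inr_f_snd_v (𝟙 (N j)) n
      exact mono_of_mono_fac h
    exact HomologicalComplex.mono_of_mono_f (ι j) hm
  obtain ⟨hPall⟩ : Nonempty (Homotopy (𝟙 (Pall W)) 0) :=
    nonempty_homotopy_pi W (fun j => mappingCone.homotopyToZeroOfId (N j))
  have hP' : ∀ p, Nonempty (Homotopy (𝟙 (P W p)) 0) := fun p =>
    nonempty_homotopy_pi (fun j : Jgt p => W j.1)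
      (fun j => mappingCone.homotopyToZeroOfId (N j.1))
  let hP : ∀ p, Homotopy (𝟙 (P W p)) 0 := fun p => (hP' p).some
  haveI : ∀ p, Mono (φ N τ W ι p) := mono_φ N τ W ι
  -- the key compatibility in `D(A)`
  have hkey : ∀ i, Q.map (φ N τ W ι i) ≫ Q.map (biprod.fst : N i ⊞ P W i ⟶ N i) ≫
      (eN i).hom ≫ a i =
      Q.map (biprod.fst : N (i + 1) ⊞ P W (i + 1) ⟶ N (i + 1)) ≫ (eN (i + 1)).hom ≫
        a (i + 1) := by
    intro i
    rw [← Category.assoc, ← Functor.map_comp, φ_fst, Functor.map_comp, hτ, ← hat]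
    simp
  -- the strictly compatible maps to `I`
  let X : ℤ → Type _ := fun p => {l : F N W p ⟶ I //
    Q.map l ≫ eI.hom = Q.map (biprod.fst : N p ⊞ P W p ⟶ N p) ≫ (eN p).hom ≫ a p}
  obtain ⟨lam, hlam⟩ := exists_int_family (X := X)
    (R := fun i j h y x =>
      (eqToHom (by rw [h]) : F N W j ⟶ F N W (i + 1)) ≫ φ N τ W ι i ≫ x.1 = y.1)
    (by
      obtain ⟨l, hl⟩ := exists_Q_map_eq (F N W 0) I
        (Q.map (biprod.fst : N 0 ⊞ P W 0 ⟶ N 0) ≫ (eN 0).hom ≫ a 0 ≫ eI.inv)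
      exact ⟨⟨l, by rw [hl]; simp⟩⟩)
    (by
      intro i j h x
      subst h
      obtain ⟨x1, x2⟩ := x
      refine ⟨⟨φ N τ W ι i ≫ x1, ?_⟩, by simp⟩
      rw [Functor.map_comp, Category.assoc, x2, hkey])
    (by
      intro i j h y
      subst h
      obtain ⟨y1, y2⟩ := y
      obtain ⟨l', hl'⟩ := exists_Q_map_eq (F N W i) I
        (Q.map (biprod.fst : N i ⊞ P W i ⟶ N i) ≫ (eN i).hom ≫ a i ≫ eI.inv)
      have hy : Q.map y1 = (Q.map (biprod.fst : N (i + 1) ⊞ P W (i + 1) ⟶ N (i + 1)) ≫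
          (eN (i + 1)).hom ≫ a (i + 1)) ≫ eI.inv := by
        rw [← y2]; simp
      have hQ : Q.map (φ N τ W ι i ≫ l') = Q.map y1 := by
        rw [Functor.map_comp, hl', hy, ← hkey]
        simp
      obtain ⟨h⟩ := nonempty_homotopy_of_Q_map_eq _ _ _ _ hQ
      obtain ⟨l, hl, ⟨hl2⟩⟩ := exists_extension_of_homotopy (φ N τ W ι i) hinj l' y1 h
      refine ⟨⟨l, ?_⟩, by simpa using hl⟩
      rw [DerivedCategory.Q_map_eq_of_homotopy (h := hl2), hl']
      simp)
  have hlam' : ∀ i, φ N τ W ι i ≫ (lam i).1 = (lam (i + 1)).1 := fun i => by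
    simpa using hlam i (i + 1) rfl
  -- the filtered complex
  let μ : ∀ p, F N W p ⟶ I ⊞ Pall W := fun p => biprod.lift (lam p).1 (ν N τ W ι p)
  haveI : ∀ p, Mono (μ p) := fun p => by
    haveI := mono_ν N τ W ι p
    exact mono_of_mono_fac (biprod.lift_snd (lam p).1 (ν N τ W ι p))
  refine assemble E Es t a (I ⊞ Pall W) (qFstIso I (Pall W) hPall ≪≫ eI) (F N W) μ
    (φ N τ W ι) ?_ (fun p => qFstIso (N p) (P W p) (hP p) ≪≫ eN p) ?_ ?_
  · intro p
    apply biprod.hom_ext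
    · simp [μ, hlam']
    · simp [μ, φ_ν]
  · intro p
    simp only [Iso.trans_hom, qFstIso]
    rw [← Category.assoc, ← Functor.map_comp]
    simp only [μ, biprod.lift_fst]
    rw [(lam p).2]
    simp
  · intro p
    simp only [Iso.trans_hom, qFstIso]
    rw [← Category.assoc, ← Functor.map_comp, φ_fst, Functor.map_comp, hτ]
    simp

end Groth.Agent.Helper9.FSys3
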