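import Mathlib
import Groth.Agent.S0393
import Groth.Agent.Helper2.InjModMax
import Groth.Agent.Helper2.FlatFibre

set_option autoImplicit false
set_option linter.unusedSectionVars false
set_option linter.style.haveILetI false
universe u

/-! Flatness and injectivity modulo the maximal ideal of the base, in elementwise form. -/

namespace Groth.Agent.Helper9.FW1

open IsLocalRing TensorProduct

section General

variable {A B : Type u} [CommRing A] [CommRing B] [Algebra A B]

/-- the `A`-submodule `J • ⊤` and the `B`-submodule `(J B) • ⊤` have the same elements -/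
theorem mem_smul_top_iff (J : Ideal A) (M : Type u) [AddCommGroup M] [Module A M] [Module B M]
    [IsScalarTower A B M] (z : M) :
    z ∈ (J • ⊤ : Submodule A M) ↔ z ∈ ((J.map (algebraMap A B)) • ⊤ : Submodule B M) := by
  have h := Ideal.smul_restrictScalars J (⊤ : Submodule B M)
  rw [Submodule.restrictScalars_top] at h
  rw [← h]
  rfl

theorem pi_mem_smul_top_iff (I : Ideal B) {m : ℕ} (v : Fin m → B) :
    v ∈ (I • ⊤ : Submodule B (Fin m → B)) ↔ ∀ k, v k ∈ I := by
  constructor
  · intro hv
    refine Submodule.smul_induction_on hv ?_ ?_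
    · intro r hr w _ k
      simp only [Pi.smul_apply, smul_eq_mul]
      exact I.mul_mem_right _ hr
    · intro x y hx hy k
      simp only [Pi.add_apply]
      exact I.add_mem (hx k) (hy k)
  · intro hv
    have h : v = ∑ k, v k • (Pi.single k 1 : Fin m → B) := by
      ext j
      simp [Finset.sum_apply, Pi.single_apply]
    rw [h]
    exact Submodule.sum_mem _ (fun k _ => Submodule.smul_mem_smul (hv k) trivial)

theorem one_tmul_eq_zero_iff (𝔟 : Ideal A) (P : Type u) [AddCommGroup P] [Module A P] (z : P) :
    (Ideal.Quotient.mk 𝔟 1 : A ⧸ 𝔟) ⊗ₜ[A] z = 0 ↔ z ∈ (𝔟 • ⊤ : Submodule A P) := by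
  rw [← (TensorProduct.quotTensorEquivQuotSMul P 𝔟).map_eq_zero_iff,
    TensorProduct.quotTensorEquivQuotSMul_mk_tmul, one_smul, Submodule.Quotient.mk_eq_zero]

theorem flat_pi [Module.Flat A B] (m : ℕ) : Module.Flat A (Fin m → B) :=
  Module.Flat.of_linearEquiv (DirectSum.linearEquivFunOnFintype A (Fin m) (fun _ => B)).symm

/-- if the quotient by `K` is flat then `J M ∩ K = J K` -/
theorem flat_inter (J : Ideal A) {M : Type u} [AddCommGroup M] [Module A M] [Module B M]
    [IsScalarTower A B M] (K : Submodule B M) [Module.Flat A (M ⧸ K)] (x : M) (hxK : x ∈ K)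
    (hx : x ∈ (J • ⊤ : Submodule A M)) : (⟨x, hxK⟩ : K) ∈ (J • ⊤ : Submodule A K) := by
  have hinj : Function.Injective ((K.subtype.restrictScalars A).lTensor (A ⧸ J)) :=
    LinearMap.lTensor_injective_of_exact_of_flat (K.mkQ.restrictScalars A)
      (Submodule.mkQ_surjective K) (K.subtype.restrictScalars A) (Submodule.injective_subtype K)
      (LinearMap.exact_subtype_mkQ K) (A ⧸ J)
  rw [← one_tmul_eq_zero_iff]
  apply hinj
  rw [map_zero, LinearMap.lTensor_tmul]
  exact (one_tmul_eq_zero_iff J M x).2 hx

end General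

section Local

variable {A B : Type u} [CommRing A] [CommRing B] [IsLocalRing A] [IsLocalRing B]
  [IsNoetherianRing B] [Algebra A B] [IsLocalHom (algebraMap A B)]

/-- injectivity modulo the maximal ideal of the base implies injectivity and flatness of the
cokernel (elementwise form of S0393) -/
theorem inj_and_flat {M N : Type u} [AddCommGroup M] [Module A M] [Module B M]
    [IsScalarTower A B M] [Module.Flat A M] [AddCommGroup N] [Module A N] [Module B N]
    [IsScalarTower A B N] [Module.Finite B N] (u : N →ₗ[B] M)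
    (h : ∀ z : N, u z ∈ (maximalIdeal A • ⊤ : Submodule A M) →
      z ∈ (maximalIdeal A • ⊤ : Submodule A N)) :
    Function.Injective u ∧ Module.Flat A (M ⧸ LinearMap.range u) := by
  set uA : N →ₗ[A] M := u.restrictScalars A with huA
  have hone : ∀ x : (A ⧸ maximalIdeal A) ⊗[A] N, ∃ z : N,
      x = (Ideal.Quotient.mk (maximalIdeal A) 1 : A ⧸ maximalIdeal A) ⊗ₜ[A] z := by
    intro x
    induction x using TensorProduct.induction_on with
    | zero => exact ⟨0, by rw [tmul_zero]⟩
    | tmul a n =>
      obtain ⟨r, rfl⟩ := Ideal.Quotient.mk_surjective a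
      refine ⟨r • n, ?_⟩
      rw [← TensorProduct.smul_tmul]
      congr 1
      rw [Algebra.smul_def, map_one, mul_one]
      rfl
    | add x y hx hy =>
      obtain ⟨z1, rfl⟩ := hx
      obtain ⟨z2, rfl⟩ := hy
      exact ⟨z1 + z2, by rw [tmul_add]⟩
  have hinj : Function.Injective (LinearMap.lTensor (A ⧸ maximalIdeal A) uA) := by
    rw [injective_iff_map_eq_zero]
    intro x hx
    obtain ⟨z, rfl⟩ := hone x
    rw [LinearMap.lTensor_tmul, one_tmul_eq_zero_iff] at hx
    rw [one_tmul_eq_zero_iff]
    exact h z hx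
  obtain ⟨h1, h2⟩ := Groth.Agent.S0393.result (R := A) (S := B) uA hinj
  refine ⟨h1, ?_⟩
  have hr : (LinearMap.range u).restrictScalars A = LinearMap.range uA := by
    ext y
    simp [huA]
  let e : (M ⧸ LinearMap.range u) ≃ₗ[A] M ⧸ LinearMap.range uA :=
    (Submodule.Quotient.restrictScalarsEquiv A (LinearMap.range u)).symm ≪≫ₗ
      Submodule.quotEquivOfEq _ _ hr
  exact Module.Flat.of_linearEquiv e

end Local

end Groth.Agent.Helper9.FW1
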