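import Mathlib
import Groth.Agent.Helper9.FW1
import Groth.Agent.Helper9.BE3
import Groth.Agent.Helper9.BE4

set_option autoImplicit false
set_option linter.unusedSectionVars false
set_option linter.style.haveILetI false
universe u

/-! Fibrewise exactness of a complex of finite free modules over a flat local algebra is
equivalent to exactness together with flatness of the cokernel. -/

namespace Groth.Agent.Helper9.FW2

open IsLocalRing Matrix

variable {A B : Type u} [CommRing A] [CommRing B] [IsLocalRing A] [IsLocalRing B]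
  [IsNoetherianRing B] [Algebra A B] [IsLocalHom (algebraMap A B)] [Module.Flat A B]
  (I : Ideal B) (hI : I = (maximalIdeal A).map (algebraMap A B))

omit [IsLocalRing A] [IsLocalRing B] [IsNoetherianRing B] [Algebra A B]
  [IsLocalHom (algebraMap A B)] [Module.Flat A B] in
theorem mulVec_map_eq_zero_iff {a b : ℕ} (P : Matrix (Fin a) (Fin b) B) (v : Fin b → B) :
    (P.map (Ideal.Quotient.mk I)) *ᵥ ((Ideal.Quotient.mk I) ∘ v) = 0 ↔ ∀ k, (P *ᵥ v) k ∈ I := by
  rw [BE3.map_mulVec_comp]
  constructor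
  · intro h k
    have := congrFun h k
    simpa [Ideal.Quotient.eq_zero_iff_mem] using this
  · intro h
    ext k
    simpa [Ideal.Quotient.eq_zero_iff_mem] using h k

omit [IsLocalRing A] [IsLocalRing B] [IsNoetherianRing B] [Algebra A B]
  [IsLocalHom (algebraMap A B)] [Module.Flat A B] in
theorem exists_lift {b : ℕ} (v' : Fin b → B ⧸ I) : ∃ v : Fin b → B, (Ideal.Quotient.mk I) ∘ v = v' := by
  choose v hv using fun k => Ideal.Quotient.mk_surjective (v' k)
  exact ⟨v, funext hv⟩

include hI in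
omit [IsLocalRing B] [IsNoetherianRing B] [IsLocalHom (algebraMap A B)] [Module.Flat A B] in
theorem pi_mem_iff {m : ℕ} (v : Fin m → B) :
    v ∈ (maximalIdeal A • ⊤ : Submodule A (Fin m → B)) ↔ ∀ k, v k ∈ I := by
  rw [FW1.mem_smul_top_iff (B := B), ← hI, FW1.pi_mem_smul_top_iff]

include hI in
theorem down {a b c : ℕ} (P : Matrix (Fin a) (Fin b) B) (Q : Matrix (Fin b) (Fin c) B)
    (hPQ : P * Q = 0)
    (hbar : LinearMap.ker (P.map (Ideal.Quotient.mk I)).mulVecLin ≤
      LinearMap.range (Q.map (Ideal.Quotient.mk I)).mulVecLin) :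
    LinearMap.ker P.mulVecLin ≤ LinearMap.range Q.mulVecLin ∧
      Module.Flat A ((Fin a → B) ⧸ LinearMap.range P.mulVecLin) := by
  set K := LinearMap.range Q.mulVecLin with hK
  have hle : K ≤ LinearMap.ker P.mulVecLin := BE4.range_le_ker P Q hPQ
  let u : ((Fin b → B) ⧸ K) →ₗ[B] (Fin a → B) := K.liftQ P.mulVecLin hle
  have hu : ∀ v, u (K.mkQ v) = P *ᵥ v := fun v => rfl
  haveI : Module.Flat A (Fin a → B) := FW1.flat_pi a
  have key : ∀ z : (Fin b → B) ⧸ K, u z ∈ (maximalIdeal A • ⊤ : Submodule A (Fin a → B)) →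
      z ∈ (maximalIdeal A • ⊤ : Submodule A ((Fin b → B) ⧸ K)) := by
    intro z hz
    obtain ⟨v, rfl⟩ := K.mkQ_surjective z
    rw [hu, pi_mem_iff I hI] at hz
    have h2 : (Ideal.Quotient.mk I) ∘ v ∈ LinearMap.ker (P.map (Ideal.Quotient.mk I)).mulVecLin := by
      rw [LinearMap.mem_ker, Matrix.mulVecLin_apply, mulVec_map_eq_zero_iff]
      exact hz
    obtain ⟨w', hw'⟩ := hbar h2
    obtain ⟨w, rfl⟩ := exists_lift I w'
    rw [Matrix.mulVecLin_apply, BE3.map_mulVec_comp] at hw'
    have h3 : ∀ k, (v - Q *ᵥ w) k ∈ I := by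
      intro k
      have := congrFun hw' k
      simp only [Function.comp_apply] at this
      rw [Pi.sub_apply, ← Ideal.Quotient.eq_zero_iff_mem, map_sub, this, sub_self]
    have h4 : v - Q *ᵥ w ∈ (maximalIdeal A • ⊤ : Submodule A (Fin b → B)) := by
      rw [pi_mem_iff I hI]
      exact h3
    have h5 : K.mkQ v = K.mkQ (v - Q *ᵥ w) := by
      rw [map_sub]
      have : K.mkQ (Q *ᵥ w) = 0 := by
        rw [Submodule.mkQ_apply, Submodule.Quotient.mk_eq_zero]
        exact ⟨w, rfl⟩
      rw [this, sub_zero]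
    rw [h5]
    exact Submodule.smul_top_le_comap_smul_top (maximalIdeal A) (K.mkQ.restrictScalars A) h4
  obtain ⟨hinj, hflat⟩ := FW1.inj_and_flat u key
  constructor
  · intro v hv
    have h0 : u (K.mkQ v) = 0 := hv
    have h1 : K.mkQ v = 0 := hinj (h0.trans (map_zero u).symm)
    rwa [Submodule.mkQ_apply, Submodule.Quotient.mk_eq_zero] at h1
  · have hr : LinearMap.range u = LinearMap.range P.mulVecLin := Submodule.range_liftQ K _ hle
    exact Module.Flat.of_linearEquiv ((Submodule.quotEquivOfEq _ _ hr).restrictScalars A).symm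

include hI in
theorem up {a b c : ℕ} (P : Matrix (Fin a) (Fin b) B) (Q : Matrix (Fin b) (Fin c) B)
    (hPQ : P * Q = 0) (hFP : Module.Flat A ((Fin a → B) ⧸ LinearMap.range P.mulVecLin))
    (hex : LinearMap.ker P.mulVecLin ≤ LinearMap.range Q.mulVecLin) :
    LinearMap.ker (P.map (Ideal.Quotient.mk I)).mulVecLin ≤
        LinearMap.range (Q.map (Ideal.Quotient.mk I)).mulVecLin ∧
      Module.Flat A ((Fin b → B) ⧸ LinearMap.range Q.mulVecLin) := by
  set KP := LinearMap.range P.mulVecLin with hKP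
  haveI : Module.Flat A (Fin a → B) := FW1.flat_pi a
  haveI : Module.Flat A (Fin b → B) := FW1.flat_pi b
  constructor
  · intro v' hv'
    obtain ⟨v, rfl⟩ := exists_lift I v'
    rw [LinearMap.mem_ker, Matrix.mulVecLin_apply, mulVec_map_eq_zero_iff] at hv'
    have hx : P *ᵥ v ∈ (maximalIdeal A • ⊤ : Submodule A (Fin a → B)) := by
      rw [pi_mem_iff I hI]
      exact hv'
    have hxK : P *ᵥ v ∈ KP := ⟨v, rfl⟩
    have h1 := FW1.flat_inter (maximalIdeal A) KP (P *ᵥ v) hxK hx
    -- pull back along the surjection onto the range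
    let g : (Fin b → B) →ₗ[A] KP := P.mulVecLin.rangeRestrict.restrictScalars A
    have hg : Function.Surjective g := P.mulVecLin.surjective_rangeRestrict
    have h2 : (maximalIdeal A • ⊤ : Submodule A KP) =
        Submodule.map g (maximalIdeal A • ⊤ : Submodule A (Fin b → B)) := by
      rw [Submodule.map_smul'', Submodule.map_top, LinearMap.range_eq_top.2 hg]
    rw [h2] at h1
    obtain ⟨w, hw, hgw⟩ := h1
    have hPw : P *ᵥ w = P *ᵥ v := congrArg Subtype.val hgw
    have hker : v - w ∈ LinearMap.ker P.mulVecLin := by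
      rw [LinearMap.mem_ker, Matrix.mulVecLin_apply, Matrix.mulVec_sub, hPw, sub_self]
    obtain ⟨y, hy⟩ := hex hker
    rw [Matrix.mulVecLin_apply] at hy
    refine ⟨(Ideal.Quotient.mk I) ∘ y, ?_⟩
    rw [Matrix.mulVecLin_apply, BE3.map_mulVec_comp, hy]
    have hw' : w ∈ (maximalIdeal A • ⊤ : Submodule A (Fin b → B)) := hw
    rw [pi_mem_iff I hI] at hw'
    ext k
    simp only [Function.comp_apply, Pi.sub_apply, map_sub]
    rw [Ideal.Quotient.eq_zero_iff_mem.2 (hw' k), sub_zero]
  · have hQ : LinearMap.range Q.mulVecLin = LinearMap.ker P.mulVecLin :=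
      le_antisymm (BE4.range_le_ker P Q hPQ) hex
    haveI : Module.Flat A KP :=
      Groth.Agent.Helper2.FlatFibre.flat_of_exact_of_flat (KP.subtype.restrictScalars A)
        (KP.mkQ.restrictScalars A) (Submodule.injective_subtype KP)
        (LinearMap.exact_subtype_mkQ KP) (Submodule.mkQ_surjective KP)
    have e1 : ((Fin b → B) ⧸ LinearMap.range Q.mulVecLin) ≃ₗ[B]
        ((Fin b → B) ⧸ LinearMap.ker P.mulVecLin) := Submodule.quotEquivOfEq _ _ hQ
    have e2 : ((Fin b → B) ⧸ LinearMap.ker P.mulVecLin) ≃ₗ[B] KP := P.mulVecLin.quotKerEquivRange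
    exact Module.Flat.of_linearEquiv ((e1 ≪≫ₗ e2).restrictScalars A)

include hI in
/-- fibrewise exactness is exactness plus flatness of the cokernel -/
theorem local_iff (e : ℕ) (he : 1 ≤ e) (n : ℕ → ℕ)
    (ψ : (i : ℕ) → Matrix (Fin (n i)) (Fin (n (i + 1))) B) (hψ : ∀ i, ψ i * ψ (i + 1) = 0) :
    (∀ i, i < e → LinearMap.ker ((ψ i).map (Ideal.Quotient.mk I)).mulVecLin ≤
        LinearMap.range ((ψ (i + 1)).map (Ideal.Quotient.mk I)).mulVecLin) ↔
      ((∀ i, i < e → LinearMap.ker (ψ i).mulVecLin ≤ LinearMap.range (ψ (i + 1)).mulVecLin) ∧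
        Module.Flat A ((Fin (n 0) → B) ⧸ LinearMap.range (ψ 0).mulVecLin)) := by
  constructor
  · intro h
    exact ⟨fun i hi => (down I hI (ψ i) (ψ (i + 1)) (hψ i) (h i hi)).1,
      (down I hI (ψ 0) (ψ (0 + 1)) (hψ 0) (h 0 (by omega))).2⟩
  · rintro ⟨hE, hF⟩
    have key : ∀ i, i ≤ e →
        Module.Flat A ((Fin (n i) → B) ⧸ LinearMap.range (ψ i).mulVecLin) ∧
        ∀ i', i' < i → LinearMap.ker ((ψ i').map (Ideal.Quotient.mk I)).mulVecLin ≤
          LinearMap.range ((ψ (i' + 1)).map (Ideal.Quotient.mk I)).mulVecLin := by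
      intro i
      induction i with
      | zero =>
        intro _
        exact ⟨hF, fun i' hi' => absurd hi' (by omega)⟩
      | succ i ih =>
        intro hi
        obtain ⟨hFi, hEi⟩ := ih (by omega)
        obtain ⟨h1, h2⟩ := up I hI (ψ i) (ψ (i + 1)) (hψ i) hFi (hE i (by omega))
        refine ⟨h2, fun i' hi' => ?_⟩
        by_cases h : i' < i
        · exact hEi i' h
        · have hii : i' = i := by omega
          subst hii
          exact h1
    intro i hi
    exact (key (i + 1) (by omega)).2 i (by omega)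

end Groth.Agent.Helper9.FW2
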