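import Mathlib
import Groth.Prelude.Def_EGA4b
import Groth.Agent.Helper9.FW2

set_option autoImplicit false
set_option linter.unusedSectionVars false
set_option linter.style.haveILetI false
universe u

/-! Fibrewise exactness at a prime, in terms of the localization. -/

namespace Groth.Agent.Helper9.FW3

open IsLocalRing Matrix

variable {R S : Type u} [CommRing R] [CommRing S] [Algebra R S]

/-- coordinatewise localization map -/
noncomputable abbrev loc (T : Type u) [CommRing T] [Algebra S T] (m : ℕ) :
    (Fin m → S) →ₗ[S] (Fin m → T) :=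
  LinearMap.pi fun i => (Algebra.linearMap S T) ∘ₗ LinearMap.proj i

theorem loc_apply (T : Type u) [CommRing T] [Algebra S T] (m : ℕ) (v : Fin m → S) :
    loc T m v = (algebraMap S T) ∘ v := rfl

/-- the localization of the range of a matrix is the range of the localized matrix -/
theorem localized'_range (q : Ideal S) [q.IsPrime] {a b : ℕ} (P : Matrix (Fin a) (Fin b) S) :
    (LinearMap.range P.mulVecLin).localized' (Localization.AtPrime q) q.primeCompl
      (loc (Localization.AtPrime q) a) =
    LinearMap.range (P.map (algebraMap S (Localization.AtPrime q))).mulVecLin := by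
  rw [Submodule.localized'_eq_span]
  apply le_antisymm
  · rw [Submodule.span_le]
    rintro _ ⟨_, ⟨v, rfl⟩, rfl⟩
    refine ⟨(algebraMap S (Localization.AtPrime q)) ∘ v, ?_⟩
    rw [Matrix.mulVecLin_apply, BE3.map_mulVec_comp]
    rfl
  · rintro _ ⟨w, rfl⟩
    have hw : w = ∑ k, w k • (loc (Localization.AtPrime q) b (Pi.single k (1 : S))) := by
      ext j
      simp [Finset.sum_apply, Pi.single_apply, loc_apply]
    rw [hw, map_sum]
    refine Submodule.sum_mem _ (fun k _ => ?_)
    rw [map_smul]
    apply Submodule.smul_mem
    apply Submodule.subset_span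
    refine ⟨P *ᵥ (Pi.single k (1 : S)), ⟨Pi.single k (1 : S), rfl⟩, ?_⟩
    rw [Matrix.mulVecLin_apply, loc_apply, loc_apply, BE3.map_mulVec_comp]

/-- the localization of the cokernel of a matrix is the cokernel of the localized matrix -/
noncomputable def cokerEquiv (q : Ideal S) [q.IsPrime] {a b : ℕ} (P : Matrix (Fin a) (Fin b) S) :
    LocalizedModule q.primeCompl ((Fin a → S) ⧸ LinearMap.range P.mulVecLin) ≃ₗ[S]
      ((Fin a → Localization.AtPrime q) ⧸
        LinearMap.range (P.map (algebraMap S (Localization.AtPrime q))).mulVecLin) :=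
  (IsLocalizedModule.iso q.primeCompl
    ((LinearMap.range P.mulVecLin).toLocalizedQuotient' (Localization.AtPrime q) q.primeCompl
      (loc (Localization.AtPrime q) a))) ≪≫ₗ
    ((Submodule.quotEquivOfEq _ _ (localized'_range q P)).restrictScalars S)

/-- fibrewise exactness at a prime `q`, for a complex extended by zero maps -/
theorem fib_iff [IsNoetherianRing S] [Module.Flat R S] (q : Ideal S) [q.IsPrime] (e : ℕ)
    (he : 1 ≤ e) (n : ℕ → ℕ) (φ : (i : ℕ) → Matrix (Fin (n i)) (Fin (n (i + 1))) S)
    (hφ : ∀ i, φ i * φ (i + 1) = 0) :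
    (∀ i, i < e →
      LinearMap.ker ((φ i).map (algebraMap S (EGA4.FibLocRing R S q))).mulVecLin ≤
        LinearMap.range ((φ (i + 1)).map (algebraMap S (EGA4.FibLocRing R S q))).mulVecLin) ↔
    ((∀ i, i < e →
      LinearMap.ker ((φ i).map (algebraMap S (Localization.AtPrime q))).mulVecLin ≤
        LinearMap.range ((φ (i + 1)).map (algebraMap S (Localization.AtPrime q))).mulVecLin) ∧
      Module.Flat R (LocalizedModule q.primeCompl
        ((Fin (n 0) → S) ⧸ LinearMap.range (φ 0).mulVecLin))) := by
  set p : Ideal R := q.comap (algebraMap R S) with hp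
  haveI : q.LiesOver p := ⟨rfl⟩
  letI : Algebra (Localization.AtPrime p) (Localization.AtPrime q) :=
    Localization.AtPrime.algebraOfLiesOver p q
  haveI : IsLocalHom (algebraMap (Localization.AtPrime p) (Localization.AtPrime q)) :=
    Localization.isLocalHom_localRingHom p q (algebraMap R S) Ideal.LiesOver.over
  set I : Ideal (Localization.AtPrime q) := p.map (algebraMap R (Localization.AtPrime q)) with hIdef
  have hI : I = (maximalIdeal (Localization.AtPrime p)).map
      (algebraMap (Localization.AtPrime p) (Localization.AtPrime q)) := by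
    rw [← IsLocalization.AtPrime.map_eq_maximalIdeal p (Localization.AtPrime p), Ideal.map_map,
      ← IsScalarTower.algebraMap_eq]
  have hmap : ∀ i, ((φ i).map (algebraMap S (Localization.AtPrime q))).map (Ideal.Quotient.mk I) =
      (φ i).map (algebraMap S (EGA4.FibLocRing R S q)) := by
    intro i
    rw [Matrix.map_map]
    rfl
  have key := FW2.local_iff (A := Localization.AtPrime p) (B := Localization.AtPrime q) I hI e he n
    (fun i => (φ i).map (algebraMap S (Localization.AtPrime q)))
    (fun i => by
      rw [← Matrix.map_mul, hφ i]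
      ext a b
      simp)
  simp only [hmap] at key
  rw [key]
  apply and_congr Iff.rfl
  rw [Module.flat_iff_of_isLocalization (Localization.AtPrime p) p.primeCompl]
  constructor
  · intro h
    exact Module.Flat.of_linearEquiv ((cokerEquiv q (φ 0)).restrictScalars R)
  · intro h
    exact Module.Flat.of_linearEquiv ((cokerEquiv q (φ 0)).restrictScalars R).symm

end Groth.Agent.Helper9.FW3
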