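import Mathlib
import Groth.Prelude.Def_EGA4b
import Groth.Agent.S0387
import Groth.Agent.Helper9.BE3
import Groth.Agent.Helper9.BE4
import Groth.Agent.Helper9.FW3

set_option autoImplicit false
set_option linter.unusedSectionVars false
set_option linter.style.haveILetI false
universe u

/-! Openness of the locus of fibrewise exactness of a complex of finite free modules over a flat
algebra of finite type. -/

namespace Groth.Agent.Helper9.FW4

open Matrix

section Loc

variable {S T : Type u} [CommRing S] [CommRing T] [Algebra S T]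

/-- localization preserves exactness of a pair of matrices, given exactness up to the
multiplicative set -/
theorem ker_map_le_range_map' (M : Submonoid S) [IsLocalization M T]
    {a b c : ℕ} (A : Matrix (Fin a) (Fin b) S) (B : Matrix (Fin b) (Fin c) S)
    (h : ∀ z ∈ LinearMap.ker A.mulVecLin, ∃ s ∈ M, s • z ∈ LinearMap.range B.mulVecLin) :
    LinearMap.ker (A.map (algebraMap S T)).mulVecLin ≤
      LinearMap.range (B.map (algebraMap S T)).mulVecLin := by
  classical
  set f := algebraMap S T with hf
  intro z' hz'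
  rw [LinearMap.mem_ker, Matrix.mulVecLin_apply] at hz'
  obtain ⟨d, hd⟩ := IsLocalization.exist_integer_multiples_of_finite M z'
  choose z hz using hd
  have hfz : f ∘ z = (d : S) • z' := by
    ext i
    exact hz i
  have key : ∀ k, f ((A *ᵥ z) k) = 0 := by
    intro k
    rw [RingHom.map_mulVec f A z k, hfz, Matrix.mulVec_smul, hz']
    simp
  have key2 : ∀ k, ∃ t : M, (t : S) * (A *ᵥ z) k = 0 := fun k =>
    (IsLocalization.map_eq_zero_iff M T _).1 (key k)
  choose t ht using key2
  set tt : S := ∏ k, (t k : S) with htt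
  have httM : tt ∈ M := Submonoid.prod_mem M (fun k _ => (t k).2)
  have hker : tt • z ∈ LinearMap.ker A.mulVecLin := by
    rw [LinearMap.mem_ker, Matrix.mulVecLin_apply, Matrix.mulVec_smul]
    ext k
    simp only [Pi.smul_apply, smul_eq_mul, Pi.zero_apply]
    rw [htt, ← Finset.mul_prod_erase Finset.univ _ (Finset.mem_univ k), mul_right_comm, ht k,
      zero_mul]
  obtain ⟨s, hsM, w, hw⟩ := h _ hker
  rw [Matrix.mulVecLin_apply] at hw
  have hu : IsUnit (f (s * tt * d)) :=
    IsLocalization.map_units T ⟨s * tt * d, M.mul_mem (M.mul_mem hsM httM) d.2⟩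
  obtain ⟨u, hu⟩ := hu
  refine ⟨(↑u⁻¹ : T) • (f ∘ w), ?_⟩
  rw [Matrix.mulVecLin_apply, Matrix.mulVec_smul, BE3.map_mulVec_comp, hw]
  have h2 : f ∘ (s • tt • z) = f (s * tt) • (f ∘ z) := by
    ext i
    simp [mul_assoc]
  rw [h2, hfz]
  ext i
  change (↑u⁻¹ : T) * (f (s * tt) * ((d : S) • z' i)) = z' i
  rw [Algebra.smul_def, ← hf, ← mul_assoc (f (s * tt)), ← map_mul, ← hu, ← mul_assoc, Units.inv_mul,
    one_mul]

end Loc

variable {S : Type u} [CommRing S] [IsNoetherianRing S]

/-- exactness of a pair of matrices at a prime, in terms of a colon ideal -/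
theorem exact_at_iff {a b c : ℕ} (A : Matrix (Fin a) (Fin b) S) (B : Matrix (Fin b) (Fin c) S)
    (q : Ideal S) [q.IsPrime] :
    LinearMap.ker (A.map (algebraMap S (Localization.AtPrime q))).mulVecLin ≤
      LinearMap.range (B.map (algebraMap S (Localization.AtPrime q))).mulVecLin ↔
    ¬ (LinearMap.range B.mulVecLin).colon (LinearMap.ker A.mulVecLin : Set (Fin b → S)) ≤ q := by
  classical
  constructor
  · intro h hle
    have hfg : (LinearMap.ker A.mulVecLin).FG := IsNoetherian.noetherian _
    obtain ⟨G, hG⟩ := hfg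
    have hz : ∀ z : G, ∃ s ∈ q.primeCompl, s • (z : Fin b → S) ∈ LinearMap.range B.mulVecLin := by
      intro z
      have hzk : (z : Fin b → S) ∈ LinearMap.ker A.mulVecLin := by
        rw [← hG]
        exact Submodule.subset_span z.2
      exact BE3.exists_smul_mem_range q.primeCompl A B h z (by simpa using hzk)
    choose s hs hsz using hz
    set ss : S := ∏ z : G, s z with hss
    have hssq : ss ∈ q.primeCompl := Submonoid.prod_mem _ (fun z _ => hs z)
    apply hssq
    apply hle
    rw [Submodule.mem_colon]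
    intro x hx
    rw [SetLike.mem_coe, ← hG] at hx
    refine Submodule.span_induction ?_ ?_ ?_ ?_ hx
    · intro y hy
      have : ss = (∏ z ∈ Finset.univ.erase (⟨y, hy⟩ : G), s z) * s ⟨y, hy⟩ := by
        rw [hss, ← Finset.mul_prod_erase Finset.univ _ (Finset.mem_univ (⟨y, hy⟩ : G)), mul_comm]
      rw [this, mul_smul]
      exact Submodule.smul_mem _ _ (hsz ⟨y, hy⟩)
    · rw [smul_zero]
      exact Submodule.zero_mem _
    · intro x y _ _ hx hy
      rw [smul_add]
      exact Submodule.add_mem _ hx hy
    · intro r x _ hx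
      rw [smul_comm]
      exact Submodule.smul_mem _ _ hx
  · intro h
    obtain ⟨s, hsJ, hsq⟩ := SetLike.not_le_iff_exists.1 h
    apply ker_map_le_range_map' q.primeCompl A B
    intro z hz
    exact ⟨s, hsq, (Submodule.mem_colon.1 hsJ) z hz⟩

/-- the locus where a complex of matrices is exact (at the first `e` places) is open -/
theorem isOpen_exactLocus (e : ℕ) (n : ℕ → ℕ)
    (φ : (i : ℕ) → Matrix (Fin (n i)) (Fin (n (i + 1))) S) :
    IsOpen {q : PrimeSpectrum S | ∀ i, i < e →
      LinearMap.ker ((φ i).map (algebraMap S (Localization.AtPrime q.asIdeal))).mulVecLin ≤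
        LinearMap.range ((φ (i + 1)).map (algebraMap S (Localization.AtPrime q.asIdeal))).mulVecLin} := by
  have hset : {q : PrimeSpectrum S | ∀ i, i < e →
      LinearMap.ker ((φ i).map (algebraMap S (Localization.AtPrime q.asIdeal))).mulVecLin ≤
        LinearMap.range ((φ (i + 1)).map (algebraMap S (Localization.AtPrime q.asIdeal))).mulVecLin} =
      ⋂ i ∈ Finset.range e, (PrimeSpectrum.zeroLocus
        (((LinearMap.range (φ (i + 1)).mulVecLin).colon
          (LinearMap.ker (φ i).mulVecLin : Set (Fin (n (i + 1)) → S)) : Ideal S) : Set S))ᶜ := by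
    ext q
    simp only [Set.mem_ofPred_eq, Set.mem_iInter, Finset.mem_range, Set.mem_compl_iff,
      PrimeSpectrum.mem_zeroLocus, SetLike.coe_subset_coe]
    refine forall_congr' (fun i => forall_congr' (fun _ => ?_))
    exact exact_at_iff (φ i) (φ (i + 1)) q.asIdeal
  rw [hset]
  exact isOpen_biInter_finset (fun i _ => (PrimeSpectrum.isClosed_zeroLocus _).isOpen_compl)

omit [IsNoetherianRing S] in
theorem range_map_zero_eq_bot {T : Type u} [CommRing T] (g : S →+* T) (b c : ℕ) :
    LinearMap.range (((0 : Matrix (Fin b) (Fin c) S).map g).mulVecLin) = ⊥ := by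
  have h0 : (0 : Matrix (Fin b) (Fin c) S).map g = 0 := by
    ext i j
    simp
  rw [h0, Matrix.mulVecLin_zero, LinearMap.range_zero]

/-- openness of the locus of fibrewise exactness -/
theorem isOpen_fibrewise (R : Type u) [CommRing R] [IsNoetherianRing R] [Algebra R S]
    [Algebra.FiniteType R S] [Module.Flat R S] (e : ℕ) (n : ℕ → ℕ)
    (φ : (i : ℕ) → Matrix (Fin (n i)) (Fin (n (i + 1))) S)
    (hφ : ∀ i, i + 2 ≤ e → φ i * φ (i + 1) = 0) :
    IsOpen {q : PrimeSpectrum S |
      (∀ i, i + 2 ≤ e →
        LinearMap.ker (Matrix.mulVecLin ((φ i).map (algebraMap S (EGA4.FibLocRing R S q.asIdeal)))) =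
          LinearMap.range (Matrix.mulVecLin ((φ (i + 1)).map (algebraMap S (EGA4.FibLocRing R S q.asIdeal))))) ∧
      (1 ≤ e → Function.Injective
        (Matrix.mulVecLin ((φ (e - 1)).map (algebraMap S (EGA4.FibLocRing R S q.asIdeal)))))} := by
  classical
  by_cases he : 1 ≤ e
  swap
  · have he0 : e = 0 := by omega
    subst he0
    convert isOpen_univ
    ext q
    simp
  obtain ⟨e', rfl⟩ : ∃ e', e = e' + 1 := ⟨e - 1, by omega⟩
  let φ' : (i : ℕ) → Matrix (Fin (n i)) (Fin (n (i + 1))) S := fun i =>
    if i < e' + 1 then φ i else 0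
  have hpos : ∀ i, i < e' + 1 → φ' i = φ i := fun i hi => if_pos hi
  have hneg : ∀ i, e' + 1 ≤ i → φ' i = 0 := fun i hi => if_neg (by omega)
  have hφ' : ∀ i, φ' i * φ' (i + 1) = 0 := by
    intro i
    by_cases hi : i + 2 ≤ e' + 1
    · rw [hpos i (by omega), hpos (i + 1) (by omega)]
      exact hφ i hi
    · rw [hneg (i + 1) (by omega), Matrix.mul_zero]
  have key : ∀ q : PrimeSpectrum S,
      ((∀ i, i + 2 ≤ e' + 1 →
        LinearMap.ker (Matrix.mulVecLin ((φ i).map (algebraMap S (EGA4.FibLocRing R S q.asIdeal)))) =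
          LinearMap.range (Matrix.mulVecLin ((φ (i + 1)).map (algebraMap S (EGA4.FibLocRing R S q.asIdeal))))) ∧
      (1 ≤ e' + 1 → Function.Injective
        (Matrix.mulVecLin ((φ (e' + 1 - 1)).map (algebraMap S (EGA4.FibLocRing R S q.asIdeal)))))) ↔
      (∀ i, i < e' + 1 →
        LinearMap.ker ((φ' i).map (algebraMap S (EGA4.FibLocRing R S q.asIdeal))).mulVecLin ≤
          LinearMap.range ((φ' (i + 1)).map (algebraMap S (EGA4.FibLocRing R S q.asIdeal))).mulVecLin) := by
    intro q
    constructor
    · rintro ⟨h1, h2⟩ i hi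
      by_cases hi2 : i + 2 ≤ e' + 1
      · rw [hpos i hi, hpos (i + 1) (by omega)]
        exact (h1 i hi2).le
      · have hie : i = e' := by omega
        subst hie
        rw [hpos i hi]
        have hinj : Function.Injective (Matrix.mulVecLin ((φ i).map
            (algebraMap S (EGA4.FibLocRing R S q.asIdeal)))) := h2 he
        rw [LinearMap.ker_eq_bot.2 hinj]
        exact bot_le
    · intro h
      constructor
      · intro i hi2
        apply le_antisymm
        · have := h i (by omega)
          rwa [hpos i (by omega), hpos (i + 1) (by omega)] at this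
        · apply BE4.range_le_ker
          rw [← Matrix.map_mul, hφ i hi2]
          ext a b
          simp
      · intro _
        have := h e' (by omega)
        rw [hpos e' (by omega), hneg (e' + 1) le_rfl, range_map_zero_eq_bot] at this
        exact LinearMap.ker_eq_bot.1 (le_bot_iff.1 this)
  haveI : IsNoetherianRing S := Algebra.FiniteType.isNoetherianRing R S
  haveI : Algebra.FinitePresentation R S := Algebra.FinitePresentation.of_finiteType.1 inferInstance
  haveI : Module.FinitePresentation S ((Fin (n 0) → S) ⧸ LinearMap.range (φ' 0).mulVecLin) :=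
    Module.finitePresentation_of_finite S _
  have hU2 : IsOpen {q : PrimeSpectrum S | Module.Flat R (LocalizedModule q.asIdeal.primeCompl
      ((Fin (n 0) → S) ⧸ LinearMap.range (φ' 0).mulVecLin))} :=
    Groth.Agent.S0387.result
  have hU1 := isOpen_exactLocus (e' + 1) n φ'
  have hset : {q : PrimeSpectrum S |
      (∀ i, i + 2 ≤ e' + 1 →
        LinearMap.ker (Matrix.mulVecLin ((φ i).map (algebraMap S (EGA4.FibLocRing R S q.asIdeal)))) =
          LinearMap.range (Matrix.mulVecLin ((φ (i + 1)).map (algebraMap S (EGA4.FibLocRing R S q.asIdeal))))) ∧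
      (1 ≤ e' + 1 → Function.Injective
        (Matrix.mulVecLin ((φ (e' + 1 - 1)).map (algebraMap S (EGA4.FibLocRing R S q.asIdeal)))))} =
      {q : PrimeSpectrum S | ∀ i, i < e' + 1 →
        LinearMap.ker ((φ' i).map (algebraMap S (Localization.AtPrime q.asIdeal))).mulVecLin ≤
          LinearMap.range ((φ' (i + 1)).map (algebraMap S (Localization.AtPrime q.asIdeal))).mulVecLin} ∩
      {q : PrimeSpectrum S | Module.Flat R (LocalizedModule q.asIdeal.primeCompl
        ((Fin (n 0) → S) ⧸ LinearMap.range (φ' 0).mulVecLin))} := by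
    ext q
    rw [Set.mem_ofPred_eq, key q, FW3.fib_iff (R := R) q.asIdeal (e' + 1) he n φ' hφ']
    rfl
  rw [hset]
  exact hU1.inter hU2

end Groth.Agent.Helper9.FW4
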