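import Mathlib
import Groth.Prelude.Def_PerfD
import Groth.Prelude.Def_MeroDiv
import Groth.Agent.Helper9.SkyMod5
import Groth.Agent.Helper9.Fib2

set_option autoImplicit false
set_option linter.style.haveILetI false
set_option linter.unusedVariables false
set_option linter.unusedSectionVars false
universe u

namespace Groth.Agent.Helper9.Fib3

open CategoryTheory CategoryTheory.Limits AlgebraicGeometry Opposite TopologicalSpace Topology
open Groth.Agent.Helper9.SkyMod4 Groth.Agent.Helper9.Betti2

variable {V : Scheme.{u}}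

/-- the unit section of the structure module -/
noncomputable def one (U : V.Opens) : Γ(Coh.structureModule V, U) :=
  (show Γ(Coh.structureModule V, U) from (1 : Γ(V, U)))

/-- the stalk of the structure module is generated by the germ of `1` -/
theorem exists_smul_germ_one (y : V) (m : (St y).obj (Coh.structureModule V)) :
    ∃ a : V.presheaf.stalk y,
      a • ((Coh.structureModule V).presheaf.germ ⊤ y (Opens.mem_top _) (one ⊤) :
        (St y).obj (Coh.structureModule V)) = m := by
  let O := Coh.structureModule V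
  obtain ⟨U, hyU, s, hs⟩ := O.presheaf.exists_germ_eq (x := y) m
  let r : Γ(V, U) := s
  refine ⟨V.presheaf.germ U y hyU r, ?_⟩
  have hres : O.presheaf.map (homOfLE (le_top : U ≤ ⊤)).op (one ⊤) = one U :=
    (map_one (V.presheaf.map (homOfLE (le_top : U ≤ ⊤)).op).hom)
  have h1 : O.presheaf.germ U y hyU (one U) = O.presheaf.germ ⊤ y (Opens.mem_top _) (one ⊤) :=
    (congrArg (O.presheaf.germ U y hyU) hres).symm.trans
      (TopCat.Presheaf.germ_res_apply O.presheaf (homOfLE (le_top : U ≤ ⊤)) y hyU (one ⊤))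
  have h2 : s = r • one U := (mul_one r).symm
  have h3 := (Mero.germ_smul O U y hyU r (one U)).symm
  rw [h1] at h3
  exact h3.trans ((congrArg (O.presheaf.germ U y hyU) h2.symm).trans hs)

/-- a morphism from the structure module whose value at `1` has zero germ at `y` induces the zero
map on stalks at `y` -/
theorem stalk_map_eq_zero (y : V) {C : V.Modules} (φ : Coh.structureModule V ⟶ C)
    (h : C.presheaf.germ ⊤ y (Opens.mem_top _) (φ.app ⊤ (one ⊤)) = 0) : (St y).map φ = 0 := by
  ext m
  obtain ⟨a, rfl⟩ := exists_smul_germ_one y m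
  have h1 : ((St y).map φ).hom
      ((Coh.structureModule V).presheaf.germ ⊤ y (Opens.mem_top _) (one ⊤)) = 0 :=
    (DerSch.stalkFunctor_map_germ y φ ⊤ (Opens.mem_top _) (one ⊤)).trans h
  have h2 := ((St y).map φ).hom.map_smul a
    ((Coh.structureModule V).presheaf.germ ⊤ y (Opens.mem_top _) (one ⊤))
  rw [h1, smul_zero] at h2
  exact h2

/-- the sections of a quotient of a free module given by the basis -/
noncomputable def gen {k : ℕ} {C : V.Modules} (π : FlatMod.freeMod V k ⟶ C) (j : Fin k) :
    Γ(C, ⊤) :=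
  (Sigma.ι (fun _ : Fin k => Coh.structureModule V) j ≫ π).app ⊤ (one ⊤)

/-- if the germs of the generators vanish at `y`, so does the stalk -/
theorem isZero_stalk_of_germ_gen (y : V) {k : ℕ} {C : V.Modules} (π : FlatMod.freeMod V k ⟶ C)
    [Epi π] (h : ∀ j, C.presheaf.germ ⊤ y (Opens.mem_top _) (gen π j) = 0) : IsZero ((St y).obj C) := by
  have h0 : (St y).map π = 0 := by
    apply (isColimitOfPreserves (St y)
      (coproductIsCoproduct (fun _ : Fin k => Coh.structureModule V))).hom_ext
    rintro ⟨j⟩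
    simp only [Functor.mapCocone_pt, Cofan.mk_pt, Functor.mapCocone_ι_app, Cofan.mk_ι_app,
      comp_zero]
    rw [← Functor.map_comp]
    exact stalk_map_eq_zero y _ (h j)
  haveI : Epi ((St y).map π) := inferInstance
  exact IsZero.of_epi_eq_zero _ h0

/-- a quotient of a finite free module with zero stalk at `y` has zero stalks near `y` -/
theorem exists_nhd_isZero_stalk (y : V) {k : ℕ} {C : V.Modules} (π : FlatMod.freeMod V k ⟶ C)
    [Epi π] (h : IsZero ((St y).obj C)) :
    ∃ W : V.Opens, y ∈ W ∧ ∀ y' ∈ W, IsZero ((St y').obj C) := by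
  haveI : Subsingleton ((St y).obj C) := ModuleCat.subsingleton_of_isZero h
  have h1 : ∀ j : Fin k, ∀ᶠ y' in 𝓝 y, ∃ hy' : y' ∈ (⊤ : V.Opens),
      C.presheaf.germ ⊤ y' hy' (gen π j) = 0 := by
    intro j
    have h2 : C.presheaf.germ ⊤ y (Opens.mem_top _) (gen π j) = C.presheaf.germ ⊤ y (Opens.mem_top _) 0 :=
      Subsingleton.elim (α := (St y).obj C) _ _
    obtain ⟨W, hyW, i1, i2, hW⟩ := C.presheaf.germ_eq y (Opens.mem_top _) (Opens.mem_top _) _ _ h2
    filter_upwards [W.isOpen.mem_nhds hyW] with y' hy'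
    refine ⟨(Opens.mem_top _), ?_⟩
    rw [← TopCat.Presheaf.germ_res_apply C.presheaf i1 y' hy', hW, map_zero, map_zero]
  have h3 : ∀ᶠ y' in 𝓝 y, ∀ j : Fin k, ∃ hy' : y' ∈ (⊤ : V.Opens),
      C.presheaf.germ ⊤ y' hy' (gen π j) = 0 := Filter.eventually_all.2 h1
  obtain ⟨W, hW, hWo, hyW⟩ := mem_nhds_iff.1 h3
  refine ⟨⟨W, hWo⟩, hyW, fun y' hy' => ?_⟩
  exact isZero_stalk_of_germ_gen y' π (fun j => (hW hy' j).2)

end Groth.Agent.Helper9.Fib3
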