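import Mathlib
import Groth.Prelude.Def_PerfD
import Groth.Agent.Helper9.Fib3
import Groth.Agent.Helper8.TildeBC

set_option autoImplicit false
set_option linter.style.haveILetI false
set_option linter.unusedVariables false
set_option linter.unusedSectionVars false
universe u v

namespace Groth.Agent.Helper9.Fib4

open CategoryTheory CategoryTheory.Limits AlgebraicGeometry Opposite TopologicalSpace Topology
open Groth.Agent.Helper9.SkyMod4 Groth.Agent.Helper9.Betti2

section LA

variable {K : Type u} [Field K] {N : Type v} [AddCommGroup N] [Module K N]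

/-- a finite spanning family contains a spanning subfamily of cardinality the dimension -/
theorem exists_subfamily {k : ℕ} (w : Fin k → N) (hw : Submodule.span K (Set.range w) = ⊤) :
    ∃ (r : ℕ) (a : Fin r → Fin k), r = Module.finrank K N ∧
      Submodule.span K (Set.range (w ∘ a)) = ⊤ := by
  obtain ⟨κ, a, ha, hsp, hli⟩ := exists_linearIndependent' K w
  haveI : Finite κ := Finite.of_injective a ha
  haveI : Fintype κ := Fintype.ofFinite κ
  rw [hw] at hsp
  let b : Module.Basis κ K N := Module.Basis.mk hli (by rw [hsp])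
  have hr : Module.finrank K N = Fintype.card κ := Module.finrank_eq_card_basis b
  let e : Fin (Fintype.card κ) ≃ κ := (Fintype.equivFin κ).symm
  refine ⟨Fintype.card κ, a ∘ e, hr.symm, ?_⟩
  rw [← hsp]
  congr 1
  ext x
  constructor
  · rintro ⟨i, rfl⟩
    exact ⟨e i, rfl⟩
  · rintro ⟨j, rfl⟩
    exact ⟨e.symm j, by simp⟩

/-- a module spanned by `r` vectors has dimension at most `r` -/
theorem finrank_le_of_span {r : ℕ} (w : Fin r → N) (hw : Submodule.span K (Set.range w) = ⊤) :
    Module.finrank K N ≤ r := by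
  have h1 := finrank_range_le_card (R := K) w
  rw [Set.finrank, hw, finrank_top, Fintype.card_fin] at h1
  exact h1

end LA


variable {V : Scheme.{u}}

/-- the fibre functor along a morphism (to be used for one-point schemes) -/
noncomputable def T {Y : Scheme.{u}} (g : Y ⟶ V) : V.Modules ⥤ ModuleCat.{u} (Coh.Γtop Y) :=
  Scheme.Modules.pullback g ⋙ Γf Y

section Tfun

variable {Y : Scheme.{u}} (g : Y ⟶ V)

instance : (T g).Additive := by
  haveI : (Scheme.Modules.pullback g).Additive := inferInstance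
  exact inferInstanceAs (Scheme.Modules.pullback g ⋙ Γf Y).Additive

noncomputable instance [Unique Y] : PreservesFiniteColimits (Γf Y) :=
  Functor.preservesFiniteColimits_of_preservesHomology (Γf Y)

noncomputable instance [Unique Y] : PreservesFiniteColimits (T g) :=
  inferInstanceAs (PreservesFiniteColimits (Scheme.Modules.pullback g ⋙ Γf Y))

/-- `T g` of the structure sheaf is the ground ring -/
noncomputable def TunitIso : (T g).obj (Coh.structureModule V) ≅
    ModuleCat.of (Coh.Γtop Y) (Coh.Γtop Y) :=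
  (Γf Y).mapIso (Groth.Agent.Helper8.TildeBC.pullbackUnitIso g)

/-- the generator of `T g O_V` -/
noncomputable def gen : (T g).obj (Coh.structureModule V) :=
  (TunitIso g).inv.hom (1 : Coh.Γtop Y)

theorem eq_smul_gen (m : (T g).obj (Coh.structureModule V)) :
    m = ((TunitIso g).hom.hom m : Coh.Γtop Y) • gen g := by
  have h1 : (TunitIso g).inv.hom ((TunitIso g).hom.hom m) = m := by
    rw [← ModuleCat.comp_apply, Iso.hom_inv_id]
    rfl
  have h2 : ((TunitIso g).hom.hom m : Coh.Γtop Y) =
      ((TunitIso g).hom.hom m : Coh.Γtop Y) • (1 : Coh.Γtop Y) := (mul_one _).symm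
  rw [← h1]
  conv_lhs => rw [h2]
  rw [map_smul]
  congr 1
  rw [h1]

/-- the vector attached to a section -/
noncomputable def vec {M : V.Modules} (φ : Coh.structureModule V ⟶ M) : (T g).obj M :=
  ((T g).map φ).hom (gen g)

/-- if `T g` of a map from a free module is epi, the vectors of the components span -/
theorem span_vec_eq_top {M : V.Modules} {r : ℕ}
    (φ : Fin r → (Coh.structureModule V ⟶ M)) (h : Epi ((T g).map (Sigma.desc φ))) :
    Submodule.span (Coh.Γtop Y) (Set.range (fun i => vec g (φ i))) = ⊤ := by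
  set N' := Submodule.span (Coh.Γtop Y) (Set.range (fun i => vec g (φ i))) with hN'
  let q : (T g).obj M ⟶ ModuleCat.of (Coh.Γtop Y) (↑((T g).obj M) ⧸ N') :=
    ModuleCat.ofHom N'.mkQ
  have hq : (T g).map (Sigma.desc φ) ≫ q = 0 := by
    apply (isColimitOfPreserves (T g)
      (coproductIsCoproduct (fun _ : Fin r => Coh.structureModule V))).hom_ext
    rintro ⟨i⟩
    simp only [Functor.mapCocone_pt, Cofan.mk_pt, Functor.mapCocone_ι_app, Cofan.mk_ι_app,
      comp_zero]
    rw [← Functor.map_comp_assoc, Sigma.ι_desc]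
    ext m
    rw [eq_smul_gen g m]
    change N'.mkQ (((T g).map (φ i)).hom (_ • gen g)) = 0
    rw [map_smul, map_smul]
    have : N'.mkQ (((T g).map (φ i)).hom (gen g)) = 0 := by
      rw [Submodule.mkQ_apply, Submodule.Quotient.mk_eq_zero]
      exact Submodule.subset_span ⟨i, rfl⟩
    rw [this, smul_zero]
  have hq0 : q = 0 := (cancel_epi ((T g).map (Sigma.desc φ))).1 (hq.trans comp_zero.symm)
  rw [eq_top_iff]
  intro x _
  have h1 : N'.mkQ x = 0 := by
    have := congrArg (fun f => f.hom x) hq0
    exact this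
  rwa [Submodule.mkQ_apply, Submodule.Quotient.mk_eq_zero] at h1

/-- if the vectors of the components span, `T g` of the map from the free module is epi -/
theorem epi_of_span_vec {M : V.Modules} {r : ℕ}
    (φ : Fin r → (Coh.structureModule V ⟶ M))
    (h : Submodule.span (Coh.Γtop Y) (Set.range (fun i => vec g (φ i))) = ⊤) :
    Epi ((T g).map (Sigma.desc φ)) := by
  rw [ModuleCat.epi_iff_surjective]
  rw [← LinearMap.range_eq_top, eq_top_iff, ← h, Submodule.span_le]
  rintro _ ⟨i, rfl⟩
  refine ⟨((T g).map (Sigma.ι (fun _ : Fin r => Coh.structureModule V) i)).hom (gen g), ?_⟩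
  change ((T g).map (Sigma.ι (fun _ : Fin r => Coh.structureModule V) i) ≫
    (T g).map (Sigma.desc φ)).hom (gen g) = _
  rw [← Functor.map_comp, Sigma.ι_desc]
  rfl

end Tfun


/-- `T g` of a cokernel vanishes iff `T g` of the map is epi -/
theorem epi_T_map_iff {Y : Scheme.{u}} [Unique Y] (g : Y ⟶ V) {A B : V.Modules} (ψ : A ⟶ B) :
    Epi ((T g).map ψ) ↔ IsZero ((T g).obj (cokernel ψ)) := by
  have e : (T g).obj (cokernel ψ) ≅ cokernel ((T g).map ψ) := PreservesCokernel.iso (T g) ψ
  constructor
  · intro h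
    exact (isZero_cokernel_of_epi ((T g).map ψ)).of_iso e
  · intro h
    have h1 : IsZero (cokernel ((T g).map ψ)) := h.of_iso e.symm
    exact Abelian.epi_of_cokernel_π_eq_zero _ (h1.eq_of_tgt _ _)

/-- **Upper semicontinuity of the fibre dimension** of a quotient of a finite free module, tested
on morphisms from one-point schemes whose ring of functions is a field. -/
theorem exists_nhd_finrank_le {Y₀ : Scheme.{u}} [Unique Y₀] (hK₀ : IsField (Coh.Γtop Y₀))
    (g₀ : Y₀ ⟶ V) {k : ℕ} {M : V.Modules} (π : FlatMod.freeMod V k ⟶ M) [Epi π] :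
    ∃ W : V.Opens, g₀.base default ∈ W ∧
      ∀ (Y : Scheme.{u}) [Unique Y] (hK : IsField (Coh.Γtop Y)) (g : Y ⟶ V),
        g.base default ∈ W →
        Module.finrank (Coh.Γtop Y) ((T g).obj M) ≤
          Module.finrank (Coh.Γtop Y₀) ((T g₀).obj M) := by
  let φ : Fin k → (Coh.structureModule V ⟶ M) :=
    fun j => Sigma.ι (fun _ : Fin k => Coh.structureModule V) j ≫ π
  have hπ : π = Sigma.desc φ := by
    apply Sigma.hom_ext
    intro j
    rw [Sigma.ι_desc]
  have h0 : Epi ((T g₀).map (Sigma.desc φ)) := by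
    rw [← hπ]
    infer_instance
  have h1 := span_vec_eq_top g₀ φ h0
  obtain ⟨r, a, hr, h2⟩ := @exists_subfamily (Coh.Γtop Y₀) hK₀.toField ((T g₀).obj M) _
    (inferInstance : Module (Coh.Γtop Y₀) ((T g₀).obj M)) k (fun j => vec g₀ (φ j)) h1
  let ψ : FlatMod.freeMod V r ⟶ M := Sigma.desc (φ ∘ a)
  have h3 : Epi ((T g₀).map ψ) := epi_of_span_vec g₀ (φ ∘ a) h2
  have h4 : IsZero ((T g₀).obj (cokernel ψ)) := (epi_T_map_iff g₀ ψ).1 h3
  haveI : Epi (π ≫ cokernel.π ψ) := epi_comp _ _
  have h5 : IsZero ((St (g₀.base default)).obj (cokernel ψ)) :=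
    Groth.Agent.Helper9.Fib2.isZero_stalk_of_fibre g₀ (π ≫ cokernel.π ψ) h4
  obtain ⟨W, hW, hW'⟩ := Groth.Agent.Helper9.Fib3.exists_nhd_isZero_stalk _ (π ≫ cokernel.π ψ) h5
  refine ⟨W, hW, fun Y _ hK g hg => ?_⟩
  have h6 : IsZero ((Scheme.Modules.pullback g).obj (cokernel ψ)) := by
    apply Groth.Agent.Helper9.SkyMod5.isZero_of_stalks Y
    intro pt
    rw [Unique.eq_default pt]
    exact (Functor.map_isZero (ext default g) (hW' _ hg)).of_iso
      ((pullStalkIso default g).app (cokernel ψ))
  have h7 : IsZero ((T g).obj (cokernel ψ)) := Functor.map_isZero (Γf Y) h6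
  have h8 : Epi ((T g).map ψ) := (epi_T_map_iff g ψ).2 h7
  have h9 := span_vec_eq_top g (φ ∘ a) h8
  have h10 := @finrank_le_of_span (Coh.Γtop Y) hK.toField ((T g).obj M) _
    (inferInstance : Module (Coh.Γtop Y) ((T g).obj M)) r (fun i => vec g ((φ ∘ a) i)) h9
  exact le_trans h10 (le_of_eq hr)

end Groth.Agent.Helper9.Fib4
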