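import Mathlib
import Groth.Prelude.Def_PerfD
import Groth.Agent.Helper9.Fib4
import Groth.Agent.Helper1.FlatCxDRank

set_option autoImplicit false
set_option linter.style.haveILetI false
set_option linter.unusedVariables false
set_option linter.unusedSectionVars false
universe u v

namespace Groth.Agent.Helper9.Fib5

open CategoryTheory CategoryTheory.Limits AlgebraicGeometry Opposite TopologicalSpace Topology
open Groth.Agent.Helper9.SkyMod4 Groth.Agent.Helper9.Betti2 Groth.Agent.Helper9.Fib4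

theorem finrank_fin_fun' {K : Type u} [Ring K] (hK : IsField K) (n : ℕ) :
    Module.finrank K (Fin n → K) = n := by
  letI := hK.toField
  exact Module.finrank_fin_fun K

variable {Z : Scheme.{u}}

section A

variable {Y : Scheme.{u}} [Unique Y] (hK : IsField (Coh.Γtop Y)) (g : Y ⟶ Z)
  (P : CochainComplex Z.Modules ℤ)

/-- the complex of fibres -/
noncomputable abbrev fibCx : CochainComplex (ModuleCat.{u} (Coh.Γtop Y)) ℤ :=
  ((T g).mapHomologicalComplex (ComplexShape.up ℤ)).obj P

/-- opcycles commute with `T g` -/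
noncomputable def opcyclesIso (q : ℤ) : (fibCx g P).opcycles q ≅ (T g).obj (P.opcycles q) :=
  IsColimit.coconePointUniqueUpToIso
    ((fibCx g P).opcyclesIsCokernel ((ComplexShape.up ℤ).prev q) q rfl)
    (CokernelCofork.mapIsColimit _ (P.opcyclesIsCokernel ((ComplexShape.up ℤ).prev q) q rfl)
      (T g))

/-- `T g` of a free module -/
noncomputable def TfreeIso (n : ℕ) : (T g).obj (FlatMod.freeMod Z n) ≅
    ModuleCat.of (Coh.Γtop Y) (Fin n → Coh.Γtop Y) :=
  (Γf Y).mapIso (Groth.Agent.Helper8.TildeBC.pullbackFreeIso g n) ≪≫ ΓfFreeIso Y n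

include hK in
theorem finrank_T_of_free {M : Z.Modules} {n : ℕ} (e : M ≅ FlatMod.freeMod Z n) :
    Module.finrank (Coh.Γtop Y) ((T g).obj M) = n := by
  rw [LinearEquiv.finrank_eq ((T g).mapIso e ≪≫ TfreeIso g n).toLinearEquiv]
  exact finrank_fin_fun' hK n

theorem finite_T_of_free {M : Z.Modules} {n : ℕ} (e : M ≅ FlatMod.freeMod Z n) :
    Module.Finite (Coh.Γtop Y) ((T g).obj M) :=
  Module.Finite.equiv ((T g).mapIso e ≪≫ TfreeIso g n).toLinearEquiv.symm

include hK in
/-- the dimension formula for the fibre cohomology -/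
theorem finrank_homology_add (p : ℤ) (np np1 : ℕ) (ep : P.X p ≅ FlatMod.freeMod Z np)
    (ep1 : P.X (p + 1) ≅ FlatMod.freeMod Z np1) :
    Module.finrank (Coh.Γtop Y) ((Γf Y).obj
      ((((Scheme.Modules.pullback g).mapHomologicalComplex (ComplexShape.up ℤ)).obj P).homology p))
        + np1 =
      Module.finrank (Coh.Γtop Y) ((T g).obj (P.opcycles p)) +
        Module.finrank (Coh.Γtop Y) ((T g).obj (P.opcycles (p + 1))) := by
  haveI h1 : Module.Finite (Coh.Γtop Y) ((fibCx g P).X p) := finite_T_of_free g ep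
  haveI h2 : Module.Finite (Coh.Γtop Y) ((fibCx g P).X (p + 1)) := finite_T_of_free g ep1
  have h := @Groth.Agent.Helper1.FlatCx.finrank_homology_add (Coh.Γtop Y) hK.toField ℤ
    (ComplexShape.up ℤ) (fibCx g P) p (p + 1) (by simp) (by simp) h1 h2
  have h' : Module.finrank (Coh.Γtop Y) ((fibCx g P).homology p) +
      Module.finrank (Coh.Γtop Y) ((fibCx g P).X (p + 1)) =
      Module.finrank (Coh.Γtop Y) ((fibCx g P).opcycles p) +
        Module.finrank (Coh.Γtop Y) ((fibCx g P).opcycles (p + 1)) := h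
  rw [LinearEquiv.finrank_eq (opcyclesIso g P p).toLinearEquiv,
    LinearEquiv.finrank_eq (opcyclesIso g P (p + 1)).toLinearEquiv] at h'
  have h3 : Module.finrank (Coh.Γtop Y) ((fibCx g P).X (p + 1)) = np1 :=
    finrank_T_of_free hK g ep1
  have h4 : Module.finrank (Coh.Γtop Y) ((fibCx g P).homology p) =
      Module.finrank (Coh.Γtop Y) ((Γf Y).obj
        ((((Scheme.Modules.pullback g).mapHomologicalComplex (ComplexShape.up ℤ)).obj
          P).homology p)) :=
    LinearEquiv.finrank_eq (ΓfHomologyIso Y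
      (((Scheme.Modules.pullback g).mapHomologicalComplex (ComplexShape.up ℤ)).obj P)
      p).toLinearEquiv
  rw [h3, h4] at h'
  exact h'

end A


/-- **upper semicontinuity of the fibre cohomology** of a complex with free terms in degrees
`p`, `p + 1`, tested on morphisms from one-point schemes -/
theorem exists_nhd_homology_le {Y₀ : Scheme.{u}} [Unique Y₀] (hK₀ : IsField (Coh.Γtop Y₀))
    (g₀ : Y₀ ⟶ Z) (P : CochainComplex Z.Modules ℤ) (p : ℤ) (np np1 : ℕ)
    (ep : P.X p ≅ FlatMod.freeMod Z np) (ep1 : P.X (p + 1) ≅ FlatMod.freeMod Z np1) :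
    ∃ W : Z.Opens, g₀.base default ∈ W ∧
      ∀ (Y : Scheme.{u}) [Unique Y] (hK : IsField (Coh.Γtop Y)) (g : Y ⟶ Z),
        g.base default ∈ W →
        Module.finrank (Coh.Γtop Y) ((Γf Y).obj
          ((((Scheme.Modules.pullback g).mapHomologicalComplex (ComplexShape.up ℤ)).obj
            P).homology p)) ≤
        Module.finrank (Coh.Γtop Y₀) ((Γf Y₀).obj
          ((((Scheme.Modules.pullback g₀).mapHomologicalComplex (ComplexShape.up ℤ)).obj
            P).homology p)) := by
  haveI : Epi (ep.inv ≫ P.pOpcycles p) := epi_comp _ _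
  haveI : Epi (ep1.inv ≫ P.pOpcycles (p + 1)) := epi_comp _ _
  obtain ⟨W₁, hW₁, h₁⟩ := exists_nhd_finrank_le hK₀ g₀ (ep.inv ≫ P.pOpcycles p)
  obtain ⟨W₂, hW₂, h₂⟩ := exists_nhd_finrank_le hK₀ g₀ (ep1.inv ≫ P.pOpcycles (p + 1))
  refine ⟨W₁ ⊓ W₂, ⟨hW₁, hW₂⟩, fun Y _ hK g hg => ?_⟩
  have f1 := finrank_homology_add hK g P p np np1 ep ep1
  have f2 := finrank_homology_add hK₀ g₀ P p np np1 ep ep1
  have i1 := h₁ Y hK g hg.1
  have i2 := h₂ Y hK g hg.2
  omega

end Groth.Agent.Helper9.Fib5
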