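import Mathlib
import Groth.Prelude.Def_PerfD
import Groth.Agent.Helper9.Fib5
import Groth.Agent.Helper9.Betti3
import Groth.Agent.Helper9.Betti4
import Groth.Agent.Lead.PcLib3

set_option autoImplicit false
set_option linter.style.haveILetI false
set_option linter.unusedVariables false
set_option linter.unusedSectionVars false
universe u v

namespace Groth.Agent.Helper9.Fib6

open CategoryTheory CategoryTheory.Limits AlgebraicGeometry Opposite TopologicalSpace Topology
open Groth.Agent.Helper9.SkyMod4 Groth.Agent.Helper9.Betti2 Groth.Agent.Helper9.Fib4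
  Groth.Agent.Helper9.Fib5 Groth.Agent.Helper9.Lpull3 Groth.Agent.Helper9.Lpull5
  Groth.Agent.Helper9.Lpull6 Groth.Agent.Helper9.Betti3 Groth.Agent.Lead.PerfLib
  Groth.Agent.Lead.PcLib

attribute [local instance] HasDerivedCategory.standard

variable {X Z : Scheme.{u}}

/-- the Betti number of the derived fibre at a point of an open subscheme, computed from a local
`(p-1)`-approximation by a K-flat complex -/
theorem exists_betti_model (j : Z ⟶ X) [IsOpenImmersion j] (E : DCoh.D X)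
    (F : CochainComplex X.Modules ℤ) (hF : DCoh.IsKFlat F) (eF : DerivedCategory.Q.obj F ≅ E)
    (P : CochainComplex Z.Modules ℤ) (hP : DCoh.IsKFlat P) (p : ℤ)
    (α : DerivedCategory.Q.obj P ⟶ DerivedCategory.Q.obj ((Rc j).obj F))
    (hα : IsQisAbove (p - 1) α) (z : Z)
    [DCoh.HasLpull (X.fromSpecResidueField (j.base z))] :
    ∃ g : Spec (X.residueField (j.base z)) ⟶ Z, g.base default = z ∧
      PerfD.betti E (j.base z) p =
        Module.finrank (Coh.Γtop (Spec (X.residueField (j.base z))))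
          ((Γf (Spec (X.residueField (j.base z)))).obj
            ((((Scheme.Modules.pullback g).mapHomologicalComplex (ComplexShape.up ℤ)).obj
              P).homology p)) := by
  set y := j.base z with hy
  have hr : Set.range (X.fromSpecResidueField y) ⊆ Set.range j := by
    rw [Scheme.range_fromSpecResidueField]
    intro w hw
    rw [Set.mem_singleton_iff] at hw
    subst hw
    exact ⟨z, rfl⟩
  let g : Spec (X.residueField y) ⟶ Z := IsOpenImmersion.lift j (X.fromSpecResidueField y) hr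
  have hg : g ≫ j = X.fromSpecResidueField y := IsOpenImmersion.lift_fac _ _ _
  have hgz : g.base default = z := by
    apply j.isOpenEmbedding.injective
    have h1 : (g ≫ j).base default = y := by
      rw [hg]
      exact Scheme.fromSpecResidueField_apply _ _
    exact h1
  refine ⟨g, hgz, ?_⟩
  haveI : DCoh.HasLpull g := Groth.Agent.Helper9.Lpull1.hasLpull _
  haveI : DCoh.HasLpull j := Groth.Agent.Helper9.Lpull1.hasLpull _
  haveI : DCoh.HasLpull (g ≫ j) := Groth.Agent.Helper9.Lpull1.hasLpull _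
  have e1 : (DCoh.Lpull (X.fromSpecResidueField y)).obj E ≅ (DCoh.Lpull (g ≫ j)).obj E :=
    (lpullCongr hg.symm).app E
  have e2 : (DCoh.Lpull (g ≫ j)).obj E ≅ (DCoh.Lpull g).obj ((DCoh.Lpull j).obj E) :=
    ((lpullComp g j).app E).symm
  have e3 : (DCoh.Lpull j).obj E ≅ DerivedCategory.Q.obj ((Rc j).obj F) :=
    (DCoh.Lpull j).mapIso eF.symm ≪≫ lpullIso j F hF ≪≫
      DerivedCategory.Q.mapIso
        ((NatIso.mapHomologicalComplex (Scheme.Modules.restrictFunctorIsoPullback j)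
          (ComplexShape.up ℤ)).app F).symm
  -- the map induced by `α` on derived fibres is an isomorphism on `H^p`
  have hα' : GoodD (p - 1) ((DCoh.Lpull g).map α) := goodD_lpull g α (p - 1) ⟨hα.1, hα.2⟩
  haveI : IsIso ((DerivedCategory.homologyFunctor _ p).map ((DCoh.Lpull g).map α)) :=
    hα'.1 p (by omega)
  have e4 : DCoh.HD ((DCoh.Lpull (X.fromSpecResidueField y)).obj E) p ≅
      (((Scheme.Modules.pullback g).mapHomologicalComplex (ComplexShape.up ℤ)).obj
        P).homology p :=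
    (DerivedCategory.homologyFunctor _ p).mapIso
      (e1 ≪≫ e2 ≪≫ (DCoh.Lpull g).mapIso e3) ≪≫
    (asIso ((DerivedCategory.homologyFunctor _ p).map ((DCoh.Lpull g).map α))).symm ≪≫
    (DerivedCategory.homologyFunctor _ p).mapIso (lpullIso g P hP) ≪≫
    (DerivedCategory.homologyFunctorFactors _ p).app _
  exact LinearEquiv.finrank_eq ((Γf _).mapIso e4).toLinearEquiv


/-- **Upper semicontinuity of `β_p`** for a `(p-1)`-pseudo-coherent object. -/
theorem isOpen_betti_lt (X : Scheme.{u}) [∀ x : X, DCoh.HasLpull (X.fromSpecResidueField x)]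
    (E : DCoh.D X) (p : ℤ) (hE : DCoh.IsPseudoCoherentD (p - 1) E) (n : ℕ) :
    IsOpen {x : X | PerfD.betti E x p < n} := by
  rw [isOpen_iff_forall_mem_open]
  intro x₀ hx₀
  obtain ⟨F, hF, ⟨eF⟩⟩ := exists_kflat_rep E
  obtain ⟨Z, j, hj, ⟨z₀, hz₀⟩, P, α, hP, hα⟩ :=
    (isPseudoCoherentD_iff_locPC (p - 1) E F eF).1 hE x₀
  haveI := hj
  obtain ⟨⟨a, b, hab⟩, hflf⟩ := hP
  obtain ⟨W, hz₀W, hfree⟩ := exists_free_nhd P a b hab hflf z₀
  -- the shrunk data
  let j' : (W : Scheme.{u}) ⟶ X := W.ι ≫ j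
  let P' : CochainComplex (W : Scheme.{u}).Modules ℤ := (Rc W.ι).obj P
  let α' : DerivedCategory.Q.obj P' ⟶ DerivedCategory.Q.obj ((Rc j').obj F) :=
    resD W.ι α ≫ (DerivedCategory.Q.mapIso (rcCompIso j W.ι j' rfl F)).inv
  have hα' : IsQisAbove (p - 1) α' :=
    (isQisAbove_resD W.ι hα).comp (IsQisAbove.of_isIso (p - 1) _)
  have hP' : DCoh.IsKFlat P' :=
    isKFlat_restrict W.ι P (isKFlat_of_isStrictlyPerfect P ⟨⟨a, b, hab⟩, hflf⟩)
  obtain ⟨np, ⟨ep⟩⟩ := hfree p
  obtain ⟨np1, ⟨ep1⟩⟩ := hfree (p + 1)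
  let z₀' : (W : Scheme.{u}) := ⟨z₀, hz₀W⟩
  have hx : j'.base z₀' = x₀ := hz₀
  subst hx
  obtain ⟨g₀, hg₀, hb₀⟩ := exists_betti_model j' E F hF eF P' hP' p α' hα' z₀'
  obtain ⟨W', hW', hle⟩ := exists_nhd_homology_le
    (Groth.Agent.Helper9.Betti4.isField_Γtop_Spec (j'.base z₀')) g₀ P' p np np1 ep ep1
  refine ⟨j' ''ᵁ W', ?_, (j' ''ᵁ W').isOpen, ⟨z₀', by rw [← hg₀]; exact hW', rfl⟩⟩
  rintro _ ⟨z, hz, rfl⟩
  obtain ⟨g, hg, hb⟩ := exists_betti_model j' E F hF eF P' hP' p α' hα' z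
  have h1 := hle _ (Groth.Agent.Helper9.Betti4.isField_Γtop_Spec (j'.base z)) g (by rw [hg]; exact hz)
  show PerfD.betti E (j'.base z) p < n
  have h2 : PerfD.betti E (j'.base z₀') p < n := hx₀
  rw [hb]
  rw [hb₀] at h2
  exact lt_of_le_of_lt h1 h2

end Groth.Agent.Helper9.Fib6
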