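import Mathlib
import Groth.Prelude.Def_FibClv

set_option autoImplicit false
set_option backward.isDefEq.respectTransparency false
set_option backward.isDefEq.respectTransparency.types false
open CategoryTheory CategoryTheory.Functor
universe v₁ v₂ u₁ u₂
open FibCat FibCat.Cleavage

namespace Groth.Agent.Helper9.FibClv

variable {𝒮 : Type u₁} {𝒳 : Type u₂} [Category.{v₁} 𝒮] [Category.{v₂} 𝒳] {p : 𝒳 ⥤ 𝒮}

/-- A morphism of a fibre whose underlying morphism is an isomorphism is an isomorphism. -/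
theorem isIso_fiber {S : 𝒮} {a b : p.Fiber S} (φ : a ⟶ b) [h : IsIso (Fiber.fiberInclusion.map φ)] :
    IsIso φ := by
  haveI : p.IsHomLift (𝟙 S) (inv (Fiber.fiberInclusion.map φ)) := inferInstance
  refine ⟨Fiber.homMk p S (inv (Fiber.fiberInclusion.map φ)), ?_, ?_⟩
  · apply Fiber.hom_ext
    rw [CategoryTheory.Functor.map_comp, Fiber.fiberInclusion_homMk, IsIso.hom_inv_id, CategoryTheory.Functor.map_id]
  · apply Fiber.hom_ext
    rw [CategoryTheory.Functor.map_comp, Fiber.fiberInclusion_homMk, IsIso.inv_hom_id, CategoryTheory.Functor.map_id]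

theorem isHomLift_conj {S T : 𝒮} (f : T ⟶ S) [IsIso f] {x y a b : 𝒳} (φ : x ⟶ a) [IsIso φ]
    [p.IsHomLift f φ] (ψ : x ⟶ y) [p.IsHomLift (𝟙 T) ψ] (φ' : y ⟶ b) [p.IsHomLift f φ'] :
    p.IsHomLift (𝟙 S) (inv φ ≫ ψ ≫ φ') := by
  have h0 : p.IsHomLift (inv f ≫ 𝟙 T ≫ f) (inv φ ≫ ψ ≫ φ') := inferInstance
  simpa using h0

theorem isHomLift_comp_inv {S T : 𝒮} (f : T ⟶ S) [IsIso f] {x y z : 𝒳} (φ : x ⟶ y)
    [p.IsHomLift f φ] (ψ : y ⟶ z) [p.IsHomLift (inv f) ψ] :
    p.IsHomLift (𝟙 T) (φ ≫ ψ) := by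
  have h0 : p.IsHomLift (f ≫ inv f) (φ ≫ ψ) := inferInstance
  simpa using h0

section Equiv

variable [p.IsFibered] (K : Cleavage p) {S T : 𝒮} (f : T ⟶ S) [IsIso f]

theorem isIso_lift {a : 𝒳} (ha : p.obj a = S) : IsIso (K.lift ha f) :=
  IsStronglyCartesian.isIso_of_base_isIso p f (K.lift ha f)

theorem faithful_inverseImage : (K.inverseImage f).Faithful where
  map_injective {a b} φ ψ h := by
    apply Fiber.hom_ext
    haveI := isIso_lift K f a.2
    have ha := IsCartesian.fac p f (K.lift b.2 f) (K.lift a.2 f ≫ Fiber.fiberInclusion.map φ)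
    have hb := IsCartesian.fac p f (K.lift b.2 f) (K.lift a.2 f ≫ Fiber.fiberInclusion.map ψ)
    have h1 : Fiber.fiberInclusion.map ((K.inverseImage f).map φ) =
        Fiber.fiberInclusion.map ((K.inverseImage f).map ψ) := by rw [h]
    exact (cancel_epi (K.lift a.2 f)).1
      (ha.symm.trans ((congrArg (· ≫ K.lift b.2 f) h1).trans hb))

theorem full_inverseImage : (K.inverseImage f).Full where
  map_surjective {a b} ψ := by
    haveI := isIso_lift K f a.2
    haveI : p.IsHomLift (𝟙 S)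
        (inv (K.lift a.2 f) ≫ Fiber.fiberInclusion.map ψ ≫ K.lift b.2 f) :=
      isHomLift_conj f (K.lift a.2 f) (Fiber.fiberInclusion.map ψ) (K.lift b.2 f)
    refine ⟨Fiber.homMk p S (inv (K.lift a.2 f) ≫ Fiber.fiberInclusion.map ψ ≫ K.lift b.2 f), ?_⟩
    apply Fiber.hom_ext
    refine (inverseImage_map K f _).trans ?_
    refine (IsCartesian.map_uniq p f (K.lift b.2 f) _ _ ?_).symm
    rw [Fiber.fiberInclusion_homMk, IsIso.hom_inv_id_assoc]

theorem essSurj_inverseImage : (K.inverseImage f).EssSurj where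
  mem_essImage c := by
    let a : p.Fiber S := ⟨K.obj c.2 (inv f), K.obj_proj c.2 (inv f)⟩
    haveI := isIso_lift K f a.2
    haveI := isIso_lift K (inv f) c.2
    haveI : p.IsHomLift (𝟙 T) (K.lift a.2 f ≫ K.lift c.2 (inv f)) :=
      isHomLift_comp_inv f (K.lift a.2 f) (K.lift c.2 (inv f))
    let e : (K.inverseImage f).obj a ⟶ c := Fiber.homMk p T (K.lift a.2 f ≫ K.lift c.2 (inv f))
    haveI : IsIso (Fiber.fiberInclusion.map e) := by
      change IsIso (K.lift a.2 f ≫ K.lift c.2 (inv f))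
      infer_instance
    haveI := isIso_fiber e
    exact ⟨a, ⟨asIso e⟩⟩

theorem isEquivalence_inverseImage : (K.inverseImage f).IsEquivalence where
  faithful := faithful_inverseImage K f
  full := full_inverseImage K f
  essSurj := essSurj_inverseImage K f

end Equiv

section Comp

variable (K : Cleavage p)

/-- In a fibred category, every comparison morphism `c_{f,g}` is an isomorphism. -/
theorem isIso_comp_of_isFibered [p.IsFibered] {R S T : 𝒮} (f : T ⟶ S) (g : R ⟶ T) :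
    IsIso (K.comp f g) := by
  haveI : ∀ a : p.Fiber S, IsIso ((K.comp f g).app a) := fun a => by
    haveI hc : p.IsCartesian (g ≫ f) (K.lift (K.obj_proj a.2 f) g ≫ K.lift a.2 f) :=
      inferInstance
    haveI : IsIso (Fiber.fiberInclusion.map ((K.comp f g).app a)) := by
      rw [comp_app]
      exact (IsCartesian.domainUniqueUpToIso p (g ≫ f) (K.lift a.2 (g ≫ f))
        (K.lift (K.obj_proj a.2 f) g ≫ K.lift a.2 f)).isIso_hom
    exact isIso_fiber _
  exact NatIso.isIso_of_isIso_app _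

/-- A cartesian morphism is the chosen lift up to an isomorphism over the identity. -/
theorem exists_iso_lift {R S : 𝒮} (f : R ⟶ S) {a b : 𝒳} (φ : a ⟶ b) [p.IsCartesian f φ]
    (hb : p.obj b = S) :
    ∃ (e : a ≅ K.obj hb f), p.IsHomLift (𝟙 R) e.hom ∧ e.hom ≫ K.lift hb f = φ :=
  ⟨IsCartesian.domainUniqueUpToIso p f (K.lift hb f) φ, inferInstance,
    IsCartesian.fac p f (K.lift hb f) φ⟩

theorem isFibered_of_isIso_comp
    (h : ∀ (R S T : 𝒮) (f : T ⟶ S) (g : R ⟶ T), IsIso (K.comp f g)) : p.IsFibered := by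
  haveI := K.isPreFibered
  refine ⟨fun {R S T} f g {a b c} φ ψ hφ hψ => ?_⟩
  have hc : p.obj c = T := IsHomLift.codomain_eq p g ψ
  obtain ⟨e1, he1, h1⟩ := exists_iso_lift K g ψ hc
  haveI := he1
  haveI : p.IsCartesian f (φ ≫ e1.hom) := inferInstance
  obtain ⟨e2, he2, h2⟩ := exists_iso_lift K f (φ ≫ e1.hom) (K.obj_proj hc g)
  haveI := he2
  let c' : p.Fiber T := ⟨c, hc⟩
  haveI := h R T S g f
  haveI : IsIso ((K.comp g f).app c') := inferInstance
  let e3 : K.obj (K.obj_proj hc g) f ≅ K.obj hc (f ≫ g) :=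
    asIso (Fiber.fiberInclusion.map ((K.comp g f).app c'))
  have h3 : e3.hom ≫ K.lift hc (f ≫ g) = K.lift (K.obj_proj hc g) f ≫ K.lift hc g :=
    IsCartesian.fac p (f ≫ g) (K.lift hc (f ≫ g)) _
  haveI : p.IsHomLift (𝟙 R) e3.hom := by
    change p.IsHomLift (𝟙 R) (Fiber.fiberInclusion.map ((K.comp g f).app c'))
    infer_instance
  haveI : p.IsHomLift (𝟙 R) (e2 ≪≫ e3).hom := by
    change p.IsHomLift (𝟙 R) (e2.hom ≫ e3.hom)
    infer_instance
  have h4 : φ ≫ ψ = (e2 ≪≫ e3).hom ≫ K.lift hc (f ≫ g) := by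
    rw [Iso.trans_hom, Category.assoc, h3, ← Category.assoc, h2, Category.assoc, h1]
  rw [h4]
  infer_instance

theorem isFibered_iff_isIso_comp :
    p.IsFibered ↔ ∀ (R S T : 𝒮) (f : T ⟶ S) (g : R ⟶ T), IsIso (K.comp f g) :=
  ⟨fun _ _ _ _ f g => isIso_comp_of_isFibered K f g, isFibered_of_isIso_comp K⟩

end Comp

end Groth.Agent.Helper9.FibClv
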