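import Mathlib
import Groth.Agent.Helper9.FibRep

/-! Uniqueness of the representing object of a representable fibred category. -/

set_option autoImplicit false
set_option linter.style.haveILetI false
universe v₃ u₃ v₂ u₂ v u

namespace Groth.Agent.Helper9.FibRep
open CategoryTheory Functor FibCat
open Groth.Agent.Helper3

variable {C : Type u} [Category.{v} C]

lemma isIso_of_isEquivalence_overMap {X' X : C} (f : X' ⟶ X) [(Over.map f).IsEquivalence] :
    IsIso f := by
  have hT : Limits.IsTerminal ((Over.map f).obj (Over.mk (𝟙 X'))) :=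
    Limits.IsTerminal.isTerminalObj (Over.map f) _ Over.mkIdTerminal
  let i := hT.uniqueUpToIso Over.mkIdTerminal
  have h1 := Over.w i.hom
  have h2 : f = i.hom.left := by simpa using h1.symm
  rw [h2]
  exact (inferInstance : IsIso ((Over.forget X).map i.hom))

theorem exists_iso_of_isEquivOver {𝒮 : BasedCategory.{v₂, u₂} C}
    {X X' : C} (j : 𝒮 ⥤ᵇ FibCat.overCat X) (j' : 𝒮 ⥤ᵇ FibCat.overCat X')
    (hj : FibCat.IsEquivOver j) (hj' : FibCat.IsEquivOver j') :
    ∃ e : X' ≅ X, Nonempty (BasedFunctor.comp j'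
      (⟨Over.map e.hom, Over.mapForget_eq e.hom⟩ : FibCat.overCat X' ⥤ᵇ FibCat.overCat X) ≅ j) := by
  obtain ⟨k', hk', ⟨η'⟩, ⟨ε'⟩⟩ := EquivOver.symm hj'
  let H : overCat X' ⥤ᵇ overCat X := BasedFunctor.comp k' j
  let a : Over X := H.obj (Over.mk (𝟙 X'))
  have ha : a.left = X' := H.w_obj (Over.mk (𝟙 X'))
  let f : X' ⟶ X := eqToHom ha.symm ≫ a.hom
  let M : overCat X' ⥤ᵇ overCat X := ⟨Over.map f, Over.mapForget_eq f⟩
  -- iso in the fibre
  have hw : eqToHom ha.symm ≫ a.hom = 𝟙 X' ≫ f := by simp [f]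
  let ι : M.obj (Over.mk (𝟙 X')) ≅ a := Over.isoMk (eqToIso ha.symm) hw
  have hι : (overCat X).p.IsHomLift (𝟙 X') ι.hom :=
    IsHomLift.of_fac (Over.forget X) (𝟙 X') ι.hom rfl ha (by
      change 𝟙 _ = eqToHom rfl ≫ eqToHom ha.symm ≫ eqToHom ha
      simp)
  have hιinv : (overCat X).p.IsHomLift (𝟙 X') ι.inv := by
    have := IsHomLift.lift_id_inv_isIso (overCat X).p X' ι.hom
    rwa [IsIso.Iso.inv_hom] at this
  let ιF : (evalAtId (overCat X) X').obj M ≅ (evalAtId (overCat X) X').obj H :=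
    { hom := ⟨ι.hom, hι⟩
      inv := ⟨ι.inv, hιinv⟩
      hom_inv_id := Functor.Fiber.hom_ext ι.hom_inv_id
      inv_hom_id := Functor.Fiber.hom_ext ι.inv_hom_id }
  haveI := TwoYoneda.evalAtId_isEquivalence_of_isFibGrpd (𝒳 := overCat X) X' (isFibGrpd_overCat X)
  let α : M ≅ H := (evalAtId (overCat X) X').preimageIso ιF
  let α' : M.toFunctor ≅ H.toFunctor := (BasedNatTrans.forgetful _ _).mapIso α
  -- `f` is an isomorphism
  haveI : k'.toFunctor.IsEquivalence := EquivOver.isEquivalence hk'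
  haveI : j.toFunctor.IsEquivalence := EquivOver.isEquivalence hj
  haveI : H.toFunctor.IsEquivalence := by
    change (k'.toFunctor ⋙ j.toFunctor).IsEquivalence
    infer_instance
  haveI hM : M.toFunctor.IsEquivalence := Functor.isEquivalence_of_iso α'.symm
  haveI : (Over.map f).IsEquivalence := hM
  haveI : IsIso f := isIso_of_isEquivalence_overMap f
  refine ⟨asIso f, ⟨?_⟩⟩
  let η₀ : j'.toFunctor ⋙ k'.toFunctor ≅ 𝟭 𝒮.obj := (BasedNatTrans.forgetful _ _).mapIso η'
  let β : j'.toFunctor ⋙ M.toFunctor ≅ j.toFunctor :=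
    NatIso.ofComponents (fun s => (α'.app (j'.obj s)) ≪≫ j.toFunctor.mapIso (η₀.app s))
      (fun {s s'} g => by
        change M.toFunctor.map (j'.toFunctor.map g) ≫
          (α'.hom.app (j'.obj s') ≫ j.toFunctor.map (η₀.hom.app s')) =
          (α'.hom.app (j'.obj s) ≫ j.toFunctor.map (η₀.hom.app s)) ≫ j.toFunctor.map g
        have n1 := α'.hom.naturality (j'.toFunctor.map g)
        have n2 := η₀.hom.naturality g
        have h3 : H.toFunctor.map (j'.toFunctor.map g) ≫ j.toFunctor.map (η₀.hom.app s') =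
            j.toFunctor.map (η₀.hom.app s) ≫ j.toFunctor.map g := by
          change j.toFunctor.map (k'.toFunctor.map (j'.toFunctor.map g)) ≫
            j.toFunctor.map (η₀.hom.app s') = _
          rw [← j.toFunctor.map_comp, ← j.toFunctor.map_comp]
          congr 1
        exact (Category.assoc _ _ _).symm.trans
          ((congrArg (· ≫ j.toFunctor.map (η₀.hom.app s')) n1).trans
            ((Category.assoc _ _ _).trans
              ((congrArg (α'.hom.app (j'.obj s) ≫ ·) h3).trans (Category.assoc _ _ _).symm))))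
  have hβ : ∀ s : 𝒮.obj, β.hom.app s =
      α.hom.toNatTrans.app (j'.obj s) ≫ j.map (η'.hom.toNatTrans.app s) := fun s => rfl
  have key : BasedFunctor.comp j' M ≅ j := by
    refine BasedNatIso.mkNatIso β (fun s => ?_)
    have h1 : (overCat X).p.IsHomLift (𝟙 (𝒮.p.obj s)) (α.hom.toNatTrans.app (j'.obj s)) :=
      BasedNatTrans.isHomLift α.hom (j'.w_obj s)
    have h2 : (overCat X).p.IsHomLift (𝟙 (𝒮.p.obj s)) (j.map (η'.hom.toNatTrans.app s)) :=
      BasedFunctor.preserves_isHomLift _ _ _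
    rw [hβ]
    exact @IsHomLift.comp_of_lift_id _ _ _ _ (overCat X).p (𝒮.p.obj s) _ _ _ _ _ h1 h2
  exact key

end Groth.Agent.Helper9.FibRep
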