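import Mathlib

set_option autoImplicit false

namespace Groth.Agent.Helper9.FibreDense

open scoped TensorProduct

universe u v w

variable {k : Type u} [Field k] {A : Type v} [CommRing A] [Algebra k A]
variable {R : Type w} [CommRing R] [Algebra k R]

section theta

variable (q : Ideal R)

/-- Reduction modulo `q` on `R ⊗ A`. -/
noncomputable def theta : R ⊗[k] A →ₐ[k] (R ⧸ q) ⊗[k] A :=
  Algebra.TensorProduct.map (Ideal.Quotient.mkₐ k q) (AlgHom.id k A)

lemma theta_smul (r : R) (t : R ⊗[k] A) :
    theta (A := A) q (r • t) = (Ideal.Quotient.mk q r) • theta q t := by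
  induction t using TensorProduct.induction_on with
  | zero => simp
  | add x y hx hy => simp only [smul_add, map_add, hx, hy]
  | tmul x a =>
    rw [TensorProduct.smul_tmul', theta, Algebra.TensorProduct.map_tmul,
      Algebra.TensorProduct.map_tmul, TensorProduct.smul_tmul', smul_eq_mul, map_mul]
    rfl

variable {ι : Type*} (b : Module.Basis ι k A)

lemma theta_basis (i : ι) :
    theta q (Algebra.TensorProduct.basis R b i) = Algebra.TensorProduct.basis (R ⧸ q) b i := by
  rw [Algebra.TensorProduct.basis_apply, Algebra.TensorProduct.basis_apply, theta,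
    Algebra.TensorProduct.map_tmul, map_one]
  rfl

lemma repr_theta (t : R ⊗[k] A) (i : ι) :
    (Algebra.TensorProduct.basis (R ⧸ q) b).repr (theta q t) i =
      Ideal.Quotient.mk q ((Algebra.TensorProduct.basis R b).repr t i) := by
  induction t using TensorProduct.induction_on with
  | zero => simp
  | add x y hx hy => simp only [map_add, Finsupp.add_apply, hx, hy]
  | tmul r a =>
    rw [theta, Algebra.TensorProduct.map_tmul, Algebra.TensorProduct.basis_repr_tmul,
      Algebra.TensorProduct.basis_repr_tmul]
    simp only [Finsupp.smul_apply, Finsupp.mapRange_apply, smul_eq_mul, map_mul,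
      Ideal.Quotient.mkₐ_eq_mk, AlgHom.id_apply]
    rfl

end theta

end Groth.Agent.Helper9.FibreDense
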