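import Mathlib
import Groth.Agent.Helper9.FibreDense0

set_option autoImplicit false

namespace Groth.Agent.Helper9.FibreDense

open scoped TensorProduct

universe u v w

variable {k : Type u} [Field k] {A : Type v} [CommRing A] [Algebra k A]
variable {R : Type w} [CommRing R] [Algebra k R]

/-- existence of a functional -/
lemma exists_functional (q : Ideal R) [q.IsMaximal] (F : Ideal R) (x : F) (hx : (x : R) ∉ q • F) :
    ∃ μ : ↥F →ₗ[R] (R ⧸ q), μ x ≠ 0 := by
  let _ : Field (R ⧸ q) := Ideal.Quotient.field q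
  let V := ↥F ⧸ (q • ⊤ : Submodule R ↥F)
  have hv : (Submodule.Quotient.mk x : V) ≠ 0 := by
    rw [Ne, Submodule.Quotient.mk_eq_zero]
    intro hmem
    apply hx
    have h1 : Submodule.map F.subtype (q • (⊤ : Submodule R ↥F)) = q • F := by
      rw [Submodule.map_smul'', Submodule.map_top, Submodule.range_subtype]
    rw [← h1]
    exact ⟨x, hmem, rfl⟩
  obtain ⟨lam, hlam⟩ : ∃ lam : Module.Dual (R ⧸ q) V, lam (Submodule.Quotient.mk x) ≠ 0 := by
    by_contra hcon
    push Not at hcon
    exact hv ((Module.forall_dual_apply_eq_zero_iff (R ⧸ q) _).mp hcon)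
  exact ⟨(lam.restrictScalars R) ∘ₗ (q • ⊤ : Submodule R ↥F).mkQ, hlam⟩

/-- Key algebraic lemma: if `s * f = 0` and the `R`-annihilator of `f` is contained in the maximal
ideal `q`, then `s` dies in the fibre ring `(R ⧸ q) ⊗ A`, provided the latter is a domain. -/
theorem theta_eq_zero_of_mul_eq_zero (q : Ideal R) [hqmax : q.IsMaximal]
    [IsDomain ((R ⧸ q) ⊗[k] A)] (f s : R ⊗[k] A) (hq : ∀ r : R, r • f = 0 → r ∈ q)
    (hs : s * f = 0) : theta q s = 0 := by
  classical
  by_contra hθs
  let K := R ⧸ q
  let T := R ⊗[k] A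
  let D := K ⊗[k] A
  let b := Module.Free.chooseBasis k A
  let B := Algebra.TensorProduct.basis R b
  let B' := Algebra.TensorProduct.basis K b
  let c := B.repr f
  let F : Ideal R := Ideal.span (↑(c.support.image c) : Set R)
  have hFfg : (F : Submodule R R).FG := Submodule.fg_span (Finset.finite_toSet _)
  have hcF : ∀ i, c i ∈ F := by
    intro i
    by_cases hi : i ∈ c.support
    · exact Ideal.subset_span (Finset.mem_coe.mpr (Finset.mem_image_of_mem c hi))
    · rw [Finsupp.notMem_support_iff.mp hi]; exact F.zero_mem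
  have hfsum : f = ∑ i ∈ c.support, c i • B i := by
    conv_lhs => rw [← B.linearCombination_repr f]
    rfl
  -- Nakayama
  have hFq : ¬ F ≤ q • F := by
    intro hle
    obtain ⟨r, hr1, hr2⟩ :=
      Submodule.exists_sub_one_mem_and_smul_eq_zero_of_fg_of_le_smul q F hFfg hle
    have hrf : r • f = 0 := by
      rw [hfsum, Finset.smul_sum]
      refine Finset.sum_eq_zero fun i _ => ?_
      rw [← mul_smul]
      have := hr2 (c i) (hcF i)
      rw [smul_eq_mul] at this
      rw [this, zero_smul]
    have hrq := hq r hrf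
    have h1 : (1 : R) ∈ q := by
      have := q.sub_mem hrq hr1
      simpa using this
    exact hqmax.ne_top ((Ideal.eq_top_iff_one q).mpr h1)
  obtain ⟨i₀, hi₀supp, hi₀⟩ : ∃ i₀ ∈ c.support, c i₀ ∉ q • F := by
    by_contra hcon
    push Not at hcon
    apply hFq
    rw [Ideal.span_le]
    intro x hx
    obtain ⟨i, hi, rfl⟩ := Finset.mem_image.mp (Finset.mem_coe.mp hx)
    exact hcon i hi
  obtain ⟨μ, hμ⟩ := exists_functional q F ⟨c i₀, hcF i₀⟩ hi₀
  -- tensor machinery
  let Ls : T →ₗ[R] T := LinearMap.mulLeft R s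
  let ftil : ↥F ⊗[R] T := ∑ i ∈ c.support, (⟨c i, hcF i⟩ : F) ⊗ₜ[R] B i
  let j : ↥F ⊗[R] T →ₗ[R] T := (TensorProduct.lid R T).toLinearMap ∘ₗ (F.subtype.rTensor T)
  have hjinj : Function.Injective j := by
    have : Module.Flat R T := inferInstance
    exact (TensorProduct.lid R T).injective.comp
      (Module.Flat.rTensor_preserves_injective_linearMap (M := T) F.subtype Subtype.val_injective)
  have hj : ∀ (x : F) (t : T), j (x ⊗ₜ t) = (x : R) • t := by
    intro x t
    simp [j]
  have hjf : j ftil = f := by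
    simp only [ftil, map_sum, hj]
    exact hfsum.symm
  have hjL : ∀ z, j (Ls.lTensor F z) = s * j z := by
    intro z
    induction z using TensorProduct.induction_on with
    | zero => simp
    | add x y hx hy => simp only [map_add, hx, hy, mul_add]
    | tmul x t =>
      rw [LinearMap.lTensor_tmul, hj, hj]
      simp [Ls]
  have hL0 : Ls.lTensor F ftil = 0 := by
    apply hjinj
    rw [hjL, hjf, hs, map_zero]
  -- the map Ω
  let Ω0 : K →+ T →+ D :=
    { toFun := fun κ =>
        { toFun := fun t => κ • theta q t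
          map_zero' := by simp
          map_add' := fun t t' => by simp [smul_add] }
      map_zero' := by ext t; simp
      map_add' := fun κ κ' => by ext t; simp [add_smul] }
  have hΩ0 : ∀ (r : R) (κ : K) (t : T), Ω0 (r • κ) t = Ω0 κ (r • t) := by
    intro r κ t
    show (r • κ) • theta q t = κ • theta q (r • t)
    rw [theta_smul, smul_smul, Algebra.smul_def, mul_comm]
    rfl
  let Ω : K ⊗[R] T →+ D := TensorProduct.liftAddHom Ω0 hΩ0
  have hΩ : ∀ (κ : K) (t : T), Ω (κ ⊗ₜ t) = κ • theta q t := fun κ t => rfl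
  have hΩL : ∀ w, Ω (Ls.lTensor K w) = theta q s * Ω w := by
    intro w
    induction w using TensorProduct.induction_on with
    | zero => simp
    | add x y hx hy => simp only [map_add, hx, hy, mul_add]
    | tmul κ t =>
      rw [LinearMap.lTensor_tmul, hΩ, hΩ]
      simp [Ls, mul_smul_comm]
  have hcomm : ∀ z : ↥F ⊗[R] T, μ.rTensor T (Ls.lTensor F z) = Ls.lTensor K (μ.rTensor T z) := by
    intro z
    induction z using TensorProduct.induction_on with
    | zero => simp
    | add x y hx hy => simp only [map_add, hx, hy]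
    | tmul x t => simp only [LinearMap.rTensor_tmul, LinearMap.lTensor_tmul]
  have h0 : theta q s * Ω (μ.rTensor T ftil) = 0 := by
    rw [← hΩL, ← hcomm ftil, hL0, map_zero, map_zero]
  have h1 : Ω (μ.rTensor T ftil) = 0 := (mul_eq_zero.mp h0).resolve_left hθs
  have h2 : Ω (μ.rTensor T ftil) = ∑ i ∈ c.support, μ ⟨c i, hcF i⟩ • B' i := by
    simp only [ftil, map_sum, LinearMap.rTensor_tmul, hΩ]
    refine Finset.sum_congr rfl fun i _ => ?_
    rw [theta_basis]
  rw [h2] at h1
  have h3 := linearIndependent_iff'.mp B'.linearIndependent c.support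
    (fun i => μ ⟨c i, hcF i⟩) h1 i₀ hi₀supp
  exact hμ h3

end Groth.Agent.Helper9.FibreDense
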