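import Mathlib

/-! Split filtrations: a retract of a split filtered module is split. -/

set_option autoImplicit false
universe u v w

namespace Groth.Agent.Helper9.FiltSplit

open DirectSum

section proj

variable {Γ : Type w} [DecidableEq Γ] {R : Type u} [CommRing R] {M : Type v} [AddCommGroup M] [Module R M]
  (G : Γ → Submodule R M) [DirectSum.Decomposition G]

/-- projection to the `γ`-component, as an endomorphism. -/
noncomputable def pr (γ : Γ) : M →ₗ[R] M :=
  (G γ).subtype ∘ₗ (DirectSum.component R Γ (fun i => G i) γ) ∘ₗ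
    (DirectSum.decomposeLinearEquiv G).toLinearMap

lemma pr_apply (γ : Γ) (x : M) : pr G γ x = (DirectSum.decompose G x γ : M) := rfl

lemma pr_mem (γ : Γ) (x : M) : pr G γ x ∈ G γ := (DirectSum.decompose G x γ).2

lemma pr_of_mem_same {γ : Γ} {x : M} (hx : x ∈ G γ) : pr G γ x = x :=
  DirectSum.decompose_of_mem_same G hx

lemma pr_of_mem_ne {γ η : Γ} {x : M} (hx : x ∈ G γ) (h : γ ≠ η) : pr G η x = 0 :=
  DirectSum.decompose_of_mem_ne G hx h

lemma eq_zero_of_forall_pr (x : M) (h : ∀ γ, pr G γ x = 0) : x = 0 := by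
  classical
  rw [← DirectSum.sum_support_decompose G x]
  exact Finset.sum_eq_zero fun γ _ => h γ

lemma biSup_le_ker (S : Set Γ) (η : Γ) (hη : η ∉ S) :
    (⨆ γ ∈ S, G γ) ≤ LinearMap.ker (pr G η) := by
  refine iSup₂_le fun γ hγ x hx => ?_
  rw [LinearMap.mem_ker]
  exact pr_of_mem_ne G hx (fun h => hη (h ▸ hγ))

lemma mem_biSup_iff (S : Set Γ) (x : M) :
    x ∈ (⨆ γ ∈ S, G γ) ↔ ∀ η, η ∉ S → pr G η x = 0 := by
  classical
  constructor
  · intro hx η hη
    exact LinearMap.mem_ker.mp (biSup_le_ker G S η hη hx)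
  · intro h
    rw [← DirectSum.sum_support_decompose G x]
    refine Submodule.sum_mem _ fun γ _ => ?_
    by_cases hγ : γ ∈ S
    · exact Submodule.mem_iSup_of_mem γ (Submodule.mem_iSup_of_mem hγ (pr_mem G γ x))
    · have := h γ hγ
      rw [pr_apply] at this
      rw [this]
      exact Submodule.zero_mem _

/-- finitely many nonzero pieces -/
lemma exists_finset_eq_bot [Module.Finite R M] : ∃ T : Finset Γ, ∀ η, η ∉ T → G η = ⊥ := by
  classical
  obtain ⟨s, hs⟩ := (Module.Finite.fg_top : (⊤ : Submodule R M).FG)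
  refine ⟨s.biUnion fun m => (DirectSum.decompose G m).support, fun η hη => ?_⟩
  rw [eq_bot_iff]
  intro x hx
  have h0 : pr G η = 0 := by
    apply LinearMap.ext_on_range (v := fun m : s => (m : M))
    · rw [Subtype.range_coe_subtype]
      simpa using hs
    · intro m
      rw [LinearMap.zero_apply, pr_apply]
      have : η ∉ (DirectSum.decompose G (m : M)).support := by
        intro h
        exact hη (Finset.mem_biUnion.mpr ⟨m, m.2, h⟩)
      rw [DFinsupp.notMem_support_iff] at this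
      rw [this]
      rfl
  rw [Submodule.mem_bot, ← pr_of_mem_same G hx, h0, LinearMap.zero_apply]

end proj

section retract

variable {Γ : Type w} [LinearOrder Γ] {R : Type u} [CommRing R]
  {M : Type v} [AddCommGroup M] [Module R M] [Module.Finite R M]
  {N : Type*} [AddCommGroup N] [Module R N]

theorem retract_split (ι : N →ₗ[R] M) (π : M →ₗ[R] N) (hπι : ∀ x, π (ι x) = x)
    (F : Γ → Submodule R M) (FN : Γ → Submodule R N)
    (h1 : ∀ γ x, x ∈ FN γ ↔ ι x ∈ F γ) (h2 : ∀ γ x, x ∈ F γ → π x ∈ FN γ)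
    (G : Γ → Submodule R M) (hG : DirectSum.IsInternal G)
    (hFG : ∀ γ, F γ = ⨆ η ∈ Set.Ici γ, G η) :
    ∃ GN : Γ → Submodule R N, DirectSum.IsInternal GN ∧ ∀ γ, FN γ = ⨆ η ∈ Set.Ici γ, GN η := by
  classical
  let dec : DirectSum.Decomposition G := hG.chooseDecomposition
  obtain ⟨T, hT⟩ := exists_finset_eq_bot G
  -- basic facts
  have hGF : ∀ γ, G γ ≤ F γ := by
    intro γ
    rw [hFG γ]
    exact le_iSup₂_of_le γ (Set.mem_Ici.mpr le_rfl) le_rfl
  have hFanti : ∀ γ η, γ ≤ η → F η ≤ F γ := by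
    intro γ η h
    rw [hFG γ, hFG η]
    exact iSup₂_le fun ζ hζ => le_iSup₂_of_le ζ (Set.mem_Ici.mpr (h.trans hζ)) le_rfl
  have hFpr : ∀ γ η x, x ∈ F η → γ < η → pr G γ x = 0 := by
    intro γ η x hx hlt
    rw [hFG η] at hx
    exact (mem_biSup_iff G _ x).mp hx γ (fun h => not_le.mpr hlt (Set.mem_Ici.mp h))
  have hFmem : ∀ γ x, (∀ η, η < γ → pr G η x = 0) → x ∈ F γ := by
    intro γ x h
    rw [hFG γ, mem_biSup_iff]
    intro η hη
    exact h η (not_le.mp fun hle => hη (Set.mem_Ici.mpr hle))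
  have hTpr : ∀ η, η ∉ T → ∀ x, pr G η x = 0 := by
    intro η hη x
    have := pr_mem G η x
    rw [hT η hη, Submodule.mem_bot] at this
    exact this
  -- key idempotency claim
  have hkey : ∀ γ z, z ∈ F γ → ι (π z) = z → pr G γ (ι (π (pr G γ z))) = pr G γ z := by
    intro γ z hz hez
    have hw : z - pr G γ z ∈ ⨆ η ∈ Set.Ioi γ, G η := by
      rw [mem_biSup_iff]
      intro η hη
      rw [map_sub]
      rcases lt_trichotomy η γ with hlt | heq | hgt
      · rw [hFpr η γ z hz hlt, pr_of_mem_ne G (pr_mem G γ z) (ne_of_gt hlt), sub_zero]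
      · subst heq
        rw [pr_of_mem_same G (pr_mem G η z), sub_self]
      · exact absurd (Set.mem_Ioi.mpr hgt) hη
    have hker : (⨆ η ∈ Set.Ioi γ, G η) ≤ LinearMap.ker ((pr G γ) ∘ₗ ι ∘ₗ π) := by
      refine iSup₂_le fun η hη x hx => ?_
      rw [LinearMap.mem_ker]
      show pr G γ (ι (π x)) = 0
      have hx' : ι (π x) ∈ F η := (h1 η _).mp (h2 η x (hGF η hx))
      exact hFpr γ η _ hx' (Set.mem_Ioi.mp hη)
    have h3 : pr G γ (ι (π (z - pr G γ z))) = 0 := LinearMap.mem_ker.mp (hker hw)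
    rw [map_sub, map_sub, map_sub, hez, sub_eq_zero] at h3
    exact h3.symm
  -- the candidate grading
  let q : Γ → (N →ₗ[R] N) := fun γ => π ∘ₗ (pr G γ) ∘ₗ ι
  have hq : ∀ γ x, q γ x = π (pr G γ (ι x)) := fun _ _ => rfl
  let GN : Γ → Submodule R N := fun γ => (FN γ).map (q γ)
  have hFNanti : ∀ γ η, γ ≤ η → FN η ≤ FN γ := by
    intro γ η h x hx
    exact (h1 γ x).mpr (hFanti γ η h ((h1 η x).mp hx))
  have ha : ∀ γ, GN γ ≤ FN γ := by
    rintro γ _ ⟨x, hx, rfl⟩
    exact h2 γ _ (hGF γ (pr_mem G γ _))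
  have hb : ∀ γ η x, x ∈ FN η → γ < η → q γ x = 0 := by
    intro γ η x hx hlt
    rw [hq, hFpr γ η _ ((h1 η x).mp hx) hlt, map_zero]
  have hc : ∀ γ y, y ∈ GN γ → q γ y = y := by
    rintro γ _ ⟨x, hx, rfl⟩
    rw [hq, hq, hkey γ (ι x) ((h1 γ x).mp hx) (by rw [hπι])]
  -- independence
  have hindep : iSupIndep GN := by
    apply iSupIndep_of_dfinsupp_lsum_injective
    rw [← LinearMap.ker_eq_bot, LinearMap.ker_eq_bot']
    intro v hv
    by_contra hne
    have hsupp : v.support.Nonempty := by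
      rw [Finset.nonempty_iff_ne_empty, Ne, DFinsupp.support_eq_empty]
      exact hne
    let γ₀ := v.support.min' hsupp
    have hγ₀ : γ₀ ∈ v.support := Finset.min'_mem _ _
    have hsum : ∑ γ ∈ v.support, ((v γ : GN γ) : N) = 0 := by
      rw [DFinsupp.lsum_apply_apply] at hv
      simpa [DFinsupp.sumAddHom_apply, DFinsupp.sum] using hv
    have h4 := congrArg (q γ₀) hsum
    rw [map_sum, map_zero, Finset.sum_eq_single γ₀] at h4
    · rw [hc γ₀ _ (v γ₀).2] at h4
      exact (DFinsupp.mem_support_iff.mp hγ₀) (Subtype.ext h4)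
    · intro γ hγ hne'
      have hlt : γ₀ < γ := lt_of_le_of_ne (Finset.min'_le _ _ hγ) (Ne.symm hne')
      exact hb γ₀ γ _ (ha γ (v γ).2) hlt
    · intro h; exact absurd hγ₀ h
  -- spanning claim
  have hspan : ∀ (S : Finset Γ), (∀ η ∈ S, ∀ ζ ∈ T, η ≤ ζ → ζ ∈ S) →
      ∀ x : N, (∀ η, η ∉ S → pr G η (ι x) = 0) → x ∈ ⨆ η ∈ S, GN η := by
    intro S
    induction S using Finset.strongInduction with
    | H S ih =>
      intro hup x hx
      by_cases hall : ∀ η, pr G η (ι x) = 0
      · have : ι x = 0 := eq_zero_of_forall_pr G _ hall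
        have hx0 : x = 0 := by rw [← hπι x, this, map_zero]
        rw [hx0]; exact Submodule.zero_mem _
      · push Not at hall
        have hSx : (S.filter fun η => pr G η (ι x) ≠ 0).Nonempty := by
          obtain ⟨η, hη⟩ := hall
          refine ⟨η, Finset.mem_filter.mpr ⟨?_, hη⟩⟩
          by_contra hηS
          exact hη (hx η hηS)
        let η₀ := (S.filter fun η => pr G η (ι x) ≠ 0).min' hSx
        have hη₀mem : η₀ ∈ S.filter fun η => pr G η (ι x) ≠ 0 := Finset.min'_mem _ _
        have hη₀S : η₀ ∈ S := (Finset.mem_filter.mp hη₀mem).1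
        have hlow : ∀ η, η < η₀ → pr G η (ι x) = 0 := by
          intro η hlt
          by_contra hne
          by_cases hηS : η ∈ S
          · have : η₀ ≤ η := Finset.min'_le _ _ (Finset.mem_filter.mpr ⟨hηS, hne⟩)
            exact not_le.mpr hlt this
          · exact hne (hx η hηS)
        have hzF : ι x ∈ F η₀ := hFmem η₀ _ hlow
        have hxFN : x ∈ FN η₀ := (h1 η₀ x).mpr hzF
        have hyGN : q η₀ x ∈ GN η₀ := ⟨x, hxFN, rfl⟩
        have hyFN : q η₀ x ∈ FN η₀ := ha η₀ hyGN
        let S' := S.filter fun η => η₀ < η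
        have hS'sub : S' ⊂ S := by
          refine Finset.ssubset_iff_subset_ne.mpr ⟨Finset.filter_subset _ _, fun heq => ?_⟩
          have : η₀ ∈ S' := heq ▸ hη₀S
          exact lt_irrefl _ (Finset.mem_filter.mp this).2
        have hup' : ∀ η ∈ S', ∀ ζ ∈ T, η ≤ ζ → ζ ∈ S' := by
          intro η hη ζ hζ hle
          have hη' := Finset.mem_filter.mp hη
          exact Finset.mem_filter.mpr ⟨hup η hη'.1 ζ hζ hle, lt_of_lt_of_le hη'.2 hle⟩
        have hx' : ∀ η, η ∉ S' → pr G η (ι (x - q η₀ x)) = 0 := by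
          intro η hη
          rw [map_sub, map_sub]
          rcases lt_trichotomy η η₀ with hlt | heq | hgt
          · rw [hlow η hlt, hFpr η η₀ _ ((h1 η₀ _).mp hyFN) hlt, sub_zero]
          · subst heq
            rw [hq, hkey _ (ι x) hzF (by rw [hπι]), sub_self]
          · have hηS : η ∉ S := fun h => hη (Finset.mem_filter.mpr ⟨h, hgt⟩)
            have hηT : η ∉ T := fun h => hηS (hup η₀ hη₀S η h hgt.le)
            rw [hTpr η hηT, hTpr η hηT, sub_zero]
        have h5 := ih S' hS'sub hup' (x - q η₀ x) hx'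
        have h6 : (⨆ η ∈ S', GN η) ≤ ⨆ η ∈ S, GN η :=
          iSup₂_le fun η hη => le_iSup₂_of_le η (Finset.filter_subset _ _ hη) le_rfl
        have h7 : q η₀ x ∈ ⨆ η ∈ S, GN η :=
          (le_iSup₂_of_le η₀ hη₀S le_rfl : GN η₀ ≤ ⨆ η ∈ S, GN η) hyGN
        have := Submodule.add_mem _ (h6 h5) h7
        rwa [sub_add_cancel] at this
  refine ⟨GN, ?_, ?_⟩
  · refine DirectSum.isInternal_submodule_of_iSupIndep_of_iSup_eq_top hindep ?_
    rw [eq_top_iff]
    rintro x -
    have := hspan T (fun η _ ζ hζ _ => hζ) x (fun η hη => hTpr η hη _)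
    exact (iSup₂_le fun η _ => le_iSup GN η : (⨆ η ∈ T, GN η) ≤ iSup GN) this
  · intro γ
    apply le_antisymm
    · intro x hx
      have hzF := (h1 γ x).mp hx
      have := hspan (T.filter fun η => γ ≤ η)
        (fun η hη ζ hζ hle => Finset.mem_filter.mpr ⟨hζ, (Finset.mem_filter.mp hη).2.trans hle⟩) x
        (fun η hη => by
          by_cases hηT : η ∈ T
          · have hlt : η < γ := not_le.mp fun hle => hη (Finset.mem_filter.mpr ⟨hηT, hle⟩)
            exact hFpr η γ _ hzF hlt
          · exact hTpr η hηT _)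
      refine (iSup₂_le fun η hη => ?_ : (⨆ η ∈ T.filter fun η => γ ≤ η, GN η) ≤ _) this
      exact le_iSup₂_of_le η (Set.mem_Ici.mpr (Finset.mem_filter.mp hη).2) le_rfl
    · exact iSup₂_le fun η hη => (ha η).trans (hFNanti γ η (Set.mem_Ici.mp hη))

end retract

section prod

variable {Γ : Type w} [LinearOrder Γ] {R : Type u} [CommRing R] {A : Type v} [Fintype A]
  (M : A → Type v) [∀ a, AddCommGroup (M a)] [∀ a, Module R (M a)]

theorem prod_split (F : ∀ a, Γ → Submodule R (M a))
    (h : ∀ a, ∃ G : Γ → Submodule R (M a), DirectSum.IsInternal G ∧ ∀ γ, F a γ = ⨆ η ∈ Set.Ici γ, G η) :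
    ∃ G : Γ → Submodule R (∀ a, M a), DirectSum.IsInternal G ∧
        ∀ γ, Submodule.pi Set.univ (fun a => F a γ) = ⨆ η ∈ Set.Ici γ, G η := by
  classical
  choose Ga hGa hFa using h
  let G : Γ → Submodule R (∀ a, M a) := fun γ => Submodule.pi Set.univ (fun a => Ga a γ)
  have hsingle : ∀ a γ (y : M a), y ∈ Ga a γ → (Pi.single a y : ∀ a, M a) ∈ G γ := by
    intro a γ y hy b _
    by_cases hb : b = a
    · subst hb; simpa using hy
    · rw [Pi.single_eq_of_ne hb]; exact Submodule.zero_mem _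
  have hsum : ∀ x : (∀ a, M a), x = ∑ a, (Pi.single a (x a) : ∀ a, M a) :=
    fun x => (Finset.univ_sum_single x).symm
  refine ⟨G, ?_, ?_⟩
  · refine DirectSum.isInternal_submodule_of_iSupIndep_of_iSup_eq_top ?_ ?_
    · intro γ
      rw [Submodule.disjoint_def]
      intro x hx hx'
      funext a
      have h1 : x a ∈ Ga a γ := hx a trivial
      have h2 : x a ∈ ⨆ (η) (_ : η ≠ γ), Ga a η := by
        have hle : (⨆ (η) (_ : η ≠ γ), G η) ≤
            (⨆ (η) (_ : η ≠ γ), Ga a η).comap (LinearMap.proj a) := by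
          refine iSup₂_le fun η hη y hy => ?_
          exact (le_iSup₂_of_le η hη le_rfl : Ga a η ≤ ⨆ (η) (_ : η ≠ γ), Ga a η) (hy a trivial)
        exact hle hx'
      have hd := (hGa a).submodule_iSupIndep γ
      exact (Submodule.disjoint_def.mp hd) (x a) h1 h2
    · rw [eq_top_iff]
      rintro x -
      rw [hsum x]
      refine Submodule.sum_mem _ fun a _ => ?_
      have hxa : x a ∈ iSup (Ga a) := by rw [(hGa a).submodule_iSup_eq_top]; trivial
      have hle : iSup (Ga a) ≤ (iSup G).comap (LinearMap.single R M a) := by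
        refine iSup_le fun γ y hy => ?_
        exact (le_iSup G γ) (hsingle a γ y hy)
      exact hle hxa
  · intro γ
    apply le_antisymm
    · intro x hx
      rw [hsum x]
      refine Submodule.sum_mem _ fun a _ => ?_
      have hxa : x a ∈ ⨆ η ∈ Set.Ici γ, Ga a η := by rw [← hFa a γ]; exact hx a trivial
      have hle : (⨆ η ∈ Set.Ici γ, Ga a η) ≤
          (⨆ η ∈ Set.Ici γ, G η).comap (LinearMap.single R M a) := by
        refine iSup₂_le fun η hη y hy => ?_
        exact (le_iSup₂_of_le η hη le_rfl : G η ≤ ⨆ η ∈ Set.Ici γ, G η) (hsingle a η y hy)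
      exact hle hxa
    · refine iSup₂_le fun η hη x hx a _ => ?_
      show x a ∈ F a γ
      rw [hFa a γ]
      exact (le_iSup₂_of_le η hη le_rfl : Ga a η ≤ ⨆ η ∈ Set.Ici γ, Ga a η) (hx a trivial)

theorem factor_split [∀ a, Module.Finite R (M a)] (F : ∀ a, Γ → Submodule R (M a))
    (h : ∃ G : Γ → Submodule R (∀ a, M a), DirectSum.IsInternal G ∧
        ∀ γ, Submodule.pi Set.univ (fun a => F a γ) = ⨆ η ∈ Set.Ici γ, G η) (a : A) :
    ∃ G : Γ → Submodule R (M a), DirectSum.IsInternal G ∧ ∀ γ, F a γ = ⨆ η ∈ Set.Ici γ, G η := by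
  classical
  obtain ⟨G, hG, hFG⟩ := h
  refine retract_split (LinearMap.single R M a) (LinearMap.proj a) (fun x => by simp)
    (fun γ => Submodule.pi Set.univ (fun a => F a γ)) (F a) ?_ ?_ G hG hFG
  · intro γ x
    constructor
    · intro hx b _
      by_cases hb : b = a
      · subst hb; simpa using hx
      · rw [LinearMap.single_apply, Pi.single_eq_of_ne hb]; exact Submodule.zero_mem _
    · intro hx
      simpa using hx a trivial
  · intro γ x hx
    exact hx a trivial

end prod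

end Groth.Agent.Helper9.FiltSplit
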