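import Mathlib
import Groth.Agent.Helper9.FiltSplit

/-! Criterion for a filtration to be split: projective graded pieces + fibre ranks. -/

set_option autoImplicit false
universe u v w

namespace Groth.Agent.Helper9.FiltCrit

open Module

section vec

variable {κ : Type*} [Field κ] {V : Type*} [AddCommGroup V] [Module κ V] [FiniteDimensional κ V]
  {Γ : Type*} [LinearOrder Γ]

lemma jump_ineq (A B C : Submodule κ V) (hBC : B ≤ C) :
    finrank κ ↥(A ⊔ C) + finrank κ B ≤ finrank κ ↥(A ⊔ B) + finrank κ C := by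
  have h1 := Submodule.finrank_sup_add_finrank_inf_eq A C
  have h2 := Submodule.finrank_sup_add_finrank_inf_eq A B
  have h3 : finrank κ ↥(A ⊓ B) ≤ finrank κ ↥(A ⊓ C) :=
    Submodule.finrank_mono (inf_le_inf_left A hBC)
  omega

lemma sum_jump_le (Fx X W : Γ → Submodule κ V) (hWF : ∀ γ, W γ ≤ Fx γ)
    (hFX : ∀ γ η, γ < η → Fx η ≤ X γ) (hFWX : ∀ γ, Fx γ ≤ W γ ⊔ X γ) (hXF : ∀ γ, X γ ≤ Fx γ)
    (S : Finset Γ) :
    ∀ Y : Submodule κ V, (∀ γ ∈ S, Y ≤ X γ) →
      ∑ γ ∈ S, (finrank κ (Fx γ) - finrank κ (X γ)) + finrank κ Y ≤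
        finrank κ ↥((⨆ γ ∈ S, W γ) ⊔ Y) := by
  classical
  induction S using Finset.induction_on_min with
  | empty =>
    intro Y _
    rw [Finset.sum_empty, zero_add]
    exact Submodule.finrank_mono le_sup_right
  | insert a S ha ih =>
    intro Y hY
    have haS : a ∉ S := fun h => lt_irrefl _ (ha a h)
    rw [Finset.sum_insert haS]
    have hY' : ∀ γ ∈ S, Y ≤ X γ := fun γ hγ => hY γ (Finset.mem_insert_of_mem hγ)
    have ih' := ih Y hY'
    set B : Submodule κ V := (⨆ γ ∈ S, W γ) ⊔ Y with hB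
    have hBC : B ≤ X a := by
      refine sup_le (iSup₂_le fun γ hγ => ?_) (hY a (Finset.mem_insert_self a S))
      exact (hWF γ).trans (hFX a γ (ha γ hγ))
    have hsup : (⨆ γ ∈ insert a S, W γ) ⊔ Y = W a ⊔ B := by
      rw [Finset.iSup_insert, hB, sup_assoc]
    rw [hsup]
    have h1 := jump_ineq (W a) B (X a) hBC
    have h2 : W a ⊔ X a = Fx a := le_antisymm (sup_le (hWF a) (hXF a)) (hFWX a)
    rw [h2] at h1
    have h3 : finrank κ (X a) ≤ finrank κ (Fx a) := Submodule.finrank_mono (hXF a)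
    omega

lemma iSup_eq_top_of_finsum (Fx X W : Γ → Submodule κ V) (hWF : ∀ γ, W γ ≤ Fx γ)
    (hFX : ∀ γ η, γ < η → Fx η ≤ X γ) (hFWX : ∀ γ, Fx γ ≤ W γ ⊔ X γ) (hXF : ∀ γ, X γ ≤ Fx γ)
    (hsum : finrank κ V = ∑ᶠ γ, (finrank κ (Fx γ) - finrank κ (X γ))) :
    ⨆ γ, W γ = ⊤ := by
  classical
  by_cases hfin : (Function.support fun γ => finrank κ (Fx γ) - finrank κ (X γ)).Finite
  · rw [finsum_eq_sum_of_support_subset _ (s := hfin.toFinset) (by simp)] at hsum
    have h1 := sum_jump_le Fx X W hWF hFX hFWX hXF hfin.toFinset ⊥ (fun _ _ => bot_le)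
    rw [finrank_bot, add_zero, sup_bot_eq, ← hsum] at h1
    have h2 : (⨆ γ ∈ hfin.toFinset, W γ) ≤ ⨆ γ, W γ := iSup₂_le fun γ _ => le_iSup W γ
    have h3 := Submodule.finrank_mono h2
    apply Submodule.eq_top_of_finrank_eq
    have h4 := Submodule.finrank_le (⨆ γ, W γ)
    omega
  · rw [finsum_of_infinite_support hfin] at hsum
    have : Subsingleton V := Module.finrank_zero_iff.mp hsum
    exact Subsingleton.elim _ _

end vec

section local_global

open TensorProduct

variable {R : Type u} [CommRing R] {M : Type v} [AddCommGroup M] [Module R M] [Module.Finite R M]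

lemma eq_top_of_baseChange_residueField (N : Submodule R M)
    (h : ∀ (m : Ideal R) [m.IsMaximal], N.baseChange m.ResidueField = ⊤) : N = ⊤ := by
  by_contra hne
  have hQ : Nontrivial (M ⧸ N) := Submodule.Quotient.nontrivial_iff.mpr hne
  have hann : Module.annihilator R (M ⧸ N) ≠ ⊤ := by
    intro htop
    have h1 : (1 : R) ∈ Module.annihilator R (M ⧸ N) := by rw [htop]; trivial
    rw [Module.mem_annihilator] at h1
    obtain ⟨x, y, hxy⟩ := hQ
    exact hxy (by rw [← one_smul R x, ← one_smul R y, h1 x, h1 y])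
  obtain ⟨m, hm, hle⟩ := Ideal.exists_le_maximal _ hann
  let κ := m.ResidueField
  -- κ ⊗ (M/N) = 0
  have hsub : Subsingleton (κ ⊗[R] (M ⧸ N)) := by
    have hsurj : Function.Surjective (N.mkQ.baseChange κ) := by
      rw [LinearMap.baseChange_eq_ltensor]
      exact LinearMap.lTensor_surjective _ (Submodule.mkQ_surjective N)
    have hzero : ∀ z : κ ⊗[R] M, N.mkQ.baseChange κ z = 0 := by
      intro z
      have hz : z ∈ N.baseChange κ := by rw [h m]; trivial
      obtain ⟨w, rfl⟩ := hz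
      induction w using TensorProduct.induction_on with
      | zero => simp
      | tmul c n =>
        rw [LinearMap.baseChange_tmul, LinearMap.baseChange_tmul]
        have : N.mkQ (N.subtype n) = 0 := by
          rw [Submodule.mkQ_apply, Submodule.Quotient.mk_eq_zero]
          exact n.2
        rw [this, tmul_zero]
      | add x y hx hy => rw [map_add, map_add, hx, hy, add_zero]
    refine ⟨fun a b => ?_⟩
    obtain ⟨a', rfl⟩ := hsurj a
    obtain ⟨b', rfl⟩ := hsurj b
    rw [hzero a', hzero b']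
  -- transfer to (R/m) ⊗ (M/N) and to (M/N)/m(M/N)
  let e₁ : (R ⧸ m) ≃ₗ[R] κ :=
    LinearEquiv.ofBijective ((Algebra.linearMap (R ⧸ m) κ).restrictScalars R)
      m.bijective_algebraMap_quotient_residueField
  let e₂ : (R ⧸ m) ⊗[R] (M ⧸ N) ≃ₗ[R] κ ⊗[R] (M ⧸ N) :=
    TensorProduct.congr e₁ (LinearEquiv.refl R _)
  have hsub2 : Subsingleton ((R ⧸ m) ⊗[R] (M ⧸ N)) := e₂.toEquiv.subsingleton
  have hsub3 : Subsingleton ((M ⧸ N) ⧸ (m • (⊤ : Submodule R (M ⧸ N)))) :=
    (TensorProduct.quotTensorEquivQuotSMul (M ⧸ N) m).symm.toEquiv.subsingleton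
  have htop : m • (⊤ : Submodule R (M ⧸ N)) = ⊤ := Submodule.Quotient.subsingleton_iff.mp hsub3
  obtain ⟨r, hr1, hr2⟩ := Submodule.exists_sub_one_mem_and_smul_eq_zero_of_fg_of_le_smul m
    (⊤ : Submodule R (M ⧸ N)) Module.Finite.fg_top (le_of_eq htop.symm)
  have hrm : r ∈ m := hle (by
    rw [Module.mem_annihilator]; intro x; exact hr2 x trivial)
  have h1 : (1 : R) ∈ m := by
    have := m.sub_mem hrm hr1
    simpa using this
  exact hm.ne_top ((Ideal.eq_top_iff_one _).mpr h1)

end local_global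

section baseChange_lemmas

open TensorProduct

variable {R : Type u} [CommRing R] {M : Type v} [AddCommGroup M] [Module R M]
  (A : Type*) [CommRing A] [Algebra R A]

lemma baseChange_le_of (p : Submodule R M) (Q : Submodule A (A ⊗[R] M))
    (h : ∀ x ∈ p, ∀ a : A, a ⊗ₜ[R] x ∈ Q) : p.baseChange A ≤ Q := by
  rintro _ ⟨w, rfl⟩
  induction w using TensorProduct.induction_on with
  | zero => simp
  | tmul c n =>
    rw [LinearMap.baseChange_tmul]
    exact h _ n.2 c
  | add x y hx hy => rw [map_add]; exact Submodule.add_mem _ hx hy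

lemma baseChange_iSup_le {ι : Sort*} (p : ι → Submodule R M) :
    (⨆ i, p i).baseChange A ≤ ⨆ i, (p i).baseChange A := by
  refine baseChange_le_of A _ _ fun x hx a => ?_
  induction hx using Submodule.iSup_induction' with
  | mem i x hx =>
    exact (le_iSup (fun i => (p i).baseChange A) i) (Submodule.tmul_mem_baseChange_of_mem a hx)
  | zero => rw [tmul_zero]; exact Submodule.zero_mem _
  | add x y _ _ hx hy => rw [tmul_add]; exact Submodule.add_mem _ hx hy

lemma baseChange_iSup {ι : Sort*} (p : ι → Submodule R M) :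
    (⨆ i, p i).baseChange A = ⨆ i, (p i).baseChange A :=
  le_antisymm (baseChange_iSup_le A p)
    (iSup_le fun i => Submodule.baseChange_mono (A := A) (le_iSup p i))

lemma baseChange_biSup {ι : Type*} (S : Set ι) (p : ι → Submodule R M) :
    (⨆ i ∈ S, p i).baseChange A = ⨆ i ∈ S, (p i).baseChange A := by
  rw [baseChange_iSup]
  refine iSup_congr fun i => ?_
  rw [baseChange_iSup]

lemma baseChange_sup_le (p q : Submodule R M) :
    (p ⊔ q).baseChange A ≤ p.baseChange A ⊔ q.baseChange A := by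
  refine baseChange_le_of A _ _ fun x hx a => ?_
  obtain ⟨y, hy, z, hz, rfl⟩ := Submodule.mem_sup.mp hx
  rw [tmul_add]
  exact Submodule.add_mem _ (le_sup_left (a := p.baseChange A) (Submodule.tmul_mem_baseChange_of_mem a hy))
    (le_sup_right (b := q.baseChange A) (Submodule.tmul_mem_baseChange_of_mem a hz))

end baseChange_lemmas

section indep_rank

variable {κ : Type*} [Field κ] {V : Type*} [AddCommGroup V] [Module κ V] [FiniteDimensional κ V]
  {Γ : Type*}

lemma finrank_sup_of_disjoint (A B : Submodule κ V) (h : Disjoint A B) :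
    finrank κ ↥(A ⊔ B) = finrank κ A + finrank κ B := by
  have h1 := Submodule.finrank_sup_add_finrank_inf_eq A B
  rw [disjoint_iff.mp h, finrank_bot, add_zero] at h1
  exact h1

lemma finrank_biSup_of_indep (W : Γ → Submodule κ V) (h : iSupIndep W) (S : Finset Γ) :
    finrank κ ↥(⨆ γ ∈ S, W γ) = ∑ γ ∈ S, finrank κ (W γ) := by
  classical
  induction S using Finset.induction_on with
  | empty => simp
  | insert a S ha ih =>
    rw [Finset.iSup_insert, Finset.sum_insert ha, ← ih]
    exact finrank_sup_of_disjoint _ _ (h.disjoint_biSup (y := (S : Set Γ)) (by simpa using ha))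

end indep_rank

section crit

open TensorProduct FiltSplit

variable {Γ : Type w} [LinearOrder Γ]
  {R : Type u} [CommRing R] {M : Type v} [AddCommGroup M] [Module R M] [Module.Finite R M]

theorem split_of_gr (F : Γ → Submodule R M) (hF : Antitone F)
    (Fp : Γ → Submodule R M) (hFp : ∀ γ, Fp γ = ⨆ η ∈ Set.Ioi γ, F η)
    (hproj : ∀ γ, Module.Projective R (↥(F γ) ⧸ Submodule.comap (F γ).subtype (Fp γ)))
    (hrank : ∀ (p : PrimeSpectrum R) (Fx : Γ → Submodule p.asIdeal.ResidueField (p.asIdeal.ResidueField ⊗[R] M)),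
        (∀ γ, Fx γ = LinearMap.range ((F γ).subtype.baseChange p.asIdeal.ResidueField)) →
        Module.finrank p.asIdeal.ResidueField (p.asIdeal.ResidueField ⊗[R] M) =
          ∑ᶠ γ, (Module.finrank p.asIdeal.ResidueField ↥(Fx γ) -
            Module.finrank p.asIdeal.ResidueField ↥(⨆ η ∈ Set.Ioi γ, Fx η))) :
    ∃ G : Γ → Submodule R M, DirectSum.IsInternal G ∧ ∀ γ, F γ = ⨆ η ∈ Set.Ici γ, G η := by
  classical
  have hFpF : ∀ γ, Fp γ ≤ F γ := by
    intro γ
    rw [hFp γ]
    exact iSup₂_le fun η hη => hF (le_of_lt (Set.mem_Ioi.mp hη))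
  have hFFp : ∀ γ η, γ < η → F η ≤ Fp γ := by
    intro γ η h
    rw [hFp γ]
    exact le_iSup₂_of_le η (Set.mem_Ioi.mpr h) le_rfl
  -- choose complements
  have hex : ∀ γ, ∃ Gγ : Submodule R M, Gγ ≤ F γ ∧ Gγ ⊓ Fp γ = ⊥ ∧ F γ ≤ Gγ ⊔ Fp γ := by
    intro γ
    have := hproj γ
    obtain ⟨s, hs⟩ := Module.projective_lifting_property
      (Submodule.comap (F γ).subtype (Fp γ)).mkQ LinearMap.id (Submodule.mkQ_surjective _)
    have hs' : ∀ q, (Submodule.comap (F γ).subtype (Fp γ)).mkQ (s q) = q :=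
      fun q => LinearMap.congr_fun hs q
    refine ⟨LinearMap.range ((F γ).subtype ∘ₗ s), ?_, ?_, ?_⟩
    · rintro _ ⟨q, rfl⟩
      exact (s q).2
    · rw [eq_bot_iff]
      rintro x ⟨⟨q, rfl⟩, hx2⟩
      have h1 : s q ∈ Submodule.comap (F γ).subtype (Fp γ) := hx2
      have h2 : (Submodule.comap (F γ).subtype (Fp γ)).mkQ (s q) = 0 := by
        rw [Submodule.mkQ_apply, Submodule.Quotient.mk_eq_zero]
        exact h1
      rw [hs'] at h2
      rw [Submodule.mem_bot, h2, map_zero]
    · intro x hx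
      let x' : F γ := ⟨x, hx⟩
      let y : F γ := s ((Submodule.comap (F γ).subtype (Fp γ)).mkQ x')
      have h1 : (Submodule.comap (F γ).subtype (Fp γ)).mkQ (x' - y) = 0 := by
        rw [map_sub, hs', sub_self]
      rw [Submodule.mkQ_apply, Submodule.Quotient.mk_eq_zero] at h1
      have h2 : ((x' - y : F γ) : M) ∈ Fp γ := h1
      have h3 : x = (y : M) + ((x' - y : F γ) : M) := by
        simp [x']
      rw [h3]
      exact Submodule.add_mem _ (Submodule.mem_sup_left ⟨_, rfl⟩) (Submodule.mem_sup_right h2)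
  choose G hGF hGFp hFG using hex
  -- independence
  have hindep : iSupIndep G := by
    apply iSupIndep_of_dfinsupp_lsum_injective
    rw [← LinearMap.ker_eq_bot, LinearMap.ker_eq_bot']
    intro v hv
    by_contra hne
    have hsupp : v.support.Nonempty := by
      rw [Finset.nonempty_iff_ne_empty, Ne, DFinsupp.support_eq_empty]
      exact hne
    let γ₀ := v.support.min' hsupp
    have hγ₀ : γ₀ ∈ v.support := Finset.min'_mem _ _
    have hsum : ∑ γ ∈ v.support, ((v γ : G γ) : M) = 0 := by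
      rw [DFinsupp.lsum_apply_apply] at hv
      simpa [DFinsupp.sumAddHom_apply, DFinsupp.sum] using hv
    rw [← Finset.add_sum_erase _ _ hγ₀] at hsum
    have h1 : ((v γ₀ : G γ₀) : M) = - ∑ γ ∈ v.support.erase γ₀, ((v γ : G γ) : M) :=
      eq_neg_of_add_eq_zero_left hsum
    have h2 : ((v γ₀ : G γ₀) : M) ∈ Fp γ₀ := by
      rw [h1]
      refine Submodule.neg_mem _ (Submodule.sum_mem _ fun γ hγ => ?_)
      have hγ' := Finset.mem_erase.mp hγ
      have hlt : γ₀ < γ := lt_of_le_of_ne (Finset.min'_le _ _ hγ'.2) (Ne.symm hγ'.1)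
      exact hFFp γ₀ γ hlt (hGF γ (v γ).2)
    have h3 : ((v γ₀ : G γ₀) : M) ∈ G γ₀ ⊓ Fp γ₀ := ⟨(v γ₀).2, h2⟩
    rw [hGFp γ₀, Submodule.mem_bot] at h3
    exact (DFinsupp.mem_support_iff.mp hγ₀) (Subtype.ext h3)
  -- spanning
  have hspan : iSup G = ⊤ := by
    apply eq_top_of_baseChange_residueField
    intro m hm
    let κ := m.ResidueField
    have hsum := hrank ⟨m, hm.isPrime⟩ (fun γ => (F γ).baseChange κ) (fun γ => rfl)
    have h1 := iSup_eq_top_of_finsum (κ := κ) (fun γ => (F γ).baseChange κ)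
      (fun γ => ⨆ η ∈ Set.Ioi γ, (F η).baseChange κ) (fun γ => (G γ).baseChange κ)
      (fun γ => Submodule.baseChange_mono κ (hGF γ))
      (fun γ η h => le_iSup₂_of_le η (Set.mem_Ioi.mpr h) le_rfl)
      (fun γ => by
        refine (Submodule.baseChange_mono κ (hFG γ)).trans ((baseChange_sup_le κ _ _).trans ?_)
        refine sup_le_sup_left ?_ _
        rw [hFp γ, baseChange_biSup])
      (fun γ => iSup₂_le fun η hη =>
        Submodule.baseChange_mono κ (hF (le_of_lt (Set.mem_Ioi.mp hη))))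
      hsum
    rw [eq_top_iff, ← h1]
    exact iSup_le fun γ => Submodule.baseChange_mono κ (le_iSup G γ)
  have hint : DirectSum.IsInternal G :=
    DirectSum.isInternal_submodule_of_iSupIndep_of_iSup_eq_top hindep hspan
  refine ⟨G, hint, fun γ => le_antisymm ?_ ?_⟩
  · let dec : DirectSum.Decomposition G := hint.chooseDecomposition
    intro x hx
    rw [mem_biSup_iff G]
    intro η hη
    have hηγ : η < γ := not_le.mp fun h => hη (Set.mem_Ici.mpr h)
    by_contra hne
    let S := (DirectSum.decompose G x).support.filter (· < γ)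
    have hηS : η ∈ S := by
      refine Finset.mem_filter.mpr ⟨?_, hηγ⟩
      rw [DFinsupp.mem_support_iff]
      intro h0
      apply hne
      rw [pr_apply, h0]; rfl
    let η₀ := S.min' ⟨η, hηS⟩
    have hη₀S : η₀ ∈ S := Finset.min'_mem _ _
    have hη₀supp := (Finset.mem_filter.mp hη₀S).1
    have hη₀γ : η₀ < γ := (Finset.mem_filter.mp hη₀S).2
    have hsum := DirectSum.sum_support_decompose G x
    rw [← Finset.add_sum_erase _ _ hη₀supp] at hsum
    have h1 : ((DirectSum.decompose G x η₀ : G η₀) : M) =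
        x - ∑ ζ ∈ (DirectSum.decompose G x).support.erase η₀, ((DirectSum.decompose G x ζ : G ζ) : M) :=
      eq_sub_of_add_eq hsum
    have h2 : ((DirectSum.decompose G x η₀ : G η₀) : M) ∈ Fp η₀ := by
      rw [h1]
      refine Submodule.sub_mem _ (hFFp η₀ γ hη₀γ hx) (Submodule.sum_mem _ fun ζ hζ => ?_)
      have hζ' := Finset.mem_erase.mp hζ
      have hlt : η₀ < ζ := by
        rcases lt_trichotomy ζ η₀ with h | h | h
        · exfalso
          have : ζ ∈ S := Finset.mem_filter.mpr ⟨hζ'.2, h.trans hη₀γ⟩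
          exact not_le.mpr h (Finset.min'_le _ _ this)
        · exact absurd h hζ'.1
        · exact h
      exact hFFp η₀ ζ hlt (hGF ζ (DirectSum.decompose G x ζ).2)
    have h3 : ((DirectSum.decompose G x η₀ : G η₀) : M) ∈ G η₀ ⊓ Fp η₀ :=
      ⟨(DirectSum.decompose G x η₀).2, h2⟩
    rw [hGFp η₀, Submodule.mem_bot] at h3
    exact (DFinsupp.mem_support_iff.mp hη₀supp) (Subtype.ext h3)
  · exact iSup₂_le fun η hη => (hGF η).trans (hF (Set.mem_Ici.mp hη))

theorem gr_of_split [Module.Projective R M] (F : Γ → Submodule R M)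
    (Fp : Γ → Submodule R M) (hFp : ∀ γ, Fp γ = ⨆ η ∈ Set.Ioi γ, F η)
    (G : Γ → Submodule R M) (hG : DirectSum.IsInternal G) (hFG : ∀ γ, F γ = ⨆ η ∈ Set.Ici γ, G η) :
    (∀ γ, Module.Finite R (↥(F γ) ⧸ Submodule.comap (F γ).subtype (Fp γ)) ∧
        Module.Projective R (↥(F γ) ⧸ Submodule.comap (F γ).subtype (Fp γ))) ∧
      ∀ (p : PrimeSpectrum R) (Fx : Γ → Submodule p.asIdeal.ResidueField (p.asIdeal.ResidueField ⊗[R] M)),
        (∀ γ, Fx γ = LinearMap.range ((F γ).subtype.baseChange p.asIdeal.ResidueField)) →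
        Module.finrank p.asIdeal.ResidueField (p.asIdeal.ResidueField ⊗[R] M) =
          ∑ᶠ γ, (Module.finrank p.asIdeal.ResidueField ↥(Fx γ) -
            Module.finrank p.asIdeal.ResidueField ↥(⨆ η ∈ Set.Ioi γ, Fx η)) := by
  classical
  let dec : DirectSum.Decomposition G := hG.chooseDecomposition
  have hGF : ∀ γ, G γ ≤ F γ := by
    intro γ
    rw [hFG γ]
    exact le_iSup₂_of_le γ (Set.mem_Ici.mpr le_rfl) le_rfl
  have hFpG : ∀ γ, Fp γ = ⨆ ζ ∈ Set.Ioi γ, G ζ := by
    intro γ
    rw [hFp γ]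
    apply le_antisymm
    · refine iSup₂_le fun η hη => ?_
      rw [hFG η]
      exact iSup₂_le fun ζ hζ => le_iSup₂_of_le ζ
        (Set.mem_Ioi.mpr (lt_of_lt_of_le (Set.mem_Ioi.mp hη) (Set.mem_Ici.mp hζ))) le_rfl
    · exact iSup₂_le fun ζ hζ => le_iSup₂_of_le ζ hζ (hGF ζ)
  constructor
  · intro γ
    let π : M →ₗ[R] G γ := LinearMap.codRestrict (G γ) (pr G γ) (pr_mem G γ)
    have hπ : ∀ g : G γ, π (g : M) = g := fun g => Subtype.ext (pr_of_mem_same G g.2)
    have hGfin : Module.Finite R (G γ) :=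
      Module.Finite.of_surjective π (fun g => ⟨g, hπ g⟩)
    have hGproj : Module.Projective R (G γ) :=
      Module.Projective.of_split (G γ).subtype π (LinearMap.ext fun g => hπ g)
    let f : F γ →ₗ[R] G γ := π ∘ₗ (F γ).subtype
    have hfsurj : Function.Surjective f := fun g => ⟨⟨g, hGF γ g.2⟩, hπ g⟩
    have hker : LinearMap.ker f = Submodule.comap (F γ).subtype (Fp γ) := by
      ext x
      rw [LinearMap.mem_ker, Submodule.mem_comap, hFpG γ, mem_biSup_iff G]
      have hx : ∀ η, η ∉ Set.Ici γ → pr G η (x : M) = 0 := by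
        have h0 : (x : M) ∈ ⨆ η ∈ Set.Ici γ, G η := (hFG γ) ▸ x.2
        exact (mem_biSup_iff G _ _).mp h0
      constructor
      · intro h0 η hη
        rcases lt_trichotomy η γ with hlt | heq | hgt
        · exact hx η (fun h => not_le.mpr hlt (Set.mem_Ici.mp h))
        · subst heq
          exact congrArg Subtype.val h0
        · exact absurd (Set.mem_Ioi.mpr hgt) hη
      · intro h
        exact Subtype.ext (h γ (fun h' => lt_irrefl _ (Set.mem_Ioi.mp h')))
    let e : (↥(F γ) ⧸ Submodule.comap (F γ).subtype (Fp γ)) ≃ₗ[R] G γ :=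
      (Submodule.quotEquivOfEq _ _ hker.symm).trans (f.quotKerEquivOfSurjective hfsurj)
    exact ⟨Module.Finite.equiv e.symm, Module.Projective.of_equiv e.symm⟩
  · intro p Fx hFx
    let κ := p.asIdeal.ResidueField
    let W : Γ → Submodule κ (κ ⊗[R] M) := fun η => (G η).baseChange κ
    have hW : DirectSum.IsInternal W := hG.baseChange
    have hind : iSupIndep W := hW.submodule_iSupIndep
    have htop : iSup W = ⊤ := hW.submodule_iSup_eq_top
    have hFxW : ∀ γ, Fx γ = ⨆ η ∈ Set.Ici γ, W η := by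
      intro γ
      rw [hFx γ]
      show (F γ).baseChange κ = _
      rw [hFG γ, baseChange_biSup]
    have hXW : ∀ γ, (⨆ η ∈ Set.Ioi γ, Fx η) = ⨆ η ∈ Set.Ioi γ, W η := by
      intro γ
      apply le_antisymm
      · refine iSup₂_le fun η hη => ?_
        rw [hFxW η]
        exact iSup₂_le fun ζ hζ => le_iSup₂_of_le ζ
          (Set.mem_Ioi.mpr (lt_of_lt_of_le (Set.mem_Ioi.mp hη) (Set.mem_Ici.mp hζ))) le_rfl
      · refine iSup₂_le fun η hη => le_iSup₂_of_le η hη ?_
        rw [hFxW η]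
        exact le_iSup₂_of_le η (Set.mem_Ici.mpr le_rfl) le_rfl
    have hterm : ∀ γ, Module.finrank κ ↥(Fx γ) - Module.finrank κ ↥(⨆ η ∈ Set.Ioi γ, Fx η) =
        Module.finrank κ (W γ) := by
      intro γ
      have h1 : Fx γ = W γ ⊔ ⨆ η ∈ Set.Ioi γ, W η := by
        rw [hFxW γ, ← Set.Ioi_insert, iSup_insert]
      have h2 : Disjoint (W γ) (⨆ η ∈ Set.Ioi γ, W η) :=
        hind.disjoint_biSup (fun h => lt_irrefl _ (Set.mem_Ioi.mp h))
      rw [hXW γ, h1, finrank_sup_of_disjoint _ _ h2, Nat.add_sub_cancel]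
    have hterm' : (fun γ => Module.finrank κ ↥(Fx γ) - Module.finrank κ ↥(⨆ η ∈ Set.Ioi γ, Fx η)) =
        fun γ => Module.finrank κ (W γ) := funext hterm
    show Module.finrank κ (κ ⊗[R] M) = ∑ᶠ γ, (Module.finrank κ ↥(Fx γ) -
        Module.finrank κ ↥(⨆ η ∈ Set.Ioi γ, Fx η))
    rw [hterm']
    let decW : DirectSum.Decomposition W := hW.chooseDecomposition
    obtain ⟨T, hT⟩ := exists_finset_eq_bot W
    rw [finsum_eq_sum_of_support_subset _ (s := T) (by
      intro γ hγ
      by_contra hγT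
      apply hγ
      show Module.finrank κ (W γ) = 0
      rw [hT γ hγT, finrank_bot])]
    rw [← finrank_biSup_of_indep W hind T]
    have : (⨆ γ ∈ T, W γ) = ⊤ := by
      rw [← htop]
      apply le_antisymm (iSup₂_le fun γ _ => le_iSup W γ)
      refine iSup_le fun γ => ?_
      by_cases hγ : γ ∈ T
      · exact le_iSup₂_of_le γ hγ le_rfl
      · rw [hT γ hγ]; exact bot_le
    rw [this, finrank_top]

end crit

end Groth.Agent.Helper9.FiltCrit
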