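import Mathlib
set_option autoImplicit false

namespace Groth.Agent.Helper9.FinInv

open Polynomial

lemma step1 {A : Type*} [CommRing A] {G : Type*} [Group G] [Fintype G] [MulSemiringAction G A]
    {K : Type*} [CommRing K] [IsDomain K] (f₁ f₂ : A →+* K)
    (h : ∀ a : A, (∀ g : G, g • a = a) → f₁ a = f₂ a) (a : A) :
    ∃ g : G, f₂ a = f₁ (g • a) := by
  have hP : (MulSemiringAction.charpoly G a).map f₁ = (MulSemiringAction.charpoly G a).map f₂ := by
    ext n
    simp only [Polynomial.coeff_map]
    exact h _ (fun g => MulSemiringAction.smul_coeff_charpoly a n g)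
  have h0 : ((MulSemiringAction.charpoly G a).map f₂).eval (f₂ a) = 0 := by
    rw [Polynomial.eval_map, Polynomial.eval₂_at_apply, MulSemiringAction.eval_charpoly, map_zero]
  rw [← hP, MulSemiringAction.charpoly_eq, Polynomial.map_prod, Polynomial.eval_prod,
    Finset.prod_eq_zero_iff] at h0
  obtain ⟨g, -, hg⟩ := h0
  refine ⟨g, ?_⟩
  simpa [sub_eq_zero] using hg

theorem main {A : Type*} [CommRing A] {G : Type*} [Group G] [Finite G]
    [MulSemiringAction G A] {K : Type*} [Field K] (f₁ f₂ : A →+* K)
    (h : ∀ a : A, (∀ g : G, g • a = a) → f₁ a = f₂ a) :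
    ∃ γ : G, ∀ a : A, f₂ a = f₁ (γ • a) := by
  cases nonempty_fintype G
  by_contra hne
  push Not at hne
  choose a ha using hne
  let e : G ≃ Fin (Fintype.card G) := Fintype.equivFin G
  let P : A[X] := ∑ g : G, Polynomial.monomial (e g : ℕ) (a g)
  have hcoeff : ∀ g₀ : G, P.coeff (e g₀ : ℕ) = a g₀ := by
    intro g₀
    simp only [P, Polynomial.finsetSum_coeff, Polynomial.coeff_monomial]
    rw [Finset.sum_eq_single g₀]
    · simp
    · intro g _ hg
      rw [if_neg]
      intro h'
      exact hg (e.injective (Fin.ext h'))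
    · intro h'; exact absurd (Finset.mem_univ _) h'
  obtain ⟨g₀, hg₀⟩ := step1 (G := G) (Polynomial.mapRingHom f₁) (Polynomial.mapRingHom f₂) (by
    intro Q hQ
    ext n
    simp only [Polynomial.coe_mapRingHom, Polynomial.coeff_map]
    apply h
    intro g
    have := congrArg (fun R => Polynomial.coeff R n) (hQ g)
    simpa [Polynomial.smul_eq_map] using this) P
  have := congrArg (fun R => Polynomial.coeff R (e g₀ : ℕ)) hg₀
  simp only [Polynomial.coe_mapRingHom, Polynomial.coeff_map, Polynomial.smul_eq_map] at this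
  rw [hcoeff] at this
  exact ha g₀ (by simpa using this)

end Groth.Agent.Helper9.FinInv
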