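import Mathlib
import Groth.Prelude.Def_EtBase
import Groth.Agent.Helper3.StrictHensFinite
import Groth.Agent.Helper3.HensDomain
import Groth.Agent.Helper3.HensProd2

/-! A scheme finite over the spectrum of a strictly henselian local ring is a finite disjoint
union of spectra of strictly henselian local rings. -/

set_option autoImplicit false
universe u

open CategoryTheory CategoryTheory.Limits Opposite AlgebraicGeometry

namespace Groth.Agent.Helper9.FiniteStrictHens

variable (R : Type u) [CommRing R] [HenselianLocalRing R]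
  [IsSepClosed (IsLocalRing.ResidueField R)]

/-- algebraic form: a finite algebra over a strictly henselian local ring is a finite product of
strictly henselian local rings -/
theorem exists_pi (S : Type u) [CommRing S] [Algebra R S] [Module.Finite R S] :
    ∃ (ι : Type u) (_ : Fintype ι) (B : ι → Type u) (_ : ∀ i, CommRing (B i))
      (_ : ∀ i, HenselianLocalRing (B i))
      (_ : ∀ i, IsSepClosed (IsLocalRing.ResidueField (B i))),
      Nonempty (S ≃+* (∀ i, B i)) := by
  obtain ⟨ι, hι, B, hB, hBloc, ⟨e⟩⟩ := Groth.Agent.Helper3.HensProd.finite_pi_of_hens R S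
  have key : ∀ i, EtCoh.IsStrictlyHenselianLocalRing (B i) := by
    intro i
    let ρ : R →+* B i := (Pi.evalRingHom B i).comp (e.toRingHom.comp (algebraMap R S))
    have hρ : ρ.Finite := by
      apply RingHom.Finite.comp
      · apply RingHom.Finite.of_surjective
        exact Function.surjective_eval i
      · apply RingHom.Finite.comp
        · exact RingHom.Finite.of_surjective _ e.surjective
        · exact (RingHom.finite_algebraMap).2 inferInstance
    let _ := ρ.toAlgebra
    have : Module.Finite R (B i) := hρ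
    have : Algebra.IsIntegral R (B i) := Algebra.IsIntegral.of_finite R (B i)
    have hloc : IsLocalHom ρ :=
      Groth.Agent.Helper3.HensDomain.isLocalHom_of_isIntegral R (B i)
    exact Groth.Agent.Helper3.StrictHensFinite.main ρ hρ ⟨inferInstance, inferInstance⟩
  choose h1 h2 using key
  exact ⟨ι, hι, B, hB, h1, h2, ⟨e⟩⟩

/-- scheme form -/
theorem exists_cover (X : Scheme.{u}) (f : X ⟶ Spec (CommRingCat.of R)) [IsFinite f] :
    ∃ (μ : Type u) (A : μ → Type u) (_ : ∀ a, CommRing (A a))
      (_ : ∀ a, HenselianLocalRing (A a))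
      (_ : ∀ a, IsSepClosed (IsLocalRing.ResidueField (A a)))
      (c : ∀ a, Spec (CommRingCat.of (A a)) ⟶ X),
      (∀ a, IsOpenImmersion (c a)) ∧
      (∀ x : X, ∃ (a : μ) (z : Spec (CommRingCat.of (A a))), c a z = x) ∧
      (∀ a b, a ≠ b → ∀ (za : Spec (CommRingCat.of (A a))) (zb : Spec (CommRingCat.of (A b))),
        c a za ≠ c b zb) := by
  have hXaff : IsAffine X := isAffine_of_isAffineHom f
  have hfin : f.appTop.hom.Finite := f.finite_appTop
  let ψ : R →+* Γ(X, ⊤) := f.appTop.hom.comp (Scheme.ΓSpecIso (CommRingCat.of R)).inv.hom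
  have hψ : ψ.Finite := by
    apply RingHom.Finite.comp hfin
    apply RingHom.Finite.of_surjective
    exact (ConcreteCategory.bijective_of_isIso (Scheme.ΓSpecIso (CommRingCat.of R)).inv).2
  let _ := ψ.toAlgebra
  have : Module.Finite R Γ(X, ⊤) := hψ
  obtain ⟨ι, hι, B, hB, h1, h2, ⟨e⟩⟩ := exists_pi R Γ(X, ⊤)
  let π : ∀ i, CommRingCat.of (∀ i, B i) ⟶ CommRingCat.of (B i) := fun i =>
    CommRingCat.ofHom (Pi.evalRingHom B i)
  let ε : Γ(X, ⊤) ⟶ CommRingCat.of (∀ i, B i) := CommRingCat.ofHom e.toRingHom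
  have hε : IsIso ε := by
    have : ε = e.toCommRingCatIso.hom := rfl
    rw [this]
    infer_instance
  let c : ∀ i, Spec (CommRingCat.of (B i)) ⟶ X := fun i =>
    Spec.map (π i) ≫ Spec.map ε ≫ X.isoSpec.inv
  have hoi : ∀ i, IsOpenImmersion (Spec.map (π i)) := fun i =>
    (inferInstance : IsOpenImmersion (Spec.map (CommRingCat.ofHom (Pi.evalRingHom B i))))
  have hc : ∀ i (z : Spec (CommRingCat.of (B i))),
      c i z = X.isoSpec.inv (Spec.map ε (PrimeSpectrum.sigmaToPi B ⟨i, z⟩)) := by
    intro i z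
    rfl
  have hinj : Function.Injective (fun y : Spec (CommRingCat.of (∀ i, B i)) =>
      X.isoSpec.inv (Spec.map ε y)) := by
    intro y₁ y₂ h
    have h3 : (Spec.map ε ≫ X.isoSpec.inv) y₁ = (Spec.map ε ≫ X.isoSpec.inv) y₂ := h
    have : IsIso (Spec.map ε ≫ X.isoSpec.inv) := inferInstance
    exact (ConcreteCategory.bijective_of_isIso (Spec.map ε ≫ X.isoSpec.inv).base).1 h3
  have hsurj : Function.Surjective (fun y : Spec (CommRingCat.of (∀ i, B i)) =>
      X.isoSpec.inv (Spec.map ε y)) := by
    intro x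
    have : IsIso (Spec.map ε ≫ X.isoSpec.inv) := inferInstance
    obtain ⟨y, hy⟩ := (ConcreteCategory.bijective_of_isIso (Spec.map ε ≫ X.isoSpec.inv).base).2 x
    exact ⟨y, hy⟩
  have hbij := PrimeSpectrum.sigmaToPi_bijective B
  refine ⟨ι, B, hB, h1, h2, c, fun i => inferInstance, ?_, ?_⟩
  · intro x
    obtain ⟨y, hy⟩ := hsurj x
    obtain ⟨⟨i, z⟩, hz⟩ := hbij.2 y
    refine ⟨i, z, ?_⟩
    refine (hc i z).trans ?_
    rw [hz]
    exact hy
  · intro a b hab za zb h
    have h' := (hc a za).symm.trans (h.trans (hc b zb))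
    have h3 := hbij.1 (hinj h')
    exact hab (congrArg Sigma.fst h3)

end Groth.Agent.Helper9.FiniteStrictHens
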