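import Mathlib

/-! Helper for S18399: the ideal `(a - σ a)` of a finite-order automorphism. -/

namespace Groth.Agent.Helper9.FixIdeal

open IsLocalRing

variable {k : Type*} [Field k] {A : Type*} [CommRing A] [Algebra k A]
  (σ : A →ₐ[k] A) (n : ℕ)

/-- `T a = a - σ a` -/
def T : A →ₗ[k] A := LinearMap.id - σ.toLinearMap

@[simp] lemma T_apply (a : A) : T σ a = a - σ a := rfl

lemma T_mul (p q : A) : T σ (p * q) = p * T σ q + σ q * T σ p := by
  simp only [T_apply, map_mul]; ring

lemma T_algebraMap (c : k) : T σ (algebraMap k A c) = 0 := by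
  simp

variable {σ n}

lemma iterate_isUnit (j : ℕ) {x : A} (hx : IsUnit x) : IsUnit ((⇑σ)^[j] x) := by
  induction j with
  | zero => simpa using hx
  | succ j ih =>
    rw [Function.iterate_succ_apply']
    exact ih.map σ

variable [IsLocalRing A]

lemma sigma_mem (hσ : ∀ a : A, (⇑σ)^[n] a = a) (hn0 : n ≠ 0) {x : A}
    (hx : x ∈ maximalIdeal A) : σ x ∈ maximalIdeal A := by
  rw [mem_maximalIdeal, mem_nonunits_iff] at hx ⊢
  intro h
  apply hx
  obtain ⟨j, rfl⟩ : ∃ j, n = j + 1 := ⟨n - 1, by omega⟩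
  have := iterate_isUnit (σ := σ) j h
  rw [← Function.iterate_succ_apply, hσ] at this
  exact this

lemma sigma_mem_sq (hσ : ∀ a : A, (⇑σ)^[n] a = a) (hn0 : n ≠ 0) {x : A}
    (hx : x ∈ maximalIdeal A ^ 2) : σ x ∈ maximalIdeal A ^ 2 := by
  have : (maximalIdeal A ^ 2).map σ ≤ maximalIdeal A ^ 2 := by
    rw [Ideal.map_pow]
    apply Ideal.pow_right_mono
    rw [Ideal.map_le_iff_le_comap]
    intro y hy
    exact sigma_mem hσ hn0 hy
  exact this (Ideal.mem_map_of_mem σ hx)

lemma iterate_mem_sq (hσ : ∀ a : A, (⇑σ)^[n] a = a) (hn0 : n ≠ 0) (j : ℕ) {x : A}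
    (hx : x ∈ maximalIdeal A ^ 2) : (⇑σ)^[j] x ∈ maximalIdeal A ^ 2 := by
  induction j with
  | zero => simpa using hx
  | succ j ih =>
    rw [Function.iterate_succ_apply']
    exact sigma_mem_sq hσ hn0 ih

lemma T_mem (hσ : ∀ a : A, (⇑σ)^[n] a = a) (hn0 : n ≠ 0) {x : A}
    (hx : x ∈ maximalIdeal A) : T σ x ∈ maximalIdeal A :=
  Ideal.sub_mem _ hx (sigma_mem hσ hn0 hx)

/-- `T` maps `𝔪²` into `𝔪 · I_σ`. -/
lemma T_sq_mem (hσ : ∀ a : A, (⇑σ)^[n] a = a) (hn0 : n ≠ 0) {y : A}
    (hy : y ∈ maximalIdeal A ^ 2) :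
    T σ y ∈ maximalIdeal A * Ideal.span (Set.range fun a : A => a - σ a) := by
  rw [pow_two] at hy
  refine Submodule.mul_induction_on hy (fun p hp q hq => ?_) (fun x y hx hy => ?_)
  · rw [T_mul]
    refine Ideal.add_mem _ (Ideal.mul_mem_mul hp (Ideal.subset_span ⟨q, rfl⟩))
      (Ideal.mul_mem_mul (sigma_mem hσ hn0 hq) (Ideal.subset_span ⟨p, rfl⟩))
  · rw [map_add]; exact Ideal.add_mem _ hx hy

omit [IsLocalRing A] in
/-- `a - σ^j a` is a sum of iterates of `T a`. -/
lemma sub_iterate (a : A) (j : ℕ) :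
    a - (⇑σ)^[j] a = ∑ i ∈ Finset.range j, (⇑σ)^[i] (T σ a) := by
  induction j with
  | zero => simp
  | succ j ih =>
    rw [Finset.sum_range_succ, ← ih]
    have : (⇑σ)^[j] (T σ a) = (⇑σ)^[j] a - (⇑σ)^[j + 1] a := by
      rw [T_apply, iterate_map_sub, ← Function.iterate_succ_apply]
    rw [this]; ring

/-- key: if `T a ∈ 𝔪²` then `T a ∈ 𝔪 I_σ`. -/
lemma T_mem_of_T_mem_sq (hσ : ∀ a : A, (⇑σ)^[n] a = a) (hn : (n : k) ≠ 0) {a : A}
    (ha : T σ a ∈ maximalIdeal A ^ 2) :
    T σ a ∈ maximalIdeal A * Ideal.span (Set.range fun a : A => a - σ a) := by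
  have hn0 : n ≠ 0 := by rintro rfl; simp at hn
  set u : A := ∑ i ∈ Finset.range n, (⇑σ)^[i] a with hu
  have hTu : T σ u = 0 := by
    rw [T_apply, hu, map_sum, sub_eq_zero]
    have h1 : ∑ i ∈ Finset.range n, σ ((⇑σ)^[i] a) = ∑ i ∈ Finset.range n, (⇑σ)^[i + 1] a := by
      apply Finset.sum_congr rfl
      intro i _
      rw [Function.iterate_succ_apply']
    rw [h1]
    have h2 := Finset.sum_range_succ' (fun i => (⇑σ)^[i] a) n
    have h3 := Finset.sum_range_succ (fun i => (⇑σ)^[i] a) n
    simp only [Function.iterate_zero, id_eq] at h2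
    rw [h3, hσ] at h2
    exact (add_right_cancel h2)
  have hy : (n : A) * a - u ∈ maximalIdeal A ^ 2 := by
    have : (n : A) * a - u = ∑ i ∈ Finset.range n, (a - (⇑σ)^[i] a) := by
      rw [Finset.sum_sub_distrib, Finset.sum_const, Finset.card_range, nsmul_eq_mul]
    rw [this]
    refine Ideal.sum_mem _ (fun i _ => ?_)
    rw [sub_iterate]
    exact Ideal.sum_mem _ (fun j _ => iterate_mem_sq hσ hn0 j ha)
  have h4 := T_sq_mem hσ hn0 hy
  rw [map_sub, hTu, sub_zero] at h4
  have h5 : T σ ((n : A) * a) = algebraMap k A (n : k) * T σ a := by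
    rw [← Algebra.smul_def, ← map_smul, Algebra.smul_def]
    simp
  rw [h5] at h4
  have h6 : T σ a = algebraMap k A ((n : k)⁻¹) * (algebraMap k A (n : k) * T σ a) := by
    rw [← mul_assoc, ← map_mul, inv_mul_cancel₀ hn, map_one, one_mul]
  rw [h6]
  exact Ideal.mul_mem_left _ _ h4

theorem main [IsNoetherianRing A]
    (hres : Function.Surjective ⇑(algebraMap k (IsLocalRing.ResidueField A)))
    (hσ : ∀ a : A, (⇑σ)^[n] a = a) (hn : (n : k) ≠ 0) :
    ∃ (m : ℕ) (f : Fin m → ↥(IsLocalRing.maximalIdeal A)),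
      Ideal.span (Set.range fun i : Fin m => (f i : A)) =
        Ideal.span (Set.range fun a : A => a - σ a) ∧
      LinearIndependent (IsLocalRing.ResidueField A)
        (fun i : Fin m => (IsLocalRing.maximalIdeal A).toCotangent (f i)) := by
  classical
  have hn0 : n ≠ 0 := by rintro rfl; simp at hn
  -- T on the maximal ideal
  let Tm : maximalIdeal A → maximalIdeal A := fun a => ⟨T σ a, T_mem hσ hn0 a.2⟩
  let S : Set (maximalIdeal A).Cotangent :=
    Set.range (fun a : maximalIdeal A => (maximalIdeal A).toCotangent (Tm a))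
  obtain ⟨b, hbS, hbspan, hbli⟩ := exists_linearIndependent (ResidueField A) S
  haveI : Finite b := hbli.finite_of_isNoetherian
  obtain ⟨m, ⟨e⟩⟩ := Finite.exists_equiv_fin b
  have hex : ∀ i : Fin m, ∃ a : maximalIdeal A,
      (maximalIdeal A).toCotangent (Tm a) = (e.symm i : (maximalIdeal A).Cotangent) := by
    intro i
    exact hbS (e.symm i).2
  choose a ha using hex
  refine ⟨m, fun i => Tm (a i), ?_, ?_⟩
  · apply le_antisymm
    · rw [Ideal.span_le]
      rintro _ ⟨i, rfl⟩
      exact Ideal.subset_span ⟨(a i : A), rfl⟩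
    · -- Nakayama
      apply Submodule.le_of_le_smul_of_le_jacobson_bot (I := maximalIdeal A)
        (IsNoetherian.noetherian _) (IsLocalRing.maximalIdeal_le_jacobson _)
      rw [Ideal.span_le]
      rintro _ ⟨x, rfl⟩
      show T σ x ∈ _
      -- write x = c + x'
      obtain ⟨c, hc⟩ := hres (IsLocalRing.residue A x)
      have hx' : x - algebraMap k A c ∈ maximalIdeal A := by
        rw [← Ideal.Quotient.eq_zero_iff_mem, map_sub, sub_eq_zero]
        rw [IsScalarTower.algebraMap_apply k A (ResidueField A)] at hc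
        exact hc.symm
      have hTx : T σ x = T σ (x - algebraMap k A c) := by
        rw [map_sub, T_algebraMap, sub_zero]
      rw [hTx]
      set x' : maximalIdeal A := ⟨x - algebraMap k A c, hx'⟩ with hx'def
      -- class of T x' in span of b
      have h1 : (maximalIdeal A).toCotangent (Tm x') ∈
          Submodule.span (ResidueField A) (Set.range fun i : Fin m =>
            (maximalIdeal A).toCotangent (Tm (a i))) := by
        have h2 : (Set.range fun i : Fin m => (maximalIdeal A).toCotangent (Tm (a i))) = b := by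
          ext v
          constructor
          · rintro ⟨i, rfl⟩
            dsimp only
            rw [ha]; exact (e.symm i).2
          · intro hv
            refine ⟨e ⟨v, hv⟩, ?_⟩
            dsimp only
            rw [ha]; simp
        rw [h2, hbspan]
        exact Submodule.subset_span ⟨x', rfl⟩
      obtain ⟨lam, hlam⟩ := (Submodule.mem_span_range_iff_exists_fun _).mp h1
      choose cc hcc using fun i => hres (lam i)
      -- a'' = x' - Σ cc_i a_i
      set a'' : A := (x' : A) - ∑ i, algebraMap k A (cc i) * (a i : A) with ha''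
      have hTa'' : T σ a'' = T σ x' - ∑ i, algebraMap k A (cc i) * T σ (a i) := by
        rw [ha'', map_sub, map_sum]
        congr 1
        apply Finset.sum_congr rfl
        intro i _
        rw [← Algebra.smul_def, map_smul, Algebra.smul_def]
      have ha''m : a'' ∈ maximalIdeal A :=
        Ideal.sub_mem _ x'.2 (Ideal.sum_mem _ fun i _ => Ideal.mul_mem_left _ _ (a i).2)
      have hsq : T σ a'' ∈ maximalIdeal A ^ 2 := by
        have h3 : (maximalIdeal A).toCotangent (Tm ⟨a'', ha''m⟩) = 0 := by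
          have h4 : Tm ⟨a'', ha''m⟩ = Tm x' - ∑ i, (algebraMap k A (cc i)) • Tm (a i) := by
            apply Subtype.ext
            simp only [Tm, Submodule.coe_sub, Submodule.coe_sum, Submodule.coe_smul, smul_eq_mul]
            exact hTa''
          rw [h4, map_sub, map_sum, ← hlam, sub_eq_zero]
          apply Finset.sum_congr rfl
          intro i _
          rw [map_smul, ← hcc i, IsScalarTower.algebraMap_apply k A (ResidueField A),
            IsScalarTower.algebraMap_smul]
        exact ((maximalIdeal A).toCotangent_eq_zero _).mp h3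
      have h5 := T_mem_of_T_mem_sq hσ hn hsq
      have h6 : T σ (x' : A) = ∑ i, algebraMap k A (cc i) * T σ (a i) + T σ a'' := by
        rw [hTa'']; ring
      show T σ (x' : A) ∈ _
      rw [h6]
      refine Submodule.add_mem_sup ?_ ?_
      · refine Ideal.sum_mem _ (fun i _ => Ideal.mul_mem_left _ _ (Ideal.subset_span ⟨i, rfl⟩))
      · rw [smul_eq_mul]; exact h5
  · have h2 : (fun i : Fin m => (maximalIdeal A).toCotangent (Tm (a i))) =
        (Subtype.val : b → _) ∘ e.symm := by
      funext i; rw [ha]; rfl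
    rw [h2]
    exact hbli.comp _ e.symm.injective

end Groth.Agent.Helper9.FixIdeal
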