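import Mathlib
import Groth.Prelude.Def_Magnet

set_option autoImplicit false
universe v₁ u₁
open CategoryTheory MonoidalCategory CartesianMonoidalCategory MonObj Opposite

namespace Groth.Agent.Helper9.FixedSheaf

variable {C : Type u₁} [Category.{v₁} C] [CartesianMonoidalCategory C]
variable {A X : C} [MonObj A]

theorem isSheaf_fixedPsh (J : GrothendieckTopology C) [J.Subcanonical] (a : Magnet.MonAct A X) :
    Presheaf.IsSheaf J (Magnet.MonAct.fixedPsh a) := by
  rw [isSheaf_iff_isSheaf_of_type]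
  have hX : Presieve.IsSheaf J (yoneda.obj X) :=
    GrothendieckTopology.Subcanonical.isSheaf_of_isRepresentable (yoneda.obj X)
  intro T S hS x hx
  -- the family in yoneda X
  let y : Presieve.FamilyOfElements (yoneda.obj X) S.arrows := fun Y f hf => (x f hf).1
  have hy : y.Compatible := by
    intro Y₁ Y₂ Z g₁ g₂ f₁ f₂ h₁ h₂ hcomm
    have := hx g₁ g₂ h₁ h₂ hcomm
    exact congrArg Subtype.val this
  obtain ⟨t, ht, htuniq⟩ := hX S hS y hy
  have htfix : ∀ (T' : C) (s : T' ⟶ T) (g : T' ⟶ A), lift g (s ≫ t) ≫ a.act = s ≫ t := by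
    intro T' s g
    refine (hX (S.pullback s) (J.pullback_stable s hS)).isSeparatedFor.ext ?_
    intro T'' f' hf'
    change f' ≫ (lift g (s ≫ t) ≫ a.act) = f' ≫ (s ≫ t)
    have h1 : (f' ≫ s) ≫ t = (x (f' ≫ s) hf').1 := ht (f' ≫ s) hf'
    rw [← Category.assoc, comp_lift]
    rw [Category.assoc] at h1
    rw [h1]
    have := (x (f' ≫ s) hf').2 T'' (𝟙 _) (f' ≫ g)
    rw [Category.id_comp] at this
    exact this
  refine ⟨⟨t, htfix⟩, ?_, ?_⟩
  · intro Y f hf
    exact Subtype.ext (ht f hf)
  · intro t' ht'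
    apply Subtype.ext
    apply htuniq
    intro Y f hf
    exact congrArg Subtype.val (ht' f hf)

end Groth.Agent.Helper9.FixedSheaf
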