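import Mathlib
import Groth.Prelude.Def_CohTop

/-! Towers of flasque sheaves: the limit is flasque; `lim` is exact on flasque towers. -/

set_option autoImplicit false
universe u
open CategoryTheory CategoryTheory.Limits TopologicalSpace Opposite

namespace Groth.Agent.Helper9.FlasqueTower

variable {X : TopCat.{u}}

/-- sections over `W`, as a set -/
noncomputable abbrev secF (W : Opens X) : CohTop.Ab X ⥤ Type u :=
  sheafToPresheaf _ _ ⋙ (evaluation _ _).obj (op W) ⋙ forget AddCommGrpCat

instance (W : Opens X) : PreservesLimitsOfSize.{0, 0} (secF W) := by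
  unfold secF
  infer_instance

lemma hom_eq {a b : ℕ} (f g : (op a : ℕᵒᵖ) ⟶ op b) : f = g := by
  apply Quiver.Hom.unop_inj
  exact Subsingleton.elim _ _

lemma sections_of_succ (G : ℕᵒᵖ ⥤ Type u) (x : ∀ n : ℕ, G.obj (op n))
    (h : ∀ n, G.map (homOfLE (Nat.le_succ n)).op (x (n + 1)) = x n) :
    (fun j : ℕᵒᵖ => x j.unop) ∈ G.sections := by
  have key : ∀ (k n : ℕ) (f : (op (n + k) : ℕᵒᵖ) ⟶ op n), G.map f (x (n + k)) = x n := by
    intro k
    induction k with
    | zero =>
      intro n f
      have : f = 𝟙 _ := hom_eq _ _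
      rw [this, Functor.map_id_apply]
      rfl
    | succ k ih =>
      intro n f
      have : f = (homOfLE (Nat.le_succ (n + k))).op ≫
          (homOfLE (Nat.le_add_right n k)).op := hom_eq _ _
      rw [this, Functor.map_comp_apply]
      erw [h (n + k)]
      exact ih n _
  intro j j' f
  induction j using Opposite.rec with | _ m
  induction j' using Opposite.rec with | _ n
  have hnm : n ≤ m := leOfHom f.unop
  obtain ⟨k, rfl⟩ := Nat.exists_eq_add_of_le hnm
  exact key k n f

variable (M : ℕᵒᵖ ⥤ CohTop.Ab X)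

/-- sections of the limit are compatible families -/
noncomputable def limEquiv (W : Opens X) :
    ((limit M : CohTop.Ab X).obj.obj (op W) : Type u) ≃ (M ⋙ secF W).sections :=
  Types.isLimitEquivSections (isLimitOfPreserves (secF W) (limit.isLimit M))

lemma limEquiv_apply (W : Opens X) (τ : ((limit M : CohTop.Ab X).obj.obj (op W) : Type u))
    (j : ℕᵒᵖ) : (limEquiv M W τ).1 j = (limit.π M j).hom.app (op W) τ := rfl

/-- restriction of sections -/
noncomputable abbrev res (F : CohTop.Ab X) {U V : Opens X} (h : V ≤ U) :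
    F.obj.obj (op U) →+ F.obj.obj (op V) := (F.obj.map (homOfLE h).op).hom

/-- a morphism on sections -/
noncomputable abbrev app {F G : CohTop.Ab X} (φ : F ⟶ G) (U : Opens X) :
    F.obj.obj (op U) →+ G.obj.obj (op U) := (φ.hom.app (op U)).hom

lemma app_res {F G : CohTop.Ab X} (φ : F ⟶ G) {U V : Opens X} (h : V ≤ U)
    (x : F.obj.obj (op U)) : app φ V (res F h x) = res G h (app φ U x) :=
  NatTrans.naturality_apply φ.hom (homOfLE h).op x

lemma app_comp {F G H : CohTop.Ab X} (φ : F ⟶ G) (ψ : G ⟶ H) (U : Opens X)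
    (x : F.obj.obj (op U)) : app (φ ≫ ψ) U x = app ψ U (app φ U x) := rfl

lemma flasque_surj (F : CohTop.Ab X) [TopCat.Sheaf.IsFlasque F] {U V : Opens X} (h : V ≤ U)
    (x : F.obj.obj (op V)) : ∃ y : F.obj.obj (op U), res F h y = x :=
  (AddCommGrpCat.epi_iff_surjective (F.obj.map (homOfLE h).op)).1
    (TopCat.Presheaf.IsFlasque.epi (F := F.obj) (homOfLE h).op) x

/-- the transition maps -/
noncomputable abbrev p (n : ℕ) : M.obj (op (n + 1)) ⟶ M.obj (op n) :=
  M.map (homOfLE (Nat.le_succ n)).op

/-- the short exact sequence `0 → K_n → M_{n+1} → M_n → 0` -/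
noncomputable def sc (n : ℕ) : ShortComplex (CohTop.Ab X) :=
  ShortComplex.mk (kernel.ι (p M n)) (p M n) (kernel.condition _)

lemma sc_shortExact (n : ℕ) (h : Epi (p M n)) : (sc M n).ShortExact :=
  { exact := ShortComplex.exact_kernel _
    mono_f := by dsimp [sc]; infer_instance
    epi_g := h }

variable (hepi : ∀ n, Epi (p M n))
  (hK : ∀ n, TopCat.Sheaf.IsFlasque (kernel (p M n) : CohTop.Ab X))

include hepi hK in
lemma p_surjective (n : ℕ) (U : Opens X) (t : (M.obj (op n)).obj.obj (op U)) :
    ∃ t' : (M.obj (op (n + 1))).obj.obj (op U), app (p M n) U t' = t := by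
  have : TopCat.Sheaf.IsFlasque (sc M n).X₁ := hK n
  have := TopCat.Sheaf.IsFlasque.epi_of_shortExact (U := U) (sc_shortExact M n (hepi n))
  exact (AddCommGrpCat.epi_iff_surjective _).1 this t

include hepi hK in
lemma step (n : ℕ) {U V : Opens X} (hVU : V ≤ U) (t : (M.obj (op n)).obj.obj (op U))
    (s' : (M.obj (op (n + 1))).obj.obj (op V)) (h : app (p M n) V s' = res _ hVU t) :
    ∃ t' : (M.obj (op (n + 1))).obj.obj (op U), app (p M n) U t' = t ∧ res _ hVU t' = s' := by
  obtain ⟨a, ha⟩ := p_surjective M hepi hK n U t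
  have hz : app (p M n) V (res _ hVU a - s') = 0 := by
    rw [map_sub, app_res, ha, h, sub_self]
  obtain ⟨k, hk⟩ := TopCat.Sheaf.sections_exact_of_left_exact (U := V)
    (sc_shortExact M n (hepi n)).exact (sc_shortExact M n (hepi n)).mono_f
    (res _ hVU a - s') hz
  have := hK n
  obtain ⟨k', hk'⟩ := flasque_surj (kernel (p M n)) hVU k
  have hk2 : app (kernel.ι (p M n)) V k = res _ hVU a - s' := hk
  refine ⟨a - app (kernel.ι (p M n)) U k', ?_, ?_⟩
  · rw [map_sub, ha, ← app_comp, kernel.condition]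
    show t - 0 = t
    rw [sub_zero]
  · rw [map_sub, ← app_res, hk', hk2, sub_sub_cancel]

lemma π_w (n : ℕ) (W : Opens X) (σ : ((limit M : CohTop.Ab X).obj.obj (op W) : Type u)) :
    app (p M n) W (app (limit.π M (op (n + 1))) W σ) = app (limit.π M (op n)) W σ := by
  rw [← app_comp, limit.w]

include hepi hK in
theorem isFlasque_limit (hM : ∀ n, TopCat.Sheaf.IsFlasque (M.obj (op n))) :
    TopCat.Sheaf.IsFlasque (limit M : CohTop.Ab X) := by
  constructor
  intro U V i
  induction U using Opposite.rec with | _ U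
  induction V using Opposite.rec with | _ V
  have hVU : V ≤ U := leOfHom i.unop
  rw [AddCommGrpCat.epi_iff_surjective]
  intro σ
  let s : ∀ n, (M.obj (op n)).obj.obj (op V) := fun n => app (limit.π M (op n)) V σ
  have hs : ∀ n, app (p M n) V (s (n + 1)) = s n := fun n => π_w M n V σ
  let T : ℕ → Type u := fun n => {t : (M.obj (op n)).obj.obj (op U) // res _ hVU t = s n}
  have t0 : T 0 := by
    have := hM 0
    exact ⟨Classical.choose (flasque_surj (M.obj (op 0)) hVU (s 0)),
      Classical.choose_spec (flasque_surj (M.obj (op 0)) hVU (s 0))⟩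
  have stepT : ∀ n (t : T n), ∃ t' : T (n + 1), app (p M n) U t'.1 = t.1 := by
    intro n t
    obtain ⟨t', h1, h2⟩ := step M hepi hK n hVU t.1 (s (n + 1)) (by rw [hs, t.2])
    exact ⟨⟨t', h2⟩, h1⟩
  choose nxt hnxt using stepT
  let t : ∀ n, T n := fun n => Nat.rec t0 (fun n ih => nxt n ih) n
  have ht : ∀ n, app (p M n) U (t (n + 1)).1 = (t n).1 := fun n => hnxt n (t n)
  let τ : ((limit M : CohTop.Ab X).obj.obj (op U) : Type u) := (limEquiv M U).symm
    ⟨fun j => (t j.unop).1, sections_of_succ (M ⋙ secF U) (fun n => (t n).1) ht⟩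
  have hτ : ∀ n, app (limit.π M (op n)) U τ = (t n).1 := by
    intro n
    have := limEquiv_apply M U τ (op n)
    rw [← this]
    show ((limEquiv M U) ((limEquiv M U).symm _)).1 (op n) = _
    rw [Equiv.apply_symm_apply]
  refine ⟨τ, ?_⟩
  apply (limEquiv M V).injective
  apply Subtype.ext
  funext j
  induction j using Opposite.rec with | _ n
  rw [limEquiv_apply, limEquiv_apply]
  have h1 : (limit.π M (op n)).hom.app (op V) ((limit M : CohTop.Ab X).obj.map i τ) =
      res _ hVU (app (limit.π M (op n)) U τ) := app_res (limit.π M (op n)) hVU τ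
  exact h1.trans ((congrArg _ (hτ n)).trans (t n).2)

end Groth.Agent.Helper9.FlasqueTower
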