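import Mathlib
import Groth.Prelude.Def_CohTop
import Groth.Agent.Helper9.FlasqueTower

/-! `lim` is exact on short exact sequences of flasque towers. -/

set_option autoImplicit false
universe u
open CategoryTheory CategoryTheory.Limits TopologicalSpace Opposite

namespace Groth.Agent.Helper9.FlasqueTower

variable {X : TopCat.{u}}

lemma epi_of_sectionwise_surjective {F G : CohTop.Ab X} (φ : F ⟶ G)
    (h : ∀ (U : Opens X) (t : G.obj.obj (op U)), ∃ s : F.obj.obj (op U), app φ U s = t) :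
    Epi φ := by
  refine (TopCat.Sheaf.isLocallySurjective_iff_epi (X := X) (C := AddCommGrpCat.{u}) φ).1 ?_
  rw [TopCat.Presheaf.isLocallySurjective_iff]
  intro U t x hx
  obtain ⟨s, hs⟩ := h U t
  refine ⟨U, le_rfl, ⟨s, hs.trans ?_⟩, hx⟩
  show t = G.obj.map (𝟙 _) t
  rw [G.obj.map_id]
  rfl

variable (S : ShortComplex (ℕᵒᵖ ⥤ CohTop.Ab X)) (hS : S.ShortExact)

/-- the level `n` short complex -/
noncomputable abbrev lev (n : ℕ) : ShortComplex (CohTop.Ab X) :=
  S.map ((evaluation ℕᵒᵖ (CohTop.Ab X)).obj (op n))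

include hS in
lemma lev_shortExact (n : ℕ) : (lev S n).ShortExact :=
  hS.map_of_exact _

variable (hM1 : ∀ n : ℕ, TopCat.Sheaf.IsFlasque (S.X₁.obj (op n)))
  (hepi1 : ∀ n, Epi (p S.X₁ n))
  (hK1 : ∀ n, TopCat.Sheaf.IsFlasque (kernel (p S.X₁ n) : CohTop.Ab X))

include hS hM1 in
lemma g_surjective (n : ℕ) (U : Opens X) (t : (S.X₃.obj (op n)).obj.obj (op U)) :
    ∃ s : (S.X₂.obj (op n)).obj.obj (op U), app (S.g.app (op n)) U s = t := by
  have : TopCat.Sheaf.IsFlasque (lev S n).X₁ := hM1 n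
  have := TopCat.Sheaf.IsFlasque.epi_of_shortExact (U := U) (lev_shortExact S hS n)
  exact (AddCommGrpCat.epi_iff_surjective _).1 this t

include hS in
lemma f_exact (n : ℕ) (U : Opens X) (x : (S.X₂.obj (op n)).obj.obj (op U))
    (hx : app (S.g.app (op n)) U x = 0) :
    ∃ y : (S.X₁.obj (op n)).obj.obj (op U), app (S.f.app (op n)) U y = x :=
  TopCat.Sheaf.sections_exact_of_left_exact (U := U) (lev_shortExact S hS n).exact
    (lev_shortExact S hS n).mono_f x hx

include hS hM1 hepi1 hK1 in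
lemma step2 (n : ℕ) (U : Opens X) (s'' : (S.X₃.obj (op (n + 1))).obj.obj (op U))
    (s : (S.X₂.obj (op n)).obj.obj (op U))
    (h : app (S.g.app (op n)) U s = app (p S.X₃ n) U s'') :
    ∃ s' : (S.X₂.obj (op (n + 1))).obj.obj (op U),
      app (S.g.app (op (n + 1))) U s' = s'' ∧ app (p S.X₂ n) U s' = s := by
  obtain ⟨a, ha⟩ := g_surjective S hS hM1 (n + 1) U s''
  have hgnat : ∀ z, app (S.g.app (op n)) U (app (p S.X₂ n) U z) =
      app (p S.X₃ n) U (app (S.g.app (op (n + 1))) U z) := by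
    intro z
    rw [← app_comp, ← app_comp]
    congr 2
    exact S.g.naturality (homOfLE (Nat.le_succ n)).op
  have hfnat : ∀ z, app (S.f.app (op n)) U (app (p S.X₁ n) U z) =
      app (p S.X₂ n) U (app (S.f.app (op (n + 1))) U z) := by
    intro z
    rw [← app_comp, ← app_comp]
    congr 2
    exact S.f.naturality (homOfLE (Nat.le_succ n)).op
  have hd : app (S.g.app (op n)) U (app (p S.X₂ n) U a - s) = 0 := by
    rw [map_sub, hgnat, ha, h, sub_self]
  obtain ⟨b', hb'⟩ := f_exact S hS n U _ hd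
  obtain ⟨c', hc'⟩ := p_surjective S.X₁ hepi1 hK1 n U b'
  have hfg : ∀ z, app (S.g.app (op (n + 1))) U (app (S.f.app (op (n + 1))) U z) = 0 := by
    intro z
    rw [← app_comp, ← NatTrans.comp_app, S.zero]
    rfl
  refine ⟨a - app (S.f.app (op (n + 1))) U c', ?_, ?_⟩
  · rw [map_sub, ha, hfg, sub_zero]
  · rw [map_sub, ← hfnat, hc', hb', sub_sub_cancel]

include hS hM1 hepi1 hK1 in
theorem epi_limMap : Epi (limMap S.g) := by
  apply epi_of_sectionwise_surjective
  intro U σ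
  let s'' : ∀ n, (S.X₃.obj (op n)).obj.obj (op U) := fun n => app (limit.π S.X₃ (op n)) U σ
  have hs'' : ∀ n, app (p S.X₃ n) U (s'' (n + 1)) = s'' n := fun n => π_w S.X₃ n U σ
  let T : ℕ → Type u := fun n =>
    {s : (S.X₂.obj (op n)).obj.obj (op U) // app (S.g.app (op n)) U s = s'' n}
  have t0 : T 0 := ⟨Classical.choose (g_surjective S hS hM1 0 U (s'' 0)),
    Classical.choose_spec (g_surjective S hS hM1 0 U (s'' 0))⟩
  have stepT : ∀ n (t : T n), ∃ t' : T (n + 1), app (p S.X₂ n) U t'.1 = t.1 := by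
    intro n t
    obtain ⟨t', h1, h2⟩ := step2 S hS hM1 hepi1 hK1 n U (s'' (n + 1)) t.1 (by rw [hs'', t.2])
    exact ⟨⟨t', h1⟩, h2⟩
  choose nxt hnxt using stepT
  let t : ∀ n, T n := fun n => Nat.rec t0 (fun n ih => nxt n ih) n
  have ht : ∀ n, app (p S.X₂ n) U (t (n + 1)).1 = (t n).1 := fun n => hnxt n (t n)
  let τ : ((limit S.X₂ : CohTop.Ab X).obj.obj (op U) : Type u) := (limEquiv S.X₂ U).symm
    ⟨fun j => (t j.unop).1, sections_of_succ (S.X₂ ⋙ secF U) (fun n => (t n).1) ht⟩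
  have hτ : ∀ n, app (limit.π S.X₂ (op n)) U τ = (t n).1 := by
    intro n
    have := limEquiv_apply S.X₂ U τ (op n)
    rw [← this]
    show ((limEquiv S.X₂ U) ((limEquiv S.X₂ U).symm _)).1 (op n) = _
    rw [Equiv.apply_symm_apply]
  refine ⟨τ, ?_⟩
  apply (limEquiv S.X₃ U).injective
  apply Subtype.ext
  funext j
  induction j using Opposite.rec with | _ n
  rw [limEquiv_apply, limEquiv_apply]
  have h1 : (limit.π S.X₃ (op n)).hom.app (op U) (app (limMap S.g) U τ) =
      app (S.g.app (op n)) U (app (limit.π S.X₂ (op n)) U τ) := by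
    show app (limit.π S.X₃ (op n)) U (app (limMap S.g) U τ) = _
    rw [← app_comp, ← app_comp, limMap_π]
  exact h1.trans ((congrArg _ (hτ n)).trans (t n).2)

end Groth.Agent.Helper9.FlasqueTower
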