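import Mathlib

/-! Flatness of the cokernel end of a resolution whose reductions mod every ideal stay exact
(helper9). -/

namespace Groth.Agent.Helper9.FlatChase

open TensorProduct

universe u v

variable {R : Type u} [CommRing R]

/-- the multiplication map `I ⊗ X → X` -/
noncomputable def mu (I : Ideal R) (X : Type v) [AddCommGroup X] [Module R X] : I ⊗[R] X →ₗ[R] X :=
  TensorProduct.lift ((LinearMap.lsmul R X).comp I.subtype)

@[simp] theorem mu_tmul (I : Ideal R) (X : Type v) [AddCommGroup X] [Module R X] (a : I) (x : X) :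
    mu I X (a ⊗ₜ x) = (a : R) • x := rfl

theorem mu_nat (I : Ideal R) {X Y : Type v} [AddCommGroup X] [Module R X] [AddCommGroup Y]
    [Module R Y] (f : X →ₗ[R] Y) (t : I ⊗[R] X) : f (mu I X t) = mu I Y (f.lTensor I t) := by
  induction t using TensorProduct.induction_on with
  | zero => simp
  | tmul a x => simp
  | add a b ha hb => simp only [map_add, ha, hb]

theorem one_tmul_mu_eq_zero (I : Ideal R) (X : Type v) [AddCommGroup X] [Module R X]
    (t : I ⊗[R] X) : ((1 : R ⧸ I) ⊗ₜ[R] (mu I X t) : (R ⧸ I) ⊗[R] X) = 0 := by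
  induction t using TensorProduct.induction_on with
  | zero => simp
  | tmul a x =>
    rw [mu_tmul, ← TensorProduct.smul_tmul]
    have : (a : R) • (1 : R ⧸ I) = 0 := by
      rw [Algebra.smul_def, mul_one]
      exact Ideal.Quotient.eq_zero_iff_mem.mpr a.2
    rw [this, TensorProduct.zero_tmul]
  | add a b ha hb => rw [map_add, TensorProduct.tmul_add, ha, hb, add_zero]

theorem exists_one_tmul (I : Ideal R) (X : Type v) [AddCommGroup X] [Module R X]
    (w : (R ⧸ I) ⊗[R] X) : ∃ x : X, w = (1 : R ⧸ I) ⊗ₜ[R] x := by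
  induction w using TensorProduct.induction_on with
  | zero => exact ⟨0, by simp⟩
  | tmul c x =>
    obtain ⟨r, rfl⟩ := Ideal.Quotient.mk_surjective c
    refine ⟨r • x, ?_⟩
    rw [← TensorProduct.smul_tmul, Algebra.smul_def, mul_one]
    rfl
  | add a b ha hb =>
    obtain ⟨x, rfl⟩ := ha
    obtain ⟨y, rfl⟩ := hb
    exact ⟨x + y, by rw [TensorProduct.tmul_add]⟩

theorem exists_mu_eq_of_one_tmul_eq_zero (I : Ideal R) (X : Type v) [AddCommGroup X] [Module R X]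
    (x : X) (hx : ((1 : R ⧸ I) ⊗ₜ[R] x : (R ⧸ I) ⊗[R] X) = 0) : ∃ t : I ⊗[R] X, mu I X t = x := by
  have hmem : x ∈ I • (⊤ : Submodule R X) := by
    have := congrArg (TensorProduct.quotTensorEquivQuotSMul X I) hx
    rw [map_zero, ← map_one (Ideal.Quotient.mk I),
      TensorProduct.quotTensorEquivQuotSMul_mk_tmul, one_smul] at this
    exact (Submodule.Quotient.mk_eq_zero _).mp this
  refine Submodule.smul_induction_on hmem ?_ ?_
  · intro a ha y _
    exact ⟨(⟨a, ha⟩ : I) ⊗ₜ y, rfl⟩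
  · rintro y z ⟨t, rfl⟩ ⟨s, rfl⟩
    exact ⟨t + s, map_add _ _ _⟩

theorem flat_of_chase {M P₁ P₂ P₃ : Type v} [AddCommGroup M] [Module R M]
    [AddCommGroup P₁] [Module R P₁] [AddCommGroup P₂] [Module R P₂] [AddCommGroup P₃] [Module R P₃]
    (d₁ : P₁ →ₗ[R] M) (d₂ : P₂ →ₗ[R] P₁) (d₃ : P₃ →ₗ[R] P₂)
    (hsurj : Function.Surjective d₁)
    (hex : ∀ p, d₁ p = 0 → ∃ q, d₂ q = p)
    (h12 : ∀ q, d₁ (d₂ q) = 0) (h23 : ∀ r, d₂ (d₃ r) = 0)
    [Module.Flat R P₁]
    (hI : ∀ (I : Ideal R) (z : (R ⧸ I) ⊗[R] P₂), d₂.lTensor (R ⧸ I) z = 0 →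
      ∃ w : (R ⧸ I) ⊗[R] P₃, d₃.lTensor (R ⧸ I) w = z) :
    Module.Flat R M := by
  rw [Module.Flat.iff_lift_lsmul_comp_subtype_injective]
  intro I _
  have hP₁ : Function.Injective (mu I P₁) :=
    (Module.Flat.iff_lift_lsmul_comp_subtype_injective.mp inferInstance) (I := I) ‹_›
  rw [injective_iff_map_eq_zero]
  intro x hx
  have hx' : mu I M x = 0 := hx
  obtain ⟨y, rfl⟩ := LinearMap.lTensor_surjective I hsurj x
  rw [← mu_nat] at hx'
  obtain ⟨q, hq⟩ := hex _ hx'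
  have hz : d₂.lTensor (R ⧸ I) ((1 : R ⧸ I) ⊗ₜ[R] q) = 0 := by
    rw [LinearMap.lTensor_tmul, hq]
    exact one_tmul_mu_eq_zero I P₁ y
  obtain ⟨w, hw⟩ := hI I _ hz
  obtain ⟨r, rfl⟩ := exists_one_tmul I P₃ w
  rw [LinearMap.lTensor_tmul] at hw
  have hdiff : ((1 : R ⧸ I) ⊗ₜ[R] (q - d₃ r) : (R ⧸ I) ⊗[R] P₂) = 0 := by
    rw [TensorProduct.tmul_sub, hw, sub_self]
  obtain ⟨t, ht⟩ := exists_mu_eq_of_one_tmul_eq_zero I P₂ _ hdiff
  have hy : y = d₂.lTensor I t := by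
    apply hP₁
    rw [← mu_nat, ht, map_sub, h23, sub_zero, hq]
  rw [hy, ← LinearMap.comp_apply, ← LinearMap.lTensor_comp]
  have : d₁ ∘ₗ d₂ = 0 := LinearMap.ext h12
  rw [this, LinearMap.lTensor_zero, LinearMap.zero_apply]

end Groth.Agent.Helper9.FlatChase
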