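import Mathlib

set_option autoImplicit false
universe u
open CategoryTheory AlgebraicGeometry Limits

namespace Groth.Agent.Helper9.SchDom

/-- Two morphisms into a separated `Z`-scheme agreeing after precomposition with a
scheme-theoretically dominant morphism are equal. -/
theorem ext_of_schDominant {W X Y Z : Scheme.{u}} (ι : W ⟶ X) [IsSchemeTheoreticallyDominant ι]
    {f g : X ⟶ Y} (s : Y ⟶ Z) [IsSeparated s] (h : f ≫ s = g ≫ s) (hι : ι ≫ f = ι ≫ g) :
    f = g := by
  let X' : Over Z := Over.mk (f ≫ s)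
  let Y' : Over Z := Over.mk s
  let U' : Over Z := Over.mk (ι ≫ f ≫ s)
  let f' : X' ⟶ Y' := Over.homMk f
  let g' : X' ⟶ Y' := Over.homMk g h.symm
  let ι' : U' ⟶ X' := Over.homMk ι
  have : IsSeparated Y'.hom := ‹_›
  have hlift : ι' ≫ f' = ι' ≫ g' := by
    ext1; exact hι
  have hfac : (equalizer.lift ι' hlift).left ≫ (equalizer.ι f' g').left = ι := by
    rw [← Over.comp_left, equalizer.lift_ι]
    rfl
  have hker : (equalizer.ι f' g').left.ker = ⊥ := by
    rw [eq_bot_iff]
    have h1 := Scheme.Hom.le_ker_comp (equalizer.lift ι' hlift).left (equalizer.ι f' g').left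
    rw [hfac, IsSchemeTheoreticallyDominant.ker_eq_bot ι] at h1
    exact h1
  have : IsIso (equalizer.ι f' g').left := IsClosedImmersion.isIso_iff_ker_eq_bot.mpr hker
  rw [← cancel_epi (equalizer.ι f' g').left]
  exact congr($(equalizer.condition f' g').left)

/-- Version in `Over S`. -/
theorem over_ext_of_schDominant {S : Scheme.{u}} {W X Y : Over S} (ι : W ⟶ X)
    [IsSchemeTheoreticallyDominant ι.left] [IsSeparated Y.hom] {f g : X ⟶ Y}
    (hι : ι ≫ f = ι ≫ g) : f = g := by
  apply Over.OverMorphism.ext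
  refine ext_of_schDominant ι.left Y.hom ?_ ?_
  · rw [Over.w f, Over.w g]
  · rw [← Over.comp_left, ← Over.comp_left, hι]

/-- A quasi-compact morphism to an affine scheme that is injective on global sections is
scheme-theoretically dominant. -/
theorem schDominant_of_injective_appTop {X Y : Scheme.{u}} [IsAffine Y] (f : X ⟶ Y) [QuasiCompact f]
    (h : Function.Injective f.appTop.hom) : IsSchemeTheoreticallyDominant f := by
  refine ⟨Scheme.IdealSheafData.ext_of_isAffine ?_⟩
  rw [Scheme.Hom.ker_apply]
  simp only [Scheme.IdealSheafData.ideal_bot, Pi.bot_apply]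
  exact (RingHom.injective_iff_ker_eq_bot _).mp h

theorem appTop_specMap_injective {R S : CommRingCat.{u}} (φ : R ⟶ S)
    (h : Function.Injective φ.hom) : Function.Injective (Spec.map φ).appTop.hom := by
  have hnat := Scheme.ΓSpecIso_inv_naturality φ
  have h1 : (Spec.map φ).appTop = (Scheme.ΓSpecIso R).hom ≫ φ ≫ (Scheme.ΓSpecIso S).inv := by
    rw [hnat, Iso.hom_inv_id_assoc]
  rw [h1]
  have hR : Function.Injective (Scheme.ΓSpecIso R).hom.hom :=
    ((ConcreteCategory.isIso_iff_bijective (Scheme.ΓSpecIso R).hom).mp inferInstance).1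
  have hS : Function.Injective (Scheme.ΓSpecIso S).inv.hom :=
    ((ConcreteCategory.isIso_iff_bijective (Scheme.ΓSpecIso S).inv).mp inferInstance).1
  simp only [CommRingCat.hom_comp, RingHom.coe_comp]
  exact hS.comp (h.comp hR)

instance schDominant_specMap_of_injective {R S : CommRingCat.{u}} (φ : R ⟶ S)
    [Fact (Function.Injective φ.hom)] : IsSchemeTheoreticallyDominant (Spec.map φ) :=
  schDominant_of_injective_appTop _ (appTop_specMap_injective φ Fact.out)

theorem schDominant_specMap {R S : CommRingCat.{u}} (φ : R ⟶ S)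
    (h : Function.Injective φ.hom) : IsSchemeTheoreticallyDominant (Spec.map φ) :=
  schDominant_of_injective_appTop _ (appTop_specMap_injective φ h)

/-- A morphism `φ : P ⟶ Y` factors through a closed immersion `f : Z ⟶ Y` as soon as its
restriction along a scheme-theoretically dominant `h : P' ⟶ P` does. -/
theorem exists_lift_of_schDominant {P' P Y Z : Scheme.{u}} (h : P' ⟶ P)
    [IsSchemeTheoreticallyDominant h] (φ : P ⟶ Y) (f : Z ⟶ Y) [IsClosedImmersion f]
    (k : P' ⟶ Z) (hk : k ≫ f = h ≫ φ) : ∃ ψ : P ⟶ Z, ψ ≫ f = φ := by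
  have hfac : pullback.lift h k hk.symm ≫ pullback.fst φ f = h := pullback.lift_fst _ _ _
  have hker : (pullback.fst φ f).ker = ⊥ := by
    rw [eq_bot_iff]
    have h1 := Scheme.Hom.le_ker_comp (pullback.lift h k hk.symm) (pullback.fst φ f)
    rw [hfac, IsSchemeTheoreticallyDominant.ker_eq_bot h] at h1
    exact h1
  haveI : IsIso (pullback.fst φ f) := IsClosedImmersion.isIso_iff_ker_eq_bot.mpr hker
  refine ⟨inv (pullback.fst φ f) ≫ pullback.snd φ f, ?_⟩
  rw [Category.assoc, ← pullback.condition, IsIso.inv_hom_id_assoc]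

end Groth.Agent.Helper9.SchDom
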