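import Mathlib
import Groth.Prelude.Def_Magnet3
import Groth.Agent.Helper9.SchDom

set_option autoImplicit false
universe u
open CategoryTheory AlgebraicGeometry Limits MonoidalCategory CartesianMonoidalCategory MonObj Opposite

namespace Groth.Agent.Helper9.FlatDom

/-- The square `G ⊗ T → M ⊗ T`, `fst`, `fst`, `i` is a pullback (on underlying schemes). -/
theorem isPullback_whiskerRight_fst {S : Scheme.{u}} {G M : Over S} (i : G ⟶ M) (T : Over S) :
    IsPullback (i ▷ T).left (CartesianMonoidalCategory.fst G T).left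
      (CartesianMonoidalCategory.fst M T).left i.left := by
  have hr : IsPullback (pullback.snd M.hom T.hom) (pullback.fst M.hom T.hom) T.hom M.hom :=
    (IsPullback.of_hasPullback _ _).flip
  have ho : IsPullback ((i ▷ T).left ≫ pullback.snd M.hom T.hom) (pullback.fst G.hom T.hom)
      T.hom (i.left ≫ M.hom) := by
    have h1 : (i ▷ T).left ≫ pullback.snd M.hom T.hom = pullback.snd G.hom T.hom :=
      Over.whiskerRight_left_snd i
    have h2 : i.left ≫ M.hom = G.hom := Over.w i
    rw [h1, h2]
    exact (IsPullback.of_hasPullback _ _).flip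
  exact IsPullback.of_right ho (Over.whiskerRight_left_fst i) hr

/-- Over a field, `i ▷ T` is scheme-theoretically dominant when `i` is (and is quasi-compact). -/
theorem dom_whiskerRight (k : Type u) [Field k] {G M : Over (Spec (CommRingCat.of k))} (i : G ⟶ M)
    [IsSchemeTheoreticallyDominant i.left] [QuasiCompact i.left] (T : Over (Spec (CommRingCat.of k))) :
    IsSchemeTheoreticallyDominant (i ▷ T).left := by
  haveI : Subsingleton (Spec (CommRingCat.of k)) :=
    inferInstanceAs (Subsingleton (PrimeSpectrum k))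
  haveI : Flat T.hom := inferInstance
  haveI : Flat (CartesianMonoidalCategory.fst M T).left := by
    change Flat (pullback.fst M.hom T.hom)
    infer_instance
  exact IsSchemeTheoreticallyDominant.of_isPullback (isPullback_whiskerRight_fst i T).flip

/-- The orbit identity: for `φ` equivariant out of `M ⊗ T` (with `G` acting on `M` through `i`),
`φ ∘ (i × T) = (g, t) ↦ g • φ(1, t)`. -/
theorem key {C : Type*} [Category C] [CartesianMonoidalCategory C] {G M X : C} [MonObj G] [MonObj M]
    (i : G ⟶ M) [IsMonHom i] (a : Magnet.MonAct G X) (T : C)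
    (φ : (Magnet.MonAct.eqvHom ((Magnet.MonAct.regular M).restrict i) a).obj (op T)) :
    (i ▷ T) ≫ φ.1 = (G ◁ (lift (toUnit T ≫ η[M]) (𝟙 T) ≫ φ.1)) ≫ a.act := by
  apply Magnet.hom_ext_lift₂
  intro T' g t
  have h := (Magnet.MonAct.mem_eqvHom_iff φ.1).mp φ.2 T' g (1 : T' ⟶ M) t
  have h1 : lift g (1 : T' ⟶ M) ≫ ((Magnet.MonAct.regular M).restrict i).act = g ≫ i := by
    rw [Magnet.MonAct.lift_restrict_act, Magnet.MonAct.lift_regular_act, _root_.mul_one]
  have h2 : lift (1 : T' ⟶ M) t ≫ φ.1 = t ≫ (lift (toUnit T ≫ η[M]) (𝟙 T) ≫ φ.1) := by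
    rw [← Category.assoc, comp_lift, Category.comp_id, ← Category.assoc,
      toUnit_unique (t ≫ toUnit T) (toUnit T'), ← Hom.one_def]
  rw [lift_whiskerRight_assoc, ← h1, h, h2, lift_whiskerLeft_assoc]

end Groth.Agent.Helper9.FlatDom
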