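import Mathlib
import Groth.Prelude.Def_ModSite2
import Groth.Agent.Helper9.SheafHomAcyc
import Groth.Agent.Helper9.TensorSES
import Groth.Agent.Helper9.TensorFree
import Groth.Agent.Helper9.ModCechExt

/-!
# `Ext^p(A, ℋom(M, I)) = 0` for `p > 0`, `A` flat and `I` injective
-/

set_option autoImplicit false
set_option linter.style.haveILetI false
set_option linter.unusedSectionVars false

namespace Groth.Agent.Helper9.FlatExtVanish

open CategoryTheory Limits Opposite Abelian
  Groth.Agent.Helper9.TensorSh Groth.Agent.Helper9.TensorAdj Groth.Agent.Helper9.TensorFlat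
  Groth.Agent.Helper9.ModCechRes

universe u

variable {C : Type u} [SmallCategory C] {J : GrothendieckTopology C} (O : Sheaf J CommRingCat.{u})
  [HasExt.{u} (ModSite.Mod O)]

/-- the canonical free cover of a module -/
noncomputable abbrev P (A : ModSite.Mod O) : ModSite.Mod O :=
  (Φm (ModSite.ringSh O)).obj (Gs (ModSite.ringSh O) A)

/-- the projection -/
noncomputable abbrev π (A : ModSite.Mod O) : P O A ⟶ A :=
  (ModFree.adjL (ModSite.ringSh O)).counit.app A

instance epi_π (A : ModSite.Mod O) : Epi (π O A) := by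
  haveI : (ModFree.G (ModSite.ringSh O)).Faithful := inferInstance
  exact inferInstanceAs (Epi ((ModFree.adjL (ModSite.ringSh O)).counit.app A))

lemma isFlat_P (A : ModSite.Mod O) : ModSite.IsFlat (P O A) :=
  TensorFree.isFlat_free _

/-- the short exact sequence `0 → K → P → A → 0` -/
noncomputable abbrev S (A : ModSite.Mod O) : ShortComplex (ModSite.Mod O) :=
  ShortComplex.mk (kernel.ι (π O A)) (π O A) (kernel.condition _)

lemma hS (A : ModSite.Mod O) : (S O A).ShortExact :=
  { exact := ShortComplex.exact_kernel _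
    mono_f := inferInstanceAs (Mono (kernel.ι (π O A)))
    epi_g := epi_π O A }

variable (M I : ModSite.Mod O) [ModSite.HasSheafHom M] [Injective I]

lemma subsingleton_ext_P (A : ModSite.Mod O) (p : ℕ) :
    Subsingleton (Ext.{u} (P O A) ((ModSite.sheafHom M).obj I) (p + 1)) := by
  obtain ⟨e⟩ := ModCechExt.nonempty_addEquiv (ModSite.ringSh O) (Gs (ModSite.ringSh O) A)
    ((ModSite.sheafHom M).obj I) (p + 1)
  have h := SheafHomAcyc.totallyAcyclic_sheafHom O M I (Gs (ModSite.ringSh O) A) p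
  exact e.toEquiv.subsingleton

/-- extension of morphisms `K ⟶ ℋom(M, I)` along `K ⟶ P` when `P/K` is flat -/
lemma exists_extension (T : ShortComplex (ModSite.Mod O)) (hT : T.ShortExact)
    (hflat : ModSite.IsFlat T.X₃) (g : T.X₁ ⟶ (ModSite.sheafHom M).obj I) :
    ∃ h : T.X₂ ⟶ (ModSite.sheafHom M).obj I, T.f ≫ h = g := by
  haveI : Mono ((TN M).map T.f) := TensorSES.mono_TN_map_of_flat_quotient T hT hflat M
  let g' : (TN M).obj T.X₁ ⟶ I := ((ModSite.sheafHomAdj M).homEquiv _ _).symm g
  let h' : (TN M).obj T.X₂ ⟶ I := Injective.factorThru g' ((TN M).map T.f)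
  have hh' : (TN M).map T.f ≫ h' = g' := Injective.comp_factorThru _ _
  refine ⟨(ModSite.sheafHomAdj M).homEquiv _ _ h', ?_⟩
  rw [← Adjunction.homEquiv_naturality_left, hh']
  exact Equiv.apply_symm_apply _ _

theorem subsingleton_ext : ∀ (p : ℕ) (A : ModSite.Mod O), ModSite.IsFlat A →
    Subsingleton (Ext.{u} A ((ModSite.sheafHom M).obj I) (p + 1)) := by
  intro p
  induction p with
  | zero =>
    intro A hA
    refine subsingleton_of_forall_eq 0 (fun x₃ => ?_)
    have h0 : (Ext.mk₀ (S O A).g).comp x₃ (zero_add 1) = 0 :=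
      (subsingleton_ext_P O M I A 0).elim _ _
    obtain ⟨x₁, hx₁⟩ := Ext.contravariant_sequence_exact₃ (hS O A) _ x₃ h0 (add_zero 1)
    obtain ⟨g, rfl⟩ := (Ext.mk₀_bijective _ _).2 x₁
    obtain ⟨h, hh⟩ := exists_extension O M I (S O A) (hS O A) hA g
    rw [← hx₁, ← hh, ← Ext.mk₀_comp_mk₀,
      ← Ext.comp_assoc _ _ _ (add_zero 1) (zero_add 0) (by omega),
      ShortComplex.ShortExact.extClass_comp, Ext.zero_comp]
  | succ p ih =>
    intro A hA
    refine subsingleton_of_forall_eq 0 (fun x₃ => ?_)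
    have h0 : (Ext.mk₀ (S O A).g).comp x₃ (zero_add (p + 1 + 1)) = 0 :=
      (subsingleton_ext_P O M I A (p + 1)).elim _ _
    obtain ⟨x₁, hx₁⟩ := Ext.contravariant_sequence_exact₃ (hS O A) _ x₃ h0
      (show 1 + (p + 1) = p + 1 + 1 by omega)
    have hK : ModSite.IsFlat (S O A).X₁ := TensorSES.isFlat_X₁ (S O A) (hS O A) (isFlat_P O A) hA
    rw [← hx₁, (ih (S O A).X₁ hK).elim x₁ 0, Ext.comp_zero]

end Groth.Agent.Helper9.FlatExtVanish
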