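import Mathlib
import Groth.Prelude.Def_DRing2
import Groth.Agent.Helper3.DRingTor1

set_option autoImplicit false

/-!
# Exactness of `P ⊗ N` at one spot, as a property of the module `N`: dévissage lemmas
-/

namespace Groth.Agent.Helper9.FlatGl1
open CategoryTheory Limits TensorProduct
open Groth.Agent.Helper3.DRingLib

universe u

variable {A : Type u} [CommRing A]

/-- `P ⊗ N` is exact at the spot `j` -/
def ExactT (P : DRing.Cx A) (N : Type u) [AddCommGroup N] [Module A N] (j : ℤ) : Prop :=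
  ∀ x : (P.X j) ⊗[A] N, ((P.d j (j + 1)).hom.rTensor N) x = 0 →
    ∃ y : (P.X (j - 1)) ⊗[A] N, ((P.d (j - 1) j).hom.rTensor N) y = x

lemma exactT_iff (P : DRing.Cx A) (N : Type u) [AddCommGroup N] [Module A N] (j : ℤ) :
    ExactT P N j ↔ (DRing.tensorCx P (ModuleCat.of A N)).ExactAt j := by
  rw [exactAt_iff_forall (DRing.tensorCx P (ModuleCat.of A N)) (j - 1) j (j + 1) (by omega) rfl]
  rfl

variable (P : DRing.Cx A)

lemma d_comp_d_rTensor (N : Type u) [AddCommGroup N] [Module A N] (i j k : ℤ)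
    (y : (P.X i) ⊗[A] N) :
    ((P.d j k).hom.rTensor N) (((P.d i j).hom.rTensor N) y) = 0 := by
  rw [← LinearMap.comp_apply, ← LinearMap.rTensor_comp, ← ModuleCat.hom_comp, P.d_comp_d,
    ModuleCat.hom_zero, LinearMap.rTensor_zero, LinearMap.zero_apply]

lemma d_lTensor_comm {N N' : Type u} [AddCommGroup N] [Module A N] [AddCommGroup N']
    [Module A N'] (φ : N →ₗ[A] N') (i j : ℤ) (x : (P.X i) ⊗[A] N) :
    ((P.d i j).hom.rTensor N') ((φ.lTensor (P.X i)) x) =
      (φ.lTensor (P.X j)) (((P.d i j).hom.rTensor N) x) := by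
  rw [← LinearMap.comp_apply, ← LinearMap.comp_apply, LinearMap.rTensor_comp_lTensor,
    LinearMap.lTensor_comp_rTensor]

section ses

variable {N₁ N₂ N₃ : Type u} [AddCommGroup N₁] [Module A N₁] [AddCommGroup N₂] [Module A N₂]
  [AddCommGroup N₃] [Module A N₃] (φ : N₁ →ₗ[A] N₂) (ψ : N₂ →ₗ[A] N₃)
  (hφ : Function.Injective φ) (hψ : Function.Surjective ψ) (hex : Function.Exact φ ψ)
  (hfl : DRing.TermwiseFlat P)

include hφ hψ hex hfl in
/-- extension: exactness for the outer terms gives exactness for the middle -/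
theorem exactT_mid (j : ℤ) (h₁ : ExactT P N₁ j) (h₃ : ExactT P N₃ j) : ExactT P N₂ j := by
  intro z hz
  -- image in N₃
  have hz3 : ((P.d j (j + 1)).hom.rTensor N₃) ((ψ.lTensor (P.X j)) z) = 0 := by
    rw [d_lTensor_comm, hz, map_zero]
  obtain ⟨y3, hy3⟩ := h₃ _ hz3
  obtain ⟨y, rfl⟩ := LinearMap.lTensor_surjective (P.X (j - 1)) hψ y3
  have hker : (ψ.lTensor (P.X j)) (z - ((P.d (j - 1) j).hom.rTensor N₂) y) = 0 := by
    rw [map_sub, ← d_lTensor_comm, hy3, sub_self]
  obtain ⟨z1, hz1⟩ := (lTensor_exact (P.X j) hex hψ _).1 hker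
  have := hfl (j + 1)
  have hinj : Function.Injective (φ.lTensor (P.X (j + 1))) :=
    Module.Flat.lTensor_preserves_injective_linearMap φ hφ
  have hz1c : ((P.d j (j + 1)).hom.rTensor N₁) z1 = 0 := by
    apply hinj
    rw [map_zero, ← d_lTensor_comm, hz1, map_sub, hz, d_comp_d_rTensor, sub_zero]
  obtain ⟨y1, hy1⟩ := h₁ _ hz1c
  refine ⟨y + (φ.lTensor (P.X (j - 1))) y1, ?_⟩
  rw [map_add, d_lTensor_comm, hy1, hz1]
  abel

include hφ hψ hex hfl in
/-- sub: exactness for the middle and (one spot lower) the quotient gives exactness for the sub -/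
theorem exactT_sub (j : ℤ) (h₂ : ExactT P N₂ j) (h₃ : ExactT P N₃ (j - 1)) : ExactT P N₁ j := by
  intro z1 hz1
  have hz : ((P.d j (j + 1)).hom.rTensor N₂) ((φ.lTensor (P.X j)) z1) = 0 := by
    rw [d_lTensor_comm, hz1, map_zero]
  obtain ⟨y, hy⟩ := h₂ _ hz
  -- the image of `y` in `N₃` is a cycle
  have hy3 : ((P.d (j - 1) (j - 1 + 1)).hom.rTensor N₃) ((ψ.lTensor (P.X (j - 1))) y) = 0 := by
    have e : j - 1 + 1 = j := by omega
    rw [e, d_lTensor_comm, hy, ← LinearMap.comp_apply, ← LinearMap.lTensor_comp]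
    have : ψ ∘ₗ φ = 0 := by
      ext x
      exact hex.apply_apply_eq_zero x
    rw [this, LinearMap.lTensor_zero, LinearMap.zero_apply]
  obtain ⟨w3, hw3⟩ := h₃ _ hy3
  obtain ⟨w, rfl⟩ := LinearMap.lTensor_surjective (P.X (j - 1 - 1)) hψ w3
  have hker : (ψ.lTensor (P.X (j - 1))) (y - ((P.d (j - 1 - 1) (j - 1)).hom.rTensor N₂) w) = 0 := by
    rw [map_sub, ← d_lTensor_comm, hw3, sub_self]
  obtain ⟨y1, hy1⟩ := (lTensor_exact (P.X (j - 1)) hex hψ _).1 hker
  have := hfl j
  have hinj : Function.Injective (φ.lTensor (P.X j)) :=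
    Module.Flat.lTensor_preserves_injective_linearMap φ hφ
  refine ⟨y1, ?_⟩
  apply hinj
  rw [← d_lTensor_comm, hy1, map_sub, hy, d_comp_d_rTensor, sub_zero]

end ses

/-- invariance under isomorphism -/
theorem exactT_of_equiv {N N' : Type u} [AddCommGroup N] [Module A N] [AddCommGroup N']
    [Module A N'] (e : N ≃ₗ[A] N') (j : ℤ) (h : ExactT P N j) : ExactT P N' j := by
  intro z hz
  have h1 : ((P.d j (j + 1)).hom.rTensor N) ((e.symm.toLinearMap.lTensor (P.X j)) z) = 0 := by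
    rw [d_lTensor_comm, hz, map_zero]
  obtain ⟨y, hy⟩ := h _ h1
  refine ⟨(e.toLinearMap.lTensor (P.X (j - 1))) y, ?_⟩
  rw [d_lTensor_comm, hy, ← LinearMap.comp_apply, ← LinearMap.lTensor_comp]
  simp

/-- the zero module -/
theorem exactT_of_subsingleton (N : Type u) [AddCommGroup N] [Module A N] [Subsingleton N]
    (j : ℤ) : ExactT P N j := by
  intro z _
  exact ⟨0, Subsingleton.elim _ _⟩

section union

variable {N : Type u} [AddCommGroup N] [Module A N] (T : ℕ → Submodule A N)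
  (hmono : Monotone T) (hT : ∀ x : N, ∃ n, x ∈ T n) (hfl : DRing.TermwiseFlat P)

include hmono hT in
lemma exists_mem_range_lTensor (X : Type u) [AddCommGroup X] [Module A X] (z : X ⊗[A] N) :
    ∃ n, z ∈ LinearMap.range ((T n).subtype.lTensor X) := by
  induction z using TensorProduct.induction_on with
  | zero => exact ⟨0, Submodule.zero_mem _⟩
  | tmul x t =>
    obtain ⟨n, hn⟩ := hT t
    exact ⟨n, ⟨x ⊗ₜ ⟨t, hn⟩, by simp⟩⟩
  | add a b ha hb =>
    obtain ⟨n, hn⟩ := ha
    obtain ⟨m, hm⟩ := hb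
    have hle : ∀ k l : ℕ, k ≤ l → LinearMap.range ((T k).subtype.lTensor X) ≤
        LinearMap.range ((T l).subtype.lTensor X) := by
      intro k l hkl
      rintro _ ⟨w, rfl⟩
      refine ⟨((Submodule.inclusion (hmono hkl)).lTensor X) w, ?_⟩
      rw [← LinearMap.comp_apply, ← LinearMap.lTensor_comp]
      rfl
    exact ⟨max n m, Submodule.add_mem _ (hle _ _ (le_max_left _ _) hn)
      (hle _ _ (le_max_right _ _) hm)⟩

include hmono hT hfl in
/-- directed unions -/
theorem exactT_of_union (j : ℤ) (h : ∀ n, ExactT P (T n) j) : ExactT P N j := by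
  intro z hz
  obtain ⟨n, zn, rfl⟩ := exists_mem_range_lTensor T hmono hT (P.X j) z
  have := hfl (j + 1)
  have hinj : Function.Injective ((T n).subtype.lTensor (P.X (j + 1))) :=
    Module.Flat.lTensor_preserves_injective_linearMap _ (Submodule.subtype_injective _)
  have h1 : ((P.d j (j + 1)).hom.rTensor (T n)) zn = 0 := by
    apply hinj
    rw [map_zero, ← d_lTensor_comm, hz]
  obtain ⟨y, hy⟩ := h n _ h1
  exact ⟨((T n).subtype.lTensor (P.X (j - 1))) y, by rw [d_lTensor_comm, hy]⟩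

end union

end Groth.Agent.Helper9.FlatGl1
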