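import Mathlib
import Groth.Prelude.Def_DRing2
import Groth.Agent.Helper3.DRingBC
import Groth.Agent.Helper6.LBCFibre
import Groth.Agent.Helper9.FlatGl1

set_option autoImplicit false

/-!
# `P ⊗_R N` for a `B`-module `N` is `(B ⊗_R P) ⊗_B N`
-/

namespace Groth.Agent.Helper9.FlatGl2
open CategoryTheory Limits TensorProduct
open Groth.Agent.Helper3.DRingLib Groth.Agent.Helper9.FlatGl1

universe u

variable {R : Type u} [CommRing R] (B : Type u) [CommRing B] [Algebra R B]
  (N : Type u) [AddCommGroup N] [Module R N] [Module B N] [IsScalarTower R B N]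

/-- the comparison `(B ⊗[R] X) ⊗[B] N ≃ X ⊗[R] N` -/
noncomputable def cmp (X : Type u) [AddCommGroup X] [Module R X] :
    (B ⊗[R] X) ⊗[B] N ≃+ X ⊗[R] N :=
  ((TensorProduct.comm B (B ⊗[R] X) N).toAddEquiv).trans
    ((AlgebraTensorModule.cancelBaseChange R B B N X).toAddEquiv.trans
      (TensorProduct.comm R N X).toAddEquiv)

lemma cmp_tmul (X : Type u) [AddCommGroup X] [Module R X] (b : B) (x : X) (n : N) :
    cmp B N X ((b ⊗ₜ[R] x) ⊗ₜ[B] n) = x ⊗ₜ[R] (b • n) := by
  simp [cmp]

lemma cmp_natural {X Y : Type u} [AddCommGroup X] [Module R X] [AddCommGroup Y] [Module R Y]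
    (g : X →ₗ[R] Y) (t : (B ⊗[R] X) ⊗[B] N) :
    cmp B N Y (((g.baseChange B).rTensor N) t) = (g.rTensor N) (cmp B N X t) := by
  induction t using TensorProduct.induction_on with
  | zero => simp
  | add a b ha hb => simp only [map_add, ha, hb]
  | tmul c n =>
    induction c using TensorProduct.induction_on with
    | zero => simp
    | add a b ha hb => simp only [TensorProduct.add_tmul, map_add, ha, hb]
    | tmul b x =>
      rw [LinearMap.rTensor_tmul, LinearMap.baseChange_tmul, cmp_tmul, cmp_tmul,
        LinearMap.rTensor_tmul]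

/-- the comparison for the `ModuleCat`-level extension of scalars -/
noncomputable def cmpE (X : ModuleCat.{u} R) :
    ((ModuleCat.extendScalars (algebraMap R B)).obj X) ⊗[B] N ≃+ X ⊗[R] N :=
  ((TensorProduct.congr (extendScalarsEquiv (B := B) X) (LinearEquiv.refl B N)).toAddEquiv).trans
    (cmp B N X)

lemma cmpE_natural {X Y : ModuleCat.{u} R} (g : X ⟶ Y)
    (t : ((ModuleCat.extendScalars (algebraMap R B)).obj X) ⊗[B] N) :
    cmpE B N Y ((((ModuleCat.extendScalars (algebraMap R B)).map g).hom.rTensor N) t) =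
      (g.hom.rTensor N) (cmpE B N X t) := by
  have key : ∀ t, (TensorProduct.congr (extendScalarsEquiv (B := B) Y) (LinearEquiv.refl B N))
      ((((ModuleCat.extendScalars (algebraMap R B)).map g).hom.rTensor N) t) =
      ((g.hom.baseChange B).rTensor N)
        ((TensorProduct.congr (extendScalarsEquiv (B := B) X) (LinearEquiv.refl B N)) t) := by
    intro t
    induction t using TensorProduct.induction_on with
    | zero => simp
    | add a b ha hb => simp only [map_add, ha, hb]
    | tmul c n =>
      rw [LinearMap.rTensor_tmul, TensorProduct.congr_tmul, TensorProduct.congr_tmul,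
        LinearMap.rTensor_tmul]
      congr 1
      exact Groth.Agent.Helper6.LBCFibre.extendScalarsEquiv_naturality B g c
  show cmp B N Y ((TensorProduct.congr (extendScalarsEquiv (B := B) Y) (LinearEquiv.refl B N))
    ((((ModuleCat.extendScalars (algebraMap R B)).map g).hom.rTensor N) t)) = _
  rw [key, cmp_natural]
  rfl

/-- exactness of `(B ⊗ P) ⊗_B N` gives exactness of `P ⊗_R N` -/
theorem exactT_of_bc (P : DRing.Cx R) (j : ℤ)
    (h : ExactT ((bcCx R B).obj P) N j) : ExactT P N j := by
  have h' : ∀ x : ((ModuleCat.extendScalars (algebraMap R B)).obj (P.X j)) ⊗[B] N,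
      (((ModuleCat.extendScalars (algebraMap R B)).map (P.d j (j + 1))).hom.rTensor N) x = 0 →
      ∃ y : ((ModuleCat.extendScalars (algebraMap R B)).obj (P.X (j - 1))) ⊗[B] N,
        (((ModuleCat.extendScalars (algebraMap R B)).map (P.d (j - 1) j)).hom.rTensor N) y = x := h
  intro z hz
  have h1 : (((ModuleCat.extendScalars (algebraMap R B)).map (P.d j (j + 1))).hom.rTensor N)
      ((cmpE B N (P.X j)).symm z) = 0 := by
    apply (cmpE B N (P.X (j + 1))).injective
    refine (cmpE_natural B N (P.d j (j + 1)) _).trans ?_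
    rw [AddEquiv.apply_symm_apply, hz, map_zero]
  obtain ⟨y, hy⟩ := h' _ h1
  refine ⟨cmpE B N (P.X (j - 1)) y, ?_⟩
  have := cmpE_natural B N (P.d (j - 1) j) y
  rw [← this, hy, AddEquiv.apply_symm_apply]

end Groth.Agent.Helper9.FlatGl2
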