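import Mathlib
import Groth.Prelude.Def_DRing2
import Groth.Agent.Helper9.FlatGl1

set_option autoImplicit false

/-!
# Dévissage: exactness of `P ⊗ N` for all `N` from the cases `f N = 0` and `N` an `R_f`-module
-/

namespace Groth.Agent.Helper9.FlatGl3
open CategoryTheory Limits TensorProduct
open Groth.Agent.Helper9.FlatGl1

universe u

variable {R : Type u} [CommRing R] (f : R) (P : DRing.Cx R) (hfl : DRing.TermwiseFlat P)

/-- `P ⊗ N` is exact in negative degrees -/
def Good (N : Type u) [AddCommGroup N] [Module R N] : Prop := ∀ j : ℤ, j < 0 → ExactT P N j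

variable (hQ : ∀ (N : Type u) [AddCommGroup N] [Module R N], (∀ x : N, f • x = 0) → Good P N)

include hfl in
lemma good_mid {N₁ N₂ N₃ : Type u} [AddCommGroup N₁] [Module R N₁] [AddCommGroup N₂]
    [Module R N₂] [AddCommGroup N₃] [Module R N₃] (φ : N₁ →ₗ[R] N₂) (ψ : N₂ →ₗ[R] N₃)
    (hφ : Function.Injective φ) (hψ : Function.Surjective ψ) (hex : Function.Exact φ ψ)
    (h₁ : Good P N₁) (h₃ : Good P N₃) : Good P N₂ :=
  fun j hj => exactT_mid P φ ψ hφ hψ hex hfl j (h₁ j hj) (h₃ j hj)

include hfl in
lemma good_sub {N₁ N₂ N₃ : Type u} [AddCommGroup N₁] [Module R N₁] [AddCommGroup N₂]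
    [Module R N₂] [AddCommGroup N₃] [Module R N₃] (φ : N₁ →ₗ[R] N₂) (ψ : N₂ →ₗ[R] N₃)
    (hφ : Function.Injective φ) (hψ : Function.Surjective ψ) (hex : Function.Exact φ ψ)
    (h₂ : Good P N₂) (h₃ : Good P N₃) : Good P N₁ :=
  fun j hj => exactT_sub P φ ψ hφ hψ hex hfl j (h₂ j hj) (h₃ (j - 1) (by omega))

include hfl hQ in
/-- modules killed by a power of `f` -/
theorem good_of_pow_torsion (n : ℕ) : ∀ (N : Type u) [AddCommGroup N] [Module R N],
    (∀ x : N, f ^ n • x = 0) → Good P N := by
  induction n with
  | zero =>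
    intro N _ _ h
    have : Subsingleton N := ⟨fun x y => by
      have hx := h x
      have hy := h y
      rw [pow_zero, one_smul] at hx hy
      rw [hx, hy]⟩
    exact fun j _ => exactT_of_subsingleton P N j
  | succ n ih =>
    intro N _ _ h
    let S : Submodule R N := LinearMap.range (LinearMap.lsmul R N f)
    have h1 : Good P S := by
      apply ih
      rintro ⟨_, y, rfl⟩
      apply Subtype.ext
      show f ^ n • (f • y) = 0
      rw [smul_smul, ← pow_succ]
      exact h y
    have h3 : Good P (N ⧸ S) := by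
      apply hQ
      intro x
      obtain ⟨x, rfl⟩ := Submodule.mkQ_surjective S x
      rw [← map_smul, Submodule.mkQ_apply, Submodule.Quotient.mk_eq_zero]
      exact ⟨x, rfl⟩
    exact good_mid P hfl S.subtype S.mkQ (Submodule.subtype_injective S)
      (Submodule.mkQ_surjective S) (LinearMap.exact_subtype_mkQ S) h1 h3

include hfl hQ in
/-- `f`-power torsion modules -/
theorem good_of_torsion (N : Type u) [AddCommGroup N] [Module R N]
    (h : ∀ x : N, ∃ n : ℕ, f ^ n • x = 0) : Good P N := by
  let T : ℕ → Submodule R N := fun n => LinearMap.ker (LinearMap.lsmul R N (f ^ n))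
  have hmono : Monotone T := by
    intro n m hnm x hx
    have hx' : f ^ n • x = 0 := hx
    show f ^ m • x = 0
    obtain ⟨k, rfl⟩ := Nat.exists_eq_add_of_le hnm
    rw [pow_add, mul_comm, mul_smul, hx', smul_zero]
  have hT : ∀ x : N, ∃ n, x ∈ T n := fun x => by
    obtain ⟨n, hn⟩ := h x
    exact ⟨n, hn⟩
  intro j hj
  refine exactT_of_union P T hmono hT hfl j (fun n => ?_)
  refine good_of_pow_torsion f P hfl hQ n (T n) ?_ j hj
  rintro ⟨x, hx⟩
  apply Subtype.ext
  exact hx

variable (hL : ∀ (N : Type u) [AddCommGroup N] [Module R N] [Module (Localization.Away f) N]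
  [IsScalarTower R (Localization.Away f) N], Good P N)

include hfl hQ hL in
/-- all modules -/
theorem good_all (N : Type u) [AddCommGroup N] [Module R N] : Good P N := by
  let S := Submonoid.powers f
  let L := LocalizedModule S N
  let ι : N →ₗ[R] L := LocalizedModule.mkLinearMap S N
  have hGL : Good P L := hL L
  -- the cokernel is torsion
  have hC : Good P (L ⧸ LinearMap.range ι) := by
    apply good_of_torsion f P hfl hQ
    intro c
    obtain ⟨l, rfl⟩ := Submodule.mkQ_surjective _ c
    induction l using LocalizedModule.induction_on with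
    | h x s =>
      obtain ⟨n, hn⟩ := s.2
      refine ⟨n, ?_⟩
      rw [← map_smul, Submodule.mkQ_apply, Submodule.Quotient.mk_eq_zero]
      refine ⟨x, ?_⟩
      show LocalizedModule.mk x 1 = f ^ n • LocalizedModule.mk x s
      rw [LocalizedModule.smul'_mk, LocalizedModule.mk_eq]
      refine ⟨1, ?_⟩
      have hs : (s : R) = f ^ n := hn.symm
      simp only [one_smul, Submonoid.smul_def, hs]
  -- the kernel is torsion
  have hK : Good P (LinearMap.ker ι) := by
    apply good_of_torsion f P hfl hQ
    rintro ⟨x, hx⟩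
    have hx' : LocalizedModule.mk x (1 : S) = LocalizedModule.mk 0 (1 : S) := by
      rw [LocalizedModule.zero_mk]
      exact hx
    rw [LocalizedModule.mk_eq] at hx'
    obtain ⟨s, hs⟩ := hx'
    obtain ⟨n, hn⟩ := s.2
    refine ⟨n, Subtype.ext ?_⟩
    show f ^ n • x = 0
    have hn' : f ^ n = (s : R) := hn
    rw [hn']
    simpa [Submonoid.smul_def] using hs
  have hI : Good P (LinearMap.range ι) :=
    good_sub P hfl (LinearMap.range ι).subtype (LinearMap.range ι).mkQ
      (Submodule.subtype_injective _) (Submodule.mkQ_surjective _)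
      (LinearMap.exact_subtype_mkQ _) hGL hC
  refine good_mid P hfl (LinearMap.ker ι).subtype ι.rangeRestrict
    (Submodule.subtype_injective _) (LinearMap.surjective_rangeRestrict ι) ?_ hK hI
  intro x
  constructor
  · intro hx
    have : ι x = 0 := congrArg Subtype.val hx
    exact ⟨⟨x, this⟩, rfl⟩
  · rintro ⟨⟨y, hy⟩, rfl⟩
    apply Subtype.ext
    exact hy

end Groth.Agent.Helper9.FlatGl3
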