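import Mathlib
import Groth.Prelude.Def_Wider
import Groth.Prelude.Def_DRing2
import Groth.Agent.Helper3.DRingBC
import Groth.Agent.Helper3.DRingResP
import Groth.Agent.Helper3.DRingTor3
import Groth.Agent.Helper6.LBCCompute
import Groth.Agent.Helper6.TorAmpBridge2
import Groth.Agent.Helper9.FlatGl1
import Groth.Agent.Helper9.FlatGl2
import Groth.Agent.Helper9.FlatGl3

set_option autoImplicit false

/-!
# An object of `D^{≤ 0}(R)` which becomes a flat module over `R_f` and `R/f` is a flat module
-/

namespace Groth.Agent.Helper9.FlatGl4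
open CategoryTheory Limits DerivedCategory TensorProduct
open Groth.Agent.Helper3.DRingLib Groth.Agent.Helper9.FlatGl1 Groth.Agent.Helper9.FlatGl3

attribute [local instance] HasDerivedCategory.standard

universe u

variable {R : Type u} [CommRing R]

/-- base change to `B` is a flat module in degree `0` ⇒ `P ⊗_R N` is exact in negative degrees
for all `B`-modules `N` -/
theorem good_of_bc (B : Type u) [CommRing B] [Algebra R B]
    [DRing.HasLBaseChange (algebraMap R B)] (M : Dual.D R)
    (hB : ∃ (N' : Type u) (_ : AddCommGroup N') (_ : Module B N'), Module.Flat B N' ∧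
      Nonempty ((DRing.LBaseChange (algebraMap R B)).obj M ≅ Dual.inD B N'))
    (P : DRing.Cx R) (hP : DRing.VanishesAbove P 0) (pP : ∀ i : ℤ, Module.Projective R (P.X i))
    (e : DRing.toD P ≅ M)
    (N : Type u) [AddCommGroup N] [Module R N] [Module B N] [IsScalarTower R B N] :
    Good P N := by
  obtain ⟨N', _, _, hflat, ⟨i⟩⟩ := hB
  haveI hK : P.IsKProjective := isKProjective_of_vanishesAbove P 0 hP pP
  have fP : DRing.TermwiseFlat P := fun i => by
    have := pP i
    infer_instance
  let iso : DRing.toD ((bcCx R B).obj P) ≅ Dual.inD B N' :=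
    (Groth.Agent.Helper6.LBCCompute.lbcIso (algebraMap R B) P).symm ≪≫
      (DRing.LBaseChange (algebraMap R B)).mapIso e ≪≫ i
  have hT : IsTorGE 0 (DRing.toD ((bcCx R B).obj P)) :=
    (Groth.Agent.Helper6.TorAmpBridge.isTorGE_of_flat (ModuleCat.of B N') hflat 0 le_rfl).of_iso
      iso.symm
  intro j hj
  apply Groth.Agent.Helper9.FlatGl2.exactT_of_bc B N P j
  rw [exactT_iff]
  exact hT.forall_rep ((bcCx R B).obj P) 0 (bcCx_vanishesAbove B P 0 hP)
    (bcCx_termwiseFlat B P fP) (Iso.refl _) (ModuleCat.of B N) j hj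

theorem main (f : R) (M : Dual.D R)
    [DRing.HasLBaseChange (algebraMap R (Localization.Away f))]
    [DRing.HasLBaseChange (algebraMap R (R ⧸ Ideal.span ({f} : Set R)))]
    (h1 : ∀ i : ℤ, 0 < i → Subsingleton (Dual.HD R M i))
    (h2 : ∃ (N : Type u) (_ : AddCommGroup N) (_ : Module (Localization.Away f) N),
      Module.Flat (Localization.Away f) N ∧
        Nonempty ((DRing.LBaseChange (algebraMap R (Localization.Away f))).obj M ≅
          Dual.inD (Localization.Away f) N))
    (h3 : ∃ (N : Type u) (_ : AddCommGroup N) (_ : Module (R ⧸ Ideal.span ({f} : Set R)) N),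
      Module.Flat (R ⧸ Ideal.span ({f} : Set R)) N ∧
        Nonempty ((DRing.LBaseChange (algebraMap R (R ⧸ Ideal.span ({f} : Set R)))).obj M ≅
          Dual.inD (R ⧸ Ideal.span ({f} : Set R)) N)) :
    ∃ (N : Type u) (_ : AddCommGroup N) (_ : Module R N), Module.Flat R N ∧
      Nonempty (M ≅ Dual.inD R N) := by
  haveI : M.IsLE 0 := isLE_of_HD M 0 h1
  obtain ⟨P, hP, pP, ⟨e⟩⟩ := exists_projective_rep M 0
  have fP : DRing.TermwiseFlat P := fun i => by
    have := pP i
    infer_instance
  have hQ : ∀ (N : Type u) [AddCommGroup N] [Module R N], (∀ x : N, f • x = 0) → Good P N := by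
    intro N _ _ hN
    have ht : Module.IsTorsionBy R N f := fun x => hN x
    letI : Module (R ⧸ Ideal.span ({f} : Set R)) N := ht.module
    haveI : IsScalarTower R (R ⧸ Ideal.span ({f} : Set R)) N := by
      have ht' : Module.IsTorsionBySet R N (Ideal.span ({f} : Set R)) := by
        rwa [Module.isTorsionBySet_span_singleton_iff]
      exact Module.IsTorsionBySet.isScalarTower ht'
    exact good_of_bc (R ⧸ Ideal.span ({f} : Set R)) M h3 P hP pP e N
  have hL : ∀ (N : Type u) [AddCommGroup N] [Module R N] [Module (Localization.Away f) N]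
      [IsScalarTower R (Localization.Away f) N], Good P N := by
    intro N _ _ _ _
    exact good_of_bc (Localization.Away f) M h2 P hP pP e N
  have hgood := good_all f P fP hQ hL
  have hT : IsTorGE 0 M :=
    ⟨P, 0, hP, fP, ⟨e⟩, fun N i hi => (exactT_iff P N i).1 (hgood N i hi)⟩
  have hamp : DRing.HasTorAmplitudeIn R 0 0 M := hasTorAmplitudeIn_of_isTorGE (le_refl 0) hT
  haveI : M.IsGE 0 := hT.isGE
  obtain ⟨Y, ⟨eY⟩⟩ := DerivedCategory.exists_iso_singleFunctor_obj_of_isGE_of_isLE M 0
  have hampY : DRing.HasTorAmplitudeIn R 0 0 ((singleFunctor (ModuleCat.{u} R) 0).obj Y) := by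
    obtain ⟨E, hv, hf, ⟨eE⟩⟩ := hamp
    exact ⟨E, hv, hf, ⟨eE ≪≫ eY⟩⟩
  have hflatY := Groth.Agent.Helper6.TorAmpBridge.flat_of_hasTorAmplitudeIn_zero Y hampY
  exact ⟨Y, inferInstance, inferInstance, hflatY, ⟨eY⟩⟩

end Groth.Agent.Helper9.FlatGl4
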