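import Mathlib
import Groth.Prelude.Def_DRing4
import Groth.Prelude.Def_MoreMor
import Groth.Agent.Helper9.FlatPC3

/-!
# Quotients of flat finitely presented algebras: `A → B/I` is pseudo-coherent iff `I` is a
pseudo-coherent `B`-module
-/

set_option autoImplicit false
set_option linter.style.haveILetI false
set_option linter.unusedSectionVars false
set_option linter.unusedVariables false

universe u
open CategoryTheory CategoryTheory.Limits TensorProduct

namespace Groth.Agent.Helper9.FlatPC4
open Groth.Agent.Helper3.DRingLib Groth.Agent.Helper3.PcHom DerivedCategory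

attribute [local instance] HasDerivedCategory.standard

noncomputable section

variable {B : Type u} [CommRing B] (I : Ideal B)

/-- `B/I` is a pseudo-coherent `B`-module iff `I` is -/
theorem isPseudoCoherent'_quotient_iff :
    DRing.IsPseudoCoherent' B (Dual.inD B (B ⧸ I)) ↔ DRing.IsPseudoCoherent' B (Dual.inD B ↥I) := by
  have hp : Function.Surjective (Submodule.mkQ I) := Submodule.mkQ_surjective I
  have hS := LinearMap.shortExact_shortComplexKer hp
  have hT := hS.singleTriangle_distinguished
  have e1 : hS.singleTriangle.obj₁ ≅ Dual.inD B ↥I :=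
    (singleFunctor (ModuleCat.{u} B) 0).mapIso
      (LinearEquiv.ofEq _ _ (Submodule.ker_mkQ I)).toModuleIso
  have hB : ∀ m : ℤ, DRing.IsPseudoCoherent B m hS.singleTriangle.obj₂ := fun m =>
    isPseudoCoherent_inD_of_finite_projective' B m
  rw [isPseudoCoherent'_iff_forall, isPseudoCoherent'_iff_forall]
  constructor
  · intro h m
    have h1 := isPseudoCoherent_obj₁ _ hT (m - 1) (by rw [sub_add_cancel]; exact hB m) (h (m - 1))
    rw [sub_add_cancel] at h1
    exact isPseudoCoherent_of_iso e1 h1
  · intro h m
    exact isPseudoCoherent_obj₃ _ hT m (isPseudoCoherent_of_iso e1.symm (h (m + 1))) (hB m)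

theorem main {A : Type u} [CommRing A] [Algebra A B] [Module.Flat A B]
    [Algebra.FinitePresentation A B] :
    MoreMor.IsPseudoCoherentHom A (B ⧸ I) ↔ DRing.IsPseudoCoherentModule' B ↥I := by
  rw [pcHom_iff_module (A := A) (P := B) (Groth.Agent.Helper9.FlatPC3.pcHom_of_flat_fp A B)
    Ideal.Quotient.mk_surjective]
  exact isPseudoCoherent'_quotient_iff I

end

end Groth.Agent.Helper9.FlatPC4
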