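import Mathlib

set_option autoImplicit false
universe u

namespace Groth.Agent.Helper9.FlatRetract

/-- If `ρ ∘ ψ` is flat and `ρ` has a ring-theoretic retraction `τ`, then `ψ` is flat. -/
theorem flat_of_retract {A C B : Type*} [CommRing A] [CommRing C] [CommRing B]
    (ψ : A →+* C) (ρ : C →+* B) (τ : B →+* C) (hτ : τ.comp ρ = RingHom.id C)
    (h : (ρ.comp ψ).Flat) : ψ.Flat := by
  algebraize [ψ, ρ.comp ψ]
  let i : C →ₗ[A] B :=
    { toFun := ρ
      map_add' := map_add ρ
      map_smul' := fun a c => by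
        simp only [Algebra.smul_def, RingHom.id_apply, map_mul]
        rfl }
  let r : B →ₗ[A] C :=
    { toFun := τ
      map_add' := map_add τ
      map_smul' := fun a b => by
        simp only [Algebra.smul_def, RingHom.id_apply, map_mul]
        congr 1
        exact congrArg (fun g : C →+* C => g (ψ a)) hτ }
  have hri : r.comp i = LinearMap.id := by
    ext c
    exact congrArg (fun g : C →+* C => g c) hτ
  exact Module.Flat.of_retract i r hri

open AlgebraicGeometry CategoryTheory CategoryTheory.Limits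

/-- A morphism with a retraction-compatible factorisation through a flat morphism is flat. -/
theorem flat_of_section {X P S : Scheme.{u}} (f : X ⟶ S) (s : X ⟶ P) (π : P ⟶ X)
    (hs : s ≫ π = 𝟙 X) [Flat (π ≫ f)] : Flat f := by
  have hfac : (s ≫ π) ≫ f = f := by rw [hs, Category.id_comp]
  haveI hiso : IsIso (s ≫ π) := by rw [hs]; infer_instance
  haveI hisox : ∀ x, IsIso ((s ≫ π).stalkMap x) :=
    ((isIso_iff_isIso_stalkMap (s ≫ π)).mp hiso).2
  suffices Flat ((s ≫ π) ≫ f) by rwa [hfac] at this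
  rw [Flat.iff_flat_stalkMap]
  intro x
  haveI hix : IsIso ((s ≫ π).stalkMap x) := hisox x
  rw [Scheme.Hom.stalkMap_comp (s ≫ π) f x]
  have hθ : ((s ≫ π).stalkMap x).hom.Flat :=
    RingHom.Flat.of_bijective (ConcreteCategory.bijective_of_isIso ((s ≫ π).stalkMap x))
  have hψ : (f.stalkMap ((s ≫ π) x)).hom.Flat := by
    have hflat : ((π ≫ f).stalkMap (s x)).hom.Flat :=
      (Flat.iff_flat_stalkMap (π ≫ f)).mp inferInstance (s x)
    rw [Scheme.Hom.stalkMap_comp π f (s x)] at hflat
    have e2 : (s ≫ π).stalkMap x = π.stalkMap (s x) ≫ s.stalkMap x :=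
      Scheme.Hom.stalkMap_comp s π x
    have hτ : π.stalkMap (s x) ≫ (s.stalkMap x ≫ inv ((s ≫ π).stalkMap x)) = 𝟙 _ := by
      rw [← Category.assoc]
      exact (congrArg (· ≫ inv ((s ≫ π).stalkMap x)) e2.symm).trans
        (IsIso.hom_inv_id ((s ≫ π).stalkMap x))
    exact flat_of_retract (f.stalkMap (π (s x))).hom (π.stalkMap (s x)).hom
      ((s.stalkMap x ≫ inv ((s ≫ π).stalkMap x)).hom) (congrArg CommRingCat.Hom.hom hτ) hflat
  exact RingHom.Flat.comp hψ hθ

end Groth.Agent.Helper9.FlatRetract
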