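import Mathlib
import Groth.Prelude.Def_Flatn
import Groth.Prelude.Def_DerSch2
import Groth.Prelude.Def_DerCA
import Groth.Agent.Helper9.Chart15
import Groth.Agent.Helper9.Chart7
import Groth.Agent.Helper9.Chart6
import Groth.Agent.Helper4.SecDict
import Groth.Agent.S7021
import Groth.Agent.Helper9.Chart12
import Groth.Agent.Helper4.QcohEpi
import Groth.Agent.Helper4.QcohLimits
import Groth.Agent.Helper4.FTGlue

/-! Modules finitely presented relative to a morphism: short exact sequences, via relative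
`(-1)`-pseudo-coherence. -/

set_option autoImplicit false
set_option linter.style.haveILetI false
set_option linter.unusedVariables false
set_option linter.unusedSectionVars false
universe u

namespace Groth.Agent.Helper9.FlatnRel1

open CategoryTheory CategoryTheory.Limits AlgebraicGeometry

attribute [local instance] HasDerivedCategory.standard

variable {X S : Scheme.{u}} (f : X ⟶ S) [LocallyOfFiniteType f]

/-- a quasi-coherent module of finite type, placed in degree `0`, is `0`-pseudo-coherent relative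
to any morphism locally of finite type -/
theorem rel_zero_of_isFT (M : X.Modules) (hq : Coh.IsQCoh M) (hft : CohB1.IsFT M) :
    DerSch.IsPseudoCoherentRel f 0 (DCoh.inD X M) := by
  haveI : M.IsQuasicoherent := hq
  rw [Groth.Agent.Helper9.Chart6.rel_iff f]
  intro U V h
  haveI : PreservesFiniteLimits (tilde.functor Γ(X, (U : X.Opens))) :=
    Groth.Agent.Helper4.TildeExact.preservesFiniteLimits_tilde _
  rw [Groth.Agent.Helper9.Chart15.exists_chart_iff_ring f U V h 0 (DCoh.inD X M)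
    ((HomologicalComplex.single X.Modules (ComplexShape.up ℤ) 0).obj M)
    ((DerivedCategory.singleFunctorIsoCompQ X.Modules 0).app M).symm
    (Dual.inD Γ(X, (U : X.Opens)) Γ(M, (U : X.Opens)))
    (Groth.Agent.Helper9.Chart15.tildeDSingleIso U.2 M)]
  letI := (f.appLE (V : S.Opens) (U : X.Opens) h).hom.toAlgebra
  have hft' : (f.appLE (V : S.Opens) (U : X.Opens) h).hom.FiniteType :=
    HasRingHomProperty.appLE (P := @LocallyOfFiniteType) f inferInstance V U h
  haveI : Algebra.FiniteType Γ(S, (V : S.Opens)) Γ(X, (U : X.Opens)) := hft'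
  obtain ⟨n, α, hα⟩ := Algebra.FiniteType.iff_quotient_mvPolynomial''.1
    ‹Algebra.FiniteType Γ(S, (V : S.Opens)) Γ(X, (U : X.Opens))›
  haveI : Module.Finite Γ(X, (U : X.Opens)) Γ(M, (U : X.Opens)) :=
    Groth.Agent.Helper4.SecDict.finite_sections U.2 M hq hft
  exact ((Groth.Agent.S7021.result α hα Γ(M, (U : X.Opens))).1).2 inferInstance

variable (E : ShortComplex X.Modules) (hE : E.ShortExact)

include hE in
/-- **S9747**: the middle term of a short exact sequence with relatively finitely presented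
outer terms -/
theorem ses_mid (hq₁ : Coh.IsQCoh E.X₁) (hq₂ : Coh.IsQCoh E.X₂) (hq₃ : Coh.IsQCoh E.X₃)
    (h₁ : Flatn.IsRelFP f E.X₁) (h₃ : Flatn.IsRelFP f E.X₃) : Flatn.IsRelFP f E.X₂ := by
  have p₁ := (Groth.Agent.Helper9.Chart15.rel_negOne_iff f E.X₁).2 ⟨hq₁, h₁⟩
  have p₃ := (Groth.Agent.Helper9.Chart15.rel_negOne_iff f E.X₃).2 ⟨hq₃, h₃⟩
  have hT := hE.singleTriangle_distinguished
  have key := (Groth.Agent.Helper9.Chart7.rel_triangle f (-1) hE.singleTriangle hT).2.1 p₁ p₃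
  exact ((Groth.Agent.Helper9.Chart15.rel_negOne_iff f E.X₂).1 key).2

include hE in
/-- **S9748**: the quotient of a relatively finitely presented module by a submodule of finite
type -/
theorem ses_quot (hq₁ : Coh.IsQCoh E.X₁) (hq₂ : Coh.IsQCoh E.X₂) (hq₃ : Coh.IsQCoh E.X₃)
    (h₁ : CohB1.IsFT E.X₁) (h₂ : Flatn.IsRelFP f E.X₂) : Flatn.IsRelFP f E.X₃ := by
  have p₁ := rel_zero_of_isFT f E.X₁ hq₁ h₁
  have p₂ := (Groth.Agent.Helper9.Chart15.rel_negOne_iff f E.X₂).2 ⟨hq₂, h₂⟩
  have hT := hE.singleTriangle_distinguished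
  have key := (Groth.Agent.Helper9.Chart7.rel_triangle f (-1) hE.singleTriangle hT).1
    (by simpa using p₁) p₂
  exact ((Groth.Agent.Helper9.Chart15.rel_negOne_iff f E.X₃).1 key).2

omit hE in
/-- a quasi-coherent module finitely presented relative to `f` is of finite type -/
theorem isFT_of_isRelFP (M : X.Modules) (hq : Coh.IsQCoh M) (h : Flatn.IsRelFP f M) :
    CohB1.IsFT M := by
  haveI : M.IsQuasicoherent := hq
  have p := (Groth.Agent.Helper9.Chart15.rel_negOne_iff f M).2 ⟨hq, h⟩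
  have p0 : DerSch.IsPseudoCoherentRel f 0 (DCoh.inD X M) :=
    Groth.Agent.Helper9.Chart12.rel_mono f (by norm_num) p
  rw [Groth.Agent.Helper9.Chart6.rel_iff f] at p0
  apply Groth.Agent.Helper4.FTGlue.isFiniteType_of_finite_sections
  intro x
  obtain ⟨_, ⟨V, hV, rfl⟩, hxV, -⟩ :=
    (S.isBasis_affineOpens).exists_subset_of_mem_open (Set.mem_univ (f.base x)) isOpen_univ
  obtain ⟨_, ⟨U, hU, rfl⟩, hxU, hUV⟩ :=
    (X.isBasis_affineOpens).exists_subset_of_mem_open
      (show x ∈ (f ⁻¹ᵁ V : Set X) from hxV) (f ⁻¹ᵁ V).2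
  refine ⟨U, hU, hxU, ?_⟩
  have hUV' : ((⟨U, hU⟩ : X.affineOpens) : X.Opens) ≤ f ⁻¹ᵁ ((⟨V, hV⟩ : S.affineOpens) : S.Opens) :=
    hUV
  have p1 := p0 ⟨U, hU⟩ ⟨V, hV⟩ hUV'
  haveI : PreservesFiniteLimits (tilde.functor Γ(X, U)) :=
    Groth.Agent.Helper4.TildeExact.preservesFiniteLimits_tilde _
  rw [Groth.Agent.Helper9.Chart15.exists_chart_iff_ring f ⟨U, hU⟩ ⟨V, hV⟩ hUV' 0 (DCoh.inD X M)
    ((HomologicalComplex.single X.Modules (ComplexShape.up ℤ) 0).obj M)
    ((DerivedCategory.singleFunctorIsoCompQ X.Modules 0).app M).symm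
    (Dual.inD Γ(X, U) Γ(M, U))
    (Groth.Agent.Helper9.Chart15.tildeDSingleIso hU M)] at p1
  letI := (f.appLE V U hUV).hom.toAlgebra
  have hft' : (f.appLE V U hUV).hom.FiniteType :=
    HasRingHomProperty.appLE (P := @LocallyOfFiniteType) f inferInstance ⟨V, hV⟩ ⟨U, hU⟩ hUV
  haveI : Algebra.FiniteType Γ(S, V) Γ(X, U) := hft'
  obtain ⟨n, α, hα⟩ := Algebra.FiniteType.iff_quotient_mvPolynomial''.1
    ‹Algebra.FiniteType Γ(S, V) Γ(X, U)›
  exact ((Groth.Agent.S7021.result α hα Γ(M, U)).1).1 p1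

omit hE in
/-- **S9749**: direct summands of a relatively finitely presented module -/
theorem biprod (F F' : X.Modules) (hq : Coh.IsQCoh F) (hq' : Coh.IsQCoh F')
    (h : Flatn.IsRelFP f (F ⊞ F')) : Flatn.IsRelFP f F ∧ Flatn.IsRelFP f F' := by
  haveI : F.IsQuasicoherent := hq
  haveI : F'.IsQuasicoherent := hq'
  haveI hqb : (F ⊞ F').IsQuasicoherent :=
    Groth.Agent.Helper4.QcohLimits.isQuasicoherent_biprod F F'
  have hftb : CohB1.IsFT (F ⊞ F') := isFT_of_isRelFP f _ hqb h
  have hft : CohB1.IsFT F :=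
    Groth.Agent.Helper4.QcohEpi.isFiniteType_of_epi (biprod.fst : F ⊞ F' ⟶ F) hftb
  have hft' : CohB1.IsFT F' :=
    Groth.Agent.Helper4.QcohEpi.isFiniteType_of_epi (biprod.snd : F ⊞ F' ⟶ F') hftb
  let S₁ : ShortComplex X.Modules :=
    ShortComplex.mk (biprod.inl : F ⟶ F ⊞ F') (biprod.snd : F ⊞ F' ⟶ F') (by simp)
  have hS₁ : S₁.ShortExact := (ShortComplex.Splitting.ofHasBinaryBiproduct F F').shortExact
  let S₂ : ShortComplex X.Modules :=
    ShortComplex.mk (biprod.inr : F' ⟶ F ⊞ F') (biprod.fst : F ⊞ F' ⟶ F) (by simp)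
  have hS₂ : S₂.ShortExact := by
    refine ShortComplex.Splitting.shortExact (S := S₂)
      { r := (biprod.snd : F ⊞ F' ⟶ F')
        s := (biprod.inl : F ⟶ F ⊞ F')
        f_r := by simp [S₂]
        s_g := by simp [S₂]
        id := by
          show (biprod.snd : F ⊞ F' ⟶ F') ≫ biprod.inr + (biprod.fst : F ⊞ F' ⟶ F) ≫ biprod.inl = 𝟙 _
          rw [add_comm]
          exact biprod.total }
  exact ⟨ses_quot f S₂ hS₂ hq' hqb hq hft' h, ses_quot f S₁ hS₁ hq hqb hq' hft h⟩

end Groth.Agent.Helper9.FlatnRel1
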