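import Mathlib
import Groth.Prelude.Def_Flatn
import Groth.Prelude.Def_FlatCA

/-! Relative finite presentation of modules, ring level: composition with a finitely presented
algebra. -/

set_option autoImplicit false
set_option linter.style.haveILetI false
set_option linter.unusedVariables false
set_option linter.unusedSectionVars false
universe u

namespace Groth.Agent.Helper9.FlatnRel2

open MvPolynomial

section Trans

variable {P Q : Type u} [CommRing P] [CommRing Q] (θ : P →+* Q)

/-- finite presentation over a quotient by a finitely generated ideal implies finite presentation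
over the ring -/
theorem fp_of_surjective_of_fg_ker (hθ : Function.Surjective θ) (hker : (RingHom.ker θ).FG)
    (M : Type u) [AddCommGroup M] [Module Q M] [Module.FinitePresentation Q M] :
    @Module.FinitePresentation P M _ _ (Module.compHom M θ) := by
  letI := θ.toAlgebra
  letI : Module P M := Module.compHom M θ
  haveI : IsScalarTower P Q M := IsScalarTower.of_algebraMap_smul (fun r x => rfl)
  haveI : Module.FinitePresentation P Q := by
    refine Module.finitePresentation_of_surjective (Algebra.linearMap P Q) hθ ?_
    have : LinearMap.ker (Algebra.linearMap P Q) = RingHom.ker θ := by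
      ext x
      rfl
    rw [this]
    exact hker
  exact Module.FinitePresentation.trans P M Q

end Trans

section Comp

variable {R A B : Type u} [CommRing R] [CommRing A] [CommRing B] [Algebra R A] [Algebra A B]
  [Algebra R B] [IsScalarTower R A B]

/-- **relative finite presentation and composition with a finitely presented algebra** -/
theorem relFP_comp [hfp : Algebra.FinitePresentation R A] (M : Type u) [AddCommGroup M]
    [Module B M] (h : FlatCA.RelFinitePresentation A B M) :
    FlatCA.RelFinitePresentation R B M := by
  obtain ⟨k, β, hβ, hM⟩ := h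
  haveI : Algebra.FiniteType R A := inferInstance
  obtain ⟨n, α₀, hα₀⟩ := Algebra.FiniteType.iff_quotient_mvPolynomial''.1
    ‹Algebra.FiniteType R A›
  have hk : (RingHom.ker α₀.toRingHom).FG :=
    Algebra.FinitePresentation.ker_fG_of_surjective α₀ hα₀
  let E : MvPolynomial (Fin (k + n)) R ≃ₐ[R] MvPolynomial (Fin k) (MvPolynomial (Fin n) R) :=
    (MvPolynomial.renameEquiv R finSumFinEquiv.symm).trans
      (MvPolynomial.sumAlgEquiv R (Fin k) (Fin n))
  let π : MvPolynomial (Fin k) (MvPolynomial (Fin n) R) →+* MvPolynomial (Fin k) A :=
    MvPolynomial.map α₀.toRingHom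
  have hπ : Function.Surjective π := MvPolynomial.map_surjective _ hα₀
  have hπk : (RingHom.ker π).FG := by
    rw [MvPolynomial.ker_map]
    exact hk.map _
  let θ : MvPolynomial (Fin (k + n)) R →+* MvPolynomial (Fin k) A :=
    π.comp E.toRingEquiv.toRingHom
  have hθ : Function.Surjective θ := hπ.comp E.surjective
  have hθk : (RingHom.ker θ).FG := by
    have h1 : RingHom.ker θ = Ideal.comap E.toRingEquiv.toRingHom (RingHom.ker π) :=
      (RingHom.comap_ker π E.toRingEquiv.toRingHom).symm
    have h2 : Ideal.comap E.toRingEquiv.toRingHom (RingHom.ker π) =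
        Ideal.map (E.toRingEquiv.symm : _ →+* _) (RingHom.ker π) :=
      (Ideal.map_symm E.toRingEquiv).symm
    rw [h1, h2]
    exact hπk.map _
  have hγC : ∀ r : R, β.toRingHom (θ (algebraMap R _ r)) = algebraMap R B r := by
    intro r
    have h1 : E (algebraMap R _ r) = algebraMap R _ r := E.commutes r
    have h2 : θ (algebraMap R _ r) = π (algebraMap R _ r) := by
      show π (E (algebraMap R _ r)) = _
      rw [h1]
    rw [h2]
    have h3 : (algebraMap R (MvPolynomial (Fin k) (MvPolynomial (Fin n) R))) r =
        MvPolynomial.C (MvPolynomial.C r) := rfl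
    rw [h3]
    show β (MvPolynomial.map α₀.toRingHom (MvPolynomial.C (MvPolynomial.C r))) = _
    rw [MvPolynomial.map_C]
    have h4 : α₀.toRingHom (MvPolynomial.C r) = algebraMap R A r := α₀.commutes r
    rw [h4]
    have h5 : β (MvPolynomial.C (algebraMap R A r)) = algebraMap A B (algebraMap R A r) :=
      β.commutes _
    rw [h5]
    exact (IsScalarTower.algebraMap_apply R A B r).symm
  let γ : MvPolynomial (Fin (k + n)) R →ₐ[R] B :=
    { toRingHom := β.toRingHom.comp θ
      commutes' := hγC }
  refine ⟨k + n, γ, hβ.comp hθ, ?_⟩
  letI : Module (MvPolynomial (Fin k) A) M := Module.compHom M β.toRingHom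
  haveI : Module.FinitePresentation (MvPolynomial (Fin k) A) M := hM
  exact fp_of_surjective_of_fg_ker θ hθ hθk M

end Comp

end Groth.Agent.Helper9.FlatnRel2
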