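import Mathlib
import Groth.Prelude.Def_Flatn
import Groth.Agent.Helper9.FlatnRel1
import Groth.Agent.Helper9.FlatnRel2

/-! Modules finitely presented relative to a morphism: the criterion on all affine pairs and
composition with a morphism locally of finite presentation. -/

set_option autoImplicit false
set_option linter.style.haveILetI false
set_option linter.unusedVariables false
set_option linter.unusedSectionVars false
universe u

namespace Groth.Agent.Helper9.FlatnRel3

open CategoryTheory CategoryTheory.Limits AlgebraicGeometry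

attribute [local instance] HasDerivedCategory.standard

variable {X Y S : Scheme.{u}}

/-- **S9742**: relative finite presentation may be tested on all pairs of affine opens -/
theorem isRelFP_iff_forall (f : X ⟶ S) [LocallyOfFiniteType f] (F : X.Modules)
    (hq : Coh.IsQCoh F) :
    Flatn.IsRelFP f F ↔
      ∀ (U : X.affineOpens) (V : S.affineOpens) (h : (U : X.Opens) ≤ f ⁻¹ᵁ (V : S.Opens)),
        Flatn.RelFPOn f F U V h := by
  haveI : F.IsQuasicoherent := hq
  have h1 := Groth.Agent.Helper9.Chart15.rel_negOne_iff f F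
  have h2 := Groth.Agent.Helper9.Chart6.rel_iff f (-1) (DCoh.inD X F)
  constructor
  · intro h U V hUV
    exact (Groth.Agent.Helper9.Chart15.chart_negOne_iff_relFPOn f F U V hUV).1
      (h2.1 (h1.2 ⟨hq, h⟩) U V hUV)
  · intro h
    exact (h1.1 (h2.2 (fun U V hUV =>
      (Groth.Agent.Helper9.Chart15.chart_negOne_iff_relFPOn f F U V hUV).2 (h U V hUV)))).2

/-- **S9746**: composition with a morphism locally of finite presentation -/
theorem isRelFP_comp (f : X ⟶ Y) (g : Y ⟶ S) [LocallyOfFiniteType f]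
    [LocallyOfFinitePresentation g] (F : X.Modules) (hq : Coh.IsQCoh F)
    (hF : Flatn.IsRelFP f F) : Flatn.IsRelFP (f ≫ g) F := by
  have hall := (isRelFP_iff_forall f F hq).1 hF
  refine ⟨Set.univ, ?_, fun W _ => ?_⟩
  · rw [eq_top_iff]
    intro z _
    obtain ⟨_, ⟨W, hW, rfl⟩, hzW, -⟩ :=
      (S.isBasis_affineOpens).exists_subset_of_mem_open (Set.mem_univ z) isOpen_univ
    simp only [TopologicalSpace.Opens.mem_iSup]
    exact ⟨⟨W, hW⟩, Set.mem_univ _, hzW⟩
  · refine ⟨{U | ∃ V : Y.affineOpens, (V : Y.Opens) ≤ g ⁻¹ᵁ (W : S.Opens) ∧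
        (U : X.Opens) ≤ f ⁻¹ᵁ (V : Y.Opens)}, ?_, ?_⟩
    · apply le_antisymm
      · refine iSup₂_le ?_
        rintro U ⟨V, hVW, hUV⟩ x hx
        exact hVW (hUV hx)
      · intro x hx
        have hx' : f.base x ∈ g ⁻¹ᵁ (W : S.Opens) := hx
        obtain ⟨_, ⟨V, hV, rfl⟩, hxV, hVW⟩ :=
          (Y.isBasis_affineOpens).exists_subset_of_mem_open hx' (g ⁻¹ᵁ (W : S.Opens)).2
        obtain ⟨_, ⟨U, hU, rfl⟩, hxU, hUV⟩ :=
          (X.isBasis_affineOpens).exists_subset_of_mem_open
            (show x ∈ (f ⁻¹ᵁ V : Set X) from hxV) (f ⁻¹ᵁ V).2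
        simp only [TopologicalSpace.Opens.mem_iSup]
        exact ⟨⟨U, hU⟩, ⟨⟨V, hV⟩, hVW, hUV⟩, hxU⟩
    · rintro U ⟨V, hVW, hUV⟩ hUW
      have h1 := hall U V hUV
      unfold Flatn.RelFPOn at h1 ⊢
      letI algRA : Algebra Γ(S, (W : S.Opens)) Γ(Y, (V : Y.Opens)) :=
        (g.appLE (W : S.Opens) (V : Y.Opens) hVW).hom.toAlgebra
      letI algAB : Algebra Γ(Y, (V : Y.Opens)) Γ(X, (U : X.Opens)) :=
        (f.appLE (V : Y.Opens) (U : X.Opens) hUV).hom.toAlgebra
      letI algRB : Algebra Γ(S, (W : S.Opens)) Γ(X, (U : X.Opens)) :=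
        ((f ≫ g).appLE (W : S.Opens) (U : X.Opens) hUW).hom.toAlgebra
      haveI : IsScalarTower Γ(S, (W : S.Opens)) Γ(Y, (V : Y.Opens)) Γ(X, (U : X.Opens)) := by
        refine IsScalarTower.of_algebraMap_eq' ?_
        show ((f ≫ g).appLE (W : S.Opens) (U : X.Opens) hUW).hom =
          (f.appLE (V : Y.Opens) (U : X.Opens) hUV).hom.comp
            (g.appLE (W : S.Opens) (V : Y.Opens) hVW).hom
        rw [← CommRingCat.hom_comp, Scheme.Hom.appLE_comp_appLE]
      have hfp : (g.appLE (W : S.Opens) (V : Y.Opens) hVW).hom.FinitePresentation :=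
        HasRingHomProperty.appLE (P := @LocallyOfFinitePresentation) g inferInstance W V hVW
      haveI : Algebra.FinitePresentation Γ(S, (W : S.Opens)) Γ(Y, (V : Y.Opens)) := hfp
      exact Groth.Agent.Helper9.FlatnRel2.relFP_comp _ h1

end Groth.Agent.Helper9.FlatnRel3
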