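import Mathlib
import Groth.Prelude.Def_Flatn
import Groth.Agent.Helper9.FlatnRel1
import Groth.Agent.Helper9.Chart19
import Groth.Agent.Helper9.FP4
import Groth.Agent.Helper4.QcohGlue
import Groth.Agent.Helper4.RpushQc
import Groth.Agent.Helper4.HasRD

/-! Modules finitely presented relative to a morphism: direct image along a finite morphism. -/

set_option autoImplicit false
set_option linter.style.haveILetI false
set_option linter.unusedVariables false
set_option linter.unusedSectionVars false
universe u

namespace Groth.Agent.Helper9.FlatnRel4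

open CategoryTheory CategoryTheory.Limits AlgebraicGeometry

attribute [local instance] HasDerivedCategory.standard

variable {X Y S : Scheme.{u}}

/-- **S9743**: relative finite presentation and direct image along a finite morphism -/
theorem isRelFP_push_iff (π : X ⟶ Y) (g : Y ⟶ S) [IsFinite π] [LocallyOfFiniteType g]
    (F : X.Modules) (hq : Coh.IsQCoh F) :
    Flatn.IsRelFP (π ≫ g) F ↔ Flatn.IsRelFP g ((Coh.push π).obj F) := by
  haveI : F.IsQuasicoherent := hq
  haveI : DCoh.HasRpush π := Groth.Agent.Helper4.HasRD.hasRpush _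
  haveI : LocallyOfFiniteType (π ≫ g) := inferInstance
  have hqp : Coh.IsQCoh ((Scheme.Modules.pushforward π).obj F) :=
    Groth.Agent.Helper4.QcohGlue.isQuasicoherent_pushforward π F
  obtain ⟨e⟩ := Groth.Agent.Helper9.FP4.nonempty_inD_push_iso π F hq
  have h1 := Groth.Agent.Helper9.Chart15.rel_negOne_iff (π ≫ g) F
  have h2 := Groth.Agent.Helper9.Chart19.rel_iff_Rpush_of_isFinite (π ≫ g) g π rfl (-1)
    (DCoh.inD X F) (Groth.Agent.Helper4.RpushQc.isQCohD_inD F hq)
  have h3 := Groth.Agent.Helper9.Chart15.rel_negOne_iff g ((Scheme.Modules.pushforward π).obj F)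
  constructor
  · intro h
    have p := h2.1 (h1.2 ⟨hq, h⟩)
    exact (h3.1 (Groth.Agent.Helper9.Chart12.rel_of_iso g e.symm (-1) p)).2
  · intro h
    have p := h3.2 ⟨hqp, h⟩
    exact (h1.1 (h2.2 (Groth.Agent.Helper9.Chart12.rel_of_iso g e (-1) p))).2

end Groth.Agent.Helper9.FlatnRel4
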