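import Mathlib
import Groth.Prelude.Def_DRing2
import Groth.Prelude.Def_DDual2
import Groth.Agent.Helper3.DRingPC
import Groth.Agent.Helper3.DRingPC2
import Groth.Agent.Helper3.DRingResP
import Groth.Agent.Helper3.DRingTor3
import Groth.Agent.Helper3.DRingRestr2

/-! Tensoring a complex with a module, functorially in the module; short exact sequences of
modules give distinguished triangles. -/

set_option autoImplicit false
set_option linter.style.haveILetI false
set_option linter.unusedVariables false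
set_option linter.unusedSectionVars false
universe u

namespace Groth.Agent.Helper9.TenPC1

noncomputable section

open CategoryTheory CategoryTheory.Limits MonoidalCategory Pretriangulated DerivedCategory
open Groth.Agent.Helper3.DRingLib

attribute [local instance] HasDerivedCategory.standard

variable {C : Type u} [CommRing C] (Pc : DRing.Cx C)

/-- `Pc ⊗ N ⟶ Pc ⊗ N'` induced by `N ⟶ N'` -/
def tmap {N N' : ModuleCat.{u} C} (f : N ⟶ N') : DRing.tensorCx Pc N ⟶ DRing.tensorCx Pc N' where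
  f i := Pc.X i ◁ f
  comm' i j _ := by
    show (Pc.X i ◁ f) ≫ (Pc.d i j ▷ N') = (Pc.d i j ▷ N) ≫ (Pc.X j ◁ f)
    exact (whisker_exchange _ _)

@[simp]
lemma tmap_f {N N' : ModuleCat.{u} C} (f : N ⟶ N') (i : ℤ) : (tmap Pc f).f i = Pc.X i ◁ f := rfl

/-- `N ↦ Pc ⊗ N` as a functor -/
def TF : ModuleCat.{u} C ⥤ DRing.Cx C where
  obj N := DRing.tensorCx Pc N
  map f := tmap Pc f
  map_id N := by
    refine HomologicalComplex.hom_ext _ _ (fun i => ?_)
    exact MonoidalCategory.whiskerLeft_id _ _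
  map_comp f g := by
    refine HomologicalComplex.hom_ext _ _ (fun i => ?_)
    exact MonoidalCategory.whiskerLeft_comp _ _ _

instance : (TF Pc).PreservesZeroMorphisms where
  map_zero N N' := by
    refine HomologicalComplex.hom_ext _ _ (fun i => ?_)
    exact MonoidalPreadditive.whiskerLeft_zero

lemma whiskerLeft_hom (M : ModuleCat.{u} C) {N N' : ModuleCat.{u} C} (f : N ⟶ N') :
    (M ◁ f).hom = LinearMap.lTensor M f.hom := rfl

/-- tensoring a short exact sequence of modules with a complex of flat modules -/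
lemma TF_shortExact (hP : ∀ i, Module.Flat C (Pc.X i)) {S : ShortComplex (ModuleCat.{u} C)}
    (hS : S.ShortExact) : (S.map (TF Pc)).ShortExact := by
  apply HomologicalComplex.shortExact_of_degreewise_shortExact
  intro i
  haveI := hP i
  have hinj : Function.Injective S.f.hom := (ModuleCat.mono_iff_injective _).mp hS.mono_f
  have hsurj : Function.Surjective S.g.hom := (ModuleCat.epi_iff_surjective _).mp hS.epi_g
  have hex : Function.Exact S.f.hom S.g.hom :=
    (ShortComplex.ShortExact.moduleCat_exact_iff_function_exact S).mp hS.exact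
  refine ShortComplex.ShortExact.mk' ?_ ?_ ?_
  · rw [ShortComplex.ShortExact.moduleCat_exact_iff_function_exact]
    exact Module.Flat.lTensor_exact (Pc.X i) hex
  · rw [ModuleCat.mono_iff_injective]
    exact Module.Flat.lTensor_preserves_injective_linearMap S.f.hom hinj
  · rw [ModuleCat.epi_iff_surjective]
    exact LinearMap.lTensor_surjective (Pc.X i) hsurj

/-- the distinguished triangle `Pc ⊗ X₁ ⟶ Pc ⊗ X₂ ⟶ Pc ⊗ X₃` -/
lemma exists_triangle (hP : ∀ i, Module.Flat C (Pc.X i)) {S : ShortComplex (ModuleCat.{u} C)}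
    (hS : S.ShortExact) :
    ∃ (T : Triangle (Dual.D C)), T ∈ distTriang _ ∧
      T.obj₁ = DRing.toD (DRing.tensorCx Pc S.X₁) ∧ T.obj₂ = DRing.toD (DRing.tensorCx Pc S.X₂) ∧
      T.obj₃ = DRing.toD (DRing.tensorCx Pc S.X₃) :=
  ⟨DerivedCategory.triangleOfSES (TF_shortExact Pc hP hS),
    DerivedCategory.triangleOfSES_distinguished _, rfl, rfl, rfl⟩

section Phi

variable {P : Type u} [CommRing P] (π : P →+* C)

/-- `(Pc ⊗ N)|_P` is `m`-pseudo-coherent -/
def Phi (m : ℤ) (N : ModuleCat.{u} C) : Prop :=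
  DRing.IsPseudoCoherent P m ((DRing.restrictD π).obj (DRing.toD (DRing.tensorCx Pc N)))

lemma phi_of_iso {N N' : ModuleCat.{u} C} (e : N ≅ N') (m : ℤ) (h : Phi Pc π m N) :
    Phi Pc π m N' :=
  isPseudoCoherent_of_iso ((DRing.restrictD π).mapIso (Q.mapIso ((TF Pc).mapIso e))) h

lemma phi_of_le {m m' : ℤ} (hm : m ≤ m') {N : ModuleCat.{u} C} (h : Phi Pc π m N) :
    Phi Pc π m' N :=
  isPseudoCoherent_of_le hm h

lemma phi_obj₃ (hP : ∀ i, Module.Flat C (Pc.X i)) {S : ShortComplex (ModuleCat.{u} C)}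
    (hS : S.ShortExact) (m : ℤ) (h1 : Phi Pc π (m + 1) S.X₁) (h2 : Phi Pc π m S.X₂) :
    Phi Pc π m S.X₃ := by
  have hT := DerivedCategory.triangleOfSES_distinguished (TF_shortExact Pc hP hS)
  have hT' := (DRing.restrictD π).map_distinguished _ hT
  exact isPseudoCoherent_obj₃ _ hT' m h1 h2

lemma phi_obj₂ (hP : ∀ i, Module.Flat C (Pc.X i)) {S : ShortComplex (ModuleCat.{u} C)}
    (hS : S.ShortExact) (m : ℤ) (h1 : Phi Pc π m S.X₁) (h3 : Phi Pc π m S.X₃) :
    Phi Pc π m S.X₂ := by
  have hT := DerivedCategory.triangleOfSES_distinguished (TF_shortExact Pc hP hS)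
  have hT' := (DRing.restrictD π).map_distinguished _ hT
  exact isPseudoCoherent_obj₂ _ hT' m h1 h3

lemma phi_of_lt (b : ℤ) (hb : DRing.VanishesAbove Pc b) (m : ℤ) (hm : b < m)
    (N : ModuleCat.{u} C) : Phi Pc π m N := by
  have hv : DRing.VanishesAbove (DRing.tensorCx Pc N) b :=
    fun i hi => tensorCx_isZero_X Pc N i (hb i hi)
  haveI : (DRing.tensorCx Pc N).IsStrictlyLE b := isStrictlyLE_of_vanishesAbove _ _ hv
  haveI h1 : (DRing.toD (DRing.tensorCx Pc N)).IsLE b := inferInstance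
  haveI h2 : ((DRing.restrictD π).obj (DRing.toD (DRing.tensorCx Pc N))).IsLE b :=
    (rD_isLE_iff π _ b).mpr h1
  haveI : ((DRing.restrictD π).obj (DRing.toD (DRing.tensorCx Pc N))).IsLE (m - 1) :=
    DerivedCategory.TStructure.t.isLE_of_le _ b (m - 1) (by omega)
  exact isPseudoCoherent_of_isLE _ m

/-- `Pc ⊗ C ≅ Pc` -/
def unitIso : DRing.tensorCx Pc (𝟙_ (ModuleCat.{u} C)) ≅ Pc :=
  HomologicalComplex.Hom.isoOfComponents (fun i => ρ_ (Pc.X i))
    (fun i j _ => by
      show (ρ_ (Pc.X i)).hom ≫ Pc.d i j = (Pc.d i j ▷ _) ≫ (ρ_ (Pc.X j)).hom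
      exact (rightUnitor_naturality _).symm)

lemma phi_unit (m : ℤ)
    (h : DRing.IsPseudoCoherent P m ((DRing.restrictD π).obj (DRing.toD Pc))) :
    Phi Pc π m (𝟙_ (ModuleCat.{u} C)) :=
  isPseudoCoherent_of_iso ((DRing.restrictD π).mapIso (Q.mapIso (unitIso Pc).symm)) h

lemma phi_prod (hP : ∀ i, Module.Flat C (Pc.X i)) (m : ℤ) (N N' : ModuleCat.{u} C)
    (h : Phi Pc π m N) (h' : Phi Pc π m N') : Phi Pc π m (ModuleCat.of C (N × N')) := by
  let S : ShortComplex (ModuleCat.{u} C) :=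
    ModuleCat.shortComplexOfCompEqZero (LinearMap.inl C N N') (LinearMap.snd C N N')
      (by ext; simp)
  have hS : S.ShortExact := ModuleCat.shortComplex_shortExact S
    (by
      intro x
      constructor
      · intro hx
        exact ⟨x.1, Prod.ext rfl (Eq.symm hx)⟩
      · rintro ⟨y, rfl⟩
        rfl)
    LinearMap.inl_injective LinearMap.snd_surjective
  exact phi_obj₂ Pc π hP hS m h h'

lemma phi_of_subsingleton (m : ℤ) (N : ModuleCat.{u} C) [Subsingleton N] : Phi Pc π m N := by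
  apply isPseudoCoherent_of_isZero
  apply Functor.map_isZero
  apply isZero_toD_of_isZero
  intro i
  have hN : IsZero N := ModuleCat.isZero_of_subsingleton N
  exact Functor.map_isZero (tensorLeft (Pc.X i)) hN

lemma phi_pi (hP : ∀ i, Module.Flat C (Pc.X i)) (m : ℤ)
    (h1 : Phi Pc π m (𝟙_ (ModuleCat.{u} C))) :
    ∀ r : ℕ, Phi Pc π m (ModuleCat.of C (Fin r → C))
  | 0 => phi_of_subsingleton Pc π m _
  | r + 1 =>
    phi_of_iso Pc π (Fin.consLinearEquiv C (fun _ : Fin (r + 1) => C)).toModuleIso m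
      (phi_prod Pc π hP m (𝟙_ (ModuleCat.{u} C)) (ModuleCat.of C (Fin r → C)) h1
        (phi_pi hP m h1 r))

end Phi

/-- a module which is pseudo-coherent in all degrees -/
def PCMod (N : ModuleCat.{u} C) : Prop :=
  ∀ n : ℤ, DRing.IsPseudoCoherent C n ((singleFunctor (ModuleCat.{u} C) 0).obj N)

lemma exists_presentation_of_pcMod (N : ModuleCat.{u} C) (hN : PCMod N) :
    ∃ (r : ℕ) (p : (Fin r → C) →ₗ[C] N), Function.Surjective p ∧
      PCMod (ModuleCat.of C (LinearMap.ker p)) := by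
  have hfin : Module.Finite C N := by
    have := finite_HD_of_isPseudoCoherent ((singleFunctor (ModuleCat.{u} C) 0).obj N) 0 (hN 0)
    exact Module.Finite.equiv (HDinDIso N).toLinearEquiv
  obtain ⟨r, p, hp⟩ := Module.Finite.exists_fin' C N
  refine ⟨r, p, hp, fun n => ?_⟩
  have hS := LinearMap.shortExact_shortComplexKer hp
  have hT := hS.singleTriangle_distinguished
  have h2 : DRing.IsPseudoCoherent C (n - 1 + 1) hS.singleTriangle.obj₂ :=
    isPseudoCoherent_of_isBFF (IsBFF.single 0 (ModuleCat.of C (Fin r → C))) _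
  have h3 : DRing.IsPseudoCoherent C (n - 1) hS.singleTriangle.obj₃ := hN (n - 1)
  have := isPseudoCoherent_obj₁ _ hT (n - 1) h2 h3
  rw [show n - 1 + 1 = n from by ring] at this
  exact this

section Main

variable {P : Type u} [CommRing P] (π : P →+* C)

theorem phi_of_pcMod (hP : ∀ i, Module.Flat C (Pc.X i)) (b : ℤ) (hb : DRing.VanishesAbove Pc b)
    (m₀ : ℤ) (h0 : DRing.IsPseudoCoherent P m₀ ((DRing.restrictD π).obj (DRing.toD Pc))) :
    ∀ (k : ℕ) (m : ℤ), m₀ ≤ m → b + 1 - m ≤ k → ∀ N : ModuleCat.{u} C, PCMod N → Phi Pc π m N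
  | 0, m, _, hk, N, _ => phi_of_lt Pc π b hb m (by omega) N
  | k + 1, m, hm, hk, N, hN => by
    obtain ⟨r, p, hp, hZ⟩ := exists_presentation_of_pcMod N hN
    have hS := LinearMap.shortExact_shortComplexKer hp
    have h1 : Phi Pc π (m + 1) (ModuleCat.of C (LinearMap.ker p)) :=
      phi_of_pcMod hP b hb m₀ h0 k (m + 1) (by omega) (by push_cast at hk ⊢; omega) _ hZ
    have h2 : Phi Pc π m (ModuleCat.of C (Fin r → C)) :=
      phi_pi Pc π hP m (phi_unit Pc π m (isPseudoCoherent_of_le hm h0)) r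
    exact phi_obj₃ Pc π hP hS m h1 h2

end Main

end

end Groth.Agent.Helper9.TenPC1
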