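import Mathlib
import Groth.Prelude.Def_DRing2
import Groth.Prelude.Def_DDual2
import Groth.Agent.Helper9.TenPC1
import Groth.Agent.Helper6.LBCCompute
import Groth.Agent.Helper6.HasLBC

/-! Derived base change along `β : C → B` with `B` a pseudo-coherent `C`-module preserves
pseudo-coherence over a ring `P → C`. -/

set_option autoImplicit false
set_option linter.style.haveILetI false
set_option linter.unusedVariables false
set_option linter.unusedSectionVars false
universe u

namespace Groth.Agent.Helper9.TenPC2

noncomputable section

open CategoryTheory CategoryTheory.Limits MonoidalCategory Pretriangulated DerivedCategory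
  TensorProduct
open Groth.Agent.Helper3.DRingLib Groth.Agent.Helper9.TenPC1 Groth.Agent.Helper6.LBCCompute

attribute [local instance] HasDerivedCategory.standard

variable {C B : Type u} [CommRing C] [CommRing B] (β : C →+* B)

/-- `B` as a `C`-module -/
abbrev resB : ModuleCat.{u} C := (ModuleCat.restrictScalars.{u} β).obj (ModuleCat.of B B)

/-- `B ⊗_C M ≃ M ⊗_C B`, `C`-linearly -/
def swapEquiv (M : ModuleCat.{u} C) :
    ((ModuleCat.restrictScalars.{u} β).obj ((ModuleCat.extendScalars.{u, u, u} β).obj M)) ≃ₗ[C]
      (M ⊗ resB β : ModuleCat.{u} C) :=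
  letI := Module.compHom B β
  { toFun := fun z => (TensorProduct.comm C B M) z
    invFun := fun z => (TensorProduct.comm C B M).symm z
    left_inv := fun z => (TensorProduct.comm C B M).symm_apply_apply z
    right_inv := fun z => (TensorProduct.comm C B M).apply_symm_apply z
    map_add' := fun x y => map_add (TensorProduct.comm C B M) x y
    map_smul' := fun c z => by
      have hsm : ∀ (w : (ModuleCat.restrictScalars.{u} β).obj
          ((ModuleCat.extendScalars.{u, u, u} β).obj M)), c • w =
          ((β c) • (show ((ModuleCat.extendScalars.{u, u, u} β).obj M) from w) :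
            ((ModuleCat.extendScalars.{u, u, u} β).obj M)) := fun w => rfl
      show (TensorProduct.comm C B M) (c • z) = c • (TensorProduct.comm C B M) z
      have key : ∀ w : B ⊗[C] M, (TensorProduct.comm C B M)
          (c • (show (ModuleCat.restrictScalars.{u} β).obj
            ((ModuleCat.extendScalars.{u, u, u} β).obj M) from w)) =
          c • (TensorProduct.comm C B M) w := by
        intro w
        induction w using TensorProduct.induction_on with
        | zero =>
          rw [map_zero, smul_zero]
          exact ((TensorProduct.comm C B M).congr_arg (smul_zero c)).trans (map_zero _)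
        | tmul b m =>
          rw [hsm]
          have h2 : ((β c) • (show ((ModuleCat.extendScalars.{u, u, u} β).obj M) from b ⊗ₜ[C] m) :
              ((ModuleCat.extendScalars.{u, u, u} β).obj M)) = ((β c * b) ⊗ₜ[C] m : B ⊗[C] M) :=
            ModuleCat.ExtendScalars.smul_tmul β _ _ _
          refine ((TensorProduct.comm C B M).congr_arg h2).trans ?_
          rw [TensorProduct.comm_tmul, TensorProduct.comm_tmul, ← TensorProduct.tmul_smul]
          rfl
        | add x y hx hy =>
          rw [map_add, smul_add, ← hx, ← hy]
          refine Eq.trans ?_ (map_add (TensorProduct.comm C B M) _ _)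
          exact (TensorProduct.comm C B M).congr_arg (smul_add c _ _)
      exact key z }

lemma swap_naturality {M M' : ModuleCat.{u} C} (f : M ⟶ M') :
    (ModuleCat.restrictScalars.{u} β).map ((ModuleCat.extendScalars.{u, u, u} β).map f) ≫
        (swapEquiv β M').toModuleIso.hom =
      (swapEquiv β M).toModuleIso.hom ≫ (f ▷ resB β) := by
  letI := Module.compHom B β
  refine ModuleCat.hom_ext (LinearMap.ext fun z => ?_)
  let F := ((ModuleCat.restrictScalars.{u} β).map ((ModuleCat.extendScalars.{u, u, u} β).map f) ≫
        (swapEquiv β M').toModuleIso.hom).hom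
  let G := ((swapEquiv β M).toModuleIso.hom ≫ (f ▷ resB β)).hom
  have key : ∀ w : B ⊗[C] M, F w = G w := by
    intro w
    induction w using TensorProduct.induction_on with
    | zero => exact (map_zero F).trans (map_zero G).symm
    | tmul b m => rfl
    | add x y hx hy =>
      exact (map_add F x y).trans ((congrArg₂ (· + ·) hx hy).trans (map_add G x y).symm)
  exact key z

/-- termwise restriction of scalars -/
abbrev resCx : DRing.Cx B ⥤ DRing.Cx C :=
  (ModuleCat.restrictScalars.{u} β).mapHomologicalComplex (ComplexShape.up ℤ)

/-- `(B ⊗_C Pc)|_C ≅ Pc ⊗_C B` -/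
def cxIso (Pc : DRing.Cx C) :
    (resCx β).obj ((bcCxF β).obj Pc) ≅ DRing.tensorCx Pc (resB β) :=
  HomologicalComplex.Hom.isoOfComponents (fun i => (swapEquiv β (Pc.X i)).toModuleIso)
    (fun i j _ => (swap_naturality β (Pc.d i j)).symm)

variable {P : Type u} [CommRing P] (π : P →+* C)

/-- **derived base change along a ring map `C → B` making `B` a pseudo-coherent `C`-module
preserves `m`-pseudo-coherence over `P → C`** -/
theorem main [DRing.HasLBaseChange β] (L : Dual.D C) (m : ℤ)
    (hL : DRing.IsPseudoCoherent P m ((DRing.restrictD π).obj L))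
    (hB : PCMod (resB β)) :
    DRing.IsPseudoCoherent P m
      ((DRing.restrictD π).obj ((DRing.restrictD β).obj ((DRing.LBaseChange β).obj L))) := by
  obtain ⟨b, hb⟩ := exists_isLE_of_isPseudoCoherent hL
  haveI : L.IsLE b := (rD_isLE_iff π L b).mp hb
  obtain ⟨Pc, hv, hproj, ⟨e⟩⟩ := exists_projective_rep L b
  haveI : ∀ i, Projective (Pc.X i) := fun i => (IsProjective.iff_projective _).mp (hproj i)
  haveI : Pc.IsStrictlyLE b := isStrictlyLE_of_vanishesAbove _ _ hv
  haveI : Pc.IsKProjective := CochainComplex.isKProjective_of_projective Pc b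
  have hflat : ∀ i, Module.Flat C (Pc.X i) := fun i => haveI := hproj i; inferInstance
  have h0 : DRing.IsPseudoCoherent P m ((DRing.restrictD π).obj (DRing.toD Pc)) :=
    isPseudoCoherent_of_iso ((DRing.restrictD π).mapIso e.symm) hL
  have hphi : Phi Pc π m (resB β) :=
    phi_of_pcMod Pc π hflat b hv m h0 (b + 1 - m).toNat m le_rfl (by omega) _ hB
  have e1 : (DRing.LBaseChange β).obj L ≅ DRing.toD ((bcCxF β).obj Pc) :=
    (DRing.LBaseChange β).mapIso e.symm ≪≫ lbcIso β Pc
  have e2 : (DRing.restrictD β).obj (DRing.toD ((bcCxF β).obj Pc)) ≅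
      DRing.toD ((resCx β).obj ((bcCxF β).obj Pc)) :=
    (ModuleCat.restrictScalars.{u} β).mapDerivedCategoryFactors.app _
  have e3 := Q.mapIso (cxIso β Pc)
  exact isPseudoCoherent_of_iso
    ((DRing.restrictD π).mapIso ((DRing.restrictD β).mapIso e1 ≪≫ e2 ≪≫ e3).symm) hphi

end

end Groth.Agent.Helper9.TenPC2
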