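import Mathlib
import Groth.Prelude.Def_DRing2
import Groth.Prelude.Def_DDual2
import Groth.Prelude.Def_DerCA
import Groth.Agent.Helper9.TenPC2
import Groth.Agent.Helper9.FBC2c
import Groth.Agent.Helper6.KProjRes
import Groth.Agent.Helper6.LBaseCmp
import Groth.Agent.Helper6.LBCFibreGlobal
import Groth.Agent.Helper3.DRingRelPC
import Groth.Agent.Helper3.DRingFinStep

/-! Derived base change to a relatively pseudo-coherent algebra preserves relative
pseudo-coherence. -/

set_option autoImplicit false
set_option linter.style.haveILetI false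
set_option linter.unusedVariables false
set_option linter.unusedSectionVars false
universe u

namespace Groth.Agent.Helper9.TenPC3

noncomputable section

open CategoryTheory CategoryTheory.Limits MonoidalCategory Pretriangulated DerivedCategory
  TensorProduct
open Groth.Agent.Helper3.DRingLib Groth.Agent.Helper9.TenPC1 Groth.Agent.Helper9.TenPC2
  Groth.Agent.Helper6.LBCCompute

attribute [local instance] HasDerivedCategory.standard

section Comp

variable {A A' B : Type u} [CommRing A] [CommRing A'] [CommRing B]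

/-- derived base change along a composite -/
theorem nonempty_lbcComp (φ : A →+* A') (ψ : A' →+* B) (χ : A →+* B) (h : ψ.comp φ = χ)
    [DRing.HasLBaseChange φ] [DRing.HasLBaseChange ψ] [DRing.HasLBaseChange χ] (K : Dual.D A) :
    Nonempty ((DRing.LBaseChange χ).obj K ≅ (DRing.LBaseChange ψ).obj
      ((DRing.LBaseChange φ).obj K)) := by
  subst h
  obtain ⟨E, f, hE, _, _, hf, _⟩ :=
    Groth.Agent.Helper6.KProjRes.exists_resolution (Q.objPreimage K)
  haveI := hE
  haveI : IsIso (Q.map f) := (DerivedCategory.isIso_Q_map_iff_quasiIso (ModuleCat.{u} A) _).mpr hf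
  let e : DRing.toD E ≅ K := asIso (Q.map f) ≪≫ Q.objObjPreimageIso K
  haveI : ((bcCxF φ).obj E).IsKProjective := Groth.Agent.Helper6.LBaseCmp.isKProjective_ext φ E
  exact ⟨(DRing.LBaseChange (ψ.comp φ)).mapIso e.symm ≪≫ lbcIso (ψ.comp φ) E ≪≫
    Q.mapIso (Groth.Agent.Helper6.LBCFibreGlobal.bcCxFComp φ ψ E) ≪≫
    (lbcIso ψ ((bcCxF φ).obj E)).symm ≪≫
    (DRing.LBaseChange ψ).mapIso ((lbcIso φ E).symm ≪≫ (DRing.LBaseChange φ).mapIso e)⟩

end Comp

section Main

open Groth.Agent.Helper9.FBC2b Groth.Agent.Helper9.FBC2c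

variable {R A B : Type u} [CommRing R] [CommRing A] [CommRing B] [Algebra R A] [Algebra A B]
  [Algebra R B] [IsScalarTower R A B]

attribute [local instance] MvPolynomial.algebraMvPolynomial in
lemma isPushout_mvPoly (k : ℕ) :
    IsPushout (CommRingCat.ofHom (algebraMap R A))
      (CommRingCat.ofHom (algebraMap R (MvPolynomial (Fin k) R)))
      (CommRingCat.ofHom (algebraMap A (MvPolynomial (Fin k) A)))
      (CommRingCat.ofHom (MvPolynomial.map (σ := Fin k) (algebraMap R A))) := by
  have h : Algebra.IsPushout R A (MvPolynomial (Fin k) R) (MvPolynomial (Fin k) A) := inferInstance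
  exact (CommRingCat.isPushout_iff_isPushout (R := R) (R' := A) (S := MvPolynomial (Fin k) R)
    (S' := MvPolynomial (Fin k) A)).mpr h

/-- **derived base change to an algebra which is pseudo-coherent relative to `A` preserves
`m`-pseudo-coherence relative to `R`** -/
theorem relPC_LBaseChange (hB : DerCA.IsRelPseudoCoherentModuleAll A B B)
    [DRing.HasLBaseChange (algebraMap A B)] (K : Dual.D A) (m : ℤ)
    (hK : DerCA.IsRelPseudoCoherent R A m K) :
    DerCA.IsRelPseudoCoherent R B m ((DRing.LBaseChange (algebraMap A B)).obj K) := by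
  obtain ⟨n, α, hα, hK1⟩ := hK
  obtain ⟨k, β, hβ, _⟩ := hB 0
  have hBpc : ∀ j : ℤ, DRing.IsPseudoCoherent (MvPolynomial (Fin k) A) j
      ((DRing.restrictD (β : MvPolynomial (Fin k) A →+* B)).obj (Dual.inD B B)) :=
    fun j => (relPC_iff_via β hβ j _).mp (hB j)
  -- the ring maps
  let a : R →+* MvPolynomial (Fin k) R := algebraMap R (MvPolynomial (Fin k) R)
  let f : R →+* A := algebraMap R A
  let f' : MvPolynomial (Fin k) R →+* MvPolynomial (Fin k) A := MvPolynomial.map f
  let c : A →+* MvPolynomial (Fin k) A := algebraMap A (MvPolynomial (Fin k) A)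
  have hpo : IsPushout (CommRingCat.ofHom f) (CommRingCat.ofHom a) (CommRingCat.ofHom c)
      (CommRingCat.ofHom f') := isPushout_mvPoly k
  let αr : MvPolynomial (Fin n) R →+* A := (α : MvPolynomial (Fin n) R →+* A)
  have hαr : αr.comp MvPolynomial.C = f := by
    ext r
    exact α.commutes r
  have hfl : a.Flat := RingHom.flat_algebraMap_iff.mpr inferInstance
  have hcfl : c.Flat := RingHom.flat_algebraMap_iff.mpr inferInstance
  -- a complex representing `K`
  let E : DRing.Cx A := Q.objPreimage K
  let eK : DRing.toD E ≅ K := Q.objObjPreimageIso K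
  have h1 : DRing.IsPseudoCoherent (MvPolynomial (Fin n) R) m
      ((DRing.restrictD αr).obj (DRing.toD E)) :=
    isPseudoCoherent_of_iso ((DRing.restrictD αr).mapIso eK.symm) hK1
  have h2 := pc_lift a f f' c hpo αr hαr hfl E m h1
  have hπ : Function.Surjective (alpha' f' c αr) := alpha'_surjective a f f' c hpo αr hαr hα
  -- apply the main lemma
  haveI := Groth.Agent.Helper6.HasLBC.hasLBaseChange (β : MvPolynomial (Fin k) A →+* B)
  haveI := Groth.Agent.Helper6.HasLBC.hasLBaseChange c
  have hB' : PCMod (resB (β : MvPolynomial (Fin k) A →+* B)) := fun j =>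
    isPseudoCoherent_of_iso (rDSingle (β : MvPolynomial (Fin k) A →+* B) 0 (ModuleCat.of B B))
      (hBpc j)
  have h3 := TenPC2.main (β : MvPolynomial (Fin k) A →+* B) (alpha' f' c αr)
    (DRing.toD ((bcCxF c).obj E)) m h2 hB'
  -- identify the derived base change
  have hβc : (β : MvPolynomial (Fin k) A →+* B).comp c = algebraMap A B := by
    ext r
    exact β.commutes r
  obtain ⟨e1⟩ := nonempty_lbcComp c (β : MvPolynomial (Fin k) A →+* B) (algebraMap A B) hβc K
  have e2 : (DRing.LBaseChange c).obj K ≅ DRing.toD ((bcCxF c).obj E) :=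
    (DRing.LBaseChange c).mapIso eK.symm ≪≫ Groth.Agent.Helper9.FBC1.lbcFlatIso c hcfl E
  have e3 : (DRing.LBaseChange (algebraMap A B)).obj K ≅
      (DRing.LBaseChange (β : MvPolynomial (Fin k) A →+* B)).obj
        (DRing.toD ((bcCxF c).obj E)) :=
    e1 ≪≫ (DRing.LBaseChange (β : MvPolynomial (Fin k) A →+* B)).mapIso e2
  -- the presentation of `B` over `R`
  let eAlg : MvPolynomial (Fin (n + k)) R ≃ₐ[R] MvPolynomial (Fin n) (MvPolynomial (Fin k) R) :=
    (MvPolynomial.renameEquiv R finSumFinEquiv.symm).trans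
      (MvPolynomial.sumAlgEquiv R (Fin n) (Fin k))
  let g : MvPolynomial (Fin n) (MvPolynomial (Fin k) R) →+* B :=
    (β : MvPolynomial (Fin k) A →+* B).comp (alpha' f' c αr)
  have hgC : ∀ r : R, g (MvPolynomial.C (MvPolynomial.C r)) = algebraMap R B r := by
    intro r
    have h1 : alpha' f' c αr (MvPolynomial.C (MvPolynomial.C r)) = f' (MvPolynomial.C r) :=
      congrArg (fun t : MvPolynomial (Fin k) R →+* MvPolynomial (Fin k) A =>
        t (MvPolynomial.C r)) (alpha'_C f' c αr)
    show β (alpha' f' c αr (MvPolynomial.C (MvPolynomial.C r))) = _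
    rw [h1]
    show β (MvPolynomial.map f (MvPolynomial.C r)) = _
    rw [MvPolynomial.map_C]
    have h2 : β (MvPolynomial.C (f r)) = algebraMap A B (f r) := β.commutes (f r)
    rw [h2]
    exact (IsScalarTower.algebraMap_apply R A B r).symm
  let γ : MvPolynomial (Fin (n + k)) R →ₐ[R] B :=
    { toRingHom := g.comp eAlg.toRingEquiv.toRingHom
      commutes' := fun r => by
        show g (eAlg (algebraMap R _ r)) = algebraMap R B r
        rw [eAlg.commutes]
        exact hgC r }
  have hγ : Function.Surjective γ := by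
    intro b
    obtain ⟨t, rfl⟩ := hβ b
    obtain ⟨s, rfl⟩ := hπ t
    obtain ⟨p, rfl⟩ := eAlg.surjective s
    exact ⟨p, rfl⟩
  have hγ' : (γ : MvPolynomial (Fin (n + k)) R →+* B) = g.comp eAlg.toRingEquiv.toRingHom := rfl
  refine ⟨n + k, γ, hγ, ?_⟩
  unfold DerCA.IsRelPseudoCoherentVia
  rw [hγ', goodHom_ringEquiv eAlg.toRingEquiv B g _ m]
  refine isPseudoCoherent_of_iso
    (rDComp (alpha' f' c αr) (β : MvPolynomial (Fin k) A →+* B) _).symm ?_
  exact isPseudoCoherent_of_iso ((DRing.restrictD _).mapIso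
    ((DRing.restrictD _).mapIso e3.symm)) h3

end Main

end

end Groth.Agent.Helper9.TenPC3
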