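import Mathlib
import Groth.Prelude.Def_Flatn
import Groth.Prelude.Def_FlatCA
import Groth.Agent.Helper9.FBC2c
import Groth.Agent.Helper9.TenPC3
import Groth.Agent.Helper9.FlatnRel2
import Groth.Agent.Helper1.FlatCxDRank

/-! Relative finite presentation of modules, ring level: invariance under linear equivalences
and arbitrary base change. -/

set_option autoImplicit false
set_option linter.style.haveILetI false
set_option linter.unusedVariables false
set_option linter.unusedSectionVars false
universe u

namespace Groth.Agent.Helper9.FlatnRel5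

open CategoryTheory CategoryTheory.Limits TensorProduct MvPolynomial
open Groth.Agent.Helper9.FBC2a Groth.Agent.Helper9.FBC2b

section Equiv

variable {R A : Type u} [CommRing R] [CommRing A] [Algebra R A]

/-- relative finite presentation is invariant under linear equivalences -/
theorem relFP_of_linearEquiv {N N' : Type u} [AddCommGroup N] [Module A N] [AddCommGroup N']
    [Module A N'] (e : N ≃ₗ[A] N') (h : FlatCA.RelFinitePresentation R A N) :
    FlatCA.RelFinitePresentation R A N' := by
  obtain ⟨n, φ, hs, hfp⟩ := h
  refine ⟨n, φ, hs, ?_⟩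
  letI : Module (MvPolynomial (Fin n) R) N := Module.compHom N φ.toRingHom
  letI : Module (MvPolynomial (Fin n) R) N' := Module.compHom N' φ.toRingHom
  haveI : Module.FinitePresentation (MvPolynomial (Fin n) R) N := hfp
  let e' : N ≃ₗ[MvPolynomial (Fin n) R] N' :=
    { e.toAddEquiv with
      map_smul' := fun p x => e.map_smul (φ p) x }
  exact Module.FinitePresentation.of_equiv e'

end Equiv

section BaseChange

variable {A A' C C' : Type u} [CommRing A] [CommRing A'] [CommRing C] [CommRing C']
  (a : A →+* A') (f : A →+* C) (f' : A' →+* C') (c : C →+* C')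
  (hpo : IsPushout (CommRingCat.ofHom f) (CommRingCat.ofHom a) (CommRingCat.ofHom c)
    (CommRingCat.ofHom f'))

include hpo in
/-- **relative finite presentation is preserved by arbitrary base change** (ring level) -/
theorem relFP_baseChange (N : ModuleCat.{u} C)
    (h : letI := f.toAlgebra; FlatCA.RelFinitePresentation A C N) :
    letI := f'.toAlgebra
    FlatCA.RelFinitePresentation A' C' ((ModuleCat.extendScalars c).obj N) := by
  letI := f.toAlgebra
  letI := f'.toAlgebra
  obtain ⟨n, α, hs, hfp⟩ := h
  have hα : (α : MvPolynomial (Fin n) A →+* C).comp MvPolynomial.C = f := by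
    ext r
    exact α.commutes r
  refine ⟨n, Groth.Agent.Helper9.FBC2c.alphaAlg' f' c (α : MvPolynomial (Fin n) A →+* C),
    alpha'_surjective a f f' c hpo _ hα hs, ?_⟩
  let αr : MvPolynomial (Fin n) A →+* C := (α : MvPolynomial (Fin n) A →+* C)
  let e : (ModuleCat.extendScalars (rho (n := n) a)).obj ((ModuleCat.restrictScalars αr).obj N) ≅
      (ModuleCat.restrictScalars (alpha' f' c αr)).obj ((ModuleCat.extendScalars c).obj N) :=
    (bcIso αr (rho a) (alpha' f' c αr) c (sq a f f' c hpo αr hα)
      (pushoutSq a f f' c hpo αr hα)).app N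
  haveI h1 : Module.FinitePresentation (MvPolynomial (Fin n) A)
      ((ModuleCat.restrictScalars αr).obj N) := hfp
  letI : Algebra (MvPolynomial (Fin n) A) (MvPolynomial (Fin n) A') := (rho (n := n) a).toAlgebra
  haveI h2 : Module.FinitePresentation (MvPolynomial (Fin n) A')
      ((ModuleCat.extendScalars (rho (n := n) a)).obj ((ModuleCat.restrictScalars αr).obj N)) :=
    Module.FinitePresentation.of_equiv
      (Groth.Agent.Helper1.FlatCx.extendScalarsEquiv (S := MvPolynomial (Fin n) A')
        ((ModuleCat.restrictScalars αr).obj N)).symm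
  show Module.FinitePresentation (MvPolynomial (Fin n) A')
    ((ModuleCat.restrictScalars (alpha' f' c αr)).obj ((ModuleCat.extendScalars c).obj N))
  exact Module.FinitePresentation.of_equiv e.toLinearEquiv

end BaseChange

section Quotient

variable {R A B : Type u} [CommRing R] [CommRing A] [CommRing B] [Algebra R A] [Algebra A B]
  [Algebra R B] [IsScalarTower R A B]

/-- **relative finite presentation passes to the quotient by a finitely generated ideal** -/
theorem relFP_quotient (hsurj : Function.Surjective (algebraMap A B))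
    (hker : (RingHom.ker (algebraMap A B)).FG) (M : Type u) [AddCommGroup M] [Module A M]
    (h : FlatCA.RelFinitePresentation R A M) :
    FlatCA.RelFinitePresentation R B (B ⊗[A] M) := by
  obtain ⟨n, φ, hs, hfp⟩ := h
  let ψ : MvPolynomial (Fin n) R →ₐ[R] B := (IsScalarTower.toAlgHom R A B).comp φ
  refine ⟨n, ψ, hsurj.comp hs, ?_⟩
  letI : Algebra (MvPolynomial (Fin n) R) A := φ.toRingHom.toAlgebra
  letI : Module (MvPolynomial (Fin n) R) M := Module.compHom M φ.toRingHom
  letI : Module (MvPolynomial (Fin n) R) (B ⊗[A] M) := Module.compHom (B ⊗[A] M) ψ.toRingHom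
  haveI : IsScalarTower (MvPolynomial (Fin n) R) A M :=
    IsScalarTower.of_algebraMap_smul fun r x => rfl
  haveI : IsScalarTower (MvPolynomial (Fin n) R) A (B ⊗[A] M) :=
    IsScalarTower.of_algebraMap_smul fun r x => by
      show φ r • x = algebraMap A B (φ r) • x
      exact (algebraMap_smul B (φ r) x).symm
  haveI : Module.FinitePresentation (MvPolynomial (Fin n) R) M := hfp
  let q' : M →ₗ[A] B ⊗[A] M := TensorProduct.mk A B M 1
  let q : M →ₗ[MvPolynomial (Fin n) R] B ⊗[A] M := q'.restrictScalars _
  have hq : Function.Surjective q := by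
    intro z
    induction z using TensorProduct.induction_on with
    | zero => exact ⟨0, map_zero _⟩
    | tmul b m =>
      obtain ⟨a, rfl⟩ := hsurj b
      refine ⟨a • m, ?_⟩
      show (1 : B) ⊗ₜ[A] (a • m) = algebraMap A B a ⊗ₜ[A] m
      rw [← TensorProduct.smul_tmul, Algebra.algebraMap_eq_smul_one]
    | add x y hx hy =>
      obtain ⟨x', rfl⟩ := hx
      obtain ⟨y', rfl⟩ := hy
      exact ⟨x' + y', map_add _ _ _⟩
  let J : Ideal A := RingHom.ker (algebraMap A B)
  have hex0 : Function.Exact (J.subtype : J →ₗ[A] A) (Algebra.linearMap A B) := by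
    intro y
    constructor
    · intro hy
      exact ⟨⟨y, hy⟩, rfl⟩
    · rintro ⟨⟨y, hy⟩, rfl⟩
      exact hy
  have hex := rTensor_exact M hex0 hsurj
  haveI : Module.Finite A J := Module.Finite.iff_fg.2 hker
  haveI : Module.Finite A M :=
    Module.Finite.of_restrictScalars_finite (MvPolynomial (Fin n) R) A M
  let l : J ⊗[A] M →ₗ[A] M :=
    (TensorProduct.lid A M).toLinearMap ∘ₗ LinearMap.rTensor M (J.subtype : J →ₗ[A] A)
  have h2 : ∀ z : A ⊗[A] M, q' (TensorProduct.lid A M z) =
      LinearMap.rTensor M (Algebra.linearMap A B) z := by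
    intro z
    induction z using TensorProduct.induction_on with
    | zero => simp
    | tmul a m =>
      show (1 : B) ⊗ₜ[A] (a • m) = algebraMap A B a ⊗ₜ[A] m
      rw [← TensorProduct.smul_tmul, Algebra.algebraMap_eq_smul_one]
    | add x y hx hy => simp only [map_add, hx, hy]
  have hker' : LinearMap.ker q' = LinearMap.range l := by
    ext m
    constructor
    · intro hm
      have h1 : LinearMap.rTensor M (Algebra.linearMap A B) ((1 : A) ⊗ₜ[A] m) = 0 := by
        rw [← h2, TensorProduct.lid_tmul, one_smul]
        exact hm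
      obtain ⟨w, hw⟩ := (hex _).1 h1
      refine ⟨w, ?_⟩
      show TensorProduct.lid A M (LinearMap.rTensor M (J.subtype : J →ₗ[A] A) w) = m
      rw [hw, TensorProduct.lid_tmul, one_smul]
    · rintro ⟨w, rfl⟩
      show q' (TensorProduct.lid A M (LinearMap.rTensor M (J.subtype : J →ₗ[A] A) w)) = 0
      rw [h2]
      exact (hex _).2 ⟨w, rfl⟩
  have hk' : (LinearMap.ker q').FG := by
    rw [hker', LinearMap.range_eq_map]
    exact Submodule.FG.map _ Module.Finite.fg_top
  have hk : (LinearMap.ker q).FG := by
    have : LinearMap.ker q = (LinearMap.ker q').restrictScalars (MvPolynomial (Fin n) R) := rfl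
    rw [this]
    exact Submodule.FG.restrictScalars_of_surjective hk' hs
  exact Module.finitePresentation_of_surjective q hq hk

end Quotient

section AlgCongr

/-- relative finite presentation only depends on the structure map -/
theorem relFP_of_algebraMap_eq {R A : Type u} [CommRing R] [CommRing A] (i₁ i₂ : Algebra R A)
    (h : @algebraMap R A _ _ i₁ = @algebraMap R A _ _ i₂) (N : Type u)
    [AddCommGroup N] [Module A N] (hN : @FlatCA.RelFinitePresentation R A _ _ i₁ N _ _) :
    @FlatCA.RelFinitePresentation R A _ _ i₂ N _ _ := by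
  obtain ⟨n, φ, hs, hfp⟩ := hN
  exact ⟨n, @AlgHom.mk R (MvPolynomial (Fin n) R) A _ _ _ _ i₂
    (@AlgHom.toRingHom R (MvPolynomial (Fin n) R) A _ _ _ _ i₁ φ)
    (fun r => (@AlgHom.commutes R (MvPolynomial (Fin n) R) A _ _ _ _ i₁ φ r).trans
      (congrFun (congrArg DFunLike.coe h) r)), hs, hfp⟩

end AlgCongr

section ExtendFP

variable {R A B : Type u} [CommRing R] [CommRing A] [CommRing B] [Algebra R A] [Algebra A B]
  [Algebra R B] [IsScalarTower R A B]

/-- **extension of scalars along a finitely presented algebra preserves relative finite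
presentation** -/
theorem relFP_extend [Algebra.FinitePresentation A B] (N : Type u) [AddCommGroup N] [Module A N]
    (h : FlatCA.RelFinitePresentation R A N) :
    FlatCA.RelFinitePresentation R B (B ⊗[A] N) := by
  obtain ⟨k, β, hβ, hβk⟩ := Algebra.FinitePresentation.out (R := A) (A := B)
  letI algRyAy : Algebra (MvPolynomial (Fin k) R) (MvPolynomial (Fin k) A) :=
    (MvPolynomial.map (σ := Fin k) (algebraMap R A)).toAlgebra
  -- step 1: base change to the polynomial ring
  have hpo := Groth.Agent.Helper9.TenPC3.isPushout_mvPoly (R := R) (A := A) k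
  have h0 : @FlatCA.RelFinitePresentation R A _ _ (algebraMap R A).toAlgebra N _ _ := by
    have hh : algebraMap R A = @algebraMap R A _ _ (algebraMap R A).toAlgebra := rfl
    exact relFP_of_algebraMap_eq _ (algebraMap R A).toAlgebra hh N h
  have h1 := relFP_baseChange (algebraMap R (MvPolynomial (Fin k) R)) (algebraMap R A)
    (MvPolynomial.map (σ := Fin k) (algebraMap R A)) (algebraMap A (MvPolynomial (Fin k) A))
    hpo (ModuleCat.of A N) h0
  have h1' : FlatCA.RelFinitePresentation (MvPolynomial (Fin k) R) (MvPolynomial (Fin k) A)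
      (MvPolynomial (Fin k) A ⊗[A] N) :=
    relFP_of_linearEquiv
      (Groth.Agent.Helper1.FlatCx.extendScalarsEquiv (S := MvPolynomial (Fin k) A)
        (ModuleCat.of A N)) h1
  -- step 2: the quotient
  letI algAyB : Algebra (MvPolynomial (Fin k) A) B := β.toRingHom.toAlgebra
  letI algRyB : Algebra (MvPolynomial (Fin k) R) B :=
    (β.toRingHom.comp (algebraMap (MvPolynomial (Fin k) R) (MvPolynomial (Fin k) A))).toAlgebra
  haveI : IsScalarTower (MvPolynomial (Fin k) R) (MvPolynomial (Fin k) A) B :=
    IsScalarTower.of_algebraMap_eq' rfl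
  have h2 : FlatCA.RelFinitePresentation (MvPolynomial (Fin k) R) B
      (B ⊗[MvPolynomial (Fin k) A] (MvPolynomial (Fin k) A ⊗[A] N)) :=
    relFP_quotient hβ hβk _ h1'
  -- step 3: composition
  haveI : IsScalarTower R (MvPolynomial (Fin k) R) B := by
    refine IsScalarTower.of_algebraMap_eq fun r => ?_
    show algebraMap R B r = β (MvPolynomial.map (algebraMap R A) (MvPolynomial.C r))
    rw [MvPolynomial.map_C]
    have : β (MvPolynomial.C (algebraMap R A r)) = algebraMap A B (algebraMap R A r) :=
      β.commutes _
    rw [this]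
    exact IsScalarTower.algebraMap_apply R A B r
  have h3 : FlatCA.RelFinitePresentation R B
      (B ⊗[MvPolynomial (Fin k) A] (MvPolynomial (Fin k) A ⊗[A] N)) :=
    Groth.Agent.Helper9.FlatnRel2.relFP_comp (R := R) (A := MvPolynomial (Fin k) R) (B := B) _ h2
  -- step 4: cancel
  haveI : IsScalarTower A (MvPolynomial (Fin k) A) B := by
    refine IsScalarTower.of_algebraMap_eq fun r => ?_
    exact (β.commutes r).symm
  exact relFP_of_linearEquiv
    (TensorProduct.AlgebraTensorModule.cancelBaseChange A (MvPolynomial (Fin k) A) B B N) h3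

end ExtendFP

end Groth.Agent.Helper9.FlatnRel5
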