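import Mathlib
import Groth.Prelude.Def_Flatn
import Groth.Agent.Helper9.FlatnRel3
import Groth.Agent.Helper9.FlatnRel5
import Groth.Agent.Lead.ModDict19
import Groth.Agent.Helper4.SecDict

/-! Modules finitely presented relative to a morphism: pullback along a morphism locally of
finite presentation. -/

set_option autoImplicit false
set_option linter.style.haveILetI false
set_option linter.unusedVariables false
set_option linter.unusedSectionVars false
universe u

namespace Groth.Agent.Helper9.FlatnRel6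

open CategoryTheory CategoryTheory.Limits AlgebraicGeometry TensorProduct

noncomputable section

section Bridge

variable {X Y : Scheme.{u}} (f : X ⟶ Y) {U : Y.Opens} (hU : IsAffineOpen U) {V : X.Opens}
  (hV : IsAffineOpen V) (e : V ≤ f ⁻¹ᵁ U) (F : Y.Modules) [F.IsQuasicoherent]

/-- sections of a pullback over an affine open `V ≤ f⁻¹U` are the base change of the sections
over `U`, as a linear equivalence -/
def sectionsPullbackEquiv :
    letI := (f.appLE U V e).hom.toAlgebra
    Γ((Scheme.Modules.pullback f).obj F, V) ≃ₗ[Γ(X, V)] (Γ(X, V) ⊗[Γ(Y, U)] Γ(F, U)) := by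
  letI := (f.appLE U V e).hom.toAlgebra
  exact (Groth.Agent.Helper4.SecDict.sectionsEquiv hV ((Scheme.Modules.pullback f).obj F)) ≪≫ₗ
    (Groth.Agent.Lead.ModDict.secFPullbackIso f hU hV e F).toLinearEquiv ≪≫ₗ
    (Groth.Agent.Helper1.FlatCx.extendScalarsEquiv (S := Γ(X, V))
      ((Groth.Agent.Lead.ModDict.secF hU).obj F)) ≪≫ₗ
    (TensorProduct.AlgebraTensorModule.congr (LinearEquiv.refl Γ(X, V) Γ(X, V))
      (Groth.Agent.Helper4.SecDict.sectionsEquiv hU F).symm)

end Bridge

end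

section Main

variable {X Y S : Scheme.{u}}

/-- **S9745**: pullback along a morphism locally of finite presentation -/
theorem isRelFP_pullback_lfp (f : X ⟶ Y) (g : Y ⟶ S) [LocallyOfFinitePresentation f]
    [LocallyOfFiniteType g] (G : Y.Modules) (hq : Coh.IsQCoh G) (hG : Flatn.IsRelFP g G) :
    Flatn.IsRelFP (f ≫ g) ((Scheme.Modules.pullback f).obj G) := by
  haveI : G.IsQuasicoherent := hq
  have hall := (Groth.Agent.Helper9.FlatnRel3.isRelFP_iff_forall g G hq).1 hG
  refine ⟨Set.univ, ?_, fun W _ => ?_⟩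
  · rw [eq_top_iff]
    intro z _
    obtain ⟨_, ⟨W, hW, rfl⟩, hzW, -⟩ :=
      (S.isBasis_affineOpens).exists_subset_of_mem_open (Set.mem_univ z) isOpen_univ
    simp only [TopologicalSpace.Opens.mem_iSup]
    exact ⟨⟨W, hW⟩, Set.mem_univ _, hzW⟩
  · refine ⟨{U | ∃ V : Y.affineOpens, (V : Y.Opens) ≤ g ⁻¹ᵁ (W : S.Opens) ∧
        (U : X.Opens) ≤ f ⁻¹ᵁ (V : Y.Opens)}, ?_, ?_⟩
    · apply le_antisymm
      · refine iSup₂_le ?_
        rintro U ⟨V, hVW, hUV⟩ x hx
        exact hVW (hUV hx)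
      · intro x hx
        have hx' : f.base x ∈ g ⁻¹ᵁ (W : S.Opens) := hx
        obtain ⟨_, ⟨V, hV, rfl⟩, hxV, hVW⟩ :=
          (Y.isBasis_affineOpens).exists_subset_of_mem_open hx' (g ⁻¹ᵁ (W : S.Opens)).2
        obtain ⟨_, ⟨U, hU, rfl⟩, hxU, hUV⟩ :=
          (X.isBasis_affineOpens).exists_subset_of_mem_open
            (show x ∈ (f ⁻¹ᵁ V : Set X) from hxV) (f ⁻¹ᵁ V).2
        simp only [TopologicalSpace.Opens.mem_iSup]
        exact ⟨⟨U, hU⟩, ⟨⟨V, hV⟩, hVW, hUV⟩, hxU⟩
    · rintro U ⟨V, hVW, hUV⟩ hUW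
      have h1 := hall V W hVW
      unfold Flatn.RelFPOn at h1 ⊢
      letI algRA : Algebra Γ(S, (W : S.Opens)) Γ(Y, (V : Y.Opens)) :=
        (g.appLE (W : S.Opens) (V : Y.Opens) hVW).hom.toAlgebra
      letI algAB : Algebra Γ(Y, (V : Y.Opens)) Γ(X, (U : X.Opens)) :=
        (f.appLE (V : Y.Opens) (U : X.Opens) hUV).hom.toAlgebra
      letI algRB : Algebra Γ(S, (W : S.Opens)) Γ(X, (U : X.Opens)) :=
        ((f ≫ g).appLE (W : S.Opens) (U : X.Opens) hUW).hom.toAlgebra
      haveI : IsScalarTower Γ(S, (W : S.Opens)) Γ(Y, (V : Y.Opens)) Γ(X, (U : X.Opens)) := by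
        refine IsScalarTower.of_algebraMap_eq' ?_
        show ((f ≫ g).appLE (W : S.Opens) (U : X.Opens) hUW).hom =
          (f.appLE (V : Y.Opens) (U : X.Opens) hUV).hom.comp
            (g.appLE (W : S.Opens) (V : Y.Opens) hVW).hom
        rw [← CommRingCat.hom_comp, Scheme.Hom.appLE_comp_appLE]
      have hfp : (f.appLE (V : Y.Opens) (U : X.Opens) hUV).hom.FinitePresentation :=
        HasRingHomProperty.appLE (P := @LocallyOfFinitePresentation) f inferInstance V U hUV
      haveI : Algebra.FinitePresentation Γ(Y, (V : Y.Opens)) Γ(X, (U : X.Opens)) := hfp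
      have h2 := Groth.Agent.Helper9.FlatnRel5.relFP_extend (R := Γ(S, (W : S.Opens)))
        (A := Γ(Y, (V : Y.Opens))) (B := Γ(X, (U : X.Opens))) Γ(G, (V : Y.Opens)) h1
      exact Groth.Agent.Helper9.FlatnRel5.relFP_of_linearEquiv
        (sectionsPullbackEquiv f V.2 U.2 hUV G).symm h2

end Main

end Groth.Agent.Helper9.FlatnRel6
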