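import Mathlib
import Groth.Prelude.Def_Flatn
import Groth.Agent.Helper9.FlatnRel6
import Groth.Agent.Helper9.FBC3
import Groth.Agent.Lead.StalkPull

/-! Modules finitely presented relative to a morphism: arbitrary base change. -/

set_option autoImplicit false
set_option linter.style.haveILetI false
set_option linter.unusedVariables false
set_option linter.unusedSectionVars false
universe u

namespace Groth.Agent.Helper9.FlatnRel7

open CategoryTheory CategoryTheory.Limits AlgebraicGeometry TensorProduct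
open Groth.Agent.Helper9.FBC3

section Iso

variable {X S : Scheme.{u}}

/-- relative finite presentation is invariant under isomorphisms of modules -/
theorem isRelFP_of_iso (f : X ⟶ S) {F F' : X.Modules} (φ : F ≅ F') (h : Flatn.IsRelFP f F) :
    Flatn.IsRelFP f F' := by
  obtain ⟨𝒱, h𝒱, H⟩ := h
  refine ⟨𝒱, h𝒱, fun V hV => ?_⟩
  obtain ⟨𝒰, h𝒰, HU⟩ := H V hV
  refine ⟨𝒰, h𝒰, fun U hU hle => ?_⟩
  have h1 := HU U hU hle
  unfold Flatn.RelFPOn at h1 ⊢
  letI := (f.appLE (V : S.Opens) (U : X.Opens) hle).hom.toAlgebra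
  let e : F.val.obj (Opposite.op (U : X.Opens)) ≅ F'.val.obj (Opposite.op (U : X.Opens)) :=
    ((SheafOfModules.forget _ ⋙ PresheafOfModules.evaluation _
      (Opposite.op (U : X.Opens))).mapIso φ)
  exact Groth.Agent.Helper9.FlatnRel5.relFP_of_linearEquiv e.toLinearEquiv h1

end Iso

section Std

variable {X S S' : Scheme.{u}}

/-- base change, for the chosen fibre product -/
theorem isRelFP_baseChange_std (f : X ⟶ S) [LocallyOfFiniteType f] (F : X.Modules)
    (hq : Coh.IsQCoh F) (g : S' ⟶ S) (hF : Flatn.IsRelFP f F) :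
    Flatn.IsRelFP (pullback.snd f g) ((Scheme.Modules.pullback (pullback.fst f g)).obj F) := by
  haveI : F.IsQuasicoherent := hq
  have hall := (Groth.Agent.Helper9.FlatnRel3.isRelFP_iff_forall f F hq).1 hF
  refine ⟨{V' | ∃ V : S.affineOpens, (V' : S'.Opens) ≤ g ⁻¹ᵁ (V : S.Opens)}, ?_, ?_⟩
  · rw [eq_top_iff]
    intro z _
    obtain ⟨_, ⟨V, hV, rfl⟩, hzV, -⟩ :=
      (S.isBasis_affineOpens).exists_subset_of_mem_open (Set.mem_univ (g.base z)) isOpen_univ
    obtain ⟨_, ⟨V', hV', rfl⟩, hzV', hV'V⟩ :=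
      (S'.isBasis_affineOpens).exists_subset_of_mem_open
        (show z ∈ (g ⁻¹ᵁ V : Set S') from hzV) (g ⁻¹ᵁ V).2
    simp only [TopologicalSpace.Opens.mem_iSup]
    exact ⟨⟨V', hV'⟩, ⟨⟨V, hV⟩, hV'V⟩, hzV'⟩
  · rintro V' ⟨V, hV'V⟩
    refine ⟨{U' | ∃ U : X.affineOpens, (U : X.Opens) ≤ f ⁻¹ᵁ (V : S.Opens) ∧
        (U' : (pullback f g).Opens) = prodOpen f g (U : X.Opens) (V' : S'.Opens)}, ?_, ?_⟩
    · apply le_antisymm
      · refine iSup₂_le ?_
        rintro U' ⟨U, hUV, hU'⟩
        rw [hU']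
        exact prodOpen_le_snd f g
      · intro x hx
        have hx1 : (pullback.snd f g).base x ∈ (V' : S'.Opens) := hx
        have hx2 : f.base ((pullback.fst f g).base x) ∈ (V : S.Opens) := by
          have hcomm : f.base ((pullback.fst f g).base x) = g.base ((pullback.snd f g).base x) := by
            rw [← Scheme.Hom.comp_apply, ← Scheme.Hom.comp_apply, pullback.condition]
          rw [hcomm]
          exact hV'V hx1
        obtain ⟨_, ⟨U, hU, rfl⟩, hxU, hUV⟩ :=
          (X.isBasis_affineOpens).exists_subset_of_mem_open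
            (show (pullback.fst f g).base x ∈ (f ⁻¹ᵁ (V : S.Opens) : Set X) from hx2)
            (f ⁻¹ᵁ (V : S.Opens)).2
        simp only [TopologicalSpace.Opens.mem_iSup]
        exact ⟨⟨prodOpen f g U (V' : S'.Opens),
          isAffineOpen_prodOpen f g hU V.2 V'.2 hUV hV'V⟩, ⟨⟨U, hU⟩, hUV, rfl⟩, ⟨hxU, hx1⟩⟩
    · rintro ⟨U'o, hU'⟩ ⟨U, hUV, (rfl : U'o = _)⟩ hle
      have h1 := hall U V hUV
      unfold Flatn.RelFPOn at h1 ⊢
      have hpo := isPushout_sections f g U.2 V.2 V'.2 hUV hV'V hU'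
      have h2 := Groth.Agent.Helper9.FlatnRel5.relFP_baseChange
        (g.appLE (V : S.Opens) (V' : S'.Opens) hV'V).hom
        (f.appLE (V : S.Opens) (U : X.Opens) hUV).hom
        ((pullback.snd f g).appLE (V' : S'.Opens) (prodOpen f g (U : X.Opens) (V' : S'.Opens))
          (prodOpen_le_snd f g)).hom
        ((pullback.fst f g).appLE (U : X.Opens) (prodOpen f g (U : X.Opens) (V' : S'.Opens))
          (prodOpen_le_fst f g)).hom
        hpo (ModuleCat.of Γ(X, (U : X.Opens)) Γ(F, (U : X.Opens))) h1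
      letI algCC' : Algebra Γ(X, (U : X.Opens))
          Γ(pullback f g, prodOpen f g (U : X.Opens) (V' : S'.Opens)) :=
        ((pullback.fst f g).appLE (U : X.Opens)
          (prodOpen f g (U : X.Opens) (V' : S'.Opens)) (prodOpen_le_fst f g)).hom.toAlgebra
      letI algA'C' : Algebra Γ(S', (V' : S'.Opens))
          Γ(pullback f g, prodOpen f g (U : X.Opens) (V' : S'.Opens)) :=
        ((pullback.snd f g).appLE (V' : S'.Opens)
          (prodOpen f g (U : X.Opens) (V' : S'.Opens)) (prodOpen_le_snd f g)).hom.toAlgebra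
      exact Groth.Agent.Helper9.FlatnRel5.relFP_of_linearEquiv
        ((Groth.Agent.Helper1.FlatCx.extendScalarsEquiv
          (S := Γ(pullback f g, prodOpen f g (U : X.Opens) (V' : S'.Opens)))
          (ModuleCat.of Γ(X, (U : X.Opens)) Γ(F, (U : X.Opens)))) ≪≫ₗ
          (Groth.Agent.Helper9.FlatnRel6.sectionsPullbackEquiv (pullback.fst f g) U.2 hU'
            (prodOpen_le_fst f g) F).symm) h2

end Std

section General

variable {X S X' S' : Scheme.{u}}

/-- **S9744**: relative finite presentation is preserved by arbitrary base change -/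
theorem isRelFP_baseChange (f : X ⟶ S) [LocallyOfFiniteType f] (F : X.Modules)
    (hq : Coh.IsQCoh F) (g : S' ⟶ S) (f' : X' ⟶ S') (g' : X' ⟶ X) (hc : IsPullback g' f' f g)
    (hF : Flatn.IsRelFP f F) : Flatn.IsRelFP f' ((Scheme.Modules.pullback g').obj F) := by
  haveI : F.IsQuasicoherent := hq
  have h1 := isRelFP_baseChange_std f F hq g hF
  have hq' : ((Scheme.Modules.pullback (pullback.fst f g)).obj F).IsQuasicoherent :=
    Groth.Agent.Lead.StalkPull.isQuasicoherent_pullbackObj _ F
  have h2 := Groth.Agent.Helper9.FlatnRel6.isRelFP_pullback_lfp hc.isoPullback.hom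
    (pullback.snd f g) ((Scheme.Modules.pullback (pullback.fst f g)).obj F) hq' h1
  have e1 : hc.isoPullback.hom ≫ pullback.snd f g = f' := hc.isoPullback_hom_snd
  have e2 : hc.isoPullback.hom ≫ pullback.fst f g = g' := hc.isoPullback_hom_fst
  rw [e1] at h2
  refine isRelFP_of_iso f' ?_ h2
  exact (Scheme.Modules.pullbackComp hc.isoPullback.hom (pullback.fst f g)).app F ≪≫
    (Scheme.Modules.pullbackCongr e2).app F

end General

end Groth.Agent.Helper9.FlatnRel7
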