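import Mathlib

/-! Free abelian sheaves on representable presheaves: `Z W = ℤ[h_W]^a`, with
`Hom(Z W, G) ≃ G(W)`. -/

set_option autoImplicit false
set_option linter.style.haveILetI false
set_option linter.unusedSectionVars false
universe u

namespace Groth.Agent.Helper9.FreeSh

open CategoryTheory CategoryTheory.Limits Opposite

theorem free_hom_ext {α : Type (u + 1)} {M : AddCommGrpCat.{u + 1}}
    (f g : AddCommGrpCat.of (FreeAbelianGroup α) ⟶ M)
    (h : ∀ a : α, f.hom (FreeAbelianGroup.of a) = g.hom (FreeAbelianGroup.of a)) : f = g :=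
  AddCommGrpCat.hom_ext (FreeAbelianGroup.lift_ext _ _ h)

variable {C : Type (u + 1)} [Category.{u} C]

/-- sections of the free abelian presheaf on the representable presheaf of `W` -/
abbrev FObj (W T : C) : AddCommGrpCat.{u + 1} :=
  AddCommGrpCat.of (FreeAbelianGroup (ULift.{u + 1} (T ⟶ W)))

/-- the generator attached to a morphism `T ⟶ W` -/
noncomputable def gen₀ {W T : C} (x : T ⟶ W) : FObj W T :=
  FreeAbelianGroup.of (⟨x⟩ : ULift.{u + 1} (T ⟶ W))

theorem FObj_hom_ext {W T : C} {M : AddCommGrpCat.{u + 1}}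
    (f g : FObj W T ⟶ M) (h : ∀ x : T ⟶ W, f (gen₀ x) = g (gen₀ x)) :
    f = g :=
  free_hom_ext f g (fun a => h a.down)

/-- the map on free groups induced by a map of hom sets -/
noncomputable def FMap {W T W' T' : C} (φ : (T ⟶ W) → (T' ⟶ W')) : FObj W T ⟶ FObj W' T' :=
  AddCommGrpCat.ofHom (FreeAbelianGroup.map (fun x : ULift.{u + 1} (T ⟶ W) =>
    (⟨φ x.down⟩ : ULift.{u + 1} (T' ⟶ W'))))

lemma FMap_gen {W T W' T' : C} (φ : (T ⟶ W) → (T' ⟶ W')) (x : T ⟶ W) :
    FMap φ (gen₀ x) = gen₀ (φ x) :=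
  FreeAbelianGroup.map_of_apply _

lemma FMap_comp {W T W' T' W'' T'' : C} (φ : (T ⟶ W) → (T' ⟶ W')) (ψ : (T' ⟶ W') → (T'' ⟶ W'')) :
    FMap φ ≫ FMap ψ = FMap (ψ ∘ φ) := by
  apply FObj_hom_ext
  intro x
  rw [ConcreteCategory.comp_apply, FMap_gen, FMap_gen, FMap_gen]
  rfl

lemma FMap_id {W T : C} : FMap (fun x : T ⟶ W => x) = 𝟙 (FObj W T) := by
  apply FObj_hom_ext
  intro x
  rw [FMap_gen]
  rfl

/-- the free abelian presheaf on the representable presheaf of `W` -/
noncomputable def YpreObj (W : C) : Cᵒᵖ ⥤ AddCommGrpCat.{u + 1} where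
  obj T := FObj W T.unop
  map {T T'} g := FMap (fun x => g.unop ≫ x)
  map_id T := by
    rw [← FMap_id]
    congr 1
    funext x
    simp
  map_comp f g := by
    rw [FMap_comp]
    congr 1
    funext x
    simp

/-- the generator attached to a morphism `T ⟶ W` -/
noncomputable def gen {W T : C} (x : T ⟶ W) : (YpreObj W).obj (op T) := gen₀ x

theorem YpreObj_hom_ext {W T : C} {M : AddCommGrpCat.{u + 1}}
    (f g : (YpreObj W).obj (op T) ⟶ M) (h : ∀ x : T ⟶ W, f (gen x) = g (gen x)) :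
    f = g :=
  FObj_hom_ext f g h

lemma YpreObj_map_gen {W T T' : C} (g : T' ⟶ T) (x : T ⟶ W) :
    (YpreObj W).map g.op (gen x) = gen (g ≫ x) :=
  FMap_gen _ x

/-- the components of the functoriality in `W` -/
noncomputable def YpreMapApp {W W' : C} (f : W ⟶ W') (T : Cᵒᵖ) :
    (YpreObj W).obj T ⟶ (YpreObj W').obj T :=
  FMap (fun x => x ≫ f)

lemma YpreMapApp_id (W : C) (T : Cᵒᵖ) : YpreMapApp (𝟙 W) T = 𝟙 ((YpreObj W).obj T) := by
  unfold YpreMapApp
  refine Eq.trans ?_ (FMap_id (W := W) (T := T.unop))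
  congr 1
  funext x
  simp

lemma YpreMapApp_comp {W W' W'' : C} (f : W ⟶ W') (g : W' ⟶ W'') (T : Cᵒᵖ) :
    YpreMapApp (f ≫ g) T = YpreMapApp f T ≫ YpreMapApp g T := by
  unfold YpreMapApp
  refine Eq.trans ?_ (FMap_comp _ _).symm
  congr 1
  funext x
  simp

lemma YpreMapApp_naturality {W W' : C} (f : W ⟶ W') {T T' : Cᵒᵖ} (g : T ⟶ T') :
    (YpreObj W).map g ≫ YpreMapApp f T' = YpreMapApp f T ≫ (YpreObj W').map g := by
  unfold YpreMapApp YpreObj
  refine (FMap_comp _ _).trans (Eq.trans ?_ (FMap_comp _ _).symm)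
  congr 1
  funext x
  simp

/-- functoriality in `W`, as a natural transformation -/
noncomputable def YpreMap {W W' : C} (f : W ⟶ W') : YpreObj W ⟶ YpreObj W' where
  app := YpreMapApp f
  naturality _ _ g := YpreMapApp_naturality f g

/-- functoriality in `W` -/
noncomputable def Ypre : C ⥤ (Cᵒᵖ ⥤ AddCommGrpCat.{u + 1}) where
  obj W := YpreObj W
  map f := YpreMap f
  map_id W := NatTrans.ext (funext (fun T => YpreMapApp_id W T))
  map_comp f g := NatTrans.ext (funext (fun T => YpreMapApp_comp f g T))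

lemma YpreMapApp_gen {W W' T : C} (f : W ⟶ W') (x : T ⟶ W) :
    YpreMapApp f (op T) (gen x) = gen (x ≫ f) := by
  unfold YpreMapApp gen
  exact FMap_gen _ x

/-- the generator attached to a morphism `T ⟶ W`, as a section of `Ypre.obj W` -/
noncomputable def g {W T : C} (x : T ⟶ W) : (Ypre.obj W).obj (op T) := gen x

theorem Ypre_hom_ext {W T : C} {M : AddCommGrpCat.{u + 1}}
    (f f' : (Ypre.obj W).obj (op T) ⟶ M) (h : ∀ x : T ⟶ W, f (g x) = f' (g x)) :
    f = f' :=
  YpreObj_hom_ext f f' h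

lemma Ypre_obj_map_g {W T T' : C} (a : T' ⟶ T) (x : T ⟶ W) :
    (Ypre.obj W).map a.op (g x) = g (a ≫ x) :=
  YpreObj_map_gen a x

lemma Ypre_map_g {W W' T : C} (f : W ⟶ W') (x : T ⟶ W) :
    (Ypre.map f).app (op T) (g x) = g (x ≫ f) :=
  YpreMapApp_gen f x

lemma g_eq_map {W T : C} (x : T ⟶ W) : g x = (Ypre.obj W).map x.op (g (𝟙 W)) := by
  rw [Ypre_obj_map_g, Category.comp_id]

/-- the map between sections of free presheaves induced by a map of hom sets -/
noncomputable def gMap {W T W' T' : C} (φ : (T ⟶ W) → (T' ⟶ W')) :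
    (Ypre.obj W).obj (op T) ⟶ (Ypre.obj W').obj (op T') :=
  FMap φ

lemma gMap_g {W T W' T' : C} (φ : (T ⟶ W) → (T' ⟶ W')) (x : T ⟶ W) :
    gMap φ (g x) = g (φ x) :=
  FMap_gen φ x

/-- the additive map out of the sections of a free presheaf induced by a map on generators -/
noncomputable def gLift {W T : C} {M : AddCommGrpCat.{u + 1}} (φ : (T ⟶ W) → M) :
    (Ypre.obj W).obj (op T) ⟶ M :=
  AddCommGrpCat.ofHom (FreeAbelianGroup.lift (fun x : ULift.{u + 1} (T ⟶ W) => φ x.down))

lemma gLift_g {W T : C} {M : AddCommGrpCat.{u + 1}} (φ : (T ⟶ W) → M) (x : T ⟶ W) :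
    gLift φ (g x) = φ x := by
  unfold gLift g gen gen₀
  exact FreeAbelianGroup.lift_apply_of _ _

section Pre

variable {W : C} (P : Cᵒᵖ ⥤ AddCommGrpCat.{u + 1})

/-- a morphism out of the free presheaf is determined by the image of the universal element -/
theorem preHom_ext (φ ψ : Ypre.obj W ⟶ P)
    (h : φ.app (op W) (g (𝟙 W)) = ψ.app (op W) (g (𝟙 W))) : φ = ψ := by
  ext T : 2
  obtain ⟨T⟩ := T
  apply Ypre_hom_ext
  intro x
  rw [g_eq_map, NatTrans.naturality_apply, NatTrans.naturality_apply, h]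

/-- the components of the morphism attached to a section -/
noncomputable def ofSectionApp (s : P.obj (op W)) (T : Cᵒᵖ) : (Ypre.obj W).obj T ⟶ P.obj T :=
  AddCommGrpCat.ofHom (FreeAbelianGroup.lift
    (fun x : ULift.{u + 1} (T.unop ⟶ W) => P.map x.down.op s))

lemma ofSectionApp_g (s : P.obj (op W)) {T : C} (x : T ⟶ W) :
    ofSectionApp P s (op T) (g x) = P.map x.op s := by
  unfold ofSectionApp g gen gen₀
  exact FreeAbelianGroup.lift_apply_of _ _

/-- the morphism of presheaves attached to a section -/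
noncomputable def ofSection (s : P.obj (op W)) : Ypre.obj W ⟶ P where
  app := ofSectionApp P s
  naturality := by
    rintro ⟨T⟩ ⟨T'⟩ a
    apply Ypre_hom_ext
    intro x
    rw [ConcreteCategory.comp_apply, ConcreteCategory.comp_apply, ofSectionApp_g]
    have ha : a = a.unop.op := rfl
    rw [ha, Ypre_obj_map_g, ofSectionApp_g, op_comp, Functor.map_comp,
      ConcreteCategory.comp_apply]

lemma ofSection_app_g (s : P.obj (op W)) :
    (ofSection P s).app (op W) (g (𝟙 W)) = s := by
  show ofSectionApp P s (op W) (g (𝟙 W)) = s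
  rw [ofSectionApp_g, op_id, CategoryTheory.Functor.map_id]
  rfl

end Pre

section Sheaf

variable (J : GrothendieckTopology C) [HasSheafify J AddCommGrpCat.{u + 1}]

/-- the free abelian sheaf on the representable sheaf of `W` -/
noncomputable def Z : C ⥤ Sheaf J AddCommGrpCat.{u + 1} := Ypre ⋙ presheafToSheaf J _

variable {J}

/-- the universal section of `Z W` over `W` -/
noncomputable def η (W : C) : ((Z J).obj W).obj.obj (op W) :=
  (toSheafify J (Ypre.obj W)).app (op W) (g (𝟙 W))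

/-- evaluation of a morphism out of `Z W` on the universal section -/
noncomputable def ev {W : C} {G : Sheaf J AddCommGrpCat.{u + 1}} (φ : (Z J).obj W ⟶ G) :
    G.obj.obj (op W) :=
  φ.hom.app (op W) (η W)

theorem ev_injective {W : C} (G : Sheaf J AddCommGrpCat.{u + 1}) :
    Function.Injective (ev (W := W) (G := G)) := by
  intro φ ψ h
  apply Sheaf.hom_ext
  apply sheafify_hom_ext J _ _ G.property
  apply preHom_ext
  exact h

theorem ev_surjective {W : C} (G : Sheaf J AddCommGrpCat.{u + 1}) :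
    Function.Surjective (ev (W := W) (G := G)) := by
  intro s
  refine ⟨⟨sheafifyLift J (ofSection G.obj s) G.property⟩, ?_⟩
  show (sheafifyLift J (ofSection G.obj s) G.property).app (op W)
    ((toSheafify J (Ypre.obj W)).app (op W) (g (𝟙 W))) = s
  rw [← ConcreteCategory.comp_apply, ← NatTrans.comp_app, toSheafify_sheafifyLift]
  exact ofSection_app_g G.obj s

lemma ev_comp {W : C} {G G' : Sheaf J AddCommGrpCat.{u + 1}} (φ : (Z J).obj W ⟶ G)
    (ψ : G ⟶ G') : ev (φ ≫ ψ) = ψ.hom.app (op W) (ev φ) := rfl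

lemma Z_map_η {W' W : C} (f : W' ⟶ W) :
    ((Z J).map f).hom.app (op W') (η W') = ((Z J).obj W).obj.map f.op (η W) := by
  show (sheafifyMap J (Ypre.map f)).app (op W')
    ((toSheafify J (Ypre.obj W')).app (op W') (g (𝟙 W'))) =
    (sheafify J (Ypre.obj W)).map f.op ((toSheafify J (Ypre.obj W)).app (op W) (g (𝟙 W)))
  rw [← ConcreteCategory.comp_apply, ← NatTrans.comp_app]
  have h1 := toSheafify_naturality J (Ypre.map f)
  rw [← h1, NatTrans.comp_app, ConcreteCategory.comp_apply, Ypre_map_g, Category.id_comp,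
    ← NatTrans.naturality_apply, Ypre_obj_map_g, Category.comp_id]

lemma ev_map {W' W : C} {G : Sheaf J AddCommGrpCat.{u + 1}} (f : W' ⟶ W)
    (φ : (Z J).obj W ⟶ G) : ev ((Z J).map f ≫ φ) = G.obj.map f.op (ev φ) := by
  show φ.hom.app (op W') (((Z J).map f).hom.app (op W') (η W')) = _
  rw [Z_map_η, NatTrans.naturality_apply]
  rfl

end Sheaf

end Groth.Agent.Helper9.FreeSh
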