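import Mathlib
import Groth.Prelude.Def_ModSite
import Groth.Agent.Helper9.FreeTensor
import Groth.Agent.Helper9.FreeOnIso
import Groth.Agent.Helper9.TensorAdj
import Groth.Agent.Helper9.TensorFlat

/-!
# `A_X ⊗ M ≅ j_! j^* M` and sections of the internal Hom
-/

namespace Groth.Agent.Helper9.FreeTensorSh

open CategoryTheory MonoidalCategory Opposite Limits
  Groth.Agent.Helper9.TensorSh Groth.Agent.Helper9.TensorAdj Groth.Agent.Helper9.FreeTensor
  Groth.Agent.Helper9.FreeOnIso Groth.Agent.Helper9.FreeOnHom Groth.Agent.Helper9.TensorFlat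

universe u

variable {C : Type u} [SmallCategory C] {J : GrothendieckTopology C} (O : Sheaf J CommRingCat.{u})
  (X : C) (M : ModSite.Mod O)

/-- `A_X ⊗ M ≅ a(free(h_X) ⊗ ιM)` -/
noncomputable def iso₁ :
    (TN M).obj (ModSite.freeOn O X) ≅ (a O).obj (fr O.obj X ⊗ (ι O).obj M) :=
  (TN M).mapIso (freeOnIso O X) ≪≫ ((isoG M).app (fr O.obj X)).symm

/-- morphisms of restricted sheaves are morphisms of restricted presheaves -/
noncomputable def valEquiv (N : ModSite.Mod O) :
    ((pf O.obj X).obj ((ι O).obj M) ⟶ (pf O.obj X).obj ((ι O).obj N)) ≃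
      ((ModSite.restr O X).obj M ⟶ (ModSite.restr O X).obj N) where
  toFun f := ⟨f⟩
  invFun g := g.val
  left_inv _ := rfl
  right_inv _ := rfl


/-- `Hom(a(free(h_X) ⊗ ιM), N) ≃ Hom(free(h_X) ⊗ ιM, ιN)` -/
noncomputable def adjEquiv (N : ModSite.Mod O) :
    ((a O).obj (fr O.obj X ⊗ (ι O).obj M) ⟶ N) ≃ (fr O.obj X ⊗ (ι O).obj M ⟶ (ι O).obj N) :=
  (adj O).homEquiv (fr O.obj X ⊗ (ι O).obj M) N

lemma adjEquiv_comp {N N' : ModSite.Mod O} (h : (a O).obj (fr O.obj X ⊗ (ι O).obj M) ⟶ N)
    (β : N ⟶ N') : adjEquiv O X M N' (h ≫ β) = adjEquiv O X M N h ≫ (ι O).map β :=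
  (adj O).homEquiv_naturality_right h β

/-- `Hom(A_X ⊗ M, N) ≃ Hom(M|_X, N|_X)` -/
noncomputable def E (N : ModSite.Mod O) :
    ((TN M).obj (ModSite.freeOn O X) ⟶ N) ≃
      ((ModSite.restr O X).obj M ⟶ (ModSite.restr O X).obj N) :=
  ((iso₁ O X M).homFromEquiv.trans (adjEquiv O X M N)).trans
    ((equiv ((ι O).obj M) ((ι O).obj N)).trans (valEquiv O X M N))

lemma E_comp {N N' : ModSite.Mod O} (h : (TN M).obj (ModSite.freeOn O X) ⟶ N) (β : N ⟶ N') :
    E O X M N' (h ≫ β) = E O X M N h ≫ (ModSite.restr O X).map β := by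
  unfold E
  simp only [Equiv.trans_apply]
  have h1 : (iso₁ O X M).homFromEquiv (h ≫ β) = (iso₁ O X M).homFromEquiv h ≫ β := by
    simp [Iso.homFromEquiv]
  rw [h1, adjEquiv_comp]
  rfl


/-- `A_X ⊗ M ≅ j_! j^* M` -/
theorem nonempty_iso : Nonempty (((ModSite.tensorBi O).obj (ModSite.freeOn O X)).obj M ≅
    (ModSite.extZero O X).obj ((ModSite.restr O X).obj M)) :=
  ⟨isoOfNatEquiv (P := (TN M).obj (ModSite.freeOn O X))
    (fun N => (E O X M N).trans ((ModSite.extZeroAdj O X).homEquiv _ N).symm) (by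
      intro N N' h β
      simp only [Equiv.trans_apply]
      rw [E_comp, Adjunction.homEquiv_naturality_right_symm])⟩

section Additive

instance additive_a' : (a O).Additive := by
  haveI : PreservesFiniteLimits (a O) := inferInstanceAs (PreservesFiniteLimits
    (PresheafOfModules.sheafification.{u} (𝟙 (ModSite.ringSh O).obj)))
  exact Functor.additive_of_preserves_binary_products _

instance additive_restr : (ModSite.restr O X).Additive where

lemma homEquiv_add (F : ModSite.Mod O) (h h' : ModSite.freeOn O X ⟶ F) :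
    homEquiv O X F (h + h') = homEquiv O X F h + homEquiv O X F h' := by
  haveI : (ModSite.extZero O X).Additive :=
    (ModSite.extZeroAdj O X).left_adjoint_additive
  unfold homEquiv
  simp only [Equiv.trans_apply]
  have h1 : (ModSite.extZeroAdj O X).homEquiv _ F (h + h') =
      (ModSite.extZeroAdj O X).homEquiv _ F h + (ModSite.extZeroAdj O X).homEquiv _ F h' :=
    map_add ((ModSite.extZeroAdj O X).homAddEquiv _ F) h h'
  rw [h1]
  rfl

lemma E_add (N : ModSite.Mod O) (h h' : (TN M).obj (ModSite.freeOn O X) ⟶ N) :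
    E O X M N (h + h') = E O X M N h + E O X M N h' := by
  unfold E
  simp only [Equiv.trans_apply]
  have h1 : (iso₁ O X M).homFromEquiv (h + h') =
      (iso₁ O X M).homFromEquiv h + (iso₁ O X M).homFromEquiv h' := by
    simp [Iso.homFromEquiv]
  have h2 : ∀ g g' : (a O).obj (fr O.obj X ⊗ (ι O).obj M) ⟶ N,
      adjEquiv O X M N (g + g') = adjEquiv O X M N g + adjEquiv O X M N g' := fun g g' =>
    map_add ((adj O).homAddEquiv _ N) g g'
  rw [h1, h2]
  rfl

end Additive

/-- sections of the internal Hom over `X` are morphisms of the restrictions to `X` -/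
theorem nonempty_sect_addEquiv [ModSite.HasSheafHom M] (N : ModSite.Mod O) :
    Nonempty (ModSite.sect ((ModSite.sheafHom M).obj N) X ≃+
      ((ModSite.restr O X).obj M ⟶ (ModSite.restr O X).obj N)) := by
  haveI : (ModSite.sheafHom M).Additive := (ModSite.sheafHomAdj M).right_adjoint_additive
  let e : ModSite.sect ((ModSite.sheafHom M).obj N) X ≃
      ((ModSite.restr O X).obj M ⟶ (ModSite.restr O X).obj N) :=
    (homEquiv O X ((ModSite.sheafHom M).obj N)).symm.trans
      (((ModSite.sheafHomAdj M).homEquiv (ModSite.freeOn O X) N).symm.trans (E O X M N))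
  refine ⟨{ e with map_add' := ?_ }⟩
  intro s s'
  obtain ⟨h, rfl⟩ := (homEquiv O X ((ModSite.sheafHom M).obj N)).surjective s
  obtain ⟨h', rfl⟩ := (homEquiv O X ((ModSite.sheafHom M).obj N)).surjective s'
  show e (_ + _) = e _ + e _
  rw [← homEquiv_add]
  simp only [e, Equiv.trans_apply, Equiv.symm_apply_apply]
  have h3 : ((ModSite.sheafHomAdj M).homEquiv (ModSite.freeOn O X) N).symm (h + h') =
      ((ModSite.sheafHomAdj M).homEquiv (ModSite.freeOn O X) N).symm h +
        ((ModSite.sheafHomAdj M).homEquiv (ModSite.freeOn O X) N).symm h' :=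
    map_add ((ModSite.sheafHomAdj M).homAddEquiv (ModSite.freeOn O X) N).symm h h'
  rw [h3, E_add]

end Groth.Agent.Helper9.FreeTensorSh
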