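import Mathlib

namespace Groth.Agent.Helper9.MultDet

open Polynomial

variable {F : Type*} [Field F]

/-- restriction of a multivariate polynomial to a line is a one-variable polynomial -/
theorem exists_poly_line {σ : Type*} (N : MvPolynomial σ F) (a b : σ → F) :
    ∃ G : Polynomial F, ∀ c : F, G.eval c = MvPolynomial.eval (fun s => a s + b s * c) N := by
  refine ⟨MvPolynomial.aeval (fun s => C (a s) + C (b s) * X) N, fun c => ?_⟩
  induction N using MvPolynomial.induction_on with
  | C r => simp
  | add p q hp hq => simp [hp, hq]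
  | mul_X p s hp => simp [hp]

/-- a polynomial without roots over an algebraically closed field is constant -/
theorem eq_C_of_forall_eval_ne_zero [IsAlgClosed F] (G : Polynomial F)
    (h : ∀ c, G.eval c ≠ 0) : ∃ a, G = C a := by
  by_cases hd : G.degree = 0
  · exact ⟨G.coeff 0, Polynomial.eq_C_of_degree_eq_zero hd⟩
  · obtain ⟨x, hx⟩ := IsAlgClosed.exists_root G hd
    exact absurd hx (h x)

/-- a polynomial function which is nonzero away from `0` and `1` at `1` is a power -/
theorem eval_eq_pow_of_forall_eval_ne_zero [IsAlgClosed F] (H : Polynomial F)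
    (h : ∀ t, t ≠ 0 → H.eval t ≠ 0) (h1 : H.eval 1 = 1) : ∃ k : ℕ, ∀ t, H.eval t = t ^ k := by
  have hH : H ≠ 0 := by
    rintro rfl
    simp at h1
  set k := H.rootMultiplicity 0 with hk
  set Q := H /ₘ (X - C (0:F)) ^ k with hQ
  have hfac : (X - C (0:F)) ^ k * Q = H := Polynomial.pow_mul_divByMonic_rootMultiplicity_eq H 0
  have hQ0 : Q.eval 0 ≠ 0 := Polynomial.eval_divByMonic_pow_rootMultiplicity_ne_zero 0 hH
  have hQne : ∀ c, Q.eval c ≠ 0 := by
    intro c hc
    by_cases hc0 : c = 0
    · subst hc0; exact hQ0 hc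
    · apply h c hc0
      rw [← hfac, eval_mul, hc, mul_zero]
  obtain ⟨a, ha⟩ := eq_C_of_forall_eval_ne_zero Q hQne
  have hev : ∀ t, H.eval t = t ^ k * a := by
    intro t
    rw [← hfac, ha]
    simp only [eval_mul, eval_pow, eval_sub, eval_X, eval_C, sub_zero]
  have ha1 : a = 1 := by
    have := hev 1
    rw [h1, one_pow, one_mul] at this
    exact this.symm
  exact ⟨k, fun t => by rw [hev t, ha1, mul_one]⟩

end Groth.Agent.Helper9.MultDet
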