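import Mathlib
import Groth.Agent.Helper9.MultDet

namespace Groth.Agent.Helper9.FrobRoots

open Polynomial

variable {K : Type*} [Field K] [IsAlgClosed K]

/-- a polynomial with two nonzero coefficients has a nonzero root -/
theorem exists_root_ne_zero (P : K[X]) (i j : ℕ) (hij : i ≠ j) (hi : P.coeff i ≠ 0)
    (hj : P.coeff j ≠ 0) : ∃ z : K, z ≠ 0 ∧ P.eval z = 0 := by
  by_contra hcon
  push Not at hcon
  have hP : P ≠ 0 := by
    rintro rfl
    simp at hi
  set m := P.rootMultiplicity 0 with hm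
  set Q := P /ₘ (X - C (0:K)) ^ m with hQ
  have hfac : (X - C (0:K)) ^ m * Q = P := Polynomial.pow_mul_divByMonic_rootMultiplicity_eq P 0
  have hQ0 : Q.eval 0 ≠ 0 := Polynomial.eval_divByMonic_pow_rootMultiplicity_ne_zero 0 hP
  have hQne : ∀ c, Q.eval c ≠ 0 := by
    intro c hc
    by_cases hc0 : c = 0
    · subst hc0; exact hQ0 hc
    · apply hcon c hc0
      rw [← hfac, eval_mul, hc, mul_zero]
  obtain ⟨a, ha⟩ := MultDet.eq_C_of_forall_eval_ne_zero Q hQne
  have hform : P = X ^ m * C a := by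
    rw [← hfac, ha]
    simp
  have hcoeff : ∀ l, P.coeff l = if l = m then a else 0 := by
    intro l
    rw [hform, mul_comm, coeff_C_mul, coeff_X_pow]
    split_ifs <;> simp
  have h1 : i = m := by
    by_contra h
    apply hi
    rw [hcoeff, if_neg h]
  have h2 : j = m := by
    by_contra h
    apply hj
    rw [hcoeff, if_neg h]
  exact hij (h1.trans h2.symm)

section InvFrob

variable (p : ℕ) [Fact p.Prime] [CharP K p]

theorem invFrob_iterate_pow (m : ℕ) (y : K) :
    (⇑((frobeniusEquiv K p).symm.toRingHom))^[m] (y ^ p ^ m) = y := by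
  induction m generalizing y with
  | zero => simp
  | succ m ih =>
    rw [Function.iterate_succ_apply, pow_succ, pow_mul]
    have : ((frobeniusEquiv K p).symm.toRingHom) ((y ^ p ^ m) ^ p) = y ^ p ^ m := by
      show (frobeniusEquiv K p).symm ((y ^ p ^ m) ^ p) = y ^ p ^ m
      rw [← frobenius_def, frobeniusEquiv_symm_apply_frobenius]
    rw [this, ih]

theorem h3_invFrob (c : K) :
    ∃ y : K, ((frobeniusEquiv K p).symm.toRingHom) y - y + c = 0 := by
  have hp : 2 ≤ p := (Fact.out : p.Prime).two_le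
  have hdeg : (X - X ^ p + C c : K[X]).degree ≠ 0 := by
    have h1 : (X - X ^ p + C c : K[X]) = -(X ^ p) + (X + C c) := by ring
    have h2 : (X + C c : K[X]).degree < (-(X ^ p) : K[X]).degree := by
      rw [degree_neg, degree_X_pow]
      calc (X + C c : K[X]).degree ≤ 1 := degree_X_add_C c |>.le
        _ < (p : WithBot ℕ) := by exact_mod_cast hp
    rw [h1, degree_add_eq_left_of_degree_lt h2, degree_neg, degree_X_pow]
    intro h
    have h3 : ((p : ℕ) : WithBot ℕ) = ((0 : ℕ) : WithBot ℕ) := h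
    have h4 : p = 0 := WithBot.coe_injective h3
    omega
  obtain ⟨z, hz⟩ := IsAlgClosed.exists_root _ hdeg
  refine ⟨z ^ p, ?_⟩
  have : ((frobeniusEquiv K p).symm.toRingHom) (z ^ p) = z := by
    show (frobeniusEquiv K p).symm (z ^ p) = z
    rw [← frobenius_def, frobeniusEquiv_symm_apply_frobenius]
  rw [this]
  simpa [IsRoot] using hz

theorem h2_invFrob (n : ℕ) (b : Fin (n + 1) → K) (hb : b ≠ 0) :
    ∃ x : K, x ≠ 0 ∧ x = ∑ i : Fin (n + 1),
      (⇑((frobeniusEquiv K p).symm.toRingHom))^[i.val + 1] x *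
        (⇑((frobeniusEquiv K p).symm.toRingHom))^[i.val] (b (Fin.rev i)) := by
  classical
  set σ := (frobeniusEquiv K p).symm.toRingHom with hσ
  set d : Fin (n + 1) → K := fun j => (⇑σ)^[n - j.val] (b j) with hd
  have hp : 2 ≤ p := (Fact.out : p.Prime).two_le
  obtain ⟨j₀, hj₀⟩ : ∃ j, b j ≠ (0 : Fin (n + 1) → K) j := Function.ne_iff.mp hb
  have hσinj : ∀ m, Function.Injective ((⇑σ)^[m]) := fun m => (RingHom.injective σ).iterate m
  have hσzero : ∀ m, (⇑σ)^[m] (0 : K) = 0 := by
    intro m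
    induction m with
    | zero => rfl
    | succ m ih => rw [Function.iterate_succ_apply', ih, map_zero]
  have hdj₀ : d j₀ ≠ 0 := by
    intro h
    apply hj₀
    apply hσinj (n - j₀.val)
    rw [Pi.zero_apply, hσzero]
    exact h
  set P : K[X] := X ^ p ^ (n + 1) - ∑ j : Fin (n + 1), C (d j) * X ^ p ^ j.val with hP
  have hpow_inj : ∀ a b : ℕ, p ^ a = p ^ b → a = b := fun a b h => Nat.pow_right_injective hp h
  have hc1 : P.coeff (p ^ (n + 1)) = 1 := by
    rw [hP, coeff_sub, coeff_X_pow, if_pos rfl, finsetSum_coeff, Finset.sum_eq_zero, sub_zero]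
    intro j _
    rw [coeff_C_mul, coeff_X_pow, if_neg, mul_zero]
    intro h
    have := hpow_inj _ _ h
    have := j.2
    omega
  have hc2 : P.coeff (p ^ j₀.val) = - d j₀ := by
    rw [hP, coeff_sub, coeff_X_pow, if_neg (by
      intro h
      have := hpow_inj _ _ h
      have := j₀.2
      omega), zero_sub, finsetSum_coeff]
    congr 1
    rw [Finset.sum_eq_single j₀]
    · rw [coeff_C_mul, coeff_X_pow, if_pos rfl, mul_one]
    · intro j _ hj
      rw [coeff_C_mul, coeff_X_pow, if_neg, mul_zero]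
      intro h
      apply hj
      exact (Fin.ext (hpow_inj _ _ h)).symm
    · intro h; exact absurd (Finset.mem_univ _) h
  obtain ⟨z, hz0, hz⟩ := exists_root_ne_zero P (p ^ (n + 1)) (p ^ j₀.val)
    (by
      intro h
      have := hpow_inj _ _ h
      have := j₀.2
      omega)
    (by rw [hc1]; exact one_ne_zero) (by rw [hc2]; exact neg_ne_zero.mpr hdj₀)
  have hz' : z ^ p ^ (n + 1) = ∑ j : Fin (n + 1), d j * z ^ p ^ j.val := by
    rw [hP] at hz
    simp only [eval_sub, eval_pow, eval_X, eval_finsetSum, eval_mul, eval_C] at hz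
    exact sub_eq_zero.mp hz
  refine ⟨z ^ p ^ (n + 1), pow_ne_zero _ hz0, ?_⟩
  have hterm : ∀ i : Fin (n + 1),
      (⇑σ)^[i.val + 1] (z ^ p ^ (n + 1)) * (⇑σ)^[i.val] (b (Fin.rev i))
        = d (Fin.rev i) * z ^ p ^ (Fin.rev i).val := by
    intro i
    have hi := i.2
    have h1 : z ^ p ^ (n + 1) = (z ^ p ^ (n - i.val)) ^ p ^ (i.val + 1) := by
      rw [← pow_mul, ← pow_add]
      congr 2
      omega
    rw [h1, invFrob_iterate_pow]
    have h2 : (Fin.rev i).val = n - i.val := by
      rw [Fin.val_rev]; omega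
    have h3 : d (Fin.rev i) = (⇑σ)^[i.val] (b (Fin.rev i)) := by
      simp only [hd, h2]
      congr 1
      omega
    rw [h3, h2, mul_comm]
  rw [Finset.sum_congr rfl (fun i _ => hterm i), hz']
  exact (Equiv.sum_comp Fin.revPerm (fun j => d j * z ^ p ^ j.val)).symm

end InvFrob

end Groth.Agent.Helper9.FrobRoots
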