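import Mathlib
import Groth.Agent.Helper9.FrobRoots

/-! Solvability conditions for the Frobenius of an algebraically closed field, and transport along
a ring isomorphism (helper9). -/

namespace Groth.Agent.Helper9.FrobSolve

open Polynomial

set_option linter.unusedSectionVars false

section Frob

variable {K : Type*} [Field K] [IsAlgClosed K] (p : ℕ) [Fact p.Prime] [CharP K p]

theorem h3_frob (c : K) : ∃ y : K, (frobenius K p) y - y + c = 0 := by
  have hp : 2 ≤ p := (Fact.out : p.Prime).two_le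
  have hdeg : (X ^ p - X + C c : K[X]).degree ≠ 0 := by
    have h1 : (X ^ p - X + C c : K[X]) = X ^ p + (- X + C c) := by ring
    have h2 : (- X + C c : K[X]).degree < (X ^ p : K[X]).degree := by
      rw [degree_X_pow]
      calc (- X + C c : K[X]).degree ≤ max (-X : K[X]).degree (C c).degree := degree_add_le _ _
        _ ≤ 1 := by
          rw [degree_neg, degree_X]
          exact max_le le_rfl (degree_C_le.trans (by norm_num))
        _ < (p : WithBot ℕ) := by exact_mod_cast hp
    rw [h1, degree_add_eq_left_of_degree_lt h2, degree_X_pow]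
    exact_mod_cast (by omega : p ≠ 0)
  obtain ⟨y, hy⟩ := IsAlgClosed.exists_root _ hdeg
  refine ⟨y, ?_⟩
  simpa [frobenius_def] using hy

theorem h2_frob (n : ℕ) (b : Fin (n + 1) → K) (hb : b ≠ 0) :
    ∃ x : K, x ≠ 0 ∧ x = ∑ i : Fin (n + 1),
      (⇑(frobenius K p))^[i.val + 1] x * (⇑(frobenius K p))^[i.val] (b (Fin.rev i)) := by
  classical
  have hp : 2 ≤ p := (Fact.out : p.Prime).two_le
  obtain ⟨j₀, hj₀⟩ : ∃ j, b j ≠ (0 : Fin (n + 1) → K) j := Function.ne_iff.mp hb
  set c : Fin (n + 1) → K := fun i => (b (Fin.rev i)) ^ p ^ i.val with hc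
  set i₀ : Fin (n + 1) := Fin.rev j₀ with hi₀
  have hci₀ : c i₀ ≠ 0 := by
    rw [hc]
    simp only [hi₀, Fin.rev_rev]
    exact pow_ne_zero _ hj₀
  set P : K[X] := ∑ i : Fin (n + 1), C (c i) * X ^ p ^ (i.val + 1) - X with hP
  have hpow_inj : ∀ a b : ℕ, p ^ a = p ^ b → a = b := fun a b h => Nat.pow_right_injective hp h
  have hpow1 : ∀ a : ℕ, p ^ (a + 1) ≠ 1 := by
    intro a h
    have : p ^ (a + 1) = p ^ 0 := by rw [h, pow_zero]
    have := hpow_inj _ _ this
    omega
  have hc1 : P.coeff 1 = -1 := by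
    rw [hP, coeff_sub, coeff_X_one, finsetSum_coeff, Finset.sum_eq_zero, zero_sub]
    intro j _
    rw [coeff_C_mul, coeff_X_pow, if_neg (hpow1 _).symm, mul_zero]
  have hc2 : P.coeff (p ^ (i₀.val + 1)) = c i₀ := by
    rw [hP, coeff_sub, coeff_X, if_neg (hpow1 _).symm, sub_zero, finsetSum_coeff,
      Finset.sum_eq_single i₀]
    · rw [coeff_C_mul, coeff_X_pow, if_pos rfl, mul_one]
    · intro j _ hj
      rw [coeff_C_mul, coeff_X_pow, if_neg, mul_zero]
      intro h
      apply hj
      have := hpow_inj _ _ h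
      exact (Fin.ext (by omega)).symm
    · intro h; exact absurd (Finset.mem_univ _) h
  obtain ⟨z, hz0, hz⟩ := FrobRoots.exists_root_ne_zero P 1 (p ^ (i₀.val + 1)) (hpow1 _).symm
    (by rw [hc1]; exact neg_ne_zero.mpr one_ne_zero) (by rw [hc2]; exact hci₀)
  refine ⟨z, hz0, ?_⟩
  rw [hP] at hz
  simp only [eval_sub, eval_pow, eval_X, eval_finsetSum, eval_mul, eval_C] at hz
  rw [sub_eq_zero] at hz
  refine hz.symm.trans ?_
  refine Finset.sum_congr rfl fun i _ => ?_
  rw [iterate_frobenius, iterate_frobenius, mul_comm]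

theorem fixed_frob_finite (K : Type*) [Field K] (p : ℕ) [Fact p.Prime] :
    {y : K | y ^ p = y}.Finite := by
  have hp : 1 < p := (Fact.out : p.Prime).one_lt
  have hne : (X ^ p - X : K[X]) ≠ 0 := FiniteField.X_pow_card_sub_X_ne_zero K hp
  refine (Polynomial.finite_setOfPred_isRoot hne).subset ?_
  intro y hy
  show (X ^ p - X : K[X]).eval y = 0
  simp only [eval_sub, eval_pow, eval_X]
  exact sub_eq_zero.mpr hy

end Frob

section Transport

variable {K k : Type*} [Field K] [Field k] (e : K ≃+* k) (φ : k →+* k)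

/-- the conjugate endomorphism -/
noncomputable def conj : K →+* K := e.symm.toRingHom.comp (φ.comp e.toRingHom)

theorem conj_apply (x : K) : conj e φ x = e.symm (φ (e x)) := rfl

theorem conj_iterate (m : ℕ) (x : K) : (⇑(conj e φ))^[m] x = e.symm ((⇑φ)^[m] (e x)) := by
  induction m generalizing x with
  | zero => simp
  | succ m ih =>
    rw [Function.iterate_succ_apply, ih, conj_apply, e.apply_symm_apply,
      Function.iterate_succ_apply]

theorem conj_surjective (hφ : Function.Surjective φ) : Function.Surjective (conj e φ) := by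
  intro y
  obtain ⟨z, hz⟩ := hφ (e y)
  exact ⟨e.symm z, by rw [conj_apply, e.apply_symm_apply, hz, e.symm_apply_apply]⟩

theorem h3_conj (h3 : ∀ c : k, ∃ y : k, φ y - y + c = 0) (c : K) :
    ∃ y : K, conj e φ y - y + c = 0 := by
  obtain ⟨y, hy⟩ := h3 (e c)
  refine ⟨e.symm y, ?_⟩
  apply e.injective
  rw [map_add, map_sub, conj_apply, e.apply_symm_apply, e.apply_symm_apply, hy, map_zero]

theorem h2_conj
    (h2 : ∀ (n : ℕ) (b : Fin (n + 1) → k), b ≠ 0 →
      ∃ x : k, x ≠ 0 ∧ x = ∑ i : Fin (n + 1), (⇑φ)^[i.val + 1] x * (⇑φ)^[i.val] (b (Fin.rev i)))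
    (n : ℕ) (b : Fin (n + 1) → K) (hb : b ≠ 0) :
    ∃ x : K, x ≠ 0 ∧ x = ∑ i : Fin (n + 1),
      (⇑(conj e φ))^[i.val + 1] x * (⇑(conj e φ))^[i.val] (b (Fin.rev i)) := by
  have hb' : (fun i => e (b i)) ≠ 0 := by
    intro h
    apply hb
    funext i
    have := congrFun h i
    simp only [Pi.zero_apply] at this ⊢
    exact (map_eq_zero_iff e e.injective).mp this
  obtain ⟨x, hx0, hx⟩ := h2 n (fun i => e (b i)) hb'
  refine ⟨e.symm x, ?_, ?_⟩
  · intro h
    apply hx0
    have := congrArg e h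
    rwa [e.apply_symm_apply, map_zero] at this
  · apply e.injective
    rw [e.apply_symm_apply, map_sum]
    conv_lhs => rw [hx]
    refine Finset.sum_congr rfl fun i _ => ?_
    rw [map_mul, conj_iterate, conj_iterate, e.apply_symm_apply, e.apply_symm_apply,
      e.apply_symm_apply]

theorem fixed_conj_finite (hfin : {y : k | φ y = y}.Finite) : {x : K | conj e φ x = x}.Finite := by
  refine (hfin.image e.symm).subset ?_
  intro x hx
  refine ⟨e x, ?_, e.symm_apply_apply x⟩
  have hx' : conj e φ x = x := hx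
  rw [conj_apply, RingEquiv.symm_apply_eq] at hx'
  exact hx'

end Transport

end Groth.Agent.Helper9.FrobSolve
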