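import Mathlib

set_option autoImplicit false
open CategoryTheory CategoryTheory.Limits

universe w v u

namespace Groth.Agent.Helper9.FunInj

open MorphismProperty ZeroObject

/-- The functor `X ↦ (X ⟶ 0)` to the arrow category. -/
noncomputable def toZeroArrow (A : Type u) [Category.{v} A] [Abelian A] : A ⥤ Arrow A where
  obj X := Arrow.mk (0 : X ⟶ 0)
  map {X Y} f := Arrow.homMk f (𝟙 _) (by simp)
  map_id X := by ext <;> simp
  map_comp f g := by ext <;> simp

/-- A Grothendieck abelian category has functorial injective embeddings. -/
theorem functorial_injective_embedding (A : Type u) [Category.{v} A] [Abelian A]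
    [IsGrothendieckAbelian.{w} A] :
    ∃ (J : A ⥤ A) (j : 𝟭 _ ⟶ J), ∀ F : A, Injective (J.obj F) ∧ Mono (j.app F) := by
  let data := functorialFactorizationData (monomorphisms A) (monomorphisms A).rlp
  refine ⟨toZeroArrow A ⋙ data.Z,
    { app := fun X => data.i.app ((toZeroArrow A).obj X)
      naturality := fun X Y f => data.i.naturality ((toZeroArrow A).map f) }, fun F => ⟨?_, ?_⟩⟩
  · have hp := data.hp ((toZeroArrow A).obj F)
    rw [injective_iff_rlp_monomorphisms_zero]
    have : data.p.app ((toZeroArrow A).obj F) = 0 := (isZero_zero A).eq_of_tgt _ _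
    rw [this] at hp
    exact hp
  · exact data.hi ((toZeroArrow A).obj F)

end Groth.Agent.Helper9.FunInj
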