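import Mathlib

set_option autoImplicit false
universe v₁ v₂ u₁ u₂ w
open CategoryTheory Opposite CategoryTheory.Prod

namespace Groth.Agent.Helper9.FunTopos

variable {T : Type u₁} [Category.{v₁} T] {C : Type u₂} [Category.{v₂} C]

/-- the slice of a sieve on `(t, c)` along `{t} × C` -/
def slice {X : T × C} (S : Sieve X) : Sieve X.2 where
  arrows c' f := S.arrows (show (X.1, c') ⟶ X from 𝟙 X.1 ×ₘ f)
  downward_closed {c' c''} f hf g := by
    have : (show (X.1, c'') ⟶ X from 𝟙 X.1 ×ₘ (g ≫ f)) =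
        (𝟙 X.1 ×ₘ g : (X.1, c'') ⟶ (X.1, c')) ≫ (show (X.1, c') ⟶ X from 𝟙 X.1 ×ₘ f) := by
      ext <;> simp
    rw [this]
    exact S.downward_closed hf _

lemma slice_apply {X : T × C} (S : Sieve X) {c' : C} (f : c' ⟶ X.2) :
    (slice S).arrows f ↔ S.arrows (show (X.1, c') ⟶ X from 𝟙 X.1 ×ₘ f) := Iff.rfl

/-- the product of the trivial topology on `T` and `J` on `C` -/
def prodTop (J : GrothendieckTopology C) : GrothendieckTopology (T × C) where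
  sieves X := {S | slice S ∈ J X.2}
  top_mem' X := by
    have : slice (⊤ : Sieve X) = ⊤ := by
      ext c' f
      simp [slice_apply]
    show slice (⊤ : Sieve X) ∈ J X.2
    rw [this]
    exact J.top_mem _
  pullback_stable' X Y S g hS := by
    show slice (S.pullback g) ∈ J Y.2
    refine J.superset_covering ?_ (J.pullback_stable g.2 hS)
    intro c' h hh
    rw [Sieve.pullback_apply, slice_apply] at hh
    rw [slice_apply, Sieve.pullback_apply]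
    have : (show (Y.1, c') ⟶ Y from 𝟙 Y.1 ×ₘ h) ≫ g =
        (g.1 ×ₘ 𝟙 c' : (Y.1, c') ⟶ (X.1, c')) ≫ (show (X.1, c') ⟶ X from 𝟙 X.1 ×ₘ (h ≫ g.2)) := by
      ext <;> simp
    rw [this]
    exact S.downward_closed hh _
  transitive' X S hS R hR := by
    show slice R ∈ J X.2
    refine J.transitive hS (slice R) ?_
    intro c' f hf
    have h1 := hR hf
    have h2 : slice (R.pullback (show (X.1, c') ⟶ X from 𝟙 X.1 ×ₘ f)) ∈ J c' := h1
    refine J.superset_covering ?_ h2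
    intro c'' h hh
    rw [slice_apply, Sieve.pullback_apply] at hh
    rw [Sieve.pullback_apply, slice_apply]
    have : (show (X.1, c'') ⟶ X from 𝟙 X.1 ×ₘ (h ≫ f)) =
        (𝟙 X.1 ×ₘ h : (X.1, c'') ⟶ (X.1, c')) ≫ (show (X.1, c') ⟶ X from 𝟙 X.1 ×ₘ f) := by
      ext <;> simp
    rw [this]
    exact hh

lemma mem_prodTop (J : GrothendieckTopology C) {X : T × C} (S : Sieve X) :
    S ∈ prodTop (T := T) J X ↔ slice S ∈ J X.2 := Iff.rfl

/-- slice of a presheaf on `T × C` at `t`. -/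
def sl (P : (T × C)ᵒᵖ ⥤ Type w) (t : T) : Cᵒᵖ ⥤ Type w := (Prod.sectR t C).op ⋙ P

lemma sl_map (P : (T × C)ᵒᵖ ⥤ Type w) (t : T) {c c' : C} (f : c' ⟶ c) (y : (sl P t).obj (op c)) :
    (sl P t).map f.op y = P.map (𝟙 t ×ₘ f : (t, c') ⟶ (t, c)).op y := rfl

lemma fam_congr {D : Type*} [Category D] {P : Dᵒᵖ ⥤ Type w} {X : D} {R : Presieve X}
    (x : Presieve.FamilyOfElements P R) {Y : D} {f f' : Y ⟶ X} (h : f = f') (hf : R f) (hf' : R f') :
    x f hf = x f' hf' := by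
  subst h
  rfl

lemma map_comp_apply {D : Type*} [Category D] (P : Dᵒᵖ ⥤ Type w) {X Y Z : D} (f : X ⟶ Y) (g : Y ⟶ Z)
    (y : P.obj (op Z)) : P.map (f ≫ g).op y = P.map f.op (P.map g.op y) := by
  rw [op_comp, P.map_comp]
  rfl

lemma map_congr_apply {D : Type*} [Category D] (P : Dᵒᵖ ⥤ Type w) {X Y : D} {f g : X ⟶ Y} (h : f = g)
    (y : P.obj (op Y)) : P.map f.op y = P.map g.op y := by
  subst h
  rfl

lemma map_comp_eq {D : Type*} [Category D] (P : Dᵒᵖ ⥤ Type w) {X Y Z W : D} (f : X ⟶ Y) (g : Y ⟶ Z)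
    (f' : X ⟶ W) (g' : W ⟶ Z) (h : f ≫ g = f' ≫ g') :
    P.map g.op ≫ P.map f.op = P.map g'.op ≫ P.map f'.op := by
  rw [← P.map_comp, ← P.map_comp, ← op_comp, ← op_comp, h]

lemma map_comp_eq' {D : Type*} [Category D] (P : Dᵒᵖ ⥤ Type w) {X Y Z : D} (f : X ⟶ Y) (g : Y ⟶ Z)
    (k : X ⟶ Z) (h : f ≫ g = k) :
    P.map g.op ≫ P.map f.op = P.map k.op := by
  rw [← P.map_comp, ← op_comp, h]

variable (J : GrothendieckTopology C)

/-- if all slices are sheaves, `P` is a sheaf for the product topology -/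
theorem isSheaf_of_slices (P : (T × C)ᵒᵖ ⥤ Type w)
    (h : ∀ t : T, Presieve.IsSheaf J (sl P t)) : Presieve.IsSheaf (prodTop (T := T) J) P := by
  rintro ⟨t, c⟩ S hS
  have hR : slice S ∈ J c := hS
  intro x hx
  have hx' := (Presieve.compatible_iff_sieveCompatible x).1 hx
  -- the sliced family
  let x' : Presieve.FamilyOfElements (sl P t) (slice S : Presieve c) :=
    fun c' f hf => x (𝟙 t ×ₘ f : (t, c') ⟶ (t, c)) hf
  have hx'c : x'.Compatible := by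
    rw [Presieve.compatible_iff_sieveCompatible]
    intro c' c'' f g hf
    have e : (𝟙 t ×ₘ (g ≫ f) : (t, c'') ⟶ (t, c)) =
        (𝟙 t ×ₘ g : (t, c'') ⟶ (t, c')) ≫ (𝟙 t ×ₘ f : (t, c') ⟶ (t, c)) := by ext <;> simp
    exact (fam_congr x e _ (S.downward_closed hf _)).trans
      (hx' (𝟙 t ×ₘ f : (t, c') ⟶ (t, c)) (𝟙 t ×ₘ g : (t, c'') ⟶ (t, c')) hf)
  obtain ⟨tt, htt, huniq⟩ := h t (slice S) hR x' hx'c
  change P.obj (op (t, c)) at tt
  have key : x.IsAmalgamation tt := by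
    rintro ⟨t', c'⟩ g hg
    have hsep := (h t' ((slice S).pullback g.2) (J.pullback_stable g.2 hR)).isSeparatedFor
    apply hsep.ext
    intro c'' k hk
    have hk' : S.arrows (𝟙 t ×ₘ (k ≫ g.2) : (t, c'') ⟶ (t, c)) := hk
    have e1 : (𝟙 t' ×ₘ k : (t', c'') ⟶ (t', c')) ≫ g =
        (g.1 ×ₘ 𝟙 c'' : (t', c'') ⟶ (t, c'')) ≫ (𝟙 t ×ₘ (k ≫ g.2) : (t, c'') ⟶ (t, c)) := by
      ext <;> simp
    have A : P.map (𝟙 t' ×ₘ k : (t', c'') ⟶ (t', c')).op (P.map g.op tt) =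
        P.map ((𝟙 t' ×ₘ k : (t', c'') ⟶ (t', c')) ≫ g).op tt := (map_comp_apply P _ _ tt).symm
    have B := map_congr_apply P e1 tt
    have C' := map_comp_apply P (g.1 ×ₘ 𝟙 c'' : (t', c'') ⟶ (t, c''))
      (𝟙 t ×ₘ (k ≫ g.2) : (t, c'') ⟶ (t, c)) tt
    have D : P.map (𝟙 t ×ₘ (k ≫ g.2) : (t, c'') ⟶ (t, c)).op tt =
        x (𝟙 t ×ₘ (k ≫ g.2) : (t, c'') ⟶ (t, c)) hk' := htt (k ≫ g.2) hk'
    have E := (hx' (𝟙 t ×ₘ (k ≫ g.2) : (t, c'') ⟶ (t, c)) (g.1 ×ₘ 𝟙 c'' : (t', c'') ⟶ (t, c'')) hk').symm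
    have F := fam_congr x e1.symm (S.downward_closed hk' _) (S.downward_closed hg _)
    have G := hx' g (𝟙 t' ×ₘ k : (t', c'') ⟶ (t', c')) hg
    exact A.trans (B.trans (C'.trans ((congrArg _ D).trans (E.trans (F.trans G)))))
  refine ⟨tt, key, fun t₂ ht₂ => huniq t₂ ?_⟩
  intro c' f hf
  exact ht₂ (𝟙 t ×ₘ f : (t, c') ⟶ (t, c)) hf

/-- the sieve on `(t, c)` of all maps whose second component lies in `R` -/
def thick (t : T) {c : C} (R : Sieve c) : Sieve ((t, c) : T × C) where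
  arrows Y g := R.arrows g.2
  downward_closed {Y Z} g hg k := by
    show R.arrows (k ≫ g).2
    rw [prod_comp_snd]
    exact R.downward_closed hg _

lemma slice_thick (t : T) {c : C} (R : Sieve c) : slice (thick t R) = R := by
  ext c' f
  rfl

/-- slices of a sheaf for the product topology are sheaves -/
theorem slices_isSheaf (P : (T × C)ᵒᵖ ⥤ Type w)
    (h : Presieve.IsSheaf (prodTop (T := T) J) P) (t : T) : Presieve.IsSheaf J (sl P t) := by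
  intro c R hR
  have hS : thick t R ∈ prodTop (T := T) J (t, c) := by
    rw [mem_prodTop, slice_thick]
    exact hR
  intro x hx
  have hx' := (Presieve.compatible_iff_sieveCompatible x).1 hx
  let y : Presieve.FamilyOfElements P (thick t R : Presieve ((t, c) : T × C)) :=
    fun Y g hg => P.map (g.1 ×ₘ 𝟙 Y.2 : (Y.1, Y.2) ⟶ (t, Y.2)).op (x g.2 hg)
  have hy : y.Compatible := by
    rw [Presieve.compatible_iff_sieveCompatible]
    rintro ⟨t', c'⟩ ⟨t'', c''⟩ g k hg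
    have hg' : R.arrows g.2 := hg
    have e : ((k ≫ g).1 ×ₘ 𝟙 c'' : (t'', c'') ⟶ (t, c'')) ≫ (𝟙 t ×ₘ k.2 : (t, c'') ⟶ (t, c')) =
        k ≫ (g.1 ×ₘ 𝟙 c' : (t', c') ⟶ (t, c')) := by
      ext <;> simp
    have A : x (k ≫ g).2 (R.downward_closed hg' k.2) =
        P.map (𝟙 t ×ₘ k.2 : (t, c'') ⟶ (t, c')).op (x g.2 hg') := hx' g.2 k.2 hg'
    have B := (map_comp_apply P ((k ≫ g).1 ×ₘ 𝟙 c'' : (t'', c'') ⟶ (t, c''))
      (𝟙 t ×ₘ k.2 : (t, c'') ⟶ (t, c')) (x g.2 hg')).symm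
    have C' := map_congr_apply P e (x g.2 hg')
    have D := map_comp_apply P k (g.1 ×ₘ 𝟙 c' : (t', c') ⟶ (t, c')) (x g.2 hg')
    exact (congrArg (P.map ((k ≫ g).1 ×ₘ 𝟙 c'' : (t'', c'') ⟶ (t, c'')).op) A).trans
      (B.trans (C'.trans D))
  obtain ⟨tt, htt, huniq⟩ := h (thick t R) hS y hy
  have key : x.IsAmalgamation tt := by
    intro c' f hf
    have h1 : P.map (𝟙 t ×ₘ f : (t, c') ⟶ (t, c)).op tt =
        P.map (𝟙 t ×ₘ 𝟙 c' : (t, c') ⟶ (t, c')).op (x f hf) :=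
      htt (𝟙 t ×ₘ f : (t, c') ⟶ (t, c)) hf
    have h2 : P.map (𝟙 t ×ₘ 𝟙 c' : (t, c') ⟶ (t, c')).op (x f hf) = x f hf := by
      have : (𝟙 t ×ₘ 𝟙 c' : (t, c') ⟶ (t, c')) = 𝟙 ((t, c') : T × C) := rfl
      rw [this, op_id, P.map_id]
      rfl
    exact h1.trans h2
  refine ⟨tt, key, fun t₂ ht₂ => huniq t₂ ?_⟩
  rintro ⟨t', c'⟩ g hg
  have hg' : R.arrows g.2 := hg
  have e : g = (g.1 ×ₘ 𝟙 c' : (t', c') ⟶ (t, c')) ≫ (𝟙 t ×ₘ g.2 : (t, c') ⟶ (t, c)) := by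
    ext <;> simp
  have A := map_congr_apply P e t₂
  have B := map_comp_apply P (g.1 ×ₘ 𝟙 c' : (t', c') ⟶ (t, c')) (𝟙 t ×ₘ g.2 : (t, c') ⟶ (t, c)) t₂
  have C' : P.map (𝟙 t ×ₘ g.2 : (t, c') ⟶ (t, c)).op t₂ = x g.2 hg' := ht₂ g.2 hg'
  exact A.trans (B.trans (congrArg _ C'))

section Equiv

universe u
variable {D : Type u} [SmallCategory D] {C : Type u} [SmallCategory C] (J : GrothendieckTopology C)

/-- `(Dᵒᵖ × C)ᵒᵖ ≌ D × Cᵒᵖ` -/
abbrev eqv (D : Type u) [SmallCategory D] (C : Type u) [SmallCategory C] :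
    (Dᵒᵖ × C)ᵒᵖ ≌ D × Cᵒᵖ :=
  (prodOpEquiv (Dᵒᵖ) (D := C)).trans ((opOpEquivalence D).prod (CategoryTheory.Equivalence.refl : Cᵒᵖ ≌ Cᵒᵖ))

/-- the underlying presheaf functor -/
abbrev Φ₀ : (D ⥤ Sheaf J (Type u)) ⥤ ((Dᵒᵖ × C)ᵒᵖ ⥤ Type u) :=
  (Functor.whiskeringRight D _ _).obj (sheafToPresheaf J (Type u)) ⋙ (Functor.currying).functor ⋙
    ((eqv D C).symm.congrLeft).functor

instance : (Φ₀ (D := D) J).Full := by
  unfold Φ₀
  infer_instance

instance : (Φ₀ (D := D) J).Faithful := by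
  unfold Φ₀
  infer_instance

lemma Φ₀_obj (F : D ⥤ Sheaf J (Type u)) (X : (Dᵒᵖ × C)ᵒᵖ) :
    ((Φ₀ J).obj F).obj X = (F.obj X.unop.1.unop).obj.obj (op X.unop.2) := rfl

lemma Φ₀_map (F : D ⥤ Sheaf J (Type u)) {X Y : (Dᵒᵖ × C)ᵒᵖ} (g : X ⟶ Y) :
    ((Φ₀ J).obj F).map g = (F.map g.unop.1.unop).hom.app (op X.unop.2) ≫
      (F.obj Y.unop.1.unop).obj.map g.unop.2.op := rfl

def slIso (F : D ⥤ Sheaf J (Type u)) (t : Dᵒᵖ) :
    sl ((Φ₀ J).obj F) t ≅ (F.obj (unop t)).obj :=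
  NatIso.ofComponents (fun c => Iso.refl _) (by
    intro c c' f
    have h : (sl ((Φ₀ J).obj F) t).map f = (F.obj (unop t)).obj.map f := by
      show ((Φ₀ J).obj F).map (𝟙 t ×ₘ f.unop : (t, c'.unop) ⟶ (t, c.unop)).op = _
      rw [Φ₀_map]
      have : (F.map (𝟙 t ×ₘ f.unop : (t, c'.unop) ⟶ (t, c.unop)).op.unop.1.unop) = 𝟙 _ := F.map_id _
      rw [this]
      exact Category.id_comp _
    rw [h]
    exact (Category.comp_id _).trans (Category.id_comp _).symm)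

lemma Φ₀_isSheaf (F : D ⥤ Sheaf J (Type u)) :
    Presheaf.IsSheaf (prodTop (T := Dᵒᵖ) J) ((Φ₀ J).obj F) := by
  rw [isSheaf_iff_isSheaf_of_type]
  apply isSheaf_of_slices
  intro t
  exact Presieve.isSheaf_iso J (slIso J F t).symm
    ((isSheaf_iff_isSheaf_of_type _ _).1 (F.obj (unop t)).property)

/-- the comparison functor -/
abbrev Φ : (D ⥤ Sheaf J (Type u)) ⥤ Sheaf (prodTop (T := Dᵒᵖ) J) (Type u) :=
  ObjectProperty.lift _ (Φ₀ J) (Φ₀_isSheaf J)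

/-- the inverse on objects -/
def Ψobj (G : Sheaf (prodTop (T := Dᵒᵖ) J) (Type u)) : D ⥤ Sheaf J (Type u) where
  obj d := ⟨sl G.obj (op d), (isSheaf_iff_isSheaf_of_type _ _).2
    (slices_isSheaf J G.obj ((isSheaf_iff_isSheaf_of_type _ _).1 G.property) (op d))⟩
  map {d d'} a := ObjectProperty.homMk
    { app := fun c => G.obj.map ((a.op ×ₘ 𝟙 c.unop : (op d', c.unop) ⟶ (op d, c.unop))).op
      naturality := by
        intro c c' f
        exact map_comp_eq G.obj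
          (a.op ×ₘ 𝟙 c'.unop : (op d', c'.unop) ⟶ (op d, c'.unop))
          (𝟙 (op d) ×ₘ f.unop : (op d, c'.unop) ⟶ (op d, c.unop))
          (𝟙 (op d') ×ₘ f.unop : (op d', c'.unop) ⟶ (op d', c.unop))
          (a.op ×ₘ 𝟙 c.unop : (op d', c.unop) ⟶ (op d, c.unop)) (by ext <;> simp) }
  map_id d := by
    apply ObjectProperty.hom_ext
    ext c : 2
    exact G.obj.map_id _
  map_comp {d d' d''} a b := by
    apply ObjectProperty.hom_ext
    ext c : 2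
    exact (map_comp_eq' G.obj
          (b.op ×ₘ 𝟙 c.unop : (op d'', c.unop) ⟶ (op d', c.unop))
          (a.op ×ₘ 𝟙 c.unop : (op d', c.unop) ⟶ (op d, c.unop))
          ((a ≫ b).op ×ₘ 𝟙 c.unop : (op d'', c.unop) ⟶ (op d, c.unop)) (by ext <;> simp)).symm

def ΦΨiso (G : Sheaf (prodTop (T := Dᵒᵖ) J) (Type u)) : (Φ₀ J).obj (Ψobj J G) ≅ G.obj :=
  NatIso.ofComponents (fun X => Iso.refl (G.obj.obj X)) (by
    rintro ⟨⟨⟨d⟩, c⟩⟩ ⟨⟨⟨d'⟩, c'⟩⟩ ⟨g⟩
    have h : ((Φ₀ J).obj (Ψobj J G)).map (Quiver.Hom.op g : op (op d, c) ⟶ op (op d', c')) =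
        G.obj.map (Quiver.Hom.op g) := by
      rw [Φ₀_map]
      exact map_comp_eq' G.obj
          (𝟙 (op d') ×ₘ g.2 : (op d', c') ⟶ (op d', c))
          (g.1 ×ₘ 𝟙 c : (op d', c) ⟶ (op d, c)) g (by ext <;> simp)
    exact (Category.comp_id _).trans (h.trans (Category.id_comp _).symm))

instance : (Φ (D := D) J).EssSurj where
  mem_essImage G := ⟨Ψobj J G, ⟨ObjectProperty.isoMk _ (ΦΨiso J G)⟩⟩

instance : (Φ (D := D) J).IsEquivalence where

/-- functor categories into sheaf topoi are sheaf topoi -/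
noncomputable def functorSheafEquiv : (D ⥤ Sheaf J (Type u)) ≌ Sheaf (prodTop (T := Dᵒᵖ) J) (Type u) :=
  (Φ J).asEquivalence

end Equiv

end Groth.Agent.Helper9.FunTopos
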