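import Mathlib
import Groth.Prelude.Def_CxOX
import Groth.Agent.Helper9.GL7

/-! Approximation by perfect complexes on quasi-compact quasi-separated schemes. -/

set_option autoImplicit false
set_option linter.style.haveILetI false
set_option linter.unusedVariables false
set_option linter.unusedSectionVars false
universe u

namespace Groth.Agent.Helper9.GL8

open CategoryTheory CategoryTheory.Limits AlgebraicGeometry Opposite TopologicalSpace
  Pretriangulated DerivedCategory ZeroObject
open Groth.Agent.Helper4 Groth.Agent.Helper9.MVP13 Groth.Agent.Helper9.GL7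
  Groth.Agent.Lead.PerfLib Groth.Agent.Lead.PcLib Scheme.Modules

attribute [local instance] HasDerivedCategory.standard

/-- the empty scheme -/
theorem approxHolds_of_isEmpty (Y : Scheme.{u}) [IsEmpty Y] : ApproxHolds Y := by
  intro T hT hTc
  refine ⟨0, fun m E hq hpc hs => ?_⟩
  have hz : ∀ (K : DCoh.D Y) (i : ℤ), IsZero (DCoh.HD K i) := by
    intro K i
    apply SuppLib.isZero_of_support
    ext x
    exact isEmptyElim x
  refine ⟨0, 0, Groth.Agent.Helper9.TT4.isPerfect_of_isZero (isZero_zero _),
    fun i x hx => isEmptyElim x, fun i hi => ?_, ?_⟩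
  · exact ⟨⟨0, (hz _ i).eq_of_src _ _, (hz _ i).eq_of_src _ _⟩⟩
  · exact ⟨fun _ _ _ => (hz _ m).eq_of_src _ _⟩

/-- approximation by perfect complexes holds on quasi-compact open subschemes of a
quasi-separated scheme -/
theorem approxHolds_of_range (X : Scheme.{u}) [QuasiSeparatedSpace X] (S : X.Opens)
    (hS : IsCompact (S : Set X)) :
    ∀ (Y : Scheme.{u}) (j : Y ⟶ X) [IsOpenImmersion j], Set.range j = (S : Set X) →
      ApproxHolds Y := by
  refine compact_open_induction_on (P := fun S : X.Opens => ∀ (Y : Scheme.{u}) (j : Y ⟶ X)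
    [IsOpenImmersion j], Set.range j = (S : Set X) → ApproxHolds Y) S hS ?_ ?_
  · intro Y j _ hj
    haveI : IsEmpty Y := by
      constructor
      intro y
      have : j y ∈ Set.range j := ⟨y, rfl⟩
      rw [hj] at this
      exact this
    exact approxHolds_of_isEmpty Y
  · intro S hS U ih Y j _ hj
    have hUle : (U : X.Opens) ≤ j.opensRange := by
      intro x hx
      show x ∈ Set.range j
      rw [hj]
      exact Or.inr hx
    have hSle : Set.range S.ι ⊆ Set.range j := by
      rw [hj, Scheme.Opens.range_ι]
      intro x hx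
      exact Or.inl hx
    let U' : Y.Opens := j ⁻¹ᵁ (U : X.Opens)
    have hU' : IsAffineOpen U' := U.2.preimage_of_isOpenImmersion j hUle
    let u : (S : Scheme.{u}) ⟶ Y := IsOpenImmersion.lift j S.ι hSle
    have hu : u ≫ j = S.ι := IsOpenImmersion.lift_fac _ _ _
    haveI : IsOpenImmersion (u ≫ j) := by rw [hu]; infer_instance
    haveI : IsOpenImmersion u := IsOpenImmersion.of_comp u j
    haveI : CompactSpace (S : Scheme.{u}) := isCompact_iff_compactSpace.1 hS
    have hju : ∀ s : (S : Scheme.{u}), j (u s) = S.ι s := fun s =>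
      congrArg (fun f : (S : Scheme.{u}) ⟶ X => f s) hu
    have hcov : ∀ y : Y, y ∈ Set.range u ∨ y ∈ U' := by
      intro y
      have hy : j y ∈ ((S ⊔ (U : X.Opens) : X.Opens) : Set X) := by
        rw [← hj]
        exact ⟨y, rfl⟩
      rcases hy with hy | hy
      · left
        refine ⟨⟨j y, hy⟩, ?_⟩
        apply j.isOpenEmbedding.injective
        exact (hju _).trans rfl
      · exact Or.inr hy
    have hUV : IsCompact ((U' : Set Y) ∩ Set.range u) := by
      have h1 : IsCompact (((U : X.Opens) : Set X) ∩ (S : Set X)) :=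
        QuasiSeparatedSpace.inter_isCompact _ _ (U : X.Opens).isOpen U.2.isCompact S.isOpen hS
      have h2 := isCompact_preimage_of_subset_range j _ h1 (fun x hx => hUle hx.1)
      have h3 : j ⁻¹' (((U : X.Opens) : Set X) ∩ (S : Set X)) = (U' : Set Y) ∩ Set.range u := by
        ext y
        constructor
        · rintro ⟨hy1, hy2⟩
          refine ⟨hy1, ⟨⟨j y, hy2⟩, ?_⟩⟩
          apply j.isOpenEmbedding.injective
          exact (hju _).trans rfl
        · rintro ⟨hy1, ⟨s, rfl⟩⟩
          refine ⟨hy1, ?_⟩
          show j (u s) ∈ (S : Set X)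
          rw [hju]
          exact s.2
      rw [← h3]
      exact h2
    exact approx_step u U' hU' hcov hUV (ih (S : Scheme.{u}) S.ι (Scheme.Opens.range_ι S))

/-- approximation by perfect complexes holds on quasi-compact quasi-separated schemes -/
theorem approxHolds_of_qcqs (X : Scheme.{u}) [CompactSpace X] [QuasiSeparatedSpace X] :
    ApproxHolds X := by
  have h := approxHolds_of_range X ⊤ (by
    rw [TopologicalSpace.Opens.coe_top]; exact isCompact_univ) X (𝟙 X) (by
    rw [TopologicalSpace.Opens.coe_top]
    ext x
    simp only [Set.mem_range, Set.mem_univ, iff_true]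
    exact ⟨x, rfl⟩)
  exact h

end Groth.Agent.Helper9.GL8
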