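import Mathlib
import Groth.Prelude.Def_EtCore
import Groth.Agent.Helper9.GabB
import Groth.Agent.Helper9.ExtEfface
import Groth.Agent.Helper3.StrictHensFinite

/-! Gabber's criterion for vanishing of cohomology on an affine scheme all of whose local rings are
strictly henselian. -/

set_option autoImplicit false
set_option linter.style.haveILetI false
set_option linter.unusedSectionVars false
universe u

namespace Groth.Agent.Helper9.GabD

open CategoryTheory CategoryTheory.Limits AlgebraicGeometry Opposite Abelian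
open Groth.Agent.Helper9.EtMV1 Groth.Agent.Helper9.GabA Groth.Agent.Helper9.GabB
open Groth.Agent.Helper9.ExtNat

section General

variable {X : Scheme.{u}}

theorem local_triv (O : X.Opens) (F : EtCoh.Ab X) (n : ℕ) (y : Ext (KO O) F (n + 1)) (x : X)
    (hx : x ∈ O) (hs : EtCoh.IsStrictlyHenselianLocalRing (X.presheaf.stalk x)) :
    ∃ (O' : X.Opens) (hle : O' ≤ O), x ∈ O' ∧
      (Ext.mk₀ (aO hle)).comp y (zero_add (n + 1)) = 0 := by
  obtain ⟨A', p, hp, h⟩ := Groth.Agent.Helper9.ExtEfface.exists_epi_comp_eq_zero n y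
  obtain ⟨O', hle, hxO', ℓ, hℓ⟩ := exists_lift_epi O p x hx hs
  refine ⟨O', hle, hxO', ?_⟩
  rw [← hℓ, ← Ext.mk₀_comp_mk₀, Ext.comp_assoc_of_second_deg_zero, h, Ext.comp_zero]

/-- the class `y` vanishes on the smaller open `O'` -/
def Van {O : X.Opens} {F : EtCoh.Ab X} {n : ℕ} (y : Ext (KO O) F n) (O' : X.Opens) : Prop :=
  ∃ hle : O' ≤ O, (Ext.mk₀ (aO hle)).comp y (zero_add n) = 0

theorem Van.mono {O : X.Opens} {F : EtCoh.Ab X} {n : ℕ} {y : Ext (KO O) F n} {O' O'' : X.Opens}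
    (h : Van y O') (h'' : O'' ≤ O') : Van y O'' := by
  obtain ⟨hle, h0⟩ := h
  refine ⟨h''.trans hle, ?_⟩
  rw [← aO_trans h'' hle, ← Ext.mk₀_comp_mk₀, Ext.comp_assoc_of_second_deg_zero, h0,
    Ext.comp_zero]

theorem Van.comp {O : X.Opens} {F : EtCoh.Ab X} {n : ℕ} {y : Ext (KO O) F n} {O' O'' : X.Opens}
    (h : Van y O'') (h' : O' ≤ O) (h'' : O'' ≤ O') :
    Van ((Ext.mk₀ (aO h')).comp y (zero_add n)) O'' := by
  obtain ⟨hle, h0⟩ := h
  refine ⟨h'', ?_⟩
  rw [← Ext.comp_assoc_of_second_deg_zero, Ext.mk₀_comp_mk₀, aO_trans]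
  exact h0

theorem isZero_KO_bot : IsZero (KO (⊥ : X.Opens)) := by
  apply Groth.Agent.Helper9.EtStalkExact.isZero_of_stalks
  intro Ω _ _ ξ
  exact isZero_stalk_KO ξ ⊥ (fun h => h)

theorem Van.bot {O : X.Opens} {F : EtCoh.Ab X} {n : ℕ} (y : Ext (KO O) F n) :
    Van y (⊥ : X.Opens) := by
  refine ⟨bot_le, ?_⟩
  have h1 : aO (bot_le : (⊥ : X.Opens) ≤ O) = 0 := isZero_KO_bot.eq_of_src _ _
  rw [h1, Ext.mk₀_zero, Ext.zero_comp]

end General

section Affine

variable (Rc : CommRingCat.{u})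

/-- basic opens of `Spec Rc` -/
noncomputable abbrev D (r : Γ(Spec Rc, ⊤)) : (Spec Rc).Opens := (Spec Rc).basicOpen r

theorem mem_D_iff (x : Spec Rc) (r : Γ(Spec Rc, ⊤)) :
    x ∈ D Rc r ↔ (Scheme.ΓSpecIso Rc).hom r ∉ PrimeSpectrum.asIdeal x := by
  show x ∈ (Spec Rc).basicOpen r ↔ _
  rw [basicOpen_eq_of_affine']
  exact PrimeSpectrum.mem_basicOpen _ _

/-- the kernel property in terms of `Ext` groups -/
def P (F : EtCoh.Ab (Spec Rc)) : Prop :=
  ∀ (f g : Γ(Spec Rc, ⊤)) (y : Ext (KO (D Rc (f + g))) F 1),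
    Van y (D Rc (f * (f + g))) → Van y (D Rc (g * (f + g))) → y = 0

variable (hs : ∀ x : Spec Rc, EtCoh.IsStrictlyHenselianLocalRing ((Spec Rc).presheaf.stalk x))

include hs in
theorem van_basicOpen (F : EtCoh.Ab (Spec Rc)) (hP : P Rc F) (f g : Γ(Spec Rc, ⊤))
    (y : Ext (KO (D Rc (f + g))) F 1) (k : Γ(Spec Rc, ⊤)) (hk : D Rc k ≤ D Rc (f + g)) :
    Van y (D Rc k) := by
  let I : Ideal Γ(Spec Rc, ⊤) :=
    { carrier := {r | Van y (D Rc (k * r))}
      zero_mem' := by
        show Van y (D Rc (k * 0))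
        rw [mul_zero]
        show Van y ((Spec Rc).basicOpen (0 : Γ(Spec Rc, ⊤)))
        rw [Scheme.basicOpen_zero]
        exact Van.bot y
      add_mem' := by
        intro r1 r2 h1 h2
        show Van y (D Rc (k * (r1 + r2)))
        rw [mul_add]
        have h' : D Rc (k * r1 + k * r2) ≤ D Rc (f + g) := by
          rw [← mul_add]
          show (Spec Rc).basicOpen (k * (r1 + r2)) ≤ _
          rw [Scheme.basicOpen_mul]
          exact inf_le_left.trans hk
        refine ⟨h', ?_⟩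
        apply hP (k * r1) (k * r2)
        · refine (h1.mono ?_).comp h' ?_
          · show (Spec Rc).basicOpen (k * r1 * (k * r1 + k * r2)) ≤ _
            rw [Scheme.basicOpen_mul]
            exact inf_le_left
          · show (Spec Rc).basicOpen (k * r1 * (k * r1 + k * r2)) ≤ _
            rw [Scheme.basicOpen_mul]
            exact inf_le_right
        · refine (h2.mono ?_).comp h' ?_
          · show (Spec Rc).basicOpen (k * r2 * (k * r1 + k * r2)) ≤ _
            rw [Scheme.basicOpen_mul]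
            exact inf_le_left
          · show (Spec Rc).basicOpen (k * r2 * (k * r1 + k * r2)) ≤ _
            rw [Scheme.basicOpen_mul]
            exact inf_le_right
      smul_mem' := by
        intro c r h
        show Van y (D Rc (k * (c • r)))
        refine Van.mono h ?_
        show (Spec Rc).basicOpen (k * (c • r)) ≤ _
        rw [smul_eq_mul, mul_left_comm, Scheme.basicOpen_mul]
        exact inf_le_right }
  have hI : ∀ r, r ∈ I ↔ Van y (D Rc (k * r)) := fun _ => Iff.rfl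
  have hrad : k ∈ I.radical := by
    rw [Ideal.radical_eq_sInf, Ideal.mem_sInf]
    rintro Pr ⟨hIP, hPprime⟩
    by_contra hkP
    let q : PrimeSpectrum Rc :=
      ⟨Ideal.comap (Scheme.ΓSpecIso Rc).inv.hom Pr, inferInstance⟩
    let x : Spec Rc := q
    have hmem : ∀ r, x ∈ D Rc r ↔ r ∉ Pr := by
      intro r
      rw [mem_D_iff]
      show ¬ ((Scheme.ΓSpecIso Rc).inv.hom ((Scheme.ΓSpecIso Rc).hom.hom r) ∈ Pr) ↔ _
      rw [show (Scheme.ΓSpecIso Rc).inv.hom ((Scheme.ΓSpecIso Rc).hom.hom r) = r from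
        Iso.hom_inv_id_apply (Scheme.ΓSpecIso Rc) r]
    have hxk : x ∈ D Rc k := (hmem k).2 hkP
    obtain ⟨O', hle, hxO', h0⟩ := local_triv _ F 0 y x (hk hxk) (hs x)
    obtain ⟨_, ⟨_, ⟨r, rfl⟩, rfl⟩, hxr, hrO'⟩ :=
      (isBasis_basicOpen (Spec Rc)).exists_subset_of_mem_open hxO' O'.isOpen
    have hr : r ∈ I := by
      rw [hI]
      refine Van.mono (Van.mono ⟨hle, h0⟩ hrO') ?_
      show (Spec Rc).basicOpen (k * r) ≤ _
      rw [Scheme.basicOpen_mul]
      exact inf_le_right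
    exact (hmem r).1 hxr (hIP hr)
  obtain ⟨N, hN⟩ := hrad
  rw [hI] at hN
  refine Van.mono hN ?_
  show _ ≤ (Spec Rc).basicOpen (k * k ^ N)
  rw [← pow_succ']
  exact (Scheme.basicOpen_pow (X := Spec Rc) k (Nat.succ_pos N)).ge

include hs in
theorem ext1_eq_zero (F : EtCoh.Ab (Spec Rc)) (hP : P Rc F) (f g : Γ(Spec Rc, ⊤))
    (y : Ext (KO (D Rc (f + g))) F 1) : y = 0 := by
  apply hP f g y
  · apply van_basicOpen Rc hs F hP f g y
    show (Spec Rc).basicOpen (f * (f + g)) ≤ _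
    rw [Scheme.basicOpen_mul]
    exact inf_le_right
  · apply van_basicOpen Rc hs F hP f g y
    show (Spec Rc).basicOpen (g * (f + g)) ≤ _
    rw [Scheme.basicOpen_mul]
    exact inf_le_right

theorem eq_zero_of_eq {F : EtCoh.Ab (Spec Rc)} {n : ℕ} (O₁ O₂ : (Spec Rc).Opens) (h : O₁ = O₂)
    (h0 : ∀ w : Ext (KO O₂) F n, w = 0) (w : Ext (KO O₁) F n) : w = 0 := by
  subst h
  exact h0 w

include hs in
theorem P_coker (F : EtCoh.Ab (Spec Rc)) (hP : P Rc F) : P Rc (sc F).X₃ := by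
  intro f g z hzU hzV
  have hS := sc_shortExact F
  have hUO : D Rc (f * (f + g)) ≤ D Rc (f + g) := by
    show (Spec Rc).basicOpen (f * (f + g)) ≤ _
    rw [Scheme.basicOpen_mul]
    exact inf_le_right
  have hVO : D Rc (g * (f + g)) ≤ D Rc (f + g) := by
    show (Spec Rc).basicOpen (g * (f + g)) ≤ _
    rw [Scheme.basicOpen_mul]
    exact inf_le_right
  have hUV : D Rc (f * (f + g)) ⊔ D Rc (g * (f + g)) = D Rc (f + g) := by
    apply le_antisymm (sup_le hUO hVO)
    show _ ≤ (Spec Rc).basicOpen (f * (f + g)) ⊔ (Spec Rc).basicOpen (g * (f + g))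
    rw [Scheme.basicOpen_mul, Scheme.basicOpen_mul, ← inf_sup_right]
    exact le_inf (Scheme.basicOpen_add_le (Spec Rc) f g) le_rfl
  have hW : ∀ w : Ext (KO (D Rc (f * (f + g)) ⊓ D Rc (g * (f + g)))) F 1, w = 0 := by
    apply eq_zero_of_eq Rc _ (D Rc (0 + (f * (f + g)) * (g * (f + g))))
    · show _ = (Spec Rc).basicOpen (0 + (f * (f + g)) * (g * (f + g)))
      rw [zero_add, Scheme.basicOpen_mul]
    · exact ext1_eq_zero Rc hs F hP 0 _
  have hy : z.comp hS.extClass (rfl : 1 + 1 = 2) = 0 := by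
    apply mv_inj _ _ _ hUO hVO hUV F 1 hW
    · obtain ⟨hle, h0⟩ := hzU
      rw [← Ext.comp_assoc (Ext.mk₀ (aO hUO)) z hS.extClass (zero_add 1) rfl (by omega), h0,
        Ext.zero_comp]
    · obtain ⟨hle, h0⟩ := hzV
      rw [← Ext.comp_assoc (Ext.mk₀ (aO hVO)) z hS.extClass (zero_add 1) rfl (by omega), h0,
        Ext.zero_comp]
  obtain ⟨z', hz'⟩ := Ext.covariant_sequence_exact₃ _ hS z rfl hy
  rw [← hz', Ext.eq_zero_of_injective z', Ext.zero_comp]

include hs in
theorem ext_eq_zero : ∀ (q : ℕ) (F : EtCoh.Ab (Spec Rc)), P Rc F → ∀ (f g : Γ(Spec Rc, ⊤))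
    (y : Ext (KO (D Rc (f + g))) F (q + 1)), y = 0
  | 0, F, hP, f, g, y => ext1_eq_zero Rc hs F hP f g y
  | q + 1, F, hP, f, g, y => by
    obtain ⟨x, rfl⟩ := exists_comp_extClass y
    rw [ext_eq_zero q _ (P_coker Rc hs F hP) f g x, Ext.zero_comp]

include hs in
theorem H_eq_zero (F : EtCoh.Ab (Spec Rc)) (hP : P Rc F) (q : ℕ)
    (x : EtCoh.H (Spec Rc) F (q + 1)) : x = 0 := by
  have htop : D Rc (0 + 1) = ⊤ := by
    show (Spec Rc).basicOpen (0 + 1 : Γ(Spec Rc, ⊤)) = ⊤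
    rw [zero_add, Scheme.basicOpen_one]
  haveI := isIso_cO_top (D Rc (0 + 1)) htop
  have h0 : (Ext.mk₀ (cO (D Rc (0 + 1)))).comp x (zero_add (q + 1)) = 0 :=
    ext_eq_zero Rc hs q F hP 0 1 _
  have h1 : x = (Ext.mk₀ (inv (cO (D Rc (0 + 1))))).comp
      ((Ext.mk₀ (cO (D Rc (0 + 1)))).comp x (zero_add (q + 1))) (zero_add (q + 1)) := by
    rw [← Ext.comp_assoc_of_second_deg_zero, Ext.mk₀_comp_mk₀, IsIso.inv_hom_id, Ext.mk₀_id_comp]
  rw [h1, h0, Ext.comp_zero]

theorem P_of_hker (F : EtCoh.Ab (Spec Rc))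
    (hker : ∀ (f g : Γ(Spec Rc, ⊤))
      [PreservesFiniteLimits (EtCoh.pull ((Spec Rc).homOfLE
        (((Spec Rc).basicOpen_mul f (f + g)).trans_le inf_le_right)))]
      [PreservesFiniteLimits (EtCoh.pull ((Spec Rc).homOfLE
        (((Spec Rc).basicOpen_mul g (f + g)).trans_le inf_le_right)))]
      (ξ : EtCoh.H ↑((Spec Rc).basicOpen (f + g))
        ((EtCoh.pull ((Spec Rc).basicOpen (f + g)).ι).obj F) 1),
      EtCore.HpullVia ((Spec Rc).homOfLE (((Spec Rc).basicOpen_mul f (f + g)).trans_le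
        inf_le_right)) ((Spec Rc).basicOpen (f + g)).ι ((Spec Rc).basicOpen (f * (f + g))).ι
        ((Spec Rc).homOfLE_ι (((Spec Rc).basicOpen_mul f (f + g)).trans_le inf_le_right))
        F 1 ξ = 0 →
      EtCore.HpullVia ((Spec Rc).homOfLE (((Spec Rc).basicOpen_mul g (f + g)).trans_le
        inf_le_right)) ((Spec Rc).basicOpen (f + g)).ι ((Spec Rc).basicOpen (g * (f + g))).ι
        ((Spec Rc).homOfLE_ι (((Spec Rc).basicOpen_mul g (f + g)).trans_le inf_le_right))
        F 1 ξ = 0 →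
      ξ = 0) : P Rc F := by
  intro f g y hU hV
  obtain ⟨hle1, h1⟩ := hU
  obtain ⟨hle2, h2⟩ := hV
  haveI i1 : PreservesFiniteLimits (EtCoh.pull ((Spec Rc).homOfLE hle1)) :=
    preservesFiniteLimits_pull _
  haveI i2 : PreservesFiniteLimits (EtCoh.pull ((Spec Rc).homOfLE hle2)) :=
    preservesFiniteLimits_pull _
  haveI i3 : PreservesFiniteLimits (EtCoh.pull (D Rc (f + g)).ι) :=
    preservesFiniteLimits_pull _
  haveI i4 : PreservesFiniteLimits (EtCoh.pull (D Rc (f * (f + g))).ι) :=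
    preservesFiniteLimits_pull _
  haveI i5 : PreservesFiniteLimits (EtCoh.pull (D Rc (g * (f + g))).ι) :=
    preservesFiniteLimits_pull _
  apply (θ (D Rc (f + g)).ι F 1).injective
  rw [map_zero]
  apply hker f g
  · have h := θ_a ((Spec Rc).homOfLE hle1) (D Rc (f + g)).ι (D Rc (f * (f + g))).ι
      ((Spec Rc).homOfLE_ι hle1) F 1 y
    rw [← h]
    have h1' : (Ext.mk₀ (a ((Spec Rc).homOfLE hle1) (D Rc (f + g)).ι (D Rc (f * (f + g))).ι
      ((Spec Rc).homOfLE_ι hle1))).comp y (zero_add 1) = 0 := h1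
    rw [h1', map_zero]
  · have h := θ_a ((Spec Rc).homOfLE hle2) (D Rc (f + g)).ι (D Rc (g * (f + g))).ι
      ((Spec Rc).homOfLE_ι hle2) F 1 y
    rw [← h]
    have h2' : (Ext.mk₀ (a ((Spec Rc).homOfLE hle2) (D Rc (f + g)).ι (D Rc (g * (f + g))).ι
      ((Spec Rc).homOfLE_ι hle2))).comp y (zero_add 1) = 0 := h2
    rw [h2', map_zero]

end Affine

theorem strictHens_of_ringEquiv {A B : Type u} [CommRing A] [CommRing B] (e : A ≃+* B)
    (hA : EtCoh.IsStrictlyHenselianLocalRing A) : EtCoh.IsStrictlyHenselianLocalRing B := by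
  obtain ⟨hH, hS⟩ := id hA
  haveI : IsLocalRing A := inferInstance
  haveI : IsLocalRing B := e.isLocalRing
  exact Groth.Agent.Helper3.StrictHensFinite.main (e : A →+* B)
    (RingHom.Finite.of_surjective _ e.surjective) hA

theorem strictHens_stalk (R : Type u) [CommRing R]
    (hR : ∀ p : PrimeSpectrum R,
      EtCoh.IsStrictlyHenselianLocalRing (Localization.AtPrime p.asIdeal))
    (x : Spec (CommRingCat.of R)) :
    EtCoh.IsStrictlyHenselianLocalRing ((Spec (CommRingCat.of R)).presheaf.stalk x) := by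
  let x' : PrimeSpectrum.Top R := x
  have e := StructureSheaf.stalkIso R x'
  exact strictHens_of_ringEquiv e.toRingEquiv (hR x')

theorem main (R : Type u) [CommRing R]
    (hR : ∀ p : PrimeSpectrum R,
      EtCoh.IsStrictlyHenselianLocalRing (Localization.AtPrime p.asIdeal))
    (F : EtCoh.Ab (Spec (CommRingCat.of R)))
    (hker : ∀ (f g : Γ((Spec (CommRingCat.of R)), ⊤))
      [PreservesFiniteLimits (EtCoh.pull ((Spec (CommRingCat.of R)).homOfLE (((Spec (CommRingCat.of R)).basicOpen_mul f (f + g)).trans_le inf_le_right)))]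
      [PreservesFiniteLimits (EtCoh.pull ((Spec (CommRingCat.of R)).homOfLE (((Spec (CommRingCat.of R)).basicOpen_mul g (f + g)).trans_le inf_le_right)))]
      (ξ : EtCoh.H ↑((Spec (CommRingCat.of R)).basicOpen (f + g)) ((EtCoh.pull ((Spec (CommRingCat.of R)).basicOpen (f + g)).ι).obj F) 1),
      EtCore.HpullVia ((Spec (CommRingCat.of R)).homOfLE (((Spec (CommRingCat.of R)).basicOpen_mul f (f + g)).trans_le inf_le_right)) ((Spec (CommRingCat.of R)).basicOpen (f + g)).ι ((Spec (CommRingCat.of R)).basicOpen (f * (f + g))).ι ((Spec (CommRingCat.of R)).homOfLE_ι (((Spec (CommRingCat.of R)).basicOpen_mul f (f + g)).trans_le inf_le_right)) F 1 ξ = 0 →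
      EtCore.HpullVia ((Spec (CommRingCat.of R)).homOfLE (((Spec (CommRingCat.of R)).basicOpen_mul g (f + g)).trans_le inf_le_right)) ((Spec (CommRingCat.of R)).basicOpen (f + g)).ι ((Spec (CommRingCat.of R)).basicOpen (g * (f + g))).ι ((Spec (CommRingCat.of R)).homOfLE_ι (((Spec (CommRingCat.of R)).basicOpen_mul g (f + g)).trans_le inf_le_right)) F 1 ξ = 0 →
      ξ = 0)
    (q : ℕ) (hq : 1 ≤ q) : Subsingleton (EtCoh.H (Spec (CommRingCat.of R)) F q) := by
  obtain ⟨q', rfl⟩ : ∃ q', q = q' + 1 := ⟨q - 1, by omega⟩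
  have hP : P (CommRingCat.of R) F := P_of_hker (CommRingCat.of R) F hker
  exact subsingleton_of_forall_eq 0
    (H_eq_zero (CommRingCat.of R) (strictHens_stalk R hR) F hP q')

end Groth.Agent.Helper9.GabD
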