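import Mathlib
import Groth.Prelude.Def_EtCore

set_option autoImplicit false

namespace Groth.Agent.Helper9.GalCover

open CategoryTheory CategoryTheory.Limits AlgebraicGeometry Opposite

universe u w v₁ u₁

section Abstract

variable {C : Type u₁} [Category.{v₁} C] {T : C} (hT : IsTerminal T) (Y : C) [HasBinaryProduct Y Y]
  {G : Type*} (σ : G → (Y ⟶ Y)) (P : Cᵒᵖ ⥤ Type w)

theorem isSheafFor_singleton_iff
    (hP : Function.Injective (fun s : P.obj (op (Y ⨯ Y)) => fun g : G =>
      P.map (prod.lift (𝟙 Y) (σ g)).op s)) :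
    Presieve.IsSheafFor P (Presieve.singleton (hT.from Y)) ↔
      (Function.Injective (P.map (hT.from Y).op) ∧
        Set.range (P.map (hT.from Y).op) = {s | ∀ g : G, P.map (σ g).op s = s}) := by
  have hterm : ∀ {Z : C} (a b : Z ⟶ T), a = b := fun a b => hT.hom_ext a b
  have hinvf : ∀ g : G, σ g ≫ hT.from Y = hT.from Y := fun g => hterm _ _
  have hrange_inv : ∀ (x : P.obj (op T)) (g : G),
      P.map (σ g).op (P.map (hT.from Y).op x) = P.map (hT.from Y).op x := by
    intro x g
    rw [← Functor.map_comp_apply, ← op_comp, hinvf]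
  have hcompat : ∀ y : P.obj (op Y), (∀ g : G, P.map (σ g).op y = y) →
      Presieve.Arrows.Compatible P (fun _ : PUnit.{1} => hT.from Y) (fun _ => y) := by
    intro y hy _ _ Z g₁ g₂ _
    have key : P.map (prod.fst : Y ⨯ Y ⟶ Y).op y = P.map (prod.snd : Y ⨯ Y ⟶ Y).op y := by
      apply hP
      funext g
      change P.map (prod.lift (𝟙 Y) (σ g)).op (P.map (prod.fst : Y ⨯ Y ⟶ Y).op y) =
        P.map (prod.lift (𝟙 Y) (σ g)).op (P.map (prod.snd : Y ⨯ Y ⟶ Y).op y)
      rw [← Functor.map_comp_apply, ← Functor.map_comp_apply, ← op_comp, ← op_comp,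
        prod.lift_fst, prod.lift_snd, op_id, Functor.map_id_apply]
      exact (hy g).symm
    have h1 : P.map g₁.op y = P.map (prod.lift g₁ g₂).op (P.map (prod.fst : Y ⨯ Y ⟶ Y).op y) := by
      rw [← Functor.map_comp_apply, ← op_comp, prod.lift_fst]
    have h2 : P.map g₂.op y = P.map (prod.lift g₁ g₂).op (P.map (prod.snd : Y ⨯ Y ⟶ Y).op y) := by
      rw [← Functor.map_comp_apply, ← op_comp, prod.lift_snd]
    exact h1.trans ((congrArg _ key).trans h2.symm)
  have hinv_of_compat : ∀ y : P.obj (op Y),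
      Presieve.Arrows.Compatible P (fun _ : PUnit.{1} => hT.from Y) (fun _ => y) →
      ∀ g : G, P.map (σ g).op y = y := by
    intro y hy g
    have := hy PUnit.unit PUnit.unit Y (σ g) (𝟙 Y) (hterm _ _)
    simpa using this
  rw [← Presieve.ofArrows_pUnit.{0}, Presieve.isSheafFor_arrows_iff]
  constructor
  · intro h
    refine ⟨fun x x' hxx' => ?_, Set.eq_of_subset_of_subset ?_ ?_⟩
    · obtain ⟨t, -, ht⟩ := h (fun _ => P.map (hT.from Y).op x) (hcompat _ (hrange_inv x))
      exact (ht x (fun _ => rfl)).trans (ht x' (fun _ => hxx'.symm)).symm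
    · rintro _ ⟨x, rfl⟩
      exact hrange_inv x
    · intro y hy
      obtain ⟨t, ht, -⟩ := h (fun _ => y) (hcompat y hy)
      exact ⟨t, ht PUnit.unit⟩
  · rintro ⟨hinj, hrange⟩ x hx
    have hxinv : ∀ g : G, P.map (σ g).op (x PUnit.unit) = x PUnit.unit :=
      hinv_of_compat (x PUnit.unit) (fun i j => hx i j)
    have hmem : x PUnit.unit ∈ Set.range (P.map (hT.from Y).op) := by
      rw [hrange]; exact hxinv
    obtain ⟨t, ht⟩ := hmem
    exact ⟨t, fun _ => ht, fun t' ht' => hinj ((ht' PUnit.unit).trans ht.symm)⟩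

end Abstract

section Surj

variable {X : Scheme.{u}} {W : X.Etale} {ι : Type*} {Z : ι → X.Etale} (f : ∀ i, Z i ⟶ W)

set_option backward.isDefEq.respectTransparency false in
/-- a colimit cofan in the small étale site is jointly surjective -/
theorem iUnion_range_eq_univ_of_isColimit (hc : IsColimit (Cofan.mk W f)) :
    ⋃ i, Set.range (f i).left.base = Set.univ := by
  let U : W.left.Opens := ⟨⋃ i, Set.range (f i).left.base,
    isOpen_iUnion fun i => (f i).left.isOpenMap.isOpen_range⟩
  have hU : ∀ i, Set.range (f i).left.base ⊆ Set.range U.ι.base := by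
    intro i
    rw [Scheme.Opens.range_ι]
    exact Set.subset_iUnion (fun i => Set.range (f i).left.base) i
  let V : X.Etale := Scheme.Etale.mk (U.ι ≫ W.hom)
  let j : V ⟶ W := MorphismProperty.Over.homMk U.ι rfl trivial
  let k : ∀ i, Z i ⟶ V := fun i =>
    MorphismProperty.Over.homMk (IsOpenImmersion.lift U.ι (f i).left (hU i))
      (by
        change IsOpenImmersion.lift U.ι (f i).left (hU i) ≫ U.ι ≫ W.hom = (Z i).hom
        rw [IsOpenImmersion.lift_fac_assoc]
        exact CategoryTheory.Over.w (f i).toCommaMorphism) trivial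
  let r : W ⟶ V := hc.desc (Cofan.mk V k)
  have hr : ∀ i, f i ≫ r = k i := fun i => hc.fac (Cofan.mk V k) ⟨i⟩
  have hkj : ∀ i, k i ≫ j = f i := by
    intro i
    apply MorphismProperty.Over.Hom.ext
    change IsOpenImmersion.lift U.ι (f i).left (hU i) ≫ U.ι = (f i).left
    exact IsOpenImmersion.lift_fac _ _ _
  have hrj : r ≫ j = 𝟙 W := by
    apply hc.hom_ext
    rintro ⟨i⟩
    change f i ≫ r ≫ j = f i ≫ 𝟙 W
    rw [← Category.assoc, hr, hkj, Category.comp_id]
  apply Set.eq_univ_of_forall
  intro w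
  have h1 : (r ≫ j).left.base w = w := by rw [hrj]; rfl
  have h2 : (r ≫ j).left.base w = U.ι.base (r.left.base w) := rfl
  have h3 : U.ι.base (r.left.base w) ∈ (U : Set W.left) := (r.left.base w).2
  rw [← h2, h1] at h3
  exact h3

end Surj

section Main

variable (X : Scheme.{u}) (Y : X.Etale) (hY : Function.Surjective Y.hom.base)
  {G : Type u} [Group G] (σ : G →* Aut Y)

include hY in
set_option backward.isDefEq.respectTransparency false in
theorem sect_top (hgal : Nonempty (IsColimit (Cofan.mk (Y ⨯ Y)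
      (fun g : G => prod.lift (𝟙 Y) (σ g).hom)))) (F : EtCoh.Ab X) :
    Function.Injective (F.obj.map ((EtCore.topIsTerminal X).from Y).op) ∧
      Set.range (F.obj.map ((EtCore.topIsTerminal X).from Y).op) =
        {s : EtCoh.sect F Y | ∀ g : G, F.obj.map (σ g).hom.op s = s} := by
  obtain ⟨hc⟩ := hgal
  have hs : Presieve.IsSheaf X.smallEtaleTopology (F.obj ⋙ forget AddCommGrpCat) :=
    (isSheaf_iff_isSheaf_of_type _ _).mp
      ((Presheaf.isSheaf_iff_isSheaf_forget _ _ (forget AddCommGrpCat)).mp F.property)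
  -- the singleton is covering
  have hcov1 : Sieve.ofArrows (fun _ : PUnit.{1} => Y)
      (fun _ => (EtCore.topIsTerminal X).from Y) ∈ X.smallEtaleTopology (EtCoh.top X) := by
    rw [Scheme.ofArrows_mem_smallEtaleTopology_iff]
    apply Set.eq_univ_of_forall
    intro x
    obtain ⟨y, rfl⟩ := hY x
    refine Set.mem_iUnion.mpr ⟨PUnit.unit, y, ?_⟩
    have hw := CategoryTheory.Over.w ((EtCore.topIsTerminal X).from Y).toCommaMorphism
    have : ((EtCore.topIsTerminal X).from Y).left = Y.hom :=
      (Category.comp_id _).symm.trans hw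
    rw [this]
    rfl
  have hsheaf : Presieve.IsSheafFor (F.obj ⋙ forget AddCommGrpCat)
      (Presieve.singleton ((EtCore.topIsTerminal X).from Y)) := by
    rw [← Presieve.ofArrows_pUnit.{0}, Presieve.isSheafFor_iff_generate]
    exact hs _ hcov1
  -- the Galois family is covering
  have hcov2 : Sieve.ofArrows (fun _ : G => Y)
      (fun g => prod.lift (𝟙 Y) (σ g).hom) ∈ X.smallEtaleTopology (Y ⨯ Y) := by
    rw [Scheme.ofArrows_mem_smallEtaleTopology_iff]
    exact iUnion_range_eq_univ_of_isColimit _ hc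
  have hsep : Presieve.IsSheafFor (F.obj ⋙ forget AddCommGrpCat)
      (Presieve.ofArrows (fun _ : G => Y) (fun g => prod.lift (𝟙 Y) (σ g).hom)) := by
    rw [Presieve.isSheafFor_iff_generate]
    exact hs _ hcov2
  have hPinj : Function.Injective (fun s : (F.obj ⋙ forget AddCommGrpCat).obj (op (Y ⨯ Y)) =>
      fun g : G => (F.obj ⋙ forget AddCommGrpCat).map (prod.lift (𝟙 Y) (σ g).hom).op s) := by
    intro s t hst
    apply hsep.isSeparatedFor.ext
    rintro _ _ ⟨g⟩
    exact congrFun hst g
  exact (isSheafFor_singleton_iff (EtCore.topIsTerminal X) Y (fun g => (σ g).hom)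
    (F.obj ⋙ forget AddCommGrpCat) hPinj).mp hsheaf

end Main

end Groth.Agent.Helper9.GalCover
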