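import Mathlib
import Groth.Prelude.Def_LocCohZ
import Groth.Agent.Helper9.ClosedAdj

set_option autoImplicit false

/-!
# Sections of `Γ_Z F`: the sections of `F` vanishing on `U`
-/

namespace Groth.Agent.Helper9.GammaZSect

open CategoryTheory TopologicalSpace Opposite Limits
open Groth.Agent.Helper1.CohTopAdj Groth.Agent.Helper1.CohTopFun Groth.Agent.Helper9.ClosedAdj

universe u

variable {X : TopCat.{u}} (U : Opens X)

/-- the inclusion `Γ_Z F ⟶ F` on sections -/
noncomputable abbrev ιs (F : CohTop.Ab X) (V : Opens X) :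
    ((LocCohZ.sectSuppF U).obj F).obj.obj (op V) ⟶ F.obj.obj (op V) :=
  ((ιΓ U).app F).hom.app (op V)

lemma ιs_injective (F : CohTop.Ab X) (V : Opens X) : Function.Injective (ιs U F V) :=
  injective_app_of_mono ((ιΓ U).app F) V

lemma ιs_naturality {F G : CohTop.Ab X} (φ : F ⟶ G) (V : Opens X)
    (t : ToType (((LocCohZ.sectSuppF U).obj F).obj.obj (op V))) :
    ιs U G V (((LocCohZ.sectSuppF U).map φ).hom.app (op V) t) = φ.hom.app (op V) (ιs U F V t) := by
  have h := (ιΓ U).naturality φ
  simp only [Functor.id_map] at h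
  have h2 := congrArg (fun ψ : (LocCohZ.sectSuppF U).obj F ⟶ G => ψ.hom.app (op V) t) h
  exact h2

lemma ιs_res (F : CohTop.Ab X) {V V' : Opens X} (h : V' ≤ V)
    (t : ToType (((LocCohZ.sectSuppF U).obj F).obj.obj (op V))) :
    ιs U F V' (((LocCohZ.sectSuppF U).obj F).obj.map (homOfLE h).op t) =
      F.obj.map (homOfLE h).op (ιs U F V t) := by
  have := ((ιΓ U).app F).hom.naturality (homOfLE h).op
  exact congrArg (fun ψ => ψ t) (congrArg (fun ψ => (ConcreteCategory.hom ψ)) this)

/-- sections of `Γ_Z F` vanish on opens contained in `U` -/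
lemma ιs_res_eq_zero (F : CohTop.Ab X) {V W : Opens X} (h : W ≤ V) (hW : W ≤ U)
    (t : ToType (((LocCohZ.sectSuppF U).obj F).obj.obj (op V))) :
    F.obj.map (homOfLE h).op (ιs U F V t) = 0 := by
  rw [← ιs_res, sect_eq_zero U F W hW (((LocCohZ.sectSuppF U).obj F).obj.map (homOfLE h).op t),
    map_zero]

lemma inf_le_jObj (V : Opens X) : V ⊓ U ≤ jObj U ((Opens.map (CohCx.incl U)).obj V) := by
  intro x hx
  exact ⟨⟨x, hx.2⟩, hx.1, rfl⟩

/-- a section of `F` vanishing on `V ⊓ U` comes from `Γ_Z F` -/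
lemma exists_lift (F : CohTop.Ab X) (V : Opens X) (s : ToType (F.obj.obj (op V)))
    (hs : F.obj.map (homOfLE (inf_le_left : V ⊓ U ≤ V)).op s = 0) :
    ∃ t : ToType (((LocCohZ.sectSuppF U).obj F).obj.obj (op V)), ιs U F V t = s := by
  -- `unitApp` kills `s`
  have h0 : (unitApp U F).hom.app (op V) s = 0 := by
    show F.obj.map (homOfLE (jObj_map_le U V)).op s = 0
    have hle : jObj U ((Opens.map (CohCx.incl U)).obj V) ≤ V ⊓ U := by
      rintro _ ⟨y, hy, rfl⟩
      exact ⟨hy, y.2⟩
    have : (homOfLE (jObj_map_le U V)).op = (homOfLE (inf_le_left : V ⊓ U ≤ V)).op ≫ (homOfLE hle).op :=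
      Subsingleton.elim _ _
    rw [this, F.obj.map_comp, ConcreteCategory.comp_apply, hs, map_zero]
  -- the unit kills `s`
  have h1 : ((ηj U).app F).hom.app (op V) s = 0 := by
    have hinj : Function.Injective
        (((CohTop.push (CohCx.incl U)).map ((pullIsoRestr U).hom.app F)).hom.app (op V)) :=
      injective_app_of_mono _ V
    apply hinj
    rw [map_zero]
    have h := unit_pullIsoRestr U F
    have h2 := congrArg (fun ψ : F ⟶ _ => ψ.hom.app (op V) s) h
    exact h2.trans h0
  -- exactness of sections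
  let f := (ηj U).app F
  let S : ShortComplex (CohTop.Ab X) := ShortComplex.mk (kernel.ι f) f (kernel.condition f)
  have hS : S.Exact := ShortComplex.exact_of_f_is_kernel _ (kernelIsKernel f)
  let G : CohTop.Ab X ⥤ AddCommGrpCat.{u} :=
    sheafToPresheaf (Opens.grothendieckTopology X) AddCommGrpCat.{u} ⋙
      (evaluation (Opens X)ᵒᵖ AddCommGrpCat.{u}).obj (op V)
  have hSG : (S.map G).Exact :=
    hS.map_of_mono_of_preservesKernel G (inferInstanceAs (Mono (kernel.ι f))) inferInstance
  rw [ShortComplex.ab_exact_iff] at hSG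
  exact hSG s h1

end Groth.Agent.Helper9.GammaZSect
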