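import Mathlib
import Groth.Prelude.Def_LocCohZ
import Groth.Agent.Helper9.GammaZSect
import Groth.Agent.Helper9.ExtObjDelta

set_option autoImplicit false

/-!
# `Γ_Z(X, -) ≅ Ext^0(ℤ_X/ℤ_U, -)` naturally, hence `R^qΓ_Z(X,-) ≅ Ext^q(ℤ_X/ℤ_U, -)`
-/

namespace Groth.Agent.Helper9.GammaZExt

open CategoryTheory TopologicalSpace Opposite Limits Abelian
open Groth.Agent.Helper9.GammaZSect

universe u

variable {X : TopCat.{u}} (U : Opens X)

/-- `Γ_Z(X, F) → {s ∈ F(X) | s|_U = 0}` -/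
noncomputable def gammaHom (F : CohTop.Ab X) :
    ((LocCohZ.gammaZF U).obj F : Type u) →+ LocCohZ.sectZ F (le_top : U ≤ ⊤) where
  toFun := fun t => ⟨ιs U F ⊤ t, ιs_res_eq_zero U F le_top le_rfl t⟩
  map_zero' := by
    apply Subtype.ext
    exact map_zero (ιs U F ⊤).hom
  map_add' := fun a b => by
    apply Subtype.ext
    exact map_add (ιs U F ⊤).hom a b

lemma gammaHom_bijective (F : CohTop.Ab X) : Function.Bijective (gammaHom U F) :=
  ⟨fun a b h => ιs_injective U F ⊤ (congrArg Subtype.val h), fun s => by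
    obtain ⟨t, ht⟩ := exists_lift U F ⊤ s.1 (by
      have h1 : F.obj.map (homOfLE (le_top : U ≤ ⊤)).op s.1 = 0 := s.2
      have : (homOfLE (inf_le_left : (⊤ : Opens X) ⊓ U ≤ ⊤)).op =
          (homOfLE (le_top : U ≤ ⊤)).op ≫ (homOfLE (inf_le_right : (⊤ : Opens X) ⊓ U ≤ U)).op :=
        Subsingleton.elim _ _
      rw [this, F.obj.map_comp, ConcreteCategory.comp_apply, h1, map_zero])
    exact ⟨t, Subtype.ext ht⟩⟩

/-- `Γ_Z(X, F)` is the group of global sections of `F` vanishing on `U` -/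
noncomputable def gammaEquiv (F : CohTop.Ab X) :
    ((LocCohZ.gammaZF U).obj F : Type u) ≃+ LocCohZ.sectZ F (le_top : U ≤ ⊤) :=
  AddEquiv.ofBijective (gammaHom U F) (gammaHom_bijective U F)

lemma gammaEquiv_naturality {F G : CohTop.Ab X} (φ : F ⟶ G) (t : (LocCohZ.gammaZF U).obj F) :
    (gammaEquiv U G ((LocCohZ.gammaZF U).map φ t)).1 = φ.hom.app (op ⊤) (gammaEquiv U F t).1 :=
  ιs_naturality U φ ⊤ t

lemma addEquiv₀_mk₀ {𝒜 : Type*} [Category 𝒜] [Abelian 𝒜] [HasExt.{u} 𝒜] {A B : 𝒜} (a : A ⟶ B) :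
    Ext.addEquiv₀ (Ext.mk₀ a) = a := by
  rw [← Ext.addEquiv₀_symm_apply, AddEquiv.apply_symm_apply]

lemma sect0Equiv_naturality {F G : CohTop.Ab X} (φ : F ⟶ G) {W V : Opens X} (h : W ≤ V)
    (x : LocCohZ.HZ F 0 h) :
    (LocCohZ.sect0Equiv G h (LocCohZ.map φ 0 h x)).1 =
      φ.hom.app (op V) (LocCohZ.sect0Equiv F h x).1 := by
  obtain ⟨a, rfl⟩ := (Ext.mk₀_bijective _ _).2 x
  show CohFree.evalGen (Opens.grothendieckTopology X) V G
      (cokernel.π _ ≫ Ext.addEquiv₀ ((Ext.mk₀ a).comp (Ext.mk₀ φ) (add_zero 0))) =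
    φ.hom.app (op V) (CohFree.evalGen (Opens.grothendieckTopology X) V F
      (cokernel.π _ ≫ Ext.addEquiv₀ (Ext.mk₀ a)))
  rw [Ext.mk₀_comp_mk₀, addEquiv₀_mk₀, addEquiv₀_mk₀]
  rfl

/-- the components of the natural isomorphism -/
noncomputable def compEquiv (F : CohTop.Ab X) :
    (ToposFin.HZFunctor (LocCohZ.openSh U) 0).obj F ≃+ (LocCohZ.gammaZF U).obj F :=
  ((LocCohZ.HZcEquivHZFunctor F 0 U).symm.trans (LocCohZ.sect0Equiv F le_top)).trans
    (gammaEquiv U F).symm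

lemma HZcEquiv_symm_naturality {F G : CohTop.Ab X} (φ : F ⟶ G)
    (x : Abelian.Ext.{u} (ToposFin.quotZ (LocCohZ.openSh U)) F 0) :
    (LocCohZ.HZcEquivHZFunctor G 0 U).symm (x.comp (Ext.mk₀ φ) (add_zero 0)) =
      LocCohZ.map φ 0 le_top ((LocCohZ.HZcEquivHZFunctor F 0 U).symm x) := by
  show (Ext.mk₀ (LocCohZ.zqIsoQuotZ U).hom).comp
      (x.comp (Ext.mk₀ φ) (add_zero 0)) (zero_add 0) =
    ((Ext.mk₀ (LocCohZ.zqIsoQuotZ U).hom).comp x (zero_add 0)).comp (Ext.mk₀ φ) (add_zero 0)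
  rw [Ext.comp_assoc_of_third_deg_zero]

/-- `Ext^0(ℤ_X/ℤ_U, -) ≅ Γ_Z(X, -)` -/
noncomputable def natIso : ToposFin.HZFunctor (LocCohZ.openSh U) 0 ≅ LocCohZ.gammaZF U :=
  NatIso.ofComponents (fun F => (compEquiv U F).toAddCommGrpIso) (by
    intro F G φ
    apply AddCommGrpCat.hom_ext
    apply AddMonoidHom.ext
    intro (x : Abelian.Ext.{u} (ToposFin.quotZ (LocCohZ.openSh U)) F 0)
    show compEquiv U G (x.comp (Ext.mk₀ φ) (add_zero 0)) =
      (LocCohZ.gammaZF U).map φ (compEquiv U F x)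
    apply (gammaEquiv U G).injective
    apply Subtype.ext
    rw [gammaEquiv_naturality]
    show (gammaEquiv U G ((gammaEquiv U G).symm _)).1 =
      φ.hom.app (op ⊤) (gammaEquiv U F ((gammaEquiv U F).symm _)).1
    rw [AddEquiv.apply_symm_apply, AddEquiv.apply_symm_apply]
    show (LocCohZ.sect0Equiv G le_top ((LocCohZ.HZcEquivHZFunctor G 0 U).symm _)).1 = _
    rw [HZcEquiv_symm_naturality, sect0Equiv_naturality]
    rfl)

/-- `R^q Γ_Z(X, -) ≅ Ext^q(ℤ_X/ℤ_U, -)` -/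
theorem main (q : ℕ) :
    Nonempty (LocCohZ.RHZ U q ≅ ToposFin.HZFunctor (LocCohZ.openSh U) q) :=
  Groth.Agent.Helper9.ExtObjDelta.nonempty_iso_rightDerived
    (ToposFin.quotZ (LocCohZ.openSh U)) (LocCohZ.gammaZF U) (natIso U) q

end Groth.Agent.Helper9.GammaZExt
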