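import Mathlib
import Groth.Prelude.Def_W4c6eohyperellchar2Gc

namespace Groth.Agent.Helper9.GcMod

open W4c6eohyperellchar2

universe u

variable (c : ℕ) (k : Type u) [Field k] [CharP k 2] [PerfectRing k 2]

lemma coefX_X (n m : ℕ) : coefX (X c k n) m = if m = n ∧ 1 ≤ m ∧ m ≤ c then 1 else 0 := by
  unfold coefX X
  simp only
  split_ifs <;> first | rfl | (exfalso; omega)

lemma coefY_X (n m : ℕ) : coefY (X c k n) m = 0 := by
  unfold coefY X
  split_ifs <;> rfl

lemma coefX_Y (n m : ℕ) : coefX (Y c k n) m = 0 := by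
  unfold coefX Y
  split_ifs <;> rfl

lemma coefY_Y (n m : ℕ) : coefY (Y c k n) m = if m = n ∧ 1 ≤ m ∧ m ≤ c then 1 else 0 := by
  unfold coefY Y
  simp only
  split_ifs <;> first | rfl | (exfalso; omega)

lemma F_Y (n : ℕ) : F c k (Y c k n) = 0 := by
  unfold F
  refine Prod.ext ?_ ?_ <;> funext i <;> simp [coefX_Y]

lemma F_X_even (n : ℕ) (h : n % 2 = 0) (hn : n ≤ c) : F c k (X c k n) = X c k (n / 2) := by
  unfold F
  refine Prod.ext ?_ ?_
  · funext i
    simp only [coefX_X]
    unfold X
    simp only
    have hi := i.2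
    by_cases h2 : i.val + 1 = n / 2
    · rw [if_pos h2, if_pos (by omega), one_pow]
    · rw [if_neg h2, if_neg (by omega)]
      simp
  · funext i
    simp only [coefX_X]
    unfold X
    simp only [Pi.zero_apply]
    rw [if_neg (by omega)]
    simp

lemma F_X_odd (n : ℕ) (h : n % 2 = 1) (hn : n ≤ c) :
    F c k (X c k n) = Y c k (c - (n - 1) / 2) := by
  unfold F
  refine Prod.ext ?_ ?_
  · funext i
    simp only [coefX_X]
    unfold Y
    simp only [Pi.zero_apply]
    rw [if_neg (by omega)]
    simp
  · funext i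
    simp only [coefX_X]
    unfold Y
    simp only
    have hi := i.2
    by_cases h2 : i.val + 1 = c - (n - 1) / 2
    · rw [if_pos h2, if_pos (by omega), one_pow]
    · rw [if_neg h2, if_neg (by omega)]
      simp

lemma V_Y (n : ℕ) : V c k (Y c k n) = Y c k (2 * n) := by
  unfold V
  refine Prod.ext ?_ ?_
  · rfl
  · funext i
    simp only [coefY_Y, coefX_Y]
    unfold Y
    simp only
    have hi := i.2
    by_cases hpar : (i.val + 1) % 2 = 0
    · rw [if_pos hpar]
      by_cases h2 : i.val + 1 = 2 * n
      · rw [if_pos h2, if_pos (by omega), map_one]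
      · rw [if_neg h2, if_neg (by omega), map_zero]
    · rw [if_neg hpar, map_zero, if_neg (by omega)]

lemma V_X (n : ℕ) (h1 : 1 ≤ n) (hn : n ≤ c) : V c k (X c k n) = Y c k (2 * c - 2 * n + 1) := by
  unfold V
  refine Prod.ext ?_ ?_
  · rfl
  · funext i
    simp only [coefY_X, coefX_X]
    unfold Y
    simp only
    have hi := i.2
    by_cases hpar : (i.val + 1) % 2 = 0
    · rw [if_pos hpar, map_zero, if_neg (by omega)]
    · rw [if_neg hpar]
      by_cases h2 : i.val + 1 = 2 * c - 2 * n + 1
      · rw [if_pos h2, if_pos (by omega), map_one]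
      · rw [if_neg h2, if_neg (by omega), map_zero]

end Groth.Agent.Helper9.GcMod

namespace Groth.Agent.Helper9.GcMod

open W4c6eohyperellchar2

universe u

lemma decomp (c : ℕ) (k : Type u) [Field k] (v : GcMod c k) :
    v = ∑ i : Fin c, v.1 i • X c k (i.val + 1) + ∑ i : Fin c, v.2 i • Y c k (i.val + 1) := by
  classical
  refine Prod.ext ?_ ?_
  · funext i
    simp only [Prod.fst_add, Prod.fst_sum, Prod.smul_fst, Pi.add_apply, Finset.sum_apply,
      Pi.smul_apply, X, Y, smul_eq_mul, Pi.zero_apply, mul_zero, Finset.sum_const_zero, add_zero]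
    rw [Finset.sum_eq_single i]
    · simp
    · intro b _ hb
      rw [if_neg (fun h => hb (Fin.ext (by omega)).symm), mul_zero]
    · intro h; exact absurd (Finset.mem_univ i) h
  · funext i
    simp only [Prod.snd_add, Prod.snd_sum, Prod.smul_snd, Pi.add_apply, Finset.sum_apply,
      Pi.smul_apply, X, Y, smul_eq_mul, Pi.zero_apply, mul_zero, Finset.sum_const_zero, zero_add]
    rw [Finset.sum_eq_single i]
    · simp
    · intro b _ hb
      rw [if_neg (fun h => hb (Fin.ext (by omega)).symm), mul_zero]
    · intro h; exact absurd (Finset.mem_univ i) h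

end Groth.Agent.Helper9.GcMod
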