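import Mathlib
import Groth.Prelude.Def_Red
import Groth.Agent.Helper9.NeronClosed

set_option autoImplicit false

namespace Groth.Agent.Helper9.GenFibFaithful

open CategoryTheory CategoryTheory.Limits MonoidalCategory CartesianMonoidalCategory MonObj GrpObj
  AlgebraicGeometry Groth.Agent.Helper9.NeronClosed

universe u

/-- two morphisms to a separated scheme agreeing on a schematically dominant source are equal -/
theorem eq_of_comp_dominant {W Z G S : Scheme.{u}} (π : W ⟶ Z) [IsSchemeTheoreticallyDominant π]
    (a b : Z ⟶ G) (p : G ⟶ S) [IsSeparated p] (hab : a ≫ p = b ≫ p) (h : π ≫ a = π ≫ b) :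
    a = b := by
  have hb : π ≫ pullback.lift a b hab = (π ≫ a) ≫ pullback.diagonal p := by
    apply pullback.hom_ext
    · simp [pullback.lift_fst]
    · simp [h, pullback.lift_snd]
  obtain ⟨g, hg⟩ := exists_factor_of_dominant π (pullback.lift a b hab) (pullback.diagonal p)
    (π ≫ a) hb
  have h1 : a = g := by
    have := congrArg (fun t => t ≫ pullback.fst p p) hg
    simpa [pullback.lift_fst] using this.symm
  have h2 : b = g := by
    have := congrArg (fun t => t ≫ pullback.snd p p) hg
    simpa [pullback.lift_snd] using this.symm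
  rw [h1, h2]

/-- the base-change functor along a schematically dominant quasi-compact morphism is faithful on
morphisms from a flat scheme to a separated one -/
theorem eq_of_pullback_map_eq {S S' : Scheme.{u}} (f : S' ⟶ S) [IsSchemeTheoreticallyDominant f]
    [QuasiCompact f] {Z G : Over S} [Flat Z.hom] [IsSeparated G.hom] (a b : Z ⟶ G)
    (h : (Over.pullback f).map a = (Over.pullback f).map b) : a = b := by
  apply Over.OverMorphism.ext
  refine eq_of_comp_dominant (pullback.fst Z.hom f) a.left b.left G.hom ?_ ?_
  · rw [Over.w a, Over.w b]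
  · rw [← pullback_map_left_fst f a, ← pullback_map_left_fst f b, h]

open scoped Obj in
theorem isCommMonObj_of_bc {S S' : Scheme.{u}} (f : S' ⟶ S) [IsSchemeTheoreticallyDominant f]
    [QuasiCompact f] (G : Over S) [GrpObj G] [Flat G.hom] [IsSeparated G.hom]
    [IsCommMonObj (Red.bc f G)] : IsCommMonObj G := by
  refine ⟨?_⟩
  haveI : Flat (G ⊗ G).hom := by
    have h : (G ⊗ G).hom = pullback.fst G.hom G.hom ≫ G.hom := rfl
    rw [h]; infer_instance
  apply eq_of_pullback_map_eq f
  have hc := IsCommMonObj.mul_comm (Red.bc f G)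
  have hμ : μ[Red.bc f G] = Functor.LaxMonoidal.μ (Over.pullback f) G G ≫ (Over.pullback f).map μ[G] :=
    rfl
  rw [hμ, ← Functor.LaxBraided.braided_assoc, ← Functor.map_comp] at hc
  exact (cancel_epi (Functor.LaxMonoidal.μ (Over.pullback f) G G)).mp hc

end Groth.Agent.Helper9.GenFibFaithful
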