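import Mathlib
import Groth.Prelude.Def_W4bk4git07Quot
import Groth.Agent.Helper9.EffEpiQ

set_option autoImplicit false

namespace Groth.Agent.Helper9.GeomCat

open CategoryTheory CategoryTheory.Limits TopologicalSpace Opposite AlgebraicGeometry Topology
open MonoidalCategory CartesianMonoidalCategory

universe u

variable {S : Scheme.{u}} {G : Over S} [GrpObj G]

theorem isCatQuot_of_isGeomQuot {X Y : Over S} (a : AlgGrp.Action G X) (φ : X ⟶ Y)
    (h : GIT.IsGeomQuot a φ) : GIT.IsCatQuot a φ := by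
  refine ⟨h.inv, fun Z ψ hψ => ?_⟩
  have hq : IsQuotientMap φ.left.base := h.subm _ _ _ (IsPullback.id_vert φ.left)
  have hinj : ∀ U : Y.left.Opens, Function.Injective (φ.left.app U).hom :=
    fun U => (h.sections U).1
  have hconst : ∀ x x' : X.left, φ.left.base x = φ.left.base x' →
      ψ.left.base x = ψ.left.base x' := by
    intro x x' hx
    obtain ⟨w, hw1, hw2⟩ :=
      Scheme.Pullback.exists_preimage_pullback (f := φ.left) (g := φ.left) x x' hx
    obtain ⟨z, rfl⟩ := h.orbit w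
    have e1 : a.act.left.base z = x := by
      rw [← hw1]
      exact congrArg (fun k : (G ⊗ X).left ⟶ X.left => k.base z)
        (pullback.lift_fst a.act.left (snd G X).left h.inv.left).symm
    have e2 : (snd G X).left.base z = x' := by
      rw [← hw2]
      exact congrArg (fun k : (G ⊗ X).left ⟶ X.left => k.base z)
        (pullback.lift_snd a.act.left (snd G X).left h.inv.left).symm
    rw [← e1, ← e2]
    exact congrArg (fun k : (G ⊗ X).left ⟶ Z.left => k.base z) hψ.left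
  have hrange : ∀ (W₀ : Z.left.Opens) (V : Y.left.Opens) (eq : φ.left ⁻¹ᵁ V = ψ.left ⁻¹ᵁ W₀)
      (s : Γ(Z.left, W₀)),
      (ψ.left.appLE W₀ (φ.left ⁻¹ᵁ V) eq.le).hom s ∈ Set.range (φ.left.app V).hom := by
    intro W₀ V eq s
    have hr := (h.sections V).2
    have : (ψ.left.appLE W₀ (φ.left ⁻¹ᵁ V) eq.le).hom s ∈ {f | GIT.IsInvSection a φ V f} := by
      change GIT.IsInvSection a φ V _
      unfold GIT.IsInvSection
      have h1 := Scheme.Hom.appLE_comp_appLE a.act.left ψ.left W₀ (φ.left ⁻¹ᵁ V)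
        (a.act.left ⁻¹ᵁ (φ.left ⁻¹ᵁ V) ⊓ (snd G X).left ⁻¹ᵁ (φ.left ⁻¹ᵁ V)) eq.le inf_le_left
      have h2 := Scheme.Hom.appLE_comp_appLE (snd G X).left ψ.left W₀ (φ.left ⁻¹ᵁ V)
        (a.act.left ⁻¹ᵁ (φ.left ⁻¹ᵁ V) ⊓ (snd G X).left ⁻¹ᵁ (φ.left ⁻¹ᵁ V)) eq.le inf_le_right
      have h3 := Groth.Agent.Helper9.EffEpiQ.appLE_congr_hom _ _ hψ.left W₀
        (a.act.left ⁻¹ᵁ (φ.left ⁻¹ᵁ V) ⊓ (snd G X).left ⁻¹ᵁ (φ.left ⁻¹ᵁ V))
        (by rw [Scheme.Hom.comp_preimage, ← eq]; exact inf_le_left)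
        (by rw [Scheme.Hom.comp_preimage, ← eq]; exact inf_le_right)
      have := (h1.trans h3).trans h2.symm
      exact congrArg (fun k => k.hom s) this
    rw [← hr] at this
    exact this
  obtain ⟨m, hm, hmu⟩ := Groth.Agent.Helper9.EffEpiQ.existsUnique_desc_general
    φ.left hq hinj ψ.left hconst hrange
  have hw : m ≫ Z.hom = Y.hom := by
    apply Groth.Agent.Helper9.EffEpiQ.eq_of_comp_eq φ.left hq.surjective hinj
    rw [← Category.assoc, hm, Over.w ψ, Over.w φ]
  refine ⟨Over.homMk m hw, ?_, ?_⟩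
  · ext
    exact hm
  · intro χ' hχ'
    ext
    exact hmu χ'.left (congrArg CommaMorphism.left hχ')

end Groth.Agent.Helper9.GeomCat
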