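import Mathlib
import Groth.Prelude.Def_W4bk4git07Quot
import Groth.Agent.Helper9.EffEpiQ

set_option autoImplicit false

namespace Groth.Agent.Helper9.GeomCat2

open CategoryTheory CategoryTheory.Limits TopologicalSpace Opposite AlgebraicGeometry Topology
open MonoidalCategory CartesianMonoidalCategory

universe u

variable {S : Scheme.{u}} {G : Over S} [GrpObj G]

/-- pulling back a section along an invariant morphism gives an invariant section -/
theorem isInvSection_appLE {X Y Z : Over S} (a : AlgGrp.Action G X) (φ : X ⟶ Y) (ψ : X ⟶ Z)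
    (hψ : GIT.IsInvariant a ψ) (W₀ : Z.left.Opens) (V : Y.left.Opens)
    (hle : φ.left ⁻¹ᵁ V ≤ ψ.left ⁻¹ᵁ W₀) (s : Γ(Z.left, W₀)) :
    GIT.IsInvSection a φ V ((ψ.left.appLE W₀ (φ.left ⁻¹ᵁ V) hle).hom s) := by
  unfold GIT.IsInvSection
  have h1 := Scheme.Hom.appLE_comp_appLE a.act.left ψ.left W₀ (φ.left ⁻¹ᵁ V)
    (a.act.left ⁻¹ᵁ (φ.left ⁻¹ᵁ V) ⊓ (snd G X).left ⁻¹ᵁ (φ.left ⁻¹ᵁ V)) hle inf_le_left
  have h2 := Scheme.Hom.appLE_comp_appLE (snd G X).left ψ.left W₀ (φ.left ⁻¹ᵁ V)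
    (a.act.left ⁻¹ᵁ (φ.left ⁻¹ᵁ V) ⊓ (snd G X).left ⁻¹ᵁ (φ.left ⁻¹ᵁ V)) hle inf_le_right
  have h3 := Groth.Agent.Helper9.EffEpiQ.appLE_congr_hom _ _ hψ.left W₀
    (a.act.left ⁻¹ᵁ (φ.left ⁻¹ᵁ V) ⊓ (snd G X).left ⁻¹ᵁ (φ.left ⁻¹ᵁ V))
    (by
      rw [Scheme.Hom.comp_preimage]
      exact inf_le_left.trans (Scheme.Hom.preimage_mono _ hle))
    (by
      rw [Scheme.Hom.comp_preimage]
      exact inf_le_right.trans (Scheme.Hom.preimage_mono _ hle))
  have := (h1.trans h3).trans h2.symm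
  exact congrArg (fun k => k.hom s) this

/-- general criterion for a categorical quotient -/
theorem isCatQuot_of {X Y : Over S} (a : AlgGrp.Action G X) (φ : X ⟶ Y)
    (hinv : GIT.IsInvariant a φ) (hq : IsQuotientMap φ.left.base)
    (hsec : ∀ U : Y.left.Opens,
      Function.Injective (φ.left.app U) ∧ Set.range (φ.left.app U) = {f | GIT.IsInvSection a φ U f})
    (hconst : ∀ (Z : Over S) (ψ : X ⟶ Z), GIT.IsInvariant a ψ → ∀ x x' : X.left,
      φ.left.base x = φ.left.base x' → ψ.left.base x = ψ.left.base x') :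
    GIT.IsCatQuot a φ := by
  refine ⟨hinv, fun Z ψ hψ => ?_⟩
  have hinj : ∀ U : Y.left.Opens, Function.Injective (φ.left.app U).hom :=
    fun U => (hsec U).1
  have hrange : ∀ (W₀ : Z.left.Opens) (V : Y.left.Opens) (eq : φ.left ⁻¹ᵁ V = ψ.left ⁻¹ᵁ W₀)
      (s : Γ(Z.left, W₀)),
      (ψ.left.appLE W₀ (φ.left ⁻¹ᵁ V) eq.le).hom s ∈ Set.range (φ.left.app V).hom := by
    intro W₀ V eq s
    have hr := (hsec V).2
    have : (ψ.left.appLE W₀ (φ.left ⁻¹ᵁ V) eq.le).hom s ∈ {f | GIT.IsInvSection a φ V f} :=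
      isInvSection_appLE a φ ψ hψ W₀ V eq.le s
    rw [← hr] at this
    exact this
  obtain ⟨m, hm, hmu⟩ := Groth.Agent.Helper9.EffEpiQ.existsUnique_desc_general
    φ.left hq hinj ψ.left (hconst Z ψ hψ) hrange
  have hw : m ≫ Z.hom = Y.hom := by
    apply Groth.Agent.Helper9.EffEpiQ.eq_of_comp_eq φ.left hq.surjective hinj
    rw [← Category.assoc, hm, Over.w ψ, Over.w φ]
  refine ⟨Over.homMk m hw, ?_, ?_⟩
  · ext
    exact hm
  · intro χ' hχ'
    ext
    exact hmu χ'.left (congrArg CommaMorphism.left hχ')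

/-- an open with zero ring of sections is empty -/
theorem eq_bot_of_subsingleton {Y : Scheme.{u}} (U : Y.Opens) (h : Subsingleton Γ(Y, U)) :
    U = ⊥ := by
  rw [eq_bot_iff]
  intro y hy
  exfalso
  have h01 : (0 : Γ(Y, U)) = 1 := Subsingleton.elim _ _
  have := congrArg (Y.presheaf.germ U y hy).hom h01
  rw [map_zero, map_one] at this
  exact zero_ne_one this

section Mumford

variable {X Y : Over S} (a : AlgGrp.Action G X) (φ : X ⟶ Y)

theorem preimage_invariant {Z : Over S} (ψ : X ⟶ Z) (hψ : GIT.IsInvariant a ψ) (T : Set Z.left) :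
    a.act.left.base '' ((snd G X).left.base ⁻¹' (ψ.left.base ⁻¹' T)) ⊆ ψ.left.base ⁻¹' T := by
  rintro _ ⟨z, hz, rfl⟩
  change ψ.left.base (a.act.left.base z) ∈ T
  have h : ψ.left.base (a.act.left.base z) = ψ.left.base ((snd G X).left.base z) :=
    congrArg (fun k : (G ⊗ X).left ⟶ Z.left => k.base z) hψ.left
  rw [h]
  exact hz

variable (hii : ∀ U : Y.left.Opens,
      Function.Injective (φ.left.app U) ∧ Set.range (φ.left.app U) = {f | GIT.IsInvSection a φ U f})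
    (hiii : ∀ W : Set X.left, IsClosed W → a.act.left.base '' ((snd G X).left.base ⁻¹' W) ⊆ W →
      IsClosed (φ.left.base '' W))

include hii hiii in
theorem surjective_of : Function.Surjective φ.left.base := by
  have hcl : IsClosed (φ.left.base '' Set.univ) :=
    hiii Set.univ isClosed_univ (Set.subset_univ _)
  rw [Set.image_univ] at hcl
  let U : Y.left.Opens := ⟨(Set.range φ.left.base)ᶜ, hcl.isOpen_compl⟩
  have hpre : φ.left ⁻¹ᵁ U = ⊥ := by
    rw [eq_bot_iff]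
    intro x hx
    exact (hx ⟨x, rfl⟩).elim
  have hsub : Subsingleton Γ(Y.left, U) := by
    have hinj := (hii U).1
    have : Subsingleton Γ(X.left, φ.left ⁻¹ᵁ U) := by rw [hpre]; infer_instance
    exact hinj.subsingleton
  have hU : U = ⊥ := eq_bot_of_subsingleton U hsub
  intro y
  by_contra hy
  have : y ∈ U := hy
  rw [hU] at this
  exact this

include hii hiii in
theorem isQuotientMap_of (hi : GIT.IsInvariant a φ) : IsQuotientMap φ.left.base := by
  rw [isQuotientMap_iff_isClosed]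
  refine ⟨surjective_of a φ hii hiii, fun T =>
    ⟨fun hT => hT.preimage φ.left.continuous, fun hT => ?_⟩⟩
  have := hiii _ hT (preimage_invariant a φ hi T)
  rwa [Set.image_preimage_eq _ (surjective_of a φ hii hiii)] at this

include hii in
theorem basicOpen_transfer {Z : Over S} (ψ : X ⟶ Z) (hψ : GIT.IsInvariant a ψ)
    (U : Y.left.Opens) (V : Z.left.Opens) (hle : φ.left ⁻¹ᵁ U ≤ ψ.left ⁻¹ᵁ V)
    (p p' : X.left) (hpp' : φ.left.base p = φ.left.base p') (hpU : φ.left.base p ∈ U)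
    (c : Γ(Z.left, V)) (hc : ψ.left.base p ∈ Z.left.basicOpen c) :
    ψ.left.base p' ∈ Z.left.basicOpen c := by
  have hinvsec := isInvSection_appLE a φ ψ hψ V U hle c
  have hmem : (ψ.left.appLE V (φ.left ⁻¹ᵁ U) hle).hom c ∈ Set.range (φ.left.app U) := by
    rw [(hii U).2]; exact hinvsec
  obtain ⟨d, hd⟩ := hmem
  have hbo : X.left.basicOpen ((ψ.left.appLE V (φ.left ⁻¹ᵁ U) hle).hom c) =
      φ.left ⁻¹ᵁ U ⊓ ψ.left ⁻¹ᵁ (Z.left.basicOpen c) := by
    rw [Scheme.preimage_basicOpen]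
    exact Scheme.basicOpen_res _ _ _
  have hbo2 : X.left.basicOpen ((ψ.left.appLE V (φ.left ⁻¹ᵁ U) hle).hom c) =
      φ.left ⁻¹ᵁ (Y.left.basicOpen d) := by
    rw [Scheme.preimage_basicOpen]
    exact congrArg _ hd.symm
  have hp : p ∈ φ.left ⁻¹ᵁ U ⊓ ψ.left ⁻¹ᵁ (Z.left.basicOpen c) := ⟨hpU, hc⟩
  rw [← hbo, hbo2] at hp
  have hp' : p' ∈ φ.left ⁻¹ᵁ (Y.left.basicOpen d) := by
    change φ.left.base p' ∈ Y.left.basicOpen d
    rw [← hpp']; exact hp
  rw [← hbo2, hbo] at hp'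
  exact hp'.2

include hii hiii in
theorem const_on_fibres
    (hiii' : ∀ (J : Type u) (W : J → Set X.left),
      (∀ i, IsClosed (W i) ∧ a.act.left.base '' ((snd G X).left.base ⁻¹' W i) ⊆ W i) →
      φ.left.base '' (⋂ i, W i) = ⋂ i, φ.left.base '' W i)
    {Z : Over S} (ψ : X ⟶ Z) (hψ : GIT.IsInvariant a ψ) (x x' : X.left)
    (hx : φ.left.base x = φ.left.base x') : ψ.left.base x = ψ.left.base x' := by
  let Wf : Z.left.affineOpens → Set X.left := fun V => (ψ.left.base ⁻¹' (V.1 : Set Z.left))ᶜ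
  have hW : ∀ V, IsClosed (Wf V) ∧ a.act.left.base '' ((snd G X).left.base ⁻¹' Wf V) ⊆ Wf V :=
    fun V => ⟨(V.1.isOpen.preimage ψ.left.continuous).isClosed_compl,
      preimage_invariant a ψ hψ ((V.1 : Set Z.left)ᶜ)⟩
  have hinter : ⋂ V, Wf V = ∅ := by
    rw [Set.eq_empty_iff_forall_notMem]
    intro p hp
    obtain ⟨_, ⟨V, hV : IsAffineOpen V, rfl⟩, hpV, -⟩ :=
      Z.left.isBasis_affineOpens.exists_subset_of_mem_open (Set.mem_univ (ψ.left.base p))
        isOpen_univ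
    exact (Set.mem_iInter.mp hp ⟨V, hV⟩) hpV
  have h := hiii' _ Wf hW
  rw [hinter, Set.image_empty] at h
  have hnot : φ.left.base x ∉ ⋂ V, φ.left.base '' Wf V := by
    rw [← h]; exact Set.notMem_empty _
  obtain ⟨V, hV⟩ : ∃ V, φ.left.base x ∉ φ.left.base '' Wf V := by
    by_contra hcon
    exact hnot (Set.mem_iInter.mpr (fun V => by_contra (fun hV => hcon ⟨V, hV⟩)))
  let U : Y.left.Opens := ⟨(φ.left.base '' Wf V)ᶜ, (hiii _ (hW V).1 (hW V).2).isOpen_compl⟩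
  have hxU : φ.left.base x ∈ U := hV
  have hx'U : φ.left.base x' ∈ U := by rw [← hx]; exact hxU
  have hle : φ.left ⁻¹ᵁ U ≤ ψ.left ⁻¹ᵁ V.1 := by
    intro p hp
    by_contra hpV
    exact hp ⟨p, hpV, rfl⟩
  have hxV : ψ.left.base x ∈ V.1 := hle hxU
  have hx'V : ψ.left.base x' ∈ V.1 := hle hx'U
  apply Inseparable.eq
  rw [inseparable_iff_forall_isOpen]
  intro O hO
  constructor
  · intro hxO
    obtain ⟨c, hcO, hxc⟩ := V.2.exists_basicOpen_le (V := ⟨O, hO⟩) ⟨ψ.left.base x, hxO⟩ hxV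
    exact hcO (basicOpen_transfer a φ hii ψ hψ U V.1 hle x x' hx hxU c hxc)
  · intro hxO
    obtain ⟨c, hcO, hxc⟩ := V.2.exists_basicOpen_le (V := ⟨O, hO⟩) ⟨ψ.left.base x', hxO⟩ hx'V
    exact hcO (basicOpen_transfer a φ hii ψ hψ U V.1 hle x' x hx.symm hx'U c hxc)

end Mumford

end Groth.Agent.Helper9.GeomCat2
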