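import Mathlib
import Groth.Prelude.Def_StGerb
import Groth.Agent.Helper3.EquivOver
import Groth.Agent.Helper6.StkTools

/-! Gerbes over a site: unbundled form of the two gerbe conditions for the structure functor and
invariance under equivalences over the base (S16885). -/

set_option autoImplicit false
set_option backward.isDefEq.respectTransparency false
set_option backward.isDefEq.respectTransparency.types false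
universe v₃ u₃ v₂ u₂ v u

open CategoryTheory Functor

namespace Groth.Agent.Helper9.GerbTools

variable {C : Type u} [Category.{v} C] (J : GrothendieckTopology C)

/-- locally nonempty -/
def Q (𝒳 : BasedCategory.{v₂, u₂} C) : Prop :=
  ∀ U : C, ∃ R ∈ J U, ∀ ⦃V : C⦄ (f : V ⟶ U), R f → ∃ x : 𝒳.obj, 𝒳.p.obj x = V

/-- locally connected -/
def P (𝒳 : BasedCategory.{v₂, u₂} C) : Prop :=
  ∀ (U : C) (x x' : 𝒳.obj) (_ : 𝒳.p.obj x = U) (_ : 𝒳.p.obj x' = U),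
    ∃ R ∈ J U, ∀ ⦃V : C⦄ (f : V ⟶ U), R f →
      ∃ (x₀ : 𝒳.obj) (φ : x₀ ⟶ x) (ψ : x₀ ⟶ x'), 𝒳.p.IsHomLift f φ ∧ 𝒳.p.IsHomLift f ψ

variable {𝒳 : BasedCategory.{v₂, u₂} C} {𝒴 : BasedCategory.{v₃, u₃} C}

lemma locSurjObj_toSelf_iff : Gerb.LocSurjObj J (FibCat.toSelf 𝒳) ↔ Q J 𝒳 := by
  constructor
  · intro h U
    obtain ⟨R, hR, H⟩ := h U
    refine ⟨R, hR, fun V f hf => ?_⟩
    obtain ⟨x, g, hg⟩ := H f hf
    haveI : (𝟭 C).IsHomLift f g := hg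
    exact ⟨x, IsHomLift.domain_eq (𝟭 C) f g⟩
  · intro h U
    obtain ⟨R, hR, H⟩ := h U
    refine ⟨R, hR, fun V f hf => ?_⟩
    obtain ⟨x, hx⟩ := H f hf
    refine ⟨x, eqToHom hx ≫ f, ?_⟩
    exact IsHomLift.of_fac (𝟭 C) f (eqToHom hx ≫ f) hx rfl (by simp)

lemma locSurjHom_toSelf_iff : Gerb.LocSurjHom J (FibCat.toSelf 𝒳) ↔ P J 𝒳 := by
  constructor
  · intro h U x x' hx hx'
    subst hx
    have hb : (𝟭 C).IsHomLift (𝟙 (𝒳.p.obj x)) (eqToHom hx'.symm : 𝒳.p.obj x ⟶ 𝒳.p.obj x') :=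
      IsHomLift.of_fac (𝟭 C) _ _ rfl hx' (by simp)
    obtain ⟨R, hR, H⟩ := h x x' (eqToHom hx'.symm) hb
    refine ⟨R, hR, fun V f hf => ?_⟩
    obtain ⟨x₀, φ, ψ, hφ, hψ, -⟩ := H f hf
    exact ⟨x₀, φ, ψ, hφ, hψ⟩
  · intro h x x' b hb
    haveI : (𝟭 C).IsHomLift (𝟙 (𝒳.p.obj x)) b := hb
    have hx' : 𝒳.p.obj x' = 𝒳.p.obj x := IsHomLift.codomain_eq (𝟭 C) (𝟙 (𝒳.p.obj x)) b
    obtain ⟨R, hR, H⟩ := h (𝒳.p.obj x) x x' rfl hx'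
    refine ⟨R, hR, fun V f hf => ?_⟩
    obtain ⟨x₀, φ, ψ, hφ, hψ⟩ := H f hf
    refine ⟨x₀, φ, ψ, hφ, hψ, ?_⟩
    have h1 := IsHomLift.fac' 𝒳.p f φ
    have h2 := IsHomLift.fac' 𝒳.p f ψ
    have h3 := IsHomLift.fac' (𝟭 C) (𝟙 (𝒳.p.obj x)) b
    change 𝒳.p.map φ ≫ b = 𝒳.p.map ψ
    have h4 : b = eqToHom hx'.symm := by
      simpa using h3
    rw [h1, h2, h4]
    simp

lemma Q_of_functor (F : 𝒳 ⥤ᵇ 𝒴) (h : Q J 𝒳) : Q J 𝒴 := by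
  intro U
  obtain ⟨R, hR, H⟩ := h U
  refine ⟨R, hR, fun V f hf => ?_⟩
  obtain ⟨x, hx⟩ := H f hf
  exact ⟨F.obj x, (F.w_obj x).trans hx⟩

lemma P_of_equiv (F : 𝒳 ⥤ᵇ 𝒴) (G : 𝒴 ⥤ᵇ 𝒳)
    (ε : BasedFunctor.comp G F ≅ BasedFunctor.id 𝒴) (h : P J 𝒳) : P J 𝒴 := by
  intro U y y' hy hy'
  obtain ⟨R, hR, H⟩ := h U (G.obj y) (G.obj y') ((G.w_obj y).trans hy) ((G.w_obj y').trans hy')
  refine ⟨R, hR, fun V f hf => ?_⟩
  obtain ⟨x₀, φ, ψ, hφ, hψ⟩ := H f hf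
  haveI := hφ
  haveI := hψ
  haveI h1 : 𝒴.p.IsHomLift (𝟙 U) (ε.hom.toNatTrans.app y) := ε.hom.isHomLift hy
  haveI h2 : 𝒴.p.IsHomLift (𝟙 U) (ε.hom.toNatTrans.app y') := ε.hom.isHomLift hy'
  refine ⟨F.obj x₀, F.map φ ≫ ε.hom.toNatTrans.app y, F.map ψ ≫ ε.hom.toNatTrans.app y', ?_, ?_⟩
  · infer_instance
  · infer_instance

theorem isGerbeOver_toSelf_of_isEquivOver (F : 𝒳 ⥤ᵇ 𝒴) (hF : FibCat.IsEquivOver F)
    (h : Gerb.IsGerbeOver J (FibCat.toSelf 𝒳)) : Gerb.IsGerbeOver J (FibCat.toSelf 𝒴) := by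
  obtain ⟨G, -, ⟨ε⟩⟩ := hF
  exact ⟨(locSurjObj_toSelf_iff J).2 (Q_of_functor J F ((locSurjObj_toSelf_iff J).1 h.1)),
    (locSurjHom_toSelf_iff J).2 (P_of_equiv J F G ε ((locSurjHom_toSelf_iff J).1 h.2))⟩

theorem isGerbe_iff_of_isEquivOver {𝒳 𝒴 : BasedCategory.{v, max u v} C}
    (F : 𝒳 ⥤ᵇ 𝒴) (hF : FibCat.IsEquivOver F) :
    Gerb.IsGerbe J 𝒳 ↔ Gerb.IsGerbe J 𝒴 := by
  obtain ⟨G, hG, -, -⟩ := Groth.Agent.Helper3.EquivOver.symm hF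
  unfold Gerb.IsGerbe
  exact and_congr (Groth.Agent.Helper6.StkTools.isStack_iff_of_isEquivOver J F hF)
    ⟨isGerbeOver_toSelf_of_isEquivOver J F hF, isGerbeOver_toSelf_of_isEquivOver J G hG⟩

end Groth.Agent.Helper9.GerbTools
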