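import Mathlib
import Groth.Prelude.Def_SGA4a
import Groth.Agent.Helper9.ClosedCompl2

set_option autoImplicit false
universe v u
open CategoryTheory Limits

namespace Groth.Agent.Helper9.ClosedCompl

section Glue

variable {E : Type v} [Category.{u} E] [HasTerminal E] [HasBinaryProducts E] [HasPushouts E]
  (U : E) (hU : SGA4.IsOpen U)

include hU in
lemma full_forget : (Over.forget U).Full where
  map_surjective {X Y} f := ⟨Over.homMk f (hom_ext_U U hU _ _), rfl⟩

variable [(Over.star U).IsLeftAdjoint]

/-- the adjunction `j^* ⊣ j_*` -/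
noncomputable abbrev adjS : Over.star U ⊣ (Over.star U).rightAdjoint :=
  Adjunction.ofIsLeftAdjoint (Over.star U)

include hU in
lemma isIso_counitS : IsIso (adjS U).counit := by
  let t : Adjunction.Triple (Over.forget U) (Over.star U) (Over.star U).rightAdjoint :=
    ⟨Over.forgetAdjStar U, adjS U⟩
  haveI := full_forget U hU
  have : IsIso t.adj₁.unit := inferInstance
  exact t.isIso_unit_iff_isIso_counit.1 this

include hU in
lemma isIso_star_unit (X : E) : IsIso ((Over.star U).map ((adjS U).unit.app X)) := by
  haveI := isIso_counitS U hU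
  have h := (adjS U).left_triangle_components X
  have h1 : IsIso ((Over.star U).map ((adjS U).unit.app X) ≫
      (adjS U).counit.app ((Over.star U).obj X)) := by
    rw [h]
    exact IsIso.id _
  exact IsIso.of_isIso_comp_right _ ((adjS U).counit.app ((Over.star U).obj X))

variable (L : E ⥤ (SGA4.closedCompl U).FullSubcategory) (adj : L ⊣ (SGA4.closedCompl U).ι)

omit [HasTerminal E] [HasPushouts E] [(Over.star U).IsLeftAdjoint] in
lemma isIso_L_unit (A : E) : IsIso (L.map (adj.unit.app A)) := by
  have h := adj.left_triangle_components A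
  have h1 : IsIso (L.map (adj.unit.app A) ≫ adj.counit.app (L.obj A)) := by
    rw [h]
    exact IsIso.id _
  exact IsIso.of_isIso_comp_right _ (adj.counit.app (L.obj A))

omit [HasTerminal E] [HasPushouts E] [(Over.star U).IsLeftAdjoint] in
/-- `j^*` of a map between objects of the closed complement is an isomorphism -/
lemma isIso_star_map_of_closed {Y Z : E} (hY : SGA4.closedCompl U Y) (hZ : SGA4.closedCompl U Z)
    (f : Y ⟶ Z) : IsIso ((Over.star U).map f) := by
  have h1 : IsIso (prod.fst : U ⨯ Y ⟶ U) := hY
  have h2 : IsIso (prod.fst : U ⨯ Z ⟶ U) := hZ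
  have e : prod.map (𝟙 U) f ≫ (prod.fst : U ⨯ Z ⟶ U) = (prod.fst : U ⨯ Y ⟶ U) :=
    (prod.map_fst _ _).trans (Category.comp_id _)
  have h3 : IsIso (prod.map (𝟙 U) f ≫ (prod.fst : U ⨯ Z ⟶ U)) := by
    rw [e]
    exact h1
  have h4 : IsIso (prod.map (𝟙 U) f) := IsIso.of_isIso_comp_right _ (prod.fst : U ⨯ Z ⟶ U)
  have h5 : IsIso ((Over.forget U).map ((Over.star U).map f)) := h4
  exact isIso_of_reflects_iso _ (Over.forget U)

section Cons

variable [HasPullbacks E] [PreservesLimitsOfShape WalkingCospan L]
  (X' : Over U) (Y : (SGA4.closedCompl U).FullSubcategory)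
  (u : Y ⟶ L.obj ((Over.star U).rightAdjoint.obj X'))

/-- the glued object -/
noncomputable abbrev glueObj : E :=
  pullback (adj.unit.app ((Over.star U).rightAdjoint.obj X')) (((SGA4.closedCompl U).ι).map u)

omit [HasTerminal E] [HasPushouts E] [PreservesLimitsOfShape WalkingCospan L] in
lemma cons_star : IsIso ((Over.star U).map
    (pullback.fst (adj.unit.app ((Over.star U).rightAdjoint.obj X'))
      (((SGA4.closedCompl U).ι).map u))) := by
  have hpb := (IsPullback.of_hasPullback (adj.unit.app ((Over.star U).rightAdjoint.obj X'))
    (((SGA4.closedCompl U).ι).map u)).map (Over.star U)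
  have : IsIso ((Over.star U).map (((SGA4.closedCompl U).ι).map u)) :=
    isIso_star_map_of_closed U Y.property (L.obj ((Over.star U).rightAdjoint.obj X')).property u.hom
  exact hpb.isIso_fst_of_isIso

omit [HasTerminal E] [HasPushouts E] in
lemma cons_L : IsIso (L.map
    (pullback.snd (adj.unit.app ((Over.star U).rightAdjoint.obj X'))
      (((SGA4.closedCompl U).ι).map u))) := by
  have hpb := (IsPullback.of_hasPullback (adj.unit.app ((Over.star U).rightAdjoint.obj X'))
    (((SGA4.closedCompl U).ι).map u)).map L
  have : IsIso (L.map (adj.unit.app ((Over.star U).rightAdjoint.obj X'))) :=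
    isIso_L_unit U L adj _
  exact hpb.isIso_snd_of_isIso

end Cons

section Key

variable [HasPullbacks E] [PreservesLimitsOfShape WalkingCospan L] [Adhesive E]
  [PreservesColimitsOfShape WalkingSpan (prod.functor.obj U)]

include hU in
/-- the fundamental cartesian square -/
theorem key (X : E) :
    IsPullback ((adjS U).unit.app X) (adj.unit.app X)
      (adj.unit.app ((Over.star U).rightAdjoint.obj ((Over.star U).obj X)))
      (((SGA4.closedCompl U).ι).map (L.map ((adjS U).unit.app X))) := by
  have comm : (adjS U).unit.app X ≫
      adj.unit.app ((Over.star U).rightAdjoint.obj ((Over.star U).obj X)) =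
      adj.unit.app X ≫ ((SGA4.closedCompl U).ι).map (L.map ((adjS U).unit.app X)) :=
    adj.unit.naturality ((adjS U).unit.app X)
  let c : X ⟶ glueObj U L adj ((Over.star U).obj X) (L.obj X) (L.map ((adjS U).unit.app X)) :=
    pullback.lift _ _ comm
  have h1 : IsIso ((Over.star U).map c) := by
    haveI := cons_star U L adj ((Over.star U).obj X) (L.obj X) (L.map ((adjS U).unit.app X))
    have e : (Over.star U).map c ≫ (Over.star U).map (pullback.fst _ _) =
        (Over.star U).map ((adjS U).unit.app X) := by
      rw [← Functor.map_comp, pullback.lift_fst]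
    have h : IsIso ((Over.star U).map c ≫ (Over.star U).map (pullback.fst
        (adj.unit.app ((Over.star U).rightAdjoint.obj ((Over.star U).obj X)))
        (((SGA4.closedCompl U).ι).map (L.map ((adjS U).unit.app X))))) := by
      rw [e]
      exact isIso_star_unit U hU X
    exact IsIso.of_isIso_comp_right _ ((Over.star U).map (pullback.fst
        (adj.unit.app ((Over.star U).rightAdjoint.obj ((Over.star U).obj X)))
        (((SGA4.closedCompl U).ι).map (L.map ((adjS U).unit.app X)))))
  have h2 : IsIso (L.map c) := by
    haveI := cons_L U L adj ((Over.star U).obj X) (L.obj X) (L.map ((adjS U).unit.app X))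
    have e : L.map c ≫ L.map (pullback.snd _ _) = L.map (adj.unit.app X) := by
      rw [← Functor.map_comp, pullback.lift_snd]
    have h : IsIso (L.map c ≫ L.map (pullback.snd
        (adj.unit.app ((Over.star U).rightAdjoint.obj ((Over.star U).obj X)))
        (((SGA4.closedCompl U).ι).map (L.map ((adjS U).unit.app X))))) := by
      rw [e]
      exact isIso_L_unit U L adj X
    exact IsIso.of_isIso_comp_right _ (L.map (pullback.snd
        (adj.unit.app ((Over.star U).rightAdjoint.obj ((Over.star U).obj X)))
        (((SGA4.closedCompl U).ι).map (L.map ((adjS U).unit.app X)))))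
  have h3 : IsIso c := (s3084 U hU L adj c).2 ⟨h1, h2⟩
  exact IsPullback.of_iso_pullback ⟨comm⟩ (asIso c) (pullback.lift_fst _ _ _)
    (pullback.lift_snd _ _ _)

end Key

section Equiv

/-- the gluing functor -/
noncomputable def glueFunctor :
    E ⥤ Comma (𝟭 (SGA4.closedCompl U).FullSubcategory) ((Over.star U).rightAdjoint ⋙ L) where
  obj X := { left := L.obj X, right := (Over.star U).obj X, hom := L.map ((adjS U).unit.app X) }
  map {X X₂} f :=
    { left := L.map f
      right := (Over.star U).map f
      w := by
        show L.map f ≫ L.map ((adjS U).unit.app X₂) =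
          L.map ((adjS U).unit.app X) ≫ L.map ((Over.star U).rightAdjoint.map ((Over.star U).map f))
        rw [← L.map_comp, ← L.map_comp]
        exact congrArg L.map ((adjS U).unit.naturality f) }
  map_id X := by
    apply CommaMorphism.ext
    · exact L.map_id X
    · exact (Over.star U).map_id X
  map_comp f g := by
    apply CommaMorphism.ext
    · exact L.map_comp f g
    · exact (Over.star U).map_comp f g

variable [HasPullbacks E] [PreservesLimitsOfShape WalkingCospan L] [Adhesive E]
  [PreservesColimitsOfShape WalkingSpan (prod.functor.obj U)]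

include hU adj in
lemma glueFunctor_faithful : (glueFunctor U L).Faithful where
  map_injective {X X₂} f g hfg := by
    have hl : L.map f = L.map g := congrArg CommaMorphism.left hfg
    have hr : (Over.star U).map f = (Over.star U).map g := congrArg CommaMorphism.right hfg
    apply (key U hU L adj X₂).hom_ext
    · have h1 := (adjS U).unit.naturality f
      have h2 := (adjS U).unit.naturality g
      simp only [Functor.id_map, Functor.comp_map] at h1 h2
      rw [h1, h2, hr]
    · have h1 := adj.unit.naturality f
      have h2 := adj.unit.naturality g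
      simp only [Functor.id_map, Functor.comp_map] at h1 h2
      rw [h1, h2, hl]

include hU adj in
lemma glueFunctor_full : (glueFunctor U L).Full where
  map_surjective {X X₂} φ := by
    obtain ⟨a, ha⟩ : ∃ a : L.obj X ⟶ L.obj X₂, a = φ.left := ⟨_, rfl⟩
    obtain ⟨b, hb⟩ : ∃ b : (Over.star U).obj X ⟶ (Over.star U).obj X₂, b = φ.right := ⟨_, rfl⟩
    have hw : a ≫ L.map ((adjS U).unit.app X₂) =
        L.map ((adjS U).unit.app X) ≫ L.map ((Over.star U).rightAdjoint.map b) := by
      rw [ha, hb]
      exact φ.w
    have compat : ((adjS U).unit.app X ≫ (Over.star U).rightAdjoint.map b) ≫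
        adj.unit.app ((Over.star U).rightAdjoint.obj ((Over.star U).obj X₂)) =
        (adj.unit.app X ≫ ((SGA4.closedCompl U).ι).map a) ≫
          ((SGA4.closedCompl U).ι).map (L.map ((adjS U).unit.app X₂)) := by
      have h1 := adj.unit.naturality ((adjS U).unit.app X ≫ (Over.star U).rightAdjoint.map b)
      simp only [Functor.id_map, Functor.comp_map] at h1
      rw [h1, Category.assoc, ← Functor.map_comp, hw, L.map_comp]
      rfl
    let f : X ⟶ X₂ := (key U hU L adj X₂).lift _ _ compat
    have hf1 : f ≫ (adjS U).unit.app X₂ =
        (adjS U).unit.app X ≫ (Over.star U).rightAdjoint.map b :=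
      (key U hU L adj X₂).lift_fst _ _ compat
    have hf2 : f ≫ adj.unit.app X₂ = adj.unit.app X ≫ ((SGA4.closedCompl U).ι).map a :=
      (key U hU L adj X₂).lift_snd _ _ compat
    refine ⟨f, ?_⟩
    apply CommaMorphism.ext
    · show L.map f = φ.left
      rw [← ha]
      apply (adj.homEquiv X (L.obj X₂)).injective
      rw [Adjunction.homEquiv_unit, Adjunction.homEquiv_unit, ← hf2]
      exact (adj.unit.naturality f).symm
    · show (Over.star U).map f = φ.right
      rw [← hb]
      apply ((adjS U).homEquiv X ((Over.star U).obj X₂)).injective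
      rw [Adjunction.homEquiv_unit, Adjunction.homEquiv_unit, ← hf1]
      exact ((adjS U).unit.naturality f).symm

include hU adj in
lemma glueFunctor_essSurj : (glueFunctor U L).EssSurj where
  mem_essImage T := by
    haveI h1 := cons_star U L adj T.right T.left T.hom
    haveI h2 := cons_L U L adj T.right T.left T.hom
    haveI := isIso_counitS U hU
    let X : E := glueObj U L adj T.right T.left T.hom
    let p₁ : X ⟶ (Over.star U).rightAdjoint.obj T.right := pullback.fst _ _
    let p₂ : X ⟶ ((SGA4.closedCompl U).ι).obj T.left := pullback.snd _ _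
    have hcond : p₁ ≫ adj.unit.app ((Over.star U).rightAdjoint.obj T.right) =
        p₂ ≫ ((SGA4.closedCompl U).ι).map T.hom := pullback.condition
    haveI : IsIso ((Over.star U).map p₁) := h1
    haveI : IsIso (L.map p₂) := h2
    let α : L.obj X ≅ T.left := asIso (L.map p₂) ≪≫ asIso (adj.counit.app T.left)
    let β : (Over.star U).obj X ≅ T.right :=
      asIso ((Over.star U).map p₁) ≪≫ asIso ((adjS U).counit.app T.right)
    refine ⟨X, ⟨Comma.isoMk α β ?_⟩⟩
    show (L.map p₂ ≫ adj.counit.app T.left) ≫ T.hom =
      L.map ((adjS U).unit.app X) ≫ L.map ((Over.star U).rightAdjoint.map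
        ((Over.star U).map p₁ ≫ (adjS U).counit.app T.right))
    have e1 : (adjS U).unit.app X ≫ (Over.star U).rightAdjoint.map
        ((Over.star U).map p₁ ≫ (adjS U).counit.app T.right) = p₁ := by
      have h3 : p₁ ≫ (adjS U).unit.app ((Over.star U).rightAdjoint.obj T.right) =
          (adjS U).unit.app X ≫ (Over.star U).rightAdjoint.map ((Over.star U).map p₁) :=
        (adjS U).unit.naturality p₁
      calc (adjS U).unit.app X ≫ (Over.star U).rightAdjoint.map
            ((Over.star U).map p₁ ≫ (adjS U).counit.app T.right)
          = ((adjS U).unit.app X ≫ (Over.star U).rightAdjoint.map ((Over.star U).map p₁)) ≫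
              (Over.star U).rightAdjoint.map ((adjS U).counit.app T.right) := by
            rw [Functor.map_comp, Category.assoc]
        _ = (p₁ ≫ (adjS U).unit.app ((Over.star U).rightAdjoint.obj T.right)) ≫
              (Over.star U).rightAdjoint.map ((adjS U).counit.app T.right) := by rw [h3]
        _ = p₁ ≫ ((adjS U).unit.app ((Over.star U).rightAdjoint.obj T.right) ≫
              (Over.star U).rightAdjoint.map ((adjS U).counit.app T.right)) := Category.assoc _ _ _
        _ = p₁ ≫ 𝟙 _ := congrArg (p₁ ≫ ·) ((adjS U).right_triangle_components T.right)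
        _ = p₁ := Category.comp_id _
    have e2 : (L.map p₂ ≫ adj.counit.app T.left) ≫ T.hom = L.map p₁ := by
      have h4 : L.map (((SGA4.closedCompl U).ι).map T.hom) ≫
          adj.counit.app (L.obj ((Over.star U).rightAdjoint.obj T.right)) =
          adj.counit.app T.left ≫ T.hom := adj.counit.naturality T.hom
      calc (L.map p₂ ≫ adj.counit.app T.left) ≫ T.hom
          = L.map p₂ ≫ (adj.counit.app T.left ≫ T.hom) := Category.assoc _ _ _
        _ = L.map p₂ ≫ (L.map (((SGA4.closedCompl U).ι).map T.hom) ≫
              adj.counit.app (L.obj ((Over.star U).rightAdjoint.obj T.right))) := by rw [h4]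
        _ = L.map (p₂ ≫ ((SGA4.closedCompl U).ι).map T.hom) ≫
              adj.counit.app (L.obj ((Over.star U).rightAdjoint.obj T.right)) := by
            rw [L.map_comp, Category.assoc]
        _ = L.map (p₁ ≫ adj.unit.app ((Over.star U).rightAdjoint.obj T.right)) ≫
              adj.counit.app (L.obj ((Over.star U).rightAdjoint.obj T.right)) := by rw [hcond]
        _ = L.map p₁ ≫ (L.map (adj.unit.app ((Over.star U).rightAdjoint.obj T.right)) ≫
              adj.counit.app (L.obj ((Over.star U).rightAdjoint.obj T.right))) := by
            rw [L.map_comp, Category.assoc]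
        _ = L.map p₁ ≫ 𝟙 _ := congrArg (L.map p₁ ≫ ·) (adj.left_triangle_components _)
        _ = L.map p₁ := Category.comp_id _
    rw [e2, ← L.map_comp, e1]

include hU adj in
theorem glue_equiv : Nonempty (E ≌
    Comma (𝟭 (SGA4.closedCompl U).FullSubcategory) ((Over.star U).rightAdjoint ⋙ L)) := by
  haveI := glueFunctor_faithful U hU L adj
  haveI := glueFunctor_full U hU L adj
  haveI := glueFunctor_essSurj U hU L adj
  haveI : (glueFunctor U L).IsEquivalence := { }
  exact ⟨(glueFunctor U L).asEquivalence⟩

end Equiv

end Glue

end Groth.Agent.Helper9.ClosedCompl
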