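import Mathlib
import Groth.Prelude.Def_SGA4a
import Groth.Agent.Helper9.ClosedCompl3
import Groth.Agent.Helper9.Glue

set_option autoImplicit false
universe u
open CategoryTheory Limits

namespace Groth.Agent.Helper9.ClosedCompl

theorem s3085 {C : Type u} [SmallCategory C] (J : GrothendieckTopology C)
    (U : Sheaf J (Type u)) (hU : SGA4.IsOpen U) [(Over.star U).IsLeftAdjoint]
    (L : Sheaf J (Type u) ⥤ (SGA4.closedCompl U).FullSubcategory) (adj : L ⊣ (SGA4.closedCompl U).ι) :
    Nonempty (Sheaf J (Type u) ≌
      Comma (𝟭 (SGA4.closedCompl U).FullSubcategory) ((Over.star U).rightAdjoint ⋙ L)) := by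
  haveI : PreservesFiniteLimits L :=
    preservesFiniteLimits_of_natIso ((adjL J U).leftAdjointUniq adj)
  exact glue_equiv U hU L adj

end Groth.Agent.Helper9.ClosedCompl
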