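import Groth.Prelude.Def_GLin
import Mathlib
set_option autoImplicit false
set_option linter.unusedSectionVars false

namespace Groth.Agent.Helper9.GmSS

open TensorProduct LaurentPolynomial MvPolynomial

universe u

variable {k : Type u} [Field k] {ι : Type u} [Fintype ι]
  [HopfRep.Comod k k[T;T⁻¹] (MvPolynomial ι k)] [GLin.IsCoactAlg k k[T;T⁻¹] (MvPolynomial ι k)]

local notation "ρ" => (HopfRep.Comod.coact (k := k) (A := k[T;T⁻¹]) (V := MvPolynomial ι k))

/-- the weight of a monomial -/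
def wt (r : ι → ℤ) (s : ι →₀ ℕ) : ℤ := s.sum (fun i e => (e : ℤ) * r i)

lemma wt_add (r : ι → ℤ) (s t : ι →₀ ℕ) : wt r (s + t) = wt r s + wt r t := by
  unfold wt
  rw [Finsupp.sum_add_index']
  · intro i; simp
  · intro i a b; push_cast; ring

lemma wt_single (r : ι → ℤ) (i : ι) (n : ℕ) : wt r (Finsupp.single i n) = n * r i := by
  unfold wt
  rw [Finsupp.sum_single_index]
  simp

lemma coact_pow (f : MvPolynomial ι k) (n : ℕ) : ρ (f ^ n) = (ρ f) ^ n := by
  have := map_pow (GLin.coactAlgHom k k[T;T⁻¹] (MvPolynomial ι k)) f n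
  simpa using this

lemma coact_monomial (r : ι → ℤ)
    (hr : ∀ i : ι, ρ (X i) = (X i : MvPolynomial ι k) ⊗ₜ[k] (T (r i) : k[T;T⁻¹]))
    (s : ι →₀ ℕ) : ∀ c : k, ρ (monomial s c) = monomial s c ⊗ₜ[k] (T (wt r s) : k[T;T⁻¹]) := by
  induction s using Finsupp.induction with
  | zero =>
    intro c
    have e : (monomial (0 : ι →₀ ℕ) c : MvPolynomial ι k) = c • 1 := by
      rw [← MvPolynomial.C_apply, Algebra.smul_def, mul_one]; rfl
    rw [e, map_smul, GLin.IsCoactAlg.coact_one (k := k) (A := k[T;T⁻¹])]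
    simp [wt, Algebra.TensorProduct.one_def, TensorProduct.smul_tmul']
  | single_add i n s' _ _ ih =>
    intro c
    rw [monomial_single_add, GLin.IsCoactAlg.coact_mul, coact_pow, hr, ih c,
      Algebra.TensorProduct.tmul_pow, Algebra.TensorProduct.tmul_mul_tmul, wt_add, wt_single,
      T_pow, T_add]

lemma T_inj {a b : ℤ} (h : (T a : k[T;T⁻¹]) = T b) : a = b := by
  have := congrArg (fun q : k[T;T⁻¹] => q.coeff b) h
  by_contra hne
  simp [T_apply, hne] at this

/-- monomials of an invariant have weight zero -/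
lemma wt_eq_zero_of_invariant (r : ι → ℤ)
    (hr : ∀ i : ι, ρ (X i) = (X i : MvPolynomial ι k) ⊗ₜ[k] (T (r i) : k[T;T⁻¹]))
    (F : MvPolynomial ι k) (hF : F ∈ GLin.invariants k k[T;T⁻¹] (MvPolynomial ι k))
    (s : ι →₀ ℕ) (hs : s ∈ F.support) : wt r s = 0 := by
  classical
  have hF' : ρ F = F ⊗ₜ[k] (1 : k[T;T⁻¹]) := hF
  let cs : MvPolynomial ι k ⊗[k] k[T;T⁻¹] →ₗ[k] k[T;T⁻¹] :=
    (TensorProduct.lid k k[T;T⁻¹]).toLinearMap ∘ₗ (MvPolynomial.lcoeff k s).rTensor k[T;T⁻¹]
  have h1 := congrArg cs hF'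
  have h2 : cs (F ⊗ₜ[k] (1 : k[T;T⁻¹])) = coeff s F • (1 : k[T;T⁻¹]) := by
    simp [cs]
  have h3 : cs (ρ F) = coeff s F • (T (wt r s) : k[T;T⁻¹]) := by
    conv_lhs => rw [as_sum F, map_sum, map_sum]
    rw [Finset.sum_eq_single s]
    · rw [coact_monomial r hr]
      simp [cs]
    · intro t _ hts
      rw [coact_monomial r hr]
      simp [cs, coeff_monomial, hts]
    · intro h; exact absurd hs h
  rw [h2, h3] at h1
  have hc : coeff s F ≠ 0 := mem_support_iff.mp hs
  have h4 : (T (wt r s) : k[T;T⁻¹]) = T 0 := by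
    rw [T_zero]
    exact smul_right_injective _ hc h1
  exact T_inj h4

theorem main (r : ι → ℤ)
    (hr : ∀ i : ι, ρ (X i) = (X i : MvPolynomial ι k) ⊗ₜ[k] (T (r i) : k[T;T⁻¹]))
    (v : ι → k) :
    GLin.IsSemistableVec k k[T;T⁻¹] v ↔ ∃ i j : ι, v i ≠ 0 ∧ v j ≠ 0 ∧ r i ≤ 0 ∧ 0 ≤ r j := by
  classical
  constructor
  · intro hss
    unfold GLin.IsSemistableVec GLin.IsNullform at hss
    push Not at hss
    obtain ⟨F, hF, d, hd, hFd, hFv⟩ := hss
    -- a monomial not vanishing at v
    have : ∃ s ∈ F.support, eval v (monomial s (coeff s F)) ≠ 0 := by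
      by_contra hcon
      push Not at hcon
      apply hFv
      conv_lhs => rw [as_sum F, map_sum]
      exact Finset.sum_eq_zero hcon
    obtain ⟨s, hs, hsv⟩ := this
    have hw := wt_eq_zero_of_invariant r hr F hF s hs
    have hdeg : s.degree = d := by
      by_contra hne
      exact (mem_support_iff.mp hs) (hFd.coeff_eq_zero hne)
    have hvs : ∀ i ∈ s.support, v i ≠ 0 := by
      intro i hi hvi
      apply hsv
      rw [eval_monomial, Finsupp.prod, Finset.prod_eq_zero hi, mul_zero]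
      rw [hvi, zero_pow (Finsupp.mem_support_iff.mp hi)]
    have hne : s.support.Nonempty := by
      rw [Finsupp.support_nonempty_iff]
      intro h0
      rw [h0] at hdeg
      simp at hdeg
      omega
    have hw' : ∑ i ∈ s.support, ((s i : ℕ) : ℤ) * r i = 0 := hw
    have hex1 : ∃ i ∈ s.support, r i ≤ 0 := by
      by_contra hcon
      push Not at hcon
      have : 0 < ∑ i ∈ s.support, ((s i : ℕ) : ℤ) * r i := by
        apply Finset.sum_pos
        · intro i hi
          have : 0 < s i := Nat.pos_of_ne_zero (Finsupp.mem_support_iff.mp hi)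
          have := hcon i hi
          positivity
        · exact hne
      omega
    have hex2 : ∃ j ∈ s.support, 0 ≤ r j := by
      by_contra hcon
      push Not at hcon
      have : ∑ i ∈ s.support, ((s i : ℕ) : ℤ) * r i < 0 := by
        apply Finset.sum_neg
        · intro i hi
          have h1 : 0 < s i := Nat.pos_of_ne_zero (Finsupp.mem_support_iff.mp hi)
          have h2 := hcon i hi
          have h3 : (0 : ℤ) < (s i : ℤ) := by exact_mod_cast h1
          nlinarith
        · exact hne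
      omega
    obtain ⟨i, hi, hri⟩ := hex1
    obtain ⟨j, hj, hrj⟩ := hex2
    exact ⟨i, j, hvs i hi, hvs j hj, hri, hrj⟩
  · rintro ⟨i, j, hvi, hvj, hri, hrj⟩
    unfold GLin.IsSemistableVec GLin.IsNullform
    push Not
    by_cases h0 : r i = 0
    · refine ⟨X i, ?_, 1, one_pos, isHomogeneous_X k i, by simpa using hvi⟩
      show ρ (X i) = (X i : MvPolynomial ι k) ⊗ₜ[k] (1 : k[T;T⁻¹])
      rw [hr, h0, T_zero]
    · have hlt : r i < 0 := lt_of_le_of_ne hri h0
      refine ⟨X i ^ (r j).toNat * X j ^ (-r i).toNat, ?_, (r j).toNat + (-r i).toNat, by omega,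
        ?_, ?_⟩
      · show ρ (X i ^ (r j).toNat * X j ^ (-r i).toNat) = _ ⊗ₜ[k] (1 : k[T;T⁻¹])
        rw [GLin.IsCoactAlg.coact_mul, coact_pow, coact_pow, hr, hr, Algebra.TensorProduct.tmul_pow,
          Algebra.TensorProduct.tmul_pow, Algebra.TensorProduct.tmul_mul_tmul, T_pow, T_pow, ← T_add]
        have : ((r j).toNat : ℤ) * r i + ((-r i).toNat : ℤ) * r j = 0 := by
          rw [Int.toNat_of_nonneg hrj, Int.toNat_of_nonneg (by omega)]
          ring
        rw [this, T_zero]
      · exact ((isHomogeneous_X k i).pow _).mul ((isHomogeneous_X k j).pow _) |> fun h => by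
          simpa using h
      · simp only [map_mul, map_pow, eval_X]
        exact mul_ne_zero (pow_ne_zero _ hvi) (pow_ne_zero _ hvj)

end Groth.Agent.Helper9.GmSS
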