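import Groth.Prelude.Def_GLin
import Mathlib
set_option autoImplicit false
set_option linter.unusedSectionVars false

namespace Groth.Agent.Helper9.GmStable

open TensorProduct LaurentPolynomial

universe u

variable {k : Type u} [Field k] {ι : Type u} [Fintype ι]
  [HopfRep.Comod k k[T;T⁻¹] (MvPolynomial ι k)] [GLin.IsCoactAlg k k[T;T⁻¹] (MvPolynomial ι k)]

lemma orbitHom_X (r : ι → ℤ)
    (hr : ∀ i : ι, HopfRep.Comod.coact (k := k) (A := k[T;T⁻¹]) (MvPolynomial.X i : MvPolynomial ι k) =
      (MvPolynomial.X i : MvPolynomial ι k) ⊗ₜ[k] (T (r i) : k[T;T⁻¹]))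
    (v : ι → k) (i : ι) :
    GLin.orbitHom k k[T;T⁻¹] (GLin.vecPt k ι v) (MvPolynomial.X i) = C (v i) * T (r i) := by
  show TensorProduct.lid k k[T;T⁻¹] (TensorProduct.map (GLin.vecPt k ι v).toLinearMap LinearMap.id
    (HopfRep.Comod.coact (k := k) (A := k[T;T⁻¹]) (MvPolynomial.X i : MvPolynomial ι k))) = _
  rw [hr i]
  simp [GLin.vecPt, Algebra.smul_def]

/-- generic non-closedness criterion -/
lemma not_closed {R A : Type*} [CommRing R] [CommRing A] [Algebra k R] [Algebra k A]
    (φ : R →ₐ[k] A) (ψ : R →ₐ[k] Polynomial k) (j : Polynomial k →+* A)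
    (hj : Function.Injective j) (h : ∀ f, φ f = j (ψ f)) (f : R) (hu : IsUnit (φ f))
    (h0 : (ψ f).eval 0 = 0) :
    ¬ IsClosed (Set.range (PrimeSpectrum.comap φ.toRingHom)) := by
  intro hc
  let y : R →+* k := (Polynomial.evalRingHom 0).comp ψ.toRingHom
  have hyp : (RingHom.ker y).IsPrime := RingHom.ker_isPrime y
  let p : PrimeSpectrum R := ⟨RingHom.ker y, hyp⟩
  have hp : p ∈ closure (Set.range (PrimeSpectrum.comap φ.toRingHom)) := by
    rw [PrimeSpectrum.closure_range_comap]
    show RingHom.ker φ.toRingHom ≤ RingHom.ker y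
    intro g hg
    rw [RingHom.mem_ker] at hg ⊢
    have : j (ψ g) = 0 := by rw [← h]; exact hg
    have h2 : ψ g = 0 := hj (by rw [this, map_zero])
    show Polynomial.eval 0 (ψ g) = 0
    rw [h2]; simp
  rw [hc.closure_eq] at hp
  obtain ⟨q, hq⟩ := hp
  have hf : f ∈ p.asIdeal := by
    show y f = 0
    exact h0
  rw [← hq] at hf
  have hf' : φ f ∈ q.asIdeal := hf
  exact q.isPrime.ne_top (Ideal.eq_top_of_isUnit_mem _ hf' hu)

/-- a map to Laurent polynomials hitting `T a` and `T (-b)` for `a, b > 0` is integral -/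
lemma isIntegral_of_T {R : Type*} [CommRing R] [Algebra k R] (φ : R →ₐ[k] k[T;T⁻¹])
    (a b : ℕ) (ha : 0 < a) (hb : 0 < b) (f g : R) (hf : φ f = T (a : ℤ)) (hg : φ g = T (-(b : ℤ))) :
    φ.toRingHom.IsIntegral := by
  let _ : Algebra R k[T;T⁻¹] := φ.toRingHom.toAlgebra
  have hmap : ∀ x : R, IsIntegral R (φ x) := fun x => isIntegral_algebraMap (R := R) (A := k[T;T⁻¹]) (x := x)
  have h1 : IsIntegral R (T 1 : k[T;T⁻¹]) := by
    apply IsIntegral.of_pow ha
    rw [T_pow, mul_one, ← hf]; exact hmap f
  have h2 : IsIntegral R (T (-1) : k[T;T⁻¹]) := by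
    apply IsIntegral.of_pow hb
    rw [T_pow, mul_neg, mul_one, ← hg]; exact hmap g
  have hT : ∀ n : ℤ, IsIntegral R (T n : k[T;T⁻¹]) := by
    intro n
    rcases Int.eq_nat_or_neg n with ⟨m, rfl | rfl⟩
    · have : (T (m : ℤ) : k[T;T⁻¹]) = T 1 ^ m := by rw [T_pow, mul_one]
      rw [this]; exact h1.pow m
    · have : (T (-(m : ℤ)) : k[T;T⁻¹]) = T (-1) ^ m := by rw [T_pow, mul_neg, mul_one]
      rw [this]; exact h2.pow m
  intro p
  show IsIntegral R p
  induction p using LaurentPolynomial.induction_on' with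
  | add p q hp hq => exact hp.add hq
  | C_mul_T n c =>
    refine IsIntegral.mul ?_ (hT n)
    have : (C c : k[T;T⁻¹]) = φ (algebraMap k R c) := by
      rw [AlgHom.commutes]; rfl
    rw [this]; exact hmap _

lemma isClosed_of_T {R : Type*} [CommRing R] [Algebra k R] (φ : R →ₐ[k] k[T;T⁻¹])
    (a b : ℕ) (ha : 0 < a) (hb : 0 < b) (f g : R) (hf : φ f = T (a : ℤ)) (hg : φ g = T (-(b : ℤ))) :
    IsClosed (Set.range (PrimeSpectrum.comap φ.toRingHom)) := by
  rw [← Set.image_univ]
  exact PrimeSpectrum.isClosedMap_comap_of_isIntegral _ (isIntegral_of_T φ a b ha hb f g hf hg) _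
    isClosed_univ

/-- quotient of Laurent polynomials by an ideal containing `T n - 1`, `n > 0`, is finite -/
lemma finite_quot (I : Ideal k[T;T⁻¹]) (n : ℕ) (hn : 0 < n) (h : (T (n : ℤ) - 1 : k[T;T⁻¹]) ∈ I) :
    Module.Finite k (k[T;T⁻¹] ⧸ I) := by
  have hone : Ideal.Quotient.mk I (T (n : ℤ)) = 1 := by
    rw [← sub_eq_zero, ← map_one (Ideal.Quotient.mk I), ← map_sub]
    exact Ideal.Quotient.eq_zero_iff_mem.mpr h
  have hone' : Ideal.Quotient.mk I (T (-(n : ℤ))) = 1 := by
    have : Ideal.Quotient.mk I (T (-(n : ℤ))) * Ideal.Quotient.mk I (T (n : ℤ)) = 1 := by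
      rw [← map_mul, ← T_add]; simp
    rwa [hone, mul_one] at this
  have hq : ∀ q : ℤ, Ideal.Quotient.mk I (T ((n : ℤ) * q)) = 1 := by
    intro q
    rcases Int.eq_nat_or_neg q with ⟨m, rfl | rfl⟩
    · rw [mul_comm, ← T_pow, map_pow, hone, one_pow]
    · have : (n : ℤ) * -(m : ℤ) = (m : ℤ) * (-(n : ℤ)) := by ring
      rw [this, ← T_pow, map_pow, hone', one_pow]
  have hmod : ∀ m : ℤ, Ideal.Quotient.mk I (T m) = Ideal.Quotient.mk I (T (m % n)) := by
    intro m
    conv_lhs => rw [← Int.emod_add_mul_ediv m n, T_add, map_mul, hq, mul_one]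
  have hspan : Submodule.span k (Set.range fun i : Fin n => Ideal.Quotient.mk I (T (i : ℕ))) = ⊤ := by
    rw [eq_top_iff]
    rintro x -
    obtain ⟨p, rfl⟩ := Ideal.Quotient.mk_surjective x
    induction p using LaurentPolynomial.induction_on' with
    | add p q hp hq => rw [map_add]; exact Submodule.add_mem _ hp hq
    | C_mul_T m c =>
      have : Ideal.Quotient.mk I (C c * T m) = c • Ideal.Quotient.mk I (T m) := by
        have h2 : (C c * T m : k[T;T⁻¹]) = c • T m := by
          rw [Algebra.smul_def]; rfl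
        rw [h2]; rfl
      rw [this]
      refine Submodule.smul_mem _ _ ?_
      rw [hmod m]
      have h0 : 0 ≤ m % (n : ℤ) := Int.emod_nonneg _ (by exact_mod_cast hn.ne')
      have h1 : m % (n : ℤ) < n := Int.emod_lt_of_pos _ (by exact_mod_cast hn)
      refine Submodule.subset_span ⟨⟨(m % (n : ℤ)).toNat, by omega⟩, ?_⟩
      show Ideal.Quotient.mk I (T (((m % (n : ℤ)).toNat : ℕ) : ℤ)) = _
      rw [Int.toNat_of_nonneg h0]
  rw [Module.finite_def, ← hspan]
  exact Submodule.fg_span (Set.finite_range _)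


theorem main (r : ι → ℤ)
    (hr : ∀ i : ι, HopfRep.Comod.coact (k := k) (A := k[T;T⁻¹]) (MvPolynomial.X i : MvPolynomial ι k) =
      (MvPolynomial.X i : MvPolynomial ι k) ⊗ₜ[k] (T (r i) : k[T;T⁻¹]))
    (v : ι → k) :
    GLin.IsStableVec k k[T;T⁻¹] v ↔ ∃ i j : ι, v i ≠ 0 ∧ v j ≠ 0 ∧ r i < 0 ∧ 0 < r j := by
  set φ := GLin.orbitHom k k[T;T⁻¹] (GLin.vecPt k ι v) with hφ
  have hX : ∀ i, φ (MvPolynomial.X i) = C (v i) * T (r i) := orbitHom_X r hr v
  have hXinv : ∀ i, v i ≠ 0 → φ (MvPolynomial.C (v i)⁻¹ * MvPolynomial.X i) = T (r i) := by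
    intro i hi
    rw [map_mul, hX, ← MvPolynomial.algebraMap_eq, AlgHom.commutes, ← mul_assoc]
    have : (algebraMap k k[T;T⁻¹]) (v i)⁻¹ * C (v i) = 1 := by
      show C (v i)⁻¹ * C (v i) = 1
      rw [← map_mul, inv_mul_cancel₀ hi, map_one]
    rw [this, one_mul]
  constructor
  · rintro ⟨hcl, hfin⟩
    by_contra hne
    push Not at hne
    by_cases hneg : ∃ i, v i ≠ 0 ∧ r i < 0
    · obtain ⟨i, hvi, hri⟩ := hneg
      have hall : ∀ j, v j ≠ 0 → r j ≤ 0 := fun j hj => hne i j hvi hj hri
      -- case B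
      let ψ : MvPolynomial ι k →ₐ[k] Polynomial k :=
        MvPolynomial.aeval (fun i => Polynomial.C (v i) * Polynomial.X ^ (-(r i)).toNat)
      let j : Polynomial k →+* k[T;T⁻¹] :=
        (LaurentPolynomial.invert (R := k)).toAlgHom.toRingHom.comp (Polynomial.toLaurent (R := k))
      have hj : Function.Injective j := by
        intro a b hab
        exact Polynomial.toLaurent_injective ((LaurentPolynomial.invert (R := k)).injective hab)
      have hcomp : ∀ f, φ f = j (ψ f) := by
        intro f
        have : φ = ((LaurentPolynomial.invert (R := k)).toAlgHom.comp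
            (Polynomial.toLaurentAlg (R := k))).comp ψ := by
          apply MvPolynomial.algHom_ext
          intro l
          rw [hX]
          simp only [AlgHom.comp_apply, ψ, MvPolynomial.aeval_X, Polynomial.toLaurentAlg_apply,
            map_mul, map_pow, Polynomial.toLaurent_C, Polynomial.toLaurent_X]
          show _ = LaurentPolynomial.invert (C (v l)) * LaurentPolynomial.invert (T 1) ^ (-r l).toNat
          rw [LaurentPolynomial.invert_C, LaurentPolynomial.invert_T, T_pow, mul_neg, mul_one]
          by_cases hl : v l = 0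
          · simp [hl]
          · have := hall l hl
            congr 2
            omega
        rw [this]; rfl
      refine not_closed φ ψ j hj hcomp (MvPolynomial.X i) ?_ ?_ hcl
      · rw [hX]
        exact (IsUnit.mk0 _ hvi).map C |>.mul (isUnit_T _)
      · simp only [ψ, MvPolynomial.aeval_X, Polynomial.eval_mul, Polynomial.eval_C, Polynomial.eval_pow,
          Polynomial.eval_X]
        rw [zero_pow (by omega), mul_zero]
    · push Not at hneg
      by_cases hpos : ∃ i, v i ≠ 0 ∧ 0 < r i
      · obtain ⟨i, hvi, hri⟩ := hpos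
        let ψ : MvPolynomial ι k →ₐ[k] Polynomial k :=
          MvPolynomial.aeval (fun i => Polynomial.C (v i) * Polynomial.X ^ (r i).toNat)
        let j : Polynomial k →+* k[T;T⁻¹] := Polynomial.toLaurent (R := k)
        have hj : Function.Injective j := Polynomial.toLaurent_injective
        have hcomp : ∀ f, φ f = j (ψ f) := by
          intro f
          have : φ = (Polynomial.toLaurentAlg (R := k)).comp ψ := by
            apply MvPolynomial.algHom_ext
            intro l
            rw [hX]
            simp only [AlgHom.comp_apply, ψ, MvPolynomial.aeval_X, Polynomial.toLaurentAlg_apply,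
              map_mul, map_pow, Polynomial.toLaurent_C, Polynomial.toLaurent_X, T_pow, mul_one]
            by_cases hl : v l = 0
            · simp [hl]
            · have := hneg l hl
              congr 2
              omega
          rw [this]; rfl
        refine not_closed φ ψ j hj hcomp (MvPolynomial.X i) ?_ ?_ hcl
        · rw [hX]
          exact (IsUnit.mk0 _ hvi).map C |>.mul (isUnit_T _)
        · simp only [ψ, MvPolynomial.aeval_X, Polynomial.eval_mul, Polynomial.eval_C, Polynomial.eval_pow,
            Polynomial.eval_X]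
          rw [zero_pow (by omega), mul_zero]
      · push Not at hpos
        -- all weights of nonzero coordinates vanish: stabiliser is everything
        have hconst : φ = (Algebra.ofId k k[T;T⁻¹]).comp (GLin.vecPt k ι v) := by
          apply MvPolynomial.algHom_ext
          intro l
          rw [hX]
          simp only [AlgHom.comp_apply, GLin.vecPt, MvPolynomial.aeval_X]
          by_cases hl : v l = 0
          · simp [hl]
          · have h1 := hneg l hl
            have h2 := hpos l hl
            have : r l = 0 := le_antisymm h2 h1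
            rw [this]; simp
        have hstab : GLin.stabIdeal k k[T;T⁻¹] (GLin.vecPt k ι v) = ⊥ := by
          rw [eq_bot_iff]
          show Ideal.map φ (RingHom.ker (GLin.vecPt k ι v)) ≤ ⊥
          rw [Ideal.map_le_iff_le_comap]
          intro f hf
          rw [RingHom.mem_ker] at hf
          show φ f ∈ (⊥ : Ideal _)
          rw [hconst, AlgHom.comp_apply, hf, map_zero]
          exact Ideal.zero_mem _
        have hfin' : Module.Finite k (k[T;T⁻¹] ⧸ GLin.stabIdeal k k[T;T⁻¹] (GLin.vecPt k ι v)) := hfin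
        rw [hstab] at hfin'
        have h3 : Module.Finite k k[T;T⁻¹] :=
          Module.Finite.equiv (AlgEquiv.quotientBot k k[T;T⁻¹]).toLinearEquiv
        have h4 : Module.Finite k (Polynomial k) :=
          Module.Finite.of_injective (Polynomial.toLaurentAlg (R := k)).toLinearMap
            Polynomial.toLaurent_injective
        exact Polynomial.not_finite h4
  · rintro ⟨i, j, hvi, hvj, hri, hrj⟩
    constructor
    · refine isClosed_of_T φ (r j).toNat (-(r i)).toNat (by omega) (by omega)
        (MvPolynomial.C (v j)⁻¹ * MvPolynomial.X j) (MvPolynomial.C (v i)⁻¹ * MvPolynomial.X i) ?_ ?_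
      · rw [hXinv j hvj]; congr 1; omega
      · rw [hXinv i hvi]; congr 1; omega
    · show Module.Finite k (k[T;T⁻¹] ⧸ GLin.stabIdeal k k[T;T⁻¹] (GLin.vecPt k ι v))
      refine finite_quot _ (r j).toNat (by omega) ?_
      have hmem : (MvPolynomial.X j - MvPolynomial.C (v j) : MvPolynomial ι k) ∈
          RingHom.ker (GLin.vecPt k ι v) := by
        rw [RingHom.mem_ker]; simp [GLin.vecPt]
      have h1 : φ (MvPolynomial.X j - MvPolynomial.C (v j)) ∈
          GLin.stabIdeal k k[T;T⁻¹] (GLin.vecPt k ι v) := Ideal.mem_map_of_mem _ hmem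
      have h2 : φ (MvPolynomial.X j - MvPolynomial.C (v j)) = C (v j) * (T (r j) - 1) := by
        rw [map_sub, hX, ← MvPolynomial.algebraMap_eq, AlgHom.commutes, mul_sub, mul_one]; rfl
      have h3 : (T (r j) - 1 : k[T;T⁻¹]) = C (v j)⁻¹ * (C (v j) * (T (r j) - 1)) := by
        rw [← mul_assoc, ← map_mul, inv_mul_cancel₀ hvj, map_one, one_mul]
      have h4 : ((r j).toNat : ℤ) = r j := by omega
      rw [h4, h3, ← h2]
      exact Ideal.mul_mem_left _ _ h1

end Groth.Agent.Helper9.GmStable
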