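import Mathlib

set_option autoImplicit false
universe u

namespace Groth.Agent.Helper9.GrDimOne

open DirectSum

variable {k : Type u} [Field k] {R : Type u} [CommRing R] [IsDomain R] [Algebra k R]

/-- In a one-dimensional domain of finite type over a field, the quotient by a nonzero element is
finite-dimensional. -/
lemma finite_quotient [Algebra.FiniteType k R] (h1 : ringKrullDim R = 1) {u : R} (hu : u ≠ 0) :
    Module.Finite k (R ⧸ Ideal.span {u}) := by
  haveI : Ring.KrullDimLE 1 R := by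
    rw [Ring.KrullDimLE, Order.krullDimLE_iff]
    exact le_of_eq h1
  rw [Module.finite_iff_krullDimLE_zero]
  refine Ring.KrullDimLE.mk₀ fun P hP => ?_
  have hcm : (P.comap (Ideal.Quotient.mk (Ideal.span {u}))).IsPrime := Ideal.comap_isPrime _ _
  have hne : P.comap (Ideal.Quotient.mk (Ideal.span {u})) ≠ ⊥ := by
    intro h
    have : u ∈ P.comap (Ideal.Quotient.mk (Ideal.span {u})) := by
      rw [Ideal.mem_comap]
      have : Ideal.Quotient.mk (Ideal.span {u}) u = 0 :=
        Ideal.Quotient.eq_zero_iff_mem.mpr (Ideal.subset_span rfl)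
      rw [this]; exact zero_mem _
    rw [h, Ideal.mem_bot] at this
    exact hu this
  have hmax := hcm.isMaximal_of_ne_bot hne
  have := Ideal.map_comap_of_surjective _ (Ideal.Quotient.mk_surjective (I := Ideal.span {u})) P
  rw [← this]
  exact Ideal.IsMaximal.map_of_surjective_of_ker_le Ideal.Quotient.mk_surjective
    (by
      rw [Ideal.mk_ker]
      intro x hx
      rw [Ideal.mem_comap, Ideal.Quotient.eq_zero_iff_mem.mpr hx]
      exact zero_mem _)


variable (𝒜 : ℤ → Submodule k R) [GradedAlgebra 𝒜]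

omit [IsDomain R] in
/-- Homogeneous division: extracting the degree-`m` part of `r - t = s * u`. -/
lemma homog_div {n m : ℤ} {u : R} (hu : u ∈ 𝒜 n) {r t s : R} (hr : r ∈ 𝒜 m)
    (ht : (decompose 𝒜 t m : R) = 0) (h : r - t = s * u) :
    r = (decompose 𝒜 s (m - n) : R) * u := by
  have h1 := congrArg (fun x => (decompose 𝒜 x m : R)) h
  simp only [decompose_sub, DirectSum.sub_apply, AddSubgroupClass.coe_sub] at h1
  rw [decompose_of_mem_same 𝒜 hr, ht, sub_zero] at h1
  rw [h1]
  have : m = (m - n) + n := by ring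
  conv_lhs => rw [this]
  exact coe_decompose_mul_add_of_right_mem 𝒜 hu

omit [IsDomain R] in
/-- If `R/(u)` is finite-dimensional, then high-degree pieces are divisible by `u`. -/
lemma exists_bound {n : ℤ} {u : R} (hu : u ∈ 𝒜 n) [Module.Finite k (R ⧸ Ideal.span {u})] :
    ∃ N : ℤ, ∀ m ≥ N, ∀ r ∈ 𝒜 m, ∃ s ∈ 𝒜 (m - n), r = s * u := by
  classical
  let Q := R ⧸ Ideal.span {u}
  let π : R →ₗ[k] Q := (Ideal.Quotient.mkₐ k (Ideal.span {u})).toLinearMap
  let S : Set Q := {q | ∃ (d : ℤ) (b : R), b ∈ 𝒜 d ∧ q = π b}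
  have hS : ⊤ ≤ Submodule.span k S := by
    rintro q -
    obtain ⟨r, rfl⟩ := Ideal.Quotient.mk_surjective q
    show π r ∈ _
    rw [← DirectSum.sum_support_decompose 𝒜 r, map_sum]
    refine Submodule.sum_mem _ fun i _ => Submodule.subset_span ?_
    exact ⟨i, _, SetLike.coe_mem _, rfl⟩
  obtain ⟨B, hBS, hBspan, hBli⟩ := exists_linearIndependent k S
  haveI : Finite B := hBli.finite_of_isNoetherian
  haveI : Fintype B := Fintype.ofFinite B
  have hch : ∀ β : B, ∃ (d : ℤ) (b : R), b ∈ 𝒜 d ∧ (β : Q) = π b := fun β => hBS β.2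
  choose d b hb hq using hch
  refine ⟨1 + ∑ β, |d β|, fun m hm r hr => ?_⟩
  have hmem : π r ∈ Submodule.span k (Set.range (Subtype.val : B → Q)) := by
    rw [Subtype.range_coe, hBspan]
    exact hS trivial
  obtain ⟨c, hc⟩ := (Submodule.mem_span_range_iff_exists_fun k).mp hmem
  let t : R := ∑ β, c β • b β
  have hπt : π t = π r := by
    rw [← hc, map_sum]
    refine Finset.sum_congr rfl fun β _ => ?_
    rw [map_smul, ← hq]
  have hdiff : r - t ∈ Ideal.span {u} := by
    rw [← Ideal.Quotient.eq_zero_iff_mem, map_sub]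
    have : (Ideal.Quotient.mk (Ideal.span {u})) r = (Ideal.Quotient.mk (Ideal.span {u})) t :=
      hπt.symm
    rw [this, sub_self]
  obtain ⟨s, hs⟩ := Ideal.mem_span_singleton'.mp hdiff
  have ht0 : (decompose 𝒜 t m : R) = 0 := by
    rw [← GradedRing.proj_apply, map_sum]
    refine Finset.sum_eq_zero fun β _ => ?_
    rw [GradedRing.proj_apply]
    have hlt : d β < m := by
      have h1 : |d β| ≤ ∑ β, |d β| :=
        Finset.single_le_sum (f := fun β => |d β|) (fun _ _ => abs_nonneg _) (Finset.mem_univ β)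
      have h2 : d β ≤ |d β| := le_abs_self _
      omega
    exact decompose_of_mem_ne 𝒜 (Submodule.smul_mem _ _ (hb β)) (ne_of_lt hlt)
  exact ⟨_, SetLike.coe_mem _, homog_div 𝒜 hu hr ht0 hs.symm⟩


omit [IsDomain R] in
/-- All graded pieces are finite-dimensional if `R/(u)` is, for `u` homogeneous of positive
degree. -/
lemma fg_piece (hpos : ∀ n : ℤ, n < 0 → 𝒜 n = ⊥) {n : ℤ} (hn : 0 < n) {u : R} (hu : u ∈ 𝒜 n)
    [Module.Finite k (R ⧸ Ideal.span {u})] (m : ℤ) : (𝒜 m).FG := by
  suffices h : ∀ j : ℕ, ∀ m : ℤ, m < j → (𝒜 m).FG from h (m.toNat + 1) m (by omega)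
  intro j
  induction j with
  | zero =>
    intro m hm
    rw [hpos m (by simpa using hm)]
    exact Submodule.fg_bot
  | succ j ih =>
    intro m hm
    let π : R →ₗ[k] (R ⧸ Ideal.span {u}) := (Ideal.Quotient.mkₐ k (Ideal.span {u})).toLinearMap
    apply Submodule.fg_of_fg_map_of_fg_inf_ker π
    · exact IsNoetherian.noetherian _
    · have : 𝒜 m ⊓ LinearMap.ker π = (𝒜 (m - n)).map (LinearMap.mulRight k u) := by
        ext x
        simp only [Submodule.mem_inf, LinearMap.mem_ker, Submodule.mem_map, LinearMap.mulRight_apply]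
        constructor
        · rintro ⟨hx, hx0⟩
          have hx1 : x ∈ Ideal.span {u} := Ideal.Quotient.eq_zero_iff_mem.mp hx0
          obtain ⟨s, hs⟩ := Ideal.mem_span_singleton'.mp hx1
          have h0 : x - 0 = s * u := by rw [sub_zero, hs]
          exact ⟨(decompose 𝒜 s (m - n) : R), SetLike.coe_mem _,
            (homog_div 𝒜 hu hx (t := 0) (s := s) (by simp) h0).symm⟩
        · rintro ⟨s, hs, rfl⟩
          refine ⟨?_, ?_⟩
          · have := SetLike.mul_mem_graded hs hu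
            rwa [sub_add_cancel] at this
          · exact Ideal.Quotient.eq_zero_iff_mem.mpr
              (Ideal.mem_span_singleton'.mpr ⟨s, rfl⟩)
      rw [this]
      exact (ih (m - n) (by push_cast at hm; omega)).map _


/-- Key: homogeneous pieces are at most one-dimensional. -/
theorem exists_smul_eq [IsAlgClosed k] [Algebra.FiniteType k R]
    (hpos : ∀ n : ℤ, n < 0 → 𝒜 n = ⊥) (h0 : 𝒜 0 = Submodule.span k {(1 : R)})
    (h1 : ringKrullDim R = 1) {n : ℤ} {u v : R} (hu : u ∈ 𝒜 n) (hv : v ∈ 𝒜 n) (hu0 : u ≠ 0) :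
    ∃ c : k, v = c • u := by
  classical
  rcases lt_trichotomy n 0 with hn | hn | hn
  · rw [hpos n hn, Submodule.mem_bot] at hu
    exact absurd hu hu0
  · subst hn
    rw [h0, Submodule.mem_span_singleton] at hu hv
    obtain ⟨a, rfl⟩ := hu
    obtain ⟨b, rfl⟩ := hv
    have ha : a ≠ 0 := by
      rintro rfl
      exact hu0 (zero_smul _ _)
    exact ⟨b / a, by rw [smul_smul, div_mul_cancel₀ b ha]⟩
  · haveI : Module.Finite k (R ⧸ Ideal.span {u}) := finite_quotient (k := k) h1 hu0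
    obtain ⟨N, hN⟩ := exists_bound 𝒜 hu
    have hN' : ∀ m ≥ N, ∀ r ∈ 𝒜 (m + n), ∃ s ∈ 𝒜 m, r = s * u := by
      intro m hm r hr
      obtain ⟨s, hs, hrs⟩ := hN (m + n) (by omega) r hr
      rw [add_sub_cancel_right] at hs
      exact ⟨s, hs, hrs⟩
    let j : ℕ := N.toNat
    let m : ℤ := j • n
    have hmN : m ≥ N := by
      have h1 : (N.toNat : ℤ) ≥ N := Int.self_le_toNat N
      have h2 : m = (N.toNat : ℤ) * n := by simp [m, j]
      rw [h2]
      nlinarith
    have huj : u ^ j ∈ 𝒜 m := SetLike.pow_mem_graded j hu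
    have huj0 : u ^ j ≠ 0 := pow_ne_zero _ hu0
    haveI : Module.Finite k (𝒜 m) := Module.Finite.iff_fg.mpr (fg_piece 𝒜 hpos hn hu m)
    haveI : Nontrivial (𝒜 m) := ⟨⟨u ^ j, huj⟩, 0, fun h => huj0 (congrArg Subtype.val h)⟩
    let μ : R → (𝒜 m →ₗ[k] 𝒜 (m + n)) := fun x =>
      if hx : x ∈ 𝒜 n then
        { toFun := fun w => ⟨w * x, SetLike.mul_mem_graded w.2 hx⟩
          map_add' := fun a b => Subtype.ext (add_mul _ _ _)
          map_smul' := fun c a => Subtype.ext (smul_mul_assoc _ _ _) }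
      else 0
    have hμ : ∀ x (hx : x ∈ 𝒜 n) (w : 𝒜 m), ((μ x w : 𝒜 (m + n)) : R) = w * x := by
      intro x hx w
      simp only [μ, dif_pos hx]
      rfl
    have hbij : Function.Bijective (μ u) := by
      constructor
      · intro a b hab
        have h2 := congrArg Subtype.val hab
        rw [hμ u hu, hμ u hu] at h2
        exact Subtype.ext (mul_right_cancel₀ hu0 h2)
      · intro r
        obtain ⟨s, hs, hrs⟩ := hN' m hmN r r.2
        refine ⟨⟨s, hs⟩, Subtype.ext ?_⟩
        rw [hμ u hu, hrs]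
    let e := LinearEquiv.ofBijective (μ u) hbij
    let φ : Module.End k (𝒜 m) := e.symm.toLinearMap ∘ₗ μ v
    obtain ⟨c, hc⟩ := Module.End.exists_eigenvalue φ
    obtain ⟨w, hw⟩ := hc.exists_hasEigenvector
    have hw1 : φ w = c • w := hw.apply_eq_smul
    have hw0 : w ≠ 0 := hw.2
    have h2 : μ v w = μ u (c • w) := by
      have : e (φ w) = μ v w := by
        show e (e.symm (μ v w)) = μ v w
        exact e.apply_symm_apply _
      rw [← this, hw1]
      rfl
    have h3 := congrArg Subtype.val h2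
    rw [hμ v hv, hμ u hu] at h3
    refine ⟨c, ?_⟩
    have hw0' : (w : R) ≠ 0 := fun h => hw0 (Subtype.ext h)
    apply mul_left_cancel₀ hw0'
    rw [h3, Submodule.coe_smul, smul_mul_assoc, mul_smul_comm]


section semigroup

/-- The degrees (as natural numbers) in which `R` is nonzero. -/
def degMonoid : AddSubmonoid ℕ where
  carrier := {n | 𝒜 (n : ℤ) ≠ ⊥}
  zero_mem' := by
    intro h
    have h1 : (1 : R) ∈ 𝒜 ((0 : ℕ) : ℤ) := by
      rw [Nat.cast_zero]; exact SetLike.one_mem_graded 𝒜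
    rw [h, Submodule.mem_bot] at h1
    exact one_ne_zero h1
  add_mem' := by
    intro a b ha hb
    obtain ⟨x, hx, hx0⟩ := (Submodule.ne_bot_iff _).mp ha
    obtain ⟨y, hy, hy0⟩ := (Submodule.ne_bot_iff _).mp hb
    refine (Submodule.ne_bot_iff _).mpr ⟨x * y, ?_, mul_ne_zero hx0 hy0⟩
    rw [Nat.cast_add]
    exact SetLike.mul_mem_graded hx hy

lemma mem_degMonoid {n : ℕ} : n ∈ degMonoid 𝒜 ↔ 𝒜 (n : ℤ) ≠ ⊥ := Iff.rfl

/-- Some positive degree is nonzero. -/
lemma exists_pos_mem_degMonoid (hpos : ∀ n : ℤ, n < 0 → 𝒜 n = ⊥)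
    (h0 : 𝒜 0 = Submodule.span k {(1 : R)}) (h1 : ringKrullDim R = 1) :
    ∃ n : ℕ, 0 < n ∧ n ∈ degMonoid 𝒜 := by
  classical
  by_contra hcon
  push Not at hcon
  have hall : ∀ r : R, ∃ c : k, r = c • (1 : R) := by
    intro r
    have hr : r ∈ 𝒜 0 := by
      rw [← DirectSum.sum_support_decompose 𝒜 r]
      refine Submodule.sum_mem _ fun i _ => ?_
      rcases lt_trichotomy i 0 with hi | hi | hi
      · have hz : ∀ x ∈ 𝒜 i, x = 0 := by
          intro x hx
          rw [hpos i hi] at hx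
          exact (Submodule.mem_bot k).mp hx
        rw [hz _ (SetLike.coe_mem _)]; exact zero_mem _
      · subst hi; exact SetLike.coe_mem _
      · have h2 : i.toNat ∉ degMonoid 𝒜 := hcon i.toNat (by omega)
        rw [mem_degMonoid, not_not, Int.toNat_of_nonneg hi.le] at h2
        have hz : ∀ x ∈ 𝒜 i, x = 0 := by
          intro x hx
          rw [h2] at hx
          exact (Submodule.mem_bot k).mp hx
        rw [hz _ (SetLike.coe_mem _)]; exact zero_mem _
    rw [h0, Submodule.mem_span_singleton] at hr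
    obtain ⟨c, hc⟩ := hr
    exact ⟨c, hc.symm⟩
  have hfield : IsField R := by
    refine ⟨⟨0, 1, zero_ne_one⟩, mul_comm, fun {a} ha => ?_⟩
    obtain ⟨c, rfl⟩ := hall a
    have hc : c ≠ 0 := by
      rintro rfl
      exact ha (zero_smul _ _)
    refine ⟨c⁻¹ • (1 : R), ?_⟩
    rw [smul_mul_smul_comm, mul_inv_cancel₀ hc, one_smul, one_mul]
  have := ringKrullDim_eq_zero_of_isField hfield
  rw [h1] at this
  exact one_ne_zero this

/-- A minimal positive difference of elements of a submonoid of `ℕ` divides all its elements. -/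
lemma exists_diff (H : AddSubmonoid ℕ) (hH : ∃ n, 0 < n ∧ n ∈ H) :
    ∃ d a b : ℕ, 0 < d ∧ a ∈ H ∧ b ∈ H ∧ a = b + d ∧ ∀ n ∈ H, d ∣ n := by
  classical
  let P : ℕ → Prop := fun d => 0 < d ∧ ∃ a ∈ H, ∃ b ∈ H, a = b + d
  have hP : ∃ d, P d := by
    obtain ⟨n, hn, hnH⟩ := hH
    exact ⟨n, hn, n, hnH, 0, H.zero_mem, by simp⟩
  obtain ⟨hd, a, ha, b, hb, hab⟩ := Nat.find_spec hP
  refine ⟨Nat.find hP, a, b, hd, ha, hb, hab, fun n hn => ?_⟩
  by_contra hdn
  have hr : 0 < n % Nat.find hP :=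
    Nat.pos_of_ne_zero (fun h => hdn (Nat.dvd_of_mod_eq_zero h))
  have hlt : n % Nat.find hP < Nat.find hP := Nat.mod_lt _ hd
  have hPr : P (n % Nat.find hP) := by
    refine ⟨hr, n + (n / Nat.find hP) * b, H.add_mem hn ?_, (n / Nat.find hP) * a, ?_, ?_⟩
    · have := H.nsmul_mem hb (n / Nat.find hP)
      rwa [smul_eq_mul] at this
    · have := H.nsmul_mem ha (n / Nat.find hP)
      rwa [smul_eq_mul] at this
    · have h1 := Nat.div_add_mod n (Nat.find hP)
      rw [hab]
      nlinarith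
  exact Nat.find_min hP hlt hPr

/-- Given multiplicative nonzero homogeneous sections over a submonoid containing all nonzero
degrees, and one-dimensionality of the pieces, the ring is the semigroup algebra. -/
theorem exists_equiv_of_sections (hpos : ∀ n : ℤ, n < 0 → 𝒜 n = ⊥)
    (hA : ∀ (n : ℤ) (u v : R), u ∈ 𝒜 n → v ∈ 𝒜 n → u ≠ 0 → ∃ c : k, v = c • u)
    (H : AddSubmonoid ℕ) (hH : ∀ n : ℕ, 𝒜 (n : ℤ) ≠ ⊥ → n ∈ H)
    (e : H → R) (he_mem : ∀ h : H, e h ∈ 𝒜 ((h : ℕ) : ℤ)) (he0 : ∀ h, e h ≠ 0) (he_one : e 0 = 1)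
    (he_mul : ∀ h h', e (h + h') = e h * e h') :
    Nonempty (R ≃+* AddMonoidAlgebra k H) := by
  classical
  let F : Multiplicative H →* R :=
    { toFun := fun m => e m.toAdd
      map_one' := he_one
      map_mul' := fun a b => he_mul a.toAdd b.toAdd }
  let φ : AddMonoidAlgebra k H →ₐ[k] R := AddMonoidAlgebra.lift k R H F
  have hφs : ∀ (h : H) (c : k), φ (AddMonoidAlgebra.single h c) = c • e h := by
    intro h c
    exact AddMonoidAlgebra.lift_single F h c
  have hsurj : Function.Surjective φ := by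
    intro r
    have hr : r ∈ LinearMap.range φ.toLinearMap := by
      rw [← DirectSum.sum_support_decompose 𝒜 r]
      refine Submodule.sum_mem _ fun i _ => ?_
      by_cases hx0 : (decompose 𝒜 r i : R) = 0
      · rw [hx0]; exact zero_mem _
      have hi : 0 ≤ i := by
        by_contra hi
        push Not at hi
        have := SetLike.coe_mem (decompose 𝒜 r i)
        have hz : ∀ x ∈ 𝒜 i, x = 0 := by
          intro x hx
          rw [hpos i hi] at hx
          exact (Submodule.mem_bot k).mp hx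
        exact hx0 (hz _ this)
      obtain ⟨n, rfl⟩ := Int.eq_ofNat_of_zero_le hi
      have hn : n ∈ H := hH n ((Submodule.ne_bot_iff _).mpr ⟨_, SetLike.coe_mem _, hx0⟩)
      obtain ⟨c, hc⟩ := hA n (e ⟨n, hn⟩) (decompose 𝒜 r n : R) (he_mem ⟨n, hn⟩)
        (SetLike.coe_mem _) (he0 _)
      exact ⟨AddMonoidAlgebra.single ⟨n, hn⟩ c, by rw [hc]; exact hφs _ _⟩
    obtain ⟨f, hf⟩ := hr
    exact ⟨f, hf⟩
  have hinj : Function.Injective φ := by
    rw [injective_iff_map_eq_zero]
    intro f hf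
    have hcoeff : ∀ h0 : H, f.coeff h0 = 0 := by
      intro h0
      have h1 : φ f = f.coeff.sum fun a b => b • e a := AddMonoidAlgebra.lift_apply F f
      have h2 : GradedRing.proj 𝒜 ((h0 : ℕ) : ℤ) (φ f) = f.coeff h0 • e h0 := by
        rw [h1, Finsupp.sum, map_sum]
        by_cases hmem : h0 ∈ f.coeff.support
        · rw [Finset.sum_eq_single h0]
          · rw [GradedRing.proj_apply]
            exact decompose_of_mem_same 𝒜 (Submodule.smul_mem _ _ (he_mem h0))
          · intro b _ hb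
            rw [GradedRing.proj_apply]
            refine decompose_of_mem_ne 𝒜 (Submodule.smul_mem _ _ (he_mem b)) ?_
            intro hbb
            exact hb (Subtype.ext (by exact_mod_cast hbb))
          · intro hh; exact absurd hmem hh
        · rw [Finsupp.notMem_support_iff.mp hmem, zero_smul]
          refine Finset.sum_eq_zero fun b hb => ?_
          rw [GradedRing.proj_apply]
          refine decompose_of_mem_ne 𝒜 (Submodule.smul_mem _ _ (he_mem b)) ?_
          intro hbb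
          have : b = h0 := Subtype.ext (by exact_mod_cast hbb)
          exact hmem (this ▸ hb)
      rw [hf, map_zero] at h2
      rcases smul_eq_zero.mp h2.symm with h | h
      · exact h
      · exact absurd h (he0 h0)
    ext h0
    exact hcoeff h0
  exact ⟨(RingEquiv.ofBijective φ ⟨hinj, hsurj⟩).symm⟩

end semigroup


section main

theorem main [IsAlgClosed k] [Algebra.FiniteType k R]
    (hpos : ∀ n : ℤ, n < 0 → 𝒜 n = ⊥) (h0 : 𝒜 0 = Submodule.span k {(1 : R)})
    (h1 : ringKrullDim R = 1) :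
    (∃ H : AddSubmonoid ℕ, Nonempty (R ≃+* AddMonoidAlgebra k H)) ∧
      (Ideal.span (⋃ n ∈ Set.Ioi (0 : ℤ), (𝒜 n : Set R)) =
          Ideal.span ((𝒜 1 : Submodule k R) : Set R) → Nonempty (R ≃+* Polynomial k)) := by
  classical
  have hA : ∀ (n : ℤ) (u v : R), u ∈ 𝒜 n → v ∈ 𝒜 n → u ≠ 0 → ∃ c : k, v = c • u :=
    fun n u v hu hv hu0 => exists_smul_eq 𝒜 hpos h0 h1 hu hv hu0
  have hposH := exists_pos_mem_degMonoid 𝒜 hpos h0 h1
  obtain ⟨d, a, b, hd, ha, hb, hab, hdvd⟩ := exists_diff (degMonoid 𝒜) hposH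
  obtain ⟨x1, hx1, hx10⟩ := (Submodule.ne_bot_iff _).mp ha
  obtain ⟨x2, hx2, hx20⟩ := (Submodule.ne_bot_iff _).mp hb
  have key : ∀ h : degMonoid 𝒜, ∃ y ∈ 𝒜 ((h : ℕ) : ℤ),
      y * x2 ^ ((h : ℕ) / d) = x1 ^ ((h : ℕ) / d) := by
    rintro ⟨n, hn⟩
    obtain ⟨r, hr, hr0⟩ := (Submodule.ne_bot_iff _).mp hn
    have hnj : n = n / d * d := (Nat.div_mul_cancel (hdvd n hn)).symm
    have hdeg : ((n : ℤ) + (n / d) • (b : ℤ)) = (n / d) • (a : ℤ) := by
      rw [hab]
      push_cast
      have : (n : ℤ) = (n / d : ℕ) * d := by exact_mod_cast hnj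
      simp only [nsmul_eq_mul]
      linarith
    have hm1 : r * x2 ^ (n / d) ∈ 𝒜 ((n / d) • (a : ℤ)) :=
      hdeg ▸ SetLike.mul_mem_graded hr (SetLike.pow_mem_graded (n / d) hx2)
    have hm2 : x1 ^ (n / d) ∈ 𝒜 ((n / d) • (a : ℤ)) := SetLike.pow_mem_graded (n / d) hx1
    obtain ⟨c, hc⟩ := hA _ _ _ hm1 hm2 (mul_ne_zero hr0 (pow_ne_zero _ hx20))
    exact ⟨c • r, Submodule.smul_mem _ _ hr, by rw [smul_mul_assoc, ← hc]⟩
  choose e he_mem he_eq using key
  have he0 : ∀ h, e h ≠ 0 := by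
    intro h hh
    have := he_eq h
    rw [hh, zero_mul] at this
    exact pow_ne_zero _ hx10 this.symm
  have he_one : e 0 = 1 := by
    have := he_eq 0
    have h00 : ((0 : degMonoid 𝒜) : ℕ) / d = 0 := by simp
    rw [h00, pow_zero, pow_zero, mul_one] at this
    exact this
  have he_mul : ∀ h h', e (h + h') = e h * e h' := by
    intro h h'
    have hdiv : ((h + h' : degMonoid 𝒜) : ℕ) / d = (h : ℕ) / d + (h' : ℕ) / d := by
      rw [AddSubmonoid.coe_add]
      exact Nat.add_div_of_dvd_right (hdvd h h.2)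
    have h3 := he_eq (h + h')
    rw [hdiv, pow_add, pow_add, ← he_eq h, ← he_eq h'] at h3
    have hne : x2 ^ ((h : ℕ) / d) * x2 ^ ((h' : ℕ) / d) ≠ 0 :=
      mul_ne_zero (pow_ne_zero _ hx20) (pow_ne_zero _ hx20)
    apply mul_right_cancel₀ hne
    rw [h3]
    ring
  have hiso := exists_equiv_of_sections 𝒜 hpos hA (degMonoid 𝒜) (fun n hn => hn) e he_mem he0
    he_one he_mul
  refine ⟨⟨degMonoid 𝒜, hiso⟩, fun hgen => ?_⟩
  have h1H : 1 ∈ degMonoid 𝒜 := by
    by_contra hcon
    rw [mem_degMonoid, not_not, Nat.cast_one] at hcon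
    obtain ⟨n, hn, hnH⟩ := hposH
    obtain ⟨x, hx, hx0⟩ := (Submodule.ne_bot_iff _).mp hnH
    have hxmem : x ∈ Ideal.span (⋃ n ∈ Set.Ioi (0 : ℤ), (𝒜 n : Set R)) := by
      refine Ideal.subset_span ?_
      simp only [Set.mem_iUnion, Set.mem_Ioi, SetLike.mem_coe]
      exact ⟨(n : ℤ), by exact_mod_cast hn, hx⟩
    rw [hgen, hcon] at hxmem
    have : Ideal.span (((⊥ : Submodule k R) : Set R)) = ⊥ := by
      rw [Submodule.bot_coe, Ideal.span_singleton_eq_bot]
    rw [this, Ideal.mem_bot] at hxmem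
    exact hx0 hxmem
  have htop : degMonoid 𝒜 = ⊤ := by
    rw [eq_top_iff]
    rintro n -
    have := (degMonoid 𝒜).nsmul_mem h1H n
    rwa [smul_eq_mul, mul_one] at this
  obtain ⟨ψ⟩ := hiso
  rw [htop] at ψ
  exact ⟨ψ.trans ((AddMonoidAlgebra.mapDomainRingEquiv k AddSubmonoid.topEquiv).trans
    (Polynomial.toFinsuppIso k).symm)⟩

end main

end Groth.Agent.Helper9.GrDimOne
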