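import Mathlib
import Groth.Prelude.Def_GrSeg
import Groth.Prelude.Def_GrLC
import Groth.Agent.Helper9.SegreMod

set_option autoImplicit false
set_option linter.unusedSectionVars false
universe u

namespace Groth.Agent.Helper9.GrDualHom

open Groth.Agent.Helper9.SegreMod

section Piece

variable {k R : Type u} [Field k] [CommRing R] [Algebra k R]
  (𝒜 : ℤ → Submodule k R) [GradedAlgebra 𝒜]
  {M : Type u} [AddCommGroup M] [Module R M] [Module k M] [IsScalarTower k R M]
  (ℳ : ℤ → AddSubgroup M) [DirectSum.Decomposition ℳ] [SetLike.GradedSMul 𝒜 ℳ]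

/-- the degree `n` piece as a `k`-subspace -/
def pieceSub (n : ℤ) : Submodule k M where
  carrier := ℳ n
  add_mem' := (ℳ n).add_mem
  zero_mem' := (ℳ n).zero_mem
  smul_mem' c _ hx := ksmul_mem 𝒜 ℳ c hx

theorem mem_pieceSub {n : ℤ} {x : M} : x ∈ pieceSub 𝒜 ℳ n ↔ x ∈ ℳ n := Iff.rfl

omit [GradedAlgebra 𝒜] in
theorem eq_zero_of_neg (hposR : ∀ n : ℤ, n < 0 → 𝒜 n = ⊥) {a : ℤ} (ha : a < 0) {r : R}
    (hr : r ∈ 𝒜 a) : r = 0 := by
  rw [hposR a ha] at hr
  exact (Submodule.mem_bot k).mp hr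

omit [GradedAlgebra 𝒜] in
theorem exists_of_zero (h0R : 𝒜 0 = Submodule.span k {(1 : R)}) {a : ℤ} (ha : a = 0) {r : R}
    (hr : r ∈ 𝒜 a) : ∃ c : k, c • (1 : R) = r := by
  subst ha
  rw [h0R, Submodule.mem_span_singleton] at hr
  exact hr

/-- `M_{≥ n}` as an `R`-submodule (for `R` nonnegatively graded) -/
def geSub (hposR : ∀ n : ℤ, n < 0 → 𝒜 n = ⊥) (n : ℤ) : Submodule R M where
  carrier := {x | ∀ m : ℤ, m < n → proj 𝒜 ℳ m x = 0}
  add_mem' := by
    intro x y hx hy m hm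
    rw [map_add, hx m hm, hy m hm, add_zero]
  zero_mem' := by
    intro m _
    rw [map_zero]
  smul_mem' := by
    intro r x hx
    induction r using DirectSum.Decomposition.inductionOn 𝒜 with
    | zero => intro m _; rw [zero_smul, map_zero]
    | @homogeneous a r =>
      intro m hm
      rw [proj_apply, proj_smul 𝒜 ℳ a r r.2 x m]
      by_cases ha : a < 0
      · have : (r : R) = 0 := eq_zero_of_neg 𝒜 hposR ha r.2
        rw [this, zero_smul]
      · have : m - a < n := by omega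
        have h := hx (m - a) this
        rw [proj_apply] at h
        rw [h, smul_zero]
    | add r r' hr hr' =>
      intro m hm
      rw [add_smul, map_add, hr m hm, hr' m hm, add_zero]

theorem proj_smul_of_mem_geSub (hposR : ∀ n : ℤ, n < 0 → 𝒜 n = ⊥)
    (h0R : 𝒜 0 = Submodule.span k {(1 : R)}) (n : ℤ) {z : M}
    (hz : z ∈ geSub 𝒜 ℳ hposR n) (r : R) :
    ∃ c : k, proj 𝒜 ℳ n (r • z) = c • proj 𝒜 ℳ n z := by
  induction r using DirectSum.Decomposition.inductionOn 𝒜 with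
  | zero => exact ⟨0, by rw [zero_smul, map_zero, zero_smul]⟩
  | @homogeneous a r =>
    rcases lt_trichotomy a 0 with ha | ha | ha
    · have : (r : R) = 0 := eq_zero_of_neg 𝒜 hposR ha r.2
      exact ⟨0, by rw [this, zero_smul, map_zero, zero_smul]⟩
    · obtain ⟨c, hc⟩ := exists_of_zero 𝒜 h0R ha r.2
      refine ⟨c, ?_⟩
      rw [← hc, smul_assoc, one_smul, map_smul]
    · refine ⟨0, ?_⟩
      rw [proj_apply, proj_smul 𝒜 ℳ a r r.2 z n, zero_smul]
      have h := hz (n - a) (by omega)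
      rw [proj_apply] at h
      rw [h, smul_zero]
  | add r r' hr hr' =>
    obtain ⟨c, hc⟩ := hr
    obtain ⟨c', hc'⟩ := hr'
    exact ⟨c + c', by rw [add_smul, map_add, hc, hc', add_smul]⟩

theorem finite_piece (hposR : ∀ n : ℤ, n < 0 → 𝒜 n = ⊥)
    (h0R : 𝒜 0 = Submodule.span k {(1 : R)}) [Algebra.FiniteType k R] [Module.Finite R M]
    (n : ℤ) : Module.Finite k (pieceSub 𝒜 ℳ n) := by
  haveI : IsNoetherianRing R := Algebra.FiniteType.isNoetherianRing k R
  haveI : IsNoetherian R M := isNoetherian_of_isNoetherianRing_of_finite R M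
  obtain ⟨s, hs⟩ := (IsNoetherian.noetherian (geSub 𝒜 ℳ hposR n) : (geSub 𝒜 ℳ hposR n).FG)
  have key : ∀ z ∈ Submodule.span R (s : Set M),
      proj 𝒜 ℳ n z ∈ Submodule.span k ((proj 𝒜 ℳ n) '' (s : Set M)) := by
    intro z hz
    induction hz using Submodule.span_induction with
    | mem z hz => exact Submodule.subset_span ⟨z, hz, rfl⟩
    | zero => rw [map_zero]; exact zero_mem _
    | add z w _ _ hz hw => rw [map_add]; exact add_mem hz hw
    | smul r z hz ih =>
      have hz' : z ∈ geSub 𝒜 ℳ hposR n := by rw [← hs]; exact hz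
      obtain ⟨c, hc⟩ := proj_smul_of_mem_geSub 𝒜 ℳ hposR h0R n hz' r
      rw [hc]
      exact Submodule.smul_mem _ c ih
  have hle : pieceSub 𝒜 ℳ n ≤ Submodule.span k ((proj 𝒜 ℳ n) '' (s : Set M)) := by
    intro x hx
    have hx' : x ∈ geSub 𝒜 ℳ hposR n := by
      intro m hm
      rw [proj_of_mem 𝒜 ℳ m hx, if_neg (ne_of_gt hm)]
    have hpx : proj 𝒜 ℳ n x = x := by rw [proj_of_mem 𝒜 ℳ n hx, if_pos rfl]
    rw [← hpx]
    rw [← hs] at hx'
    exact key x hx'
  haveI : FiniteDimensional k (Submodule.span k ((proj 𝒜 ℳ n) '' (s : Set M))) :=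
    FiniteDimensional.span_of_finite k ((Finset.finite_toSet s).image _)
  exact Submodule.finiteDimensional_of_le hle

end Piece

section Dual

variable {k R : Type u} [Field k] [CommRing R] [Algebra k R]
  (𝒜 : ℤ → Submodule k R) [GradedAlgebra 𝒜]
  {M : Type u} [AddCommGroup M] [Module R M] [Module k M] [IsScalarTower k R M]
  (ℳ : ℤ → AddSubgroup M) [DirectSum.Decomposition ℳ] [SetLike.GradedSMul 𝒜 ℳ]
  {D : Type u} [AddCommGroup D] [Module R D] [Module k D] [IsScalarTower k R D]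
  (𝒟 : ℤ → AddSubgroup D) [DirectSum.Decomposition 𝒟] [SetLike.GradedSMul 𝒜 𝒟]
  (β : D →ₗ[k] M →ₗ[k] k) (hD : GrSeg.IsGDual R ℳ 𝒟 β)

include hD in
theorem vanish' {m n : ℤ} {d : D} (hd : d ∈ 𝒟 m) {x : M} (hx : x ∈ ℳ n) (h : m ≠ -n) :
    β d x = 0 :=
  hD.vanish m d hd n (fun h' => h (by rw [h', neg_neg])) x hx

include hD in
theorem pair_proj {m : ℤ} {d : D} (hd : d ∈ 𝒟 m) (y : M) :
    β d y = β d (proj 𝒜 ℳ (-m) y) := by
  induction y using DirectSum.Decomposition.inductionOn ℳ with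
  | zero => simp
  | @homogeneous i y =>
    rw [proj_of_mem 𝒜 ℳ (-m) y.2]
    split_ifs with h
    · rfl
    · rw [map_zero]; exact hD.vanish m d hd i h y y.2
  | add y y' h h' => rw [map_add, map_add, map_add, h, h']

include 𝒜 hD in
theorem eq_zero_of_forall (y : M) (hy : ∀ d, β d y = 0) : y = 0 := by
  classical
  have hp : ∀ n : ℤ, proj 𝒜 ℳ n y = 0 := by
    intro n
    by_contra hne
    obtain ⟨φ, hφ⟩ : ∃ φ : M →ₗ[k] k, φ (proj 𝒜 ℳ n y) ≠ 0 := by
      by_contra hcon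
      push Not at hcon
      exact hne ((Module.forall_dual_apply_eq_zero_iff k _).mp hcon)
    obtain ⟨d, hd, hdφ⟩ := hD.exists_eq (-n) φ
    apply hφ
    have h1 := pair_proj 𝒜 ℳ 𝒟 β hD hd y
    rw [neg_neg] at h1
    rw [← hdφ _ (by rw [neg_neg, proj_apply]; exact SetLike.coe_mem _), ← h1, hy]
  rw [← DirectSum.sum_support_decompose ℳ y]
  refine Finset.sum_eq_zero fun n _ => ?_
  have := hp n
  rwa [proj_apply] at this

end Dual

section Main

variable {k : Type u} [Field k] {R : Type u} [CommRing R] [Algebra k R]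
  (𝒜 : ℤ → Submodule k R) [GradedAlgebra 𝒜]
  {F : Type u} [AddCommGroup F] [Module R F] [Module k F] [IsScalarTower k R F]
  (ℱ : ℤ → AddSubgroup F) [DirectSum.Decomposition ℱ] [SetLike.GradedSMul 𝒜 ℱ]
  {M : Type u} [AddCommGroup M] [Module R M] [Module k M] [IsScalarTower k R M]
  (ℳ : ℤ → AddSubgroup M) [DirectSum.Decomposition ℳ] [SetLike.GradedSMul 𝒜 ℳ]
  {DM : Type u} [AddCommGroup DM] [Module R DM] [Module k DM] [IsScalarTower k R DM]
  (𝒟M : ℤ → AddSubgroup DM) [DirectSum.Decomposition 𝒟M] [SetLike.GradedSMul 𝒜 𝒟M]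
  (βM : DM →ₗ[k] M →ₗ[k] k) (hDM : GrSeg.IsGDual R ℳ 𝒟M βM)
  {DF : Type u} [AddCommGroup DF] [Module R DF] [Module k DF] [IsScalarTower k R DF]
  (𝒟F : ℤ → AddSubgroup DF) [DirectSum.Decomposition 𝒟F] [SetLike.GradedSMul 𝒜 𝒟F]
  (βF : DF →ₗ[k] F →ₗ[k] k) (hDF : GrSeg.IsGDual R ℱ 𝒟F βF)
  (g : DM →ₗ[R] DF) (hg : GrLC.IsGrHom 𝒟M 𝒟F g)

include hDM hDF hg in
theorem exists_homog (hfin : ∀ n, Module.Finite k (pieceSub 𝒜 ℳ n)) {n : ℤ} {x : F}
    (hx : x ∈ ℱ n) : ∃ y ∈ ℳ n, ∀ d, βM d y = βF (g d) x := by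
  classical
  haveI := hfin n
  let W := pieceSub 𝒜 ℳ n
  let DW := pieceSub 𝒜 𝒟M (-n)
  let Φ : DW →ₗ[k] Module.Dual k W := βM.domRestrict₁₂ DW W
  have hΦ : ∀ (d : DW) (w : W), Φ d w = βM d w := fun d w => rfl
  have hinj : Function.Injective Φ := by
    rw [← LinearMap.ker_eq_bot, LinearMap.ker_eq_bot']
    intro d hd
    apply Subtype.ext
    apply hDM.eq_zero (-n) d d.2
    intro w hw
    rw [neg_neg] at hw
    have := LinearMap.congr_fun hd ⟨w, hw⟩
    rw [hΦ] at this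
    exact this
  have hsurj : Function.Surjective Φ := by
    intro ψ
    obtain ⟨φ, hφ⟩ := LinearMap.exists_extend ψ
    obtain ⟨d, hd, hdφ⟩ := hDM.exists_eq (-n) φ
    refine ⟨⟨d, hd⟩, ?_⟩
    ext w
    rw [hΦ]
    show βM d w = ψ w
    rw [hdφ w (by rw [neg_neg]; exact w.2), ← hφ]
    rfl
  let e : DW ≃ₗ[k] Module.Dual k W := LinearEquiv.ofBijective Φ ⟨hinj, hsurj⟩
  let lam : DW →ₗ[k] k :=
    { toFun := fun d => βF (g d) x
      map_add' := fun d d' => by
        rw [Submodule.coe_add, map_add, map_add, LinearMap.add_apply]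
      map_smul' := fun c d => by
        rw [Submodule.coe_smul, RingHom.id_apply, LinearMap.map_smul_of_tower, map_smul,
          LinearMap.smul_apply] }
  let y : W := (Module.evalEquiv k W).symm (lam ∘ₗ e.symm.toLinearMap)
  have hy : ∀ d : DW, βM d y = lam d := by
    intro d
    have := Module.apply_evalEquiv_symm_apply (f := e d) (g := lam ∘ₗ e.symm.toLinearMap)
    rw [LinearMap.comp_apply, LinearEquiv.coe_coe, LinearEquiv.symm_apply_apply] at this
    exact this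
  refine ⟨y, y.2, fun d => ?_⟩
  induction d using DirectSum.Decomposition.inductionOn 𝒟M with
  | zero => simp
  | @homogeneous m d =>
    by_cases h : m = -n
    · subst h
      exact hy ⟨d, d.2⟩
    · rw [vanish' ℳ 𝒟M βM hDM d.2 y.2 h, vanish' ℱ 𝒟F βF hDF (hg m d d.2) hx h]
  | add d d' h h' => rw [map_add, map_add, map_add, LinearMap.add_apply, LinearMap.add_apply, h, h']

end Main

end Groth.Agent.Helper9.GrDualHom
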