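import Mathlib
import Groth.Prelude.Def_GrSeg
import Groth.Prelude.Def_GrLC
import Groth.Agent.Helper9.GrDualHom

set_option autoImplicit false
set_option linter.unusedSectionVars false
universe u

namespace Groth.Agent.Helper9.GrDualEss

open Groth.Agent.Helper9.SegreMod Groth.Agent.Helper9.GrDualHom

section Piece

variable {k R : Type u} [Field k] [CommRing R] [Algebra k R]
  (𝒜 : ℤ → Submodule k R) [GradedAlgebra 𝒜]
  {M : Type u} [AddCommGroup M] [Module R M] [Module k M] [IsScalarTower k R M]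
  (ℳ : ℤ → AddSubgroup M) [DirectSum.Decomposition ℳ] [SetLike.GradedSMul 𝒜 ℳ]

theorem sum_proj (x : M) : ∃ s : Finset ℤ, x = ∑ i ∈ s, proj 𝒜 ℳ i x := by
  classical
  refine ⟨(DirectSum.decompose ℳ x).support, ?_⟩
  conv_lhs => rw [← DirectSum.sum_support_decompose ℳ x]
  rfl

theorem eq_zero_of_proj (x : M) (h : ∀ n, proj 𝒜 ℳ n x = 0) : x = 0 := by
  obtain ⟨s, hs⟩ := sum_proj 𝒜 ℳ x
  rw [hs]
  exact Finset.sum_eq_zero fun n _ => h n

theorem mem_of_proj_eq_zero {n : ℤ} (x : M) (h : ∀ j, j ≠ n → proj 𝒜 ℳ j x = 0) : x ∈ ℳ n := by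
  obtain ⟨s, hs⟩ := sum_proj 𝒜 ℳ x
  rw [hs]
  refine sum_mem fun j _ => ?_
  by_cases hj : j = n
  · subst hj
    rw [proj_apply]
    exact SetLike.coe_mem _
  · rw [h j hj]
    exact zero_mem _

theorem proj_mem (n : ℤ) (x : M) : proj 𝒜 ℳ n x ∈ ℳ n := by
  rw [proj_apply]
  exact SetLike.coe_mem _

/-- finitely generated graded modules over a nonnegatively graded ring are bounded below -/
theorem exists_lower_bound [Module.Finite R M] (hposR : ∀ n : ℤ, n < 0 → 𝒜 n = ⊥) :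
    ∃ N : ℤ, ∀ m : ℤ, m < N → ∀ x : M, proj 𝒜 ℳ m x = 0 := by
  classical
  obtain ⟨s, hs⟩ := (Module.Finite.fg_top : (⊤ : Submodule R M).FG)
  obtain ⟨N', hN'⟩ := Finset.exists_le
    ((s.biUnion fun x => (DirectSum.decompose ℳ x).support).image Neg.neg)
  have hN : ∀ i ∈ (s.biUnion fun x => (DirectSum.decompose ℳ x).support), -N' ≤ i := by
    intro i hi
    have := hN' (-i) (Finset.mem_image.mpr ⟨i, hi, rfl⟩)
    omega
  refine ⟨-N', fun m hm x => ?_⟩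
  have hsub : (s : Set M) ⊆ geSub 𝒜 ℳ hposR (-N') := by
    intro y hy j hj
    rw [proj_apply]
    by_contra hne
    have hmem : j ∈ (DirectSum.decompose ℳ y).support := by
      rw [DFinsupp.mem_support_iff]
      intro h0
      exact hne (by rw [h0]; rfl)
    have := hN j (Finset.mem_biUnion.mpr ⟨y, hy, hmem⟩)
    exact absurd this (not_le.mpr hj)
  have htop : (⊤ : Submodule R M) ≤ geSub 𝒜 ℳ hposR (-N') := by
    rw [← hs]
    exact Submodule.span_le.mpr hsub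
  exact htop (Submodule.mem_top : x ∈ ⊤) m hm

/-- every element is a scalar modulo the irrelevant ideal -/
theorem exists_sub_mem (hposR : ∀ n : ℤ, n < 0 → 𝒜 n = ⊥)
    (h0R : 𝒜 0 = Submodule.span k {(1 : R)}) (I : Ideal R)
    (hI : I = Ideal.span (⋃ n ∈ Set.Ioi (0 : ℤ), (𝒜 n : Set R))) (r : R) :
    ∃ c : k, r - c • (1 : R) ∈ I := by
  induction r using DirectSum.Decomposition.inductionOn 𝒜 with
  | zero => exact ⟨0, by rw [zero_smul, sub_zero]; exact zero_mem _⟩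
  | @homogeneous a r =>
    rcases lt_trichotomy a 0 with ha | ha | ha
    · have : (r : R) = 0 := eq_zero_of_neg 𝒜 hposR ha r.2
      exact ⟨0, by rw [this, zero_smul, sub_zero]; exact zero_mem _⟩
    · obtain ⟨c, hc⟩ := exists_of_zero 𝒜 h0R ha r.2
      exact ⟨c, by rw [hc, sub_self]; exact zero_mem _⟩
    · refine ⟨0, ?_⟩
      rw [zero_smul, sub_zero, hI]
      apply Ideal.subset_span
      simp only [Set.mem_iUnion, Set.mem_Ioi, SetLike.mem_coe]
      exact ⟨a, ha, r.2⟩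
  | add r r' hr hr' =>
    obtain ⟨c, hc⟩ := hr
    obtain ⟨c', hc'⟩ := hr'
    refine ⟨c + c', ?_⟩
    have : r + r' - (c + c') • (1 : R) = (r - c • (1 : R)) + (r' - c' • (1 : R)) := by
      rw [add_smul]; abel
    rw [this]
    exact add_mem hc hc'

end Piece

section Hom

variable {k R : Type u} [Field k] [CommRing R] [Algebra k R]
  (𝒜 : ℤ → Submodule k R) [GradedAlgebra 𝒜]
  {F : Type u} [AddCommGroup F] [Module R F] [Module k F] [IsScalarTower k R F]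
  (ℱ : ℤ → AddSubgroup F) [DirectSum.Decomposition ℱ] [SetLike.GradedSMul 𝒜 ℱ]
  {M : Type u} [AddCommGroup M] [Module R M] [Module k M] [IsScalarTower k R M]
  (ℳ : ℤ → AddSubgroup M) [DirectSum.Decomposition ℳ] [SetLike.GradedSMul 𝒜 ℳ]

theorem map_proj (f : F →ₗ[R] M) (hf : GrLC.IsGrHom ℱ ℳ f) (n : ℤ) (x : F) :
    f (proj 𝒜 ℱ n x) = proj 𝒜 ℳ n (f x) := by
  induction x using DirectSum.Decomposition.inductionOn ℱ with
  | zero => simp
  | @homogeneous i x =>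
    rw [proj_of_mem 𝒜 ℱ n x.2, proj_of_mem 𝒜 ℳ n (hf i x x.2)]
    split_ifs
    · rfl
    · rw [map_zero]
  | add x y hx hy => rw [map_add, map_add, map_add, map_add, hx, hy]

end Hom

section Dual

variable {k R : Type u} [Field k] [CommRing R] [Algebra k R]
  (𝒜 : ℤ → Submodule k R) [GradedAlgebra 𝒜]
  {M : Type u} [AddCommGroup M] [Module R M] [Module k M] [IsScalarTower k R M]
  (ℳ : ℤ → AddSubgroup M) [DirectSum.Decomposition ℳ] [SetLike.GradedSMul 𝒜 ℳ]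
  {D : Type u} [AddCommGroup D] [Module R D] [Module k D] [IsScalarTower k R D]
  (𝒟 : ℤ → AddSubgroup D) [DirectSum.Decomposition 𝒟] [SetLike.GradedSMul 𝒜 𝒟]
  (β : D →ₗ[k] M →ₗ[k] k) (hD : GrSeg.IsGDual R ℳ 𝒟 β)

include hD in
theorem pair_proj_left {m : ℤ} {x : M} (hx : x ∈ ℳ m) (d : D) :
    β d x = β (proj 𝒜 𝒟 (-m) d) x := by
  induction d using DirectSum.Decomposition.inductionOn 𝒟 with
  | zero => simp
  | @homogeneous i d =>
    rw [proj_of_mem 𝒜 𝒟 (-m) d.2]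
    split_ifs with h
    · rfl
    · rw [map_zero, LinearMap.zero_apply]
      exact vanish' ℳ 𝒟 β hD d.2 hx h
  | add d d' h h' =>
    rw [map_add, map_add, map_add, LinearMap.add_apply, LinearMap.add_apply, h, h']

include 𝒜 hD in
theorem eq_zero_of_forall_left (d : D) (hd : ∀ y, β d y = 0) : d = 0 := by
  apply eq_zero_of_proj 𝒜 𝒟
  intro n
  apply hD.eq_zero n _ (proj_mem 𝒜 𝒟 n d)
  intro x hx
  have := pair_proj_left 𝒜 ℳ 𝒟 β hD hx d
  rw [neg_neg] at this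
  rw [← this, hd]

include 𝒜 hD in
/-- it suffices to test on homogeneous elements -/
theorem eq_zero_of_forall_homog (d : D) (hd : ∀ n, ∀ y ∈ ℳ n, β d y = 0) : d = 0 := by
  apply eq_zero_of_forall_left 𝒜 ℳ 𝒟 β hD
  intro y
  obtain ⟨s, hs⟩ := sum_proj 𝒜 ℳ y
  rw [hs, map_sum]
  exact Finset.sum_eq_zero fun n _ => hd n _ (proj_mem 𝒜 ℳ n y)

end Dual

section Main

variable {k : Type u} [Field k] {R : Type u} [CommRing R] [Algebra k R]
  (𝒜 : ℤ → Submodule k R) [GradedAlgebra 𝒜]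
  {F : Type u} [AddCommGroup F] [Module R F] [Module k F] [IsScalarTower k R F]
  (ℱ : ℤ → AddSubgroup F) [DirectSum.Decomposition ℱ] [SetLike.GradedSMul 𝒜 ℱ]
  {M : Type u} [AddCommGroup M] [Module R M] [Module k M] [IsScalarTower k R M]
  (ℳ : ℤ → AddSubgroup M) [DirectSum.Decomposition ℳ] [SetLike.GradedSMul 𝒜 ℳ]
  {DM : Type u} [AddCommGroup DM] [Module R DM] [Module k DM] [IsScalarTower k R DM]
  (𝒟M : ℤ → AddSubgroup DM) [DirectSum.Decomposition 𝒟M] [SetLike.GradedSMul 𝒜 𝒟M]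
  (βM : DM →ₗ[k] M →ₗ[k] k) (hDM : GrSeg.IsGDual R ℳ 𝒟M βM)
  {DF : Type u} [AddCommGroup DF] [Module R DF] [Module k DF] [IsScalarTower k R DF]
  (𝒟F : ℤ → AddSubgroup DF) [DirectSum.Decomposition 𝒟F] [SetLike.GradedSMul 𝒜 𝒟F]
  (βF : DF →ₗ[k] F →ₗ[k] k) (hDF : GrSeg.IsGDual R ℱ 𝒟F βF)
  (f : F →ₗ[R] M) (hfgr : GrLC.IsGrHom ℱ ℳ f)
  (g : DM →ₗ[R] DF) (hg : GrSeg.IsGDualMap βM βF f g)

include 𝒜 hDM hDF hfgr hg in
theorem dualMap_grHom : GrLC.IsGrHom 𝒟M 𝒟F g := by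
  intro n d hd
  apply mem_of_proj_eq_zero 𝒜 𝒟F
  intro j hj
  apply hDF.eq_zero j _ (proj_mem 𝒜 𝒟F j _)
  intro x hx
  have h1 := pair_proj_left 𝒜 ℱ 𝒟F βF hDF hx (g d)
  rw [neg_neg] at h1
  rw [← h1, hg d x]
  exact vanish' ℳ 𝒟M βM hDM hd (hfgr _ x hx) (by rw [neg_neg]; exact fun h => hj h.symm)

include 𝒜 hDM hg in
theorem dualMap_injective (hf : Function.Surjective f) : Function.Injective g := by
  rw [← LinearMap.ker_eq_bot, LinearMap.ker_eq_bot']
  intro d hd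
  apply eq_zero_of_forall_left 𝒜 ℳ 𝒟M βM hDM
  intro y
  obtain ⟨x, rfl⟩ := hf y
  rw [← hg d x, hd, map_zero, LinearMap.zero_apply]

include 𝒜 hDM hDF hfgr hg in
theorem mem_range_of_vanish (hf : Function.Surjective f) {j : ℤ} {e : DF} (he : e ∈ 𝒟F j)
    (hker : ∀ x ∈ LinearMap.ker f, βF e x = 0) : e ∈ LinearMap.range g := by
  obtain ⟨s, hs⟩ := (f.restrictScalars k).exists_rightInverse_of_surjective
    (LinearMap.range_eq_top.mpr hf)
  let φ : M →ₗ[k] k := (βF e) ∘ₗ s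
  have hφ : ∀ x, φ (f x) = βF e x := by
    intro x
    show βF e (s (f x)) = βF e x
    rw [← sub_eq_zero, ← map_sub]
    apply hker
    rw [LinearMap.mem_ker, map_sub, sub_eq_zero]
    exact LinearMap.congr_fun hs (f x)
  obtain ⟨d, hd, hdφ⟩ := hDM.exists_eq j φ
  refine ⟨d, ?_⟩
  rw [← sub_eq_zero]
  apply hDF.eq_zero j _
    (sub_mem (dualMap_grHom 𝒜 ℱ ℳ 𝒟M βM hDM 𝒟F βF hDF f hfgr g hg j d hd) he)
  intro x hx
  rw [map_sub, LinearMap.sub_apply, hg d x, hdφ _ (hfgr _ x hx), hφ, sub_self]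

theorem exists_socle (N : ℤ) (hN : ∀ j : ℤ, -j < N → ∀ e ∈ 𝒟F j, e = 0) :
    ∀ (t : ℕ) (j : ℤ) (e : DF), e ∈ 𝒟F j → e ≠ 0 → -N - j ≤ t →
      ∃ (r : R) (j' : ℤ), r • e ∈ 𝒟F j' ∧ r • e ≠ 0 ∧
        ∀ a : ℤ, 0 < a → ∀ r' ∈ 𝒜 a, r' • (r • e) = 0 := by
  intro t
  induction t with
  | zero =>
    intro j e he hne hj
    refine ⟨1, j, by rwa [one_smul], by rwa [one_smul], ?_⟩
    intro a ha r' hr'
    rw [one_smul]
    apply hN (a + j) (by push_cast at hj; omega)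
    have := SetLike.GradedSMul.smul_mem (A := 𝒜) (B := 𝒟F) hr' he
    rwa [vadd_eq_add] at this
  | succ t ih =>
    intro j e he hne hj
    by_cases h : ∀ a : ℤ, 0 < a → ∀ r' ∈ 𝒜 a, r' • e = 0
    · exact ⟨1, j, by rwa [one_smul], by rwa [one_smul],
        fun a ha r' hr' => by rw [one_smul]; exact h a ha r' hr'⟩
    · push Not at h
      obtain ⟨a, ha, r', hr', hne'⟩ := h
      have hmem : r' • e ∈ 𝒟F (a + j) := by
        have := SetLike.GradedSMul.smul_mem (A := 𝒜) (B := 𝒟F) hr' he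
        rwa [vadd_eq_add] at this
      obtain ⟨r, j', h1, h2, h3⟩ := ih (a + j) (r' • e) hmem hne' (by push_cast at hj; omega)
      refine ⟨r * r', j', ?_, ?_, ?_⟩
      · rwa [mul_smul]
      · rwa [mul_smul]
      · intro a' ha' r'' hr''
        rw [mul_smul]
        exact h3 a' ha' r'' hr''

omit [GradedAlgebra 𝒜] [DirectSum.Decomposition 𝒟F] [SetLike.GradedSMul 𝒜 𝒟F] in
theorem smul_eq_zero_of_mem (I : Ideal R)
    (hI : I = Ideal.span (⋃ n ∈ Set.Ioi (0 : ℤ), (𝒜 n : Set R))) {e : DF}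
    (h : ∀ a : ℤ, 0 < a → ∀ r' ∈ 𝒜 a, r' • e = 0) : ∀ r ∈ I, r • e = 0 := by
  intro r hr
  rw [hI] at hr
  induction hr using Submodule.span_induction with
  | mem r hr =>
    simp only [Set.mem_iUnion, Set.mem_Ioi, SetLike.mem_coe] at hr
    obtain ⟨a, ha, hra⟩ := hr
    exact h a ha r hra
  | zero => rw [zero_smul]
  | add r r' _ _ h1 h2 => rw [add_smul, h1, h2, add_zero]
  | smul c r _ h1 => rw [smul_eq_mul, mul_smul, h1, smul_zero]

include hDM hDF hfgr hg in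
theorem ess_of_ker_le [Module.Finite R F] (hposR : ∀ n : ℤ, n < 0 → 𝒜 n = ⊥) (I : Ideal R)
    (hI : I = Ideal.span (⋃ n ∈ Set.Ioi (0 : ℤ), (𝒜 n : Set R)))
    (hf : Function.Surjective f) (hker : LinearMap.ker f ≤ I • (⊤ : Submodule R F)) :
    GrLC.IsStarEss 𝒟M 𝒟F g := by
  refine ⟨dualMap_injective 𝒜 ℳ 𝒟M βM hDM βF f g hg hf,
    dualMap_grHom 𝒜 ℱ ℳ 𝒟M βM hDM 𝒟F βF hDF f hfgr g hg, ?_⟩
  intro P hP hPne
  obtain ⟨z, hzP, hz⟩ := Submodule.exists_mem_ne_zero_of_ne_bot hPne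
  obtain ⟨i, hi⟩ : ∃ i, proj 𝒜 𝒟F i z ≠ 0 := by
    by_contra hcon
    push Not at hcon
    exact hz (eq_zero_of_proj 𝒜 𝒟F z hcon)
  have heP : proj 𝒜 𝒟F i z ∈ P := hP i hzP
  obtain ⟨N, hN⟩ := exists_lower_bound 𝒜 ℱ hposR
  have hN' : ∀ j : ℤ, -j < N → ∀ e ∈ 𝒟F j, e = 0 := by
    intro j hj e he
    apply hDF.eq_zero j e he
    intro x hx
    have : x = 0 := by
      have h1 := hN (-j) hj x
      rwa [proj_of_mem 𝒜 ℱ (-j) hx, if_pos rfl] at h1
    rw [this, map_zero]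
  obtain ⟨r, j', h1, h2, h3⟩ := exists_socle 𝒜 𝒟F N hN' (-N - i).toNat i _
    (proj_mem 𝒜 𝒟F i z) hi (Int.self_le_toNat _)
  have hkill := smul_eq_zero_of_mem 𝒜 I hI h3
  have hvan' : ∀ x ∈ I • (⊤ : Submodule R F), βF (r • proj 𝒜 𝒟F i z) x = 0 := by
    intro x hx
    refine Submodule.smul_induction_on hx ?_ ?_
    · intro a ha y _
      rw [← hDF.map_smul, hkill a ha, map_zero, LinearMap.zero_apply]
    · intro y y' h h'
      rw [map_add, h, h', add_zero]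
  have hrange := mem_range_of_vanish 𝒜 ℱ ℳ 𝒟M βM hDM 𝒟F βF hDF f hfgr g hg hf h1
    (fun x hx => hvan' x (hker hx))
  intro hbot
  have : r • proj 𝒜 𝒟F i z ∈ P ⊓ LinearMap.range g := ⟨P.smul_mem r heP, hrange⟩
  rw [hbot] at this
  exact h2 ((Submodule.mem_bot R).mp this)

include hDF hfgr hg in
theorem ker_le_of_ess (hposR : ∀ n : ℤ, n < 0 → 𝒜 n = ⊥)
    (h0R : 𝒜 0 = Submodule.span k {(1 : R)}) (I : Ideal R)
    (hI : I = Ideal.span (⋃ n ∈ Set.Ioi (0 : ℤ), (𝒜 n : Set R)))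
    (hess : GrLC.IsStarEss 𝒟M 𝒟F g) : LinearMap.ker f ≤ I • (⊤ : Submodule R F) := by
  intro x₀ hx₀
  obtain ⟨s, hs⟩ := sum_proj 𝒜 ℱ x₀
  rw [hs]
  refine sum_mem fun n _ => ?_
  have hxK : proj 𝒜 ℱ n x₀ ∈ LinearMap.ker f := by
    rw [LinearMap.mem_ker, map_proj 𝒜 ℱ ℳ f hfgr, LinearMap.mem_ker.mp hx₀, map_zero]
  have hxn := proj_mem 𝒜 ℱ n x₀
  generalize proj 𝒜 ℱ n x₀ = x at hxK hxn
  by_contra hnot
  obtain ⟨φ, hφx, hφ⟩ := Submodule.exists_le_ker_of_notMem (K := k)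
    (p := (I • (⊤ : Submodule R F)).restrictScalars k) (v := x) hnot
  obtain ⟨e, he, heφ⟩ := hDF.exists_eq (-n) φ
  have hkill0 : ∀ a : ℤ, 0 < a → ∀ r' ∈ 𝒜 a, r' • e = 0 := by
    intro a ha r' hr'
    apply eq_zero_of_forall_homog 𝒜 ℱ 𝒟F βF hDF
    intro b y hy
    rw [hDF.map_smul]
    have hry : r' • y ∈ ℱ (a + b) := by
      have := SetLike.GradedSMul.smul_mem (A := 𝒜) (B := ℱ) hr' hy
      rwa [vadd_eq_add] at this
    by_cases hab : a + b = n
    · rw [heφ _ (by rw [neg_neg, ← hab]; exact hry)]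
      apply hφ
      show r' • y ∈ I • (⊤ : Submodule R F)
      apply Submodule.smul_mem_smul _ Submodule.mem_top
      rw [hI]
      apply Ideal.subset_span
      simp only [Set.mem_iUnion, Set.mem_Ioi, SetLike.mem_coe]
      exact ⟨a, ha, hr'⟩
    · exact vanish' ℱ 𝒟F βF hDF he hry (fun h => hab (neg_inj.mp h).symm)
  have hkill := smul_eq_zero_of_mem 𝒜 I hI hkill0
  have hex : βF e x ≠ 0 := by
    rw [heφ x (by rw [neg_neg]; exact hxn)]
    exact hφx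
  have hene : e ≠ 0 := fun h => hex (by rw [h, map_zero, LinearMap.zero_apply])
  have hRe : ∀ r : R, ∃ c : k, r • e = c • e := by
    intro r
    obtain ⟨c, hc⟩ := exists_sub_mem 𝒜 hposR h0R I hI r
    refine ⟨c, ?_⟩
    have := hkill _ hc
    rw [sub_smul, sub_eq_zero, smul_assoc, one_smul] at this
    exact this
  have hPhom : (Submodule.span R {e}).IsHomogeneous 𝒟F := by
    intro i z hz
    rw [Submodule.mem_span_singleton] at hz
    obtain ⟨r, rfl⟩ := hz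
    obtain ⟨c, hc⟩ := hRe r
    rw [hc]
    have hce : c • e ∈ 𝒟F (-n) := ksmul_mem 𝒜 𝒟F c he
    by_cases hi : -n = i
    · subst hi
      rw [DirectSum.decompose_of_mem_same 𝒟F hce, ← hc]
      exact Submodule.smul_mem _ r (Submodule.mem_span_singleton_self e)
    · rw [DirectSum.decompose_of_mem_ne 𝒟F hce hi]
      exact zero_mem _
  have hPne : Submodule.span R {e} ≠ ⊥ := by
    intro h
    apply hene
    have : e ∈ Submodule.span R {e} := Submodule.mem_span_singleton_self e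
    rw [h] at this
    exact (Submodule.mem_bot R).mp this
  have hmeet := hess.essential _ hPhom hPne
  obtain ⟨z, hz, hzne⟩ := Submodule.exists_mem_ne_zero_of_ne_bot hmeet
  obtain ⟨hz1, hz2⟩ := hz
  rw [SetLike.mem_coe, Submodule.mem_span_singleton] at hz1
  rw [SetLike.mem_coe] at hz2
  obtain ⟨r, rfl⟩ := hz1
  obtain ⟨c, hc⟩ := hRe r
  obtain ⟨d, hd⟩ := hz2
  have hc0 : c ≠ 0 := by
    intro h
    apply hzne
    rw [hc, h, zero_smul]
  have : βF (r • e) x = 0 := by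
    rw [← hd, hg d x, LinearMap.mem_ker.mp hxK, map_zero]
  rw [hc, map_smul, LinearMap.smul_apply, smul_eq_mul] at this
  exact hex ((mul_eq_zero.mp this).resolve_left hc0)

end Main

end Groth.Agent.Helper9.GrDualEss
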