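import Mathlib
import Groth.Prelude.Def_GrSeg
import Groth.Prelude.Def_GrLC
import Groth.Agent.Helper9.GrDualEss

set_option autoImplicit false
set_option linter.unusedSectionVars false
universe u

namespace Groth.Agent.Helper9.GrDualArt

open Groth.Agent.Helper9.SegreMod Groth.Agent.Helper9.GrDualHom Groth.Agent.Helper9.GrDualEss

section Piece

variable {k R : Type u} [Field k] [CommRing R] [Algebra k R]
  (𝒜 : ℤ → Submodule k R) [GradedAlgebra 𝒜]
  {M : Type u} [AddCommGroup M] [Module R M] [Module k M] [IsScalarTower k R M]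
  (ℳ : ℤ → AddSubgroup M) [DirectSum.Decomposition ℳ] [SetLike.GradedSMul 𝒜 ℳ]

theorem exists_lower (d : M) : ∃ L : ℤ, ∀ i : ℤ, i < L → proj 𝒜 ℳ i d = 0 := by
  classical
  obtain ⟨L', hL'⟩ := Finset.exists_le ((DirectSum.decompose ℳ d).support.image Neg.neg)
  refine ⟨-L', fun i hi => ?_⟩
  by_contra hne
  have hmem : i ∈ (DirectSum.decompose ℳ d).support := by
    rw [DFinsupp.mem_support_iff]
    intro h0
    apply hne
    rw [proj_apply, h0]
    rfl
  have := hL' (-i) (Finset.mem_image.mpr ⟨i, hmem, rfl⟩)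
  omega

theorem proj_proj (i j : ℤ) (d : M) :
    proj 𝒜 ℳ j (proj 𝒜 ℳ i d) = if i = j then proj 𝒜 ℳ i d else 0 :=
  proj_of_mem 𝒜 ℳ j (proj_mem 𝒜 ℳ i d)

include 𝒜 in
/-- the span of homogeneous elements is a homogeneous submodule -/
theorem span_isHomogeneous (s : Set M) (hs : ∀ x ∈ s, ∃ j, x ∈ ℳ j) :
    (Submodule.span R s).IsHomogeneous ℳ := by
  intro i z hz
  show proj 𝒜 ℳ i z ∈ Submodule.span R s
  induction hz using Submodule.span_induction generalizing i with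
  | mem z hz =>
    obtain ⟨j, hj⟩ := hs z hz
    rw [proj_of_mem 𝒜 ℳ i hj]
    split_ifs
    · exact Submodule.subset_span hz
    · exact zero_mem _
  | zero => rw [map_zero]; exact zero_mem _
  | add z w _ _ hz hw => rw [map_add]; exact add_mem (hz i) (hw i)
  | smul r z _ ih =>
    induction r using DirectSum.Decomposition.inductionOn 𝒜 with
    | zero => rw [zero_smul, map_zero]; exact zero_mem _
    | @homogeneous a r =>
      rw [proj_apply, proj_smul 𝒜 ℳ a r r.2 z i]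
      exact Submodule.smul_mem _ _ (ih (i - a))
    | add r r' hr hr' => rw [add_smul, map_add]; exact add_mem hr hr'

/-- pieces of an Artinian graded module are finite-dimensional -/
theorem artinian_piece (hposR : ∀ n : ℤ, n < 0 → 𝒜 n = ⊥)
    (h0R : 𝒜 0 = Submodule.span k {(1 : R)}) [IsArtinian R M] (n : ℤ) :
    Module.Finite k (pieceSub 𝒜 ℳ n) := by
  let Φ : Submodule k (pieceSub 𝒜 ℳ n) → Submodule R M := fun V =>
    Submodule.span R ((fun w : pieceSub 𝒜 ℳ n => (w : M)) '' (V : Set (pieceSub 𝒜 ℳ n)))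
  have hmono : Monotone Φ := fun V V' h => Submodule.span_mono (Set.image_mono h)
  have hrec : ∀ (V : Submodule k (pieceSub 𝒜 ℳ n)) (w : pieceSub 𝒜 ℳ n),
      (w : M) ∈ Φ V → w ∈ V := by
    intro V w hw
    have hsub : Φ V ≤ geSub 𝒜 ℳ hposR n := by
      apply Submodule.span_le.mpr
      rintro _ ⟨v, _, rfl⟩ m hm
      rw [proj_of_mem 𝒜 ℳ m v.2, if_neg (ne_of_gt hm)]
    have key : ∀ z ∈ Φ V, ∃ v ∈ V, proj 𝒜 ℳ n z = (v : M) := by
      intro z hz
      induction hz using Submodule.span_induction with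
      | mem z hz =>
        obtain ⟨v, hv, rfl⟩ := hz
        exact ⟨v, hv, by rw [proj_of_mem 𝒜 ℳ n v.2, if_pos rfl]⟩
      | zero => exact ⟨0, zero_mem _, by rw [map_zero]; rfl⟩
      | add z z' _ _ h h' =>
        obtain ⟨v, hv, e⟩ := h
        obtain ⟨v', hv', e'⟩ := h'
        exact ⟨v + v', add_mem hv hv', by rw [map_add, e, e']; rfl⟩
      | smul r z hz ih =>
        obtain ⟨v, hv, e⟩ := ih
        obtain ⟨c, hc⟩ := proj_smul_of_mem_geSub 𝒜 ℳ hposR h0R n (hsub hz) r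
        exact ⟨c • v, Submodule.smul_mem _ c hv, by rw [hc, e]; rfl⟩
    obtain ⟨v, hv, e⟩ := key _ hw
    have : w = v := by
      apply Subtype.ext
      rw [← e, proj_of_mem 𝒜 ℳ n w.2, if_pos rfl]
    rw [this]
    exact hv
  have hinj : Function.Injective Φ := by
    intro V V' h
    ext w
    constructor
    · intro hw
      apply hrec V' w
      rw [← h]
      exact Submodule.subset_span ⟨w, hw, rfl⟩
    · intro hw
      apply hrec V w
      rw [h]
      exact Submodule.subset_span ⟨w, hw, rfl⟩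
  have hstrict : StrictMono Φ := hmono.strictMono_of_injective hinj
  haveI : IsArtinian k (pieceSub 𝒜 ℳ n) := hstrict.wellFoundedLT
  exact ((IsSemisimpleModule.finite_tfae (R := k) (M := pieceSub 𝒜 ℳ n)).out 0 2).mpr this

end Piece

section Dual

variable {k R : Type u} [Field k] [CommRing R] [Algebra k R]
  (𝒜 : ℤ → Submodule k R) [GradedAlgebra 𝒜]
  {M : Type u} [AddCommGroup M] [Module R M] [Module k M] [IsScalarTower k R M]
  (ℳ : ℤ → AddSubgroup M) [DirectSum.Decomposition ℳ] [SetLike.GradedSMul 𝒜 ℳ]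
  {D : Type u} [AddCommGroup D] [Module R D] [Module k D] [IsScalarTower k R D]
  (𝒟 : ℤ → AddSubgroup D) [DirectSum.Decomposition 𝒟] [SetLike.GradedSMul 𝒜 𝒟]
  (β : D →ₗ[k] M →ₗ[k] k) (hD : GrSeg.IsGDual R ℳ 𝒟 β)

include hD in
/-- pieces of the dual are finite-dimensional -/
theorem finite_dual_piece (n : ℤ) [Module.Finite k (pieceSub 𝒜 ℳ (-n))] :
    Module.Finite k (pieceSub 𝒜 𝒟 n) := by
  let Φ : pieceSub 𝒜 𝒟 n →ₗ[k] Module.Dual k (pieceSub 𝒜 ℳ (-n)) := β.domRestrict₁₂ _ _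
  have hinj : Function.Injective Φ := by
    rw [← LinearMap.ker_eq_bot, LinearMap.ker_eq_bot']
    intro d hd
    apply Subtype.ext
    apply hD.eq_zero n d d.2
    intro w hw
    exact LinearMap.congr_fun hd ⟨w, hw⟩
  exact Module.Finite.of_injective Φ hinj

include hD in
theorem exists_repr (n : ℤ) [Module.Finite k (pieceSub 𝒜 ℳ n)] (lam : D →ₗ[k] k) :
    ∃ y ∈ ℳ n, ∀ d ∈ 𝒟 (-n), β d y = lam d := by
  classical
  let W := pieceSub 𝒜 ℳ n
  let DW := pieceSub 𝒜 𝒟 (-n)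
  let Φ : DW →ₗ[k] Module.Dual k W := β.domRestrict₁₂ DW W
  have hΦ : ∀ (d : DW) (w : W), Φ d w = β d w := fun d w => rfl
  have hinj : Function.Injective Φ := by
    rw [← LinearMap.ker_eq_bot, LinearMap.ker_eq_bot']
    intro d hd
    apply Subtype.ext
    apply hD.eq_zero (-n) d d.2
    intro w hw
    rw [neg_neg] at hw
    have := LinearMap.congr_fun hd ⟨w, hw⟩
    rw [hΦ] at this
    exact this
  have hsurj : Function.Surjective Φ := by
    intro ψ
    obtain ⟨φ, hφ⟩ := LinearMap.exists_extend ψ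
    obtain ⟨d, hd, hdφ⟩ := hD.exists_eq (-n) φ
    refine ⟨⟨d, hd⟩, ?_⟩
    ext w
    rw [hΦ]
    show β d w = ψ w
    rw [hdφ w (by rw [neg_neg]; exact w.2), ← hφ]
    rfl
  let e : DW ≃ₗ[k] Module.Dual k W := LinearEquiv.ofBijective Φ ⟨hinj, hsurj⟩
  let y : W := (Module.evalEquiv k W).symm ((lam ∘ₗ DW.subtype) ∘ₗ e.symm.toLinearMap)
  have hy : ∀ d : DW, β d y = lam d := by
    intro d
    have := Module.apply_evalEquiv_symm_apply (f := e d)
      (g := (lam ∘ₗ DW.subtype) ∘ₗ e.symm.toLinearMap)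
    rw [LinearMap.comp_apply, LinearEquiv.coe_coe, LinearEquiv.symm_apply_apply] at this
    exact this
  exact ⟨y, y.2, fun d hd => hy ⟨d, hd⟩⟩

include 𝒜 hD in
/-- reflexivity: `M` is the graded dual of `M^*` under the transposed pairing -/
theorem isGDual_flip (hfin : ∀ n, Module.Finite k (pieceSub 𝒜 ℳ n)) :
    GrSeg.IsGDual R 𝒟 ℳ β.flip := by
  refine ⟨?_, ?_, ?_, ?_⟩
  · intro r x d
    exact (hD.map_smul r d x).symm
  · intro n x hx m hm d hd
    exact vanish' ℳ 𝒟 β hD hd hx hm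
  · intro n x hx h
    by_contra hne
    obtain ⟨φ, hφ⟩ : ∃ φ : M →ₗ[k] k, φ x ≠ 0 := by
      by_contra hcon
      push Not at hcon
      exact hne ((Module.forall_dual_apply_eq_zero_iff k _).mp hcon)
    obtain ⟨d, hd, hdφ⟩ := hD.exists_eq (-n) φ
    apply hφ
    rw [← hdφ x (by rw [neg_neg]; exact hx)]
    exact h d hd
  · intro n g
    haveI := hfin n
    obtain ⟨y, hy, h⟩ := exists_repr 𝒜 ℳ 𝒟 β hD n g
    exact ⟨y, hy, h⟩

/-- the annihilator in `M` of a submodule of the dual -/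
def perp (P : Submodule R D) : Submodule R M where
  carrier := {x | ∀ d ∈ P, β d x = 0}
  add_mem' := by
    intro x y hx hy d hd
    rw [map_add, hx d hd, hy d hd, add_zero]
  zero_mem' := by
    intro d _
    rw [map_zero]
  smul_mem' := by
    intro r x hx d hd
    rw [← hD.map_smul]
    exact hx _ (P.smul_mem r hd)

theorem perp_anti {P P' : Submodule R D} (h : P ≤ P') : perp ℳ 𝒟 β hD P' ≤ perp ℳ 𝒟 β hD P :=
  fun _ hx d hd => hx d (h hd)

include 𝒜 in
theorem perp_strict (hfin : ∀ n, Module.Finite k (pieceSub 𝒜 𝒟 n)) (P P' : Submodule R D)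
    (hP : P.IsHomogeneous 𝒟) (hP' : P'.IsHomogeneous 𝒟)
    (h : perp ℳ 𝒟 β hD P ≤ perp ℳ 𝒟 β hD P') : P' ≤ P := by
  intro e₀ he₀
  obtain ⟨s, hs⟩ := sum_proj 𝒜 𝒟 e₀
  rw [hs]
  refine sum_mem fun j _ => ?_
  have hej : proj 𝒜 𝒟 j e₀ ∈ P' := hP' j he₀
  have hejd := proj_mem 𝒜 𝒟 j e₀
  generalize proj 𝒜 𝒟 j e₀ = e at hej hejd
  by_contra hnot
  let Pj : Submodule k D := (P.restrictScalars k) ⊓ pieceSub 𝒜 𝒟 j
  let W : Submodule k (Module.Dual k M) := Pj.map β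
  haveI : Module.Finite k (pieceSub 𝒜 𝒟 j) := hfin j
  haveI : Module.Finite k Pj := Submodule.finiteDimensional_of_le inf_le_right
  haveI : FiniteDimensional k W := Module.Finite.map Pj β
  have hW : W.dualCoannihilator.dualAnnihilator = W := Subspace.dualCoannihilator_dualAnnihilator_eq
  have hβe : β e ∉ W := by
    rintro ⟨d, hd, hde⟩
    have : d = e := by
      rw [← sub_eq_zero]
      apply eq_zero_of_forall_left 𝒜 ℳ 𝒟 β hD
      intro y
      rw [map_sub, LinearMap.sub_apply, hde, sub_self]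
    exact hnot (this ▸ hd.1)
  rw [← hW, Submodule.mem_dualAnnihilator] at hβe
  push Not at hβe
  obtain ⟨x, hx, hxe⟩ := hβe
  rw [Submodule.mem_dualCoannihilator] at hx
  have hpair : ∀ d ∈ 𝒟 j, β d (proj 𝒜 ℳ (-j) x) = β d x := fun d hd =>
    (pair_proj 𝒜 ℳ 𝒟 β hD hd x).symm
  apply hxe
  rw [← hpair e hejd]
  apply h _ e hej
  intro d hd
  obtain ⟨s, hs⟩ := sum_proj 𝒜 𝒟 d
  rw [hs, map_sum, LinearMap.sum_apply]
  refine Finset.sum_eq_zero fun i _ => ?_
  by_cases hij : i = j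
  · subst hij
    rw [hpair _ (proj_mem 𝒜 𝒟 i d)]
    exact hx _ ⟨proj 𝒜 𝒟 i d, ⟨hP i hd, proj_mem 𝒜 𝒟 i d⟩, rfl⟩
  · exact vanish' ℳ 𝒟 β hD (proj_mem 𝒜 𝒟 i d) (proj_mem 𝒜 ℳ (-j) x)
      (by rw [neg_neg]; exact hij)

end Dual

section Low

variable {k R : Type u} [Field k] [CommRing R] [Algebra k R]
  (𝒜 : ℤ → Submodule k R) [GradedAlgebra 𝒜]
  {D : Type u} [AddCommGroup D] [Module R D] [Module k D] [IsScalarTower k R D]
  (𝒟 : ℤ → AddSubgroup D) [DirectSum.Decomposition 𝒟] [SetLike.GradedSMul 𝒜 𝒟]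

/-- lowest-degree components, in degree `j`, of the elements of `N` -/
def lowSet (N : Submodule R D) (j : ℤ) : Set D :=
  {e | ∃ d ∈ N, (∀ i : ℤ, i < j → proj 𝒜 𝒟 i d = 0) ∧ proj 𝒜 𝒟 j d = e}

theorem lowSet_zero (N : Submodule R D) (j : ℤ) : (0 : D) ∈ lowSet 𝒜 𝒟 N j :=
  ⟨0, zero_mem _, fun i _ => map_zero _, map_zero _⟩

theorem lowSet_add {N : Submodule R D} {j : ℤ} {e e' : D} (he : e ∈ lowSet 𝒜 𝒟 N j)
    (he' : e' ∈ lowSet 𝒜 𝒟 N j) : e + e' ∈ lowSet 𝒜 𝒟 N j := by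
  obtain ⟨d, hd, h1, h2⟩ := he
  obtain ⟨d', hd', h1', h2'⟩ := he'
  exact ⟨d + d', add_mem hd hd', fun i hi => by rw [map_add, h1 i hi, h1' i hi, add_zero],
    by rw [map_add, h2, h2']⟩

theorem lowSet_smul {N : Submodule R D} {a j : ℤ} {r : R} {e : D} (hr : r ∈ 𝒜 a)
    (he : e ∈ lowSet 𝒜 𝒟 N j) : r • e ∈ lowSet 𝒜 𝒟 N (a + j) := by
  obtain ⟨d, hd, h1, h2⟩ := he
  refine ⟨r • d, N.smul_mem r hd, fun i hi => ?_, ?_⟩
  · rw [proj_apply, proj_smul 𝒜 𝒟 a r hr d i]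
    have := h1 (i - a) (by omega)
    rw [proj_apply] at this
    rw [this, smul_zero]
  · rw [proj_apply, proj_smul 𝒜 𝒟 a r hr d (a + j)]
    have : a + j - a = j := by ring
    rw [this, ← h2, proj_apply]

theorem lowSet_mem_piece {N : Submodule R D} {j : ℤ} {e : D} (he : e ∈ lowSet 𝒜 𝒟 N j) :
    e ∈ 𝒟 j := by
  obtain ⟨d, _, _, rfl⟩ := he
  exact proj_mem 𝒜 𝒟 j d

/-- the submodule of lowest forms -/
def inLow (N : Submodule R D) : Submodule R D where
  carrier := {z | ∀ j, proj 𝒜 𝒟 j z ∈ lowSet 𝒜 𝒟 N j}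
  add_mem' := by
    intro z w hz hw j
    rw [map_add]
    exact lowSet_add 𝒜 𝒟 (hz j) (hw j)
  zero_mem' := by
    intro j
    rw [map_zero]
    exact lowSet_zero 𝒜 𝒟 N j
  smul_mem' := by
    intro r z hz
    induction r using DirectSum.Decomposition.inductionOn 𝒜 with
    | zero =>
      intro j
      rw [zero_smul, map_zero]
      exact lowSet_zero 𝒜 𝒟 N j
    | @homogeneous a r =>
      intro j
      rw [proj_apply, proj_smul 𝒜 𝒟 a r r.2 z j]
      have := lowSet_smul 𝒜 𝒟 r.2 (hz (j - a))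
      have e : a + (j - a) = j := by ring
      rw [e] at this
      exact this
    | add r r' hr hr' =>
      intro j
      rw [add_smul, map_add]
      exact lowSet_add 𝒜 𝒟 (hr j) (hr' j)

theorem inLow_isHomogeneous (N : Submodule R D) : (inLow 𝒜 𝒟 N).IsHomogeneous 𝒟 := by
  intro i z hz j
  show proj 𝒜 𝒟 j (proj 𝒜 𝒟 i z) ∈ lowSet 𝒜 𝒟 N j
  rw [proj_proj]
  split_ifs with h
  · subst h
    exact hz i
  · exact lowSet_zero 𝒜 𝒟 N j

theorem lowSet_mono {N N' : Submodule R D} (h : N ≤ N') (j : ℤ) :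
    lowSet 𝒜 𝒟 N j ⊆ lowSet 𝒜 𝒟 N' j :=
  fun _ ⟨d, hd, h1, h2⟩ => ⟨d, h hd, h1, h2⟩

theorem inLow_mono {N N' : Submodule R D} (h : N ≤ N') : inLow 𝒜 𝒟 N ≤ inLow 𝒜 𝒟 N' :=
  fun _ hz j => lowSet_mono 𝒜 𝒟 h j (hz j)

theorem lowSet_subset_of_inLow_le {N N' : Submodule R D} (h : inLow 𝒜 𝒟 N' ≤ inLow 𝒜 𝒟 N)
    (j : ℤ) : lowSet 𝒜 𝒟 N' j ⊆ lowSet 𝒜 𝒟 N j := by
  intro e he
  have hej := lowSet_mem_piece 𝒜 𝒟 he
  have hmem : e ∈ inLow 𝒜 𝒟 N' := by
    intro i
    rw [proj_of_mem 𝒜 𝒟 i hej]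
    split_ifs with h
    · subst h
      exact he
    · exact lowSet_zero 𝒜 𝒟 N' i
  have := h hmem j
  rwa [proj_of_mem 𝒜 𝒟 j hej, if_pos rfl] at this

theorem le_of_inLow_le (T : ℤ) (hT : ∀ j : ℤ, T < j → ∀ d ∈ 𝒟 j, d = 0) {N N' : Submodule R D}
    (hNN' : N ≤ N') (h : inLow 𝒜 𝒟 N' ≤ inLow 𝒜 𝒟 N) : N' ≤ N := by
  have hlow := lowSet_subset_of_inLow_le 𝒜 𝒟 h
  have key : ∀ (t : ℕ) (d : D), d ∈ N' → (∀ i : ℤ, i < T + 1 - t → proj 𝒜 𝒟 i d = 0) →
      d ∈ N := by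
    intro t
    induction t with
    | zero =>
      intro d _ hd
      have : d = 0 := by
        apply eq_zero_of_proj 𝒜 𝒟
        intro n
        by_cases hn : n < T + 1
        · exact hd n (by push_cast; omega)
        · exact hT n (by omega) _ (proj_mem 𝒜 𝒟 n d)
      rw [this]
      exact zero_mem _
    | succ t ih =>
      intro d hdN' hd
      have hmem : proj 𝒜 𝒟 (T - t) d ∈ lowSet 𝒜 𝒟 N' (T - t) :=
        ⟨d, hdN', fun i hi => hd i (by push_cast; omega), rfl⟩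
      obtain ⟨y, hyN, hylow, hyj⟩ := hlow _ hmem
      have hsub : d - y ∈ N := by
        apply ih (d - y) (sub_mem hdN' (hNN' hyN))
        intro i hi
        rw [map_sub]
        by_cases hij : i = T - t
        · subst hij
          rw [hyj, sub_self]
        · rw [hd i (by push_cast; omega), hylow i (by omega), sub_zero]
      have h2 := add_mem hsub hyN
      rwa [sub_add_cancel] at h2
  intro d hd
  obtain ⟨L, hL⟩ := exists_lower 𝒜 𝒟 d
  apply key (T + 1 - L).toNat d hd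
  intro i hi
  apply hL
  have := Int.self_le_toNat (T + 1 - L)
  omega

end Low

section Main

variable {k R : Type u} [Field k] [CommRing R] [Algebra k R]
  (𝒜 : ℤ → Submodule k R) [GradedAlgebra 𝒜]
  {M : Type u} [AddCommGroup M] [Module R M] [Module k M] [IsScalarTower k R M]
  (ℳ : ℤ → AddSubgroup M) [DirectSum.Decomposition ℳ] [SetLike.GradedSMul 𝒜 ℳ]
  {D : Type u} [AddCommGroup D] [Module R D] [Module k D] [IsScalarTower k R D]
  (𝒟 : ℤ → AddSubgroup D) [DirectSum.Decomposition 𝒟] [SetLike.GradedSMul 𝒜 𝒟]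
  (β : D →ₗ[k] M →ₗ[k] k) (hD : GrSeg.IsGDual R ℳ 𝒟 β)

include hD in
/-- the graded dual of a finitely generated graded module is Artinian -/
theorem isArtinian_dual (hposR : ∀ n : ℤ, n < 0 → 𝒜 n = ⊥)
    (h0R : 𝒜 0 = Submodule.span k {(1 : R)}) [Algebra.FiniteType k R] [Module.Finite R M] :
    IsArtinian R D := by
  haveI : IsNoetherianRing R := Algebra.FiniteType.isNoetherianRing k R
  haveI : IsNoetherian R M := isNoetherian_of_isNoetherianRing_of_finite R M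
  have hfinM : ∀ n, Module.Finite k (pieceSub 𝒜 ℳ n) := fun n => finite_piece 𝒜 ℳ hposR h0R n
  have hfinD : ∀ n, Module.Finite k (pieceSub 𝒜 𝒟 n) := fun n => by
    haveI := hfinM (-n)
    exact finite_dual_piece 𝒜 ℳ 𝒟 β hD n
  obtain ⟨N₀, hN₀⟩ := exists_lower_bound 𝒜 ℳ hposR
  have hT : ∀ j : ℤ, -N₀ < j → ∀ d ∈ 𝒟 j, d = 0 := by
    intro j hj d hd
    apply hD.eq_zero j d hd
    intro x hx
    have : x = 0 := by
      have h1 := hN₀ (-j) (by omega) x
      rwa [proj_of_mem 𝒜 ℳ (-j) hx, if_pos rfl] at h1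
    rw [this, map_zero]
  have hanti : StrictAnti (fun N : Submodule R D => perp ℳ 𝒟 β hD (inLow 𝒜 𝒟 N)) := by
    intro N N' hlt
    refine lt_of_le_of_ne (perp_anti ℳ 𝒟 β hD (inLow_mono 𝒜 𝒟 hlt.le)) ?_
    intro heq
    have h1 : inLow 𝒜 𝒟 N' ≤ inLow 𝒜 𝒟 N :=
      perp_strict 𝒜 ℳ 𝒟 β hD hfinD _ _ (inLow_isHomogeneous 𝒜 𝒟 N)
        (inLow_isHomogeneous 𝒜 𝒟 N') heq.ge
    exact hlt.ne (le_antisymm hlt.le (le_of_inLow_le 𝒜 𝒟 (-N₀) hT hlt.le h1))
  exact hanti.wellFoundedLT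

include hD in
/-- the graded dual of an Artinian graded module is finitely generated -/
theorem finite_dual_of_artinian (hposR : ∀ n : ℤ, n < 0 → 𝒜 n = ⊥)
    (h0R : 𝒜 0 = Submodule.span k {(1 : R)}) [IsArtinian R M] : Module.Finite R D := by
  classical
  have hfinM : ∀ n, Module.Finite k (pieceSub 𝒜 ℳ n) := fun n => artinian_piece 𝒜 ℳ hposR h0R n
  have hfinD : ∀ n, Module.Finite k (pieceSub 𝒜 𝒟 n) := fun n => by
    haveI := hfinM (-n)
    exact finite_dual_piece 𝒜 ℳ 𝒟 β hD n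
  let S : Set (Submodule R M) := {K | ∃ s : Finset D, (∀ x ∈ s, ∃ j, x ∈ 𝒟 j) ∧
    K = perp ℳ 𝒟 β hD (Submodule.span R (s : Set D))}
  have hS : S.Nonempty := ⟨_, ∅, by simp, rfl⟩
  obtain ⟨K, ⟨s, hs, rfl⟩, hmin⟩ := IsArtinian.set_has_minimal S hS
  have hhom : ∀ j, ∀ e ∈ 𝒟 j, e ∈ Submodule.span R (s : Set D) := by
    intro j e he
    have hs' : ∀ x ∈ insert e s, ∃ j, x ∈ 𝒟 j := by
      intro x hx
      rcases Finset.mem_insert.mp hx with rfl | hx
      · exact ⟨j, he⟩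
      · exact hs x hx
    have hle : Submodule.span R (s : Set D) ≤ Submodule.span R ((insert e s : Finset D) : Set D) :=
      Submodule.span_mono (by simp)
    have h1 := hmin _ ⟨insert e s, hs', rfl⟩
    have h2 : perp ℳ 𝒟 β hD (Submodule.span R (s : Set D)) ≤
        perp ℳ 𝒟 β hD (Submodule.span R ((insert e s : Finset D) : Set D)) := by
      by_contra hnot
      exact h1 (lt_of_le_not_ge (perp_anti ℳ 𝒟 β hD hle) hnot)
    have h3 := perp_strict 𝒜 ℳ 𝒟 β hD hfinD _ _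
      (span_isHomogeneous 𝒜 𝒟 _ (fun x hx => hs x (Finset.mem_coe.mp hx)))
      (span_isHomogeneous 𝒜 𝒟 _ (fun x hx => hs' x (Finset.mem_coe.mp hx))) h2
    exact h3 (Submodule.subset_span (Finset.mem_coe.mpr (Finset.mem_insert_self e s)))
  refine ⟨⟨s, ?_⟩⟩
  rw [eq_top_iff]
  rintro d -
  obtain ⟨t, ht⟩ := sum_proj 𝒜 𝒟 d
  rw [ht]
  exact sum_mem fun j _ => hhom j _ (proj_mem 𝒜 𝒟 j d)

end Main

end Groth.Agent.Helper9.GrDualArt
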