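import Mathlib
import Groth.Prelude.Def_GrSeg
import Groth.Prelude.Def_GrLC
import Groth.Agent.Helper9.GrDualEss

set_option autoImplicit false
set_option linter.unusedSectionVars false
universe u

namespace Groth.Agent.Helper9.GrDualInj

open Groth.Agent.Helper9.SegreMod Groth.Agent.Helper9.GrDualHom Groth.Agent.Helper9.GrDualEss

section Gen

variable {k R : Type u} [Field k] [CommRing R] [Algebra k R]
  (𝒜 : ℤ → Submodule k R) [GradedAlgebra 𝒜]
  {M : Type u} [AddCommGroup M] [Module R M] [Module k M] [IsScalarTower k R M]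
  {τ : Type u} [SetLike τ M] [AddSubgroupClass τ M] (ℳ : ℤ → τ) [DirectSum.Decomposition ℳ]
  {D : Type u} [AddCommGroup D] [Module R D] [Module k D] [IsScalarTower k R D]
  (𝒟 : ℤ → AddSubgroup D) [DirectSum.Decomposition 𝒟] [SetLike.GradedSMul 𝒜 𝒟]
  (β : D →ₗ[k] M →ₗ[k] k) (hD : GrSeg.IsGDual R ℳ 𝒟 β)

include hD in
theorem pair_proj_left' {m : ℤ} {x : M} (hx : x ∈ ℳ m) (d : D) :
    β d x = β (proj 𝒜 𝒟 (-m) d) x := by
  induction d using DirectSum.Decomposition.inductionOn 𝒟 with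
  | zero => simp
  | @homogeneous i d =>
    rw [proj_of_mem 𝒜 𝒟 (-m) d.2]
    split_ifs with h
    · rfl
    · rw [map_zero, LinearMap.zero_apply]
      exact hD.vanish i d d.2 m (fun h' => h (by rw [h', neg_neg])) x hx
  | add d d' h h' =>
    rw [map_add, map_add, map_add, LinearMap.add_apply, LinearMap.add_apply, h, h']

include 𝒜 hD in
theorem eq_zero_of_forall_left' (d : D) (hd : ∀ y, β d y = 0) : d = 0 := by
  apply eq_zero_of_proj 𝒜 𝒟
  intro n
  apply hD.eq_zero n _ (proj_mem 𝒜 𝒟 n d)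
  intro x hx
  have := pair_proj_left' 𝒜 ℳ 𝒟 β hD hx d
  rw [neg_neg] at this
  rw [← this, hd]

end Gen

section Self

variable {k R : Type u} [Field k] [CommRing R] [Algebra k R]
  (𝒜 : ℤ → Submodule k R) [GradedAlgebra 𝒜]
  {D : Type u} [AddCommGroup D] [Module R D] [Module k D] [IsScalarTower k R D]
  (𝒟 : ℤ → AddSubgroup D) [DirectSum.Decomposition 𝒟] [SetLike.GradedSMul 𝒜 𝒟]
  (β : D →ₗ[k] R →ₗ[k] k) (hD : GrSeg.IsGDual R 𝒜 𝒟 β)
  {A : Type u} [AddCommGroup A] [Module R A] [Module k A] [IsScalarTower k R A]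
  (𝒜A : ℤ → AddSubgroup A) [DirectSum.Decomposition 𝒜A] [SetLike.GradedSMul 𝒜 𝒜A]
  {B : Type u} [AddCommGroup B] [Module R B] [Module k B] [IsScalarTower k R B]
  (ℬ : ℤ → AddSubgroup B) [DirectSum.Decomposition ℬ] [SetLike.GradedSMul 𝒜 ℬ]

include hD in
/-- the extension property of `R^*` -/
theorem extend (f : A →ₗ[R] B) (hf : GrLC.IsGrHom 𝒜A ℬ f) (hinj : Function.Injective f)
    (g : A →ₗ[R] D) (hg : GrLC.IsGrHom 𝒜A 𝒟 g) :
    ∃ h : B →ₗ[R] D, GrLC.IsGrHom ℬ 𝒟 h ∧ h ∘ₗ f = g := by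
  classical
  have h1mem : (1 : R) ∈ 𝒜 0 := SetLike.GradedOne.one_mem
  -- the functional on `A`
  let lamA : A →ₗ[k] k :=
    { toFun := fun a => β (g a) 1
      map_add' := fun a a' => by rw [map_add, map_add, LinearMap.add_apply]
      map_smul' := fun c a => by
        rw [RingHom.id_apply, LinearMap.map_smul_of_tower, map_smul, LinearMap.smul_apply] }
  obtain ⟨s, hs⟩ := (f.restrictScalars k).exists_leftInverse_of_injective
    (LinearMap.ker_eq_bot.mpr hinj)
  let lam : B →ₗ[k] k := lamA ∘ₗ s ∘ₗ proj 𝒜 ℬ 0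
  have hsf : ∀ a, s (f a) = a := fun a => LinearMap.congr_fun hs a
  have hlamf : ∀ a, lam (f a) = β (g a) 1 := by
    intro a
    show β (g (s (proj 𝒜 ℬ 0 (f a)))) 1 = β (g a) 1
    rw [← map_proj 𝒜 𝒜A ℬ f hf, hsf, map_proj 𝒜 𝒜A 𝒟 g hg]
    have := pair_proj_left' 𝒜 𝒜 𝒟 β hD h1mem (g a)
    rw [neg_zero] at this
    exact this.symm
  have hlam0 : ∀ (j : ℤ) (b : B), b ∈ ℬ j → j ≠ 0 → lam b = 0 := by
    intro j b hb hj
    show lamA (s (proj 𝒜 ℬ 0 b)) = 0
    rw [proj_of_mem 𝒜 ℬ 0 hb, if_neg hj, map_zero, map_zero]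
  -- homogeneous elements
  have hhom : ∀ (j : ℤ) (b : B), b ∈ ℬ j → ∃ d ∈ 𝒟 j, ∀ r : R, β d r = lam (r • b) := by
    intro j b hb
    let ψ : R →ₗ[k] k :=
      { toFun := fun r => lam (r • b)
        map_add' := fun r r' => by rw [add_smul, map_add]
        map_smul' := fun c r => by rw [RingHom.id_apply, smul_assoc, map_smul] }
    obtain ⟨d, hd, hdψ⟩ := hD.exists_eq j ψ
    refine ⟨d, hd, fun r => ?_⟩
    induction r using DirectSum.Decomposition.inductionOn 𝒜 with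
    | zero => rw [map_zero, zero_smul, map_zero]
    | @homogeneous m r =>
      by_cases hm : m = -j
      · subst hm
        exact hdψ r r.2
      · rw [hD.vanish j d hd m hm r r.2]
        have hrb : (r : R) • b ∈ ℬ (m + j) := by
          have := SetLike.GradedSMul.smul_mem (A := 𝒜) (B := ℬ) r.2 hb
          rwa [vadd_eq_add] at this
        exact (hlam0 (m + j) _ hrb (fun h => hm (by omega))).symm
    | add r r' h h' => rw [map_add, add_smul, map_add, h, h']
  have hall : ∀ b : B, ∃ d : D, ∀ r : R, β d r = lam (r • b) := by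
    intro b
    induction b using DirectSum.Decomposition.inductionOn ℬ with
    | zero => exact ⟨0, fun r => by rw [map_zero, LinearMap.zero_apply, smul_zero, map_zero]⟩
    | @homogeneous j b =>
      obtain ⟨d, _, hd⟩ := hhom j b b.2
      exact ⟨d, hd⟩
    | add b b' h h' =>
      obtain ⟨d, hd⟩ := h
      obtain ⟨d', hd'⟩ := h'
      exact ⟨d + d', fun r => by rw [map_add, LinearMap.add_apply, hd, hd', smul_add, map_add]⟩
  choose h₀ hh₀ using hall
  have huniq : ∀ (b : B) (d : D), (∀ r : R, β d r = lam (r • b)) → d = h₀ b := by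
    intro b d hd
    rw [← sub_eq_zero]
    apply eq_zero_of_forall_left' 𝒜 𝒜 𝒟 β hD
    intro r
    rw [map_sub, LinearMap.sub_apply, hd, hh₀, sub_self]
  let h : B →ₗ[R] D :=
    { toFun := h₀
      map_add' := fun b b' => by
        symm
        apply huniq
        intro r
        rw [map_add, LinearMap.add_apply, hh₀, hh₀, smul_add, map_add]
      map_smul' := fun r' b => by
        symm
        apply huniq
        intro r
        rw [RingHom.id_apply, hD.map_smul, hh₀, smul_eq_mul, mul_smul, smul_comm] }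
  refine ⟨h, ?_, ?_⟩
  · intro j b hb
    obtain ⟨d, hd, hdr⟩ := hhom j b hb
    have : d = h₀ b := huniq b d hdr
    show h₀ b ∈ 𝒟 j
    rw [← this]
    exact hd
  · ext a
    show h₀ (f a) = g a
    symm
    apply huniq
    intro r
    rw [← map_smul, hlamf, map_smul, hD.map_smul, smul_eq_mul, mul_one]

end Self

section Ess

variable {k R : Type u} [Field k] [CommRing R] [Algebra k R]
  (𝒜 : ℤ → Submodule k R) [GradedAlgebra 𝒜]
  {D : Type u} [AddCommGroup D] [Module R D] [Module k D] [IsScalarTower k R D]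
  (𝒟 : ℤ → AddSubgroup D) [DirectSum.Decomposition 𝒟] [SetLike.GradedSMul 𝒜 𝒟]
  (β : D →ₗ[k] R →ₗ[k] k) (hD : GrSeg.IsGDual R 𝒜 𝒟 β)

include hD in
theorem essential_self (hposR : ∀ n : ℤ, n < 0 → 𝒜 n = ⊥)
    (h0R : 𝒜 0 = Submodule.span k {(1 : R)}) (mR : HomogeneousIdeal 𝒜)
    (hmR : mR.toIdeal = Ideal.span (⋃ n ∈ Set.Ioi (0 : ℤ), (𝒜 n : Set R)))
    (e : (R ⧸ mR.toIdeal) →ₗ[R] D) (he : Function.Injective e)
    (hegr : GrLC.IsGrHom (GrLC.quotGr 𝒜 mR) 𝒟 e) :
    ∀ P : Submodule R D, P.IsHomogeneous 𝒟 → P ≠ ⊥ → P ⊓ LinearMap.range e ≠ ⊥ := by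
  intro P hP hPne
  obtain ⟨z, hzP, hz⟩ := Submodule.exists_mem_ne_zero_of_ne_bot hPne
  obtain ⟨i, hi⟩ : ∃ i, proj 𝒜 𝒟 i z ≠ 0 := by
    by_contra hcon
    push Not at hcon
    exact hz (eq_zero_of_proj 𝒜 𝒟 z hcon)
  have heP : proj 𝒜 𝒟 i z ∈ P := hP i hzP
  have hN' : ∀ j : ℤ, -j < 0 → ∀ d ∈ 𝒟 j, d = 0 := by
    intro j hj d hd
    apply hD.eq_zero j d hd
    intro x hx
    have : x = 0 := eq_zero_of_neg 𝒜 hposR hj hx
    rw [this, map_zero]
  obtain ⟨r, j', h1, h2, h3⟩ := exists_socle 𝒜 𝒟 0 hN' (-0 - i).toNat i _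
    (proj_mem 𝒜 𝒟 i z) hi (Int.self_le_toNat _)
  have hP' : r • proj 𝒜 𝒟 i z ∈ P := P.smul_mem r heP
  generalize r • proj 𝒜 𝒟 i z = e' at h1 h2 h3 hP'
  have hkill := smul_eq_zero_of_mem 𝒜 mR.toIdeal hmR h3
  have hj' : j' = 0 := by
    by_contra hne
    apply h2
    apply hD.eq_zero j' _ h1
    intro x hx
    rcases lt_or_gt_of_ne hne with hlt | hgt
    · have hx0 : x • e' = 0 := h3 (-j') (by omega) x hx
      have : β e' x = β (x • e') 1 := by rw [hD.map_smul, smul_eq_mul, mul_one]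
      rw [this, hx0, map_zero, LinearMap.zero_apply]
    · have : x = 0 := eq_zero_of_neg 𝒜 hposR (by omega) hx
      rw [this, map_zero]
  subst hj'
  have h1m : (1 : R) ∉ mR.toIdeal := by
    intro h
    apply h2
    have := hkill 1 h
    rwa [one_smul] at this
  have hu0 : e (Ideal.Quotient.mk mR.toIdeal 1) ∈ 𝒟 0 :=
    hegr 0 _ ⟨1, (SetLike.GradedOne.one_mem : (1 : R) ∈ 𝒜 0), rfl⟩
  have hune : e (Ideal.Quotient.mk mR.toIdeal 1) ≠ 0 := by
    intro h
    have : Ideal.Quotient.mk mR.toIdeal 1 = 0 := he (by rw [map_zero]; exact h)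
    exact h1m (Ideal.Quotient.eq_zero_iff_mem.mp this)
  set u := e (Ideal.Quotient.mk mR.toIdeal 1) with hu
  have hpair : ∀ d ∈ 𝒟 0, β d 1 = 0 → d = 0 := by
    intro d hd h
    apply hD.eq_zero 0 d hd
    intro x hx
    rw [neg_zero] at hx
    obtain ⟨c, rfl⟩ := exists_of_zero 𝒜 h0R rfl hx
    rw [map_smul, h, smul_zero]
  have hcu : β u 1 ≠ 0 := fun h => hune (hpair u hu0 h)
  have hee : e' = (β e' 1 / β u 1) • u := by
    rw [← sub_eq_zero]
    apply hpair _ (sub_mem h1 (ksmul_mem 𝒜 𝒟 _ hu0))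
    rw [map_sub, LinearMap.sub_apply, map_smul, LinearMap.smul_apply, smul_eq_mul,
      div_mul_cancel₀ _ hcu, sub_self]
  have hrange : e' ∈ LinearMap.range e := by
    refine ⟨algebraMap k R (β e' 1 / β u 1) • Ideal.Quotient.mk mR.toIdeal 1, ?_⟩
    rw [map_smul, algebraMap_smul, ← hu]
    exact hee.symm
  intro hbot
  have : e' ∈ P ⊓ LinearMap.range e := ⟨hP', hrange⟩
  rw [hbot] at this
  exact h2 ((Submodule.mem_bot R).mp this)

end Ess

end Groth.Agent.Helper9.GrDualInj
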