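import Mathlib
import Groth.Prelude.Def_GrSeg
import Groth.Prelude.Def_GrLC
import Groth.Agent.Helper9.GrDualInj
import Groth.Agent.Helper9.GrDualArt

set_option autoImplicit false
set_option linter.unusedSectionVars false
universe u

namespace Groth.Agent.Helper9.GrDualEmb

open Groth.Agent.Helper9.SegreMod Groth.Agent.Helper9.GrDualHom Groth.Agent.Helper9.GrDualEss
  Groth.Agent.Helper9.GrDualInj Groth.Agent.Helper9.GrDualArt

section Conv

variable {k R : Type u} [Field k] [CommRing R] [Algebra k R]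
  (𝒜 : ℤ → Submodule k R) [GradedAlgebra 𝒜]

/-- the pieces of `R` as additive subgroups -/
def addPieces : ℤ → AddSubgroup R := fun n => (𝒜 n).toAddSubgroup

noncomputable instance decAdd : DirectSum.Decomposition (addPieces 𝒜) where
  decompose' := fun r => (DirectSum.decompose 𝒜 r : DirectSum ℤ fun i => 𝒜 i)
  left_inv := DirectSum.Decomposition.left_inv (ℳ := 𝒜)
  right_inv := DirectSum.Decomposition.right_inv (ℳ := 𝒜)

instance gsmulAdd : SetLike.GradedSMul 𝒜 (addPieces 𝒜) where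
  smul_mem := fun {i j} {a b} ha hb => by
    show a * b ∈ 𝒜 (i + j)
    exact SetLike.GradedMul.mul_mem ha hb

variable {D : Type u} [AddCommGroup D] [Module R D] [Module k D] [IsScalarTower k R D]
  (𝒟 : ℤ → AddSubgroup D) [DirectSum.Decomposition 𝒟] [SetLike.GradedSMul 𝒜 𝒟]
  (β : D →ₗ[k] R →ₗ[k] k)

theorem isGDual_addPieces (hD : GrSeg.IsGDual R 𝒜 𝒟 β) : GrSeg.IsGDual R (addPieces 𝒜) 𝒟 β :=
  ⟨hD.map_smul, hD.vanish, hD.eq_zero, hD.exists_eq⟩

/-- `R^*` is an Artinian module -/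
theorem isArtinian_dual_self (hD : GrSeg.IsGDual R 𝒜 𝒟 β) (hposR : ∀ n : ℤ, n < 0 → 𝒜 n = ⊥)
    (h0R : 𝒜 0 = Submodule.span k {(1 : R)}) [Algebra.FiniteType k R] : IsArtinian R D :=
  isArtinian_dual 𝒜 (addPieces 𝒜) 𝒟 β (isGDual_addPieces 𝒜 𝒟 β hD) hposR h0R

end Conv

section Hom

variable {k R : Type u} [Field k] [CommRing R] [Algebra k R]
  (𝒜 : ℤ → Submodule k R) [GradedAlgebra 𝒜]
  {D : Type u} [AddCommGroup D] [Module R D] [Module k D] [IsScalarTower k R D]
  (𝒟 : ℤ → AddSubgroup D) [DirectSum.Decomposition 𝒟] [SetLike.GradedSMul 𝒜 𝒟]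
  (β : D →ₗ[k] R →ₗ[k] k) (hD : GrSeg.IsGDual R 𝒜 𝒟 β)
  {B : Type u} [AddCommGroup B] [Module R B] [Module k B] [IsScalarTower k R B]
  (ℬ : ℤ → AddSubgroup B) [DirectSum.Decomposition ℬ] [SetLike.GradedSMul 𝒜 ℬ]

include hD in
/-- a functional on `B_{-n}` gives a homomorphism `B → R^*` of degree `n` -/
theorem exists_hom_of_functional (n : ℤ) (φ : B →ₗ[k] k) :
    ∃ h : B →ₗ[R] D, (∀ (g : ℤ) (b : B), b ∈ ℬ g → h b ∈ 𝒟 (g + n)) ∧
      ∀ (b : B) (r : R), β (h b) r = φ (proj 𝒜 ℬ (-n) (r • b)) := by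
  classical
  let lam : B →ₗ[k] k := φ ∘ₗ proj 𝒜 ℬ (-n)
  have hlam0 : ∀ (j : ℤ) (b : B), b ∈ ℬ j → j ≠ -n → lam b = 0 := by
    intro j b hb hj
    show φ (proj 𝒜 ℬ (-n) b) = 0
    rw [proj_of_mem 𝒜 ℬ (-n) hb, if_neg hj, map_zero]
  have hhom : ∀ (j : ℤ) (b : B), b ∈ ℬ j → ∃ d ∈ 𝒟 (j + n), ∀ r : R, β d r = lam (r • b) := by
    intro j b hb
    let ψ : R →ₗ[k] k :=
      { toFun := fun r => lam (r • b)
        map_add' := fun r r' => by rw [add_smul, map_add]
        map_smul' := fun c r => by rw [RingHom.id_apply, smul_assoc, map_smul] }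
    obtain ⟨d, hd, hdψ⟩ := hD.exists_eq (j + n) ψ
    refine ⟨d, hd, fun r => ?_⟩
    induction r using DirectSum.Decomposition.inductionOn 𝒜 with
    | zero => rw [map_zero, zero_smul, map_zero]
    | @homogeneous m r =>
      by_cases hm : m = -(j + n)
      · subst hm
        exact hdψ r r.2
      · rw [hD.vanish (j + n) d hd m hm r r.2]
        have hrb : (r : R) • b ∈ ℬ (m + j) := by
          have := SetLike.GradedSMul.smul_mem (A := 𝒜) (B := ℬ) r.2 hb
          rwa [vadd_eq_add] at this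
        exact (hlam0 (m + j) _ hrb (fun h => hm (by omega))).symm
    | add r r' h h' => rw [map_add, add_smul, map_add, h, h']
  have hall : ∀ b : B, ∃ d : D, ∀ r : R, β d r = lam (r • b) := by
    intro b
    induction b using DirectSum.Decomposition.inductionOn ℬ with
    | zero => exact ⟨0, fun r => by rw [map_zero, LinearMap.zero_apply, smul_zero, map_zero]⟩
    | @homogeneous j b =>
      obtain ⟨d, _, hd⟩ := hhom j b b.2
      exact ⟨d, hd⟩
    | add b b' h h' =>
      obtain ⟨d, hd⟩ := h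
      obtain ⟨d', hd'⟩ := h'
      exact ⟨d + d', fun r => by rw [map_add, LinearMap.add_apply, hd, hd', smul_add, map_add]⟩
  choose h₀ hh₀ using hall
  have huniq : ∀ (b : B) (d : D), (∀ r : R, β d r = lam (r • b)) → d = h₀ b := by
    intro b d hd
    rw [← sub_eq_zero]
    apply eq_zero_of_forall_left' 𝒜 𝒜 𝒟 β hD
    intro r
    rw [map_sub, LinearMap.sub_apply, hd, hh₀, sub_self]
  let h : B →ₗ[R] D :=
    { toFun := h₀
      map_add' := fun b b' => by
        symm
        apply huniq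
        intro r
        rw [map_add, LinearMap.add_apply, hh₀, hh₀, smul_add, map_add]
      map_smul' := fun r' b => by
        symm
        apply huniq
        intro r
        rw [RingHom.id_apply, hD.map_smul, hh₀, smul_eq_mul, mul_smul, smul_comm] }
  refine ⟨h, ?_, ?_⟩
  · intro j b hb
    obtain ⟨d, hd, hdr⟩ := hhom j b hb
    have : d = h₀ b := huniq b d hdr
    show h₀ b ∈ 𝒟 (j + n)
    rw [← this]
    exact hd
  · intro b r
    exact hh₀ b r

theorem map_proj_shift (h : B →ₗ[R] D) (n : ℤ)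
    (hh : ∀ (g : ℤ) (b : B), b ∈ ℬ g → h b ∈ 𝒟 (g + n)) (g : ℤ) (x : B) :
    h (proj 𝒜 ℬ g x) = proj 𝒜 𝒟 (g + n) (h x) := by
  induction x using DirectSum.Decomposition.inductionOn ℬ with
  | zero => simp
  | @homogeneous i x =>
    rw [proj_of_mem 𝒜 ℬ g x.2, proj_of_mem 𝒜 𝒟 (g + n) (hh i x x.2)]
    by_cases hig : i = g
    · subst hig
      rw [if_pos rfl, if_pos rfl]
    · rw [if_neg hig, if_neg (fun h' => hig (by omega)), map_zero]
  | add x y hx hy => rw [map_add, map_add, map_add, map_add, hx, hy]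

include hD in
/-- an Artinian graded module embeds into a finite sum of shifted copies of `R^*` -/
theorem exists_embedding [IsArtinian R B] :
    ∃ (t : ℕ) (sh : Fin t → ℤ) (f : B →ₗ[R] (Fin t → D)), Function.Injective f ∧
      ∀ (i : Fin t) (g : ℤ) (x : B), x ∈ ℬ g → f x i ∈ 𝒟 (g + sh i) := by
  classical
  let S : Set (Submodule R B) := {K | ∃ (t : ℕ) (sh : Fin t → ℤ) (f : B →ₗ[R] (Fin t → D)),
    (∀ (i : Fin t) (g : ℤ) (x : B), x ∈ ℬ g → f x i ∈ 𝒟 (g + sh i)) ∧ K = LinearMap.ker f}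
  have hS : S.Nonempty :=
    ⟨⊤, 0, Fin.elim0, 0, fun i => i.elim0, by rw [LinearMap.ker_zero]⟩
  obtain ⟨K, ⟨t, sh, f, hf, rfl⟩, hmin⟩ := IsArtinian.set_has_minimal S hS
  refine ⟨t, sh, f, ?_, hf⟩
  rw [← LinearMap.ker_eq_bot]
  by_contra hne
  obtain ⟨x, hxK, hx⟩ := Submodule.exists_mem_ne_zero_of_ne_bot hne
  obtain ⟨g, hg⟩ : ∃ g, proj 𝒜 ℬ g x ≠ 0 := by
    by_contra hcon
    push Not at hcon
    exact hx (eq_zero_of_proj 𝒜 ℬ x hcon)
  have hx'K : proj 𝒜 ℬ g x ∈ LinearMap.ker f := by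
    rw [LinearMap.mem_ker]
    ext i
    have := map_proj_shift 𝒜 𝒟 ℬ ((LinearMap.proj i).comp f) (sh i)
      (fun g b hb => hf i g b hb) g x
    simp only [LinearMap.comp_apply, LinearMap.proj_apply] at this
    rw [this, LinearMap.mem_ker.mp hxK]
    simp
  obtain ⟨φ, hφ⟩ : ∃ φ : B →ₗ[k] k, φ (proj 𝒜 ℬ g x) ≠ 0 := by
    by_contra hcon
    push Not at hcon
    exact hg ((Module.forall_dual_apply_eq_zero_iff k _).mp hcon)
  obtain ⟨h, hh, hβ⟩ := exists_hom_of_functional 𝒜 𝒟 β hD ℬ (-g) φ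
  let f' : B →ₗ[R] (Fin (t + 1) → D) :=
    LinearMap.pi (Fin.cons h (fun i => (LinearMap.proj i).comp f))
  have hf'0 : ∀ y, f' y 0 = h y := fun y => rfl
  have hf's : ∀ y (i : Fin t), f' y i.succ = f y i := fun y i => rfl
  have hmem : LinearMap.ker f' ∈ S := by
    refine ⟨t + 1, Fin.cons (-g) sh, f', ?_, rfl⟩
    intro i
    refine Fin.cases ?_ ?_ i
    · intro g' y hy
      rw [hf'0, Fin.cons_zero]
      exact hh g' y hy
    · intro i g' y hy
      rw [hf's, Fin.cons_succ]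
      exact hf i g' y hy
  have hle : LinearMap.ker f' ≤ LinearMap.ker f := by
    intro y hy
    rw [LinearMap.mem_ker] at hy ⊢
    ext i
    have := congrFun hy i.succ
    rwa [hf's] at this
  have hlt : LinearMap.ker f' < LinearMap.ker f := by
    refine lt_of_le_of_ne hle ?_
    intro heq
    have hmem' : proj 𝒜 ℬ g x ∈ LinearMap.ker f' := heq ▸ hx'K
    have h0 : h (proj 𝒜 ℬ g x) = 0 := by
      have := congrFun (LinearMap.mem_ker.mp hmem') 0
      rwa [hf'0] at this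
    apply hφ
    have := hβ (proj 𝒜 ℬ g x) 1
    rw [h0, one_smul, neg_neg, proj_proj, if_pos rfl, map_zero, LinearMap.zero_apply] at this
    exact this.symm
  exact hmin _ hmem hlt

end Hom

end Groth.Agent.Helper9.GrDualEmb
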