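import Mathlib

/-! Standard graded rings: pieces are spanned by products (helper9). -/

namespace Groth.Agent.Helper9.GrStd

open DirectSum

variable {R : Type*} [CommRing R] (𝒜 : ℤ → AddSubgroup R) [GradedRing 𝒜]

/-- products of an element of degree `m` with one of degree `n` -/
def prodSet (m n : ℤ) : Set R := {z | ∃ x ∈ 𝒜 m, ∃ y ∈ 𝒜 n, z = x * y}

theorem succ_le
    (hstd : Ideal.span (⋃ n ∈ Set.Ioi (0 : ℤ), (𝒜 n : Set R)) =
      Ideal.span ((𝒜 1 : AddSubgroup R) : Set R))
    (n : ℤ) (hn : 0 ≤ n) : 𝒜 (n + 1) ≤ AddSubgroup.closure (prodSet 𝒜 n 1) := by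
  intro x hx
  have hx' : x ∈ Ideal.span ((𝒜 1 : AddSubgroup R) : Set R) := by
    rw [← hstd]
    apply Ideal.subset_span
    simp only [Set.mem_iUnion]
    exact ⟨n + 1, by simp only [Set.mem_Ioi]; omega, hx⟩
  have key : ∀ z ∈ Ideal.span ((𝒜 1 : AddSubgroup R) : Set R), ∀ r : R,
      (decompose 𝒜 (r * z) (n + 1) : R) ∈ AddSubgroup.closure (prodSet 𝒜 n 1) := by
    intro z hz
    induction hz using Submodule.span_induction with
    | mem z hz =>
      intro r
      rw [coe_decompose_mul_add_of_right_mem 𝒜 hz]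
      exact AddSubgroup.subset_closure ⟨_, (decompose 𝒜 r n).2, z, hz, rfl⟩
    | zero =>
      intro r
      rw [mul_zero, decompose_zero]
      simp
    | add a b _ _ ha hb =>
      intro r
      rw [mul_add, decompose_add, DirectSum.add_apply, AddSubgroup.coe_add]
      exact AddSubgroup.add_mem _ (ha r) (hb r)
    | smul s z _ hz =>
      intro r
      rw [smul_eq_mul, ← mul_assoc]
      exact hz (r * s)
  have := key x hx' 1
  rwa [one_mul, decompose_of_mem_same 𝒜 hx] at this

theorem add_le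
    (hstd : Ideal.span (⋃ n ∈ Set.Ioi (0 : ℤ), (𝒜 n : Set R)) =
      Ideal.span ((𝒜 1 : AddSubgroup R) : Set R))
    (s : ℤ) (hs : 0 ≤ s) (t : ℕ) : 𝒜 (s + t) ≤ AddSubgroup.closure (prodSet 𝒜 s t) := by
  induction t with
  | zero =>
    intro x hx
    rw [Nat.cast_zero, add_zero] at hx
    have h1 : (1 : R) ∈ 𝒜 ((0 : ℕ) : ℤ) := by
      rw [Nat.cast_zero]; exact SetLike.GradedOne.one_mem
    exact AddSubgroup.subset_closure ⟨x, hx, 1, h1, (mul_one x).symm⟩
  | succ t ih =>
    intro x hx
    have hx1 : x ∈ 𝒜 ((s + t) + 1) := by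
      have : s + ((t + 1 : ℕ) : ℤ) = (s + t) + 1 := by push_cast; ring
      rwa [this] at hx
    have hx2 := succ_le 𝒜 hstd (s + t) (by positivity) hx1
    refine AddSubgroup.closure_le _ |>.mpr ?_ hx2
    rintro z ⟨u, hu, y, hy, rfl⟩
    have hu' := ih hu
    -- induct on `u` in the closure
    have : ∀ w ∈ AddSubgroup.closure (prodSet 𝒜 s t),
        w * y ∈ AddSubgroup.closure (prodSet 𝒜 s ((t + 1 : ℕ) : ℤ)) := by
      intro w hw
      induction hw using AddSubgroup.closure_induction with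
      | mem w hw =>
        obtain ⟨a, ha, b, hb, rfl⟩ := hw
        refine AddSubgroup.subset_closure ⟨a, ha, b * y, ?_, by ring⟩
        have : ((t + 1 : ℕ) : ℤ) = (t : ℤ) + 1 := by push_cast; ring
        rw [this]
        exact SetLike.GradedMul.mul_mem hb hy
      | zero => rw [zero_mul]; exact AddSubgroup.zero_mem _
      | add a b _ _ ha hb => rw [add_mul]; exact AddSubgroup.add_mem _ ha hb
      | neg a _ ha => rw [neg_mul]; exact AddSubgroup.neg_mem _ ha
    exact this u hu'

end Groth.Agent.Helper9.GrStd
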