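import Mathlib

set_option autoImplicit false

namespace Groth.Agent.Helper9.GradedHomog

open DirectSum

universe u v w x

variable {k : Type u} [Field k] {M : Type v} [AddCommGroup M] [DecidableEq M]
variable {A : Type w} [CommRing A] [Algebra k A] (𝒜 : M → Submodule k A) [GradedAlgebra 𝒜]
variable {P : Type x} [AddCommGroup P] [Module A P] [Module k P] [IsScalarTower k A P]
variable (ℳ : M → Submodule k P) [Decomposition ℳ] [SetLike.GradedSMul 𝒜 ℳ]

omit [IsScalarTower k A P] in
lemma coe_decompose_smul_add (a : A) {h : M} {p : P} (hp : p ∈ ℳ h) (g : M) :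
    (decompose ℳ (a • p) (g + h) : P) = (decompose 𝒜 a g : A) • p := by
  classical
  conv_lhs => rw [← sum_support_decompose 𝒜 a, Finset.sum_smul, decompose_sum]
  rw [DFinsupp.finsetSum_apply, AddSubmonoidClass.coe_finsetSum]
  have hterm : ∀ g' ∈ (decompose 𝒜 a).support,
      (decompose ℳ ((decompose 𝒜 a g' : A) • p) (g + h) : P) =
        if g' = g then (decompose 𝒜 a g : A) • p else 0 := by
    intro g' _
    have hmem : (decompose 𝒜 a g' : A) • p ∈ ℳ (g' + h) := by
      have := SetLike.GradedSMul.smul_mem (A := 𝒜) (B := ℳ) (SetLike.coe_mem (decompose 𝒜 a g')) hp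
      simpa using this
    split_ifs with hg
    · subst hg
      rw [decompose_of_mem_same ℳ hmem]
    · rw [decompose_of_mem_ne ℳ hmem (fun h' => hg (add_right_cancel h'))]
  rw [Finset.sum_congr rfl hterm, Finset.sum_ite_eq']
  split_ifs with hg
  · rfl
  · rw [DFinsupp.notMem_support_iff] at hg
    rw [hg, ZeroMemClass.coe_zero, zero_smul]

variable {n : ℕ} (wt : Fin n → M) (f : Fin n → P) (hf : ∀ i, f i ∈ ℳ (wt i))

omit [IsScalarTower k A P] in
include hf in
lemma decompose_sum_smul (c : Fin n → A) (j : M) :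
    (decompose ℳ (∑ i, c i • f i) j : P) = ∑ i, (decompose 𝒜 (c i) (j - wt i) : A) • f i := by
  rw [decompose_sum, DFinsupp.finsetSum_apply, AddSubmonoidClass.coe_finsetSum]
  refine Finset.sum_congr rfl fun i _ => ?_
  have := coe_decompose_smul_add 𝒜 ℳ (c i) (hf i) (j - wt i)
  rwa [sub_add_cancel] at this

include 𝒜 hf in
lemma span_homogeneous {x : P} (hx : x ∈ Submodule.span A (Set.range f)) (j : M) :
    (decompose ℳ x j : P) ∈ Submodule.span A (Set.range f) := by
  obtain ⟨c, rfl⟩ := (Submodule.mem_span_range_iff_exists_fun A).mp hx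
  rw [decompose_sum_smul 𝒜 ℳ wt f hf]
  exact Submodule.sum_mem _ fun i _ =>
    Submodule.smul_mem _ _ (Submodule.subset_span ⟨i, rfl⟩)

include hf in
lemma gen_homogeneous {a : A} (ha : ∀ p : P, a • p ∈ Submodule.span A (Set.range f)) (g : M)
    (p : P) : (decompose 𝒜 a g : A) • p ∈ Submodule.span A (Set.range f) := by
  classical
  rw [← sum_support_decompose ℳ p, Finset.smul_sum]
  refine Submodule.sum_mem _ fun h _ => ?_
  rw [← coe_decompose_smul_add 𝒜 ℳ a (SetLike.coe_mem (decompose ℳ p h)) g]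
  exact span_homogeneous 𝒜 ℳ wt f hf (ha _) _

include hf in
lemma rel_homogeneous {a : A}
    (ha : ∀ c : Fin n → A, ∑ i, c i • f i = 0 → ∀ i, a * c i = 0) (g : M)
    (c : Fin n → A) (hc : ∑ i, c i • f i = 0) (i : Fin n) :
    (decompose 𝒜 a g : A) * c i = 0 := by
  classical
  have h1 : ∀ (d : M) (i₀ : Fin n), a * (decompose 𝒜 (c i₀) d : A) = 0 := by
    intro d i₀
    have hrel : ∑ i, (decompose 𝒜 (c i) ((d + wt i₀) - wt i) : A) • f i = 0 := by
      rw [← decompose_sum_smul 𝒜 ℳ wt f hf, hc, decompose_zero]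
      rfl
    have := ha _ hrel i₀
    rwa [add_sub_cancel_right] at this
  have h2 : ∀ d : M, (decompose 𝒜 a g : A) * (decompose 𝒜 (c i) d : A) = 0 := by
    intro d
    rw [← coe_decompose_mul_add_of_right_mem 𝒜 (SetLike.coe_mem (decompose 𝒜 (c i) d)), h1 d i,
      decompose_zero]
    rfl
  conv_lhs => rw [← sum_support_decompose 𝒜 (c i), Finset.mul_sum]
  exact Finset.sum_eq_zero fun d _ => h2 d

lemma exists_component_notMem {m : Ideal A} {a : A}
    (ha : a ∉ m) : ∃ g, (decompose 𝒜 a g : A) ∉ m := by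
  classical
  by_contra hcon
  push Not at hcon
  apply ha
  rw [← sum_support_decompose 𝒜 a]
  exact Ideal.sum_mem _ fun g _ => hcon g

end Groth.Agent.Helper9.GradedHomog
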