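import Mathlib

set_option autoImplicit false

namespace Groth.Agent.Helper9.GradedHomog2

open DirectSum

universe v w x y z t

variable {M : Type v} [AddCommGroup M] [DecidableEq M]
variable {A : Type w} [CommRing A] {σ : Type y} [SetLike σ A] [AddSubmonoidClass σ A]
  (𝒜 : M → σ) [GradedRing 𝒜]
variable {P : Type x} [AddCommGroup P] [Module A P] {τ : Type z} [SetLike τ P]
  [AddSubmonoidClass τ P] (ℳ : M → τ) [Decomposition ℳ] [SetLike.GradedSMul 𝒜 ℳ]

lemma coe_decompose_smul_add (a : A) {h : M} {p : P} (hp : p ∈ ℳ h) (g : M) :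
    (decompose ℳ (a • p) (g + h) : P) = (decompose 𝒜 a g : A) • p := by
  classical
  conv_lhs => rw [← sum_support_decompose 𝒜 a, Finset.sum_smul, decompose_sum]
  rw [DFinsupp.finsetSum_apply, AddSubmonoidClass.coe_finsetSum]
  have hterm : ∀ g' ∈ (decompose 𝒜 a).support,
      (decompose ℳ ((decompose 𝒜 a g' : A) • p) (g + h) : P) =
        if g' = g then (decompose 𝒜 a g : A) • p else 0 := by
    intro g' _
    have hmem : (decompose 𝒜 a g' : A) • p ∈ ℳ (g' + h) := by
      have := SetLike.GradedSMul.smul_mem (A := 𝒜) (B := ℳ) (SetLike.coe_mem (decompose 𝒜 a g')) hp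
      simpa using this
    split_ifs with hg
    · subst hg
      rw [decompose_of_mem_same ℳ hmem]
    · rw [decompose_of_mem_ne ℳ hmem (fun h' => hg (add_right_cancel h'))]
  rw [Finset.sum_congr rfl hterm, Finset.sum_ite_eq']
  split_ifs with hg
  · rfl
  · rw [DFinsupp.notMem_support_iff] at hg
    rw [hg, ZeroMemClass.coe_zero, zero_smul]

variable {ι : Type t} [Fintype ι] (wt : ι → M) (f : ι → P) (hf : ∀ i, f i ∈ ℳ (wt i))

include hf in
lemma decompose_sum_smul (c : ι → A) (j : M) :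
    (decompose ℳ (∑ i, c i • f i) j : P) = ∑ i, (decompose 𝒜 (c i) (j - wt i) : A) • f i := by
  rw [decompose_sum, DFinsupp.finsetSum_apply, AddSubmonoidClass.coe_finsetSum]
  refine Finset.sum_congr rfl fun i _ => ?_
  have := coe_decompose_smul_add 𝒜 ℳ (c i) (hf i) (j - wt i)
  rwa [sub_add_cancel] at this

include 𝒜 hf in
lemma span_homogeneous {x : P} (hx : x ∈ Submodule.span A (Set.range f)) (j : M) :
    (decompose ℳ x j : P) ∈ Submodule.span A (Set.range f) := by
  obtain ⟨c, rfl⟩ := (Submodule.mem_span_range_iff_exists_fun A).mp hx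
  rw [decompose_sum_smul 𝒜 ℳ wt f hf]
  exact Submodule.sum_mem _ fun i _ =>
    Submodule.smul_mem _ _ (Submodule.subset_span ⟨i, rfl⟩)

include hf in
lemma gen_homogeneous {a : A} (ha : ∀ p : P, a • p ∈ Submodule.span A (Set.range f)) (g : M)
    (p : P) : (decompose 𝒜 a g : A) • p ∈ Submodule.span A (Set.range f) := by
  classical
  rw [← sum_support_decompose ℳ p, Finset.smul_sum]
  refine Submodule.sum_mem _ fun h _ => ?_
  rw [← coe_decompose_smul_add 𝒜 ℳ a (SetLike.coe_mem (decompose ℳ p h)) g]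
  exact span_homogeneous 𝒜 ℳ wt f hf (ha _) _

include hf in
lemma rel_homogeneous {a : A}
    (ha : ∀ c : ι → A, ∑ i, c i • f i = 0 → ∀ i, a * c i = 0) (g : M)
    (c : ι → A) (hc : ∑ i, c i • f i = 0) (i : ι) :
    (decompose 𝒜 a g : A) * c i = 0 := by
  classical
  have h1 : ∀ (d : M) (i₀ : ι), a * (decompose 𝒜 (c i₀) d : A) = 0 := by
    intro d i₀
    have hrel : ∑ i, (decompose 𝒜 (c i) ((d + wt i₀) - wt i) : A) • f i = 0 := by
      rw [← decompose_sum_smul 𝒜 ℳ wt f hf, hc, decompose_zero]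
      rfl
    have := ha _ hrel i₀
    rwa [add_sub_cancel_right] at this
  have h2 : ∀ d : M, (decompose 𝒜 a g : A) * (decompose 𝒜 (c i) d : A) = 0 := by
    intro d
    rw [← coe_decompose_mul_add_of_right_mem 𝒜 (SetLike.coe_mem (decompose 𝒜 (c i) d)), h1 d i,
      decompose_zero]
    rfl
  conv_lhs => rw [← sum_support_decompose 𝒜 (c i), Finset.mul_sum]
  exact Finset.sum_eq_zero fun d _ => h2 d

lemma exists_component_notMem {m : Ideal A} {a : A}
    (ha : a ∉ m) : ∃ g, (decompose 𝒜 a g : A) ∉ m := by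
  classical
  by_contra hcon
  push Not at hcon
  apply ha
  rw [← sum_support_decompose 𝒜 a]
  exact Ideal.sum_mem _ fun g _ => hcon g

include hf in
/-- Homogeneous refinement: from (inhomogeneous) elements outside `m` doing the two jobs, get a
homogeneous one. -/
theorem exists_homogeneous_of_exists (m : Ideal A) [hm : m.IsPrime]
    (hgen : ∃ a : A, (∀ p : P, a • p ∈ Submodule.span A (Set.range f)) ∧ a ∉ m)
    (hrel : ∃ a : A, (∀ c : ι → A, ∑ i, c i • f i = 0 → ∀ i, a * c i = 0) ∧ a ∉ m) :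
    ∃ s : A, SetLike.IsHomogeneousElem 𝒜 s ∧ s ∉ m ∧
      (∀ p : P, s • p ∈ Submodule.span A (Set.range f)) ∧
      (∀ c : ι → A, ∑ i, c i • f i = 0 → ∀ i, s * c i = 0) := by
  obtain ⟨a₁, ha₁gen, ha₁m⟩ := hgen
  obtain ⟨a₂, ha₂rel, ha₂m⟩ := hrel
  obtain ⟨g₁, hg₁⟩ := exists_component_notMem 𝒜 ha₁m
  obtain ⟨g₂, hg₂⟩ := exists_component_notMem 𝒜 ha₂m
  have hgen' := gen_homogeneous 𝒜 ℳ wt f hf ha₁gen g₁
  have hrel' := rel_homogeneous 𝒜 ℳ wt f hf ha₂rel g₂
  refine ⟨(decompose 𝒜 a₁ g₁ : A) * (decompose 𝒜 a₂ g₂ : A),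
    ⟨g₁ + g₂, SetLike.mul_mem_graded (SetLike.coe_mem _) (SetLike.coe_mem _)⟩, ?_, ?_, ?_⟩
  · intro h
    rcases hm.mem_or_mem h with h | h
    · exact hg₁ h
    · exact hg₂ h
  · intro p
    rw [mul_smul]
    exact hgen' _
  · intro c hc i
    rw [mul_assoc, hrel' c hc i, mul_zero]

end Groth.Agent.Helper9.GradedHomog2
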