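import Mathlib
import Groth.Prelude.Def_W4c6equivkfinstabCyc
import Groth.Agent.Helper9.CycUnit

/-!
Units `[c] - 1` in the cyclotomic quotient of the group ring of a finite cyclic group, and the
resulting comaximality statements.
-/

namespace Groth.Agent.Helper9.GrpAlgCyc

open W4c6equivkfinstab Polynomial

universe u v
variable (Λ : Type u) [CommRing Λ]

lemma isUnit_single_sub_one (C : Type v) [AddCommGroup C] [Finite C] [IsAddCyclic C]
    (hu : IsUnit ((Nat.card C : ℕ) : Λ)) (c : C) (hc : c ≠ 0) :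
    IsUnit (Ideal.Quotient.mk (cycIdeal Λ C) (AddMonoidAlgebra.single c 1) - 1) := by
  obtain ⟨g, hg⟩ := IsAddCyclic.exists_generator (α := C)
  have hgtop : AddSubgroup.zmultiples g = ⊤ := by
    rw [eq_top_iff]
    intro x _
    exact hg x
  obtain ⟨t, ht⟩ : ∃ t, t = Ideal.Quotient.mk (cycIdeal Λ C) (AddMonoidAlgebra.single g 1) :=
    ⟨_, rfl⟩
  have ht0 : aeval t (cyclotomic (Nat.card C) ℤ) = 0 := by
    have hmem : aeval (AddMonoidAlgebra.single g (1 : Λ)) (cyclotomic (Nat.card C) Λ) ∈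
        cycIdeal Λ C := Ideal.subset_span ⟨g, hgtop, rfl⟩
    have h1 := Ideal.Quotient.eq_zero_iff_mem.mpr hmem
    rw [← map_cyclotomic_int, ← algebraMap_int_eq, aeval_map_algebraMap] at h1
    have h2 := aeval_algHom_apply (Ideal.Quotient.mk (cycIdeal Λ C)).toIntAlgHom
      (AddMonoidAlgebra.single g (1 : Λ)) (cyclotomic (Nat.card C) ℤ)
    rw [ht]
    exact h2.trans h1
  obtain ⟨k, rfl⟩ : ∃ k : ℕ, k • g = c := by
    have := hg c
    rw [← mem_multiples_iff_mem_zmultiples] at this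
    exact (AddSubmonoid.mem_multiples_iff _ _).mp this
  have hk : ¬ Nat.card C ∣ k := by
    rintro ⟨j, rfl⟩
    apply hc
    rw [mul_smul, card_nsmul_eq_zero']
  have hpow : Ideal.Quotient.mk (cycIdeal Λ C) (AddMonoidAlgebra.single (k • g) 1) = t ^ k := by
    rw [ht, ← map_pow, AddMonoidAlgebra.single_pow, one_pow]
  have hn : IsUnit ((Nat.card C : ℕ) : CycQuot Λ C) := by
    have := hu.map (algebraMap Λ (CycQuot Λ C))
    simpa using this
  rw [hpow]
  exact CycUnit.isUnit_pow_sub_one t hn ht0 hk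

lemma cycQuotMap_surjective (M : Type v) [AddCommGroup M] (B : AddSubgroup M) :
    Function.Surjective (cycQuotMap Λ M B) := by
  intro x
  obtain ⟨y, rfl⟩ := Ideal.Quotient.mk_surjective x
  obtain ⟨z, rfl⟩ : ∃ z, quotMap Λ M B z = y := by
    induction y using AddMonoidAlgebra.induction_linear with
    | zero => exact ⟨0, map_zero _⟩
    | add x y hx hy =>
      obtain ⟨a, rfl⟩ := hx
      obtain ⟨b, rfl⟩ := hy
      exact ⟨a + b, map_add _ _ _⟩
    | single q r =>
      obtain ⟨m, rfl⟩ := QuotientAddGroup.mk'_surjective B q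
      exact ⟨AddMonoidAlgebra.single m r, by simp [quotMap]⟩
  exact ⟨z, rfl⟩

lemma cycQuotMap_single (M : Type v) [AddCommGroup M] (B : AddSubgroup M) (m : M) :
    cycQuotMap Λ M B (AddMonoidAlgebra.single m 1) =
      Ideal.Quotient.mk (cycIdeal Λ (M ⧸ B)) (AddMonoidAlgebra.single (m : M ⧸ B) 1) := by
  simp [cycQuotMap, quotMap]

lemma exists_mul_eq_one (M : Type v) [AddCommGroup M] (B : AddSubgroup M) [B.FiniteIndex]
    [IsAddCyclic (M ⧸ B)] (hu : IsUnit ((B.index : ℕ) : Λ)) (m : M) (hm : m ∉ B) :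
    ∃ y : AddMonoidAlgebra Λ M,
      cycQuotMap Λ M B ((AddMonoidAlgebra.single m 1 - 1) * y) = 1 := by
  have : Finite (M ⧸ B) := AddSubgroup.finite_quotient_of_finiteIndex
  have hc : ((m : M ⧸ B)) ≠ 0 := by
    rwa [Ne, QuotientAddGroup.eq_zero_iff]
  have hunit := isUnit_single_sub_one Λ (M ⧸ B) (by rwa [AddSubgroup.index] at hu) (m : M ⧸ B) hc
  obtain ⟨y, hy⟩ := cycQuotMap_surjective Λ M B (hunit.unit⁻¹ : (CycQuot Λ (M ⧸ B))ˣ)
  refine ⟨y, ?_⟩
  rw [map_mul, map_sub, map_one, cycQuotMap_single, hy]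
  exact hunit.mul_val_inv

lemma smul_eq (M : Type v) [AddCommGroup M] (B : AddSubgroup M) (s : AddMonoidAlgebra Λ M)
    (x : CycQuot Λ (M ⧸ B)) : s • x = cycQuotMap Λ M B s * x := by
  show algebraMap _ _ s * x = _
  rfl

end Groth.Agent.Helper9.GrpAlgCyc
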