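import Mathlib
import Groth.Prelude.Def_W4c6equivkfinstabCyc
import Groth.Agent.Helper9.GrpAlgCyc

namespace Groth.Agent.Helper9.GrpAlgFourier

open W4c6equivkfinstab Polynomial

universe u v

/-- `Φ_n(X) ∣ Φ_d(X^j)` over `ℤ` whenever `d = n / gcd(n, j)`. -/
lemma cyclotomic_dvd_comp (n j : ℕ) (hn : 0 < n) :
    cyclotomic n ℤ ∣ (cyclotomic (n / Nat.gcd n j) ℤ).comp (X ^ j) := by
  have hμ := Complex.isPrimitiveRoot_exp n hn.ne'
  rw [cyclotomic_eq_minpoly hμ hn]
  apply minpoly.isIntegrallyClosed_dvd (hμ.isIntegral hn)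
  rw [aeval_comp, map_pow, aeval_X]
  set μ := Complex.exp (2 * Real.pi * Complex.I / n) with hμdef
  have hd : 0 < n / Nat.gcd n j :=
    Nat.div_pos (Nat.le_of_dvd hn (Nat.gcd_dvd_left n j)) (Nat.gcd_pos_of_pos_left j hn)
  have hprim : IsPrimitiveRoot (μ ^ j) (n / Nat.gcd n j) := by
    have h1 : orderOf μ = n := hμ.eq_orderOf.symm
    have hfin : IsOfFinOrder μ := by
      rw [← orderOf_pos_iff, h1]; exact hn
    have h2 : orderOf (μ ^ j) = n / Nat.gcd n j := by
      rw [hfin.orderOf_pow, h1]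
    rw [← h2]
    exact IsPrimitiveRoot.orderOf _
  have : NeZero ((n / Nat.gcd n j : ℕ) : ℂ) := ⟨by exact_mod_cast hd.ne'⟩
  have h3 := (isRoot_cyclotomic_iff (R := ℂ)).mpr hprim
  rw [IsRoot.def, ← map_cyclotomic_int, eval_map] at h3
  rw [aeval_def, ← h3]
  rfl


section Cyc

variable (Λ : Type u) [CommRing Λ] (n : ℕ)

/-- The ring `Λ[x]/(Φ_n)`. -/
abbrev Cyc : Type u := AdjoinRoot (cyclotomic n Λ)

/-- The class of `x`. -/
noncomputable def zeta : Cyc Λ n := AdjoinRoot.root _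

lemma aeval_zeta : aeval (zeta Λ n) (cyclotomic n ℤ) = 0 := by
  have h1 : aeval (zeta Λ n) (map (algebraMap ℤ Λ) (cyclotomic n ℤ)) = 0 := by
    rw [algebraMap_int_eq, map_cyclotomic_int, zeta, AdjoinRoot.aeval_eq, AdjoinRoot.mk_self]
  rw [aeval_map_algebraMap] at h1
  exact h1

lemma zeta_pow : zeta Λ n ^ n = 1 := by
  obtain ⟨c, hc⟩ := cyclotomic.dvd_X_pow_sub_one n ℤ
  have := congrArg (aeval (zeta Λ n)) hc
  simp only [map_sub, map_pow, aeval_X, map_one, map_mul, aeval_zeta, zero_mul] at this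
  exact sub_eq_zero.mp this

lemma algebraMap_injective (hn : 0 < n) : Function.Injective (algebraMap Λ (Cyc Λ n)) := by
  rcases subsingleton_or_nontrivial Λ with h | h
  · exact Function.injective_of_subsingleton _
  rw [injective_iff_map_eq_zero]
  intro r hr
  by_contra hne
  have hdeg : (C r : Λ[X]).degree < (cyclotomic n Λ).degree := by
    rw [degree_C hne]
    exact degree_cyclotomic_pos n Λ hn
  exact AdjoinRoot.mk_ne_zero_of_degree_lt (cyclotomic.monic n Λ) (by simpa using hne) hdeg hr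

variable [NeZero n]

/-- `c ↦ ζ^c` on `ZMod n`. -/
noncomputable def pw (c : ZMod n) : Cyc Λ n := zeta Λ n ^ c.val

omit [NeZero n] in
lemma pw_zero : pw Λ n 0 = 1 := by simp [pw]

lemma pw_add (a b : ZMod n) : pw Λ n (a + b) = pw Λ n a * pw Λ n b := by
  rw [pw, pw, pw, ZMod.val_add, ← pow_add, ← pow_eq_pow_mod _ (zeta_pow Λ n)]

lemma isUnit_pw_sub_one (hu : IsUnit ((n : ℕ) : Λ)) (c : ZMod n) (hc : c ≠ 0) :
    IsUnit (pw Λ n c - 1) := by
  have hn : IsUnit ((n : ℕ) : Cyc Λ n) := by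
    have := hu.map (algebraMap Λ (Cyc Λ n))
    simpa using this
  refine CycUnit.isUnit_pow_sub_one (zeta Λ n) hn (aeval_zeta Λ n) ?_
  intro hdvd
  apply hc
  have hlt := ZMod.val_lt c
  have : c.val = 0 := Nat.eq_zero_of_dvd_of_lt hdvd hlt
  exact (ZMod.val_eq_zero c).mp this

variable {G : Type v} [AddCommGroup G]

/-- The multiplicative character attached to `χ : G →+ ZMod n`. -/
noncomputable def chr (χ : G →+ ZMod n) : Multiplicative G →* Cyc Λ n where
  toFun g := pw Λ n (χ g.toAdd)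
  map_one' := by simp [pw_zero]
  map_mul' a b := by simp [pw_add]

/-- Evaluation of the group ring at a character. -/
noncomputable def ev (χ : G →+ ZMod n) : AddMonoidAlgebra Λ G →ₐ[Λ] Cyc Λ n :=
  AddMonoidAlgebra.lift Λ (Cyc Λ n) G (chr Λ n χ)

lemma ev_single (χ : G →+ ZMod n) (g : G) (r : Λ) :
    ev Λ n χ (AddMonoidAlgebra.single g r) = r • pw Λ n (χ g) := by
  rw [ev, AddMonoidAlgebra.lift_single]
  rfl

end Cyc


section F1

variable (Λ : Type u) [CommRing Λ] (n : ℕ) [NeZero n]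
variable {M : Type v} [AddCommGroup M]

lemma ev_comp_mapDomain {G : Type v} [AddCommGroup G] (f : M →+ G) (χ : G →+ ZMod n)
    (x : AddMonoidAlgebra Λ M) :
    ev Λ n χ (AddMonoidAlgebra.mapDomainRingHom Λ f x) = ev Λ n (χ.comp f) x := by
  induction x using AddMonoidAlgebra.induction_linear with
  | zero => simp
  | add x y hx hy => rw [map_add, map_add, map_add, hx, hy]
  | single m r =>
    rw [ev_single]
    have : AddMonoidAlgebra.mapDomainRingHom Λ f (AddMonoidAlgebra.single m r) =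
        AddMonoidAlgebra.single (f m) r := by simp
    rw [this, ev_single]
    rfl

lemma aeval_pw_eq_zero (c : ZMod n) :
    aeval (pw Λ n c) (cyclotomic (addOrderOf c) ℤ) = 0 := by
  have hn : 0 < n := Nat.pos_of_ne_zero (NeZero.ne n)
  have h1 : addOrderOf c = n / Nat.gcd n c.val := by
    rw [← ZMod.addOrderOf_coe c.val (NeZero.ne n), ZMod.natCast_zmod_val]
  obtain ⟨q, hq⟩ := cyclotomic_dvd_comp n c.val hn
  rw [h1, pw]
  have h2 := congrArg (aeval (zeta Λ n)) hq
  rw [aeval_comp, map_pow, aeval_X, map_mul, aeval_zeta, zero_mul] at h2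
  exact h2

lemma cycIdeal_le_ker {C : Type v} [AddCommGroup C] (χ : C →+ ZMod n)
    (hχ : Function.Injective χ) :
    cycIdeal Λ C ≤ RingHom.ker (ev Λ n χ) := by
  rw [cycIdeal, Ideal.span_le]
  rintro _ ⟨g, hg, rfl⟩
  rw [SetLike.mem_coe, RingHom.mem_ker]
  have h1 : addOrderOf (χ g) = Nat.card C := by
    rw [addOrderOf_injective χ hχ g]
    exact addOrderOf_eq_card_of_zmultiples_eq_top hg
  have h2 := aeval_pw_eq_zero Λ n (χ g)
  rw [h1] at h2
  have h3 : aeval (AddMonoidAlgebra.single g (1 : Λ)) (cyclotomic (Nat.card C) Λ) =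
      aeval (AddMonoidAlgebra.single g (1 : Λ)) (cyclotomic (Nat.card C) ℤ) := by
    rw [← map_cyclotomic_int, ← algebraMap_int_eq, aeval_map_algebraMap]
  rw [h3]
  have h4 := aeval_algHom_apply ((ev Λ n χ).restrictScalars ℤ)
    (AddMonoidAlgebra.single g (1 : Λ)) (cyclotomic (Nat.card C) ℤ)
  have h5 : ((ev Λ n χ).restrictScalars ℤ) (AddMonoidAlgebra.single g (1 : Λ)) = pw Λ n (χ g) := by
    show ev Λ n χ (AddMonoidAlgebra.single g (1 : Λ)) = _
    rw [ev_single, one_smul]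
  rw [h5] at h4
  exact h4.symm.trans h2

/-- Evaluation at `χ` factors through the cyclotomic quotient attached to `ker χ`. -/
lemma ev_eq_zero_of_cycQuotMap (χ : M →+ ZMod n) (x : AddMonoidAlgebra Λ M)
    (hx : cycQuotMap Λ M χ.ker x = 0) : ev Λ n χ x = 0 := by
  have h1 : quotMap Λ M χ.ker x ∈ cycIdeal Λ (M ⧸ χ.ker) := by
    rw [cycQuotMap, RingHom.comp_apply] at hx
    exact Ideal.Quotient.eq_zero_iff_mem.mp hx
  have h2 := cycIdeal_le_ker Λ n (QuotientAddGroup.kerLift χ)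
    (QuotientAddGroup.kerLift_injective χ) h1
  rw [RingHom.mem_ker, quotMap, ev_comp_mapDomain] at h2
  have h3 : (QuotientAddGroup.kerLift χ).comp (QuotientAddGroup.mk' χ.ker) = χ := by
    ext m
    rfl
  rwa [h3] at h2

end F1


section Sep

/-- an embedding `ZMod m → ZMod n` for `m ∣ n` that does not kill nonzero elements. -/
lemma exists_zmod_hom (m n : ℕ) [NeZero m] [NeZero n] (hmn : m ∣ n) (c : ZMod m) (hc : c ≠ 0) :
    ∃ f : ZMod m →+ ZMod n, f c ≠ 0 := by
  obtain ⟨q, rfl⟩ := hmn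
  have hq : q ≠ 0 := by
    rintro rfl
    exact NeZero.ne (m * 0) (by simp)
  let f0 : ℤ →+ ZMod (m * q) := zmultiplesHom (ZMod (m * q)) (q : ZMod (m * q))
  have hf0 : f0 (m : ℤ) = 0 := by
    simp only [f0, zmultiplesHom_apply, natCast_zsmul, nsmul_eq_mul]
    rw [← Nat.cast_mul, ZMod.natCast_self]
  refine ⟨ZMod.lift m ⟨f0, hf0⟩, ?_⟩
  have h1 : c = ((c.val : ℤ) : ZMod m) := by
    rw [Int.cast_natCast, ZMod.natCast_zmod_val]
  rw [h1, ZMod.lift_coe]
  simp only [f0, zmultiplesHom_apply, natCast_zsmul, nsmul_eq_mul]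
  rw [← Nat.cast_mul, Ne, ZMod.natCast_eq_zero_iff]
  intro hdvd
  have h2 : m ∣ c.val := Nat.dvd_of_mul_dvd_mul_right (Nat.pos_of_ne_zero hq) hdvd
  have h3 : c.val = 0 := Nat.eq_zero_of_dvd_of_lt h2 (ZMod.val_lt c)
  exact hc ((ZMod.val_eq_zero c).mp h3)

variable {A : Type v} [AddCommGroup A] [Finite A]

lemma exists_char_ne_zero (n : ℕ) [NeZero n] (hA : ∀ a : A, n • a = 0) (a : A) (ha : a ≠ 0) :
    ∃ χ : A →+ ZMod n, χ a ≠ 0 := by
  classical
  obtain ⟨ι, _, m, hm, ⟨e⟩⟩ := AddCommGroup.equiv_directSum_zmod_of_finite' A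
  have hm' : ∀ i, NeZero (m i) := fun i => ⟨by have := hm i; omega⟩
  obtain ⟨i, hi⟩ : ∃ i, e a i ≠ 0 := by
    by_contra hcon
    push Not at hcon
    apply ha
    apply e.injective
    rw [map_zero]
    ext i
    exact hcon i
  have hdvd : m i ∣ n := by
    have h1 := hA (e.symm (DirectSum.of (fun i => ZMod (m i)) i 1))
    rw [← map_nsmul, ← map_nsmul] at h1
    have h2 := (AddEquiv.map_eq_zero_iff e.symm).mp h1
    have h3 := (DirectSum.of_injective (β := fun i => ZMod (m i)) i)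
      (h2.trans (map_zero _).symm)
    rw [nsmul_eq_mul, mul_one] at h3
    exact (ZMod.natCast_eq_zero_iff n (m i)).mp h3
  obtain ⟨f, hf⟩ := exists_zmod_hom (m i) n hdvd (e a i) hi
  refine ⟨(f.comp (DFinsupp.evalAddMonoidHom i)).comp e.toAddMonoidHom, ?_⟩
  exact hf

end Sep


section Fourier

variable (Λ : Type u) [CommRing Λ] (n : ℕ) [NeZero n]
variable {A : Type v} [AddCommGroup A] [Finite A]

instance : Finite (A →+ ZMod n) := DFunLike.finite _

noncomputable instance : Fintype (A →+ ZMod n) := Fintype.ofFinite _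

lemma sum_pw_eq_zero (hu : IsUnit ((n : ℕ) : Λ)) (hA : ∀ a : A, n • a = 0) (a : A) (ha : a ≠ 0) :
    ∑ χ : A →+ ZMod n, pw Λ n (χ a) = 0 := by
  obtain ⟨χ₀, hχ₀⟩ := exists_char_ne_zero n hA a ha
  have hunit := isUnit_pw_sub_one Λ n hu (χ₀ a) hχ₀
  have h1 : pw Λ n (χ₀ a) * ∑ χ : A →+ ZMod n, pw Λ n (χ a) = ∑ χ : A →+ ZMod n, pw Λ n (χ a) := by
    rw [Finset.mul_sum]
    refine Fintype.sum_equiv (Equiv.addLeft χ₀) _ _ fun χ => ?_
    rw [Equiv.coe_addLeft, AddMonoidHom.add_apply, pw_add]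
  have h2 : (pw Λ n (χ₀ a) - 1) * ∑ χ : A →+ ZMod n, pw Λ n (χ a) = 0 := by
    rw [sub_mul, h1, one_mul, sub_self]
  exact (hunit.mul_right_eq_zero).mp h2

lemma isUnit_card_char (hu : IsUnit ((n : ℕ) : Λ)) :
    IsUnit ((Nat.card (A →+ ZMod n) : ℕ) : Λ) := by
  have h1 : Nat.card (A →+ ZMod n) ∣ n ^ AddGroup.rank (A →+ ZMod n) := by
    apply card_dvd_exponent_nsmul_rank'
    intro χ
    ext a
    simp
  obtain ⟨c, hc⟩ := h1
  have h2 : ((n : ℕ) : Λ) ^ AddGroup.rank (A →+ ZMod n) =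
      ((Nat.card (A →+ ZMod n) : ℕ) : Λ) * (c : Λ) := by
    rw [← Nat.cast_pow, hc, Nat.cast_mul]
  exact isUnit_of_mul_isUnit_left (h2 ▸ hu.pow _)

/-- Fourier inversion: an element of the group ring killed by all characters vanishes. -/
lemma eq_zero_of_forall_ev (hu : IsUnit ((n : ℕ) : Λ)) (hA : ∀ a : A, n • a = 0)
    (y : AddMonoidAlgebra Λ A) (hy : ∀ χ : A →+ ZMod n, ev Λ n χ y = 0) : y = 0 := by
  classical
  have hn : 0 < n := Nat.pos_of_ne_zero (NeZero.ne n)
  have key : ∀ (a₀ : A) (y : AddMonoidAlgebra Λ A),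
      ∑ χ : A →+ ZMod n, pw Λ n (-(χ a₀)) * ev Λ n χ y =
        algebraMap Λ (Cyc Λ n) (((Nat.card (A →+ ZMod n) : ℕ) : Λ) * y.coeff a₀) := by
    intro a₀ y
    induction y using AddMonoidAlgebra.induction_linear with
    | zero => simp
    | add x y hx hy =>
      simp only [map_add, mul_add, Finset.sum_add_distrib, hx, hy, AddMonoidAlgebra.coeff_add,
        Finsupp.add_apply]
    | single a r =>
      have h1 : ∀ χ : A →+ ZMod n, pw Λ n (-(χ a₀)) * ev Λ n χ (AddMonoidAlgebra.single a r) =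
          r • pw Λ n (χ (a - a₀)) := by
        intro χ
        rw [ev_single, mul_smul_comm, ← pw_add, map_sub, neg_add_eq_sub]
      rw [Finset.sum_congr rfl fun χ _ => h1 χ, ← Finset.smul_sum]
      by_cases h : a = a₀
      · subst h
        simp only [sub_self, map_zero, pw_zero, Finset.sum_const, Finset.card_univ,
          AddMonoidAlgebra.coeff_single, Finsupp.single_eq_same]
        rw [Nat.card_eq_fintype_card, Algebra.smul_def, map_mul, map_natCast]
        simp [mul_comm]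
      · rw [sum_pw_eq_zero Λ n hu hA (a - a₀) (sub_ne_zero.mpr h), smul_zero]
        have : (AddMonoidAlgebra.single a r).coeff a₀ = 0 := by
          rw [AddMonoidAlgebra.coeff_single]
          exact Finsupp.single_eq_of_ne' h
        rw [this, mul_zero, map_zero]
  ext a₀
  have h1 := key a₀ y
  simp only [hy, mul_zero, Finset.sum_const_zero] at h1
  have h2 := algebraMap_injective Λ n hn (h1.symm.trans (map_zero _).symm)
  exact ((isUnit_card_char Λ n hu).mul_right_eq_zero).mp h2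

end Fourier


section K2

variable (Λ : Type u) [CommRing Λ] (M : Type v) [AddCommGroup M]

/-- An element of `Λ[M]` killed in all cyclotomic quotients attached to subgroups `B ⊇ B₀` with
cyclic quotient is killed in `Λ[M ⧸ B₀]`. -/
theorem quotMap_eq_zero_of_forall (B₀ : AddSubgroup M) [B₀.FiniteIndex]
    (hu : IsUnit ((B₀.index : ℕ) : Λ)) (x : AddMonoidAlgebra Λ M)
    (hx : ∀ B : AddSubgroup M, B₀ ≤ B → IsAddCyclic (M ⧸ B) → cycQuotMap Λ M B x = 0) :
    quotMap Λ M B₀ x = 0 := by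
  have : NeZero B₀.index := ⟨AddSubgroup.FiniteIndex.index_ne_zero⟩
  have : Finite (M ⧸ B₀) := AddSubgroup.finite_quotient_of_finiteIndex
  have hA : ∀ a : M ⧸ B₀, B₀.index • a = 0 := by
    intro a
    rw [AddSubgroup.index]
    exact card_nsmul_eq_zero'
  apply eq_zero_of_forall_ev Λ B₀.index hu hA
  intro χ
  rw [quotMap, ev_comp_mapDomain]
  apply ev_eq_zero_of_cycQuotMap
  apply hx
  · intro b hb
    rw [AddMonoidHom.mem_ker, AddMonoidHom.comp_apply, QuotientAddGroup.mk'_apply,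
      (QuotientAddGroup.eq_zero_iff b).mpr hb, map_zero]
  · exact isAddCyclic_of_injective (QuotientAddGroup.kerLift _)
      (QuotientAddGroup.kerLift_injective _)

end K2

end Groth.Agent.Helper9.GrpAlgFourier
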