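import Mathlib
import Groth.Prelude.Def_W4c6equivkfinstabCyc
import Groth.Agent.Helper9.GrpAlgCyc
import Groth.Agent.Helper9.GrpAlgFourier

namespace Groth.Agent.Helper9.GrpAlgCRT

open W4c6equivkfinstab Polynomial Groth.Agent.Helper9.GrpAlgCyc

universe u v

variable (Λ : Type u) [CommRing Λ] (M : Type v) [AddCommGroup M]

lemma cycQuotMap_single_sub_one (B₁ : AddSubgroup M) (m : M) (hm : m ∈ B₁) :
    cycQuotMap Λ M B₁ (AddMonoidAlgebra.single m 1 - 1) = 0 := by
  rw [map_sub, map_one, cycQuotMap_single, (QuotientAddGroup.eq_zero_iff m).mpr hm]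
  rw [← AddMonoidAlgebra.one_def, map_one, sub_self]

lemma exists_sep (B B' : AddSubgroup M) [B.FiniteIndex] [B'.FiniteIndex]
    [IsAddCyclic (M ⧸ B)] [IsAddCyclic (M ⧸ B')] (hne : B ≠ B')
    (huB : IsUnit ((B.index : ℕ) : Λ)) (huB' : IsUnit ((B'.index : ℕ) : Λ)) :
    ∃ s : AddMonoidAlgebra Λ M, cycQuotMap Λ M B' s = 1 ∧ cycQuotMap Λ M B s = 0 := by
  by_cases h : B' ≤ B
  · obtain ⟨m, hmB, hmB'⟩ : ∃ m, m ∈ B ∧ m ∉ B' := by
      by_contra hcon
      push Not at hcon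
      exact hne (le_antisymm hcon h)
    obtain ⟨y, hy⟩ := exists_mul_eq_one Λ M B' huB' m hmB'
    refine ⟨(AddMonoidAlgebra.single m 1 - 1) * y, hy, ?_⟩
    rw [map_mul, cycQuotMap_single_sub_one Λ M B m hmB, zero_mul]
  · obtain ⟨m, hmB', hmB⟩ : ∃ m, m ∈ B' ∧ m ∉ B := by
      by_contra hcon
      push Not at hcon
      exact h hcon
    obtain ⟨y, hy⟩ := exists_mul_eq_one Λ M B huB m hmB
    refine ⟨1 - (AddMonoidAlgebra.single m 1 - 1) * y, ?_, ?_⟩
    · rw [map_sub, map_one, map_mul, cycQuotMap_single_sub_one Λ M B' m hmB', zero_mul, sub_zero]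
    · rw [map_sub, map_one, hy, sub_self]

/-- Chinese remainder theorem for the cyclotomic quotient maps. -/
lemma exists_crt {ι : Type*} [Finite ι] (B : ι → AddSubgroup M) (hinj : Function.Injective B)
    (hfi : ∀ i, (B i).FiniteIndex) (hcyc : ∀ i, IsAddCyclic (M ⧸ B i))
    (hu : ∀ i, IsUnit (((B i).index : ℕ) : Λ)) (x : ι → AddMonoidAlgebra Λ M) :
    ∃ r, ∀ i, cycQuotMap Λ M (B i) r = cycQuotMap Λ M (B i) (x i) := by
  have hcop : Pairwise (Function.onFun IsCoprime fun i => RingHom.ker (cycQuotMap Λ M (B i))) := by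
    intro i j hij
    have hne : B i ≠ B j := fun h => hij (hinj h)
    have := hfi i
    have := hfi j
    have := hcyc i
    have := hcyc j
    obtain ⟨s, hs1, hs0⟩ := exists_sep Λ M (B i) (B j) hne (hu i) (hu j)
    show IsCoprime (RingHom.ker (cycQuotMap Λ M (B i))) (RingHom.ker (cycQuotMap Λ M (B j)))
    rw [Ideal.isCoprime_iff_exists]
    refine ⟨s, hs0, 1 - s, ?_, by ring⟩
    rw [RingHom.mem_ker, map_sub, map_one, hs1, sub_self]
  obtain ⟨r, hr⟩ := Ideal.exists_forall_sub_mem_ideal hcop x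
  refine ⟨r, fun i => ?_⟩
  have := hr i
  rw [RingHom.mem_ker, map_sub, sub_eq_zero] at this
  exact this

end Groth.Agent.Helper9.GrpAlgCRT
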