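import Mathlib

set_option autoImplicit false
universe u

namespace Groth.Agent.Helper9.GrpDiag

open CategoryTheory MonoidalCategory CartesianMonoidalCategory MonObj Limits

section General

variable {C : Type*} [Category C] [CartesianMonoidalCategory C] (G : C) [GrpObj G]

/-- The "division" map `(g, h) ↦ g⁻¹ h`. -/
noncomputable def dmap : G ⊗ G ⟶ G := (fst G G)⁻¹ * snd G G

/-- The diagonal of a group object is the base change of the unit section along `(g,h) ↦ g⁻¹h`. -/
theorem isPullback_diag : IsPullback (lift (𝟙 G) (𝟙 G)) (toUnit G) (dmap G) η[G] := by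
  have hcomm : lift (𝟙 G) (𝟙 G) ≫ dmap G = toUnit G ≫ η[G] := by
    rw [dmap, MonObj.comp_mul, GrpObj.comp_inv, lift_fst, lift_snd, inv_mul_cancel, Hom.one_def]
  refine ⟨⟨hcomm⟩, ⟨PullbackCone.IsLimit.mk _ (fun s => s.fst ≫ fst G G) ?_ ?_ ?_⟩⟩
  · intro s
    have h1 : s.fst ≫ ((fst G G)⁻¹ * snd G G) = 1 := by
      have h0 : s.fst ≫ dmap G = 1 := by
        rw [s.condition, Hom.one_def]
        congr 1
        exact toUnit_unique _ _
      exact h0
    rw [MonObj.comp_mul, GrpObj.comp_inv, inv_mul_eq_one] at h1
    apply CartesianMonoidalCategory.hom_ext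
    · rw [Category.assoc, lift_fst, Category.comp_id]
    · rw [Category.assoc, lift_snd, Category.comp_id, h1]
  · intro s
    exact toUnit_unique _ _
  · intro s m hm _
    rw [← hm, Category.assoc, lift_fst, Category.comp_id]

end General

end Groth.Agent.Helper9.GrpDiag
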