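import Mathlib

/-!
# Abelian sheaves as commutative group objects in sheaves of sets (part A)

`toGrp J : Sheaf J AddCommGrpCat ⥤ CommGrp (Sheaf J (Type u))`.
-/

universe u
open CategoryTheory CategoryTheory.Limits MonoidalCategory CartesianMonoidalCategory Opposite MonObj

namespace Groth.Agent.Helper9.GrpSh

variable {C : Type u} [SmallCategory C] (J : GrothendieckTopology C)

/-- The braiding on sheaves of sets coming from the cartesian structure. -/
noncomputable scoped instance (priority := 2000) monoidalSheaf :
    MonoidalCategory (Sheaf J (Type u)) :=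
  SemiCartesianMonoidalCategory.toMonoidalCategory

noncomputable scoped instance (priority := 2000) braidedSheaf :
    @BraidedCategory (Sheaf J (Type u)) _
      (SemiCartesianMonoidalCategory.toMonoidalCategory (C := Sheaf J (Type u))) :=
  .ofCartesianMonoidalCategory

/-- forgetful functor on sheaves -/
noncomputable abbrev FF : Sheaf J AddCommGrpCat.{u} ⥤ Sheaf J (Type u) :=
  sheafCompose J (forget AddCommGrpCat.{u})

variable {J}

section obj
variable (A : Sheaf J AddCommGrpCat.{u})

noncomputable def oneHom : 𝟙_ (Sheaf J (Type u)) ⟶ (FF J).obj A :=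
  ⟨{ app := fun c => TypeCat.ofHom (fun _ => (0 : A.obj.obj c))
     naturality := by
      intro c d f
      ext x
      exact (map_zero (A.obj.map f).hom).symm }⟩

noncomputable def mulHom : (FF J).obj A ⊗ (FF J).obj A ⟶ (FF J).obj A :=
  ⟨{ app := fun c => TypeCat.ofHom (fun (p : (A.obj.obj c) × (A.obj.obj c)) => (p.1 + p.2 : A.obj.obj c))
     naturality := by
      intro c d f
      ext p
      exact (map_add (A.obj.map f).hom _ _).symm }⟩

noncomputable def invHom : (FF J).obj A ⟶ (FF J).obj A :=
  ⟨{ app := fun c => TypeCat.ofHom (fun (p : (A.obj.obj c)) => (-p : A.obj.obj c))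
     naturality := by
      intro c d f
      ext p
      exact (map_neg (A.obj.map f).hom _).symm }⟩

noncomputable instance monObj : MonObj ((FF J).obj A) where
  one := oneHom A
  mul := mulHom A
  one_mul := by
    ext c x
    obtain ⟨x1, x2⟩ := x
    exact zero_add (M := A.obj.obj c) x2
  mul_one := by
    ext c x
    obtain ⟨x1, x2⟩ := x
    exact add_zero (M := A.obj.obj c) x1
  mul_assoc := by
    ext c x
    obtain ⟨⟨x1, x2⟩, x3⟩ := x
    exact add_assoc (G := A.obj.obj c) x1 x2 x3

noncomputable instance grpObj : GrpObj ((FF J).obj A) where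
  toMonObj := monObj A
  inv := invHom A
  left_inv := by
    ext c x
    exact neg_add_cancel (G := A.obj.obj c) x
  right_inv := by
    ext c x
    exact add_neg_cancel (G := A.obj.obj c) x

instance isComm : IsCommMonObj ((FF J).obj A) where
  mul_comm := by
    ext c x
    obtain ⟨x1, x2⟩ := x
    exact add_comm (G := A.obj.obj c) x2 x1

lemma one_app (c : Cᵒᵖ) (x : PUnit) :
    (η[(FF J).obj A] : 𝟙_ (Sheaf J (Type u)) ⟶ (FF J).obj A).hom.app c x = (0 : A.obj.obj c) := rfl

lemma mul_app (c : Cᵒᵖ) (x y : A.obj.obj c) :
    (μ[(FF J).obj A] : (FF J).obj A ⊗ (FF J).obj A ⟶ (FF J).obj A).hom.app c (x, y) = (x + y : A.obj.obj c) := rfl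

end obj

instance isMonHom_map {A B : Sheaf J AddCommGrpCat.{u}} (f : A ⟶ B) : IsMonHom ((FF J).map f) where
  one_hom := by
    ext c x
    exact map_zero (f.hom.app c).hom
  mul_hom := by
    ext c x
    obtain ⟨x1, x2⟩ := x
    exact map_add (f.hom.app c).hom (show A.obj.obj c from x1) (show A.obj.obj c from x2)

variable (J) in
/-- Abelian sheaf ↦ commutative group object in sheaves of sets. -/
noncomputable def toGrp : Sheaf J AddCommGrpCat.{u} ⥤ CommGrp (Sheaf J (Type u)) where
  obj A := ⟨(FF J).obj A⟩
  map f := InducedCategory.homMk (Grp.homMk ((FF J).map f))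
  map_id A := by
    ext
    rfl
  map_comp f g := by
    ext
    rfl



end Groth.Agent.Helper9.GrpSh
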