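import Groth.Agent.Helper9.GrpShA

/-!
# Abelian sheaves as commutative group objects in sheaves of sets (part B)

`ofGrp J : CommGrp (Sheaf J (Type u)) ⥤ Sheaf J AddCommGrpCat`.
-/

universe u
open CategoryTheory CategoryTheory.Limits MonoidalCategory CartesianMonoidalCategory Opposite MonObj

namespace Groth.Agent.Helper9.GrpSh

variable {C : Type u} [SmallCategory C] {J : GrothendieckTopology C}

section obj
variable (G : CommGrp (Sheaf J (Type u))) (c : Cᵒᵖ)

/-- addition on sections -/
noncomputable def addAt (a b : G.X.obj.obj c) : G.X.obj.obj c := (μ[G.X]).hom.app c (a, b)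
noncomputable def zeroAt : G.X.obj.obj c := (η[G.X]).hom.app c PUnit.unit
noncomputable def negAt (a : G.X.obj.obj c) : G.X.obj.obj c := (GrpObj.inv (X := G.X)).hom.app c a

lemma addAt_assoc (a b d : G.X.obj.obj c) : addAt G c (addAt G c a b) d = addAt G c a (addAt G c b d) :=
  congrArg (fun t : (G.X ⊗ G.X) ⊗ G.X ⟶ G.X => (ConcreteCategory.hom (t.hom.app c)) ((a, b), d))
    (MonObj.mul_assoc (X := G.X))

lemma zero_addAt (a : G.X.obj.obj c) : addAt G c (zeroAt G c) a = a :=
  congrArg (fun t : 𝟙_ _ ⊗ G.X ⟶ G.X => (ConcreteCategory.hom (t.hom.app c)) (PUnit.unit, a))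
    (MonObj.one_mul (X := G.X))

lemma addAt_zero (a : G.X.obj.obj c) : addAt G c a (zeroAt G c) = a :=
  congrArg (fun t : G.X ⊗ 𝟙_ _ ⟶ G.X => (ConcreteCategory.hom (t.hom.app c)) (a, PUnit.unit))
    (MonObj.mul_one (X := G.X))

lemma neg_addAt (a : G.X.obj.obj c) : addAt G c (negAt G c a) a = zeroAt G c :=
  congrArg (fun t : G.X ⟶ G.X => (ConcreteCategory.hom (t.hom.app c)) a)
    (GrpObj.left_inv (X := G.X))

lemma addAt_comm (a b : G.X.obj.obj c) : addAt G c a b = addAt G c b a :=
  (congrArg (fun t : G.X ⊗ G.X ⟶ G.X => (ConcreteCategory.hom (t.hom.app c)) (b, a))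
    (IsCommMonObj.mul_comm (X := G.X)))

/-- the abelian group structure on sections of a commutative group object -/
@[instance_reducible]
noncomputable def addCommGroupAt : AddCommGroup (G.X.obj.obj c) :=
  letI : Add (G.X.obj.obj c) := ⟨addAt G c⟩
  letI : Zero (G.X.obj.obj c) := ⟨zeroAt G c⟩
  letI : Neg (G.X.obj.obj c) := ⟨negAt G c⟩
  letI : AddGroup (G.X.obj.obj c) :=
    AddGroup.ofLeftAxioms (addAt_assoc G c) (zero_addAt G c) (neg_addAt G c)
  { add_comm := addAt_comm G c }

end obj

section presheaf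
variable (G : CommGrp (Sheaf J (Type u)))

lemma map_zeroAt {c d : Cᵒᵖ} (f : c ⟶ d) : G.X.obj.map f (zeroAt G c) = zeroAt G d :=
  (congrArg (fun t => (ConcreteCategory.hom t) PUnit.unit) ((η[G.X]).hom.naturality f)).symm

lemma map_addAt {c d : Cᵒᵖ} (f : c ⟶ d) (a b : G.X.obj.obj c) :
    G.X.obj.map f (addAt G c a b) = addAt G d (G.X.obj.map f a) (G.X.obj.map f b) :=
  (congrArg (fun t => (ConcreteCategory.hom t) (a, b)) ((μ[G.X]).hom.naturality f)).symm

/-- the additive restriction maps -/
noncomputable def mapHom {c d : Cᵒᵖ} (f : c ⟶ d) :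
    letI := addCommGroupAt G c
    letI := addCommGroupAt G d
    G.X.obj.obj c →+ G.X.obj.obj d :=
  letI := addCommGroupAt G c
  letI := addCommGroupAt G d
  { toFun := G.X.obj.map f
    map_zero' := map_zeroAt G f
    map_add' := map_addAt G f }

/-- the presheaf of abelian groups underlying a commutative group object -/
noncomputable def preObj : Cᵒᵖ ⥤ AddCommGrpCat.{u} where
  obj c := @AddCommGrpCat.of (G.X.obj.obj c) (addCommGroupAt G c)
  map {c d} f := @AddCommGrpCat.ofHom _ _ (addCommGroupAt G c) (addCommGroupAt G d) (mapHom G f)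
  map_id c := by
    refine ConcreteCategory.hom_ext _ _ fun a => ?_
    exact congrArg (fun t => (ConcreteCategory.hom t) a) (G.X.obj.map_id c)
  map_comp f g := by
    refine ConcreteCategory.hom_ext _ _ fun a => ?_
    exact congrArg (fun t => (ConcreteCategory.hom t) a) (G.X.obj.map_comp f g)

/-- the underlying presheaf of sets of `preObj G` is `G.X.obj` -/
noncomputable def preObjForgetIso : preObj G ⋙ forget AddCommGrpCat.{u} ≅ G.X.obj :=
  NatIso.ofComponents (fun c => Iso.refl _) (by
    intro c d f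
    rfl)

lemma isSheaf_preObj : Presheaf.IsSheaf J (preObj G) := by
  rw [Presheaf.isSheaf_iff_isSheaf_forget J (preObj G) (forget AddCommGrpCat.{u})]
  exact (Presheaf.isSheaf_of_iso_iff (preObjForgetIso G)).mpr G.X.property

/-- the abelian sheaf underlying a commutative group object -/
noncomputable def shObj : Sheaf J AddCommGrpCat.{u} := ⟨preObj G, isSheaf_preObj G⟩

end presheaf

section map
variable {G H : CommGrp (Sheaf J (Type u))} (f : G.X ⟶ H.X) [IsMonHom f]

lemma app_zeroAt (c : Cᵒᵖ) : f.hom.app c (zeroAt G c) = zeroAt H c :=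
  congrArg (fun t : 𝟙_ _ ⟶ H.X => (ConcreteCategory.hom (t.hom.app c)) PUnit.unit)
    (IsMonHom.one_hom (f := f))

lemma app_addAt (c : Cᵒᵖ) (a b : G.X.obj.obj c) :
    f.hom.app c (addAt G c a b) = addAt H c (f.hom.app c a) (f.hom.app c b) :=
  congrArg (fun t : G.X ⊗ G.X ⟶ H.X => (ConcreteCategory.hom (t.hom.app c)) (a, b))
    (IsMonHom.mul_hom (f := f))

/-- the additive maps on sections -/
noncomputable def appHom (c : Cᵒᵖ) :
    letI := addCommGroupAt G c
    letI := addCommGroupAt H c
    G.X.obj.obj c →+ H.X.obj.obj c :=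
  letI := addCommGroupAt G c
  letI := addCommGroupAt H c
  { toFun := f.hom.app c
    map_zero' := app_zeroAt f c
    map_add' := app_addAt f c }

/-- the morphism of abelian sheaves induced by a morphism of group objects -/
noncomputable def shMap : shObj G ⟶ shObj H :=
  ⟨{ app := fun c => @AddCommGrpCat.ofHom _ _ (addCommGroupAt G c) (addCommGroupAt H c) (appHom f c)
     naturality := by
      intro c d g
      refine ConcreteCategory.hom_ext _ _ fun a => ?_
      exact congrArg (fun t => (ConcreteCategory.hom t) a) (f.hom.naturality g) }⟩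

end map

variable (J) in
/-- Commutative group object in sheaves of sets ↦ abelian sheaf. -/
noncomputable def ofGrp : CommGrp (Sheaf J (Type u)) ⥤ Sheaf J AddCommGrpCat.{u} where
  obj G := shObj G
  map {G H} φ :=
    haveI : IsMonHom φ.hom.hom.hom := φ.hom.hom.isMonHom_hom
    shMap φ.hom.hom.hom
  map_id G := by
    apply Sheaf.hom_ext
    ext c a
    rfl
  map_comp φ ψ := by
    apply Sheaf.hom_ext
    ext c a
    rfl

end Groth.Agent.Helper9.GrpSh
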