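import Groth.Agent.Helper9.GrpShB

/-!
# Abelian sheaves as commutative group objects in sheaves of sets (part C): the equivalence
-/

universe u
open CategoryTheory CategoryTheory.Limits MonoidalCategory CartesianMonoidalCategory Opposite MonObj

namespace Groth.Agent.Helper9.GrpSh

variable {C : Type u} [SmallCategory C] {J : GrothendieckTopology C}

section unit
variable (A : Sheaf J AddCommGrpCat.{u})

/-- identity as an additive map between the two group structures -/
noncomputable def unitFun (c : Cᵒᵖ) :
    letI := addCommGroupAt ((toGrp J).obj A) c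
    (A.obj.obj c) →+ (((toGrp J).obj A).X.obj.obj c) :=
  letI := addCommGroupAt ((toGrp J).obj A) c
  { toFun := fun a => a
    map_zero' := rfl
    map_add' := fun _ _ => rfl }

noncomputable def unitFunInv (c : Cᵒᵖ) :
    letI := addCommGroupAt ((toGrp J).obj A) c
    (((toGrp J).obj A).X.obj.obj c) →+ (A.obj.obj c) :=
  letI := addCommGroupAt ((toGrp J).obj A) c
  { toFun := fun a => a
    map_zero' := rfl
    map_add' := fun _ _ => rfl }

noncomputable def unitHom : A ⟶ (ofGrp J).obj ((toGrp J).obj A) :=
  ⟨{ app := fun c => @AddCommGrpCat.ofHom _ _ _ (addCommGroupAt ((toGrp J).obj A) c)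
        (unitFun A c)
     naturality := by
      intro c d f
      refine ConcreteCategory.hom_ext _ _ fun a => ?_
      rfl }⟩

noncomputable def unitInv : (ofGrp J).obj ((toGrp J).obj A) ⟶ A :=
  ⟨{ app := fun c => @AddCommGrpCat.ofHom _ _ (addCommGroupAt ((toGrp J).obj A) c) _
        (unitFunInv A c)
     naturality := by
      intro c d f
      refine ConcreteCategory.hom_ext _ _ fun a => ?_
      rfl }⟩

noncomputable def unitIsoApp : A ≅ (ofGrp J).obj ((toGrp J).obj A) where
  hom := unitHom A
  inv := unitInv A
  hom_inv_id := by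
    apply Sheaf.hom_ext
    ext c a
    rfl
  inv_hom_id := by
    apply Sheaf.hom_ext
    ext c a
    rfl

end unit

variable (J) in
noncomputable def unitIso : 𝟭 (Sheaf J AddCommGrpCat.{u}) ≅ toGrp J ⋙ ofGrp J :=
  NatIso.ofComponents (fun A => unitIsoApp A) (by
    intro A B f
    apply Sheaf.hom_ext
    ext c a
    rfl)

section counit
variable (G : CommGrp (Sheaf J (Type u)))

/-- the underlying sheaf of sets of `toGrp (ofGrp G)` is `G.X` -/
noncomputable def counitSheafIso : ((toGrp J).obj ((ofGrp J).obj G)).X ≅ G.X where
  hom := ⟨(preObjForgetIso G).hom⟩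
  inv := ⟨(preObjForgetIso G).inv⟩
  hom_inv_id := by
    apply Sheaf.hom_ext
    ext c a
    rfl
  inv_hom_id := by
    apply Sheaf.hom_ext
    ext c a
    rfl

noncomputable def counitIsoApp : (toGrp J).obj ((ofGrp J).obj G) ≅ G :=
  CommGrp.mkIso (counitSheafIso G)
    (by
      apply Sheaf.hom_ext
      ext c a
      rfl)
    (by
      apply Sheaf.hom_ext
      ext c a
      rfl)

end counit

variable (J) in
noncomputable def counitIso : ofGrp J ⋙ toGrp J ≅ 𝟭 (CommGrp (Sheaf J (Type u))) :=
  NatIso.ofComponents (fun G => counitIsoApp G) (by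
    intro G H f
    ext c a
    rfl)

variable (J) in
/-- Abelian sheaves are the commutative group objects in sheaves of sets. -/
noncomputable def grpEquiv : Sheaf J AddCommGrpCat.{u} ≌ CommGrp (Sheaf J (Type u)) where
  functor := toGrp J
  inverse := ofGrp J
  unitIso := unitIso J
  counitIso := counitIso J
  functor_unitIso_comp A := by
    ext c a
    rfl

end Groth.Agent.Helper9.GrpSh
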