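import Groth.Agent.Helper9.GrpShC

/-!
# Abelian sheaves as commutative group objects (part D): compatibility with pushforward
-/

universe u
open CategoryTheory CategoryTheory.Limits MonoidalCategory CartesianMonoidalCategory Opposite MonObj
open Functor.LaxMonoidal Functor.OplaxMonoidal Functor.Monoidal

namespace Groth.Agent.Helper9.GrpSh

variable {C D : Type u} [SmallCategory C] [SmallCategory D]
  (J : GrothendieckTopology C) (K : GrothendieckTopology D) (u : D ⥤ C) [u.IsContinuous K J]

/-- pushforward of sheaves of sets -/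
noncomputable abbrev RS : Sheaf J (Type u) ⥤ Sheaf K (Type u) := u.sheafPushforwardContinuous (Type u) K J
/-- pushforward of abelian sheaves -/
noncomputable abbrev RA : Sheaf J AddCommGrpCat.{u} ⥤ Sheaf K AddCommGrpCat.{u} :=
  u.sheafPushforwardContinuous AddCommGrpCat.{u} K J
/-- pullback of sheaves of sets -/
noncomputable abbrev LS : Sheaf K (Type u) ⥤ Sheaf J (Type u) := u.sheafPullback (Type u) K J
/-- pullback of abelian sheaves -/
noncomputable abbrev LA : Sheaf K AddCommGrpCat.{u} ⥤ Sheaf J AddCommGrpCat.{u} :=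
  u.sheafPullback AddCommGrpCat.{u} K J

instance preservesFiniteProducts_RS : PreservesFiniteProducts (RS J K u) := by
  have : PreservesLimitsOfSize.{0, 0} (RS J K u) :=
    (u.sheafAdjunctionContinuous (Type u) K J).rightAdjoint_preservesLimits
  constructor
  intro n
  infer_instance

noncomputable instance braided_RS : (RS J K u).Braided := Functor.Braided.ofChosenFiniteProducts _

section compat
variable (A : Sheaf J AddCommGrpCat.{u})

/-- The two ways of pushing forward and forgetting agree. -/
noncomputable def pushForgetIso : (RS J K u).obj ((FF J).obj A) ≅ (FF K).obj ((RA J K u).obj A) where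
  hom := ⟨𝟙 _⟩
  inv := ⟨𝟙 _⟩
  hom_inv_id := by
    apply Sheaf.hom_ext
    ext c a
    rfl
  inv_hom_id := by
    apply Sheaf.hom_ext
    ext c a
    rfl

lemma one_compat :
    (ε (RS J K u) ≫ (RS J K u).map η[(FF J).obj A]) ≫ (pushForgetIso J K u A).hom =
      η[(FF K).obj ((RA J K u).obj A)] := by
  have h : (RS J K u).map η[(FF J).obj A] ≫ (pushForgetIso J K u A).hom =
      Functor.OplaxMonoidal.η (RS J K u) ≫ η[(FF K).obj ((RA J K u).obj A)] := by
    rw [η_of_cartesianMonoidalCategory]
    apply Sheaf.hom_ext
    ext c a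
    rfl
  rw [Category.assoc, h, ← Category.assoc, Functor.Monoidal.ε_η, Category.id_comp]

lemma mul_compat :
    («μ» (RS J K u) _ _ ≫ (RS J K u).map μ[(FF J).obj A]) ≫ (pushForgetIso J K u A).hom =
      ((pushForgetIso J K u A).hom ⊗ₘ (pushForgetIso J K u A).hom) ≫
        μ[(FF K).obj ((RA J K u).obj A)] := by
  have h : (RS J K u).map μ[(FF J).obj A] ≫ (pushForgetIso J K u A).hom =
      δ (RS J K u) _ _ ≫ ((pushForgetIso J K u A).hom ⊗ₘ (pushForgetIso J K u A).hom) ≫
        μ[(FF K).obj ((RA J K u).obj A)] := by
    rw [δ_of_cartesianMonoidalCategory]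
    apply Sheaf.hom_ext
    ext c a
    rfl
  rw [Category.assoc, h, ← Category.assoc, Functor.Monoidal.μ_δ, Category.id_comp]
  rfl

/-- compatibility of `toGrp` with pushforward, objectwise -/
noncomputable def pushCompatApp :
    (RS J K u).mapCommGrp.obj ((toGrp J).obj A) ≅ (toGrp K).obj ((RA J K u).obj A) :=
  CommGrp.mkIso (pushForgetIso J K u A) (one_compat J K u A) (mul_compat J K u A)

end compat

variable (A : Sheaf J AddCommGrpCat.{u})

/-- compatibility of `toGrp` with pushforward -/
noncomputable def pushCompat :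
    toGrp J ⋙ (RS J K u).mapCommGrp ≅ RA J K u ⋙ toGrp K :=
  NatIso.ofComponents (fun A => pushCompatApp J K u A) (by
    intro A B f
    ext c a
    rfl)

end Groth.Agent.Helper9.GrpSh
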