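import Groth.Agent.Helper9.GrpShD

/-!
# Exactness of the abelian sheaf pullback from exactness of the set-valued one
-/

universe u
open CategoryTheory CategoryTheory.Limits MonoidalCategory CartesianMonoidalCategory Opposite MonObj
open Functor.LaxMonoidal Functor.OplaxMonoidal Functor.Monoidal

namespace Groth.Agent.Helper9.GrpSh

variable {C D : Type u} [SmallCategory C] [SmallCategory D]
  (J : GrothendieckTopology C) (K : GrothendieckTopology D) (u : D ⥤ C) [u.IsContinuous K J]

/-- `ofGrp` followed by forgetting is forgetting -/
noncomputable def ofGrpForget : ofGrp J ⋙ FF J ≅ CommGrp.forget (Sheaf J (Type u)) :=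
  NatIso.ofComponents (fun G => counitSheafIso G) (by
    intro G H f
    apply Sheaf.hom_ext
    ext c a
    rfl)

example : toGrp J ⋙ CommGrp.forget (Sheaf J (Type u)) = FF J := rfl


section main
variable [PreservesFiniteLimits (LS J K u)]

instance preservesFiniteProducts_LS : PreservesFiniteProducts (LS J K u) := by
  constructor
  intro n
  infer_instance

noncomputable instance braided_LS : (LS J K u).Braided := Functor.Braided.ofChosenFiniteProducts _

/-- the candidate pullback of abelian sheaves built from the set-valued one -/
noncomputable def LA' : Sheaf K AddCommGrpCat.{u} ⥤ Sheaf J AddCommGrpCat.{u} :=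
  toGrp K ⋙ (LS J K u).mapCommGrp ⋙ ofGrp J

/-- `LA'` is left adjoint to the pushforward of abelian sheaves -/
noncomputable def adj' : LA' J K u ⊣ RA J K u :=
  (((grpEquiv K).toAdjunction.comp
      ((u.sheafAdjunctionContinuous (Type u) K J).mapCommGrp)).comp
      (grpEquiv J).symm.toAdjunction).ofNatIsoRight
    ((Functor.associator _ _ _).symm ≪≫
      Functor.isoWhiskerRight (pushCompat J K u) (ofGrp K) ≪≫
      Functor.associator _ _ _ ≪≫
      Functor.isoWhiskerLeft (RA J K u) (unitIso K).symm ≪≫ Functor.rightUnitor _)

/-- `LA'` followed by forgetting is forgetting followed by the set-valued pullback -/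
noncomputable def LA'_forget : LA' J K u ⋙ FF J ≅ FF K ⋙ LS J K u :=
  Functor.isoWhiskerLeft (toGrp K ⋙ (LS J K u).mapCommGrp) (ofGrpForget J)

instance preservesFiniteLimits_LA' : PreservesFiniteLimits (LA' J K u) := by
  have h : PreservesFiniteLimits (LA' J K u ⋙ FF J) :=
    preservesFiniteLimits_of_natIso (LA'_forget J K u).symm
  constructor
  intro I _ _
  have : ReflectsLimitsOfShape I (FF J) := reflectsLimitsOfShape_of_reflectsIsomorphisms
  exact preservesLimitsOfShape_of_reflects_of_preserves (LA' J K u) (FF J)

theorem preservesFiniteLimits_LA : PreservesFiniteLimits (LA J K u) :=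
  preservesFiniteLimits_of_natIso
    ((adj' J K u).leftAdjointUniq (u.sheafAdjunctionContinuous AddCommGrpCat.{u} K J))

end main

end Groth.Agent.Helper9.GrpSh
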