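import Mathlib

set_option autoImplicit false
universe u

namespace Groth.Agent.Helper9.H1Sep

open Algebra TensorProduct

section Generic

attribute [local instance] SMulCommClass.of_commMonoid

variable {R S T : Type u} [CommRing R] [CommRing S] [CommRing T]
variable [Algebra R S] [Algebra R T] [Algebra S T] [IsScalarTower R S T]
variable {P : Extension.{u} R S} {Q : Extension.{u} R T} (f : P.Hom Q)

set_option backward.isDefEq.respectTransparency.types false in
set_option backward.defeqAttrib.useBackward true in
/-- The injectivity half of Mathlib's `tensorH1CotangentOfFormallyEtale`; it needs only flatness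
of `T` over `S` and `J ≃ Q ⊗ I`. -/
theorem injective_liftBaseChange_of_flat [alg : Algebra P.Ring Q.Ring]
    (halg : algebraMap P.Ring Q.Ring = f.toRingHom) [Module.Flat S T]
    (H₂ : Function.Bijective ((f.mapKer halg).liftBaseChange Q.Ring)) :
    Function.Injective ((Extension.H1Cotangent.map f).liftBaseChange T) := by
  rw [injective_iff_map_eq_zero]
  intro x hx
  apply Module.Flat.lTensor_preserves_injective_linearMap _ Extension.h1Cotangentι_injective
  apply (Extension.tensorCotangent f halg H₂).injective
  simp only [map_zero]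
  rw [← Extension.h1Cotangentι.map_zero, ← hx]
  change ((Extension.Cotangent.map f).liftBaseChange T ∘ₗ Extension.h1Cotangentι.baseChange T) x =
    (Extension.h1Cotangentι ∘ₗ _) x
  congr 1
  ext x
  simp

theorem map_comm (a : (Generators.self R S).toExtension.Hom P)
    (b : (Generators.self R T).toExtension.Hom Q) (x : Algebra.H1Cotangent R S) :
    Extension.H1Cotangent.map b (Algebra.H1Cotangent.map R R S T x) =
      Extension.H1Cotangent.map f (Extension.H1Cotangent.map a x) := by
  have h1 := Extension.H1Cotangent.map_comp_apply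
    (Generators.defaultHom (Generators.self R S) (Generators.self R T)).toExtensionHom b x
  have h2 := Extension.H1Cotangent.map_comp_apply a f x
  change Extension.H1Cotangent.map b (Extension.H1Cotangent.map
    (Generators.defaultHom (Generators.self R S) (Generators.self R T)).toExtensionHom x) = _
  rw [← h1, ← h2]
  exact congrArg (fun g => g x) (Extension.H1Cotangent.map_eq
    (b.comp (Generators.defaultHom (Generators.self R S) (Generators.self R T)).toExtensionHom)
    (f.comp a))

theorem injective_of_extension [Module.Flat S T]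
    (h : Function.Injective ((Extension.H1Cotangent.map f).liftBaseChange T))
    (a : (Generators.self R S).toExtension.Hom P) (a' : P.Hom (Generators.self R S).toExtension)
    (b : (Generators.self R T).toExtension.Hom Q) :
    Function.Injective ((Algebra.H1Cotangent.map R R S T).liftBaseChange T) := by
  let e : Algebra.H1Cotangent R S ≃ₗ[S] P.H1Cotangent := Extension.H1Cotangent.equiv a a'
  have key : ∀ x : T ⊗[S] Algebra.H1Cotangent R S,
      Extension.H1Cotangent.map b ((Algebra.H1Cotangent.map R R S T).liftBaseChange T x) =
        (Extension.H1Cotangent.map f).liftBaseChange T (e.toLinearMap.baseChange T x) := by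
    intro x
    induction x using TensorProduct.induction_on with
    | zero => simp
    | add x y hx hy => simp only [map_add, hx, hy]
    | tmul t m =>
      simp only [LinearMap.liftBaseChange_tmul, LinearMap.baseChange_tmul, map_smul]
      congr 1
      exact map_comm f a b m
  intro x y hxy
  have h1 : e.toLinearMap.baseChange T x = e.toLinearMap.baseChange T y := by
    apply h
    rw [← key, ← key, hxy]
  have hinj : Function.Injective (e.toLinearMap.baseChange T) := by
    have : e.toLinearMap.baseChange T = (e.baseChange S T _ _).toLinearMap := by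
      ext; simp
    rw [this]
    exact (e.baseChange S T _ _).injective
  exact hinj h1

/-- A hom from the standard (`Generators.self`) extension to any extension. -/
noncomputable def homOfSelf (P : Extension.{u} R S) : (Generators.self R S).toExtension.Hom P :=
  Extension.Hom.ofAlgHom (MvPolynomial.aeval (fun s : S => P.σ s)) (by
    apply MvPolynomial.algHom_ext
    intro s
    change algebraMap P.Ring S (MvPolynomial.aeval (fun s => P.σ s) (MvPolynomial.X s)) =
      algebraMap (Generators.self R S).toExtension.Ring S (MvPolynomial.X s)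
    rw [MvPolynomial.aeval_X, Extension.algebraMap_σ]
    exact ((Generators.self R S).algebraMap_apply (MvPolynomial.X s)).trans
      (by simp [Generators.self]) |>.symm)

omit [IsScalarTower R S T] in
/-- If `Q` is flat over `P` and `ker Q` is generated by `ker P`, then `Q ⊗ ker P ≃ ker Q`. -/
theorem bijective_mapKer [alg : Algebra P.Ring Q.Ring]
    (halg : algebraMap P.Ring Q.Ring = f.toRingHom) [Module.Flat P.Ring Q.Ring]
    (hker : Q.ker ≤ Ideal.map (algebraMap P.Ring Q.Ring) P.ker) :
    Function.Bijective ((f.mapKer halg).liftBaseChange Q.Ring) := by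
  have key : ∀ x : Q.Ring ⊗[P.Ring] P.ker,
      ((f.mapKer halg).liftBaseChange Q.Ring x : Q.Ring) =
        TensorProduct.rid P.Ring Q.Ring (LinearMap.lTensor Q.Ring (Submodule.subtype P.ker) x) := by
    intro x
    induction x using TensorProduct.induction_on with
    | zero => simp
    | add x y hx hy => simp only [map_add, Submodule.coe_add, hx, hy]
    | tmul q a =>
      simp only [LinearMap.liftBaseChange_tmul, LinearMap.lTensor_tmul, Submodule.subtype_apply,
        TensorProduct.rid_tmul]
      change q * f.toRingHom a = (a : P.Ring) • q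
      rw [Algebra.smul_def, halg, mul_comm]
  constructor
  · rw [injective_iff_map_eq_zero]
    intro x hx
    have h1 : LinearMap.lTensor Q.Ring (Submodule.subtype P.ker) x = 0 := by
      apply (TensorProduct.rid P.Ring Q.Ring).injective
      rw [← key, hx, map_zero]
      rfl
    have hinj := Module.Flat.lTensor_preserves_injective_linearMap (M := Q.Ring)
      (Submodule.subtype P.ker) Subtype.val_injective
    exact hinj (h1.trans (map_zero _).symm)
  · have : ∀ z ∈ Ideal.map (algebraMap P.Ring Q.Ring) P.ker,
        ∃ x, ((f.mapKer halg).liftBaseChange Q.Ring x : Q.Ring) = z := by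
      intro z hz
      refine Submodule.span_induction ?_ ?_ ?_ ?_ hz
      · rintro _ ⟨a, ha, rfl⟩
        refine ⟨1 ⊗ₜ ⟨a, ha⟩, ?_⟩
        rw [key]
        simp [Algebra.smul_def]
      · exact ⟨0, by simp⟩
      · rintro _ _ _ _ ⟨x, rfl⟩ ⟨y, rfl⟩
        exact ⟨x + y, by simp⟩
      · rintro c _ _ ⟨x, rfl⟩
        exact ⟨c • x, by simp⟩
    intro y
    obtain ⟨x, hx⟩ := this y.1 (hker y.2)
    exact ⟨x, Subtype.ext hx⟩

end Generic

section Core

open Polynomial

variable {Λ S k : Type u} [CommRing Λ] [Field S] [Field k] [Algebra Λ S] [Algebra Λ k]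
  [Algebra S k] [IsScalarTower Λ S k]

theorem phi_mk (α : k) (g : Λ[X]) (φ : AdjoinRoot g →ₐ[Λ] k) (hφ : φ (AdjoinRoot.root g) = α)
    (h : Λ[X]) : φ (AdjoinRoot.mk g h) = aeval α (h.map (algebraMap Λ S)) := by
  rw [← AdjoinRoot.aeval_eq, ← aeval_algHom_apply, hφ, aeval_map_algebraMap]

/-- The kernel of `Λ[X]/(g) → k` is generated by the kernel of `Λ → S` when `g` lifts the minimal
polynomial of the image of the root. -/
theorem ker_le (α : k) (g : Λ[X]) (hmonic : g.Monic)
    (hmap : g.map (algebraMap Λ S) = minpoly S α)
    (φ : AdjoinRoot g →ₐ[Λ] k) (hφ : φ (AdjoinRoot.root g) = α) (y : AdjoinRoot g)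
    (hy : φ y = 0) :
    y ∈ Ideal.map (algebraMap Λ (AdjoinRoot g)) (RingHom.ker (algebraMap Λ S)) := by
  obtain ⟨h, rfl⟩ := AdjoinRoot.mk_surjective y
  haveI : Nontrivial Λ := (algebraMap Λ S).domain_nontrivial
  have hmk : AdjoinRoot.mk g h = AdjoinRoot.mk g (h %ₘ g) := by
    rw [AdjoinRoot.mk_eq_mk]
    refine ⟨h /ₘ g, ?_⟩
    have := modByMonic_add_div h g
    linear_combination this.symm
  rw [hmk] at hy ⊢
  set r := h %ₘ g with hr
  rw [phi_mk (S := S) α g φ hφ] at hy
  have hdeg : (r.map (algebraMap Λ S)).degree < (minpoly S α).degree := by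
    calc (r.map (algebraMap Λ S)).degree ≤ r.degree := degree_map_le
      _ < g.degree := degree_modByMonic_lt h hmonic
      _ = (g.map (algebraMap Λ S)).degree := (hmonic.degree_map _).symm
      _ = (minpoly S α).degree := by rw [hmap]
  have hzero : r.map (algebraMap Λ S) = 0 := by
    by_contra hne
    exact absurd (minpoly.degree_le_of_ne_zero S α hne hy) (not_le.mpr hdeg)
  have hcoeff : r ∈ Ideal.map C (RingHom.ker (algebraMap Λ S)) := by
    rw [Ideal.mem_map_C_iff]
    intro n
    rw [RingHom.mem_ker, ← coeff_map, hzero, coeff_zero]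
  have : algebraMap Λ (AdjoinRoot g) = (AdjoinRoot.mk g).comp C := rfl
  rw [this, ← Ideal.map_map]
  exact Ideal.mem_map_of_mem _ hcoeff

end Core

section Main

open Polynomial IntermediateField

variable {Λ S k : Type u} [CommRing Λ] [Field S] [Field k] [Algebra Λ S] [Algebra Λ k]
  [Algebra S k] [IsScalarTower Λ S k]

/-- `Λ[X]/(g) → k`, root ↦ `α`. -/
noncomputable def phi (g : Λ[X]) (α : k) (h0 : eval₂ (algebraMap Λ k) α g = 0) :
    AdjoinRoot g →ₐ[Λ] k := AdjoinRoot.liftAlgHom g (Algebra.ofId Λ k) α h0

/-- The extension `Λ[X]/(g) → k`. -/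
noncomputable def extQ (g : Λ[X]) (α : k) (h0 : eval₂ (algebraMap Λ k) α g = 0)
    (hs : Function.Surjective (phi g α h0)) : Extension.{u} Λ k :=
  Extension.ofSurjective (phi g α h0) hs

/-- The extension `Λ → S`. -/
noncomputable def extP (hsurj : Function.Surjective (algebraMap Λ S)) : Extension.{u} Λ S :=
  Extension.ofSurjective (Algebra.ofId Λ S) hsurj

/-- The hom of extensions `(Λ → S) ⟶ (Λ[X]/(g) → k)`. -/
noncomputable def homPQ (hsurj : Function.Surjective (algebraMap Λ S))
    (g : Λ[X]) (α : k) (h0 : eval₂ (algebraMap Λ k) α g = 0)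
    (hs : Function.Surjective (phi g α h0)) : (extP hsurj).Hom (extQ g α h0 hs) where
  toRingHom := algebraMap Λ (AdjoinRoot g)
  toRingHom_algebraMap := fun _ => rfl
  algebraMap_toRingHom := fun (x : Λ) => by
    change phi g α h0 (algebraMap Λ (AdjoinRoot g) x) = algebraMap S k (algebraMap Λ S x)
    rw [AlgHom.commutes, ← IsScalarTower.algebraMap_apply]

/-- The hom of extensions `(Λ → S) ⟶ (Λ[S] → S)`. -/
noncomputable def homPSelf (hsurj : Function.Surjective (algebraMap Λ S)) :
    (extP hsurj).Hom (Generators.self Λ S).toExtension where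
  toRingHom := algebraMap Λ (MvPolynomial S Λ)
  toRingHom_algebraMap := fun _ => rfl
  algebraMap_toRingHom := fun (x : Λ) => by
    change algebraMap (Generators.self Λ S).toExtension.Ring S (MvPolynomial.C x) =
      algebraMap Λ S x
    exact ((Generators.self Λ S).algebraMap_apply (MvPolynomial.C x)).trans
      (by simp)

variable (Λ S k)

theorem bijective_of_field (hsurj : Function.Surjective (algebraMap Λ S))
    [FiniteDimensional S k] [Algebra.IsSeparable S k] :
    Function.Bijective ((Algebra.H1Cotangent.map Λ Λ S k).liftBaseChange k) := by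
  constructor
  · obtain ⟨α, hα⟩ := Field.exists_primitive_element S k
    have hint : IsIntegral S α := Algebra.IsIntegral.isIntegral α
    obtain ⟨g, hmap, -, hmonic⟩ := Polynomial.lifts_and_natDegree_eq_and_monic
      ((Polynomial.mem_lifts _).mpr (Polynomial.map_surjective _ hsurj _)) (minpoly.monic hint)
    have h0 : eval₂ (algebraMap Λ k) α g = 0 := by
      have := minpoly.aeval S α
      rw [← hmap, aeval_map_algebraMap] at this
      exact this
    have hφ : phi g α h0 (AdjoinRoot.root g) = α := AdjoinRoot.liftAlgHom_root ..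
    have hφsurj : Function.Surjective (phi g α h0) := by
      intro z
      have hz : z ∈ S⟮α⟯.toSubalgebra := by rw [hα]; trivial
      rw [IntermediateField.adjoin_simple_toSubalgebra_of_isAlgebraic hint.isAlgebraic,
        Algebra.adjoin_singleton_eq_range_aeval] at hz
      obtain ⟨q, rfl⟩ := hz
      obtain ⟨q', rfl⟩ := Polynomial.map_surjective _ hsurj q
      exact ⟨AdjoinRoot.mk g q', phi_mk (S := S) α g _ hφ q'⟩
    letI alg : Algebra (extP hsurj).Ring (extQ g α h0 hφsurj).Ring :=
      (inferInstance : Algebra Λ (AdjoinRoot g))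
    have halg : algebraMap (extP hsurj).Ring (extQ g α h0 hφsurj).Ring =
      (homPQ hsurj g α h0 hφsurj).toRingHom := rfl
    haveI : Module.Flat (extP hsurj).Ring (extQ g α h0 hφsurj).Ring := by
      change Module.Flat Λ (AdjoinRoot g)
      haveI : Module.Free Λ (AdjoinRoot g) :=
        Module.Free.of_basis (AdjoinRoot.powerBasis' hmonic).basis
      infer_instance
    have hker : (extQ g α h0 hφsurj).ker ≤
        Ideal.map (algebraMap (extP hsurj).Ring (extQ g α h0 hφsurj).Ring) (extP hsurj).ker := by
      intro y hy
      exact ker_le (S := S) α g hmonic hmap _ hφ y hy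
    have H₂ := bijective_mapKer (homPQ hsurj g α h0 hφsurj) halg hker
    have hinj := injective_liftBaseChange_of_flat (homPQ hsurj g α h0 hφsurj) halg H₂
    exact injective_of_extension (homPQ hsurj g α h0 hφsurj) hinj (homOfSelf _)
      (homPSelf hsurj) (homOfSelf _)
  · haveI := Algebra.FormallyEtale.of_isSeparable S k
    have hex := Algebra.H1Cotangent.exact_liftBaseChange_map_of_flat Λ S k
    intro y
    exact (hex y).mp (Subsingleton.elim _ _)

end Main

end Groth.Agent.Helper9.H1Sep
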