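import Mathlib
import Groth.Prelude.Def_CxOX
import Groth.Prelude.Def_DerLim
import Groth.Agent.Helper9.HP0
import Groth.Agent.Helper9.HP2
import Groth.Agent.Helper9.GL8
import Groth.Agent.Helper9.MVP5
import Groth.Agent.Helper9.RpPc1
import Groth.Agent.Helper9.TP4
import Groth.Agent.Helper9.TT5
import Groth.Agent.Helper4.QcohWSerre
import Groth.Agent.Lead.PcLib7
import Groth.Agent.Lead.PcLib9

/-! Pseudo-coherent objects on quasi-compact quasi-separated schemes are homotopy colimits of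
perfect objects (with supports), with isomorphisms on truncations. -/

set_option autoImplicit false
set_option linter.style.haveILetI false
set_option linter.unusedVariables false
set_option linter.unusedSectionVars false
universe u

namespace Groth.Agent.Helper9.HP1

open CategoryTheory CategoryTheory.Limits AlgebraicGeometry Opposite TopologicalSpace
  Pretriangulated DerivedCategory
open Groth.Agent.Helper9

attribute [local instance] HasDerivedCategory.standard

variable {X : Scheme.{u}}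

/-- an approximation of `K` by a perfect object supported on `T` -/
structure Stage (K : DCoh.D X) (T : Set X) where
  P : DCoh.D X
  α : P ⟶ K
  lvl : ℤ
  perf : DCoh.IsPerfect P
  supp : ∀ i : ℤ, CohB1.support (DCoh.HD P i) ⊆ T
  iso : ∀ i : ℤ, lvl < i → IsIso ((homologyFunctor X.Modules i).map α)
  epi : Epi ((homologyFunctor X.Modules lvl).map α)

section

variable [CompactSpace X] [QuasiSeparatedSpace X] (T : Set X) (hT : IsClosed T)
  (hTc : IsRetrocompact Tᶜ) (K : DCoh.D X) (hpc : ∀ m : ℤ, DCoh.IsPseudoCoherentD m K)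
  (hKT : ∀ i : ℤ, CohB1.support (DCoh.HD K i) ⊆ T)

include hT hTc hpc hKT in
lemma exists_stage (m : ℤ) : ∃ s : Stage K T, s.lvl = m := by
  obtain ⟨r, hr⟩ := GL8.approxHolds_of_qcqs X T hT hTc
  obtain ⟨P, α, hP, hPT, hiso, hepi⟩ := hr m K (RpPc1.isQCohD_of_isPseudoCoherentD K hpc)
    (hpc (m - r)) (fun i _ => hKT i)
  exact ⟨⟨P, α, m, hP, hPT, hiso, hepi⟩, rfl⟩

/-- the cone of a stage has no cohomology in degrees `≥ lvl` -/
lemma isZero_cone (s : Stage K T) (C : DCoh.D X) (u : K ⟶ C) (v : C ⟶ s.P⟦(1 : ℤ)⟧)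
    (hTr : Triangle.mk s.α u v ∈ distTriang (DCoh.D X)) (j : ℤ) (hj : s.lvl ≤ j) :
    IsZero (DCoh.HD C j) := by
  refine HP0.isZero_homology_obj₃ _ hTr j ?_ ?_
  · rcases hj.lt_or_eq with h | h
    · haveI := s.iso j h
      exact inferInstanceAs (Epi ((homologyFunctor X.Modules j).map s.α))
    · subst h
      exact s.epi
  · haveI := s.iso (j + 1) (by omega)
    exact inferInstanceAs (Mono ((homologyFunctor X.Modules (j + 1)).map s.α))

include hT hTc hpc hKT in
lemma exists_next (s : Stage K T) (m : ℤ) :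
    ∃ (s' : Stage K T) (g : s.P ⟶ s'.P), s'.lvl ≤ m ∧ g ≫ s'.α = s.α := by
  obtain ⟨a, b, hab, hv⟩ := MVP5.hv_of_isPerfect X s.P s.perf
  obtain ⟨s', hs'⟩ := exists_stage T hT hTc K hpc hKT (min m a)
  obtain ⟨C, u, v, hTr⟩ := distinguished_cocone_triangle s'.α
  have hKq : DCoh.IsQCohD K := RpPc1.isQCohD_of_isPseudoCoherentD K hpc
  have hCq : DCoh.IsQCohD C := Groth.Agent.Helper4.QcohWSerre.isQCohD_obj₃ _ hTr
    (TP4.isQCohD_of_isPerfect _ s'.perf) hKq
  have h0 : s.α ≫ u = 0 := hv C hCq (fun i hi _ => isZero_cone T K s' C u v hTr i (by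
    rw [hs']
    exact (min_le_right m a).trans hi)) _
  obtain ⟨g, hg⟩ := Triangle.coyoneda_exact₂ _ hTr s.α h0
  exact ⟨s', g, by rw [hs']; exact min_le_left m a, hg.symm⟩

include hT hTc hpc hKT in
/-- the sequence of perfect approximations -/
theorem exists_seq : ∃ (E : ℕ → DCoh.D X) (f : ∀ n, E n ⟶ E (n + 1)) (i : ∀ n, E n ⟶ K),
    (∀ n, DCoh.IsPerfect (E n)) ∧ (∀ (n : ℕ) (j : ℤ), CohB1.support (DCoh.HD (E n) j) ⊆ T) ∧
    (∀ n, f n ≫ i (n + 1) = i n) ∧
    ∀ (n : ℕ) (j : ℤ), -(n : ℤ) ≤ j → IsIso ((homologyFunctor X.Modules j).map (i n)) := by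
  have hnext : ∀ (p : ℕ × Stage K T), ∃ (s' : Stage K T) (g : p.2.P ⟶ s'.P),
      s'.lvl ≤ -((p.1 : ℤ) + 1) - 1 ∧ g ≫ s'.α = p.2.α :=
    fun p => exists_next T hT hTc K hpc hKT p.2 _
  choose nxt g hlvl hg using hnext
  obtain ⟨s₀, hs₀⟩ := exists_stage T hT hTc K hpc hKT (-1)
  let seq : ℕ → ℕ × Stage K T := fun n =>
    Nat.rec (motive := fun _ => ℕ × Stage K T) (0, s₀) (fun _ p => (p.1 + 1, nxt p)) n
  have hseq1 : ∀ n, (seq n).1 = n := by
    intro n
    induction n with
    | zero => rfl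
    | succ n ih => show (seq n).1 + 1 = n + 1; rw [ih]
  have hseqS : ∀ n, seq (n + 1) = ((seq n).1 + 1, nxt (seq n)) := fun n => rfl
  have hl : ∀ n, (seq n).2.lvl ≤ -(n : ℤ) - 1 := by
    intro n
    cases n with
    | zero => show s₀.lvl ≤ _; rw [hs₀]; simp
    | succ n =>
      rw [hseqS n]
      have := hlvl (seq n)
      rw [hseq1 n] at this
      show (nxt (seq n)).lvl ≤ _
      push_cast
      omega
  refine ⟨fun n => (seq n).2.P, fun n => g (seq n), fun n => (seq n).2.α,
    fun n => (seq n).2.perf, fun n j => (seq n).2.supp j, fun n => hg (seq n), ?_⟩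
  intro n j hj
  exact (seq n).2.iso j (by have := hl n; omega)

end

section Conv

variable [CompactSpace X] [QuasiSeparatedSpace X]

/-- the converse: approximations by perfect objects on all truncations give pseudo-coherence -/
theorem isPseudoCoherentD_of_seq (K : DCoh.D X) (E : ℕ → DCoh.D X) (i : ∀ n, E n ⟶ K)
    (hE : ∀ n, DCoh.IsPerfect (E n))
    (hi : ∀ (n : ℕ) (j : ℤ), -(n : ℤ) ≤ j → IsIso ((homologyFunctor X.Modules j).map (i n)))
    (m : ℤ) : DCoh.IsPseudoCoherentD m K := by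
  let n : ℕ := (-m).toNat
  have hn : -(n : ℤ) ≤ m := by
    have := Int.self_le_toNat (-m)
    omega
  obtain ⟨C, u, v, hTr⟩ := distinguished_cocone_triangle (i n)
  have hC : DCoh.IsPseudoCoherentD m C := by
    refine Groth.Agent.Lead.PcLib.isPseudoCoherentD_of_isZero_HD m C (fun j hj => ?_)
    refine HP0.isZero_homology_obj₃ _ hTr j ?_ ?_
    · haveI := hi n j (by omega)
      exact inferInstanceAs (Epi ((homologyFunctor X.Modules j).map (i n)))
    · haveI := hi n (j + 1) (by omega)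
      exact inferInstanceAs (Mono ((homologyFunctor X.Modules (j + 1)).map (i n)))
  exact (Groth.Agent.Lead.PcLib.isPseudoCoherentD_triangle m _ hTr).2.1
    (TT5.isPseudoCoherentD_of_isPerfect _ (hE n) m) hC

end Conv

section Final

variable [CompactSpace X] [QuasiSeparatedSpace X] [HasColimitsOfShape (Discrete ℕ) (DCoh.D X)]

/-- the main theorem, with supports -/
theorem main (T : Set X) (hT : IsClosed T) (hTc : IsRetrocompact Tᶜ) (K : DCoh.D X)
    (hKT : ∀ i : ℤ, CohB1.support (DCoh.HD K i) ⊆ T) :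
    (∀ m : ℤ, DCoh.IsPseudoCoherentD m K) ↔
    ∃ (E : ℕ → DCoh.D X) (f : ∀ n, E n ⟶ E (n + 1)) (i : ∀ n, E n ⟶ K),
      (∀ n, DCoh.IsPerfect (E n)) ∧ (∀ (n : ℕ) (j : ℤ), CohB1.support (DCoh.HD (E n) j) ⊆ T) ∧
      DerLim.IsHocolim E f K i ∧
      ∀ n : ℕ, IsIso (((DerivedCategory.TStructure.t :
        CategoryTheory.Triangulated.TStructure (DCoh.D X)).truncGE (-(n : ℤ))).map (i n)) := by
  haveI := Groth.Agent.Helper4.SchAdj.isGrothendieckAbelian_modules X
  constructor
  · intro hpc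
    obtain ⟨E, f, i, hE, hET, hfi, hi⟩ := exists_seq T hT hTc K hpc hKT
    refine ⟨E, f, i, hE, hET, ?_, ?_⟩
    · refine HP2.isHocolim_of_eventually_iso E f K i hfi (fun q => ⟨(-q).toNat, fun n hn => ?_⟩)
      refine hi n q ?_
      have := Int.self_le_toNat (-q)
      omega
    · intro n
      exact (HP0.isIso_truncGE_map_iff (i n) (-(n : ℤ))).2 (fun j hj => hi n j hj)
  · rintro ⟨E, f, i, hE, -, -, hi⟩ m
    exact isPseudoCoherentD_of_seq K E i hE
      (fun n j hj => (HP0.isIso_truncGE_map_iff (i n) (-(n : ℤ))).1 (hi n) j hj) m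

end Final

end Groth.Agent.Helper9.HP1
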