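import Mathlib
import Groth.Prelude.Def_ModSite2
import Groth.Prelude.Def_ExtSupp
import Groth.Agent.Helper9.HZAcyc2
import Groth.Agent.Helper1.CompVanish

/-!
# `Γ_Z` is exact on short exact sequences with totally acyclic kernel; `ℋ^q_Z` and `H^q_Z`
vanish on totally acyclic modules
-/

set_option autoImplicit false
set_option linter.style.haveILetI false
set_option linter.unusedSectionVars false

namespace Groth.Agent.Helper9.HZAcyc3

open CategoryTheory Limits Opposite Abelian
  Groth.Agent.Helper9.CechNerveRes Groth.Agent.Helper9.ModCechRes Groth.Agent.Helper9.ModCechExt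
  Groth.Agent.Helper9.HZCompare1 Groth.Agent.Helper9.HZCompare2
  Groth.Agent.Helper9.HZAcyc1 Groth.Agent.Helper9.HZAcyc2

universe u

variable {C : Type u} [SmallCategory C] {J : GrothendieckTopology C} (O : Sheaf J CommRingCat.{u})
  (U : C) [ModSite.HasPushOver O U]

/-- `Γ_Z` preserves the epimorphism of a short exact sequence with totally acyclic kernel -/
theorem epi_sectOn_map (S : ShortComplex (ModSite.Mod O)) (hS : S.ShortExact)
    (hA : CohCx.IsTotallyAcyclic (ModSite.toAb S.X₁)) :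
    Epi ((ModSite.sectOn O U).map S.g) := by
  haveI : EnoughInjectives (ModSite.Mod O) := enoughInjectives_mod (R O)
  haveI : HasExt.{u} (ModSite.Mod O) := hasExt_of_enoughInjectives _
  let X := (ModSite.sectOn O U).obj S.X₃
  let Kx : Sheaf J (Type u) := Gs (R O) X
  let c : (Φm (R O)).obj Kx ⟶ X := (ModFree.adjL (R O)).counit.app X
  haveI : (ModFree.G (R O)).Faithful := by
    unfold ModFree.G
    infer_instance
  haveI : Epi c := inferInstanceAs (Epi ((ModFree.adjL (R O)).counit.app X))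
  let c' : (Φm (R O)).obj Kx ⟶ S.X₃ := c ≫ (ModSite.sectOnι O U).app S.X₃
  have hc' : (ModSite.restr O U).map c' = 0 := by
    rw [Functor.map_comp, QuotSectAdj.restr_map_sectOnι, comp_zero]
  have h1 : (Φm (R O)).map (ιU U Kx) ≫ c' = 0 := comp_eq_zero_of_restr c' hc'
  let c'' : Qm (R O) (ιU U Kx) ⟶ S.X₃ := cokernel.desc _ c' h1
  haveI := subsingleton_ext_Qm (R O) (ιU U Kx) S.X₁ hA 0
  obtain ⟨b'', hb''⟩ : ∃ b'' : Qm (R O) (ιU U Kx) ⟶ S.X₂, b'' ≫ S.g = c'' := by
    obtain ⟨x₂, hx₂⟩ := Ext.covariant_sequence_exact₃ (Qm (R O) (ιU U Kx)) hS (Ext.mk₀ c'')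
      (n₀ := 0) (n₁ := 1) rfl (Subsingleton.elim _ _)
    obtain ⟨b'', rfl⟩ := (Ext.mk₀_bijective _ _).2 x₂
    rw [Ext.mk₀_comp_mk₀] at hx₂
    exact ⟨b'', (Ext.mk₀_bijective _ _).1 hx₂⟩
  let b' : (Φm (R O)).obj Kx ⟶ S.X₂ := cokernel.π ((Φm (R O)).map (ιU U Kx)) ≫ b''
  have h2 : (Φm (R O)).map (ιU U Kx) ≫ b' = 0 := by
    show _ ≫ _ ≫ _ = 0
    rw [← Category.assoc, cokernel.condition, zero_comp]
  have h3 : (ModSite.restr O U).map b' = 0 := restr_eq_zero_of_comp b' h2
  have h4 : b' ≫ (ModSite.restrPushOverAdj O U).unit.app S.X₂ = 0 :=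
    (QuotSectAdj.comp_unit_iff O U b').2 h3
  let bt : (Φm (R O)).obj Kx ⟶ (ModSite.sectOn O U).obj S.X₂ := kernel.lift _ b' h4
  have h5 : bt ≫ (ModSite.sectOnι O U).app S.X₂ = b' := kernel.lift_ι _ _ _
  have h6 : bt ≫ (ModSite.sectOn O U).map S.g = c := by
    rw [← cancel_mono ((ModSite.sectOnι O U).app S.X₃), Category.assoc]
    have nat := (ModSite.sectOnι O U).naturality S.g
    rw [Functor.id_map] at nat
    rw [nat, ← Category.assoc, h5]
    show (_ ≫ b'') ≫ S.g = c'
    rw [Category.assoc, hb'', cokernel.π_desc]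
  exact epi_of_epi_fac h6

section Adapted

open Groth.Agent.Helper1.DeltaFun Groth.Agent.Helper1.CompVanish

universe v₁ u₁ v₂ u₂

variable {A : Type u₁} [Category.{v₁} A] [Abelian A] [EnoughInjectives A] [HasInjectiveResolutions A]
  {B : Type u₂} [Category.{v₂} B] [Abelian B]
  (G : A ⥤ B) [G.Additive] [PreservesFiniteLimits G] (P : A → Prop)
  (hI : ∀ (I : A) [Injective I], P I)
  (hcok : ∀ (S : ShortComplex A), S.ShortExact → P S.X₁ → P S.X₂ → P S.X₃)
  (hepi : ∀ (S : ShortComplex A), S.ShortExact → P S.X₁ → Epi (G.map S.g))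

include hI hcok hepi

/-- a class of objects containing the injectives, stable under cokernels of monomorphisms, on
which `G` is exact, consists of `G`-acyclic objects -/
theorem isZero_rightDerived_of_adapted (n : ℕ) :
    ∀ (M : A), P M → IsZero ((G.rightDerived (n + 1)).obj M) := by
  induction n with
  | zero =>
    intro M hM
    haveI : Epi (G.map (E M).g) := hepi (E M) (hE M) hM
    have hepi' : Epi ((G.rightDerived 0).map (E M).g) := by
      have hnat := G.rightDerivedZeroIsoSelf.hom.naturality (E M).g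
      exact epi_of_iso_nat ((G.rightDerived 0).map (E M).g) (G.map (E M).g)
        (G.rightDerivedZeroIsoSelf.app (E M).X₂) (G.rightDerivedZeroIsoSelf.app (E M).X₃) hnat
    have hδ : (rightDerivedDelta G).δ (E M) (hE M) 0 = 0 := by
      have w := (rightDerivedDelta G).w₃ (E M) (hE M) 0
      exact (cancel_epi ((G.rightDerived 0).map (E M).g)).1 (w.trans comp_zero.symm)
    have hex1 := (rightDerivedDelta G).exact₁ (E M) (hE M) 0
    exact hex1.isZero_of_both_zeros hδ
      ((Functor.isZero_rightDerived_obj_injective_succ G 0 (E M).X₂).eq_of_tgt _ _)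
  | succ n ih =>
    intro M hM
    have hQ : P (E M).X₃ := hcok (E M) (hE M) hM (hI _)
    have h1 := ih (E M).X₃ hQ
    have hex1 := (rightDerivedDelta G).exact₁ (E M) (hE M) (n + 1)
    exact hex1.isZero_of_both_isZero h1
      (Functor.isZero_rightDerived_obj_injective_succ G (n + 1) (E M).X₂)

end Adapted

section TotAcyc

/-- cokernels of monomorphisms of modules with totally acyclic underlying sheaves -/
theorem totallyAcyclic_X₃ (S : ShortComplex (ModSite.Mod O)) (hS : S.ShortExact)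
    (h₁ : CohCx.IsTotallyAcyclic (ModSite.toAb S.X₁))
    (h₂ : CohCx.IsTotallyAcyclic (ModSite.toAb S.X₂)) :
    CohCx.IsTotallyAcyclic (ModSite.toAb S.X₃) := by
  intro K p
  have hS' : (S.map (SheafOfModules.toSheaf (R O))).ShortExact := hS.map_of_exact _
  refine subsingleton_of_forall_eq 0 (fun (x₃ : Ext.{u} ((Φ J).obj K)
    (S.map (SheafOfModules.toSheaf (R O))).X₃ (p + 1)) => ?_)
  obtain ⟨x₂, hx₂⟩ := Ext.covariant_sequence_exact₃ ((Φ J).obj K) hS' x₃
    (n₁ := p + 1 + 1) rfl ((h₁ K (p + 1)).elim _ _)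
  have hx0 : x₂ = 0 := (h₂ K p).elim x₂ 0
  rw [← hx₂, hx0, Ext.zero_comp]
  rfl

variable [HasInjectiveResolutions (ModSite.Mod O)]

/-- `ℋ^{q+1}_Z(M) = 0` for `M` with totally acyclic underlying abelian sheaf -/
theorem isZero_HZsh (M : ModSite.Mod O) (hM : CohCx.IsTotallyAcyclic (ModSite.toAb M)) (q : ℕ) :
    IsZero ((ModSite.HZsh O U (q + 1)).obj M) := by
  haveI : EnoughInjectives (ModSite.Mod O) := enoughInjectives_mod (R O)
  haveI : (ModSite.sectOn O U).IsRightAdjoint := (QuotSectAdj.adj O U).isRightAdjoint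
  haveI : PreservesFiniteLimits (ModSite.sectOn O U) := inferInstance
  exact isZero_rightDerived_of_adapted (ModSite.sectOn O U)
    (fun X : ModSite.Mod O => CohCx.IsTotallyAcyclic (ModSite.toAb X))
    (fun I _ => totallyAcyclic_of_injective_mod (R O) I)
    (fun S hS h₁ h₂ => totallyAcyclic_X₃ O S hS h₁ h₂)
    (fun S hS h₁ => epi_sectOn_map O U S hS h₁) q M hM

end TotAcyc

/-- `H^{q+1}_Z(M) = 0` for `M` with totally acyclic underlying abelian sheaf -/
theorem subsingleton_HZ (U : C) (M : ModSite.Mod O)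
    (hM : CohCx.IsTotallyAcyclic (ModSite.toAb M)) (q : ℕ) :
    Subsingleton (ModSite.HZ U M (q + 1)) :=
  HZAcyc1.subsingleton_ext_Qz (terminal.from (ToposFin.eps J U)) (ModSite.toAb M) hM q

end Groth.Agent.Helper9.HZAcyc3
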