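import Mathlib
import Groth.Prelude.Def_LocCohZ
import Groth.Agent.Helper9.ExtObjDelta
import Groth.Agent.Helper9.GammaZExt
import Groth.Agent.Helper9.TopShriek
import Groth.Agent.Helper1.DeltaHom
import Groth.Agent.Helper1.DeltaComp
import Groth.Agent.Helper1.CohTopFun

set_option autoImplicit false

/-!
# Excision: `H^i_Z(X, F) ≅ H^i_Z(V, F|_V)` naturally in `F`, for `Z = V ∖ W`
-/

namespace Groth.Agent.Helper9.HZExcision

open CategoryTheory TopologicalSpace Opposite Limits Abelian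
open Groth.Agent.Helper9.GammaZExt Groth.Agent.Helper1.CohTopFun Groth.Agent.Helper1.DeltaFun

universe u

variable {X : TopCat.{u}} {W V : Opens X}

/-- the trace of `W` on `V` -/
abbrev WV (W V : Opens X) : Opens (TopCat.of V) := (Opens.map (CohCx.incl V)).obj W

/-- the pair `W_V ≤ ⊤` on `V` -/
abbrev hV (W V : Opens X) : WV W V ≤ ⊤ := le_top

lemma jObj_top_le (V : Opens X) : jObj V ⊤ ≤ V := jObj_le V ⊤

lemma le_jObj_top (V : Opens X) : V ≤ jObj V ⊤ := fun x hx => ⟨⟨x, hx⟩, trivial, rfl⟩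

lemma jObj_WV_le (W V : Opens X) : jObj V (WV W V) ≤ W := by
  rintro _ ⟨y, hy, rfl⟩
  exact hy

lemma le_jObj_WV (h : W ≤ V) : W ≤ jObj V (WV W V) := fun x hx => ⟨⟨x, h hx⟩, hx, rfl⟩

lemma jObj_WV_le_top (W V : Opens X) : jObj V (WV W V) ≤ jObj V ⊤ :=
  (V.isOpenEmbedding.isOpenMap.functor.map (homOfLE (hV W V))).le

lemma Fres_comp (F : CohTop.Ab X) {A B C : Opens X} (h1 : B ≤ A) (h2 : C ≤ B)
    (s : ToType (F.obj.obj (op A))) :
    F.obj.map (homOfLE h2).op (F.obj.map (homOfLE h1).op s) =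
      F.obj.map (homOfLE (h2.trans h1)).op s := by
  rw [← ConcreteCategory.comp_apply, ← F.obj.map_comp]
  rfl

lemma Fres_self (F : CohTop.Ab X) {A : Opens X} (h1 : A ≤ A) (s : ToType (F.obj.obj (op A))) :
    F.obj.map (homOfLE h1).op s = s := by
  have : (homOfLE h1).op = 𝟙 (op A) := Subsingleton.elim _ _
  rw [this, F.obj.map_id]
  rfl

lemma key1 (h : W ≤ V) (F : CohTop.Ab X) (s : ToType (F.obj.obj (op V)))
    (hs : F.obj.map (homOfLE h).op s = 0) :
    F.obj.map (homOfLE (jObj_WV_le_top W V)).op (F.obj.map (homOfLE (jObj_top_le V)).op s) = 0 := by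
  rw [Fres_comp]
  have : F.obj.map (homOfLE ((jObj_WV_le_top W V).trans (jObj_top_le V))).op s =
      F.obj.map (homOfLE (jObj_WV_le W V)).op (F.obj.map (homOfLE h).op s) := by
    rw [Fres_comp]
  rw [this, hs, map_zero]

lemma key2 (h : W ≤ V) (F : CohTop.Ab X) (s : ToType (F.obj.obj (op (jObj V ⊤))))
    (hs : F.obj.map (homOfLE (jObj_WV_le_top W V)).op s = 0) :
    F.obj.map (homOfLE h).op (F.obj.map (homOfLE (le_jObj_top V)).op s) = 0 := by
  rw [Fres_comp]
  have : F.obj.map (homOfLE (h.trans (le_jObj_top V))).op s =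
      F.obj.map (homOfLE (le_jObj_WV h)).op (F.obj.map (homOfLE (jObj_WV_le_top W V)).op s) := by
    rw [Fres_comp]
  rw [this, hs, map_zero]

/-- sections of `F` over `V` vanishing on `W` are the global sections of `F|_V` vanishing on
`W ∩ V` -/
noncomputable def rHom (h : W ≤ V) (F : CohTop.Ab X) :
    LocCohZ.sectZ F h →+ LocCohZ.sectZ ((CohTop.restrFunctor V).obj F) (hV W V) where
  toFun := fun s => ⟨F.obj.map (homOfLE (jObj_top_le V)).op s.1, key1 h F s.1 s.2⟩
  map_zero' := by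
    apply Subtype.ext
    exact map_zero (F.obj.map (homOfLE (jObj_top_le V)).op).hom
  map_add' := fun a b => by
    apply Subtype.ext
    exact map_add (F.obj.map (homOfLE (jObj_top_le V)).op).hom a.1 b.1

lemma rHom_apply (h : W ≤ V) (F : CohTop.Ab X) (s : LocCohZ.sectZ F h) :
    (rHom h F s).1 = F.obj.map (homOfLE (jObj_top_le V)).op s.1 := rfl

lemma rHom_bijective (h : W ≤ V) (F : CohTop.Ab X) : Function.Bijective (rHom h F) := by
  constructor
  · intro a b hab
    apply Subtype.ext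
    have h1 : F.obj.map (homOfLE (jObj_top_le V)).op a.1 =
        F.obj.map (homOfLE (jObj_top_le V)).op b.1 := congrArg Subtype.val hab
    have h2 := congrArg (F.obj.map (homOfLE (le_jObj_top V)).op) h1
    rw [Fres_comp, Fres_comp, Fres_self, Fres_self] at h2
    exact h2
  · intro s
    let s' : ToType (F.obj.obj (op (jObj V ⊤))) := s.1
    have hs : F.obj.map (homOfLE (jObj_WV_le_top W V)).op s' = 0 := s.2
    refine ⟨⟨F.obj.map (homOfLE (le_jObj_top V)).op s', key2 h F s' hs⟩, ?_⟩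
    apply Subtype.ext
    have : F.obj.map (homOfLE (jObj_top_le V)).op (F.obj.map (homOfLE (le_jObj_top V)).op s') =
        s' := by
      rw [Fres_comp, Fres_self]
    exact this

/-- the degree zero comparison -/
noncomputable def rEquiv (h : W ≤ V) (F : CohTop.Ab X) :
    LocCohZ.sectZ F h ≃+ LocCohZ.sectZ ((CohTop.restrFunctor V).obj F) (hV W V) :=
  AddEquiv.ofBijective (rHom h F) (rHom_bijective h F)

lemma rEquiv_apply (h : W ≤ V) (F : CohTop.Ab X) (s : LocCohZ.sectZ F h) :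
    (rEquiv h F s).1 = F.obj.map (homOfLE (jObj_top_le V)).op s.1 := rfl

/-- the comparison in degree zero -/
noncomputable def e0Equiv (h : W ≤ V) (F : CohTop.Ab X) :
    LocCohZ.HZ F 0 h ≃+ LocCohZ.HZ ((CohTop.restrFunctor V).obj F) 0 (hV W V) :=
  ((LocCohZ.sect0Equiv F h).trans (rEquiv h F)).trans
    (LocCohZ.sect0Equiv ((CohTop.restrFunctor V).obj F) (hV W V)).symm

lemma e0Equiv_naturality (h : W ≤ V) {F G : CohTop.Ab X} (φ : F ⟶ G) (x : LocCohZ.HZ F 0 h) :
    e0Equiv h G (LocCohZ.map φ 0 h x) =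
      LocCohZ.map ((CohTop.restrFunctor V).map φ) 0 (hV W V) (e0Equiv h F x) := by
  apply (LocCohZ.sect0Equiv ((CohTop.restrFunctor V).obj G) (hV W V)).injective
  apply Subtype.ext
  rw [sect0Equiv_naturality]
  show (LocCohZ.sect0Equiv ((CohTop.restrFunctor V).obj G) (hV W V)
      ((LocCohZ.sect0Equiv ((CohTop.restrFunctor V).obj G) (hV W V)).symm _)).1 =
    ((CohTop.restrFunctor V).map φ).hom.app (op ⊤)
      (LocCohZ.sect0Equiv ((CohTop.restrFunctor V).obj F) (hV W V)
        ((LocCohZ.sect0Equiv ((CohTop.restrFunctor V).obj F) (hV W V)).symm _)).1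
  rw [AddEquiv.apply_symm_apply, AddEquiv.apply_symm_apply]
  show (rEquiv h G (LocCohZ.sect0Equiv G h (LocCohZ.map φ 0 h x))).1 =
    φ.hom.app (op (jObj V ⊤)) (rEquiv h F (LocCohZ.sect0Equiv F h x)).1
  rw [rEquiv_apply, rEquiv_apply, sect0Equiv_naturality]
  exact (ConcreteCategory.congr_hom (φ.hom.naturality (homOfLE (jObj_top_le V)).op) _).symm

/-- the δ-functor `F ↦ Ext^•(ℤ_V/ℤ_W, F)` -/
noncomputable abbrev T1 (h : W ≤ V) : DeltaFunctor (CohTop.Ab X) AddCommGrpCat.{u} :=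
  Groth.Agent.Helper9.ExtObjDelta.delta.{u} (LocCohZ.zq h)

lemma restr_shortExact (V : Opens X) (S : ShortComplex (CohTop.Ab X)) (hS : S.ShortExact) :
    (S.map (CohTop.restrFunctor V)).ShortExact := by
  have : PreservesLimitsOfSize.{u, u} (CohTop.restrFunctor V) :=
    (Groth.Agent.Helper9.TopShriek.jadj V).rightAdjoint_preservesLimits
  have : PreservesFiniteLimits (CohTop.restrFunctor V) :=
    PreservesLimitsOfSize.preservesFiniteLimits.{u, u} _
  exact shortExact_map_of_exact (CohTop.restrFunctor V) S hS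

/-- the δ-functor `F ↦ Ext^•(ℤ_V/ℤ_{W ∩ V}, F|_V)` (computed on `V`) -/
noncomputable abbrev T2 (W V : Opens X) : DeltaFunctor (CohTop.Ab X) AddCommGrpCat.{u} :=
  (Groth.Agent.Helper9.ExtObjDelta.delta.{u} (LocCohZ.zq (hV W V))).precomp
    (CohTop.restrFunctor V) (restr_shortExact V)

lemma T1_effaceable (h : W ≤ V) : (T1 h).Effaceable :=
  Groth.Agent.Helper9.ExtObjDelta.delta_effaceable _

lemma T2_effaceable (W V : Opens X) : (T2 W V).Effaceable := by
  intro I _ n
  haveI := Groth.Agent.Helper9.TopShriek.injective_restr V I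
  exact Groth.Agent.Helper9.ExtObjDelta.delta_effaceable.{u} (LocCohZ.zq (hV W V))
    ((CohTop.restrFunctor V).obj I) n

/-- the degree zero isomorphism of functors -/
noncomputable def θ (h : W ≤ V) : (T1 h).T 0 ≅ (T2 W V).T 0 :=
  NatIso.ofComponents (fun F => (e0Equiv h F).toAddCommGrpIso) (by
    intro F G φ
    apply AddCommGrpCat.hom_ext
    apply AddMonoidHom.ext
    intro (x : LocCohZ.HZ F 0 h)
    exact e0Equiv_naturality h φ x)

/-- the isomorphisms in all degrees -/
noncomputable def isoAll (h : W ≤ V) (i : ℕ) :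
    Groth.Agent.Helper9.ExtObjDelta.T.{u} (LocCohZ.zq h) i ≅
      CohTop.restrFunctor V ⋙ Groth.Agent.Helper9.ExtObjDelta.T.{u} (LocCohZ.zq (hV W V)) i :=
  isoOfEffaceable (T1_effaceable h) (T2_effaceable W V) (θ h) i

/-- the components -/
noncomputable def eF (h : W ≤ V) (i : ℕ) (F : CohTop.Ab X) :
    LocCohZ.HZ F i h ≃+ LocCohZ.HZ ((CohTop.restrFunctor V).obj F) i (hV W V) :=
  ((isoAll h i).app F).addCommGroupIsoToAddEquiv

lemma eF_apply (h : W ≤ V) (i : ℕ) (F : CohTop.Ab X) (x : LocCohZ.HZ F i h) :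
    eF h i F x = ((isoAll h i).hom.app F).hom x := rfl

lemma eF_naturality (h : W ≤ V) (i : ℕ) {F G : CohTop.Ab X} (φ : F ⟶ G) (x : LocCohZ.HZ F i h) :
    eF h i G (LocCohZ.map φ i h x) =
      LocCohZ.map ((CohTop.restrFunctor V).map φ) i (hV W V) (eF h i F x) := by
  have h1 := (isoAll h i).hom.naturality φ
  have h2 := ConcreteCategory.congr_hom h1 x
  exact h2

theorem main (h : W ≤ V) (i : ℕ) :
    ∃ e : ∀ F : CohTop.Ab X,
        LocCohZ.HZ F i h ≃+ LocCohZ.HZc (CohTop.restr F V) i ((Opens.map (CohCx.incl V)).obj W),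
      ∀ (F G : CohTop.Ab X) (φ : F ⟶ G) (x : LocCohZ.HZ F i h),
        e G (LocCohZ.map φ i h x) =
          LocCohZ.map ((CohTop.restrFunctor V).map φ) i
            (le_top : (Opens.map (CohCx.incl V)).obj W ≤ ⊤) (e F x) :=
  ⟨fun F => eF h i F, fun F G φ x => eF_naturality h i φ x⟩

end Groth.Agent.Helper9.HZExcision
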