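import Mathlib
import Groth.Prelude.Def_ModSite2
import Groth.Prelude.Def_ExtSupp
import Groth.Agent.Helper9.HZAcyc3
import Groth.Agent.S6160
import Groth.Agent.Helper1.DeltaComp

/-!
# `Γ_Z` and `ℋ^q_Z` commute with restriction of scalars
-/

set_option autoImplicit false
set_option linter.style.haveILetI false
set_option linter.unusedSectionVars false

namespace Groth.Agent.Helper9.HZRestr1

open CategoryTheory Limits Opposite Abelian
  Groth.Agent.Helper9.CechNerveRes Groth.Agent.Helper9.ModCechRes Groth.Agent.Helper9.ModCechExt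
  Groth.Agent.Helper9.HZCompare1 Groth.Agent.Helper9.HZCompare2
  Groth.Agent.Helper9.HZAcyc1 Groth.Agent.Helper9.HZAcyc2 Groth.Agent.Helper9.HZAcyc3
  Groth.Agent.Helper9.TensorSh

universe u

variable {C : Type u} [SmallCategory C] {J : GrothendieckTopology C}
  {O O' : Sheaf J CommRingCat.{u}} (φ : O ⟶ O') (U : C)

/-- the morphism of sheaves of rings -/
abbrev ψ : R O ⟶ R O' := (sheafCompose J (forget₂ CommRingCat.{u} RingCat.{u})).map φ

/-- restriction of scalars -/
noncomputable abbrev ρ : ModSite.Mod O' ⥤ ModSite.Mod O := SheafOfModules.restrictScalars (ψ φ)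

/-- restriction of scalars does not change the underlying presheaf of sets -/
noncomputable def eG : ρ φ ⋙ ModFree.G (R O) ≅ ModFree.G (R O') := Iso.refl _

lemma restr_map_ρ_eq_zero {F₁ F₂ : ModSite.Mod O'} (h : F₁ ⟶ F₂)
    (h0 : (ModSite.restr O' U).map h = 0) : (ModSite.restr O U).map ((ρ φ).map h) = 0 :=
  restr_eq_zero_of_app ((ρ φ).map h) (fun {V} a x => app_eq_zero_of_restr h h0 a x)

section L

variable [ModSite.HasPushOver O U] [ModSite.HasPushOver O' U]
  {F : ModSite.Mod O'} {X : ModSite.Mod O} (m : X ⟶ (ρ φ).obj F)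

theorem exists_epi_fac (hm : (ModSite.restr O U).map m = 0) :
    ∃ (P : ModSite.Mod O) (c : P ⟶ X) (_ : Epi c)
      (n : P ⟶ (ρ φ).obj ((ModSite.sectOn O' U).obj F)),
      n ≫ (ρ φ).map ((ModSite.sectOnι O' U).app F) = c ≫ m := by
  let K : Sheaf J (Type u) := Gs (R O) X
  let c : (Φm (R O)).obj K ⟶ X := (ModFree.adjL (R O)).counit.app X
  haveI : (ModFree.G (R O)).Faithful := by
    unfold ModFree.G
    infer_instance
  haveI : Epi c := inferInstanceAs (Epi ((ModFree.adjL (R O)).counit.app X))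
  let c' : (Φm (R O)).obj K ⟶ (ρ φ).obj F := c ≫ m
  have hc' : (ModSite.restr O U).map c' = 0 := by
    rw [Functor.map_comp, hm, comp_zero]
  let k : K.obj ⟶ (ModFree.G (R O)).obj ((ρ φ).obj F) := adjt c'
  let k' : K.obj ⟶ (ModFree.G (R O')).obj F := k ≫ (eG φ).hom.app F
  let h' : (Φm (R O')).obj K ⟶ F := ((ModFree.adjL (R O')).homEquiv K.obj F).symm k'
  have hk' : (ModFree.adjL (R O')).homEquiv K.obj F h' = k' := Equiv.apply_symm_apply _ _
  have h1 : (Φm (R O')).map (ιU U K) ≫ h' = 0 := by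
    apply ((ModFree.adjL (R O')).homEquiv _ _).injective
    refine ((ModFree.adjL (R O')).homEquiv_naturality_left (ιU U K).hom h').trans ?_
    rw [hk']
    ext W x
    exact (adjt_ιU_eq_zero c' hc' W x).trans (homEquiv_zero_app O' W x).symm
  have h2 : (ModSite.restr O' U).map h' = 0 := restr_eq_zero_of_comp h' h1
  have h3 : h' ≫ (ModSite.restrPushOverAdj O' U).unit.app F = 0 :=
    (QuotSectAdj.comp_unit_iff O' U h').2 h2
  let h'' : (Φm (R O')).obj K ⟶ (ModSite.sectOn O' U).obj F := kernel.lift _ h' h3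
  have h4 : h'' ≫ (ModSite.sectOnι O' U).app F = h' := kernel.lift_ι _ _ _
  let u' : K.obj ⟶ (ModFree.G (R O')).obj ((Φm (R O')).obj K) :=
    (ModFree.adjL (R O')).unit.app K.obj
  let θ : (Φm (R O)).obj K ⟶ (ρ φ).obj ((Φm (R O')).obj K) :=
    ((ModFree.adjL (R O)).homEquiv K.obj _).symm (u' ≫ (eG φ).inv.app _)
  refine ⟨_, c, inferInstance, θ ≫ (ρ φ).map h'', ?_⟩
  rw [Category.assoc, ← Functor.map_comp, h4]
  apply ((ModFree.adjL (R O)).homEquiv _ _).injective
  have hθ : (ModFree.adjL (R O)).homEquiv K.obj _ θ = u' ≫ (eG φ).inv.app _ :=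
    Equiv.apply_symm_apply _ _
  refine ((ModFree.adjL (R O)).homEquiv_naturality_right θ ((ρ φ).map h')).trans ?_
  refine (congrArg (fun t => t ≫ (ModFree.G (R O)).map ((ρ φ).map h')) hθ).trans ?_
  show _ = k
  have nat := (eG φ).inv.naturality h'
  have e1 : u' ≫ (ModFree.G (R O')).map h' = k' :=
    ((ModFree.adjL (R O')).homEquiv_unit K.obj F h').symm.trans hk'
  calc (u' ≫ (eG φ).inv.app _) ≫ (ModFree.G (R O)).map ((ρ φ).map h')
      = u' ≫ ((ModFree.G (R O')).map h' ≫ (eG φ).inv.app F) := by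
        rw [Category.assoc, nat]
        rfl
    _ = k' ≫ (eG φ).inv.app F := by rw [← Category.assoc, e1]
    _ = k := by
        show (k ≫ (eG φ).hom.app F) ≫ (eG φ).inv.app F = k
        rw [Category.assoc, Iso.hom_inv_id_app]
        exact Category.comp_id k

end L

section Deg0

variable [ModSite.HasPushOver O U] [ModSite.HasPushOver O' U]

instance : PreservesLimitsOfSize.{u, u} (ρ φ) := (Groth.Agent.S6160.result (ψ φ)).1

instance : PreservesColimitsOfSize.{u, u} (ρ φ) := (Groth.Agent.S6160.result (ψ φ)).2.1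

instance : PreservesFiniteLimits (ρ φ) := PreservesLimitsOfSize.preservesFiniteLimits _

instance : PreservesFiniteColimits (ρ φ) := PreservesColimitsOfSize.preservesFiniteColimits _

instance : (ρ φ).Additive := Functor.additive_of_preserves_binary_products _

/-- the comparison `(Γ_Z F)_O ⟶ Γ_Z (F_O)` -/
noncomputable def α (F : ModSite.Mod O') :
    (ρ φ).obj ((ModSite.sectOn O' U).obj F) ⟶ (ModSite.sectOn O U).obj ((ρ φ).obj F) :=
  kernel.lift _ ((ρ φ).map ((ModSite.sectOnι O' U).app F))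
    ((QuotSectAdj.comp_unit_iff O U _).2
      (restr_map_ρ_eq_zero φ U _ (QuotSectAdj.restr_map_sectOnι O' U F)))

lemma α_ι (F : ModSite.Mod O') :
    α φ U F ≫ (ModSite.sectOnι O U).app ((ρ φ).obj F) =
      (ρ φ).map ((ModSite.sectOnι O' U).app F) :=
  kernel.lift_ι _ _ _

instance (F : ModSite.Mod O') : Mono (α φ U F) := by
  haveI : Mono ((ρ φ).map ((ModSite.sectOnι O' U).app F)) := inferInstance
  haveI : Mono (α φ U F ≫ (ModSite.sectOnι O U).app ((ρ φ).obj F)) := by
    rw [α_ι]
    infer_instance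
  exact mono_of_mono _ ((ModSite.sectOnι O U).app ((ρ φ).obj F))

instance (F : ModSite.Mod O') : Epi (α φ U F) := by
  obtain ⟨P, c, hc, n, hn⟩ := exists_epi_fac φ U ((ModSite.sectOnι O U).app ((ρ φ).obj F))
    (QuotSectAdj.restr_map_sectOnι O U _)
  have h : n ≫ α φ U F = c := by
    rw [← cancel_mono ((ModSite.sectOnι O U).app ((ρ φ).obj F)), Category.assoc, α_ι, hn]
  exact epi_of_epi_fac h

instance (F : ModSite.Mod O') : IsIso (α φ U F) := isIso_of_mono_of_epi _

/-- `Γ_Z` commutes with restriction of scalars -/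
noncomputable def e₀ : ModSite.sectOn O' U ⋙ ρ φ ≅ ρ φ ⋙ ModSite.sectOn O U :=
  NatIso.ofComponents (fun F => asIso (α φ U F)) (by
    intro F F' f
    rw [← cancel_mono ((ModSite.sectOnι O U).app ((ρ φ).obj F'))]
    have nat := (ModSite.sectOnι O U).naturality ((ρ φ).map f)
    have nat' := (ModSite.sectOnι O' U).naturality f
    rw [Functor.id_map] at nat nat'
    simp only [Category.assoc, asIso_hom, Functor.comp_map]
    rw [α_ι, nat, ← Category.assoc, α_ι, ← Functor.map_comp, ← Functor.map_comp, nat'])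

end Deg0

section Main

open Groth.Agent.Helper1.DeltaFun

variable [ModSite.HasPushOver O U] [ModSite.HasPushOver O' U]
  [HasInjectiveResolutions (ModSite.Mod O)] [HasInjectiveResolutions (ModSite.Mod O')]

/-- `ℋ^q_Z` commutes with restriction of scalars -/
theorem main (q : ℕ) :
    Nonempty (ModSite.HZsh O' U q ⋙ ρ φ ≅ ρ φ ⋙ ModSite.HZsh O U q) := by
  haveI : EnoughInjectives (ModSite.Mod O') := enoughInjectives_mod (R O')
  haveI : EnoughInjectives (ModSite.Mod O) := enoughInjectives_mod (R O)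
  haveI : (ModSite.sectOn O U).IsRightAdjoint := (QuotSectAdj.adj O U).isRightAdjoint
  haveI : PreservesFiniteLimits (ModSite.sectOn O U) := inferInstance
  haveI : (ModSite.sectOn O' U).IsRightAdjoint := (QuotSectAdj.adj O' U).isRightAdjoint
  haveI : PreservesFiniteLimits (ModSite.sectOn O' U) := inferInstance
  let T₁ : DeltaFunctor (ModSite.Mod O') (ModSite.Mod O) :=
    (rightDerivedDelta (ModSite.sectOn O' U)).postcomp (ρ φ)
  let T₂ : DeltaFunctor (ModSite.Mod O') (ModSite.Mod O) :=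
    (rightDerivedDelta (ModSite.sectOn O U)).precomp (ρ φ) (fun S hS => hS.map_of_exact _)
  have hT₁ : T₁.Effaceable := fun I _ n =>
    (ρ φ).map_isZero (Functor.isZero_rightDerived_obj_injective_succ _ n I)
  have hT₂ : T₂.Effaceable := fun I _ n =>
    isZero_HZsh O U ((ρ φ).obj I) (totallyAcyclic_of_injective_mod (R O') I) n
  have e0 : T₁.T 0 ≅ T₂.T 0 :=
    Functor.isoWhiskerRight (ModSite.sectOn O' U).rightDerivedZeroIsoSelf (ρ φ) ≪≫ e₀ φ U ≪≫
      Functor.isoWhiskerLeft (ρ φ) (ModSite.sectOn O U).rightDerivedZeroIsoSelf.symm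
  exact nonempty_iso_of_effaceable T₁ T₂ hT₁ hT₂ e0 q

end Main

end Groth.Agent.Helper9.HZRestr1
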