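import Mathlib
import Groth.Prelude.Def_LocCohZ
import Groth.Agent.Helper9.ClosedAdj

set_option autoImplicit false

/-!
# `Γ_Z` is left exact
-/

namespace Groth.Agent.Helper9.SectSuppExact

open CategoryTheory TopologicalSpace Opposite Limits
open Groth.Agent.Helper9.ClosedAdj

universe u

variable {X : TopCat.{u}} (U : Opens X)

/-- `Γ_Z ≅ i_* i⁻¹ Γ_Z` -/
noncomputable def sectSuppIso :
    LocCohZ.sectSuppF U ≅
      (LocCohZ.sectSuppF U ⋙ CohTop.pull (CohCx.inclCompl U)) ⋙ CohTop.push (CohCx.inclCompl U) :=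
  NatIso.ofComponents
    (fun F => @asIso _ _ _ _ ((adjI U).unit.app ((LocCohZ.sectSuppF U).obj F))
      (isIso_unit_sectSupp U F))
    (fun {F G} φ => ((adjI U).unit.naturality ((LocCohZ.sectSuppF U).map φ)))

instance : PreservesLimitsOfSize.{u, u} (LocCohZ.sectSuppF U) := by
  have : PreservesLimitsOfSize.{u, u}
      (LocCohZ.sectSuppF U ⋙ CohTop.pull (CohCx.inclCompl U)) :=
    (pushAdj U).rightAdjoint_preservesLimits
  have : PreservesLimitsOfSize.{u, u} (CohTop.push (CohCx.inclCompl U)) :=
    (adjI U).rightAdjoint_preservesLimits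
  exact preservesLimits_of_natIso (sectSuppIso U).symm

instance : PreservesFiniteLimits (LocCohZ.sectSuppF U) :=
  PreservesLimitsOfSize.preservesFiniteLimits.{u, u} _

end Groth.Agent.Helper9.SectSuppExact
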