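import Mathlib
import Groth.Agent.Helper1.DeltaHom
import Groth.Agent.Helper1.DeltaComp
import Groth.Agent.Helper9.ExtPshDelta

/-! Right derived functors of an endofunctor `Γ` of abelian sheaves whose presheaf of sections is
`V ↦ Hom(G V, -)`: `RⁿΓ` is the sheafification of `V ↦ Extⁿ(G V, -)`. -/

set_option autoImplicit false
universe u

open CategoryTheory CategoryTheory.Limits Opposite Abelian

namespace Groth.Agent.Helper9.ShExtPsh

open Groth.Agent.Helper1.DeltaFun Groth.Agent.Helper1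

variable {C : Type u} [SmallCategory C] (J : GrothendieckTopology C)
  (G : C ⥤ Sheaf J AddCommGrpCat.{u})

/-- sheafified `Ext` presheaves as a δ-functor -/
noncomputable def shDelta : DeltaFunctor (Sheaf J AddCommGrpCat.{u}) (Sheaf J AddCommGrpCat.{u}) :=
  (Groth.Agent.Helper9.ExtPshDelta.delta.{u} G).postcomp (presheafToSheaf J AddCommGrpCat.{u})

lemma shDelta_T (n : ℕ) :
    (shDelta J G).T n =
      Groth.Agent.Helper9.ExtPshDelta.T.{u} G n ⋙ presheafToSheaf J AddCommGrpCat.{u} := rfl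

lemma shDelta_effaceable : (shDelta J G).Effaceable :=
  fun I _ n => Functor.map_isZero (presheafToSheaf J AddCommGrpCat.{u})
    (Groth.Agent.Helper9.ExtPshDelta.delta_effaceable.{u} G I n)

variable (Γ : Sheaf J AddCommGrpCat.{u} ⥤ Sheaf J AddCommGrpCat.{u}) [Γ.Additive]
  [PreservesFiniteLimits Γ]
  (e : Groth.Agent.Helper9.ExtPshDelta.T.{u} G 0 ≅ Γ ⋙ sheafToPresheaf J AddCommGrpCat.{u})

/-- the degree-zero comparison -/
noncomputable def iso₀ : (shDelta J G).T 0 ≅ (rightDerivedDelta Γ).T 0 :=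
  Functor.isoWhiskerRight e (presheafToSheaf J AddCommGrpCat.{u}) ≪≫
    Functor.associator _ _ _ ≪≫
    Functor.isoWhiskerLeft Γ (asIso (sheafificationAdjunction J AddCommGrpCat.{u}).counit) ≪≫
    Γ.rightUnitor ≪≫ Γ.rightDerivedZeroIsoSelf.symm

/-- `RⁿΓ ≅ a(V ↦ Extⁿ(G V, -))` -/
noncomputable def iso (n : ℕ) :
    Γ.rightDerived n ≅
      Groth.Agent.Helper9.ExtPshDelta.T.{u} G n ⋙ presheafToSheaf J AddCommGrpCat.{u} :=
  (isoOfEffaceable (shDelta_effaceable J G) (rightDerivedDelta_effaceable Γ) (iso₀ J G Γ e) n).symm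

end Groth.Agent.Helper9.ShExtPsh
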