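import Mathlib
import Groth.Prelude.Def_LocCohZ
import Groth.Prelude.Def_SuppFam
import Groth.Agent.Helper9.GammaZSect
import Groth.Agent.Helper9.GammaZExt
import Groth.Agent.Helper9.SectSuppExact
import Groth.Agent.Helper9.ShExtPsh

set_option autoImplicit false

/-!
# The local cohomology sheaves `ℋ^q_Z(F)` are the sheafification of `V ↦ H^q_{Z∩V}(V, F)`
-/

namespace Groth.Agent.Helper9.HZshPsh

open CategoryTheory TopologicalSpace Opposite Limits Abelian
open Groth.Agent.Helper9.GammaZSect Groth.Agent.Helper9.GammaZExt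

universe u

variable {X : TopCat.{u}}

/-- `V' ↦ ℤ_{V ⊓ V'}/ℤ_{W ⊓ V'}` -/
noncomputable def G {W V : Opens X} (h : W ≤ V) : Opens X ⥤ CohTop.Ab X where
  obj V' := LocCohZ.zq (inf_le_inf_right V' h : W ⊓ V' ≤ V ⊓ V')
  map {V'' V'} g := LocCohZ.zqMap (inf_le_inf_right V' h) (inf_le_inf_right V'' h)
    (inf_le_inf_left W (leOfHom g)) (inf_le_inf_left V (leOfHom g))
  map_id V' := SuppFam.zqMap_id _
  map_comp g g' := (SuppFam.zqMap_comp _ _ _ _ _ _ _).symm

/-- naturality of `sect0Equiv` in the pair -/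
lemma sect0Equiv_res (F : CohTop.Ab X) {W V W' V' : Opens X} (h : W ≤ V) (h' : W' ≤ V')
    (hW : W' ≤ W) (hV : V' ≤ V) (x : LocCohZ.HZ F 0 h) :
    (LocCohZ.sect0Equiv F h' (LocCohZ.resZ F 0 h h' hW hV x)).1 =
      F.obj.map (homOfLE hV).op (LocCohZ.sect0Equiv F h x).1 := by
  obtain ⟨a, rfl⟩ := (Ext.mk₀_bijective _ _).2 x
  show CohFree.evalGen (Opens.grothendieckTopology X) V' F
      (cokernel.π _ ≫ Ext.addEquiv₀ ((Ext.mk₀ (LocCohZ.zqMap h h' hW hV)).comp (Ext.mk₀ a)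
        (zero_add 0))) =
    F.obj.map (homOfLE hV).op (CohFree.evalGen (Opens.grothendieckTopology X) V F
      (cokernel.π _ ≫ Ext.addEquiv₀ (Ext.mk₀ a)))
  rw [Ext.mk₀_comp_mk₀, addEquiv₀_mk₀, addEquiv₀_mk₀, ← CohFree.evalGen_freeSheafMap_comp]
  congr 1
  rw [← Category.assoc, ← Category.assoc]
  congr 1
  exact cokernel.π_desc _ _ _

section Closed

variable (U : Opens X)

/-- the pair `U ⊓ V' ≤ ⊤ ⊓ V'` -/
abbrev hp (V' : Opens X) : U ⊓ V' ≤ ⊤ ⊓ V' := inf_le_inf_right V' (le_top : U ≤ ⊤)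

/-- `(Γ_Z F)(V') → {s ∈ F(⊤ ⊓ V') | s|_{U ⊓ V'} = 0}` -/
noncomputable def secHom (F : CohTop.Ab X) (V' : Opens X) :
    (((LocCohZ.sectSuppF U).obj F).obj.obj (op V') : Type u) →+ LocCohZ.sectZ F (hp U V') where
  toFun := fun t => ⟨F.obj.map (homOfLE (inf_le_right : ⊤ ⊓ V' ≤ V')).op (ιs U F V' t), by
    rw [AddMonoidHom.mem_ker]
    show F.obj.map _ (F.obj.map _ _) = 0
    rw [← ConcreteCategory.comp_apply, ← F.obj.map_comp]
    exact ιs_res_eq_zero U F (inf_le_right : U ⊓ V' ≤ V') inf_le_left t⟩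
  map_zero' := by
    apply Subtype.ext
    show F.obj.map _ (ιs U F V' 0) = 0
    rw [map_zero, map_zero]
  map_add' := fun a b => by
    apply Subtype.ext
    show F.obj.map _ (ιs U F V' (a + b)) = F.obj.map _ (ιs U F V' a) + F.obj.map _ (ιs U F V' b)
    rw [map_add, map_add]

lemma secHom_bijective (F : CohTop.Ab X) (V' : Opens X) : Function.Bijective (secHom U F V') := by
  have hback : ∀ s : ToType (F.obj.obj (op V')),
      F.obj.map (homOfLE (le_inf le_top le_rfl : V' ≤ ⊤ ⊓ V')).op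
        (F.obj.map (homOfLE (inf_le_right : ⊤ ⊓ V' ≤ V')).op s) = s := fun s => by
    rw [← ConcreteCategory.comp_apply, ← F.obj.map_comp]
    have : (homOfLE (inf_le_right : (⊤ : Opens X) ⊓ V' ≤ V')).op ≫
        (homOfLE (le_inf le_top le_rfl : V' ≤ ⊤ ⊓ V')).op = 𝟙 _ := Subsingleton.elim _ _
    rw [this, F.obj.map_id]
    rfl
  constructor
  · intro a b hab
    apply ιs_injective U F V'
    have h1 := congrArg Subtype.val hab
    have h2 := congrArg (F.obj.map (homOfLE (le_inf le_top le_rfl : V' ≤ ⊤ ⊓ V')).op) h1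
    exact (hback _).symm.trans (h2.trans (hback _))
  · intro s
    obtain ⟨t, ht⟩ := exists_lift U F V'
      (F.obj.map (homOfLE (le_inf le_top le_rfl : V' ≤ ⊤ ⊓ V')).op s.1) (by
      have h1 : F.obj.map (homOfLE (hp U V')).op s.1 = 0 := s.2
      rw [← ConcreteCategory.comp_apply, ← F.obj.map_comp]
      have : (homOfLE (le_inf le_top le_rfl : V' ≤ ⊤ ⊓ V')).op ≫
          (homOfLE (inf_le_left : V' ⊓ U ≤ V')).op =
          (homOfLE (hp U V')).op ≫ (homOfLE (le_inf inf_le_right inf_le_left :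
            V' ⊓ U ≤ U ⊓ V')).op := Subsingleton.elim _ _
      rw [this, F.obj.map_comp, ConcreteCategory.comp_apply, h1, map_zero])
    refine ⟨t, Subtype.ext ?_⟩
    show F.obj.map _ (ιs U F V' t) = s.1
    rw [ht, ← ConcreteCategory.comp_apply, ← F.obj.map_comp]
    have : (homOfLE (le_inf le_top le_rfl : V' ≤ ⊤ ⊓ V')).op ≫
        (homOfLE (inf_le_right : (⊤ : Opens X) ⊓ V' ≤ V')).op = 𝟙 _ := Subsingleton.elim _ _
    rw [this, F.obj.map_id]
    rfl

/-- `(Γ_Z F)(V') ≃ {s ∈ F(⊤ ⊓ V') | s|_{U ⊓ V'} = 0}` -/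
noncomputable def secEquiv (F : CohTop.Ab X) (V' : Opens X) :
    (((LocCohZ.sectSuppF U).obj F).obj.obj (op V') : Type u) ≃+ LocCohZ.sectZ F (hp U V') :=
  AddEquiv.ofBijective (secHom U F V') (secHom_bijective U F V')

lemma secEquiv_apply (F : CohTop.Ab X) (V' : Opens X)
    (t : ToType (((LocCohZ.sectSuppF U).obj F).obj.obj (op V'))) :
    (secEquiv U F V' t).1 = F.obj.map (homOfLE (inf_le_right : ⊤ ⊓ V' ≤ V')).op (ιs U F V' t) :=
  rfl

lemma secEquiv_res (F : CohTop.Ab X) {V' V'' : Opens X} (g : V'' ≤ V')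
    (t : ToType (((LocCohZ.sectSuppF U).obj F).obj.obj (op V'))) :
    (secEquiv U F V'' (((LocCohZ.sectSuppF U).obj F).obj.map (homOfLE g).op t)).1 =
      F.obj.map (homOfLE (inf_le_inf_left ⊤ g : ⊤ ⊓ V'' ≤ ⊤ ⊓ V')).op (secEquiv U F V' t).1 := by
  rw [secEquiv_apply, secEquiv_apply, ιs_res]
  have h1 : ∀ s : ToType (F.obj.obj (op V')),
      F.obj.map (homOfLE (inf_le_right : ⊤ ⊓ V'' ≤ V'')).op (F.obj.map (homOfLE g).op s) =
      F.obj.map (homOfLE (inf_le_inf_left ⊤ g : ⊤ ⊓ V'' ≤ ⊤ ⊓ V')).op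
        (F.obj.map (homOfLE (inf_le_right : ⊤ ⊓ V' ≤ V')).op s) := fun s => by
    rw [← ConcreteCategory.comp_apply, ← ConcreteCategory.comp_apply, ← F.obj.map_comp,
      ← F.obj.map_comp]
    rfl
  exact h1 _

lemma secEquiv_naturality {F F' : CohTop.Ab X} (φ : F ⟶ F') (V' : Opens X)
    (t : ToType (((LocCohZ.sectSuppF U).obj F).obj.obj (op V'))) :
    (secEquiv U F' V' (((LocCohZ.sectSuppF U).map φ).hom.app (op V') t)).1 =
      φ.hom.app (op (⊤ ⊓ V')) (secEquiv U F V' t).1 := by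
  rw [secEquiv_apply, secEquiv_apply, ιs_naturality]
  exact (ConcreteCategory.congr_hom (φ.hom.naturality
    (homOfLE (inf_le_right : (⊤ : Opens X) ⊓ V' ≤ V')).op) _).symm

/-- the comparison on sections -/
noncomputable def compEquiv (F : CohTop.Ab X) (V' : Opens X) :
    LocCohZ.HZ F 0 (hp U V') ≃+ (((LocCohZ.sectSuppF U).obj F).obj.obj (op V') : Type u) :=
  (LocCohZ.sect0Equiv F (hp U V')).trans (secEquiv U F V').symm

/-- `(V' ↦ Hom(ℤ_{V'}/ℤ_{U ⊓ V'}, F)) ≅ Γ_Z F` as presheaves -/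
noncomputable def e0app (F : CohTop.Ab X) :
    (Groth.Agent.Helper9.ExtPshDelta.T.{u} (G (le_top : U ≤ ⊤)) 0).obj F ≅
      ((LocCohZ.sectSuppF U).obj F).obj :=
  NatIso.ofComponents (fun V' => (compEquiv U F V'.unop).toAddCommGrpIso) (by
    intro V' V'' g
    apply AddCommGrpCat.hom_ext
    apply AddMonoidHom.ext
    intro (x : LocCohZ.HZ F 0 (hp U V'.unop))
    have hg : g = (homOfLE (leOfHom g.unop)).op := Subsingleton.elim _ _
    show compEquiv U F V''.unop (LocCohZ.resZ F 0 (hp U V'.unop) (hp U V''.unop)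
        (inf_le_inf_left U (leOfHom g.unop)) (inf_le_inf_left ⊤ (leOfHom g.unop)) x) =
      ((LocCohZ.sectSuppF U).obj F).obj.map g (compEquiv U F V'.unop x)
    apply (secEquiv U F V''.unop).injective
    apply Subtype.ext
    rw [hg, secEquiv_res]
    show (secEquiv U F V''.unop ((secEquiv U F V''.unop).symm _)).1 =
      F.obj.map _ (secEquiv U F V'.unop ((secEquiv U F V'.unop).symm _)).1
    rw [AddEquiv.apply_symm_apply, AddEquiv.apply_symm_apply]
    exact sect0Equiv_res F _ _ _ _ x)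

/-- `(V' ↦ Hom(ℤ_{V'}/ℤ_{U ⊓ V'}, -)) ≅ Γ_Z` -/
noncomputable def e0 :
    Groth.Agent.Helper9.ExtPshDelta.T.{u} (G (le_top : U ≤ ⊤)) 0 ≅
      LocCohZ.sectSuppF U ⋙ sheafToPresheaf (Opens.grothendieckTopology X) AddCommGrpCat.{u} :=
  NatIso.ofComponents (fun F => e0app U F) (by
    intro F F' φ
    ext V' : 2
    apply AddCommGrpCat.hom_ext
    apply AddMonoidHom.ext
    intro (x : LocCohZ.HZ F 0 (hp U V'.unop))
    show compEquiv U F' V'.unop (LocCohZ.map φ 0 (hp U V'.unop) x) =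
      ((LocCohZ.sectSuppF U).map φ).hom.app V' (compEquiv U F V'.unop x)
    apply (secEquiv U F' V'.unop).injective
    apply Subtype.ext
    rw [secEquiv_naturality]
    show (secEquiv U F' V'.unop ((secEquiv U F' V'.unop).symm _)).1 =
      φ.hom.app _ (secEquiv U F V'.unop ((secEquiv U F V'.unop).symm _)).1
    rw [AddEquiv.apply_symm_apply, AddEquiv.apply_symm_apply]
    exact sect0Equiv_naturality φ _ x)

/-- `ℋ^q_Z ≅ a(V' ↦ Ext^q(ℤ_{V'}/ℤ_{U ⊓ V'}, -))` -/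
noncomputable def HZshIso (q : ℕ) :
    LocCohZ.HZsh U q ≅
      Groth.Agent.Helper9.ExtPshDelta.T.{u} (G (le_top : U ≤ ⊤)) q ⋙
        presheafToSheaf (Opens.grothendieckTopology X) AddCommGrpCat.{u} :=
  Groth.Agent.Helper9.ShExtPsh.iso (Opens.grothendieckTopology X) (G (le_top : U ≤ ⊤))
    (LocCohZ.sectSuppF U) (e0 U) q

end Closed

end Groth.Agent.Helper9.HZshPsh
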