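import Mathlib
import Groth.Prelude.Def_LocCohZ
import Groth.Agent.Helper9.HZshPsh
import Groth.Agent.Helper9.SuppLCInj
import Groth.Agent.Lead.CohTopB

set_option autoImplicit false

/-!
# Vanishing of `H^i_{Z∩V}(V, F)` from vanishing of the sheaves `ℋ^i_Z(F)`
-/

namespace Groth.Agent.Helper9.HZshVanish

open CategoryTheory TopologicalSpace Opposite Limits Abelian
open Groth.Agent.Helper9.GammaZSect Groth.Agent.Helper9.GammaZExt Groth.Agent.Helper9.HZshPsh
open Groth.Agent.Helper1.DeltaFun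

universe u

variable {X : TopCat.{u}} (U : Opens X)

/-- the pair `V ⊓ U ≤ V` -/
abbrev hV (V : Opens X) : V ⊓ U ≤ V := inf_le_left

lemma subsingleton_HZ_iff_of_eq (F : CohTop.Ab X) (i : ℕ) {W V W' V' : Opens X} (h : W ≤ V)
    (h' : W' ≤ V') (hW : W = W') (hV : V = V') :
    Subsingleton (LocCohZ.HZ F i h) ↔ Subsingleton (LocCohZ.HZ F i h') := by
  subst hW
  subst hV
  rfl

lemma subsingleton_sections_of_isZero {F : CohTop.Ab X} (hF : IsZero F) (V : Opens X) :
    Subsingleton (F.obj.obj (op V)) := by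
  have h := Functor.map_isZero (sheafToPresheaf (Opens.grothendieckTopology X) AddCommGrpCat.{u} ⋙
    (evaluation (Opens X)ᵒᵖ AddCommGrpCat.{u}).obj (op V)) hF
  exact AddCommGrpCat.subsingleton_of_isZero h

/-- `H^0_{Z∩V}(V, F) = 0` if `Γ_Z F = 0` -/
lemma subsingleton_HZ_zero (F : CohTop.Ab X) (hF : IsZero ((LocCohZ.sectSuppF U).obj F))
    (V : Opens X) : Subsingleton (LocCohZ.HZ F 0 (hV U V)) := by
  have h2 : Subsingleton (LocCohZ.sectZ F (hV U V)) := by
    refine subsingleton_of_forall_eq 0 fun s => ?_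
    obtain ⟨t, ht⟩ := exists_lift U F V s.1 s.2
    haveI := subsingleton_sections_of_isZero hF V
    have ht0 : t = 0 := Subsingleton.elim _ _
    apply Subtype.ext
    rw [← ht, ht0, map_zero]
    rfl
  exact (LocCohZ.sect0Equiv F (hV U V)).injective.subsingleton

/-- surjectivity of `H^0_{Z∩V}(V, S.X₂) → H^0_{Z∩V}(V, S.X₃)` when `Γ_Z S` is short exact with flasque
kernel -/
lemma surjective_H0 (S : ShortComplex (CohTop.Ab X))
    (hΓ : (S.map (LocCohZ.sectSuppF U)).ShortExact)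
    [hfl : TopCat.Sheaf.IsFlasque ((LocCohZ.sectSuppF U).obj S.X₁)] (V : Opens X)
    (y : LocCohZ.HZ S.X₃ 0 (hV U V)) :
    ∃ x : LocCohZ.HZ S.X₂ 0 (hV U V), x.comp (Ext.mk₀ S.g) (add_zero 0) = y := by
  haveI : TopCat.Sheaf.IsFlasque (S.map (LocCohZ.sectSuppF U)).X₁ := hfl
  have hepi := TopCat.Sheaf.IsFlasque.epi_of_shortExact (U := V) hΓ
  rw [AddCommGrpCat.epi_iff_surjective] at hepi
  set sQ := LocCohZ.sect0Equiv S.X₃ (hV U V) y with hsQ
  obtain ⟨tQ, htQ⟩ := exists_lift U S.X₃ V sQ.1 sQ.2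
  obtain ⟨tI', htI'⟩ := hepi tQ
  obtain ⟨tI, htI⟩ : ∃ tI : ToType (((LocCohZ.sectSuppF U).obj S.X₂).obj.obj (op V)),
      ((LocCohZ.sectSuppF U).map S.g).hom.app (op V) tI = tQ := ⟨tI', htI'⟩
  have hmem : ιs U S.X₂ V tI ∈ LocCohZ.sectZ S.X₂ (hV U V) := by
    rw [AddMonoidHom.mem_ker]
    exact ιs_res_eq_zero U S.X₂ (hV U V) inf_le_right tI
  refine ⟨(LocCohZ.sect0Equiv S.X₂ (hV U V)).symm ⟨_, hmem⟩, ?_⟩
  apply (LocCohZ.sect0Equiv S.X₃ (hV U V)).injective
  apply Subtype.ext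
  have h1 := sect0Equiv_naturality S.g (hV U V)
    ((LocCohZ.sect0Equiv S.X₂ (hV U V)).symm ⟨_, hmem⟩)
  refine h1.trans ?_
  rw [AddEquiv.apply_symm_apply]
  show S.g.hom.app (op V) (ιs U S.X₂ V tI) = sQ.1
  rw [← htQ, ← htI]
  exact (ιs_naturality U S.g V tI).symm

variable (X) in
/-- the auxiliary statement -/
def R (U : Opens X) (n : ℕ) : Prop :=
  ∀ F : CohTop.Ab X, TopCat.Sheaf.IsFlasque ((LocCohZ.sectSuppF U).obj F) →
    (∀ i, 0 < i → i < n → IsZero ((LocCohZ.HZsh U i).obj F)) →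
    ∀ (V : Opens X) (i : ℕ), 0 < i → i < n → Subsingleton (LocCohZ.HZ F i (hV U V))

lemma epi_of_natIso {A B : Type*} [Category A] [Category B] {F G : A ⥤ B} (e : F ≅ G)
    {X Y : A} (g : X ⟶ Y) [Epi (F.map g)] : Epi (G.map g) := by
  have : G.map g = e.inv.app X ≫ F.map g ≫ e.hom.app Y := by
    rw [e.hom.naturality, ← Category.assoc, ← NatTrans.comp_app, e.inv_hom_id]
    simp
  rw [this]
  infer_instance

theorem R_all (n : ℕ) : R X U n := by
  induction n with
  | zero =>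
    intro F _ _ V i h0 hi
    omega
  | succ n ih =>
    intro F hfl hz V i h0 hi
    by_cases hn : n = 0
    · omega
    -- the embedding into an injective
    let f := Injective.ι F
    let S : ShortComplex (CohTop.Ab X) := ShortComplex.mk f (cokernel.π f) (cokernel.condition f)
    have hS : S.ShortExact :=
      { exact := ShortComplex.exact_of_g_is_cokernel _ (cokernelIsCokernel f)
        mono_f := inferInstanceAs (Mono (Injective.ι F))
        epi_g := inferInstanceAs (Epi (cokernel.π f)) }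
    haveI : Injective S.X₂ := inferInstanceAs (Injective (Injective.under F))
    let T := rightDerivedDelta (LocCohZ.sectSuppF U)
    have h1 : IsZero ((T.T 1).obj S.X₁) := hz 1 one_pos (by omega)
    -- `Γ_Z S` is short exact
    have hΓ : (S.map (LocCohZ.sectSuppF U)).ShortExact := by
      obtain ⟨hex, hmono⟩ := (Functor.preservesFiniteLimits_iff_forall_exact_map_and_mono
        (LocCohZ.sectSuppF U)).1 inferInstance S hS
      have e := T.exact₃ S hS 0
      have hepi0 : Epi ((T.T 0).map S.g) :=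
        (ShortComplex.exact_iff_epi _ (h1.eq_of_tgt _ _)).1 e
      haveI : Epi (((LocCohZ.sectSuppF U).rightDerived 0).map S.g) := hepi0
      exact
        { exact := hex
          mono_f := hmono
          epi_g := epi_of_natIso (LocCohZ.sectSuppF U).rightDerivedZeroIsoSelf S.g }
    haveI hfl1 : TopCat.Sheaf.IsFlasque (S.map (LocCohZ.sectSuppF U)).X₁ := hfl
    haveI hfl2 : TopCat.Sheaf.IsFlasque (S.map (LocCohZ.sectSuppF U)).X₂ := by
      have hinj : Injective ((LocCohZ.sectSuppF U).obj S.X₂) :=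
        Groth.Agent.Helper9.SuppLCInj.injective_sectSupp U S.X₂
      exact @Groth.Agent.Lead.CohTopB.isFlasque_of_injective _ ((LocCohZ.sectSuppF U).obj S.X₂) hinj
    have hflQ : TopCat.Sheaf.IsFlasque ((LocCohZ.sectSuppF U).obj S.X₃) :=
      TopCat.Sheaf.IsFlasque.of_shortExact_of_isFlasque₁₂ hΓ
    have hzQ : ∀ j, 0 < j → j < n → IsZero ((LocCohZ.HZsh U j).obj S.X₃) := by
      intro j hj0 hjn
      obtain ⟨k, rfl⟩ : ∃ k, j = k + 1 := ⟨j - 1, by omega⟩
      have e := T.exact₃ S hS (k + 1)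
      have hI : IsZero ((T.T (k + 1)).obj S.X₂) := rightDerivedDelta_effaceable _ S.X₂ k
      have hmono : Mono (T.δ S hS (k + 1)) :=
        (ShortComplex.exact_iff_mono _ (hI.eq_of_src _ _)).1 e
      exact @IsZero.of_mono _ _ _ _ _ (T.δ S hS (k + 1)) hmono (hz (k + 1 + 1) (by omega) (by omega))
    have hQ := ih S.X₃ hflQ hzQ V
    -- the class
    refine subsingleton_of_forall_eq 0 fun x => ?_
    obtain ⟨k, rfl⟩ : ∃ k, i = k + 1 := ⟨i - 1, by omega⟩
    obtain ⟨y, hy⟩ := Ext.covariant_sequence_exact₁ (LocCohZ.zq (hV U V)) hS x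
      (Ext.eq_zero_of_injective _) (rfl : k + 1 = k + 1)
    rw [← hy]
    by_cases hk : k = 0
    · subst hk
      haveI : TopCat.Sheaf.IsFlasque ((LocCohZ.sectSuppF U).obj S.X₁) := hfl
      obtain ⟨z, hz'⟩ := surjective_H0 U S hΓ V y
      rw [← hz', Ext.comp_assoc_of_second_deg_zero, ShortComplex.ShortExact.comp_extClass,
        Ext.comp_zero]
    · haveI := hQ k (by omega) (by omega)
      rw [Subsingleton.elim y 0, Ext.zero_comp]

end Groth.Agent.Helper9.HZshVanish
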