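import Mathlib
import Groth.Prelude.Def_LocCohZ
import Groth.Agent.Helper9.HZshVanish

set_option autoImplicit false

/-!
# `ℋ^i_Z(F) = 0` for `i < n` iff `H^i_{Z∩V}(V, F) = 0` for all `V` and `i < n`
-/

namespace Groth.Agent.Helper9.HZshCrit

open CategoryTheory TopologicalSpace Opposite Limits Abelian
open Groth.Agent.Helper9.GammaZSect Groth.Agent.Helper9.GammaZExt Groth.Agent.Helper9.HZshPsh
open Groth.Agent.Helper9.HZshVanish

universe u

variable {X : TopCat.{u}} (U : Opens X)

lemma isFlasque_of_isZero {F : CohTop.Ab X} (hF : IsZero F) : TopCat.Sheaf.IsFlasque F := by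
  constructor
  intro V V' i
  rw [AddCommGrpCat.epi_iff_surjective]
  intro y
  haveI := subsingleton_sections_of_isZero hF V'.unop
  exact ⟨0, Subsingleton.elim _ _⟩

/-- the presheaf `V' ↦ H^i_{Z∩V'}(V', F)` vanishes if all its values do -/
lemma isZero_HZsh_of_subsingleton (F : CohTop.Ab X) (i : ℕ)
    (h : ∀ V : Opens X, Subsingleton (LocCohZ.HZ F i (hV U V))) :
    IsZero ((LocCohZ.HZsh U i).obj F) := by
  refine IsZero.of_iso ?_ ((HZshIso U i).app F)
  show IsZero ((presheafToSheaf (Opens.grothendieckTopology X) AddCommGrpCat.{u}).obj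
    ((Groth.Agent.Helper9.ExtPshDelta.T.{u} (G (le_top : U ≤ ⊤)) i).obj F))
  apply Functor.map_isZero
  rw [Functor.isZero_iff]
  intro V'
  haveI : Subsingleton (LocCohZ.HZ F i (hp U V'.unop)) :=
    (subsingleton_HZ_iff_of_eq F i (hV U V'.unop) (hp U V'.unop) (inf_comm _ _)
      (top_inf_eq _).symm).1 (h V'.unop)
  exact AddCommGrpCat.isZero_of_subsingleton (AddCommGrpCat.of (LocCohZ.HZ F i (hp U V'.unop)))

theorem main (F : CohTop.Ab X) (n : ℕ) :
    (∀ i : ℕ, i < n → IsZero ((LocCohZ.HZsh U i).obj F)) ↔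
      ∀ (V : Opens X) (i : ℕ), i < n → Subsingleton (LocCohZ.HZ F i (inf_le_left : V ⊓ U ≤ V)) := by
  constructor
  · intro hz V i hi
    have h0 : IsZero ((LocCohZ.sectSuppF U).obj F) :=
      IsZero.of_iso (hz 0 (by omega)) ((LocCohZ.sectSuppF U).rightDerivedZeroIsoSelf.app F).symm
    by_cases hi0 : i = 0
    · subst hi0
      exact subsingleton_HZ_zero U F h0 V
    · exact R_all U n F (isFlasque_of_isZero h0) (fun j _ hj => hz j hj) V i (by omega) hi
  · intro hs i hi
    exact isZero_HZsh_of_subsingleton U F i (fun V => hs V i hi)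

end Groth.Agent.Helper9.HZshCrit
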