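import Mathlib
import Groth.Prelude.Def_LocCohZ
import Groth.Prelude.Def_SuppFam
import Groth.Agent.Helper9.HZshPsh
import Groth.Agent.Helper9.TopShriek

set_option autoImplicit false

/-!
# `ℋ^q_Z(F)` for `Z` locally closed is the sheafification of `V' ↦ H^q_{Z∩V'}(V ∩ V', F)`
-/

namespace Groth.Agent.Helper9.HZshLCPsh

open CategoryTheory TopologicalSpace Opposite Limits Abelian
open Groth.Agent.Helper9.GammaZSect Groth.Agent.Helper9.GammaZExt Groth.Agent.Helper9.HZshPsh
open Groth.Agent.Helper1.CohTopFun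

universe u

variable {X : TopCat.{u}} {W V : Opens X}

/-- the open `W ∩ V` of the subspace `V` -/
abbrev UY (W V : Opens X) : Opens (TopCat.of V) := SuppFam.inOpen V W

/-- the restriction of `F` to `V` -/
noncomputable abbrev FY (V : Opens X) (F : CohTop.Ab X) : CohTop.Ab (TopCat.of V) :=
  (CohTop.restrFunctor V).obj F

/-- the trace of `V'` on `V` -/
abbrev Tof (V V' : Opens X) : Opens (TopCat.of V) := (Opens.map (CohCx.incl V)).obj V'

/-- the pair `W ⊓ V' ≤ V ⊓ V'` -/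
abbrev hpL (h : W ≤ V) (V' : Opens X) : W ⊓ V' ≤ V ⊓ V' := inf_le_inf_right V' h

lemma tof_mono (V : Opens X) {V' V'' : Opens X} (g : V'' ≤ V') : Tof V V'' ≤ Tof V V' :=
  fun _ hx => g hx

lemma inf_le_jObj' (V V' : Opens X) : V ⊓ V' ≤ jObj V (Tof V V') := by
  intro x hx
  exact ⟨⟨x, hx.1⟩, hx.2, rfl⟩

lemma jObj_le_inf (V V' : Opens X) : jObj V (Tof V V') ≤ V ⊓ V' := by
  rintro _ ⟨y, hy, rfl⟩
  exact ⟨y.2, hy⟩

lemma winf_le_jObj (h : W ≤ V) (V' : Opens X) : W ⊓ V' ≤ jObj V (Tof V V' ⊓ UY W V) := by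
  intro x hx
  exact ⟨⟨x, h hx.1⟩, ⟨hx.2, hx.1⟩, rfl⟩

lemma jObj_le_winf (W V V' : Opens X) : jObj V (Tof V V' ⊓ UY W V) ≤ W ⊓ V' := by
  rintro _ ⟨y, hy, rfl⟩
  exact ⟨hy.2, hy.1⟩

/-- the sections of `Γ_Z(F|_V)` over the trace of `V'`, viewed in `F` -/
noncomputable def ιX (F : CohTop.Ab X) (V' : Opens X)
    (t : ToType (((LocCohZ.sectSuppF (UY W V)).obj (FY V F)).obj.obj (op (Tof V V')))) :
    ToType (F.obj.obj (op (jObj V (Tof V V')))) :=
  ιs (UY W V) (FY V F) (Tof V V') t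

lemma ιX_injective (F : CohTop.Ab X) (V' : Opens X) :
    Function.Injective (ιX (W := W) (V := V) F V') :=
  ιs_injective (UY W V) (FY V F) (Tof V V')

lemma ιX_zero (F : CohTop.Ab X) (V' : Opens X) : ιX (W := W) (V := V) F V' 0 = 0 :=
  map_zero (ιs (UY W V) (FY V F) (Tof V V')).hom

lemma ιX_add (F : CohTop.Ab X) (V' : Opens X)
    (a b : ToType (((LocCohZ.sectSuppF (UY W V)).obj (FY V F)).obj.obj (op (Tof V V')))) :
    ιX F V' (a + b) = ιX F V' a + ιX F V' b :=
  map_add (ιs (UY W V) (FY V F) (Tof V V')).hom a b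

lemma ιX_res_eq_zero (h : W ≤ V) (F : CohTop.Ab X) (V' : Opens X)
    (t : ToType (((LocCohZ.sectSuppF (UY W V)).obj (FY V F)).obj.obj (op (Tof V V')))) :
    F.obj.map (homOfLE ((winf_le_jObj h V').trans
      (V.isOpenEmbedding.isOpenMap.functor.map (homOfLE (inf_le_left :
        Tof V V' ⊓ UY W V ≤ Tof V V'))).le)).op (ιX F V' t) = 0 := by
  have h1 := ιs_res_eq_zero (UY W V) (FY V F) (inf_le_left : Tof V V' ⊓ UY W V ≤ Tof V V')
    inf_le_right t
  have h2 : F.obj.map (V.isOpenEmbedding.isOpenMap.functor.map (homOfLE (inf_le_left :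
        Tof V V' ⊓ UY W V ≤ Tof V V'))).op (ιX F V' t) = 0 := h1
  have : (homOfLE ((winf_le_jObj h V').trans
      (V.isOpenEmbedding.isOpenMap.functor.map (homOfLE (inf_le_left :
        Tof V V' ⊓ UY W V ≤ Tof V V'))).le)).op =
      (V.isOpenEmbedding.isOpenMap.functor.map (homOfLE (inf_le_left :
        Tof V V' ⊓ UY W V ≤ Tof V V'))).op ≫ (homOfLE (winf_le_jObj h V')).op :=
    Subsingleton.elim _ _
  rw [this, F.obj.map_comp, ConcreteCategory.comp_apply, h2, map_zero]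

/-- `(Γ_Z F)(V') → {s ∈ F(V ⊓ V') | s|_{W ⊓ V'} = 0}` -/
noncomputable def secHom (h : W ≤ V) (F : CohTop.Ab X) (V' : Opens X) :
    (((LocCohZ.sectSuppF (UY W V)).obj (FY V F)).obj.obj (op (Tof V V')) : Type u) →+
      LocCohZ.sectZ F (hpL h V') where
  toFun := fun t => ⟨F.obj.map (homOfLE (inf_le_jObj' V V')).op (ιX F V' t), by
    rw [AddMonoidHom.mem_ker]
    show F.obj.map _ (F.obj.map _ _) = 0
    rw [← ConcreteCategory.comp_apply, ← F.obj.map_comp]
    exact ιX_res_eq_zero h F V' t⟩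
  map_zero' := by
    apply Subtype.ext
    show F.obj.map _ (ιX F V' 0) = 0
    rw [ιX_zero, map_zero]
  map_add' := fun a b => by
    apply Subtype.ext
    show F.obj.map _ (ιX F V' (a + b)) = F.obj.map _ (ιX F V' a) + F.obj.map _ (ιX F V' b)
    rw [ιX_add, map_add]

lemma secHom_bijective (h : W ≤ V) (F : CohTop.Ab X) (V' : Opens X) :
    Function.Bijective (secHom h F V') := by
  have hback : ∀ s : ToType (F.obj.obj (op (jObj V (Tof V V')))),
      F.obj.map (homOfLE (jObj_le_inf V V')).op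
        (F.obj.map (homOfLE (inf_le_jObj' V V')).op s) = s := fun s => by
    rw [← ConcreteCategory.comp_apply, ← F.obj.map_comp]
    have : (homOfLE (inf_le_jObj' V V')).op ≫ (homOfLE (jObj_le_inf V V')).op = 𝟙 _ :=
      Subsingleton.elim _ _
    rw [this, F.obj.map_id]
    rfl
  constructor
  · intro a b hab
    apply ιX_injective F V'
    have h1 := congrArg Subtype.val hab
    have h2 := congrArg (F.obj.map (homOfLE (jObj_le_inf V V')).op) h1
    exact (hback _).symm.trans (h2.trans (hback _))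
  · intro s
    have hs0 : (FY V F).obj.map (homOfLE (inf_le_left : Tof V V' ⊓ UY W V ≤ Tof V V')).op
        (F.obj.map (homOfLE (jObj_le_inf V V')).op s.1) = 0 := by
      have h1 : F.obj.map (homOfLE (hpL h V')).op s.1 = 0 := s.2
      show F.obj.map (V.isOpenEmbedding.isOpenMap.functor.map (homOfLE (inf_le_left :
        Tof V V' ⊓ UY W V ≤ Tof V V'))).op (F.obj.map (homOfLE (jObj_le_inf V V')).op s.1) = 0
      rw [← ConcreteCategory.comp_apply, ← F.obj.map_comp]
      have : (homOfLE (jObj_le_inf V V')).op ≫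
          (V.isOpenEmbedding.isOpenMap.functor.map (homOfLE (inf_le_left :
            Tof V V' ⊓ UY W V ≤ Tof V V'))).op =
          (homOfLE (hpL h V')).op ≫ (homOfLE (jObj_le_winf W V V')).op := Subsingleton.elim _ _
      rw [this, F.obj.map_comp, ConcreteCategory.comp_apply, h1, map_zero]
    obtain ⟨t, ht⟩ := exists_lift (UY W V) (FY V F) (Tof V V')
      (F.obj.map (homOfLE (jObj_le_inf V V')).op s.1) hs0
    refine ⟨t, Subtype.ext ?_⟩
    show F.obj.map _ (ιX F V' t) = s.1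
    have ht' : ιX F V' t = F.obj.map (homOfLE (jObj_le_inf V V')).op s.1 := ht
    rw [ht', ← ConcreteCategory.comp_apply, ← F.obj.map_comp]
    have : (homOfLE (jObj_le_inf V V')).op ≫ (homOfLE (inf_le_jObj' V V')).op = 𝟙 _ :=
      Subsingleton.elim _ _
    rw [this, F.obj.map_id]
    rfl

/-- `(Γ_Z F)(V') ≃ {s ∈ F(V ⊓ V') | s|_{W ⊓ V'} = 0}` -/
noncomputable def secEquiv (h : W ≤ V) (F : CohTop.Ab X) (V' : Opens X) :
    (((LocCohZ.sectSuppF (UY W V)).obj (FY V F)).obj.obj (op (Tof V V')) : Type u) ≃+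
      LocCohZ.sectZ F (hpL h V') :=
  AddEquiv.ofBijective (secHom h F V') (secHom_bijective h F V')

lemma secEquiv_apply (h : W ≤ V) (F : CohTop.Ab X) (V' : Opens X)
    (t : ToType (((LocCohZ.sectSuppF (UY W V)).obj (FY V F)).obj.obj (op (Tof V V')))) :
    (secEquiv h F V' t).1 = F.obj.map (homOfLE (inf_le_jObj' V V')).op (ιX F V' t) :=
  rfl

lemma ιX_res (F : CohTop.Ab X) {V' V'' : Opens X} (g : V'' ≤ V')
    (t : ToType (((LocCohZ.sectSuppF (UY W V)).obj (FY V F)).obj.obj (op (Tof V V')))) :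
    ιX F V'' (((LocCohZ.sectSuppF (UY W V)).obj (FY V F)).obj.map
      (homOfLE (tof_mono V g)).op t) =
    F.obj.map (V.isOpenEmbedding.isOpenMap.functor.map
      (homOfLE (tof_mono V g))).op (ιX F V' t) :=
  ιs_res (UY W V) (FY V F) _ t

lemma secEquiv_res (h : W ≤ V) (F : CohTop.Ab X) {V' V'' : Opens X} (g : V'' ≤ V')
    (t : ToType (((LocCohZ.sectSuppF (UY W V)).obj (FY V F)).obj.obj (op (Tof V V')))) :
    (secEquiv h F V'' (((LocCohZ.sectSuppF (UY W V)).obj (FY V F)).obj.map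
      (homOfLE (tof_mono V g)).op t)).1 =
      F.obj.map (homOfLE (inf_le_inf_left V g : V ⊓ V'' ≤ V ⊓ V')).op (secEquiv h F V' t).1 := by
  rw [secEquiv_apply, secEquiv_apply, ιX_res F g]
  have h1 : ∀ s : ToType (F.obj.obj (op (jObj V (Tof V V')))),
      F.obj.map (homOfLE (inf_le_jObj' V V'')).op
        (F.obj.map (V.isOpenEmbedding.isOpenMap.functor.map
          (homOfLE (tof_mono V g))).op s) =
      F.obj.map (homOfLE (inf_le_inf_left V g : V ⊓ V'' ≤ V ⊓ V')).op
        (F.obj.map (homOfLE (inf_le_jObj' V V')).op s) := fun s => by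
    rw [← ConcreteCategory.comp_apply, ← ConcreteCategory.comp_apply, ← F.obj.map_comp,
      ← F.obj.map_comp]
    rfl
  exact h1 _

lemma ιX_naturality {F F' : CohTop.Ab X} (φ : F ⟶ F') (V' : Opens X)
    (t : ToType (((LocCohZ.sectSuppF (UY W V)).obj (FY V F)).obj.obj (op (Tof V V')))) :
    ιX F' V' (((LocCohZ.sectSuppF (UY W V)).map ((CohTop.restrFunctor V).map φ)).hom.app
      (op (Tof V V')) t) = φ.hom.app (op (jObj V (Tof V V'))) (ιX F V' t) :=
  ιs_naturality (UY W V) ((CohTop.restrFunctor V).map φ) (Tof V V') t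

lemma secEquiv_naturality (h : W ≤ V) {F F' : CohTop.Ab X} (φ : F ⟶ F') (V' : Opens X)
    (t : ToType (((LocCohZ.sectSuppF (UY W V)).obj (FY V F)).obj.obj (op (Tof V V')))) :
    (secEquiv h F' V' (((LocCohZ.sectSuppF (UY W V)).map ((CohTop.restrFunctor V).map φ)).hom.app
      (op (Tof V V')) t)).1 = φ.hom.app (op (V ⊓ V')) (secEquiv h F V' t).1 := by
  rw [secEquiv_apply, secEquiv_apply, ιX_naturality]
  exact (ConcreteCategory.congr_hom (φ.hom.naturality (homOfLE (inf_le_jObj' V V')).op) _).symm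


/-- the comparison on sections -/
noncomputable def compEquiv' (h : W ≤ V) (F : CohTop.Ab X) (V' : Opens X) :
    LocCohZ.HZ F 0 (hpL h V') ≃+
      (((LocCohZ.sectSuppF (UY W V)).obj (FY V F)).obj.obj (op (Tof V V')) : Type u) :=
  (LocCohZ.sect0Equiv F (hpL h V')).trans (secEquiv h F V').symm

lemma secEquiv_compEquiv' (h : W ≤ V) (F : CohTop.Ab X) (V' : Opens X)
    (x : LocCohZ.HZ F 0 (hpL h V')) :
    secEquiv h F V' (compEquiv' h F V' x) = LocCohZ.sect0Equiv F (hpL h V') x :=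
  (secEquiv h F V').apply_symm_apply _

lemma comp_res (h : W ≤ V) (F : CohTop.Ab X) {V' V'' : Opens X} (g : V'' ≤ V')
    (x : LocCohZ.HZ F 0 (hpL h V')) :
    compEquiv' h F V'' (LocCohZ.resZ F 0 (hpL h V') (hpL h V'')
        (inf_le_inf_left W g) (inf_le_inf_left V g) x) =
      ((LocCohZ.sectSuppF (UY W V)).obj (FY V F)).obj.map (homOfLE (tof_mono V g)).op
        (compEquiv' h F V' x) := by
  apply (secEquiv h F V'').injective
  apply Subtype.ext
  rw [secEquiv_res h F g, secEquiv_compEquiv', secEquiv_compEquiv']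
  exact sect0Equiv_res F _ _ _ _ x

lemma comp_nat (h : W ≤ V) {F F' : CohTop.Ab X} (φ : F ⟶ F') (V' : Opens X)
    (x : LocCohZ.HZ F 0 (hpL h V')) :
    compEquiv' h F' V' (LocCohZ.map φ 0 (hpL h V') x) =
      ((LocCohZ.sectSuppF (UY W V)).map ((CohTop.restrFunctor V).map φ)).hom.app
        (op (Tof V V')) (compEquiv' h F V' x) := by
  apply (secEquiv h F' V').injective
  apply Subtype.ext
  rw [secEquiv_naturality, secEquiv_compEquiv', secEquiv_compEquiv']
  exact sect0Equiv_naturality φ _ x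

/-- the comparison on sections -/
noncomputable def compEquiv (h : W ≤ V) (F : CohTop.Ab X) (V' : Opens X) :
    LocCohZ.HZ F 0 (hpL h V') ≃+ (((SuppFam.sectSuppLC h).obj F).obj.obj (op V') : Type u) :=
  compEquiv' h F V'

/-- `(V' ↦ Hom(ℤ_{V ⊓ V'}/ℤ_{W ⊓ V'}, F)) ≅ Γ_Z F` as presheaves -/
noncomputable def e0app (h : W ≤ V) (F : CohTop.Ab X) :
    (Groth.Agent.Helper9.ExtPshDelta.T.{u} (G h) 0).obj F ≅
      ((SuppFam.sectSuppLC h).obj F).obj :=
  NatIso.ofComponents (fun V' => (compEquiv h F V'.unop).toAddCommGrpIso) (by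
    intro V' V'' g
    apply AddCommGrpCat.hom_ext
    apply AddMonoidHom.ext
    intro (x : LocCohZ.HZ F 0 (hpL h V'.unop))
    have hg : ((Opens.map (CohCx.incl V)).map g.unop).op =
        (homOfLE (tof_mono V (leOfHom g.unop))).op := Subsingleton.elim _ _
    show compEquiv' h F V''.unop (LocCohZ.resZ F 0 (hpL h V'.unop) (hpL h V''.unop)
        (inf_le_inf_left W (leOfHom g.unop)) (inf_le_inf_left V (leOfHom g.unop)) x) =
      ((LocCohZ.sectSuppF (UY W V)).obj (FY V F)).obj.map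
        ((Opens.map (CohCx.incl V)).map g.unop).op (compEquiv' h F V'.unop x)
    rw [hg]
    exact comp_res h F (leOfHom g.unop) x)

/-- `(V' ↦ Hom(ℤ_{V ⊓ V'}/ℤ_{W ⊓ V'}, -)) ≅ Γ_Z` -/
noncomputable def e0 (h : W ≤ V) :
    Groth.Agent.Helper9.ExtPshDelta.T.{u} (G h) 0 ≅
      SuppFam.sectSuppLC h ⋙ sheafToPresheaf (Opens.grothendieckTopology X) AddCommGrpCat.{u} :=
  NatIso.ofComponents (fun F => e0app h F) (by
    intro F F' φ
    ext V' : 2
    apply AddCommGrpCat.hom_ext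
    apply AddMonoidHom.ext
    intro (x : LocCohZ.HZ F 0 (hpL h V'.unop))
    exact comp_nat h φ V'.unop x)

instance preservesFiniteLimits_sectSuppLC (h : W ≤ V) :
    PreservesFiniteLimits (SuppFam.sectSuppLC h) := by
  have : PreservesLimitsOfSize.{u, u} (CohTop.restrFunctor V) :=
    (Groth.Agent.Helper9.TopShriek.jadj V).rightAdjoint_preservesLimits
  have : PreservesFiniteLimits (CohTop.restrFunctor V) :=
    PreservesLimitsOfSize.preservesFiniteLimits.{u, u} _
  have : PreservesFiniteLimits (LocCohZ.sectSuppF (UY W V)) :=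
    Groth.Agent.Helper9.SectSuppExact.instPreservesFiniteLimitsAbSectSuppF _
  have : PreservesFiniteLimits (CohTop.push (CohCx.incl V)) := inferInstance
  unfold SuppFam.sectSuppLC
  infer_instance

/-- `ℋ^q_Z ≅ a(V' ↦ Ext^q(ℤ_{V ⊓ V'}/ℤ_{W ⊓ V'}, -))` -/
noncomputable def HZshLCIso (h : W ≤ V) (q : ℕ) :
    SuppFam.HZshLC h q ≅
      Groth.Agent.Helper9.ExtPshDelta.T.{u} (G h) q ⋙
        presheafToSheaf (Opens.grothendieckTopology X) AddCommGrpCat.{u} :=
  Groth.Agent.Helper9.ShExtPsh.iso (Opens.grothendieckTopology X) (G h)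
    (SuppFam.sectSuppLC h) (e0 h) q

/-- the presheaf `V' ↦ Ext^q(ℤ_{V ⊓ V'}/ℤ_{W ⊓ V'}, F)` is the prelude's `HZpre` -/
noncomputable def pshIso (h : W ≤ V) (F : CohTop.Ab X) (q : ℕ) :
    (Groth.Agent.Helper9.ExtPshDelta.T.{u} (G h) q).obj F ≅ SuppFam.HZpre F q h :=
  NatIso.ofComponents (fun V' => Iso.refl _) (by
    intro V' V'' g
    apply AddCommGrpCat.hom_ext
    apply AddMonoidHom.ext
    intro (x : LocCohZ.HZ F q (hpL h V'.unop))
    rfl)

theorem main (h : W ≤ V) (F : CohTop.Ab X) (q : ℕ) :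
    Nonempty ((SuppFam.HZshLC h q).obj F ≅
      (presheafToSheaf (Opens.grothendieckTopology X) AddCommGrpCat.{u}).obj
        (SuppFam.HZpre F q h)) :=
  ⟨(HZshLCIso h q).app F ≪≫
    (presheafToSheaf (Opens.grothendieckTopology X) AddCommGrpCat.{u}).mapIso (pshIso h F q)⟩

end Groth.Agent.Helper9.HZshLCPsh
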