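import Mathlib
import Groth.Prelude.Def_LocCohZ
import Groth.Agent.Helper9.HZshCrit
import Groth.Agent.Lead.CohTopC

set_option autoImplicit false

/-!
# Vanishing of `ℋ^i_Z(F)` and the restriction maps `H^i(V, F) → H^i(V ∩ U, F)`
-/

namespace Groth.Agent.Helper9.HZshRes

open CategoryTheory TopologicalSpace Opposite Limits Abelian
open Groth.Agent.Helper9.GammaZSect Groth.Agent.Helper9.GammaZExt Groth.Agent.Helper9.HZshPsh
open Groth.Agent.Helper9.HZshVanish Groth.Agent.Helper9.HZshCrit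

universe u

variable {X : TopCat.{u}}

lemma extClass_comp_f_comp {𝒜 : Type*} [Category 𝒜] [Abelian 𝒜] [HasExt.{u} 𝒜]
    {S : ShortComplex 𝒜} (hS : S.ShortExact) {Y : 𝒜} {n m : ℕ} (ξ : Ext.{u} S.X₂ Y n)
    (hm : 1 + n = m) :
    hS.extClass.comp ((Ext.mk₀ S.f).comp ξ (zero_add n)) hm = 0 := by
  rw [← Ext.comp_assoc_of_second_deg_zero, hS.extClass_comp, Ext.zero_comp]

section Pair

variable (F : CohTop.Ab X) {W V : Opens X} (h : W ≤ V)

lemma res_eq (n : ℕ) (ξ : CohTop.HU F n V) :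
    CohTop.res F n h ξ =
      (Ext.mk₀ (CohCx.freeSheafMap (Opens.grothendieckTopology X) (homOfLE h))).comp
        (ξ : Ext (CohCx.freeSheaf (Opens.grothendieckTopology X) V) F n) (zero_add n) := rfl

/-- `res ∘ toHU = 0` -/
lemma res_toHU (n : ℕ) (x : LocCohZ.HZ F n h) : CohTop.res F n h (LocCohZ.toHU F n h x) = 0 := by
  rw [res_eq]
  show (Ext.mk₀ _).comp ((Ext.mk₀ _).comp x (zero_add n)) (zero_add n) = 0
  rw [Ext.mk₀_comp_mk₀_assoc, cokernel.condition, Ext.mk₀_zero, Ext.zero_comp]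

/-- `ker res = im toHU` -/
lemma exists_toHU_eq (n : ℕ) (ξ : CohTop.HU F n V) (hξ : CohTop.res F n h ξ = 0) :
    ∃ x : LocCohZ.HZ F n h, LocCohZ.toHU F n h x = ξ :=
  Ext.contravariant_sequence_exact₂ (LocCohZ.zqSeq_shortExact h) F
    (ξ : Ext (CohCx.freeSheaf (Opens.grothendieckTopology X) V) F n) hξ

/-- `ker δ = im res` -/
lemma exists_res_eq (n : ℕ) (η : CohTop.HU F n W) {n₁ : ℕ} (hn₁ : 1 + n = n₁)
    (hη : (LocCohZ.zqSeq_shortExact h).extClass.comp
      (η : Ext (CohCx.freeSheaf (Opens.grothendieckTopology X) W) F n) hn₁ = 0) :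
    ∃ ξ : CohTop.HU F n V, CohTop.res F n h ξ = η :=
  Ext.contravariant_sequence_exact₁ (LocCohZ.zqSeq_shortExact h) F
    (η : Ext (CohCx.freeSheaf (Opens.grothendieckTopology X) W) F n) hn₁ hη

/-- `ker toHU = im δ` -/
lemma exists_delta_eq (n : ℕ) (x : LocCohZ.HZ F (n + 1) h)
    (hx : LocCohZ.toHU F (n + 1) h x = 0) :
    ∃ η : CohTop.HU F n W, (LocCohZ.zqSeq_shortExact h).extClass.comp
      (η : Ext (CohCx.freeSheaf (Opens.grothendieckTopology X) W) F n) (add_comm 1 n) = x :=
  Ext.contravariant_sequence_exact₃ (LocCohZ.zqSeq_shortExact h) F x hx (add_comm 1 n)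

/-- `toHU` is injective in degree `0` -/
lemma toHU_zero_injective : Function.Injective (LocCohZ.toHU F 0 h) :=
  Ext.precomp_mk₀_injective_of_epi F (cokernel.π _)

/-- `toHU` is injective in degree `n + 1` if `res` is surjective in degree `n` -/
lemma toHU_succ_injective (n : ℕ) (hs : Function.Surjective (CohTop.res F n h)) :
    Function.Injective (LocCohZ.toHU F (n + 1) h) := by
  rw [injective_iff_map_eq_zero]
  intro x hx
  obtain ⟨η, rfl⟩ := exists_delta_eq F h n x hx
  obtain ⟨ξ, rfl⟩ := hs η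
  exact extClass_comp_f_comp (LocCohZ.zqSeq_shortExact h)
    (ξ : Ext.{u} (CohCx.freeSheaf (Opens.grothendieckTopology X) V) F n) (add_comm 1 n)

theorem res_criterion (N : ℕ) :
    (∀ i, i ≤ N → Subsingleton (LocCohZ.HZ F i h)) ↔
      (∀ i, i < N → Function.Bijective (CohTop.res F i h)) ∧
        Function.Injective (CohTop.res F N h) := by
  constructor
  · intro hs
    have hinj : ∀ i, i ≤ N → Function.Injective (CohTop.res F i h) := by
      intro i hi
      rw [injective_iff_map_eq_zero]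
      intro ξ hξ
      obtain ⟨x, rfl⟩ := exists_toHU_eq F h i ξ hξ
      haveI := hs i hi
      rw [Subsingleton.elim x 0, map_zero]
    refine ⟨fun i hi => ⟨hinj i hi.le, fun η => ?_⟩, hinj N le_rfl⟩
    haveI : Subsingleton (Ext.{u} (LocCohZ.zqSeq h).X₃ F (1 + i)) := hs (1 + i) (by omega)
    exact exists_res_eq F h i η rfl (Subsingleton.elim _ _)
  · rintro ⟨hb, hN⟩ i hi
    have hinj : Function.Injective (CohTop.res F i h) := by
      rcases Nat.lt_or_ge i N with hlt | hge
      · exact (hb i hlt).1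
      · obtain rfl : i = N := le_antisymm hi hge
        exact hN
    have htoHU : Function.Injective (LocCohZ.toHU F i h) := by
      rcases i with _ | k
      · exact toHU_zero_injective F h
      · exact toHU_succ_injective F h k (hb k (by omega)).2
    refine subsingleton_of_forall_eq 0 fun x => ?_
    apply htoHU
    apply hinj
    rw [res_toHU, map_zero, map_zero]

/-- `toHU` commutes with change of pair -/
lemma toHU_resZ (n : ℕ) {W' V' : Opens X} (h' : W' ≤ V') (hW : W' ≤ W) (hV' : V' ≤ V)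
    (x : LocCohZ.HZ F n h) :
    LocCohZ.toHU F n h' (LocCohZ.resZ F n h h' hW hV' x) =
      CohTop.res F n hV' (LocCohZ.toHU F n h x) := by
  rw [res_eq]
  show (Ext.mk₀ _).comp ((Ext.mk₀ _).comp x (zero_add n)) (zero_add n) =
    (Ext.mk₀ _).comp ((Ext.mk₀ _).comp x (zero_add n)) (zero_add n)
  rw [Ext.mk₀_comp_mk₀_assoc, Ext.mk₀_comp_mk₀_assoc]
  congr 2
  exact cokernel.π_desc _ _ _

lemma res_res (n : ℕ) {V' V'' : Opens X} (h1 : V' ≤ V) (h2 : V'' ≤ V') (ξ : CohTop.HU F n V) :
    CohTop.res F n h2 (CohTop.res F n h1 ξ) = CohTop.res F n (h2.trans h1) ξ := by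
  have key : ∀ ξ' : Ext.{u} (CohCx.freeSheaf (Opens.grothendieckTopology X) V) F n,
      (Ext.mk₀ (CohCx.freeSheafMap (Opens.grothendieckTopology X) (homOfLE h2))).comp
        ((Ext.mk₀ (CohCx.freeSheafMap (Opens.grothendieckTopology X) (homOfLE h1))).comp ξ'
          (zero_add n)) (zero_add n) =
      (Ext.mk₀ (CohCx.freeSheafMap (Opens.grothendieckTopology X) (homOfLE (h2.trans h1)))).comp ξ'
        (zero_add n) := by
    intro ξ'
    rw [Ext.mk₀_comp_mk₀_assoc, ← CohFree.freeSheafMap_comp]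
    rfl
  exact key ξ

end Pair

lemma surjective_res_of_eq (F : CohTop.Ab X) (n : ℕ) {W V W' V' : Opens X} (h : W ≤ V)
    (h' : W' ≤ V') (hW : W = W') (hV : V = V') (hs : Function.Surjective (CohTop.res F n h)) :
    Function.Surjective (CohTop.res F n h') := by
  subst hW
  subst hV
  exact hs

/-- the sheafification of a presheaf all of whose sections are locally zero vanishes -/
lemma isZero_sheafify_of_locally_zero (P : (Opens X)ᵒᵖ ⥤ AddCommGrpCat.{u})
    (h : ∀ (V : Opens X) (x : P.obj (op V)), ∃ (ι : Type u) (W : ι → Opens X)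
      (hW : ∀ k, W k ≤ V), V ≤ iSup W ∧ ∀ k, P.map (homOfLE (hW k)).op x = 0) :
    IsZero ((presheafToSheaf (Opens.grothendieckTopology X) AddCommGrpCat.{u}).obj P) := by
  have key : ∀ (G : CohTop.Ab X) (φ : P ⟶ G.obj), φ = 0 := by
    intro G φ
    ext V : 2
    apply AddCommGrpCat.hom_ext
    apply AddMonoidHom.ext
    intro x
    obtain ⟨ι, W, hW, hcov, hx⟩ := h V.unop x
    show φ.app V x = 0
    refine TopCat.Sheaf.eq_of_locally_eq' G W V.unop (fun k => homOfLE (hW k)) hcov _ _ ?_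
    intro k
    rw [map_zero]
    have := ConcreteCategory.congr_hom (φ.naturality (homOfLE (hW k)).op) x
    simp only [ConcreteCategory.comp_apply] at this
    rw [← this, hx k, map_zero]
  rw [IsZero.iff_id_eq_zero]
  apply ((sheafificationAdjunction (Opens.grothendieckTopology X) AddCommGrpCat.{u}).homEquiv P
    _).injective
  rw [key _ (((sheafificationAdjunction (Opens.grothendieckTopology X)
    AddCommGrpCat.{u}).homEquiv P _) (𝟙 _)), key _ (((sheafificationAdjunction
    (Opens.grothendieckTopology X) AddCommGrpCat.{u}).homEquiv P _) 0)]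

section Closed

variable (U : Opens X) (F : CohTop.Ab X)

theorem main_iff (N : ℕ) :
    (∀ i : ℕ, i ≤ N → IsZero ((LocCohZ.HZsh U i).obj F)) ↔
      ∀ V : Opens X, (∀ i : ℕ, i < N →
          Function.Bijective (CohTop.res F i (inf_le_left : V ⊓ U ≤ V))) ∧
        Function.Injective (CohTop.res F N (inf_le_left : V ⊓ U ≤ V)) := by
  have h1 := Groth.Agent.Helper9.HZshCrit.main U F (N + 1)
  constructor
  · intro hz V
    rw [← res_criterion]
    intro i hi
    exact h1.1 (fun j hj => hz j (by omega)) V i (by omega)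
  · intro hr i hi
    refine h1.2 (fun V j hj => ?_) i (by omega)
    exact (res_criterion F (inf_le_left : V ⊓ U ≤ V) N).2 (hr V) j (by omega)

theorem main_of_bijective (N : ℕ) (hN : 0 < N)
    (h : ∀ (V : Opens X) (i : ℕ), i < N →
      Function.Bijective (CohTop.res F i (inf_le_left : V ⊓ U ≤ V))) :
    ∀ i : ℕ, i ≤ N → IsZero ((LocCohZ.HZsh U i).obj F) := by
  obtain ⟨M, rfl⟩ : ∃ M, N = M + 1 := ⟨N - 1, by omega⟩
  have hlow : ∀ i, i ≤ M → IsZero ((LocCohZ.HZsh U i).obj F) :=
    (main_iff U F M).2 (fun V => ⟨fun i hi => h V i (by omega), (h V M (by omega)).1⟩)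
  intro i hi
  rcases Nat.lt_or_ge i (M + 1) with hlt | hge
  · exact hlow i (by omega)
  obtain rfl : i = M + 1 := le_antisymm hi hge
  refine IsZero.of_iso ?_ ((HZshIso U (M + 1)).app F)
  show IsZero ((presheafToSheaf (Opens.grothendieckTopology X) AddCommGrpCat.{u}).obj
    ((Groth.Agent.Helper9.ExtPshDelta.T.{u} (G (le_top : U ≤ ⊤)) (M + 1)).obj F))
  apply isZero_sheafify_of_locally_zero
  intro V' (x : LocCohZ.HZ F (M + 1) (hp U V'))
  obtain ⟨ι, W, hW, hsup, hz⟩ := Groth.Agent.Lead.CohTopB.kill_class (⊤ ⊓ V') M F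
    (LocCohZ.toHU F (M + 1) (hp U V') x)
  have hWV : ∀ k, W k ≤ V' := fun k => (hW k).trans inf_le_right
  refine ⟨ι, W, hWV, ?_, fun k => ?_⟩
  · rw [hsup]
    exact le_inf le_top le_rfl
  · show LocCohZ.resZ F (M + 1) (hp U V') (hp U (W k)) (inf_le_inf_left U (hWV k))
      (inf_le_inf_left ⊤ (hWV k)) x = 0
    have hsurj : Function.Surjective (CohTop.res F M (hp U (W k))) :=
      surjective_res_of_eq F M (inf_le_left : W k ⊓ U ≤ W k) (hp U (W k)) (inf_comm _ _)
        (top_inf_eq _).symm (h (W k) M (by omega)).2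
    apply toHU_succ_injective F (hp U (W k)) M hsurj
    rw [toHU_resZ, map_zero]
    have h2 : CohTop.res F (M + 1) (inf_le_inf_left ⊤ (hWV k) : ⊤ ⊓ W k ≤ ⊤ ⊓ V')
        (LocCohZ.toHU F (M + 1) (hp U V') x) =
        CohTop.res F (M + 1) (inf_le_right : ⊤ ⊓ W k ≤ W k)
          (CohTop.res F (M + 1) (hW k) (LocCohZ.toHU F (M + 1) (hp U V') x)) := by
      rw [res_res]
    rw [h2]
    have h3 : CohTop.res F (M + 1) (hW k) (LocCohZ.toHU F (M + 1) (hp U V') x) = 0 := hz k
    rw [h3, map_zero]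

end Closed

end Groth.Agent.Helper9.HZshRes
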