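import Mathlib
import Groth.Prelude.Def_EtBase
import Groth.Agent.Helper3.HensIsolated
import Groth.Agent.Helper4.SchLQF

/-! Geometry of étale schemes over a henselian local base: finite neighbourhoods of points of the
closed fibre, and the refinement of étale coverings of finite étale schemes by finite members. -/

set_option autoImplicit false
set_option linter.style.haveILetI false
set_option linter.unusedSectionVars false
universe u

open CategoryTheory CategoryTheory.Limits Opposite AlgebraicGeometry

namespace Groth.Agent.Helper9.HensGeom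

/-- an étale scheme over a henselian local base has, around each point of its closed fibre, an open
neighbourhood which is finite over the base -/
theorem exists_finite_nhd (A : Type u) [CommRing A] [HenselianLocalRing A]
    (T : Scheme.{u}) (f : T ⟶ Spec (CommRingCat.of A)) [Etale f] (t : T)
    (ht : f.base t = IsLocalRing.closedPoint A) :
    ∃ U : T.Opens, t ∈ U ∧ IsFinite (U.ι ≫ f) := by
  obtain ⟨_, ⟨(T₀ : T.Opens), hT₀, rfl⟩, htT₀, -⟩ := T.isBasis_affineOpens.exists_subset_of_mem_open
    (Set.mem_univ t) isOpen_univ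
  haveI : IsAffine T₀.toScheme := hT₀
  let g : T₀.toScheme ⟶ Spec (CommRingCat.of A) := T₀.ι ≫ f
  haveI : Etale g := inferInstance
  haveI : LocallyQuasiFinite g := Groth.Agent.Helper4.SchLQF.locallyQuasiFinite_of_etale g
  haveI : IsSeparated g := inferInstance
  let t₀ : T₀.toScheme := ⟨t, htT₀⟩
  have ht₀ : g.base t₀ = IsLocalRing.closedPoint A := ht
  have hdisc : _root_.IsDiscrete (g.base ⁻¹' {IsLocalRing.closedPoint A}) :=
    g.isDiscrete_preimage_singleton _
  haveI : DiscreteTopology ↥(g.base ⁻¹' {IsLocalRing.closedPoint A}) := hdisc.to_subtype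
  obtain ⟨V, -, ht₀V, -, hVf, -⟩ := Groth.Agent.Helper3.HensIsolated.exists_finite_clopen A
    T₀.toScheme g t₀ ht₀ (isOpen_discrete _)
  have hfin : IsFinite ((T₀.ι ''ᵁ V).ι ≫ f) := by
    rw [← Scheme.Hom.isoImage_inv_ι T₀.ι V, Category.assoc, Category.assoc]
    infer_instance
  exact ⟨T₀.ι ''ᵁ V, ⟨t₀, ht₀V, rfl⟩, hfin⟩

/-- an open subset of a scheme finite over a local base which contains the closed fibre is
everything -/
theorem eq_top_of_closedFibre (A : Type u) [CommRing A] [IsLocalRing A]
    (W : Scheme.{u}) (g : W ⟶ Spec (CommRingCat.of A)) [IsFinite g] (O : W.Opens)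
    (h : ∀ w : W, g.base w = IsLocalRing.closedPoint A → w ∈ O) : O = ⊤ := by
  by_contra hne
  have : ∃ z : W, z ∉ O := by
    by_contra hcon
    push Not at hcon
    exact hne (top_le_iff.1 fun z _ => hcon z)
  obtain ⟨z, hz⟩ := this
  have hcl : IsClosed (g.base '' ((O : Set W)ᶜ)) := g.isClosedMap _ O.isOpen.isClosed_compl
  have h1 : g.base z ∈ g.base '' ((O : Set W)ᶜ) := ⟨z, hz, rfl⟩
  have h2 : IsLocalRing.closedPoint A ∈ g.base '' ((O : Set W)ᶜ) :=
    (IsLocalRing.specializes_closedPoint (g.base z)).mem_closed hcl h1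
  obtain ⟨z', hz', hz''⟩ := h2
  exact hz' (h z' hz'')

section Site

set_option backward.isDefEq.respectTransparency.types false in
theorem etale_left {X : Scheme.{u}} {U V : X.Etale} (g : U ⟶ V) : Etale g.left := by
  have h1 : Etale V.hom := V.prop
  have h2 : Etale (g.left ≫ V.hom) := by
    rw [MorphismProperty.Over.w g]
    exact U.prop
  exact MorphismProperty.of_postcomp (W := @Etale) (W' := @Etale) g.left V.hom h1 h2

variable (A : Type u) [CommRing A] [HenselianLocalRing A]

set_option backward.isDefEq.respectTransparency.types false in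
/-- a covering sieve of an étale scheme over a henselian local base has, through each point of the
closed fibre, a member which is finite over the base -/
theorem exists_finite_member {W : (Spec (CommRingCat.of A)).Etale} (S : Sieve W)
    (hS : S ∈ (Spec (CommRingCat.of A)).smallEtaleTopology W) (w : W.left)
    (hw : W.hom.base w = IsLocalRing.closedPoint A) :
    ∃ (V : (Spec (CommRingCat.of A)).Etale) (f : V ⟶ W), S f ∧ IsFinite V.hom ∧
      w ∈ Set.range f.left.base := by
  have eY : (Spec (CommRingCat.of A)).smallEtaleTopology =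
      ((Spec (CommRingCat.of A)).smallPretopology (P := EtCoh.etaleMP)
        (Q := EtCoh.etaleMP)).toGrothendieck :=
    Scheme.smallGrothendieckTopology_eq_toGrothendieck_smallPretopology _ le_rfl
  rw [eY] at hS
  replace hS := (Scheme.mem_toGrothendieck_smallPretopology W S).1 hS
  obtain ⟨U, g, u, hg, -, hu⟩ := hS w
  have hUu : U.hom.base u = IsLocalRing.closedPoint A := by
    have e : g.left ≫ W.hom = U.hom := Over.w g.hom
    rw [← hw, ← hu, ← Scheme.Hom.comp_apply, e]
  haveI : Etale U.hom := U.prop
  obtain ⟨O, huO, hfin⟩ := exists_finite_nhd A U.left U.hom u hUu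
  let V : (Spec (CommRingCat.of A)).Etale := Scheme.Etale.mk (O.ι ≫ U.hom)
  let j : V ⟶ U := MorphismProperty.Over.homMk O.ι rfl trivial
  refine ⟨V, j ≫ g, S.downward_closed hg j, hfin, ?_⟩
  refine ⟨(⟨u, huO⟩ : O.toScheme), ?_⟩
  rw [← hu]
  rfl

set_option backward.isDefEq.respectTransparency.types false in
/-- a sieve on a finite étale scheme over a local base is covering as soon as its members cover
the closed fibre -/
theorem mem_of_closedFibre {W : (Spec (CommRingCat.of A)).Etale} (hW : IsFinite W.hom)
    (S : Sieve W)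
    (h : ∀ w : W.left, W.hom.base w = IsLocalRing.closedPoint A →
      ∃ (V : (Spec (CommRingCat.of A)).Etale) (f : V ⟶ W), S f ∧ w ∈ Set.range f.left.base) :
    S ∈ (Spec (CommRingCat.of A)).smallEtaleTopology W := by
  have eY : (Spec (CommRingCat.of A)).smallEtaleTopology =
      ((Spec (CommRingCat.of A)).smallPretopology (P := EtCoh.etaleMP)
        (Q := EtCoh.etaleMP)).toGrothendieck :=
    Scheme.smallGrothendieckTopology_eq_toGrothendieck_smallPretopology _ le_rfl
  rw [eY]
  refine (Scheme.mem_toGrothendieck_smallPretopology W S).2 ?_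
  let O : W.left.Opens :=
    ⟨⋃ p : {p : Σ V : (Spec (CommRingCat.of A)).Etale, (V ⟶ W) // S p.2},
      Set.range p.1.2.left.base, isOpen_iUnion fun p => by
        haveI : Etale p.1.2.left := etale_left p.1.2
        exact p.1.2.left.isOpenMap.isOpen_range⟩
  have hO : O = ⊤ := by
    refine eq_top_of_closedFibre A W.left W.hom O fun w hw => ?_
    obtain ⟨V, f, hf, hwf⟩ := h w hw
    exact Set.mem_iUnion.2 ⟨⟨⟨V, f⟩, hf⟩, hwf⟩
  intro x
  have hx : x ∈ O := hO ▸ trivial
  obtain ⟨⟨⟨V, f⟩, hf⟩, ⟨v, hv⟩⟩ := Set.mem_iUnion.1 hx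
  exact ⟨V, f, v, hf, etale_left f, hv⟩

end Site

end Groth.Agent.Helper9.HensGeom
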