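import Mathlib
import Groth.Prelude.Def_EtBase
import Groth.Prelude.Def_EtShriek2
import Groth.Agent.Helper9.HensGeom
import Groth.Agent.Helper9.EtJCont
import Groth.Agent.Helper9.EtShriekOpen
import Groth.Agent.Helper9.EtStalkExact

/-! The class of abelian étale sheaves on a henselian local scheme which vanish on all finite
étale schemes: closure properties. -/

set_option autoImplicit false
set_option linter.style.haveILetI false
set_option linter.unusedSectionVars false
universe u

open CategoryTheory CategoryTheory.Limits Opposite AlgebraicGeometry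

namespace Groth.Agent.Helper9.HensClassG

open Groth.Agent.Helper9.HensGeom

theorem isSheaf_forget {X : Scheme.{u}} (F : EtCoh.Ab X) :
    Presieve.IsSheaf X.smallEtaleTopology (F.obj ⋙ forget AddCommGrpCat) :=
  (isSheaf_iff_isSheaf_of_type _ _).mp
    ((Presheaf.isSheaf_iff_isSheaf_forget _ _ (forget AddCommGrpCat)).mp F.property)

/-- a section vanishing on a covering sieve vanishes -/
theorem eq_zero_of_mem {X : Scheme.{u}} (F : EtCoh.Ab X) {U : X.Etale} (s : F.obj.obj (op U))
    (hcov : Presheaf.equalizerSieve (F := F.obj) (X := op U) s 0 ∈ X.smallEtaleTopology U) :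
    s = 0 :=
  ((isSheaf_forget F) _ hcov).isSeparatedFor.ext (fun Z g hg => hg)

theorem injective_of_mono {X : Scheme.{u}} {F G : EtCoh.Ab X} (a : F ⟶ G) [Mono a]
    (U : X.Etale) : Function.Injective (a.hom.app (op U)) := by
  have h1 : Mono ((sheafToPresheaf _ _).map a) := inferInstance
  have h2 := (NatTrans.mono_iff_mono_app _).1 h1 (op U)
  exact (AddCommGrpCat.mono_iff_injective _).1 h2

variable (A : Type u) [CommRing A] [HenselianLocalRing A]

/-- the sheaf vanishes on all finite étale schemes over the base -/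
def Gcl (G : EtCoh.Ab (Spec (CommRingCat.of A))) : Prop :=
  ∀ W : (Spec (CommRingCat.of A)).Etale, IsFinite W.hom → ∀ s : G.obj.obj (op W), s = 0

variable {A}

theorem Gcl_of_mono {G G' : EtCoh.Ab (Spec (CommRingCat.of A))} (a : G ⟶ G') [Mono a]
    (h : Gcl A G') : Gcl A G := by
  intro W hW s
  apply injective_of_mono a W
  rw [h W hW (a.hom.app (op W) s), map_zero]

theorem Gcl_of_epi {G G' : EtCoh.Ab (Spec (CommRingCat.of A))} (a : G ⟶ G') [Epi a]
    (h : Gcl A G) : Gcl A G' := by
  intro W hW s
  have hls : Sheaf.IsLocallySurjective a :=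
    (Sheaf.isLocallySurjective_iff_epi' AddCommGrpCat.{u + 1} _).2 inferInstance
  have him := Presheaf.imageSieve_mem (Spec (CommRingCat.of A)).smallEtaleTopology a.hom s
  apply eq_zero_of_mem
  apply mem_of_closedFibre A hW
  intro w hw
  obtain ⟨V, f, hf, hV, hwf⟩ := exists_finite_member A _ him w hw
  refine ⟨V, f, ?_, hwf⟩
  obtain ⟨t, ht⟩ := hf
  show G'.obj.map f.op s = G'.obj.map f.op 0
  rw [map_zero, ← ht, h V hV t, map_zero]

section PushRestr

set_option backward.isDefEq.respectTransparency.types false in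
theorem mem_of_surjective {X : Scheme.{u}} {U V : X.Etale} (c : V ⟶ U)
    (hc : Function.Surjective c.left.base) (S : Sieve U) (hS : S c) :
    S ∈ X.smallEtaleTopology U := by
  have eY : X.smallEtaleTopology =
      (X.smallPretopology (P := EtCoh.etaleMP) (Q := EtCoh.etaleMP)).toGrothendieck :=
    Scheme.smallGrothendieckTopology_eq_toGrothendieck_smallPretopology _ le_rfl
  rw [eY]
  refine (Scheme.mem_toGrothendieck_smallPretopology U S).2 ?_
  intro x
  obtain ⟨v, hv⟩ := hc x
  exact ⟨V, c, v, hS, etale_left c, hv⟩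

variable {V : Scheme.{u}} (π : V ⟶ Spec (CommRingCat.of A)) [Etale π]

open Groth.Agent.Helper9.EtShriekOpen Groth.Agent.Helper9.EtJCont

/-- `π_* π⁻¹ G` -/
noncomputable abbrev T (G : EtCoh.Ab (Spec (CommRingCat.of A))) : EtCoh.Ab (Spec (CommRingCat.of A)) :=
  (EtCoh.push π).obj ((EtShriek.restrAlong π).obj G)

set_option backward.isDefEq.respectTransparency.types false in
theorem isFinite_compEtale_bc [IsFinite π] (W : (Spec (CommRingCat.of A)).Etale)
    (hW : IsFinite W.hom) :
    IsFinite ((EtShriek.compEtale π).obj ((EtCoh.bc π).obj W)).hom := by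
  have h1 : ((EtShriek.compEtale π).obj ((EtCoh.bc π).obj W)).hom =
      pullback.snd W.hom π ≫ π := rfl
  rw [h1]
  have h2 : IsFinite (pullback.snd W.hom π) := MorphismProperty.pullback_snd (P := @IsFinite) _ _ hW
  exact MorphismProperty.comp_mem (W := @IsFinite) _ _ h2 inferInstance

theorem Gcl_T [IsFinite π] {G : EtCoh.Ab (Spec (CommRingCat.of A))} (h : Gcl A G) :
    Gcl A (T π G) := by
  intro W hW s
  exact h _ (isFinite_compEtale_bc π W hW) s

lemma sheafAdj_unit_app_hom_app (G : EtCoh.Ab (Spec (CommRingCat.of A)))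
    (W : (Spec (CommRingCat.of A)).Etale) :
    (((sheafAdj π).unit.app G).hom).app (op W) = G.obj.map ((siteAdj π).counit.app W).op := by
  rfl

set_option backward.isDefEq.respectTransparency.types false in
theorem surjective_counit_left [Surjective π] (W : (Spec (CommRingCat.of A)).Etale) :
    Function.Surjective ((siteAdj π).counit.app W).left.base := by
  have h1 : ((siteAdj π).counit.app W).left = pullback.fst W.hom π := by
    simp [siteAdj, MorphismProperty.Over.mapPullbackAdj]
  rw [h1]
  exact (inferInstance : Surjective (pullback.fst W.hom π)).surj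

theorem mono_unit [Surjective π] (G : EtCoh.Ab (Spec (CommRingCat.of A))) :
    Mono ((sheafAdj π).unit.app G) := by
  apply Sheaf.mono_of_injective
  rintro ⟨W⟩
  rw [injective_iff_map_eq_zero]
  intro s hs
  apply eq_zero_of_mem
  refine mem_of_surjective ((siteAdj π).counit.app W) (surjective_counit_left π W) _ ?_
  show G.obj.map ((siteAdj π).counit.app W).op s = G.obj.map ((siteAdj π).counit.app W).op 0
  rw [map_zero, ← sheafAdj_unit_app_hom_app]
  exact hs

end PushRestr

section Stalk

open Groth.Agent.Helper9.EtStalkExact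

attribute [local instance] preservesFilteredColimits_forget_ab

set_option backward.isDefEq.respectTransparency.types false in
/-- a sheaf whose stalks at the geometric points over the closed point vanish, vanishes on finite
étale schemes -/
theorem Gcl_of_stalk (G : EtCoh.Ab (Spec (CommRingCat.of A)))
    (h : ∀ (Ω : Type u) [Field Ω] [IsSepClosed Ω]
      (ξ : Spec (CommRingCat.of Ω) ⟶ Spec (CommRingCat.of A)),
      ξ.base default = IsLocalRing.closedPoint A → IsZero ((EtCoh.stalk ξ).obj G)) :
    Gcl A G := by
  intro W hW s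
  apply eq_zero_of_mem
  apply mem_of_closedFibre A hW
  intro w hw
  have hi := geomPt_default (W.hom w)
  obtain ⟨x', hx'⟩ := Scheme.pointSmallEtaleFiberObjToPreimage_surjective (geomPt (W.hom w)) hi W
    ⟨w, by simp⟩
  rw [Subtype.ext_iff] at hx'
  simp only [Functor.id_obj, Scheme.pointSmallEtaleFiberObjToPreimage_coe,
    Scheme.Etale.forget_obj_left] at hx'
  have hz : IsZero ((EtCoh.stalk (geomPt (W.hom w))).obj G) := h _ _ (hi.trans hw)
  have hsub : Subsingleton ↑((EtCoh.stalk (geomPt (W.hom w))).obj G) :=
    AddCommGrpCat.subsingleton_of_isZero hz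
  have h1 : (Scheme.pointSmallEtale (geomPt (W.hom w))).toPresheafFiber W x' G.obj s =
      (Scheme.pointSmallEtale (geomPt (W.hom w))).toPresheafFiber W x' G.obj 0 :=
    @Subsingleton.elim _ hsub _ _
  obtain ⟨V, f, v, hv, hf⟩ :=
    ((Scheme.pointSmallEtale (geomPt (W.hom w))).toPresheafFiber_eq_iff' W x' s 0).1 h1
  refine ⟨V, f, hf, ?_⟩
  refine ⟨(Scheme.pointSmallEtaleFiberObjToPreimage (geomPt (W.hom w)) hi v).1, ?_⟩
  refine Eq.trans ?_ hx'
  rw [← hv]
  rfl

end Stalk

end Groth.Agent.Helper9.HensClassG
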