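import Mathlib
import Groth.Prelude.Def_EtBase
import Groth.Prelude.Def_EtCore
import Groth.Prelude.Def_EtShriek2
import Groth.Agent.Helper9.HensClassG
import Groth.Agent.Helper9.ExtAdj2
import Groth.Agent.Helper9.ExtEfface
import Groth.Agent.Helper9.EtShriekExact
import Groth.Agent.Helper9.PushEpiAb
import Groth.Agent.Helper9.LocalBInt

/-! Vanishing of the cohomology of a henselian local scheme with coefficients in a sheaf which
vanishes on all finite étale schemes. -/

set_option autoImplicit false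
set_option linter.style.haveILetI false
set_option linter.unusedSectionVars false
universe w v₁ v₂ u₁ u₂ u

open CategoryTheory CategoryTheory.Limits Opposite AlgebraicGeometry Abelian

namespace Groth.Agent.Helper9.HensVanish

open Groth.Agent.Helper9.ExtNat Groth.Agent.Helper9.ExtAdj2

section Abstract

variable {𝒜 : Type u₁} [Category.{v₁} 𝒜] [Abelian 𝒜] {ℬ : Type u₂} [Category.{v₂} ℬ] [Abelian ℬ]
  [HasExt.{w} 𝒜] [HasExt.{w} ℬ] [EnoughInjectives 𝒜] [EnoughInjectives ℬ]
  {L : 𝒜 ⥤ ℬ} {R : ℬ ⥤ 𝒜} (adj : L ⊣ R) [L.Additive] [R.Additive]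
  [PreservesFiniteLimits L] [PreservesFiniteColimits L]
  [PreservesFiniteLimits R] [PreservesFiniteColimits R]

/-- the adjunction isomorphism on `Ext` composed with `L` is composition with the unit -/
theorem ψ_mapExactFunctor (A B : 𝒜) (n : ℕ) (e : Ext.{w} A B n) :
    ψ adj A (L.obj B) n (e.mapExactFunctor L) =
      e.comp (Ext.mk₀ (adj.unit.app B)) (add_zero n) := by
  have hnat := mapExactFunctor_natTrans (𝟭 𝒜) (L ⋙ R) adj.unit n e
  have hcomp := mapExactFunctor_comp_functor L R n e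
  rw [mapExactFunctor_id] at hnat
  rw [ψ_apply, hcomp]
  exact hnat.symm

omit [EnoughInjectives 𝒜] in
theorem eq_zero_of_section {X X' Y : 𝒜} {n : ℕ} (e : Ext.{w} X Y n) (q : X' ⟶ X) (σ : X ⟶ X')
    (hσ : σ ≫ q = 𝟙 X) (h : (Ext.mk₀ q).comp e (zero_add n) = 0) : e = 0 := by
  have h2 := congrArg (fun z => (Ext.mk₀ σ).comp z (zero_add n)) h
  simp only [Ext.comp_zero] at h2
  rwa [← Ext.comp_assoc_of_second_deg_zero, Ext.mk₀_comp_mk₀, hσ, Ext.mk₀_id_comp] at h2

end Abstract

section Const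

variable (X : Scheme.{u})

/-- the constant sheaf `ℤ` -/
noncomputable abbrev Zc : EtCoh.Ab X :=
  (constantSheaf X.smallEtaleTopology AddCommGrpCat.{u + 1}).obj (AddCommGrpCat.of (ULift.{u + 1} ℤ))

/-- the unit section of the constant sheaf -/
noncomputable def c : (Zc X).obj.obj (op (EtCoh.top X)) :=
  ((EtCore.constAdj X).unit.app (AddCommGrpCat.of (ULift.{u + 1} ℤ))) ⟨1⟩

variable {X}

/-- evaluation of a morphism from the constant sheaf at the unit section -/
noncomputable def cev {M : EtCoh.Ab X} (φ : Zc X ⟶ M) : M.obj.obj (op (EtCoh.top X)) :=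
  φ.hom.app (op (EtCoh.top X)) (c X)

lemma cev_eq {M : EtCoh.Ab X} (φ : Zc X ⟶ M) :
    cev φ = ((EtCore.constAdj X).homEquiv _ _ φ) ⟨1⟩ := by
  rw [Adjunction.homEquiv_unit]
  rfl

lemma cev_comp {M M' : EtCoh.Ab X} (φ : Zc X ⟶ M) (ψ : M ⟶ M') :
    cev (φ ≫ ψ) = ψ.hom.app (op (EtCoh.top X)) (cev φ) := rfl

lemma ulift_hom_ext {G : AddCommGrpCat.{u + 1}} (f g : AddCommGrpCat.of (ULift.{u + 1} ℤ) ⟶ G)
    (h : f ⟨1⟩ = g ⟨1⟩) : f = g := by
  ext ⟨n⟩
  have h1 : (⟨n⟩ : ULift.{u + 1} ℤ) = n • (⟨1⟩ : ULift.{u + 1} ℤ) := by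
    apply ULift.ext
    simp
  rw [h1, map_zsmul, map_zsmul, h]

lemma cev_injective (M : EtCoh.Ab X) : Function.Injective (cev (M := M)) := by
  intro φ φ' h
  rw [cev_eq, cev_eq] at h
  exact ((EtCore.constAdj X).homEquiv _ _).injective (ulift_hom_ext _ _ h)

lemma cev_surjective (M : EtCoh.Ab X) : Function.Surjective (cev (M := M)) := by
  intro x
  let f : AddCommGrpCat.of (ULift.{u + 1} ℤ) ⟶ (EtCore.gsec X).obj M :=
    AddCommGrpCat.ofHom ((zmultiplesHom _ x).comp AddEquiv.ulift.toAddMonoidHom)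
  refine ⟨((EtCore.constAdj X).homEquiv _ _).symm f, ?_⟩
  rw [cev_eq, Equiv.apply_symm_apply]
  show (1 : ℤ) • x = x
  simp

lemma cev_zero (M : EtCoh.Ab X) : cev (0 : Zc X ⟶ M) = 0 := by
  show (0 : Zc X ⟶ M).hom.app (op (EtCoh.top X)) (c X) = 0
  rfl

end Const

section Split

open Groth.Agent.Helper9.EtShriekOpen Groth.Agent.Helper9.EtJCont Groth.Agent.Helper9.HensClassG

variable {Y V : Scheme.{u}} (π : V ⟶ Y) [Etale π]

/-- the comparison `V ×_Y Y ⟶ V` over `Y` -/
noncomputable def mtop : (EtShriek.compEtale π).obj ((EtCoh.bc π).obj (EtCoh.top Y)) ⟶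
    Scheme.Etale.mk π :=
  MorphismProperty.Over.homMk (pullback.snd (𝟙 Y) π) rfl trivial

lemma unit_app_hom_app (G : EtCoh.Ab Y) (W : Y.Etale) :
    (((sheafAdj π).unit.app G).hom).app (op W) = G.obj.map ((siteAdj π).counit.app W).op := rfl

/-- an epimorphism onto the constant sheaf whose unit section lifts over `V` becomes split after
restriction to `V` -/
theorem exists_section {A' : EtCoh.Ab Y} (p : A' ⟶ Zc Y) (a : A'.obj.obj (op (Scheme.Etale.mk π)))
    (ha : p.hom.app _ a =
      (Zc Y).obj.map ((EtCore.topIsTerminal Y).from (Scheme.Etale.mk π)).op (c Y)) :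
    ∃ σ : (EtShriek.restrAlong π).obj (Zc Y) ⟶ (EtShriek.restrAlong π).obj A',
      σ ≫ (EtShriek.restrAlong π).map p = 𝟙 _ := by
  obtain ⟨τ, hτ⟩ := cev_surjective ((EtCoh.push π).obj ((EtShriek.restrAlong π).obj A'))
    (A'.obj.map (mtop π).op a)
  refine ⟨((sheafAdj π).homEquiv _ _).symm τ, ?_⟩
  apply ((sheafAdj π).homEquiv _ _).injective
  have e1 : (sheafAdj π).homEquiv _ _ (𝟙 ((EtShriek.restrAlong π).obj (Zc Y))) =
      (sheafAdj π).unit.app (Zc Y) := by
    rw [Adjunction.homEquiv_unit, CategoryTheory.Functor.map_id]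
    exact Category.comp_id _
  rw [Adjunction.homEquiv_naturality_right, Equiv.apply_symm_apply, e1]
  apply cev_injective
  rw [cev_comp, hτ]
  show p.hom.app _ (A'.obj.map (mtop π).op a) = ((sheafAdj π).unit.app (Zc Y)).hom.app _ (c Y)
  rw [unit_app_hom_app, NatTrans.naturality_apply, ha, ← Functor.map_comp_apply, ← op_comp]
  congr 3
  exact congrArg Quiver.Hom.op ((EtCore.topIsTerminal Y).hom_ext _ _)

end Split

section Instances

open Groth.Agent.Helper9.EtShriekOpen Groth.Agent.Helper9.EtJCont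

variable {Y V : Scheme.{u}} (π : V ⟶ Y) [Etale π]

instance : PreservesFiniteLimits (EtShriek.restrAlong π) := by
  have : PreservesLimitsOfSize.{0, 0} (EtShriek.restrAlong π) :=
    (EtShriek.extZeroAdj π).rightAdjoint_preservesLimits
  exact PreservesLimitsOfSize.preservesFiniteLimits _

instance : PreservesFiniteColimits (EtShriek.restrAlong π) := by
  have : PreservesColimitsOfSize.{0, 0} (EtShriek.restrAlong π) :=
    (sheafAdj π).leftAdjoint_preservesColimits
  exact PreservesColimitsOfSize.preservesFiniteColimits _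

instance : (EtShriek.restrAlong π).Additive := (sheafAdj π).left_adjoint_additive

instance : PreservesFiniteLimits (EtCoh.push π) := by
  have : PreservesLimitsOfSize.{0, 0} (EtCoh.push π) :=
    (EtCoh.pullPushAdj π).rightAdjoint_preservesLimits
  exact PreservesLimitsOfSize.preservesFiniteLimits _

instance [IsFinite π] : PreservesFiniteColimits (EtCoh.push π) :=
  Groth.Agent.Helper9.PushEpiAb.preservesFiniteColimits_push
    (Groth.Agent.Helper9.LocalG.propB_of_isIntegralHom π)

end Instances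

section Main

open Groth.Agent.Helper9.EtShriekOpen Groth.Agent.Helper9.EtJCont Groth.Agent.Helper9.HensClassG
  Groth.Agent.Helper9.HensGeom Groth.Agent.Helper9.ExtEfface

variable (A : Type u) [CommRing A] [HenselianLocalRing A]

set_option backward.isDefEq.respectTransparency.types false in
/-- a class of positive degree dies on a finite étale covering -/
theorem exists_cover_kill (G : EtCoh.Ab (Spec (CommRingCat.of A))) (n : ℕ)
    (y : Ext.{u + 1} (Zc (Spec (CommRingCat.of A))) G (n + 1)) :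
    ∃ (V : Scheme.{u}) (π : V ⟶ Spec (CommRingCat.of A)) (_ : Etale π) (_ : IsFinite π)
      (_ : Surjective π), y.mapExactFunctor (EtShriek.restrAlong π) = 0 := by
  obtain ⟨A', p, hp, hy⟩ := exists_epi_comp_eq_zero n y
  have hls : Sheaf.IsLocallySurjective p :=
    (Sheaf.isLocallySurjective_iff_epi' AddCommGrpCat.{u + 1} _).2 hp
  have him := Presheaf.imageSieve_mem (Spec (CommRingCat.of A)).smallEtaleTopology p.hom
    (c (Spec (CommRingCat.of A)))
  obtain ⟨Vobj, f, hf, hfin, hcl⟩ := exists_finite_member A _ him (IsLocalRing.closedPoint A) rfl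
  obtain ⟨a, ha⟩ := hf
  haveI : Etale Vobj.hom := Vobj.prop
  haveI : IsFinite Vobj.hom := hfin
  have hfl : f.left = Vobj.hom := (Category.comp_id f.left).symm.trans (Over.w f.hom)
  have hsurj : Surjective Vobj.hom := by
    refine ⟨fun y => ?_⟩
    have hopen : IsOpen (Set.range Vobj.hom.base) := Vobj.hom.isOpenMap.isOpen_range
    rw [hfl] at hcl
    exact (IsLocalRing.specializes_closedPoint y).mem_open hopen hcl
  refine ⟨Vobj.left, Vobj.hom, inferInstance, hfin, hsurj, ?_⟩
  have hf' : f = (EtCore.topIsTerminal (Spec (CommRingCat.of A))).from Vobj :=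
    (EtCore.topIsTerminal _).hom_ext _ _
  subst hf'
  obtain ⟨σ, hσ⟩ := exists_section (Y := Spec (CommRingCat.of A)) Vobj.hom p a ha
  have h1 := congrArg (fun z => z.mapExactFunctor (EtShriek.restrAlong Vobj.hom)) hy
  simp only [Ext.mapExactFunctor_comp, Ext.mapExactFunctor_mk₀, Ext.mapExactFunctor_zero] at h1
  exact eq_zero_of_section _ _ σ hσ h1

/-- the cohomology of a sheaf vanishing on all finite étale schemes vanishes -/
theorem vanish : ∀ (n : ℕ) (G : EtCoh.Ab (Spec (CommRingCat.of A))), Gcl A G →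
    ∀ y : Ext.{u + 1} (Zc (Spec (CommRingCat.of A))) G n, y = 0
  | 0, G, hG, y => by
    obtain ⟨φ, rfl⟩ := (Ext.mk₀_bijective _ _).2 y
    have hfin : IsFinite (EtCoh.top (Spec (CommRingCat.of A))).hom :=
      (inferInstance : IsFinite (𝟙 (Spec (CommRingCat.of A))))
    have : φ = 0 := cev_injective G (by rw [cev_zero]; exact hG _ hfin _)
    rw [this, Ext.mk₀_zero]
  | n + 1, G, hG, y => by
    obtain ⟨V, π, hπe, hπf, hπs, hy⟩ := exists_cover_kill A G n y
    haveI : Mono ((sheafAdj π).unit.app G) := mono_unit π G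
    have hS : (ShortComplex.mk ((sheafAdj π).unit.app G) (cokernel.π ((sheafAdj π).unit.app G))
        (cokernel.condition _)).ShortExact :=
      { exact := ShortComplex.exact_cokernel _ }
    have hQ : Gcl A (cokernel ((sheafAdj π).unit.app G)) :=
      Gcl_of_epi (cokernel.π ((sheafAdj π).unit.app G)) (Gcl_T π hG)
    have h0 : y.comp (Ext.mk₀ ((sheafAdj π).unit.app G)) (add_zero _) = 0 := by
      rw [← ψ_mapExactFunctor (sheafAdj π), hy, map_zero]
    obtain ⟨x₃, hx₃⟩ := Ext.covariant_sequence_exact₁ _ hS y h0 rfl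
    rw [← hx₃, vanish n _ hQ x₃, Ext.zero_comp]

end Main

end Groth.Agent.Helper9.HensVanish
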