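import Mathlib
import Groth.Prelude.Def_EtBase
import Groth.Prelude.Def_EtCore
import Groth.Agent.Helper9.HensVanish
import Groth.Agent.Helper9.ExtBij
import Groth.Agent.Helper9.EtClosedEss
import Groth.Agent.Helper9.EtStalkPull

/-! Cohomology of a henselian local scheme is the cohomology of the closed point. -/

set_option autoImplicit false
set_option linter.style.haveILetI false
set_option linter.unusedSectionVars false
universe u

open CategoryTheory CategoryTheory.Limits Opposite AlgebraicGeometry Abelian

namespace Groth.Agent.Helper9.HensClosedPt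

open Groth.Agent.Helper9.HensVanish Groth.Agent.Helper9.HensClassG Groth.Agent.Helper9.ExtAdj2
  Groth.Agent.Helper9.EtClosedEss Groth.Agent.Helper9.EtStalkPull Groth.Agent.Helper9.ExtBij

variable (A : Type u) [CommRing A] [HenselianLocalRing A]

/-- the closed point of `Spec A` -/
noncomputable abbrev r : Spec (CommRingCat.of (IsLocalRing.ResidueField A)) ⟶ Spec (CommRingCat.of A) :=
  Spec.map (CommRingCat.ofHom (IsLocalRing.residue A))

instance : IsClosedImmersion (r A) :=
  IsClosedImmersion.spec_of_surjective _ IsLocalRing.residue_surjective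

lemma closedPoint_mem_range : IsLocalRing.closedPoint A ∈ Set.range (r A).base := by
  let x : Spec (CommRingCat.of (IsLocalRing.ResidueField A)) := default
  refine ⟨x, ?_⟩
  exact IsLocalRing.PrimeSpectrum.comap_residue A x

/-- a functor preserving finite limits sends zero objects to zero objects -/
lemma isZero_obj_of_isZero {𝒞 𝒟 : Type*} [Category 𝒞] [Category 𝒟] [HasZeroObject 𝒟]
    [HasZeroMorphisms 𝒟] (Φ : 𝒞 ⥤ 𝒟) [PreservesFiniteLimits Φ]
    {X : 𝒞} (hX : IsZero X) : IsZero (Φ.obj X) := by
  have ht : IsTerminal (Φ.obj X) := IsTerminal.isTerminalObj Φ X hX.isTerminal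
  exact (isZero_zero 𝒟).of_iso (IsTerminal.uniqueUpToIso ht (isZero_zero 𝒟).isTerminal)

variable [PreservesFiniteLimits (EtCoh.pull (r A))]

/-- sheaves with zero pullback to the closed point vanish on finite étale schemes -/
theorem Gcl_of_isZero_pull (G : EtCoh.Ab (Spec (CommRingCat.of A)))
    (hG : IsZero ((EtCoh.pull (r A)).obj G)) : Gcl A G := by
  apply Gcl_of_stalk
  intro Ω _ _ ξ hξ
  have hnd : ¬ Disjoint (Set.range ξ.base) (Set.range (r A).base) := by
    rw [Set.not_disjoint_iff]
    exact ⟨_, ⟨default, hξ⟩, closedPoint_mem_range A⟩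
  obtain ⟨ζ, rfl⟩ := exists_lift_geomPt (r A) ξ hnd
  have h1 : IsZero ((EtCoh.stalk ζ).obj ((EtCoh.pull (r A)).obj G)) :=
    isZero_obj_of_isZero (EtCoh.stalk ζ) hG
  exact h1.of_iso ((stalkPullIso (r A) ζ).app G).symm

variable (F : EtCoh.Ab (Spec (CommRingCat.of A)))

lemma isZero_pull_kernel :
    IsZero ((EtCoh.pull (r A)).obj (kernel ((EtCoh.pullPushAdj (r A)).unit.app F))) := by
  haveI := isIso_pull_map_unit (r A) F
  exact (isZero_kernel_of_mono ((EtCoh.pull (r A)).map ((EtCoh.pullPushAdj (r A)).unit.app F))).of_iso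
    (PreservesKernel.iso (EtCoh.pull (r A)) _)

lemma isZero_pull_cokernel :
    IsZero ((EtCoh.pull (r A)).obj (cokernel ((EtCoh.pullPushAdj (r A)).unit.app F))) := by
  haveI := isIso_pull_map_unit (r A) F
  exact (isZero_cokernel_of_epi ((EtCoh.pull (r A)).map ((EtCoh.pullPushAdj (r A)).unit.app F))).of_iso
    (PreservesCokernel.iso (EtCoh.pull (r A)) _)

instance : PreservesFiniteColimits (EtCoh.push (r A)) :=
  Groth.Agent.Helper9.PushEpiAb.preservesFiniteColimits_push
    (Groth.Agent.Helper9.LocalG.propB_of_isIntegralHom (r A))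

/-- composition with the unit is bijective on cohomology -/
theorem bijective_comp_unit (n : ℕ) :
    Function.Bijective (fun y : Ext.{u + 1} (Zc (Spec (CommRingCat.of A))) F n =>
      y.comp (Ext.mk₀ ((EtCoh.pullPushAdj (r A)).unit.app F)) (add_zero n)) :=
  bijective_comp _ _
    (fun m y => vanish A m _ (Gcl_of_isZero_pull A _ (isZero_pull_kernel A F)) y)
    (fun m y => vanish A m _ (Gcl_of_isZero_pull A _ (isZero_pull_cokernel A F)) y) n

/-- the pullback functor is bijective on `Ext` out of the constant sheaf -/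
theorem bijective_mapExactFunctor (n : ℕ) :
    Function.Bijective (fun y : Ext.{u + 1} (Zc (Spec (CommRingCat.of A))) F n =>
      y.mapExactFunctor (EtCoh.pull (r A))) := by
  have h1 := bijective_comp_unit A F n
  have h2 : (fun y : Ext.{u + 1} (Zc (Spec (CommRingCat.of A))) F n =>
      y.comp (Ext.mk₀ ((EtCoh.pullPushAdj (r A)).unit.app F)) (add_zero n)) =
      (equiv (EtCoh.pullPushAdj (r A)) _ _ n) ∘
        (fun y => y.mapExactFunctor (EtCoh.pull (r A))) := by
    funext y
    exact (ψ_mapExactFunctor (EtCoh.pullPushAdj (r A)) _ _ n y).symm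
  rw [h2] at h1
  exact (Function.Bijective.of_comp_iff' (equiv (EtCoh.pullPushAdj (r A)) _ _ n).bijective _).1 h1

theorem main (n : ℕ) : Function.Bijective (EtCore.Hpull (r A) F n) := by
  have h1 := bijective_mapExactFunctor A F n
  have h2 := bijective_iso_comp (EtCore.pullConst (r A) ℤ).inv ((EtCoh.pull (r A)).obj F) n
  exact h2.comp h1

end Groth.Agent.Helper9.HensClosedPt
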