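import Mathlib

/-!
# Stalkwise description of the unit `F ⟶ f_* f^* F` for sheaves of sets
-/

set_option autoImplicit false

namespace Groth.Agent.Helper9.SpecA

open CategoryTheory TopologicalSpace Opposite TopCat

universe u

section Pt

variable {Y : TopCat.{u}} (y : Y) (A : Type u)

/-- The point presheaf `V ↦ (y ∈ V → A)`. -/
def ptPresheaf : TopCat.Presheaf (Type u) Y where
  obj V := (y ∈ V.unop → A)
  map {V V'} i := TypeCat.ofHom (fun s hy => s (leOfHom i.unop hy))
  map_id _ := rfl
  map_comp _ _ := rfl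

lemma ptPresheaf_isSheaf : (ptPresheaf y A).IsSheaf := by
  rw [TopCat.Presheaf.isSheaf_iff_isSheafUniqueGluing_types]
  intro ι U sf hsf
  let sf' : ∀ i, y ∈ U i → A := fun i => sf i
  have hcompat : ∀ (i j : ι) (hi : y ∈ U i) (hj : y ∈ U j), sf' i hi = sf' j hj := by
    intro i j hi hj
    have := congrFun (hsf i j) ⟨hi, hj⟩
    exact this
  let s : y ∈ iSup U → A := fun h =>
    sf' (Opens.mem_iSup.1 h).choose (Opens.mem_iSup.1 h).choose_spec
  refine ⟨s, ?_, ?_⟩
  · intro i
    funext hy
    exact hcompat _ i _ hy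
  · intro s' hs'
    funext hy
    have := congrFun (hs' (Opens.mem_iSup.1 hy).choose) (Opens.mem_iSup.1 hy).choose_spec
    exact this

/-- The point sheaf. -/
def ptSheaf : TopCat.Sheaf (Type u) Y := ⟨ptPresheaf y A, ptPresheaf_isSheaf y A⟩

/-- The morphism to the point sheaf attached to a function on the stalk. -/
noncomputable def skyOf (H : TopCat.Presheaf (Type u) Y) (g : ToType (H.stalk y) → A) :
    H ⟶ ptPresheaf y A where
  app V := TypeCat.ofHom (fun γ hy => g (H.germ V.unop y hy γ))
  naturality V V' i := by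
    ext γ
    funext hy
    change g (H.germ V'.unop y hy (H.map i γ)) = g (H.germ V.unop y (leOfHom i.unop hy) γ)
    rw [TopCat.Presheaf.germ_res_apply']

lemma skyOf_app (H : TopCat.Presheaf (Type u) Y) (g : ToType (H.stalk y) → A) (V : Opens Y)
    (γ : ToType (H.obj (op V))) (hy : y ∈ V) :
    ((skyOf y A H g).app (op V) γ : y ∈ V → A) hy = g (H.germ V y hy γ) := rfl

end Pt

section Unit

variable {X Y : TopCat.{u}} (f : Y ⟶ X) (F : TopCat.Sheaf (Type u) X)

/-- the pullback sheaf -/
noncomputable abbrev pb : TopCat.Sheaf (Type u) Y := (TopCat.Sheaf.pullback (Type u) f).obj F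

/-- the unit on sections -/
noncomputable def η (U : Opens X) (t : ToType (F.obj.obj (op U))) :
    ToType ((pb f F).obj.obj (op ((Opens.map f).obj U))) :=
  ((TopCat.Sheaf.pullbackPushforwardAdjunction (Type u) f).unit.app F).hom.app (op U) t

lemma η_res {U U' : Opens X} (i : U' ⟶ U) (t : ToType (F.obj.obj (op U))) :
    η f F U' (F.obj.map i.op t) = (pb f F).obj.map ((Opens.map f).map i).op (η f F U t) := by
  unfold η
  have := ((TopCat.Sheaf.pullbackPushforwardAdjunction (Type u) f).unit.app F).hom.naturality i.op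
  exact ConcreteCategory.congr_hom this t

/-- comparison morphism to the point sheaf -/
noncomputable def Φ (y : Y) :
    F ⟶ (TopCat.Sheaf.pushforward (Type u) f).obj (ptSheaf y (ToType (F.presheaf.stalk (f y)))) :=
  ObjectProperty.homMk
    { app := fun U => TypeCat.ofHom (fun t (hy : y ∈ (Opens.map f).obj U.unop) =>
        F.presheaf.germ U.unop (f y) hy t)
      naturality := fun U U' i => by
        ext t
        funext hy
        change F.presheaf.germ U'.unop (f y) hy (F.obj.map i t) = F.presheaf.germ U.unop (f y) _ t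
        rw [TopCat.Presheaf.germ_res_apply'] }

/-- its adjoint -/
noncomputable def Φhat (y : Y) : pb f F ⟶ ptSheaf y (ToType (F.presheaf.stalk (f y))) :=
  ((TopCat.Sheaf.pullbackPushforwardAdjunction (Type u) f).homEquiv F _).symm (Φ f F y)

lemma Φhat_η (y : Y) (U : Opens X) (hy : f y ∈ U) (t : ToType (F.obj.obj (op U))) :
    (((Φhat f F y).hom.app (op ((Opens.map f).obj U)) (η f F U t) :
      y ∈ (Opens.map f).obj U → ToType (F.presheaf.stalk (f y)))) hy = F.presheaf.germ U (f y) hy t := by
  have h : (TopCat.Sheaf.pullbackPushforwardAdjunction (Type u) f).unit.app F ≫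
      (TopCat.Sheaf.pushforward (Type u) f).map (Φhat f F y) = Φ f F y := by
    have := (TopCat.Sheaf.pullbackPushforwardAdjunction (Type u) f).homEquiv_unit
      (X := F) (f := Φhat f F y)
    rw [← this]
    exact Equiv.apply_symm_apply _ _
  have h2 := congrArg (fun φ => φ.hom.app (op U)) h
  have h3 := ConcreteCategory.congr_hom h2 t
  exact congrFun h3 hy

theorem germ_inj (y : Y) {U U' : Opens X} (hU : f y ∈ U) (hU' : f y ∈ U')
    (t : ToType (F.obj.obj (op U))) (t' : ToType (F.obj.obj (op U')))
    (h : (pb f F).presheaf.germ ((Opens.map f).obj U) y hU (η f F U t) =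
      (pb f F).presheaf.germ ((Opens.map f).obj U') y hU' (η f F U' t')) :
    F.presheaf.germ U (f y) hU t = F.presheaf.germ U' (f y) hU' t' := by
  obtain ⟨W, hW, iU, iU', e⟩ := (pb f F).presheaf.germ_eq y hU hU' _ _ h
  have e2 := congrArg (fun γ => ((Φhat f F y).hom.app (op W) γ :
      y ∈ W → ToType (F.presheaf.stalk (f y))) hW) e
  have n1 := ConcreteCategory.congr_hom ((Φhat f F y).hom.naturality iU.op) (η f F U t)
  have n2 := ConcreteCategory.congr_hom ((Φhat f F y).hom.naturality iU'.op) (η f F U' t')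
  simp only at e2
  rw [← Φhat_η f F y U hU t, ← Φhat_η f F y U' hU' t']
  have m1 := congrFun n1 hW
  have m2 := congrFun n2 hW
  exact (m1.symm.trans e2).trans m2

/-- germs of sections in the image of the unit -/
def R (y : Y) : Set (ToType ((pb f F).presheaf.stalk y)) :=
  {x | ∃ (U : Opens X) (hU : f y ∈ U) (t : ToType (F.obj.obj (op U))),
    x = (pb f F).presheaf.germ ((Opens.map f).obj U) y hU (η f F U t)}

theorem germ_surj (y : Y) (V : Opens Y) (hV : y ∈ V) (γ : ToType ((pb f F).obj.obj (op V))) :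
    ∃ (U : Opens X) (hU : f y ∈ U) (t : ToType (F.obj.obj (op U))),
      (pb f F).presheaf.germ V y hV γ =
        (pb f F).presheaf.germ ((Opens.map f).obj U) y hU (η f F U t) := by
  let g₁ : ToType ((pb f F).presheaf.stalk y) → ULift.{u} Prop := fun x => ⟨x ∈ R f F y⟩
  let g₂ : ToType ((pb f F).presheaf.stalk y) → ULift.{u} Prop := fun _ => ⟨True⟩
  let ψ₁ : pb f F ⟶ ptSheaf y (ULift.{u} Prop) :=
    ObjectProperty.homMk (skyOf y _ (pb f F).presheaf g₁)
  let ψ₂ : pb f F ⟶ ptSheaf y (ULift.{u} Prop) :=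
    ObjectProperty.homMk (skyOf y _ (pb f F).presheaf g₂)
  have key : (TopCat.Sheaf.pullbackPushforwardAdjunction (Type u) f).homEquiv F _ ψ₁ =
      (TopCat.Sheaf.pullbackPushforwardAdjunction (Type u) f).homEquiv F _ ψ₂ := by
    rw [Adjunction.homEquiv_unit, Adjunction.homEquiv_unit]
    apply CategoryTheory.Sheaf.hom_ext
    ext U t
    funext hy
    change g₁ ((pb f F).presheaf.germ ((Opens.map f).obj U.unop) y hy (η f F U.unop t)) =
      g₂ ((pb f F).presheaf.germ ((Opens.map f).obj U.unop) y hy (η f F U.unop t))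
    simp only [g₁, g₂]
    congr 1
    exact propext (iff_true_intro ⟨U.unop, hy, t, rfl⟩)
  have e : ψ₁ = ψ₂ := Equiv.injective _ key
  have e2 := congrArg (fun ψ => ((ψ.hom.app (op V) γ : y ∈ V → ULift.{u} Prop)) hV) e
  have e3 : g₁ ((pb f F).presheaf.germ V y hV γ) = g₂ ((pb f F).presheaf.germ V y hV γ) := e2
  simp only [g₁, g₂] at e3
  have e4 : (pb f F).presheaf.germ V y hV γ ∈ R f F y := by
    have := congrArg ULift.down e3
    simp only at this
    rw [this]; exact True.intro
  exact e4

end Unit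

end Groth.Agent.Helper9.SpecA
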