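import Mathlib

/-!
# Spectral spaces: closure of pro-constructible sets
-/

set_option autoImplicit false

namespace Groth.Agent.Helper9.SpecB

open TopologicalSpace Topology

variable {X : Type*} [TopologicalSpace X] [SpectralSpace X]

lemma compactSpace_constructible : @CompactSpace X (constructibleTopology X) :=
  @Function.Surjective.compactSpace (WithConstructibleTopology X) X _ (constructibleTopology X)
    WithTopology.ofTopology (WithTopology.continuous_ofTopology _) _
    (WithTopology.ofTopology_surjective _)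

lemma isClosed_constructible_of_qc {K : Set X} (hK : IsOpen K ∧ IsCompact K) :
    IsClosed[constructibleTopology X] K := by
  have h : IsOpen[constructibleTopology X] Kᶜ :=
    IsCompact.isOpen_constructibleTopology_of_isClosed (by rw [compl_compl]; exact hK.2)
      (isClosed_compl_iff.2 hK.1)
  exact @IsClosed.mk X (constructibleTopology X) K h

lemma isClosed_constructible_of_isClosed {K : Set X} (hK : IsClosed K) :
    IsClosed[constructibleTopology X] K := by
  refine @IsClosed.mk X (constructibleTopology X) K ?_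
  have hb := PrespectralSpace.isTopologicalBasis (X := X)
  rw [hb.open_eq_sUnion' hK.isOpen_compl]
  refine @isOpen_sUnion X (constructibleTopology X) _ ?_
  rintro s ⟨hs, -⟩
  exact hs.2.isOpen_constructibleTopology_of_isOpen hs.1

lemma nonempty_sInter_of_fip (𝒦 : Set (Set X))
    (h𝒦 : ∀ K ∈ 𝒦, (IsOpen K ∧ IsCompact K) ∨ IsClosed K)
    (hfip : ∀ T ⊆ 𝒦, T.Finite → (⋂₀ T).Nonempty) : (⋂₀ 𝒦).Nonempty := by
  haveI := compactSpace_constructible (X := X)
  refine @CompactSpace.nonempty_sInter X (constructibleTopology X) _ 𝒦 ?_ hfip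
  intro K hK
  rcases h𝒦 K hK with h | h
  · exact isClosed_constructible_of_qc h
  · exact isClosed_constructible_of_isClosed h

/-- A point in the closure of a pro-constructible set of the given shape is a specialization of a
point of this set. -/
lemma exists_specializes_of_mem_closure {U' O : Set X} (hU' : IsOpen U' ∧ IsCompact U')
    (hO : IsOpen O) (𝒲 : Set (Set X)) (h𝒲 : ∀ W ∈ 𝒲, IsOpen W ∧ IsCompact W) {x : X}
    (hx : x ∈ closure (U' ∩ Oᶜ ∩ ⋂₀ 𝒲)) : ∃ b ∈ U' ∩ Oᶜ ∩ ⋂₀ 𝒲, b ⤳ x := by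
  set E := U' ∩ Oᶜ ∩ ⋂₀ 𝒲 with hE
  let 𝒩 : Set (Set X) := {N | IsOpen N ∧ IsCompact N ∧ x ∈ N}
  let 𝒦 : Set (Set X) := ({U', Oᶜ} ∪ 𝒲) ∪ 𝒩
  have h𝒦 : ∀ K ∈ 𝒦, (IsOpen K ∧ IsCompact K) ∨ IsClosed K := by
    rintro K ((hK | hK) | hK)
    · rcases hK with rfl | rfl
      · exact Or.inl hU'
      · exact Or.inr (isClosed_compl_iff.2 hO)
    · exact Or.inl (h𝒲 K hK)
    · exact Or.inl ⟨hK.1, hK.2.1⟩
  have hfip : ∀ T ⊆ 𝒦, T.Finite → (⋂₀ T).Nonempty := by
    intro T hT hfin
    let T' : Set (Set X) := T ∩ 𝒩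
    have hT'fin : T'.Finite := hfin.subset Set.inter_subset_left
    have hopen : IsOpen (⋂₀ T') := hT'fin.isOpen_sInter (fun N hN => hN.2.1)
    have hxT' : x ∈ ⋂₀ T' := fun N hN => hN.2.2.2
    obtain ⟨e, heN, heE⟩ := mem_closure_iff.1 hx _ hopen hxT'
    refine ⟨e, ?_⟩
    intro K hK
    rcases hT hK with (hK' | hK') | hK'
    · rcases hK' with rfl | rfl
      · exact heE.1.1
      · exact heE.1.2
    · exact heE.2 K hK'
    · exact heN K ⟨hK, hK'⟩
  obtain ⟨b, hb⟩ := nonempty_sInter_of_fip 𝒦 h𝒦 hfip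
  refine ⟨b, ⟨⟨hb _ (Or.inl (Or.inl (Or.inl rfl))), hb _ (Or.inl (Or.inl (Or.inr rfl)))⟩,
    fun W hW => hb _ (Or.inl (Or.inr hW))⟩, ?_⟩
  rw [specializes_iff_forall_open]
  intro s hs hxs
  obtain ⟨N, hN, hxN, hNs⟩ :=
    PrespectralSpace.isTopologicalBasis.exists_subset_of_mem_open hxs hs
  exact hNs (hb N (Or.inr ⟨hN.1, hN.2, hxN⟩))

/-- If `x'` lies in every quasi-compact open containing the quasi-compact set `K`, then `x'`
specializes to a point of `K`. -/
lemma exists_specializes_of_forall_qc {K : Set X} (hK : IsCompact K) {x' : X}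
    (h : ∀ W : Set X, IsOpen W → IsCompact W → K ⊆ W → x' ∈ W) : ∃ k ∈ K, x' ⤳ k := by
  by_contra hcon
  push Not at hcon
  have hsub : K ⊆ (closure {x'})ᶜ := by
    intro k hk hk'
    exact hcon k hk (specializes_iff_mem_closure.2 hk')
  obtain ⟨W, hWc, hWo, hKW, hWU⟩ :=
    PrespectralSpace.exists_isCompact_and_isOpen_between hK isClosed_closure.isOpen_compl hsub
  exact hWU (h W hWo hWc hKW) (subset_closure rfl)

end Groth.Agent.Helper9.SpecB
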