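import Mathlib
import Groth.Agent.Helper9.SpecB

/-!
# Extending a family of germs along a closed subset of a spectral space
-/

set_option autoImplicit false

namespace Groth.Agent.Helper9.SpecC

open CategoryTheory TopologicalSpace Opposite TopCat Topology

universe u

variable {X : TopCat.{u}} (F : TopCat.Sheaf (Type u) X) (Z : Set X)
  (σ : ∀ z : Z, ToType (F.presheaf.stalk z.1))

/-- A local datum: a section inducing the given germs on `Z ∩ U`. -/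
structure Datum where
  /-- the open set -/
  U : Opens X
  /-- the section -/
  t : ToType (F.obj.obj (op U))
  h : ∀ (z : Z) (hz : z.1 ∈ U), σ z = F.presheaf.germ U z.1 hz t

variable {F Z σ}

/-- restriction of a datum -/
def Datum.restrict (d : Datum F Z σ) (V : Opens X) (hV : V ≤ d.U) : Datum F Z σ where
  U := V
  t := F.obj.map (homOfLE hV).op d.t
  h z hz := by
    rw [d.h z (hV hz)]
    exact (TopCat.Presheaf.germ_res_apply F.presheaf (homOfLE hV) z.1 hz d.t).symm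

lemma Q1 (d₁ d₂ : Datum F Z σ) (w : X) (hwZ : w ∈ Z) (hw₁ : w ∈ d₁.U) (hw₂ : w ∈ d₂.U)
    (x : X) (hxw : x ⤳ w) (hx₁ : x ∈ d₁.U) (hx₂ : x ∈ d₂.U) :
    F.presheaf.germ d₁.U x hx₁ d₁.t = F.presheaf.germ d₂.U x hx₂ d₂.t := by
  have e : F.presheaf.germ d₁.U w hw₁ d₁.t = F.presheaf.germ d₂.U w hw₂ d₂.t := by
    rw [← d₁.h ⟨w, hwZ⟩ hw₁, ← d₂.h ⟨w, hwZ⟩ hw₂]
  obtain ⟨W, hwW, i₁, i₂, ih⟩ := F.presheaf.germ_eq w hw₁ hw₂ _ _ e
  exact TopCat.Presheaf.germ_ext F.presheaf W (hxw.mem_open W.isOpen hwW) i₁ i₂ ih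

lemma P1 (hσ : ∀ z : Z, ∃ d : Datum F Z σ, z.1 ∈ d.U) (x : X)
    (hc : IsPreconnected (Z ∩ closure {x}))
    (d d' : Datum F Z σ) (hx : x ∈ d.U) (hx' : x ∈ d'.U)
    (hd : (Z ∩ closure {x} ∩ d.U).Nonempty) (hd' : (Z ∩ closure {x} ∩ d'.U).Nonempty) :
    F.presheaf.germ d.U x hx d.t = F.presheaf.germ d'.U x hx' d'.t := by
  by_contra hne
  let a := F.presheaf.germ d.U x hx d.t
  let u : Set X := ⋃ (e : Datum F Z σ)
    (_ : ∃ he : x ∈ e.U, F.presheaf.germ e.U x he e.t = a), (e.U : Set X)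
  let v : Set X := ⋃ (e : Datum F Z σ)
    (_ : ∃ he : x ∈ e.U, F.presheaf.germ e.U x he e.t ≠ a), (e.U : Set X)
  have hu : IsOpen u := isOpen_iUnion fun e => isOpen_iUnion fun _ => e.U.isOpen
  have hv : IsOpen v := isOpen_iUnion fun e => isOpen_iUnion fun _ => e.U.isOpen
  have hsub : Z ∩ closure {x} ⊆ u ∪ v := by
    rintro w ⟨hwZ, hwx⟩
    obtain ⟨e, he⟩ := hσ ⟨w, hwZ⟩
    have hxe : x ∈ e.U := (specializes_iff_mem_closure.2 hwx).mem_open e.U.isOpen he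
    by_cases h : F.presheaf.germ e.U x hxe e.t = a
    · left; exact Set.mem_iUnion₂.2 ⟨e, ⟨hxe, h⟩, he⟩
    · right; exact Set.mem_iUnion₂.2 ⟨e, ⟨hxe, h⟩, he⟩
  have h1 : (Z ∩ closure {x} ∩ u).Nonempty := by
    obtain ⟨w, hw, hwd⟩ := hd
    exact ⟨w, hw, Set.mem_iUnion₂.2 ⟨d, ⟨hx, rfl⟩, hwd⟩⟩
  have h2 : (Z ∩ closure {x} ∩ v).Nonempty := by
    obtain ⟨w, hw, hwd⟩ := hd'
    exact ⟨w, hw, Set.mem_iUnion₂.2 ⟨d', ⟨hx', fun h => hne h.symm⟩, hwd⟩⟩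
  obtain ⟨w, ⟨hwZ, hwx⟩, hwu, hwv⟩ := hc u v hu hv hsub h1 h2
  obtain ⟨e₁, ⟨he₁, h₁⟩, hw₁⟩ := Set.mem_iUnion₂.1 hwu
  obtain ⟨e₂, ⟨he₂, h₂⟩, hw₂⟩ := Set.mem_iUnion₂.1 hwv
  exact h₂ ((Q1 e₂ e₁ w hwZ hw₂ hw₁ x (specializes_iff_mem_closure.2 hwx) he₂ he₁).trans h₁)

section Cover

variable {ι : Type*} (J : Finset ι) (D : ι → Datum F Z σ)

/-- the indices whose open set meets `Z ∩ closure {x}` -/
def I (x : X) (j : ι) : Prop := j ∈ J ∧ (Z ∩ closure {x} ∩ (D j).U).Nonempty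

variable {J D}

lemma I.mem {x : X} {j : ι} (h : I J D x j) : x ∈ (D j).U := by
  obtain ⟨-, w, ⟨-, hwx⟩, hw⟩ := h
  exact (specializes_iff_mem_closure.2 hwx).mem_open (D j).U.isOpen hw

lemma I.mono {x b : X} {j : ι} (hbx : b ⤳ x) (h : I J D x j) : I J D b j := by
  obtain ⟨hj, w, ⟨hwZ, hwx⟩, hw⟩ := h
  refine ⟨hj, w, ⟨hwZ, ?_⟩, hw⟩
  exact specializes_iff_mem_closure.1 (hbx.trans (specializes_iff_mem_closure.2 hwx))

variable (hconn : ∀ x : X, IsConnected (Z ∩ closure {x}))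
  (hcover : Z ⊆ ⋃ j ∈ J, ((D j).U : Set X))

include hconn hcover

lemma exists_I (x : X) : ∃ j, I J D x j := by
  obtain ⟨w, hw⟩ := (hconn x).nonempty
  obtain ⟨j, hj, hwj⟩ := Set.mem_iUnion₂.1 (hcover hw.1)
  exact ⟨j, hj, w, hw, hwj⟩

lemma exists_datum (z : Z) : ∃ d : Datum F Z σ, z.1 ∈ d.U := by
  obtain ⟨j, hj, hwj⟩ := Set.mem_iUnion₂.1 (hcover z.2)
  exact ⟨D j, hwj⟩

lemma P1' {x : X} {j j' : ι} (h : I J D x j) (h' : I J D x j') :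
    F.presheaf.germ (D j).U x h.mem (D j).t = F.presheaf.germ (D j').U x h'.mem (D j').t :=
  P1 (exists_datum hconn hcover) x (hconn x).isPreconnected (D j) (D j') h.mem h'.mem h.2 h'.2

variable [SpectralSpace X] (hZ : IsClosed Z) (hqc : ∀ j ∈ J, IsCompact ((D j).U : Set X))

include hZ hqc

lemma step3 {x : X} {j : ι} (h : I J D x j) :
    ∃ N : Opens X, x ∈ N ∧ N ≤ (D j).U ∧ ∀ x' ∈ N, ∀ j', I J D x' j' →
      ∃ (h₁ : x' ∈ (D j).U) (h₂ : x' ∈ (D j').U),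
        F.presheaf.germ (D j).U x' h₁ (D j).t = F.presheaf.germ (D j').U x' h₂ (D j').t := by
  classical
  -- the bad sets
  let B : ι → Set X := fun j' => {x' | I J D x' j' ∧ ∃ (h₁ : x' ∈ (D j).U) (h₂ : x' ∈ (D j').U),
    F.presheaf.germ (D j).U x' h₁ (D j).t ≠ F.presheaf.germ (D j').U x' h₂ (D j').t}
  have key : ∀ j' ∈ J, x ∉ closure (B j') := by
    intro j' hj' hx
    let O : Set X := {x' | ∃ (h₁ : x' ∈ (D j).U) (h₂ : x' ∈ (D j').U),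
      F.presheaf.germ (D j).U x' h₁ (D j).t = F.presheaf.germ (D j').U x' h₂ (D j').t}
    have hO : IsOpen O := by
      rw [isOpen_iff_forall_mem_open]
      rintro x' ⟨h₁, h₂, e⟩
      obtain ⟨W, hW, i₁, i₂, ih⟩ := F.presheaf.germ_eq x' h₁ h₂ _ _ e
      refine ⟨W, ?_, W.isOpen, hW⟩
      intro p hp
      exact ⟨i₁.le hp, i₂.le hp, TopCat.Presheaf.germ_ext F.presheaf W hp i₁ i₂ ih⟩
    let 𝒲 : Set (Set X) := {W | IsOpen W ∧ IsCompact W ∧ Z ∩ (D j').U ⊆ W}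
    have hsubE : B j' ⊆ (((D j).U : Set X) ∩ (D j').U) ∩ Oᶜ ∩ ⋂₀ 𝒲 := by
      rintro x' ⟨hI, h₁, h₂, hne⟩
      refine ⟨⟨⟨h₁, h₂⟩, ?_⟩, ?_⟩
      · rintro ⟨h₁', h₂', e⟩
        exact hne e
      · rintro W ⟨hWo, -, hWsub⟩
        obtain ⟨-, w, ⟨hwZ, hwx⟩, hw⟩ := hI
        exact (specializes_iff_mem_closure.2 hwx).mem_open hWo (hWsub ⟨hwZ, hw⟩)
    have hx' := closure_mono hsubE hx
    have hUU : IsOpen (((D j).U : Set X) ∩ (D j').U) ∧ IsCompact (((D j).U : Set X) ∩ (D j').U) :=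
      ⟨(D j).U.isOpen.inter (D j').U.isOpen,
        QuasiSeparatedSpace.inter_isCompact _ _ (D j).U.isOpen (hqc j h.1) (D j').U.isOpen
          (hqc j' hj')⟩
    obtain ⟨b, ⟨⟨hbUU, hbO⟩, hbW⟩, hbx⟩ :=
      SpecB.exists_specializes_of_mem_closure hUU hO 𝒲 (fun W hW => ⟨hW.1, hW.2.1⟩) hx'
    have hK : IsCompact (Z ∩ ((D j').U : Set X)) := (hqc j' hj').inter_left hZ
    obtain ⟨k, ⟨hkZ, hkU⟩, hbk⟩ := SpecB.exists_specializes_of_forall_qc hK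
      (fun W hWo hWc hKW => hbW W ⟨hWo, hWc, hKW⟩)
    have hIb' : I J D b j' := ⟨hj', k, ⟨hkZ, specializes_iff_mem_closure.1 hbk⟩, hkU⟩
    have hIb : I J D b j := h.mono hbx
    exact hbO ⟨hIb.mem, hIb'.mem, P1' hconn hcover hIb hIb'⟩
  have hxU : x ∉ closure (⋃ j' ∈ J, B j') := by
    rw [Finset.closure_biUnion]
    simp only [Set.mem_iUnion, not_exists]
    intro j' hj'
    exact key j' hj'
  refine ⟨(D j).U ⊓ ⟨(closure (⋃ j' ∈ J, B j'))ᶜ, isClosed_closure.isOpen_compl⟩,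
    ⟨h.mem, hxU⟩, inf_le_left, ?_⟩
  rintro x' ⟨hx'U, hx'B⟩ j' hI'
  refine ⟨hx'U, hI'.mem, ?_⟩
  by_contra hne
  exact hx'B (subset_closure (Set.mem_iUnion₂.2 ⟨j', hI'.1, hI', hx'U, hI'.mem, hne⟩))

lemma glue : ∃ s : ToType (F.obj.obj (op (⊤ : Opens X))),
    ∀ z : Z, F.presheaf.germ ⊤ z.1 True.intro s = σ z := by
  choose jx hjx using exists_I (σ := σ) (J := J) (D := D) hconn hcover
  choose N hxN hNU hN using fun x => step3 hconn hcover hZ hqc (hjx x)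
  let sf : ∀ x : X, ToType (F.obj.obj (op (N x))) :=
    fun x => F.obj.map (homOfLE (hNU x)).op (D (jx x)).t
  have hgerm : ∀ (x p : X) (hp : p ∈ N x),
      F.presheaf.germ (N x) p hp (sf x) =
        F.presheaf.germ (D (jx x)).U p (hNU x hp) (D (jx x)).t := by
    intro x p hp
    exact TopCat.Presheaf.germ_res_apply F.presheaf (homOfLE (hNU x)) p hp _
  have hcompat : TopCat.Presheaf.IsCompatible F.presheaf N sf := by
    intro x y
    apply TopCat.Presheaf.section_ext F (N x ⊓ N y)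
    intro p hp
    obtain ⟨j', hj'⟩ := exists_I (σ := σ) (J := J) (D := D) hconn hcover p
    obtain ⟨h₁, h₂, e₁⟩ := hN x p hp.1 j' hj'
    obtain ⟨h₁', h₂', e₂⟩ := hN y p hp.2 j' hj'
    have a1 := TopCat.Presheaf.germ_res_apply F.presheaf (Opens.infLELeft (N x) (N y)) p hp (sf x)
    have a2 := TopCat.Presheaf.germ_res_apply F.presheaf (Opens.infLERight (N x) (N y)) p hp (sf y)
    rw [a1, a2, hgerm x p hp.1, hgerm y p hp.2]
    exact e₁.trans e₂.symm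
  obtain ⟨s, hs, -⟩ := F.existsUnique_gluing' N ⊤ (fun x => homOfLE le_top)
    (fun x _ => Opens.mem_iSup.2 ⟨x, hxN x⟩) sf hcompat
  refine ⟨s, fun z => ?_⟩
  have b1 := TopCat.Presheaf.germ_res_apply F.presheaf (homOfLE (le_top : N z.1 ≤ ⊤)) z.1
    (hxN z.1) s
  rw [← b1, hs z.1, hgerm z.1 z.1 (hxN z.1)]
  exact ((D (jx z.1)).h z _).symm

end Cover

section Main

variable [SpectralSpace X] (hZ : IsClosed Z) (hconn : ∀ x : X, IsConnected (Z ∩ closure {x}))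
  (hσ : ∀ z : Z, ∃ d : Datum F Z σ, z.1 ∈ d.U)

include hZ hconn hσ

theorem exists_section : ∃ s : ToType (F.obj.obj (op (⊤ : Opens X))),
    ∀ z : Z, F.presheaf.germ ⊤ z.1 True.intro s = σ z := by
  -- shrink to quasi-compact opens
  have hσ' : ∀ z : Z, ∃ d : Datum F Z σ, z.1 ∈ d.U ∧ IsCompact (d.U : Set X) := by
    intro z
    obtain ⟨d, hd⟩ := hσ z
    obtain ⟨V, hV, hzV, hVU⟩ :=
      PrespectralSpace.isTopologicalBasis.exists_subset_of_mem_open hd d.U.isOpen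
    exact ⟨d.restrict ⟨V, hV.1⟩ hVU, hzV, hV.2⟩
  choose D hD hDc using hσ'
  obtain ⟨J, hJ⟩ := hZ.isCompact.elim_nhds_subcover' (fun z hz => ((D ⟨z, hz⟩).U : Set X))
    (fun z hz => (D ⟨z, hz⟩).U.isOpen.mem_nhds (hD ⟨z, hz⟩))
  refine glue (J := J) (D := D) hconn ?_ hZ (fun j _ => hDc j)
  intro w hw
  obtain ⟨j, hj, hwj⟩ := Set.mem_iUnion₂.1 (hJ hw)
  exact Set.mem_iUnion₂.2 ⟨j, hj, hwj⟩

end Main

end Groth.Agent.Helper9.SpecC
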