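import Mathlib
import Groth.Agent.Helper9.SpecA
import Groth.Agent.Helper9.SpecC

/-!
# Sections over a closed subset of a spectral space
-/

set_option autoImplicit false

namespace Groth.Agent.Helper9.SpecD

open CategoryTheory TopologicalSpace Opposite TopCat Topology
open Groth.Agent.Helper9.SpecA Groth.Agent.Helper9.SpecC

universe u

variable (X : TopCat.{u}) (Z : Set X)

/-- the inclusion -/
abbrev incl : TopCat.of Z ⟶ X := TopCat.ofHom ⟨(Subtype.val : Z → X), continuous_subtype_val⟩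

variable {X Z} (F : TopCat.Sheaf (Type u) X)

lemma incl_apply (z : Z) : (incl X Z) z = z.1 := rfl

theorem injective_unit (hconn : ∀ x : X, IsConnected (Z ∩ closure {x})) :
    Function.Injective (η (incl X Z) F ⊤) := by
  intro s t hst
  apply TopCat.Presheaf.section_ext F ⊤
  intro x _
  obtain ⟨w, hwZ, hwx⟩ := (hconn x).nonempty
  have hz : F.presheaf.germ ⊤ w True.intro s = F.presheaf.germ ⊤ w True.intro t := by
    have := germ_inj (incl X Z) F ⟨w, hwZ⟩ (U := ⊤) (U' := ⊤) True.intro True.intro s t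
      (by rw [hst])
    exact this
  obtain ⟨W, hwW, i₁, i₂, ih⟩ := F.presheaf.germ_eq (U := ⊤) (V := ⊤) w True.intro True.intro _ _ hz
  exact TopCat.Presheaf.germ_ext F.presheaf W
    ((specializes_iff_mem_closure.2 hwx).mem_open W.isOpen hwW) i₁ i₂ ih

theorem surjective_unit [SpectralSpace X] (hZ : IsClosed Z)
    (hconn : ∀ x : X, IsConnected (Z ∩ closure {x})) :
    Function.Surjective (η (incl X Z) F ⊤) := by
  intro γ
  let G := pb (incl X Z) F
  let T : Opens (TopCat.of Z) := (Opens.map (incl X Z)).obj ⊤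
  have hgood : ∀ z : Z, ∃ (U : Opens X) (hU : z.1 ∈ U) (t : ToType (F.obj.obj (op U))),
      G.presheaf.germ T z True.intro γ =
        G.presheaf.germ ((Opens.map (incl X Z)).obj U) z hU (η (incl X Z) F U t) :=
    fun z => germ_surj (incl X Z) F z T True.intro γ
  choose U hU t ht using hgood
  let σ : ∀ z : Z, ToType (F.presheaf.stalk z.1) :=
    fun z => F.presheaf.germ (U z) z.1 (hU z) (t z)
  have claim : ∀ (z' : Z) (U' : Opens X) (hU' : z'.1 ∈ U') (t' : ToType (F.obj.obj (op U'))),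
      G.presheaf.germ T z' True.intro γ =
        G.presheaf.germ ((Opens.map (incl X Z)).obj U') z' hU' (η (incl X Z) F U' t') →
      σ z' = F.presheaf.germ U' z'.1 hU' t' := by
    intro z' U' hU' t' h
    exact germ_inj (incl X Z) F z' (hU z') hU' (t z') t' ((ht z').symm.trans h)
  have hσ : ∀ z : Z, ∃ d : Datum F Z σ, z.1 ∈ d.U := by
    intro z
    obtain ⟨W, hzW, i₁, i₂, ih⟩ := G.presheaf.germ_eq (U := T) (V := (Opens.map (incl X Z)).obj (U z)) z True.intro (hU z) _ _ (ht z)
    obtain ⟨O, hO, hOW⟩ := isOpen_induced_iff.1 W.isOpen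
    refine ⟨⟨U z ⊓ ⟨O, hO⟩, F.obj.map (homOfLE inf_le_left).op (t z), ?_⟩, ⟨hU z, ?_⟩⟩
    · intro z' hz'
      have hz'W : z' ∈ W := by
        have : z' ∈ Subtype.val ⁻¹' O := hz'.2
        rw [hOW] at this
        exact this
      have a1 := TopCat.Presheaf.germ_res_apply F.presheaf
        (homOfLE (inf_le_left : U z ⊓ ⟨O, hO⟩ ≤ U z)) z'.1 hz' (t z)
      rw [a1]
      apply claim z' (U z) hz'.1 (t z)
      exact TopCat.Presheaf.germ_ext G.presheaf W hz'W i₁ i₂ ih
    · have : z ∈ Subtype.val ⁻¹' O := by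
        rw [hOW]
        exact hzW
      exact this
  obtain ⟨s, hs⟩ := exists_section hZ hconn hσ
  refine ⟨s, ?_⟩
  apply TopCat.Presheaf.section_ext G T
  intro z _
  rw [ht z]
  have e : F.presheaf.germ ⊤ z.1 True.intro s = F.presheaf.germ (U z) z.1 (hU z) (t z) := hs z
  obtain ⟨W, hW, i₁, i₂, ih⟩ := F.presheaf.germ_eq (U := ⊤) (V := U z) z.1 True.intro (hU z) _ _ e
  have e2 : η (incl X Z) F W (F.obj.map i₁.op s) = η (incl X Z) F W (F.obj.map i₂.op (t z)) := by
    rw [ih]
  rw [η_res, η_res] at e2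
  exact TopCat.Presheaf.germ_ext G.presheaf ((Opens.map (incl X Z)).obj W) hW _ _ e2

end Groth.Agent.Helper9.SpecD
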