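import Mathlib
import Groth.Agent.Helper3.SteinH2
import Groth.Agent.S0153

/-!
# Sections of a sheaf on a proper scheme over a henselian pair
-/

set_option autoImplicit false

namespace Groth.Agent.Helper9.HensH0

open CategoryTheory Limits AlgebraicGeometry TopologicalSpace Opposite

universe u

theorem main (A : Type u) [CommRing A] (I : Ideal A) [HenselianRing A I]
    (X : Scheme.{u}) (f : X ⟶ Spec (CommRingCat.of A)) [IsProper f]
    (F : TopCat.Sheaf (Type u) X.carrier) :
    Function.Bijective
      (((TopCat.Sheaf.pullbackPushforwardAdjunction (Type u)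
        (TopCat.ofHom ⟨(Subtype.val :
          (Set.range (pullback.fst f (Spec.map (CommRingCat.ofHom (Ideal.Quotient.mk I))))) → X),
          continuous_subtype_val⟩)).unit.app F).hom.app (op ⊤)) := by
  set i₀ := Spec.map (CommRingCat.ofHom (Ideal.Quotient.mk I)) with hi₀
  haveI : CompactSpace X := QuasiCompact.compactSpace_of_compactSpace f
  haveI : QuasiSeparatedSpace X := quasiSeparatedSpace_of_quasiSeparated f
  haveI : SpectralSpace X.carrier := { }
  haveI : IsClosedImmersion i₀ :=
    IsClosedImmersion.spec_of_surjective _ Ideal.Quotient.mk_surjective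
  have hZ : IsClosed (Set.range (pullback.fst f i₀)) :=
    (pullback.fst f i₀).isClosedEmbedding.isClosed_range
  refine Groth.Agent.S0153.result X.carrier _ hZ ?_ F
  intro x
  -- the reduced closed subscheme on `closure {x}`
  let Yc : Closeds X := ⟨closure {x}, isClosed_closure⟩
  let 𝓘 := Scheme.IdealSheafData.vanishingIdeal Yc
  let ι := 𝓘.subschemeι
  have hrange : Set.range ι = closure {x} := by
    rw [Scheme.IdealSheafData.range_subschemeι]
    exact Scheme.IdealSheafData.coe_support_vanishingIdeal Yc
  haveI : ConnectedSpace 𝓘.subscheme := by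
    rw [connectedSpace_iff_univ]
    have hemb := ι.isClosedEmbedding.isEmbedding
    have hirr : _root_.IsConnected (closure ({x} : Set X)) := isConnected_singleton.closure
    rw [← hrange, ← Set.image_univ] at hirr
    exact ⟨Set.image_nonempty.mp hirr.1, hemb.isInducing.isPreconnected_image.mp hirr.2⟩
  have hconn : ConnectedSpace ↥(pullback (ι ≫ f) i₀) :=
    (Groth.Agent.Helper3.SteinH.main A I (ι ≫ f)).1 inferInstance
  let φ : ↥(pullback (ι ≫ f) i₀) → X := fun p => ι (pullback.fst (ι ≫ f) i₀ p)
  have hφ : Continuous φ := ι.continuous.comp (pullback.fst (ι ≫ f) i₀).continuous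
  have hrg : Set.range φ = Set.range (pullback.fst f i₀) ∩ closure {x} := by
    have h1 : Set.range φ = ι '' Set.range (pullback.fst (ι ≫ f) i₀) := Set.range_comp _ _
    rw [h1, Scheme.Pullback.range_fst, Scheme.Pullback.range_fst, ← hrange]
    ext y
    constructor
    · rintro ⟨p, hp, rfl⟩
      exact ⟨hp, ⟨p, rfl⟩⟩
    · rintro ⟨hy, ⟨p, rfl⟩⟩
      exact ⟨p, hy, rfl⟩
  rw [← hrg]
  exact isConnected_range hφ

end Groth.Agent.Helper9.HensH0
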