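import Mathlib
import Groth.Prelude.Def_W4c5monodromycubicsHesse

/-!
# Automorphisms of the Hesse cubic: Hessian covariance
-/

set_option linter.unusedSimpArgs false

namespace Groth.Agent.Helper9.HesseAut

open Matrix

/-- sum of cubes -/
def sF (x : Fin 3 → ℂ) : ℂ := x 0 ^ 3 + x 1 ^ 3 + x 2 ^ 3
/-- product of the coordinates -/
def pF (x : Fin 3 → ℂ) : ℂ := x 0 * x 1 * x 2
/-- the Hesse cubic as a function -/
def hF (k : ℂ) (x : Fin 3 → ℂ) : ℂ := sF x - 3 * k * pF x

/-- the matrix of the polar quadric of the Hesse cubic at `x` -/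
noncomputable def hM (k : ℂ) (x : Fin 3 → ℂ) : Matrix (Fin 3) (Fin 3) ℂ :=
  !![x 0, -(k/2) * x 2, -(k/2) * x 1; -(k/2) * x 2, x 1, -(k/2) * x 0; -(k/2) * x 1, -(k/2) * x 0, x 2]

/-- the symmetric trilinear form of the Hesse cubic -/
noncomputable def hT (k : ℂ) (x y z : Fin 3 → ℂ) : ℂ := y ⬝ᵥ (hM k x *ᵥ z)

lemma hT_polar (k : ℂ) (x y z : Fin 3 → ℂ) :
    6 * hT k x y z = hF k (x + y + z) - hF k (x + y) - hF k (x + z) - hF k (y + z)
      + hF k x + hF k y + hF k z := by
  simp [hT, hM, hF, sF, pF, dotProduct, mulVec, Fin.sum_univ_three]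
  ring

lemma hM_det (k : ℂ) (x : Fin 3 → ℂ) :
    (hM k x).det = (1 - k ^ 3 / 4) * pF x - (k ^ 2 / 4) * sF x := by
  rw [hM, det_fin_three, pF, sF]
  simp
  ring

lemma eval_form (k : ℂ) (x : Fin 3 → ℂ) : MvPolynomial.eval x (HesseCubic.form k) = hF k x := by
  simp [HesseCubic.form, hF, sF, pF]

/-- evaluation of a linear substitution -/
lemma eval_aeval_matrix' (A : Matrix (Fin 3) (Fin 3) ℂ) (f : MvPolynomial (Fin 3) ℂ) (v : Fin 3 → ℂ) :
    MvPolynomial.eval v (MvPolynomial.aeval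
      (fun i : Fin 3 => ∑ j : Fin 3, MvPolynomial.C (A i j) * MvPolynomial.X j) f) =
      MvPolynomial.eval (A.mulVec v) f := by
  induction f using MvPolynomial.induction_on with
  | C a => simp
  | add p q hp hq => simp only [map_add, hp, hq]
  | mul_X p i hp =>
    simp only [map_mul, hp, MvPolynomial.aeval_X, MvPolynomial.eval_X, map_sum, MvPolynomial.eval_C]
    rfl

/-- the polynomial identity is the functional identity -/
lemma aeval_form_iff (k c : ℂ) (A : Matrix (Fin 3) (Fin 3) ℂ) :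
    MvPolynomial.aeval (fun i : Fin 3 => ∑ j : Fin 3, MvPolynomial.C (A i j) * MvPolynomial.X j)
      (HesseCubic.form k) = MvPolynomial.C c * HesseCubic.form k ↔
    ∀ x, hF k (A *ᵥ x) = c * hF k x := by
  constructor
  · intro h x
    have := congrArg (MvPolynomial.eval x) h
    rw [eval_aeval_matrix', eval_form] at this
    rw [this]
    simp [eval_form]
  · intro h
    apply MvPolynomial.funext
    intro x
    rw [eval_aeval_matrix', eval_form, h]
    simp [eval_form]

section covariance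
variable (k c : ℂ) (A : Matrix (Fin 3) (Fin 3) ℂ) (hA : ∀ x, hF k (A *ᵥ x) = c * hF k x)
include hA

lemma hT_cov (x y z : Fin 3 → ℂ) : hT k (A *ᵥ x) (A *ᵥ y) (A *ᵥ z) = c * hT k x y z := by
  have h1 := hT_polar k (A *ᵥ x) (A *ᵥ y) (A *ᵥ z)
  have h2 := hT_polar k x y z
  simp only [← mulVec_add, hA] at h1
  have : (6:ℂ) * hT k (A *ᵥ x) (A *ᵥ y) (A *ᵥ z) = 6 * (c * hT k x y z) := by
    rw [h1]; linear_combination (-c) * h2
  exact mul_left_cancel₀ (by norm_num) this

lemma hM_cov (x : Fin 3 → ℂ) : Aᵀ * hM k (A *ᵥ x) * A = c • hM k x := by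
  ext i j
  have := hT_cov k c A hA x (Pi.single i 1) (Pi.single j 1)
  simp only [hT, mulVec_single_one] at this
  have e : (Pi.single i 1 : Fin 3 → ℂ) ⬝ᵥ (hM k x).col j = hM k x i j := by
    simp [single_dotProduct]
  rw [e] at this
  rw [Matrix.smul_apply, smul_eq_mul, ← this]
  simp only [Matrix.mul_apply, dotProduct, mulVec, Fin.sum_univ_three, transpose_apply, col_apply]
  ring

lemma hess_cov (hdet : A.det = 1) (x : Fin 3 → ℂ) :
    (1 - k ^ 3 / 4) * pF (A *ᵥ x) - (k ^ 2 / 4) * sF (A *ᵥ x) =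
      c ^ 3 * ((1 - k ^ 3 / 4) * pF x - (k ^ 2 / 4) * sF x) := by
  have := congrArg Matrix.det (hM_cov k c A hA x)
  rw [det_mul, det_mul, det_transpose, hdet, det_smul, hM_det, hM_det, one_mul, mul_one,
    Fintype.card_fin] at this
  exact this

/-- the product of the coordinates transforms into the pencil -/
lemma pF_cov (hdet : A.det = 1) (x : Fin 3 → ℂ) :
    (1 - k ^ 3) * pF (A *ᵥ x) =
      (k ^ 2 / 4) * (c - c ^ 3) * sF x + (c ^ 3 * (1 - k ^ 3 / 4) - 3 / 4 * k ^ 3 * c) * pF x := by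
  have h1 := hess_cov k c A hA hdet x
  have h2 := hA x
  simp only [hF] at h2
  linear_combination h1 + (k ^ 2 / 4) * h2

lemma sF_cov (x : Fin 3 → ℂ) :
    sF (A *ᵥ x) = c * sF x - 3 * k * c * pF x + 3 * k * pF (A *ᵥ x) := by
  have h2 := hA x
  simp only [hF] at h2
  linear_combination h2

end covariance

end Groth.Agent.Helper9.HesseAut
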