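import Groth.Agent.Helper9.HesseAut1

/-!
# Automorphisms of the Hesse cubic: triangles in the Hesse pencil
-/

set_option linter.unusedSimpArgs false

namespace Groth.Agent.Helper9.HesseAut

open Matrix

/-- a member of the Hesse pencil that is a product of three linear forms is singular -/
theorem triangle (lam mu : ℂ) (a₀ a₁ a₂ : Fin 3 → ℂ)
    (h : ∀ x, lam * sF x + mu * pF x = (a₀ ⬝ᵥ x) * (a₁ ⬝ᵥ x) * (a₂ ⬝ᵥ x)) :
    lam * (mu ^ 3 + 27 * lam ^ 3) = 0 := by
  by_contra hne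
  have hlam : lam ≠ 0 := left_ne_zero_of_mul hne
  have hmu : mu ^ 3 + 27 * lam ^ 3 ≠ 0 := right_ne_zero_of_mul hne
  obtain ⟨x, hx0, hx⟩ : ∃ x : Fin 3 → ℂ, x ≠ 0 ∧ a₀ ⬝ᵥ x = 0 ∧ a₁ ⬝ᵥ x = 0 := by
    have hdet : (Matrix.of ![a₀, a₁, 0]).det = 0 :=
      Matrix.det_eq_zero_of_row_eq_zero 2 (by intro j; simp)
    obtain ⟨x, hx0, hx⟩ := Matrix.exists_mulVec_eq_zero_iff.mpr hdet
    refine ⟨x, hx0, ?_, ?_⟩
    · have := congrFun hx 0
      simpa [Matrix.mulVec] using this
    · have := congrFun hx 1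
      simpa [Matrix.mulVec] using this
  have hD : ∀ i : Fin 3, lam * sF (x + Pi.single i 1) + mu * pF (x + Pi.single i 1)
      - (lam * sF (x - Pi.single i 1) + mu * pF (x - Pi.single i 1))
      = 2 * (lam * sF (Pi.single i 1) + mu * pF (Pi.single i 1)) := by
    intro i
    rw [h, h, h]
    simp only [dotProduct_add, dotProduct_sub, hx.1, hx.2]
    ring
  have d0 := hD 0
  have d1 := hD 1
  have d2 := hD 2
  simp [sF, pF, Pi.single_apply] at d0 d1 d2
  have e0 : 3 * lam * x 0 ^ 2 + mu * (x 1 * x 2) = 0 := by linear_combination (1/2 : ℂ) * d0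
  have e1 : 3 * lam * x 1 ^ 2 + mu * (x 0 * x 2) = 0 := by linear_combination (1/2 : ℂ) * d1
  have e2 : 3 * lam * x 2 ^ 2 + mu * (x 0 * x 1) = 0 := by linear_combination (1/2 : ℂ) * d2
  have hprod : (mu ^ 3 + 27 * lam ^ 3) * (x 0 * x 1 * x 2) ^ 2 = 0 := by
    linear_combination (3 * lam * x 1 ^ 2 * (3 * lam * x 2 ^ 2)) * e0
      - (mu * (x 1 * x 2) * (3 * lam * x 2 ^ 2)) * e1 + (mu * (x 1 * x 2) * (mu * (x 0 * x 2))) * e2
  have hp0 : x 0 * x 1 * x 2 = 0 := by
    have := (mul_eq_zero.mp hprod).resolve_left hmu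
    exact pow_eq_zero_iff (by norm_num) |>.mp this
  have sq0 : ∀ y : ℂ, 3 * lam * y ^ 2 = 0 → y = 0 := by
    intro y hy
    have := (mul_eq_zero.mp hy).resolve_left (mul_ne_zero (by norm_num) hlam)
    exact pow_eq_zero_iff (by norm_num) |>.mp this
  apply hx0
  rcases mul_eq_zero.mp hp0 with h01 | h2
  · rcases mul_eq_zero.mp h01 with h0 | h1
    · have h1 : x 1 = 0 := sq0 _ (by rw [h0] at e1; linear_combination e1)
      have h2 : x 2 = 0 := sq0 _ (by rw [h0] at e2; linear_combination e2)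
      funext i; fin_cases i <;> simp [h0, h1, h2]
    · have h0 : x 0 = 0 := sq0 _ (by rw [h1] at e0; linear_combination e0)
      have h2 : x 2 = 0 := sq0 _ (by rw [h1] at e2; linear_combination e2)
      funext i; fin_cases i <;> simp [h0, h1, h2]
  · have h0 : x 0 = 0 := sq0 _ (by rw [h2] at e0; linear_combination e0)
    have h1 : x 1 = 0 := sq0 _ (by rw [h2] at e1; linear_combination e1)
    funext i; fin_cases i <;> simp [h0, h1, h2]

end Groth.Agent.Helper9.HesseAut
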