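import Groth.Agent.Helper9.HesseAut2

/-!
# Automorphisms of the Hesse cubic: monomial matrices
-/

set_option linter.unusedSimpArgs false

namespace Groth.Agent.Helper9.HesseAut

open Matrix

/-- the monomial matrix with permutation `τ` and weights `d` -/
def mono (τ : Equiv.Perm (Fin 3)) (d : Fin 3 → ℂ) : Matrix (Fin 3) (Fin 3) ℂ :=
  Matrix.of fun i j => if j = τ i then d i else 0

lemma mono_mulVec (τ : Equiv.Perm (Fin 3)) (d x : Fin 3 → ℂ) :
    mono τ d *ᵥ x = fun i => d i * x (τ i) := by
  funext i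
  simp [mono, mulVec, dotProduct]

lemma pF_eq_prod (x : Fin 3 → ℂ) : pF x = ∏ i, x i := by
  rw [Fin.prod_univ_three, pF]

lemma sF_eq_sum (x : Fin 3 → ℂ) : sF x = ∑ i, x i ^ 3 := by
  rw [Fin.sum_univ_three, sF]

open Polynomial in
theorem monomial_of_pF (A : Matrix (Fin 3) (Fin 3) ℂ) (hdet : A.det ≠ 0) (b : ℂ)
    (h : ∀ x, pF (A *ᵥ x) = b * pF x) : ∃ τ d, A = mono τ d := by
  have step1 : ∀ j : Fin 3, ∃ i, ∀ l, l ≠ j → A i l = 0 := by
    intro j
    have hQ : (∏ i, (C (A i (j + 1)) + C (A i (j + 2)) * X) : ℂ[X]) = 0 := by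
      apply Polynomial.funext
      intro t
      rw [eval_prod, eval_zero]
      have hx := h (Pi.single (j + 1) 1 + t • Pi.single (j + 2) 1)
      have hp0 : pF (Pi.single (j + 1) 1 + t • Pi.single (j + 2) 1) = 0 := by
        rw [pF_eq_prod]
        apply Finset.prod_eq_zero (Finset.mem_univ j)
        have h1 : j ≠ j + 1 := (by decide : ∀ j : Fin 3, j ≠ j + 1) j
        have h2 : j ≠ j + 2 := (by decide : ∀ j : Fin 3, j ≠ j + 2) j
        simp [Pi.single_apply, h1, h2]
      rw [hp0, mul_zero, pF_eq_prod] at hx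
      rw [← hx]
      refine Finset.prod_congr rfl fun i _ => ?_
      simp [mulVec_add, mulVec_smul, mulVec_single_one]
      ring
    obtain ⟨i, -, hi⟩ := Finset.prod_eq_zero_iff.mp hQ
    refine ⟨i, fun l hl => ?_⟩
    have c0 := congrArg (fun q => coeff q 0) hi
    have c1 := congrArg (fun q => coeff q 1) hi
    simp at c0 c1
    have : l = j + 1 ∨ l = j + 2 :=
      (by decide : ∀ j l : Fin 3, l ≠ j → l = j + 1 ∨ l = j + 2) j l hl
    rcases this with rfl | rfl
    · exact c0
    · exact c1
  choose ρ hρ using step1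
  have hinj : Function.Injective ρ := by
    intro j j' hjj
    by_contra hne
    apply hdet
    apply Matrix.det_eq_zero_of_row_eq_zero (ρ j)
    intro l
    by_cases hl : l = j
    · subst hl
      rw [hjj]
      exact hρ j' l hne
    · exact hρ j l hl
  have hbij : Function.Bijective ρ := Finite.injective_iff_bijective.mp hinj
  refine ⟨(Equiv.ofBijective ρ hbij).symm, fun i => A i ((Equiv.ofBijective ρ hbij).symm i), ?_⟩
  ext i l
  simp only [mono, of_apply]
  split_ifs with hl
  · rw [hl]
  · have : ρ ((Equiv.ofBijective ρ hbij).symm i) = i := (Equiv.ofBijective ρ hbij).apply_symm_apply i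
    rw [← this]
    apply hρ
    exact hl

end Groth.Agent.Helper9.HesseAut
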