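import Groth.Agent.Helper9.HesseAut3

/-!
# Automorphisms of the Hesse cubic: the exceptional parameters and the elimination
-/

set_option linter.unusedSimpArgs false

namespace Groth.Agent.Helper9.HesseAut

open Matrix

/-- factorisation of the singular members `s - 3 t' p`, `t'^3 = 1` -/
lemma fact3 (ω t' : ℂ) (hω : ω ^ 2 + ω + 1 = 0) (ht' : t' ^ 3 = 1) (y : Fin 3 → ℂ) :
    sF y - 3 * t' * pF y =
      (![1, 1, t'] ⬝ᵥ y) * (![1, ω, ω ^ 2 * t'] ⬝ᵥ y) * (![1, ω ^ 2, ω * t'] ⬝ᵥ y) := by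
  simp only [sF, pF, dotProduct, Fin.sum_univ_three, cons_val_zero, cons_val_one, cons_val_two,
    head_cons, tail_cons]
  have e1 : ω ^ 3 = 1 := by linear_combination (ω - 1) * hω
  have e2 : ω ^ 4 = ω := by linear_combination (ω ^ 2 - ω) * hω
  have e3 : ω + ω ^ 2 = -1 := by linear_combination hω
  obtain ⟨a, ha⟩ : ∃ a, a = y 0 := ⟨_, rfl⟩
  obtain ⟨b, hb⟩ : ∃ b, b = y 1 := ⟨_, rfl⟩
  obtain ⟨c, hc⟩ : ∃ c, c = t' * y 2 := ⟨_, rfl⟩
  have step : (a + ω * b + ω ^ 2 * c) * (a + ω ^ 2 * b + ω * c) =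
      a ^ 2 + b ^ 2 + c ^ 2 - (a * b + a * c + b * c) := by
    linear_combination (b ^ 2 + c ^ 2) * e1 + (b * c) * e2 + (a * b + a * c + b * c) * e3
  have hc3 : c ^ 3 = y 2 ^ 3 := by rw [hc, mul_pow, ht', one_mul]
  calc y 0 ^ 3 + y 1 ^ 3 + y 2 ^ 3 - 3 * t' * (y 0 * y 1 * y 2)
      = a ^ 3 + b ^ 3 + c ^ 3 - 3 * a * b * c := by rw [hc3, ha, hb, hc]; ring
    _ = (a + b + c) * (a ^ 2 + b ^ 2 + c ^ 2 - (a * b + a * c + b * c)) := by ring
    _ = (a + b + c) * ((a + ω * b + ω ^ 2 * c) * (a + ω ^ 2 * b + ω * c)) := by rw [step]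
    _ = _ := by rw [ha, hb, hc]; ring

/-- the option extracted from one triangle condition -/
lemma lemE (k c a b t t' : ℂ) (hb : b = -3 * t * a)
    (h : (c + 3 * k * a - 3 * t' * a) * ((3 * k * b - 3 * k * c - 3 * t' * b) ^ 3
      + 27 * (c + 3 * k * a - 3 * t' * a) ^ 3) = 0) :
    ∃ u : ℂ, u ^ 4 = u ∧ (1 - u * t) * (3 * (k - t') * a) = (u * k - 1) * c := by
  obtain ⟨W, hW⟩ : ∃ W, W = 3 * (k - t') * a := ⟨_, rfl⟩
  have h' : (c + W) * ((c + W) ^ 3 - (t * W + k * c) ^ 3) = 0 := by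
    have : (c + W) * ((c + W) ^ 3 - (t * W + k * c) ^ 3) * 27 = 0 := by
      rw [hW]; rw [hb] at h; linear_combination h
    exact (mul_eq_zero.mp this).resolve_right (by norm_num)
  rw [← hW]
  rcases mul_eq_zero.mp h' with h0 | h1
  · exact ⟨0, by ring, by linear_combination h0⟩
  · by_cases hcW : c + W = 0
    · exact ⟨0, by ring, by linear_combination hcW⟩
    · have hne : t * W + k * c ≠ 0 := by
        intro h2
        rw [h2] at h1
        apply hcW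
        have : (c + W) ^ 3 = 0 := by linear_combination h1
        exact pow_eq_zero_iff (by norm_num) |>.mp this
      refine ⟨(c + W) / (t * W + k * c), ?_, ?_⟩
      · have h3 : ((c + W) / (t * W + k * c)) ^ 3 = 1 := by
          rw [div_pow, div_eq_one_iff_eq (pow_ne_zero 3 hne)]
          linear_combination h1
        calc ((c + W) / (t * W + k * c)) ^ 4
            = ((c + W) / (t * W + k * c)) ^ 3 * ((c + W) / (t * W + k * c)) := by ring
          _ = _ := by rw [h3, one_mul]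
      · have hu : (c + W) / (t * W + k * c) * (t * W + k * c) = c + W := div_mul_cancel₀ _ hne
        linear_combination (-1 : ℂ) * hu

/-- the quadratic polynomial cutting out exceptional parameters -/
noncomputable def qpoly (t u₁ u₂ s₁ s₂ : ℂ) : Polynomial ℂ :=
  Polynomial.C (1 - u₁ * t) * (Polynomial.C u₂ * Polynomial.X - 1) * (Polynomial.X - Polynomial.C s₁)
    - Polynomial.C (1 - u₂ * t) * (Polynomial.C u₁ * Polynomial.X - 1) * (Polynomial.X - Polynomial.C s₂)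

lemma eval_qpoly (t u₁ u₂ s₁ s₂ k : ℂ) : Polynomial.eval k (qpoly t u₁ u₂ s₁ s₂) =
    (1 - u₁ * t) * (u₂ * k - 1) * (k - s₁) - (1 - u₂ * t) * (u₁ * k - 1) * (k - s₂) := by
  simp [qpoly]

lemma qpoly_ne_zero (t u₁ u₂ s₁ s₂ : ℂ) (h : u₁ ≠ u₂) : qpoly t u₁ u₂ s₁ s₂ ≠ 0 := by
  intro h0
  have e0 := eval_qpoly t u₁ u₂ s₁ s₂ 0
  have e1 := eval_qpoly t u₁ u₂ s₁ s₂ 1
  have e2 := eval_qpoly t u₁ u₂ s₁ s₂ (-1)
  rw [h0, Polynomial.eval_zero] at e0 e1 e2
  apply h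
  linear_combination (1/2 : ℂ) * e1 + (1/2 : ℂ) * e2 - e0

/-- the index set: cube roots of unity and zero -/
noncomputable def Uset : Finset ℂ := insert 0 (Polynomial.nthRootsFinset 3 (1 : ℂ))

lemma mem_Uset (u : ℂ) : u ∈ Uset ↔ u ^ 4 = u := by
  rw [Uset, Finset.mem_insert, Polynomial.mem_nthRootsFinset (by norm_num)]
  constructor
  · rintro (rfl | h)
    · ring
    · calc u ^ 4 = u ^ 3 * u := by ring
        _ = u := by rw [h, one_mul]
  · intro h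
    by_cases hu : u = 0
    · exact Or.inl hu
    · right
      have : u * (u ^ 3 - 1) = 0 := by linear_combination h
      have := (mul_eq_zero.mp this).resolve_left hu
      linear_combination this

/-- the finite set of exceptional parameters -/
noncomputable def Texc : Finset ℂ :=
  Uset ∪ (Uset ×ˢ Uset ×ˢ Uset ×ˢ Uset ×ˢ Uset).biUnion
    (fun q => (qpoly q.1 q.2.1 q.2.2.1 q.2.2.2.1 q.2.2.2.2).roots.toFinset)

lemma notMem_Texc {k : ℂ} (hk : k ∉ Texc) :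
    k ≠ 0 ∧ k ^ 3 ≠ 1 ∧ ∀ t u₁ u₂ s₁ s₂ : ℂ, t ^ 4 = t → u₁ ^ 4 = u₁ → u₂ ^ 4 = u₂ → s₁ ^ 4 = s₁ →
      s₂ ^ 4 = s₂ → u₁ ≠ u₂ →
      (1 - u₁ * t) * (u₂ * k - 1) * (k - s₁) - (1 - u₂ * t) * (u₁ * k - 1) * (k - s₂) ≠ 0 := by
  rw [Texc, Finset.mem_union, not_or] at hk
  obtain ⟨hk1, hk2⟩ := hk
  refine ⟨?_, ?_, ?_⟩
  · rintro rfl
    exact hk1 ((mem_Uset 0).mpr (by ring))
  · intro h
    apply hk1
    rw [mem_Uset]
    calc k ^ 4 = k ^ 3 * k := by ring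
      _ = k := by rw [h, one_mul]
  · intro t u₁ u₂ s₁ s₂ ht hu₁ hu₂ hs₁ hs₂ hne h0
    apply hk2
    rw [Finset.mem_biUnion]
    refine ⟨(t, u₁, u₂, s₁, s₂), ?_, ?_⟩
    · simp only [Finset.mem_product, mem_Uset]
      exact ⟨ht, hu₁, hu₂, hs₁, hs₂⟩
    · rw [Multiset.mem_toFinset, Polynomial.mem_roots (qpoly_ne_zero t u₁ u₂ s₁ s₂ hne),
        Polynomial.IsRoot.def, eval_qpoly]
      exact h0

end Groth.Agent.Helper9.HesseAut
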