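import Groth.Agent.Helper9.HesseAut4

/-!
# Automorphisms of the generic Hesse cubic are monomial
-/

set_option linter.unusedSimpArgs false

namespace Groth.Agent.Helper9.HesseAut

open Matrix

lemma uk_ne_one {u k : ℂ} (hu : u ^ 4 = u) (hk : k ^ 3 ≠ 1) : u * k - 1 ≠ 0 := by
  intro h
  have huk : u * k = 1 := by linear_combination h
  have hu0 : u ≠ 0 := by
    rintro rfl
    simp at huk
  have hu3 : u ^ 3 = 1 := by
    have : u * (u ^ 3 - 1) = 0 := by linear_combination hu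
    have := (mul_eq_zero.mp this).resolve_left hu0
    linear_combination this
  apply hk
  have : (u * k) ^ 3 = 1 := by rw [huk, one_pow]
  rw [mul_pow, hu3, one_mul] at this
  exact this

theorem pF_prop (k : ℂ) (hk : k ∉ Texc) (A : Matrix (Fin 3) (Fin 3) ℂ) (hdet : A.det = 1) (c : ℂ)
    (hA : ∀ x, hF k (A *ᵥ x) = c * hF k x) : ∃ b, ∀ x, pF (A *ᵥ x) = b * pF x := by
  obtain ⟨hk0, hk3, hq⟩ := notMem_Texc hk
  have h1k : 1 - k ^ 3 ≠ 0 := by
    intro h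
    apply hk3
    linear_combination -h
  obtain ⟨a, ha⟩ : ∃ a, a = (k ^ 2 / 4) * (c - c ^ 3) / (1 - k ^ 3) := ⟨_, rfl⟩
  obtain ⟨b, hb⟩ : ∃ b, b = (c ^ 3 * (1 - k ^ 3 / 4) - 3 / 4 * k ^ 3 * c) / (1 - k ^ 3) := ⟨_, rfl⟩
  have ha' : a * (1 - k ^ 3) = (k ^ 2 / 4) * (c - c ^ 3) := by rw [ha, div_mul_cancel₀ _ h1k]
  have hb' : b * (1 - k ^ 3) = c ^ 3 * (1 - k ^ 3 / 4) - 3 / 4 * k ^ 3 * c := by
    rw [hb, div_mul_cancel₀ _ h1k]
  have hP : ∀ x, pF (A *ᵥ x) = a * sF x + b * pF x := by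
    intro x
    apply mul_left_cancel₀ h1k
    linear_combination pF_cov k c A hA hdet x - sF x * ha' - pF x * hb'
  by_cases ha0 : a = 0
  · exact ⟨b, fun x => by rw [hP, ha0, zero_mul, zero_add]⟩
  exfalso
  have hS : ∀ x, sF (A *ᵥ x) = (c + 3 * k * a) * sF x + (3 * k * b - 3 * k * c) * pF x := by
    intro x
    rw [sF_cov k c A hA x, hP]
    ring
  have hc : c ≠ 0 := by
    rintro rfl
    have hAinv : A * A⁻¹ = 1 := Matrix.mul_nonsing_inv A (by rw [hdet]; exact isUnit_one)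
    have := hA (A⁻¹ *ᵥ Pi.single 0 1)
    rw [mulVec_mulVec, hAinv, one_mulVec, zero_mul] at this
    simp [hF, sF, pF] at this
  -- the image of the triangle `p`
  have tri0 : a * (b ^ 3 + 27 * a ^ 3) = 0 :=
    triangle a b (A 0) (A 1) (A 2) (fun x => by rw [← hP]; rfl)
  obtain ⟨t, ht⟩ : ∃ t, t = -b / (3 * a) := ⟨_, rfl⟩
  have h3a : 3 * a ≠ 0 := mul_ne_zero (by norm_num) ha0
  have hbt : b = -3 * t * a := by
    rw [ht]
    field_simp
  have ht3 : t ^ 3 = 1 := by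
    have h1 : b ^ 3 + 27 * a ^ 3 = 0 := (mul_eq_zero.mp tri0).resolve_left ha0
    rw [hbt] at h1
    have : 27 * a ^ 3 * (1 - t ^ 3) = 0 := by linear_combination h1
    have h27 : 27 * a ^ 3 ≠ 0 := mul_ne_zero (by norm_num) (pow_ne_zero 3 ha0)
    have := (mul_eq_zero.mp this).resolve_left h27
    linear_combination -this
  have ht4 : t ^ 4 = t := by
    calc t ^ 4 = t ^ 3 * t := by ring
      _ = t := by rw [ht3, one_mul]
  -- a primitive cube root of unity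
  obtain ⟨ω, hω⟩ : ∃ ω : ℂ, 1 * (ω * ω) + 1 * ω + 1 = 0 :=
    exists_quadratic_eq_zero one_ne_zero (IsAlgClosed.exists_eq_mul_self _)
  have hω' : ω ^ 2 + ω + 1 = 0 := by linear_combination hω
  have hω3 : ω ^ 3 = 1 := by linear_combination (ω - 1) * hω'
  have hω4 : ω ^ 4 = ω := by linear_combination (ω ^ 2 - ω) * hω'
  have hω1 : (1 : ℂ) ≠ ω := by
    rintro rfl
    norm_num at hω'
  -- the images of the other triangles
  have tri : ∀ t' : ℂ, t' ^ 3 = 1 →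
      (c + 3 * k * a - 3 * t' * a) * ((3 * k * b - 3 * k * c - 3 * t' * b) ^ 3
        + 27 * (c + 3 * k * a - 3 * t' * a) ^ 3) = 0 := by
    intro t' ht'
    refine triangle _ _ (![1, 1, t'] ᵥ* A) (![1, ω, ω ^ 2 * t'] ᵥ* A) (![1, ω ^ 2, ω * t'] ᵥ* A)
      (fun x => ?_)
    rw [← dotProduct_mulVec, ← dotProduct_mulVec, ← dotProduct_mulVec,
      ← fact3 ω t' hω' ht' (A *ᵥ x), hS, hP]
    ring
  obtain ⟨u₁, hu₁, hE₁⟩ := lemE k c a b t 1 hbt (tri 1 (one_pow 3))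
  obtain ⟨u₂, hu₂, hE₂⟩ := lemE k c a b t ω hbt (tri ω hω3)
  have hq0 : (1 - u₁ * t) * (u₂ * k - 1) * (k - 1) - (1 - u₂ * t) * (u₁ * k - 1) * (k - ω) = 0 := by
    have : ((1 - u₁ * t) * (u₂ * k - 1) * (k - 1) - (1 - u₂ * t) * (u₁ * k - 1) * (k - ω)) * (3 * a)
        = 0 := by
      linear_combination (u₂ * k - 1) * hE₁ - (u₁ * k - 1) * hE₂
    exact (mul_eq_zero.mp this).resolve_right h3a
  by_cases hu : u₁ = u₂
  · subst hu
    have h1 : (1 - u₁ * t) * ((u₁ * k - 1) * (ω - 1)) = 0 := by linear_combination hq0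
    have hne : (u₁ * k - 1) * (ω - 1) ≠ 0 :=
      mul_ne_zero (uk_ne_one hu₁ hk3) (sub_ne_zero.mpr hω1.symm)
    have h2 := (mul_eq_zero.mp h1).resolve_right hne
    rw [h2, zero_mul] at hE₁
    exact (mul_ne_zero (uk_ne_one hu₁ hk3) hc) hE₁.symm
  · exact hq t u₁ u₂ 1 ω ht4 hu₁ hu₂ (by ring) hω4 hu hq0

end Groth.Agent.Helper9.HesseAut
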