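import Groth.Agent.Helper9.HesseAut5

/-!
# Automorphisms of the generic Hesse cubic: the count
-/

set_option linter.unusedSimpArgs false

namespace Groth.Agent.Helper9.HesseAut

open Matrix

lemma mono_eq (τ : Equiv.Perm (Fin 3)) (d : Fin 3 → ℂ) :
    mono τ d = diagonal d * τ.permMatrix ℂ := by
  ext i j
  simp [mono, diagonal_mul, Equiv.Perm.permMatrix, PEquiv.toMatrix_apply, Equiv.toPEquiv_apply,
    eq_comm]

/-- the sign as a complex number -/
noncomputable def sg (τ : Equiv.Perm (Fin 3)) : ℂ := ((Equiv.Perm.sign τ : ℤˣ) : ℤ)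

lemma sg_sq (τ : Equiv.Perm (Fin 3)) : sg τ * sg τ = 1 := by
  rw [sg, ← Int.cast_mul, ← Units.val_mul, Int.units_mul_self]
  simp

lemma sg_ne_zero (τ : Equiv.Perm (Fin 3)) : sg τ ≠ 0 := by
  intro h
  have := sg_sq τ
  rw [h, zero_mul] at this
  exact zero_ne_one this

lemma mono_det (τ : Equiv.Perm (Fin 3)) (d : Fin 3 → ℂ) :
    (mono τ d).det = sg τ * (d 0 * d 1 * d 2) := by
  rw [mono_eq, det_mul, det_diagonal, det_permutation, Fin.prod_univ_three, sg]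
  ring

lemma mono_injective (τ τ' : Equiv.Perm (Fin 3)) (d d' : Fin 3 → ℂ) (hd : ∀ i, d i ≠ 0)
    (h : mono τ d = mono τ' d') : τ = τ' ∧ d = d' := by
  have key : ∀ i, τ i = τ' i ∧ d i = d' i := by
    intro i
    have := congrFun (congrFun h i) (τ i)
    simp only [mono, of_apply, if_true] at this
    by_cases hi : τ i = τ' i
    · rw [if_pos hi] at this
      exact ⟨hi, this⟩
    · rw [if_neg hi] at this
      exact absurd this (hd i)
  exact ⟨Equiv.ext fun i => (key i).1, funext fun i => (key i).2⟩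

lemma hF_mono (k : ℂ) (τ : Equiv.Perm (Fin 3)) (d : Fin 3 → ℂ) (c : ℂ) (h3 : ∀ i, d i ^ 3 = c)
    (hp : d 0 * d 1 * d 2 = c) (x : Fin 3 → ℂ) : hF k (mono τ d *ᵥ x) = c * hF k x := by
  rw [mono_mulVec, hF, hF, sF_eq_sum, pF_eq_prod, sF_eq_sum, pF_eq_prod]
  have e1 : ∑ i, (d i * x (τ i)) ^ 3 = c * ∑ i, x i ^ 3 := by
    rw [← Equiv.sum_comp τ (fun j => x j ^ 3), Finset.mul_sum]
    refine Finset.sum_congr rfl fun i _ => ?_
    rw [mul_pow, h3]
  have e2 : ∏ i, (d i * x (τ i)) = c * ∏ i, x i := by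
    rw [Finset.prod_mul_distrib, Equiv.prod_comp τ (fun j => x j), Fin.prod_univ_three, hp]
  rw [e1, e2]
  ring

lemma hF_single (k : ℂ) (i : Fin 3) (a : ℂ) : hF k (Pi.single i a) = a ^ 3 := by
  fin_cases i <;> simp [hF, sF, pF]

lemma mono_cond (k : ℂ) (hk : k ≠ 0) (τ : Equiv.Perm (Fin 3)) (d : Fin 3 → ℂ) (c : ℂ)
    (hA : ∀ x, hF k (mono τ d *ᵥ x) = c * hF k x) : (∀ i, d i ^ 3 = c) ∧ d 0 * d 1 * d 2 = c := by
  have h3 : ∀ i, d i ^ 3 = c := by
    intro i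
    have h1 : mono τ d *ᵥ Pi.single (τ i) 1 = Pi.single i (d i) := by
      funext i'
      simp only [mono_mulVec, Pi.single_apply, τ.injective.eq_iff]
      split_ifs with h
      · rw [h, mul_one]
      · rw [mul_zero]
    have := hA (Pi.single (τ i) 1)
    rw [h1, hF_single, hF_single, one_pow, mul_one] at this
    exact this
  refine ⟨h3, ?_⟩
  have h1 : mono τ d *ᵥ (fun _ => 1) = d := by
    funext i
    simp [mono_mulVec]
  have := hA (fun _ => 1)
  rw [h1] at this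
  simp only [hF, sF, pF, h3] at this
  have h2 : k * (d 0 * d 1 * d 2 - c) = 0 := by linear_combination (-1/3 : ℂ) * this
  have := (mul_eq_zero.mp h2).resolve_left hk
  linear_combination this

/-- cube roots of unity -/
abbrev Mu3 := rootsOfUnity 3 ℂ

lemma mu3_pow (u : Mu3) : ((u : ℂˣ) : ℂ) ^ 3 = 1 := by
  have := (mem_rootsOfUnity 3 (u : ℂˣ)).mp u.2
  have h := congrArg Units.val this
  simpa using h

/-- the weights of the parametrisation -/
noncomputable def dpar (τ : Equiv.Perm (Fin 3)) (u v : Mu3) : Fin 3 → ℂ :=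
  fun i => sg τ * ![((u : ℂˣ) : ℂ), ((v : ℂˣ) : ℂ), (((u : ℂˣ) : ℂ) * ((v : ℂˣ) : ℂ))⁻¹] i

/-- the parametrisation of the automorphisms -/
noncomputable def par (q : Equiv.Perm (Fin 3) × Mu3 × Mu3) : Matrix (Fin 3) (Fin 3) ℂ :=
  mono q.1 (dpar q.1 q.2.1 q.2.2)

lemma sg_cube (τ : Equiv.Perm (Fin 3)) : sg τ ^ 3 = sg τ := by
  calc sg τ ^ 3 = sg τ * sg τ * sg τ := by ring
    _ = sg τ := by rw [sg_sq, one_mul]

lemma dpar_cube (τ : Equiv.Perm (Fin 3)) (u v : Mu3) (i : Fin 3) : dpar τ u v i ^ 3 = sg τ := by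
  have hu := mu3_pow u
  have hv := mu3_pow v
  fin_cases i
  · simp [dpar, mul_pow, sg_cube, hu]
  · simp [dpar, mul_pow, sg_cube, hv]
  · show (sg τ * (((u : ℂˣ) : ℂ) * ((v : ℂˣ) : ℂ))⁻¹) ^ 3 = sg τ
    rw [mul_pow, sg_cube, inv_pow, mul_pow, hu, hv, mul_one, inv_one, mul_one]

lemma dpar_prod (τ : Equiv.Perm (Fin 3)) (u v : Mu3) :
    dpar τ u v 0 * dpar τ u v 1 * dpar τ u v 2 = sg τ := by
  have hu : ((u : ℂˣ) : ℂ) ≠ 0 := Units.ne_zero _
  have hv : ((v : ℂˣ) : ℂ) ≠ 0 := Units.ne_zero _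
  show sg τ * ((u : ℂˣ) : ℂ) * (sg τ * ((v : ℂˣ) : ℂ)) *
      (sg τ * (((u : ℂˣ) : ℂ) * ((v : ℂˣ) : ℂ))⁻¹) = sg τ
  have : sg τ * ((u : ℂˣ) : ℂ) * (sg τ * ((v : ℂˣ) : ℂ)) *
      (sg τ * (((u : ℂˣ) : ℂ) * ((v : ℂˣ) : ℂ))⁻¹) =
      sg τ ^ 3 * ((((u : ℂˣ) : ℂ) * ((v : ℂˣ) : ℂ)) * (((u : ℂˣ) : ℂ) * ((v : ℂˣ) : ℂ))⁻¹) := by ring
  rw [this, mul_inv_cancel₀ (mul_ne_zero hu hv), mul_one, sg_cube]

lemma dpar_ne_zero (τ : Equiv.Perm (Fin 3)) (u v : Mu3) (i : Fin 3) : dpar τ u v i ≠ 0 := by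
  intro h
  have := dpar_cube τ u v i
  rw [h] at this
  exact sg_ne_zero τ (by rw [← this]; ring)

lemma par_injective : Function.Injective par := by
  rintro ⟨τ, u, v⟩ ⟨τ', u', v'⟩ h
  obtain ⟨h1, h2⟩ := mono_injective τ τ' _ _ (dpar_ne_zero τ u v) h
  subst h1
  have e0 := congrFun h2 0
  have e1 := congrFun h2 1
  simp only [dpar, cons_val_zero, cons_val_one, head_cons] at e0 e1
  have hu : u = u' := by
    apply Subtype.ext
    apply Units.ext
    exact mul_left_cancel₀ (sg_ne_zero τ) e0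
  have hv : v = v' := by
    apply Subtype.ext
    apply Units.ext
    exact mul_left_cancel₀ (sg_ne_zero τ) e1
  rw [hu, hv]

/-- the automorphisms of a generic Hesse cubic -/
theorem mem_iff (k : ℂ) (hk : k ∉ Texc) (A : Matrix (Fin 3) (Fin 3) ℂ) :
    (A.det = 1 ∧ ∃ c, ∀ x, hF k (A *ᵥ x) = c * hF k x) ↔ A ∈ Set.range par := by
  constructor
  · rintro ⟨hdet, c, hA⟩
    obtain ⟨b, hb⟩ := pF_prop k hk A hdet c hA
    obtain ⟨τ, d, rfl⟩ := monomial_of_pF A (by rw [hdet]; exact one_ne_zero) b hb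
    obtain ⟨hk0, -, -⟩ := notMem_Texc hk
    obtain ⟨h3, hp⟩ := mono_cond k hk0 τ d c hA
    rw [mono_det, hp] at hdet
    have hc : c = sg τ := by
      calc c = sg τ * sg τ * c := by rw [sg_sq, one_mul]
        _ = sg τ * (sg τ * c) := by ring
        _ = sg τ := by rw [hdet, mul_one]
    subst hc
    have hu3 : (sg τ * d 0) ^ 3 = 1 := by rw [mul_pow, h3, sg_cube, sg_sq]
    have hv3 : (sg τ * d 1) ^ 3 = 1 := by rw [mul_pow, h3, sg_cube, sg_sq]
    refine ⟨(τ, rootsOfUnity.mkOfPowEq _ hu3, rootsOfUnity.mkOfPowEq _ hv3), ?_⟩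
    simp only [par]
    congr 1
    funext i
    have hd0 : d 0 ≠ 0 := by
      intro h; have := h3 0; rw [h] at this; exact sg_ne_zero τ (by rw [← this]; ring)
    have hd1 : d 1 ≠ 0 := by
      intro h; have := h3 1; rw [h] at this; exact sg_ne_zero τ (by rw [← this]; ring)
    have hss := sg_sq τ
    fin_cases i
    · show sg τ * (sg τ * d 0) = d 0
      linear_combination (d 0) * hss
    · show sg τ * (sg τ * d 1) = d 1
      linear_combination (d 1) * hss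
    · have h2 : d 2 = sg τ * (d 0 * d 1)⁻¹ := by
        rw [← hp]
        field_simp
      show sg τ * (sg τ * d 0 * (sg τ * d 1))⁻¹ = d 2
      rw [h2, show sg τ * d 0 * (sg τ * d 1) = (sg τ * sg τ) * (d 0 * d 1) by ring, hss, one_mul]
  · rintro ⟨⟨τ, u, v⟩, rfl⟩
    refine ⟨?_, sg τ, hF_mono k τ _ (sg τ) (dpar_cube τ u v) (dpar_prod τ u v)⟩
    simp only [par]
    rw [mono_det, dpar_prod, sg_sq]

theorem card_range_par : Nat.card (Set.range par) = 54 := by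
  rw [Nat.card_congr (Equiv.ofInjective par par_injective).symm, Nat.card_prod, Nat.card_prod,
    Nat.card_perm, Complex.card_rootsOfUnity, Nat.card_eq_fintype_card, Fintype.card_fin]
  rfl

end Groth.Agent.Helper9.HesseAut
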