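import Mathlib
import Groth.Prelude.Def_LefMon
import Groth.Agent.Helper9.HpullComp
import Groth.Agent.Helper6.HofPushBC2
import Groth.Agent.Helper4.LanExact
import Groth.Prelude.Def_EtLim

/-! Functoriality of `EtAdic.Hmap` (pull-back on `H^i(-, Z/ℓ^ν)`). -/

set_option autoImplicit false
set_option linter.style.haveILetI false
universe u

namespace Groth.Agent.Helper9.HmapComp

open CategoryTheory CategoryTheory.Limits AlgebraicGeometry Opposite

variable {X Y Z : Scheme.{u}} (ℓ : ℕ)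

/-- exactness of the inverse image (as in Helper6.LimCohZ.pfl_pull) -/
theorem pfl_pull (f : X ⟶ Y) : PreservesFiniteLimits (EtCoh.pull f) :=
  Groth.Agent.Helper4.LanExact.sheafPullback_preservesFiniteLimits (EtCoh.bc f)
    Y.smallEtaleTopology X.smallEtaleTopology

theorem Hmap_apply (f : X ⟶ Y) (hf : PreservesFiniteLimits (EtCoh.pull f)) (i ν : ℕ)
    (x : EtAdic.Hmod Y ℓ i ν) :
    EtAdic.Hmap ℓ f hf i ν x =
      haveI := hf
      Sheaf.H.map (EtCore.pullConst f (ZMod (ℓ ^ ν))).hom i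
        (EtCore.Hpull f (EtCoh.const Y (ZMod (ℓ ^ ν))) i x) := rfl

theorem Hmap_comp (f : X ⟶ Y) (g : Y ⟶ Z) (hf : PreservesFiniteLimits (EtCoh.pull f))
    (hg : PreservesFiniteLimits (EtCoh.pull g)) (hfg : PreservesFiniteLimits (EtCoh.pull (f ≫ g)))
    (i ν : ℕ) (x : EtAdic.Hmod Z ℓ i ν) :
    EtAdic.Hmap ℓ (f ≫ g) hfg i ν x = EtAdic.Hmap ℓ f hf i ν (EtAdic.Hmap ℓ g hg i ν x) := by
  haveI := hf
  haveI := hg
  haveI := hfg
  rw [Hmap_apply, Hmap_apply, Hmap_apply]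
  rw [Groth.Agent.Helper9.HpullComp.Hpull_comp f g, Groth.Agent.Helper6.HofPushBC.Hpull_natural]
  rw [← Sheaf.H.map_comp_apply, ← Sheaf.H.map_comp_apply]
  congr 2
  have h := Groth.Agent.Helper9.HpullComp.pullConstIso_comp f g
    (AddCommGrpCat.of (ULift.{u + 1} (ZMod (ℓ ^ ν))))
  have h' : (EtCore.pullConst (f ≫ g) (ZMod (ℓ ^ ν))).hom =
      (EtCore.pullComp f g).hom.app (EtCoh.const Z (ZMod (ℓ ^ ν))) ≫
        (EtCoh.pull f).map (EtCore.pullConst g (ZMod (ℓ ^ ν))).hom ≫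
          (EtCore.pullConst f (ZMod (ℓ ^ ν))).hom := h.symm
  rw [h', Iso.inv_hom_id_app_assoc]

theorem Hmap_congr {f f' : X ⟶ Y} (w : f = f') (hf : PreservesFiniteLimits (EtCoh.pull f))
    (hf' : PreservesFiniteLimits (EtCoh.pull f')) (i ν : ℕ) (x : EtAdic.Hmod Y ℓ i ν) :
    EtAdic.Hmap ℓ f hf i ν x = EtAdic.Hmap ℓ f' hf' i ν x := by
  subst w
  rfl

end Groth.Agent.Helper9.HmapComp
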