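import Mathlib
import Groth.Prelude.Def_DCoh2
import Groth.Agent.Helper9.RFProd
import Groth.Agent.Helper4.RDerTri

/-!
# Total right derived functors commute with derived limits
-/

set_option autoImplicit false
set_option linter.unusedSectionVars false
set_option linter.style.haveILetI false

namespace Groth.Agent.Helper9.RFRlim

open CategoryTheory Category Limits DerivedCategory Groth.Agent.Helper1 Groth.Agent.Helper4
  Pretriangulated

universe w w' v v' u u'

variable {A : Type u} [Category.{v} A] [Abelian A] [HasDerivedCategory.{w} A]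
  {B : Type u'} [Category.{v'} B] [Abelian B] [IsGrothendieckAbelian.{v'} B]
  [HasDerivedCategory.{w'} B]
  (F : B ⥤ A) [F.Additive] (RF : DerivedCategory B ⥤ DerivedCategory A)
  (β : F.mapHomotopyCategory (ComplexShape.up ℤ) ⋙ DerivedCategory.Qh ⟶ DerivedCategory.Qh ⋙ RF)
  [RF.IsRightDerivedFunctor β (HomotopyCategory.quasiIso B (ComplexShape.up ℤ))]

include β in
/-- a total right derived functor on `D(B)` is additive -/
theorem additive : RF.Additive := by
  haveI : (KInjDer.G (A := B)).EssSurj := KInjDer.essSurj KDerAdj.hKinj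
  haveI : (KInjDer.G (A := B) ⋙ RF).Additive :=
    Functor.additive_of_iso (RDerTri.eK F RF β).symm
  exact Functor.additive_of_full_essSurj_comp (KInjDer.G (A := B)) RF

include β in
/-- **`RF` commutes with derived limits.** -/
theorem isRlim_map [HasLimitsOfShape (Discrete ℕ) A]
    [HasExactLimitsOfShape (Discrete ℕ) A] [PreservesLimitsOfShape (Discrete ℕ) F]
    (K : ℕ → DerivedCategory B) (t : ∀ n, K (n + 1) ⟶ K n) (L : DerivedCategory B)
    [HasProduct K] [HasProduct fun n => RF.obj (K n)] (hL : DCoh.IsRlim K t L) :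
    DCoh.IsRlim (fun n => RF.obj (K n)) (fun n => RF.map (t n)) (RF.obj L) := by
  haveI := additive F RF β
  obtain ⟨a, c, hT⟩ := hL
  obtain ⟨c', hc'⟩ := RDerTri.exists_distinguished_map F RF β _ hT
  obtain ⟨hlim⟩ := RFProd.nonempty_isLimit_mapCone F RF β K (Fan.mk (∏ᶜ K) (Pi.π K))
    (productIsProduct K)
  let K' : ℕ → DerivedCategory A := fun n => RF.obj (K n)
  let Θ : RF.obj (∏ᶜ K) ≅ ∏ᶜ K' := hlim.conePointUniqueUpToIso (productIsProduct K')
  have hΘ : ∀ n, Θ.hom ≫ Pi.π K' n = RF.map (Pi.π K n) := fun n =>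
    hlim.conePointUniqueUpToIso_hom_comp (productIsProduct K') ⟨n⟩
  refine ⟨RF.map a ≫ Θ.hom, Θ.inv ≫ c', ?_⟩
  refine isomorphic_distinguished _ hc' _ (Triangle.isoMk _ _ (Iso.refl _) Θ.symm Θ.symm ?_ ?_ ?_)
  · change (RF.map a ≫ Θ.hom) ≫ Θ.inv = 𝟙 _ ≫ RF.map a
    rw [assoc, Iso.hom_inv_id, comp_id, id_comp]
  · change (Pi.lift fun n => Pi.π K' n - Pi.π K' (n + 1) ≫ RF.map (t n)) ≫ Θ.inv =
      Θ.inv ≫ RF.map (Pi.lift fun n => Pi.π K n - Pi.π K (n + 1) ≫ t n)
    rw [← cancel_mono Θ.hom, assoc, Iso.inv_hom_id, comp_id, assoc]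
    rw [← cancel_epi Θ.hom, Iso.hom_inv_id_assoc]
    apply Pi.hom_ext
    intro n
    have h1 : Θ.hom ≫ (Pi.lift fun n => Pi.π K' n - Pi.π K' (n + 1) ≫ RF.map (t n)) ≫ Pi.π K' n =
        RF.map (Pi.π K n) - RF.map (Pi.π K (n + 1)) ≫ RF.map (t n) := by
      rw [Pi.lift_π, Preadditive.comp_sub, hΘ, ← assoc, hΘ]
    have h2 : (RF.map (Pi.lift fun n => Pi.π K n - Pi.π K (n + 1) ≫ t n) ≫ Θ.hom) ≫ Pi.π K' n =
        RF.map (Pi.π K n) - RF.map (Pi.π K (n + 1)) ≫ RF.map (t n) := by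
      rw [assoc, hΘ, ← RF.map_comp, Pi.lift_π, Functor.map_sub, RF.map_comp]
    exact (assoc _ _ _).trans (h1.trans h2.symm)
  · change (Θ.inv ≫ c') ≫ (𝟙 (RF.obj L))⟦(1 : ℤ)⟧' = Θ.inv ≫ c'
    have : (𝟙 (RF.obj L))⟦(1 : ℤ)⟧' = 𝟙 _ := (shiftFunctor (DerivedCategory A) (1 : ℤ)).map_id _
    exact (congrArg (fun x => (Θ.inv ≫ c') ≫ x) this).trans (comp_id _)

end Groth.Agent.Helper9.RFRlim
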