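import Mathlib
import Groth.Agent.Helper9.HP2
import Groth.Agent.Helper9.KFlat11
import Groth.Agent.Helper9.Leray2
import Groth.Agent.Helper9.Leray4
import Groth.Agent.Helper9.RFRlim

/-!
# Unbounded Leray acyclicity when `RF` commutes with countable coproducts

`B` Grothendieck abelian, `F : B ⥤ A` additive into a Grothendieck abelian category, `RF` the total
right derived functor.  If `RF` preserves countable coproducts, then `F(K) ⟶ RF(K)` is an
isomorphism for every complex `K` with `F`-acyclic terms.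
-/

set_option autoImplicit false
set_option linter.unusedSectionVars false
set_option linter.unusedVariables false
set_option linter.style.haveILetI false

namespace Groth.Agent.Helper9.HocRF

open CategoryTheory Category Limits DerivedCategory Pretriangulated
  Groth.Agent.Helper1 Groth.Agent.Helper4

universe w w' v v' u u'

section General

variable {A : Type u} [Category.{v} A] [Abelian A] [IsGrothendieckAbelian.{v} A]
  [HasDerivedCategory.{w} A]

/-- a morphism between homotopy colimits compatible with an isomorphism of the systems is an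
isomorphism -/
theorem isIso_of_isHocolim (E₁ E₂ : ℕ → DerivedCategory A)
    (f₁ : ∀ n, E₁ n ⟶ E₁ (n + 1)) (f₂ : ∀ n, E₂ n ⟶ E₂ (n + 1))
    [HasCoproduct E₁] [HasCoproduct E₂] (L₁ L₂ : DerivedCategory A)
    (i₁ : ∀ n, E₁ n ⟶ L₁) (i₂ : ∀ n, E₂ n ⟶ L₂)
    (h₁ : DerLim.IsHocolim E₁ f₁ L₁ i₁) (h₂ : DerLim.IsHocolim E₂ f₂ L₂ i₂)
    (g : ∀ n, E₁ n ⟶ E₂ n) (hgi : ∀ n, IsIso (g n))
    (hg : ∀ n, f₁ n ≫ g (n + 1) = g n ≫ f₂ n)
    (φ : L₁ ⟶ L₂) (hφ : ∀ n, i₁ n ≫ φ = g n ≫ i₂ n) : IsIso φ := by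
  haveI : HasColimitsOfShape ℕ A := HP2.hasColimitsOfShape_nat
  haveI : HasExactColimitsOfShape ℕ A := HP2.hasExactColimitsOfShape_nat
  rw [DerivedCategory.isIso_iff]
  intro q
  have key : ∀ (E : ℕ → DerivedCategory A) [HasCoproduct E],
      PreservesColimit (Discrete.functor E)
        (shiftFunctor (DerivedCategory A) (1 : ℤ) ⋙ homologyFunctor A q) := by
    intro E _
    haveI : PreservesColimit (Discrete.functor E) ((homologyFunctor A 0).shift (q + 1)) :=
      HP2.preservesCoproduct_homology E (q + 1)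
    exact preservesColimit_of_natIso _
      ((homologyFunctor A 0).shiftIso 1 q (q + 1) (by omega)).symm
  haveI := HP2.preservesCoproduct_homology E₁ q
  haveI := HP2.preservesCoproduct_homology E₂ q
  haveI := key E₁
  haveI := key E₂
  obtain ⟨e₁, he₁⟩ := HocolimH.main (homologyFunctor A q) E₁ f₁ L₁ i₁ h₁
  obtain ⟨e₂, he₂⟩ := HocolimH.main (homologyFunctor A q) E₂ f₂ L₂ i₂ h₂
  let α : Functor.ofSequence (fun n => (homologyFunctor A q).map (f₁ n)) ⟶
      Functor.ofSequence (fun n => (homologyFunctor A q).map (f₂ n)) :=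
    NatTrans.ofSequence (fun n => (homologyFunctor A q).map (g n)) (fun n => by
      rw [Functor.ofSequence_map_homOfLE_succ, Functor.ofSequence_map_homOfLE_succ]
      exact ((homologyFunctor A q).map_comp _ _).symm.trans
        ((congrArg (homologyFunctor A q).map (hg n)).trans ((homologyFunctor A q).map_comp _ _)))
  haveI : ∀ n, IsIso (α.app n) := fun n => by
    haveI := hgi n
    change IsIso ((homologyFunctor A q).map (g n))
    infer_instance
  haveI : IsIso α := NatIso.isIso_of_isIso_app α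
  let γ := colimMap α
  haveI : IsIso γ := by
    have : γ = (HasColimit.isoOfNatIso (asIso α)).hom := by
      apply colimit.hom_ext
      intro n
      simp [γ]
    rw [this]
    infer_instance
  have hcomp : e₁.hom ≫ (homologyFunctor A q).map φ = γ ≫ e₂.hom := by
    apply colimit.hom_ext
    intro n
    have h1 : colimit.ι (Functor.ofSequence fun n => (homologyFunctor A q).map (f₁ n)) n ≫
        e₁.hom ≫ (homologyFunctor A q).map φ =
        (homologyFunctor A q).map (g n) ≫ (homologyFunctor A q).map (i₂ n) := by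
      rw [← assoc, he₁]
      exact ((homologyFunctor A q).map_comp _ _).symm.trans
        ((congrArg (homologyFunctor A q).map (hφ n)).trans ((homologyFunctor A q).map_comp _ _))
    have h2 : colimit.ι (Functor.ofSequence fun n => (homologyFunctor A q).map (f₁ n)) n ≫
        γ ≫ e₂.hom =
        (homologyFunctor A q).map (g n) ≫ (homologyFunctor A q).map (i₂ n) := by
      rw [← assoc]
      erw [ι_colimMap]
      rw [assoc, he₂]
      rfl
    exact h1.trans h2.symm
  have : (homologyFunctor A q).map φ = e₁.inv ≫ γ ≫ e₂.hom := by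
    rw [← hcomp, Iso.inv_hom_id_assoc]
  rw [this]
  infer_instance

end General

section Main

variable {A : Type u} [Category.{v} A] [Abelian A] [IsGrothendieckAbelian.{v} A]
  [HasDerivedCategory.{w} A]
  {B : Type u'} [Category.{v'} B] [Abelian B] [IsGrothendieckAbelian.{v'} B]
  [HasDerivedCategory.{w'} B]
  (F : B ⥤ A) [F.Additive] (RF : DerivedCategory B ⥤ DerivedCategory A)
  (β : F.mapHomotopyCategory (ComplexShape.up ℤ) ⋙ DerivedCategory.Qh ⟶ DerivedCategory.Qh ⋙ RF)
  [RF.IsRightDerivedFunctor β (HomotopyCategory.quasiIso B (ComplexShape.up ℤ))]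

include β in
/-- `RF` sends homotopy colimits to homotopy colimits if it preserves countable coproducts -/
theorem isHocolim_map (E : ℕ → DerivedCategory B) (f : ∀ n, E n ⟶ E (n + 1))
    (L : DerivedCategory B) (i : ∀ n, E n ⟶ L) [HasCoproduct E]
    [HasCoproduct fun n => RF.obj (E n)] [PreservesColimit (Discrete.functor E) RF]
    (h : DerLim.IsHocolim E f L i) :
    DerLim.IsHocolim (fun n => RF.obj (E n)) (fun n => RF.map (f n)) (RF.obj L)
      (fun n => RF.map (i n)) := by
  haveI := RFRlim.additive F RF β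
  obtain ⟨c, hT⟩ := h
  obtain ⟨c', hc'⟩ := RDerTri.exists_distinguished_map F RF β _ hT
  let E' : ℕ → DerivedCategory A := fun n => RF.obj (E n)
  let σ : ∐ E' ≅ RF.obj (∐ E) := asIso (sigmaComparison RF E)
  have hσ : ∀ n, Sigma.ι E' n ≫ σ.hom = RF.map (Sigma.ι E n) := fun n =>
    ι_comp_sigmaComparison RF E n
  refine ⟨c' ≫ σ.inv⟦(1 : ℤ)⟧', ?_⟩
  refine isomorphic_distinguished _ hc' _ (Triangle.isoMk _ _ σ σ (Iso.refl _) ?_ ?_ ?_)
  · change (𝟙 (∐ E') - DerLim.shiftMap E' (fun n => RF.map (f n))) ≫ σ.hom =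
      σ.hom ≫ RF.map (𝟙 (∐ E) - DerLim.shiftMap E f)
    apply Sigma.hom_ext
    intro n
    have h1 : Sigma.ι E' n ≫ (𝟙 (∐ E') - DerLim.shiftMap E' (fun n => RF.map (f n))) ≫ σ.hom =
        RF.map (Sigma.ι E n) - RF.map (f n) ≫ RF.map (Sigma.ι E (n + 1)) := by
      rw [← assoc, Preadditive.comp_sub, comp_id]
      unfold DerLim.shiftMap
      rw [Sigma.ι_desc, Preadditive.sub_comp, hσ, assoc, hσ]
    have h2 : Sigma.ι E' n ≫ σ.hom ≫ RF.map (𝟙 (∐ E) - DerLim.shiftMap E f) =
        RF.map (Sigma.ι E n) - RF.map (f n) ≫ RF.map (Sigma.ι E (n + 1)) := by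
      rw [← assoc, hσ, ← RF.map_comp, Preadditive.comp_sub, comp_id]
      unfold DerLim.shiftMap
      rw [Sigma.ι_desc, Functor.map_sub, RF.map_comp]
    exact h1.trans h2.symm
  · change Sigma.desc (fun n => RF.map (i n)) ≫ 𝟙 _ = σ.hom ≫ RF.map (Sigma.desc i)
    rw [comp_id]
    apply Sigma.hom_ext
    intro n
    rw [Sigma.ι_desc, ← assoc, hσ, ← RF.map_comp, Sigma.ι_desc]
  · change (c' ≫ σ.inv⟦(1 : ℤ)⟧') ≫ σ.hom⟦(1 : ℤ)⟧' = 𝟙 _ ≫ c'
    have hs : σ.inv⟦(1 : ℤ)⟧' ≫ σ.hom⟦(1 : ℤ)⟧' = 𝟙 _ := by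
      rw [← Functor.map_comp, Iso.inv_hom_id, CategoryTheory.Functor.map_id]
    exact (assoc _ _ _).trans ((congrArg (fun x => c' ≫ x) hs).trans
      ((comp_id _).trans (id_comp _).symm))

end Main

section Final

open KFlat11

variable {A : Type u} [Category.{v} A] [Abelian A] [IsGrothendieckAbelian.{v} A]
  [HasDerivedCategory.{w} A]
  {B : Type u'} [Category.{v'} B] [Abelian B] [IsGrothendieckAbelian.{v'} B]
  [HasDerivedCategory.{w'} B]
  (F : B ⥤ A) [F.Additive] (RF : DerivedCategory B ⥤ DerivedCategory A)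
  (β : F.mapHomotopyCategory (ComplexShape.up ℤ) ⋙ DerivedCategory.Qh ⟶ DerivedCategory.Qh ⋙ RF)
  [RF.IsRightDerivedFunctor β (HomotopyCategory.quasiIso B (ComplexShape.up ℤ))]

include β in
lemma acy_kerLE (K : CochainComplex B ℤ) (hK : ∀ n, Leray1.Acy RF (K.X n)) (c n : ℤ) :
    Leray1.Acy RF ((kerLE K c).X n) := by
  by_cases hn : n ≤ c
  · exact Leray1.Acy.of_isZero F RF β _ (isZero_kerLE_X K c n hn)
  · haveI := isIso_ιGT_f K c n (by omega)
    exact Leray1.Acy.of_iso F RF β (asIso ((ιGT K c).f n)).symm (hK n)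

lemma isIso_homology_ιGT (K : CochainComplex B ℤ) (c q : ℤ) (h : c + 1 < q) :
    IsIso ((homologyFunctor B q).map (Q.map (ιGT K c))) :=
  (Leray1.isIso_homology_Q_map_iff _ q).2
    (Leray4.quasiIsoAt_of_isIso_f _ q (isIso_ιGT_f K c (q - 1) (by omega))
      (isIso_ιGT_f K c q (by omega)) (isIso_ιGT_f K c (q + 1) (by omega)))

lemma isIso_homology_map_ιGT (K : CochainComplex B ℤ) (c q : ℤ) (h : c + 1 < q) :
    IsIso ((homologyFunctor A q).map
      (Q.map ((F.mapHomologicalComplex (ComplexShape.up ℤ)).map (ιGT K c)))) := by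
  have key : ∀ m : ℤ, c < m →
      IsIso (((F.mapHomologicalComplex (ComplexShape.up ℤ)).map (ιGT K c)).f m) := fun m hm => by
    haveI := isIso_ιGT_f K c m hm
    change IsIso (F.map ((ιGT K c).f m))
    infer_instance
  exact (Leray1.isIso_homology_Q_map_iff _ q).2
    (Leray4.quasiIsoAt_of_isIso_f _ q (key (q - 1) (by omega)) (key q (by omega))
      (key (q + 1) (by omega)))

include β in
/-- **Unbounded Leray acyclicity** when `RF` preserves countable coproducts. -/
theorem isIso_βQ [PreservesFiniteLimits F] [HasColimitsOfShape (Discrete ℕ) (DerivedCategory B)]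
    [PreservesColimitsOfShape (Discrete ℕ) RF]
    (K : CochainComplex B ℤ) (hK : ∀ n, Leray1.Acy RF (K.X n)) :
    IsIso (Leray1.βQ F RF β K) := by
  haveI : HasColimitsOfShape (Discrete ℕ) A := HP2.hasColimitsOfShape_discrete_nat
  haveI : HasExactColimitsOfShape (Discrete ℕ) A := HP2.hasExactColimitsOfShape_discrete_nat
  haveI : HasColimitsOfShape (Discrete ℕ) (DerivedCategory A) :=
    DCoprod.hasColimitsOfShape_discrete
  let c : ℕ → ℤ := fun n => -(n : ℤ) - 1
  have hc : ∀ n, c (n + 1) ≤ c n := fun n => by simp only [c]; push_cast; omega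
  let S : ℕ → CochainComplex B ℤ := fun n => kerLE K (c n)
  let t : ∀ n, S n ⟶ S (n + 1) := fun n => KFlat11.trans K (c n) (c (n + 1)) (hc n)
  let ι : ∀ n, S n ⟶ K := fun n => ιGT K (c n)
  have hw : ∀ n, t n ≫ ι (n + 1) = ι n := fun n => trans_ιGT K _ _ _
  let FC := F.mapHomologicalComplex (ComplexShape.up ℤ)
  let E : ℕ → DerivedCategory B := fun n => Q.obj (S n)
  let f : ∀ n, E n ⟶ E (n + 1) := fun n => Q.map (t n)
  let i : ∀ n, E n ⟶ Q.obj K := fun n => Q.map (ι n)
  let E₁ : ℕ → DerivedCategory A := fun n => Q.obj (FC.obj (S n))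
  let f₁ : ∀ n, E₁ n ⟶ E₁ (n + 1) := fun n => Q.map (FC.map (t n))
  let i₁ : ∀ n, E₁ n ⟶ Q.obj (FC.obj K) := fun n => Q.map (FC.map (ι n))
  have hfi : ∀ n, f n ≫ i (n + 1) = i n := fun n => by
    dsimp only [f, i]
    rw [← Q.map_comp, hw]
  have hfi₁ : ∀ n, f₁ n ≫ i₁ (n + 1) = i₁ n := fun n => by
    dsimp only [f₁, i₁]
    rw [← Q.map_comp, ← FC.map_comp, hw]
  have hB : DerLim.IsHocolim E f (Q.obj K) i :=
    HP2.isHocolim_of_eventually_iso E f _ i hfi (fun q => ⟨(1 - q).toNat, fun n hn =>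
      isIso_homology_ιGT K (c n) q (by simp only [c]; omega)⟩)
  have hA : DerLim.IsHocolim E₁ f₁ (Q.obj (FC.obj K)) i₁ :=
    HP2.isHocolim_of_eventually_iso E₁ f₁ _ i₁ hfi₁ (fun q => ⟨(1 - q).toNat, fun n hn =>
      isIso_homology_map_ιGT F K (c n) q (by simp only [c]; omega)⟩)
  have hRF := isHocolim_map F RF β E f (Q.obj K) i hB
  have hiso : ∀ n, IsIso (Leray1.βQ F RF β (S n)) := fun n => by
    haveI : (S n).IsStrictlyGE (c n + 1) := KFlat11.isStrictlyGE_kerLE K _ _ le_rfl
    exact Leray2.isIso_βQ_of_isStrictlyGE F RF β (S n) (c n + 1)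
      (fun m => acy_kerLE F RF β K hK _ m)
  exact isIso_of_isHocolim E₁ (fun n => RF.obj (E n)) f₁ (fun n => RF.map (f n)) _ _ i₁
    (fun n => RF.map (i n)) hA hRF (fun n => Leray1.βQ F RF β (S n)) hiso
    (fun n => Leray1.βQ_naturality F RF β _) (Leray1.βQ F RF β K)
    (fun n => Leray1.βQ_naturality F RF β _)

end Final

end Groth.Agent.Helper9.HocRF
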