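import Mathlib
set_option autoImplicit false

namespace Groth.Agent.Helper9.HomBC

open scoped TensorProduct

universe u v w w' u'

variable {K : Type u} [Field K] {D : Type v} [Ring D] [Algebra K D]
  {E : Type w} [AddCommGroup E] [Module K E] [Module D E] [IsScalarTower K D E]
  {F : Type w'} [AddCommGroup F] [Module K F] [Module D F] [IsScalarTower K D F]
  (P : Type u') [CommRing P] [Algebra K P]

theorem main [Module.Finite D E]
    (Φ : P ⊗[K] (E →ₗ[D] F) →ₗ[P] (P ⊗[K] E →ₗ[P] P ⊗[K] F))
    (hΦ : ∀ (p : P) (f : E →ₗ[D] F), Φ (p ⊗ₜ[K] f) = p • (f.restrictScalars K).baseChange P) :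
    Function.Injective Φ ∧
      ∀ g : P ⊗[K] E →ₗ[P] P ⊗[K] F,
        g ∈ LinearMap.range Φ ↔
          ∀ d : D, g ∘ₗ (DistribSMul.toLinearMap K E d).baseChange P =
            (DistribSMul.toLinearMap K F d).baseChange P ∘ₗ g := by
  classical
  let b := Module.Free.chooseBasis K P
  let eqF := TensorProduct.equivFinsuppOfBasisLeft (N := F) b
  let eqH := TensorProduct.equivFinsuppOfBasisLeft (N := (E →ₗ[D] F)) b
  have hA : ∀ (t : P ⊗[K] (E →ₗ[D] F)) (e : E) (a : Module.Free.ChooseBasisIndex K P),
      eqF (Φ t (1 ⊗ₜ e)) a = (eqH t a) e := by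
    intro t e a
    induction t using TensorProduct.induction_on with
    | zero => simp
    | tmul p f =>
      rw [hΦ, LinearMap.smul_apply, LinearMap.baseChange_tmul, TensorProduct.smul_tmul', smul_eq_mul,
        mul_one]
      simp only [eqF, eqH, TensorProduct.equivFinsuppOfBasisLeft_apply_tmul_apply]
      rfl
    | add x y hx hy =>
      rw [map_add, LinearMap.add_apply, map_add, Finsupp.add_apply, hx, hy, map_add,
        Finsupp.add_apply, LinearMap.add_apply]
  have hB : ∀ (d : D) (z : P ⊗[K] F) (a : Module.Free.ChooseBasisIndex K P),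
      eqF ((DistribSMul.toLinearMap K F d).baseChange P z) a = d • eqF z a := by
    intro d z a
    induction z using TensorProduct.induction_on with
    | zero => simp
    | tmul p y =>
      rw [LinearMap.baseChange_tmul]
      simp only [eqF, TensorProduct.equivFinsuppOfBasisLeft_apply_tmul_apply]
      show (b.repr p a) • (d • y) = d • ((b.repr p a) • y)
      rw [smul_comm]
    | add x y hx hy =>
      rw [map_add, map_add, Finsupp.add_apply, hx, hy, map_add, Finsupp.add_apply, smul_add]
  refine ⟨?_, ?_⟩
  · rw [injective_iff_map_eq_zero]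
    intro t ht
    apply eqH.injective
    rw [map_zero]
    ext a e
    rw [← hA, ht]
    simp
  · intro g
    constructor
    · rintro ⟨t, rfl⟩ d
      induction t using TensorProduct.induction_on with
      | zero => simp
      | tmul p f =>
        rw [hΦ]
        apply TensorProduct.AlgebraTensorModule.ext
        intro q e
        simp only [LinearMap.comp_apply, LinearMap.smul_apply, LinearMap.baseChange_tmul, map_smul]
        congr 2
        exact f.map_smul d e
      | add x y hx hy =>
        rw [map_add, LinearMap.add_comp, LinearMap.comp_add, hx, hy]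
    · intro hg
      have hg' : ∀ (d : D) (x : P ⊗[K] E), g ((DistribSMul.toLinearMap K E d).baseChange P x) =
          (DistribSMul.toLinearMap K F d).baseChange P (g x) := fun d x => LinearMap.congr_fun (hg d) x
      let f : Module.Free.ChooseBasisIndex K P → (E →ₗ[D] F) := fun a =>
        { toFun := fun e => eqF (g (1 ⊗ₜ e)) a
          map_add' := by
            intro e e'
            rw [TensorProduct.tmul_add, map_add, map_add, Finsupp.add_apply]
          map_smul' := by
            intro d e
            have : ((1 : P) ⊗ₜ[K] (d • e)) =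
                (DistribSMul.toLinearMap K E d).baseChange P (1 ⊗ₜ e) := by
              rw [LinearMap.baseChange_tmul]; rfl
            rw [this, hg', hB]
            rfl }
      obtain ⟨s, hs⟩ := (Module.finite_def (R := D) (M := E)).mp inferInstance
      let S : Finset (Module.Free.ChooseBasisIndex K P) :=
        s.biUnion (fun e => (eqF (g (1 ⊗ₜ e))).support)
      have hf0 : ∀ a, a ∉ S → f a = 0 := by
        intro a ha
        apply LinearMap.ext_on hs
        intro e he
        show eqF (g (1 ⊗ₜ e)) a = 0
        by_contra hne
        apply ha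
        rw [Finset.mem_biUnion]
        exact ⟨e, he, Finsupp.mem_support_iff.mpr hne⟩
      refine ⟨∑ a ∈ S, b a ⊗ₜ f a, ?_⟩
      apply TensorProduct.AlgebraTensorModule.ext
      intro p e
      have hp : (p ⊗ₜ[K] e : P ⊗[K] E) = p • (1 ⊗ₜ e) := by
        rw [TensorProduct.smul_tmul', smul_eq_mul, mul_one]
      rw [hp, map_smul, map_smul]
      congr 1
      apply eqF.injective
      ext a
      rw [hA, map_sum, Finsupp.finsetSum_apply]
      have hterm : ∀ a' ∈ S, eqH (b a' ⊗ₜ f a') a = if a' = a then f a' else 0 := by
        intro a' _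
        simp only [eqH, TensorProduct.equivFinsuppOfBasisLeft_apply_tmul_apply, Module.Basis.repr_self,
          Finsupp.single_apply]
        split_ifs <;> simp
      rw [Finset.sum_congr rfl hterm, Finset.sum_ite_eq' S a]
      split_ifs with haS
      · rfl
      · have := LinearMap.congr_fun (hf0 a haS) e
        exact this.symm

end Groth.Agent.Helper9.HomBC
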