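import Mathlib
import Groth.Prelude.Def_DRing4
import Groth.Agent.Helper9.HomK3

/-!
# The class `PGood`: complexes concentrated in one degree
-/

set_option autoImplicit false
universe u
open CategoryTheory CategoryTheory.Limits MonoidalCategory
open CochainComplex CochainComplex.HomComplex
open Groth.Agent.Helper6 Groth.Agent.Helper6.HomTen

namespace Groth.Agent.Helper9.HomK

variable {A : Type u} [CommRing A]

/-- the module-level version: `E[0]` is good -/
def MGood (E : ModuleCat.{u} A) : Prop :=
  PGood ((HomologicalComplex.single (ModuleCat.{u} A) (ComplexShape.up ℤ) 0).obj E)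

theorem mgood_unit : MGood (ModuleCat.of A A) := pgood_unit (A := A)

theorem mgood_of_retract {E E' : ModuleCat.{u} A} (i : E ⟶ E') (r : E' ⟶ E) (hir : i ≫ r = 𝟙 E)
    (h : MGood E') : MGood E :=
  pgood_of_retract ((HomologicalComplex.single (ModuleCat.{u} A) (ComplexShape.up ℤ) 0).map i)
    ((HomologicalComplex.single (ModuleCat.{u} A) (ComplexShape.up ℤ) 0).map r)
    (by rw [← Functor.map_comp, hir, CategoryTheory.Functor.map_id]) h

theorem mgood_of_split (S₀ : ShortComplex (ModuleCat.{u} A)) (s₀ : S₀.Splitting)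
    (h1 : MGood S₀.X₁) (h3 : MGood S₀.X₃) : MGood S₀.X₂ :=
  pgood_of_ses (S₀.map (HomologicalComplex.single (ModuleCat.{u} A) (ComplexShape.up ℤ) 0))
    (fun n => (s₀.map (HomologicalComplex.single (ModuleCat.{u} A) (ComplexShape.up ℤ) 0)).map
      (HomologicalComplex.eval _ _ n)) h1 h3

theorem mgood_prod (E₁ E₂ : Type u) [AddCommGroup E₁] [Module A E₁] [AddCommGroup E₂] [Module A E₂]
    (h1 : MGood (ModuleCat.of A E₁)) (h2 : MGood (ModuleCat.of A E₂)) :
    MGood (ModuleCat.of A (E₁ × E₂)) := by
  let S₀ : ShortComplex (ModuleCat.{u} A) :=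
    ShortComplex.mk (ModuleCat.ofHom (LinearMap.inl A E₁ E₂)) (ModuleCat.ofHom (LinearMap.snd A E₁ E₂))
      (by ext x; simp)
  have s₀ : S₀.Splitting :=
    { r := ModuleCat.ofHom (LinearMap.fst A E₁ E₂)
      s := ModuleCat.ofHom (LinearMap.inr A E₁ E₂)
      f_r := by ext x; simp [S₀]
      s_g := by ext x; simp [S₀]
      id := by
        ext <;> simp [S₀] }
  exact mgood_of_split S₀ s₀ h1 h2

theorem mgood_of_subsingleton (E : ModuleCat.{u} A) [Subsingleton E] : MGood E :=
  mgood_of_retract (E' := ModuleCat.of A A) 0 0 (by ext x; exact Subsingleton.elim _ _) mgood_unit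

theorem mgood_pi (k : ℕ) : MGood (ModuleCat.of A (Fin k → A)) := by
  induction k with
  | zero => exact mgood_of_subsingleton _
  | succ k ih =>
    let e : (A × (Fin k → A)) ≃ₗ[A] (Fin (k + 1) → A) := Fin.consLinearEquiv A (fun _ => A)
    exact mgood_of_retract (ModuleCat.ofHom e.symm.toLinearMap) (ModuleCat.ofHom e.toLinearMap)
      (by ext x; simp) (mgood_prod A (Fin k → A) mgood_unit ih)

theorem mgood_of_finite_projective (E : ModuleCat.{u} A) [Module.Finite A E]
    [Module.Projective A E] : MGood E := by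
  obtain ⟨k, f, hf⟩ := Module.Finite.exists_fin' A E
  obtain ⟨g, hg⟩ := Module.projective_lifting_property f LinearMap.id hf
  exact mgood_of_retract (E' := ModuleCat.of A (Fin k → A)) (ModuleCat.ofHom g) (ModuleCat.ofHom f)
    (by
      ext x
      exact LinearMap.congr_fun hg x) (mgood_pi k)

/-- single-degree complexes in an arbitrary degree -/
theorem pgood_single (b : ℤ) (E : ModuleCat.{u} A) (h : MGood E) :
    PGood ((HomologicalComplex.single (ModuleCat.{u} A) (ComplexShape.up ℤ) b).obj E) :=
  pgood_of_iso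
    (((CochainComplex.singleFunctors (ModuleCat.{u} A)).shiftIso (-b) b 0 (by omega)).app E).symm
    (pgood_shift h (-b))

end Groth.Agent.Helper9.HomK
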