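import Mathlib
import Groth.Prelude.Def_DRing4
import Groth.Agent.Helper9.HomK4
import Groth.Agent.Helper3.DRingPeel

/-!
# The class `PGood`: bounded complexes of finite projective modules; `Hom•(P, K)` for `P` perfect
-/

set_option autoImplicit false
set_option linter.style.haveILetI false
universe u
open CategoryTheory CategoryTheory.Limits MonoidalCategory
open CochainComplex CochainComplex.HomComplex
open Groth.Agent.Helper6 Groth.Agent.Helper6.HomTen Groth.Agent.Helper3.DRingLib

namespace Groth.Agent.Helper9.HomK

variable {A : Type u} [CommRing A]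

theorem pgood_of_isZero_X (F : DRing.Cx A) (hF : ∀ i : ℤ, IsZero (F.X i)) : PGood F :=
  pgood_of_retract (F' := 𝟙_ (DRing.Cx A)) 0 0
    (HomologicalComplex.hom_ext _ _ (fun i => (hF i).eq_of_src _ _)) pgood_unit

/-- degreewise splitting of the peeling sequence -/
noncomputable def peelSplitting (F : DRing.Cx A) (b : ℤ) (hF : DRing.VanishesAbove F b) (n : ℤ) :
    ((peelSC F b hF).map (HomologicalComplex.eval _ _ n)).Splitting := by
  by_cases hn : n = b
  · subst hn
    refine ShortComplex.Splitting.ofIsIsoOfIsZero
      (S := (peelSC F n hF).map (HomologicalComplex.eval _ _ n)) ?_ ?_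
    · change IsIso ((iotaTop F n hF).f n)
      rw [iotaTop, HomologicalComplex.mkHomFromSingle_f]
      infer_instance
    · exact isZero_sigmaLE_X F (n - 1) n (by omega)
  · refine ShortComplex.Splitting.ofIsZeroOfIsIso
      (S := (peelSC F b hF).map (HomologicalComplex.eval _ _ n)) ?_ ?_
    · exact HomologicalComplex.isZero_single_obj_X (ComplexShape.up ℤ) b (F.X b) n hn
    · change IsIso ((piLE F (b - 1)).f n)
      by_cases hnb : n ≤ b - 1
      · exact isIso_piLE_f F (b - 1) n hnb
      · exact ⟨0, (hF n (by omega)).eq_of_src _ _,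
          (isZero_sigmaLE_X F (b - 1) n (by omega)).eq_of_src _ _⟩

theorem pgood_of_bounded_aux (k : ℕ) : ∀ (F : DRing.Cx A) (a b : ℤ), b - a + 1 ≤ k →
    DRing.VanishesOutside F a b → DRing.TermwiseFiniteProjective F → PGood F := by
  induction k with
  | zero =>
    intro F a b hk hF _
    exact pgood_of_isZero_X F (fun i => hF i (by omega))
  | succ k ih =>
    intro F a b hk hF hFp
    have hFb : DRing.VanishesAbove F b := fun i hi => hF i (Or.inr hi)
    have h1 : PGood (peelSC F b hFb).X₁ := by
      haveI := (hFp b).1
      haveI := (hFp b).2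
      exact pgood_single b (F.X b) (mgood_of_finite_projective (F.X b))
    have h3 : PGood (peelSC F b hFb).X₃ := by
      refine ih (sigmaLE F (b - 1)) a (b - 1) (by omega) (fun i hi => ?_) (fun i => ?_)
      · by_cases hib : i ≤ b - 1
        · haveI := isIso_piLE_f F (b - 1) i hib
          exact (hF i (by omega)).of_iso (asIso ((piLE F (b - 1)).f i)).symm
        · exact isZero_sigmaLE_X F (b - 1) i (by omega)
      · by_cases hib : i ≤ b - 1
        · haveI := isIso_piLE_f F (b - 1) i hib
          let e : (F.X i) ≃ₗ[A] ((sigmaLE F (b - 1)).X i) :=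
            (asIso ((piLE F (b - 1)).f i)).toLinearEquiv
          haveI := (hFp i).1
          haveI := (hFp i).2
          exact ⟨Module.Finite.equiv e, Module.Projective.of_equiv e⟩
        · haveI : Subsingleton ((sigmaLE F (b - 1)).X i) :=
            ModuleCat.subsingleton_of_isZero (isZero_sigmaLE_X F (b - 1) i (by omega))
          exact ⟨inferInstance, inferInstance⟩
    exact pgood_of_ses (peelSC F b hFb) (peelSplitting F b hFb) h1 h3

theorem pgood_of_bounded (F : DRing.Cx A) (a b : ℤ) (hF : DRing.VanishesOutside F a b)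
    (hFp : DRing.TermwiseFiniteProjective F) : PGood F :=
  pgood_of_bounded_aux (b - a + 1).toNat F a b (by omega) hF hFp

/-- S7088 -/
theorem main (P K : DRing.Cx A) (b : ℤ)
    (hPb : DRing.VanishesAbove P b) (hPp : ∀ i : ℤ, Module.Projective A (P.X i))
    (hperf : DRing.IsPerfect A (DRing.toD P)) (hK : TenCx.KFlat K) :
    TenCx.KFlat (DRing.homCx P K) :=
  kflat_homCx_of_perfect P K b hPb hPp hperf
    (fun E a b' hE hEp => pgood_of_bounded E a b' hE hEp K hK)

end Groth.Agent.Helper9.HomK
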