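import Mathlib
import Groth.Prelude.Def_DRing4
import Groth.Prelude.Def_DTen
import Groth.Agent.Helper6.HomTenB

/-!
# The swap `Hom•(K, Hom•(P, X)) ≅ Hom•(P, Hom•(K, X))`, naturally in `P`
-/

set_option autoImplicit false
set_option linter.style.haveILetI false
set_option linter.unusedSectionVars false

universe u

open CategoryTheory CategoryTheory.Limits MonoidalCategory

namespace Groth.Agent.Helper9.HomT8

open Groth.Agent.Helper6.HomTen

variable {A : Type u} [CommRing A]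

/-- `Hom•(a, -)` is the conjugate of `- ⊗ a` -/
lemma conjugate_tensoringRight_map {P₁ P₂ : DRing.Cx A} (a : P₁ ⟶ P₂) :
    conjugateEquiv (adjC P₂) (adjC P₁) ((tensoringRight (DRing.Cx A)).map a) =
      homCxPreNat a := by
  refine NatTrans.ext (funext fun X => ?_)
  apply ((adjC P₁).homEquiv _ _).symm.injective
  rw [Adjunction.homEquiv_counit, Adjunction.homEquiv_counit, conjugateEquiv_counit,
    adjC_counit_app, adjC_counit_app]
  exact (evC_dinat a X).symm

section Swap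

variable (K P : DRing.Cx A)

/-- `(W ⊗ P) ⊗ K ≅ (W ⊗ K) ⊗ P` -/
noncomputable def swapObj (W : DRing.Cx A) : (W ⊗ P) ⊗ K ≅ (W ⊗ K) ⊗ P :=
  α_ W P K ≪≫ whiskerLeftIso W (DTen.braidCx P K) ≪≫ (α_ W K P).symm

lemma braid_nat_right {P₁ P₂ : DRing.Cx A} (a : P₁ ⟶ P₂) :
    (DTen.braidCx P₁ K).hom ≫ (K ◁ a) = (a ▷ K) ≫ (DTen.braidCx P₂ K).hom := by
  have h := DTen.braidCx_naturality a (𝟙 K)
  rw [tensorHom_id, id_tensorHom] at h
  exact h.symm

lemma braid_nat_left {W W' : DRing.Cx A} (w : W ⟶ W') :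
    (DTen.braidCx P W).hom ≫ (w ▷ P) = (P ◁ w) ≫ (DTen.braidCx P W').hom := by
  have h := DTen.braidCx_naturality (𝟙 P) w
  rw [tensorHom_id, id_tensorHom] at h
  exact h.symm

/-- the swap of the two tensor factors, as an isomorphism of functors -/
noncomputable def swapL : tensorRight P ⋙ tensorRight K ≅ tensorRight K ⋙ tensorRight P :=
  NatIso.ofComponents (fun W => swapObj K P W) (fun {W W'} w => by
    dsimp [swapObj]
    simp only [whiskerLeftIso_hom, Category.assoc]
    rw [associator_naturality_left_assoc, ← whisker_exchange_assoc,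
      associator_inv_naturality_left])

lemma swapL_hom_app (W : DRing.Cx A) :
    (swapL K P).hom.app W =
      (α_ W P K).hom ≫ (W ◁ (DTen.braidCx P K).hom) ≫ (α_ W K P).inv := rfl

lemma swapL_nat {P₁ P₂ : DRing.Cx A} (a : P₁ ⟶ P₂) :
    (swapL K P₁).hom ≫ Functor.whiskerLeft (tensorRight K) ((tensoringRight (DRing.Cx A)).map a) =
      Functor.whiskerRight ((tensoringRight (DRing.Cx A)).map a) (tensorRight K) ≫
        (swapL K P₂).hom := by
  refine NatTrans.ext (funext fun W => ?_)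
  rw [NatTrans.comp_app, NatTrans.comp_app, swapL_hom_app, swapL_hom_app]
  show ((α_ W P₁ K).hom ≫ (W ◁ (DTen.braidCx P₁ K).hom) ≫ (α_ W K P₁).inv) ≫ ((W ⊗ K) ◁ a) =
    ((W ◁ a) ▷ K) ≫ (α_ W P₂ K).hom ≫ (W ◁ (DTen.braidCx P₂ K).hom) ≫ (α_ W K P₂).inv
  simp only [Category.assoc]
  rw [← associator_inv_naturality_right, ← MonoidalCategory.whiskerLeft_comp_assoc,
    braid_nat_right, MonoidalCategory.whiskerLeft_comp_assoc, associator_naturality_middle_assoc]

end Swap

section Phi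

variable (K : DRing.Cx A)

/-- `Hom•(K, Hom•(P, X)) ≅ Hom•(P, Hom•(K, X))`, naturally in `X` -/
noncomputable def Φ (P : DRing.Cx A) :
    DRing.homCxFunctor P ⋙ DRing.homCxFunctor K ≅ DRing.homCxFunctor K ⋙ DRing.homCxFunctor P :=
  conjugateIsoEquiv ((adjC K).comp (adjC P)) ((adjC P).comp (adjC K)) (swapL K P)

/-- naturality of the swap in `P` -/
theorem Φ_nat {P₁ P₂ : DRing.Cx A} (a : P₁ ⟶ P₂) :
    Functor.whiskerRight (homCxPreNat a) (DRing.homCxFunctor K) ≫ (Φ K P₁).hom =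
      (Φ K P₂).hom ≫ Functor.whiskerLeft (DRing.homCxFunctor K) (homCxPreNat a) := by
  have h1 := conjugateEquiv_whiskerLeft (adjC P₂) (adjC P₁) (adjC K)
    ((tensoringRight (DRing.Cx A)).map a)
  have h2 := conjugateEquiv_whiskerRight (adjC P₂) (adjC P₁) (adjC K)
    ((tensoringRight (DRing.Cx A)).map a)
  rw [conjugate_tensoringRight_map] at h1 h2
  rw [← h1, ← h2]
  show conjugateEquiv _ _ _ ≫ conjugateEquiv _ _ (swapL K P₁).hom =
    conjugateEquiv _ _ (swapL K P₂).hom ≫ conjugateEquiv _ _ _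
  rw [conjugateEquiv_comp, conjugateEquiv_comp, swapL_nat]

lemma Φ_nat_app {P₁ P₂ : DRing.Cx A} (a : P₁ ⟶ P₂) (X : DRing.Cx A) :
    (DRing.homCxFunctor K).map (homCxPre a X) ≫ (Φ K P₁).hom.app X =
      (Φ K P₂).hom.app X ≫ homCxPre a ((DRing.homCxFunctor K).obj X) :=
  congrArg (fun t => t.app X) (Φ_nat K a)

end Phi

end Groth.Agent.Helper9.HomT8
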