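import Mathlib
import Groth.Prelude.Def_DerCA
import Groth.Prelude.Def_DRing4
import Groth.Agent.Helper6.HomCxPre
import Groth.Agent.Helper6.KProjRes
import Groth.Agent.Helper3.DRingComp
import Groth.Agent.Helper9.HomT7
import Groth.Agent.Helper9.HomT8

/-!
# `RHom(K, L^) = RHom(K, L)^`
-/

set_option autoImplicit false
set_option linter.style.haveILetI false
set_option linter.unusedSectionVars false

universe u

open CategoryTheory CategoryTheory.Limits MonoidalCategory CochainComplex HomComplex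
open DerivedCategory Pretriangulated

namespace Groth.Agent.Helper9.HomT9

open Groth.Agent.Helper6.HomTen Groth.Agent.Helper6.DComplTri Groth.Agent.Helper3.DRingLib
open Groth.Agent.Helper6.SingleTen Groth.Agent.Helper6.TenCx Groth.Agent.Helper9.HomK
open Groth.Agent.Helper9.HomT5 Groth.Agent.Helper9.HomT6 Groth.Agent.Helper9.HomT7
open Groth.Agent.Helper9.HomT8 Groth.Agent.Helper9.HomT1

attribute [local instance] HasDerivedCategory.standard

variable {A : Type u} [CommRing A]

section Compl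

variable (I : Ideal A)

/-- `m` exhibits its target as the derived completion of its source -/
def IsCompl {X Y : Dual.D A} (m : X ⟶ Y) : Prop :=
  DRing.IsDerivedComplete I Y ∧ ∀ E : Dual.D A, DRing.IsDerivedComplete I E →
    Function.Bijective (fun φ : Y ⟶ E => m ≫ φ)

lemma isCompl_of_iso {X Y X' Y' : Dual.D A} (m : X ⟶ Y) (m' : X' ⟶ Y') (eX : X ≅ X')
    (eY : Y ≅ Y') (h : m ≫ eY.hom = eX.hom ≫ m') (hm' : IsCompl I m') : IsCompl I m := by
  refine ⟨isDerivedComplete_of_iso I eY.symm hm'.1, fun E hE => ?_⟩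
  have h1 : (fun φ : Y ⟶ E => m ≫ φ) =
      (fun ψ : X' ⟶ E => eX.hom ≫ ψ) ∘ (fun ψ : Y' ⟶ E => m' ≫ ψ) ∘
        (fun φ : Y ⟶ E => eY.inv ≫ φ) := by
    funext φ
    show m ≫ φ = eX.hom ≫ m' ≫ eY.inv ≫ φ
    rw [← Category.assoc eX.hom, ← h, Category.assoc, Iso.hom_inv_id_assoc]
  rw [h1]
  exact (bijective_precomp_iso eX).comp ((hm'.2 E hE).comp (bijective_precomp_iso eY.symm))

end Compl

section Model

variable (fs : List A)

/-- the canonical map `J ⟶ Hom•(Č, J)` -/
noncomputable def ψC (J : DRing.Cx A) : J ⟶ DRing.homCx (Cech fs) J :=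
  (homCxUnitIso J).inv ≫ homCxPre (aug fs) J

/-- `Q Hom•(Č, J)` is derived complete for K-injective `J` -/
lemma isDerivedComplete_homCx_Cech (J : DRing.Cx A) [J.IsKInjective] :
    DRing.IsDerivedComplete (Ideal.span {x : A | x ∈ fs}) (Q.obj (DRing.homCx (Cech fs) J)) := by
  obtain ⟨hk, hac, -⟩ := main_ind fs
  exact (Groth.Agent.Helper6.DComplAdj.isDerivedComplete_span_iff fs _).2
    (fun g hg => dcf_of_acyclic_tensor _ J hk g (hac g hg))

/-- `Q J ⟶ Q Hom•(Č, J)` is a completion map as soon as its target is derived complete -/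
lemma isCompl_ψC (J : DRing.Cx A)
    (hc : DRing.IsDerivedComplete (Ideal.span {x : A | x ∈ fs})
      (Q.obj (DRing.homCx (Cech fs) J))) :
    IsCompl (Ideal.span {x : A | x ∈ fs}) (Q.map (ψC fs J)) := by
  obtain ⟨-, -, hb⟩ := main_ind fs
  refine ⟨hc, fun Z hZ => ?_⟩
  have hZ' := (Groth.Agent.Helper6.DComplAdj.isDerivedComplete_span_iff fs Z).1 hZ
  have h : (fun φ : Q.obj (DRing.homCx (Cech fs) J) ⟶ Z => Q.map (ψC fs J) ≫ φ) =
      (fun ψ : Q.obj (DRing.homCx (Cech ([] : List A)) J) ⟶ Z =>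
        (Q.mapIso (homCxUnitIso J).symm).hom ≫ ψ) ∘
      (fun φ : Q.obj (DRing.homCx (Cech fs) J) ⟶ Z => Q.map (homCxPre (aug fs) J) ≫ φ) := by
    funext φ
    show Q.map ((homCxUnitIso J).inv ≫ homCxPre (aug fs) J) ≫ φ = _
    rw [Functor.map_comp, Category.assoc]
    rfl
  rw [h]
  exact (bijective_precomp_iso (Q.mapIso (homCxUnitIso J).symm)).comp (hb J Z hZ')

/-- a chain-level model of the derived completion map -/
theorem exists_model [DRing.HasDerivedCompletion (Ideal.span {x : A | x ∈ fs})] (L : Dual.D A) :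
    ∃ (J : DRing.Cx A) (_ : J.IsKInjective) (e : L ≅ Q.obj J)
      (e' : ((DRing.derivedCompletion (Ideal.span {x : A | x ∈ fs})).obj L).obj ≅
        Q.obj (DRing.homCx (Cech fs) J)),
      DRing.toDerivedCompletion (Ideal.span {x : A | x ∈ fs}) L ≫ e'.hom =
        e.hom ≫ Q.map (ψC fs J) := by
  obtain ⟨J, e, hJ, -⟩ := Groth.Agent.Helper9.LCT2.exists_rep L
  haveI := hJ
  have hc := isCompl_ψC fs J (isDerivedComplete_homCx_Cech fs J)
  have hc' : IsCompl (Ideal.span {x : A | x ∈ fs}) (e.hom ≫ Q.map (ψC fs J)) :=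
    isCompl_of_iso _ _ _ e (Iso.refl _) (by simp) hc
  obtain ⟨e', he'⟩ := Groth.Agent.Helper6.DComplAmp.completion_unique _ L _
    (e.hom ≫ Q.map (ψC fs J)) hc'.1 hc'.2
  exact ⟨J, hJ, e, e', he'⟩

end Model

section Main

variable (fs : List A)

/-- `Q Hom•(A[0], J) ⟶ Q Hom•(Č, J)` is a completion map as soon as its target is complete -/
lemma isCompl_aug (J : DRing.Cx A)
    (hc : DRing.IsDerivedComplete (Ideal.span {x : A | x ∈ fs})
      (Q.obj (DRing.homCx (Cech fs) J))) :
    IsCompl (Ideal.span {x : A | x ∈ fs}) (Q.map (homCxPre (aug fs) J)) := by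
  obtain ⟨-, -, hb⟩ := main_ind fs
  exact ⟨hc, fun Z hZ =>
    hb J Z ((Groth.Agent.Helper6.DComplAdj.isDerivedComplete_span_iff fs Z).1 hZ)⟩

open Groth.Agent.Helper6.RHomInj in
lemma rhomIso_naturality (K : DRing.Cx A) [DRing.HasRHomCx K] {J J' : DRing.Cx A}
    [J.IsKInjective] [J'.IsKInjective] (ψ : J ⟶ J') :
    (DRing.RHomCx K).map (Q.map ψ) ≫ (rhomIso K J').hom =
      (rhomIso K J).hom ≫ Q.map ((DRing.homCxFunctor K).map ψ) := by
  haveI := isIso_unit_app K J
  haveI := isIso_unit_app K J'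
  have h := (unit K).naturality ψ
  show (DRing.RHomCx K).map (Q.map ψ) ≫ inv ((unit K).app J') =
    inv ((unit K).app J) ≫ Q.map ((DRing.homCxFunctor K).map ψ)
  rw [IsIso.comp_inv_eq, Category.assoc, IsIso.eq_inv_comp]
  exact h.symm

/-- `Q Hom•(K, Hom•(Č, J))` is derived complete for K-injective `J` -/
lemma isDerivedComplete_homCx_homCx_Cech (K J : DRing.Cx A) [J.IsKInjective] :
    DRing.IsDerivedComplete (Ideal.span {x : A | x ∈ fs})
      (Q.obj (DRing.homCx K (DRing.homCx (Cech fs) J))) := by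
  obtain ⟨hk, -, -⟩ := main_ind fs
  haveI hC : (DRing.homCx (Cech fs) J).IsKInjective := isKInjective_homCx _ J hk
  obtain ⟨P, p, -, hPflat, -, hp, -⟩ := Groth.Agent.Helper6.KProjRes.exists_resolution K
  haveI := hp
  haveI : (DRing.homCx P J).IsKInjective := isKInjective_homCx P J hPflat
  have h1 := isDerivedComplete_homCx_Cech fs (DRing.homCx P J)
  haveI : QuasiIso (homCxPre p (DRing.homCx (Cech fs) J)) :=
    Groth.Agent.Helper6.HomCxPre.quasiIso_homCxPre p _
  haveI : IsIso (Q.map (homCxPre p (DRing.homCx (Cech fs) J))) :=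
    (isIso_Q_map_iff_quasiIso (ModuleCat.{u} A) _).mpr inferInstance
  let e1 : Q.obj (DRing.homCx K (DRing.homCx (Cech fs) J)) ≅
      Q.obj (DRing.homCx P (DRing.homCx (Cech fs) J)) :=
    asIso (Q.map (homCxPre p (DRing.homCx (Cech fs) J)))
  let e2 : Q.obj (DRing.homCx P (DRing.homCx (Cech fs) J)) ≅
      Q.obj (DRing.homCx (Cech fs) (DRing.homCx P J)) :=
    Q.mapIso ((Φ P (Cech fs)).app J)
  exact isDerivedComplete_of_iso _ (e1 ≪≫ e2).symm h1

set_option backward.isDefEq.respectTransparency false in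
open Groth.Agent.Helper6.RHomInj in
/-- `RHom(K, L) ⟶ RHom(K, L^)` is a completion map -/
theorem main [DRing.HasDerivedCompletion (Ideal.span {x : A | x ∈ fs})] (K : DRing.Cx A)
    [DRing.HasRHomCx K] (L : Dual.D A) :
    IsCompl (Ideal.span {x : A | x ∈ fs})
      ((DRing.RHomCx K).map (DRing.toDerivedCompletion (Ideal.span {x : A | x ∈ fs}) L)) := by
  obtain ⟨J, hJ, e, e', he'⟩ := exists_model fs L
  haveI := hJ
  obtain ⟨hk, -, -⟩ := main_ind fs
  haveI hC : (DRing.homCx (Cech fs) J).IsKInjective := isKInjective_homCx _ J hk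
  have sq1 : (DRing.RHomCx K).map
        (DRing.toDerivedCompletion (Ideal.span {x : A | x ∈ fs}) L) ≫
      ((DRing.RHomCx K).map e'.hom ≫ (rhomIso K (DRing.homCx (Cech fs) J)).hom) =
      ((DRing.RHomCx K).map e.hom ≫ (rhomIso K J).hom) ≫
        Q.map ((DRing.homCxFunctor K).map (ψC fs J)) := by
    rw [← Category.assoc, ← Functor.map_comp, he', Functor.map_comp, Category.assoc,
      rhomIso_naturality, Category.assoc]
  have hcomp := isDerivedComplete_homCx_homCx_Cech fs K J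
  let eΦ : Q.obj (DRing.homCx K (DRing.homCx (Cech fs) J)) ≅
      Q.obj (DRing.homCx (Cech fs) (DRing.homCx K J)) := Q.mapIso ((Φ K (Cech fs)).app J)
  let eΦ0 : Q.obj (DRing.homCx K J) ≅
      Q.obj (DRing.homCx (Cech ([] : List A)) (DRing.homCx K J)) :=
    Q.mapIso ((DRing.homCxFunctor K).mapIso (homCxUnitIso J).symm ≪≫
        (Φ K (Cech ([] : List A))).app J)
  have hcomp' : DRing.IsDerivedComplete (Ideal.span {x : A | x ∈ fs})
      (Q.obj (DRing.homCx (Cech fs) (DRing.homCx K J))) :=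
    isDerivedComplete_of_iso _ eΦ hcomp
  have sq0 : (DRing.homCxFunctor K).map (ψC fs J) ≫ (Φ K (Cech fs)).hom.app J =
      ((DRing.homCxFunctor K).map (homCxUnitIso J).inv ≫ (Φ K (Cech ([] : List A))).hom.app J) ≫
        homCxPre (aug fs) (DRing.homCx K J) := by
    show (DRing.homCxFunctor K).map ((homCxUnitIso J).inv ≫ homCxPre (aug fs) J) ≫ _ = _
    rw [Functor.map_comp, Category.assoc, Category.assoc]
    congr 1
    exact Φ_nat_app K (aug fs) J
  have sq2 : Q.map ((DRing.homCxFunctor K).map (ψC fs J)) ≫ eΦ.hom =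
      eΦ0.hom ≫ Q.map (homCxPre (aug fs) (DRing.homCx K J)) := by
    show Q.map ((DRing.homCxFunctor K).map (ψC fs J)) ≫ Q.map ((Φ K (Cech fs)).hom.app J) =
      Q.map ((DRing.homCxFunctor K).map (homCxUnitIso J).inv ≫
        (Φ K (Cech ([] : List A))).hom.app J) ≫ Q.map (homCxPre (aug fs) (DRing.homCx K J))
    rw [← Functor.map_comp, ← Functor.map_comp, sq0]
  have hm1 : IsCompl (Ideal.span {x : A | x ∈ fs})
      (Q.map ((DRing.homCxFunctor K).map (ψC fs J))) :=
    isCompl_of_iso _ _ _ eΦ0 eΦ sq2 (isCompl_aug fs _ hcomp')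
  exact isCompl_of_iso _ _ (Q.map ((DRing.homCxFunctor K).map (ψC fs J)))
    ((DRing.RHomCx K).mapIso e ≪≫ rhomIso K J)
    ((DRing.RHomCx K).mapIso e' ≪≫ rhomIso K (DRing.homCx (Cech fs) J)) sq1 hm1

theorem main' (I : Ideal A) (hI : I.FG) [DRing.HasDerivedCompletion I] (K : DRing.Cx A)
    [DRing.HasRHomCx K] (L : Dual.D A) :
    IsCompl I ((DRing.RHomCx K).map (DRing.toDerivedCompletion I L)) := by
  obtain ⟨s, hs⟩ := hI
  have h : Ideal.span {x : A | x ∈ s.toList} = I := by
    rw [← hs]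
    congr 1
    ext x
    simp
  subst h
  exact main s.toList K L

end Main

end Groth.Agent.Helper9.HomT9
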