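import Mathlib
import Groth.Prelude.Def_DRing4
import Groth.Agent.Helper6.HomTenB
import Groth.Agent.Helper6.KProjQ
import Groth.Agent.Helper9.HomT3

/-!
# The derived tensor–hom adjunction on morphism sets, at the level of `Q`
-/

set_option autoImplicit false
set_option linter.style.haveILetI false
set_option linter.unusedSectionVars false

universe u

open CategoryTheory CategoryTheory.Limits MonoidalCategory CochainComplex HomComplex
open DerivedCategory

namespace Groth.Agent.Helper9.HomU1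

open Groth.Agent.Helper6.TenCx Groth.Agent.Helper6.HomTen Groth.Agent.Helper9.HomT1
open Groth.Agent.Helper9.HomT3

attribute [local instance] HasDerivedCategory.standard

variable {A : Type u} [CommRing A]

section Additive

variable {W P X : DRing.Cx A}

lemma curry_sub (f f' : W ⊗ P ⟶ X) : curry (f - f') = curry f - curry f' := by
  refine HomologicalComplex.hom_ext _ _ (fun n => ?_)
  refine ModuleCat.hom_ext (LinearMap.ext fun w => ?_)
  rw [HomologicalComplex.sub_f_apply]
  show ((curry (f - f')).f n).hom w = ((curry f).f n).hom w - ((curry f').f n).hom w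
  rw [curry_f_apply, curry_f_apply, curry_f_apply]
  show curryLin (f - f') n w = (curryLin f n w - curryLin f' n w : Cochain P X n)
  refine Cochain.ext _ _ (fun p q hpq => ?_)
  refine ModuleCat.hom_ext (LinearMap.ext fun x => ?_)
  rw [Cochain.sub_v]
  show ((curryLin (f - f') n w).v p q hpq).hom x =
    ((curryLin f n w).v p q hpq).hom x - ((curryLin f' n w).v p q hpq).hom x
  rw [curryLin_v, curryLin_v, curryLin_v, HomologicalComplex.sub_f_apply]
  rfl

lemma uncurry_sub (g g' : W ⟶ DRing.homCx P X) : uncurry (g - g') = uncurry g - uncurry g' := by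
  have h := curry_sub (uncurry g) (uncurry g')
  rw [curry_uncurry, curry_uncurry] at h
  rw [← h, uncurry_curry]

end Additive

section Homotopy

variable (P J : DRing.Cx A)

/-- null-homotopies can be uncurried -/
theorem homotopy_uncurry_zero {W : DRing.Cx A} (f : W ⟶ DRing.homCx P J)
    (h : Homotopy f 0) : Nonempty (Homotopy (uncurry f) 0) := by
  obtain ⟨G, hG⟩ := exists_desc_of_homotopy f h
  refine homotopy_of_desc (uncurry f) ((coneIdIso P W).inv ≫ uncurry G) ?_
  have h1 : mappingCone.inr (𝟙 (W ⊗ P)) =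
      (mappingCone.inr (𝟙 W) ▷ P) ≫ (coneIdIso P W).hom := (inr_coneIdIso P W).symm
  rw [h1, Category.assoc, Iso.hom_inv_id_assoc, ← uncurry_naturality_left, hG]

/-- **the derived adjunction on zero morphisms** -/
theorem Q_map_uncurry_eq_zero_iff (hP : KFlat P) [J.IsKInjective] {W : DRing.Cx A}
    (φ : W ⟶ DRing.homCx P J) : Q.map (uncurry φ) = 0 ↔ Q.map φ = 0 := by
  haveI := isKInjective_homCx P J hP
  constructor
  · intro h
    have h1 : Q.map (uncurry φ) = Q.map (0 : W ⊗ P ⟶ J) := by rw [h, Functor.map_zero]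
    obtain ⟨H⟩ := Groth.Agent.Helper9.InjAmp.homotopy_of_Q_map_eq_of_isKInjective _ J _ _ h1
    obtain ⟨H'⟩ := homotopy_zero_of_uncurry P J φ H
    rw [Groth.Agent.Helper6.KProjQ.Q_map_eq_of_homotopy H', Functor.map_zero]
  · intro h
    have h1 : Q.map φ = Q.map (0 : W ⟶ DRing.homCx P J) := by rw [h, Functor.map_zero]
    obtain ⟨H⟩ := Groth.Agent.Helper9.InjAmp.homotopy_of_Q_map_eq_of_isKInjective _ _ _ _ h1
    obtain ⟨H'⟩ := homotopy_uncurry_zero P J φ H
    rw [Groth.Agent.Helper6.KProjQ.Q_map_eq_of_homotopy H', Functor.map_zero]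

end Homotopy

section Iso

variable (T : DRing.Cx A) (hT : KFlat T) {J₁ J₂ : DRing.Cx A} [J₁.IsKInjective] [J₂.IsKInjective]
  (ε : J₁ ⟶ J₂)

include hT in
/-- if `ε` induces bijections on maps from all `Q(W ⊗ T)`, then `Q Hom•(T, ε)` is an isomorphism -/
theorem isIso_Q_homCxMap
    (h : ∀ W : DRing.Cx A,
      Function.Bijective (fun g : Q.obj (W ⊗ T) ⟶ Q.obj J₁ => g ≫ Q.map ε)) :
    IsIso (Q.map (DRing.homCxMap T ε)) := by
  haveI := isKInjective_homCx T J₁ hT
  haveI := isKInjective_homCx T J₂ hT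
  rw [isIso_iff_yoneda_map_bijective]
  intro Z
  -- reduce to `Z = Q W`
  suffices hW : ∀ W : DRing.Cx A, Function.Bijective
      (fun x : Q.obj W ⟶ Q.obj (DRing.homCx T J₁) =>
        x ≫ Q.map (DRing.homCxMap T ε)) by
    let e : Q.obj (Q.objPreimage Z) ≅ Z := Q.objObjPreimageIso Z
    have h1 : (fun x : Z ⟶ Q.obj (DRing.homCx T J₁) =>
        x ≫ Q.map (DRing.homCxMap T ε)) =
        (fun y : Q.obj (Q.objPreimage Z) ⟶ Q.obj (DRing.homCx T J₂) => e.inv ≫ y) ∘
        (fun x : Q.obj (Q.objPreimage Z) ⟶ Q.obj (DRing.homCx T J₁) =>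
          x ≫ Q.map (DRing.homCxMap T ε)) ∘
        (fun x : Z ⟶ Q.obj (DRing.homCx T J₁) => e.hom ≫ x) := by
      funext x
      show _ = e.inv ≫ (e.hom ≫ x) ≫ _
      rw [Category.assoc, Iso.inv_hom_id_assoc]
    rw [h1]
    refine Function.Bijective.comp ?_ (Function.Bijective.comp (hW _) ?_)
    · exact ⟨fun y y' hy => (cancel_epi e.inv).1 hy, fun y => ⟨e.hom ≫ y, by simp⟩⟩
    · exact ⟨fun y y' hy => (cancel_epi e.hom).1 hy, fun y => ⟨e.inv ≫ y, by simp⟩⟩
  intro W
  constructor
  · -- injectivity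
    intro g g' hgg'
    obtain ⟨φ, rfl⟩ := Groth.Agent.Helper9.PerfCone.exists_map_eq_of_isKInjective W _ g
    obtain ⟨φ', rfl⟩ := Groth.Agent.Helper9.PerfCone.exists_map_eq_of_isKInjective W _ g'
    dsimp only at hgg'
    rw [← Functor.map_comp, ← Functor.map_comp] at hgg'
    have h0 : Q.map ((φ - φ') ≫ DRing.homCxMap T ε) = 0 := by
      rw [Preadditive.sub_comp, Functor.map_sub, hgg', sub_self]
    have h1 : uncurry ((φ - φ') ≫ DRing.homCxMap T ε) = uncurry (φ - φ') ≫ ε := by
      have := curry_naturality_right (uncurry (φ - φ')) ε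
      rw [curry_uncurry] at this
      have h2 : (φ - φ') ≫ DRing.homCxMap T ε = curry (uncurry (φ - φ') ≫ ε) :=
        this.symm
      rw [h2, uncurry_curry]
    have h3 := (Q_map_uncurry_eq_zero_iff T J₂ hT _).2 h0
    rw [h1, Functor.map_comp] at h3
    have h4 : Q.map (uncurry (φ - φ')) = 0 := by
      apply (h W).1
      dsimp only
      rw [h3, zero_comp]
    have h5 := (Q_map_uncurry_eq_zero_iff T J₁ hT _).1 h4
    rw [Functor.map_sub] at h5
    exact sub_eq_zero.1 h5
  · -- surjectivity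
    intro g
    obtain ⟨φ, rfl⟩ := Groth.Agent.Helper9.PerfCone.exists_map_eq_of_isKInjective W _ g
    obtain ⟨hh, hhh⟩ := (h W).2 (Q.map (uncurry φ))
    obtain ⟨χ, rfl⟩ := Groth.Agent.Helper9.PerfCone.exists_map_eq_of_isKInjective _ _ hh
    dsimp only at hhh
    refine ⟨Q.map (curry χ), ?_⟩
    dsimp only
    rw [← Functor.map_comp]
    have h1 : curry χ ≫ DRing.homCxMap T ε = curry (χ ≫ ε) :=
      (curry_naturality_right χ ε).symm
    rw [h1]
    have h2 : Q.map (uncurry (curry (χ ≫ ε) - φ)) = 0 := by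
      rw [uncurry_sub, uncurry_curry, Functor.map_sub, Functor.map_comp, hhh, sub_self]
    have h3 := (Q_map_uncurry_eq_zero_iff T J₂ hT _).1 h2
    rw [Functor.map_sub] at h3
    exact sub_eq_zero.1 h3

end Iso

end Groth.Agent.Helper9.HomU1
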