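import Mathlib
import Groth.Prelude.Def_DRing4
import Groth.Prelude.Def_DualLC
import Groth.Agent.Helper6.LcD13
import Groth.Agent.Helper6.LcD8
import Groth.Agent.Helper6.BiD9

/-!
# `RΓ_m(ω) ≅ E[0]` for a normalized dualizing complex over a Noetherian local ring
-/

set_option autoImplicit false
set_option linter.style.haveILetI false
set_option linter.unusedSectionVars false

universe u
open CategoryTheory CategoryTheory.Limits DerivedCategory
attribute [local instance] HasDerivedCategory.standard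

namespace Groth.Agent.Helper9.HomU4
open Groth.Agent.Helper3.DRingLib IsLocalRing

variable {A : Type u} [CommRing A] [IsLocalRing A] [IsNoetherianRing A]

/-- a dualizing complex has bounded cohomology -/
lemma bounded_of_isDualizing (ω : Dual.D A) (hω : Dual.IsDualizing A ω) :
    ∃ a b : ℤ, ∀ j : ℤ, (j < a ∨ b < j) → Subsingleton (Dual.HD A ω j) := by
  obtain ⟨I, a, b, hv, -, -, ⟨e⟩, -, -⟩ := Groth.Agent.Helper6.BiD.exists_dualizing_rep ω hω
  haveI := isStrictlyLE_of_vanishesOutside I a b hv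
  haveI := isStrictlyGE_of_vanishesOutside I a b hv
  haveI : (DRing.toD I).IsGE a := by
    show (Q.obj I).IsGE a
    infer_instance
  haveI : (DRing.toD I).IsLE b := by
    show (Q.obj I).IsLE b
    infer_instance
  haveI : ω.IsGE a := TStructure.t.isGE_of_iso e a
  haveI : ω.IsLE b := TStructure.t.isLE_of_iso e b
  refine ⟨a, b, fun j hj => ?_⟩
  rcases hj with hj | hj
  · exact subsingleton_HD_of_isGE ω a j hj
  · exact subsingleton_HD_of_isLE ω b j hj

/-- `H^i(RΓ_m ω)` is `Hom(Hom(ω, ω[-i]), E)`. -/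
lemma hd_rgamma_dualizing (ω : Dual.D A) (hω : Dual.IsDualizing A ω) (hn : Dual.IsNormalized A ω)
    (E : Type u) [AddCommGroup E] [Module A E] (f : ResidueField A →ₗ[A] E)
    (hf : InjHull.IsInjectiveHull f) [DRing.HasRgammaI (maximalIdeal A)] (i : ℤ) :
    Nonempty (Dual.HD A ((DRing.RgammaI (maximalIdeal A)).obj ω) i ≃ₗ[A]
      ((ω ⟶ ω⟦-i⟧) →ₗ[A] E)) := by
  obtain ⟨e1⟩ := Groth.Agent.Helper6.LcD.hd_rgamma (maximalIdeal A) i ω
  obtain ⟨e2⟩ := Groth.Agent.Helper6.LcD.main ω hω hn E f hf ω (bounded_of_isDualizing ω hω)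
    hω.finite_cohomology i
  exact ⟨e1 ≪≫ₗ e2⟩

/-- `Hom(ω, ω[-0]) ≃ A`. -/
lemma nonempty_end_equiv (ω : Dual.D A) (hω : Dual.IsDualizing A ω) :
    Nonempty ((ω ⟶ ω⟦-(0 : ℤ)⟧) ≃ₗ[A] A) := by
  let φ : A →ₗ[A] (ω ⟶ ω) :=
    { toFun := fun a => a • 𝟙 ω
      map_add' := fun a b => add_smul _ _ _
      map_smul' := fun a b => by
        simp only [smul_eq_mul, RingHom.id_apply, mul_smul] }
  have hφ : Function.Bijective φ := hω.toEnd_bijective
  let e0 : A ≃ₗ[A] (ω ⟶ ω) := LinearEquiv.ofBijective φ hφ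
  have h0 : (-(0 : ℤ)) = 0 := neg_zero
  rw [h0]
  exact ⟨(Linear.homCongr A (Iso.refl ω) ((shiftFunctorZero (Dual.D A) ℤ).app ω)) ≪≫ₗ e0.symm⟩

/-- **`RΓ_m(ω) ≅ E[0]`** for a normalized dualizing complex `ω`. -/
theorem rgamma_dualizing_iso (ω : Dual.D A) (hω : Dual.IsDualizing A ω)
    (hn : Dual.IsNormalized A ω)
    (E : Type u) [AddCommGroup E] [Module A E] (f : ResidueField A →ₗ[A] E)
    (hf : InjHull.IsInjectiveHull f) [DRing.HasRgammaI (maximalIdeal A)] :
    Nonempty ((DRing.RgammaI (maximalIdeal A)).obj ω ≅ Dual.inD A E) := by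
  set X := (DRing.RgammaI (maximalIdeal A)).obj ω with hX
  have hvan : ∀ i : ℤ, i ≠ 0 → Subsingleton (Dual.HD A X i) := by
    intro i hi
    obtain ⟨e⟩ := hd_rgamma_dualizing ω hω hn E f hf i
    haveI : Subsingleton (ω ⟶ ω⟦-i⟧) := hω.ext_self_subsingleton (-i) (by omega)
    haveI : Subsingleton ((ω ⟶ ω⟦-i⟧) →ₗ[A] E) :=
      ⟨fun x y => by
        ext z
        rw [Subsingleton.elim z 0, map_zero, map_zero]⟩
    exact e.toEquiv.subsingleton
  haveI : X.IsGE 0 := isGE_of_HD X 0 (fun i hi => hvan i (by omega))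
  haveI : X.IsLE 0 := isLE_of_HD X 0 (fun i hi => hvan i (by omega))
  obtain ⟨M, ⟨eM⟩⟩ := DerivedCategory.exists_iso_singleFunctor_obj_of_isGE_of_isLE X 0
  obtain ⟨e⟩ := hd_rgamma_dualizing ω hω hn E f hf 0
  obtain ⟨eA⟩ := nonempty_end_equiv ω hω
  -- `M ≅ H^0(X)`
  let iM : M ≅ (homologyFunctor (ModuleCat.{u} A) 0).obj X :=
    ((singleFunctorCompHomologyFunctorIso (ModuleCat.{u} A) 0).app M).symm ≪≫
      (homologyFunctor (ModuleCat.{u} A) 0).mapIso eM.symm
  let l : M ≃ₗ[A] E :=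
    iM.toLinearEquiv ≪≫ₗ e ≪≫ₗ LinearEquiv.arrowCongr eA (LinearEquiv.refl A E) ≪≫ₗ
      LinearMap.ringLmapEquivSelf A A E
  exact ⟨eM ≪≫ (singleFunctor (ModuleCat.{u} A) 0).mapIso
    (show M ≅ ModuleCat.of A E from l.toModuleIso)⟩

end Groth.Agent.Helper9.HomU4
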