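import Mathlib
import Groth.Prelude.Def_DerCA
import Groth.Prelude.Def_DRing4
import Groth.Prelude.Def_DTen
import Groth.Agent.Helper6.LcD4
import Groth.Agent.Helper6.BiD9
import Groth.Agent.Helper6.DComplAmp
import Groth.Agent.Helper9.HomT9
import Groth.Agent.Helper9.HomU1
import Groth.Agent.Helper9.HomU3

/-!
# Derived completion of `RHom(K, ω)` versus `RHom(RΓ_I K, E)` when `RΓ_I(ω) ≅ E[0]`
-/

set_option autoImplicit false
set_option linter.style.haveILetI false
set_option linter.unusedSectionVars false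

universe u
open CategoryTheory CategoryTheory.Limits MonoidalCategory CochainComplex HomComplex
open DerivedCategory Pretriangulated
attribute [local instance] HasDerivedCategory.standard

namespace Groth.Agent.Helper9.HomU5
open Groth.Agent.Helper6.TenCx Groth.Agent.Helper6.HomTen Groth.Agent.Helper6.HomCxPre
open Groth.Agent.Helper9.HomT1 Groth.Agent.Helper9.HomT2 Groth.Agent.Helper9.HomT7
open Groth.Agent.Helper9.HomT9 Groth.Agent.Helper9.HomU1 Groth.Agent.Helper9.HomU3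
open Groth.Agent.Helper9.LCT3

variable {A : Type u} [CommRing A]

/-- the derived completion of `Q J` for K-injective `J` is `Q Hom•(Č, J)` -/
lemma completion_iso (fs : List A) [DRing.HasDerivedCompletion (Ideal.span {x : A | x ∈ fs})]
    (J : DRing.Cx A) [J.IsKInjective] :
    Nonempty (((DRing.derivedCompletion (Ideal.span {x : A | x ∈ fs})).obj (Q.obj J)).obj ≅
      Q.obj (DRing.homCx (Cech fs) J)) := by
  have hc := isCompl_ψC fs J (isDerivedComplete_homCx_Cech fs J)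
  obtain ⟨e', -⟩ := Groth.Agent.Helper6.DComplAmp.completion_unique _ (Q.obj J) _
    (Q.map (ψC fs J)) hc.1 hc.2
  exact ⟨e'⟩

lemma tors_of_iso (I : Ideal A) {T T' : Dual.D A} (e : T ≅ T') (h : Tors I T) : Tors I T' :=
  fun i => Groth.Agent.Helper9.LCT1.isPowerTorsion_of_iso
    ((DerivedCategory.homologyFunctor (ModuleCat.{u} A) i).mapIso e) (h i)

lemma tors_tensor_tensor_Cech (fs : List A) (W P : DRing.Cx A) :
    Tors (Ideal.span {y : A | y ∈ fs}) (Q.obj (W ⊗ (P ⊗ Cech fs))) :=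
  tors_of_iso _ (Q.mapIso (α_ W P (Cech fs))) (tors_tensor_Cech fs (W ⊗ P))

lemma bijective_postcomp_iso {C : Type*} [Category C] {X Y Y' : C} (e : Y ≅ Y') :
    Function.Bijective (fun g : X ⟶ Y => g ≫ e.hom) :=
  ⟨fun y y' hy => (cancel_mono e.hom).1 hy, fun y => ⟨y ≫ e.inv, by simp⟩⟩

section Middle

variable [IsNoetherianRing A] (I : Ideal A) [DRing.HasRgammaI I]

/-- if `RΓ_I(ω) ≅ E[0]` with `E` injective and all `W ⊗ T` are `I`-torsion, then
`Hom•(T, E[0]) ≅ Hom•(T, J)` in `D(A)` for a K-injective model `J` of `ω` -/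
theorem middle (ω : Dual.D A) (J : DRing.Cx A) [J.IsKInjective] (e : ω ≅ Q.obj J)
    (E : Type u) [AddCommGroup E] [Module A E] [Module.Injective A E]
    (c : Dual.inD A E ≅ (DRing.RgammaI I).obj ω)
    (T : DRing.Cx A) (hT : KFlat T) (hTors : ∀ W : DRing.Cx A, Tors I (Q.obj (W ⊗ T))) :
    Nonempty (Q.obj (DRing.homCx T (Groth.Agent.Helper6.DualCx.sg (ModuleCat.of A E))) ≅
      Q.obj (DRing.homCx T J)) := by
  haveI : (Groth.Agent.Helper6.DualCx.sg (ModuleCat.of A E)).IsKInjective :=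
    Groth.Agent.Helper6.LcD.isKInjective_sg E
  let c0 : Q.obj (Groth.Agent.Helper6.DualCx.sg (ModuleCat.of A E)) ≅ Dual.inD A E :=
    ((singleFunctorIsoCompQ (ModuleCat.{u} A) 0).app _).symm
  obtain ⟨ε', hε'⟩ := Groth.Agent.Helper9.PerfCone.exists_map_eq_of_isKInjective
    (Groth.Agent.Helper6.DualCx.sg (ModuleCat.of A E)) J
    ((c0 ≪≫ c).hom ≫ (DRing.RgammaIε I).app ω ≫ e.hom)
  haveI := isIso_Q_homCxMap T hT ε' (fun W => by
    have h : (fun g : Q.obj (W ⊗ T) ⟶ Q.obj (Groth.Agent.Helper6.DualCx.sg (ModuleCat.of A E)) =>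
        g ≫ Q.map ε') =
        (fun g : Q.obj (W ⊗ T) ⟶ ω => g ≫ e.hom) ∘
        (fun g : Q.obj (W ⊗ T) ⟶ (DRing.RgammaI I).obj ω => g ≫ (DRing.RgammaIε I).app ω) ∘
        (fun g : Q.obj (W ⊗ T) ⟶ Q.obj (Groth.Agent.Helper6.DualCx.sg (ModuleCat.of A E)) =>
          g ≫ (c0 ≪≫ c).hom) := by
      funext g
      show g ≫ Q.map ε' = ((g ≫ (c0 ≪≫ c).hom) ≫ (DRing.RgammaIε I).app ω) ≫ e.hom
      rw [hε', Category.assoc, Category.assoc]
    rw [h]
    exact (bijective_postcomp_iso e).comp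
      ((bijective_postcomp_ε I _ (hTors W) ω).comp (bijective_postcomp_iso (c0 ≪≫ c))))
  exact ⟨asIso (Q.map (DRing.homCxMap T ε'))⟩

end Middle

section Main

variable [IsNoetherianRing A] (fs : List A)
  [DRing.HasRgammaI (Ideal.span {x : A | x ∈ fs})]
  [DRing.HasDerivedCompletion (Ideal.span {x : A | x ∈ fs})]

open Groth.Agent.Helper6.RHomInj in
theorem main_list (ω : Dual.D A)
    (E : Type u) [AddCommGroup E] [Module A E] [Module.Injective A E]
    (c : Dual.inD A E ≅ (DRing.RgammaI (Ideal.span {x : A | x ∈ fs})).obj ω)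
    (K : DRing.Cx A) [DRing.HasRHomCx K] (G : DRing.Cx A) [DRing.HasRHomCx G]
    (hG : Nonempty (DRing.toD G ≅
      (DRing.RgammaI (Ideal.span {x : A | x ∈ fs})).obj (DRing.toD K))) :
    Nonempty (((DRing.derivedCompletion (Ideal.span {x : A | x ∈ fs})).obj
      ((DRing.RHomCx K).obj ω)).obj ≅ (DRing.RHomCx G).obj (Dual.inD A E)) := by
  obtain ⟨eG⟩ := hG
  obtain ⟨J, e, hJ, -⟩ := Groth.Agent.Helper9.LCT2.exists_rep ω
  haveI := hJ
  obtain ⟨P, p, -, hP, -, hp, -⟩ := Groth.Agent.Helper6.KProjRes.exists_resolution K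
  haveI := hp
  obtain ⟨hk, -, -⟩ := main_ind fs
  haveI : IsIso (Q.map p) := by
    rw [DerivedCategory.isIso_Q_map_iff_quasiIso]
    infer_instance
  -- the left hand side
  let e1 : (DRing.RHomCx K).obj ω ≅ Q.obj (DRing.homCx K J) :=
    (DRing.RHomCx K).mapIso e ≪≫ rhomIso K J
  haveI : QuasiIso (Groth.Agent.Helper6.HomCxPre.homCxPre p J) := quasiIso_homCxPre p J
  haveI : IsIso (Q.map (Groth.Agent.Helper6.HomCxPre.homCxPre p J)) :=
    (DerivedCategory.isIso_Q_map_iff_quasiIso (φ := Groth.Agent.Helper6.HomCxPre.homCxPre p J)).mpr inferInstance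
  let e2 : Q.obj (DRing.homCx K J) ≅ Q.obj (DRing.homCx P J) := asIso (Q.map (Groth.Agent.Helper6.HomCxPre.homCxPre p J))
  haveI : (DRing.homCx P J).IsKInjective := isKInjective_homCx P J hP
  obtain ⟨e3⟩ := completion_iso fs (DRing.homCx P J)
  let e4 : Q.obj (DRing.homCx (Cech fs) (DRing.homCx P J)) ≅
      Q.obj (DRing.homCx (Cech fs ⊗ P) J) := Q.mapIso ((homCxComp (Cech fs) P).app J)
  let e5 : Q.obj (DRing.homCx (Cech fs ⊗ P) J) ≅ Q.obj (DRing.homCx (P ⊗ Cech fs) J) :=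
    Q.mapIso ((homCxCongr (DTen.braidCx (Cech fs) P)).app J)
  -- the middle
  obtain ⟨e6⟩ := middle (Ideal.span {x : A | x ∈ fs}) ω J e E c (P ⊗ Cech fs)
    (kflat_tensor' hP hk) (fun W => tors_tensor_tensor_Cech fs W P)
  -- the right hand side
  obtain ⟨eR, -⟩ := exists_RgammaI_iso fs P
  let eT : DRing.toD (P ⊗ Cech fs) ≅ DRing.toD G :=
    eR ≪≫ (DRing.RgammaI (Ideal.span {x : A | x ∈ fs})).mapIso (asIso (Q.map p)) ≪≫ eG.symm
  haveI : (Groth.Agent.Helper6.DualCx.sg (ModuleCat.of A E)).IsKInjective :=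
    Groth.Agent.Helper6.LcD.isKInjective_sg E
  obtain ⟨e7⟩ := Groth.Agent.Helper6.BiD.D_iso_of_iso
    (Groth.Agent.Helper6.DualCx.sg (ModuleCat.of A E)) eT
  let c0 : Dual.inD A E ≅ Q.obj (Groth.Agent.Helper6.DualCx.sg (ModuleCat.of A E)) :=
    (singleFunctorIsoCompQ (ModuleCat.{u} A) 0).app _
  let e8 : (DRing.RHomCx G).obj (Dual.inD A E) ≅
      Q.obj (DRing.homCx G (Groth.Agent.Helper6.DualCx.sg (ModuleCat.of A E))) :=
    (DRing.RHomCx G).mapIso c0 ≪≫ rhomIso G _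
  exact ⟨(ObjectProperty.ι _).mapIso
      ((DRing.derivedCompletion (Ideal.span {x : A | x ∈ fs})).mapIso (e1 ≪≫ e2)) ≪≫
    e3 ≪≫ e4 ≪≫ e5 ≪≫ e6.symm ≪≫ e7 ≪≫ e8.symm⟩

end Main

/-- the same for a finitely generated ideal -/
theorem main_ideal [IsNoetherianRing A] (I : Ideal A) (hI : I.FG) [DRing.HasRgammaI I]
    [DRing.HasDerivedCompletion I] (ω : Dual.D A)
    (E : Type u) [AddCommGroup E] [Module A E] [Module.Injective A E]
    (c : Dual.inD A E ≅ (DRing.RgammaI I).obj ω)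
    (K : DRing.Cx A) [DRing.HasRHomCx K] (G : DRing.Cx A) [DRing.HasRHomCx G]
    (hG : Nonempty (DRing.toD G ≅ (DRing.RgammaI I).obj (DRing.toD K))) :
    Nonempty (((DRing.derivedCompletion I).obj ((DRing.RHomCx K).obj ω)).obj ≅
      (DRing.RHomCx G).obj (Dual.inD A E)) := by
  obtain ⟨s, hs⟩ := hI
  have h : Ideal.span {x : A | x ∈ s.toList} = I := by
    rw [← hs]
    congr 1
    ext x
    simp
  subst h
  exact main_list s.toList ω E c K G hG

end Groth.Agent.Helper9.HomU5
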