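import Mathlib

set_option autoImplicit false

universe u v

open scoped TensorProduct

namespace Groth.Agent.Helper9.HopfTwo

section

variable {R : Type u} [CommRing R] {A : Type v} [CommRing A] [Bialgebra R A]
  (x : A) (hx : Bialgebra.counitAlgHom R A x = 0)
  (hgen : ∀ f : A, Bialgebra.counitAlgHom R A f = 0 → ∃ r : R, f = r • x)
  (hfree : ∀ r : R, r • x = 0 → r = 0)

local notation "ε" => Bialgebra.counitAlgHom R A

include hx hgen in
theorem exists_decomp (f : A) : ∃ r : R, f = algebraMap R A (ε f) + r • x := by
  have h0 : ε (f - algebraMap R A (ε f)) = 0 := by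
    rw [map_sub, AlgHom.commutes]; simp
  obtain ⟨r, hr⟩ := hgen _ h0
  exact ⟨r, by rw [← hr]; ring⟩

include hx hfree in
theorem decomp_unique (e e' r r' : R)
    (h : algebraMap R A e + r • x = algebraMap R A e' + r' • x) : e = e' ∧ r = r' := by
  have h1 := congrArg (ε) h
  simp only [map_add, AlgHom.commutes, map_smul, hx, smul_zero, add_zero] at h1
  have h1' : e = e' := by simpa using h1
  subst h1'
  refine ⟨rfl, ?_⟩
  have h2 : (r - r') • x = 0 := by
    rw [sub_smul]; exact sub_eq_zero.2 (add_left_cancel h)
  exact sub_eq_zero.1 (hfree _ h2)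

/-- The coordinate of `f` along `x`. -/
noncomputable def coordFun (f : A) : R := Classical.choose (exists_decomp x hx hgen f)

theorem coordFun_spec (f : A) :
    f = algebraMap R A (ε f) + coordFun x hx hgen f • x :=
  Classical.choose_spec (exists_decomp x hx hgen f)

include hfree in
theorem coordFun_eq (f : A) (e r : R) (h : f = algebraMap R A e + r • x) :
    e = ε f ∧ r = coordFun x hx hgen f :=
  decomp_unique x hx hfree _ _ _ _ (h.symm.trans (coordFun_spec x hx hgen f))

/-- The coordinate functional. -/
noncomputable def coord : A →ₗ[R] R where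
  toFun := coordFun x hx hgen
  map_add' f g := by
    have hf := coordFun_spec x hx hgen f
    have hg := coordFun_spec x hx hgen g
    have : f + g = algebraMap R A (ε f + ε g) +
        (coordFun x hx hgen f + coordFun x hx hgen g) • x := by
      rw [map_add, add_smul]
      calc f + g = (algebraMap R A (ε f) + coordFun x hx hgen f • x) +
            (algebraMap R A (ε g) + coordFun x hx hgen g • x) := by rw [← hf, ← hg]
        _ = _ := by ring
    exact ((coordFun_eq x hx hgen hfree _ _ _ this).2).symm
  map_smul' t f := by
    have hf := coordFun_spec x hx hgen f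
    have : t • f = algebraMap R A (t * ε f) + (t * coordFun x hx hgen f) • x := by
      rw [map_mul, mul_smul]
      calc t • f = t • (algebraMap R A (ε f) + coordFun x hx hgen f • x) := by rw [← hf]
        _ = _ := by rw [smul_add, Algebra.smul_def]
    simpa using ((coordFun_eq x hx hgen hfree _ _ _ this).2).symm

theorem coord_spec (f : A) :
    f = algebraMap R A (ε f) + coord x hx hgen hfree f • x :=
  coordFun_spec x hx hgen f

theorem coord_eq (f : A) (e r : R) (h : f = algebraMap R A e + r • x) :
    e = ε f ∧ r = coord x hx hgen hfree f :=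
  coordFun_eq x hx hgen hfree f e r h

theorem coord_x : coord x hx hgen hfree x = 1 :=
  ((coord_eq x hx hgen hfree x 0 1 (by simp)).2).symm

theorem coord_algebraMap (t : R) : coord x hx hgen hfree (algebraMap R A t) = 0 :=
  ((coord_eq x hx hgen hfree _ t 0 (by simp)).2).symm

theorem coord_one : coord x hx hgen hfree (1 : A) = 0 := by
  rw [← map_one (algebraMap R A)]; exact coord_algebraMap x hx hgen hfree 1

theorem coord_mul (a : R) (hxa : x * x = a • x) (f g : A) :
    coord x hx hgen hfree (f * g) =
      ε f * coord x hx hgen hfree g + coord x hx hgen hfree f * ε g +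
        a * coord x hx hgen hfree f * coord x hx hgen hfree g := by
  have hf := coord_spec x hx hgen hfree f
  have hg := coord_spec x hx hgen hfree g
  set cf := coord x hx hgen hfree f
  set cg := coord x hx hgen hfree g
  have : f * g = algebraMap R A (ε f * ε g) + (ε f * cg + cf * ε g + a * cf * cg) • x := by
    have hx2 : x * x = algebraMap R A a * x := by rw [hxa, Algebra.smul_def]
    calc f * g = (algebraMap R A (ε f) + cf • x) * (algebraMap R A (ε g) + cg • x) := by
          rw [← hf, ← hg]
      _ = algebraMap R A (ε f) * algebraMap R A (ε g) +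
            (algebraMap R A (ε f) * algebraMap R A cg + algebraMap R A cf * algebraMap R A (ε g)) * x
            + algebraMap R A cf * algebraMap R A cg * (x * x) := by
          simp only [Algebra.smul_def]; ring
      _ = _ := by
          rw [hx2]
          simp only [Algebra.smul_def, map_add, map_mul]
          ring
  exact ((coord_eq x hx hgen hfree _ _ _ this).2).symm

/-- The functional `coord ⊗ coord` on `A ⊗ A`. -/
noncomputable def cc : A ⊗[R] A →ₗ[R] R :=
  (TensorProduct.lid R R).toLinearMap ∘ₗ
    TensorProduct.map (coord x hx hgen hfree) (coord x hx hgen hfree)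

theorem cc_tmul (f g : A) :
    cc x hx hgen hfree (f ⊗ₜ[R] g) = coord x hx hgen hfree f * coord x hx hgen hfree g := by
  simp [cc]

include hx hgen in
theorem tensor_span (z : A ⊗[R] A) : ∃ p q r b : R,
    z = p • ((1 : A) ⊗ₜ[R] (1 : A)) + q • (x ⊗ₜ[R] (1 : A)) + r • ((1 : A) ⊗ₜ[R] x) +
      b • (x ⊗ₜ[R] x) := by
  induction z using TensorProduct.induction_on with
  | zero => exact ⟨0, 0, 0, 0, by simp⟩
  | tmul f g =>
    obtain ⟨cf, hf⟩ := exists_decomp x hx hgen f
    obtain ⟨cg, hg⟩ := exists_decomp x hx hgen g
    refine ⟨ε f * ε g, cf * ε g, ε f * cg, cf * cg, ?_⟩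
    conv_lhs => rw [hf, hg]
    simp only [Algebra.algebraMap_eq_smul_one, TensorProduct.add_tmul, TensorProduct.tmul_add,
      TensorProduct.smul_tmul_smul]
    abel
  | add z w hz hw =>
    obtain ⟨p, q, r, b, rfl⟩ := hz
    obtain ⟨p', q', r', b', rfl⟩ := hw
    refine ⟨p + p', q + q', r + r', b + b', ?_⟩
    simp only [add_smul]
    abel

end

section lift

variable {R : Type u} [CommRing R] {A : Type v} [CommRing A] [Bialgebra R A]
  (x : A) (hx : Bialgebra.counitAlgHom R A x = 0)
  (hgen : ∀ f : A, Bialgebra.counitAlgHom R A f = 0 → ∃ r : R, f = r • x)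
  (hfree : ∀ r : R, r • x = 0 → r = 0)
  {B : Type*} [CommRing B] [Algebra R B]

local notation "ε" => Bialgebra.counitAlgHom R A

/-- The algebra map `A → B` sending `x` to `y`, when `y * y = a • y` and `x * x = a • x`. -/
noncomputable def liftHom (a : R) (hxa : x * x = a • x) (y : B) (hy : y * y = a • y) :
    A →ₐ[R] B :=
  AlgHom.ofLinearMap
    ((Algebra.linearMap R B) ∘ₗ (ε).toLinearMap + (coord x hx hgen hfree).smulRight y)
    (by
      simp only [LinearMap.add_apply, LinearMap.coe_comp, Function.comp_apply,
        AlgHom.toLinearMap_apply, map_one, Algebra.linearMap_apply, LinearMap.smulRight_apply,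
        coord_one, zero_smul, add_zero])
    (by
      intro f g
      simp only [LinearMap.add_apply, LinearMap.coe_comp, Function.comp_apply,
        AlgHom.toLinearMap_apply, Algebra.linearMap_apply, LinearMap.smulRight_apply,
        coord_mul x hx hgen hfree a hxa f g, map_mul]
      have hy2 : y * y = algebraMap R B a * y := by rw [hy, Algebra.smul_def]
      simp only [Algebra.smul_def, map_add, map_mul]
      linear_combination (-(algebraMap R B (coord x hx hgen hfree f)) *
        (algebraMap R B (coord x hx hgen hfree g))) * hy2)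

theorem liftHom_apply (a : R) (hxa : x * x = a • x) (y : B) (hy : y * y = a • y) (f : A) :
    liftHom x hx hgen hfree a hxa y hy f =
      algebraMap R B (ε f) + coord x hx hgen hfree f • y := rfl

theorem liftHom_x (a : R) (hxa : x * x = a • x) (y : B) (hy : y * y = a • y) :
    liftHom x hx hgen hfree a hxa y hy x = y := by
  rw [liftHom_apply, hx, map_zero, zero_add, coord_x, one_smul]

include hx hgen in
theorem algHom_ext_x {C : Type*} [Semiring C] [Algebra R C] (F G : A →ₐ[R] C) (h : F x = G x) :
    F = G := by
  ext f
  obtain ⟨r, hr⟩ := exists_decomp x hx hgen f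
  rw [hr, map_add, map_add, AlgHom.commutes, AlgHom.commutes, map_smul, map_smul, h]

end lift

end Groth.Agent.Helper9.HopfTwo
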