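import Mathlib
import Groth.Prelude.Def_CechTot
import Groth.Agent.Helper9.CZ1
import Groth.Agent.Helper9.HyB

/-! Rows of the Čech double complex: a short exact sequence of bounded below complexes of sheaves
with acyclic (on the finite intersections) left hand term gives a short exact sequence of complexes
of Čech cochains. -/

set_option autoImplicit false
set_option linter.unusedSectionVars false

namespace Groth.Agent.Helper9.HyC1

open CategoryTheory Limits Opposite TopologicalSpace
open Groth.Agent.Helper1.Cech Groth.Agent.Helper1.CechTop Groth.Agent.Helper9.CZ1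
open Groth.Agent.Helper9.HyB

universe u

variable {X : TopCat.{u}} {ι : Type u} (U : ι → Opens X)

local notation "cℤ" => ComplexShape.up ℤ

/-- Čech cochains of degree `p` -/
noncomputable abbrev Gp (p : ℕ) : PSh X ⥤ AddCommGrpCat.{u} :=
  cechComplexFunctor U ⋙ HomologicalComplex.eval _ (ComplexShape.up ℕ) p

/-- Čech cochains of degree `p` of a sheaf -/
noncomputable abbrev Gs (p : ℕ) : CohTop.Ab X ⥤ AddCommGrpCat.{u} :=
  sheafToPresheaf (Opens.grothendieckTopology X) AddCommGrpCat.{u} ⋙ Gp U p

variable (S : ShortComplex (CochainComplex (CohTop.Ab X) ℤ)) (hS : S.ShortExact) (p : ℕ)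

/-- the sequence of complexes of Čech cochains of degree `p` -/
noncomputable abbrev RS : ShortComplex (CochainComplex AddCommGrpCat.{u} ℤ) :=
  S.map ((Gs U p).mapHomologicalComplex cℤ)

include hS in
theorem rs_shortExact
    (hK : ∀ (i : ℤ) (x : Fin (p + 1) → ι), AcycAt (prodU U x) (S.X₁.X i)) :
    (RS U S p).ShortExact := by
  apply HomologicalComplex.shortExact_of_degreewise_shortExact
  intro i
  have hf : ∀ c, ((RS U S p).f.f i) c = cm U (S.f.f i).hom p c := fun c => rfl
  have hg : ∀ c, ((RS U S p).g.f i) c = cm U (S.g.f i).hom p c := fun c => rfl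
  refine ShortComplex.ShortExact.mk' ?_ ?_ ?_
  · rw [ShortComplex.ab_exact_iff]
    intro c hc
    have hc' : cm U (S.g.f i).hom p c = 0 := hc
    have : ∃ b, cm U (S.f.f i).hom p b = c := by
      apply cm_exists_lift
      intro x
      apply exists_of_g_eq_zero S hS i (prodU U x)
      have h1 := comp_cm U (S.g.f i).hom p x c
      rw [hc', map_zero] at h1
      exact h1.symm
    exact this
  · rw [AddCommGrpCat.mono_iff_injective]
    intro c c' h
    exact cm_injective U (S.f.f i).hom (fun V => f_injective S hS i V) p h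
  · rw [AddCommGrpCat.epi_iff_surjective]
    intro c
    have : ∃ b, cm U (S.g.f i).hom p b = c := by
      apply cm_exists_lift
      intro x
      exact g_surjective S hS i (prodU U x) (hK i x) _
    exact this

theorem rs_acyclic (Q : CochainComplex (CohTop.Ab X) ℤ) (a : ℤ)
    (hQ0 : ∀ i : ℤ, i < a → IsZero (Q.X i)) (hex : ∀ i, Q.ExactAt i)
    (hac : ∀ (i : ℤ) (x : Fin (p + 1) → ι), AcycAt (prodU U x) (Q.X i)) :
    (((Gs U p).mapHomologicalComplex cℤ).obj Q).Acyclic := by
  intro n
  rw [HomologicalComplex.exactAt_iff' _ (n - 1) n (n + 1) (by simp) (by simp),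
    ShortComplex.ab_exact_iff]
  intro c hc
  have hc' : cm U (Q.d n (n + 1)).hom p c = 0 := hc
  have : ∃ b, cm U (Q.d (n - 1) n).hom p b = c := by
    apply cm_exists_lift
    intro x
    apply exact_sections' Q (prodU U x) a hQ0 hex (fun i => hac i x) (n - 1) n (by omega)
    have h1 := comp_cm U (Q.d n (n + 1)).hom p x c
    rw [hc', map_zero] at h1
    exact h1.symm
  exact this

include hS in
theorem quasiIso_rs (a : ℤ) (hL0 : ∀ i : ℤ, i < a → IsZero (S.X₂.X i))
    (hK : ∀ (i : ℤ) (x : Fin (p + 1) → ι), AcycAt (prodU U x) (S.X₁.X i))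
    (hL : ∀ (i : ℤ) (x : Fin (p + 1) → ι), AcycAt (prodU U x) (S.X₂.X i))
    (hq : QuasiIso S.f) :
    QuasiIso (((Gs U p).mapHomologicalComplex cℤ).map S.f) := by
  have h1 := rs_shortExact U S hS p hK
  have h2 := rs_acyclic U p S.X₃ a (fun i hi => isZero_X₃_X S hS i (hL0 i hi))
    (hS.acyclic_X₃ hq) (fun i x => acycAt_X₃_X S hS i _ (hK i x) (hL i x))
  exact quasiIso_f_of_acyclic h1 h2

end Groth.Agent.Helper9.HyC1
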