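import Mathlib
import Groth.Prelude.Def_CechTot
import Groth.Agent.Helper1.CohTopCech
import Groth.Agent.Helper9.CZ1

/-! The augmentation of the (extended) Čech complex, as a natural transformation, and the fact
that it is a quasi-isomorphism for injective sheaves. -/

set_option autoImplicit false
set_option linter.unusedSectionVars false

namespace Groth.Agent.Helper9.HyC2

open CategoryTheory Limits Opposite TopologicalSpace
open Groth.Agent.Helper1.Cech Groth.Agent.Helper9.CZ1
open Groth.Agent.Helper1.CechTop hiding augHom augHom_apply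

universe u

variable {X : TopCat.{u}} {ι : Type u} (U : ι → Opens X)

local notation "cℤ" => ComplexShape.up ℤ

section nat

variable (P : PSh X)

/-- the augmentation `P(⊤)[0] ⟶ Č(U, P)` -/
noncomputable def ιN :
    (CochainComplex.single₀ AddCommGrpCat.{u}).obj (P.obj (op ⊤)) ⟶ cx U P :=
  (CochainComplex.fromSingle₀Equiv _ _).symm ⟨AddCommGrpCat.ofHom (augHom U P), by
    ext a
    exact d_augHom U P a⟩

lemma ιN_f_zero : (ιN U P).f 0 = AddCommGrpCat.ofHom (augHom U P) :=
  CochainComplex.fromSingle₀Equiv_symm_apply_f_zero _ _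

variable (hinj : Function.Injective (augHom U P))
  (hex0 : ∀ b : (cx U P).X 0, (cx U P).d 0 1 b = 0 → ∃ a, augHom U P a = b)
  (hex : ∀ (p : ℕ) (c : (cx U P).X (p + 1)), (cx U P).d (p + 1) (p + 2) c = 0 →
    ∃ b : (cx U P).X p, (cx U P).d p (p + 1) b = c)

include hinj hex0 hex in
theorem quasiIso_ιN : QuasiIso (ιN U P) := ⟨fun n => by
  cases n with
  | zero =>
    rw [CochainComplex.quasiIsoAt₀_iff, ShortComplex.quasiIso_iff_of_zeros]
    · constructor
      · rw [ShortComplex.ab_exact_iff]
        intro b hb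
        obtain ⟨a, ha⟩ := hex0 b hb
        refine ⟨a, ?_⟩
        show (ιN U P).f 0 a = b
        rw [ιN_f_zero]
        exact ha
      · show Mono ((ιN U P).f 0)
        rw [ιN_f_zero, AddCommGrpCat.mono_iff_injective]
        exact hinj
    all_goals first | rfl | exact (cx U P).shape 0 0 (by simp)
  | succ n =>
    rw [quasiIsoAt_iff_exactAt]
    · rw [HomologicalComplex.exactAt_iff' _ n (n + 1) (n + 1 + 1) (by simp) (by simp),
        ShortComplex.ab_exact_iff]
      intro c hc
      exact hex n c hc
    · apply CochainComplex.exactAt_succ_single_obj⟩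

end nat

/-- the extended Čech complex functor -/
noncomputable abbrev F : PSh X ⥤ CochainComplex AddCommGrpCat.{u} ℤ :=
  cechComplexFunctor U ⋙ ComplexShape.embeddingUpNat.extendFunctor AddCommGrpCat.{u}

/-- sections over `⊤` placed in degree `0` -/
noncomputable abbrev A : PSh X ⥤ CochainComplex AddCommGrpCat.{u} ℤ :=
  (evaluation _ _).obj (op ⊤) ⋙ HomologicalComplex.single AddCommGrpCat.{u} cℤ 0

lemma h00 : ComplexShape.embeddingUpNat.f 0 = (0 : ℤ) := rfl

/-- the augmentation of the extended Čech complex -/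
noncomputable def αApp (P : PSh X) : (A (X := X)).obj P ⟶ (F U).obj P :=
  (HomologicalComplex.extendSingleIso ComplexShape.embeddingUpNat (P.obj (op ⊤)) 0 0 h00).inv ≫
    HomologicalComplex.extendMap (ιN U P) ComplexShape.embeddingUpNat

lemma αApp_f_zero (P : PSh X) : (αApp U P).f 0 =
    (HomologicalComplex.singleObjXSelf cℤ 0 (P.obj (op ⊤))).hom ≫
      AddCommGrpCat.ofHom (CZ1.augHom U P) ≫
        ((cx U P).extendXIso ComplexShape.embeddingUpNat h00).inv := by
  dsimp only [αApp]
  rw [HomologicalComplex.comp_f, HomologicalComplex.extendSingleIso_inv_f,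
    HomologicalComplex.extendMap_f (ιN U P) ComplexShape.embeddingUpNat h00, ιN_f_zero]
  simp only [Category.assoc]
  erw [Iso.inv_hom_id_assoc]
  have h2 : (HomologicalComplex.singleObjXSelf (ComplexShape.up ℕ) 0 (P.obj (op ⊤))).inv ≫
      (AddCommGrpCat.ofHom (CZ1.augHom U P) ≫
        ((cx U P).extendXIso ComplexShape.embeddingUpNat h00).inv) =
      AddCommGrpCat.ofHom (CZ1.augHom U P) ≫
        ((cx U P).extendXIso ComplexShape.embeddingUpNat h00).inv := by
    erw [Category.id_comp]
  exact congrArg (fun t => (HomologicalComplex.singleObjXSelf cℤ 0 (P.obj (op ⊤))).hom ≫ t) h2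

theorem quasiIso_αApp (P : PSh X) (h : QuasiIso (ιN U P)) : QuasiIso (αApp U P) := by
  have h1 : QuasiIso (HomologicalComplex.extendMap (ιN U P) ComplexShape.embeddingUpNat) := by
    rw [HomologicalComplex.quasiIso_extendMap_iff]
    exact h
  have h2 : QuasiIso ((HomologicalComplex.extendSingleIso ComplexShape.embeddingUpNat
      (P.obj (op ⊤)) 0 0 h00).inv ≫
        HomologicalComplex.extendMap (ιN U P) ComplexShape.embeddingUpNat) := by
    haveI := h1
    infer_instance
  exact h2

lemma nat_aux {C : Type*} [Category C] {S S' A0 A0' B B' B0 B0' : C} (s : S ≅ A0) (s' : S' ≅ A0')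
    (x : B0 ≅ B) (x' : B0' ≅ B') (f : A0 ⟶ A0') (a : A0 ⟶ B) (a' : A0' ⟶ B') (c : B ⟶ B')
    (h : a ≫ c = f ≫ a') :
    (s.hom ≫ f ≫ s'.inv) ≫ (s'.hom ≫ a' ≫ x'.inv) = (s.hom ≫ a ≫ x.inv) ≫ (x.hom ≫ c ≫ x'.inv) := by
  simp only [Category.assoc, Iso.inv_hom_id_assoc]
  rw [reassoc_of% h]

@[reassoc]
lemma aug_nat {P P' : PSh X} (f : P ⟶ P') :
    AddCommGrpCat.ofHom (CZ1.augHom U P) ≫ ((cechComplexFunctor U).map f).f 0 =
      f.app (op ⊤) ≫ AddCommGrpCat.ofHom (CZ1.augHom U P') := by
  ext a
  exact cm_augHom U f a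

/-- the augmentation as a natural transformation -/
noncomputable def α : A (X := X) ⟶ F U where
  app P := αApp U P
  naturality P P' f := by
    apply HomologicalComplex.from_single_hom_ext
    rw [HomologicalComplex.comp_f, HomologicalComplex.comp_f, αApp_f_zero, αApp_f_zero]
    have h1 : ((A (X := X)).map f).f 0 =
        (HomologicalComplex.singleObjXSelf cℤ 0 (P.obj (op ⊤))).hom ≫ f.app (op ⊤) ≫
          (HomologicalComplex.singleObjXSelf cℤ 0 (P'.obj (op ⊤))).inv :=
      HomologicalComplex.single_map_f_self _ _ _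
    have h2 : ((F U).map f).f 0 =
        ((cx U P).extendXIso ComplexShape.embeddingUpNat h00).hom ≫
          ((cechComplexFunctor U).map f).f 0 ≫
            ((cx U P').extendXIso ComplexShape.embeddingUpNat h00).inv :=
      HomologicalComplex.extendMap_f _ _ h00
    rw [h1, h2]
    exact nat_aux _ _ _ _ _ _ _ _ (aug_nat U f)

lemma α_app (P : PSh X) : (α U).app P = αApp U P := rfl

end Groth.Agent.Helper9.HyC2
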