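import Mathlib
import Groth.Agent.Helper6.Tot4

/-! The total complex of a double complex concentrated in inner degree `0`, and the row-wise
criterion for quasi-isomorphisms of total complexes. -/

set_option autoImplicit false
set_option linter.unusedSectionVars false

open CategoryTheory Limits HomologicalComplex

namespace Groth.Agent.Helper9.HyC3

open Groth.Agent.Helper6.Tot2 Groth.Agent.Helper6.Tot3 Groth.Agent.Helper6.Tot4

universe u v

variable {A : Type u} [Category.{v} A] [Abelian A]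

local notation "cℤ" => ComplexShape.up ℤ

/-- row-wise quasi-isomorphisms give a quasi-isomorphism of total complexes -/
theorem total_quasiIso (K L : HomologicalComplex₂ A cℤ cℤ) (φ : K ⟶ L) (a b : ℤ)
    (hK : ∀ p q : ℤ, p < a ∨ q < b → IsZero ((K.X p).X q))
    (hL : ∀ p q : ℤ, p < a ∨ q < b → IsZero ((L.X p).X q))
    [K.HasTotal cℤ] [L.HasTotal cℤ] (hφ : ∀ q, QuasiIso ((rowF q).map φ)) :
    QuasiIso (HomologicalComplex₂.total.map φ cℤ) := by
  rw [quasiIso_iff]
  intro n
  rw [quasiIsoAt_iff_isIso_homologyMap]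
  exact (key (n + 2 - a - b).toNat a b n K L φ hK hL hφ (Int.self_le_toNat _)).1 n le_rfl

section single

variable (M : CochainComplex A ℤ)

/-- the double complex with `M` as row `0` -/
noncomputable abbrev A₂ : HomologicalComplex₂ A cℤ cℤ :=
  ((single A cℤ 0).mapHomologicalComplex cℤ).obj M

variable [(A₂ M).HasTotal cℤ]

lemma isIso_ιTotal (n : ℤ) : IsIso ((A₂ M).ιTotal cℤ n 0 n (add_zero n)) := by
  classical
  refine ⟨⟨(A₂ M).totalDesc (fun p' q' h' => if hq : q' = 0 then eqToHom (by
      have hp : p' = n := by dsimp at h'; omega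
      subst hq hp; rfl) else 0), ?_, ?_⟩⟩
  · rw [HomologicalComplex₂.ι_totalDesc, dif_pos rfl, eqToHom_refl]
  · apply HomologicalComplex₂.total.hom_ext
    intro p' q' h'
    rw [HomologicalComplex₂.ι_totalDesc_assoc, Category.comp_id]
    by_cases hq : q' = 0
    · have hp : p' = n := by dsimp at h'; omega
      subst hq hp
      rw [dif_pos rfl, eqToHom_refl, Category.id_comp]
    · exact (isZero_single_obj_X cℤ 0 (M.X p') q' hq).eq_of_src _ _

/-- the identification `Mⁿ ≅ (A₂ M)^{n,0}` -/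
noncomputable def sIso (n : ℤ) : M.X n ≅ ((A₂ M).X n).X 0 :=
  (singleObjXSelf cℤ 0 (M.X n)).symm

/-- the comparison `Mⁿ ⟶ Totⁿ` -/
noncomputable def jM (n : ℤ) : M.X n ⟶ ((A₂ M).total cℤ).X n :=
  (sIso M n).hom ≫ (A₂ M).ιTotal cℤ n 0 n (add_zero n)

instance (n : ℤ) : IsIso (jM M n) := by
  haveI := isIso_ιTotal M n
  unfold jM
  infer_instance

omit [(A₂ M).HasTotal cℤ] in
lemma A₂_d_f (p p' : ℤ) : ((A₂ M).d p p').f 0 =
    (sIso M p).inv ≫ M.d p p' ≫ (sIso M p').hom :=
  single_map_f_self _ _ _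

lemma jM_d (n n' : ℤ) (hn : n + 1 = n') :
    jM M n ≫ ((A₂ M).total cℤ).d n n' = M.d n n' ≫ jM M n' := by
  have h2 : ((A₂ M).X n).d 0 (0 + 1) = 0 := rfl
  have h1 : ComplexShape.ε₁ cℤ cℤ cℤ (n, 0) = 1 := rfl
  unfold jM
  rw [HomologicalComplex₂.total_d, Preadditive.comp_add, Category.assoc, Category.assoc,
    HomologicalComplex₂.ι_D₁, HomologicalComplex₂.ι_D₂,
    HomologicalComplex₂.d₁_eq _ cℤ (show (ComplexShape.up ℤ).Rel n n' from hn) 0 n' (add_zero n'),
    HomologicalComplex₂.d₂_eq _ cℤ n (show (ComplexShape.up ℤ).Rel 0 (0 + 1) from rfl) n'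
      (by dsimp; omega),
    h2, zero_comp, smul_zero, comp_zero, add_zero, h1, one_smul, A₂_d_f, Category.assoc,
    Category.assoc, Iso.hom_inv_id_assoc]

/-- `M` is the total complex of the double complex with `M` as only row -/
noncomputable def totalIso : M ≅ (A₂ M).total cℤ :=
  Hom.isoOfComponents (fun n => asIso (jM M n)) (fun n n' hn => by
    have hn' : n + 1 = n' := hn
    rw [asIso_hom, asIso_hom]
    exact jM_d M n n' hn')

end single

end Groth.Agent.Helper9.HyC3
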