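import Mathlib
import Groth.Prelude.Def_CechTot
import Groth.Agent.Helper9.HyA
import Groth.Agent.Helper9.HyC1
import Groth.Agent.Helper9.HyC2
import Groth.Agent.Helper9.HyC3

/-! Čech hypercohomology of a cover by opens on which the terms of a bounded below complex are
acyclic is the hypercohomology. -/

set_option autoImplicit false
set_option linter.unusedSectionVars false

namespace Groth.Agent.Helper9.HyC4

open CategoryTheory Limits Opposite TopologicalSpace HomologicalComplex
open Groth.Agent.Helper1.Cech Groth.Agent.Helper9.CZ1 Groth.Agent.Helper9.HyB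
  Groth.Agent.Helper9.HyC1 Groth.Agent.Helper9.HyC2 Groth.Agent.Helper9.HyC3
open Groth.Agent.Helper6.Tot2

universe u

variable {X : TopCat.{u}} {ι : Type u} (U : ι → Opens X)

local notation "cℤ" => ComplexShape.up ℤ
local notation "eN" => ComplexShape.embeddingUpNat

/-- the Čech double complex functor on complexes of sheaves -/
noncomputable abbrev C₂ : CochainComplex (CohTop.Ab X) ℤ ⥤ HomologicalComplex₂ AddCommGrpCat.{u} cℤ cℤ :=
  CechTot.presheafCx X ⋙ (F U).mapHomologicalComplex cℤ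

lemma C₂_obj (K : CochainComplex (CohTop.Ab X) ℤ) :
    (C₂ U).obj K = CechTot.cech₂ U ((CechTot.presheafCx X).obj K) := rfl

section rows

variable (p : ℕ)

lemma hp : ComplexShape.embeddingUpNat.f p = (p : ℤ) := rfl

/-- Čech cochains of degree `p` via the extended complex -/
noncomputable abbrev Ge : CohTop.Ab X ⥤ AddCommGrpCat.{u} :=
  sheafToPresheaf (Opens.grothendieckTopology X) AddCommGrpCat.{u} ⋙ F U ⋙
    eval AddCommGrpCat.{u} cℤ (p : ℤ)

/-- the two descriptions of Čech cochains agree -/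
noncomputable def θ : Ge U p ≅ Gs U p :=
  NatIso.ofComponents (fun G => (cx U G.obj).extendXIso eN (hp p)) (by
    intro G G' f
    have h := HomologicalComplex.extendMap_f ((cechComplexFunctor U).map f.hom) eN (hp p)
    change (HomologicalComplex.extendMap ((cechComplexFunctor U).map f.hom) eN).f (p : ℤ) ≫ _ =
      _ ≫ ((cechComplexFunctor U).map f.hom).f p
    rw [h, Category.assoc, Category.assoc, Iso.inv_hom_id, Category.comp_id])

variable {K L : CochainComplex (CohTop.Ab X) ℤ} (φ : K ⟶ L)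

theorem quasiIso_row_nonneg (h : QuasiIso (((Gs U p).mapHomologicalComplex cℤ).map φ)) :
    QuasiIso ((rowF (p : ℤ)).map ((C₂ U).map φ)) := by
  have h1 : QuasiIso (((Ge U p).mapHomologicalComplex cℤ).map φ) := by
    refine (quasiIso_iff_of_arrow_mk_iso _ _ ?_).2 h
    exact Arrow.isoMk ((NatIso.mapHomologicalComplex (θ U p) cℤ).app K)
      ((NatIso.mapHomologicalComplex (θ U p) cℤ).app L)
      ((NatIso.mapHomologicalComplex (θ U p) cℤ).hom.naturality φ).symm
  exact h1

theorem quasiIso_row_neg (q : ℤ) (hq : q < 0) : QuasiIso ((rowF q).map ((C₂ U).map φ)) := by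
  apply quasiIso_of_isZero_X
  · intro i
    exact isZero_extend_X _ _ _ (fun j hj => by
      have : (j : ℤ) = q := hj
      omega)
  · intro i
    exact isZero_extend_X _ _ _ (fun j hj => by
      have : (j : ℤ) = q := hj
      omega)

end rows

section bounds

variable (K : CochainComplex (CohTop.Ab X) ℤ) (a' : ℤ) (hK0 : ∀ i : ℤ, i < a' → IsZero (K.X i))

include hK0 in
lemma isZero_C₂ (i q : ℤ) (h : i < a' ∨ q < 0) : IsZero ((((C₂ U).obj K).X i).X q) := by
  rcases h with hi | hq
  · exact Functor.map_isZero (sheafToPresheaf (Opens.grothendieckTopology X) AddCommGrpCat.{u} ⋙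
      F U ⋙ eval AddCommGrpCat.{u} cℤ q) (hK0 i hi)
  · exact isZero_extend_X _ _ _ (fun j hj => by
      have : (j : ℤ) = q := hj
      omega)

end bounds

section stepA

variable {K L : CochainComplex (CohTop.Ab X) ℤ} (φ : K ⟶ L) (a' : ℤ)
  (hK0 : ∀ i : ℤ, i < a' → IsZero (K.X i)) (hL0 : ∀ i : ℤ, i < a' → IsZero (L.X i))
  (hrows : ∀ p : ℕ, QuasiIso (((Gs U p).mapHomologicalComplex cℤ).map φ))

include hK0 hL0 hrows in
theorem quasiIso_total_C₂ :
    QuasiIso (HomologicalComplex₂.total.map ((C₂ U).map φ) cℤ) := by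
  refine total_quasiIso _ _ _ a' 0 (fun i q h => isZero_C₂ U K a' hK0 i q h)
    (fun i q h => isZero_C₂ U L a' hL0 i q h) ?_
  intro q
  by_cases hq : q < 0
  · exact quasiIso_row_neg U φ q hq
  · have e : q = ((q.toNat : ℕ) : ℤ) := (Int.toNat_of_nonneg (by omega)).symm
    rw [e]
    exact quasiIso_row_nonneg U q.toNat φ (hrows _)

end stepA

section stepB

variable (hcov : iSup U = ⊤) (L : CochainComplex (CohTop.Ab X) ℤ) (a' : ℤ)
  (hL0 : ∀ i : ℤ, i < a' → IsZero (L.X i)) (hLinj : ∀ i, Injective (L.X i))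

/-- global sections of `L` -/
noncomputable abbrev ΓL : CochainComplex AddCommGrpCat.{u} ℤ :=
  (CohCx.sectCx (Opens.grothendieckTopology X) (⊤ : Opens X)).obj L

/-- the augmentation of the Čech double complex -/
noncomputable def aug₂ : A₂ (ΓL L) ⟶ (C₂ U).obj L :=
  (NatTrans.mapHomologicalComplex (α U) cℤ).app ((CechTot.presheafCx X).obj L)

lemma aug₂_f (q : ℤ) : (aug₂ U L).f q = αApp U (L.X q).obj := rfl

include hcov hLinj in
lemma quasiIso_aug₂_f (q : ℤ) : QuasiIso ((aug₂ U L).f q) := by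
  rw [aug₂_f]
  apply quasiIso_αApp
  have := hLinj q
  have := Groth.Agent.Helper1.CohTopCech.injective_presheaf (L.X q)
  apply quasiIso_ιN
  · intro b b' hb
    exact Groth.Agent.Helper1.CechTop.aug_injective' (L.X q) ⊤ (fun _ => le_top)
      (hcov ▸ le_rfl) hb
  · intro b hb
    exact Groth.Agent.Helper1.CechTop.exists_aug_of_cocycle' (L.X q) ⊤ (fun _ => le_top)
      (hcov ▸ le_rfl) b hb
  · intro p c hc
    exact @Groth.Agent.Helper1.CechInj.exists_of_cocycle_self (Opens X) _ _ _ ι U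
      (L.X q).obj _ p c hc

/-- the flipped augmentation -/
noncomputable def fl : (A₂ (ΓL L)).flip ⟶ ((C₂ U).obj L).flip :=
  (HomologicalComplex₂.flipFunctor _ _ _).map (aug₂ U L)

include hcov hLinj in
lemma quasiIso_row_fl (q : ℤ) : QuasiIso ((rowF q).map (fl U L)) := by
  have h := quasiIso_aug₂_f U hcov L hLinj q
  exact h

include hL0 in
lemma isZero_A₂_flip (p q : ℤ) (h : p < 0 ∨ q < a') : IsZero ((((A₂ (ΓL L)).flip).X p).X q) := by
  rcases h with hp | hq
  · exact isZero_single_obj_X cℤ 0 _ p (by omega)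
  · exact Functor.map_isZero (sheafToPresheaf (Opens.grothendieckTopology X) AddCommGrpCat.{u} ⋙
      (evaluation _ _).obj (op (⊤ : Opens X)) ⋙ single AddCommGrpCat.{u} cℤ 0 ⋙
        eval AddCommGrpCat.{u} cℤ p) (hL0 q hq)

include hcov hL0 hLinj in
theorem quasiIso_total_fl :
    QuasiIso (HomologicalComplex₂.total.map (fl U L) cℤ) := by
  refine total_quasiIso _ _ _ 0 a' (fun p q h => isZero_A₂_flip L a' hL0 p q h)
    (fun p q h => isZero_C₂ U L a' hL0 q p h.symm) ?_
  intro q
  exact quasiIso_row_fl U hcov L hLinj q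

end stepB

section final

variable [HasDerivedCategory.{u} (CohTop.Ab X)]

theorem main (hcov : iSup U = ⊤) (K : CochainComplex (CohTop.Ab X) ℤ) (a : ℤ)
    (ha : ∀ i : ℤ, i < a → IsZero (K.X i))
    (h : ∀ (p : ℕ) (c : Fin (p + 1) → ι) (i : ℤ) (q : ℕ),
      Subsingleton (CohTop.HU (K.X i) (q + 1) (iInf fun k => U (c k)))) (n : ℤ) :
    Nonempty (↑(CechTot.hyperH U ((CechTot.presheafCx X).obj K) n) ≃+
      CohCx.HDU (DerivedCategory.Q.obj K) n (⊤ : Opens X)) := by
  have hK : K.IsStrictlyGE a := by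
    rw [CochainComplex.isStrictlyGE_iff]
    exact ha
  obtain ⟨L, φ, hmono, hqi, hLinj, hLge⟩ :=
    CochainComplex.Plus.modelCategoryQuillen.exists_mono_quasiIso_injective K (a - 1) a (by ring)
  have hK0 : ∀ i : ℤ, i < a - 1 → IsZero (K.X i) := fun i hi => ha i (by omega)
  have hL0 : ∀ i : ℤ, i < a - 1 → IsZero (L.X i) := fun i hi =>
    L.isZero_of_isStrictlyGE (a - 1) i hi
  have : L.IsKInjective := CochainComplex.isKInjective_of_injective L (a - 1)
  have : IsIso (DerivedCategory.Q.map φ) := by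
    rw [DerivedCategory.isIso_Q_map_iff_quasiIso]
    infer_instance
  let γ : DerivedCategory.Q.obj L ⟶ DerivedCategory.Q.obj K := inv (DerivedCategory.Q.map φ)
  have : IsIso γ := inferInstance
  -- acyclicity on the finite intersections
  have hKac : ∀ (p : ℕ) (i : ℤ) (x : Fin (p + 1) → ι), AcycAt (prodU U x) (K.X i) := by
    intro p i x q
    have h1 := h p x i q
    rw [← Groth.Agent.Helper1.CechTop.prodU_eq] at h1
    exact h1
  have hLac : ∀ (p : ℕ) (i : ℤ) (x : Fin (p + 1) → ι), AcycAt (prodU U x) (L.X i) := by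
    intro p i x
    have := hLinj i
    exact acycAt_of_injective _ _
  -- the short exact sequence `K → L → L/K`
  let S : ShortComplex (CochainComplex (CohTop.Ab X) ℤ) :=
    ShortComplex.mk φ (cokernel.π φ) (cokernel.condition φ)
  have hS : S.ShortExact :=
    { exact := ShortComplex.exact_cokernel φ
      mono_f := hmono
      epi_g := inferInstanceAs (Epi (cokernel.π φ)) }
  have hrows : ∀ p : ℕ, QuasiIso (((Gs U p).mapHomologicalComplex cℤ).map φ) := fun p =>
    quasiIso_rs U S hS p (a - 1) hL0 (hKac p) (hLac p) hqi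
  haveI h1 := quasiIso_total_C₂ U φ (a - 1) hK0 hL0 hrows
  haveI h2 := quasiIso_total_fl U hcov L (a - 1) hL0 hLinj
  let e1 : (((C₂ U).obj K).total cℤ).homology n ≅ (((C₂ U).obj L).total cℤ).homology n :=
    isoOfQuasiIsoAt (HomologicalComplex₂.total.map ((C₂ U).map φ) cℤ) n
  let e2 : (((C₂ U).obj L).flip.total cℤ).homology n ≅ (((C₂ U).obj L).total cℤ).homology n :=
    (homologyFunctor _ _ n).mapIso (((C₂ U).obj L).totalFlipIso cℤ)
  let e3 : ((A₂ (ΓL L)).flip.total cℤ).homology n ≅ (((C₂ U).obj L).flip.total cℤ).homology n :=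
    isoOfQuasiIsoAt (HomologicalComplex₂.total.map (fl U L) cℤ) n
  let e4 : ((A₂ (ΓL L)).flip.total cℤ).homology n ≅ ((A₂ (ΓL L)).total cℤ).homology n :=
    (homologyFunctor _ _ n).mapIso ((A₂ (ΓL L)).totalFlipIso cℤ)
  let e5 : (ΓL L).homology n ≅ ((A₂ (ΓL L)).total cℤ).homology n :=
    (homologyFunctor _ _ n).mapIso (totalIso (ΓL L))
  obtain ⟨e6⟩ := Groth.Agent.Helper9.HyA.nonempty_equiv L γ n (⊤ : Opens X)
  exact ⟨((e1 ≪≫ e2.symm ≪≫ e3.symm ≪≫ e4 ≪≫ e5.symm).addCommGroupIsoToAddEquiv).trans e6⟩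

end final

end Groth.Agent.Helper9.HyC4
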