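import Mathlib
import Groth.Agent.Helper9.CoskSetB

/-!
# The right adjoint of evaluation at `[n]` on simplicial objects, and its coskeleta
(elementwise form)
-/

set_option autoImplicit false
set_option backward.isDefEq.respectTransparency false
set_option backward.isDefEq.respectTransparency.types false

open CategoryTheory Limits Opposite Functor Simplicial

namespace Groth.Agent.Helper9.HypRefA

open Groth.Agent.Helper9.CoskHtpyA Groth.Agent.Helper9.CoskSetB SimplicialObject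

universe v u

variable {E : Type u} [Category.{v} E] [HasFiniteLimits E]

instance finite_hom_op (a b : SimplexCategoryᵒᵖ) : Finite (a ⟶ b) :=
  Finite.of_equiv _ (opEquiv a b).symm

variable (n : ℕ)

/-- the right adjoint of evaluation at `[n]` -/
noncomputable abbrev R : E ⥤ SimplicialObject E := evaluationRightAdjoint E (op ⦋n⦌)

/-- the unit `K ⟶ R (K_n)` -/
noncomputable abbrev unitR (K : SimplicialObject E) : K ⟶ (R n).obj (K.obj (op ⦋n⦌)) :=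
  (evaluationAdjunctionLeft E (op ⦋n⦌)).unit.app K

/-- the projections of `(R Z)_k` -/
noncomputable def πc (Z : E) {k : SimplexCategory} (ψ : ⦋n⦌ ⟶ k) : ((R n).obj Z).obj (op k) ⟶ Z :=
  Pi.π (fun _ : (op k ⟶ op ⦋n⦌) => Z) ψ.op

variable {n}

lemma R_map_πc (Z : E) {k k' : SimplexCategory} (θ : k' ⟶ k) (ψ : ⦋n⦌ ⟶ k') :
    ((R n).obj Z).map θ.op ≫ πc n Z ψ = πc n Z (ψ ≫ θ) := by
  simp [πc]

lemma R_map_app_πc {Z Y : E} (u : Z ⟶ Y) {k : SimplexCategory} (ψ : ⦋n⦌ ⟶ k) :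
    ((R n).map u).app (op k) ≫ πc n Y ψ = πc n Z ψ ≫ u := by
  simp [πc]

lemma unitR_πc (K : SimplicialObject E) {k : SimplexCategory} (ψ : ⦋n⦌ ⟶ k) :
    (unitR n K).app (op k) ≫ πc n _ ψ = K.map ψ.op := by
  simp [πc, unitR]

lemma R_hom_ext (Z : E) {k : SimplexCategory} {W : E} (a b : W ⟶ ((R n).obj Z).obj (op k))
    (h : ∀ ψ : ⦋n⦌ ⟶ k, a ≫ πc n Z ψ = b ≫ πc n Z ψ) : a = b := by
  refine Pi.hom_ext _ _ (fun g => ?_)
  exact h g.unop

/-- maps to `(R Z)_k` -/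
noncomputable def R_lift (Z : E) {k : SimplexCategory} {W : E} (z : (⦋n⦌ ⟶ k) → (W ⟶ Z)) :
    W ⟶ ((R n).obj Z).obj (op k) :=
  Pi.lift (fun g : (op k ⟶ op ⦋n⦌) => z g.unop)

@[reassoc]
lemma R_lift_πc (Z : E) {k : SimplexCategory} {W : E} (z : (⦋n⦌ ⟶ k) → (W ⟶ Z))
    (ψ : ⦋n⦌ ⟶ k) : R_lift Z z ≫ πc n Z ψ = z ψ := by
  simp [R_lift, πc]

variable (m : ℕ)
  [∀ (F : (SimplexCategory.Truncated m)ᵒᵖ ⥤ E),
    (SimplexCategory.Truncated.inclusion m).op.HasRightKanExtension F]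

lemma key_emu (Z : E) {M Δ' : SimplexCategory} (χ : ⦋n⦌ ⟶ M) (e : ⦋n⦌ ⟶ Δ') [Epi e]
    (i : Δ' ⟶ M) [Mono i] (h : Δ'.len ≤ m) (fac : e ≫ i = χ) :
    ∃ h' : (image χ).len ≤ m, pr m ((R n).obj Z) i h ≫ πc n Z e =
      pr m ((R n).obj Z) (image.ι χ) h' ≫ πc n Z (factorThruImage χ) := by
  have h1 := SimplexCategory.image_eq fac
  subst h1
  have h2 := SimplexCategory.image_ι_eq fac
  have h3 := SimplexCategory.factorThruImage_eq fac
  subst h2 h3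
  exact ⟨h, rfl⟩

theorem key (Z : E) {M j : SimplexCategory} (φ : j ⟶ M) (hj : j.len ≤ m) (ψ : ⦋n⦌ ⟶ j) :
    ∃ h' : (image (ψ ≫ φ)).len ≤ m, pr m ((R n).obj Z) φ hj ≫ πc n Z ψ =
      pr m ((R n).obj Z) (image.ι (ψ ≫ φ)) h' ≫ πc n Z (factorThruImage (ψ ≫ φ)) := by
  have hi₁ : (image ψ).len ≤ m := (SimplexCategory.len_le_of_mono (image.ι ψ)).trans hj
  have hi₂ : (image (image.ι ψ ≫ φ)).len ≤ m :=
    (SimplexCategory.len_le_of_epi (factorThruImage (image.ι ψ ≫ φ))).trans hi₁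
  have s1 : pr m ((R n).obj Z) φ hj ≫ πc n Z ψ =
      pr m ((R n).obj Z) (image.ι ψ ≫ φ) hi₁ ≫ πc n Z (factorThruImage ψ) := by
    rw [pr_comp ((R n).obj Z) φ hj (image.ι ψ) hi₁, Category.assoc, R_map_πc, image.fac]
  have s2 : pr m ((R n).obj Z) (image.ι ψ ≫ φ) hi₁ ≫ πc n Z (factorThruImage ψ) =
      pr m ((R n).obj Z) (image.ι (image.ι ψ ≫ φ)) hi₂ ≫
        πc n Z (factorThruImage ψ ≫ factorThruImage (image.ι ψ ≫ φ)) := by
    have e1 : pr m ((R n).obj Z) (image.ι ψ ≫ φ) hi₁ =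
        pr m ((R n).obj Z) (factorThruImage (image.ι ψ ≫ φ) ≫ image.ι (image.ι ψ ≫ φ)) hi₁ := by
      rw [image.fac]
    rw [e1, pr_comp ((R n).obj Z) (image.ι (image.ι ψ ≫ φ)) hi₂
      (factorThruImage (image.ι ψ ≫ φ)) hi₁, Category.assoc, R_map_πc]
  have fac : (factorThruImage ψ ≫ factorThruImage (image.ι ψ ≫ φ)) ≫
      image.ι (image.ι ψ ≫ φ) = ψ ≫ φ := by
    rw [Category.assoc, image.fac, ← Category.assoc, image.fac]
  obtain ⟨h', hk⟩ := key_emu m Z (ψ ≫ φ) (factorThruImage ψ ≫ factorThruImage (image.ι ψ ≫ φ))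
    (image.ι (image.ι ψ ≫ φ)) hi₂ fac
  exact ⟨h', s1.trans (s2.trans hk)⟩

end Groth.Agent.Helper9.HypRefA
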