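import Mathlib
import Groth.Prelude.Def_Hyper
import Groth.Agent.Helper6.SRCov
import Groth.Agent.Helper9.HypRefA

/-!
# Coverings of formal coproducts via local lifting; `R u` is a relative hypercovering
-/

set_option autoImplicit false
set_option backward.isDefEq.respectTransparency false
set_option backward.isDefEq.respectTransparency.types false

open CategoryTheory Limits Opposite Functor Simplicial Hyper

namespace Groth.Agent.Helper9.HypRefB

open Groth.Agent.Helper9.CoskHtpyA Groth.Agent.Helper9.CoskSetB SimplicialObject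
  Groth.Agent.Helper9.HypRefA Groth.Agent.Helper6

universe u

variable {D : Type u} [SmallCategory D] (J' : GrothendieckTopology D)

section LL

variable {A B : FormalCoproduct.{u} D}

/-- the sieve of those `g` over which `b` lifts through `f` -/
def liftSieve (f : A ⟶ B) {W : D} (b : (FormalCoproduct.incl D).obj W ⟶ B) : Sieve W where
  arrows V g := ∃ a : (FormalCoproduct.incl D).obj V ⟶ A,
    a ≫ f = (FormalCoproduct.incl D).map g ≫ b
  downward_closed := by
    rintro V V' g ⟨a, ha⟩ h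
    exact ⟨(FormalCoproduct.incl D).map h ≫ a,
      by rw [Category.assoc, ha, Functor.map_comp, Category.assoc]⟩

/-- the local lifting property -/
def LL (f : A ⟶ B) : Prop :=
  ∀ (W : D) (b : (FormalCoproduct.incl D).obj W ⟶ B), liftSieve f b ∈ J' W

theorem LL_of_isSRCovering {f : A ⟶ B} (hf : IsSRCovering J' f) : LL J' f := by
  intro W b
  obtain ⟨S, hS, hS'⟩ := SRCov.exists_of_isSRCovering J' hf (b.f PUnit.unit)
  refine J'.superset_covering ?_ (J'.pullback_stable (b.φ PUnit.unit) hS)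
  intro V k hk
  obtain ⟨i, e, a, ha⟩ := hS' (k ≫ b.φ PUnit.unit) hk
  refine ⟨FormalCoproduct.Hom.fromIncl i a, ?_⟩
  refine FormalCoproduct.hom_ext ?_ ?_
  · funext x; exact e
  · intro x
    exact (Category.assoc _ _ _).trans ha.symm

theorem isSRCovering_of_LL {f : A ⟶ B} (hf : LL J' f) : IsSRCovering J' f := by
  apply SRCov.isSRCovering_of
  intro j
  refine ⟨_, hf (B.obj j) (FormalCoproduct.Hom.fromIncl j (𝟙 _)), ?_⟩
  intro W k hk
  obtain ⟨a, ha⟩ := hk
  obtain ⟨h₁, h₂⟩ := (FormalCoproduct.hom_ext_iff _ _).1 ha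
  have e : f.f (a.f PUnit.unit) = j := congrFun h₁ PUnit.unit
  refine ⟨a.f PUnit.unit, e, a.φ PUnit.unit, ?_⟩
  have h3 := h₂ PUnit.unit
  simp only [FormalCoproduct.category_comp_φ, FormalCoproduct.incl_map_φ,
    FormalCoproduct.Hom.fromIncl_φ, Category.assoc] at h3
  exact (Category.comp_id k).symm.trans h3.symm

end LL

lemma iInf_mem {ι : Type*} [Finite ι] {W : D} (S : ι → Sieve W) (h : ∀ i, S i ∈ J' W) :
    (⨅ i, S i) ∈ J' W := by
  induction ι using Finite.induction_empty_option with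
  | of_equiv e ih =>
    rename_i α β
    have : (⨅ i, S i) = ⨅ a, S (e a) := (e.surjective.iInf_comp S).symm
    rw [this]
    exact ih _ (fun a => h (e a))
  | h_empty =>
    rw [iInf_of_empty]
    exact J'.top_mem W
  | h_option ih =>
    rw [iInf_option]
    exact J'.intersection_covering (h none) (ih _ (fun a => h (some a)))

lemma iInf_apply {ι : Type*} {W V : D} (S : ι → Sieve W) (g : V ⟶ W) :
    (⨅ i, S i) g ↔ ∀ i, S i g := by
  simp [iInf, Sieve.sInf_apply]

section RMap

variable [HasFiniteLimits (FormalCoproduct.{u} D)]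

/-- every component of `R u` has the local lifting property -/
theorem LL_R_map (n : ℕ) {Z Y : FormalCoproduct.{u} D} (u : Z ⟶ Y) (hu : LL J' u)
    (k : SimplexCategory) : LL J' (((R n).map u).app (op k)) := by
  intro W w
  have hS : (⨅ ψ : ⦋n⦌ ⟶ k, liftSieve u (w ≫ πc n Y ψ)) ∈ J' W :=
    iInf_mem J' _ (fun ψ => hu W _)
  refine J'.superset_covering ?_ hS
  intro V g hg
  have hg' : ∀ ψ : ⦋n⦌ ⟶ k, ∃ z : (FormalCoproduct.incl D).obj V ⟶ Z,
      z ≫ u = (FormalCoproduct.incl D).map g ≫ w ≫ πc n Y ψ :=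
    fun ψ => (iInf_apply _ g).1 hg ψ
  choose z hz using hg'
  refine ⟨R_lift Z z, ?_⟩
  apply R_hom_ext
  intro ψ
  rw [Category.assoc, R_map_app_πc, R_lift_πc_assoc, hz, Category.assoc]

variable (n m : ℕ)
  [∀ (F : (SimplexCategory.Truncated m)ᵒᵖ ⥤ FormalCoproduct.{u} D),
    (SimplexCategory.Truncated.inclusion m).op.HasRightKanExtension F]
  {Z Y : FormalCoproduct.{u} D} (u : Z ⟶ Y) {M : SimplexCategory}
  {Q : FormalCoproduct.{u} D} (q1 : Q ⟶ ((R n).obj Y).obj (op M))
  (q2 : Q ⟶ ((cosk m).obj ((R n).obj Z)).obj (op M))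
  (hQ : q1 ≫ ((coskAdj m).unit.app ((R n).obj Y)).app (op M) =
    q2 ≫ ((cosk m).map ((R n).map u)).app (op M))

include hQ in
lemma comp1 {Δ' : SimplexCategory} (e : ⦋n⦌ ⟶ Δ') (i : Δ' ⟶ M) (h : Δ'.len ≤ m) :
    q2 ≫ pr m ((R n).obj Z) i h ≫ πc n Z e ≫ u = q1 ≫ πc n Y (e ≫ i) := by
  rw [← R_map_app_πc u e, ← Category.assoc (pr m ((R n).obj Z) i h),
    ← cosk_map_pr ((R n).map u) i h, Category.assoc, ← Category.assoc q2, ← hQ,
    Category.assoc, ← Category.assoc (((coskAdj m).unit.app ((R n).obj Y)).app (op M)),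
    unit_pr, R_map_πc]

variable {W : D} (c : (FormalCoproduct.incl D).obj W ⟶ Q)

/-- the sieve over which a good component at `χ` exists -/
def compSieve (χ : ⦋n⦌ ⟶ M) : Sieve W where
  arrows V g := ∃ z : (FormalCoproduct.incl D).obj V ⟶ Z,
    z ≫ u = (FormalCoproduct.incl D).map g ≫ c ≫ q1 ≫ πc n Y χ ∧
    ∀ h : (image χ).len ≤ m, z = (FormalCoproduct.incl D).map g ≫ c ≫ q2 ≫
      pr m ((R n).obj Z) (image.ι χ) h ≫ πc n Z (factorThruImage χ)
  downward_closed := by
    rintro V V' g ⟨z, hz1, hz2⟩ k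
    refine ⟨(FormalCoproduct.incl D).map k ≫ z, ?_, ?_⟩
    · rw [Category.assoc, hz1, Functor.map_comp, Category.assoc]
    · intro h
      rw [hz2 h, Functor.map_comp, Category.assoc]

include hQ in
lemma compSieve_mem (hu : LL J' u) (χ : ⦋n⦌ ⟶ M) : compSieve n m u q1 q2 c χ ∈ J' W := by
  by_cases h : (image χ).len ≤ m
  · refine J'.superset_covering ?_ (J'.top_mem W)
    intro V g _
    refine ⟨(FormalCoproduct.incl D).map g ≫ c ≫ q2 ≫
      pr m ((R n).obj Z) (image.ι χ) h ≫ πc n Z (factorThruImage χ), ?_, fun _ => rfl⟩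
    have h1 := comp1 n m u q1 q2 hQ (factorThruImage χ) (image.ι χ) h
    rw [image.fac] at h1
    simp only [Category.assoc]
    rw [h1]
  · refine J'.superset_covering ?_ (hu W (c ≫ q1 ≫ πc n Y χ))
    rintro V g ⟨z, hz⟩
    exact ⟨z, hz, fun h' => absurd h' h⟩

variable (γ : ((R n).obj Z).obj (op M) ⟶ Q)
  (h1 : γ ≫ q1 = ((R n).map u).app (op M))
  (h2 : γ ≫ q2 = ((coskAdj m).unit.app ((R n).obj Z)).app (op M))

include h1 h2 in
/-- the relative matching map of `R u` has the local lifting property -/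
theorem LL_gamma (hu : LL J' u)
    (hP : IsPullback q1 q2 (((coskAdj m).unit.app ((R n).obj Y)).app (op M))
      (((cosk m).map ((R n).map u)).app (op M))) : LL J' γ := by
  intro W c
  have hS : (⨅ χ : ⦋n⦌ ⟶ M, compSieve n m u q1 q2 c χ) ∈ J' W :=
    iInf_mem J' _ (fun χ => compSieve_mem J' n m u q1 q2 hP.w c hu χ)
  refine J'.superset_covering ?_ hS
  intro V g hg
  have hg' : ∀ χ : ⦋n⦌ ⟶ M, ∃ z : (FormalCoproduct.incl D).obj V ⟶ Z,
      z ≫ u = (FormalCoproduct.incl D).map g ≫ c ≫ q1 ≫ πc n Y χ ∧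
      ∀ h : (image χ).len ≤ m, z = (FormalCoproduct.incl D).map g ≫ c ≫ q2 ≫
        pr m ((R n).obj Z) (image.ι χ) h ≫ πc n Z (factorThruImage χ) :=
    fun χ => (iInf_apply _ g).1 hg χ
  choose z hz1 hz2 using hg'
  refine ⟨R_lift Z z, ?_⟩
  apply hP.hom_ext
  · rw [Category.assoc, h1, Category.assoc]
    apply R_hom_ext
    intro χ
    rw [Category.assoc, R_map_app_πc, R_lift_πc_assoc, hz1]
    simp only [Category.assoc]
  · rw [Category.assoc, h2, Category.assoc]
    refine CoskHtpyA.hom_ext ((R n).obj Z) _ _ (fun j hj φ => ?_)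
    rw [Category.assoc, unit_pr]
    apply R_hom_ext
    intro ψ
    rw [Category.assoc, R_map_πc, R_lift_πc]
    obtain ⟨h', hk⟩ := key m Z φ hj ψ
    rw [hz2 (ψ ≫ φ) h']
    simp only [Category.assoc]
    rw [hk]

end RMap

end Groth.Agent.Helper9.HypRefB
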