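import Mathlib
import Groth.Prelude.Def_Hyper
import Groth.Agent.Helper6.HyperPB
import Groth.Agent.Helper9.HypRefB

/-!
# Refinement of a hypercovering through a covering of `K_n`
-/

set_option autoImplicit false
set_option backward.isDefEq.respectTransparency false
set_option backward.isDefEq.respectTransparency.types false

open CategoryTheory Limits Opposite Functor Simplicial Hyper

namespace Groth.Agent.Helper9.HypRefC

open Groth.Agent.Helper9.CoskHtpyA Groth.Agent.Helper9.CoskSetB SimplicialObject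
  Groth.Agent.Helper9.HypRefA Groth.Agent.Helper9.HypRefB Groth.Agent.Helper6

universe u

variable {C : Type u} [SmallCategory C] [HasPullbacks C] (J : GrothendieckTopology C) (X : C)
  [∀ (n : ℕ) (F : (SimplexCategory.Truncated n)ᵒᵖ ⥤ FormalCoproduct.{u} (Over X)),
    (SimplexCategory.Truncated.inclusion n).op.HasRightKanExtension F]

instance hasFiniteLimits_FC : HasFiniteLimits (FormalCoproduct.{u} (Over X)) :=
  hasFiniteLimits_of_hasTerminal_and_pullbacks

theorem exists_refinement (K : SimplicialObject (FormalCoproduct.{u} (Over X)))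
    (hK : Hyper.IsHypercovering J X K) (n : ℕ)
    (Z : FormalCoproduct.{u} (Over X)) (u : Z ⟶ K.obj (op ⦋n⦌))
    (hu : Hyper.IsSRCovering (J.over X) u) :
    ∃ (L : SimplicialObject (FormalCoproduct.{u} (Over X))) (f : L ⟶ K)
      (g : L.obj (op ⦋n⦌) ⟶ Z),
      Hyper.IsHypercovering J X L ∧ g ≫ u = f.app (op ⦋n⦌) := by
  have hu' := LL_of_isSRCovering (J.over X) hu
  let a : K ⟶ (R n).obj (K.obj (op ⦋n⦌)) := unitR n K
  let b : (R n).obj Z ⟶ (R n).obj (K.obj (op ⦋n⦌)) := (R n).map u
  have hP : IsPullback (pullback.fst a b) (pullback.snd a b) a b := IsPullback.of_hasPullback a b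
  refine ⟨pullback a b, pullback.fst a b,
    (pullback.snd a b).app (op ⦋n⦌) ≫ πc n Z (𝟙 ⦋n⦌), ?_, ?_⟩
  · refine HyperPB.isHypercovering_pullback J X a b _ _ hP hK ?_ ?_
    · exact isSRCovering_of_LL _ (LL_R_map _ n u hu' ⦋0⦌)
    · intro m Q q1 q2 γ hQ e1 e2
      exact isSRCovering_of_LL _ (LL_gamma (J.over X) n m u q1 q2 γ e1 e2 hu' hQ)
  · have h1 : (pullback.snd a b).app (op ⦋n⦌) ≫ b.app (op ⦋n⦌) =
        (pullback.fst a b).app (op ⦋n⦌) ≫ a.app (op ⦋n⦌) := by
      rw [← NatTrans.comp_app, ← NatTrans.comp_app, pullback.condition]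
    rw [Category.assoc, ← R_map_app_πc u (𝟙 ⦋n⦌), ← Category.assoc, h1, Category.assoc,
      unitR_πc]
    simp

end Groth.Agent.Helper9.HypRefC
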