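import Mathlib
import Groth.Prelude.Def_Hyper
import Groth.Prelude.Def_Hyper2
import Groth.Agent.Helper9.HypRefC

/-!
# Cech classes of a presheaf with zero sheafification die on a refinement
-/

set_option autoImplicit false
set_option backward.isDefEq.respectTransparency false
set_option backward.isDefEq.respectTransparency.types false

open CategoryTheory Limits Opposite Functor Simplicial Hyper

namespace Groth.Agent.Helper9.HypRefE

open Groth.Agent.Helper6

universe u

variable {C : Type u} [SmallCategory C]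

/-- sections of a presheaf with zero sheafification are locally zero -/
lemma locally_zero (J : GrothendieckTopology C) (N : Cᵒᵖ ⥤ AddCommGrpCat.{u})
    (hN : IsZero ((presheafToSheaf J AddCommGrpCat.{u}).obj N)) {U : C} (x : N.obj (op U)) :
    Presheaf.equalizerSieve (F := N) x 0 ∈ J U := by
  refine Presheaf.equalizerSieve_mem J (toSheafify J N) x 0 ?_
  have h1 : IsZero ((sheafToPresheaf J AddCommGrpCat.{u}).obj
      ((presheafToSheaf J AddCommGrpCat.{u}).obj N)) := Functor.map_isZero _ hN
  have h2 : IsZero ((sheafify J N).obj (op U)) :=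
    Functor.map_isZero ((evaluation Cᵒᵖ AddCommGrpCat.{u}).obj (op U)) h1
  haveI := AddCommGrpCat.subsingleton_of_isZero h2
  exact Subsingleton.elim _ _

section Cochains

variable (X : C) (N : Cᵒᵖ ⥤ AddCommGrpCat.{u})

/-- the extension of `N` to formal coproducts over `X` -/
noncomputable abbrev EV : (FormalCoproduct.{u} (Over X))ᵒᵖ ⥤ AddCommGrpCat.{u} :=
  (FormalCoproduct.evalOp.{u} (Over X) AddCommGrpCat.{u}).obj ((Over.forget X).op ⋙ N)

/-- the components of a cochain -/
noncomputable abbrev comp (A : FormalCoproduct.{u} (Over X)) (i : A.I) :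
    (EV X N).obj (op A) ⟶ N.obj (op (A.obj i).left) :=
  Pi.π (fun i : A.I => ((Over.forget X).op ⋙ N).obj (op (A.obj i))) i

lemma EV_map_comp {A B : FormalCoproduct.{u} (Over X)} (h : A ⟶ B) (i : A.I) :
    (EV X N).map h.op ≫ comp X N A i = comp X N B (h.f i) ≫ N.map (h.φ i).left.op := by
  simp [EV, comp]

lemma EV_map_comp_apply {A B : FormalCoproduct.{u} (Over X)} (h : A ⟶ B) (i : A.I)
    (x : (EV X N).obj (op B)) :
    comp X N A i ((EV X N).map h.op x) = N.map (h.φ i).left.op (comp X N B (h.f i) x) := by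
  have := ConcreteCategory.congr_hom (EV_map_comp X N h i) x
  rwa [ConcreteCategory.comp_apply, ConcreteCategory.comp_apply] at this

lemma EV_ext {A : FormalCoproduct.{u} (Over X)} (x y : (EV X N).obj (op A))
    (h : ∀ i : A.I, comp X N A i x = comp X N A i y) : x = y := by
  apply Concrete.limit_ext
  rintro ⟨i⟩
  exact h i

lemma cechMap_f {K L : SimplicialObject (FormalCoproduct.{u} (Over X))} (f : L ⟶ K) (p : ℕ) :
    (Hyper.cechMap X f N).f p = (EV X N).map (f.app (op ⦋p⦌)).op := rfl

end Cochains

section Main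

variable [HasPullbacks C] (J : GrothendieckTopology C) (X : C)
  [∀ (n : ℕ) (F : (SimplexCategory.Truncated n)ᵒᵖ ⥤ FormalCoproduct.{u} (Over X)),
    (SimplexCategory.Truncated.inclusion n).op.HasRightKanExtension F]

theorem exists_kill_cochain (K : SimplicialObject (FormalCoproduct.{u} (Over X)))
    (hK : Hyper.IsHypercovering J X K) (N : Cᵒᵖ ⥤ AddCommGrpCat.{u})
    (hN : IsZero ((presheafToSheaf J AddCommGrpCat.{u}).obj N)) (p : ℕ)
    (x : (Hyper.cechCx X K N).X p) :
    ∃ (L : SimplicialObject (FormalCoproduct.{u} (Over X))) (f : L ⟶ K),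
      Hyper.IsHypercovering J X L ∧ (Hyper.cechMap X f N).f p x = 0 := by
  let Kp := K.obj (op ⦋p⦌)
  let T : ∀ i : Kp.I, Sieve (Kp.obj i) := fun i =>
    { arrows := fun V g => N.map g.left.op (comp X N Kp i x) = 0
      downward_closed := by
        intro V V' g hg k
        show N.map (k ≫ g).left.op _ = 0
        rw [Over.comp_left, op_comp, N.map_comp, ConcreteCategory.comp_apply, hg, map_zero] }
  have hT : ∀ i, T i ∈ (J.over X) (Kp.obj i) := by
    intro i
    rw [GrothendieckTopology.mem_over_iff]
    refine J.superset_covering ?_ (locally_zero J N hN (comp X N Kp i x))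
    intro W k hk
    rw [Sieve.overEquiv_iff]
    show N.map k.op _ = 0
    exact hk.trans (map_zero _)
  let I' : Type u := Σ i : Kp.I, Σ V : Over X, {g : V ⟶ Kp.obj i // T i g}
  let Z : FormalCoproduct.{u} (Over X) := ⟨I', fun α => α.2.1⟩
  let v : Z ⟶ Kp := ⟨fun α => α.1, fun α => α.2.2.1⟩
  have hv : IsSRCovering (J.over X) v := by
    apply SRCov.isSRCovering_of
    intro i
    refine ⟨T i, hT i, ?_⟩
    intro W k hk
    refine ⟨⟨i, W, k, hk⟩, rfl, 𝟙 W, ?_⟩
    simp [v]
  obtain ⟨L, f, g, hL, hg⟩ := HypRefC.exists_refinement J X K hK p Z v hv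
  refine ⟨L, f, hL, ?_⟩
  rw [cechMap_f, ← hg, op_comp, Functor.map_comp, ConcreteCategory.comp_apply]
  have h0 : (EV X N).map v.op x = 0 := by
    apply EV_ext
    intro α
    rw [EV_map_comp_apply, map_zero]
    exact α.2.2.2
  show (EV X N).map g.op ((EV X N).map v.op x) = 0
  rw [h0, map_zero]

theorem exists_kill_class (K : SimplicialObject (FormalCoproduct.{u} (Over X)))
    (hK : Hyper.IsHypercovering J X K) (N : Cᵒᵖ ⥤ AddCommGrpCat.{u})
    (hN : IsZero ((presheafToSheaf J AddCommGrpCat.{u}).obj N)) (p : ℕ)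
    (ξ : Hyper.cechH X K N p) :
    ∃ (L : SimplicialObject (FormalCoproduct.{u} (Over X))) (f : L ⟶ K),
      Hyper.IsHypercovering J X L ∧ Hyper.cechHMap X f N p ξ = 0 := by
  have hsurj : Function.Surjective ((Hyper.cechCx X K N).homologyπ p) :=
    (AddCommGrpCat.epi_iff_surjective _).1 inferInstance
  obtain ⟨z, rfl⟩ := hsurj ξ
  obtain ⟨L, f, hL, hf⟩ := exists_kill_cochain J X K hK N hN p ((Hyper.cechCx X K N).iCycles p z)
  refine ⟨L, f, hL, ?_⟩
  have h1 := ConcreteCategory.congr_hom
    (HomologicalComplex.homologyπ_naturality (Hyper.cechMap X f N) p) z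
  rw [ConcreteCategory.comp_apply, ConcreteCategory.comp_apply] at h1
  refine h1.trans ?_
  have h2 := ConcreteCategory.congr_hom
    (HomologicalComplex.cyclesMap_i (Hyper.cechMap X f N) p) z
  rw [ConcreteCategory.comp_apply, ConcreteCategory.comp_apply, hf] at h2
  have hinj : Function.Injective ((Hyper.cechCx X L N).iCycles p) :=
    (AddCommGrpCat.mono_iff_injective _).1 inferInstance
  have h3 : HomologicalComplex.cyclesMap (Hyper.cechMap X f N) p z = 0 :=
    hinj (h2.trans (map_zero _).symm)
  rw [h3, map_zero]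

end Main

end Groth.Agent.Helper9.HypRefE
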