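import Mathlib
import Groth.Prelude.Def_Hyper
import Groth.Prelude.Def_Hyper2
import Groth.Agent.Helper9.HypRefE

/-!
# Cochains of presheaves on simplicial formal coproducts: push-forward along maps of presheaves,
killing and lifting on refinements
-/

set_option autoImplicit false
set_option backward.isDefEq.respectTransparency false
set_option backward.isDefEq.respectTransparency.types false

open CategoryTheory Limits Opposite Simplicial Hyper

namespace Groth.Agent.Helper9.HypDieA

open Groth.Agent.Helper6 Groth.Agent.Helper9.HypRefE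

universe u

variable {C : Type u} [SmallCategory C]

section Push

variable (X : C) {G G' : Cᵒᵖ ⥤ AddCommGrpCat.{u}} (φ : G ⟶ G')

/-- the map `EV G ⟶ EV G'` induced by a map of presheaves -/
noncomputable abbrev pushEV : EV X G ⟶ EV X G' :=
  (FormalCoproduct.evalOp.{u} (Over X) AddCommGrpCat.{u}).map
    (Functor.whiskerLeft (Over.forget X).op φ)

lemma pushEV_comp (A : FormalCoproduct.{u} (Over X)) (i : A.I) :
    (pushEV X φ).app (op A) ≫ comp X G' A i = comp X G A i ≫ φ.app (op (A.obj i).left) := by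
  simp [pushEV, comp]

lemma pushEV_comp_apply (A : FormalCoproduct.{u} (Over X)) (i : A.I) (x : (EV X G).obj (op A)) :
    comp X G' A i ((pushEV X φ).app (op A) x) = φ.app (op (A.obj i).left) (comp X G A i x) := by
  have := ConcreteCategory.congr_hom (pushEV_comp X φ A i) x
  rwa [ConcreteCategory.comp_apply, ConcreteCategory.comp_apply] at this

lemma pushEV_naturality_apply {A B : FormalCoproduct.{u} (Over X)} (h : A ⟶ B)
    (x : (EV X G).obj (op B)) :
    (pushEV X φ).app (op A) ((EV X G).map h.op x) =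
      (EV X G').map h.op ((pushEV X φ).app (op B) x) := by
  have := ConcreteCategory.congr_hom ((pushEV X φ).naturality h.op) x
  rwa [ConcreteCategory.comp_apply, ConcreteCategory.comp_apply] at this

/-- the map of Cech complexes induced by a map of presheaves -/
noncomputable abbrev pushCx (K : SimplicialObject (FormalCoproduct.{u} (Over X))) :
    Hyper.cechCx X K G ⟶ Hyper.cechCx X K G' :=
  (FormalCoproduct.cochainComplexFunctor K).map (Functor.whiskerLeft (Over.forget X).op φ)

lemma pushCx_f (K : SimplicialObject (FormalCoproduct.{u} (Over X))) (p : ℕ) :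
    (pushCx X φ K).f p = (pushEV X φ).app (op (K.obj (op ⦋p⦌))) := rfl

/-- a cochain from its components -/
noncomputable def mkCochain (G : Cᵒᵖ ⥤ AddCommGrpCat.{u}) (A : FormalCoproduct.{u} (Over X))
    (t : ∀ i : A.I, G.obj (op (A.obj i).left)) : (EV X G).obj (op A) :=
  (Concrete.productEquiv (fun i : A.I => ((Over.forget X).op ⋙ G).obj (op (A.obj i)))).symm t

lemma comp_mkCochain (G : Cᵒᵖ ⥤ AddCommGrpCat.{u}) (A : FormalCoproduct.{u} (Over X))
    (t : ∀ i : A.I, G.obj (op (A.obj i).left)) (i : A.I) :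
    comp X G A i (mkCochain X G A t) = t i :=
  Concrete.productEquiv_symm_apply_π _ t i

end Push

section Refine

variable [HasPullbacks C] (J : GrothendieckTopology C) (X : C)
  [∀ (n : ℕ) (F : (SimplexCategory.Truncated n)ᵒᵖ ⥤ FormalCoproduct.{u} (Over X)),
    (SimplexCategory.Truncated.inclusion n).op.HasRightKanExtension F]

/-- a cochain whose components are locally zero dies on a refinement -/
theorem exists_kill_of_locally_zero (K : SimplicialObject (FormalCoproduct.{u} (Over X)))
    (hK : Hyper.IsHypercovering J X K) (G : Cᵒᵖ ⥤ AddCommGrpCat.{u}) (p : ℕ)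
    (x : (Hyper.cechCx X K G).X p)
    (hx : ∀ i : (K.obj (op ⦋p⦌)).I,
      Presheaf.equalizerSieve (F := G) (HypRefE.comp X G (K.obj (op ⦋p⦌)) i x) 0 ∈
        J ((K.obj (op ⦋p⦌)).obj i).left) :
    ∃ (L : SimplicialObject (FormalCoproduct.{u} (Over X))) (f : L ⟶ K),
      Hyper.IsHypercovering J X L ∧ (Hyper.cechMap X f G).f p x = 0 := by
  let Kp := K.obj (op ⦋p⦌)
  let T : ∀ i : Kp.I, Sieve (Kp.obj i) := fun i =>
    { arrows := fun V g => G.map g.left.op (HypRefE.comp X G Kp i x) = 0
      downward_closed := by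
        intro V V' g hg k
        show G.map (k ≫ g).left.op _ = 0
        rw [Over.comp_left, op_comp, G.map_comp, ConcreteCategory.comp_apply, hg, map_zero] }
  have hT : ∀ i, T i ∈ (J.over X) (Kp.obj i) := by
    intro i
    rw [GrothendieckTopology.mem_over_iff]
    refine J.superset_covering ?_ (hx i)
    intro W k hk
    rw [Sieve.overEquiv_iff]
    show G.map k.op _ = 0
    exact hk.trans (map_zero _)
  let I' : Type u := Σ i : Kp.I, Σ V : Over X, {g : V ⟶ Kp.obj i // T i g}
  let Z : FormalCoproduct.{u} (Over X) := ⟨I', fun α => α.2.1⟩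
  let v : Z ⟶ Kp := ⟨fun α => α.1, fun α => α.2.2.1⟩
  have hv : IsSRCovering (J.over X) v := by
    apply SRCov.isSRCovering_of
    intro i
    refine ⟨T i, hT i, ?_⟩
    intro W k hk
    refine ⟨⟨i, W, k, hk⟩, rfl, 𝟙 W, ?_⟩
    simp [v]
  obtain ⟨L, f, g, hL, hg⟩ := HypRefC.exists_refinement J X K hK p Z v hv
  refine ⟨L, f, hL, ?_⟩
  rw [cechMap_f, ← hg, op_comp, Functor.map_comp, ConcreteCategory.comp_apply]
  have h0 : (EV X G).map v.op x = 0 := by
    apply EV_ext
    intro α
    rw [EV_map_comp_apply, map_zero]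
    exact α.2.2.2
  show (EV X G).map g.op ((EV X G).map v.op x) = 0
  rw [h0, map_zero]

/-- K1: a cochain killed by a locally injective map dies on a refinement -/
theorem exists_kill (K : SimplicialObject (FormalCoproduct.{u} (Over X)))
    (hK : Hyper.IsHypercovering J X K) {G G' : Cᵒᵖ ⥤ AddCommGrpCat.{u}} (φ : G ⟶ G')
    [Presheaf.IsLocallyInjective J φ] (p : ℕ)
    (x : (Hyper.cechCx X K G).X p) (hx : (pushCx X φ K).f p x = 0) :
    ∃ (L : SimplicialObject (FormalCoproduct.{u} (Over X))) (f : L ⟶ K),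
      Hyper.IsHypercovering J X L ∧ (Hyper.cechMap X f G).f p x = 0 := by
  refine exists_kill_of_locally_zero J X K hK G p x (fun i => ?_)
  refine Presheaf.equalizerSieve_mem J φ (X := op ((K.obj (op ⦋p⦌)).obj i).left)
    (HypRefE.comp X G (K.obj (op ⦋p⦌)) i x) 0 ?_
  rw [map_zero, ← pushEV_comp_apply]
  have : (pushEV X φ).app (op (K.obj (op ⦋p⦌))) x = 0 := hx
  rw [this, map_zero]

/-- K2: a cochain lifts along a locally surjective map on a refinement -/
theorem exists_lift (K : SimplicialObject (FormalCoproduct.{u} (Over X)))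
    (hK : Hyper.IsHypercovering J X K) {G G' : Cᵒᵖ ⥤ AddCommGrpCat.{u}} (φ : G ⟶ G')
    [Presheaf.IsLocallySurjective J φ] (p : ℕ) (y : (Hyper.cechCx X K G').X p) :
    ∃ (L : SimplicialObject (FormalCoproduct.{u} (Over X))) (f : L ⟶ K)
      (x : (Hyper.cechCx X L G).X p),
      Hyper.IsHypercovering J X L ∧ (pushCx X φ L).f p x = (Hyper.cechMap X f G').f p y := by
  let Kp := K.obj (op ⦋p⦌)
  let T : ∀ i : Kp.I, Sieve (Kp.obj i) := fun i =>
    { arrows := fun V g => ∃ t : G.obj (op V.left),
        φ.app _ t = G'.map g.left.op (HypRefE.comp X G' Kp i y)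
      downward_closed := by
        rintro V V' g ⟨t, ht⟩ k
        refine ⟨G.map k.left.op t, ?_⟩
        have := ConcreteCategory.congr_hom (φ.naturality k.left.op) t
        rw [ConcreteCategory.comp_apply, ConcreteCategory.comp_apply] at this
        rw [this, ht, Over.comp_left, op_comp, G'.map_comp, ConcreteCategory.comp_apply] }
  have hT : ∀ i, T i ∈ (J.over X) (Kp.obj i) := by
    intro i
    rw [GrothendieckTopology.mem_over_iff]
    refine J.superset_covering ?_
      (Presheaf.imageSieve_mem J φ (HypRefE.comp X G' Kp i y))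
    intro W k hk
    rw [Sieve.overEquiv_iff]
    obtain ⟨t, ht⟩ := hk
    exact ⟨t, ht⟩
  let I' : Type u := Σ i : Kp.I, Σ V : Over X, {g : V ⟶ Kp.obj i // T i g}
  let Z : FormalCoproduct.{u} (Over X) := ⟨I', fun α => α.2.1⟩
  let v : Z ⟶ Kp := ⟨fun α => α.1, fun α => α.2.2.1⟩
  have hv : IsSRCovering (J.over X) v := by
    apply SRCov.isSRCovering_of
    intro i
    refine ⟨T i, hT i, ?_⟩
    intro W k hk
    refine ⟨⟨i, W, k, hk⟩, rfl, 𝟙 W, ?_⟩
    simp [v]
  have ht : ∀ α : I', ∃ t : G.obj (op α.2.1.left),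
      φ.app _ t = G'.map α.2.2.1.left.op (HypRefE.comp X G' Kp α.1 y) := fun α => α.2.2.2
  choose t ht using ht
  obtain ⟨L, f, g, hL, hg⟩ := HypRefC.exists_refinement J X K hK p Z v hv
  have h0 : (pushEV X φ).app (op Z) (mkCochain X G Z t) = (EV X G').map v.op y := by
    apply EV_ext
    intro α
    rw [pushEV_comp_apply, comp_mkCochain, EV_map_comp_apply]
    exact ht α
  refine ⟨L, f, (EV X G).map g.op (mkCochain X G Z t), hL, ?_⟩
  rw [pushCx_f, cechMap_f, ← hg, op_comp, Functor.map_comp, ConcreteCategory.comp_apply]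
  show (pushEV X φ).app (op (L.obj (op ⦋p⦌))) ((EV X G).map g.op (mkCochain X G Z t)) =
    (EV X G').map g.op ((EV X G').map v.op y)
  rw [pushEV_naturality_apply, h0]

end Refine

end Groth.Agent.Helper9.HypDieA
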