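import Mathlib
import Groth.Prelude.Def_Hyper
import Groth.Prelude.Def_Hyper2
import Groth.Agent.Helper6.CechH0
import Groth.Agent.Helper9.HypDieA
import Groth.Agent.S0895

/-!
# Cochains of sheaves on hypercoverings: degree zero, left exactness, injective sheaves
-/

set_option autoImplicit false
set_option backward.isDefEq.respectTransparency false
set_option backward.isDefEq.respectTransparency.types false

open CategoryTheory Limits Opposite Simplicial Hyper

namespace Groth.Agent.Helper9.HypDieB

open Groth.Agent.Helper6 Groth.Agent.Helper9.HypRefE Groth.Agent.Helper9.HypDieA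

universe u

variable {C : Type u} [SmallCategory C] [HasPullbacks C] {J : GrothendieckTopology C} {X : C}

section LeftExact

variable (S : ShortComplex (Sheaf J AddCommGrpCat.{u})) (hS : S.ShortExact)

include hS in
lemma sections_injective (U : C) : Function.Injective (S.f.hom.app (op U)) := by
  haveI := hS.mono_f
  let Γ : Sheaf J AddCommGrpCat.{u} ⥤ AddCommGrpCat.{u} :=
    sheafToPresheaf J AddCommGrpCat.{u} ⋙ (evaluation Cᵒᵖ AddCommGrpCat.{u}).obj (op U)
  haveI : Mono (Γ.map S.f) := inferInstance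
  exact (AddCommGrpCat.mono_iff_injective (Γ.map S.f)).1 inferInstance

include hS in
lemma sections_exact (U : C) (w : S.X₂.obj.obj (op U)) (hw : S.g.hom.app (op U) w = 0) :
    ∃ x : S.X₁.obj.obj (op U), S.f.hom.app (op U) x = w := by
  haveI := hS.mono_f
  let Γ : Sheaf J AddCommGrpCat.{u} ⥤ AddCommGrpCat.{u} :=
    sheafToPresheaf J AddCommGrpCat.{u} ⋙ (evaluation Cᵒᵖ AddCommGrpCat.{u}).obj (op U)
  haveI : Γ.PreservesZeroMorphisms := inferInstance
  have hex : (S.map Γ).Exact :=
    hS.exact.map_of_mono_of_preservesKernel Γ inferInstance inferInstance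
  exact (ShortComplex.ab_exact_iff _).1 hex w hw

variable (K : SimplicialObject (FormalCoproduct.{u} (Over X)))

include hS in
lemma push_f_injective (p : ℕ) : Function.Injective ((pushCx X S.f.hom K).f p) := by
  intro x x' h
  apply EV_ext
  intro i
  apply sections_injective S hS
  have h' : (pushEV X S.f.hom).app (op (K.obj (op ⦋p⦌))) x =
      (pushEV X S.f.hom).app (op (K.obj (op ⦋p⦌))) x' := h
  rw [← pushEV_comp_apply, ← pushEV_comp_apply, h']

include hS in
lemma exists_push_f_eq (p : ℕ) (w : (Hyper.cechCx X K S.X₂.obj).X p)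
    (hw : (pushCx X S.g.hom K).f p w = 0) :
    ∃ x : (Hyper.cechCx X K S.X₁.obj).X p, (pushCx X S.f.hom K).f p x = w := by
  have hw' : (pushEV X S.g.hom).app (op (K.obj (op ⦋p⦌))) w = 0 := hw
  have h : ∀ i : (K.obj (op ⦋p⦌)).I, ∃ x : S.X₁.obj.obj (op ((K.obj (op ⦋p⦌)).obj i).left),
      S.f.hom.app _ x = HypRefE.comp X S.X₂.obj (K.obj (op ⦋p⦌)) i w := by
    intro i
    apply sections_exact S hS
    rw [← pushEV_comp_apply, hw', map_zero]
  choose x hx using h
  refine ⟨mkCochain X S.X₁.obj (K.obj (op ⦋p⦌)) x, ?_⟩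
  apply EV_ext
  intro i
  show HypRefE.comp X S.X₂.obj _ i ((pushEV X S.f.hom).app (op (K.obj (op ⦋p⦌))) _) = _
  rw [pushEV_comp_apply, comp_mkCochain, hx]

end LeftExact

section Acyclic

variable [∀ (n : ℕ) (F : (SimplexCategory.Truncated n)ᵒᵖ ⥤ FormalCoproduct.{u} (Over X)),
    (SimplexCategory.Truncated.inclusion n).op.HasRightKanExtension F]

lemma exists_d_eq_of_injective (K : SimplicialObject (FormalCoproduct.{u} (Over X)))
    (hK : Hyper.IsHypercovering J X K) (I : Sheaf J AddCommGrpCat.{u}) [Injective I] (p : ℕ)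
    (w : (Hyper.cechCx X K I.obj).X (p + 1))
    (hw : (Hyper.cechCx X K I.obj).d (p + 1) (p + 2) w = 0) :
    ∃ r : (Hyper.cechCx X K I.obj).X p, (Hyper.cechCx X K I.obj).d p (p + 1) r = w := by
  have h0 : IsZero ((Hyper.cechCx X K I.obj).homology (p + 1)) :=
    Groth.Agent.S0895.result J X K hK I p
  have h1 : (Hyper.cechCx X K I.obj).ExactAt (p + 1) :=
    (HomologicalComplex.exactAt_iff_isZero_homology _ _).2 h0
  have h2 := (HomologicalComplex.exactAt_iff' (Hyper.cechCx X K I.obj) p (p + 1) (p + 2)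
    (by simp) (by simp)).1 h1
  exact (ShortComplex.ab_exact_iff _).1 h2 w hw

end Acyclic

end Groth.Agent.Helper9.HypDieB
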