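import Mathlib
import Groth.Prelude.Def_CohSite
import Groth.Agent.Helper1.SiteCoh

/-!
# Dimension shifting for the cohomology of an object of a site
-/

set_option autoImplicit false

open CategoryTheory Limits Opposite Abelian

namespace Groth.Agent.Helper9.HypDieC

open Groth.Agent.Helper1.SiteCoh

universe u

variable {C : Type u} [SmallCategory C] {J : GrothendieckTopology C}

lemma subsingleton_zero_iff (F : Sheaf J AddCommGrpCat.{u}) (X : C) :
    Subsingleton (CohSite.HU F 0 X) ↔ Subsingleton (F.obj.obj (op X)) := by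
  show Subsingleton (Ext.{u} (freeY J X) F 0) ↔ _
  exact (Ext.addEquiv₀.trans (homAddEquiv X F)).toEquiv.subsingleton_congr

variable (S : ShortComplex (Sheaf J AddCommGrpCat.{u})) (hS : S.ShortExact) [Injective S.X₂]

include hS in
lemma subsingleton_succ_succ_iff (q : ℕ) (X : C) :
    Subsingleton (CohSite.HU S.X₁ (q + 2) X) ↔ Subsingleton (CohSite.HU S.X₃ (q + 1) X) := by
  show Subsingleton (Ext.{u} (freeY J X) S.X₁ (q + 2)) ↔
    Subsingleton (Ext.{u} (freeY J X) S.X₃ (q + 1))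
  constructor
  · intro h
    refine subsingleton_of_forall_eq 0 (fun x₃ => ?_)
    obtain ⟨x₂, rfl⟩ := Ext.covariant_sequence_exact₃ (freeY J X) hS x₃ (n₁ := q + 2) rfl
      (Subsingleton.elim _ _)
    rw [Ext.eq_zero_of_injective x₂, Ext.zero_comp]
  · intro h
    refine subsingleton_of_forall_eq 0 (fun x₁ => ?_)
    obtain ⟨x₃, rfl⟩ := Ext.covariant_sequence_exact₁ (freeY J X) hS x₁
      (Ext.eq_zero_of_injective _) (n₀ := q + 1) rfl
    rw [Subsingleton.elim x₃ 0, Ext.zero_comp]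

include hS in
lemma subsingleton_one_iff (X : C) :
    Subsingleton (CohSite.HU S.X₁ 1 X) ↔ Function.Surjective (S.g.hom.app (op X)) := by
  show Subsingleton (Ext.{u} (freeY J X) S.X₁ 1) ↔ _
  constructor
  · intro h s
    obtain ⟨x₂, hx₂⟩ := Ext.covariant_sequence_exact₃ (freeY J X) hS
      (Ext.mk₀ ((homEquiv X S.X₃).symm s)) (n₁ := 1) rfl (Subsingleton.elim _ _)
    obtain ⟨ψ, rfl⟩ := (Ext.mk₀_bijective _ _).2 x₂
    refine ⟨homEquiv X S.X₂ ψ, ?_⟩
    rw [← homEquiv_comp]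
    rw [Ext.mk₀_comp_mk₀] at hx₂
    rw [(Ext.mk₀_bijective _ _).1 hx₂, Equiv.apply_symm_apply]
  · intro h
    refine subsingleton_of_forall_eq 0 (fun x₁ => ?_)
    obtain ⟨x₃, rfl⟩ := Ext.covariant_sequence_exact₁ (freeY J X) hS x₁
      (Ext.eq_zero_of_injective _) (n₀ := 0) rfl
    obtain ⟨ψ, rfl⟩ := (Ext.mk₀_bijective _ _).2 x₃
    obtain ⟨t, ht⟩ := h (homEquiv X S.X₃ ψ)
    have e : ψ = (homEquiv X S.X₂).symm t ≫ S.g := by
      apply (homEquiv X S.X₃).injective
      rw [homEquiv_comp, Equiv.apply_symm_apply, ht]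
    rw [e, ← Ext.mk₀_comp_mk₀, Ext.comp_assoc_of_second_deg_zero,
      ShortComplex.ShortExact.comp_extClass, Ext.comp_zero]

end Groth.Agent.Helper9.HypDieC
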