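import Mathlib
import Groth.Prelude.Def_Hyper
import Groth.Prelude.Def_Hyper2
import Groth.Agent.Helper6.CechH0
import Groth.Agent.Helper9.HypDieA

/-!
# Degree zero cochains of a sheaf on a hypercovering: the augmentation from sections over `X`
-/

set_option autoImplicit false
set_option backward.isDefEq.respectTransparency false
set_option backward.isDefEq.respectTransparency.types false

open CategoryTheory Limits Opposite Simplicial Hyper

namespace Groth.Agent.Helper9.HypDieR

open Groth.Agent.Helper6 Groth.Agent.Helper6.CechH0 Groth.Agent.Helper9.HypRefE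
  Groth.Agent.Helper9.HypDieA

universe u

variable {C : Type u} [SmallCategory C] [HasPullbacks C] {J : GrothendieckTopology C} {X : C}
  (K : SimplicialObject (FormalCoproduct.{u} (Over X))) (F : Sheaf J AddCommGrpCat.{u})

lemma comp_ρ (y : F.obj.obj (op X)) (i : (K.obj (op ⦋0⦌)).I) :
    HypRefE.comp X F.obj (K.obj (op ⦋0⦌)) i (ρ K F y) =
      F.obj.map ((K.obj (op ⦋0⦌)).obj i).hom.op y :=
  π_ρ K F y i

/-- naturality of the augmentation in the sheaf -/
lemma push_ρ {F F' : Sheaf J AddCommGrpCat.{u}} (φ : F ⟶ F') (y : F.obj.obj (op X)) :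
    (pushCx X φ.hom K).f 0 (ρ K F y) = ρ K F' (φ.hom.app (op X) y) := by
  apply EV_ext
  intro i
  show HypRefE.comp X F'.obj _ i ((pushEV X φ.hom).app (op (K.obj (op ⦋0⦌))) _) = _
  rw [pushEV_comp_apply, comp_ρ, comp_ρ]
  have := ConcreteCategory.congr_hom
    (φ.hom.naturality ((K.obj (op ⦋0⦌)).obj i).hom.op) y
  rw [ConcreteCategory.comp_apply, ConcreteCategory.comp_apply] at this
  exact this

/-- naturality of the augmentation in the simplicial object -/
lemma cechMap_ρ {L : SimplicialObject (FormalCoproduct.{u} (Over X))} (f : L ⟶ K)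
    (y : F.obj.obj (op X)) :
    (Hyper.cechMap X f F.obj).f 0 (ρ K F y) = ρ L F y := by
  rw [cechMap_f]
  apply EV_ext
  intro l
  have h1 := EV_map_comp_apply X F.obj (f.app (op ⦋0⦌)) l (ρ K F y)
  refine h1.trans ?_
  rw [comp_ρ, comp_ρ, ← ConcreteCategory.comp_apply, ← F.obj.map_comp,
    ← op_comp, Over.w]

variable [∀ (n : ℕ) (F' : (SimplexCategory.Truncated n)ᵒᵖ ⥤ FormalCoproduct.{u} (Over X)),
      (SimplexCategory.Truncated.inclusion n).op.HasRightKanExtension F']

include K in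
lemma glue (hK : IsHypercovering J X K) (xx : ∀ i, G0 K F i)
    (hxx : ∀ j, F.obj.map ((K.δ (0 : Fin 2)).φ j).left.op (xx ((K.δ (0 : Fin 2)).f j)) =
        F.obj.map ((K.δ (1 : Fin 2)).φ j).left.op (xx ((K.δ (1 : Fin 2)).f j))) :
    ∃! y : F.obj.obj (op X),
        ∀ i, F.obj.map ((K.obj (op (SimplexCategory.mk 0))).obj i).hom.op y = xx i := by
  classical
  let P : Cᵒᵖ ⥤ Type u := F.obj ⋙ forget AddCommGrpCat.{u}
  have hP : Presieve.IsSheaf J P :=
    (isSheaf_iff_isSheaf_of_type J P).1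
      ((Presheaf.isSheaf_iff_isSheaf_forget J F.obj (forget _)).1 F.property)
  have h1 : Presieve.IsSheafFor P
      (Presieve.ofArrows (fun i => ((K.obj (op (SimplexCategory.mk 0))).obj i).left)
        (fun i => ((K.obj (op (SimplexCategory.mk 0))).obj i).hom)) := by
    rw [Presieve.isSheafFor_iff_generate]
    exact hP _ hK.1
  exact ((Presieve.isSheafFor_arrows_iff P _).1 h1) xx
    (fun i i' Z a a' h => key J X K (hK.2 0) P hP.isSeparated xx hxx i i' a a' h)

lemma ρ_d (y : F.obj.obj (op X)) : (cechCx X K F.obj).d 0 1 (ρ K F y) = 0 := by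
  rw [d_eq]
  apply Concrete.limit_ext
  rintro ⟨j⟩
  show Pi.π (G1 K F) j ((face K F 0 - face K F 1) (ρ K F y)) = Pi.π (G1 K F) j 0
  rw [map_zero]
  show Pi.π (G1 K F) j (face K F 0 (ρ K F y) - face K F 1 (ρ K F y)) = 0
  rw [map_sub, π_face, π_face, π_ρ, π_ρ, compat, compat, sub_self]

lemma ρ_injective (hK : IsHypercovering J X K) : Function.Injective (ρ K F) := by
  intro y y' hy
  obtain ⟨t, _, huniq⟩ := glue K F hK
    (fun i => F.obj.map ((K.obj (op (SimplexCategory.mk 0))).obj i).hom.op y)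
    (by intro j; rw [compat, compat])
  rw [huniq y (fun i => rfl)]
  refine (huniq y' (fun i => ?_)).symm
  rw [← π_ρ, ← π_ρ]
  exact congrArg (Pi.π (G0 K F) i) hy.symm

lemma exists_ρ_eq (hK : IsHypercovering J X K) (x : (cechCx X K F.obj).X 0)
    (hx : (cechCx X K F.obj).d 0 1 x = 0) : ∃ y : F.obj.obj (op X), ρ K F y = x := by
  have hx' : ∀ j, F.obj.map ((K.δ (0 : Fin 2)).φ j).left.op
        (Pi.π (G0 K F) ((K.δ (0 : Fin 2)).f j) x) =
      F.obj.map ((K.δ (1 : Fin 2)).φ j).left.op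
        (Pi.π (G0 K F) ((K.δ (1 : Fin 2)).f j) x) := by
    intro j
    have h2 : Pi.π (G1 K F) j ((face K F 0 - face K F 1) x) = Pi.π (G1 K F) j 0 := by
      rw [← d_eq]
      exact congrArg (Pi.π (G1 K F) j) hx
    rw [map_zero] at h2
    have h3 : Pi.π (G1 K F) j (face K F 0 x - face K F 1 x) = 0 := h2
    rw [map_sub, π_face, π_face] at h3
    exact sub_eq_zero.1 h3
  obtain ⟨y, hy, _⟩ := glue K F hK (fun i => Pi.π (G0 K F) i x) hx'
  refine ⟨y, ?_⟩
  apply Concrete.limit_ext
  rintro ⟨i⟩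
  show Pi.π (G0 K F) i (ρ K F y) = Pi.π (G0 K F) i x
  rw [π_ρ]
  exact hy i

end Groth.Agent.Helper9.HypDieR
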