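import Mathlib
import Groth.Prelude.Def_Hyper
import Groth.Prelude.Def_Hyper2
import Groth.Agent.Helper9.HypDieB
import Groth.Agent.Helper9.HypDieR

/-!
# Cech classes dying on refinements: cochain form versus class form; formal properties
-/

set_option autoImplicit false
set_option backward.isDefEq.respectTransparency false
set_option backward.isDefEq.respectTransparency.types false

open CategoryTheory Limits Opposite Simplicial Hyper

namespace Groth.Agent.Helper9.HypDieD

open Groth.Agent.Helper6 Groth.Agent.Helper9.HypRefE Groth.Agent.Helper9.HypDieA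

universe u

section Complexes

variable {ι : Type*} {c : ComplexShape ι} {A B : HomologicalComplex AddCommGrpCat.{u} c}
  (φ : A ⟶ B)

lemma hom_d_apply (i j : ι) (x : A.X i) : φ.f j (A.d i j x) = B.d i j (φ.f i x) := by
  have := ConcreteCategory.congr_hom (φ.comm i j) x
  rw [ConcreteCategory.comp_apply, ConcreteCategory.comp_apply] at this
  exact this.symm

lemma d_d_apply (i j k : ι) (x : A.X i) : A.d j k (A.d i j x) = 0 := by
  have := ConcreteCategory.congr_hom (A.d_comp_d i j k) x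
  rwa [ConcreteCategory.comp_apply] at this

lemma exists_cycle (q q' : ι) (hq : c.next q = q') (x : A.X q) (hx : A.d q q' x = 0) :
    ∃ z : A.cycles q, A.iCycles q z = x := by
  have hex : (ShortComplex.mk (A.iCycles q) (A.d q q') (A.iCycles_d q q')).Exact :=
    ShortComplex.exact_of_f_is_kernel _ (A.cyclesIsKernel q q' hq)
  exact (ShortComplex.ab_exact_iff _).1 hex x hx

lemma iCycles_d_apply (q q' : ι) (z : A.cycles q) : A.d q q' (A.iCycles q z) = 0 := by
  have := ConcreteCategory.congr_hom (A.iCycles_d q q') z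
  rwa [ConcreteCategory.comp_apply] at this

lemma homologyMap_π_eq_zero_iff (i q : ι) (hi : c.prev q = i) (z : A.cycles q) :
    HomologicalComplex.homologyMap φ q (A.homologyπ q z) = 0 ↔
      ∃ r : B.X i, B.d i q r = φ.f q (A.iCycles q z) := by
  have h1 := ConcreteCategory.congr_hom (HomologicalComplex.homologyπ_naturality φ q) z
  rw [ConcreteCategory.comp_apply, ConcreteCategory.comp_apply] at h1
  rw [h1]
  have hex : (ShortComplex.mk (B.toCycles i q) (B.homologyπ q)
      (B.toCycles_comp_homologyπ i q)).Exact :=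
    ShortComplex.exact_of_g_is_cokernel _ (B.homologyIsCokernel i q hi)
  have hinj : Function.Injective (B.iCycles q) :=
    (AddCommGrpCat.mono_iff_injective _).1 inferInstance
  have h2 := ConcreteCategory.congr_hom (HomologicalComplex.cyclesMap_i φ q) z
  rw [ConcreteCategory.comp_apply, ConcreteCategory.comp_apply] at h2
  constructor
  · intro h
    obtain ⟨r, hr⟩ := (ShortComplex.ab_exact_iff _).1 hex _ h
    refine ⟨r, ?_⟩
    rw [← h2]
    have h3 := ConcreteCategory.congr_hom (B.toCycles_i i q) r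
    rw [ConcreteCategory.comp_apply] at h3
    rw [← h3]
    exact congrArg _ hr
  · rintro ⟨r, hr⟩
    have h3 := ConcreteCategory.congr_hom (B.toCycles_i i q) r
    rw [ConcreteCategory.comp_apply] at h3
    have h4 : B.toCycles i q r = HomologicalComplex.cyclesMap φ q z :=
      hinj (h3.trans (hr.trans h2.symm))
    rw [← h4]
    have h5 := ConcreteCategory.congr_hom (B.toCycles_comp_homologyπ i q) r
    rwa [ConcreteCategory.comp_apply] at h5

end Complexes

variable {C : Type u} [SmallCategory C] [HasPullbacks C] (J : GrothendieckTopology C) (X : C)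
  [∀ (n : ℕ) (F : (SimplexCategory.Truncated n)ᵒᵖ ⥤ FormalCoproduct.{u} (Over X)),
    (SimplexCategory.Truncated.inclusion n).op.HasRightKanExtension F]

/-- cochain form: every `q`-cocycle becomes a coboundary from degree `i` on a refinement -/
def DiesAt (G : Cᵒᵖ ⥤ AddCommGrpCat.{u}) (i q : ℕ) : Prop :=
  ∀ (K : SimplicialObject (FormalCoproduct.{u} (Over X))), Hyper.IsHypercovering J X K →
    ∀ x : (Hyper.cechCx X K G).X q, (Hyper.cechCx X K G).d q (q + 1) x = 0 →
      ∃ (L : SimplicialObject (FormalCoproduct.{u} (Over X))) (f : L ⟶ K),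
        Hyper.IsHypercovering J X L ∧
        ∃ r : (Hyper.cechCx X L G).X i,
          (Hyper.cechCx X L G).d i q r = (Hyper.cechMap X f G).f q x

/-- class form -/
def DiesH (G : Cᵒᵖ ⥤ AddCommGrpCat.{u}) (q : ℕ) : Prop :=
  ∀ (K : SimplicialObject (FormalCoproduct.{u} (Over X))), Hyper.IsHypercovering J X K →
    ∀ ξ : Hyper.cechH X K G q,
      ∃ (L : SimplicialObject (FormalCoproduct.{u} (Over X))) (f : L ⟶ K),
        Hyper.IsHypercovering J X L ∧ Hyper.cechHMap X f G q ξ = 0

lemma diesH_iff_diesAt (G : Cᵒᵖ ⥤ AddCommGrpCat.{u}) (i q : ℕ)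
    (hi : (ComplexShape.up ℕ).prev q = i) : DiesH J X G q ↔ DiesAt J X G i q := by
  constructor
  · intro h K hK x hx
    obtain ⟨z, rfl⟩ := exists_cycle q (q + 1) (by simp) x hx
    obtain ⟨L, f, hL, hf⟩ := h K hK ((Hyper.cechCx X K G).homologyπ q z)
    exact ⟨L, f, hL, (homologyMap_π_eq_zero_iff (Hyper.cechMap X f G) i q hi z).1 hf⟩
  · intro h K hK ξ
    have hsurj : Function.Surjective ((Hyper.cechCx X K G).homologyπ q) :=
      (AddCommGrpCat.epi_iff_surjective _).1 inferInstance
    obtain ⟨z, rfl⟩ := hsurj ξ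
    obtain ⟨L, f, hL, hr⟩ := h K hK _ (iCycles_d_apply q (q + 1) z)
    exact ⟨L, f, hL, (homologyMap_π_eq_zero_iff (Hyper.cechMap X f G) i q hi z).2 hr⟩

section Formal

variable {X}
variable {K L M : SimplicialObject (FormalCoproduct.{u} (Over X))}

lemma cechMap_id_apply (G : Cᵒᵖ ⥤ AddCommGrpCat.{u}) (p : ℕ) (x : (Hyper.cechCx X K G).X p) :
    (Hyper.cechMap X (𝟙 K) G).f p x = x := by
  rw [cechMap_f]
  have : (EV X G).map ((𝟙 K : K ⟶ K).app (op ⦋p⦌)).op = 𝟙 _ := by
    rw [NatTrans.id_app, op_id, CategoryTheory.Functor.map_id]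
  rw [this]
  rfl

lemma cechMap_comp_apply (G : Cᵒᵖ ⥤ AddCommGrpCat.{u}) (f : L ⟶ K) (f' : M ⟶ L) (p : ℕ)
    (x : (Hyper.cechCx X K G).X p) :
    (Hyper.cechMap X (f' ≫ f) G).f p x =
      (Hyper.cechMap X f' G).f p ((Hyper.cechMap X f G).f p x) := by
  rw [cechMap_f, cechMap_f, cechMap_f]
  have : (EV X G).map ((f' ≫ f).app (op ⦋p⦌)).op =
      (EV X G).map (f.app (op ⦋p⦌)).op ≫ (EV X G).map (f'.app (op ⦋p⦌)).op := by
    rw [NatTrans.comp_app, op_comp, Functor.map_comp]
  rw [this]
  rfl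

lemma push_cechMap_apply {G G' : Cᵒᵖ ⥤ AddCommGrpCat.{u}} (φ : G ⟶ G') (f : L ⟶ K) (p : ℕ)
    (x : (Hyper.cechCx X K G).X p) :
    (pushCx X φ L).f p ((Hyper.cechMap X f G).f p x) =
      (Hyper.cechMap X f G').f p ((pushCx X φ K).f p x) := by
  rw [pushCx_f, pushCx_f, cechMap_f, cechMap_f]
  exact pushEV_naturality_apply X φ (f.app (op ⦋p⦌)) x

lemma push_comp_eq_zero {G G' G'' : Cᵒᵖ ⥤ AddCommGrpCat.{u}} (φ : G ⟶ G') (ψ : G' ⟶ G'')
    (h : φ ≫ ψ = 0) (p : ℕ) (x : (Hyper.cechCx X K G).X p) :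
    (pushCx X ψ K).f p ((pushCx X φ K).f p x) = 0 := by
  apply EV_ext
  intro i
  show HypRefE.comp X G'' _ i ((pushEV X ψ).app (op (K.obj (op ⦋p⦌)))
    ((pushEV X φ).app (op (K.obj (op ⦋p⦌))) x)) = HypRefE.comp X G'' _ i 0
  rw [pushEV_comp_apply, pushEV_comp_apply, map_zero, ← ConcreteCategory.comp_apply,
    ← NatTrans.comp_app, h]
  rfl

end Formal

end Groth.Agent.Helper9.HypDieD
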