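import Mathlib
import Groth.Prelude.Def_Hyper
import Groth.Prelude.Def_Hyper2
import Groth.Agent.Helper1.DeltaFunctor
import Groth.Agent.Helper9.HypDieC
import Groth.Agent.Helper9.HypDieD

/-!
# `H^q(X, F) = 0` iff Cech classes over hypercoverings die on refinements
-/

set_option autoImplicit false
set_option backward.isDefEq.respectTransparency false
set_option backward.isDefEq.respectTransparency.types false

open CategoryTheory Limits Opposite Simplicial Hyper

namespace Groth.Agent.Helper9.HypDieE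

open Groth.Agent.Helper6 Groth.Agent.Helper6.CechH0 Groth.Agent.Helper9.HypRefE
  Groth.Agent.Helper9.HypDieA Groth.Agent.Helper9.HypDieB Groth.Agent.Helper9.HypDieR
  Groth.Agent.Helper9.HypDieC Groth.Agent.Helper9.HypDieD

universe u

variable {C : Type u} [SmallCategory C] [HasPullbacks C] (J : GrothendieckTopology C) (X : C)
  [∀ (n : ℕ) (F : (SimplexCategory.Truncated n)ᵒᵖ ⥤ FormalCoproduct.{u} (Over X)),
    (SimplexCategory.Truncated.inclusion n).op.HasRightKanExtension F]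

section Step

variable (S : ShortComplex (Sheaf J AddCommGrpCat.{u})) (hS : S.ShortExact) [Injective S.X₂]

include hS

lemma hab : S.f.hom ≫ S.g.hom = 0 := congrArg (fun t => t.hom) S.zero

lemma locSurj : Presheaf.IsLocallySurjective J S.g.hom :=
  haveI := hS.epi_g
  (Sheaf.isLocallySurjective_iff_epi' (φ := S.g)).2 inferInstance

theorem stepA (q : ℕ) (hQ : DiesAt J X S.X₃.obj q (q + 1)) :
    DiesAt J X S.X₁.obj (q + 1) (q + 2) := by
  haveI := locSurj J S hS
  intro K hK x hx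
  have h1 : (Hyper.cechCx X K S.X₂.obj).d (q + 2) (q + 3)
      ((pushCx X S.f.hom K).f (q + 2) x) = 0 := by
    rw [← hom_d_apply, hx, map_zero]
  obtain ⟨w, hw⟩ := exists_d_eq_of_injective K hK S.X₂ (q + 1) _ h1
  have h2 : (Hyper.cechCx X K S.X₃.obj).d (q + 1) (q + 2)
      ((pushCx X S.g.hom K).f (q + 1) w) = 0 := by
    rw [← hom_d_apply, hw]
    exact push_comp_eq_zero _ _ (hab J S hS) _ x
  obtain ⟨L, f, hL, r, hr⟩ := hQ K hK _ h2
  obtain ⟨L', f', r', hL', hr'⟩ := exists_lift J X L hL S.g.hom q r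
  have h3 : (pushCx X S.g.hom L').f (q + 1)
      ((Hyper.cechMap X f' S.X₂.obj).f (q + 1) ((Hyper.cechMap X f S.X₂.obj).f (q + 1) w) -
        (Hyper.cechCx X L' S.X₂.obj).d q (q + 1) r') = 0 := by
    rw [map_sub, push_cechMap_apply, push_cechMap_apply, hom_d_apply (pushCx X S.g.hom L'), hr',
      ← hom_d_apply (Hyper.cechMap X f' S.X₃.obj), hr, sub_self]
  obtain ⟨x₀, hx₀⟩ := exists_push_f_eq S hS L' (q + 1) _ h3
  refine ⟨L', f' ≫ f, hL', x₀, ?_⟩
  apply push_f_injective S hS L' (q + 2)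
  rw [hom_d_apply, hx₀, map_sub, d_d_apply, sub_zero, ← hom_d_apply, ← hom_d_apply, hw,
    cechMap_comp_apply, push_cechMap_apply, push_cechMap_apply]

theorem stepB (q : ℕ) (hF : DiesAt J X S.X₁.obj (q + 1) (q + 2)) :
    DiesAt J X S.X₃.obj q (q + 1) := by
  haveI := locSurj J S hS
  intro K hK y hy
  obtain ⟨L, f, w, hL, hw⟩ := exists_lift J X K hK S.g.hom (q + 1) y
  have h1 : (pushCx X S.g.hom L).f (q + 2)
      ((Hyper.cechCx X L S.X₂.obj).d (q + 1) (q + 2) w) = 0 := by
    rw [hom_d_apply, hw, ← hom_d_apply, hy, map_zero]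
  obtain ⟨x, hx⟩ := exists_push_f_eq S hS L (q + 2) _ h1
  have h2 : (Hyper.cechCx X L S.X₁.obj).d (q + 2) (q + 3) x = 0 := by
    apply push_f_injective S hS L (q + 3)
    rw [hom_d_apply, hx, d_d_apply, map_zero]
  obtain ⟨L', f', hL', r, hr⟩ := hF L hL x h2
  have h3 : (Hyper.cechCx X L' S.X₂.obj).d (q + 1) (q + 2)
      ((Hyper.cechMap X f' S.X₂.obj).f (q + 1) w - (pushCx X S.f.hom L').f (q + 1) r) = 0 := by
    rw [map_sub, ← hom_d_apply (Hyper.cechMap X f' S.X₂.obj), ← hx, ← push_cechMap_apply,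
      ← hom_d_apply (pushCx X S.f.hom L'), hr, sub_self]
  obtain ⟨r', hr'⟩ := exists_d_eq_of_injective L' hL' S.X₂ q _ h3
  refine ⟨L', f' ≫ f, hL', (pushCx X S.g.hom L').f q r', ?_⟩
  rw [← hom_d_apply, hr', map_sub, push_comp_eq_zero _ _ (hab J S hS), sub_zero,
    push_cechMap_apply, hw, cechMap_comp_apply]

end Step

section Const

open Groth.Agent.Helper9.CoskHtpyA Groth.Agent.Helper9.HypRefC

/-- the terminal formal coproduct over `X` -/
noncomputable abbrev T₀ : FormalCoproduct.{u} (Over X) :=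
  (FormalCoproduct.incl (Over X)).obj (Over.mk (𝟙 X))

/-- it is terminal -/
noncomputable def isTerminalT₀ : IsTerminal (T₀ X) :=
  FormalCoproduct.isTerminalIncl _ Over.mkIdTerminal

/-- the constant simplicial object -/
noncomputable abbrev K₀ : SimplicialObject (FormalCoproduct.{u} (Over X)) :=
  (Functor.const SimplexCategoryᵒᵖ).obj (T₀ X)

/-- the map to the constant simplicial object -/
noncomputable def toK₀ (Y : SimplicialObject (FormalCoproduct.{u} (Over X))) : Y ⟶ K₀ X where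
  app m := (isTerminalT₀ X).from (Y.obj m)
  naturality _ _ _ := (isTerminalT₀ X).hom_ext _ _

lemma toK₀_ext {Y : SimplicialObject (FormalCoproduct.{u} (Over X))} (a b : Y ⟶ K₀ X) : a = b := by
  apply NatTrans.ext
  funext m
  exact (isTerminalT₀ X).hom_ext (a.app m) (b.app m)

lemma isIso_unit_K₀ (n : ℕ) : IsIso ((SimplicialObject.coskAdj n).unit.app (K₀ X)) := by
  refine ⟨toK₀ X _, toK₀_ext X _ _, ?_⟩
  apply NatTrans.ext
  funext d
  obtain ⟨m⟩ := d
  refine CoskHtpyA.hom_ext (n := n) (K₀ X) _ _ (fun j hj φ => ?_)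
  exact (isTerminalT₀ X).hom_ext _ _

theorem isHypercovering_K₀ : Hyper.IsHypercovering J X (K₀ X) := by
  constructor
  · refine J.superset_covering ?_ (J.top_mem X)
    intro Y g _
    exact (Sieve.mem_ofArrows_iff _ _ _).2 ⟨PUnit.unit, g, (Category.comp_id g).symm⟩
  · intro n
    haveI := isIso_unit_K₀ X n
    haveI : IsIso (((SimplicialObject.coskAdj n).unit.app (K₀ X)).app (op ⦋n + 1⦌)) :=
      inferInstance
    exact SRCov.isSRCovering_of_isIso _ _

end Const

section Base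

variable (F : Sheaf J AddCommGrpCat.{u})

theorem base0 : Subsingleton (CohSite.HU F 0 X) ↔ DiesAt J X F.obj 0 0 := by
  rw [subsingleton_zero_iff]
  constructor
  · intro h K hK x hx
    obtain ⟨y, rfl⟩ := exists_ρ_eq K F hK x hx
    refine ⟨K, 𝟙 K, hK, 0, ?_⟩
    rw [Subsingleton.elim y 0, map_zero, map_zero, map_zero]
  · intro h
    refine subsingleton_of_forall_eq 0 (fun y => ?_)
    obtain ⟨L, f, hL, r, hr⟩ := h (K₀ X) (isHypercovering_K₀ J X) (ρ (K₀ X) F y)
      (ρ_d (K₀ X) F y)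
    rw [cechMap_ρ] at hr
    have h0 : (Hyper.cechCx X L F.obj).d 0 0 = 0 :=
      (Hyper.cechCx X L F.obj).shape 0 0 (by simp)
    rw [h0] at hr
    apply ρ_injective L F hL
    rw [map_zero]
    exact hr.symm

variable (S : ShortComplex (Sheaf J AddCommGrpCat.{u})) (hS : S.ShortExact) [Injective S.X₂]

include hS in
theorem base1 : Subsingleton (CohSite.HU S.X₁ 1 X) ↔ DiesAt J X S.X₁.obj 0 1 := by
  haveI := locSurj J S hS
  rw [subsingleton_one_iff S hS X]
  constructor
  · intro hsurj K hK x hx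
    have h1 : (Hyper.cechCx X K S.X₂.obj).d 1 2 ((pushCx X S.f.hom K).f 1 x) = 0 := by
      rw [← hom_d_apply, hx, map_zero]
    obtain ⟨w, hw⟩ := exists_d_eq_of_injective K hK S.X₂ 0 _ h1
    have h2 : (Hyper.cechCx X K S.X₃.obj).d 0 1 ((pushCx X S.g.hom K).f 0 w) = 0 := by
      rw [← hom_d_apply, hw]
      exact push_comp_eq_zero _ _ (hab J S hS) _ x
    obtain ⟨s, hs⟩ := exists_ρ_eq K S.X₃ hK _ h2
    obtain ⟨t, rfl⟩ := hsurj s
    have h3 : (pushCx X S.g.hom K).f 0 (w - ρ K S.X₂ t) = 0 := by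
      rw [map_sub, push_ρ, hs, sub_self]
    obtain ⟨x₀, hx₀⟩ := exists_push_f_eq S hS K 0 _ h3
    refine ⟨K, 𝟙 K, hK, x₀, ?_⟩
    rw [cechMap_id_apply]
    apply push_f_injective S hS K 1
    rw [hom_d_apply, hx₀, map_sub, ρ_d, sub_zero, hw]
  · intro h s
    obtain ⟨L, f, w, hL, hw⟩ := exists_lift J X (K₀ X) (isHypercovering_K₀ J X) S.g.hom 0
      (ρ (K₀ X) S.X₃ s)
    rw [cechMap_ρ] at hw
    have h1 : (pushCx X S.g.hom L).f 1 ((Hyper.cechCx X L S.X₂.obj).d 0 1 w) = 0 := by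
      rw [hom_d_apply, hw, ρ_d]
    obtain ⟨x, hx⟩ := exists_push_f_eq S hS L 1 _ h1
    have h2 : (Hyper.cechCx X L S.X₁.obj).d 1 2 x = 0 := by
      apply push_f_injective S hS L 2
      rw [hom_d_apply, hx, d_d_apply, map_zero]
    obtain ⟨L', f', hL', r, hr⟩ := h L hL x h2
    have h3 : (Hyper.cechCx X L' S.X₂.obj).d 0 1
        ((Hyper.cechMap X f' S.X₂.obj).f 0 w - (pushCx X S.f.hom L').f 0 r) = 0 := by
      rw [map_sub, ← hom_d_apply (Hyper.cechMap X f' S.X₂.obj), ← hx, ← push_cechMap_apply,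
        ← hom_d_apply (pushCx X S.f.hom L'), hr, sub_self]
    obtain ⟨t, ht⟩ := exists_ρ_eq L' S.X₂ hL' _ h3
    refine ⟨t, ?_⟩
    apply ρ_injective L' S.X₃ hL'
    rw [← push_ρ, ht, map_sub, push_comp_eq_zero _ _ (hab J S hS), sub_zero, push_cechMap_apply,
      hw, cechMap_ρ]

end Base

open Groth.Agent.Helper1.DeltaFun in
/-- **`H^q(X, F) = 0` iff all Cech classes of `F` over hypercoverings die on refinements.** -/
theorem main (q : ℕ) : ∀ (F : Sheaf J AddCommGrpCat.{u}),
    Subsingleton (CohSite.HU F q X) ↔ DiesH J X F.obj q := by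
  induction q using Nat.twoStepInduction with
  | zero =>
    intro F
    exact (base0 J X F).trans (diesH_iff_diesAt J X F.obj 0 0 (by simp)).symm
  | one =>
    intro F
    exact (base1 J X (E F) (hE F)).trans (diesH_iff_diesAt J X F.obj 0 1 (by simp)).symm
  | more q _ ih =>
    intro F
    rw [subsingleton_succ_succ_iff (E F) (hE F) q X, ih (E F).X₃,
      diesH_iff_diesAt J X _ q (q + 1) (by simp),
      diesH_iff_diesAt J X F.obj (q + 1) (q + 2) (by simp)]
    exact ⟨stepA J X (E F) (hE F) q, stepB J X (E F) (hE F) q⟩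

end Groth.Agent.Helper9.HypDieE
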