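import Mathlib
import Groth.Prelude.Def_Hyper
import Groth.Prelude.Def_Hyper2
import Groth.Agent.Helper9.HypDieE

/-!
# Dying of Cech classes is invariant under locally bijective maps of presheaves
-/

set_option autoImplicit false
set_option backward.isDefEq.respectTransparency false
set_option backward.isDefEq.respectTransparency.types false

open CategoryTheory Limits Opposite Simplicial Hyper

namespace Groth.Agent.Helper9.HypDieF

open Groth.Agent.Helper6 Groth.Agent.Helper9.HypRefE Groth.Agent.Helper9.HypDieA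
  Groth.Agent.Helper9.HypDieD

universe u

variable {C : Type u} [SmallCategory C] [HasPullbacks C] (J : GrothendieckTopology C) (X : C)
  [∀ (n : ℕ) (F : (SimplexCategory.Truncated n)ᵒᵖ ⥤ FormalCoproduct.{u} (Over X)),
    (SimplexCategory.Truncated.inclusion n).op.HasRightKanExtension F]
  {G G' : Cᵒᵖ ⥤ AddCommGrpCat.{u}}

theorem diesAt_of_source (φ : G ⟶ G')
    [Presheaf.IsLocallyInjective J φ] [Presheaf.IsLocallySurjective J φ]
    (i q : ℕ) (h : DiesAt J X G i q) : DiesAt J X G' i q := by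
  intro K hK y hy
  obtain ⟨L, f, x, hL, hx⟩ := exists_lift J X K hK φ q y
  have h1 : (pushCx X φ L).f (q + 1) ((Hyper.cechCx X L G).d q (q + 1) x) = 0 := by
    rw [hom_d_apply, hx, ← hom_d_apply, hy, map_zero]
  obtain ⟨L', f', hL', hf'⟩ := exists_kill J X L hL φ (q + 1) _ h1
  have h2 : (Hyper.cechCx X L' G).d q (q + 1) ((Hyper.cechMap X f' G).f q x) = 0 := by
    rw [← hom_d_apply, hf']
  obtain ⟨L'', f'', hL'', r, hr⟩ := h L' hL' _ h2
  refine ⟨L'', f'' ≫ (f' ≫ f), hL'', (pushCx X φ L'').f i r, ?_⟩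
  rw [← hom_d_apply, hr, push_cechMap_apply, push_cechMap_apply, hx, cechMap_comp_apply,
    cechMap_comp_apply]

theorem diesAt_of_target (φ : G ⟶ G')
    [Presheaf.IsLocallyInjective J φ] [Presheaf.IsLocallySurjective J φ]
    (i q : ℕ) (h : DiesAt J X G' i q) : DiesAt J X G i q := by
  intro K hK x hx
  have h1 : (Hyper.cechCx X K G').d q (q + 1) ((pushCx X φ K).f q x) = 0 := by
    rw [← hom_d_apply, hx, map_zero]
  obtain ⟨L, f, hL, r, hr⟩ := h K hK _ h1
  obtain ⟨L', f', r', hL', hr'⟩ := exists_lift J X L hL φ i r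
  have h2 : (pushCx X φ L').f q
      ((Hyper.cechMap X f' G).f q ((Hyper.cechMap X f G).f q x) -
        (Hyper.cechCx X L' G).d i q r') = 0 := by
    rw [map_sub, push_cechMap_apply, push_cechMap_apply, hom_d_apply (pushCx X φ L'), hr',
      ← hom_d_apply (Hyper.cechMap X f' G'), hr, sub_self]
  obtain ⟨L'', f'', hL'', hf''⟩ := exists_kill J X L' hL' φ q _ h2
  refine ⟨L'', f'' ≫ (f' ≫ f), hL'', (Hyper.cechMap X f'' G).f i r', ?_⟩
  rw [map_sub, sub_eq_zero] at hf''
  rw [← hom_d_apply, ← hf'', cechMap_comp_apply, cechMap_comp_apply]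

theorem diesH_congr (φ : G ⟶ G')
    [Presheaf.IsLocallyInjective J φ] [Presheaf.IsLocallySurjective J φ]
    (q : ℕ) : DiesH J X G q ↔ DiesH J X G' q := by
  rw [diesH_iff_diesAt J X G _ q rfl, diesH_iff_diesAt J X G' _ q rfl]
  exact ⟨diesAt_of_source J X φ _ q, diesAt_of_target J X φ _ q⟩

/-- **`H^q(X, G^#) = 0` iff all Cech classes of the presheaf `G` die on refinements.** -/
theorem main_sheafify (G : Cᵒᵖ ⥤ AddCommGrpCat.{u}) (q : ℕ) :
    Subsingleton (CohSite.HU ((presheafToSheaf J AddCommGrpCat.{u}).obj G) q X) ↔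
      DiesH J X G q := by
  rw [HypDieE.main J X q]
  exact (diesH_congr J X (toSheafify J G) q).symm

end Groth.Agent.Helper9.HypDieF
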