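import Mathlib
import Groth.Prelude.Def_Hyper
import Groth.Agent.Helper6.FCYoneda
import Groth.Agent.Helper9.HypRefC

/-!
# A locally surjective map to `F(K_n)` is dominated by a covering of `K_n`
-/

set_option autoImplicit false
set_option backward.isDefEq.respectTransparency false
set_option backward.isDefEq.respectTransparency.types false

open CategoryTheory Limits Opposite Functor Simplicial Hyper

namespace Groth.Agent.Helper9.HypRefD

open Groth.Agent.Helper6

universe u

variable {D : Type u} [SmallCategory D] (J' : GrothendieckTopology D)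

theorem exists_covering_of_locallySurjective (Kn : FormalCoproduct.{u} D)
    (P : Dᵒᵖ ⥤ Type u) (u : P ⟶ FormalCoproduct.yoneda.obj Kn)
    (hu : Presheaf.IsLocallySurjective J' u) :
    ∃ (Z : FormalCoproduct.{u} D) (v : Z ⟶ Kn) (t : FormalCoproduct.yoneda.obj Z ⟶ P),
      IsSRCovering J' v ∧ t ≫ u = FormalCoproduct.yoneda.map v := by
  let s : ∀ i : Kn.I, (FormalCoproduct.yoneda.obj Kn).obj (op (Kn.obj i)) := fun i =>
    (Sigma.ι (fun i => yoneda.obj (Kn.obj i)) i).app (op (Kn.obj i)) (𝟙 _)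
  let T : ∀ i : Kn.I, Sieve (Kn.obj i) := fun i => Presheaf.imageSieve u (s i)
  have hT : ∀ i, T i ∈ J' (Kn.obj i) := fun i => Presheaf.imageSieve_mem J' u (s i)
  let I' : Type u := Σ i : Kn.I, Σ V : D, {g : V ⟶ Kn.obj i // T i g}
  let Z : FormalCoproduct.{u} D := ⟨I', fun α => α.2.1⟩
  let v : Z ⟶ Kn := ⟨fun α => α.1, fun α => α.2.2.1⟩
  have hp : ∀ α : I', ∃ p : P.obj (op α.2.1),
      u.app _ p = (FormalCoproduct.yoneda.obj Kn).map α.2.2.1.op (s α.1) := fun α => α.2.2.2
  choose p hp using hp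
  let t : FormalCoproduct.yoneda.obj Z ⟶ P :=
    Sigma.desc (fun α : I' => yonedaEquiv.symm (p α))
  refine ⟨Z, v, t, ?_, ?_⟩
  · apply SRCov.isSRCovering_of
    intro i
    refine ⟨T i, hT i, ?_⟩
    intro W k hk
    refine ⟨⟨i, W, k, hk⟩, rfl, 𝟙 W, ?_⟩
    simp [v]
  · refine Sigma.hom_ext _ _ (fun α => ?_)
    apply yonedaEquiv.injective
    have e1 : Sigma.ι (fun α : I' => yoneda.obj (Z.obj α)) α ≫ t = yonedaEquiv.symm (p α) :=
      Sigma.ι_desc _ _
    rw [← Category.assoc, e1]
    rw [yonedaEquiv_comp, Equiv.apply_symm_apply, hp α]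
    have e2 : Sigma.ι (fun α : I' => yoneda.obj (Z.obj α)) α ≫ FormalCoproduct.yoneda.map v =
        yoneda.map (v.φ α) ≫ Sigma.ι (fun i => yoneda.obj (Kn.obj i)) (v.f α) := by
      exact Sigma.ι_desc _ _
    rw [e2, yonedaEquiv_comp]
    have nat := (Sigma.ι (fun i => yoneda.obj (Kn.obj i)) α.1).naturality α.2.2.1.op
    have := ConcreteCategory.congr_hom nat (𝟙 (Kn.obj α.1))
    simp only [s]
    refine this.symm.trans ?_
    simp [v, yonedaEquiv]
    rfl

end Groth.Agent.Helper9.HypRefD
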