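import Mathlib
import Groth.Agent.S2107
import Groth.Agent.Helper9.VP5
import Groth.Agent.Helper9.VP6

/-!
# IM1: over a valuation ring, a map of finite modules over a local essentially finitely presented
algebra into a flat module which is injective modulo the maximal ideal is injective with flat
cokernel.
-/

set_option autoImplicit false
universe u
open TensorProduct

namespace Groth.Agent.Helper9.IM1

open Groth.Agent.Helper9

section SmulTop

variable {A : Type u} [CommRing A] {S : Type u} [CommRing S] [Algebra A S] (I : Ideal A)
  {M : Type u} [AddCommGroup M] [Module S M] [Module A M] [IsScalarTower A S M]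

lemma mem_map_smul_top_of_mem {x : M} (hx : x ∈ I • (⊤ : Submodule A M)) :
    x ∈ I.map (algebraMap A S) • (⊤ : Submodule S M) := by
  refine Submodule.smul_induction_on hx ?_ ?_
  · intro a ha m _
    rw [← algebraMap_smul S a m]
    exact Submodule.smul_mem_smul (Ideal.mem_map_of_mem _ ha) trivial
  · intro x y hx hy
    exact add_mem hx hy

lemma mem_smul_top_of_mem_map {x : M} (hx : x ∈ I.map (algebraMap A S) • (⊤ : Submodule S M)) :
    x ∈ I • (⊤ : Submodule A M) := by
  refine Submodule.smul_induction_on hx ?_ ?_
  · intro s hs m _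
    rw [Ideal.map] at hs
    induction hs using Submodule.span_induction generalizing m with
    | mem s hs =>
      obtain ⟨a, ha, rfl⟩ := hs
      rw [algebraMap_smul]
      exact Submodule.smul_mem_smul ha trivial
    | zero =>
      rw [zero_smul]
      exact zero_mem _
    | add s t _ _ h1 h2 =>
      rw [add_smul]
      exact add_mem (h1 m trivial) (h2 m trivial)
    | smul r s _ h1 =>
      rw [smul_eq_mul, mul_smul, ← mul_smul, mul_comm, mul_smul]
      exact h1 (r • m) trivial
  · intro x y hx hy
    exact add_mem hx hy

end SmulTop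


section Core

variable {A : Type u} [CommRing A] [IsDomain A] [ValuationRing A]
  {S : Type u} [CommRing S] [IsLocalRing S] [Algebra A S] [IsLocalHom (algebraMap A S)]
  [Algebra.EssFiniteType A S]
  {N M : Type u} [AddCommGroup N] [Module S N] [Module A N] [IsScalarTower A S N]
  [Module.Finite S N]
  [AddCommGroup M] [Module S M] [Module A M] [IsScalarTower A S M] [Module.Finite S M]
  [Module.Flat A M]

omit [ValuationRing A] [IsLocalRing S] [IsLocalHom (algebraMap A S)] [Algebra.EssFiniteType A S]
  [Module.Finite S M] in
lemma torsionFree_of_flat : ∀ c : A, c ≠ 0 → ∀ m : M, c • m = 0 → m = 0 := by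
  intro c hc m hm
  have hreg : IsSMulRegular M c :=
    Module.Flat.isSMulRegular_of_nonZeroDivisors (mem_nonZeroDivisors_of_ne_zero hc)
  exact hreg (by simp only [hm, smul_zero])

theorem core (hS : CAlgX.IsEssFinitePresentation A S) (u : N →ₗ[S] M)
    (hu : ∀ x : N, u x ∈ IsLocalRing.maximalIdeal A • (⊤ : Submodule A M) →
      x ∈ IsLocalRing.maximalIdeal A • (⊤ : Submodule A N)) :
    Function.Injective u ∧ Module.Flat A (M ⧸ LinearMap.range u) := by
  have htfM := torsionFree_of_flat (A := A) (M := M)
  have hfpM : Module.FinitePresentation S M := VP5.finitePresentation_of_torsionFree (V := A) htfM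
  set N' : Submodule S M := LinearMap.range u with hN'
  have hN'fg : N'.FG := by
    rw [hN', LinearMap.range_eq_map]
    exact Submodule.FG.map _ Module.Finite.fg_top
  have hfpN' : Module.FinitePresentation S N' :=
    VP5.finitePresentation_submodule (V := A) htfM N' hN'fg
  have hflatN' : Module.Flat A N' := by
    rw [Module.Flat.flat_iff_torsion_eq_bot_of_isBezout, eq_bot_iff]
    intro x hx
    rw [Submodule.mem_torsion_iff] at hx
    obtain ⟨⟨c, hc⟩, hcx⟩ := hx
    rw [Submodule.mem_bot]
    apply Subtype.ext
    apply htfM c (nonZeroDivisors.ne_zero hc)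
    have := congrArg Subtype.val hcx
    simpa using this
  -- apply the finitely presented criterion to the inclusion of the image
  have hu' : ∀ x : N', N'.subtype x ∈ (IsLocalRing.maximalIdeal A).map (algebraMap A S) •
      (⊤ : Submodule S M) →
      x ∈ (IsLocalRing.maximalIdeal A).map (algebraMap A S) • (⊤ : Submodule S N') := by
    rintro ⟨_, ⟨n, rfl⟩⟩ hx
    have h1 : u n ∈ IsLocalRing.maximalIdeal A • (⊤ : Submodule A M) :=
      mem_smul_top_of_mem_map _ hx
    have h2 := hu n h1
    have key : ∀ y ∈ IsLocalRing.maximalIdeal A • (⊤ : Submodule A N),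
        (u.rangeRestrict y : N') ∈ (IsLocalRing.maximalIdeal A).map (algebraMap A S) •
          (⊤ : Submodule S N') := by
      intro y hy
      refine Submodule.smul_induction_on hy ?_ ?_
      · intro a ha m _
        rw [← algebraMap_smul S a m, map_smul]
        exact Submodule.smul_mem_smul (Ideal.mem_map_of_mem _ ha) trivial
      · intro y z hy hz
        rw [map_add]
        exact add_mem hy hz
    exact key n h2
  obtain ⟨-, hflat⟩ := Groth.Agent.S2107.result (R := A) (S := S) (M := N') (N := M) hS
    N'.subtype hu'
  rw [Submodule.range_subtype] at hflat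
  refine ⟨?_, hflat⟩
  -- injectivity by Nakayama
  set L : Submodule S N := LinearMap.ker u with hL
  have hLfg : L.FG := by
    have := Module.FinitePresentation.fg_ker u.rangeRestrict u.surjective_rangeRestrict
    rwa [LinearMap.ker_rangeRestrict] at this
  have hle : L ≤ (IsLocalRing.maximalIdeal A).map (algebraMap A S) • L := by
    intro x hx
    have hx0 : u x = 0 := hx
    have hxm : x ∈ IsLocalRing.maximalIdeal A • (⊤ : Submodule A N) := by
      apply hu
      rw [hx0]
      exact zero_mem _
    have hinjT := LinearMap.lTensor_injective_of_exact_of_flat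
      (u.rangeRestrict.restrictScalars A) u.surjective_rangeRestrict
      (L.subtype.restrictScalars A) L.subtype_injective
      (by
        intro y
        change u.rangeRestrict y = 0 ↔ y ∈ Set.range L.subtype
        rw [Submodule.coe_subtype, Subtype.range_coe_subtype, ← LinearMap.mem_ker,
          LinearMap.ker_rangeRestrict]
        rfl)
      (A ⧸ IsLocalRing.maximalIdeal A)
    have h0 : (1 : A ⧸ IsLocalRing.maximalIdeal A) ⊗ₜ[A] (⟨x, hx⟩ : L) = 0 := by
      apply hinjT
      rw [LinearMap.lTensor_tmul, map_zero]
      change (1 : A ⧸ IsLocalRing.maximalIdeal A) ⊗ₜ[A] x = 0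
      rw [VP6.one_tmul_eq_zero_iff]
      exact hxm
    rw [VP6.one_tmul_eq_zero_iff] at h0
    have key : ∀ y ∈ IsLocalRing.maximalIdeal A • (⊤ : Submodule A L),
        (y : N) ∈ (IsLocalRing.maximalIdeal A).map (algebraMap A S) • L := by
      intro y hy
      refine Submodule.smul_induction_on hy ?_ ?_
      · intro a ha m _
        have h1 : ((a • m : L) : N) = algebraMap A S a • (m : N) := by
          rw [Submodule.coe_smul_of_tower, algebraMap_smul]
        rw [h1]
        exact Submodule.smul_mem_smul (Ideal.mem_map_of_mem _ ha) m.2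
      · intro y z hy hz
        rw [Submodule.coe_add]
        exact add_mem hy hz
    exact key _ h0
  have hjac : (IsLocalRing.maximalIdeal A).map (algebraMap A S) ≤ Ideal.jacobson ⊥ := by
    rw [IsLocalRing.jacobson_eq_maximalIdeal ⊥ bot_ne_top]
    exact ((IsLocalRing.local_hom_TFAE (algebraMap A S)).out 0 2).1 ‹_›
  have hbot := Submodule.eq_bot_of_le_smul_of_le_jacobson_bot _ L hLfg hle hjac
  rw [← LinearMap.ker_eq_bot]
  exact hbot

end Core


section Main

variable {A B : Type u} [CommRing A] [IsDomain A] [ValuationRing A] [CommRing B] [IsLocalRing B]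
  [Algebra A B] [IsLocalHom (algebraMap A B)] [Algebra.EssFiniteType A B]
  {N M : Type u} [AddCommGroup N] [Module B N] [Module A N] [IsScalarTower A B N]
  [Module.Finite B N]
  [AddCommGroup M] [Module B M] [Module A M] [IsScalarTower A B M] [Module.Finite B M]
  [Module.Flat A M]

theorem main (u : N →ₗ[B] M)
    (hu : ∀ x : N, u x ∈ IsLocalRing.maximalIdeal A • (⊤ : Submodule A M) →
      x ∈ IsLocalRing.maximalIdeal A • (⊤ : Submodule A N)) :
    Function.Injective u ∧ Module.Flat A (M ⧸ LinearMap.range u) := by
  classical
  obtain ⟨n, q, hq, φ, hφ⟩ := Groth.Agent.Helper8.EssLoc.main (A := A) (B := B)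
  let _ : Algebra (Localization.AtPrime q) B := φ.toRingHom.toAlgebra
  let _ : Module (Localization.AtPrime q) N := Module.compHom N φ.toRingHom
  let _ : Module (Localization.AtPrime q) M := Module.compHom M φ.toRingHom
  have hstN : IsScalarTower (Localization.AtPrime q) B N := ⟨fun r b m => by
    show (φ r * b) • m = φ r • (b • m)
    exact mul_smul _ _ _⟩
  have hstM : IsScalarTower (Localization.AtPrime q) B M := ⟨fun r b m => by
    show (φ r * b) • m = φ r • (b • m)
    exact mul_smul _ _ _⟩
  have hstAN : IsScalarTower A (Localization.AtPrime q) N := ⟨fun a r m => by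
    show φ (a • r) • m = a • (φ r • m)
    rw [map_smul, smul_assoc]⟩
  have hstAM : IsScalarTower A (Localization.AtPrime q) M := ⟨fun a r m => by
    show φ (a • r) • m = a • (φ r • m)
    rw [map_smul, smul_assoc]⟩
  have hfinB : Module.Finite (Localization.AtPrime q) B :=
    Module.Finite.of_surjective (Algebra.linearMap (Localization.AtPrime q) B) hφ
  have hfinN : Module.Finite (Localization.AtPrime q) N := Module.Finite.trans B N
  have hfinM : Module.Finite (Localization.AtPrime q) M := Module.Finite.trans B M
  have hloc : IsLocalHom (algebraMap A (Localization.AtPrime q)) := ⟨fun a ha => by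
    have h1 : IsUnit (φ (algebraMap A (Localization.AtPrime q) a)) := ha.map φ
    rw [φ.commutes] at h1
    exact isUnit_of_map_unit (algebraMap A B) a h1⟩
  have hS : CAlgX.IsEssFinitePresentation A (Localization.AtPrime q) :=
    ⟨MvPolynomial (Fin n) A, inferInstance, inferInstance, inferInstance, inferInstance,
      q.primeCompl, inferInstance, inferInstance⟩
  let uS : N →ₗ[Localization.AtPrime q] M :=
    { toFun := u
      map_add' := map_add u
      map_smul' := fun s x => by
        change u (φ s • x) = φ s • u x
        exact map_smul u _ _ }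
  obtain ⟨hinj, hflat⟩ := core hS uS hu
  refine ⟨hinj, ?_⟩
  have heq : (LinearMap.range u).restrictScalars A = (LinearMap.range uS).restrictScalars A := by
    ext x
    rfl
  let e : (M ⧸ LinearMap.range u) ≃ₗ[A] (M ⧸ LinearMap.range uS) :=
    (Submodule.Quotient.restrictScalarsEquiv A (LinearMap.range u)).symm ≪≫ₗ
      Submodule.quotEquivOfEq _ _ heq ≪≫ₗ
      Submodule.Quotient.restrictScalarsEquiv A (LinearMap.range uS)
  exact Module.Flat.of_linearEquiv e

end Main

end Groth.Agent.Helper9.IM1
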