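import Mathlib
set_option autoImplicit false
universe u v w
open TensorProduct

namespace Groth.Agent.Helper9.IdemConn

variable {R : Type u} [CommRing R]
    [ConnectedSpace (PrimeSpectrum R)] {A : Type v} [Ring A] [Algebra R A]
    [Module.Finite R A] [Module.Projective R A]

theorem idem_zero (e : A) (he : IsIdempotentElem e) (R' : Type w) [CommRing R'] [Nontrivial R']
    [Algebra R R'] (h0 : (1 : R') ⊗ₜ[R] e = (0 : R' ⊗[R] A)) : e = 0 := by
  let M : Submodule R A := LinearMap.range (LinearMap.mulLeft R e)
  let i : M →ₗ[R] A := M.subtype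
  let s : A →ₗ[R] M := (LinearMap.mulLeft R e).rangeRestrict
  have hsi : s ∘ₗ i = LinearMap.id := by
    apply LinearMap.ext
    rintro ⟨x, y, rfl⟩
    apply Subtype.ext
    show e * (e * y) = e * y
    rw [← mul_assoc, he.eq]
  have : Module.Projective R M := Module.Projective.of_split i s hsi
  have : Module.Finite R M := Module.Finite.range _
  have : Module.FinitePresentation R M := Module.finitePresentation_of_projective R M
  -- base change of M is trivial
  have hinj : Function.Injective (i.baseChange R') := by
    apply Function.LeftInverse.injective (g := s.baseChange R')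
    intro z
    rw [← LinearMap.comp_apply, ← LinearMap.baseChange_comp, hsi, LinearMap.baseChange_id]
    rfl
  have : Subsingleton (R' ⊗[R] M) := by
    constructor
    intro a b
    apply hinj
    have hz : ∀ z : R' ⊗[R] M, i.baseChange R' z = 0 := by
      intro z
      induction z using TensorProduct.induction_on with
      | zero => simp
      | add x y hx hy => simp only [map_add, hx, hy, add_zero]
      | tmul r m =>
        obtain ⟨m, y, rfl⟩ := m
        simp only [LinearMap.baseChange_tmul, i, Submodule.subtype_apply, LinearMap.mulLeft_apply]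
        have : r ⊗ₜ[R] (e * y) = ((1 : R') ⊗ₜ[R] e) * (r ⊗ₜ[R] y) := by
          simp [Algebra.TensorProduct.tmul_mul_tmul]
        rw [this, h0, zero_mul]
    rw [hz a, hz b]
  obtain ⟨q', hq'⟩ := Ideal.exists_maximal R'
  let Q : PrimeSpectrum R' := ⟨q', hq'.isPrime⟩
  have h1 : Module.rankAtStalk (R' ⊗[R] M) Q = 0 := by
    simp
  rw [Module.rankAtStalk_baseChange] at h1
  have hlc := Module.isLocallyConstant_rankAtStalk (R := R) (M := M)
  have h2 : Module.rankAtStalk (R := R) M = 0 := by
    funext p
    rw [hlc.apply_eq_of_preconnectedSpace p (Q.comap (algebraMap R R')), h1]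
    rfl
  rw [Module.rankAtStalk_eq_zero_iff_subsingleton] at h2
  have hem : e ∈ M := ⟨1, by simp⟩
  have := Subsingleton.elim (⟨e, hem⟩ : M) 0
  exact congrArg Subtype.val this

theorem idem_one (e : A) (he : IsIdempotentElem e) (R' : Type w) [CommRing R'] [Nontrivial R']
    [Algebra R R'] (h1 : (1 : R') ⊗ₜ[R] e = (1 : R' ⊗[R] A)) : e = 1 := by
  have := idem_zero (R := R) (1 - e) he.one_sub R' (by
    rw [TensorProduct.tmul_sub, h1, Algebra.TensorProduct.one_def, sub_self])
  exact (sub_eq_zero.mp this).symm

end Groth.Agent.Helper9.IdemConn
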