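import Groth.Prelude.Def_W4c5stacksedinertiaGpd
import Mathlib
set_option autoImplicit false
open W4c5stacksedinertia

namespace Groth.Agent.Helper9.Inertia

/-- the presentation of `G` is isomorphic to `G` -/
noncomputable def ofEquiv (G : Type) [Group G] [Finite G] : (FinGrp.of G).carrier ≃* G :=
  @Equiv.mulEquiv (Fin (Nat.card G)) G
    ((Nat.equivFinOfCardPos (α := G) Nat.card_pos.ne').symm) _

/-- a chosen representative of the class of `G` is isomorphic to `G` -/
lemma rep_equiv (G : Type) [Group G] [Finite G] : Nonempty ((Idx.of G).rep ≃* G) := by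
  have h1 : Nonempty ((Quotient.out (s := FinGrp.setoid) (Idx.of G)).carrier ≃*
      (FinGrp.of G).carrier) := Quotient.mk_out (s := FinGrp.setoid) (FinGrp.of G)
  obtain ⟨e⟩ := h1
  exact ⟨e.trans (ofEquiv G)⟩

lemma of_rep (i : Idx) : Idx.of i.rep = i := by
  have h : Idx.of i.rep = Quotient.mk FinGrp.setoid (Quotient.out (s := FinGrp.setoid) i) := by
    apply Quotient.sound
    exact ⟨ofEquiv _⟩
  rw [h]
  exact Quotient.out_eq (s := FinGrp.setoid) i

lemma card_center_congr {G H : Type*} [Group G] [Group H] (e : G ≃* H) :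
    Nat.card (Subgroup.center G) = Nat.card (Subgroup.center H) := by
  apply Nat.card_congr
  refine ⟨fun g => ⟨e g.1, ?_⟩, fun h => ⟨e.symm h.1, ?_⟩, ?_, ?_⟩
  · rw [Subgroup.mem_center_iff]
    intro y
    obtain ⟨x, rfl⟩ := e.surjective y
    rw [← map_mul, ← map_mul, Subgroup.mem_center_iff.mp g.2 x]
  · rw [Subgroup.mem_center_iff]
    intro y
    obtain ⟨x, rfl⟩ := e.symm.surjective y
    rw [← map_mul, ← map_mul, Subgroup.mem_center_iff.mp h.2 x]
  · intro g; simp
  · intro h; simp

lemma centerCard_of (G : Type) [Group G] [Finite G] :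
    (Idx.of G).centerCard = Nat.card (Subgroup.center G) := by
  obtain ⟨e⟩ := rep_equiv G
  exact card_center_congr e

lemma of_congr {G H : Type} [Group G] [Finite G] [Group H] [Finite H] (e : G ≃* H) :
    Idx.of G = Idx.of H := by
  apply Quotient.sound
  exact ⟨(ofEquiv G).trans (e.trans (ofEquiv H).symm)⟩

section orbits
variable (G : Type) [Group G] [Finite G] (r : ℕ)

/-- the representative tuple of an orbit -/
noncomputable def rep (O : CommTuple.Orbit G r) : CommTuple G r :=
  Quotient.out (s := CommTuple.setoid G r) O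

/-- an orbit is central when its representative consists of central elements -/
def Central (O : CommTuple.Orbit G r) : Prop := ∀ j, (rep G r O).1 j ∈ Subgroup.center G

instance : Finite (CommTuple G r) := by
  unfold CommTuple; infer_instance

instance : Finite (CommTuple.Orbit G r) := by
  unfold CommTuple.Orbit; infer_instance

lemma conj_central {g z : G} (hz : z ∈ Subgroup.center G) : g * z * g⁻¹ = z := by
  rw [Subgroup.mem_center_iff] at hz
  rw [hz g, mul_inv_cancel_right]

/-- central orbits ↔ embeddings into the centre -/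
noncomputable def centralEquiv :
    {O : CommTuple.Orbit G r // Central G r O} ≃ (Fin r ↪ Subgroup.center G) := by
  refine Equiv.ofBijective
    (fun O => ⟨fun j => ⟨(rep G r O.1).1 j, O.2 j⟩, fun a b hab => ?_⟩) ⟨?_, ?_⟩
  · exact (rep G r O.1).2.1 (congrArg Subtype.val hab)
  · intro O O' h
    apply Subtype.ext
    have h1 : (rep G r O.1).1 = (rep G r O'.1).1 := by
      funext j
      have := congrArg (fun e : Fin r ↪ Subgroup.center G => (e j).1) h
      exact this
    have h2 : rep G r O.1 = rep G r O'.1 := Subtype.ext h1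
    have e1 : Quotient.mk (CommTuple.setoid G r) (rep G r O.1) = O.1 :=
      Quotient.out_eq (s := CommTuple.setoid G r) O.1
    have e2 : Quotient.mk (CommTuple.setoid G r) (rep G r O'.1) = O'.1 :=
      Quotient.out_eq (s := CommTuple.setoid G r) O'.1
    rw [← e1, ← e2, h2]
  · intro e
    let s : CommTuple G r := ⟨fun j => (e j).1, fun a b hab => e.injective (Subtype.ext hab),
      fun i j => by
        have := (e i).2
        rw [Subgroup.mem_center_iff] at this
        exact (this _).symm⟩
    let O : CommTuple.Orbit G r := Quotient.mk (CommTuple.setoid G r) s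
    have hO : (rep G r O).1 = s.1 := by
      have h1 : (CommTuple.setoid G r).r (rep G r O) s := Quotient.mk_out (s := CommTuple.setoid G r) s
      obtain ⟨g, hg⟩ := h1
      funext j
      have h2 := hg j
      have hc : s.1 j ∈ Subgroup.center G := (e j).2
      have : (rep G r O).1 j = g⁻¹ * s.1 j * g⁻¹⁻¹ := by
        rw [← h2]; group
      rw [this, conj_central G hc]
    refine ⟨⟨O, ?_⟩, ?_⟩
    · intro j
      rw [hO]
      exact (e j).2
    · apply DFunLike.ext
      intro j
      apply Subtype.ext
      show (rep G r O).1 j = (e j).1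
      rw [hO]

lemma card_central :
    Nat.card {O : CommTuple.Orbit G r // Central G r O} =
      (Nat.card (Subgroup.center G)).descFactorial r := by
  rw [Nat.card_congr (centralEquiv G r)]
  have : Fintype (Subgroup.center G) := Fintype.ofFinite _
  rw [Nat.card_eq_fintype_card, Fintype.card_embedding_eq, Fintype.card_fin,
    Nat.card_eq_fintype_card]

lemma centerCard_noncentral (O : CommTuple.Orbit G r) (hO : ¬ Central G r O) :
    Nat.card (Subgroup.center G) + 1 ≤
      (Idx.of (Subgroup.centralizer (Set.range (rep G r O).1))).centerCard := by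
  rw [centerCard_of]
  set s := (rep G r O).1 with hs
  set H := Subgroup.centralizer (Set.range s) with hH
  unfold Central at hO
  push Not at hO
  obtain ⟨j, hj⟩ := hO
  have hmemH : ∀ z : Subgroup.center G, z.1 ∈ H := by
    intro z
    rw [hH, Subgroup.mem_centralizer_iff]
    intro h _
    exact Subgroup.mem_center_iff.mp z.2 h
  have hcentH : ∀ z : Subgroup.center G, (⟨z.1, hmemH z⟩ : H) ∈ Subgroup.center H := by
    intro z
    rw [Subgroup.mem_center_iff]
    intro y
    apply Subtype.ext
    exact Subgroup.mem_center_iff.mp z.2 y.1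
  let f : Subgroup.center G → Subgroup.center H := fun z => ⟨⟨z.1, hmemH z⟩, hcentH z⟩
  have hf : Function.Injective f := by
    intro z z' h
    apply Subtype.ext
    exact congrArg (fun x : Subgroup.center H => x.1.1) h
  have hsjH : s j ∈ H := by
    rw [hH, Subgroup.mem_centralizer_iff]
    rintro _ ⟨i, rfl⟩
    exact ((rep G r O).2.2 i j).eq
  have hsjc : (⟨s j, hsjH⟩ : H) ∈ Subgroup.center H := by
    rw [Subgroup.mem_center_iff]
    intro y
    apply Subtype.ext
    have := (Subgroup.mem_centralizer_iff (g := y.1) (s := Set.range s)).mp y.2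
    exact (this (s j) ⟨j, rfl⟩).symm
  have hnot : (⟨⟨s j, hsjH⟩, hsjc⟩ : Subgroup.center H) ∉ Set.range f := by
    rintro ⟨z, hz⟩
    have : z.1 = s j := congrArg (fun x : Subgroup.center H => x.1.1) hz
    apply hj
    show s j ∈ Subgroup.center G
    rw [← this]; exact z.2
  have : Fintype (Subgroup.center G) := Fintype.ofFinite _
  have : Fintype (Subgroup.center H) := Fintype.ofFinite _
  rw [Nat.card_eq_fintype_card, Nat.card_eq_fintype_card]
  exact Fintype.card_lt_of_injective_of_notMem f hf hnot

lemma central_centralizer (O : CommTuple.Orbit G r) (hO : Central G r O) :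
    Idx.of (Subgroup.centralizer (Set.range (rep G r O).1)) = Idx.of G := by
  have htop : Subgroup.centralizer (Set.range (rep G r O).1) = ⊤ := by
    rw [eq_top_iff]
    intro g _
    rw [Subgroup.mem_centralizer_iff]
    rintro _ ⟨i, rfl⟩
    exact Subgroup.mem_center_iff.mp (hO i) g |>.symm
  exact of_congr ((MulEquiv.subgroupCongr htop).trans Subgroup.topEquiv)

end orbits

lemma single_mem_Kge (j : Idx) (n : ℕ) (a : ℚ) (h : n ≤ j.centerCard) :
    Finsupp.single j a ∈ Kge n := by
  unfold Kge
  exact Finsupp.single_mem_supported ℚ a h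

lemma inertiaROf_sub_mem (i : Idx) (r k : ℕ) (hk : k ≤ i.centerCard) :
    inertiaROf r i.rep - ((Nat.factorial r * Nat.choose k r : ℕ) : ℚ) • Finsupp.single i (1 : ℚ) ∈
      Kge (k + 1) := by
  classical
  have : Fintype (CommTuple.Orbit i.rep r) := Fintype.ofFinite _
  have hc : i.centerCard = Nat.card (Subgroup.center i.rep) := rfl
  have h1 : inertiaROf r i.rep = ∑ O : CommTuple.Orbit i.rep r,
      cl (Subgroup.centralizer (Set.range (rep i.rep r O).1)) := by
    unfold inertiaROf
    rw [finsum_eq_sum_of_fintype]
    rfl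
  rw [h1, ← Finset.sum_filter_add_sum_filter_not Finset.univ (fun O => Central i.rep r O)]
  have h2 : ∑ O ∈ Finset.univ.filter (fun O => Central i.rep r O),
      cl (Subgroup.centralizer (Set.range (rep i.rep r O).1)) =
      ((i.centerCard.descFactorial r : ℕ) : ℚ) • Finsupp.single i (1 : ℚ) := by
    have : ∀ O ∈ Finset.univ.filter (fun O => Central i.rep r O),
        cl (Subgroup.centralizer (Set.range (rep i.rep r O).1)) = Finsupp.single i (1 : ℚ) := by
      intro O hO
      rw [Finset.mem_filter] at hO
      unfold cl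
      rw [central_centralizer i.rep r O hO.2, of_rep]
    rw [Finset.sum_congr rfl this, Finset.sum_const, hc, ← card_central i.rep r,
      Nat.card_eq_fintype_card, Fintype.card_subtype, Nat.cast_smul_eq_nsmul]
  have h3 : ∑ O ∈ Finset.univ.filter (fun O => ¬ Central i.rep r O),
      cl (Subgroup.centralizer (Set.range (rep i.rep r O).1)) ∈ Kge (k + 1) := by
    apply Submodule.sum_mem
    intro O hO
    rw [Finset.mem_filter] at hO
    unfold cl
    apply single_mem_Kge
    have := centerCard_noncentral i.rep r O hO.2
    rw [← hc] at this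
    omega
  rw [h2, add_sub_right_comm, ← sub_smul]
  refine Submodule.add_mem _ ?_ h3
  rcases Nat.eq_or_lt_of_le hk with h | h
  · rw [← h, Nat.descFactorial_eq_factorial_mul_choose, sub_self, zero_smul]
    exact Submodule.zero_mem _
  · exact Submodule.smul_mem _ _ (single_mem_Kge i (k + 1) 1 h)

theorem main (r k : ℕ) (v : K) (hv : v ∈ Kge k) :
    inertiaR r v - ((Nat.factorial r * Nat.choose k r : ℕ) : ℚ) • v ∈ Kge (k + 1) := by
  have hv' := (Finsupp.mem_supported ℚ v).mp hv
  have h1 : inertiaR r v = v.sum fun i a => a • inertiaROf r i.rep := by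
    unfold inertiaR
    rw [Finsupp.linearCombination_apply]
  have h2 : v = v.sum fun i a => a • Finsupp.single i (1 : ℚ) := by
    conv_lhs => rw [← Finsupp.sum_single v]
    apply Finsupp.sum_congr
    intro i _
    rw [Finsupp.smul_single, smul_eq_mul, mul_one]
  have h2' : ((Nat.factorial r * Nat.choose k r : ℕ) : ℚ) • v =
      ∑ i ∈ v.support, v i • (((Nat.factorial r * Nat.choose k r : ℕ) : ℚ) • Finsupp.single i (1 : ℚ)) := by
    conv_lhs => rw [h2]
    rw [Finsupp.sum, Finset.smul_sum]
    apply Finset.sum_congr rfl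
    intro i _
    rw [smul_comm]
  rw [h1, h2', Finsupp.sum, ← Finset.sum_sub_distrib]
  apply Submodule.sum_mem
  intro i hi
  rw [← smul_sub]
  apply Submodule.smul_mem
  exact inertiaROf_sub_mem i r k (hv' hi)

end Groth.Agent.Helper9.Inertia
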