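import Groth.Agent.Helper9.Inertia
import Groth.Agent.S18020
import Mathlib
set_option autoImplicit false
open W4c5stacksedinertia Polynomial

namespace Groth.Agent.Helper9.Inertia

/-- `P m = ∏_{j=1}^m (X - j)` -/
noncomputable def P : ℕ → ℚ[X]
  | 0 => 1
  | (m + 1) => (X - C ((m + 1 : ℕ) : ℚ)) * P m

lemma coprime_P (m : ℕ) : ∀ j : ℕ, m < j → IsCoprime (X - C ((j : ℕ) : ℚ)) (P m) := by
  induction m with
  | zero => intro j _; exact isCoprime_one_right
  | succ m ih =>
    intro j hj
    show IsCoprime _ ((X - C ((m + 1 : ℕ) : ℚ)) * P m)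
    apply IsCoprime.mul_right
    · apply Polynomial.isCoprime_X_sub_C_of_isUnit_sub
      apply IsUnit.mk0
      have : ((j : ℕ) : ℚ) ≠ ((m + 1 : ℕ) : ℚ) := by
        intro h; have := Nat.cast_injective h; omega
      exact sub_ne_zero.mpr this
    · exact ih j (by omega)

lemma aeval_linear (f : K →ₗ[ℚ] K) (a : ℚ) : aeval f (X - C a) = f - a • (1 : Module.End ℚ K) := by
  rw [map_sub, aeval_X, aeval_C, Algebra.algebraMap_eq_smul_one]

lemma ker_P_le (f : K →ₗ[ℚ] K) (m : ℕ) :
    LinearMap.ker (aeval f (P m)) ≤ ⨆ n : ℕ, Module.End.eigenspace f (n : ℚ) := by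
  induction m with
  | zero =>
    show LinearMap.ker (aeval f (1 : ℚ[X])) ≤ _
    rw [map_one]
    intro v hv
    rw [LinearMap.mem_ker] at hv
    have : v = 0 := hv
    rw [this]; exact Submodule.zero_mem _
  | succ m ih =>
    show LinearMap.ker (aeval f ((X - C ((m + 1 : ℕ) : ℚ)) * P m)) ≤ _
    rw [← sup_ker_aeval_eq_ker_aeval_mul_of_coprime f (coprime_P m (m + 1) (by omega))]
    apply sup_le _ ih
    rw [aeval_linear, ← Module.End.eigenspace_def]
    exact le_iSup (fun n : ℕ => Module.End.eigenspace f (n : ℚ)) (m + 1)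

lemma Kge_one : Kge 1 = ⊤ := by
  rw [eq_top_iff]
  intro v _
  unfold Kge
  rw [Finsupp.mem_supported]
  intro i _
  show 1 ≤ i.centerCard
  unfold Idx.centerCard
  exact Nat.card_pos

lemma centerCard_le_card (i : Idx) : i.centerCard ≤ i.card := by
  unfold Idx.centerCard Idx.card
  exact Subgroup.card_le_card_group _

lemma Kle_inf_Kge (N : ℕ) (v : K) (h1 : v ∈ Kle N) (h2 : v ∈ Kge (N + 1)) : v = 0 := by
  unfold Kle at h1
  unfold Kge at h2
  rw [Finsupp.mem_supported] at h1 h2
  rw [← Finsupp.support_eq_empty, Finset.eq_empty_iff_forall_notMem]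
  intro i hi
  have a1 : i.card ≤ N := h1 hi
  have a2 : N + 1 ≤ i.centerCard := h2 hi
  have := centerCard_le_card i
  omega

lemma aeval_P_mem (N : ℕ) (v : K) (hv : v ∈ Kle N) :
    ∀ m, aeval inertia (P m) v ∈ Kle N ⊓ Kge (m + 1) := by
  intro m
  induction m with
  | zero =>
    show aeval inertia (1 : ℚ[X]) v ∈ _
    rw [map_one]
    refine ⟨hv, ?_⟩
    rw [Kge_one]; trivial
  | succ m ih =>
    show aeval inertia ((X - C ((m + 1 : ℕ) : ℚ)) * P m) v ∈ _
    rw [map_mul, Module.End.mul_apply, aeval_linear]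
    set u := aeval inertia (P m) v with hu
    have h22 := main 1 (m + 1) u ih.2
    simp only [Nat.factorial_one, Nat.choose_one_right, one_mul] at h22
    refine ⟨?_, ?_⟩
    · simp only [LinearMap.sub_apply, LinearMap.smul_apply, Module.End.one_apply]
      exact Submodule.sub_mem _ (Groth.Agent.S18020.result N u ih.1) (Submodule.smul_mem _ _ ih.1)
    · simpa using h22

lemma exists_Kle (v : K) : ∃ N, v ∈ Kle N := by
  refine ⟨v.support.sup Idx.card, ?_⟩
  unfold Kle
  rw [Finsupp.mem_supported]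
  intro i hi
  exact Finset.le_sup (f := Idx.card) hi

lemma aeval_P_eq_zero (N : ℕ) (v : K) (hv : v ∈ Kle N) : aeval inertia (P N) v = 0 := by
  have := aeval_P_mem N v hv N
  exact Kle_inf_Kge N _ this.1 this.2

theorem iSup_eigenspace : (⨆ n : ℕ, Module.End.eigenspace inertia (n : ℚ)) = ⊤ := by
  rw [eq_top_iff]
  intro v _
  obtain ⟨N, hN⟩ := exists_Kle v
  exact ker_P_le inertia N (LinearMap.mem_ker.mpr (aeval_P_eq_zero N v hN))

lemma root_P (μ : ℚ) : ∀ m, (P m).eval μ = 0 → ∃ j : ℕ, 0 < j ∧ μ = (j : ℚ) := by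
  intro m
  induction m with
  | zero =>
    intro h
    simp [P] at h
  | succ m ih =>
    intro h
    have : ((X - C ((m + 1 : ℕ) : ℚ)) * P m).eval μ = 0 := h
    rw [eval_mul, mul_eq_zero] at this
    rcases this with h1 | h1
    · refine ⟨m + 1, by omega, ?_⟩
      rw [eval_sub, eval_X, eval_C] at h1
      linarith
    · exact ih h1

lemma card_of (G : Type) [Group G] [Finite G] : (Idx.of G).card = Nat.card G := by
  obtain ⟨e⟩ := rep_equiv G
  exact Nat.card_congr e.toEquiv

theorem hasEigenvalue_iff (μ : ℚ) :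
    Module.End.HasEigenvalue inertia μ ↔ ∃ n : ℕ, 0 < n ∧ μ = (n : ℚ) := by
  constructor
  · intro h
    obtain ⟨v, hv⟩ := h.exists_hasEigenvector
    obtain ⟨N, hN⟩ := exists_Kle v
    have h0 := aeval_P_eq_zero N v hN
    rw [Module.End.aeval_apply_of_hasEigenvector hv] at h0
    rcases smul_eq_zero.mp h0 with h1 | h1
    · exact root_P μ N h1
    · exact absurd h1 hv.2
  · rintro ⟨n, hn, rfl⟩
    have : NeZero n := ⟨by omega⟩
    let G := Multiplicative (ZMod n)
    have hcardG : Nat.card G = n := by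
      show Nat.card (Multiplicative (ZMod n)) = n
      rw [Nat.card_eq_fintype_card, Fintype.card_multiplicative, ZMod.card]
    let v : K := cl G
    have hv1 : v ∈ Kle n := by
      show Finsupp.single (Idx.of G) (1 : ℚ) ∈ Kle n
      unfold Kle
      apply Finsupp.single_mem_supported
      show (Idx.of G).card ≤ n
      rw [card_of, hcardG]
    have hv2 : v ∈ Kge n := by
      show Finsupp.single (Idx.of G) (1 : ℚ) ∈ Kge n
      apply single_mem_Kge
      rw [centerCard_of, CommGroup.center_eq_top, Subgroup.card_top, hcardG]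
    have h22 := main 1 n v hv2
    simp only [Nat.factorial_one, Nat.choose_one_right, one_mul] at h22
    have h20 : inertia v - (n : ℚ) • v ∈ Kle n :=
      Submodule.sub_mem _ (Groth.Agent.S18020.result n v hv1) (Submodule.smul_mem _ _ hv1)
    have hz := Kle_inf_Kge n _ h20 h22
    apply Module.End.hasEigenvalue_of_hasEigenvector (x := v)
    refine ⟨?_, ?_⟩
    · rw [Module.End.mem_eigenspace_iff]
      exact sub_eq_zero.mp hz
    · show Finsupp.single (Idx.of G) (1 : ℚ) ≠ 0
      rw [Ne, Finsupp.single_eq_zero]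
      exact one_ne_zero

end Groth.Agent.Helper9.Inertia
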