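import Groth.Agent.Helper9.Inertia
import Groth.Agent.Helper9.Inertia2
set_option autoImplicit false
set_option linter.unusedSectionVars false
open W4c5stacksedinertia Groth.Agent.Helper9.Inertia

namespace Groth.Agent.Helper9.Inertia3

/-- weighted class of a finite group -/
noncomputable def Phi (L : Type) [Group L] [Finite L] : K := (Nat.card L : ℚ) • cl L

lemma Phi_congr {L L' : Type} [Group L] [Finite L] [Group L'] [Finite L'] (e : L ≃* L') :
    Phi L = Phi L' := by
  unfold Phi cl
  rw [of_congr e, Nat.card_congr e.toEquiv]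

section
variable (G : Type) [Group G] [Finite G] (r : ℕ)

/-- conjugation action on tuples -/
noncomputable instance conjAct : MulAction G (CommTuple G r) where
  smul g s := ⟨fun i => g * s.1 i * g⁻¹, fun a b hab => s.2.1 (by simpa using hab), fun i j => by
    have h := s.2.2 i j
    show (g * s.1 i * g⁻¹) * (g * s.1 j * g⁻¹) = (g * s.1 j * g⁻¹) * (g * s.1 i * g⁻¹)
    have h1 : (g * s.1 i * g⁻¹) * (g * s.1 j * g⁻¹) = g * (s.1 i * s.1 j) * g⁻¹ := by group
    have h2 : (g * s.1 j * g⁻¹) * (g * s.1 i * g⁻¹) = g * (s.1 j * s.1 i) * g⁻¹ := by group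
    rw [h1, h2, h.eq]⟩
  one_smul s := Subtype.ext (funext fun i => by
    show (1 : G) * s.1 i * (1 : G)⁻¹ = s.1 i
    simp)
  mul_smul g h s := Subtype.ext (funext fun i => by
    show (g * h) * s.1 i * (g * h)⁻¹ = g * (h * s.1 i * h⁻¹) * g⁻¹
    group)

lemma smul_val (g : G) (s : CommTuple G r) (i : Fin r) : (g • s).1 i = g * s.1 i * g⁻¹ := rfl

lemma stabilizer_eq (s : CommTuple G r) :
    MulAction.stabilizer G s = Subgroup.centralizer (Set.range s.1) := by
  ext g
  rw [MulAction.mem_stabilizer_iff, Subgroup.mem_centralizer_iff]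
  constructor
  · rintro h x ⟨i, rfl⟩
    have h1 : g * s.1 i * g⁻¹ = s.1 i := by
      have := congrFun (congrArg Subtype.val h) i
      exact this
    calc s.1 i * g = (g * s.1 i * g⁻¹) * g := by rw [h1]
      _ = g * s.1 i := by group
  · intro h
    apply Subtype.ext
    funext i
    show g * s.1 i * g⁻¹ = s.1 i
    rw [← h (s.1 i) ⟨i, rfl⟩]
    group

lemma setoid_iff (s t : CommTuple G r) :
    (CommTuple.setoid G r).r s t ↔ t ∈ MulAction.orbit G s := by
  constructor
  · rintro ⟨g, hg⟩
    exact ⟨g, Subtype.ext (funext fun i => hg i)⟩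
  · rintro ⟨g, hg⟩
    exact ⟨g, fun i => by rw [← hg]; rfl⟩

lemma Phi_smul (g : G) (s : CommTuple G r) :
    Phi (Subgroup.centralizer (Set.range (g • s).1)) =
      Phi (Subgroup.centralizer (Set.range s.1)) := by
  have h1 : Subgroup.centralizer (Set.range (g • s).1) = MulAction.stabilizer G (g • s) :=
    (stabilizer_eq G r _).symm
  have h2 : Subgroup.centralizer (Set.range s.1) = MulAction.stabilizer G s :=
    (stabilizer_eq G r _).symm
  have e : MulAction.stabilizer G s ≃* MulAction.stabilizer G (g • s) :=
    MulAction.stabilizerEquivStabilizerOfOrbitRel (by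
      rw [MulAction.orbitRel_apply]
      exact ⟨g⁻¹, by simp⟩)
  rw [h1, h2]
  exact (Phi_congr e).symm

lemma card_fiber (O : CommTuple.Orbit G r) [Fintype (CommTuple G r)]
    [DecidablePred fun s : CommTuple G r => Quotient.mk (CommTuple.setoid G r) s = O] :
    ((Finset.univ.filter (fun s : CommTuple G r => Quotient.mk (CommTuple.setoid G r) s = O)).card) *
      Nat.card (Subgroup.centralizer (Set.range (rep G r O).1)) = Nat.card G := by
  have h1 : ((Finset.univ.filter (fun s : CommTuple G r =>
      Quotient.mk (CommTuple.setoid G r) s = O)).card) = Nat.card (MulAction.orbit G (rep G r O)) := by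
    rw [← Nat.card_eq_finsetCard]
    apply Nat.card_congr
    refine Equiv.subtypeEquivRight ?_
    intro s
    rw [Finset.mem_filter]
    simp only [Finset.mem_univ, true_and]
    have e1 : Quotient.mk (CommTuple.setoid G r) (rep G r O) = O :=
      Quotient.out_eq (s := CommTuple.setoid G r) O
    constructor
    · intro h
      rw [← e1] at h
      have := Quotient.exact h
      have h2 : (CommTuple.setoid G r).r (rep G r O) s := (CommTuple.setoid G r).symm this
      exact (setoid_iff G r _ _).mp h2
    · intro h
      rw [← e1]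
      apply Quotient.sound
      exact (CommTuple.setoid G r).symm ((setoid_iff G r _ _).mpr h)
  rw [h1, ← stabilizer_eq, ← Nat.card_prod]
  exact Nat.card_congr (MulAction.orbitProdStabilizerEquivGroup G (rep G r O))

theorem card_smul_inertiaROf :
    (Nat.card G : ℚ) • inertiaROf r G =
      ∑ᶠ s : CommTuple G r, Phi (Subgroup.centralizer (Set.range s.1)) := by
  classical
  have : Fintype (CommTuple G r) := Fintype.ofFinite _
  unfold inertiaROf
  change (Nat.card G : ℚ) • (∑ᶠ O : Quotient (CommTuple.setoid G r),
    cl (Subgroup.centralizer (Set.range (Quotient.out (s := CommTuple.setoid G r) O).1))) = _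
  rw [finsum_eq_sum_of_fintype, finsum_eq_sum_of_fintype]
  rw [← Finset.sum_fiberwise (Finset.univ) (fun s : CommTuple G r => Quotient.mk (CommTuple.setoid G r) s)]
  rw [Finset.smul_sum]
  apply Finset.sum_congr rfl
  intro O _
  have hconst : ∀ s ∈ Finset.univ.filter (fun s : CommTuple G r =>
      Quotient.mk (CommTuple.setoid G r) s = O),
      Phi (Subgroup.centralizer (Set.range s.1)) =
        Phi (Subgroup.centralizer (Set.range (rep G r O).1)) := by
    intro s hs
    rw [Finset.mem_filter] at hs
    have e1 : Quotient.mk (CommTuple.setoid G r) (rep G r O) = O :=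
      Quotient.out_eq (s := CommTuple.setoid G r) O
    have h := hs.2
    rw [← e1] at h
    have h2 : (CommTuple.setoid G r).r (rep G r O) s := (CommTuple.setoid G r).symm (Quotient.exact h)
    obtain ⟨g, hg⟩ := (setoid_iff G r _ _).mp h2
    rw [← hg]
    exact Phi_smul G r g _
  refine Eq.trans ?_ (Finset.sum_congr rfl hconst).symm
  rw [Finset.sum_const]
  have hc := card_fiber G r O
  show _ • cl (Subgroup.centralizer (Set.range (rep G r O).1)) = _
  unfold Phi
  rw [← hc]
  push_cast
  rw [← Nat.cast_smul_eq_nsmul ℚ, smul_smul]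

end

end Groth.Agent.Helper9.Inertia3
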