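import Groth.Agent.Helper9.Inertia3
set_option autoImplicit false
set_option linter.unusedSectionVars false
open W4c5stacksedinertia Groth.Agent.Helper9.Inertia

namespace Groth.Agent.Helper9.Inertia3

section
variable {G H : Type} [Group G] [Group H]

/-- centralizers correspond under an isomorphism -/
def centEquiv (e : G ≃* H) (S : Set G) :
    Subgroup.centralizer S ≃* Subgroup.centralizer (e '' S) where
  toFun x := ⟨e x.1, by
    rw [Subgroup.mem_centralizer_iff]
    rintro _ ⟨y, hy, rfl⟩
    rw [← map_mul, ← map_mul, Subgroup.mem_centralizer_iff.mp x.2 y hy]⟩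
  invFun y := ⟨e.symm y.1, by
    rw [Subgroup.mem_centralizer_iff]
    intro z hz
    have := Subgroup.mem_centralizer_iff.mp y.2 (e z) ⟨z, hz, rfl⟩
    apply e.injective
    simp [this]⟩
  left_inv x := by simp
  right_inv y := by simp
  map_mul' x y := by ext; simp

/-- tuples correspond under an isomorphism -/
def tupleEquiv (e : G ≃* H) (r : ℕ) : CommTuple G r ≃ CommTuple H r where
  toFun s := ⟨fun i => e (s.1 i), fun a b hab => s.2.1 (e.injective hab), fun i j => by
    have := s.2.2 i j
    show e (s.1 i) * e (s.1 j) = e (s.1 j) * e (s.1 i)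
    rw [← map_mul, ← map_mul, this.eq]⟩
  invFun s := ⟨fun i => e.symm (s.1 i), fun a b hab => s.2.1 (e.symm.injective hab), fun i j => by
    have := s.2.2 i j
    show e.symm (s.1 i) * e.symm (s.1 j) = e.symm (s.1 j) * e.symm (s.1 i)
    rw [← map_mul, ← map_mul, this.eq]⟩
  left_inv s := by apply Subtype.ext; funext i; simp
  right_inv s := by apply Subtype.ext; funext i; simp

variable [Finite G] [Finite H]

lemma sum_Phi_congr (e : G ≃* H) (r : ℕ) :
    ∑ᶠ s : CommTuple G r, Phi (Subgroup.centralizer (Set.range s.1)) =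
      ∑ᶠ t : CommTuple H r, Phi (Subgroup.centralizer (Set.range t.1)) := by
  rw [← finsum_comp_equiv (tupleEquiv e r)]
  apply finsum_congr
  intro s
  have h : Set.range (tupleEquiv e r s).1 = e '' Set.range s.1 := by
    rw [← Set.range_comp]; rfl
  rw [h]
  exact Phi_congr (centEquiv e _)

lemma inertiaROf_congr (e : G ≃* H) (r : ℕ) : inertiaROf r G = inertiaROf r H := by
  have h1 := card_smul_inertiaROf G r
  have h2 := card_smul_inertiaROf H r
  rw [sum_Phi_congr e r, ← h2, Nat.card_congr e.toEquiv] at h1
  have hne : (Nat.card H : ℚ) ≠ 0 := by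
    have : 0 < Nat.card H := Nat.card_pos
    positivity
  exact smul_right_injective K hne h1

lemma inertiaR_cl (L : Type) [Group L] [Finite L] (r : ℕ) : inertiaR r (cl L) = inertiaROf r L := by
  unfold inertiaR cl
  rw [Finsupp.linearCombination_single, one_smul]
  obtain ⟨e⟩ := rep_equiv L
  exact inertiaROf_congr e r

end

end Groth.Agent.Helper9.Inertia3
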