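import Groth.Agent.Helper9.Inertia3b
set_option autoImplicit false
set_option linter.unusedSectionVars false
open W4c5stacksedinertia Groth.Agent.Helper9.Inertia

namespace Groth.Agent.Helper9.Inertia3

/-- centraliser inside a centraliser -/
def centSubEquiv {G : Type} [Group G] (S : Set G) (y : Subgroup.centralizer S) :
    Subgroup.centralizer ({y} : Set (Subgroup.centralizer S)) ≃*
      Subgroup.centralizer (insert y.1 S) where
  toFun z := ⟨z.1.1, by
    rw [Subgroup.mem_centralizer_iff]
    intro h hh
    rcases hh with hh | hh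
    · rw [hh]
      have := Subgroup.mem_centralizer_iff.mp z.2 y rfl
      exact congrArg Subtype.val this
    · exact Subgroup.mem_centralizer_iff.mp z.1.2 h hh⟩
  invFun w := ⟨⟨w.1, Subgroup.centralizer_le (Set.subset_insert _ _) w.2⟩, by
    rw [Subgroup.mem_centralizer_iff]
    intro h hh
    rw [Set.mem_singleton_iff] at hh
    rw [hh]
    apply Subtype.ext
    exact Subgroup.mem_centralizer_iff.mp w.2 y.1 (Set.mem_insert _ _)⟩
  left_inv z := rfl
  right_inv w := rfl
  map_mul' a b := rfl

lemma Phi_set_congr {G : Type} [Group G] [Finite G] {S T : Set G} (h : S = T) :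
    Phi (Subgroup.centralizer S) = Phi (Subgroup.centralizer T) := by
  subst h; rfl

section raw
variable (G : Type) [Group G] [Fintype G]

/-- raw commuting tuples -/
def IsCT {r : ℕ} (s : Fin r → G) : Prop := Function.Injective s ∧ ∀ i j, Commute (s i) (s j)

/-- weighted class of the centraliser of a raw tuple -/
noncomputable def F {r : ℕ} (s : Fin r → G) : K := Phi (Subgroup.centralizer (Set.range s))

open Classical in
lemma card_smul_raw (r : ℕ) :
    (Nat.card G : ℚ) • inertiaROf r G = ∑ s : Fin r → G with IsCT G s, F G s := by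
  rw [card_smul_inertiaROf]
  have : Fintype (CommTuple G r) := Fintype.ofFinite _
  rw [finsum_eq_sum_of_fintype]
  symm
  exact Finset.sum_subtype _ (fun s => by rw [Finset.mem_filter]; simp [IsCT]) _

open Classical in
lemma card_smul_one :
    (Nat.card G : ℚ) • inertiaROf 1 G = ∑ y : G, Phi (Subgroup.centralizer ({y} : Set G)) := by
  rw [card_smul_raw]
  rw [Finset.filter_true_of_mem (fun s _ => ⟨Function.injective_of_subsingleton s, fun i j => by
    rw [Subsingleton.elim i j]⟩)]
  rw [← (Equiv.funUnique (Fin 1) G).sum_comp]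
  apply Finset.sum_congr rfl
  intro s _
  unfold F
  exact Phi_set_congr (Set.range_unique)

open Classical in
/-- inner sum for a fixed tuple -/
lemma inner (r : ℕ) (s : Fin r → G) :
    (Nat.card (Subgroup.centralizer (Set.range s)) : ℚ) •
        inertiaROf 1 (Subgroup.centralizer (Set.range s)) =
      ∑ x : G, if x ∈ Subgroup.centralizer (Set.range s) then
        F G (Fin.cons x s : Fin (r + 1) → G) else 0 := by
  rw [card_smul_one]
  rw [← Finset.sum_filter]
  rw [Finset.sum_subtype (Finset.univ.filter (· ∈ Subgroup.centralizer (Set.range s)))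
    (p := (· ∈ Subgroup.centralizer (Set.range s))) (by simp)]
  apply Finset.sum_congr rfl
  intro y _
  unfold F
  rw [Phi_congr (centSubEquiv (Set.range s) y)]
  exact Phi_set_congr (Fin.range_cons _ _).symm

lemma isCT_tail (r : ℕ) (s : Fin r → G) (x : G) (h : IsCT G (Fin.cons x s : Fin (r + 1) → G)) :
    IsCT G s := by
  refine ⟨(Fin.cons_injective_iff.mp h.1).2, fun i j => ?_⟩
  have := h.2 i.succ j.succ
  simpa using this

open Classical in
lemma pointwise (r : ℕ) (s : Fin r → G) (hs : IsCT G s) (x : G) :
    (if x ∈ Subgroup.centralizer (Set.range s) then F G (Fin.cons x s : Fin (r + 1) → G) else 0) =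
      (if IsCT G (Fin.cons x s : Fin (r + 1) → G) then F G (Fin.cons x s : Fin (r + 1) → G)
        else 0) + (if x ∈ Set.range s then F G s else 0) := by
  by_cases hx : x ∈ Set.range s
  · have h1 : x ∈ Subgroup.centralizer (Set.range s) := by
      obtain ⟨i, rfl⟩ := hx
      rw [Subgroup.mem_centralizer_iff]
      rintro _ ⟨j, rfl⟩
      exact (hs.2 j i).eq
    have h2 : ¬ IsCT G (Fin.cons x s : Fin (r + 1) → G) := by
      intro h
      exact (Fin.cons_injective_iff.mp h.1).1 hx
    rw [if_pos h1, if_neg h2, if_pos hx, zero_add]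
    unfold F
    apply Phi_set_congr
    rw [Fin.range_cons, Set.insert_eq_of_mem hx]
  · rw [if_neg hx, add_zero]
    have : x ∈ Subgroup.centralizer (Set.range s) ↔ IsCT G (Fin.cons x s : Fin (r + 1) → G) := by
      constructor
      · intro h
        refine ⟨Fin.cons_injective_iff.mpr ⟨hx, hs.1⟩, ?_⟩
        intro i j
        refine Fin.cases ?_ (fun i' => ?_) i <;> refine Fin.cases ?_ (fun j' => ?_) j
        · simp
        · simp only [Fin.cons_zero, Fin.cons_succ]
          exact (Subgroup.mem_centralizer_iff.mp h _ ⟨j', rfl⟩).symm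
        · simp only [Fin.cons_zero, Fin.cons_succ]
          exact (Subgroup.mem_centralizer_iff.mp h _ ⟨i', rfl⟩)
        · simp only [Fin.cons_succ]
          exact hs.2 i' j'
      · intro h
        rw [Subgroup.mem_centralizer_iff]
        rintro _ ⟨j, rfl⟩
        have := h.2 j.succ 0
        simpa using this.eq
    simp only [this]

open Classical in
theorem key (r : ℕ) :
    inertia (inertiaROf r G) = inertiaROf (r + 1) G + (r : ℚ) • inertiaROf r G := by
  have hne : (Nat.card G : ℚ) ≠ 0 := by
    have : 0 < Nat.card G := Nat.card_pos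
    positivity
  apply smul_right_injective K hne
  show (Nat.card G : ℚ) • inertia (inertiaROf r G) =
    (Nat.card G : ℚ) • (inertiaROf (r + 1) G + (r : ℚ) • inertiaROf r G)
  rw [← map_smul, smul_add, smul_comm, card_smul_raw, card_smul_raw, map_sum]
  have h1 : ∀ s : Fin r → G, inertia (F G s) =
      ∑ x : G, if x ∈ Subgroup.centralizer (Set.range s) then
        F G (Fin.cons x s : Fin (r + 1) → G) else 0 := by
    intro s
    unfold F Phi
    rw [map_smul, inertiaR_cl, inner]
    rfl
  have h2 : ∑ u : Fin (r + 1) → G with IsCT G u, F G u =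
      ∑ s : Fin r → G, ∑ x : G, if IsCT G (Fin.cons x s : Fin (r + 1) → G) then
        F G (Fin.cons x s : Fin (r + 1) → G) else 0 := by
    rw [Finset.sum_filter, ← (Fin.consEquiv (fun _ => G)).sum_comp, Fintype.sum_prod_type,
      Finset.sum_comm]
    rfl
  have h3 : ∀ s : Fin r → G, IsCT G s → inertia (F G s) =
      (∑ x : G, if IsCT G (Fin.cons x s : Fin (r + 1) → G) then
        F G (Fin.cons x s : Fin (r + 1) → G) else 0) + (r : ℚ) • F G s := by
    intro s hs
    rw [h1, Finset.sum_congr rfl (fun x _ => pointwise G r s hs x), Finset.sum_add_distrib]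
    congr 1
    rw [← Finset.sum_filter, Finset.sum_const]
    have hc : (Finset.univ.filter (fun x => x ∈ Set.range s)).card = r := by
      have : Finset.univ.filter (fun x => x ∈ Set.range s) = Finset.univ.image s := by
        ext x; simp
      rw [this, Finset.card_image_of_injective _ hs.1, Finset.card_univ, Fintype.card_fin]
    rw [hc, Nat.cast_smul_eq_nsmul]
  rw [Finset.sum_congr rfl (fun s hs => h3 s (Finset.mem_filter.mp hs).2), Finset.sum_add_distrib,
    ← Finset.smul_sum, h2]
  congr 1
  rw [Finset.sum_filter]
  apply Finset.sum_congr rfl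
  intro s _
  by_cases hs : IsCT G s
  · rw [if_pos hs]
  · rw [if_neg hs]
    symm
    apply Finset.sum_eq_zero
    intro x _
    rw [if_neg]
    intro h
    exact hs (isCT_tail G r s x h)

end raw

end Groth.Agent.Helper9.Inertia3
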