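import Groth.Agent.Helper9.Inertia3c
set_option autoImplicit false
set_option linter.unusedSectionVars false
open W4c5stacksedinertia Groth.Agent.Helper9.Inertia

namespace Groth.Agent.Helper9.Inertia3

lemma inertiaR_single (r : ℕ) (i : Idx) (a : ℚ) :
    inertiaR r (Finsupp.single i a) = a • inertiaROf r i.rep := by
  unfold inertiaR
  rw [Finsupp.linearCombination_single]

/-- the recursion `I ∘ I_r = I_{r+1} + r I_r` -/
theorem inertia_comp (r : ℕ) (v : K) :
    inertia (inertiaR r v) = inertiaR (r + 1) v + (r : ℚ) • inertiaR r v := by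
  have h : inertia ∘ₗ inertiaR r = inertiaR (r + 1) + (r : ℚ) • inertiaR r := by
    apply Finsupp.lhom_ext
    intro i a
    simp only [LinearMap.comp_apply, LinearMap.add_apply, LinearMap.smul_apply, inertiaR_single]
    have : Fintype i.rep := Fintype.ofFinite _
    rw [map_smul, key i.rep r, smul_add, smul_comm a]
  exact LinearMap.congr_fun h v

open Classical in
lemma inertiaROf_zero (G : Type) [Group G] [Finite G] : inertiaROf 0 G = cl G := by
  have : Fintype G := Fintype.ofFinite _
  have hne : (Nat.card G : ℚ) ≠ 0 := by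
    have : 0 < Nat.card G := Nat.card_pos
    positivity
  apply smul_right_injective K hne
  show (Nat.card G : ℚ) • inertiaROf 0 G = (Nat.card G : ℚ) • cl G
  rw [card_smul_raw]
  rw [Finset.filter_true_of_mem (fun s _ => ⟨Function.injective_of_subsingleton s, fun i j => i.elim0⟩)]
  rw [Finset.univ_unique, Finset.sum_singleton]
  unfold F
  have h1 : Set.range (default : Fin 0 → G) = ∅ := Set.range_eq_empty _
  rw [Phi_set_congr h1]
  have h2 : Subgroup.centralizer (∅ : Set G) = ⊤ := by
    rw [Subgroup.centralizer_eq_top_iff_subset]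
    exact Set.empty_subset _
  have e : Subgroup.centralizer (∅ : Set G) ≃* G := by
    rw [h2]
    exact Subgroup.topEquiv
  rw [Phi_congr e]
  rfl

theorem inertiaR_zero (v : K) : inertiaR 0 v = v := by
  have h : inertiaR 0 = LinearMap.id := by
    apply Finsupp.lhom_ext
    intro i a
    rw [inertiaR_single, inertiaROf_zero, LinearMap.id_apply]
    unfold cl
    rw [of_rep, Finsupp.smul_single, smul_eq_mul, mul_one]
  rw [h, LinearMap.id_apply]

theorem inertiaR_succ (r : ℕ) (v : K) :
    inertiaR (r + 1) v = inertia (inertiaR r v) - (r : ℚ) • inertiaR r v := by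
  rw [inertia_comp, add_sub_cancel_right]

/-- eigenvectors of the inertia operator are eigenvectors of all `inertiaR r` -/
theorem inertiaR_eigen (k : ℕ) (v : K) (hv : inertia v = (k : ℚ) • v) (r : ℕ) :
    inertiaR r v = ((k.descFactorial r : ℕ) : ℚ) • v := by
  induction r with
  | zero => rw [inertiaR_zero, Nat.descFactorial_zero, Nat.cast_one, one_smul]
  | succ r ih =>
    rw [inertiaR_succ, ih, map_smul, hv, smul_smul, smul_smul, ← sub_smul, Nat.descFactorial_succ]
    congr 1
    by_cases h : r ≤ k
    · rw [Nat.cast_mul, Nat.cast_sub h]; ring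
    · have : k.descFactorial r = 0 := Nat.descFactorial_eq_zero_iff_lt.mpr (by omega)
      rw [this]; simp

end Groth.Agent.Helper9.Inertia3
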