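import Groth.Agent.Helper9.Inertia3d
set_option autoImplicit false
set_option linter.unusedSectionVars false
open W4c5stacksedinertia Groth.Agent.Helper9.Inertia Polynomial

namespace Groth.Agent.Helper9.Inertia3

/-- `Q r = ∏_{j<r} (X - j)` -/
noncomputable def Q : ℕ → ℚ[X]
  | 0 => 1
  | (m + 1) => (X - C ((m : ℕ) : ℚ)) * Q m

lemma coprime_Q (m : ℕ) : ∀ j : ℕ, m ≤ j → IsCoprime (X - C ((j : ℕ) : ℚ)) (Q m) := by
  induction m with
  | zero => intro j _; exact isCoprime_one_right
  | succ m ih =>
    intro j hj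
    show IsCoprime _ ((X - C ((m : ℕ) : ℚ)) * Q m)
    apply IsCoprime.mul_right
    · apply Polynomial.isCoprime_X_sub_C_of_isUnit_sub
      apply IsUnit.mk0
      have : ((j : ℕ) : ℚ) ≠ ((m : ℕ) : ℚ) := by
        intro h; have := Nat.cast_injective h; omega
      exact sub_ne_zero.mpr this
    · exact ih j (by omega)

theorem inertiaR_eq_aeval (r : ℕ) : inertiaR r = aeval inertia (Q r) := by
  induction r with
  | zero =>
    show inertiaR 0 = aeval inertia (1 : ℚ[X])
    rw [map_one]
    exact LinearMap.ext (fun w => inertiaR_zero w)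
  | succ r ih =>
    show inertiaR (r + 1) = aeval inertia ((X - C ((r : ℕ) : ℚ)) * Q r)
    rw [map_mul, aeval_linear, ← ih]
    apply LinearMap.ext
    intro v
    rw [inertiaR_succ]
    rfl

theorem ker_inertiaR (r : ℕ) :
    LinearMap.ker (inertiaR r) = ⨆ k ∈ Finset.range r, Module.End.eigenspace inertia (k : ℚ) := by
  rw [inertiaR_eq_aeval]
  induction r with
  | zero =>
    show LinearMap.ker (aeval inertia (1 : ℚ[X])) = _
    rw [map_one]
    simp only [Finset.range_zero, Finset.notMem_empty, iSup_false, iSup_bot]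
    exact LinearMap.ker_id
  | succ r ih =>
    show LinearMap.ker (aeval inertia ((X - C ((r : ℕ) : ℚ)) * Q r)) = _
    rw [← sup_ker_aeval_eq_ker_aeval_mul_of_coprime inertia (coprime_Q r r le_rfl), ih,
      Finset.range_add_one, Finset.iSup_insert, aeval_linear, ← Module.End.eigenspace_def]

end Groth.Agent.Helper9.Inertia3
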