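import Groth.Agent.Helper9.Inertia3e
set_option autoImplicit false
set_option linter.unusedSectionVars false
open W4c5stacksedinertia Groth.Agent.Helper9.Inertia Polynomial

namespace Groth.Agent.Helper9.Inertia3

lemma binom_inv (n k M : ℕ) (hM : n < M) :
    ∑ r ∈ Finset.range M, ((-1 : ℚ) ^ (r + k) * (r.choose k : ℚ) * (n.choose r : ℚ)) =
      if k = n then 1 else 0 := by
  have h0 : ∑ r ∈ Finset.range M, ((-1 : ℚ) ^ (r + k) * (r.choose k : ℚ) * (n.choose r : ℚ)) =
      ∑ r ∈ Finset.range (n + 1), ((-1 : ℚ) ^ (r + k) * (r.choose k : ℚ) * (n.choose r : ℚ)) := by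
    symm
    apply Finset.sum_subset (Finset.range_mono (by omega))
    intro r _ hr
    rw [Finset.mem_range] at hr
    rw [Nat.choose_eq_zero_of_lt (by omega : n < r)]
    simp
  rw [h0]
  by_cases hk : k ≤ n
  · have h1 : ∀ r ∈ Finset.range (n + 1),
        (-1 : ℚ) ^ (r + k) * (r.choose k : ℚ) * (n.choose r : ℚ) =
          if k ≤ r then (n.choose k : ℚ) * ((-1 : ℚ) ^ (r - k) * ((n - k).choose (r - k) : ℚ))
          else 0 := by
      intro r hr
      split_ifs with h
      · have hcm := Nat.choose_mul (n := n) (k := r) (s := k) h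
        have hs : (-1 : ℚ) ^ (r + k) = (-1) ^ (r - k) := by
          obtain ⟨j, rfl⟩ := Nat.exists_eq_add_of_le h
          rw [show k + j + k = j + 2 * k by ring, show k + j - k = j by omega, pow_add, pow_mul]
          simp
        rw [hs]
        have hq : (n.choose r : ℚ) * (r.choose k : ℚ) =
            (n.choose k : ℚ) * ((n - k).choose (r - k) : ℚ) := by
          exact_mod_cast hcm
        linear_combination (-1 : ℚ) ^ (r - k) * hq
      · rw [Nat.choose_eq_zero_of_lt (by omega : r < k)]
        simp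
    rw [Finset.sum_congr rfl h1, ← Finset.sum_filter]
    have h2 : (Finset.range (n + 1)).filter (fun r => k ≤ r) = Finset.Ico k (n + 1) := by
      ext r
      simp only [Finset.mem_filter, Finset.mem_range, Finset.mem_Ico]
      omega
    rw [h2, Finset.sum_Ico_eq_sum_range, ← Finset.mul_sum]
    have h3 : ∀ j ∈ Finset.range (n + 1 - k),
        (-1 : ℚ) ^ (k + j - k) * ((n - k).choose (k + j - k) : ℚ) =
          (-1) ^ j * ((n - k).choose j : ℚ) := by
      intro j _
      rw [Nat.add_sub_cancel_left]
    rw [Finset.sum_congr rfl h3, show n + 1 - k = (n - k) + 1 by omega]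
    have h4 := Int.alternating_sum_range_choose (n := n - k)
    have h5 : (∑ m ∈ Finset.range (n - k + 1), ((-1 : ℚ) ^ m * ((n - k).choose m : ℚ))) =
        if n - k = 0 then 1 else 0 := by
      exact_mod_cast h4
    rw [h5]
    by_cases hkn : k = n
    · subst hkn
      simp
    · rw [if_neg (by omega), if_neg hkn, mul_zero]
  · rw [if_neg (by omega)]
    apply Finset.sum_eq_zero
    intro r hr
    rw [Finset.mem_range] at hr
    rw [Nat.choose_eq_zero_of_lt (by omega : r < k)]
    simp

lemma inertiaROf_eq_zero (G : Type) [Group G] [Finite G] (r : ℕ) (h : Nat.card G < r) :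
    inertiaROf r G = 0 := by
  classical
  have : Fintype G := Fintype.ofFinite _
  have hne : (Nat.card G : ℚ) ≠ 0 := by
    have : 0 < Nat.card G := Nat.card_pos
    positivity
  apply smul_right_injective K hne
  show (Nat.card G : ℚ) • inertiaROf r G = (Nat.card G : ℚ) • (0 : K)
  rw [card_smul_raw, smul_zero]
  apply Finset.sum_eq_zero
  intro s hs
  exfalso
  have h1 := (Finset.mem_filter.mp hs).2.1
  have h2 := Fintype.card_le_of_injective s h1
  rw [Fintype.card_fin, ← Nat.card_eq_fintype_card] at h2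
  omega

lemma inertiaR_eq_zero_of_Kle (N r : ℕ) (h : N < r) (v : K) (hv : v ∈ Kle N) :
    inertiaR r v = 0 := by
  unfold inertiaR
  rw [Finsupp.linearCombination_apply, Finsupp.sum]
  apply Finset.sum_eq_zero
  intro i hi
  have hi' : i.card ≤ N := by
    unfold Kle at hv
    rw [Finsupp.mem_supported] at hv
    exact hv hi
  rw [inertiaROf_eq_zero i.rep r (by unfold Idx.card at hi'; omega), smul_zero]

theorem eigenproj (v : K) :
    (∀ k : ℕ, (∑ᶠ r : ℕ, (((-1 : ℚ) ^ (r + k)) / (Nat.factorial r : ℚ) * (Nat.choose r k : ℚ)) •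
        inertiaR r v) ∈ Module.End.eigenspace inertia (k : ℚ)) ∧
    (∑ᶠ k : ℕ, ∑ᶠ r : ℕ, (((-1 : ℚ) ^ (r + k)) / (Nat.factorial r : ℚ) * (Nat.choose r k : ℚ)) •
        inertiaR r v) = v := by
  obtain ⟨N, hN⟩ := exists_Kle v
  have hker : v ∈ LinearMap.ker (inertiaR (N + 1)) :=
    LinearMap.mem_ker.mpr (inertiaR_eq_zero_of_Kle N (N + 1) (by omega) v hN)
  rw [ker_inertiaR, Submodule.mem_iSup_finset_iff_exists_sum] at hker
  obtain ⟨μ, hμ⟩ := hker
  set M := N + 1 with hM
  have hI : ∀ r, inertiaR r v =
      ∑ n ∈ Finset.range M, ((n.descFactorial r : ℕ) : ℚ) • (μ n : K) := by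
    intro r
    rw [← hμ, map_sum]
    apply Finset.sum_congr rfl
    intro n _
    exact inertiaR_eigen n _ (Module.End.mem_eigenspace_iff.mp (μ n).2) r
  have hP : ∀ k, (∑ᶠ r : ℕ, (((-1 : ℚ) ^ (r + k)) / (Nat.factorial r : ℚ) *
      (Nat.choose r k : ℚ)) • inertiaR r v) = if k < M then (μ k : K) else 0 := by
    intro k
    have hsupp : Function.support (fun r : ℕ => (((-1 : ℚ) ^ (r + k)) / (Nat.factorial r : ℚ) *
        (Nat.choose r k : ℚ)) • inertiaR r v) ⊆ ↑(Finset.range M) := by
      intro r hr
      by_contra h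
      apply hr
      rw [Finset.mem_coe, Finset.mem_range, not_lt] at h
      show _ • inertiaR r v = 0
      rw [hI, Finset.sum_eq_zero, smul_zero]
      intro n hn
      rw [Finset.mem_range] at hn
      rw [Nat.descFactorial_eq_zero_iff_lt.mpr (by omega), Nat.cast_zero, zero_smul]
    rw [finsum_eq_sum_of_support_subset _ hsupp]
    have h1 : ∀ r ∈ Finset.range M, (((-1 : ℚ) ^ (r + k)) / (Nat.factorial r : ℚ) *
        (Nat.choose r k : ℚ)) • inertiaR r v =
        ∑ n ∈ Finset.range M, ((-1 : ℚ) ^ (r + k) * (r.choose k : ℚ) * (n.choose r : ℚ)) •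
          (μ n : K) := by
      intro r _
      rw [hI, Finset.smul_sum]
      apply Finset.sum_congr rfl
      intro n _
      rw [smul_smul, Nat.descFactorial_eq_factorial_mul_choose]
      congr 1
      have : (r.factorial : ℚ) ≠ 0 := by exact_mod_cast Nat.factorial_ne_zero r
      push_cast
      field_simp
    rw [Finset.sum_congr rfl h1, Finset.sum_comm]
    have h2 : ∀ n ∈ Finset.range M,
        ∑ r ∈ Finset.range M, ((-1 : ℚ) ^ (r + k) * (r.choose k : ℚ) * (n.choose r : ℚ)) •
          (μ n : K) = if k = n then (μ n : K) else 0 := by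
      intro n hn
      rw [← Finset.sum_smul, binom_inv n k M (Finset.mem_range.mp hn)]
      split_ifs <;> simp
    rw [Finset.sum_congr rfl h2, Finset.sum_ite_eq]
    simp only [Finset.mem_range]
  constructor
  · intro k
    rw [hP]
    split_ifs
    · exact (μ k).2
    · exact Submodule.zero_mem _
  · simp_rw [hP]
    rw [finsum_eq_sum_of_support_subset (s := Finset.range M)]
    · rw [← hμ]
      apply Finset.sum_congr rfl
      intro k hk
      rw [if_pos (Finset.mem_range.mp hk)]
    · intro k hk
      by_contra h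
      apply hk
      rw [Finset.mem_coe, Finset.mem_range] at h
      show (if k < M then (μ k : K) else 0) = 0
      rw [if_neg h]

end Groth.Agent.Helper9.Inertia3
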