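import Mathlib

set_option autoImplicit false
open CategoryTheory CategoryTheory.Limits
universe v u

namespace Groth.Agent.Helper9.SplitAc

variable {C : Type u} [Category.{v} C] [Abelian C]

section Inj

variable (Q : CochainComplex C ℕ)

theorem epi_toCycles (i : ℕ) (h : IsZero (Q.homology (i + 1))) : Epi (Q.toCycles i (i + 1)) := by
  apply Preadditive.epi_of_cancel_zero
  intro P g hg
  have hc := Q.homologyIsCokernel i (i + 1) (by simp)
  have h1 : Q.homologyπ (i + 1) ≫ hc.desc (CokernelCofork.ofπ g hg) = g :=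
    hc.fac _ WalkingParallelPair.one
  have h2 : ∀ (x : Q.homology (i + 1) ⟶ P), Q.homologyπ (i + 1) ≫ x = 0 := fun x => by
    rw [h.eq_of_src x 0, comp_zero]
  rw [← h1]
  exact h2 _

theorem iCycles_toCycles (i : ℕ) : Q.iCycles i ≫ Q.toCycles i (i + 1) = 0 := by
  rw [← cancel_mono (Q.iCycles (i + 1)), Category.assoc, Q.toCycles_i, Q.iCycles_d, zero_comp]

/-- The short complex `Z^i ⟶ Q^i ⟶ Z^{i+1}`. -/
noncomputable def sc (i : ℕ) : ShortComplex C :=
  ShortComplex.mk (Q.iCycles i) (Q.toCycles i (i + 1)) (iCycles_toCycles Q i)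

theorem sc_exact (i : ℕ) : (sc Q i).Exact := by
  apply ShortComplex.exact_of_f_is_kernel
  exact isKernelOfComp (Q.iCycles (i + 1)) (Q.d i (i + 1)) (Q.cyclesIsKernel i (i + 1) (by simp))
    (iCycles_toCycles Q i) (Q.toCycles_i i (i + 1))

variable (hac : ∀ i : ℕ, IsZero (Q.homology (i + 1)))
  (r : ∀ i : ℕ, Q.X i ⟶ Q.cycles i) (hr : ∀ i, Q.iCycles i ≫ r i = 𝟙 _)

/-- The splitting of `Z^i ⟶ Q^i ⟶ Z^{i+1}` given by the retraction. -/
noncomputable def spl (i : ℕ) : (sc Q i).Splitting :=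
  ShortComplex.Splitting.ofExactOfRetraction (sc Q i) (sc_exact Q i) (r i) (hr i)
    (epi_toCycles Q i (hac i))

include hr in
/-- A chain map to `Q` is determined by its components to the cycles. -/
theorem hom_ext_of_comp_r {Y : CochainComplex C ℕ} (h h' : Y ⟶ Q)
    (hh : ∀ i, h.f i ≫ r i = h'.f i ≫ r i) : h = h' := by
  suffices H : ∀ (δ : Y ⟶ Q), (∀ i, δ.f i ≫ r i = 0) → δ = 0 by
    have := H (h - h') (fun i => by
      rw [HomologicalComplex.sub_f_apply, Preadditive.sub_comp, hh i, sub_self])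
    exact sub_eq_zero.1 this
  intro δ hδ
  ext i
  have h1 : δ.f i ≫ Q.toCycles i (i + 1) = 0 := by
    have h2 : δ.f i ≫ Q.toCycles i (i + 1) =
        (δ.f i ≫ Q.d i (i + 1)) ≫ r (i + 1) := by
      rw [← Q.toCycles_i i (i + 1), Category.assoc, Category.assoc, hr (i + 1), Category.comp_id]
    rw [h2, δ.comm i (i + 1), Category.assoc, hδ (i + 1), comp_zero]
  have h3 : δ.f i ≫ Q.d i (i + 1) = 0 := by
    rw [← Q.toCycles_i i (i + 1), ← Category.assoc, h1, zero_comp]
  have h4 : δ.f i = Q.liftCycles (δ.f i) (i + 1) (by simp) h3 ≫ Q.iCycles i :=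
    (Q.liftCycles_i _ _ _ _).symm
  have h5 : Q.liftCycles (δ.f i) (i + 1) (by simp) h3 = 0 := by
    have := congrArg (fun t => t ≫ r i) h4
    simp only [Category.assoc, hr i, Category.comp_id, hδ i] at this
    exact this.symm
  rw [h4, h5, zero_comp, HomologicalComplex.zero_f]

include hac hr in
/-- Any family of maps to the cycles comes from a chain map to `Q`. -/
theorem exists_hom_of_family {Y : CochainComplex C ℕ} (k : ∀ i, Y.X i ⟶ Q.cycles i) :
    ∃ h : Y ⟶ Q, ∀ i, h.f i ≫ r i = k i := by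
  let s : ∀ i, Q.cycles (i + 1) ⟶ Q.X i := fun i => (spl Q hac r hr i).s
  have hsg : ∀ i, s i ≫ Q.toCycles i (i + 1) = 𝟙 _ := fun i => (spl Q hac r hr i).s_g
  have hsr : ∀ i, s i ≫ r i = 0 := fun i => (spl Q hac r hr i).s_r
  refine ⟨{ f := fun i => k i ≫ Q.iCycles i + Y.d i (i + 1) ≫ k (i + 1) ≫ s i
            comm' := ?_ }, ?_⟩
  · intro i j hij
    obtain rfl : i + 1 = j := hij
    have e1 : (k i ≫ Q.iCycles i + Y.d i (i + 1) ≫ k (i + 1) ≫ s i) ≫ Q.d i (i + 1) =
        Y.d i (i + 1) ≫ k (i + 1) ≫ Q.iCycles (i + 1) := by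
      rw [Preadditive.add_comp, Category.assoc, Q.iCycles_d, comp_zero, zero_add,
        ← Q.toCycles_i i (i + 1)]
      simp only [Category.assoc]
      rw [reassoc_of% (hsg i)]
    rw [e1, Preadditive.comp_add, HomologicalComplex.d_comp_d_assoc, zero_comp, add_zero]
  · intro i
    change (k i ≫ Q.iCycles i + Y.d i (i + 1) ≫ k (i + 1) ≫ s i) ≫ r i = k i
    rw [Preadditive.add_comp, Category.assoc, hr i, Category.comp_id]
    simp only [Category.assoc, hsr i, comp_zero, add_zero]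

include hac hr in
theorem injective_of_split (hinj : ∀ i : ℕ, Injective (Q.X i)) : Injective Q where
  factors {X Y} g f hf := by
    haveI : ∀ i, Injective (Q.cycles i) := fun i =>
      ⟨fun {A B} a b hb => by
        refine ⟨Injective.factorThru (a ≫ Q.iCycles i) b ≫ r i, ?_⟩
        rw [← Category.assoc, Injective.comp_factorThru, Category.assoc, hr i, Category.comp_id]⟩
    obtain ⟨h, hh⟩ := exists_hom_of_family Q hac r hr
      (fun i => Injective.factorThru (g.f i ≫ r i) (f.f i))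
    refine ⟨h, ?_⟩
    apply hom_ext_of_comp_r Q r hr
    intro i
    rw [HomologicalComplex.comp_f, Category.assoc, hh i, Injective.comp_factorThru]

theorem injective_of_isSplitMono (hinj : ∀ i : ℕ, Injective (Q.X i))
    (hac : ∀ i : ℕ, IsZero (Q.homology (i + 1)))
    (hsplit : ∀ i : ℕ, IsSplitMono (Q.iCycles i)) : Injective Q :=
  injective_of_split Q hac (fun i => @retraction _ _ _ _ (Q.iCycles i) (hsplit i))
    (fun i => @IsSplitMono.id _ _ _ _ (Q.iCycles i) (hsplit i)) hinj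

end Inj

section Emb

set_option backward.isDefEq.respectTransparency false
set_option backward.isDefEq.respectTransparency.types false

variable (I : ℕ → C)

/-- The complex with `Q^i = I^i ⊞ I^{i+1}` and differential `(x, y) ↦ (y, 0)`. -/
noncomputable def QQ : CochainComplex C ℕ :=
  CochainComplex.of (fun i => I i ⊞ I (i + 1)) (fun _ => biprod.snd ≫ biprod.inl)
    (fun i => by simp)

/-- The first projection `Q^i ⟶ I^i`. -/
noncomputable def p1 (i : ℕ) : (QQ I).X i ⟶ I i := (biprod.fst : I i ⊞ I (i + 1) ⟶ _)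
/-- The second projection `Q^i ⟶ I^{i+1}`. -/
noncomputable def p2 (i : ℕ) : (QQ I).X i ⟶ I (i + 1) := (biprod.snd : I i ⊞ I (i + 1) ⟶ _)
/-- The first inclusion `I^i ⟶ Q^i`. -/
noncomputable def i1 (i : ℕ) : I i ⟶ (QQ I).X i := (biprod.inl : _ ⟶ I i ⊞ I (i + 1))
/-- The second inclusion `I^{i+1} ⟶ Q^i`. -/
noncomputable def i2 (i : ℕ) : I (i + 1) ⟶ (QQ I).X i := (biprod.inr : _ ⟶ I i ⊞ I (i + 1))

theorem i1_p1 (i : ℕ) : i1 I i ≫ p1 I i = 𝟙 _ := biprod.inl_fst
theorem i1_p2 (i : ℕ) : i1 I i ≫ p2 I i = 0 := biprod.inl_snd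
theorem i2_p1 (i : ℕ) : i2 I i ≫ p1 I i = 0 := biprod.inr_fst
theorem i2_p2 (i : ℕ) : i2 I i ≫ p2 I i = 𝟙 _ := biprod.inr_snd
theorem total (i : ℕ) : p1 I i ≫ i1 I i + p2 I i ≫ i2 I i = 𝟙 _ := biprod.total

theorem hom_ext_QQ {A : C} (i : ℕ) {x y : A ⟶ (QQ I).X i} (h1 : x ≫ p1 I i = y ≫ p1 I i)
    (h2 : x ≫ p2 I i = y ≫ p2 I i) : x = y := by
  rw [← Category.comp_id x, ← Category.comp_id y, ← total I i, Preadditive.comp_add,
    Preadditive.comp_add, reassoc_of% h1, reassoc_of% h2]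

theorem QQ_d (i : ℕ) : (QQ I).d i (i + 1) = p2 I i ≫ i1 I (i + 1) := by
  dsimp only [QQ, p2, i1]
  exact CochainComplex.of_d _ _ i

theorem QQ_homology_isZero (i : ℕ) : IsZero ((QQ I).homology (i + 1)) := by
  rw [← HomologicalComplex.exactAt_iff_isZero_homology,
    HomologicalComplex.exactAt_iff' (QQ I) i (i + 1) (i + 1 + 1) (by simp) (by simp),
    ShortComplex.exact_iff_exact_up_to_refinements]
  intro A x₂ hx₂
  change A ⟶ (QQ I).X (i + 1) at x₂
  change x₂ ≫ (QQ I).d (i + 1) (i + 1 + 1) = 0 at hx₂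
  rw [QQ_d] at hx₂
  have h1 : x₂ ≫ p2 I (i + 1) = 0 := by
    have := congrArg (fun t => t ≫ p1 I (i + 1 + 1)) hx₂
    simpa only [Category.assoc, i1_p1, Category.comp_id, zero_comp] using this
  refine ⟨A, 𝟙 A, inferInstance, (x₂ ≫ p1 I (i + 1)) ≫ i2 I i, ?_⟩
  change 𝟙 A ≫ x₂ = ((x₂ ≫ p1 I (i + 1)) ≫ i2 I i) ≫ (QQ I).d i (i + 1)
  rw [QQ_d, Category.id_comp]
  apply hom_ext_QQ
  · simp only [Category.assoc, i1_p1, Category.comp_id]
    rw [i2_p2, Category.comp_id]
  · simp only [Category.assoc, i1_p2, comp_zero, h1]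

theorem QQ_iCycles_p2 (i : ℕ) : (QQ I).iCycles i ≫ p2 I i = 0 := by
  have h := (QQ I).iCycles_d i (i + 1)
  rw [QQ_d] at h
  have := congrArg (fun t => t ≫ p1 I (i + 1)) h
  simpa only [Category.assoc, i1_p1, Category.comp_id, zero_comp] using this

theorem QQ_isSplitMono (i : ℕ) : IsSplitMono ((QQ I).iCycles i) := by
  have h0 : (p1 I i ≫ i1 I i) ≫ (QQ I).d i (i + 1) = 0 := by
    rw [QQ_d, Category.assoc, reassoc_of% (i1_p2 I i), zero_comp, comp_zero]
  refine ⟨⟨⟨(QQ I).liftCycles (p1 I i ≫ i1 I i) (i + 1) (by simp) h0, ?_⟩⟩⟩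
  rw [← cancel_mono ((QQ I).iCycles i), Category.assoc, HomologicalComplex.liftCycles_i,
    Category.id_comp]
  have h1 := QQ_iCycles_p2 I i
  have h2 : (QQ I).iCycles i = (QQ I).iCycles i ≫ (p1 I i ≫ i1 I i + p2 I i ≫ i2 I i) := by
    rw [total]; exact (Category.comp_id _).symm
  rw [Preadditive.comp_add, reassoc_of% h1, zero_comp, add_zero] at h2
  exact h2.symm

variable {I}

/-- The component of the embedding. -/
noncomputable def embF (A : CochainComplex C ℕ) (j : ∀ i, A.X i ⟶ I i) (i : ℕ) :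
    A.X i ⟶ (QQ I).X i :=
  j i ≫ i1 I i + (A.d i (i + 1) ≫ j (i + 1)) ≫ i2 I i

theorem embF_p1 (A : CochainComplex C ℕ) (j : ∀ i, A.X i ⟶ I i) (i : ℕ) :
    embF A j i ≫ p1 I i = j i := by
  rw [embF, Preadditive.add_comp, Category.assoc, i1_p1, Category.comp_id, Category.assoc,
    i2_p1, comp_zero, add_zero]

theorem embF_p2 (A : CochainComplex C ℕ) (j : ∀ i, A.X i ⟶ I i) (i : ℕ) :
    embF A j i ≫ p2 I i = A.d i (i + 1) ≫ j (i + 1) := by
  rw [embF, Preadditive.add_comp, Category.assoc, i1_p2, comp_zero, Category.assoc,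
    i2_p2, Category.comp_id, zero_add]

/-- The embedding of `A` into `QQ I` determined by maps `A^i ⟶ I^i`. -/
noncomputable def emb (A : CochainComplex C ℕ) (j : ∀ i, A.X i ⟶ I i) : A ⟶ QQ I where
  f i := embF A j i
  comm' i k hik := by
    obtain rfl : i + 1 = k := hik
    rw [QQ_d, reassoc_of% (embF_p2 A j i)]
    apply hom_ext_QQ
    · simp only [Category.assoc, i1_p1, Category.comp_id, embF_p1]
    · simp only [Category.assoc, i1_p2, comp_zero, embF_p2, HomologicalComplex.d_comp_d_assoc,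
        zero_comp]

theorem mono_emb (A : CochainComplex C ℕ) (j : ∀ i, A.X i ⟶ I i) [∀ i, Mono (j i)] :
    Mono (emb A j) := by
  apply HomologicalComplex.mono_of_mono_f
  intro i
  haveI : Mono ((emb A j).f i ≫ p1 I i) := by
    change Mono (embF A j i ≫ p1 I i)
    rw [embF_p1]; infer_instance
  exact mono_of_mono ((emb A j).f i) (p1 I i)

end Emb

theorem exists_embedding [EnoughInjectives C] (A : CochainComplex C ℕ) :
    ∃ (Q : CochainComplex C ℕ) (f : A ⟶ Q), Mono f ∧ (∀ i : ℕ, Injective (Q.X i)) ∧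
      (∀ i : ℕ, IsZero (Q.homology (i + 1))) ∧ ∀ i : ℕ, IsSplitMono (Q.iCycles i) := by
  refine ⟨QQ (fun i => Injective.under (A.X i)), emb A (fun i => Injective.ι (A.X i)),
    mono_emb A _, ?_, QQ_homology_isZero _, QQ_isSplitMono _⟩
  intro i
  change Injective (Injective.under (A.X i) ⊞ Injective.under (A.X (i + 1)))
  infer_instance

end Groth.Agent.Helper9.SplitAc
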