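import Mathlib
import Groth.Agent.Helper9.SplitAc

set_option autoImplicit false
open CategoryTheory CategoryTheory.Limits
universe v u

namespace Groth.Agent.Helper9.InjOver

open Groth.Agent.Helper9.SplitAc
open ZeroObject

variable {C : Type u} [Category.{v} C] [Abelian C]

/-- A split epimorphism is, up to an isomorphism of the source, a first projection. -/
theorem exists_iso_biprod_of_section {W Z : C} (g : W ⟶ Z) (s : Z ⟶ W) (hs : s ≫ g = 𝟙 Z) :
    ∃ (K : C) (e : W ≅ Z ⊞ K), g = e.hom ≫ biprod.fst := by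
  have h0 : (𝟙 W - g ≫ s) ≫ g = 0 := by
    rw [Preadditive.sub_comp, Category.assoc, hs, Category.comp_id, Category.id_comp, sub_self]
  have h1 : s ≫ kernel.lift g (𝟙 W - g ≫ s) h0 = 0 := by
    rw [← cancel_mono (kernel.ι g), Category.assoc, kernel.lift_ι, Preadditive.comp_sub,
      Category.comp_id, reassoc_of% hs, sub_self, zero_comp]
  have h2 : kernel.ι g ≫ kernel.lift g (𝟙 W - g ≫ s) h0 = 𝟙 _ := by
    rw [← cancel_mono (kernel.ι g), Category.assoc, kernel.lift_ι, Preadditive.comp_sub,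
      Category.comp_id, kernel.condition_assoc, zero_comp, sub_zero, Category.id_comp]
  refine ⟨kernel g, ⟨biprod.lift g (kernel.lift g (𝟙 W - g ≫ s) h0),
    biprod.desc s (kernel.ι g), ?_, ?_⟩, ?_⟩
  · rw [biprod.lift_desc, kernel.lift_ι]; abel
  · apply biprod.hom_ext'
    · rw [biprod.inl_desc_assoc, Category.comp_id]
      apply biprod.hom_ext
      · rw [Category.assoc, biprod.lift_fst, hs, biprod.inl_fst]
      · rw [Category.assoc, biprod.lift_snd, h1, biprod.inl_snd]
    · rw [biprod.inr_desc_assoc, Category.comp_id]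
      apply biprod.hom_ext
      · rw [Category.assoc, biprod.lift_fst, kernel.condition, biprod.inr_fst]
      · rw [Category.assoc, biprod.lift_snd, h2, biprod.inr_snd]
  · exact (biprod.lift_fst _ _).symm

theorem quasiIso_inl (E P : CochainComplex C ℕ) (hP : ∀ i, IsZero (P.homology i)) :
    QuasiIso (biprod.inl : E ⟶ E ⊞ P) := by
  rw [quasiIso_iff]
  intro i
  rw [quasiIsoAt_iff_isIso_homologyMap]
  refine ⟨HomologicalComplex.homologyMap (biprod.fst : E ⊞ P ⟶ E) i, ?_, ?_⟩
  · rw [← HomologicalComplex.homologyMap_comp, biprod.inl_fst, HomologicalComplex.homologyMap_id]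
  · have h1 : (biprod.fst : E ⊞ P ⟶ E) ≫ biprod.inl = 𝟙 _ - biprod.snd ≫ biprod.inr := by
      rw [eq_sub_iff_add_eq, biprod.total]
    rw [← HomologicalComplex.homologyMap_comp, h1, HomologicalComplex.homologyMap_sub,
      HomologicalComplex.homologyMap_comp, (hP i).eq_of_tgt
        (HomologicalComplex.homologyMap (biprod.snd : E ⊞ P ⟶ P) i) 0, zero_comp, sub_zero,
      HomologicalComplex.homologyMap_id]

section P

set_option backward.isDefEq.respectTransparency false
set_option backward.isDefEq.respectTransparency.types false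

theorem QQ_homology_zero_isZero (M : ℕ → C) (h0 : IsZero (M 0)) :
    IsZero ((QQ M).homology 0) := by
  have h1 : (QQ M).iCycles 0 = 0 := by
    have h1 := QQ_iCycles_p2 M 0
    have h2 : (QQ M).iCycles 0 = (QQ M).iCycles 0 ≫ (p1 M 0 ≫ i1 M 0 + p2 M 0 ≫ i2 M 0) := by
      rw [total]; exact (Category.comp_id _).symm
    rw [Preadditive.comp_add, reassoc_of% h1, zero_comp, add_zero, h0.eq_of_tgt (p1 M 0) 0,
      zero_comp, comp_zero] at h2
    exact h2
  have h2 : IsZero ((QQ M).cycles 0) := by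
    rw [IsZero.iff_id_eq_zero, ← cancel_mono ((QQ M).iCycles 0), h1, comp_zero, comp_zero]
  rw [IsZero.iff_id_eq_zero, ← cancel_epi ((QQ M).homologyπ 0), h2.eq_of_src ((QQ M).homologyπ 0) 0,
    zero_comp, zero_comp]

variable (I : CochainComplex C ℕ)

/-- The shifted family `0, I^0, I^1, …`. -/
noncomputable def MM : ℕ → C
  | 0 => 0
  | (n + 1) => I.X n

/-- The maps `M^p ⟶ I^p` (zero, then the differentials). -/
noncomputable def mm : ∀ p, MM I p ⟶ I.X p
  | 0 => 0
  | (n + 1) => I.d n (n + 1)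

theorem mm_d (p : ℕ) : mm I p ≫ I.d p (p + 1) = 0 := by
  cases p with
  | zero => exact zero_comp
  | succ n => exact I.d_comp_d _ _ _

/-- The contractible complex `P` with `P^p = I^{p-1} ⊞ I^p`. -/
noncomputable def PP : CochainComplex C ℕ := QQ (MM I)

/-- The second projection `P^p ⟶ I^p`. -/
noncomputable def q2 (p : ℕ) : (PP I).X p ⟶ I.X p := p2 (MM I) p
/-- The second inclusion `I^p ⟶ P^p`. -/
noncomputable def j2 (p : ℕ) : I.X p ⟶ (PP I).X p := i2 (MM I) p
/-- The first projection `P^p ⟶ M^p`. -/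
noncomputable def q1 (p : ℕ) : (PP I).X p ⟶ MM I p := p1 (MM I) p
/-- The first inclusion `I^p = M^{p+1} ⟶ P^{p+1}`. -/
noncomputable def j1 (p : ℕ) : I.X p ⟶ (PP I).X (p + 1) := i1 (MM I) (p + 1)

theorem PP_d (p : ℕ) : (PP I).d p (p + 1) = q2 I p ≫ j1 I p := QQ_d _ p
theorem j1_q1_mm (p : ℕ) : j1 I p ≫ q1 I (p + 1) ≫ mm I (p + 1) = I.d p (p + 1) := by
  have := i1_p1 (MM I) (p + 1)
  change j1 I p ≫ q1 I (p + 1) = 𝟙 _ at this
  rw [reassoc_of% this]
  rfl
theorem j1_q2 (p : ℕ) : j1 I p ≫ q2 I (p + 1) = 0 := i1_p2 (MM I) (p + 1)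
theorem j2_q1 (p : ℕ) : j2 I p ≫ q1 I p = 0 := i2_p1 (MM I) p
theorem j2_q2 (p : ℕ) : j2 I p ≫ q2 I p = 𝟙 _ := i2_p2 (MM I) p

/-- The component of the projection `P ⟶ I`. -/
noncomputable def piF (p : ℕ) : (PP I).X p ⟶ I.X p :=
  q1 I p ≫ mm I p + q2 I p

/-- The projection `P ⟶ I`. -/
noncomputable def pi : PP I ⟶ I where
  f p := piF I p
  comm' p k hpk := by
    obtain rfl : p + 1 = k := hpk
    rw [PP_d]
    dsimp only [piF]
    rw [Preadditive.add_comp, Category.assoc, mm_d, comp_zero, zero_add, Category.assoc,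
      Preadditive.comp_add, j1_q1_mm, j1_q2, add_zero]

theorem sec_pi (p : ℕ) : j2 I p ≫ (pi I).f p = 𝟙 _ := by
  change j2 I p ≫ (q1 I p ≫ mm I p + q2 I p) = 𝟙 _
  rw [Preadditive.comp_add, reassoc_of% (j2_q1 I p), zero_comp, zero_add, j2_q2]

theorem PP_acyclic (i : ℕ) : IsZero ((PP I).homology i) := by
  cases i with
  | zero => exact QQ_homology_zero_isZero _ (isZero_zero C)
  | succ n => exact QQ_homology_isZero _ n

theorem PP_injective (hI : ∀ n, Injective (I.X n)) (p : ℕ) : Injective ((PP I).X p) := by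
  have hM : ∀ n, Injective (MM I n) := by
    intro n
    cases n with
    | zero => exact (inferInstance : Injective (0 : C))
    | succ n => exact hI n
  change Injective (MM I p ⊞ MM I (p + 1))
  infer_instance

end P

theorem main [EnoughInjectives C] {G F : C} (α : G ⟶ F) (I : InjectiveResolution F) :
    ∃ (J : InjectiveResolution G) (β : J.cocomplex ⟶ I.cocomplex),
      J.ι ≫ β = (CochainComplex.single₀ C).map α ≫ I.ι ∧
      ∀ p : ℕ, ∃ (K : C) (e : J.cocomplex.X p ≅ I.cocomplex.X p ⊞ K), β.f p = e.hom ≫ biprod.fst := by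
  let E : InjectiveResolution G := InjectiveResolution.of G
  let γ : E.cocomplex ⟶ I.cocomplex := InjectiveResolution.desc α I E
  have hγ : E.ι ≫ γ = (CochainComplex.single₀ C).map α ≫ I.ι :=
    InjectiveResolution.desc_commutes α I E
  let P : CochainComplex C ℕ := PP I.cocomplex
  haveI : QuasiIso (biprod.inl : E.cocomplex ⟶ E.cocomplex ⊞ P) :=
    quasiIso_inl E.cocomplex P (PP_acyclic I.cocomplex)
  let J : InjectiveResolution G :=
    { cocomplex := E.cocomplex ⊞ P
      injective := fun n => by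
        haveI := PP_injective I.cocomplex I.injective n
        exact Injective.of_iso (HomologicalComplex.biprodXIso E.cocomplex P n).symm inferInstance
      ι := E.ι ≫ biprod.inl
      quasiIso := inferInstance }
  refine ⟨J, biprod.desc γ (pi I.cocomplex), ?_, ?_⟩
  · change (E.ι ≫ biprod.inl) ≫ biprod.desc γ (pi I.cocomplex) = _
    rw [Category.assoc, biprod.inl_desc, hγ]
  · intro p
    refine exists_iso_biprod_of_section _
      (j2 I.cocomplex p ≫ (biprod.inr : P ⟶ E.cocomplex ⊞ P).f p) ?_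
    rw [Category.assoc, ← HomologicalComplex.comp_f, biprod.inr_desc, sec_pi]

end Groth.Agent.Helper9.InjOver
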