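import Mathlib

/-!
# Resolutions by objects of a subcategory which are injective in the ambient category

`ι : A' ⥤ A` exact fully faithful; every object of `A'` embeds into an object of `A'` whose image
in `A` is injective.  One step of the inductive construction of a quasi-isomorphism
`Z ⟶ ι I` for a bounded below complex `Z` of `A` whose cohomology lies in the essential image.
-/

set_option autoImplicit false
set_option linter.unusedSectionVars false
set_option linter.unusedVariables false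
set_option linter.style.haveILetI false

namespace Groth.Agent.Helper9.InjRes1

open CategoryTheory Category Limits

universe v v' u u'

variable {A' : Type u'} [Category.{v'} A'] [Abelian A'] {A : Type u} [Category.{v} A] [Abelian A]
  (ι : A' ⥤ A) [ι.Additive] [PreservesFiniteLimits ι] [PreservesFiniteColimits ι]
  [ι.Full] [ι.Faithful]

/-- the state of the construction at a window `X₁ ⟶ X₂ ⟶ X₃` -/
structure StateS {X₁ X₂ X₃ : A} (f : X₁ ⟶ X₂) (g : X₂ ⟶ X₃) (w : f ≫ g = 0) where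
  Iprev : A'
  I : A'
  W : A'
  din : Iprev ⟶ I
  π : I ⟶ W
  hπ : din ≫ π = 0
  isCok : IsColimit (CokernelCofork.ofπ π hπ)
  αprev : X₁ ⟶ ι.obj Iprev
  α : X₂ ⟶ ι.obj I
  comm : f ≫ α = αprev ≫ ι.map din
  u : cokernel f ⟶ ι.obj W
  hu : cokernel.π f ≫ u = α ≫ ι.map π
  hb : Mono (kernel.ι (cokernel.desc f g w) ≫ u)
  inj : Injective (ι.obj I)

section Step

variable {ι}
variable {X₁ X₂ X₃ X₄ : A} {f : X₁ ⟶ X₂} {g : X₂ ⟶ X₃} {wfg : f ≫ g = 0}
  (s : StateS ι f g wfg) (h : X₃ ⟶ X₄) (wgh : g ≫ h = 0)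
  (hinj : ∀ X' : A', ∃ (Y' : A') (i : X' ⟶ Y'), Mono i ∧ Injective (ι.obj Y'))
  (hH : ι.essImage (kernel (cokernel.desc f g wfg)))
  (hH' : ι.essImage (kernel (cokernel.desc g h wgh)))

lemma epi_π : Epi s.π := epi_of_isColimit_cofork s.isCok

include hinj hH hH' in
theorem exists_raw : ∃ (J : A') (δ : s.W ⟶ J) (a : X₃ ⟶ ι.obj J)
    (u' : cokernel g ⟶ ι.obj (cokernel δ)),
    Injective (ι.obj J) ∧ g ≫ a = s.α ≫ ι.map (s.π ≫ δ) ∧
    cokernel.π g ≫ u' = a ≫ ι.map (cokernel.π δ) ∧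
    Mono (kernel.ι (cokernel.desc g h wgh) ≫ u') ∧
    ∃ (w : (kernel.ι (cokernel.desc f g wfg) ≫ s.u) ≫ ι.map δ = 0),
      (ShortComplex.mk _ _ w).Exact := by
  obtain ⟨H₀, ⟨e⟩⟩ := hH
  obtain ⟨H₁, ⟨e₁⟩⟩ := hH'
  set v := cokernel.desc f g wfg with hv
  set v' := cokernel.desc g h wgh with hv'
  let h' : H₀ ⟶ s.W := ι.preimage (e.hom ≫ kernel.ι v ≫ s.u)
  have hh' : ι.map h' = e.hom ≫ kernel.ι v ≫ s.u := ι.map_preimage _
  haveI := s.hb
  haveI : Mono (ι.map h') := by
    rw [hh']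
    infer_instance
  haveI : Mono h' := ι.mono_of_mono_map inferInstance
  let p' := cokernel.π h'
  obtain ⟨J₁, j₁, hj₁, inj₁⟩ := hinj (cokernel h')
  obtain ⟨J₂, j₂, hj₂, inj₂⟩ := hinj H₁
  haveI := hj₁
  haveI := hj₂
  haveI := inj₁
  haveI := inj₂
  let J := J₁ ⊞ J₂
  let δ : s.W ⟶ J := p' ≫ j₁ ≫ biprod.inl
  have hSv : (ShortComplex.mk (kernel.ι v) v (kernel.condition v)).Exact :=
    ShortComplex.exact_of_f_is_kernel _ (kernelIsKernel v)
  have hk : kernel.ι v ≫ s.u = e.inv ≫ ι.map h' := by rw [hh', e.inv_hom_id_assoc]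
  have hf : kernel.ι v ≫ s.u ≫ ι.map (p' ≫ j₁) = 0 := by
    rw [← assoc, hk, assoc, ← ι.map_comp, ← assoc h', cokernel.condition, zero_comp, ι.map_zero,
      comp_zero]
  let a₁ : X₃ ⟶ ι.obj J₁ := hSv.descToInjective (s.u ≫ ι.map (p' ≫ j₁)) hf
  have ha₁ : v ≫ a₁ = s.u ≫ ι.map (p' ≫ j₁) := hSv.comp_descToInjective _ hf
  let a₂ : cokernel g ⟶ ι.obj J₂ := Injective.factorThru (e₁.inv ≫ ι.map j₂) (kernel.ι v')
  have ha₂ : kernel.ι v' ≫ a₂ = e₁.inv ≫ ι.map j₂ := Injective.comp_factorThru _ _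
  let a : X₃ ⟶ ι.obj J := a₁ ≫ ι.map biprod.inl + cokernel.π g ≫ a₂ ≫ ι.map biprod.inr
  have hg : cokernel.π f ≫ v = g := cokernel.π_desc f g wfg
  have P1 : g ≫ a = s.α ≫ ι.map (s.π ≫ δ) := by
    have h1 : g ≫ a₁ = s.α ≫ ι.map (s.π ≫ p' ≫ j₁) := by
      calc g ≫ a₁ = (cokernel.π f ≫ v) ≫ a₁ := by rw [hg]
        _ = s.α ≫ ι.map (s.π ≫ p' ≫ j₁) := by
          rw [assoc, ha₁, ← assoc, s.hu, assoc, ← ι.map_comp]
    have h2 : g ≫ cokernel.π g ≫ a₂ ≫ ι.map (biprod.inr : J₂ ⟶ J₁ ⊞ J₂) = 0 := by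
      rw [← assoc, cokernel.condition, zero_comp]
    simp only [a, δ, Preadditive.comp_add]
    rw [h2, add_zero, ← assoc, h1, assoc, ← ι.map_comp]
    simp only [assoc]
  have w' : g ≫ a ≫ ι.map (cokernel.π δ) = 0 := by
    rw [← assoc, P1, assoc, ← ι.map_comp, assoc, cokernel.condition, comp_zero, ι.map_zero,
      comp_zero]
  let u' : cokernel g ⟶ ι.obj (cokernel δ) := cokernel.desc g (a ≫ ι.map (cokernel.π δ)) w'
  have P2 : cokernel.π g ≫ u' = a ≫ ι.map (cokernel.π δ) := cokernel.π_desc _ _ _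
  have hq : δ ≫ (biprod.snd : J₁ ⊞ J₂ ⟶ J₂) = 0 := by
    simp only [δ, assoc, biprod.inl_snd, comp_zero]
  let q₂ : cokernel δ ⟶ J₂ := cokernel.desc δ biprod.snd hq
  have hq₂ : u' ≫ ι.map q₂ = a₂ := by
    rw [← cancel_epi (cokernel.π g), ← assoc, P2, assoc, ← ι.map_comp, cokernel.π_desc]
    simp only [a, Preadditive.add_comp, assoc, ← ι.map_comp, biprod.inl_snd, biprod.inr_snd,
      ι.map_zero, comp_zero, zero_add, ι.map_id, comp_id]
  have P3 : Mono (kernel.ι v' ≫ u') := by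
    haveI : Mono ((kernel.ι v' ≫ u') ≫ ι.map q₂) := by
      rw [assoc, hq₂, ha₂]
      infer_instance
    exact mono_of_mono (kernel.ι v' ≫ u') (ι.map q₂)
  haveI : PreservesBinaryBiproducts ι := preservesBinaryBiproducts_of_preservesBiproducts ι
  have hJ : Injective (ι.obj J) :=
    Injective.of_iso (ι.mapBiprod J₁ J₂).symm inferInstance
  have w4 : (kernel.ι v ≫ s.u) ≫ ι.map δ = 0 := by
    simp only [δ]
    rw [hk, assoc, ← ι.map_comp, ← assoc h', cokernel.condition, zero_comp, ι.map_zero, comp_zero]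
  refine ⟨J, δ, a, u', hJ, P1, P2, P3, w4, ?_⟩
  -- exactness
  have hS₀ : (ShortComplex.mk h' p' (cokernel.condition h')).Exact :=
    ShortComplex.exact_of_g_is_cokernel _ (cokernelIsCokernel h')
  have hS₁ := hS₀.map ι
  let φ : (ShortComplex.mk h' p' (cokernel.condition h')).map ι ⟶
      ShortComplex.mk (kernel.ι v ≫ s.u) (ι.map δ) w4 :=
    { τ₁ := e.hom
      τ₂ := 𝟙 _
      τ₃ := ι.map (j₁ ≫ biprod.inl)
      comm₁₂ := show e.hom ≫ (kernel.ι v ≫ s.u) = ι.map h' ≫ 𝟙 _ by rw [comp_id, hh']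
      comm₂₃ := show 𝟙 _ ≫ ι.map δ = ι.map p' ≫ ι.map (j₁ ≫ biprod.inl) by
        rw [id_comp, ← ι.map_comp] }
  haveI : Epi φ.τ₁ := by dsimp [φ]; infer_instance
  haveI : IsIso φ.τ₂ := by
    change IsIso (𝟙 (ι.obj s.W))
    infer_instance
  haveI : Mono φ.τ₃ := by
    change Mono (ι.map (j₁ ≫ biprod.inl))
    haveI : Mono (j₁ ≫ (biprod.inl : J₁ ⟶ J₁ ⊞ J₂)) := mono_comp _ _
    infer_instance
  exact (ShortComplex.exact_iff_of_epi_of_isIso_of_mono φ).1 hS₁

/-- the next object -/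
noncomputable def J : A' := (exists_raw s h wgh hinj hH hH').choose

/-- the differential out of the cokernel -/
noncomputable def δ : s.W ⟶ J s h wgh hinj hH hH' :=
  (exists_raw s h wgh hinj hH hH').choose_spec.choose

/-- the next component of the comparison map -/
noncomputable def a : X₃ ⟶ ι.obj (J s h wgh hinj hH hH') :=
  (exists_raw s h wgh hinj hH hH').choose_spec.choose_spec.choose

/-- the next map on cokernels -/
noncomputable def u' : cokernel g ⟶ ι.obj (cokernel (δ s h wgh hinj hH hH')) :=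
  (exists_raw s h wgh hinj hH hH').choose_spec.choose_spec.choose_spec.choose

lemma spec : Injective (ι.obj (J s h wgh hinj hH hH')) ∧
    g ≫ a s h wgh hinj hH hH' = s.α ≫ ι.map (s.π ≫ δ s h wgh hinj hH hH') ∧
    cokernel.π g ≫ u' s h wgh hinj hH hH' =
      a s h wgh hinj hH hH' ≫ ι.map (cokernel.π (δ s h wgh hinj hH hH')) ∧
    Mono (kernel.ι (cokernel.desc g h wgh) ≫ u' s h wgh hinj hH hH') ∧
    ∃ (w : (kernel.ι (cokernel.desc f g wfg) ≫ s.u) ≫ ι.map (δ s h wgh hinj hH hH') = 0),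
      (ShortComplex.mk _ _ w).Exact :=
  (exists_raw s h wgh hinj hH hH').choose_spec.choose_spec.choose_spec.choose_spec

/-- the next state -/
noncomputable def next : StateS ι g h wgh where
  Iprev := s.I
  I := J s h wgh hinj hH hH'
  W := cokernel (δ s h wgh hinj hH hH')
  din := s.π ≫ δ s h wgh hinj hH hH'
  π := cokernel.π (δ s h wgh hinj hH hH')
  hπ := by rw [assoc, cokernel.condition, comp_zero]
  isCok :=
    haveI := epi_π s
    isCokernelEpiComp (cokernelIsCokernel (δ s h wgh hinj hH hH')) s.π rfl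
  αprev := s.α
  α := a s h wgh hinj hH hH'
  comm := (spec s h wgh hinj hH hH').2.1
  u := u' s h wgh hinj hH hH'
  hu := (spec s h wgh hinj hH hH').2.2.1
  hb := (spec s h wgh hinj hH hH').2.2.2.1
  inj := (spec s h wgh hinj hH hH').1

lemma zero₂ : ι.map s.din ≫ ι.map (next s h wgh hinj hH hH').din = 0 := by
  change ι.map s.din ≫ ι.map (s.π ≫ δ s h wgh hinj hH hH') = 0
  rw [← ι.map_comp, ← assoc, s.hπ, zero_comp, ι.map_zero]

lemma din_comp_next_din : s.din ≫ (next s h wgh hinj hH hH').din = 0 := by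
  change s.din ≫ s.π ≫ δ s h wgh hinj hH hH' = 0
  rw [← assoc, s.hπ, zero_comp]

/-- the comparison morphism at the window -/
noncomputable def φ : ShortComplex.mk f g wfg ⟶
    ShortComplex.mk (ι.map s.din) (ι.map (next s h wgh hinj hH hH').din)
      (zero₂ s h wgh hinj hH hH') where
  τ₁ := s.αprev
  τ₂ := s.α
  τ₃ := (next s h wgh hinj hH hH').α
  comm₁₂ := s.comm.symm
  comm₂₃ := (spec s h wgh hinj hH hH').2.1.symm

/-- the comparison morphism at the window is a quasi-isomorphism -/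
theorem quasiIso_φ : ShortComplex.QuasiIso (φ s h wgh hinj hH hH') := by
  obtain ⟨w4, hex⟩ := (spec s h wgh hinj hH hH').2.2.2.2
  have P1 := (spec s h wgh hinj hH hH').2.1
  set d' := δ s h wgh hinj hH hH' with hd'
  set v := cokernel.desc f g wfg with hv
  let S₁ := ShortComplex.mk f g wfg
  let S₂ := ShortComplex.mk (ι.map s.din) (ι.map (next s h wgh hinj hH hH').din)
      (zero₂ s h wgh hinj hH hH')
  let h₁ : S₁.RightHomologyData := ShortComplex.RightHomologyData.ofHasCokernelOfHasKernel S₁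
  have wp : ι.map s.din ≫ ι.map s.π = 0 := by rw [← ι.map_comp, s.hπ, ι.map_zero]
  have hp : IsColimit (CokernelCofork.ofπ (ι.map s.π) wp) :=
    CokernelCofork.mapIsColimit (CokernelCofork.ofπ s.π s.hπ) s.isCok ι
  have hg' : hp.desc (CokernelCofork.ofπ S₂.g S₂.zero) = ι.map d' := by
    apply Cofork.IsColimit.hom_ext hp
    rw [Cofork.IsColimit.π_desc]
    change ι.map (s.π ≫ d') = ι.map s.π ≫ ι.map d'
    rw [ι.map_comp]
  haveI := s.hb
  have hK : IsLimit (KernelFork.ofι (kernel.ι v ≫ s.u) w4) := hex.fIsKernel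
  have wι : (kernel.ι v ≫ s.u) ≫ hp.desc (CokernelCofork.ofπ S₂.g S₂.zero) = 0 := by
    rw [hg']
    exact w4
  have hι : IsLimit (KernelFork.ofι (kernel.ι v ≫ s.u) wι) :=
    KernelFork.IsLimit.ofι _ _
      (fun {T} x hx => hK.lift (KernelFork.ofι x (by rw [← hg']; exact hx)))
      (fun {T} x hx => hK.fac (KernelFork.ofι x (by rw [← hg']; exact hx)) WalkingParallelPair.zero)
      (fun {T} x hx b hb => by
        apply Fork.IsLimit.hom_ext hK
        rw [Fork.ι_ofι, hb]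
        exact (hK.fac (KernelFork.ofι x (by rw [← hg']; exact hx))
          WalkingParallelPair.zero).symm)
  let h₂ : S₂.RightHomologyData :=
    { Q := ι.obj s.W
      H := kernel v
      p := ι.map s.π
      ι := kernel.ι v ≫ s.u
      wp := wp
      hp := hp
      wι := wι
      hι := hι }
  have hg₂ : h₂.g' = ι.map d' := hg'
  let γ : ShortComplex.RightHomologyMapData (φ s h wgh hinj hH hH') h₁ h₂ :=
    { φQ := s.u
      φH := 𝟙 _
      commp := s.hu
      commg' := by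
        rw [hg₂]
        have key : s.u ≫ ι.map d' = v ≫ a s h wgh hinj hH hH' := by
          rw [← cancel_epi (cokernel.π f), ← assoc, s.hu, assoc, ← ι.map_comp, ← assoc,
            cokernel.π_desc, P1]
        exact key
      commι := by
        change 𝟙 _ ≫ kernel.ι v ≫ s.u = kernel.ι v ≫ s.u
        rw [id_comp] }
  rw [γ.quasiIso_iff]
  change IsIso (𝟙 (kernel v))
  infer_instance

end Step

end Groth.Agent.Helper9.InjRes1
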