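import Mathlib
import Groth.Agent.Helper9.InjRes1

/-!
# Resolutions by objects of a subcategory which are injective in the ambient category, `ℕ`-indexed
-/

set_option autoImplicit false
set_option linter.unusedSectionVars false
set_option linter.unusedVariables false
set_option linter.style.haveILetI false

namespace Groth.Agent.Helper9.InjRes2

open CategoryTheory Category Limits Groth.Agent.Helper9.InjRes1 ZeroObject

universe v v' u u'

variable {A' : Type u'} [Category.{v'} A'] [Abelian A'] {A : Type u} [Category.{v} A] [Abelian A]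
  (ι : A' ⥤ A) [ι.Additive] [PreservesFiniteLimits ι] [PreservesFiniteColimits ι]
  [ι.Full] [ι.Faithful]

/-- the zero state -/
noncomputable def zeroState {X₁ X₂ X₃ : A} (f : X₁ ⟶ X₂) (g : X₂ ⟶ X₃) (w : f ≫ g = 0)
    (h0 : IsZero X₂) : StateS ι f g w where
  Iprev := 0
  I := 0
  W := 0
  din := 0
  π := 0
  hπ := zero_comp
  isCok := CokernelCofork.IsColimit.ofπ _ _ (fun _ _ => 0)
    (fun g' _ => (isZero_zero A').eq_of_src _ _)
    (fun g' _ b _ => (isZero_zero A').eq_of_src _ _)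
  αprev := 0
  α := 0
  comm := by rw [comp_zero, zero_comp]
  u := 0
  hu := by rw [comp_zero, zero_comp]
  hb := by
    have h1 : IsZero (cokernel f) := IsZero.of_epi (cokernel.π f) h0
    have h2 : IsZero (kernel (cokernel.desc f g w)) := IsZero.of_mono (kernel.ι _) h1
    exact ⟨fun a b _ => h2.eq_of_tgt a b⟩
  inj := Injective.of_iso ((isZero_zero A).iso (ι.map_isZero (isZero_zero A'))) inferInstance

variable (hinj : ∀ X' : A', ∃ (Y' : A') (i : X' ⟶ Y'), Mono i ∧ Injective (ι.obj Y'))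
  (Z : CochainComplex A ℕ) (hZ0 : IsZero (Z.X 0))
  (hZ : ∀ n : ℕ, ι.essImage (kernel (cokernel.desc (Z.d (n - 1) n) (Z.d n (n + 1))
    (Z.d_comp_d _ _ _))))

/-- the sequence of states -/
noncomputable def st (n : ℕ) : StateS ι (Z.d (n - 1) n) (Z.d n (n + 1)) (Z.d_comp_d _ _ _) :=
  Nat.rec (motive := fun n => StateS ι (Z.d (n - 1) n) (Z.d n (n + 1)) (Z.d_comp_d _ _ _))
    (zeroState ι _ _ _ hZ0)
    (fun n s => next s (Z.d (n + 1) (n + 1 + 1)) (Z.d_comp_d _ _ _) hinj (hZ n) (hZ (n + 1))) n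

/-- the resolving complex -/
noncomputable def I : CochainComplex A' ℕ :=
  CochainComplex.of (fun n => (st ι hinj Z hZ0 hZ n).I) (fun n => (st ι hinj Z hZ0 hZ (n + 1)).din)
    (fun n => din_comp_next_din (st ι hinj Z hZ0 hZ (n + 1)) (Z.d (n + 1 + 1) (n + 1 + 1 + 1))
      (Z.d_comp_d _ _ _) hinj (hZ (n + 1)) (hZ (n + 1 + 1)))

lemma I_d (n : ℕ) : (I ι hinj Z hZ0 hZ).d n (n + 1) = (st ι hinj Z hZ0 hZ (n + 1)).din := by
  exact CochainComplex.of_d (fun n => (st ι hinj Z hZ0 hZ n).I)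
    (fun n => (st ι hinj Z hZ0 hZ (n + 1)).din) n

/-- the comparison map -/
noncomputable def α : Z ⟶ (ι.mapHomologicalComplex (ComplexShape.up ℕ)).obj (I ι hinj Z hZ0 hZ) :=
  CochainComplex.ofHom (fun n => (st ι hinj Z hZ0 hZ n).α) (fun n => by
    change (st ι hinj Z hZ0 hZ n).α ≫ ι.map ((I ι hinj Z hZ0 hZ).d n (n + 1)) =
      Z.d n (n + 1) ≫ (st ι hinj Z hZ0 hZ (n + 1)).α
    rw [I_d]
    exact ((st ι hinj Z hZ0 hZ (n + 1)).comm).symm)

lemma quasiIsoAt_α (n : ℕ) : QuasiIsoAt (α ι hinj Z hZ0 hZ) n := by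
  cases n with
  | zero =>
    have h1 : Z.ExactAt 0 := ShortComplex.exact_of_isZero_X₂ _ hZ0
    rw [quasiIsoAt_iff_exactAt _ _ h1]
    apply ShortComplex.exact_of_isZero_X₂
    exact ι.map_isZero (isZero_zero A')
  | succ m =>
    rw [quasiIsoAt_iff' _ m (m + 1) (m + 1 + 1) (by simp) (by simp)]
    have hq := quasiIso_φ (st ι hinj Z hZ0 hZ (m + 1)) (Z.d (m + 1 + 1) (m + 1 + 1 + 1))
      (Z.d_comp_d _ _ _) hinj (hZ (m + 1)) (hZ (m + 1 + 1))
    let e₂ : ShortComplex.mk (ι.map (st ι hinj Z hZ0 hZ (m + 1)).din)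
        (ι.map (st ι hinj Z hZ0 hZ (m + 1 + 1)).din)
        (zero₂ (st ι hinj Z hZ0 hZ (m + 1)) (Z.d (m + 1 + 1) (m + 1 + 1 + 1))
          (Z.d_comp_d _ _ _) hinj (hZ (m + 1)) (hZ (m + 1 + 1))) ≅
        ((ι.mapHomologicalComplex (ComplexShape.up ℕ)).obj (I ι hinj Z hZ0 hZ)).sc' m (m + 1)
          (m + 1 + 1) :=
      ShortComplex.isoMk (Iso.refl _) (Iso.refl _) (Iso.refl _)
        (by
          change 𝟙 _ ≫ ι.map ((I ι hinj Z hZ0 hZ).d m (m + 1)) = ι.map _ ≫ 𝟙 _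
          rw [I_d, id_comp, comp_id])
        (by
          change 𝟙 _ ≫ ι.map ((I ι hinj Z hZ0 hZ).d (m + 1) (m + 1 + 1)) = ι.map _ ≫ 𝟙 _
          rw [I_d, id_comp, comp_id])
    have heq : (HomologicalComplex.shortComplexFunctor' A (ComplexShape.up ℕ) m (m + 1)
        (m + 1 + 1)).map (α ι hinj Z hZ0 hZ) =
        φ (st ι hinj Z hZ0 hZ (m + 1)) (Z.d (m + 1 + 1) (m + 1 + 1 + 1))
          (Z.d_comp_d _ _ _) hinj (hZ (m + 1)) (hZ (m + 1 + 1)) ≫ e₂.hom := by
      ext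
      · exact (comp_id _).symm
      · exact (comp_id _).symm
      · exact (comp_id _).symm
    rw [heq]
    exact @ShortComplex.quasiIso_comp _ _ _ _ _ _ _ _ _ _ e₂.hom hq inferInstance

instance : QuasiIso (α ι hinj Z hZ0 hZ) where
  quasiIsoAt n := quasiIsoAt_α ι hinj Z hZ0 hZ n

lemma injective_I (n : ℕ) : Injective (ι.obj ((I ι hinj Z hZ0 hZ).X n)) :=
  (st ι hinj Z hZ0 hZ n).inj

lemma isZero_I_zero : IsZero ((I ι hinj Z hZ0 hZ).X 0) := isZero_zero A'

omit hZ in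
include hinj hZ0 in
/-- **`ℕ`-indexed resolution**. -/
theorem exists_resolution (hZ' : ∀ n : ℕ, ι.essImage (Z.homology n)) :
    ∃ (I : CochainComplex A' ℕ)
      (α : Z ⟶ (ι.mapHomologicalComplex (ComplexShape.up ℕ)).obj I),
      IsZero (I.X 0) ∧ (∀ n, Injective (ι.obj (I.X n))) ∧ QuasiIso α := by
  have hZ : ∀ n : ℕ, ι.essImage (kernel (cokernel.desc (Z.d (n - 1) n) (Z.d n (n + 1))
      (Z.d_comp_d _ _ _))) := by
    intro n
    refine Functor.essImage.ofIso ?_ (hZ' n)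
    have hp : (ComplexShape.up ℕ).prev n = n - 1 := by
      cases n with
      | zero => exact CochainComplex.prev_nat_zero
      | succ m => exact CochainComplex.prev_nat_succ m
    exact ShortComplex.homologyMapIso (Z.isoSc' (n - 1) n (n + 1) hp (by simp)) ≪≫
      (ShortComplex.RightHomologyData.ofHasCokernelOfHasKernel
        (Z.sc' (n - 1) n (n + 1))).homologyIso
  exact ⟨I ι hinj Z hZ0 hZ, α ι hinj Z hZ0 hZ, isZero_I_zero ι hinj Z hZ0 hZ,
    injective_I ι hinj Z hZ0 hZ, inferInstance⟩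

end Groth.Agent.Helper9.InjRes2
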