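import Mathlib
import Groth.Agent.Helper9.InjRes2
import Groth.Agent.Helper1.MapExtend

/-!
# `D^+_{A'}(A)` is in the essential image of `D^+(A')`
-/

set_option autoImplicit false
set_option linter.unusedSectionVars false
set_option linter.unusedVariables false
set_option linter.style.haveILetI false

namespace Groth.Agent.Helper9.InjRes3

open CategoryTheory Category Limits DerivedCategory HomologicalComplex

universe w w' v v' u u'

variable {A' : Type u'} [Category.{v'} A'] [Abelian A'] [HasDerivedCategory.{w'} A']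
  {A : Type u} [Category.{v} A] [Abelian A] [HasDerivedCategory.{w} A]
  (ι : A' ⥤ A) [ι.Additive] [PreservesFiniteLimits ι] [PreservesFiniteColimits ι]
  [ι.Full] [ι.Faithful]

theorem main
    (hinj : ∀ X' : A', ∃ (Y' : A') (i : X' ⟶ Y'), Mono i ∧ Injective (ι.obj Y'))
    (Z : DerivedCategory A) (a : ℤ) [Z.IsGE a]
    (hZ : ∀ i : ℤ, ι.essImage ((DerivedCategory.homologyFunctor A i).obj Z)) :
    ∃ (I : CochainComplex A' ℤ), I.IsStrictlyGE a ∧ (∀ n : ℤ, Injective (ι.obj (I.X n))) ∧
      Nonempty (ι.mapDerivedCategory.obj (DerivedCategory.Q.obj I) ≅ Z) := by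
  obtain ⟨K, hK, ⟨eZ⟩⟩ := Z.exists_iso_Q_obj_of_isGE a
  haveI : K.IsStrictlyGE (a - 1) := K.isStrictlyGE_of_ge (a - 1) a (by omega)
  have hπ : IsIso (HomologicalComplex.πTruncGE K (ComplexShape.embeddingUpIntGE (a - 1))) :=
    inferInstance
  have hρ : ∀ i, IsIso ((HomologicalComplex.restrictionToTruncGE' K
      (ComplexShape.embeddingUpIntGE (a - 1))).f i) := fun i => inferInstance
  let e' := ComplexShape.embeddingUpIntGE (a - 1)
  let K' := HomologicalComplex.truncGE' K e'
  let θ : K ≅ K'.extend e' := @asIso _ _ _ _ (HomologicalComplex.πTruncGE K e') hπ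
  have hK'0 : IsZero (K'.X 0) := by
    have h0 : IsZero ((HomologicalComplex.restriction K e').X 0) :=
      K.isZero_of_isStrictlyGE a _ (by simp [e'])
    exact IsZero.of_iso h0 (@asIso _ _ _ _ ((HomologicalComplex.restrictionToTruncGE' K e').f 0) (hρ 0)).symm
  have hZ' : ∀ n : ℕ, ι.essImage (K'.homology n) := by
    intro n
    refine Functor.essImage.ofIso ?_ (hZ (e'.f n))
    exact (DerivedCategory.homologyFunctor A (e'.f n)).mapIso eZ ≪≫
      (DerivedCategory.homologyFunctorFactors A (e'.f n)).app K ≪≫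
      (HomologicalComplex.homologyFunctor A _ (e'.f n)).mapIso θ ≪≫
      K'.extendHomologyIso e' rfl
  obtain ⟨I', α', hI'0, hI'inj, hα'⟩ := InjRes2.exists_resolution ι hinj K' hK'0 hZ'
  refine ⟨I'.extend e', ?_, ?_, ?_⟩
  · rw [CochainComplex.isStrictlyGE_iff]
    intro i hi
    by_cases h1 : i = a - 1
    · exact IsZero.of_iso hI'0 (I'.extendXIso e' (show e'.f 0 = i by simp [e', h1]))
    · exact I'.isZero_extend_X e' i (fun j hj => by
        simp [e'] at hj
        omega)
  · intro n
    by_cases hn : ∃ j, e'.f j = n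
    · obtain ⟨j, hj⟩ := hn
      exact Injective.of_iso (ι.mapIso (I'.extendXIso e' hj).symm) (hI'inj j)
    · have hz : IsZero ((I'.extend e').X n) :=
        I'.isZero_extend_X e' n (fun j hj => hn ⟨j, hj⟩)
      exact Injective.of_iso ((isZero_zero A).iso (ι.map_isZero hz)) inferInstance
  · haveI : QuasiIso (extendMap α' e') := inferInstance
    exact ⟨(ι.mapDerivedCategoryFactors).app (I'.extend e') ≪≫
      Q.mapIso (Groth.Agent.Helper1.MapExtend.mapExtendIso e' ι I') ≪≫
      (asIso (Q.map (extendMap α' e'))).symm ≪≫ Q.mapIso θ.symm ≪≫ eZ.symm⟩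

end Groth.Agent.Helper9.InjRes3
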