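import Groth.Agent.Helper9.IntegralBC
set_option autoImplicit false
universe u v
open TensorProduct

namespace Groth.Agent.Helper9.IntegralBC

section
variable {K : Type u} [Field K] {M : Type v} [Monoid M]

/-- coefficient at `1` -/
noncomputable def coeffOne : MonoidAlgebra K M →ₗ[K] K := Finsupp.lapply (1 : M) ∘ₗ (MonoidAlgebra.coeffLinearEquiv K).toLinearMap

lemma coeffOne_single (m : M) (r : K) [Decidable (m = 1)] : coeffOne (MonoidAlgebra.single m r) = if m = 1 then r else 0 := by
  unfold coeffOne
  simp [Finsupp.single_apply]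

lemma coeffOne_integral (c : MonoidAlgebra K M) :
    (coeffOne (K := K) (M := M)).rTensor (MonoidAlgebra K M) (Coalgebra.comul (R := K) c) =
      coeffOne c ⊗ₜ[K] (1 : MonoidAlgebra K M) := by
  classical
  induction c using MonoidAlgebra.induction_linear with
  | zero => simp
  | add f g hf hg => simp only [map_add, hf, hg, TensorProduct.add_tmul]
  | single m r =>
    rw [MonoidAlgebra.comul_single]
    rw [CommSemiring.comul_apply, TensorProduct.map_tmul, LinearMap.rTensor_tmul]
    rw [MonoidAlgebra.lsingle_apply, MonoidAlgebra.lsingle_apply, coeffOne_single, coeffOne_single]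
    by_cases hm : m = 1
    · subst hm
      rw [if_pos rfl, if_pos rfl, MonoidAlgebra.one_def]
      rw [show MonoidAlgebra.single (1 : M) r = r • MonoidAlgebra.single (1 : M) (1 : K) by
        rw [MonoidAlgebra.smul_single, smul_eq_mul, mul_one]]
      rw [TensorProduct.tmul_smul, TensorProduct.smul_tmul', smul_eq_mul, mul_one]
    · rw [if_neg hm, if_neg hm, TensorProduct.zero_tmul, TensorProduct.zero_tmul]

end

end Groth.Agent.Helper9.IntegralBC

namespace Groth.Agent.Helper9.IntegralBC

section
variable {K : Type u} [Field K] {B : Type u} [CommRing B] [HopfAlgebra K B]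
  {C : Type v} [Semiring C] [Bialgebra K C]

theorem transport (e : B ≃ₐc[K] C) (α₀ : C →ₗ[K] K)
    (h : ∀ c : C, α₀.rTensor C (Coalgebra.comul (R := K) c) = α₀ c ⊗ₜ[K] (1 : C)) (h1 : α₀ 1 = 1) :
    IsTotalIntegral K B (α₀ ∘ₗ e.toCoalgEquiv.toLinearEquiv.toLinearMap) := by
  rw [isTotalIntegral_iff]
  refine ⟨fun x => ?_, ?_⟩
  · set eL : B →ₗ[K] C := e.toCoalgEquiv.toLinearEquiv.toLinearMap with heL
    set eS : C →ₗ[K] B := e.toCoalgEquiv.toLinearEquiv.symm.toLinearMap with heS
    have h2 : (α₀ ∘ₗ eL).rTensor B = eS.lTensor K ∘ₗ α₀.rTensor C ∘ₗ TensorProduct.map eL eL := by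
      apply TensorProduct.ext'
      intro x y
      simp [eL, eS]
    have h3 : TensorProduct.map eL eL (Coalgebra.comul (R := K) x) = Coalgebra.comul (R := K) (eL x) :=
      CoalgHomClass.map_comp_comul_apply e.toCoalgEquiv x
    rw [h2, LinearMap.comp_apply, LinearMap.comp_apply, h3, h]
    have e2 : eS 1 = 1 := map_one e.symm
    rw [LinearMap.lTensor_tmul, e2]
    rfl
  · have e1 : e.toCoalgEquiv.toLinearEquiv.toLinearMap 1 = 1 := map_one e
    rw [LinearMap.comp_apply, e1, h1]

end

end Groth.Agent.Helper9.IntegralBC
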