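import Mathlib
set_option autoImplicit false

namespace Groth.Agent.Helper9.InvFP

open Polynomial

universe u v w

/-- a module retract of a finitely presented module is finitely presented -/
lemma fp_of_retract {P M N : Type*} [CommRing P] [AddCommGroup M] [Module P M] [AddCommGroup N] [Module P N]
    [Module.FinitePresentation P M] (ρ : M →ₗ[P] N) (ι : N →ₗ[P] M) (h : ∀ x, ρ (ι x) = x) :
    Module.FinitePresentation P N := by
  have hsurj : Function.Surjective ρ := fun x => ⟨ι x, h x⟩
  refine Module.finitePresentation_of_surjective ρ hsurj ?_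
  have hker : LinearMap.ker ρ = LinearMap.range (LinearMap.id - ι ∘ₗ ρ) := by
    ext x
    constructor
    · intro hx
      rw [LinearMap.mem_ker] at hx
      refine ⟨x, ?_⟩
      simp [hx]
    · rintro ⟨y, rfl⟩
      rw [LinearMap.mem_ker]
      simp [h]
  rw [hker]
  exact Submodule.fg_range _

theorem main {R : Type u} {A : Type v} [CommRing R] [CommRing A]
    [Algebra R A] [Algebra.FinitePresentation R A]
    {G : Type w} [Group G] [Finite G] [MulSemiringAction G A] [SMulCommClass G R A]
    (hG : IsUnit ((Nat.card G : ℕ) : R)) :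
    Algebra.FinitePresentation R (FixedPoints.subalgebra R A G) := by
  classical
  cases nonempty_fintype G
  obtain ⟨s, hs⟩ := (inferInstance : Algebra.FiniteType R A).out
  have hcoeff : ∀ (a : A) (k : ℕ),
      (MulSemiringAction.charpoly G a).coeff k ∈ FixedPoints.subalgebra R A G :=
    fun a k g => MulSemiringAction.smul_coeff_charpoly a k g
  let N := Fintype.card G
  let c : (s × Fin (N + 1)) → FixedPoints.subalgebra R A G :=
    fun i => ⟨(MulSemiringAction.charpoly G (i.1 : A)).coeff i.2, hcoeff _ _⟩
  let fPB : MvPolynomial (s × Fin (N + 1)) R →ₐ[R] FixedPoints.subalgebra R A G := MvPolynomial.aeval c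
  let _ : Algebra (MvPolynomial (s × Fin (N + 1)) R) (FixedPoints.subalgebra R A G) :=
    fPB.toRingHom.toAlgebra
  let _ : Algebra (MvPolynomial (s × Fin (N + 1)) R) A :=
    ((FixedPoints.subalgebra R A G).val.toRingHom.comp fPB.toRingHom).toAlgebra
  have t1 : IsScalarTower (MvPolynomial (s × Fin (N + 1)) R) (FixedPoints.subalgebra R A G) A :=
    .of_algebraMap_eq (fun _ => rfl)
  have t2 : IsScalarTower R (MvPolynomial (s × Fin (N + 1)) R) (FixedPoints.subalgebra R A G) :=
    .of_algebraMap_eq (fun r => (fPB.commutes r).symm)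
  have t3 : IsScalarTower R (MvPolynomial (s × Fin (N + 1)) R) A :=
    .of_algebraMap_eq (fun r => by
      show algebraMap R A r = ((FixedPoints.subalgebra R A G).val (fPB (algebraMap R _ r)))
      rw [fPB.commutes]; rfl)
  have hfpPA : Algebra.FinitePresentation (MvPolynomial (s × Fin (N + 1)) R) A :=
    Algebra.FinitePresentation.of_restrict_scalars_finitePresentation R _ A
  -- integrality of the generators
  have hdeg : ∀ a : A, (MulSemiringAction.charpoly G a).natDegree ≤ N := by
    intro a
    rw [MulSemiringAction.charpoly_eq]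
    refine (Polynomial.natDegree_prod_le _ _).trans ?_
    refine (Finset.sum_le_sum (fun g _ => Polynomial.natDegree_X_sub_C_le (g • a))).trans ?_
    simp [N]
  have hgen : ∀ a ∈ s, IsIntegral (MvPolynomial (s × Fin (N + 1)) R) a := by
    intro a ha
    have hl : MulSemiringAction.charpoly G a ∈
        Polynomial.lifts (algebraMap (MvPolynomial (s × Fin (N + 1)) R) A) := by
      rw [Polynomial.lifts_iff_coeff_lifts]
      intro k
      by_cases hk : k < N + 1
      · refine ⟨MvPolynomial.X (⟨a, ha⟩, ⟨k, hk⟩), ?_⟩
        show ((FixedPoints.subalgebra R A G).val (fPB (MvPolynomial.X (⟨a, ha⟩, ⟨k, hk⟩)))) = _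
        simp [fPB, c]
      · rw [Polynomial.coeff_eq_zero_of_natDegree_lt (by have := hdeg a; omega)]
        exact ⟨0, map_zero _⟩
    obtain ⟨q, hq1, -, hq2⟩ := Polynomial.lifts_and_natDegree_eq_and_monic hl
      (MulSemiringAction.monic_charpoly G a)
    refine ⟨q, hq2, ?_⟩
    rw [← Polynomial.eval_map, hq1, MulSemiringAction.eval_charpoly]
  have hint : Algebra.IsIntegral (MvPolynomial (s × Fin (N + 1)) R) A := by
    refine ⟨fun x => ?_⟩
    have hx : x ∈ Algebra.adjoin R (s : Set A) := hs ▸ Algebra.mem_top
    induction hx using Algebra.adjoin_induction with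
    | mem a ha => exact hgen a ha
    | algebraMap r =>
      rw [IsScalarTower.algebraMap_apply R (MvPolynomial (s × Fin (N + 1)) R) A]
      exact isIntegral_algebraMap
    | add x y _ _ hx hy => exact hx.add hy
    | mul x y _ _ hx hy => exact hx.mul hy
  have hfin : Module.Finite (MvPolynomial (s × Fin (N + 1)) R) A := Algebra.IsIntegral.finite
  have hmfp : Module.FinitePresentation (MvPolynomial (s × Fin (N + 1)) R) A :=
    Module.FinitePresentation.of_finite_of_finitePresentation _ A
  obtain ⟨u, hu⟩ := hG
  have hcard : Nat.card G = N := Nat.card_eq_fintype_card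
  have hsum_inv : ∀ (a : A) (h : G), h • (∑ g : G, g • a) = ∑ g : G, g • a := by
    intro a h
    rw [Finset.smul_sum]
    simp_rw [← mul_smul]
    exact Fintype.sum_equiv (Equiv.mulLeft h) _ _ (fun g => rfl)
  have hPsmul : ∀ (p : MvPolynomial (s × Fin (N + 1)) R) (a : A), p • a = ((fPB p : A)) * a :=
    fun p a => rfl
  have hPsmulB : ∀ (p : MvPolynomial (s × Fin (N + 1)) R) (b : FixedPoints.subalgebra R A G),
      ((p • b : FixedPoints.subalgebra R A G) : A) = ((fPB p : A)) * b := fun p b => rfl
  let ρ : A →ₗ[MvPolynomial (s × Fin (N + 1)) R] FixedPoints.subalgebra R A G :=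
    { toFun := fun a => ⟨((↑u⁻¹ : R)) • ∑ g : G, g • a, fun h => by rw [smul_comm, hsum_inv]⟩
      map_add' := by
        intro a b
        apply Subtype.ext
        simp only [smul_add, Finset.sum_add_distrib]
        rfl
      map_smul' := by
        intro p a
        apply Subtype.ext
        simp only [RingHom.id_apply]
        rw [hPsmulB, hPsmul]
        have hb : ∀ g : G, g • ((fPB p : A) * a) = (fPB p : A) * (g • a) := by
          intro g
          rw [smul_mul', (fPB p).2 g]
        simp only [hb, ← Finset.mul_sum]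
        rw [mul_smul_comm] }
  let ι : FixedPoints.subalgebra R A G →ₗ[MvPolynomial (s × Fin (N + 1)) R] A :=
    (IsScalarTower.toAlgHom (MvPolynomial (s × Fin (N + 1)) R) (FixedPoints.subalgebra R A G) A).toLinearMap
  have hρι : ∀ b, ρ (ι b) = b := by
    intro b
    apply Subtype.ext
    show ((↑u⁻¹ : R)) • ∑ g : G, g • (b : A) = b
    have : ∀ g : G, g • (b : A) = b := fun g => b.2 g
    simp only [this, Finset.sum_const, Finset.card_univ]
    rw [← Nat.cast_smul_eq_nsmul R, smul_smul]
    have h1 : ((↑u⁻¹ : R)) * ((Fintype.card G : ℕ) : R) = 1 := by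
      have : ((Fintype.card G : ℕ) : R) = (u : R) := by rw [hu, hcard]
      rw [this, Units.inv_mul]
    rw [h1, one_smul]
  have hmfpB : Module.FinitePresentation (MvPolynomial (s × Fin (N + 1)) R)
      (FixedPoints.subalgebra R A G) := fp_of_retract ρ ι hρι
  have hafpB : Algebra.FinitePresentation (MvPolynomial (s × Fin (N + 1)) R)
      (FixedPoints.subalgebra R A G) := Algebra.FinitePresentation.of_finitePresentation _ _
  exact Algebra.FinitePresentation.trans R (MvPolynomial (s × Fin (N + 1)) R) _

end Groth.Agent.Helper9.InvFP
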