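import Mathlib

/-!
# Invariants commute with flat base change
-/

set_option autoImplicit false

namespace Groth.Agent.Helper9.InvFlat

open TensorProduct

universe u v

section Tensor

variable {A B A' : Type u} [CommRing A] [CommRing B] [CommRing A'] [Algebra A B] [Algebra A A']

theorem lTensor_linearMap_eq (y : A' ⊗[A] A) :
    (Algebra.linearMap A B).lTensor A' y =
      (Algebra.TensorProduct.includeLeft : A' →ₐ[A] A' ⊗[A] B) (TensorProduct.rid A A' y) := by
  induction y using TensorProduct.induction_on with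
  | zero => simp
  | tmul a' a =>
    change a' ⊗ₜ[A] (algebraMap A B a) = (a • a') ⊗ₜ[A] (1 : B)
    rw [Algebra.algebraMap_eq_smul_one, TensorProduct.smul_tmul]
  | add y₁ y₂ h₁ h₂ => rw [map_add, map_add, map_add, h₁, h₂]

variable [Module.Flat A A'] {G : Type v} [Finite G] (σ : G → B →ₐ[A] B)

omit [Finite G] in
theorem includeLeft_injective (hinj : Function.Injective (algebraMap A B)) :
    Function.Injective (Algebra.TensorProduct.includeLeft : A' →ₐ[A] A' ⊗[A] B) := by
  have h1 : Function.Injective ((Algebra.linearMap A B).lTensor A') :=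
    Module.Flat.lTensor_preserves_injective_linearMap (M := A') (Algebra.linearMap A B) hinj
  intro a b hab
  have e : ∀ c : A', (Algebra.TensorProduct.includeLeft : A' →ₐ[A] A' ⊗[A] B) c =
      (Algebra.linearMap A B).lTensor A' ((TensorProduct.rid A A').symm c) := by
    intro c
    rw [lTensor_linearMap_eq, LinearEquiv.apply_symm_apply]
  rw [e, e] at hab
  exact (TensorProduct.rid A A').symm.injective (h1 hab)

theorem mem_range_includeLeft
    (hrange : ∀ b : B, (∀ g, σ g b = b) → b ∈ Set.range (algebraMap A B))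
    (x : A' ⊗[A] B)
    (hx : ∀ g, (σ g).toLinearMap.lTensor A' x = x) :
    x ∈ Set.range (Algebra.TensorProduct.includeLeft : A' →ₐ[A] A' ⊗[A] B) := by
  classical
  cases nonempty_fintype G
  let d : B →ₗ[A] (G → B) := LinearMap.pi (fun g => (σ g).toLinearMap - LinearMap.id)
  have hex : Function.Exact (Algebra.linearMap A B) d := by
    intro b
    constructor
    · intro hb
      apply hrange
      intro g
      have := congrFun hb g
      change σ g b - b = 0 at this
      exact sub_eq_zero.mp this
    · rintro ⟨a, rfl⟩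
      funext g
      change σ g (algebraMap A B a) - algebraMap A B a = 0
      rw [(σ g).commutes, sub_self]
  have hex' := Module.Flat.lTensor_exact A' hex
  have comp : ∀ (y : A' ⊗[A] B) (g : G),
      TensorProduct.piRightHom A A A' (fun _ : G => B) (d.lTensor A' y) g =
        (σ g).toLinearMap.lTensor A' y - y := by
    intro y g
    induction y using TensorProduct.induction_on with
    | zero => simp
    | tmul a' b =>
      change a' ⊗ₜ[A] (σ g b - b) = a' ⊗ₜ[A] (σ g b) - a' ⊗ₜ[A] b
      rw [TensorProduct.tmul_sub]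
    | add y₁ y₂ h₁ h₂ =>
      rw [map_add, map_add, map_add, Pi.add_apply, h₁, h₂]
      abel
  have h0 : d.lTensor A' x = 0 := by
    apply (TensorProduct.piRight A A A' (fun _ : G => B)).injective
    rw [map_zero, TensorProduct.piRight_apply]
    funext g
    rw [comp, hx g, sub_self]
    rfl
  obtain ⟨y, hy⟩ := (hex' x).mp h0
  exact ⟨TensorProduct.rid A A' y, by rw [← lTensor_linearMap_eq, hy]⟩

end Tensor


section Cat

open CategoryTheory CategoryTheory.Limits

theorem pushout_invariants {A B A' B' : CommRingCat.{u}} (α : A ⟶ B) (β : A ⟶ A') (inl : B ⟶ B')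
    (inr : A' ⟶ B') (h : IsPushout α β inl inr) (hflat : β.hom.Flat) {G : Type v} [Finite G]
    (σ : G → (B ⟶ B)) (σ' : G → (B' ⟶ B'))
    (hσ : ∀ g, α ≫ σ g = α) (hl : ∀ g, inl ≫ σ' g = σ g ≫ inl) (hr : ∀ g, inr ≫ σ' g = inr)
    (hinj : Function.Injective α.hom)
    (hrange : ∀ b : B, (∀ g, (σ g).hom b = b) → b ∈ Set.range α.hom) :
    Function.Injective inr.hom ∧
      ∀ x : B', (∀ g, (σ' g).hom x = x) → x ∈ Set.range inr.hom := by
  letI : Algebra A B := α.hom.toAlgebra
  letI : Algebra A A' := β.hom.toAlgebra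
  haveI : Module.Flat A A' := hflat
  let σa : G → B →ₐ[A] B := fun g =>
    { (σ g).hom with
      commutes' := fun a => by
        have := congrArg (fun φ => φ.hom a) (hσ g)
        exact this }
  have hT := CommRingCat.isPushout_tensorProduct A A' B
  have hflip : IsPushout (CommRingCat.ofHom (algebraMap A A')) (CommRingCat.ofHom (algebraMap A B))
      inr inl := h.flip
  let e := IsPushout.isoIsPushout _ _ hT hflip
  have e1 : CommRingCat.ofHom (S := A' ⊗[A] B) Algebra.TensorProduct.includeLeftRingHom ≫ e.hom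
      = inr := IsPushout.inl_isoIsPushout_hom _ _ hT hflip
  have e2 : CommRingCat.ofHom (S := A' ⊗[A] B) Algebra.TensorProduct.includeRight.toRingHom ≫ e.hom
      = inl := IsPushout.inr_isoIsPushout_hom _ _ hT hflip
  have e1' : ∀ a' : A', e.hom.hom (a' ⊗ₜ[A] (1 : B)) = inr.hom a' := fun a' =>
    congrArg (fun φ => φ.hom a') e1
  have e2' : ∀ b : B, e.hom.hom ((1 : A') ⊗ₜ[A] b) = inl.hom b := fun b =>
    congrArg (fun φ => φ.hom b) e2
  have hbij : Function.Bijective e.hom.hom :=
    ConcreteCategory.bijective_of_isIso e.hom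
  -- compatibility of the actions
  have hcompat : ∀ (g : G) (y : A' ⊗[A] B),
      (σ' g).hom (e.hom.hom y) = e.hom.hom ((σa g).toLinearMap.lTensor A' y) := by
    intro g y
    induction y using TensorProduct.induction_on with
    | zero => simp
    | tmul a' b =>
      have h1 : a' ⊗ₜ[A] b = (a' ⊗ₜ[A] (1 : B)) * ((1 : A') ⊗ₜ[A] b) := by
        rw [Algebra.TensorProduct.tmul_mul_tmul, mul_one, one_mul]
      have h2 : (σa g).toLinearMap.lTensor A' (a' ⊗ₜ[A] b)
          = (a' ⊗ₜ[A] (1 : B)) * ((1 : A') ⊗ₜ[A] ((σ g).hom b)) := by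
        rw [Algebra.TensorProduct.tmul_mul_tmul, mul_one, one_mul]
        rfl
      rw [h2, h1, map_mul, map_mul, map_mul, e1', e2', e2']
      congr 1
      · exact congrArg (fun φ => φ.hom a') (hr g)
      · exact congrArg (fun φ => φ.hom b) (hl g)
    | add y₁ y₂ h₁ h₂ => rw [map_add, map_add, map_add, map_add, h₁, h₂]
  constructor
  · intro a b hab
    rw [← e1', ← e1'] at hab
    exact includeLeft_injective hinj (hbij.1 hab)
  · intro x hx
    obtain ⟨y, rfl⟩ := hbij.2 x
    have hy : ∀ g, (σa g).toLinearMap.lTensor A' y = y := by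
      intro g
      apply hbij.1
      rw [← hcompat, hx g]
    obtain ⟨a', ha'⟩ := mem_range_includeLeft σa
      (fun b hb => hrange b hb) y hy
    refine ⟨a', ?_⟩
    rw [← ha']
    exact (e1' a').symm

end Cat

end Groth.Agent.Helper9.InvFlat
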