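import Mathlib
import Groth.Prelude.Def_DDual2
import Groth.Agent.Helper9.InvTw2

/-!
# Twisting a dualizing complex by an invertible module: the statement with `LTensor`
-/

set_option autoImplicit false
set_option linter.style.haveILetI false
set_option linter.unusedSectionVars false

universe u
open CategoryTheory CategoryTheory.Limits MonoidalCategory DerivedCategory
attribute [local instance] HasDerivedCategory.standard

namespace Groth.Agent.Helper9.InvTw3

open Groth.Agent.Helper9.InvTw1 Groth.Agent.Helper9.InvTw2

variable {A : Type u} [CommRing A]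

/-- `P ⊗ P^∨ ≅ A` in `ModuleCat A` for an invertible module `P` -/
noncomputable def invIso (P : Type u) [AddCommGroup P] [Module A P] [Module.Invertible A P] :
    ModuleCat.of A P ⊗ ModuleCat.of A (Module.Dual A P) ≅ 𝟙_ (ModuleCat.{u} A) :=
  LinearEquiv.toModuleIso ((TensorProduct.comm A P (Module.Dual A P)).trans
    (Module.Invertible.linearEquiv A P))

theorem main [IsNoetherianRing A] (ω : Dual.D A) (hω : Dual.IsDualizing A ω) (P : Type u)
    [AddCommGroup P] [Module A P] [Module.Invertible A P]
    [DRing.HasLTensor A (ModuleCat.of A P)] (n : ℤ) :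
    Dual.IsDualizing A (((DRing.LTensor A (ModuleCat.of A P)).obj ω)⟦n⟧) := by
  haveI : Module.Flat A (ModuleCat.of A P) := inferInstanceAs (Module.Flat A P)
  haveI : Module.Flat A (ModuleCat.of A (Module.Dual A P)) :=
    inferInstanceAs (Module.Flat A (Module.Dual A P))
  haveI : Module.Finite A (ModuleCat.of A P) := inferInstanceAs (Module.Finite A P)
  have h1 := isDualizing_tenD (ModuleCat.of A P) (ModuleCat.of A (Module.Dual A P)) (invIso P) ω hω
  have h2 := Groth.Agent.Helper6.LocExt.isDualizing_of_iso
    ((ltIso (ModuleCat.of A P)).app ω).symm h1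
  exact Groth.Agent.Helper6.LD.isDualizing_shift _ h2 n

end Groth.Agent.Helper9.InvTw3
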