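import Mathlib
import Groth.Prelude.Def_DDual2
import Groth.Agent.Helper9.InvTw3
import Groth.Agent.Helper9.InvTw5
import Groth.Agent.Helper3.DRingApprox
import Groth.Agent.Helper6.LocExt4

/-!
# Uniqueness of the invertible twist and of the shift of a dualizing complex
-/

set_option autoImplicit false
set_option linter.style.haveILetI false
set_option linter.unusedSectionVars false

universe u
open CategoryTheory CategoryTheory.Limits MonoidalCategory DerivedCategory
attribute [local instance] HasDerivedCategory.standard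

namespace Groth.Agent.Helper9.InvTw6

open Groth.Agent.Helper9.InvTw1 Groth.Agent.Helper9.InvTw2 Groth.Agent.Helper9.InvTw3

/-- a translation-invariant property of integers with bounded nonempty complement forces the
translation to be trivial -/
lemma eq_zero_of_translate (Z : ℤ → Prop) (a b : ℤ) (hlo : ∀ j, j < a → Z j)
    (hhi : ∀ j, b < j → Z j) (j₀ : ℤ) (h₀ : ¬ Z j₀) (m : ℤ) (hm : ∀ j, Z j ↔ Z (j + m)) :
    m = 0 := by
  by_contra hne
  have ha : a ≤ j₀ := by
    by_contra h
    exact h₀ (hlo j₀ (by omega))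
  have hb : j₀ ≤ b := by
    by_contra h
    exact h₀ (hhi j₀ (by omega))
  have key : ∀ k : ℕ, ¬ Z (j₀ + k * m) ∧ ¬ Z (j₀ - k * m) := by
    intro k
    induction k with
    | zero => simpa using h₀
    | succ k ih =>
      constructor
      · have h1 := hm (j₀ + k * m)
        have h2 : j₀ + (k : ℤ) * m + m = j₀ + ((k + 1 : ℕ) : ℤ) * m := by push_cast; ring
        rw [h2] at h1
        exact fun h => ih.1 (h1.mpr h)
      · have h1 := hm (j₀ - ((k + 1 : ℕ) : ℤ) * m)
        have h2 : j₀ - ((k + 1 : ℕ) : ℤ) * m + m = j₀ - (k : ℤ) * m := by push_cast; ring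
        rw [h2] at h1
        exact fun h => ih.2 (h1.mp h)
  set k : ℕ := (b - a + 1).toNat with hk
  have hk' : (k : ℤ) = b - a + 1 := by
    rw [hk]
    exact Int.toNat_of_nonneg (by omega)
  rcases lt_or_gt_of_ne hne with hneg | hpos
  · -- m < 0
    have h1 : (k : ℤ) * m ≤ (k : ℤ) * (-1) :=
      mul_le_mul_of_nonneg_left (by omega) (by omega)
    exact (key k).1 (hlo _ (by omega))
  · have h1 : (k : ℤ) * 1 ≤ (k : ℤ) * m :=
      mul_le_mul_of_nonneg_left (by omega) (by omega)
    exact (key k).1 (hhi _ (by omega))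

variable {A : Type u} [CommRing A]

/-- tensoring with an invertible module reflects zero objects -/
lemma isZero_tensor_iff (P P' : ModuleCat.{u} A) (e : P ⊗ P' ≅ 𝟙_ (ModuleCat.{u} A))
    (M : ModuleCat.{u} A) : IsZero ((tensorRight P).obj M) ↔ IsZero M := by
  constructor
  · intro h
    have h1 : IsZero ((tensorRight P').obj ((tensorRight P).obj M)) :=
      (tensorRight P').map_isZero h
    exact h1.of_iso ((tensorRightCompIso P P' e).app M).symm
  · intro h
    exact (tensorRight P).map_isZero h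

/-- the vanishing pattern of the cohomology of a shifted twist -/
lemma isZero_HD_shift_tenD_iff (P P' : ModuleCat.{u} A) [Module.Flat A P]
    (e : P ⊗ P' ≅ 𝟙_ (ModuleCat.{u} A)) (ω : Dual.D A) (n i : ℤ) :
    IsZero ((homologyFunctor (ModuleCat.{u} A) i).obj (((tenD P).obj ω)⟦n⟧)) ↔
      IsZero ((homologyFunctor (ModuleCat.{u} A) (n + i)).obj ω) := by
  obtain ⟨e1⟩ := nonempty_homologyIso (tensorRight P) ω (n + i)
  have e2 := (Groth.Agent.Helper3.DRingLib.homologyShiftNatIso (A := A) n i (n + i) rfl).app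
    ((tenD P).obj ω)
  rw [← isZero_tensor_iff P P' e ((homologyFunctor (ModuleCat.{u} A) (n + i)).obj ω)]
  exact (Iso.isZero_iff (e2 ≪≫ e1))

/-- **Uniqueness of the twist and the shift.** -/
theorem main [IsNoetherianRing A] [Nontrivial A] (ω : Dual.D A) (hω : Dual.IsDualizing A ω)
    (P P' : Type u) [AddCommGroup P] [Module A P] [Module.Invertible A P]
    [AddCommGroup P'] [Module A P'] [Module.Invertible A P']
    [DRing.HasLTensor A (ModuleCat.of A P)] [DRing.HasLTensor A (ModuleCat.of A P')] (n n' : ℤ)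
    (h : Nonempty (((DRing.LTensor A (ModuleCat.of A P)).obj ω)⟦n⟧ ≅
      ((DRing.LTensor A (ModuleCat.of A P')).obj ω)⟦n'⟧)) :
    n = n' ∧ Nonempty (P ≃ₗ[A] P') := by
  obtain ⟨h⟩ := h
  haveI : Module.Flat A (ModuleCat.of A P) := inferInstanceAs (Module.Flat A P)
  haveI : Module.Flat A (ModuleCat.of A P') := inferInstanceAs (Module.Flat A P')
  haveI : Module.Finite A (ModuleCat.of A P) := inferInstanceAs (Module.Finite A P)
  haveI : Module.Finite A (ModuleCat.of A P') := inferInstanceAs (Module.Finite A P')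
  haveI : Module.Projective A (ModuleCat.of A P) := inferInstanceAs (Module.Projective A P)
  haveI : Module.Projective A (ModuleCat.of A P') := inferInstanceAs (Module.Projective A P')
  let θ : ((tenD (ModuleCat.of A P)).obj ω)⟦n⟧ ≅ ((tenD (ModuleCat.of A P')).obj ω)⟦n'⟧ :=
    (shiftFunctor (Dual.D A) n).mapIso ((ltIso (ModuleCat.of A P)).app ω).symm ≪≫ h ≪≫
      (shiftFunctor (Dual.D A) n').mapIso ((ltIso (ModuleCat.of A P')).app ω)
  obtain ⟨a, b, hab⟩ := hω.finite_injective_dimension
  obtain ⟨hGE, hLE⟩ := Groth.Agent.Helper6.LocExt.bounds_of_hinj ω a b hab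
  let Z : ℤ → Prop := fun j => IsZero ((homologyFunctor (ModuleCat.{u} A) j).obj ω)
  have hlo : ∀ j, j < a → Z j := fun j hj => isZero_of_isGE ω a j hj
  have hhi : ∀ j, b < j → Z j := fun j hj => isZero_of_isLE ω b j hj
  have hne : ∃ j₀, ¬ Z j₀ := by
    by_contra hall
    push Not at hall
    haveI : ω.IsGE (b + 1) := (isGE_iff ω (b + 1)).mpr (fun i _ => hall i)
    have hz : IsZero ω := TStructure.t.isZero ω b (b + 1) (by omega)
    have h10 : (1 : A) = 0 := hω.toEnd_bijective.1 (hz.eq_of_src _ _)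
    exact one_ne_zero h10
  obtain ⟨j₀, hj₀⟩ := hne
  have hm : ∀ j, Z j ↔ Z (j + (n' - n)) := by
    intro j
    have h1 := isZero_HD_shift_tenD_iff (ModuleCat.of A P) (ModuleCat.of A (Module.Dual A P))
      (invIso P) ω n (j - n)
    have h2 := isZero_HD_shift_tenD_iff (ModuleCat.of A P') (ModuleCat.of A (Module.Dual A P'))
      (invIso P') ω n' (j - n)
    have h3 := Iso.isZero_iff ((homologyFunctor (ModuleCat.{u} A) (j - n)).mapIso θ)
    have e1 : n + (j - n) = j := by ring
    have e2 : n' + (j - n) = j + (n' - n) := by ring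
    rw [e1] at h1
    rw [e2] at h2
    exact h1.symm.trans (h3.trans h2)
  have hmz := eq_zero_of_translate Z a b hlo hhi j₀ hj₀ (n' - n) hm
  have hnn : n = n' := by omega
  subst hnn
  refine ⟨rfl, ?_⟩
  let θ' : (tenD (ModuleCat.of A P)).obj ω ≅ (tenD (ModuleCat.of A P')).obj ω :=
    (shiftFunctor (Dual.D A) n).preimageIso θ
  obtain ⟨e1⟩ := Groth.Agent.Helper9.InvTw5.main ω hω.toEnd_bijective (ModuleCat.of A P)
  obtain ⟨e2⟩ := Groth.Agent.Helper9.InvTw5.main ω hω.toEnd_bijective (ModuleCat.of A P')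
  exact ⟨e1.trans ((Linear.homCongr A (Iso.refl ω) θ').trans e2.symm)⟩

end Groth.Agent.Helper9.InvTw6
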