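import Mathlib

set_option autoImplicit false

namespace Groth.Agent.Helper9.InvolBasis

universe u

variable {V : Type u} [AddCommGroup V] [Module (ZMod 2) V]

/-- An involution of an `𝔽₂`-vector space permutes the vectors of some basis. -/
theorem exists_basis_perm (σ : V →ₗ[ZMod 2] V) (hσ : σ ∘ₗ σ = LinearMap.id) :
    ∃ (ι : Type u) (b : Module.Basis ι (ZMod 2) V), ∀ i, ∃ j, σ (b i) = b j := by
  classical
  have hσ' : ∀ v, σ (σ v) = v := fun v => LinearMap.congr_fun hσ v
  have neg_eq : ∀ v : V, -v = v := fun v => by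
    have : v + v = 0 := by
      rw [← two_smul (ZMod 2) v]
      have : (2 : ZMod 2) = 0 := by decide
      rw [this, zero_smul]
    exact neg_eq_of_add_eq_zero_left this
  -- N = σ - 1
  set N : V →ₗ[ZMod 2] V := σ - LinearMap.id with hN
  have hNN : ∀ v, N (N v) = 0 := by
    intro v
    simp only [hN, LinearMap.sub_apply, LinearMap.id_apply, map_sub, hσ']
    have := neg_eq (σ v - v)
    rw [neg_sub] at this
    rw [this]; abel
  set K := LinearMap.ker N with hK
  have hKfix : ∀ v ∈ K, σ v = v := by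
    intro v hv
    have : N v = 0 := hv
    simpa [hN, sub_eq_zero] using this
  obtain ⟨C, hC⟩ := Submodule.exists_isCompl K
  -- R = range of N, inside K
  set R' : Submodule (ZMod 2) K := (LinearMap.range N).comap K.subtype with hR'
  obtain ⟨D, hD⟩ := Submodule.exists_isCompl R'
  -- the linear map C × C × D → V
  let e0 : (C × C × D) →ₗ[ZMod 2] V :=
    (C.subtype).coprod ((σ ∘ₗ C.subtype).coprod (K.subtype ∘ₗ D.subtype))
  have e0_apply : ∀ c c' d, e0 (c, c', d) = (c : V) + (σ (c' : V) + ((d : K) : V)) := by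
    intro c c' d
    simp [e0]
  have hinj : Function.Injective e0 := by
    rw [← LinearMap.ker_eq_bot, LinearMap.ker_eq_bot']
    rintro ⟨c, c', d⟩ h
    rw [e0_apply] at h
    -- c + c' ∈ K
    have h1 : (c : V) + (c' : V) ∈ K := by
      have : (c : V) + (c' : V) = -(N (c' : V) + ((d : K) : V)) := by
        rw [eq_neg_iff_add_eq_zero, ← h]
        simp only [hN, LinearMap.sub_apply, LinearMap.id_apply]
        abel
      rw [this]
      refine K.neg_mem (K.add_mem ?_ (d : K).2)
      exact hNN _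
    have h2 : (c : V) + (c' : V) ∈ C := C.add_mem c.2 c'.2
    have h3 : (c : V) + (c' : V) = 0 := by
      have := hC.disjoint.le_bot (show (c : V) + (c' : V) ∈ K ⊓ C from ⟨h1, h2⟩)
      simpa using this
    have hcc' : (c : V) = (c' : V) := by
      rw [← neg_eq (c' : V)]
      exact eq_neg_of_add_eq_zero_left h3
    -- N c' + d = 0
    have h4 : N (c' : V) + ((d : K) : V) = 0 := by
      rw [← h, hcc']
      simp only [hN, LinearMap.sub_apply, LinearMap.id_apply]
      have := neg_eq (c' : V)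
      nth_rewrite 2 [← this]
      abel
    have hNc'K : N (c' : V) ∈ K := hNN _
    have h5 : (⟨N (c' : V), hNc'K⟩ : K) ∈ R' := by
      show N (c' : V) ∈ LinearMap.range N
      exact ⟨_, rfl⟩
    have h6 : (⟨N (c' : V), hNc'K⟩ : K) = -(d : K) := by
      apply Subtype.ext
      simpa using eq_neg_of_add_eq_zero_left h4
    have h7 : (d : K) ∈ R' := by
      have := R'.neg_mem h5
      rwa [h6, neg_neg] at this
    have h8 : (d : K) = 0 := by
      have := hD.disjoint.le_bot (show (d : K) ∈ R' ⊓ D from ⟨h7, d.2⟩)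
      simpa using this
    have h9 : N (c' : V) = 0 := by
      rw [h8] at h4
      simpa using h4
    have h10 : (c' : V) = 0 := by
      have := hC.disjoint.le_bot (show (c' : V) ∈ K ⊓ C from ⟨h9, c'.2⟩)
      simpa using this
    have hd0 : d = 0 := Subtype.ext h8
    have hc'0 : c' = 0 := Subtype.ext h10
    have hc0 : c = 0 := Subtype.ext (hcc'.trans h10)
    rw [hc0, hc'0, hd0]
    rfl
  have hsurj : Function.Surjective e0 := by
    intro v
    obtain ⟨k, hk, c, hc, rfl⟩ : ∃ k ∈ K, ∃ c ∈ C, k + c = v := by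
      have : v ∈ K ⊔ C := by rw [hC.sup_eq_top]; trivial
      exact Submodule.mem_sup.mp this
    obtain ⟨r, hr, d, hd, hrd⟩ : ∃ r ∈ R', ∃ d ∈ D, r + d = (⟨k, hk⟩ : K) := by
      have : (⟨k, hk⟩ : K) ∈ R' ⊔ D := by rw [hD.sup_eq_top]; trivial
      exact Submodule.mem_sup.mp this
    obtain ⟨v', hv'⟩ : ∃ v', N v' = (r : V) := hr
    obtain ⟨k'', hk'', c'', hc'', rfl⟩ : ∃ k ∈ K, ∃ c ∈ C, k + c = v' := by
      have : v' ∈ K ⊔ C := by rw [hC.sup_eq_top]; trivial
      exact Submodule.mem_sup.mp this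
    have hNc'' : N c'' = (r : V) := by
      rw [← hv', map_add, (show N k'' = 0 from hk''), zero_add]
    refine ⟨(⟨c - c'', C.sub_mem hc hc''⟩, ⟨c'', hc''⟩, ⟨d, hd⟩), ?_⟩
    rw [e0_apply]
    have hk_eq : k = (r : V) + (d : V) := by
      have := congrArg (fun x : K => (x : V)) hrd
      simpa using this.symm
    rw [hk_eq, ← hNc'']
    simp only [hN, LinearMap.sub_apply, LinearMap.id_apply]
    abel
  obtain ⟨e, he⟩ : ∃ e : (C × C × D) ≃ₗ[ZMod 2] V, ∀ x, e x = e0 x :=
    ⟨LinearEquiv.ofBijective e0 ⟨hinj, hsurj⟩, fun x => rfl⟩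
  obtain ⟨bC, -⟩ : ∃ bC : Module.Basis (Module.Basis.ofVectorSpaceIndex (ZMod 2) C) (ZMod 2) C, True :=
    ⟨Module.Basis.ofVectorSpace (ZMod 2) C, trivial⟩
  obtain ⟨bD, -⟩ : ∃ bD : Module.Basis (Module.Basis.ofVectorSpaceIndex (ZMod 2) D) (ZMod 2) D, True :=
    ⟨Module.Basis.ofVectorSpace (ZMod 2) D, trivial⟩
  refine ⟨_, (bC.prod (bC.prod bD)).map e, ?_⟩
  rintro (i | i | j)
  · refine ⟨Sum.inr (Sum.inl i), ?_⟩
    rw [Module.Basis.map_apply, Module.Basis.map_apply, he, he]
    simp only [Module.Basis.prod_apply, Sum.elim_inl, Sum.elim_inr,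
      Function.comp_apply, LinearMap.coe_inl, LinearMap.coe_inr]
    rw [e0_apply, e0_apply]
    simp
  · refine ⟨Sum.inl i, ?_⟩
    rw [Module.Basis.map_apply, Module.Basis.map_apply, he, he]
    simp only [Module.Basis.prod_apply, Sum.elim_inl, Sum.elim_inr,
      Function.comp_apply, LinearMap.coe_inl, LinearMap.coe_inr]
    rw [e0_apply, e0_apply]
    simp [hσ']
  · refine ⟨Sum.inr (Sum.inr j), ?_⟩
    rw [Module.Basis.map_apply, he]
    simp only [Module.Basis.prod_apply, Sum.elim_inl, Sum.elim_inr,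
      Function.comp_apply, LinearMap.coe_inl, LinearMap.coe_inr]
    rw [e0_apply]
    simp only [Submodule.coe_zero, map_zero, zero_add]
    exact hKfix _ ((bD j : D) : K).2

end Groth.Agent.Helper9.InvolBasis
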