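import Mathlib

namespace Groth.Agent.Helper9.JacCharP

open MvPolynomial

universe u w

variable {R : Type u} [CommRing R] {m : ℕ} {σ : Type w}

/-- the multilinear map `f ↦ coeff μ (det (∂ f_i / ∂ t_j))`. -/
noncomputable def Φ (μ : (Fin m ⊕ σ) →₀ ℕ) :
    MultilinearMap R (fun _ : Fin m => MvPolynomial (Fin m ⊕ σ) R) R :=
  (MvPolynomial.lcoeff (R := R) μ).compMultilinearMap
    (((Matrix.detRowAlternating (n := Fin m)
      (R := MvPolynomial (Fin m ⊕ σ) R)).toMultilinearMap.restrictScalars R).compLinearMap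
      (fun _ => LinearMap.pi fun j =>
        ((pderiv (Sum.inl j) : Derivation R (MvPolynomial (Fin m ⊕ σ) R) _) :
          MvPolynomial (Fin m ⊕ σ) R →ₗ[R] MvPolynomial (Fin m ⊕ σ) R)))

lemma Φ_apply (μ : (Fin m ⊕ σ) →₀ ℕ) (f : Fin m → MvPolynomial (Fin m ⊕ σ) R) :
    Φ μ f = coeff μ (Matrix.of fun i j : Fin m => pderiv (Sum.inl j) (f i)).det := rfl

open Classical in
lemma coeff_det_monomial (e : Fin m → (Fin m ⊕ σ) →₀ ℕ) (μ : (Fin m ⊕ σ) →₀ ℕ) :
    coeff μ (Matrix.of fun i j : Fin m => pderiv (Sum.inl j) (monomial (e i) (1 : R))).det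
      = (if ∑ i, e i = μ + ∑ j : Fin m, Finsupp.single (Sum.inl j) 1 then 1 else 0) *
        (Matrix.of fun i j : Fin m => ((e i (Sum.inl j) : ℕ) : R)).det := by
  classical
  rw [Matrix.det_apply, Matrix.det_apply, coeff_sum, Finset.mul_sum]
  refine Finset.sum_congr rfl fun π _ => ?_
  rw [Units.smul_def, Units.smul_def, zsmul_eq_mul, zsmul_eq_mul,
    ← map_intCast (C : R →+* MvPolynomial (Fin m ⊕ σ) R), coeff_C_mul, mul_left_comm]
  congr 1
  simp only [Matrix.of_apply, pderiv_monomial, one_mul]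
  rw [← monomial_sum_prod, coeff_monomial]
  by_cases hprod : ∏ i : Fin m, ((e (π i) (Sum.inl i) : ℕ) : R) = 0
  · rw [hprod]; simp
  · have hpos : ∀ i : Fin m, 1 ≤ e (π i) (Sum.inl i) := by
      intro i
      by_contra h
      have h0 : e (π i) (Sum.inl i) = 0 := by omega
      apply hprod
      exact Finset.prod_eq_zero (Finset.mem_univ i) (by rw [h0, Nat.cast_zero])
    have hsum : ∑ i : Fin m, (e (π i) - Finsupp.single (Sum.inl i) 1) +
        ∑ j : Fin m, Finsupp.single (Sum.inl j) 1 = ∑ i, e i := by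
      rw [← Finset.sum_add_distrib, ← Equiv.sum_comp π e]
      refine Finset.sum_congr rfl fun i _ => ?_
      exact tsub_add_cancel_of_le (Finsupp.single_le_iff.2 (hpos i))
    have hiff : (∑ i : Fin m, (e (π i) - Finsupp.single (Sum.inl i) 1) = μ) ↔
        (∑ i, e i = μ + ∑ j : Fin m, Finsupp.single (Sum.inl j) 1) := by
      rw [← hsum]
      exact (add_left_injective _).eq_iff.symm
    by_cases hC : ∑ i, e i = μ + ∑ j : Fin m, Finsupp.single (Sum.inl j) 1
    · rw [if_pos (hiff.2 hC), if_pos hC, one_mul]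
    · rw [if_neg (fun h => hC (hiff.1 h)), if_neg hC, zero_mul]


lemma det_eq_zero_of_col_sums {R : Type*} [CommRing R] {m : ℕ} (hm : 0 < m)
    (E : Matrix (Fin m) (Fin m) R) (h : ∀ j, ∑ i, E i j = 0) : E.det = 0 := by
  have h1 : E.transpose.mulVec (fun _ => (1 : R)) = 0 := by
    funext j
    simp [Matrix.mulVec, dotProduct, h j]
  have h2 : (E.transpose.adjugate * E.transpose).mulVec (fun _ => (1 : R)) = 0 := by
    rw [← Matrix.mulVec_mulVec, h1, Matrix.mulVec_zero]
  rw [Matrix.adjugate_mul, Matrix.det_transpose] at h2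
  have := congrFun h2 ⟨0, hm⟩
  simpa [Matrix.smul_mulVec] using this

end Groth.Agent.Helper9.JacCharP
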