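import Mathlib
import Groth.Prelude.Def_KZero

set_option autoImplicit false
universe v v' u u'
open CategoryTheory CategoryTheory.Limits
open KZero ZeroObject

namespace Groth.Agent.Helper9.K0A

section Basic

variable {A : Type u} [Category.{v} A] [Abelian A]

lemma cl_ses {S : ShortComplex A} (hS : S.ShortExact) :
    cl S.X₂ = cl S.X₁ + cl S.X₃ := by
  have h : FreeAbelianGroup.of S.X₂ - FreeAbelianGroup.of S.X₁ - FreeAbelianGroup.of S.X₃
      ∈ relAb A := AddSubgroup.subset_closure ⟨S, hS, rfl⟩
  have h2 := (QuotientAddGroup.eq_zero_iff _).2 h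
  unfold cl
  rw [QuotientAddGroup.mk_sub, QuotientAddGroup.mk_sub] at h2
  rw [sub_sub, sub_eq_zero] at h2
  exact h2

lemma cl_zero' (X : A) (hX : IsZero X) : cl X = 0 := by
  have hS : (ShortComplex.mk (0 : X ⟶ X) (0 : X ⟶ X) (by simp)).ShortExact :=
    { exact := ShortComplex.exact_of_isZero_X₂ _ hX
      mono_f := ⟨fun _ _ _ => hX.eq_of_tgt _ _⟩
      epi_g := ⟨fun _ _ _ => hX.eq_of_src _ _⟩ }
  have := cl_ses hS
  simpa using this

lemma cl_iso {X Y : A} (e : X ≅ Y) : cl X = cl Y := by
  have hS : (ShortComplex.mk e.hom (0 : Y ⟶ (0 : A)) (by simp)).ShortExact :=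
    { exact := ShortComplex.exact_of_g_is_cokernel _
        (by
          refine CokernelCofork.IsColimit.ofπ _ _ (fun _ _ => 0) ?_ ?_
          · intro Z g hg
            have : g = 0 := by
              rw [← cancel_epi e.hom]; simpa using hg
            simp [this]
          · intro Z g hg b hb
            exact (isZero_zero A).eq_of_src _ _)
      mono_f := inferInstance
      epi_g := ⟨fun _ _ _ => (isZero_zero A).eq_of_src _ _⟩ }
  have := cl_ses hS
  simp only at this
  rw [this, cl_zero' _ (isZero_zero A), add_zero]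

/-- Euler characteristic identity for `0 → ker f → X → Y → coker f → 0`. -/
lemma cl_four {X Y : A} (f : X ⟶ Y) :
    cl (kernel f) + cl Y = cl X + cl (cokernel f) := by
  have h1 : cl X = cl (kernel f) + cl (Abelian.coimage f) := by
    have hS : (ShortComplex.cokernelSequence (kernel.ι f)).ShortExact :=
      { exact := ShortComplex.cokernelSequence_exact _
        mono_f := by
          change Mono (kernel.ι f)
          infer_instance
        epi_g := by infer_instance }
    exact cl_ses hS
  have h2 : cl Y = cl (Abelian.image f) + cl (cokernel f) := by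
    have hS : (ShortComplex.kernelSequence (cokernel.π f)).ShortExact :=
      { exact := ShortComplex.kernelSequence_exact _
        mono_f := by infer_instance
        epi_g := by
          change Epi (cokernel.π f)
          infer_instance }
    exact cl_ses hS
  rw [h1, h2, cl_iso (Abelian.coimageIsoImage f)]
  abel

end Basic

section Sub

variable {A : Type u} [Category.{v} A] [Abelian A] (P : ObjectProperty A)

lemma clSub_of {X : A} (h : P X) :
    clSub P X = QuotientAddGroup.mk (FreeAbelianGroup.of ⟨X, h⟩) := by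
  unfold clSub
  rw [dif_pos h]

lemma clSub_ses {S : ShortComplex A} (hS : S.ShortExact) (h₁ : P S.X₁) (h₂ : P S.X₂)
    (h₃ : P S.X₃) : clSub P S.X₂ = clSub P S.X₁ + clSub P S.X₃ := by
  have h : FreeAbelianGroup.of (⟨S.X₂, h₂⟩ : Subtype P) - FreeAbelianGroup.of ⟨S.X₁, h₁⟩
      - FreeAbelianGroup.of ⟨S.X₃, h₃⟩ ∈ relSub P :=
    AddSubgroup.subset_closure ⟨S, h₁, h₂, h₃, hS, rfl⟩
  have h2 := (QuotientAddGroup.eq_zero_iff _).2 h
  rw [clSub_of P h₁, clSub_of P h₂, clSub_of P h₃]
  rw [QuotientAddGroup.mk_sub, QuotientAddGroup.mk_sub] at h2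
  rw [sub_sub, sub_eq_zero] at h2
  exact h2

variable [P.IsSerreClass]

lemma clSub_zero' (X : A) (hX : IsZero X) : clSub P X = 0 := by
  have hP : P X := P.prop_of_isZero hX
  have hS : (ShortComplex.mk (0 : X ⟶ X) (0 : X ⟶ X) (by simp)).ShortExact :=
    { exact := ShortComplex.exact_of_isZero_X₂ _ hX
      mono_f := ⟨fun _ _ _ => hX.eq_of_tgt _ _⟩
      epi_g := ⟨fun _ _ _ => hX.eq_of_src _ _⟩ }
  have := clSub_ses P hS hP hP hP
  simpa using this

lemma clSub_iso {X Y : A} (e : X ≅ Y) : clSub P X = clSub P Y := by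
  by_cases hX : P X
  · have hY : P Y := P.prop_of_iso e hX
    have hS : (ShortComplex.mk e.hom (0 : Y ⟶ (0 : A)) (by simp)).ShortExact :=
      { exact := ShortComplex.exact_of_g_is_cokernel _
          (by
            refine CokernelCofork.IsColimit.ofπ _ _ (fun _ _ => 0) ?_ ?_
            · intro Z g hg
              have : g = 0 := by
                rw [← cancel_epi e.hom]; simpa using hg
              simp [this]
            · intro Z g hg b hb
              exact (isZero_zero A).eq_of_src _ _)
        mono_f := inferInstance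
        epi_g := ⟨fun _ _ _ => (isZero_zero A).eq_of_src _ _⟩ }
    have := clSub_ses P hS hX hY (P.prop_of_isZero (isZero_zero A))
    simp only at this
    rw [this, clSub_zero' P _ (isZero_zero A), add_zero]
  · have hY : ¬ P Y := fun h => hX (P.prop_of_iso e.symm h)
    unfold clSub
    rw [dif_neg hX, dif_neg hY]

lemma prop_biprod {X Y : A} (hX : P X) (hY : P Y) : P (X ⊞ Y) := by
  have hS : (ShortComplex.mk (biprod.inl : X ⟶ X ⊞ Y) biprod.snd (by simp)).ShortExact :=
    (ShortComplex.Splitting.ofHasBinaryBiproduct X Y).shortExact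
  exact P.prop_X₂_of_shortExact hS hX hY

lemma clSub_biprod {X Y : A} (hX : P X) (hY : P Y) :
    clSub P (X ⊞ Y) = clSub P X + clSub P Y := by
  have hS : (ShortComplex.mk (biprod.inl : X ⟶ X ⊞ Y) biprod.snd (by simp)).ShortExact :=
    (ShortComplex.Splitting.ofHasBinaryBiproduct X Y).shortExact
  exact clSub_ses P hS hX (prop_biprod P hX hY) hY

lemma exists_clSub_sub (x : K0sub P) :
    ∃ (N N' : A), P N ∧ P N' ∧ x = clSub P N - clSub P N' := by
  induction x using QuotientAddGroup.induction_on with
  | H y =>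
    induction y using FreeAbelianGroup.induction_on with
    | zero =>
      refine ⟨0, 0, P.prop_of_isZero (isZero_zero A), P.prop_of_isZero (isZero_zero A), ?_⟩
      simp
    | of X =>
      refine ⟨X.1, 0, X.2, P.prop_of_isZero (isZero_zero A), ?_⟩
      rw [clSub_zero' P _ (isZero_zero A), sub_zero, clSub_of P X.2]
    | neg X ih =>
      obtain ⟨N, N', hN, hN', h⟩ := ih
      refine ⟨N', N, hN', hN, ?_⟩
      rw [QuotientAddGroup.mk_neg, h]; abel
    | add x y hx hy =>
      obtain ⟨N, N', hN, hN', h⟩ := hx
      obtain ⟨M, M', hM, hM', h'⟩ := hy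
      refine ⟨N ⊞ M, N' ⊞ M', prop_biprod P hN hM, prop_biprod P hN' hM', ?_⟩
      rw [QuotientAddGroup.mk_add, h, h', clSub_biprod P hN hM, clSub_biprod P hN' hM']
      abel

end Sub

end Groth.Agent.Helper9.K0A
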