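import Mathlib
import Groth.Prelude.Def_KZero
import Groth.Agent.Helper9.K0A

set_option autoImplicit false
universe v v' u u'
open CategoryTheory CategoryTheory.Limits
open KZero ZeroObject

namespace Groth.Agent.Helper9.K0B

open Groth.Agent.Helper9.K0A

variable {A : Type u} [Category.{v} A] [Abelian A] (P : ObjectProperty A) [P.IsSerreClass]
  {Q : Type u'} [Category.{v'} Q] [Abelian Q]
  (L : A ⥤ Q)

/-- the map `K₀(P) → K₀(A)` -/
noncomputable def iota : K0sub P →+ K0 A :=
  QuotientAddGroup.lift (relSub P) (FreeAbelianGroup.lift fun X => cl X.1) (by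
    refine (AddSubgroup.closure_le _).2 ?_
    rintro x ⟨S, h₁, h₂, h₃, hS, rfl⟩
    simp only [SetLike.mem_coe, AddMonoidHom.mem_ker, map_sub, FreeAbelianGroup.lift_apply_of]
    rw [cl_ses hS]; abel)

lemma iota_clSub {X : A} (h : P X) : iota P (clSub P X) = cl X := by
  rw [clSub_of P h]
  unfold iota
  erw [QuotientAddGroup.lift_mk]
  simp

variable [L.Additive] [PreservesFiniteLimits L] [PreservesFiniteColimits L]

/-- the map `K₀(A) → K₀(Q)` -/
noncomputable def lam : K0 A →+ K0 Q :=
  QuotientAddGroup.lift (relAb A) (FreeAbelianGroup.lift fun X => cl (L.obj X)) (by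
    refine (AddSubgroup.closure_le _).2 ?_
    rintro x ⟨S, hS, rfl⟩
    simp only [SetLike.mem_coe, AddMonoidHom.mem_ker, map_sub, FreeAbelianGroup.lift_apply_of]
    have := cl_ses (hS.map_of_exact L)
    rw [show cl (L.obj S.X₂) = cl (L.obj S.X₁) + cl (L.obj S.X₃) from this]; abel)

lemma lam_cl (X : A) : lam L (cl X) = cl (L.obj X) := by
  unfold lam cl
  erw [QuotientAddGroup.lift_mk]
  simp

variable [L.IsLocalization P.isoModSerre]

include P in
lemma lam_surjective : Function.Surjective (lam L) := by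
  haveI : L.EssSurj := Localization.essSurj L P.isoModSerre
  intro y
  induction y using QuotientAddGroup.induction_on with
  | H y =>
    induction y using FreeAbelianGroup.induction_on with
    | zero => exact ⟨0, by simp⟩
    | of Y =>
      refine ⟨cl (L.objPreimage Y), ?_⟩
      rw [lam_cl]
      exact cl_iso (L.objObjPreimageIso Y)
    | neg Y ih =>
      obtain ⟨a, ha⟩ := ih
      exact ⟨-a, by rw [map_neg, ha]; rfl⟩
    | add x y hx hy =>
      obtain ⟨a, ha⟩ := hx
      obtain ⟨b, hb⟩ := hy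
      exact ⟨a + b, by rw [map_add, ha, hb]; rfl⟩

lemma lam_iota (z : K0sub P) : lam L (iota P z) = 0 := by
  induction z using QuotientAddGroup.induction_on with
  | H y =>
    induction y using FreeAbelianGroup.induction_on with
    | zero => simp
    | of X =>
      have : (QuotientAddGroup.mk (FreeAbelianGroup.of X) : K0sub P) = clSub P X.1 :=
        (clSub_of P X.2).symm
      rw [this, iota_clSub P X.2, lam_cl]
      exact cl_zero' _ ((ObjectProperty.SerreClassLocalization.isZero_obj_iff L P X.1).2 X.2)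
    | neg X ih =>
      rw [QuotientAddGroup.mk_neg, map_neg, map_neg, ih, neg_zero]
    | add x y hx hy =>
      rw [QuotientAddGroup.mk_add, map_add, map_add, hx, hy, add_zero]

/-- the projection `K₀(A) → K₀(A)/im ι` -/
noncomputable def pr : K0 A →+ K0 A ⧸ (iota P).range := QuotientAddGroup.mk' _

lemma pr_cl_of_prop {X : A} (h : P X) : pr P (cl X) = 0 := by
  unfold pr
  rw [QuotientAddGroup.mk'_apply, QuotientAddGroup.eq_zero_iff]
  exact ⟨clSub P X, iota_clSub P h⟩

lemma pr_cl_of_isoModSerre {X Y : A} (s : X ⟶ Y) (hs : P.isoModSerre s) :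
    pr P (cl X) = pr P (cl Y) := by
  have h := congrArg (pr P) (cl_four s)
  rw [map_add, map_add, pr_cl_of_prop P hs.1, pr_cl_of_prop P hs.2, zero_add, add_zero] at h
  exact h.symm

lemma pr_cl_of_iso {X Y : A} (e : L.obj X ≅ L.obj Y) : pr P (cl X) = pr P (cl Y) := by
  obtain ⟨φ, hφ⟩ := Localization.exists_leftFraction L P.isoModSerre e.hom
  have hs := Localization.inverts L P.isoModSerre φ.s φ.hs
  have h1 : L.map φ.f = e.hom ≫ L.map φ.s := by
    rw [← φ.map_comp_map_s L (Localization.inverts L P.isoModSerre), ← hφ]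
  have h2 : IsIso (L.map φ.f) := by rw [h1]; infer_instance
  have h3 : P.isoModSerre φ.f :=
    (ObjectProperty.SerreClassLocalization.isIso_map_iff L P φ.f).1 h2
  rw [pr_cl_of_isoModSerre P φ.f h3, pr_cl_of_isoModSerre P φ.s φ.hs]

lemma pr_cl_ses {S : ShortComplex Q} (hS : S.ShortExact) {X₁ X₂ X₃ : A}
    (e₁ : L.obj X₁ ≅ S.X₁) (e₂ : L.obj X₂ ≅ S.X₂) (e₃ : L.obj X₃ ≅ S.X₃) :
    pr P (cl X₂) = pr P (cl X₁) + pr P (cl X₃) := by
  obtain ⟨φ, hφ⟩ := Localization.exists_leftFraction L P.isoModSerre (e₂.hom ≫ S.g ≫ e₃.inv)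
  have hs := Localization.inverts L P.isoModSerre φ.s φ.hs
  have h1 : L.map φ.f = e₂.hom ≫ S.g ≫ e₃.inv ≫ L.map φ.s := by
    rw [← φ.map_comp_map_s L (Localization.inverts L P.isoModSerre), ← hφ]
    simp
  haveI : Epi S.g := hS.epi_g
  have hepi : Epi (L.map φ.f) := by
    rw [h1]; infer_instance
  have hcok : P (cokernel φ.f) :=
    (ObjectProperty.SerreClassLocalization.epi_map_iff L P φ.f).1 hepi
  let q : L.obj φ.Y' ≅ S.X₃ := (asIso (L.map φ.s)).symm ≪≫ e₃
  have w : L.map φ.f ≫ q.hom = e₂.hom ≫ S.g := by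
    simp [q, h1]
  let e₀ : kernel S.g ≅ S.X₁ :=
    IsLimit.conePointUniqueUpToIso (kernelIsKernel S.g) hS.fIsKernel
  let hker : L.obj (kernel φ.f) ≅ L.obj X₁ :=
    PreservesKernel.iso L φ.f ≪≫ kernel.mapIso (L.map φ.f) S.g e₂ q w ≪≫ e₀ ≪≫ e₁.symm
  have h := congrArg (pr P) (cl_four φ.f)
  rw [map_add, map_add, pr_cl_of_prop P hcok, add_zero, pr_cl_of_iso P L hker,
    ← pr_cl_of_isoModSerre P φ.s φ.hs] at h
  exact h.symm

/-- the map `K₀(Q) → K₀(A)/im ι` -/
noncomputable def mu : K0 Q →+ K0 A ⧸ (iota P).range :=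
  haveI : L.EssSurj := Localization.essSurj L P.isoModSerre
  QuotientAddGroup.lift (relAb Q)
    (FreeAbelianGroup.lift fun Y => pr P (cl (L.objPreimage Y))) (by
    refine (AddSubgroup.closure_le _).2 ?_
    rintro x ⟨S, hS, rfl⟩
    simp only [SetLike.mem_coe, AddMonoidHom.mem_ker, map_sub, FreeAbelianGroup.lift_apply_of]
    rw [pr_cl_ses P L hS (L.objObjPreimageIso _) (L.objObjPreimageIso _) (L.objObjPreimageIso _)]
    abel)

lemma mu_cl (Y : Q) : haveI : L.EssSurj := Localization.essSurj L P.isoModSerre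
    mu P L (cl Y) = pr P (cl (L.objPreimage Y)) := by
  unfold mu cl
  erw [QuotientAddGroup.lift_mk]

lemma mu_lam (x : K0 A) : mu P L (lam L x) = pr P x := by
  haveI : L.EssSurj := Localization.essSurj L P.isoModSerre
  induction x using QuotientAddGroup.induction_on with
  | H y =>
    induction y using FreeAbelianGroup.induction_on with
    | zero => simp
    | of X =>
      change mu P L (lam L (cl X)) = pr P (cl X)
      rw [lam_cl, mu_cl]
      exact pr_cl_of_iso P L (L.objObjPreimageIso _)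
    | neg X ih =>
      rw [QuotientAddGroup.mk_neg, map_neg, map_neg, map_neg, ih]
    | add x y hx hy =>
      rw [QuotientAddGroup.mk_add, map_add, map_add, map_add, hx, hy]

lemma ker_lam : (lam L).ker = (iota P).range := by
  ext x
  constructor
  · intro hx
    rw [AddMonoidHom.mem_ker] at hx
    have := mu_lam P L x
    rw [hx, map_zero] at this
    have h2 : pr P x = 0 := this.symm
    unfold pr at h2
    induction x using QuotientAddGroup.induction_on with
    | H y =>
      exact (QuotientAddGroup.eq_zero_iff _).1 h2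
  · rintro ⟨z, rfl⟩
    exact lam_iota P L z

end Groth.Agent.Helper9.K0B
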