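import Mathlib
import Groth.Prelude.Def_KZero
import Groth.Agent.Helper9.K0A

set_option autoImplicit false
universe v v' u u'
open CategoryTheory CategoryTheory.Limits
open KZero ZeroObject

namespace Groth.Agent.Helper9.K0C

open Groth.Agent.Helper9.K0A

variable {A : Type u} [Category.{v} A] [Abelian A]

lemma cl_homology (S : ShortComplex A) :
    cl S.homology + cl S.X₁ = cl (kernel S.g) + cl (kernel S.f) := by
  have h := cl_four S.toCycles
  let e₁ : cokernel S.toCycles ≅ S.homology :=
    IsColimit.coconePointUniqueUpToIso (cokernelIsCokernel S.toCycles) S.homologyIsCokernel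
  let e₂ : kernel S.toCycles ≅ kernel S.f :=
    (kernelCompMono S.toCycles S.iCycles).symm ≪≫ kernelIsoOfEq S.toCycles_i
  rw [cl_iso e₁, cl_iso e₂, cl_iso S.cyclesIsoKernel] at h
  rw [add_comm, ← h, add_comm]

lemma cl_homology_symm {M : A} (φ ψ : M ⟶ M) (h₁ : φ ≫ ψ = 0) (h₂ : ψ ≫ φ = 0) :
    cl (ShortComplex.mk φ ψ h₁).homology = cl (ShortComplex.mk ψ φ h₂).homology := by
  have e1 := cl_homology (ShortComplex.mk φ ψ h₁)
  have e2 := cl_homology (ShortComplex.mk ψ φ h₂)
  dsimp at e1 e2
  have : cl (ShortComplex.mk φ ψ h₁).homology + cl M = cl (ShortComplex.mk ψ φ h₂).homology + cl M := by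
    rw [e1, e2, add_comm]
  exact add_right_cancel this

end Groth.Agent.Helper9.K0C
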