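import Mathlib
import Groth.Prelude.Def_KZero

set_option autoImplicit false
universe v v' u u'
open CategoryTheory CategoryTheory.Limits
open KZero ZeroObject

namespace Groth.Agent.Helper9.K0D

/-- isomorphism classes of objects -/
def IsoCl (A : Type u) [Category.{v} A] : Type u := Quotient (isIsomorphicSetoid A)

namespace IsoCl

variable {A : Type u} [Category.{v} A] [Abelian A]

/-- the class of an object -/
def mk (X : A) : IsoCl A := Quotient.mk _ X

lemma mk_eq_mk_iff {X Y : A} : mk X = mk Y ↔ Nonempty (X ≅ Y) := Quotient.eq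

lemma mk_surjective (x : IsoCl A) : ∃ X, mk X = x := Quotient.exists_rep x

noncomputable instance : Add (IsoCl A) :=
  ⟨Quotient.map₂ (fun X Y => X ⊞ Y) (by
    rintro X X' ⟨e⟩ Y Y' ⟨e'⟩
    exact ⟨biprod.mapIso e e'⟩)⟩

noncomputable instance : Zero (IsoCl A) := ⟨mk 0⟩

lemma mk_add (X Y : A) : mk X + mk Y = mk (X ⊞ Y) := rfl

lemma zero_def : (0 : IsoCl A) = mk 0 := rfl

noncomputable instance : AddCommMonoid (IsoCl A) where
  add_assoc := by
    rintro ⟨X⟩ ⟨Y⟩ ⟨Z⟩
    exact Quotient.sound ⟨biprod.associator X Y Z⟩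
  zero_add := by
    rintro ⟨X⟩
    exact Quotient.sound ⟨(isoZeroBiprod (isZero_zero A)).symm⟩
  add_zero := by
    rintro ⟨X⟩
    exact Quotient.sound ⟨(isoBiprodZero (isZero_zero A)).symm⟩
  add_comm := by
    rintro ⟨X⟩ ⟨Y⟩
    exact Quotient.sound ⟨biprod.braiding X Y⟩
  nsmul := nsmulRec

end IsoCl

variable {A : Type u} [Category.{v} A] [Abelian A]

/-- the Grothendieck group of the monoid of isomorphism classes under `⊞` -/
abbrev Gr (A : Type u) [Category.{v} A] [Abelian A] : Type u :=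
  Algebra.GrothendieckAddGroup (IsoCl A)

/-- the class of an object in `Gr` -/
noncomputable def grOf (X : A) : Gr A := Algebra.GrothendieckAddGroup.of (IsoCl.mk X)

lemma grOf_biprod (X Y : A) : grOf (X ⊞ Y) = grOf X + grOf Y := by
  unfold grOf
  rw [← IsoCl.mk_add, map_add]

lemma grOf_iso {X Y : A} (e : X ≅ Y) : grOf X = grOf Y := by
  unfold grOf
  rw [IsoCl.mk_eq_mk_iff.2 ⟨e⟩]

lemma grOf_zero : grOf (0 : A) = 0 := by
  unfold grOf
  rw [← IsoCl.zero_def, map_zero]

lemma grOf_eq_iff {X Y : A} : grOf X = grOf Y ↔ ∃ Z : A, Nonempty (Z ⊞ X ≅ Z ⊞ Y) := by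
  unfold grOf
  erw [(AddLocalization.addMonoidOf (⊤ : AddSubmonoid (IsoCl A))).eq_iff_exists]
  constructor
  · rintro ⟨⟨c, _⟩, hc⟩
    obtain ⟨Z, rfl⟩ := IsoCl.mk_surjective c
    exact ⟨Z, IsoCl.mk_eq_mk_iff.1 hc⟩
  · rintro ⟨Z, hZ⟩
    exact ⟨⟨IsoCl.mk Z, trivial⟩, IsoCl.mk_eq_mk_iff.2 hZ⟩

/-- the map from the free abelian group on objects -/
noncomputable def toGr : FreeAbelianGroup A →+ Gr A := FreeAbelianGroup.lift grOf

@[simp] lemma toGr_of (X : A) : toGr (FreeAbelianGroup.of X) = grOf X := by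
  unfold toGr; simp

end Groth.Agent.Helper9.K0D
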