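import Mathlib
import Groth.Prelude.Def_KZero
import Groth.Agent.Helper9.ResThm

/-! `K₀` of a thick subcategory of an abelian category agrees with `K₀` of the bounded derived
category with cohomology in it. -/

set_option autoImplicit false
universe w v u

open CategoryTheory CategoryTheory.Limits CategoryTheory.Pretriangulated

namespace Groth.Agent.Helper9.K0Db

section tri

variable {T : Type u} [Category.{v} T] [Preadditive T] [HasZeroObject T] [HasShift T ℤ]
  [∀ n : ℤ, (shiftFunctor T n).Additive] [Pretriangulated T] (Pd : ObjectProperty T)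

open ZeroObject

lemma clTr_of {X : T} (h : Pd X) :
    KZero.clTr Pd X = QuotientAddGroup.mk (FreeAbelianGroup.of ⟨X, h⟩) := by
  classical
  rw [KZero.clTr, dif_pos h]

/-- the relation in `K0tr`. -/
lemma clTr_rel (X : Triangle T) (hX : X ∈ distTriang T) (h₁ : Pd X.obj₁) (h₂ : Pd X.obj₂)
    (h₃ : Pd X.obj₃) :
    KZero.clTr Pd X.obj₂ = KZero.clTr Pd X.obj₁ + KZero.clTr Pd X.obj₃ := by
  rw [clTr_of Pd h₁, clTr_of Pd h₂, clTr_of Pd h₃]
  have hmem : FreeAbelianGroup.of (⟨X.obj₂, h₂⟩ : Subtype Pd) -
      FreeAbelianGroup.of ⟨X.obj₁, h₁⟩ - FreeAbelianGroup.of ⟨X.obj₃, h₃⟩ ∈ KZero.relTr Pd :=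
    AddSubgroup.subset_closure ⟨X, h₁, h₂, h₃, hX, rfl⟩
  have := (QuotientAddGroup.eq_zero_iff _).mpr hmem
  rw [QuotientAddGroup.mk_sub, QuotientAddGroup.mk_sub, sub_sub, sub_eq_zero] at this
  exact this

variable (h0 : Pd (0 : T))
include h0

lemma clTr_zero : KZero.clTr Pd (0 : T) = 0 := by
  have h := clTr_rel Pd _ (contractible_distinguished (0 : T)) h0 h0 h0
  simp only [contractibleTriangle, Triangle.mk_obj₁, Triangle.mk_obj₂, Triangle.mk_obj₃] at h
  exact left_eq_add.mp h

lemma clTr_iso {X Y : T} (e : X ≅ Y) (hX : Pd X) (hY : Pd Y) :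
    KZero.clTr Pd X = KZero.clTr Pd Y := by
  have hT : Triangle.mk e.hom (0 : Y ⟶ 0) 0 ∈ distTriang T := by
    refine isomorphic_distinguished _ (contractible_distinguished X) _
      (Triangle.isoMk _ _ (Iso.refl X) e.symm (Iso.refl (0 : T)) ?_ ?_ ?_)
    · change e.hom ≫ e.inv = 𝟙 X ≫ 𝟙 X
      simp
    · change (0 : Y ⟶ 0) ≫ 𝟙 0 = e.inv ≫ 0
      simp
    · change (0 : (0 : T) ⟶ (shiftFunctor T (1 : ℤ)).obj X) ≫
        (shiftFunctor T (1 : ℤ)).map (𝟙 X) = 𝟙 0 ≫ 0
      simp
  have h := clTr_rel Pd _ hT hX hY h0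
  simp only [Triangle.mk_obj₁, Triangle.mk_obj₂, Triangle.mk_obj₃] at h
  rw [h, clTr_zero Pd h0, add_zero]

lemma clTr_isZero {X : T} (hX : IsZero X) (hP : Pd X) : KZero.clTr Pd X = 0 := by
  rw [clTr_iso Pd h0 hX.isoZero hP h0, clTr_zero Pd h0]

lemma clTr_shift_one {X : T} (hX : Pd X) (hX' : Pd ((shiftFunctor T (1 : ℤ)).obj X)) :
    KZero.clTr Pd ((shiftFunctor T (1 : ℤ)).obj X) = - KZero.clTr Pd X := by
  have hT := rot_of_distTriang _ (contractible_distinguished X)
  have h := clTr_rel Pd _ hT hX h0 hX'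
  simp only [contractibleTriangle, Triangle.rotate, Triangle.mk_obj₁, Triangle.mk_obj₂,
    Triangle.mk_obj₃] at h
  rw [clTr_zero Pd h0] at h
  exact (neg_eq_of_add_eq_zero_right h.symm).symm

end tri


section alg

variable {G : Type*} [AddCommGroup G]

/-- the sign `(-1)^i` -/
def eps (i : ℤ) : ℤ := (i.negOnePow : ℤ)

lemma eps_succ (i : ℤ) : eps (i + 1) = - eps i := by
  simp [eps, Int.negOnePow_succ]

lemma support_eps_smul (f : ℤ → G) :
    (Function.support fun i => eps i • f i) ⊆ Function.support f := by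
  intro i hi
  rw [Function.mem_support] at hi ⊢
  intro h
  exact hi (by rw [h, smul_zero])

/-- the alternating sum -/
noncomputable def alt (f : ℤ → G) : G := ∑ᶠ i, eps i • f i

lemma alt_add (f g : ℤ → G) (hf : (Function.support f).Finite) (hg : (Function.support g).Finite) :
    alt (fun i => f i + g i) = alt f + alt g := by
  unfold alt
  simp only [smul_add]
  exact finsum_add_distrib (hf.subset (support_eps_smul f)) (hg.subset (support_eps_smul g))

lemma alt_shift (f : ℤ → G) : alt (fun i => f (i + 1)) = - alt f := by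
  unfold alt
  rw [← finsum_comp_equiv (Equiv.addRight (1 : ℤ)) (f := fun i => eps i • f i), ← finsum_neg_distrib]
  refine finsum_congr fun i => ?_
  simp only [Equiv.coe_addRight, eps_succ, neg_smul, neg_neg]

lemma alt_congr {f g : ℤ → G} (h : ∀ i, f i = g i) : alt f = alt g := by
  unfold alt
  exact finsum_congr fun i => by rw [h]

/-- the telescoping identity behind the additivity of the Euler characteristic. -/
lemma alt_tele (h₁ h₂ h₃ a b d : ℤ → G) (ha : (Function.support a).Finite)
    (hb : (Function.support b).Finite) (hd : (Function.support d).Finite)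
    (e₂ : ∀ i, h₂ i = a i + b i) (e₃ : ∀ i, h₃ i = b i + d i)
    (e₁ : ∀ i, h₁ (i + 1) = d i + a (i + 1)) :
    alt h₂ = alt h₁ + alt h₃ := by
  have ha' : (Function.support fun i => a (i + 1)).Finite := by
    refine (ha.preimage (f := fun i : ℤ => i + 1) (fun x _ y _ h => by simpa using h)).subset ?_
    intro i hi
    exact hi
  have E₂ : alt h₂ = alt a + alt b := by rw [alt_congr e₂, alt_add a b ha hb]
  have E₃ : alt h₃ = alt b + alt d := by rw [alt_congr e₃, alt_add b d hb hd]
  have E₁ : - alt h₁ = alt d - alt a := by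
    rw [← alt_shift h₁, alt_congr e₁, alt_add d _ hd ha', alt_shift a]
    abel
  have : alt h₁ = alt a - alt d := by
    rw [← neg_neg (alt h₁), E₁]; abel
  rw [E₂, E₃, this]
  abel

end alg


section ab

variable {C : Type u} [Category.{v} C] [Abelian C] (P : ObjectProperty C)

open Groth.Agent.Helper9.ResThm (clSub_add)
open ZeroObject

/-- a "thick" class: closed under isomorphisms, zero objects, kernels and cokernels. -/
structure Thick : Prop where
  iso : ∀ X Y : C, (X ≅ Y) → P X → P Y
  zero : ∀ X : C, IsZero X → P X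
  ker : ∀ {X Y : C} (f : X ⟶ Y), P X → P Y → P (kernel f)
  coker : ∀ {X Y : C} (f : X ⟶ Y), P X → P Y → P (cokernel f)

variable {P} (hP : Thick P)
include hP

lemma clSub_isZero {X : C} (hX : IsZero X) : KZero.clSub P X = 0 := by
  have hS : (ShortComplex.mk (0 : X ⟶ X) (0 : X ⟶ X) zero_comp).ShortExact :=
    ShortComplex.ShortExact.mk' (ShortComplex.exact_of_isZero_X₂ _ hX)
      ⟨fun g h _ => hX.eq_of_tgt g h⟩ ⟨fun g h _ => hX.eq_of_src g h⟩
  have h := clSub_add P _ hS (hP.zero X hX) (hP.zero X hX) (hP.zero X hX)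
  exact left_eq_add.mp h

lemma clSub_iso {X Y : C} (e : X ≅ Y) (hX : P X) : KZero.clSub P X = KZero.clSub P Y := by
  have hY : P Y := hP.iso X Y e hX
  have h0 : IsZero (0 : C) := isZero_zero C
  have hS : (ShortComplex.mk e.hom (0 : Y ⟶ 0) comp_zero).ShortExact :=
    ShortComplex.ShortExact.mk'
      ((ShortComplex.exact_iff_epi _ (by rfl)).mpr (by dsimp; infer_instance))
      (by dsimp; infer_instance) ⟨fun g h _ => h0.eq_of_src g h⟩
  have h := clSub_add P _ hS hX hY (hP.zero _ h0)
  change KZero.clSub P Y = KZero.clSub P X + KZero.clSub P (0 : C) at h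
  rw [h, clSub_isZero hP h0, add_zero]

lemma prop_image {X Y : C} (f : X ⟶ Y) (hX : P X) (hY : P Y) : P (Abelian.image f) :=
  hP.ker _ hY (hP.coker f hX hY)

omit hP in
lemma isZero_image_of_tgt {X Y : C} (f : X ⟶ Y) (hY : IsZero Y) : IsZero (Abelian.image f) := by
  rw [IsZero.iff_id_eq_zero, ← cancel_mono (Abelian.image.ι f)]
  exact hY.eq_of_tgt _ _

omit hP in
lemma isZero_image_of_src {X Y : C} (f : X ⟶ Y) (hX : IsZero X) : IsZero (Abelian.image f) := by
  rw [IsZero.iff_id_eq_zero, ← cancel_epi (Abelian.factorThruImage f)]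
  exact hX.eq_of_src _ _

/-- for an exact `X₁ ⟶ X₂ ⟶ X₃` in `P`, `[X₂] = [im f] + [im g]`. -/
lemma cl_eq_im_add_im (S : ShortComplex C) (hS : S.Exact) (h₁ : P S.X₁) (h₂ : P S.X₂)
    (h₃ : P S.X₃) :
    KZero.clSub P S.X₂ = KZero.clSub P (Abelian.image S.f) + KZero.clSub P (Abelian.image S.g) := by
  have w : Abelian.image.ι S.f ≫ Abelian.factorThruImage S.g = 0 := by
    rw [← cancel_mono (Abelian.image.ι S.g), ← cancel_epi (Abelian.factorThruImage S.f)]
    simp
  have w' : Abelian.image.ι S.f ≫ S.g = 0 := by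
    rw [← cancel_epi (Abelian.factorThruImage S.f)]
    simp
  -- first replace `f` by the inclusion of its image
  have e1 : (ShortComplex.mk (Abelian.image.ι S.f) S.g w').Exact := by
    let φ : S ⟶ ShortComplex.mk (Abelian.image.ι S.f) S.g w' :=
      { τ₁ := Abelian.factorThruImage S.f
        τ₂ := 𝟙 _
        τ₃ := 𝟙 _ }
    haveI : Epi φ.τ₁ := by dsimp [φ]; infer_instance
    haveI : IsIso φ.τ₂ := by dsimp [φ]; infer_instance
    haveI : Mono φ.τ₃ := by dsimp [φ]; infer_instance
    exact (ShortComplex.exact_iff_of_epi_of_isIso_of_mono φ).mp hS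
  have e2 : (ShortComplex.mk (Abelian.image.ι S.f) (Abelian.factorThruImage S.g) w).Exact := by
    let φ : ShortComplex.mk (Abelian.image.ι S.f) (Abelian.factorThruImage S.g) w ⟶
        ShortComplex.mk (Abelian.image.ι S.f) S.g w' :=
      { τ₁ := 𝟙 _
        τ₂ := 𝟙 _
        τ₃ := Abelian.image.ι S.g }
    haveI : Epi φ.τ₁ := by dsimp [φ]; infer_instance
    haveI : IsIso φ.τ₂ := by dsimp [φ]; infer_instance
    haveI : Mono φ.τ₃ := by dsimp [φ]; infer_instance
    exact (ShortComplex.exact_iff_of_epi_of_isIso_of_mono φ).mpr e1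
  have hSE : (ShortComplex.mk (Abelian.image.ι S.f) (Abelian.factorThruImage S.g) w).ShortExact :=
    ShortComplex.ShortExact.mk' e2 (by dsimp; infer_instance) (by dsimp; infer_instance)
  exact clSub_add P _ hSE (prop_image hP S.f h₁ h₂) h₂ (prop_image hP S.g h₂ h₃)

end ab


section der

variable {C : Type u} [Category.{v} C] [Abelian C] [HasDerivedCategory.{w} C]
  {P : ObjectProperty C} (hP : Thick P)

/-- the cohomology objects -/
noncomputable abbrev Hc (i : ℤ) (K : DerivedCategory C) : C :=
  (DerivedCategory.homologyFunctor C i).obj K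

/-- the degrees with non-zero cohomology -/
def nz (K : DerivedCategory C) : Set ℤ := {i | ¬ IsZero (Hc i K)}

lemma nz_finite (K : DerivedCategory C) (a b : ℤ) [K.IsGE a] [K.IsLE b] : (nz K).Finite := by
  refine (Set.finite_Icc a b).subset fun i hi => ?_
  by_contra h
  rw [Set.mem_Icc, not_and_or, not_le, not_le] at h
  rcases h with h | h
  · exact hi (DerivedCategory.isZero_of_isGE K a i h)
  · exact hi (DerivedCategory.isZero_of_isLE K b i h)

/-- the classes of the cohomology objects -/
noncomputable def hcl (P : ObjectProperty C) (K : DerivedCategory C) (i : ℤ) : KZero.K0sub P :=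
  KZero.clSub P (Hc i K)

/-- the Euler characteristic -/
noncomputable def chi (P : ObjectProperty C) (K : DerivedCategory C) : KZero.K0sub P :=
  alt (hcl P K)

variable (Pd : ObjectProperty (DerivedCategory C))
  (hPd : ∀ K : DerivedCategory C, Pd K ↔ (∀ i : ℤ, P (Hc i K)) ∧ ∃ a b : ℤ, K.IsGE a ∧ K.IsLE b)

include hP hPd

omit hP in
lemma nz_finite' {K : DerivedCategory C} (hK : Pd K) : (nz K).Finite := by
  obtain ⟨_, a, b, ha, hb⟩ := (hPd K).mp hK
  exact nz_finite K a b

lemma chi_add (T : Triangle (DerivedCategory C)) (hT : T ∈ distTriang _) (h₁ : Pd T.obj₁)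
    (h₂ : Pd T.obj₂) (h₃ : Pd T.obj₃) : chi P T.obj₂ = chi P T.obj₁ + chi P T.obj₃ := by
  have p₁ := ((hPd _).mp h₁).1
  have p₂ := ((hPd _).mp h₂).1
  have p₃ := ((hPd _).mp h₃).1
  refine alt_tele (hcl P T.obj₁) (hcl P T.obj₂) (hcl P T.obj₃)
    (fun i => KZero.clSub P (Abelian.image ((DerivedCategory.homologyFunctor C i).map T.mor₁)))
    (fun i => KZero.clSub P (Abelian.image ((DerivedCategory.homologyFunctor C i).map T.mor₂)))
    (fun i => KZero.clSub P (Abelian.image (DerivedCategory.HomologySequence.δ T i (i + 1) rfl)))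
    ?_ ?_ ?_ ?_ ?_ ?_
  · refine (nz_finite' Pd hPd h₂).subset fun i hi => ?_
    intro hz
    exact hi (clSub_isZero hP (isZero_image_of_tgt _ hz))
  · refine (nz_finite' Pd hPd h₂).subset fun i hi => ?_
    intro hz
    exact hi (clSub_isZero hP (isZero_image_of_src _ hz))
  · refine (nz_finite' Pd hPd h₃).subset fun i hi => ?_
    intro hz
    exact hi (clSub_isZero hP (isZero_image_of_src _ hz))
  · intro i
    exact cl_eq_im_add_im hP _ (DerivedCategory.HomologySequence.exact₂ T hT i) (p₁ i) (p₂ i)
      (p₃ i)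
  · intro i
    exact cl_eq_im_add_im hP _ (DerivedCategory.HomologySequence.exact₃ T hT i (i + 1) rfl)
      (p₂ i) (p₃ i) (p₁ (i + 1))
  · intro i
    exact cl_eq_im_add_im hP _ (DerivedCategory.HomologySequence.exact₁ T hT i (i + 1) rfl)
      (p₃ i) (p₁ (i + 1)) (p₂ (i + 1))


open ZeroObject in
lemma pd_of_isZero {K : DerivedCategory C} (hK : IsZero K) : Pd K := by
  refine (hPd K).mpr ⟨fun i => hP.zero _ ((DerivedCategory.homologyFunctor C i).map_isZero hK),
    0, 0, ?_, ?_⟩
  · exact DerivedCategory.TStructure.t.isGE_of_isZero hK 0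
  · exact DerivedCategory.TStructure.t.isLE_of_isZero hK 0

lemma pd_iso {K L : DerivedCategory C} (e : K ≅ L) (hK : Pd K) : Pd L := by
  obtain ⟨h1, a, b, ha, hb⟩ := (hPd K).mp hK
  refine (hPd L).mpr ⟨fun i => hP.iso _ _ ((DerivedCategory.homologyFunctor C i).mapIso e) (h1 i),
    a, b, ?_, ?_⟩
  · exact DerivedCategory.TStructure.t.isGE_of_iso e a
  · exact DerivedCategory.TStructure.t.isLE_of_iso e b

lemma pd_single (X : C) (hX : P X) (m : ℤ) : Pd ((DerivedCategory.singleFunctor C m).obj X) := by
  refine (hPd _).mpr ⟨fun i => ?_, m, m, inferInstance, inferInstance⟩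
  rcases lt_trichotomy i m with h | h | h
  · exact hP.zero _ (DerivedCategory.isZero_of_isGE _ m i h)
  · subst h
    exact hP.iso _ _ ((DerivedCategory.singleFunctorCompHomologyFunctorIso C i).app X).symm hX
  · exact hP.zero _ (DerivedCategory.isZero_of_isLE _ m i h)

omit hPd in
lemma chi_single (X : C) (hX : P X) :
    chi P ((DerivedCategory.singleFunctor C 0).obj X) = KZero.clSub P X := by
  unfold chi alt
  rw [finsum_eq_single _ (0 : ℤ)]
  · rw [eps, Int.negOnePow_zero, Units.val_one, one_smul, hcl]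
    refine (clSub_iso hP ((DerivedCategory.singleFunctorCompHomologyFunctorIso C 0).app X).symm
      hX).symm
  · intro i hi
    rw [hcl]
    rcases lt_or_gt_of_ne hi with h | h
    · rw [clSub_isZero hP (DerivedCategory.isZero_of_isGE _ 0 i h), smul_zero]
    · rw [clSub_isZero hP (DerivedCategory.isZero_of_isLE _ 0 i h), smul_zero]

/-- the map `K₀(P) → K₀(D^b_P)` on the free group. -/
noncomputable def phiFree : FreeAbelianGroup (Subtype P) →+ KZero.K0tr Pd :=
  FreeAbelianGroup.lift fun X => KZero.clTr Pd ((DerivedCategory.singleFunctor C 0).obj X.1)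

lemma relSub_le_ker_phi : KZero.relSub P ≤ (phiFree (P := P) Pd).ker := by
  rw [KZero.relSub, AddSubgroup.closure_le]
  rintro z ⟨S, h₁, h₂, h₃, hS, rfl⟩
  rw [SetLike.mem_coe, AddMonoidHom.mem_ker]
  simp only [phiFree, map_sub, FreeAbelianGroup.lift_apply_of]
  have h := clTr_rel Pd _ hS.singleTriangle_distinguished (pd_single hP Pd hPd _ h₁ 0)
    (pd_single hP Pd hPd _ h₂ 0) (pd_single hP Pd hPd _ h₃ 0)
  simp only [ShortComplex.ShortExact.singleTriangle_obj₁,
    ShortComplex.ShortExact.singleTriangle_obj₂, ShortComplex.ShortExact.singleTriangle_obj₃] at h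
  rw [h]
  abel

/-- the map `K₀(P) → K₀(D^b_P)`. -/
noncomputable def phi : KZero.K0sub P →+ KZero.K0tr Pd :=
  QuotientAddGroup.lift (KZero.relSub P) (phiFree Pd) (relSub_le_ker_phi hP Pd hPd)

/-- the Euler characteristic on the free group. -/
noncomputable def psiFree : FreeAbelianGroup (Subtype Pd) →+ KZero.K0sub P :=
  FreeAbelianGroup.lift fun K => chi P K.1

lemma relTr_le_ker_psi : KZero.relTr Pd ≤ (psiFree (P := P) Pd).ker := by
  rw [KZero.relTr, AddSubgroup.closure_le]
  rintro z ⟨T, h₁, h₂, h₃, hT, rfl⟩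
  rw [SetLike.mem_coe, AddMonoidHom.mem_ker]
  simp only [psiFree, map_sub, FreeAbelianGroup.lift_apply_of]
  rw [chi_add hP Pd hPd T hT h₁ h₂ h₃]
  abel

/-- the Euler characteristic `K₀(D^b_P) → K₀(P)`. -/
noncomputable def psi : KZero.K0tr Pd →+ KZero.K0sub P :=
  QuotientAddGroup.lift (KZero.relTr Pd) (psiFree Pd) (relTr_le_ker_psi hP Pd hPd)

lemma phi_clSub (X : C) (hX : P X) :
    phi hP Pd hPd (KZero.clSub P X) =
      KZero.clTr Pd ((DerivedCategory.singleFunctor C 0).obj X) := by
  classical
  rw [KZero.clSub, dif_pos hX]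
  change phiFree Pd (FreeAbelianGroup.of ⟨X, hX⟩) = _
  rw [phiFree, FreeAbelianGroup.lift_apply_of]

lemma psi_clTr (K : DerivedCategory C) (hK : Pd K) :
    psi hP Pd hPd (KZero.clTr Pd K) = chi P K := by
  rw [clTr_of Pd hK]
  change psiFree Pd (FreeAbelianGroup.of ⟨K, hK⟩) = _
  rw [psiFree, FreeAbelianGroup.lift_apply_of]

lemma psi_comp_phi : (psi hP Pd hPd).comp (phi hP Pd hPd) = AddMonoidHom.id _ := by
  classical
  refine QuotientAddGroup.addMonoidHom_ext _ (FreeAbelianGroup.lift_ext _ _ fun X => ?_)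
  obtain ⟨X, hX⟩ := X
  have h1 : (QuotientAddGroup.mk (FreeAbelianGroup.of ⟨X, hX⟩) : KZero.K0sub P) =
      KZero.clSub P X := by
    rw [KZero.clSub, dif_pos hX]
  change psi hP Pd hPd (phi hP Pd hPd (QuotientAddGroup.mk (FreeAbelianGroup.of ⟨X, hX⟩))) =
    QuotientAddGroup.mk (FreeAbelianGroup.of ⟨X, hX⟩)
  rw [h1, phi_clSub hP Pd hPd X hX, psi_clTr hP Pd hPd _ (pd_single hP Pd hPd X hX 0),
    chi_single hP X hX]


open ZeroObject in
lemma pd_zero : Pd (0 : DerivedCategory C) := pd_of_isZero hP Pd hPd (isZero_zero _)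

lemma single_mem (X : C) (hX : P X) (m : ℤ) :
    KZero.clTr Pd ((DerivedCategory.singleFunctor C m).obj X) ∈ (phi hP Pd hPd).range := by
  have h0 := pd_zero hP Pd hPd
  have step : ∀ m : ℤ, KZero.clTr Pd ((DerivedCategory.singleFunctor C m).obj X) =
      - KZero.clTr Pd ((DerivedCategory.singleFunctor C (m + 1)).obj X) := by
    intro m
    have e := ((DerivedCategory.singleFunctors C).shiftIso 1 m (m + 1) (by lia)).app X
    have hs : Pd ((shiftFunctor (DerivedCategory C) (1 : ℤ)).obj
        ((DerivedCategory.singleFunctor C (m + 1)).obj X)) :=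
      pd_iso hP Pd hPd e.symm (pd_single hP Pd hPd X hX m)
    rw [← clTr_shift_one Pd h0 (pd_single hP Pd hPd X hX (m + 1)) hs]
    exact (clTr_iso Pd h0 e hs (pd_single hP Pd hPd X hX m)).symm
  induction m using Int.induction_on with
  | zero => exact ⟨KZero.clSub P X, phi_clSub hP Pd hPd X hX⟩
  | succ i ih =>
    have := step i
    rw [eq_neg_iff_add_eq_zero, add_comm, ← eq_neg_iff_add_eq_zero] at this
    rw [this]
    exact AddSubgroup.neg_mem _ ih
  | pred i ih =>
    have := step (-(i : ℤ) - 1)
    rw [sub_add_cancel] at this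
    rw [this]
    exact AddSubgroup.neg_mem _ ih

lemma mem_range_of_bounds : ∀ (n : ℕ) (K : DerivedCategory C), Pd K → ∀ (a b : ℤ),
    K.IsGE a → K.IsLE b → b - a < n → KZero.clTr Pd K ∈ (phi hP Pd hPd).range := by
  have h0 := pd_zero hP Pd hPd
  have hzero : ∀ (K : DerivedCategory C), Pd K → ∀ (a b : ℤ), K.IsGE a → K.IsLE b → b < a →
      KZero.clTr Pd K ∈ (phi hP Pd hPd).range := by
    intro K hK a b ha hb hab
    have hz : IsZero K := DerivedCategory.TStructure.t.isZero K b a hab
    rw [clTr_isZero Pd h0 hz hK]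
    exact AddSubgroup.zero_mem _
  intro n
  induction n with
  | zero =>
    intro K hK a b ha hb hab
    exact hzero K hK a b ha hb (by simpa using hab)
  | succ n ih =>
    intro K hK a b ha hb hab
    by_cases hlt : b < a
    · exact hzero K hK a b ha hb hlt
    · have p := ((hPd K).mp hK).1
      let t := (DerivedCategory.TStructure.t (C := C))
      let T := (t.triangleLEGE (b - 1) b (by lia)).obj K
      have hT : T ∈ distTriang _ := t.triangleLEGE_distinguished (b - 1) b (by lia) K
      let L := (t.truncLE (b - 1)).obj K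
      let R := (t.truncGE b).obj K
      haveI : t.IsGE K a := ha
      haveI : t.IsLE K b := hb
      have hLle : L.IsLE (b - 1) := by dsimp only [L]; infer_instance
      have hLge : L.IsGE a := by dsimp only [L]; infer_instance
      have hRge : R.IsGE b := by dsimp only [R]; infer_instance
      have hRle : R.IsLE b := by dsimp only [R]; infer_instance
      -- cohomology of the truncations
      have pL : ∀ i : ℤ, P (Hc i L) := by
        intro i
        by_cases hi : i < b
        · have z1 : IsZero (Hc (i - 1) R) := DerivedCategory.isZero_of_isGE R b (i - 1) (by lia)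
          have z2 : IsZero (Hc i R) := DerivedCategory.isZero_of_isGE R b i hi
          have e1 := DerivedCategory.HomologySequence.exact₁ T hT (i - 1) i (by lia)
          have e2 := DerivedCategory.HomologySequence.exact₂ T hT i
          haveI : Mono ((DerivedCategory.homologyFunctor C i).map T.mor₁) :=
            e1.mono_g (z1.eq_of_src _ _)
          haveI : Epi ((DerivedCategory.homologyFunctor C i).map T.mor₁) :=
            e2.epi_f (z2.eq_of_tgt _ _)
          haveI : IsIso ((DerivedCategory.homologyFunctor C i).map T.mor₁) :=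
            isIso_of_mono_of_epi _
          exact hP.iso _ _ (asIso ((DerivedCategory.homologyFunctor C i).map T.mor₁)).symm (p i)
        · exact hP.zero _ (DerivedCategory.isZero_of_isLE L (b - 1) i (by lia))
      have pR : ∀ i : ℤ, P (Hc i R) := by
        intro i
        by_cases hi : i < b
        · exact hP.zero _ (DerivedCategory.isZero_of_isGE R b i hi)
        · have z1 : IsZero (Hc i L) := DerivedCategory.isZero_of_isLE L (b - 1) i (by lia)
          have z2 : IsZero (Hc (i + 1) L) :=
            DerivedCategory.isZero_of_isLE L (b - 1) (i + 1) (by lia)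
          have e2 := DerivedCategory.HomologySequence.exact₂ T hT i
          have e3 := DerivedCategory.HomologySequence.exact₃ T hT i (i + 1) rfl
          haveI : Mono ((DerivedCategory.homologyFunctor C i).map T.mor₂) :=
            e2.mono_g (z1.eq_of_src _ _)
          haveI : Epi ((DerivedCategory.homologyFunctor C i).map T.mor₂) :=
            e3.epi_f (z2.eq_of_tgt _ _)
          haveI : IsIso ((DerivedCategory.homologyFunctor C i).map T.mor₂) :=
            isIso_of_mono_of_epi _
          have e := asIso ((DerivedCategory.homologyFunctor C i).map T.mor₂)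
          exact hP.iso _ _ e (p i)
      have hL : Pd L := (hPd L).mpr ⟨pL, a, b - 1, hLge, hLle⟩
      have hR : Pd R := (hPd R).mpr ⟨pR, b, b, hRge, hRle⟩
      have hrel := clTr_rel Pd T hT hL hK hR
      change KZero.clTr Pd K = KZero.clTr Pd L + KZero.clTr Pd R at hrel
      rw [hrel]
      refine AddSubgroup.add_mem _ (ih L hL a (b - 1) hLge hLle (by lia)) ?_
      obtain ⟨X, ⟨e⟩⟩ := DerivedCategory.exists_iso_singleFunctor_obj_of_isGE_of_isLE R b
      have hX : P X := by
        have h1 := pd_iso hP Pd hPd e hR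
        exact hP.iso _ _ ((DerivedCategory.singleFunctorCompHomologyFunctorIso C b).app X)
          (((hPd _).mp h1).1 b)
      rw [clTr_iso Pd h0 e hR (pd_single hP Pd hPd X hX b)]
      exact single_mem hP Pd hPd X hX b

/-- the main theorem. -/
theorem exists_addEquiv :
    ∃ φ : KZero.K0sub P ≃+ KZero.K0tr Pd, ∀ X : C, P X →
      φ (KZero.clSub P X) = KZero.clTr Pd ((DerivedCategory.singleFunctor C 0).obj X) := by
  have hinj : Function.Injective (phi hP Pd hPd) := by
    intro x y hxy
    have h := psi_comp_phi hP Pd hPd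
    have hx := DFunLike.congr_fun h x
    have hy := DFunLike.congr_fun h y
    simp only [AddMonoidHom.comp_apply, AddMonoidHom.id_apply] at hx hy
    rw [← hx, ← hy, hxy]
  have hsurj : Function.Surjective (phi hP Pd hPd) := by
    intro z
    rw [← AddMonoidHom.mem_range]
    induction z using QuotientAddGroup.induction_on with
    | H z =>
      induction z using FreeAbelianGroup.induction_on with
      | zero => exact AddSubgroup.zero_mem _
      | of K =>
        obtain ⟨K, hK⟩ := K
        obtain ⟨_, a, b, ha, hb⟩ := (hPd K).mp hK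
        have := mem_range_of_bounds hP Pd hPd (b - a).toNat.succ K hK a b ha hb (by
          have := Int.self_le_toNat (b - a)
          push_cast
          lia)
        rwa [clTr_of Pd hK] at this
      | neg X ih =>
        rw [QuotientAddGroup.mk_neg]
        exact AddSubgroup.neg_mem _ ih
      | add a b iha ihb =>
        rw [QuotientAddGroup.mk_add]
        exact AddSubgroup.add_mem _ iha ihb
  exact ⟨AddEquiv.ofBijective (phi hP Pd hPd) ⟨hinj, hsurj⟩, fun X hX => phi_clSub hP Pd hPd X hX⟩

end der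

end Groth.Agent.Helper9.K0Db
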