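import Mathlib
import Groth.Prelude.Def_KZero
import Groth.Agent.Helper9.K0Db

/-! `K₀(A) ≃ K₀sub ⊤` and the bounded derived category version for all objects. -/

set_option autoImplicit false
universe w v u

open CategoryTheory CategoryTheory.Limits

namespace Groth.Agent.Helper9.K0Db

variable (A : Type u) [Category.{v} A] [Abelian A]

/-- the trivial property -/
abbrev allP : ObjectProperty A := fun _ => True

lemma thick_all : Thick (allP A) :=
  { iso := fun _ _ _ _ => trivial
    zero := fun _ _ => trivial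
    ker := fun _ _ _ => trivial
    coker := fun _ _ _ => trivial }

variable {A}

lemma cl_add (S : ShortComplex A) (hS : S.ShortExact) :
    KZero.cl S.X₂ = KZero.cl S.X₁ + KZero.cl S.X₃ := by
  have hmem : FreeAbelianGroup.of S.X₂ - FreeAbelianGroup.of S.X₁ - FreeAbelianGroup.of S.X₃ ∈
      KZero.relAb A :=
    AddSubgroup.subset_closure ⟨S, hS, rfl⟩
  have := (QuotientAddGroup.eq_zero_iff _).mpr hmem
  rw [QuotientAddGroup.mk_sub, QuotientAddGroup.mk_sub, sub_sub, sub_eq_zero] at this
  exact this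

variable (A)

/-- `K₀(A) → K₀sub ⊤` -/
noncomputable def toSub : KZero.K0 A →+ KZero.K0sub (allP A) :=
  QuotientAddGroup.lift (KZero.relAb A)
    (FreeAbelianGroup.lift fun X => KZero.clSub (allP A) X) (by
      rw [KZero.relAb, AddSubgroup.closure_le]
      rintro z ⟨S, hS, rfl⟩
      rw [SetLike.mem_coe, AddMonoidHom.mem_ker]
      simp only [map_sub, FreeAbelianGroup.lift_apply_of]
      rw [ResThm.clSub_add (allP A) S hS trivial trivial trivial]
      abel)

/-- `K₀sub ⊤ → K₀(A)` -/
noncomputable def ofSub : KZero.K0sub (allP A) →+ KZero.K0 A :=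
  QuotientAddGroup.lift (KZero.relSub (allP A))
    (FreeAbelianGroup.lift fun X => KZero.cl X.1) (by
      rw [KZero.relSub, AddSubgroup.closure_le]
      rintro z ⟨S, h₁, h₂, h₃, hS, rfl⟩
      rw [SetLike.mem_coe, AddMonoidHom.mem_ker]
      simp only [map_sub, FreeAbelianGroup.lift_apply_of]
      rw [cl_add S hS]
      abel)

lemma toSub_cl (X : A) : toSub A (KZero.cl X) = KZero.clSub (allP A) X := by
  change FreeAbelianGroup.lift (fun X => KZero.clSub (allP A) X) (FreeAbelianGroup.of X) = _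
  rw [FreeAbelianGroup.lift_apply_of]

lemma ofSub_clSub (X : A) : ofSub A (KZero.clSub (allP A) X) = KZero.cl X := by
  classical
  rw [KZero.clSub, dif_pos trivial]
  change FreeAbelianGroup.lift (fun X : Subtype (allP A) => KZero.cl X.1)
    (FreeAbelianGroup.of ⟨X, trivial⟩) = _
  rw [FreeAbelianGroup.lift_apply_of]

/-- `K₀(A) ≃ K₀sub ⊤` -/
noncomputable def equivSub : KZero.K0 A ≃+ KZero.K0sub (allP A) :=
  AddMonoidHom.toAddEquiv (toSub A) (ofSub A)
    (by
      refine QuotientAddGroup.addMonoidHom_ext _ (FreeAbelianGroup.lift_ext _ _ fun X => ?_)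
      change ofSub A (toSub A (KZero.cl X)) = KZero.cl X
      rw [toSub_cl, ofSub_clSub])
    (by
      classical
      refine QuotientAddGroup.addMonoidHom_ext _ (FreeAbelianGroup.lift_ext _ _ fun X => ?_)
      obtain ⟨X, hX⟩ := X
      have h1 : (QuotientAddGroup.mk (FreeAbelianGroup.of ⟨X, hX⟩) : KZero.K0sub (allP A)) =
          KZero.clSub (allP A) X := by
        rw [KZero.clSub, dif_pos trivial]
      change toSub A (ofSub A (QuotientAddGroup.mk (FreeAbelianGroup.of ⟨X, hX⟩))) =
        QuotientAddGroup.mk (FreeAbelianGroup.of ⟨X, hX⟩)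
      rw [h1, ofSub_clSub, toSub_cl])

theorem exists_addEquiv_all [HasDerivedCategory.{w} A] :
    ∃ φ : KZero.K0 A ≃+ KZero.K0tr (fun X : DerivedCategory A => ∃ a b : ℤ, X.IsGE a ∧ X.IsLE b),
      ∀ X : A, φ (KZero.cl X) =
        KZero.clTr (fun X : DerivedCategory A => ∃ a b : ℤ, X.IsGE a ∧ X.IsLE b)
          ((DerivedCategory.singleFunctor A 0).obj X) := by
  obtain ⟨φ, hφ⟩ := exists_addEquiv (thick_all A)
    (fun X : DerivedCategory A => ∃ a b : ℤ, X.IsGE a ∧ X.IsLE b)
    (fun K => ⟨fun h => ⟨fun _ => trivial, h⟩, fun h => h.2⟩)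
  refine ⟨(equivSub A).trans φ, fun X => ?_⟩
  rw [AddEquiv.trans_apply]
  change φ (toSub A (KZero.cl X)) = _
  rw [toSub_cl, hφ X trivial]

end Groth.Agent.Helper9.K0Db
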