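import Mathlib
import Groth.Prelude.Def_KZero

set_option autoImplicit false
universe v v' u u'
open CategoryTheory CategoryTheory.Limits
open KZero ZeroObject

namespace Groth.Agent.Helper9.K0E

variable {A : Type u} [Category.{v} A] [Abelian A]

section scSum

variable (S S' : ShortComplex A)

/-- direct sum of two short complexes -/
noncomputable def scSum : ShortComplex A :=
  ShortComplex.mk (biprod.map S.f S'.f) (biprod.map S.g S'.g) (by ext <;> simp)

/-- inl -/
noncomputable def scInl : S ⟶ scSum S S' :=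
  ShortComplex.homMk biprod.inl biprod.inl biprod.inl (by simp [scSum]) (by simp [scSum])

/-- inr -/
noncomputable def scInr : S' ⟶ scSum S S' :=
  ShortComplex.homMk biprod.inr biprod.inr biprod.inr (by simp [scSum]) (by simp [scSum])

/-- fst -/
noncomputable def scFst : scSum S S' ⟶ S :=
  ShortComplex.homMk biprod.fst biprod.fst biprod.fst (by simp [scSum]) (by simp [scSum])

/-- snd -/
noncomputable def scSnd : scSum S S' ⟶ S' :=
  ShortComplex.homMk biprod.snd biprod.snd biprod.snd (by simp [scSum]) (by simp [scSum])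

lemma scInl_fst : scInl S S' ≫ scFst S S' = 𝟙 _ := by
  ext
  · exact biprod.inl_fst
  · exact biprod.inl_fst
  · exact biprod.inl_fst

lemma scInl_snd : scInl S S' ≫ scSnd S S' = 0 := by
  ext
  · exact biprod.inl_snd
  · exact biprod.inl_snd
  · exact biprod.inl_snd

lemma scInr_fst : scInr S S' ≫ scFst S S' = 0 := by
  ext
  · exact biprod.inr_fst
  · exact biprod.inr_fst
  · exact biprod.inr_fst

lemma scInr_snd : scInr S S' ≫ scSnd S S' = 𝟙 _ := by
  ext
  · exact biprod.inr_snd
  · exact biprod.inr_snd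
  · exact biprod.inr_snd

lemma sc_total : scFst S S' ≫ scInl S S' + scSnd S S' ≫ scInr S S' = 𝟙 _ := by
  ext
  · exact biprod.total
  · exact biprod.total
  · exact biprod.total

/-- homology commutes with direct sums -/
noncomputable def homologySumIso : (scSum S S').homology ≅ S.homology ⊞ S'.homology where
  hom := biprod.lift (ShortComplex.homologyMap (scFst S S')) (ShortComplex.homologyMap (scSnd S S'))
  inv := biprod.desc (ShortComplex.homologyMap (scInl S S')) (ShortComplex.homologyMap (scInr S S'))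
  hom_inv_id := by
    rw [biprod.lift_desc, ← ShortComplex.homologyMap_comp, ← ShortComplex.homologyMap_comp,
      ← ShortComplex.homologyMap_add, sc_total, ShortComplex.homologyMap_id]
  inv_hom_id := by
    ext
    · simp only [biprod.inl_desc_assoc, Category.assoc, biprod.lift_fst, Category.comp_id,
        biprod.inl_fst]
      rw [← ShortComplex.homologyMap_comp, scInl_fst, ShortComplex.homologyMap_id]
    · simp only [biprod.inl_desc_assoc, Category.assoc, biprod.lift_snd, Category.comp_id,
        biprod.inl_snd]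
      rw [← ShortComplex.homologyMap_comp, scInl_snd, ShortComplex.homologyMap_zero]
    · simp only [biprod.inr_desc_assoc, Category.assoc, biprod.lift_fst, Category.comp_id,
        biprod.inr_fst]
      rw [← ShortComplex.homologyMap_comp, scInr_fst, ShortComplex.homologyMap_zero]
    · simp only [biprod.inr_desc_assoc, Category.assoc, biprod.lift_snd, Category.comp_id,
        biprod.inr_snd]
      rw [← ShortComplex.homologyMap_comp, scInr_snd, ShortComplex.homologyMap_id]

lemma isZero_biprod {X Y : A} (hX : IsZero X) (hY : IsZero Y) : IsZero (X ⊞ Y) :=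
  IsZero.of_iso hX (isoBiprodZero hY).symm

lemma scSum_exact (h : S.Exact) (h' : S'.Exact) : (scSum S S').Exact := by
  rw [ShortComplex.exact_iff_isZero_homology] at h h' ⊢
  exact IsZero.of_iso (isZero_biprod h h') (homologySumIso S S')

end scSum

/-- a 2-periodic complex on two objects -/
structure TwoPer (A : Type u) [Category.{v} A] [Abelian A] where
  /-- first object -/
  M₁ : A
  /-- second object -/
  M₂ : A
  /-- first map -/
  φ : M₁ ⟶ M₂
  /-- second map -/
  ψ : M₂ ⟶ M₁
  h₁ : φ ≫ ψ = 0
  h₂ : ψ ≫ φ = 0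

namespace TwoPer

/-- the complex `M₁ ⟶ M₂ ⟶ M₁` -/
def S₁ (E : TwoPer A) : ShortComplex A := ShortComplex.mk E.φ E.ψ E.h₁

/-- the complex `M₂ ⟶ M₁ ⟶ M₂` -/
def S₂ (E : TwoPer A) : ShortComplex A := ShortComplex.mk E.ψ E.φ E.h₂

/-- both exact -/
def IsExact (E : TwoPer A) : Prop := E.S₁.Exact ∧ E.S₂.Exact

/-- swap the two objects -/
def swap (E : TwoPer A) : TwoPer A := ⟨E.M₂, E.M₁, E.ψ, E.φ, E.h₂, E.h₁⟩

lemma swap_isExact {E : TwoPer A} (h : E.IsExact) : E.swap.IsExact := ⟨h.2, h.1⟩

/-- direct sum -/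
noncomputable def sum (E E' : TwoPer A) : TwoPer A where
  M₁ := E.M₁ ⊞ E'.M₁
  M₂ := E.M₂ ⊞ E'.M₂
  φ := biprod.map E.φ E'.φ
  ψ := biprod.map E.ψ E'.ψ
  h₁ := by ext <;> simp [E.h₁, E'.h₁]
  h₂ := by ext <;> simp [E.h₂, E'.h₂]

lemma sum_S₁ (E E' : TwoPer A) : (E.sum E').S₁ = scSum E.S₁ E'.S₁ := rfl

lemma sum_S₂ (E E' : TwoPer A) : (E.sum E').S₂ = scSum E.S₂ E'.S₂ := rfl

lemma sum_isExact {E E' : TwoPer A} (h : E.IsExact) (h' : E'.IsExact) : (E.sum E').IsExact :=
  ⟨by rw [sum_S₁]; exact scSum_exact _ _ h.1 h'.1, by rw [sum_S₂]; exact scSum_exact _ _ h.2 h'.2⟩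

/-- the zero complex -/
noncomputable def zero (A : Type u) [Category.{v} A] [Abelian A] : TwoPer A :=
  ⟨0, 0, 0, 0, by simp, by simp⟩

lemma zero_isExact : (zero A).IsExact :=
  ⟨ShortComplex.exact_of_isZero_X₂ _ (isZero_zero A), ShortComplex.exact_of_isZero_X₂ _ (isZero_zero A)⟩

end TwoPer

end Groth.Agent.Helper9.K0E
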