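import Mathlib
import Groth.Prelude.Def_KZero
import Groth.Agent.Helper9.K0D
import Groth.Agent.Helper9.K0E

set_option autoImplicit false
universe v v' u u'
open CategoryTheory CategoryTheory.Limits
open KZero ZeroObject

namespace Groth.Agent.Helper9.K0F

open Groth.Agent.Helper9.K0D Groth.Agent.Helper9.K0E

variable {A : Type u} [Category.{v} A] [Abelian A]

namespace TwoPer

open K0E.TwoPer

/-- the exact 2-periodic complex attached to a short exact sequence -/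
noncomputable def ofSES (S : ShortComplex A) : TwoPer A where
  M₁ := S.X₁ ⊞ S.X₃
  M₂ := S.X₂
  φ := biprod.desc S.f 0
  ψ := biprod.lift 0 S.g
  h₁ := by ext <;> simp
  h₂ := by simp [biprod.lift_desc]

lemma ofSES_S₁_exact {S : ShortComplex A} (hS : S.ShortExact) : (ofSES S).S₁.Exact := by
  let T : ShortComplex A := ShortComplex.mk S.f (biprod.lift 0 S.g : S.X₂ ⟶ S.X₁ ⊞ S.X₃)
    (by ext <;> simp)
  let α : (ofSES S).S₁ ⟶ T := ShortComplex.homMk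
    (biprod.fst : S.X₁ ⊞ S.X₃ ⟶ S.X₁) (𝟙 S.X₂) (𝟙 (S.X₁ ⊞ S.X₃))
    (by
      change biprod.fst ≫ S.f = biprod.desc S.f 0 ≫ 𝟙 _
      ext <;> simp)
    (by
      change 𝟙 _ ≫ biprod.lift 0 S.g = biprod.lift 0 S.g ≫ 𝟙 _
      simp)
  let β : S ⟶ T := ShortComplex.homMk (𝟙 S.X₁) (𝟙 S.X₂) (biprod.inr : S.X₃ ⟶ S.X₁ ⊞ S.X₃)
    (by simp [T])
    (by
      change 𝟙 _ ≫ biprod.lift 0 S.g = S.g ≫ biprod.inr
      ext <;> simp)
  haveI : Epi α.τ₁ := by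
    change Epi (biprod.fst : S.X₁ ⊞ S.X₃ ⟶ S.X₁); infer_instance
  haveI : IsIso α.τ₂ := by
    change IsIso (𝟙 S.X₂); infer_instance
  haveI : Mono α.τ₃ := by
    change Mono (𝟙 (S.X₁ ⊞ S.X₃)); infer_instance
  haveI : Epi β.τ₁ := by
    change Epi (𝟙 S.X₁); infer_instance
  haveI : IsIso β.τ₂ := by
    change IsIso (𝟙 S.X₂); infer_instance
  haveI : Mono β.τ₃ := by
    change Mono (biprod.inr : S.X₃ ⟶ S.X₁ ⊞ S.X₃); infer_instance
  rw [ShortComplex.exact_iff_of_epi_of_isIso_of_mono α,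
    ← ShortComplex.exact_iff_of_epi_of_isIso_of_mono β]
  exact hS.exact

lemma ofSES_S₂_exact {S : ShortComplex A} (hS : S.ShortExact) : (ofSES S).S₂.Exact := by
  let T : ShortComplex A := ShortComplex.mk (biprod.inr : S.X₃ ⟶ S.X₁ ⊞ S.X₃)
    (biprod.desc S.f 0 : S.X₁ ⊞ S.X₃ ⟶ S.X₂) (by simp)
  let T' : ShortComplex A := ShortComplex.mk (biprod.inr : S.X₃ ⟶ S.X₁ ⊞ S.X₃)
    (biprod.fst : S.X₁ ⊞ S.X₃ ⟶ S.X₁) (by simp)
  have hT' : T'.Exact := by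
    have sp : T'.Splitting :=
      { r := biprod.snd
        s := biprod.inl
        f_r := by simp [T']
        s_g := by simp [T']
        id := by
          change biprod.snd ≫ biprod.inr + biprod.fst ≫ biprod.inl = 𝟙 (S.X₁ ⊞ S.X₃)
          rw [add_comm]; exact biprod.total }
    exact sp.exact
  let α : (ofSES S).S₂ ⟶ T := ShortComplex.homMk
    S.g (𝟙 (S.X₁ ⊞ S.X₃)) (𝟙 S.X₂)
    (by
      change S.g ≫ biprod.inr = biprod.lift 0 S.g ≫ 𝟙 _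
      ext <;> simp)
    (by
      change 𝟙 _ ≫ biprod.desc S.f 0 = biprod.desc S.f 0 ≫ 𝟙 _
      simp)
  let β : T' ⟶ T := ShortComplex.homMk (𝟙 S.X₃) (𝟙 (S.X₁ ⊞ S.X₃)) S.f
    (by simp [T, T'])
    (by
      change 𝟙 _ ≫ biprod.desc S.f 0 = biprod.fst ≫ S.f
      ext <;> simp)
  haveI := hS.epi_g
  haveI := hS.mono_f
  haveI : Epi α.τ₁ := by
    change Epi S.g; infer_instance
  haveI : IsIso α.τ₂ := by
    change IsIso (𝟙 (S.X₁ ⊞ S.X₃)); infer_instance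
  haveI : Mono α.τ₃ := by
    change Mono (𝟙 S.X₂); infer_instance
  haveI : Epi β.τ₁ := by
    change Epi (𝟙 S.X₃); infer_instance
  haveI : IsIso β.τ₂ := by
    change IsIso (𝟙 (S.X₁ ⊞ S.X₃)); infer_instance
  haveI : Mono β.τ₃ := by
    change Mono S.f; infer_instance
  rw [ShortComplex.exact_iff_of_epi_of_isIso_of_mono α,
    ← ShortComplex.exact_iff_of_epi_of_isIso_of_mono β]
  exact hT'

lemma ofSES_isExact {S : ShortComplex A} (hS : S.ShortExact) : (ofSES S).IsExact :=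
  ⟨ofSES_S₁_exact hS, ofSES_S₂_exact hS⟩

/-- `(N, N', 0, 0)` -/
def zN (N N' : A) : TwoPer A := ⟨N, N', 0, 0, by simp, by simp⟩

/-- homology of `zN` -/
noncomputable def zNHomology₁ (N N' : A) : (zN N N').S₁.homology ≅ N' :=
  ((zN N N').S₁.asIsoHomologyπ rfl).symm ≪≫
    @asIso _ _ _ _ (zN N N').S₁.iCycles ((zN N N').S₁.isIso_iCycles rfl)

/-- homology of `zN` -/
noncomputable def zNHomology₂ (N N' : A) : (zN N N').S₂.homology ≅ N :=
  ((zN N N').S₂.asIsoHomologyπ rfl).symm ≪≫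
    @asIso _ _ _ _ (zN N N').S₂.iCycles ((zN N N').S₂.isIso_iCycles rfl)

/-- `(Z, Z, 𝟙, 0)` -/
def iZ (Z : A) : TwoPer A := ⟨Z, Z, 𝟙 Z, 0, by simp, by simp⟩

lemma iZ_isExact (Z : A) : (iZ Z).IsExact := by
  constructor
  · rw [ShortComplex.exact_iff_epi _ rfl]
    change Epi (𝟙 Z); infer_instance
  · rw [ShortComplex.exact_iff_mono _ rfl]
    change Mono (𝟙 Z); infer_instance

/-- homology of a sum with exact left summand -/
noncomputable def scSumHomologyOfExact {S S' : ShortComplex A} (h : S.Exact) :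
    (scSum S S').homology ≅ S'.homology :=
  homologySumIso S S' ≪≫
    (isoZeroBiprod ((ShortComplex.exact_iff_isZero_homology _).1 h)).symm

/-- homology of a sum with exact right summand -/
noncomputable def scSumHomologyOfExact' {S S' : ShortComplex A} (h : S'.Exact) :
    (scSum S S').homology ≅ S.homology :=
  homologySumIso S S' ≪≫
    (isoBiprodZero ((ShortComplex.exact_iff_isZero_homology _).1 h)).symm

end TwoPer

open TwoPer K0E.TwoPer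

lemma exists_twoPer_of_mem_relAb (y : FreeAbelianGroup A) (hy : y ∈ relAb A) :
    ∃ E : TwoPer A, E.IsExact ∧ toGr y = grOf E.M₂ - grOf E.M₁ := by
  induction hy using AddSubgroup.closure_induction with
  | mem x hx =>
    obtain ⟨S, hS, rfl⟩ := hx
    refine ⟨ofSES S, ofSES_isExact hS, ?_⟩
    change _ = grOf S.X₂ - grOf (S.X₁ ⊞ S.X₃)
    rw [grOf_biprod, map_sub, map_sub, toGr_of, toGr_of, toGr_of]
    abel
  | zero =>
    refine ⟨zero A, zero_isExact, ?_⟩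
    change _ = grOf (0 : A) - grOf (0 : A)
    rw [map_zero, sub_self]
  | add x y _ _ hx hy =>
    obtain ⟨E, hE, h⟩ := hx
    obtain ⟨E', hE', h'⟩ := hy
    refine ⟨E.sum E', sum_isExact hE hE', ?_⟩
    change _ = grOf (E.M₂ ⊞ E'.M₂) - grOf (E.M₁ ⊞ E'.M₁)
    rw [map_add, h, h', grOf_biprod, grOf_biprod]
    abel
  | neg x _ hx =>
    obtain ⟨E, hE, h⟩ := hx
    refine ⟨E.swap, swap_isExact hE, ?_⟩
    change _ = grOf E.M₁ - grOf E.M₂
    rw [map_neg, h]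
    abel

lemma exists_complex {N N' : A}
    (h : FreeAbelianGroup.of N - FreeAbelianGroup.of N' ∈ relAb A) :
    ∃ (M : A) (φ ψ : M ⟶ M) (h₁ : φ ≫ ψ = 0) (h₂ : ψ ≫ φ = 0),
      Nonempty ((ShortComplex.mk φ ψ h₁).homology ≅ N) ∧
      Nonempty ((ShortComplex.mk ψ φ h₂).homology ≅ N') := by
  obtain ⟨E, hE, hEy⟩ := exists_twoPer_of_mem_relAb _ h
  rw [map_sub, toGr_of, toGr_of] at hEy
  have h1 : grOf (N ⊞ E.M₁) = grOf (N' ⊞ E.M₂) := by
    rw [grOf_biprod, grOf_biprod]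
    have := sub_eq_sub_iff_add_eq_add.1 hEy
    rw [this, add_comm]
  obtain ⟨Z, ⟨θ⟩⟩ := grOf_eq_iff.1 h1
  let F : TwoPer A := (iZ Z).sum ((zN N N').sum E)
  have θ' : F.M₁ ≅ F.M₂ := θ
  let Φ : F.M₁ ⟶ F.M₁ := F.φ ≫ θ'.inv
  let Ψ : F.M₁ ⟶ F.M₁ := θ'.hom ≫ F.ψ
  have hΦΨ : Φ ≫ Ψ = 0 := by simp [Φ, Ψ, F.h₁]
  have hΨΦ : Ψ ≫ Φ = 0 := by simp [Φ, Ψ, reassoc_of% F.h₂]
  let e₁ : ShortComplex.mk Φ Ψ hΦΨ ≅ F.S₁ :=
    ShortComplex.isoMk (Iso.refl _) θ' (Iso.refl _)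
      (by
        change 𝟙 _ ≫ F.φ = (F.φ ≫ θ'.inv) ≫ θ'.hom
        simp)
      (by
        change θ'.hom ≫ F.ψ = (θ'.hom ≫ F.ψ) ≫ 𝟙 _
        simp)
  let e₂ : ShortComplex.mk Ψ Φ hΨΦ ≅ F.S₂ :=
    ShortComplex.isoMk θ' (Iso.refl _) θ'
      (by
        change θ'.hom ≫ F.ψ = (θ'.hom ≫ F.ψ) ≫ 𝟙 _
        simp)
      (by
        change 𝟙 _ ≫ F.φ = (F.φ ≫ θ'.inv) ≫ θ'.hom
        simp)
  have i₁ : F.S₁.homology ≅ N' := by
    have a : F.S₁.homology ≅ ((zN N N').sum E).S₁.homology :=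
      scSumHomologyOfExact (S := (iZ Z).S₁) (S' := ((zN N N').sum E).S₁) (iZ_isExact Z).1
    have b : ((zN N N').sum E).S₁.homology ≅ (zN N N').S₁.homology :=
      scSumHomologyOfExact' (S := (zN N N').S₁) (S' := E.S₁) hE.1
    exact a ≪≫ b ≪≫ zNHomology₁ N N'
  have i₂ : F.S₂.homology ≅ N := by
    have a : F.S₂.homology ≅ ((zN N N').sum E).S₂.homology :=
      scSumHomologyOfExact (S := (iZ Z).S₂) (S' := ((zN N N').sum E).S₂) (iZ_isExact Z).2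
    have b : ((zN N N').sum E).S₂.homology ≅ (zN N N').S₂.homology :=
      scSumHomologyOfExact' (S := (zN N N').S₂) (S' := E.S₂) hE.2
    exact a ≪≫ b ≪≫ zNHomology₂ N N'
  exact ⟨F.M₁, Ψ, Φ, hΨΦ, hΦΨ, ⟨ShortComplex.homologyMapIso e₂ ≪≫ i₂⟩,
    ⟨ShortComplex.homologyMapIso e₁ ≪≫ i₁⟩⟩

end Groth.Agent.Helper9.K0F
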