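import Mathlib
import Groth.Prelude.Def_KZero

/-! `K₀` of finitely generated modules over a principal ideal domain is `ℤ`. -/

set_option autoImplicit false
universe u

open CategoryTheory

namespace Groth.Agent.Helper9.K0PID

variable (R : Type u) [CommRing R]

/-- finitely generated modules -/
abbrev FG : ObjectProperty (ModuleCat.{u} R) :=
  fun M : ModuleCat.{u} R => Module.Finite R M

variable {R}

/-- the class of a finitely generated module -/
noncomputable abbrev cls (M : Type u) [AddCommGroup M] [Module R M] (h : FG R (ModuleCat.of R M)) :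
    KZero.K0sub (FG R) :=
  QuotientAddGroup.mk (FreeAbelianGroup.of ⟨ModuleCat.of R M, h⟩)

lemma cls_eq_add {M₁ M₂ M₃ : Type u} [AddCommGroup M₁] [Module R M₁] [AddCommGroup M₂] [Module R M₂]
    [AddCommGroup M₃] [Module R M₃] (h₁ : FG R (ModuleCat.of R M₁)) (h₂ : FG R (ModuleCat.of R M₂))
    (h₃ : FG R (ModuleCat.of R M₃)) (f : M₁ →ₗ[R] M₂) (g : M₂ →ₗ[R] M₃)
    (hf : Function.Injective f) (hg : Function.Surjective g) (hfg : Function.Exact f g) :
    cls M₂ h₂ = cls M₁ h₁ + cls M₃ h₃ := by
  let S : ShortComplex (ModuleCat.{u} R) :=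
    ShortComplex.mk (ModuleCat.ofHom f) (ModuleCat.ofHom g) (by
      ext x
      exact hfg.apply_apply_eq_zero x)
  have hS : S.ShortExact :=
    { exact := (ShortComplex.ShortExact.moduleCat_exact_iff_function_exact S).mpr hfg
      mono_f := (ModuleCat.mono_iff_injective _).mpr hf
      epi_g := (ModuleCat.epi_iff_surjective _).mpr hg }
  have hmem : FreeAbelianGroup.of (⟨ModuleCat.of R M₂, h₂⟩ : Subtype (FG R)) -
      FreeAbelianGroup.of ⟨ModuleCat.of R M₁, h₁⟩ - FreeAbelianGroup.of ⟨ModuleCat.of R M₃, h₃⟩ ∈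
      KZero.relSub (FG R) :=
    AddSubgroup.subset_closure ⟨S, h₁, h₂, h₃, hS, rfl⟩
  have := (QuotientAddGroup.eq_zero_iff _).mpr hmem
  rw [QuotientAddGroup.mk_sub, QuotientAddGroup.mk_sub, sub_sub, sub_eq_zero] at this
  exact this

lemma fg_punit : FG R (ModuleCat.of R PUnit.{u+1}) :=
  (inferInstance : Module.Finite R PUnit.{u+1})

lemma cls_punit : cls (R := R) PUnit.{u+1} fg_punit = 0 := by
  have := cls_eq_add (R := R) fg_punit fg_punit fg_punit (0 : PUnit.{u+1} →ₗ[R] PUnit.{u+1})
    (0 : PUnit.{u+1} →ₗ[R] PUnit.{u+1}) (fun _ _ _ => Subsingleton.elim _ _)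
    (fun _ => ⟨PUnit.unit, Subsingleton.elim _ _⟩) (fun _ => by simp)
  exact (add_eq_left.mp this.symm)

lemma cls_congr {M N : Type u} [AddCommGroup M] [Module R M] [AddCommGroup N] [Module R N]
    (e : M ≃ₗ[R] N) (h : FG R (ModuleCat.of R M)) (h' : FG R (ModuleCat.of R N)) :
    cls M h = cls N h' := by
  have := cls_eq_add (R := R) fg_punit h h' (0 : PUnit.{u+1} →ₗ[R] M) e.toLinearMap
    (fun _ _ _ => Subsingleton.elim _ _) e.surjective (by
      intro y
      constructor
      · intro hy
        exact ⟨PUnit.unit, (e.injective (by simpa using hy.symm))⟩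
      · rintro ⟨_, rfl⟩
        simp)
  rw [this, cls_punit, zero_add]

lemma fg_self : FG R (ModuleCat.of R R) := (inferInstance : Module.Finite R R)

lemma fg_pi (n : ℕ) : FG R (ModuleCat.of R (Fin n → R)) :=
  (inferInstance : Module.Finite R (Fin n → R))

lemma fg_prod {M N : Type u} [AddCommGroup M] [Module R M] [AddCommGroup N] [Module R N]
    (h : FG R (ModuleCat.of R M)) (h' : FG R (ModuleCat.of R N)) :
    FG R (ModuleCat.of R (M × N)) := by
  have : Module.Finite R M := h
  have : Module.Finite R N := h'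
  exact (inferInstance : Module.Finite R (M × N))

lemma cls_prod {M N : Type u} [AddCommGroup M] [Module R M] [AddCommGroup N] [Module R N]
    (h : FG R (ModuleCat.of R M)) (h' : FG R (ModuleCat.of R N)) :
    cls (M × N) (fg_prod h h') = cls M h + cls N h' :=
  cls_eq_add h (fg_prod h h') h' (LinearMap.inl R M N) (LinearMap.snd R M N)
    LinearMap.inl_injective LinearMap.snd_surjective Function.Exact.inl_snd

lemma cls_pi (n : ℕ) : cls (Fin n → R) (fg_pi n) = n • cls R (fg_self (R := R)) := by
  induction n with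
  | zero =>
    let e : (Fin 0 → R) ≃ₗ[R] PUnit.{u+1} :=
      { toFun := fun _ => PUnit.unit
        invFun := fun _ => 0
        map_add' := fun _ _ => rfl
        map_smul' := fun _ _ => rfl
        left_inv := fun _ => Subsingleton.elim _ _
        right_inv := fun _ => rfl }
    rw [cls_congr e (fg_pi 0) fg_punit, cls_punit, zero_smul]
  | succ n ih =>
    have e := Fin.consLinearEquiv R (fun _ : Fin n.succ => R)
    rw [← cls_congr e (fg_prod fg_self (fg_pi n)) (fg_pi (n + 1)), cls_prod fg_self (fg_pi n), ih,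
      succ_nsmul, add_comm]

/-- over a PID the class of a finitely generated module is an integer multiple of `[R]` -/
lemma exists_cls_eq [IsDomain R] [IsPrincipalIdealRing R] (M : Type u) [AddCommGroup M] [Module R M]
    (h : FG R (ModuleCat.of R M)) : ∃ k : ℤ, cls M h = k • cls R (fg_self (R := R)) := by
  have hM : Module.Finite R M := h
  obtain ⟨n, π, hπ⟩ := Module.Finite.exists_fin' R M
  obtain ⟨m, b⟩ := Submodule.basisOfPid (Pi.basisFun R (Fin n)) (LinearMap.ker π)
  have hK : FG R (ModuleCat.of R (LinearMap.ker π)) := Module.Finite.of_basis b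
  have h1 := cls_eq_add hK (fg_pi n) h (LinearMap.ker π).subtype π
    (Submodule.injective_subtype _) hπ (by
      intro y
      constructor
      · intro hy
        exact ⟨⟨y, hy⟩, rfl⟩
      · rintro ⟨x, rfl⟩
        exact x.2)
  have h2 : cls (LinearMap.ker π) hK = m • cls R (fg_self (R := R)) := by
    rw [cls_congr b.equivFun hK (fg_pi m), cls_pi]
  rw [cls_pi, h2] at h1
  refine ⟨(n : ℤ) - m, ?_⟩
  rw [sub_smul, natCast_zsmul, natCast_zsmul, h1, add_sub_cancel_left]

theorem bijective [IsDomain R] [IsPrincipalIdealRing R] :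
    Function.Bijective (fun k : ℤ => k • KZero.clSub (FG R) (ModuleCat.of R R)) := by
  classical
  have hR : FG R (ModuleCat.of R R) := fg_self
  have hcl : KZero.clSub (FG R) (ModuleCat.of R R) = cls R (fg_self (R := R)) := by
    rw [KZero.clSub, dif_pos hR]
  rw [hcl]
  let φ₀ : FreeAbelianGroup (Subtype (FG R)) →+ ℤ :=
    FreeAbelianGroup.lift fun X => (Module.finrank R X.1 : ℤ)
  have hrel : KZero.relSub (FG R) ≤ φ₀.ker := by
    rw [KZero.relSub, AddSubgroup.closure_le]
    rintro x ⟨S, h₁, h₂, h₃, hS, rfl⟩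
    rw [SetLike.mem_coe, AddMonoidHom.mem_ker]
    simp only [φ₀, map_sub, FreeAbelianGroup.lift_apply_of]
    have hf := (ModuleCat.mono_iff_injective _).mp hS.mono_f
    have hg := (ModuleCat.epi_iff_surjective _).mp hS.epi_g
    have hex := (ShortComplex.ShortExact.moduleCat_exact_iff_function_exact _).mp hS.exact
    have : Module.Finite R S.X₂ := h₂
    have e1 : Module.finrank R S.X₁ = Module.finrank R (LinearMap.range S.f.hom) :=
      LinearEquiv.finrank_eq (LinearEquiv.ofInjective S.f.hom hf)
    have e2 : Module.finrank R S.X₃ = Module.finrank R (S.X₂ ⧸ LinearMap.ker S.g.hom) :=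
      (LinearEquiv.finrank_eq (S.g.hom.quotKerEquivOfSurjective hg)).symm
    have e3 : LinearMap.range S.f.hom = LinearMap.ker S.g.hom := by
      ext y
      exact ((hex y).symm)
    have h1 := (LinearMap.ker S.g.hom).finrank_quotient_add_finrank
    have h2 : Module.finrank R S.X₂ = Module.finrank R S.X₁ + Module.finrank R S.X₃ := by
      rw [e1, e2, e3]; omega
    rw [h2]
    push_cast
    ring
  let φ : KZero.K0sub (FG R) →+ ℤ := QuotientAddGroup.lift (KZero.relSub (FG R)) φ₀ hrel
  have hφ1 : φ (cls R (fg_self (R := R))) = 1 := by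
    simp [φ, φ₀, Module.finrank_self]
  constructor
  · intro a b hab
    have := congrArg φ hab
    simpa [map_zsmul, hφ1] using this
  · intro x
    induction x using QuotientAddGroup.induction_on with
    | H z =>
      induction z using FreeAbelianGroup.induction_on with
      | zero => exact ⟨0, by simp⟩
      | of X =>
        obtain ⟨M, hM⟩ := X
        obtain ⟨k, hk⟩ := exists_cls_eq M hM
        exact ⟨k, hk.symm⟩
      | neg X ih =>
        obtain ⟨k, hk⟩ := ih
        refine ⟨-k, ?_⟩
        simp only at hk ⊢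
        rw [neg_smul, hk, QuotientAddGroup.mk_neg]
      | add a b iha ihb =>
        obtain ⟨k, hk⟩ := iha
        obtain ⟨l, hl⟩ := ihb
        refine ⟨k + l, ?_⟩
        simp only at hk hl ⊢
        rw [add_smul, hk, hl, QuotientAddGroup.mk_add]

end Groth.Agent.Helper9.K0PID
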