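import Mathlib
import Groth.Prelude.Def_KZero
import Groth.Agent.Helper9.K0PID

/-! `K₀` of finitely generated modules over a "node" `A` (two elements `x, y` with `x y = 0`,
`A/(x)` and `A/(y)` principal ideal domains) is `ℤ²`. -/

set_option autoImplicit false
universe u

open CategoryTheory

namespace Groth.Agent.Helper9.K0Node

open Groth.Agent.Helper9.K0PID

variable {A : Type u} [CommRing A]

lemma fg_pi' {N : Type u} [AddCommGroup N] [Module A N] (hN : FG A (ModuleCat.of A N)) (n : ℕ) :
    FG A (ModuleCat.of A (Fin n → N)) := by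
  have : Module.Finite A N := hN
  exact (inferInstance : Module.Finite A (Fin n → N))

lemma cls_pi' {N : Type u} [AddCommGroup N] [Module A N] (hN : FG A (ModuleCat.of A N)) (n : ℕ) :
    cls (Fin n → N) (fg_pi' hN n) = n • cls N hN := by
  induction n with
  | zero =>
    let e : (Fin 0 → N) ≃ₗ[A] PUnit.{u+1} :=
      { toFun := fun _ => PUnit.unit
        invFun := fun _ => 0
        map_add' := fun _ _ => rfl
        map_smul' := fun _ _ => rfl
        left_inv := fun _ => Subsingleton.elim _ _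
        right_inv := fun _ => rfl }
    rw [cls_congr e (fg_pi' hN 0) fg_punit, cls_punit, zero_smul]
  | succ n ih =>
    have e := Fin.consLinearEquiv A (fun _ : Fin n.succ => N)
    rw [← cls_congr e (fg_prod hN (fg_pi' hN n)) (fg_pi' hN (n + 1)), cls_prod hN (fg_pi' hN n), ih,
      succ_nsmul, add_comm]

lemma fg_quot (I : Ideal A) : FG A (ModuleCat.of A (A ⧸ I)) :=
  (inferInstance : Module.Finite A (A ⧸ I))

/-- a finitely generated module killed by `I`, with `A ⧸ I` a PID, has class a multiple of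
`[A ⧸ I]`. -/
lemma exists_cls_eq_of_annihilated (I : Ideal A) [IsDomain (A ⧸ I)] [IsPrincipalIdealRing (A ⧸ I)]
    (M : Type u) [AddCommGroup M] [Module A M] (h : FG A (ModuleCat.of A M))
    (hI : ∀ a ∈ I, ∀ m : M, a • m = 0) :
    ∃ k : ℤ, cls M h = k • cls (A ⧸ I) (fg_quot I) := by
  have hM : Module.Finite A M := h
  have htors : Module.IsTorsionBySet A M (I : Set A) := fun m a => hI a.1 a.2 m
  letI : Module (A ⧸ I) M := htors.module
  haveI : IsScalarTower A (A ⧸ I) M := htors.isScalarTower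
  haveI : Module.Finite (A ⧸ I) M := Module.Finite.of_restrictScalars_finite A (A ⧸ I) M
  obtain ⟨n, π, hπ⟩ := Module.Finite.exists_fin' (A ⧸ I) M
  obtain ⟨m, b⟩ := Submodule.basisOfPid (Pi.basisFun (A ⧸ I) (Fin n)) (LinearMap.ker π)
  have e : (LinearMap.ker π) ≃ₗ[A] (Fin m → A ⧸ I) := b.equivFun.restrictScalars A
  have hK : FG A (ModuleCat.of A (LinearMap.ker π)) :=
    Module.Finite.equiv e.symm
  have h1 := cls_eq_add hK (fg_pi' (fg_quot I) n) h ((LinearMap.ker π).subtype.restrictScalars A)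
    (π.restrictScalars A) (Submodule.injective_subtype _) hπ (by
      intro y
      constructor
      · intro hy
        exact ⟨⟨y, hy⟩, rfl⟩
      · rintro ⟨x, rfl⟩
        exact x.2)
  have h2 : cls (LinearMap.ker π) hK = m • cls (A ⧸ I) (fg_quot I) := by
    rw [cls_congr e hK (fg_pi' (fg_quot I) m), cls_pi']
  rw [cls_pi' (fg_quot I), h2] at h1
  refine ⟨(n : ℤ) - m, ?_⟩
  rw [sub_smul, natCast_zsmul, natCast_zsmul, h1, add_sub_cancel_left]


section rank

variable {D : Type u} [CommRing D] [IsDomain D] (ι : D →+* A)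

/-- the rank of an `A`-module over `D`, by restriction of scalars along `ι`. -/
noncomputable def crk (M : Type u) [AddCommGroup M] [Module A M] : Cardinal.{u} :=
  @Module.rank D M _ _ (Module.compHom M ι)

/-- the finite rank of an `A`-module over `D`, by restriction of scalars along `ι`. -/
noncomputable def rk (M : Type u) [AddCommGroup M] [Module A M] : ℕ :=
  Cardinal.toNat (crk ι M)

lemma crk_add {M₁ M₂ M₃ : Type u} [AddCommGroup M₁] [Module A M₁] [AddCommGroup M₂] [Module A M₂]
    [AddCommGroup M₃] [Module A M₃] (f : M₁ →ₗ[A] M₂) (g : M₂ →ₗ[A] M₃)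
    (hf : Function.Injective f) (hg : Function.Surjective g) (hfg : Function.Exact f g) :
    crk ι M₂ = crk ι M₁ + crk ι M₃ := by
  letI : Module D M₁ := Module.compHom M₁ ι
  letI : Module D M₂ := Module.compHom M₂ ι
  letI : Module D M₃ := Module.compHom M₃ ι
  change Module.rank D M₂ = Module.rank D M₁ + Module.rank D M₃
  let fD : M₁ →ₗ[D] M₂ :=
    { toFun := f
      map_add' := map_add f
      map_smul' := fun d m => map_smul f (ι d) m }
  let gD : M₂ →ₗ[D] M₃ :=
    { toFun := g
      map_add' := map_add g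
      map_smul' := fun d m => map_smul g (ι d) m }
  have h1 := LinearMap.rank_eq_of_surjective (f := gD) hg
  have h2 : LinearMap.ker gD = LinearMap.range fD := by
    ext y
    exact hfg y
  have h3 : Module.rank D (LinearMap.range fD) = Module.rank D M₁ :=
    (LinearEquiv.ofInjective fD hf).rank_eq.symm
  rw [h1, h2, h3, add_comm]

omit [IsDomain D] in
lemma crk_eq_zero {M : Type u} [AddCommGroup M] [Module A M]
    (h : ∀ m : M, ∃ e : D, e ≠ 0 ∧ ι e • m = 0) : crk ι M = 0 := by
  letI : Module D M := Module.compHom M ι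
  change Module.rank D M = 0
  rw [rank_eq_zero_iff]
  exact h

lemma crk_eq_one {M : Type u} [AddCommGroup M] [Module A M] (m₀ : M)
    (h₁ : ∀ m : M, ∃ e : D, m = ι e • m₀) (h₂ : ∀ e : D, ι e • m₀ = 0 → e = 0) :
    crk ι M = 1 := by
  letI : Module D M := Module.compHom M ι
  change Module.rank D M = 1
  have hb : Function.Bijective (LinearMap.toSpanSingleton D M m₀) := by
    constructor
    · rw [← LinearMap.ker_eq_bot, LinearMap.ker_eq_bot']
      intro e he
      exact h₂ e he
    · intro m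
      obtain ⟨e, he⟩ := h₁ m
      exact ⟨e, he.symm⟩
  rw [← (LinearEquiv.ofBijective _ hb).rank_eq, Module.rank_self]

variable (x : A) (d : D) (hd : d ≠ 0) (hx : x * ι d = 0)
  (hsurj : ∀ a : A, ∃ e : D, ∃ a' : A, a = ι e + x * a')

include hd hx hsurj in
lemma crk_lt_aleph0 {M : Type u} [AddCommGroup M] [Module A M] [Module.Finite A M] :
    crk ι M < Cardinal.aleph0 := by
  classical
  letI : Module D M := Module.compHom M ι
  change Module.rank D M < Cardinal.aleph0
  let N : Submodule D M :=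
    { carrier := Set.range fun m : M => x • m
      add_mem' := by
        rintro _ _ ⟨m, rfl⟩ ⟨m', rfl⟩
        exact ⟨m + m', smul_add _ _ _⟩
      zero_mem' := ⟨0, smul_zero _⟩
      smul_mem' := by
        rintro e _ ⟨m, rfl⟩
        exact ⟨ι e • m, smul_comm _ _ _⟩ }
  have hN : Module.rank D N = 0 := by
    rw [rank_eq_zero_iff]
    rintro ⟨_, m, rfl⟩
    refine ⟨d, hd, Subtype.ext ?_⟩
    change ι d • x • m = 0
    rw [← mul_smul, mul_comm, hx, zero_smul]
  have hfin : Module.Finite D (M ⧸ N) := by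
    obtain ⟨S, hS⟩ := (Module.Finite.fg_top : (⊤ : Submodule A M).FG)
    refine ⟨⟨S.image N.mkQ, ?_⟩⟩
    rw [eq_top_iff]
    rintro q -
    obtain ⟨m, rfl⟩ := N.mkQ_surjective q
    have hm : m ∈ Submodule.span A (S : Set M) := by rw [hS]; trivial
    induction hm using Submodule.span_induction with
    | mem m hm =>
      exact Submodule.subset_span (Finset.mem_image_of_mem _ hm)
    | zero => rw [map_zero]; exact Submodule.zero_mem _
    | add m m' _ _ ih ih' => rw [map_add]; exact Submodule.add_mem _ ih ih'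
    | smul a m _ ih =>
      obtain ⟨e, a', rfl⟩ := hsurj a
      have : N.mkQ ((ι e + x * a') • m) = e • N.mkQ m := by
        rw [add_smul, map_add]
        have h0 : N.mkQ ((x * a') • m) = 0 := by
          rw [Submodule.mkQ_apply, Submodule.Quotient.mk_eq_zero]
          exact ⟨a' • m, (mul_smul _ _ _).symm⟩
        rw [h0, add_zero]
        rfl
      rw [this]
      exact Submodule.smul_mem _ _ ih
  have h1 := Submodule.rank_quotient_add_rank N
  rw [hN, add_zero] at h1
  rw [← h1]
  exact Module.rank_lt_aleph0 D (M ⧸ N)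

include hd hx hsurj in
lemma rk_add {M₁ M₂ M₃ : Type u} [AddCommGroup M₁] [Module A M₁] [AddCommGroup M₂] [Module A M₂]
    [AddCommGroup M₃] [Module A M₃] [Module.Finite A M₁] [Module.Finite A M₃]
    (f : M₁ →ₗ[A] M₂) (g : M₂ →ₗ[A] M₃)
    (hf : Function.Injective f) (hg : Function.Surjective g) (hfg : Function.Exact f g) :
    rk ι M₂ = rk ι M₁ + rk ι M₃ := by
  rw [rk, crk_add ι f g hf hg hfg, Cardinal.toNat_add (crk_lt_aleph0 ι x d hd hx hsurj)
    (crk_lt_aleph0 ι x d hd hx hsurj)]
  rfl

include hd hx hsurj in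
/-- the rank homomorphism on `K₀`. -/
theorem exists_rankHom :
    ∃ r : KZero.K0sub (FG A) →+ ℤ,
      ∀ (M : Type u) [AddCommGroup M] [Module A M] (h : FG A (ModuleCat.of A M)),
        r (cls M h) = rk ι M := by
  let φ₀ : FreeAbelianGroup (Subtype (FG A)) →+ ℤ :=
    FreeAbelianGroup.lift fun X => (rk ι X.1 : ℤ)
  have hrel : KZero.relSub (FG A) ≤ φ₀.ker := by
    rw [KZero.relSub, AddSubgroup.closure_le]
    rintro z ⟨S, h₁, h₂, h₃, hS, rfl⟩
    rw [SetLike.mem_coe, AddMonoidHom.mem_ker]
    simp only [φ₀, map_sub, FreeAbelianGroup.lift_apply_of]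
    have hf := (ModuleCat.mono_iff_injective _).mp hS.mono_f
    have hg := (ModuleCat.epi_iff_surjective _).mp hS.epi_g
    have hex := (ShortComplex.ShortExact.moduleCat_exact_iff_function_exact _).mp hS.exact
    have : Module.Finite A S.X₁ := h₁
    have : Module.Finite A S.X₃ := h₃
    have h2 := rk_add ι x d hd hx hsurj S.f.hom S.g.hom hf hg hex
    rw [h2]
    push_cast
    ring
  refine ⟨QuotientAddGroup.lift (KZero.relSub (FG A)) φ₀ hrel, fun M _ _ h => ?_⟩
  simp [φ₀]

end rank


section main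

variable {D₁ D₂ : Type u} [CommRing D₁] [IsDomain D₁] [IsPrincipalIdealRing D₁]
  [CommRing D₂] [IsDomain D₂] [IsPrincipalIdealRing D₂]

lemma clSub_eq {M : Type u} [AddCommGroup M] [Module A M] (h : FG A (ModuleCat.of A M)) :
    KZero.clSub (FG A) (ModuleCat.of A M) = cls M h := by
  rw [KZero.clSub, dif_pos h]

/-- every class is a combination of `[A/(x)]` and `[A/(y)]` -/
lemma exists_cls_eq_node (x y : A) (hxy : x * y = 0)
    [IsDomain (A ⧸ Ideal.span {x})] [IsPrincipalIdealRing (A ⧸ Ideal.span {x})]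
    [IsDomain (A ⧸ Ideal.span {y})] [IsPrincipalIdealRing (A ⧸ Ideal.span {y})]
    (M : Type u) [AddCommGroup M] [Module A M] (h : FG A (ModuleCat.of A M)) :
    ∃ a b : ℤ, cls M h = a • cls (A ⧸ Ideal.span {x}) (fg_quot _) +
      b • cls (A ⧸ Ideal.span {y}) (fg_quot _) := by
  have hM : Module.Finite A M := h
  let N : Submodule A M := LinearMap.range (LinearMap.lsmul A M x)
  have hN : FG A (ModuleCat.of A N) := (inferInstance : Module.Finite A N)
  have hQ : FG A (ModuleCat.of A (M ⧸ N)) := (inferInstance : Module.Finite A (M ⧸ N))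
  have h1 := cls_eq_add hN h hQ N.subtype N.mkQ (Submodule.injective_subtype _)
    N.mkQ_surjective (by
      intro m
      rw [Submodule.mkQ_apply, Submodule.Quotient.mk_eq_zero]
      constructor
      · intro hm
        exact ⟨⟨m, hm⟩, rfl⟩
      · rintro ⟨n, rfl⟩
        exact n.2)
  obtain ⟨b, hb⟩ := exists_cls_eq_of_annihilated (Ideal.span {y}) N hN (by
    rintro a ha ⟨_, m, rfl⟩
    obtain ⟨c, rfl⟩ := Ideal.mem_span_singleton'.mp ha
    refine Subtype.ext ?_
    change (c * y) • x • m = 0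
    rw [← mul_smul, mul_assoc, mul_comm y x, hxy, mul_zero, zero_smul])
  obtain ⟨a, ha⟩ := exists_cls_eq_of_annihilated (Ideal.span {x}) (M ⧸ N) hQ (by
    intro a ha q
    obtain ⟨m, rfl⟩ := N.mkQ_surjective q
    obtain ⟨c, rfl⟩ := Ideal.mem_span_singleton'.mp ha
    rw [← map_smul, Submodule.mkQ_apply, Submodule.Quotient.mk_eq_zero]
    exact ⟨c • m, by simp [mul_smul]⟩)
  exact ⟨a, b, by rw [h1, hb, ha, add_comm]⟩

theorem bijective (x y : A) (hxy : x * y = 0) (ι₁ : D₁ →+* A) (ι₂ : D₂ →+* A)
    (d₁ : D₁) (hd₁ : d₁ ≠ 0) (h₁ : ι₁ d₁ = y) (d₂ : D₂) (hd₂ : d₂ ≠ 0) (h₂ : ι₂ d₂ = x)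
    (hb₁ : Function.Bijective ((Ideal.Quotient.mk (Ideal.span {x})).comp ι₁))
    (hb₂ : Function.Bijective ((Ideal.Quotient.mk (Ideal.span {y})).comp ι₂)) :
    Function.Bijective (fun p : ℤ × ℤ =>
      p.1 • KZero.clSub (FG A) (ModuleCat.of A (A ⧸ Ideal.span {x})) +
        p.2 • KZero.clSub (FG A) (ModuleCat.of A (A ⧸ Ideal.span {y}))) := by
  classical
  let e₁ : D₁ ≃+* A ⧸ Ideal.span {x} := RingEquiv.ofBijective _ hb₁
  let e₂ : D₂ ≃+* A ⧸ Ideal.span {y} := RingEquiv.ofBijective _ hb₂
  haveI : IsDomain (A ⧸ Ideal.span {x}) := e₁.toMulEquiv.isDomain_iff.mp inferInstance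
  haveI : IsDomain (A ⧸ Ideal.span {y}) := e₂.toMulEquiv.isDomain_iff.mp inferInstance
  haveI : IsPrincipalIdealRing (A ⧸ Ideal.span {x}) :=
    IsPrincipalIdealRing.of_surjective e₁.toRingHom e₁.surjective
  haveI : IsPrincipalIdealRing (A ⧸ Ideal.span {y}) :=
    IsPrincipalIdealRing.of_surjective e₂.toRingHom e₂.surjective
  rw [clSub_eq (fg_quot _), clSub_eq (fg_quot _)]
  -- the decomposition of elements of `A`
  have hs₁ : ∀ a : A, ∃ e : D₁, ∃ a' : A, a = ι₁ e + x * a' := by
    intro a
    obtain ⟨e, he⟩ := hb₁.2 (Ideal.Quotient.mk _ a)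
    have : a - ι₁ e ∈ Ideal.span {x} := by
      rw [← Ideal.Quotient.eq]
      exact he.symm
    obtain ⟨c, hc⟩ := Ideal.mem_span_singleton'.mp this
    exact ⟨e, c, by rw [mul_comm, hc]; ring⟩
  have hs₂ : ∀ a : A, ∃ e : D₂, ∃ a' : A, a = ι₂ e + y * a' := by
    intro a
    obtain ⟨e, he⟩ := hb₂.2 (Ideal.Quotient.mk _ a)
    have : a - ι₂ e ∈ Ideal.span {y} := by
      rw [← Ideal.Quotient.eq]
      exact he.symm
    obtain ⟨c, hc⟩ := Ideal.mem_span_singleton'.mp this
    exact ⟨e, c, by rw [mul_comm, hc]; ring⟩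
  obtain ⟨r₁, hr₁⟩ := exists_rankHom ι₁ x d₁ hd₁ (by rw [h₁, hxy]) hs₁
  obtain ⟨r₂, hr₂⟩ := exists_rankHom ι₂ y d₂ hd₂ (by rw [h₂, mul_comm, hxy]) hs₂
  -- values of the rank functions
  have v11 : r₁ (cls (A ⧸ Ideal.span {x}) (fg_quot _)) = 1 := by
    rw [hr₁, rk, crk_eq_one ι₁ (1 : A ⧸ Ideal.span {x})]
    · simp
    · intro m
      obtain ⟨e, he⟩ := hb₁.2 m
      refine ⟨e, ?_⟩
      rw [← he, Algebra.smul_def, mul_one]
      rfl
    · intro e he
      rw [Algebra.smul_def, mul_one] at he
      exact (map_eq_zero_iff _ hb₁.1).mp he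
  have v22 : r₂ (cls (A ⧸ Ideal.span {y}) (fg_quot _)) = 1 := by
    rw [hr₂, rk, crk_eq_one ι₂ (1 : A ⧸ Ideal.span {y})]
    · simp
    · intro m
      obtain ⟨e, he⟩ := hb₂.2 m
      refine ⟨e, ?_⟩
      rw [← he, Algebra.smul_def, mul_one]
      rfl
    · intro e he
      rw [Algebra.smul_def, mul_one] at he
      exact (map_eq_zero_iff _ hb₂.1).mp he
  have v12 : r₁ (cls (A ⧸ Ideal.span {y}) (fg_quot _)) = 0 := by
    rw [hr₁, rk, crk_eq_zero ι₁]
    · simp
    · intro m
      refine ⟨d₁, hd₁, ?_⟩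
      obtain ⟨a, rfl⟩ := Ideal.Quotient.mk_surjective m
      rw [h₁, Algebra.smul_def, Ideal.Quotient.algebraMap_eq, ← map_mul,
        Ideal.Quotient.eq_zero_iff_mem]
      exact Ideal.mul_mem_right _ _ (Ideal.mem_span_singleton_self y)
  have v21 : r₂ (cls (A ⧸ Ideal.span {x}) (fg_quot _)) = 0 := by
    rw [hr₂, rk, crk_eq_zero ι₂]
    · simp
    · intro m
      refine ⟨d₂, hd₂, ?_⟩
      obtain ⟨a, rfl⟩ := Ideal.Quotient.mk_surjective m
      rw [h₂, Algebra.smul_def, Ideal.Quotient.algebraMap_eq, ← map_mul,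
        Ideal.Quotient.eq_zero_iff_mem]
      exact Ideal.mul_mem_right _ _ (Ideal.mem_span_singleton_self x)
  constructor
  · intro p q hpq
    have e1 := congrArg r₁ hpq
    have e2 := congrArg r₂ hpq
    simp only [map_add, map_zsmul, v11, v12, v21, v22, smul_eq_mul, mul_one, mul_zero, add_zero,
      zero_add] at e1 e2
    exact Prod.ext e1 e2
  · intro z
    induction z using QuotientAddGroup.induction_on with
    | H z =>
      induction z using FreeAbelianGroup.induction_on with
      | zero => exact ⟨0, by simp⟩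
      | of X =>
        obtain ⟨M, hM⟩ := X
        obtain ⟨a, b, hab⟩ := exists_cls_eq_node x y hxy M hM
        exact ⟨(a, b), hab.symm⟩
      | neg X ih =>
        obtain ⟨k, hk⟩ := ih
        refine ⟨-k, ?_⟩
        simp only at hk ⊢
        rw [QuotientAddGroup.mk_neg, ← hk]
        simp only [Prod.fst_neg, Prod.snd_neg, neg_smul, neg_add_rev]
        abel
      | add a b iha ihb =>
        obtain ⟨k, hk⟩ := iha
        obtain ⟨l, hl⟩ := ihb
        refine ⟨k + l, ?_⟩
        simp only at hk hl ⊢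
        rw [QuotientAddGroup.mk_add, ← hk, ← hl]
        simp only [Prod.fst_add, Prod.snd_add, add_smul]
        abel

end main


section concrete

open MvPolynomial

variable (k : Type u) [Field k]

/-- the coordinate ring of the node -/
abbrev NodeRing : Type u :=
  MvPolynomial (Fin 2) k ⧸ Ideal.span {(X 0 * X 1 : MvPolynomial (Fin 2) k)}

/-- the class of the variable `X i` -/
noncomputable abbrev nx (i : Fin 2) : NodeRing k :=
  Ideal.Quotient.mk (Ideal.span {(X 0 * X 1 : MvPolynomial (Fin 2) k)}) (X i)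

lemma nx_mul : nx k 0 * nx k 1 = 0 := by
  rw [nx, nx, ← map_mul, Ideal.Quotient.eq_zero_iff_mem]
  exact Ideal.mem_span_singleton_self _

/-- the inclusion of the `j`-axis coordinate ring -/
noncomputable def axis (j : Fin 2) : Polynomial k →ₐ[k] NodeRing k :=
  Polynomial.aeval (nx k j)

/-- evaluation killing the variables other than `j` -/
noncomputable def evalAxis (j : Fin 2) : MvPolynomial (Fin 2) k →ₐ[k] Polynomial k :=
  MvPolynomial.aeval fun l => if l = j then Polynomial.X else 0

lemma evalAxis_mem (i j : Fin 2) (hij : i ≠ j) :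
    Ideal.span {(X 0 * X 1 : MvPolynomial (Fin 2) k)} ≤ RingHom.ker (evalAxis k j).toRingHom := by
  rw [Ideal.span_le, Set.singleton_subset_iff, SetLike.mem_coe, RingHom.mem_ker]
  change evalAxis k j (X 0 * X 1) = 0
  rw [map_mul, evalAxis, aeval_X, aeval_X]
  fin_cases i <;> fin_cases j <;> simp at hij ⊢

lemma axis_bijective (i j : Fin 2) (hij : i ≠ j) :
    Function.Bijective ((Ideal.Quotient.mk (Ideal.span {nx k i})).comp (axis k j).toRingHom) := by
  constructor
  · -- a retraction
    let ψ₁ : NodeRing k →+* Polynomial k :=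
      Ideal.Quotient.lift _ (evalAxis k j).toRingHom (fun a ha => evalAxis_mem k i j hij ha)
    have hψ₁ : ψ₁ (nx k i) = 0 := by
      change ψ₁ (Ideal.Quotient.mk _ (X i)) = 0
      rw [Ideal.Quotient.lift_mk]
      change evalAxis k j (X i) = 0
      rw [evalAxis, aeval_X, if_neg hij]
    let ψ : NodeRing k ⧸ Ideal.span {nx k i} →+* Polynomial k :=
      Ideal.Quotient.lift _ ψ₁ (fun a ha => by
        obtain ⟨c, rfl⟩ := Ideal.mem_span_singleton'.mp ha
        rw [map_mul, hψ₁, mul_zero])
    have hψ : ψ.comp ((Ideal.Quotient.mk (Ideal.span {nx k i})).comp (axis k j).toRingHom) =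
        RingHom.id _ := by
      refine Polynomial.ringHom_ext (fun a => ?_) ?_
      · change ψ (Ideal.Quotient.mk _ (axis k j (Polynomial.C a))) = Polynomial.C a
        rw [axis, Polynomial.aeval_C, Ideal.Quotient.lift_mk]
        change ψ₁ (Ideal.Quotient.mk _ (algebraMap k _ a)) = _
        rw [Ideal.Quotient.lift_mk]
        change evalAxis k j (algebraMap k _ a) = _
        rw [AlgHom.commutes]
        rfl
      · change ψ (Ideal.Quotient.mk _ (axis k j Polynomial.X)) = Polynomial.X
        rw [axis, Polynomial.aeval_X, Ideal.Quotient.lift_mk]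
        change ψ₁ (Ideal.Quotient.mk _ (X j)) = _
        rw [Ideal.Quotient.lift_mk]
        change evalAxis k j (X j) = _
        rw [evalAxis, aeval_X, if_pos rfl]
    intro a b hab
    have := congrArg ψ hab
    have h1 := RingHom.congr_fun hψ a
    have h2 := RingHom.congr_fun hψ b
    simp only [RingHom.comp_apply, RingHom.id_apply] at h1 h2 this
    rw [← h1, ← h2]
    exact this
  · intro q
    obtain ⟨a, rfl⟩ := Ideal.Quotient.mk_surjective q
    obtain ⟨p, rfl⟩ := Ideal.Quotient.mk_surjective a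
    refine ⟨evalAxis k j p, ?_⟩
    -- compare two algebra homomorphisms out of the polynomial ring
    let F : MvPolynomial (Fin 2) k →ₐ[k] NodeRing k ⧸ Ideal.span {nx k i} :=
      (Ideal.Quotient.mkₐ k (Ideal.span {nx k i})).comp
        ((axis k j).comp (evalAxis k j))
    let G : MvPolynomial (Fin 2) k →ₐ[k] NodeRing k ⧸ Ideal.span {nx k i} :=
      (Ideal.Quotient.mkₐ k (Ideal.span {nx k i})).comp
        (Ideal.Quotient.mkₐ k (Ideal.span {(X 0 * X 1 : MvPolynomial (Fin 2) k)}))
    have hFG : F = G := by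
      refine MvPolynomial.algHom_ext fun l => ?_
      change Ideal.Quotient.mk _ (axis k j (evalAxis k j (X l))) =
        Ideal.Quotient.mk _ (Ideal.Quotient.mk _ (X l))
      rw [evalAxis, aeval_X]
      by_cases hl : l = j
      · subst hl
        rw [if_pos rfl, axis, Polynomial.aeval_X]
      · have hli : l = i := by
          fin_cases i <;> fin_cases j <;> fin_cases l <;> simp at hij hl ⊢
        subst hli
        rw [if_neg hl, map_zero, map_zero]
        symm
        rw [Ideal.Quotient.eq_zero_iff_mem]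
        exact Ideal.mem_span_singleton_self _
    exact DFunLike.congr_fun hFG p

theorem node_bijective :
    Function.Bijective (fun p : ℤ × ℤ =>
      p.1 • KZero.clSub (FG (NodeRing k))
          (ModuleCat.of (NodeRing k) (NodeRing k ⧸ Ideal.span {nx k 0})) +
        p.2 • KZero.clSub (FG (NodeRing k))
          (ModuleCat.of (NodeRing k) (NodeRing k ⧸ Ideal.span {nx k 1}))) := by
  refine bijective (nx k 0) (nx k 1) (nx_mul k) (axis k 1).toRingHom (axis k 0).toRingHom
    Polynomial.X Polynomial.X_ne_zero ?_ Polynomial.X Polynomial.X_ne_zero ?_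
    (axis_bijective k 0 1 (by decide)) (axis_bijective k 1 0 (by decide))
  · change axis k 1 Polynomial.X = _
    rw [axis, Polynomial.aeval_X]
  · change axis k 0 Polynomial.X = _
    rw [axis, Polynomial.aeval_X]

end concrete

end Groth.Agent.Helper9.K0Node
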