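import Mathlib
import Groth.Agent.Helper9.DProd

/-! K-injective complexes with injective terms and the extension property. -/

set_option autoImplicit false
universe v u
open CategoryTheory CategoryTheory.Limits

namespace Groth.Agent.Helper9.KInjLift

open CochainComplex HomComplex

variable {A : Type u} [Category.{v} A] [Abelian A]

/-- extension property of K-injective complexes with injective terms -/
theorem exists_ext (I : CochainComplex A ℤ) [I.IsKInjective] (hinj : ∀ n : ℤ, Injective (I.X n))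
    (S : ShortComplex (CochainComplex A ℤ)) (hS : S.ShortExact) (hac : S.X₃.Acyclic)
    (φ : S.X₁ ⟶ I) : ∃ ψ : S.X₂ ⟶ I, S.f ≫ ψ = φ := by
  have hSn : ∀ n, (S.map (HomologicalComplex.eval A (ComplexShape.up ℤ) n)).ShortExact :=
    (HomologicalComplex.shortExact_iff_degreewise_shortExact S).1 hS
  have hmono : ∀ n, Mono (S.f.f n) := fun n => (hSn n).mono_f
  have hepi : ∀ n, Epi (S.g.f n) := fun n => (hSn n).epi_g
  let ψ₀ : Cochain S.X₂ I 0 :=
    Cochain.ofHoms (fun n => Injective.factorThru (φ.f n) (S.f.f n))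
  have h₀ : (Cochain.ofHom S.f).comp ψ₀ (zero_add 0) = Cochain.ofHom φ := by
    ext n
    simp [ψ₀, Cochain.comp_zero_cochain_v]
  have h₁ : (Cochain.ofHom S.f).comp (δ 0 1 ψ₀) (zero_add 1) = 0 := by
    rw [← δ_ofHom_comp, h₀, δ_ofHom]
  have hfac : ∀ (p q : ℤ) (hpq : p + 1 = q), S.f.f p ≫ (δ 0 1 ψ₀).v p q hpq = 0 := by
    intro p q hpq
    have := Cochain.congr_v h₁ p q hpq
    simpa [Cochain.zero_cochain_comp_v] using this
  have hepi' : ∀ p, Epi (S.map (HomologicalComplex.eval A (ComplexShape.up ℤ) p)).g :=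
    fun p => (hSn p).epi_g
  let γ : Cochain S.X₃ I 1 := Cochain.mk (fun p q hpq =>
    (hSn p).exact.desc ((δ 0 1 ψ₀).v p q hpq) (hfac p q hpq))
  have hγ : (Cochain.ofHom S.g).comp γ (zero_add 1) = δ 0 1 ψ₀ := by
    ext p q hpq
    rw [Cochain.zero_cochain_comp_v, Cochain.ofHom_v]
    exact (hSn p).exact.g_desc _ _
  have hγ' : δ 1 2 γ = 0 := by
    have h2 : (Cochain.ofHom S.g).comp (δ 1 2 γ) (zero_add 2) = 0 := by
      rw [← δ_ofHom_comp, hγ, δ_δ]
    ext p q hpq
    have := Cochain.congr_v h2 p q hpq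
    rw [Cochain.zero_cochain_comp_v, Cochain.ofHom_v, Cochain.zero_v] at this
    rw [Cochain.zero_v, ← cancel_epi (S.g.f p), this, comp_zero]
  obtain ⟨β, hβ⟩ := IsKInjective.eq_δ_of_cocycle (Cocycle.mk γ 2 rfl hγ') hac 0 (by simp)
  replace hβ : δ 0 1 β = γ := hβ
  let ψc : Cochain S.X₂ I 0 := ψ₀ - (Cochain.ofHom S.g).comp β (zero_add 0)
  have hψc : δ 0 1 ψc = 0 := by
    dsimp only [ψc]
    rw [δ_sub, δ_ofHom_comp, hβ, hγ, sub_self]
  refine ⟨Cocycle.homOf (Cocycle.mk ψc 1 (zero_add 1) hψc), ?_⟩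
  apply Cochain.ofHom_injective
  rw [Cochain.ofHom_comp, Cocycle.cochain_ofHom_homOf_eq_coe]
  change (Cochain.ofHom S.f).comp ψc (zero_add 0) = _
  dsimp only [ψc]
  rw [Cochain.comp_sub, h₀, ← Cochain.comp_assoc_of_first_is_zero_cochain, ← Cochain.ofHom_comp,
    S.zero, Cochain.ofHom_zero, Cochain.zero_comp, sub_zero]

lemma acyclic_shift (K : CochainComplex A ℤ) (hK : K.Acyclic) (n : ℤ) : (K⟦n⟧).Acyclic := by
  rw [← HomotopyCategory.quotient_obj_mem_subcategoryAcyclic_iff_acyclic] at hK ⊢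
  exact ObjectProperty.prop_of_iso _
    (((HomotopyCategory.quotient A (.up ℤ)).commShiftIso n).symm.app K)
    ((HomotopyCategory.subcategoryAcyclic A).le_shift n _ hK)

/-- the extension property implies K-injectivity -/
theorem isKInjective_of_ext (I : CochainComplex A ℤ)
    (h : ∀ (S : ShortComplex (CochainComplex A ℤ)), S.ShortExact → S.X₃.Acyclic →
        ∀ φ : S.X₁ ⟶ I, ∃ ψ : S.X₂ ⟶ I, S.f ≫ ψ = φ) : I.IsKInjective := by
  refine ⟨fun {K} f hK => ?_⟩
  rw [DProd.homotopy_zero_iff_ext]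
  let S := mappingCone.triangleRotateShortComplex (𝟙 K)
  have hS : S.ShortExact := HomologicalComplex.shortExact_of_degreewise_shortExact S
    (fun n => (mappingCone.triangleRotateShortComplexSplitting (𝟙 K) n).shortExact)
  have hac : S.X₃.Acyclic := acyclic_shift K hK 1
  obtain ⟨ψ, hψ⟩ := h S hS hac f
  exact ⟨ψ, hψ⟩

section double

variable (X : A) (n : ℤ)

/-- the disc complex -/
noncomputable abbrev disc : CochainComplex A ℤ :=
  HomologicalComplex.double (𝟙 X) (show (ComplexShape.up ℤ).Rel n (n + 1) from rfl)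

lemma disc_acyclic : (disc X n).Acyclic := by
  have hne : n ≠ n + 1 := by omega
  intro j
  by_cases h0 : j = n
  · subst h0
    rw [HomologicalComplex.exactAt_iff' _ (j - 1) j (j + 1) (by simp) (by simp)]
    have hf : (HomologicalComplex.sc' (disc X j) (j - 1) j (j + 1)).f = 0 :=
      HomologicalComplex.double_d_eq_zero₀ (𝟙 X)
        (show (ComplexShape.up ℤ).Rel j (j + 1) from rfl) _ _ (by omega)
    rw [ShortComplex.exact_iff_mono _ hf]
    change Mono ((disc X j).d j (j + 1))
    rw [HomologicalComplex.double_d _ _ hne]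
    infer_instance
  · by_cases h1 : j = n + 1
    · subst h1
      rw [HomologicalComplex.exactAt_iff' _ n (n + 1) (n + 1 + 1) (by simp) (by simp)]
      have hg : (HomologicalComplex.sc' (disc X n) n (n + 1) (n + 1 + 1)).g = 0 :=
        HomologicalComplex.double_d_eq_zero₁ (𝟙 X)
          (show (ComplexShape.up ℤ).Rel n (n + 1) from rfl) _ _ (by omega)
      rw [ShortComplex.exact_iff_epi _ hg]
      change Epi ((disc X n).d n (n + 1))
      rw [HomologicalComplex.double_d _ _ hne]
      infer_instance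
    · rw [HomologicalComplex.exactAt_iff]
      exact ShortComplex.exact_of_isZero_X₂ _ (HomologicalComplex.isZero_double_X (𝟙 X)
        (show (ComplexShape.up ℤ).Rel n (n + 1) from rfl) _ h0 h1)

/-- maps out of the disc -/
noncomputable def discDesc {K : CochainComplex A ℤ} (k : X ⟶ K.X n) : disc X n ⟶ K :=
  HomologicalComplex.mkHomFromDouble _ (by omega) k (k ≫ K.d n (n + 1)) (by simp) (by simp)

lemma discDesc_f₀ {K : CochainComplex A ℤ} (k : X ⟶ K.X n) :
    (discDesc X n k).f n = (HomologicalComplex.doubleXIso₀ (𝟙 X) _).hom ≫ k :=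
  HomologicalComplex.mkHomFromDouble_f₀ _ _ _ _ _ _

lemma discDesc_f₁ {K : CochainComplex A ℤ} (k : X ⟶ K.X n) :
    (discDesc X n k).f (n + 1) =
      (HomologicalComplex.doubleXIso₁ (𝟙 X) _ (by omega)).hom ≫ k ≫ K.d n (n + 1) :=
  HomologicalComplex.mkHomFromDouble_f₁ _ _ _ _ _ _

end double

/-- the extension property implies injectivity of the terms -/
theorem injective_of_ext (I : CochainComplex A ℤ)
    (h : ∀ (S : ShortComplex (CochainComplex A ℤ)), S.ShortExact → S.X₃.Acyclic →
        ∀ φ : S.X₁ ⟶ I, ∃ ψ : S.X₂ ⟶ I, S.f ≫ ψ = φ) (n : ℤ) : Injective (I.X n) := by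
  constructor
  intro X Y k i hi
  have hne : n ≠ n + 1 := by omega
  let eX := HomologicalComplex.doubleXIso₀ (𝟙 X) (show (ComplexShape.up ℤ).Rel n (n + 1) from rfl)
  let eY := HomologicalComplex.doubleXIso₀ (𝟙 Y) (show (ComplexShape.up ℤ).Rel n (n + 1) from rfl)
  let eX' := HomologicalComplex.doubleXIso₁ (𝟙 X)
    (show (ComplexShape.up ℤ).Rel n (n + 1) from rfl) hne
  let eY' := HomologicalComplex.doubleXIso₁ (𝟙 Y)
    (show (ComplexShape.up ℤ).Rel n (n + 1) from rfl) hne
  let Di : disc X n ⟶ disc Y n := discDesc X n (i ≫ eY.inv)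
  have hDi0 : Di.f n = eX.hom ≫ i ≫ eY.inv := discDesc_f₀ X n _
  have hDi1 : Di.f (n + 1) = eX'.hom ≫ i ≫ eY'.inv := by
    refine (discDesc_f₁ X n _).trans ?_
    rw [HomologicalComplex.double_d _ _ hne]
    simp [eY, eY', eX']
  haveI : Mono Di := by
    apply HomologicalComplex.mono_of_mono_f
    intro j
    by_cases h0 : j = n
    · subst h0
      rw [hDi0]
      infer_instance
    · by_cases h1 : j = n + 1
      · subst h1
        rw [hDi1]
        infer_instance
      · exact ⟨fun a b _ => (HomologicalComplex.isZero_double_X (𝟙 X)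
          (show (ComplexShape.up ℤ).Rel n (n + 1) from rfl) _ h0 h1).eq_of_tgt a b⟩
  let S : ShortComplex (CochainComplex A ℤ) :=
    ShortComplex.mk Di (cokernel.π Di) (cokernel.condition Di)
  have hS : S.ShortExact := { exact := ShortComplex.exact_cokernel Di }
  have hac : S.X₃.Acyclic := by
    intro j
    have h3 := hS.homology_exact₃ j (j + 1) rfl
    rw [HomologicalComplex.exactAt_iff_isZero_homology]
    exact h3.isZero_of_both_isZero
      ((HomologicalComplex.exactAt_iff_isZero_homology _ _).1 (disc_acyclic Y n j))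
      ((HomologicalComplex.exactAt_iff_isZero_homology _ _).1 (disc_acyclic X n (j + 1)))
  obtain ⟨ψ, hψ⟩ := h S hS hac (discDesc X n k)
  refine ⟨eY.inv ≫ ψ.f n, ?_⟩
  have h1 := congrArg (fun t => eX.inv ≫ t.f n) hψ
  simp only [HomologicalComplex.comp_f] at h1
  change eX.inv ≫ Di.f n ≫ ψ.f n = eX.inv ≫ (discDesc X n k).f n at h1
  rw [hDi0, discDesc_f₀] at h1
  simpa [eX] using h1

end Groth.Agent.Helper9.KInjLift
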