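import Mathlib
import Groth.Prelude.Def_AlgGrp
import Groth.Prelude.Def_ChGrp
import Groth.Agent.Helper9.DescTools
import Groth.Agent.Helper9.QuotGrp

set_option autoImplicit false
set_option linter.unusedSectionVars false

namespace Groth.Agent.Helper9.KerAct

open CategoryTheory CategoryTheory.Limits MonoidalCategory CartesianMonoidalCategory MonObj GrpObj
  AlgebraicGeometry
open Groth.Agent.Helper9.DescTools Groth.Agent.Helper9.ExactH1

universe u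

variable {S : Scheme.{u}} {G H Q N : Over S} [GrpObj G] [GrpObj H] (i : H ⟶ G) [IsMonHom i]
  (a : AlgGrp.Action G Q) (o : 𝟙_ (Over S) ⟶ Q)
  (hloc : Loc Scheme.fpqcPrecoverage (a.orbitMap o))
  (hpb : IsPullback (fst G H) ((G ◁ i) ≫ μ[G]) (a.orbitMap o) (a.orbitMap o))
  [GrpObj N] (n : N ⟶ G) [IsMonHom n]
  (hN : ∀ (T : Over S) (g : T ⟶ G),
      (∃ m : T ⟶ N, m ≫ n = g) ↔
        ∀ (T' : Over S) (s : T' ⟶ T) (x : T' ⟶ Q), lift (s ≫ g) x ≫ a.act = x)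

include hN in
theorem normal : AlgGrp.IsNormalHom n := by
  intro T g m
  obtain ⟨m', hm'⟩ := (hN T (g * (m ≫ n) * g⁻¹)).mpr (by
    intro T' s x
    have h1 := (hN T (m ≫ n)).mp ⟨m, rfl⟩ T' s (lift (s ≫ g)⁻¹ x ≫ a.act)
    rw [MonObj.comp_mul, MonObj.comp_mul, GrpObj.comp_inv, AlgGrp.Action.lift_mul_act,
      AlgGrp.Action.lift_mul_act, h1, ← AlgGrp.Action.lift_mul_act, mul_inv_cancel,
      AlgGrp.Action.lift_one_act])
  exact ⟨m', hm'.symm⟩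

include hpb hN in
theorem le_H : ∃ f : N ⟶ H, f ≫ i = n := by
  have hfib := QuotGrp.fib_of_isPullback i (a.orbitMap o) hpb
  have h1 := (hN N n).mp ⟨𝟙 N, Category.id_comp _⟩ N (𝟙 N) (toUnit N ≫ o)
  rw [Category.id_comp] at h1
  have h2 : (1 : N ⟶ G) ≫ a.orbitMap o = n ≫ a.orbitMap o := by
    rw [AlgGrp.Action.comp_orbitMap, AlgGrp.Action.comp_orbitMap, h1,
      AlgGrp.Action.lift_one_act]
  obtain ⟨h, hh⟩ := (hfib (1 : N ⟶ G) n).mp h2
  rw [_root_.one_mul] at hh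
  exact ⟨h, hh.symm⟩

include hloc hpb hN in
theorem largest {N' : Over S} [GrpObj N'] (n' : N' ⟶ G) [IsMonHom n']
    (hn' : AlgGrp.IsNormalHom n') (hle : ∃ f : N' ⟶ H, f ≫ i = n') :
    ∃ f' : N' ⟶ N, f' ≫ n = n' := by
  have hfib := QuotGrp.fib_of_isPullback i (a.orbitMap o) hpb
  obtain ⟨f, hf⟩ := hle
  apply (hN N' n').mpr
  intro T' s x
  obtain ⟨E, j, gam, sq⟩ : ∃ (E : Over S) (j : E ⟶ T') (gam : E ⟶ G),
      IsPullback j gam x (a.orbitMap o) := ⟨_, _, _, IsPullback.of_hasPullback x (a.orbitMap o)⟩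
  have hj : Loc Scheme.fpqcPrecoverage j := pullback_loc _ sq hloc
  apply over_epi_q j hj
  have hjx : j ≫ x = gam ≫ a.orbitMap o := sq.w
  obtain ⟨m', hm'⟩ := hn' _ gam⁻¹ (j ≫ s)
  rw [_root_.inv_inv] at hm'
  have h1 : (j ≫ s ≫ n') * gam = gam * ((m' ≫ f) ≫ i) := by
    rw [Category.assoc, hf, ← hm', Category.assoc]
    group
  have h2 : gam ≫ a.orbitMap o = (gam * ((m' ≫ f) ≫ i)) ≫ a.orbitMap o :=
    (hfib gam _).mpr ⟨m' ≫ f, rfl⟩
  calc j ≫ lift (s ≫ n') x ≫ a.act = lift (j ≫ s ≫ n') (j ≫ x) ≫ a.act := by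
        rw [comp_lift_assoc]
    _ = lift (j ≫ s ≫ n') (lift gam (toUnit E ≫ o) ≫ a.act) ≫ a.act := by
        rw [hjx, AlgGrp.Action.comp_orbitMap]
    _ = lift ((j ≫ s ≫ n') * gam) (toUnit E ≫ o) ≫ a.act :=
        (AlgGrp.Action.lift_mul_act a _ _ _).symm
    _ = ((j ≫ s ≫ n') * gam) ≫ a.orbitMap o := (AlgGrp.Action.comp_orbitMap a _ o).symm
    _ = (gam * ((m' ≫ f) ≫ i)) ≫ a.orbitMap o := by rw [h1]
    _ = gam ≫ a.orbitMap o := h2.symm
    _ = j ≫ x := hjx.symm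

end Groth.Agent.Helper9.KerAct
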