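import Mathlib
import Groth.Agent.Helper9.KerSq
import Groth.Agent.Lead.SchDescent2

set_option autoImplicit false
set_option linter.unusedSectionVars false

namespace Groth.Agent.Helper9.KerAff

open CategoryTheory CategoryTheory.Limits MonoidalCategory CartesianMonoidalCategory MonObj GrpObj
  AlgebraicGeometry
open Groth.Agent.Helper9.DescTools

universe u

variable {S : Scheme.{u}} {G H N : Over S} [GrpObj G] [GrpObj H] (f : G ⟶ H) [IsMonHom f]
  (i : N ⟶ G) (hker : AlgGrp.IsKernel i f)

set_option backward.isDefEq.respectTransparency false in
include hker in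
theorem isAffineHom_of_ker (hloc : Loc Scheme.fpqcPrecoverage f) (h : IsAffineHom N.hom) :
    IsAffineHom f.left :=
  KerSq.prop_of_ker f i hker @IsAffineHom hloc h

end Groth.Agent.Helper9.KerAff
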