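import Mathlib
import Groth.Agent.Helper9.KerSq
import Groth.Agent.Lead.SchDescent
import Groth.Agent.Lead.SchDescent2

set_option autoImplicit false
set_option linter.unusedSectionVars false

namespace Groth.Agent.Helper9.KerEt

open CategoryTheory CategoryTheory.Limits MonoidalCategory CartesianMonoidalCategory MonObj GrpObj
  AlgebraicGeometry
open Groth.Agent.Helper9.DescTools

universe u

variable {S : Scheme.{u}} {G H N : Over S} [GrpObj G] [GrpObj H] (f : G ⟶ H) [IsMonHom f]
  (i : N ⟶ G) (hker : AlgGrp.IsKernel i f)

set_option backward.isDefEq.respectTransparency false in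
include hker in
theorem etale_of_ker (hloc : Loc Scheme.fpqcPrecoverage f) (h : Etale N.hom) :
    Etale f.left :=
  KerSq.prop_of_ker f i hker @Etale hloc h

set_option backward.isDefEq.respectTransparency false in
include hker in
theorem smooth_of_ker (hloc : Loc Scheme.fpqcPrecoverage f) (h : Smooth N.hom) :
    Smooth f.left :=
  KerSq.prop_of_ker f i hker @Smooth hloc h

set_option backward.isDefEq.respectTransparency false in
include hker in
theorem unramified_of_ker (hloc : Loc Scheme.fpqcPrecoverage f) (h : FormallyUnramified N.hom) :
    FormallyUnramified f.left :=
  KerSq.prop_of_ker f i hker @FormallyUnramified hloc h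

set_option backward.isDefEq.respectTransparency false in
include hker in
theorem lft_of_ker (hloc : Loc Scheme.fpqcPrecoverage f) (h : LocallyOfFiniteType N.hom) :
    LocallyOfFiniteType f.left :=
  KerSq.prop_of_ker f i hker @LocallyOfFiniteType hloc h

set_option backward.isDefEq.respectTransparency false in
include hker in
theorem lfp_of_ker (hloc : Loc Scheme.fpqcPrecoverage f) (h : LocallyOfFinitePresentation N.hom) :
    LocallyOfFinitePresentation f.left :=
  KerSq.prop_of_ker f i hker @LocallyOfFinitePresentation hloc h

set_option backward.isDefEq.respectTransparency false in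
include hker in
theorem finite_of_ker (hloc : Loc Scheme.fpqcPrecoverage f) (h : IsFinite N.hom) :
    IsFinite f.left :=
  KerSq.prop_of_ker f i hker @IsFinite hloc h

set_option backward.isDefEq.respectTransparency false in
include hker in
theorem proper_of_ker (hloc : Loc Scheme.fpqcPrecoverage f) (h : IsProper N.hom) :
    IsProper f.left :=
  KerSq.prop_of_ker f i hker @IsProper hloc h

set_option backward.isDefEq.respectTransparency false in
include hker in
theorem closedImmersion_of_ker (hloc : Loc Scheme.fpqcPrecoverage f) (h : IsClosedImmersion N.hom) :
    IsClosedImmersion f.left :=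
  KerSq.prop_of_ker f i hker @IsClosedImmersion hloc h

set_option backward.isDefEq.respectTransparency false in
include hker in
theorem quasiCompact_of_ker (hloc : Loc Scheme.fpqcPrecoverage f) (h : QuasiCompact N.hom) :
    QuasiCompact f.left :=
  KerSq.prop_of_ker f i hker @QuasiCompact hloc h

set_option backward.isDefEq.respectTransparency false in
include hker in
theorem separated_of_ker (hloc : Loc Scheme.fpqcPrecoverage f) (h : IsSeparated N.hom) :
    IsSeparated f.left :=
  KerSq.prop_of_ker f i hker @IsSeparated hloc h

set_option backward.isDefEq.respectTransparency false in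
include hker in
theorem integral_of_ker (hloc : Loc Scheme.fpqcPrecoverage f) (h : IsIntegralHom N.hom) :
    IsIntegralHom f.left :=
  KerSq.prop_of_ker f i hker @IsIntegralHom hloc h

set_option backward.isDefEq.respectTransparency false in
include hker in
theorem isIso_of_ker (hloc : Loc Scheme.fpqcPrecoverage f) (h : IsIso N.hom) :
    IsIso f.left :=
  KerSq.prop_of_ker f i hker (MorphismProperty.isomorphisms Scheme.{u}) hloc h

set_option backward.isDefEq.respectTransparency false in
include hker in
theorem openImmersion_of_ker (hloc : Loc Scheme.fpqcPrecoverage f) (h : IsOpenImmersion N.hom) :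
    IsOpenImmersion f.left :=
  KerSq.prop_of_ker f i hker @IsOpenImmersion hloc h

set_option backward.isDefEq.respectTransparency false in
include hker in
theorem univInj_of_ker (hloc : Loc Scheme.fpqcPrecoverage f) (h : UniversallyInjective N.hom) :
    UniversallyInjective f.left :=
  KerSq.prop_of_ker f i hker @UniversallyInjective hloc h

end Groth.Agent.Helper9.KerEt
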