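import Mathlib

set_option autoImplicit false

namespace Groth.Agent.Helper9.KerProd

open CategoryTheory CategoryTheory.Limits MonoidalCategory CartesianMonoidalCategory MonObj GrpObj

universe v u

variable {C : Type u} [Category.{v} C] [CartesianMonoidalCategory C] [BraidedCategory C]

theorem isIso_kernelProd (G Ga Gb : C) [GrpObj G] [IsCommMonObj G] (n a b : ℕ) (hn : n = a * b)
    (hab : Nat.Coprime a b) (hG : (𝟙 G) ^ n = 1)
    (ia : Ga ⟶ G) (hia : IsPullback ia (toUnit Ga) ((𝟙 G) ^ a) η[G])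
    (ib : Gb ⟶ G) (hib : IsPullback ib (toUnit Gb) ((𝟙 G) ^ b) η[G]) :
    IsIso ((fst Ga Gb ≫ ia) * (snd Ga Gb ≫ ib)) := by
  -- Bezout
  obtain ⟨u, v, huv⟩ : ∃ u v : ℤ, (a : ℤ) * u + (b : ℤ) * v = 1 := by
    refine ⟨Nat.gcdA a b, Nat.gcdB a b, ?_⟩
    have := Nat.gcd_eq_gcd_ab a b
    rw [hab] at this
    simpa using this.symm
  -- every point is killed by n
  have kill : ∀ {T : C} (x : T ⟶ G), x ^ n = 1 := by
    intro T x
    have := congrArg (fun f => x ≫ f) hG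
    simpa [MonObj.comp_pow, MonObj.comp_one] using this
  have killa : ∀ {T : C} (x : T ⟶ Ga), (x ≫ ia) ^ a = 1 := by
    intro T x
    have h1 : (x ≫ ia) ^ a = (x ≫ ia) ≫ (𝟙 G) ^ a := by
      rw [MonObj.comp_pow, Category.comp_id]
    rw [h1, Category.assoc, hia.w, ← Category.assoc, comp_toUnit, ← Hom.one_def]
  have killb : ∀ {T : C} (x : T ⟶ Gb), (x ≫ ib) ^ b = 1 := by
    intro T x
    have h1 : (x ≫ ib) ^ b = (x ≫ ib) ≫ (𝟙 G) ^ b := by
      rw [MonObj.comp_pow, Category.comp_id]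
    rw [h1, Category.assoc, hib.w, ← Category.assoc, comp_toUnit, ← Hom.one_def]
  -- the projections
  have wa : ((𝟙 G) ^ ((b : ℤ) * v)) ≫ (𝟙 G) ^ a = toUnit G ≫ η[G] := by
    rw [MonObj.comp_pow, Category.comp_id, ← Hom.one_def, ← zpow_natCast, ← zpow_mul]
    have : (b : ℤ) * v * (a : ℤ) = (n : ℤ) * v := by rw [hn]; push_cast; ring
    rw [this, zpow_mul, zpow_natCast, kill, one_zpow]
  have wb : ((𝟙 G) ^ ((a : ℤ) * u)) ≫ (𝟙 G) ^ b = toUnit G ≫ η[G] := by
    rw [MonObj.comp_pow, Category.comp_id, ← Hom.one_def, ← zpow_natCast, ← zpow_mul]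
    have : (a : ℤ) * u * (b : ℤ) = (n : ℤ) * u := by rw [hn]; push_cast; ring
    rw [this, zpow_mul, zpow_natCast, kill, one_zpow]
  let pa : G ⟶ Ga := hia.lift _ _ wa
  let pb : G ⟶ Gb := hib.lift _ _ wb
  have hpa : pa ≫ ia = (𝟙 G) ^ ((b : ℤ) * v) := hia.lift_fst _ _ wa
  have hpb : pb ≫ ib = (𝟙 G) ^ ((a : ℤ) * u) := hib.lift_fst _ _ wb
  set m : Ga ⊗ Gb ⟶ G := (fst Ga Gb ≫ ia) * (snd Ga Gb ≫ ib) with hm
  refine ⟨⟨lift pa pb, ?_, ?_⟩⟩
  · -- m ≫ lift pa pb = 𝟙
    apply CartesianMonoidalCategory.hom_ext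
    · rw [Category.assoc, lift_fst, Category.id_comp]
      apply hia.hom_ext
      · rw [Category.assoc, hpa, GrpObj.comp_zpow, Category.comp_id, hm, mul_zpow]
        have h1 : (snd Ga Gb ≫ ib) ^ ((b : ℤ) * v) = 1 := by
          rw [zpow_mul, zpow_natCast, killb, one_zpow]
        have h2 : (fst Ga Gb ≫ ia) ^ ((b : ℤ) * v) = fst Ga Gb ≫ ia := by
          have : (b : ℤ) * v = 1 - (a : ℤ) * u := by linarith
          rw [this, zpow_sub, zpow_one, zpow_mul, zpow_natCast, killa, one_zpow, inv_one, _root_.mul_one]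
        rw [h1, h2, _root_.mul_one]
      · exact toUnit_unique _ _
    · rw [Category.assoc, lift_snd, Category.id_comp]
      apply hib.hom_ext
      · rw [Category.assoc, hpb, GrpObj.comp_zpow, Category.comp_id, hm, mul_zpow]
        have h1 : (fst Ga Gb ≫ ia) ^ ((a : ℤ) * u) = 1 := by
          rw [zpow_mul, zpow_natCast, killa, one_zpow]
        have h2 : (snd Ga Gb ≫ ib) ^ ((a : ℤ) * u) = snd Ga Gb ≫ ib := by
          have : (a : ℤ) * u = 1 - (b : ℤ) * v := by linarith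
          rw [this, zpow_sub, zpow_one, zpow_mul, zpow_natCast, killb, one_zpow, inv_one, _root_.mul_one]
        rw [h1, h2, _root_.one_mul]
      · exact toUnit_unique _ _
  · -- lift pa pb ≫ m = 𝟙
    rw [hm, MonObj.comp_mul, ← Category.assoc, lift_fst, ← Category.assoc, lift_snd, hpa, hpb,
      ← zpow_add]
    have : (b : ℤ) * v + (a : ℤ) * u = 1 := by linarith
    rw [this, zpow_one]

end Groth.Agent.Helper9.KerProd
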