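import Mathlib

namespace Groth.Agent.Helper9.Kron

open Module

universe u v w

theorem finrank_comap_mkQ {K : Type u} {V : Type v} [Field K] [AddCommGroup V] [Module K V]
    [FiniteDimensional K V] (N : Submodule K V) (P : Submodule K (V ⧸ N)) :
    finrank K (P.comap N.mkQ) = finrank K P + finrank K N := by
  set P' := P.comap N.mkQ with hP'
  have hle : N ≤ P' := by
    intro x hx
    show N.mkQ x ∈ P
    have : N.mkQ x = 0 := (Submodule.Quotient.mk_eq_zero N).mpr hx
    rw [this]
    exact P.zero_mem
  have h := LinearMap.finrank_range_add_finrank_ker (N.mkQ ∘ₗ P'.subtype)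
  rw [LinearMap.range_comp, Submodule.range_subtype,
    Submodule.map_comap_eq_of_surjective (Submodule.mkQ_surjective N), LinearMap.ker_comp,
    Submodule.ker_mkQ, (Submodule.comapSubtypeEquivOfLe hle).finrank_eq] at h
  exact h.symm

theorem key (K : Type u) [Field K] [IsAlgClosed K] (k : ℕ) :
    ∀ (V : Type v) (W : Type w) [AddCommGroup V] [Module K V] [FiniteDimensional K V]
      [AddCommGroup W] [Module K W] [FiniteDimensional K W] (f0 f1 : V →ₗ[K] W),
      finrank K V = k → finrank K W = k →
      (∀ (V' : Submodule K V) (W' : Submodule K W), V'.map f0 ≤ W' → V'.map f1 ≤ W' →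
        finrank K V' ≤ finrank K W') →
      ∃ Z : Finset K, ∀ c ∉ Z, Function.Injective (f0 + c • f1) := by
  induction k with
  | zero =>
    intro V W _ _ _ _ _ _ f0 f1 hV hW _
    have : Subsingleton V := Module.finrank_zero_iff.mp hV
    exact ⟨∅, fun c _ => Function.injective_of_subsingleton _⟩
  | succ k ih =>
    intro V W _ _ _ _ _ _ f0 f1 hV hW hss
    classical
    have hVpos : 0 < finrank K V := by omega
    have : Nontrivial V := Module.nontrivial_of_finrank_pos hVpos
    -- find a (1,1)-subrepresentation
    obtain ⟨v, w, a, b, hv, hw, h0, h1, hab⟩ : ∃ (v : V) (w : W) (a b : K),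
        v ≠ 0 ∧ w ≠ 0 ∧ f0 v = a • w ∧ f1 v = b • w ∧ (a ≠ 0 ∨ b ≠ 0) := by
      by_cases hinj : Function.Injective f1
      · have hbij : Function.Bijective f1 :=
          ⟨hinj, (LinearMap.injective_iff_surjective_of_finrank_eq_finrank
            (hV.trans hW.symm)).mp hinj⟩
        let e := LinearEquiv.ofBijective f1 hbij
        let g : Module.End K V := e.symm.toLinearMap ∘ₗ f0
        obtain ⟨μ, hμ⟩ := Module.End.exists_eigenvalue g
        obtain ⟨v, hv⟩ := hμ.exists_hasEigenvector
        refine ⟨v, f1 v, μ, 1, hv.2, ?_, ?_, by simp, Or.inr one_ne_zero⟩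
        · intro h; exact hv.2 (hinj (by rw [h, map_zero]))
        · have h2 : g v = μ • v := hv.apply_eq_smul
          have h3 : e.symm (f0 v) = μ • v := h2
          have h4 : f0 v = e (μ • v) := by rw [← h3, LinearEquiv.apply_symm_apply]
          rw [h4, map_smul]
          rfl
      · obtain ⟨v, hv0, hv⟩ : ∃ v, f1 v = 0 ∧ v ≠ 0 := by
          by_contra hcon
          push Not at hcon
          apply hinj
          rw [← LinearMap.ker_eq_bot, Submodule.eq_bot_iff]
          intro x hx
          by_contra hx0
          exact hx0 (hcon x (LinearMap.mem_ker.mp hx))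
        refine ⟨v, f0 v, 1, 0, hv, ?_, by simp, by simp [hv0], Or.inl one_ne_zero⟩
        intro h
        have h5 := hss (K ∙ v) ⊥
          (by rw [Submodule.map_span, Set.image_singleton, h, Submodule.span_singleton_le_iff_mem]
              exact Submodule.zero_mem _)
          (by rw [Submodule.map_span, Set.image_singleton, hv0, Submodule.span_singleton_le_iff_mem]
              exact Submodule.zero_mem _)
        rw [finrank_span_singleton hv, finrank_bot] at h5
        omega
    set V' : Submodule K V := K ∙ v with hV'
    set W' : Submodule K W := K ∙ w with hW'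
    have hle0 : V' ≤ W'.comap f0 := by
      rw [hV', Submodule.span_singleton_le_iff_mem, Submodule.mem_comap, h0]
      exact Submodule.smul_mem _ _ (Submodule.mem_span_singleton_self w)
    have hle1 : V' ≤ W'.comap f1 := by
      rw [hV', Submodule.span_singleton_le_iff_mem, Submodule.mem_comap, h1]
      exact Submodule.smul_mem _ _ (Submodule.mem_span_singleton_self w)
    let g0 : (V ⧸ V') →ₗ[K] (W ⧸ W') := V'.mapQ W' f0 hle0
    let g1 : (V ⧸ V') →ₗ[K] (W ⧸ W') := V'.mapQ W' f1 hle1
    have hVq : finrank K (V ⧸ V') = k := by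
      have := Submodule.finrank_quotient_add_finrank V'
      rw [finrank_span_singleton hv, hV] at this; omega
    have hWq : finrank K (W ⧸ W') = k := by
      have := Submodule.finrank_quotient_add_finrank W'
      rw [finrank_span_singleton hw, hW] at this; omega
    have hssq : ∀ (P : Submodule K (V ⧸ V')) (Q : Submodule K (W ⧸ W')),
        P.map g0 ≤ Q → P.map g1 ≤ Q → finrank K P ≤ finrank K Q := by
      intro P Q hP0 hP1
      have h5 := hss (P.comap V'.mkQ) (Q.comap W'.mkQ)
        (by
          rintro _ ⟨x, hx, rfl⟩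
          show W'.mkQ (f0 x) ∈ Q
          have : W'.mkQ (f0 x) = g0 (V'.mkQ x) := rfl
          rw [this]
          exact hP0 ⟨V'.mkQ x, hx, rfl⟩)
        (by
          rintro _ ⟨x, hx, rfl⟩
          show W'.mkQ (f1 x) ∈ Q
          have : W'.mkQ (f1 x) = g1 (V'.mkQ x) := rfl
          rw [this]
          exact hP1 ⟨V'.mkQ x, hx, rfl⟩)
      rw [finrank_comap_mkQ, finrank_comap_mkQ, finrank_span_singleton hv,
        finrank_span_singleton hw] at h5
      omega
    obtain ⟨Z, hZ⟩ := ih (V ⧸ V') (W ⧸ W') g0 g1 hVq hWq hssq
    refine ⟨Z ∪ (if b = 0 then ∅ else {-a / b}), fun c hc => ?_⟩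
    rw [Finset.mem_union, not_or] at hc
    have hc1 := hZ c hc.1
    have hc2 : a + c * b ≠ 0 := by
      intro h
      by_cases hb : b = 0
      · rw [hb, mul_zero, add_zero] at h
        rcases hab with ha | hb'
        · exact ha h
        · exact hb' hb
      · apply hc.2
        rw [if_neg hb, Finset.mem_singleton]
        field_simp
        linear_combination h
    rw [injective_iff_map_eq_zero]
    intro x hx
    have hq : (g0 + c • g1) (V'.mkQ x) = 0 := by
      have : (g0 + c • g1) (V'.mkQ x) = W'.mkQ ((f0 + c • f1) x) := by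
        simp [g0, g1, Submodule.mapQ_apply]
      rw [this, hx, map_zero]
    have hxV' : V'.mkQ x = 0 := hc1 (by rw [hq, map_zero])
    rw [Submodule.mkQ_apply, Submodule.Quotient.mk_eq_zero, hV',
      Submodule.mem_span_singleton] at hxV'
    obtain ⟨l, rfl⟩ := hxV'
    simp only [LinearMap.add_apply, LinearMap.smul_apply, map_smul, h0, h1] at hx
    have h6 : (l * (a + c * b)) • w = 0 := by
      rw [← hx]
      simp only [smul_smul, ← add_smul]
    rcases smul_eq_zero.mp h6 with h | h
    · rcases mul_eq_zero.mp h with h | h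
      · rw [h, zero_smul]
      · exact absurd h hc2
    · exact absurd h hw

end Groth.Agent.Helper9.Kron
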