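import Mathlib
import Groth.Prelude.Def_EtBase
import Groth.Prelude.Def_EtGm
import Groth.Agent.Helper9.RootCover
import Groth.Agent.Helper9.EtStalkExact

/-! The Kummer sequence: the `n`-th power map on `G_m` is an epimorphism when `n` is invertible. -/

set_option autoImplicit false
set_option linter.style.haveILetI false
universe u

open CategoryTheory CategoryTheory.Limits Opposite AlgebraicGeometry Polynomial

namespace Groth.Agent.Helper9.KummerEpi

open Groth.Agent.Helper9.StalkFinA Groth.Agent.Helper9.RootCover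

/-- the standard étale pair `(X^n - a, 1)` -/
noncomputable def pair {A : Type u} [CommRing A] (n : ℕ) (hn0 : n ≠ 0) (a u : A)
    (hu : a * (n : A) * u = 1) : StandardEtalePair A where
  f := X ^ n - C a
  monic_f := monic_X_pow_sub_C a hn0
  g := 1
  cond := ⟨C u * X, - C ((n : A) * u), 0, by
    rw [derivative_sub, derivative_X_pow, derivative_C, sub_zero, pow_zero]
    have h1 : (X : A[X]) ^ n = X ^ (n - 1) * X := by
      rw [← pow_succ, Nat.sub_add_cancel (Nat.one_le_iff_ne_zero.2 hn0)]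
    have h2 : (C a : A[X]) * C ((n : A) * u) = 1 := by
      rw [← C_mul, ← mul_assoc, hu, C_1]
    calc C (n : A) * X ^ (n - 1) * (C u * X) + (X ^ n - C a) * -C ((n : A) * u)
        = C ((n : A) * u) * (X ^ (n - 1) * X) - X ^ n * C ((n : A) * u)
          + C a * C ((n : A) * u) := by
            rw [C_mul]; ring
      _ = 1 := by rw [← h1, h2]; ring⟩


set_option backward.isDefEq.respectTransparency.types false in
theorem main (S : Scheme.{u}) (n : ℕ) (hn : IsUnit (n : Γ(S, ⊤))) : Epi (EtCoh.powMap S n) := by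
  suffices h : Presheaf.IsLocallySurjective S.smallEtaleTopology (EtCoh.powMap S n).hom by
    exact Sheaf.epi_of_isLocallySurjective (EtCoh.powMap S n)
  constructor
  intro U s
  apply Groth.Agent.Helper9.EtStalkExact.mem_of_forall_geomPt
  intro Ω _ _ ξ l
  obtain ⟨U', hU', ι, l', hl'⟩ := exists_affine_nbhd ξ U l
  obtain ⟨a₀, ha₀⟩ : ∃ a₀ : (Γ(U'.left, ⊤))ˣ, (EtCoh.Gm S).obj.map ι.op s =
      (ULift.up (Additive.ofMul a₀) : ULift.{u + 1} (Additive (Γ(U'.left, ⊤))ˣ)) :=
    ⟨Additive.toMul (ULift.down ((EtCoh.Gm S).obj.map ι.op s)), rfl⟩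
  have hnA : IsUnit (n : Γ(U'.left, ⊤)) := by
    have := hn.map U'.hom.appTop.hom
    simpa using this
  obtain ⟨ρ, hρ⟩ : ∃ ρ : Γ(U'.left, ⊤) ⟶ CommRingCat.of Ω,
    ρ = (ptLeft l').appTop ≫ (Scheme.ΓSpecIso (CommRingCat.of Ω)).hom := ⟨_, rfl⟩
  have hnΩ : (n : Ω) ≠ 0 := by
    have := hnA.map ρ.hom
    rw [map_natCast] at this
    exact this.ne_zero
  have hn0 : n ≠ 0 := by
    rintro rfl
    simp at hnΩ
  obtain ⟨w, hw⟩ := (a₀.isUnit.mul hnA).exists_right_inv
  let P : StandardEtalePair Γ(U'.left, ⊤) := pair n hn0 (a₀ : Γ(U'.left, ⊤)) w hw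
  haveI : NeZero (n : Ω) := ⟨hnΩ⟩
  obtain ⟨x, hx⟩ := IsSepClosed.exists_pow_nat_eq (ρ.hom (a₀ : Γ(U'.left, ⊤))) n
  obtain ⟨V, a, v, t, hv, ht1, ht2⟩ := exists_nbhd ξ U' P l' x
    (by rw [← hρ]; simp [P, pair, hx]) (by rw [← hρ]; simp [P, pair])
  refine ⟨V, a ≫ ι, ?_, v, ?_⟩
  · have ht : t ^ n = a.left.appTop.hom (a₀ : Γ(U'.left, ⊤)) := by
      have := ht1
      simp only [P, pair, Polynomial.map_sub, Polynomial.map_pow, Polynomial.map_X,
        Polynomial.map_C, eval_sub, eval_pow, eval_X, eval_C, sub_eq_zero] at this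
      exact this
    have htu : IsUnit t := by
      have h1 : IsUnit (t ^ n) := by
        rw [ht]
        exact a₀.isUnit.map _
      exact (isUnit_pow_iff hn0).1 h1
    refine ⟨(ULift.up (Additive.ofMul htu.unit) : ULift.{u + 1} (Additive (Γ(V.left, ⊤))ˣ)), ?_⟩
    have e1 : (EtCoh.Gm S).obj.map (a ≫ ι).op s =
        (EtCoh.Gm S).obj.map a.op ((EtCoh.Gm S).obj.map ι.op s) := by
      rw [op_comp, Functor.map_comp]
      rfl
    rw [e1, ha₀]
    show n • (ULift.up (Additive.ofMul htu.unit) : ULift.{u + 1} (Additive (Γ(V.left, ⊤))ˣ)) =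
      (ULift.up (Additive.ofMul (Units.map
        (a.left.appTop.hom : Γ(U'.left, ⊤) →* Γ(V.left, ⊤)) a₀)) :
        ULift.{u + 1} (Additive (Γ(V.left, ⊤))ˣ))
    apply ULift.ext
    show n • Additive.ofMul htu.unit = Additive.ofMul _
    rw [← ofMul_pow]
    congr 1
    apply Units.ext
    rw [Units.val_pow_eq_pow_val, IsUnit.unit_spec, ht]
    rfl
  · rw [Functor.map_comp]
    show (Scheme.pointSmallEtale ξ).fiber.map ι ((Scheme.pointSmallEtale ξ).fiber.map a v) = l
    rw [hv, hl']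

end Groth.Agent.Helper9.KummerEpi
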