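import Mathlib
import Groth.Prelude.Def_DRing3
import Groth.Prelude.Def_DDual2
import Groth.Prelude.Def_DerCA
import Groth.Agent.Helper9.LCB1

/-!
# `RΓ_I` commutes with flat base change (Noetherian rings)
-/

set_option autoImplicit false
set_option linter.style.haveILetI false
set_option linter.unusedSectionVars false

namespace Groth.Agent.Helper9.LCB2

open CategoryTheory Limits HomologicalComplex DerivedCategory Pretriangulated
open Groth.Agent.Helper9.LCT1 Groth.Agent.Helper9.LCT2 Groth.Agent.Helper9.LCT3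
open Groth.Agent.Helper9.GM1 Groth.Agent.Helper9.GM2 Groth.Agent.Helper9.LCR1
open Groth.Agent.Helper9.LCB1
open Groth.Agent.Helper6.DComplTri
open TensorProduct ChangeOfRings

universe u

attribute [local instance] HasDerivedCategory.standard

variable {A B : Type u} [CommRing A] [CommRing B]

section HD

variable (F : ModuleCat.{u} A ⥤ ModuleCat.{u} B) [F.Additive] [PreservesFiniteLimits F]
  [PreservesFiniteColimits F]

/-- `F(Q L) ≅ Q(F L)` -/
noncomputable def mapQ (L : DRing.Cx A) :
    F.mapDerivedCategory.obj (Q.obj L) ≅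
      Q.obj ((F.mapHomologicalComplex (ComplexShape.up ℤ)).obj L) :=
  F.mapDerivedCategoryFactors.app L

lemma mapQ_naturality {L L' : DRing.Cx A} (a : L ⟶ L') :
    F.mapDerivedCategory.map (Q.map a) ≫ (mapQ F L').hom =
      (mapQ F L).hom ≫ Q.map ((F.mapHomologicalComplex (ComplexShape.up ℤ)).map a) :=
  F.mapDerivedCategoryFactors_hom_naturality a

/-- cohomology commutes with an exact functor -/
lemma nonempty_hd_map (X : Dual.D A) (i : ℤ) :
    Nonempty ((DerivedCategory.homologyFunctor (ModuleCat.{u} B) i).obj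
        (F.mapDerivedCategory.obj X) ≅
      F.obj ((DerivedCategory.homologyFunctor (ModuleCat.{u} A) i).obj X)) := by
  let L := Q.objPreimage X
  let j : Q.obj L ≅ X := Q.objObjPreimageIso X
  let e1 : (DerivedCategory.homologyFunctor (ModuleCat.{u} B) i).obj
      (F.mapDerivedCategory.obj X) ≅
      ((F.mapHomologicalComplex (ComplexShape.up ℤ)).obj L).homology i :=
    (DerivedCategory.homologyFunctor (ModuleCat.{u} B) i).mapIso
      (F.mapDerivedCategory.mapIso j.symm ≪≫ mapQ F L) ≪≫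
      (homologyFunctorFactors (ModuleCat.{u} B) i).app _
  let e2 : ((F.mapHomologicalComplex (ComplexShape.up ℤ)).obj L).homology i ≅
      F.obj (L.homology i) :=
    (L.sc i).mapHomologyIso F
  let e3 : L.homology i ≅ (DerivedCategory.homologyFunctor (ModuleCat.{u} A) i).obj X :=
    ((homologyFunctorFactors (ModuleCat.{u} A) i).app L).symm ≪≫
      (DerivedCategory.homologyFunctor (ModuleCat.{u} A) i).mapIso j
  exact ⟨e1 ≪≫ e2 ≪≫ F.mapIso e3⟩

end HD

variable (φ : A →+* B)

/-- extension of scalars -/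
noncomputable abbrev ext : ModuleCat.{u} A ⥤ ModuleCat.{u} B := ModuleCat.extendScalars.{u, u, u} φ

section Tm

variable (M : ModuleCat.{u} A)

/-- pure tensors in the extension of scalars -/
noncomputable def tm (b : B) (m : M) : ↑((ext φ).obj M) := (b ⊗ₜ[A,φ] m)

set_option backward.isDefEq.respectTransparency false in
lemma smul_tm (s b : B) (m : M) : s • tm φ M b m = tm φ M (s * b) m := rfl

set_option backward.isDefEq.respectTransparency false in
lemma tm_smul (c : A) (b : B) (m : M) : tm φ M b (c • m) = tm φ M (φ c * b) m := by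
  unfold tm
  rw [TensorProduct.tmul_smul, TensorProduct.smul_tmul']
  rfl

set_option backward.isDefEq.respectTransparency false in
lemma tm_zero (b : B) : tm φ M b 0 = 0 := TensorProduct.tmul_zero _ _

set_option backward.isDefEq.respectTransparency false in
lemma induction_tm (P : ↑((ext φ).obj M) → Prop) (h0 : P 0) (h1 : ∀ b m, P (tm φ M b m))
    (h2 : ∀ x y, P x → P y → P (x + y)) (y : ↑((ext φ).obj M)) : P y :=
  TensorProduct.induction_on y h0 h1 h2

lemma map_tm {M' : ModuleCat.{u} A} (g : M ⟶ M') (b : B) (m : M) :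
    ((ext φ).map g).hom (tm φ M b m) = tm φ M' b (g.hom m) := rfl

end Tm

lemma ext_map_smul (a : A) (M : ModuleCat.{u} A) :
    (ext φ).map (a • 𝟙 M) = φ a • 𝟙 ((ext φ).obj M) := by
  apply ModuleCat.ExtendScalars.hom_ext
  intro m
  show ((ext φ).map (a • 𝟙 M)).hom (tm φ M 1 m) = φ a • tm φ M 1 m
  rw [map_tm, smul_tm]
  show tm φ M 1 (a • m) = _
  rw [tm_smul]

/-- power torsion is preserved by extension of scalars -/
lemma isPowerTorsion_ext (I : Ideal A) (M : ModuleCat.{u} A) (h : LocCoh.IsPowerTorsion I M) :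
    LocCoh.IsPowerTorsion (Ideal.map φ I) ((ext φ).obj M) := by
  intro y
  refine induction_tm φ M (fun y => ∃ n : ℕ, ∀ a ∈ Ideal.map φ I ^ n, a • y = 0) ?_ ?_ ?_ y
  · exact ⟨0, fun a _ => smul_zero a⟩
  · intro b m
    obtain ⟨n, hn⟩ := h m
    refine ⟨n, ?_⟩
    let K : Ideal B := LinearMap.ker (LinearMap.toSpanSingleton B ((ext φ).obj M) (tm φ M b m))
    have hK : ∀ a : B, a ∈ K ↔ a • tm φ M b m = 0 := by
      intro a
      rw [LinearMap.mem_ker, LinearMap.toSpanSingleton_apply]
    have hle : Ideal.map φ (I ^ n) ≤ K := by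
      rw [Ideal.map_le_iff_le_comap]
      intro c hc
      rw [Ideal.mem_comap, hK, smul_tm, ← tm_smul, hn c hc, tm_zero]
    intro a ha
    rw [← Ideal.map_pow] at ha
    exact (hK a).1 (hle ha)
  · intro y₁ y₂ h₁ h₂
    obtain ⟨n₁, hn₁⟩ := h₁
    obtain ⟨n₂, hn₂⟩ := h₂
    refine ⟨max n₁ n₂, fun a ha => ?_⟩
    have e1 := hn₁ a (Ideal.pow_le_pow_right (le_max_left n₁ n₂) ha)
    have e2 := hn₂ a (Ideal.pow_le_pow_right (le_max_right n₁ n₂) ha)
    rw [smul_add, e1, e2, add_zero]

section ExtD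

variable [PreservesFiniteLimits (ext φ)] [PreservesFiniteColimits (ext φ)]

/-- extension of scalars on derived categories (flat case) -/
noncomputable abbrev extD : Dual.D A ⥤ Dual.D B := (ext φ).mapDerivedCategory

/-- extension of scalars on complexes -/
noncomputable abbrev extCx : DRing.Cx A ⥤ DRing.Cx B :=
  (ext φ).mapHomologicalComplex (ComplexShape.up ℤ)

lemma extCx_map_smul (a : A) (L : DRing.Cx A) :
    (extCx φ).map (a • 𝟙 L) = φ a • 𝟙 ((extCx φ).obj L) := by
  ext n : 1
  exact ext_map_smul φ a (L.X n)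

lemma isLocal_extD (f : A) (N : Dual.D A) (hN : IsLocal f N) : IsLocal (φ f) ((extD φ).obj N) := by
  let L := Q.objPreimage N
  let j : Q.obj L ≅ N := Q.objObjPreimageIso N
  have h1 : IsLocal f (Q.obj L) := isLocal_of_iso f j.symm hN
  have h2 : IsIso (Q.map (f • 𝟙 L)) := by
    have : Q.map (f • 𝟙 L) = f • 𝟙 (Q.obj L) := by
      rw [Functor.map_smul, CategoryTheory.Functor.map_id]
    rw [this]
    exact h1
  have h3 : IsIso (Q.map ((extCx φ).map (f • 𝟙 L))) := by
    have hnat := mapQ_naturality (ext φ) (f • 𝟙 L)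
    have : Q.map ((extCx φ).map (f • 𝟙 L)) =
        (mapQ (ext φ) L).inv ≫ (extD φ).map (Q.map (f • 𝟙 L)) ≫ (mapQ (ext φ) L).hom := by
      rw [hnat, Iso.inv_hom_id_assoc]
    rw [this]
    infer_instance
  have h4 : IsLocal (φ f) (Q.obj ((extCx φ).obj L)) := by
    unfold IsLocal
    have : φ f • 𝟙 (Q.obj ((extCx φ).obj L)) = Q.map ((extCx φ).map (f • 𝟙 L)) := by
      rw [extCx_map_smul, Functor.map_smul, CategoryTheory.Functor.map_id]
    rw [this]
    exact h3
  exact isLocal_of_iso (φ f) ((mapQ (ext φ) L).symm ≪≫ (extD φ).mapIso j) h4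

lemma tors_extD (I : Ideal A) (X : Dual.D A) (hX : Tors I X) :
    Tors (Ideal.map φ I) ((extD φ).obj X) := by
  intro i
  obtain ⟨e⟩ := nonempty_hd_map (ext φ) X i
  exact isPowerTorsion_of_iso e.symm (isPowerTorsion_ext φ I _ (hX i))

end ExtD

section Main

variable [IsNoetherianRing A] [IsNoetherianRing B]
  [PreservesFiniteLimits (ext φ)] [PreservesFiniteColimits (ext φ)]

lemma principal_Q (f : A) [DRing.HasRgammaI (Ideal.span {f})]
    [DRing.HasRgammaI (Ideal.span {φ f})] (L : DRing.Cx A) :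
    Nonempty ((extD φ).obj ((DRing.RgammaI (Ideal.span {f})).obj (Q.obj L)) ≅
      (DRing.RgammaI (Ideal.span {φ f})).obj ((extD φ).obj (Q.obj L))) := by
  obtain ⟨c, hc⟩ := exists_principal_triangle f L
  have hc' := (extD φ).map_distinguished _ hc
  have hmap : Ideal.map φ (Ideal.span {f}) = Ideal.span {φ f} := by
    rw [Ideal.map_span, Set.image_singleton]
  have h1 : Tors (Ideal.span {φ f})
      ((extD φ).obj ((DRing.RgammaI (Ideal.span {f})).obj (Q.obj L))) := by
    rw [← hmap]
    exact tors_extD φ _ _ (fun i => isPowerTorsion_RgammaI (Ideal.span {f}) (Q.obj L) i)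
  have h3 : IsLocal (φ f) ((extD φ).obj (Q.obj ((DerCA.locCx (Submonoid.powers f)).obj L))) :=
    isLocal_extD φ f _ (isLocal_Q_locCx f L)
  exact nonempty_iso_RgammaI_of_triangle_isLocal (Ideal.span {φ f}) (φ f)
    (Ideal.mem_span_singleton_self _) _ hc' h1 h3

theorem principal (f : A) [DRing.HasRgammaI (Ideal.span {f})]
    [DRing.HasRgammaI (Ideal.span {φ f})] (K : Dual.D A) :
    Nonempty ((extD φ).obj ((DRing.RgammaI (Ideal.span {f})).obj K) ≅
      (DRing.RgammaI (Ideal.span {φ f})).obj ((extD φ).obj K)) := by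
  obtain ⟨e⟩ := principal_Q φ f (Q.objPreimage K)
  let i : Q.obj (Q.objPreimage K) ≅ K := Q.objObjPreimageIso K
  exact ⟨(extD φ).mapIso ((DRing.RgammaI (Ideal.span {f})).mapIso i.symm) ≪≫ e ≪≫
    (DRing.RgammaI (Ideal.span {φ f})).mapIso ((extD φ).mapIso i)⟩

/-- **`RΓ` commutes with flat extension of scalars** -/
theorem extD_RgammaI (I : Ideal A) : ∀ (J : Ideal B), J = Ideal.map φ I →
    ∀ (_ : DRing.HasRgammaI I) (_ : DRing.HasRgammaI J) (K : Dual.D A),
      Nonempty ((extD φ).obj ((DRing.RgammaI I).obj K) ≅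
        (DRing.RgammaI J).obj ((extD φ).obj K)) := by
  refine Submodule.fg_induction (R := A) (M := A) (motive := fun (I : Ideal A) _ =>
    ∀ (J : Ideal B), J = Ideal.map φ I →
    ∀ (_ : DRing.HasRgammaI I) (_ : DRing.HasRgammaI J) (K : Dual.D A),
      Nonempty ((extD φ).obj ((DRing.RgammaI I).obj K) ≅
        (DRing.RgammaI J).obj ((extD φ).obj K))) ?_ ?_ I
    (IsNoetherian.noetherian I)
  · intro f J hJ h1 h2 K
    have hJ' : J = Ideal.span {φ f} := by
      rw [hJ]
      show Ideal.map φ (Ideal.span {f}) = _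
      rw [Ideal.map_span, Set.image_singleton]
    subst hJ'
    exact principal φ f K
  · intro I₁ I₂ _ _ h₁ h₂ J hJ hi1 hi2 K
    have hJ' : J = Ideal.map φ I₁ ⊔ Ideal.map φ I₂ := by
      rw [hJ]
      exact Ideal.map_sup φ I₁ I₂
    subst hJ'
    haveI := hasRgammaI I₁
    haveI := hasRgammaI I₂
    haveI := hasRgammaI (Ideal.map φ I₁)
    haveI := hasRgammaI (Ideal.map φ I₂)
    obtain ⟨a⟩ := nonempty_comp_iso I₁ I₂ K
    obtain ⟨b⟩ := nonempty_comp_iso (Ideal.map φ I₁) (Ideal.map φ I₂) ((extD φ).obj K)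
    obtain ⟨c⟩ := h₁ (Ideal.map φ I₁) rfl inferInstance inferInstance K
    obtain ⟨d⟩ := h₂ (Ideal.map φ I₂) rfl inferInstance inferInstance
      ((DRing.RgammaI I₁).obj K)
    exact ⟨(extD φ).mapIso a.symm ≪≫ d ≪≫ (DRing.RgammaI (Ideal.map φ I₂)).mapIso c ≪≫ b⟩

end Main

end Groth.Agent.Helper9.LCB2
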