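import Mathlib
import Groth.Prelude.Def_DRing3
import Groth.Prelude.Def_DDual2
import Groth.Prelude.Def_DualLC
import Groth.Agent.Helper9.LCB2
import Groth.Agent.Helper6.LcD13

/-!
# `H^i_I` commutes with flat base change
-/

set_option autoImplicit false
set_option linter.style.haveILetI false
set_option linter.unusedSectionVars false

namespace Groth.Agent.Helper9.LCB3

open CategoryTheory Limits HomologicalComplex DerivedCategory
open Groth.Agent.Helper9.LCT2 Groth.Agent.Helper9.LCB2
open TensorProduct ChangeOfRings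

universe u v w

attribute [local instance] HasDerivedCategory.standard

variable {A B : Type u} [CommRing A] [CommRing B] (φ : A →+* B)

section Instances

lemma preservesFiniteColimits_ext : PreservesFiniteColimits (ext φ) :=
  haveI := (ModuleCat.extendRestrictScalarsAdj.{u, u, u} φ).leftAdjoint_preservesColimits
  inferInstance

lemma preservesFiniteLimits_ext (hφ : φ.Flat) : PreservesFiniteLimits (ext φ) :=
  ModuleCat.preservesFiniteLimits_extendScalars_of_flat hφ

end Instances

section LBC

variable [PreservesFiniteLimits (ext φ)] [PreservesFiniteColimits (ext φ)]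
  [DRing.HasLBaseChange φ]

/-- for flat `φ`, derived base change is extension of scalars -/
noncomputable def lbcIsoExtD : DRing.LBaseChange φ ≅ extD φ :=
  haveI := Functor.isLeftDerivedFunctor_of_inverts
    (HomotopyCategory.quasiIso (ModuleCat.{u} A) (ComplexShape.up ℤ)) (extD φ)
    ((ext φ).mapDerivedCategoryFactorsh)
  (Functor.leftDerivedUnique (DRing.LBaseChange φ) (extD φ)
    ((ext φ).mapDerivedCategoryFactorsh).hom
    ((DRing.baseChangeKh φ).totalLeftDerivedCounit DerivedCategory.Qh
      (HomotopyCategory.quasiIso (ModuleCat.{u} A) (ComplexShape.up ℤ)))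
    (HomotopyCategory.quasiIso (ModuleCat.{u} A) (ComplexShape.up ℤ))).symm

end LBC

section ExtLin

variable {X : Type v} {Y : Type w} [AddCommGroup X] [Module A X] [AddCommGroup Y] [Module A Y]

set_option backward.isDefEq.respectTransparency false in
/-- extension of scalars of a linear equivalence, across universes -/
noncomputable def extLin (e : X ≃ₗ[A] Y) :
    ((ModuleCat.extendScalars φ).obj (ModuleCat.of A X)) ≃ₗ[B]
      ((ModuleCat.extendScalars φ).obj (ModuleCat.of A Y)) :=
  let E := TensorProduct.congr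
    (LinearEquiv.refl A ((ModuleCat.restrictScalars φ).obj (ModuleCat.of B B))) e
  { toFun := E
    invFun := E.symm
    map_add' := E.map_add
    left_inv := E.left_inv
    right_inv := E.right_inv
    map_smul' := by
      intro s y
      refine TensorProduct.induction_on y ?_ ?_ ?_
      · simp
      · intro b x
        rfl
      · intro y₁ y₂ h₁ h₂
        rw [smul_add, map_add, map_add, smul_add, h₁, h₂] }

end ExtLin

section Final

variable [IsNoetherianRing A] [IsNoetherianRing B]

/-- **`H^i_{IB}(K ⊗^L_A B) ≅ B ⊗_A H^i_I(K)` for flat `A → B`** -/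
theorem hdi_baseChange (hφ : φ.Flat) [DRing.HasLBaseChange φ] (I : Ideal A) (K : Dual.D A)
    (i : ℤ) :
    Nonempty (Dual2.HDI B (Ideal.map φ I) ((DRing.LBaseChange φ).obj K) i ≅
      (ModuleCat.extendScalars φ).obj (Dual2.HDI A I K i)) := by
  haveI := preservesFiniteColimits_ext φ
  haveI := preservesFiniteLimits_ext φ hφ
  haveI := hasRgammaI I
  haveI := hasRgammaI (Ideal.map φ I)
  obtain ⟨e₁⟩ := Groth.Agent.Helper6.LcD.hd_rgamma (Ideal.map φ I) i
    ((DRing.LBaseChange φ).obj K)
  obtain ⟨e₂⟩ := Groth.Agent.Helper6.LcD.hd_rgamma I i K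
  obtain ⟨e₃⟩ := extD_RgammaI φ I (Ideal.map φ I) rfl inferInstance inferInstance K
  obtain ⟨e₄⟩ := nonempty_hd_map (ext φ) ((DRing.RgammaI I).obj K) i
  let e₅ : (DRing.RgammaI (Ideal.map φ I)).obj ((DRing.LBaseChange φ).obj K) ≅
      (DRing.RgammaI (Ideal.map φ I)).obj ((extD φ).obj K) :=
    (DRing.RgammaI (Ideal.map φ I)).mapIso ((lbcIsoExtD φ).app K)
  let E : Dual2.HDI B (Ideal.map φ I) ((DRing.LBaseChange φ).obj K) i ≃ₗ[B]
      ((ModuleCat.extendScalars φ).obj (Dual2.HDI A I K i)) :=
    e₁.symm ≪≫ₗ
      ((DerivedCategory.homologyFunctor (ModuleCat.{u} B) i).mapIso e₅).toLinearEquiv ≪≫ₗ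
      ((DerivedCategory.homologyFunctor (ModuleCat.{u} B) i).mapIso e₃.symm).toLinearEquiv ≪≫ₗ
      e₄.toLinearEquiv ≪≫ₗ extLin φ e₂
  exact ⟨E.toModuleIso⟩

end Final

end Groth.Agent.Helper9.LCB3
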