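import Mathlib
import Groth.Prelude.Def_DRing3
import Groth.Prelude.Def_DDual2
import Groth.Prelude.Def_DerCA
import Groth.Agent.Helper1.LocFun

/-!
# Restriction of scalars commutes with localisation at an element

For a ring map `φ : A → B`, `f : A` and a `B`-module `M`, the `A`-module underlying `M_{φ f}` is the
localisation of the `A`-module underlying `M` at `f`, compatibly with the localisation maps;
complex and derived category versions.
-/

set_option autoImplicit false
set_option linter.style.haveILetI false
set_option linter.unusedSectionVars false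

namespace Groth.Agent.Helper9.LCR2

open CategoryTheory Limits HomologicalComplex DerivedCategory

universe u

attribute [local instance] HasDerivedCategory.standard

variable {A B : Type u} [CommRing A] [CommRing B] (φ : A →+* B) (f : A)

/-- restriction of scalars -/
noncomputable abbrev res : ModuleCat.{u} B ⥤ ModuleCat.{u} A := ModuleCat.restrictScalars.{u} φ

/-- powers as elements of the submonoid of powers -/
def pw {R : Type u} [CommRing R] (g : R) (n : ℕ) : Submonoid.powers g := ⟨g ^ n, n, rfl⟩

/-- the restriction of the localisation map `M ⟶ M_{φ f}` -/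
noncomputable def ψ (M : ModuleCat.{u} B) :
    (res φ).obj M ⟶ (res φ).obj ((DerCA.locFunctor (Submonoid.powers (φ f))).obj M) :=
  (res φ).map ((DerCA.locUnit (Submonoid.powers (φ f))).app M)

lemma ψ_apply (M : ModuleCat.{u} B) (x : (res φ).obj M) :
    (ψ φ f M).hom x = LocalizedModule.mkLinearMap (Submonoid.powers (φ f)) M (show M from x) := rfl

instance isLocalizedModule_ψ (M : ModuleCat.{u} B) :
    IsLocalizedModule (Submonoid.powers f) (ψ φ f M).hom where
  map_units := by
    rintro ⟨_, n, rfl⟩
    rw [Module.End.isUnit_iff]
    have h := IsLocalizedModule.map_units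
      (LocalizedModule.mkLinearMap (Submonoid.powers (φ f)) M) (pw (φ f) n)
    rw [Module.End.isUnit_iff] at h
    have heq : ∀ x : ((res φ).obj ((DerCA.locFunctor (Submonoid.powers (φ f))).obj M)),
        (algebraMap A (Module.End A ((res φ).obj
          ((DerCA.locFunctor (Submonoid.powers (φ f))).obj M))) (f ^ n)) x =
        (algebraMap B (Module.End B (LocalizedModule (Submonoid.powers (φ f)) M))
          ((φ f) ^ n)) (show LocalizedModule (Submonoid.powers (φ f)) M from x) := by
      intro x
      show φ (f ^ n) • (show LocalizedModule (Submonoid.powers (φ f)) M from x) =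
        (φ f) ^ n • (show LocalizedModule (Submonoid.powers (φ f)) M from x)
      rw [map_pow]
    constructor
    · intro x y hxy
      apply h.1
      show (algebraMap B (Module.End B (LocalizedModule (Submonoid.powers (φ f)) M))
          ((φ f) ^ n)) (show LocalizedModule (Submonoid.powers (φ f)) M from x) =
        (algebraMap B (Module.End B (LocalizedModule (Submonoid.powers (φ f)) M))
          ((φ f) ^ n)) (show LocalizedModule (Submonoid.powers (φ f)) M from y)
      rw [← heq x, ← heq y]
      exact hxy
    · intro y
      obtain ⟨x, hx⟩ := h.2 (show LocalizedModule (Submonoid.powers (φ f)) M from y)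
      exact ⟨x, (heq x).trans hx⟩
  surj := by
    intro y
    induction (show LocalizedModule (Submonoid.powers (φ f)) M from y)
      using LocalizedModule.induction_on with
    | h m t =>
      obtain ⟨_, n, rfl⟩ := t
      refine ⟨⟨m, pw f n⟩, ?_⟩
      show φ (f ^ n) • LocalizedModule.mk m (pw (φ f) n) = LocalizedModule.mk m 1
      rw [map_pow, LocalizedModule.smul'_mk]
      exact LocalizedModule.mk_cancel (pw (φ f) n) m
  exists_of_eq := by
    intro x₁ x₂ h
    have h' : LocalizedModule.mkLinearMap (Submonoid.powers (φ f)) M (show M from x₁) =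
        LocalizedModule.mkLinearMap (Submonoid.powers (φ f)) M (show M from x₂) := h
    obtain ⟨⟨_, n, rfl⟩, hc⟩ := IsLocalizedModule.exists_of_eq (S := Submonoid.powers (φ f)) h'
    refine ⟨pw f n, ?_⟩
    show φ (f ^ n) • (show M from x₁) = φ (f ^ n) • (show M from x₂)
    rw [map_pow]
    exact hc

/-- the comparison isomorphism `(M|_A)_f ≅ (M_{φ f})|_A` -/
noncomputable def e (M : ModuleCat.{u} B) :
    (DerCA.locFunctor (Submonoid.powers f)).obj ((res φ).obj M) ≅
      (res φ).obj ((DerCA.locFunctor (Submonoid.powers (φ f))).obj M) :=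
  (IsLocalizedModule.iso (Submonoid.powers f) (ψ φ f M).hom).toModuleIso

lemma unit_e (M : ModuleCat.{u} B) :
    (DerCA.locUnit (Submonoid.powers f)).app ((res φ).obj M) ≫ (e φ f M).hom = ψ φ f M := by
  ext x
  have h := IsLocalizedModule.iso_symm_apply (Submonoid.powers f) (ψ φ f M).hom x
  rw [LinearEquiv.symm_apply_eq] at h
  exact h.symm

/-- maps out of a localisation into a module on which `S` acts invertibly are determined by their
restriction -/
lemma hom_ext_loc (S : Submonoid A) {N X : ModuleCat.{u} A}
    (hX : ∀ s : S, IsUnit (algebraMap A (Module.End A X) s))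
    {p q : (DerCA.locFunctor S).obj N ⟶ X}
    (h : (DerCA.locUnit S).app N ≫ p = (DerCA.locUnit S).app N ≫ q) : p = q := by
  apply ModuleCat.hom_ext
  apply IsLocalizedModule.ext S (LocalizedModule.mkLinearMap S N) hX
  exact congrArg ModuleCat.Hom.hom h

lemma e_naturality {M M' : ModuleCat.{u} B} (h : M ⟶ M') :
    (DerCA.locFunctor (Submonoid.powers f)).map ((res φ).map h) ≫ (e φ f M').hom =
      (e φ f M).hom ≫ (res φ).map ((DerCA.locFunctor (Submonoid.powers (φ f))).map h) := by
  apply hom_ext_loc (Submonoid.powers f)
    (IsLocalizedModule.map_units (ψ φ f M').hom)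
  have h1 := (DerCA.locUnit (Submonoid.powers f)).naturality ((res φ).map h)
  have h2 := (DerCA.locUnit (Submonoid.powers (φ f))).naturality h
  simp only [Functor.id_obj, Functor.id_map] at h1 h2
  rw [← Category.assoc, ← h1, Category.assoc, unit_e, ← Category.assoc, unit_e]
  unfold ψ
  rw [← Functor.map_comp, ← Functor.map_comp, h2]

section Cx

/-- restriction of scalars on complexes -/
noncomputable abbrev resCx : DRing.Cx B ⥤ DRing.Cx A := (res φ).mapHomologicalComplex (ComplexShape.up ℤ)

/-- the comparison isomorphism on complexes -/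
noncomputable def eCx (L : DRing.Cx B) :
    (DerCA.locCx (Submonoid.powers f)).obj ((resCx φ).obj L) ≅
      (resCx φ).obj ((DerCA.locCx (Submonoid.powers (φ f))).obj L) :=
  HomologicalComplex.Hom.isoOfComponents (fun n => e φ f (L.X n))
    (fun i j _ => (e_naturality φ f (L.d i j)).symm)

lemma locCxUnit_eCx (L : DRing.Cx B) :
    DerCA.locCxUnit (Submonoid.powers f) ((resCx φ).obj L) ≫ (eCx φ f L).hom =
      (resCx φ).map (DerCA.locCxUnit (Submonoid.powers (φ f)) L) := by
  ext n : 1
  exact unit_e φ f (L.X n)

/-- `Q(L)|_A ≅ Q(L|_A)` -/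
noncomputable def resQ (L : DRing.Cx B) :
    (DRing.restrictD φ).obj (Q.obj L) ≅ Q.obj ((resCx φ).obj L) :=
  (res φ).mapDerivedCategoryFactors.app L

lemma resQ_naturality {L L' : DRing.Cx B} (a : L ⟶ L') :
    (DRing.restrictD φ).map (Q.map a) ≫ (resQ φ L').hom =
      (resQ φ L).hom ≫ Q.map ((resCx φ).map a) :=
  (res φ).mapDerivedCategoryFactors_hom_naturality a

end Cx

end Groth.Agent.Helper9.LCR2
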