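import Mathlib
import Groth.Prelude.Def_DRing3
import Groth.Prelude.Def_DDual2
import Groth.Prelude.Def_DualLC
import Groth.Prelude.Def_DerCA
import Groth.Agent.Helper9.LCR1
import Groth.Agent.Helper9.LCR2
import Groth.Agent.Helper6.LcD13

/-!
# `RΓ_I` commutes with restriction of scalars (Noetherian rings)
-/

set_option autoImplicit false
set_option linter.style.haveILetI false
set_option linter.unusedSectionVars false

namespace Groth.Agent.Helper9.LCR3

open CategoryTheory Limits HomologicalComplex DerivedCategory Pretriangulated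
open Groth.Agent.Helper9.LCT1 Groth.Agent.Helper9.LCT2 Groth.Agent.Helper9.LCT3
open Groth.Agent.Helper9.LCR1 Groth.Agent.Helper9.LCR2

universe u

attribute [local instance] HasDerivedCategory.standard

variable {A B : Type u} [CommRing A] [CommRing B] [IsNoetherianRing A] [IsNoetherianRing B]
  (φ : A →+* B)

section Principal

variable (f : A) [DRing.HasRgammaI (Ideal.span {f})] [DRing.HasRgammaI (Ideal.span {φ f})]

lemma principal_Q (L : DRing.Cx B) :
    Nonempty ((DRing.restrictD φ).obj ((DRing.RgammaI (Ideal.span {φ f})).obj (Q.obj L)) ≅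
      (DRing.RgammaI (Ideal.span {f})).obj ((DRing.restrictD φ).obj (Q.obj L))) := by
  obtain ⟨cB, hB⟩ := exists_principal_triangle (φ f) L
  obtain ⟨cA, hA⟩ := exists_principal_triangle f ((resCx φ).obj L)
  have hB' := (DRing.restrictD φ).map_distinguished _ hB
  let e₂ : (DRing.restrictD φ).obj (Q.obj L) ≅ Q.obj ((resCx φ).obj L) := resQ φ L
  let e₃ : (DRing.restrictD φ).obj (Q.obj ((DerCA.locCx (Submonoid.powers (φ f))).obj L)) ≅
      Q.obj ((DerCA.locCx (Submonoid.powers f)).obj ((resCx φ).obj L)) :=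
    resQ φ _ ≪≫ Q.mapIso (eCx φ f L).symm
  have comm : (DRing.restrictD φ).map (Q.map (DerCA.locCxUnit (Submonoid.powers (φ f)) L)) ≫
      e₃.hom = e₂.hom ≫ Q.map (DerCA.locCxUnit (Submonoid.powers f) ((resCx φ).obj L)) := by
    show (DRing.restrictD φ).map (Q.map (DerCA.locCxUnit (Submonoid.powers (φ f)) L)) ≫
      (resQ φ _).hom ≫ Q.map (eCx φ f L).inv = _
    rw [← Category.assoc, resQ_naturality, Category.assoc, ← Functor.map_comp]
    have h1 : (resCx φ).map (DerCA.locCxUnit (Submonoid.powers (φ f)) L) ≫ (eCx φ f L).inv =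
        DerCA.locCxUnit (Submonoid.powers f) ((resCx φ).obj L) := by
      rw [← locCxUnit_eCx, Category.assoc, Iso.hom_inv_id, Category.comp_id]
    rw [h1]
  obtain ⟨e₁⟩ := nonempty_iso_obj₁ _ _ hB' hA e₂ e₃ comm
  exact ⟨e₁ ≪≫ (DRing.RgammaI (Ideal.span {f})).mapIso e₂.symm⟩

theorem principal (K : Dual.D B) :
    Nonempty ((DRing.restrictD φ).obj ((DRing.RgammaI (Ideal.span {φ f})).obj K) ≅
      (DRing.RgammaI (Ideal.span {f})).obj ((DRing.restrictD φ).obj K)) := by
  obtain ⟨e⟩ := principal_Q φ f (Q.objPreimage K)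
  let i : Q.obj (Q.objPreimage K) ≅ K := Q.objObjPreimageIso K
  exact ⟨(DRing.restrictD φ).mapIso ((DRing.RgammaI (Ideal.span {φ f})).mapIso i.symm) ≪≫ e ≪≫
    (DRing.RgammaI (Ideal.span {f})).mapIso ((DRing.restrictD φ).mapIso i)⟩

end Principal

section Main

/-- **`RΓ` commutes with restriction of scalars** -/
theorem restrict_RgammaI (I : Ideal A) : ∀ (J : Ideal B), J = Ideal.map φ I →
    ∀ (_ : DRing.HasRgammaI I) (_ : DRing.HasRgammaI J) (K : Dual.D B),
      Nonempty ((DRing.restrictD φ).obj ((DRing.RgammaI J).obj K) ≅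
        (DRing.RgammaI I).obj ((DRing.restrictD φ).obj K)) := by
  refine Submodule.fg_induction (R := A) (M := A) (motive := fun (I : Ideal A) _ =>
    ∀ (J : Ideal B), J = Ideal.map φ I →
    ∀ (_ : DRing.HasRgammaI I) (_ : DRing.HasRgammaI J) (K : Dual.D B),
      Nonempty ((DRing.restrictD φ).obj ((DRing.RgammaI J).obj K) ≅
        (DRing.RgammaI I).obj ((DRing.restrictD φ).obj K))) ?_ ?_ I
    (IsNoetherian.noetherian I)
  · intro f J hJ h1 h2 K
    have hJ' : J = Ideal.span {φ f} := by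
      rw [hJ]
      show Ideal.map φ (Ideal.span {f}) = _
      rw [Ideal.map_span, Set.image_singleton]
    subst hJ'
    exact principal φ f K
  · intro I₁ I₂ _ _ h₁ h₂ J hJ hi1 hi2 K
    have hJ' : J = Ideal.map φ I₁ ⊔ Ideal.map φ I₂ := by
      rw [hJ]
      exact Ideal.map_sup φ I₁ I₂
    subst hJ'
    haveI := hasRgammaI I₁
    haveI := hasRgammaI I₂
    haveI := hasRgammaI (Ideal.map φ I₁)
    haveI := hasRgammaI (Ideal.map φ I₂)
    obtain ⟨a⟩ := nonempty_comp_iso I₁ I₂ ((DRing.restrictD φ).obj K)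
    obtain ⟨b⟩ := nonempty_comp_iso (Ideal.map φ I₁) (Ideal.map φ I₂) K
    obtain ⟨c⟩ := h₁ (Ideal.map φ I₁) rfl inferInstance inferInstance K
    obtain ⟨d⟩ := h₂ (Ideal.map φ I₂) rfl inferInstance inferInstance
      ((DRing.RgammaI (Ideal.map φ I₁)).obj K)
    exact ⟨(DRing.restrictD φ).mapIso b.symm ≪≫ d ≪≫ (DRing.RgammaI I₂).mapIso c ≪≫ a⟩

end Main

end Groth.Agent.Helper9.LCR3
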