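import Mathlib
import Groth.Prelude.Def_DRing3
import Groth.Prelude.Def_DDual2
import Groth.Prelude.Def_DualLC
import Groth.Agent.Helper9.LCR3
import Groth.Agent.Helper6.LcD13

/-!
# `H^i_I` of a restriction of scalars
-/

set_option autoImplicit false
set_option linter.style.haveILetI false
set_option linter.unusedSectionVars false

namespace Groth.Agent.Helper9.LCR4

open CategoryTheory Limits HomologicalComplex DerivedCategory
open Groth.Agent.Helper9.LCT2 Groth.Agent.Helper9.LCR2 Groth.Agent.Helper9.LCR3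

universe u v w

attribute [local instance] HasDerivedCategory.standard

variable {A B : Type u} [CommRing A] [CommRing B] (φ : A →+* B)

/-- restriction of scalars of a linear equivalence -/
def resEquiv {X : Type v} {Y : Type w} [AddCommGroup X] [Module B X] [AddCommGroup Y] [Module B Y]
    (e : X ≃ₗ[B] Y) :
    ((ModuleCat.restrictScalars φ).obj (ModuleCat.of B X)) ≃ₗ[A]
      ((ModuleCat.restrictScalars φ).obj (ModuleCat.of B Y)) :=
  { toFun := fun x => e x
    invFun := fun y => e.symm y
    map_add' := fun x y => e.map_add x y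
    map_smul' := fun a x => e.map_smul (φ a) x
    left_inv := e.left_inv
    right_inv := e.right_inv }

/-- cohomology commutes with restriction of scalars -/
lemma nonempty_hdRes (X : Dual.D B) (i : ℤ) :
    Nonempty ((DerivedCategory.homologyFunctor (ModuleCat.{u} A) i).obj
        ((DRing.restrictD φ).obj X) ≅
      (res φ).obj ((DerivedCategory.homologyFunctor (ModuleCat.{u} B) i).obj X)) := by
  let L := Q.objPreimage X
  let j : Q.obj L ≅ X := Q.objObjPreimageIso X
  let e1 : (DerivedCategory.homologyFunctor (ModuleCat.{u} A) i).obj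
      ((DRing.restrictD φ).obj X) ≅ ((resCx φ).obj L).homology i :=
    (DerivedCategory.homologyFunctor (ModuleCat.{u} A) i).mapIso
      ((DRing.restrictD φ).mapIso j.symm ≪≫ resQ φ L) ≪≫
      (homologyFunctorFactors (ModuleCat.{u} A) i).app _
  let e2 : ((resCx φ).obj L).homology i ≅ (res φ).obj (L.homology i) :=
    (L.sc i).mapHomologyIso (res φ)
  let e3 : L.homology i ≅ (DerivedCategory.homologyFunctor (ModuleCat.{u} B) i).obj X :=
    ((homologyFunctorFactors (ModuleCat.{u} B) i).app L).symm ≪≫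
      (DerivedCategory.homologyFunctor (ModuleCat.{u} B) i).mapIso j
  exact ⟨e1 ≪≫ e2 ≪≫ (res φ).mapIso e3⟩

variable [IsNoetherianRing A] [IsNoetherianRing B]

/-- **`H^i_I(K|_A) ≅ H^i_{IB}(K)|_A`** -/
theorem hdi_restrict (I : Ideal A) (K : Dual.D B) (i : ℤ) :
    Nonempty (Dual2.HDI A I ((DRing.restrictD φ).obj K) i ≅
      (ModuleCat.restrictScalars φ).obj (Dual2.HDI B (Ideal.map φ I) K i)) := by
  haveI := hasRgammaI I
  haveI := hasRgammaI (Ideal.map φ I)
  obtain ⟨e₁⟩ := Groth.Agent.Helper6.LcD.hd_rgamma I i ((DRing.restrictD φ).obj K)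
  obtain ⟨e₂⟩ := Groth.Agent.Helper6.LcD.hd_rgamma (Ideal.map φ I) i K
  obtain ⟨e₃⟩ := restrict_RgammaI φ I (Ideal.map φ I) rfl inferInstance inferInstance K
  obtain ⟨e₄⟩ := nonempty_hdRes φ ((DRing.RgammaI (Ideal.map φ I)).obj K) i
  let E : Dual2.HDI A I ((DRing.restrictD φ).obj K) i ≃ₗ[A]
      ((ModuleCat.restrictScalars φ).obj (Dual2.HDI B (Ideal.map φ I) K i)) :=
    e₁.symm ≪≫ₗ
      ((DerivedCategory.homologyFunctor (ModuleCat.{u} A) i).mapIso e₃).symm.toLinearEquiv ≪≫ₗ
      e₄.toLinearEquiv ≪≫ₗ resEquiv φ e₂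
  exact ⟨E.toModuleIso⟩

end Groth.Agent.Helper9.LCR4
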