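import Mathlib

/-!
# Covering a cochain complex by a complex with terms in a class of objects

If every object of `A` is a quotient of an object in a class `P`, every cochain complex `K`
admits a degreewise epimorphism from a complex whose terms are sums of two objects of `P`.
-/

set_option autoImplicit false

namespace Groth.Agent.Helper9.LCov

open CategoryTheory Category Limits HomologicalComplex

universe v u

variable {A : Type u} [Category.{v} A] [Abelian A]

/-- a choice of covers by objects in `P` -/
structure Cov (P : A → Prop) where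
  /-- the covering object -/
  obj : A → A
  /-- the covering map -/
  π : ∀ X, obj X ⟶ X
  epi : ∀ X, Epi (π X)
  mem : ∀ X, P (obj X)

lemma nonempty_cov {P : A → Prop} (h : ∀ X : A, ∃ (Y : A) (p : Y ⟶ X), Epi p ∧ P Y) :
    Nonempty (Cov P) :=
  ⟨{ obj := fun X => (h X).choose
     π := fun X => (h X).choose_spec.choose
     epi := fun X => (h X).choose_spec.choose_spec.1
     mem := fun X => (h X).choose_spec.choose_spec.2 }⟩

variable {P : A → Prop} (c : Cov P) (K : CochainComplex A ℤ)

/-- the covering objects -/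
abbrev T (p : ℤ) : A := c.obj (K.X p)

/-- the covering maps -/
abbrev τ (p : ℤ) : T c K p ⟶ K.X p := c.π (K.X p)

instance (p : ℤ) : Epi (τ c K p) := c.epi _

/-- reindexing -/
def tr (p : ℤ) : T c K p ⟶ T c K (p + 1 - 1) := eqToHom (by rw [add_sub_cancel_right])

lemma tr_τ_d (p r : ℤ) :
    tr c K p ≫ τ c K (p + 1 - 1) ≫ K.d (p + 1 - 1) r = τ c K p ≫ K.d p r := by
  have : ∀ (q : ℤ) (h : p = q),
      eqToHom (by rw [h]) ≫ τ c K q ≫ K.d q r = τ c K p ≫ K.d p r := by
    intro q h
    subst h
    simp
  exact this _ (by ring)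

/-- the differential of the covering complex -/
noncomputable def D (p : ℤ) : T c K (p - 1) ⊞ T c K p ⟶ T c K (p + 1 - 1) ⊞ T c K (p + 1) :=
  biprod.snd ≫ tr c K p ≫ biprod.inl

lemma D_D (p : ℤ) : D c K p ≫ D c K (p + 1) = 0 := by
  simp [D]

/-- the covering complex (which happens to be contractible) -/
noncomputable def C : CochainComplex A ℤ :=
  CochainComplex.of (fun p => T c K (p - 1) ⊞ T c K p) (D c K) (D_D c K)

lemma C_d (p : ℤ) : (C c K).d p (p + 1) = D c K p :=
  CochainComplex.of_d (fun p => T c K (p - 1) ⊞ T c K p) (D c K) p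

/-- the covering map, degreewise -/
noncomputable def εf (p : ℤ) : T c K (p - 1) ⊞ T c K p ⟶ K.X p :=
  biprod.desc (τ c K (p - 1) ≫ K.d (p - 1) p) (τ c K p)

lemma inl_εf (p : ℤ) : biprod.inl ≫ εf c K p = τ c K (p - 1) ≫ K.d (p - 1) p :=
  biprod.inl_desc _ _

lemma inr_εf (p : ℤ) : biprod.inr ≫ εf c K p = τ c K p := biprod.inr_desc _ _

instance (p : ℤ) : Epi (εf c K p) := epi_of_epi_fac (inr_εf c K p)

lemma D_εf (p : ℤ) : D c K p ≫ εf c K (p + 1) = εf c K p ≫ K.d p (p + 1) := by
  apply biprod.hom_ext'
  · rw [D, assoc, biprod.inl_snd_assoc, zero_comp, ← assoc, inl_εf, assoc, K.d_comp_d, comp_zero]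
  · rw [D, assoc, biprod.inr_snd_assoc, assoc, inl_εf, ← assoc (biprod.inr), inr_εf]
    exact tr_τ_d c K p (p + 1)

/-- the covering map -/
noncomputable def ε : C c K ⟶ K where
  f := εf c K
  comm' p q hpq := by
    obtain rfl : p + 1 = q := hpq
    rw [C_d]
    exact (D_εf c K p).symm

instance (p : ℤ) : Epi ((ε c K).f p) := inferInstanceAs (Epi (εf c K p))

instance : Epi (ε c K) := HomologicalComplex.epi_of_epi_f _ inferInstance

/-- the short exact sequence `0 → N → C K → K → 0` -/
noncomputable def S : ShortComplex (CochainComplex A ℤ) :=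
  ShortComplex.mk (kernel.ι (ε c K)) (ε c K) (kernel.condition _)

lemma S_shortExact : (S c K).ShortExact where
  exact := ShortComplex.exact_kernel _
  mono_f := inferInstanceAs (Mono (kernel.ι (ε c K)))
  epi_g := inferInstanceAs (Epi (ε c K))

/-- the kernel -/
noncomputable abbrev N : CochainComplex A ℤ := (S c K).X₁

/-- the degreewise short exact sequences -/
lemma shortExact_eval (p : ℤ) :
    ((S c K).map (HomologicalComplex.eval A (ComplexShape.up ℤ) p)).ShortExact :=
  (S_shortExact c K).map_of_exact _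

lemma mem_C (hP : ∀ {X Y : A}, P X → P Y → P (X ⊞ Y)) (p : ℤ) : P ((C c K).X p) :=
  hP (c.mem _) (c.mem _)

end Groth.Agent.Helper9.LCov
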