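import Mathlib
import Groth.Prelude.Def_DualLC
import Groth.Prelude.Def_DDual2
import Groth.Agent.Helper9.LT1
import Groth.Agent.Helper9.LT2
import Groth.Agent.Helper9.LT6
import Groth.Agent.Helper9.LF3
import Groth.Agent.Helper9.LF6
import Groth.Agent.Helper6.LocExt5
import Groth.Agent.Helper1.DerTrunc

/-!
# The annihilator theorem for bounded below complexes with finite cohomology, and the
finiteness theorem
-/

set_option autoImplicit false
set_option linter.style.haveILetI false
set_option linter.unusedSectionVars false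
set_option linter.unusedVariables false

universe u
open CategoryTheory CategoryTheory.Limits Opposite DerivedCategory Pretriangulated
attribute [local instance] HasDerivedCategory.standard

namespace Groth.Agent.Helper9.LF7
open Groth.Agent.Helper9.LT1 Groth.Agent.Helper9.LT2 Groth.Agent.Helper9.LF3
  Groth.Agent.Helper9.LF6 Groth.Agent.Helper3.DRingLib Groth.Agent.Helper1.DerTrunc IsLocalRing

section Bij

variable {A : Type u} [CommRing A] (T : Set (PrimeSpectrum A))

/-- in a distinguished triangle whose third vertex lies in `D^{≥ s+1}`, the first map induces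
isomorphisms on local cohomology in degrees `≤ s` -/
theorem bijective_mor₁ {X Y Z : Dual.D A} (f : X ⟶ Y) (g : Y ⟶ Z) (h : Z ⟶ X⟦(1 : ℤ)⟧)
    (hTr : Triangle.mk f g h ∈ distTriang _) (s : ℤ)
    [Z.IsGE (s + 1)] (i : ℤ) (hi : i ≤ s) :
    Function.Bijective (hxMap T (f⟦i⟧')) := by
  haveI : (Z⟦i⟧).IsGE (s + 1 - i) :=
    DerivedCategory.TStructure.t.isGE_shift Z (s + 1) i (s + 1 - i) (by omega)
  haveI : (Z⟦i⟧).IsGE 1 :=
    DerivedCategory.TStructure.t.isGE_of_ge (Z⟦i⟧) 1 (s + 1 - i) (by omega)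
  haveI : (Z⟦(-1 : ℤ)⟧).IsGE (s + 2) :=
    DerivedCategory.TStructure.t.isGE_shift Z (s + 1) (-1) (s + 2) (by omega)
  haveI : ((Z⟦(-1 : ℤ)⟧)⟦i⟧).IsGE (s + 2 - i) :=
    DerivedCategory.TStructure.t.isGE_shift (Z⟦(-1 : ℤ)⟧) (s + 2) i (s + 2 - i) (by omega)
  haveI : ((Z⟦(-1 : ℤ)⟧)⟦i⟧).IsGE 1 :=
    DerivedCategory.TStructure.t.isGE_of_ge ((Z⟦(-1 : ℤ)⟧)⟦i⟧) 1 (s + 2 - i) (by omega)
  have hs1 : Subsingleton (HX T ((Z⟦(-1 : ℤ)⟧)⟦i⟧)) := subsingleton_of_isGE _
  have hs2 : Subsingleton (HX T (Z⟦i⟧)) := subsingleton_of_isGE _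
  constructor
  · rw [injective_iff_map_eq_zero]
    intro y hy
    have hd := inv_rot_of_distTriang _ hTr
    obtain ⟨x, hx⟩ := hx_exact_shift (T := T) (Triangle.mk f g h).invRotate hd i y hy
    have hx0 : x = 0 := @Subsingleton.elim _ hs1 x 0
    rw [← hx, hx0]
    exact map_zero _
  · exact surj_mor₁ (Triangle.mk f g h) hTr i hs2

end Bij

section Trunc

variable {A : Type u} [CommRing A] [IsNoetherianRing A] (K : Dual.D A) (a : ℤ)
  (hKa : ∀ i : ℤ, i < a → Subsingleton (Dual.HD A K i))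
  (hK : ∀ i : ℤ, Module.Finite A (Dual.HD A K i)) (s : ℤ)

/-- the truncation `τ_{≤ s} K` -/
noncomputable abbrev tr : Dual.D A := ((tD (ModuleCat.{u} A)).truncLT (s + 1)).obj K

/-- the inclusion of the truncation -/
noncomputable abbrev trι : tr K s ⟶ K := ((tD (ModuleCat.{u} A)).truncLTι (s + 1)).app K

/-- the induced map on cohomology -/
noncomputable def trH (i : ℤ) : Dual.HD A (tr K s) i →ₗ[A] Dual.HD A K i :=
  ((homologyFunctor (ModuleCat.{u} A) i).map (trι K s)).hom

lemma tr_injective (i : ℤ) (hi : i ≤ s + 1) : Function.Injective (trH K s i) := by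
  haveI := mono_homologyMap_truncLTι K (s + 1) i hi
  exact (ModuleCat.mono_iff_injective
    ((homologyFunctor (ModuleCat.{u} A) i).map (trι K s))).1 inferInstance

lemma tr_isLE : (tr K s).IsLE s := (tD (ModuleCat.{u} A)).isLE_truncLT_obj K (s + 1) s

include hKa in
lemma tr_bounded : ∃ a b : ℤ, ∀ j : ℤ, (j < a ∨ b < j) → Subsingleton (Dual.HD A (tr K s) j) := by
  haveI := tr_isLE K s
  refine ⟨a, s, fun j hj => ?_⟩
  by_cases hjs : s < j
  · exact subsingleton_HD_of_isLE (tr K s) s j hjs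
  · rcases hj with hj | hj
    · exact @Function.Injective.subsingleton _ _ _ (tr_injective K s j (by omega)) (hKa j hj)
    · exact absurd hj hjs

include hK in
lemma tr_finite (j : ℤ) : Module.Finite A (Dual.HD A (tr K s) j) := by
  haveI := tr_isLE K s
  by_cases hjs : s < j
  · haveI := subsingleton_HD_of_isLE (tr K s) s j hjs
    exact Module.Finite.of_surjective (0 : A →ₗ[A] _) (fun y => ⟨0, Subsingleton.elim _ _⟩)
  · haveI := hK j
    haveI : IsNoetherian A (Dual.HD A K j) := isNoetherian_of_isNoetherianRing_of_finite A _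
    exact Module.Finite.of_injective (trH K s j) (tr_injective K s j (by omega))

/-- annihilators are unchanged by truncation -/
lemma ann_tr_iff (T : Set (PrimeSpectrum A)) (J : Ideal A) (i : ℤ) (hi : i ≤ s) :
    Ann T J ((tr K s)⟦i⟧) ↔ Ann T J (K⟦i⟧) := by
  have hT := (tD (ModuleCat.{u} A)).triangleLTGE_distinguished (s + 1) K
  have hbij : Function.Bijective (hxMap T ((trι K s)⟦i⟧')) :=
    bijective_mor₁ T (trι K s) (((tD (ModuleCat.{u} A)).truncGEπ (s + 1)).app K)
      (((tD (ModuleCat.{u} A)).truncGEδLT (s + 1)).app K) hT s i hi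
  constructor
  · intro h x hx y
    obtain ⟨y', rfl⟩ := hbij.2 y
    rw [← map_smul, h x hx y', map_zero]
  · intro h x hx y
    apply hbij.1
    rw [map_smul, map_zero]
    exact h x hx _

end Trunc

section BC

variable {A : Type u} [CommRing A] [IsNoetherianRing A] (B : Type u) [CommRing B]
  [IsNoetherianRing B] [Algebra A B] [Module.Flat A B] (I : Ideal B) (K : Dual.D A) (s : ℤ)

/-- the local cohomology of the base change is unchanged by truncation -/
lemma subsingleton_hdi_tr_iff (i : ℤ) (hi : i ≤ s) :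
    Subsingleton (Dual2.HDI B I ((bcD A B).obj (tr K s)) i) ↔
      Subsingleton (Dual2.HDI B I ((bcD A B).obj K) i) := by
  have hT := (tD (ModuleCat.{u} A)).triangleLTGE_distinguished (s + 1) K
  have hT' := (bcD A B).map_distinguished _ hT
  haveI : (((tD (ModuleCat.{u} A)).truncGE (s + 1)).obj K).IsGE (s + 1) := inferInstance
  haveI : ((bcD A B).obj (((tD (ModuleCat.{u} A)).truncGE (s + 1)).obj K)).IsGE (s + 1) :=
    Groth.Agent.Helper6.LocExt.bcD_isGE B _ (s + 1)
  have hbij : Function.Bijective (hxMap (PrimeSpectrum.zeroLocus (I : Set B))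
      (((bcD A B).map (trι K s))⟦i⟧')) :=
    bijective_mor₁ (PrimeSpectrum.zeroLocus (I : Set B)) ((bcD A B).map (trι K s))
      ((bcD A B).map (((tD (ModuleCat.{u} A)).truncGEπ (s + 1)).app K))
      ((bcD A B).map (((tD (ModuleCat.{u} A)).truncGEδLT (s + 1)).app K) ≫
        ((bcD A B).commShiftIso (1 : ℤ)).hom.app _) hT' s i hi
  let e := (cmpEquiv I ((bcD A B).obj (tr K s)) i).toEquiv.trans
    ((Equiv.ofBijective _ hbij).trans (cmpEquiv I ((bcD A B).obj K) i).symm.toEquiv)
  exact e.subsingleton_congr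

end BC

section Final

variable (A : Type u) [CommRing A] [IsNoetherianRing A]

/-- **the annihilator theorem** -/
theorem annihilator_theorem (hA : ∃ ω : Dual.D A, Dual.IsDualizing A ω)
    (T T' : Set (PrimeSpectrum A)) (hT : StableUnderSpecialization T)
    (hT' : StableUnderSpecialization T') (hTT' : T ⊆ T') (s : ℤ) (K : Dual.D A) (a : ℤ)
    (hKa : ∀ i : ℤ, i < a → Subsingleton (Dual.HD A K i))
    (hK : ∀ i : ℤ, Module.Finite A (Dual.HD A K i))
    [∀ p : PrimeSpectrum A, DRing.HasLBaseChange (algebraMap A (Localization.AtPrime p.asIdeal))] :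
    (∃ J : Ideal A, PrimeSpectrum.zeroLocus (J : Set A) ⊆ T' ∧
        ∀ i : ℤ, i ≤ s → ∀ a ∈ J, ∀ x : Dual2.HDT A T K i, a • x = 0) ↔
      (∀ (p q : PrimeSpectrum A) (hpq : p ≤ q), p ∉ T' → q ∈ T → ∀ h : ℕ,
        Order.height (⟨q, hpq⟩ : Set.Ici p) = h → ∀ i : ℤ, i ≤ s - h →
          Subsingleton (Dual2.HDI (Localization.AtPrime p.asIdeal)
            (IsLocalRing.maximalIdeal (Localization.AtPrime p.asIdeal))
            ((DRing.LBaseChange (algebraMap A (Localization.AtPrime p.asIdeal))).obj K) i)) := by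
  obtain ⟨ω, hω⟩ := hA
  have hmain := main_bounded ω hω T T' hT hT' hTT' s (tr K s) (tr_bounded K a hKa s)
    (tr_finite K hK s)
  have hL : (∃ J : Ideal A, PrimeSpectrum.zeroLocus (J : Set A) ⊆ T' ∧
        ∀ i : ℤ, i ≤ s → ∀ a ∈ J, ∀ x : Dual2.HDT A T K i, a • x = 0) ↔
      (∃ J : Ideal A, PrimeSpectrum.zeroLocus (J : Set A) ⊆ T' ∧
        ∀ i : ℤ, i ≤ s → Ann T J ((tr K s)⟦i⟧)) := by
    constructor
    · rintro ⟨J, hJ, h⟩
      exact ⟨J, hJ, fun i hi => (ann_tr_iff K s T J i hi).2 (h i hi)⟩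
    · rintro ⟨J, hJ, h⟩
      exact ⟨J, hJ, fun i hi => (ann_tr_iff K s T J i hi).1 (h i hi)⟩
  rw [hL, hmain]
  have key : ∀ (p : PrimeSpectrum A) (i : ℤ), i ≤ s →
      (Subsingleton (Dual2.HDI (Localization.AtPrime p.asIdeal)
        (maximalIdeal (Localization.AtPrime p.asIdeal))
        ((bcD A (Localization.AtPrime p.asIdeal)).obj (tr K s)) i) ↔
      Subsingleton (Dual2.HDI (Localization.AtPrime p.asIdeal)
        (IsLocalRing.maximalIdeal (Localization.AtPrime p.asIdeal))
        ((DRing.LBaseChange (algebraMap A (Localization.AtPrime p.asIdeal))).obj K) i)) := by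
    intro p i hi
    haveI : IsNoetherianRing (Localization.AtPrime p.asIdeal) :=
      IsLocalization.isNoetherianRing p.asIdeal.primeCompl _ inferInstance
    rw [subsingleton_hdi_tr_iff (Localization.AtPrime p.asIdeal)
      (maximalIdeal (Localization.AtPrime p.asIdeal)) K s i hi]
    exact (hdiCongr (maximalIdeal (Localization.AtPrime p.asIdeal)) i
      (Groth.Agent.Helper6.LocExt.lbcIsoBcD A (Localization.AtPrime p.asIdeal)
        K)).symm.toEquiv.subsingleton_congr
  constructor
  · intro H p q hpq hp hq h hh i hi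
    exact (key p i (by omega)).1 (H p q hpq hp hq h hh i hi)
  · intro H p q hpq hp hq h hh i hi
    exact (key p i (by omega)).2 (H p q hpq hp hq h hh i hi)

/-- **the finiteness theorem** -/
theorem finiteness_theorem (hA : ∃ ω : Dual.D A, Dual.IsDualizing A ω)
    (T : Set (PrimeSpectrum A)) (hT : StableUnderSpecialization T) (s : ℤ) (K : Dual.D A) (a : ℤ)
    (hKa : ∀ i : ℤ, i < a → Subsingleton (Dual.HD A K i))
    (hK : ∀ i : ℤ, Module.Finite A (Dual.HD A K i))
    [∀ p : PrimeSpectrum A, DRing.HasLBaseChange (algebraMap A (Localization.AtPrime p.asIdeal))] :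
    (∀ i : ℤ, i ≤ s → Module.Finite A (Dual2.HDT A T K i)) ↔
      (∀ (p q : PrimeSpectrum A) (hpq : p ≤ q), p ∉ T → q ∈ T → ∀ h : ℕ,
        Order.height (⟨q, hpq⟩ : Set.Ici p) = h → ∀ i : ℤ, i ≤ s - h →
          Subsingleton (Dual2.HDI (Localization.AtPrime p.asIdeal)
            (IsLocalRing.maximalIdeal (Localization.AtPrime p.asIdeal))
            ((DRing.LBaseChange (algebraMap A (Localization.AtPrime p.asIdeal))).obj K) i)) := by
  rw [Groth.Agent.Helper9.LT6.main T hT K a hKa hK s]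
  have h := annihilator_theorem A hA T T hT hT subset_rfl s K a hKa hK
  rw [← h]

end Final

end Groth.Agent.Helper9.LF7
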