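import Mathlib
import Groth.Prelude.Def_DRing3
import Groth.Prelude.Def_DDual2
import Groth.Agent.Helper9.LTW1
import Groth.Agent.Helper9.LCB2
import Groth.Agent.Helper9.LCR2
import Groth.Agent.Helper6.LBCAdj
import Groth.Agent.Helper6.KProjRes
import Groth.Agent.Helper6.ShrGor1

/-!
# `RΓ_I(A)` and derived base change along Frobenius
-/

set_option autoImplicit false
set_option linter.style.haveILetI false
set_option linter.unusedSectionVars false

namespace Groth.Agent.Helper9.LFR1

open CategoryTheory Limits HomologicalComplex DerivedCategory Pretriangulated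
open Groth.Agent.Helper9.LCT1 Groth.Agent.Helper9.LCT2 Groth.Agent.Helper9.LCT3
open Groth.Agent.Helper9.GM1 Groth.Agent.Helper9.GM2 Groth.Agent.Helper9.LCB2
open Groth.Agent.Helper9.LTW1 Groth.Agent.Helper9.LCR2
open Groth.Agent.Helper6.DComplTri Groth.Agent.Helper6.LBCCompute

universe u

attribute [local instance] HasDerivedCategory.standard

section Pow

variable {A : Type u} [CommRing A]

lemma isLocal_pow (f : A) (Y : Dual.D A) (hY : IsLocal f Y) (n : ℕ) : IsLocal (f ^ n) Y := by
  unfold IsLocal at hY ⊢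
  induction n with
  | zero =>
    rw [pow_zero, one_smul]
    infer_instance
  | succ n ih =>
    have : (f ^ (n + 1)) • 𝟙 Y = ((f ^ n) • 𝟙 Y) ≫ (f • 𝟙 Y) := by
      rw [Linear.smul_comp, Linear.comp_smul, Category.id_comp, smul_smul, pow_succ]
    rw [this]
    infer_instance

end Pow

section Semilinear

variable {A B : Type u} [CommRing A] [CommRing B] (φ : A →+* B)

lemma resCx_map_smul (a : A) (L : DRing.Cx B) :
    (resCx φ).map (φ a • 𝟙 L) = a • 𝟙 ((resCx φ).obj L) := by
  ext n x
  rfl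

/-- restriction of scalars of a `φ f`-local object is `f`-local -/
lemma isLocal_restrictD (f : A) (Y : Dual.D B) (hY : IsLocal (φ f) Y) :
    IsLocal f ((DRing.restrictD φ).obj Y) := by
  let L := Q.objPreimage Y
  let j : Q.obj L ≅ Y := Q.objObjPreimageIso Y
  have h1 : IsLocal (φ f) (Q.obj L) := isLocal_of_iso (φ f) j.symm hY
  have h2 : IsIso (Q.map (φ f • 𝟙 L)) := by
    have : Q.map (φ f • 𝟙 L) = φ f • 𝟙 (Q.obj L) := by
      rw [Functor.map_smul, CategoryTheory.Functor.map_id]
    rw [this]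
    exact h1
  have h3 : IsIso (Q.map ((resCx φ).map (φ f • 𝟙 L))) := by
    have hnat := resQ_naturality φ (φ f • 𝟙 L)
    have : Q.map ((resCx φ).map (φ f • 𝟙 L)) =
        (resQ φ L).inv ≫ (DRing.restrictD φ).map (Q.map (φ f • 𝟙 L)) ≫ (resQ φ L).hom := by
      rw [hnat, Iso.inv_hom_id_assoc]
    rw [this]
    infer_instance
  have h4 : IsLocal f (Q.obj ((resCx φ).obj L)) := by
    unfold IsLocal
    have : f • 𝟙 (Q.obj ((resCx φ).obj L)) = Q.map ((resCx φ).map (φ f • 𝟙 L)) := by
      rw [resCx_map_smul, Functor.map_smul, CategoryTheory.Functor.map_id]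
    rw [this]
    exact h3
  exact isLocal_of_iso f ((resQ φ L).symm ≪≫ (DRing.restrictD φ).mapIso j) h4

variable [DRing.HasLBaseChange φ]

/-- derived base change of an `f`-local object is `φ f`-local -/
lemma isLocal_LBaseChange (f : A) (Y : Dual.D A) (hY : IsLocal f Y) :
    IsLocal (φ f) ((DRing.LBaseChange φ).obj Y) := by
  obtain ⟨P, p, hP, -, -, hq, -⟩ :=
    Groth.Agent.Helper6.KProjRes.exists_resolution (Q.objPreimage Y)
  haveI := hP
  haveI : IsIso (Q.map p) := (DerivedCategory.isIso_Q_map_iff_quasiIso _ _).mpr hq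
  let j : Q.obj P ≅ Y := asIso (Q.map p) ≪≫ Q.objObjPreimageIso Y
  have h1 : IsLocal f (Q.obj P) := isLocal_of_iso f j.symm hY
  have h2 : IsIso (Q.map (f • 𝟙 P)) := by
    have : Q.map (f • 𝟙 P) = f • 𝟙 (Q.obj P) := by
      rw [Functor.map_smul, CategoryTheory.Functor.map_id]
    rw [this]
    exact h1
  have h3 : IsIso (Q.map ((bcCxF φ).map (f • 𝟙 P))) := by
    have hnat := lbcIso_hom_naturality φ (f • 𝟙 P)
    have : Q.map ((bcCxF φ).map (f • 𝟙 P)) =
        (lbcIso φ P).inv ≫ (DRing.LBaseChange φ).map (Q.map (f • 𝟙 P)) ≫ (lbcIso φ P).hom := by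
      rw [hnat, Iso.inv_hom_id_assoc]
    rw [this]
    infer_instance
  have h4 : IsLocal (φ f) (Q.obj ((bcCxF φ).obj P)) := by
    unfold IsLocal
    have : φ f • 𝟙 (Q.obj ((bcCxF φ).obj P)) = Q.map ((bcCxF φ).map (f • 𝟙 P)) := by
      have h5 : (bcCxF φ).map (f • 𝟙 P) = φ f • 𝟙 ((bcCxF φ).obj P) := by
        ext n : 1
        exact ext_map_smul φ f (P.X n)
      rw [h5, Functor.map_smul, CategoryTheory.Functor.map_id]
    rw [this]
    exact h3
  exact isLocal_of_iso (φ f) ((lbcIso φ P).symm ≪≫ (DRing.LBaseChange φ).mapIso j) h4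

end Semilinear

section Orth

variable {A : Type u} [CommRing A] [IsNoetherianRing A] (I : Ideal A) [DRing.HasRgammaI I]

/-- an object left orthogonal to all `f`-local objects, `f ∈ I`, has `I`-power torsion
cohomology -/
theorem tors_of_orth (Z : Dual.D A)
    (h : ∀ f ∈ I, ∀ Y : Dual.D A, IsLocal f Y → ∀ ψ : Z ⟶ Y, ψ = 0) : Tors I Z := by
  obtain ⟨X, e, u, hu⟩ := exists_tower I inferInstance Z
  obtain ⟨s, hs⟩ := (hu.bijective_postcomp Z h).2 (𝟙 Z)
  have hs' : s ≫ u = 𝟙 Z := hs
  intro i z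
  have hX : LocCoh.IsPowerTorsion I (Dual.HD A X i) :=
    isPowerTorsion_of_iso
      ((DerivedCategory.homologyFunctor (ModuleCat.{u} A) i).mapIso e.symm)
      (isPowerTorsion_RgammaI I Z i)
  obtain ⟨n, hn⟩ := hX (((DerivedCategory.homologyFunctor (ModuleCat.{u} A) i).map s).hom z)
  refine ⟨n, fun a ha => ?_⟩
  have h1 : ((DerivedCategory.homologyFunctor (ModuleCat.{u} A) i).map s).hom (a • z) = 0 := by
    rw [map_smul]
    exact hn a ha
  have h2 : ((DerivedCategory.homologyFunctor (ModuleCat.{u} A) i).map (s ≫ u)).hom (a • z) =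
      a • z := by
    rw [hs', CategoryTheory.Functor.map_id]
    rfl
  rw [Functor.map_comp] at h2
  rw [← h2]
  show ((DerivedCategory.homologyFunctor (ModuleCat.{u} A) i).map u).hom
    (((DerivedCategory.homologyFunctor (ModuleCat.{u} A) i).map s).hom (a • z)) = 0
  rw [h1, map_zero]

end Orth

section Frob

variable (p : ℕ) [Fact p.Prime] {A : Type u} [CommRing A] [IsNoetherianRing A] [CharP A p]
  (I : Ideal A) [DRing.HasRgammaI I] [DRing.HasLBaseChange (frobenius A p)]

/-- derived base change along Frobenius commutes with `RΓ_I` -/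
theorem nonempty_lbc_frobenius_RgammaI (K : Dual.D A) :
    Nonempty ((DRing.LBaseChange (frobenius A p)).obj ((DRing.RgammaI I).obj K) ≅
      (DRing.RgammaI I).obj ((DRing.LBaseChange (frobenius A p)).obj K)) := by
  have hp : p ≠ 0 := (Fact.out : p.Prime).ne_zero
  let adj := Groth.Agent.Helper6.LBCAdj.adj (frobenius A p)
  letI := adj.leftAdjointCommShift ℤ
  haveI := adj.commShift_of_rightAdjoint ℤ
  haveI : (DRing.LBaseChange (frobenius A p)).IsTriangulated := adj.isTriangulated_leftAdjoint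
  refine nonempty_map_RgammaI I I (DRing.LBaseChange (frobenius A p)) ?_ ?_ K
  · intro f hf Y hY
    refine ⟨f ^ p, Ideal.pow_mem_of_mem I hf p (Nat.pos_of_ne_zero hp), ?_⟩
    exact isLocal_LBaseChange (frobenius A p) f Y hY
  · intro X hX
    apply tors_of_orth I
    intro f hf Y hY ψ
    have hY' : IsLocal (frobenius A p f) Y := by
      show IsLocal (f ^ p) Y
      exact isLocal_pow f Y hY p
    have hres : IsLocal f ((DRing.restrictD (frobenius A p)).obj Y) :=
      isLocal_restrictD (frobenius A p) f Y hY'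
    have h0 : adj.homEquiv X Y ψ = 0 :=
      hom_eq_zero_of_tors_of_isLocal I X hX f hf _ hres _
    apply (adj.homEquiv X Y).injective
    rw [h0, Adjunction.homEquiv_unit, Functor.map_zero, comp_zero]

/-- **`RΓ_I(A) ⊗^L_{A,F} A ≅ RΓ_I(A)`** -/
theorem nonempty_lbc_frobenius_RgammaI_self :
    Nonempty ((DRing.LBaseChange (frobenius A p)).obj ((DRing.RgammaI I).obj (Dual.inD A A)) ≅
      (DRing.RgammaI I).obj (Dual.inD A A)) := by
  obtain ⟨e⟩ := nonempty_lbc_frobenius_RgammaI p I (Dual.inD A A)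
  exact ⟨e ≪≫ (DRing.RgammaI I).mapIso
    (Groth.Agent.Helper6.ShrGor.lbcSelf (frobenius A p))⟩

end Frob

end Groth.Agent.Helper9.LFR1
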