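import Mathlib
import Groth.Agent.Helper9.LDeriv2

/-!
# Relative left resolutions from left resolutions in a triangulated category

Dual of the first part of `RDeriv2`.
-/

set_option autoImplicit false
set_option linter.style.haveILetI false
set_option linter.unusedSectionVars false

namespace Groth.Agent.Helper9.LRes

open CategoryTheory Category Limits Pretriangulated ObjectProperty ZeroObject

variable {C : Type*} [Category C] [HasZeroObject C] [HasShift C ℤ] [Preadditive C]
  [∀ n : ℤ, (shiftFunctor C n).Additive] [Pretriangulated C] [IsTriangulated C]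
  (A B : ObjectProperty C) [A.IsTriangulated] [A.IsClosedUnderIsomorphisms]
  [B.IsTriangulated] [B.IsClosedUnderIsomorphisms]

/-- left resolutions: any object receives a `B.trW`-morphism from an object of `A`. -/
structure HasRes : Prop where
  exists_res : ∀ (X : C), ∃ (P : C) (q : P ⟶ X), A P ∧ B.trW q

variable {A B}

/-- a left resolution of the third object of a distinguished triangle whose second object is in
`A`, from a left resolution of the first object -/
lemma exists_res_of_fiber (T : Triangle C) (hT : T ∈ distTriang C) (hP₀ : A T.obj₂)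
    {R : C} (r : R ⟶ T.obj₁) (hR : A R) (hr : B.trW r) :
    ∃ (P : C) (ι : T.obj₂ ⟶ P) (q : P ⟶ T.obj₃), A P ∧ B.trW q ∧ ι ≫ q = T.mor₂ := by
  obtain ⟨P, hP, ι, l, hT'⟩ := A.distinguished_cocone_triangle (r ≫ T.mor₁) hR hP₀
  obtain ⟨c, hc, comm₂, -⟩ :=
    MorphismProperty.compatible_with_triangulation (W := B.trW) _ _ hT' hT r (𝟙 T.obj₂)
      hr (MorphismProperty.id_mem _ _) (comp_id _)
  refine ⟨P, ι, c, hP, hc, ?_⟩
  exact comm₂.trans (id_comp _)

variable (h : HasRes A B)

include h

/-- relative left resolutions -/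
lemma hasRelRes : LDeriv2.HasRelRes A B where
  exists_res {P₀ X} f₀ hP₀ := by
    obtain ⟨Z, g, k, hT⟩ := distinguished_cocone_triangle₁ f₀
    obtain ⟨R, r, hR, hr⟩ := h.exists_res Z
    obtain ⟨P, ι, q, hP, hq, fac⟩ := exists_res_of_fiber (Triangle.mk g f₀ k) hT hP₀ r hR hr
    exact ⟨P, ι, q, hP, hq, fac⟩

end Groth.Agent.Helper9.LRes
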