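import Mathlib
import Groth.Prelude.Def_KFlatSite
import Groth.Agent.Helper9.CxAssoc2
import Groth.Agent.Helper9.LTCx6

/-!
# `(- ⊗^L K) ⊗^L L ≅ - ⊗^L (K ⊗ L)` for `L` K-flat (ringed sites)
-/

set_option autoImplicit false
set_option linter.style.haveILetI false
set_option linter.unusedSectionVars false

namespace Groth.Agent.Helper9.LTCx8

open CategoryTheory Category Limits HomologicalComplex CochainComplex
  Groth.Agent.Helper9.KFlat18 Groth.Agent.Helper9.LTCx1
  Groth.Agent.Helper9.LTCx5 Groth.Agent.Helper9.LTCx6 Groth.Agent.Helper9.CxAssoc1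
  Groth.Agent.Helper9.CxAssoc2

attribute [local instance] HasDerivedCategory.standard

universe u

variable {C : Type u} [SmallCategory C] {J : GrothendieckTopology C} {O : Sheaf J CommRingCat.{u}}

variable (K L : CochainComplex (ModSite.Mod O) ℤ)

set_option maxHeartbeats 800000 in
lemma assocNat_naturality {A A' : CochainComplex (ModSite.Mod O) ℤ} (f : A ⟶ A') :
    ((ModSite.tensorCx O).flip.obj K ⋙ (ModSite.tensorCx O).flip.obj L).map f ≫
      (assocCx A' K L).hom =
    (assocCx A K L).hom ≫
      ((ModSite.tensorCx O).flip.obj (((ModSite.tensorCx O).obj K).obj L)).map f := by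
  have h := assocCx_naturality₁ f K L
  exact h

/-- `(- ⊗ K) ⊗ L ≅ - ⊗ (K ⊗ L)` as functors on complexes -/
noncomputable def assocNat :
    (ModSite.tensorCx O).flip.obj K ⋙ (ModSite.tensorCx O).flip.obj L ≅
      (ModSite.tensorCx O).flip.obj (((ModSite.tensorCx O).obj K).obj L) :=
  NatIso.ofComponents (fun A => assocCx A K L) (fun f => assocNat_naturality K L f)

variable [ModSite.HasLTensorCx K] [ModSite.HasLTensorCx L]
  [ModSite.HasLTensorCx (((ModSite.tensorCx O).obj K).obj L)]

/-- the comparison at the level of complexes -/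
noncomputable def β :
    DerivedCategory.Q ⋙ (ModSite.LTensorCx K ⋙ ModSite.LTensorCx L) ⟶
      ModSite.tensorCxQ (((ModSite.tensorCx O).obj K).obj L) :=
  (Functor.associator _ _ _).inv ≫ Functor.whiskerRight (counit K) (ModSite.LTensorCx L) ≫
    (Functor.associator _ _ _).hom ≫
    Functor.whiskerLeft ((ModSite.tensorCx O).flip.obj K) (counit L) ≫
    (Functor.associator _ _ _).inv ≫
    Functor.whiskerRight (assocNat K L).hom DerivedCategory.Q

lemma β_app (A : CochainComplex (ModSite.Mod O) ℤ) :
    (β K L).app A = (ModSite.LTensorCx L).map ((counit K).app A) ≫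
      (counit L).app (((ModSite.tensorCx O).obj A).obj K) ≫
      DerivedCategory.Q.map ((assocNat K L).hom.app A) := by
  simp [β]

/-- the comparison morphism -/
noncomputable def comp : ModSite.LTensorCx K ⋙ ModSite.LTensorCx L ⟶
    ModSite.LTensorCx (((ModSite.tensorCx O).obj K).obj L) :=
  (ModSite.LTensorCx (((ModSite.tensorCx O).obj K).obj L)).leftDerivedLift
    (counit (((ModSite.tensorCx O).obj K).obj L)) (W (O := O))
    (ModSite.LTensorCx K ⋙ ModSite.LTensorCx L) (β K L)

lemma comp_app (A : CochainComplex (ModSite.Mod O) ℤ) :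
    (comp K L).app (DerivedCategory.Q.obj A) ≫
      (counit (((ModSite.tensorCx O).obj K).obj L)).app A = (β K L).app A :=
  Functor.leftDerived_fac_app _ _ _ _ _ _

theorem isIso_comp (hL : ModSite.IsKFlat L) : IsIso (comp K L) := by
  rw [NatTrans.isIso_iff_isIso_app]
  intro D
  obtain ⟨P, hP, ⟨e⟩⟩ := exists_kflat_rep D
  rw [← NatTrans.isIso_app_iff_of_iso (comp K L) e]
  haveI := isIso_counit_app (((ModSite.tensorCx O).obj K).obj L) P hP
  haveI := isIso_counit_app K P hP
  haveI := isIso_counit L hL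
  have h := comp_app K L P
  have h2 : IsIso ((comp K L).app (DerivedCategory.Q.obj P) ≫
      (counit (((ModSite.tensorCx O).obj K).obj L)).app P) := by
    rw [h, β_app]
    infer_instance
  exact IsIso.of_isIso_comp_right _ ((counit (((ModSite.tensorCx O).obj K).obj L)).app P)

/-- `(- ⊗^L K) ⊗^L L ≅ - ⊗^L (K ⊗ L)` for `L` K-flat -/
noncomputable def compIso (hL : ModSite.IsKFlat L) :
    ModSite.LTensorCx K ⋙ ModSite.LTensorCx L ≅
      ModSite.LTensorCx (((ModSite.tensorCx O).obj K).obj L) :=
  @asIso _ _ _ _ (comp K L) (isIso_comp K L hL)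

/-- the right adjoints: `RHom(K ⊗ L, -) ≅ RHom(K, RHom(L, -))` -/
noncomputable def rightAdjIso (hL : ModSite.IsKFlat L)
    [(ModSite.LTensorCx K).IsLeftAdjoint] [(ModSite.LTensorCx L).IsLeftAdjoint]
    [(ModSite.LTensorCx (((ModSite.tensorCx O).obj K).obj L)).IsLeftAdjoint] :
    (ModSite.LTensorCx (((ModSite.tensorCx O).obj K).obj L)).rightAdjoint ≅
      (ModSite.LTensorCx L).rightAdjoint ⋙ (ModSite.LTensorCx K).rightAdjoint :=
  Adjunction.rightAdjointUniq (Adjunction.ofIsLeftAdjoint _)
    (Adjunction.ofNatIsoLeft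
      ((Adjunction.ofIsLeftAdjoint (ModSite.LTensorCx K)).comp
        (Adjunction.ofIsLeftAdjoint (ModSite.LTensorCx L))) (compIso K L hL))

end Groth.Agent.Helper9.LTCx8
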