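import Mathlib
import Groth.Prelude.Def_KFlatSite
import Groth.Agent.Helper9.LTM4
import Groth.Agent.Helper9.KFlatB2

/-!
# Flatness from vanishing of `Tor_1` computed on a bounded above flat resolution
-/

set_option autoImplicit false
set_option linter.style.haveILetI false
set_option linter.unusedSectionVars false

namespace Groth.Agent.Helper9.LTM5

open CategoryTheory Category Limits HomologicalComplex
  Groth.Agent.Helper9.TensorAdj Groth.Agent.Helper9.TensorFlat Groth.Agent.Helper9.LTM4

universe u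

variable {C : Type u} [SmallCategory C] {J : GrothendieckTopology C} {O : Sheaf J CommRingCat.{u}}

/-- `H^0` of a complex which is strictly `≤ 0` is the cokernel of `d^{-1}` -/
noncomputable def homologyIsoCokernel (P : CochainComplex (ModSite.Mod O) ℤ)
    (hP : P.IsStrictlyLE 0) : P.homology 0 ≅ cokernel (P.d (0 - 1) 0) :=
  P.isoHomologyι 0 1 (by simp)
    ((P.isZero_of_isStrictlyLE 0 1 (by omega)).eq_of_tgt _ _) ≪≫
  (IsColimit.coconePointUniqueUpToIso (P.opcyclesIsCokernel (0 - 1) 0 (by simp))
    (cokernelIsCokernel (P.d (0 - 1) 0)) :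
      (CokernelCofork.ofπ (P.pOpcycles 0) (P.d_pOpcycles (0 - 1) 0)).pt ≅
        (Cofork.ofπ (cokernel.π (P.d (0 - 1) 0)) (by simp)).pt)

/-- a module with a bounded above flat resolution `P` such that `H^{-1}(P ⊗ G) = 0` for all `G`
is flat -/
theorem isFlat_of_resolution (F : ModSite.Mod O) (P : CochainComplex (ModSite.Mod O) ℤ)
    (hP : P.IsStrictlyLE 0) (q : P ⟶ (HomologicalComplex.single (ModSite.Mod O) (ComplexShape.up ℤ) 0).obj F)
    (hq : QuasiIso q) (hfl : ∀ i, ModSite.IsFlat (P.X i))
    (hex : ∀ G : ModSite.Mod O, IsZero ((tens G P).homology (-1))) : ModSite.IsFlat F := by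
  have h1 : ModSite.IsFlat (cokernel (P.d (0 - 1) 0)) := isFlat_cokernel P hfl 0 hex
  haveI : IsIso (homologyMap q 0) := (quasiIsoAt_iff_isIso_homologyMap q 0).1 (hq.quasiIsoAt 0)
  exact Groth.Agent.Helper9.KFlat12.isFlat_of_iso
    ((homologyIsoCokernel P hP).symm ≪≫ asIso (homologyMap q 0) ≪≫
      HomologicalComplex.singleObjHomologySelfIso (ComplexShape.up ℤ) 0 F) h1

end Groth.Agent.Helper9.LTM5
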