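import Mathlib

/-!
# Laurent polynomials: the derivation `d/dT`, Kähler differentials are cyclic on `dT`
-/

set_option autoImplicit false

namespace Groth.Agent.Helper9.LaurentDeRham

open LaurentPolynomial

universe u

variable (k : Type u) [Field k]

noncomputable def derivLin : k[T;T⁻¹] →ₗ[k] k[T;T⁻¹] :=
  (AddMonoidAlgebra.coeffLinearEquiv k).symm.toLinearMap ∘ₗ
    (Finsupp.lsum k (fun n : ℤ => (Finsupp.lsingle (n - 1) : k →ₗ[k] (ℤ →₀ k)) ∘ₗ ((n : k) • LinearMap.id))) ∘ₗ
    (AddMonoidAlgebra.coeffLinearEquiv k).toLinearMap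

lemma derivLin_single (n : ℤ) (a : k) :
    derivLin k (AddMonoidAlgebra.single n a) = AddMonoidAlgebra.single (n - 1) ((n : k) * a) := by
  unfold derivLin
  simp only [LinearMap.coe_comp, LinearEquiv.coe_coe, Function.comp_apply,
    AddMonoidAlgebra.coeffLinearEquiv_apply, AddMonoidAlgebra.coeff_single]
  rw [Finsupp.lsum_single]
  simp only [LinearMap.coe_comp, Function.comp_apply, LinearMap.smul_apply, LinearMap.id_coe, id_eq,
    Finsupp.lsingle_apply, smul_eq_mul, AddMonoidAlgebra.coeffLinearEquiv_symm_apply]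
  rfl

/-- Leibniz rule -/
lemma derivLin_mul (f g : k[T;T⁻¹]) : derivLin k (f * g) = f * derivLin k g + g * derivLin k f := by
  induction f using AddMonoidAlgebra.induction_linear with
  | zero => simp
  | add f₁ f₂ h₁ h₂ => rw [add_mul, map_add, h₁, h₂, map_add]; ring
  | single m a =>
    induction g using AddMonoidAlgebra.induction_linear with
    | zero => simp
    | add g₁ g₂ h₁ h₂ => rw [mul_add, map_add, h₁, h₂, map_add]; ring
    | single n b =>
      rw [AddMonoidAlgebra.single_mul_single, derivLin_single, derivLin_single, derivLin_single,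
        AddMonoidAlgebra.single_mul_single, AddMonoidAlgebra.single_mul_single]
      have e1 : m + (n - 1) = m + n - 1 := by ring
      have e2 : n + (m - 1) = m + n - 1 := by ring
      rw [e1, e2, ← AddMonoidAlgebra.single_add]
      congr 1
      push_cast
      ring

noncomputable def dT : Derivation k k[T;T⁻¹] k[T;T⁻¹] :=
  Derivation.mk' (derivLin k) (fun f g => by rw [derivLin_mul]; simp only [smul_eq_mul])

lemma dT_apply (f : k[T;T⁻¹]) : dT k f = derivLin k f := rfl

lemma dT_T_one : dT k (T 1) = 1 := by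
  rw [dT_apply, T, derivLin_single]
  simp

/-- coefficient functional -/
noncomputable def coeffAt (n : ℤ) : k[T;T⁻¹] →ₗ[k] k :=
  (Finsupp.lapply n) ∘ₗ (AddMonoidAlgebra.coeffLinearEquiv k).toLinearMap

lemma coeffAt_single (n m : ℤ) (a : k) :
    coeffAt k n (AddMonoidAlgebra.single m a) = if m = n then a else 0 := by
  show (AddMonoidAlgebra.single m a).coeff n = _
  rw [AddMonoidAlgebra.coeff_single, Finsupp.single_apply]

lemma coeffAt_dT (f : k[T;T⁻¹]) : coeffAt k (-1) (dT k f) = 0 := by
  rw [dT_apply]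
  induction f using AddMonoidAlgebra.induction_linear with
  | zero => simp
  | add f₁ f₂ h₁ h₂ => rw [map_add, map_add, h₁, h₂, add_zero]
  | single n a =>
    rw [derivLin_single, coeffAt_single]
    split_ifs with h
    · have : n = 0 := by omega
      rw [this]; simp
    · rfl

noncomputable def antiLin : k[T;T⁻¹] →ₗ[k] k[T;T⁻¹] :=
  (AddMonoidAlgebra.coeffLinearEquiv k).symm.toLinearMap ∘ₗ
    (Finsupp.lsum k (fun n : ℤ => (Finsupp.lsingle (n + 1) : k →ₗ[k] (ℤ →₀ k)) ∘ₗ (((n + 1 : ℤ) : k)⁻¹ • LinearMap.id))) ∘ₗ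
    (AddMonoidAlgebra.coeffLinearEquiv k).toLinearMap

lemma antiLin_single (n : ℤ) (a : k) :
    antiLin k (AddMonoidAlgebra.single n a) = AddMonoidAlgebra.single (n + 1) (((n + 1 : ℤ) : k)⁻¹ * a) := by
  unfold antiLin
  simp only [LinearMap.coe_comp, LinearEquiv.coe_coe, Function.comp_apply,
    AddMonoidAlgebra.coeffLinearEquiv_apply, AddMonoidAlgebra.coeff_single]
  rw [Finsupp.lsum_single]
  simp only [LinearMap.coe_comp, Function.comp_apply, LinearMap.smul_apply, LinearMap.id_coe, id_eq,
    Finsupp.lsingle_apply, smul_eq_mul, AddMonoidAlgebra.coeffLinearEquiv_symm_apply]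
  rfl

lemma dT_antiLin [CharZero k] (f : k[T;T⁻¹]) (hf : coeffAt k (-1) f = 0) :
    dT k (antiLin k f) = f := by
  have key : ∀ f : k[T;T⁻¹], dT k (antiLin k f) = f - AddMonoidAlgebra.single (-1) (coeffAt k (-1) f) := by
    intro f
    induction f using AddMonoidAlgebra.induction_linear with
    | zero => simp
    | add f₁ f₂ h₁ h₂ =>
      rw [map_add, map_add, h₁, h₂, map_add, AddMonoidAlgebra.single_add]; ring
    | single n a =>
      rw [antiLin_single, dT_apply, derivLin_single, coeffAt_single]
      by_cases hn : n = -1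
      · subst hn
        simp
      · rw [if_neg hn]
        have h1 : ((n + 1 : ℤ) : k) ≠ 0 := by
          rw [Int.cast_ne_zero]; omega
        have e : n + 1 - 1 = n := by ring
        rw [e, ← mul_assoc, mul_inv_cancel₀ h1, one_mul]
        simp
  rw [key f, hf]
  simp

section Kaehler
open exteriorPower

variable (k : Type u) [Field k]

local notation "L" => LaurentPolynomial k
local notation "Ω" => Ω[LaurentPolynomial k⁄k]

/-- `D f = (dT f) • D T` -/
def Pd (f : L) : Prop := KaehlerDifferential.D k L f = dT k f • KaehlerDifferential.D k L (T 1)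

lemma Pd_add {f g : L} (hf : Pd k f) (hg : Pd k g) : Pd k (f + g) := by
  unfold Pd at *
  rw [map_add, map_add, hf, hg, add_smul]

lemma Pd_mul {f g : L} (hf : Pd k f) (hg : Pd k g) : Pd k (f * g) := by
  unfold Pd at *
  rw [Derivation.leibniz, Derivation.leibniz, hf, hg, smul_smul, smul_smul, ← add_smul]
  simp only [smul_eq_mul]

lemma Pd_C (a : k) : Pd k (C a) := by
  unfold Pd
  have : (C a : L) = algebraMap k L a := rfl
  rw [this, Derivation.map_algebraMap, Derivation.map_algebraMap, zero_smul]

lemma Pd_T_one : Pd k (T 1) := by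
  unfold Pd
  rw [dT_T_one, one_smul]

lemma Pd_T_neg_one : Pd k (T (-1)) := by
  unfold Pd
  have h : (T (-1) : L) * T 1 = 1 := by rw [← T_add]; simp
  rw [Derivation.leibniz_of_mul_eq_one _ h, Derivation.leibniz_of_mul_eq_one (dT k) h, dT_T_one]
  simp only [smul_eq_mul, mul_one, neg_smul]

lemma Pd_all (f : L) : Pd k f := by
  induction f using LaurentPolynomial.induction_on with
  | h_C a => exact Pd_C k a
  | h_add hp hq => exact Pd_add k hp hq
  | h_C_mul_T n a h =>
    have : (C a * T (n + 1 : ℤ) : L) = (C a * T n) * T 1 := by rw [mul_assoc, ← T_add]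
    rw [this]
    exact Pd_mul k h (Pd_T_one k)
  | h_C_mul_T_Z n a h =>
    have : (C a * T (-(n : ℤ) - 1) : L) = (C a * T (-n)) * T (-1) := by
      rw [mul_assoc, ← T_add]; rfl
    rw [this]
    exact Pd_mul k h (Pd_T_neg_one k)

/-- the `L`-linear map `Ω → L` with `D f ↦ dT f` -/
noncomputable def liftΩ : Ω →ₗ[L] L := (dT k).liftKaehlerDifferential

lemma liftΩ_D (f : L) : liftΩ k (KaehlerDifferential.D k L f) = dT k f :=
  Derivation.liftKaehlerDifferential_comp_D _ f

lemma eq_liftΩ_smul (ω : Ω) : ω = liftΩ k ω • KaehlerDifferential.D k L (T 1) := by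
  have hω : ω ∈ Submodule.span L (Set.range (KaehlerDifferential.D k L)) := by
    rw [KaehlerDifferential.span_range_derivation]; trivial
  induction hω using Submodule.span_induction with
  | mem x hx =>
    obtain ⟨f, rfl⟩ := hx
    rw [liftΩ_D]; exact Pd_all k f
  | zero => simp
  | add x y _ _ hx hy => rw [map_add, add_smul, ← hx, ← hy]
  | smul c x _ hx => rw [map_smul, smul_assoc, ← hx]

lemma extPow_subsingleton (p : ℕ) (hp : 2 ≤ p) : Subsingleton (⋀[L]^p Ω) := by
  refine ⟨fun x y => ?_⟩
  have key : ∀ z : ⋀[L]^p Ω, z = 0 := by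
    intro z
    have hz : z ∈ Submodule.span L (Set.range (ιMulti L p (M := Ω))) := by
      rw [ιMulti_span]; trivial
    induction hz using Submodule.span_induction with
    | mem x hx =>
      obtain ⟨a, rfl⟩ := hx
      have ha : a = fun i => liftΩ k (a i) • KaehlerDifferential.D k L (T 1) :=
        funext fun i => eq_liftΩ_smul k (a i)
      rw [ha, (ιMulti L p (M := Ω)).map_smul_univ]
      have : ιMulti L p (M := Ω) (fun _ => KaehlerDifferential.D k L (T 1)) = 0 :=
        (ιMulti L p (M := Ω)).map_eq_zero_of_eq _ (i := ⟨0, by omega⟩) (j := ⟨1, by omega⟩) rfl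
          (by simp [Fin.ext_iff])
      rw [this, smul_zero]
    | zero => rfl
    | add x y _ _ hx hy => rw [hx, hy, add_zero]
    | smul c x _ hx => rw [hx, smul_zero]
  rw [key x, key y]

end Kaehler


end Groth.Agent.Helper9.LaurentDeRham
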