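import Mathlib
import Groth.Prelude.Def_GrLC
import Groth.Agent.Helper9.GradedHomog2

/-! Graded modules over a graded Laurent ring `k[T,T⁻¹]` are graded-free. -/

set_option autoImplicit false
universe u

namespace Groth.Agent.Helper9.LaurentFree

open DirectSum

variable {R : Type u} [CommRing R] (𝒜 : ℤ → AddSubgroup R) [GradedRing 𝒜]
variable {M : Type u} [AddCommGroup M] [Module R M] (ℳ : ℤ → AddSubgroup M)
  [DirectSum.Decomposition ℳ] [SetLike.GradedSMul 𝒜 ℳ]

/-- graded criterion for linear independence -/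
lemma linearIndependent_of_homogeneous {κ : Type*} (v : κ → M) (w : κ → ℤ)
    (hv : ∀ c, v c ∈ ℳ (w c))
    (H : ∀ (s : Finset κ) (n : ℤ) (a : κ → R), (∀ c, a c ∈ 𝒜 (n - w c)) →
      ∑ c ∈ s, a c • v c = 0 → ∀ c ∈ s, a c = 0) :
    LinearIndependent R v := by
  classical
  rw [linearIndependent_iff']
  intro s g hg c hc
  have hcomp : ∀ l, (decompose 𝒜 (g c) l : R) = 0 := by
    intro l
    have h2 : (decompose ℳ (∑ c' ∈ s, g c' • v c') (l + w c) : M) =
        ∑ c' ∈ s, (decompose 𝒜 (g c') (l + w c - w c') : R) • v c' := by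
      rw [decompose_sum, DFinsupp.finsetSum_apply, AddSubmonoidClass.coe_finsetSum]
      refine Finset.sum_congr rfl fun i _ => ?_
      have := Groth.Agent.Helper9.GradedHomog2.coe_decompose_smul_add 𝒜 ℳ (g i) (hv i) (l + w c - w i)
      rwa [sub_add_cancel] at this
    have h3 := H s (l + w c) (fun c' => decompose 𝒜 (g c') (l + w c - w c'))
      (fun c' => SetLike.coe_mem _) (by rw [← h2, hg, decompose_zero]; rfl) c hc
    have h4 : ((decompose 𝒜 (g c) (l + w c - w c) : 𝒜 (l + w c - w c)) : R) = 0 := h3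
    rw [add_sub_cancel_right] at h4
    exact h4
  rw [← sum_support_decompose 𝒜 (g c)]
  exact Finset.sum_eq_zero fun l _ => hcomp l

/-- the inverse of a homogeneous unit is homogeneous -/
lemma inv_mem (T : Rˣ) (d : ℤ) (hT : (T : R) ∈ 𝒜 d) : ((T⁻¹ : Rˣ) : R) ∈ 𝒜 (-d) := by
  classical
  have h1 : (decompose 𝒜 ((T : R) * ((T⁻¹ : Rˣ) : R)) (d + -d) : R) =
      (T : R) * (decompose 𝒜 ((T⁻¹ : Rˣ) : R) (-d) : R) :=
    coe_decompose_mul_add_of_left_mem 𝒜 hT
  rw [Units.mul_inv, add_neg_cancel, decompose_of_mem_same 𝒜 (SetLike.GradedOne.one_mem)] at h1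
  have h2 : ((T⁻¹ : Rˣ) : R) = (decompose 𝒜 ((T⁻¹ : Rˣ) : R) (-d) : R) := by
    rw [← one_mul (decompose 𝒜 ((T⁻¹ : Rˣ) : R) (-d) : R), ← Units.inv_mul T, mul_assoc, ← h1, mul_one]
  rw [h2]
  exact SetLike.coe_mem _

lemma zpow_mem (T : Rˣ) (d : ℤ) (hT : (T : R) ∈ 𝒜 d) (j : ℤ) : ((T ^ j : Rˣ) : R) ∈ 𝒜 (j * d) := by
  cases j with
  | ofNat n =>
    have := SetLike.pow_mem_graded (A := 𝒜) n hT
    simpa using this
  | negSucc n =>
    have := SetLike.pow_mem_graded (A := 𝒜) (n + 1) (inv_mem 𝒜 T d hT)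
    rw [zpow_negSucc]
    have e : (Int.negSucc n) * d = (n + 1) • (-d) := by
      rw [Int.negSucc_eq]; simp; ring
    rw [e]
    simpa using this

theorem main (h0 : IsField (GrLC.deg0 𝒜)) (d : ℤ) (hd : 0 < d) (T : Rˣ) (hT : (T : R) ∈ 𝒜 d)
    (hA : ∀ (n : ℤ) (x : R), x ∈ 𝒜 n → x ≠ 0 →
      ∃ j : ℤ, ∃ a ∈ 𝒜 0, j * d = n ∧ x = a * ((T ^ j : Rˣ) : R)) :
    ∃ (κ : Type u) (b : Module.Basis κ R M), ∀ i : κ, SetLike.IsHomogeneousElem ℳ (b i) := by
  classical
  letI : Field (GrLC.deg0 𝒜) := h0.toField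
  let N : ℤ → Submodule (GrLC.deg0 𝒜) M := fun i => GrLC.comp 𝒜 ℳ i
  let B : ∀ i : ℤ, Module.Basis (Module.Basis.ofVectorSpaceIndex (GrLC.deg0 𝒜) (N i))
      (GrLC.deg0 𝒜) (N i) := fun i => Module.Basis.ofVectorSpace (GrLC.deg0 𝒜) (N i)
  let κ := Σ i : Fin d.toNat, Module.Basis.ofVectorSpaceIndex (GrLC.deg0 𝒜) (N (i : ℤ))
  let v : κ → M := fun c => ((B (c.1 : ℤ)) c.2 : M)
  let w : κ → ℤ := fun c => (c.1 : ℤ)
  have hv : ∀ c, v c ∈ ℳ (w c) := fun c => ((B (c.1 : ℤ)) c.2).2
  have hw0 : ∀ c : κ, 0 ≤ w c := fun c => by simp [w]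
  have hwd : ∀ c : κ, w c < d := fun c => by
    have := c.1.2
    simp only [w]
    omega
  -- structure of homogeneous elements
  have hF : ∀ (n : ℤ) (x : R), x ∈ 𝒜 n →
      (x = 0 ∨ (d ∣ n ∧ ∃ a ∈ 𝒜 0, x = a * ((T ^ (n / d) : Rˣ) : R))) := by
    intro n x hx
    by_cases hx0 : x = 0
    · exact Or.inl hx0
    · right
      obtain ⟨j, a, ha, hj, hxa⟩ := hA n x hx hx0
      refine ⟨⟨j, by rw [← hj]; ring⟩, a, ha, ?_⟩
      have : n / d = j := by rw [← hj]; exact Int.mul_ediv_cancel _ hd.ne'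
      rw [this]; exact hxa
  -- linear independence
  have hli : LinearIndependent R v := by
    apply linearIndependent_of_homogeneous 𝒜 ℳ v w hv
    intro s n a ha hsum c₀ hc₀
    by_contra hne
    rcases hF _ _ (ha c₀) with h | ⟨hdvd, -⟩
    · exact hne h
    have hα : ∀ c : κ, ∃ α : GrLC.deg0 𝒜, a c = (α : R) * ((T ^ ((n - w c₀) / d) : Rˣ) : R) ∧
        (c.1 ≠ c₀.1 → α = 0) := by
      intro c
      rcases hF _ _ (ha c) with h | ⟨hdvd', α, hα, hx'⟩
      · exact ⟨0, by simp [h], fun _ => rfl⟩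
      · have hww : w c = w c₀ := by
          have h1 : d ∣ w c - w c₀ := by
            have := Int.dvd_sub hdvd hdvd'
            simpa using this
          obtain ⟨t, ht⟩ := h1
          have h2 := hw0 c; have h3 := hwd c; have h4 := hw0 c₀; have h5 := hwd c₀
          have ht0 : t = 0 := by
            by_contra htne
            rcases lt_or_gt_of_ne htne with hlt | hgt
            · have : d * t ≤ d * (-1) := mul_le_mul_of_nonneg_left (by omega) hd.le
              omega
            · have : d * 1 ≤ d * t := mul_le_mul_of_nonneg_left (by omega) hd.le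
              omega
          rw [ht0, mul_zero] at ht
          omega
        have hc1 : c.1 = c₀.1 := by
          apply Fin.ext
          have : ((c.1 : ℕ) : ℤ) = ((c₀.1 : ℕ) : ℤ) := hww
          exact_mod_cast this
        refine ⟨⟨α, hα⟩, ?_, fun h => absurd hc1 h⟩
        rw [hx', hww]
    choose α hα1 hα2 using hα
    have h1 : ∑ c ∈ s, ((α c : GrLC.deg0 𝒜) : R) • v c = 0 := by
      have : ∑ c ∈ s, a c • v c =
          ((T ^ ((n - w c₀) / d) : Rˣ) : R) • ∑ c ∈ s, ((α c : GrLC.deg0 𝒜) : R) • v c := by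
        rw [Finset.smul_sum]
        refine Finset.sum_congr rfl fun c _ => ?_
        rw [hα1 c, smul_smul, mul_comm]
      rw [this] at hsum
      have h2 := congrArg (fun z => ((T ^ (-((n - w c₀) / d)) : Rˣ) : R) • z) hsum
      simp only [smul_zero, smul_smul] at h2
      rw [← Units.val_mul, ← zpow_add, neg_add_cancel, zpow_zero, Units.val_one, one_smul] at h2
      exact h2
    let emb : Module.Basis.ofVectorSpaceIndex (GrLC.deg0 𝒜) (N (c₀.1 : ℤ)) → κ := fun b => ⟨c₀.1, b⟩
    have hembinj : Function.Injective emb := fun b b' h => eq_of_heq (Sigma.mk.inj_iff.mp h).2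
    have hinj : Set.InjOn emb (emb ⁻¹' (s : Set κ)) := hembinj.injOn
    have h2 : ∑ b ∈ s.preimage emb hinj, α (emb b) • B (c₀.1 : ℤ) b = 0 := by
      apply Subtype.ext
      rw [Submodule.coe_sum, Submodule.coe_zero, ← h1]
      have h3 := Finset.sum_preimage emb s hinj
        (fun c => ((α c : GrLC.deg0 𝒜) : R) • v c) (by
          intro c _ hc
          have : c.1 ≠ c₀.1 := by
            intro h
            apply hc
            obtain ⟨c1, c2⟩ := c
            simp only at h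
            subst h
            exact ⟨c2, rfl⟩
          rw [hα2 c this]
          simp)
      rw [← h3]
      rfl
    have h3 := (linearIndependent_iff'.mp (B (c₀.1 : ℤ)).linearIndependent) _ _ h2 c₀.2
      (by simp [emb, hc₀])
    apply hne
    rw [hα1 c₀]
    have : α c₀ = 0 := h3
    rw [this]
    simp
  -- spanning
  have key : ∀ (i' : Fin d.toNat) (y : N (i' : ℤ)), (y : M) ∈ Submodule.span R (Set.range v) := by
    intro i' y
    have hy : y ∈ Submodule.span (GrLC.deg0 𝒜) (Set.range (B (i' : ℤ))) := by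
      rw [(B _).span_eq]; trivial
    induction hy using Submodule.span_induction with
    | mem z hz =>
      obtain ⟨b, rfl⟩ := hz
      exact Submodule.subset_span ⟨⟨i', b⟩, rfl⟩
    | zero => simp
    | add y z _ _ hy hz =>
      rw [Submodule.coe_add]; exact Submodule.add_mem _ hy hz
    | smul a y _ hy =>
      rw [Submodule.coe_smul]
      exact Submodule.smul_mem _ (a : R) hy
  have hsp : ⊤ ≤ Submodule.span R (Set.range v) := by
    intro m _
    rw [← sum_support_decompose ℳ m]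
    refine Submodule.sum_mem _ fun n _ => ?_
    have hxn : (decompose ℳ m n : M) ∈ ℳ n := SetLike.coe_mem _
    generalize (decompose ℳ m n : M) = x at hxn
    have hi0 : 0 ≤ n % d := Int.emod_nonneg _ hd.ne'
    have hid : n % d < d := Int.emod_lt_of_pos _ hd
    have hx' : ((T ^ (-(n / d)) : Rˣ) : R) • x ∈ ℳ (n % d) := by
      have := SetLike.GradedSMul.smul_mem (A := 𝒜) (B := ℳ) (zpow_mem 𝒜 T d hT (-(n / d))) hxn
      have e : (-(n / d) * d) +ᵥ n = n % d := by
        rw [vadd_eq_add]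
        have := Int.emod_add_mul_ediv n d
        linarith
      rw [e] at this
      exact this
    have hlt : (n % d).toNat < d.toNat := by omega
    have hcast : (((⟨(n % d).toNat, hlt⟩ : Fin d.toNat) : ℕ) : ℤ) = n % d := Int.toNat_of_nonneg hi0
    have hx'' : ((T ^ (-(n / d)) : Rˣ) : R) • x ∈ N (((⟨(n % d).toNat, hlt⟩ : Fin d.toNat) : ℕ) : ℤ) := by
      show _ ∈ ℳ _
      rw [hcast]; exact hx'
    have hxeq : x = ((T ^ (n / d) : Rˣ) : R) • (((T ^ (-(n / d)) : Rˣ) : R) • x) := by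
      rw [smul_smul, ← Units.val_mul, ← zpow_add, add_neg_cancel, zpow_zero, Units.val_one, one_smul]
    rw [hxeq]
    exact Submodule.smul_mem _ _ (key ⟨(n % d).toNat, hlt⟩ ⟨_, hx''⟩)
  refine ⟨κ, Module.Basis.mk hli hsp, fun c => ?_⟩
  rw [Module.Basis.mk_apply]
  exact ⟨w c, hv c⟩

end Groth.Agent.Helper9.LaurentFree
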