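import Mathlib
import Groth.Prelude.Def_CohTop

/-!
# Local sections of a continuous map and the associated cosimplicial groups

For `f : X ⟶ S` and an abelian sheaf `G` on `S`, the group `CK f G ι` consists of the families
`τ(V, σ) ∈ G(V)`, `σ` a tuple of continuous sections of `f` over `V` indexed by `ι`, compatible
with restriction (morphisms of presheaves `h_X^ι ⟶ G`).
-/

set_option autoImplicit false

namespace Groth.Agent.Helper9.LhA

open CategoryTheory TopologicalSpace Opposite TopCat Limits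

universe u

variable {X S : TopCat.{u}} (f : X ⟶ S)

/-- a continuous local section of `f` over the open `V` -/
@[ext]
structure LSec (V : Opens S) where
  /-- the underlying function -/
  toFun : V → X
  cont : Continuous toFun
  sec : ∀ v : V, f (toFun v) = v.1

namespace LSec

variable {f}

/-- restriction of a section to a smaller open -/
def res {V V' : Opens S} (σ : LSec f V) (h : V' ≤ V) : LSec f V' where
  toFun v := σ.toFun ⟨v.1, h v.2⟩
  cont := σ.cont.comp (continuous_inclusion h)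
  sec v := σ.sec ⟨v.1, h v.2⟩

lemma res_res {V V' V'' : Opens S} (σ : LSec f V) (h : V' ≤ V) (h' : V'' ≤ V') :
    (σ.res h).res h' = σ.res (h'.trans h) := rfl

lemma res_self {V : Opens S} (σ : LSec f V) (h : V ≤ V) : σ.res h = σ := rfl

lemma res_apply {V V' : Opens S} (σ : LSec f V) (h : V' ≤ V) (v : V') :
    (σ.res h).toFun v = σ.toFun ⟨v.1, h v.2⟩ := rfl

end LSec

variable (G : CohTop.Ab S) (ι : Type)

/-- compatible families indexed by tuples of local sections -/
def CK : AddSubgroup (∀ V : Opens S, (ι → LSec f V) → G.obj.obj (op V)) where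
  carrier := {τ | ∀ (V V' : Opens S) (h : V' ≤ V) (σ : ι → LSec f V),
      G.obj.map (homOfLE h).op (τ V σ) = τ V' (fun i => (σ i).res h)}
  zero_mem' := by
    intro V V' h σ
    exact map_zero _
  add_mem' := by
    intro τ τ' hτ hτ' V V' h σ
    change G.obj.map (homOfLE h).op (τ V σ + τ' V σ) = τ V' _ + τ' V' _
    rw [map_add, hτ V V' h σ, hτ' V V' h σ]
  neg_mem' := by
    intro τ hτ V V' h σ
    change G.obj.map (homOfLE h).op (-(τ V σ)) = -(τ V' _)
    rw [map_neg, hτ V V' h σ]

variable {f G ι}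

lemma CK.compat (τ : CK f G ι) {V V' : Opens S} (h : V' ≤ V) (σ : ι → LSec f V) :
    G.obj.map (homOfLE h).op (τ.1 V σ) = τ.1 V' (fun i => (σ i).res h) :=
  τ.2 V V' h σ

@[ext]
lemma CK.ext {τ τ' : CK f G ι} (h : ∀ V σ, τ.1 V σ = τ'.1 V σ) : τ = τ' :=
  Subtype.ext (funext fun V => funext fun σ => h V σ)

lemma CK.add_apply (τ τ' : CK f G ι) (V : Opens S) (σ : ι → LSec f V) :
    (τ + τ').1 V σ = τ.1 V σ + τ'.1 V σ := rfl

lemma CK.zero_apply (V : Opens S) (σ : ι → LSec f V) :
    (0 : CK f G ι).1 V σ = 0 := rfl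

lemma CK.neg_apply (τ : CK f G ι) (V : Opens S) (σ : ι → LSec f V) :
    (-τ).1 V σ = -(τ.1 V σ) := rfl

lemma CK.sub_apply (τ τ' : CK f G ι) (V : Opens S) (σ : ι → LSec f V) :
    (τ - τ').1 V σ = τ.1 V σ - τ'.1 V σ := rfl

lemma CK.zsmul_apply (n : ℤ) (τ : CK f G ι) (V : Opens S) (σ : ι → LSec f V) :
    (n • τ).1 V σ = n • τ.1 V σ := rfl

lemma CK.sum_apply {κ : Type*} (s : Finset κ) (τ : κ → CK f G ι) (V : Opens S)
    (σ : ι → LSec f V) : (∑ k ∈ s, τ k).1 V σ = ∑ k ∈ s, (τ k).1 V σ := by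
  classical
  induction s using Finset.induction_on with
  | empty => simp [CK.zero_apply]
  | insert a s ha ih => rw [Finset.sum_insert ha, Finset.sum_insert ha, CK.add_apply, ih]

variable (f ι)

/-- functoriality in the sheaf -/
def mapG {G G' : CohTop.Ab S} (φ : G ⟶ G') : CK f G ι →+ CK f G' ι where
  toFun τ := ⟨fun V σ => φ.hom.app (op V) (τ.1 V σ), by
    intro V V' h σ
    have h1 := NatTrans.naturality_apply φ.hom (homOfLE h).op (τ.1 V σ)
    change G'.obj.map (homOfLE h).op (φ.hom.app (op V) (τ.1 V σ)) =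
      φ.hom.app (op V') (τ.1 V' fun i => (σ i).res h)
    rw [← h1, CK.compat τ h σ]⟩
  map_zero' := by
    ext V σ
    exact map_zero _
  map_add' τ τ' := by
    ext V σ
    exact map_add _ _ _

lemma mapG_apply {G G' : CohTop.Ab S} (φ : G ⟶ G') (τ : CK f G ι) (V : Opens S)
    (σ : ι → LSec f V) : (mapG f ι φ τ).1 V σ = φ.hom.app (op V) (τ.1 V σ) := rfl

variable {ι} (G)

/-- functoriality in the index set -/
def mapI {ι ι' : Type} (g : ι → ι') : CK f G ι →+ CK f G ι' where
  toFun τ := ⟨fun V σ => τ.1 V (σ ∘ g), by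
    intro V V' h σ
    exact CK.compat τ h (σ ∘ g)⟩
  map_zero' := rfl
  map_add' _ _ := rfl

lemma mapI_apply {ι ι' : Type} (g : ι → ι') (τ : CK f G ι) (V : Opens S) (σ : ι' → LSec f V) :
    (mapI f G g τ).1 V σ = τ.1 V (σ ∘ g) := rfl

lemma mapI_mapG {ι ι' : Type} (g : ι → ι') {G G' : CohTop.Ab S} (φ : G ⟶ G') (τ : CK f G ι) :
    mapI f G' g (mapG f ι φ τ) = mapG f ι' φ (mapI f G g τ) := rfl

/-- the augmentation from global sections -/
def augHom : G.obj.obj (op ⊤) →+ CK f G (Fin 1) where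
  toFun t := ⟨fun V _ => G.obj.map (homOfLE (le_top : V ≤ ⊤)).op t, by
    intro V V' h σ
    rw [← ConcreteCategory.comp_apply, ← Functor.map_comp]
    rfl⟩
  map_zero' := by
    ext V σ
    exact map_zero _
  map_add' t t' := by
    ext V σ
    exact map_add _ _ _

lemma augHom_apply (t : G.obj.obj (op ⊤)) (V : Opens S) (σ : Fin 1 → LSec f V) :
    (augHom f G t).1 V σ = G.obj.map (homOfLE (le_top : V ≤ ⊤)).op t := rfl

end Groth.Agent.Helper9.LhA
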