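import Mathlib
import Groth.Prelude.Def_CohTop
import Groth.Agent.Helper9.LhA

/-!
# The Čech-type complex of a continuous map with coefficients in an abelian sheaf on the base
-/

set_option autoImplicit false

namespace Groth.Agent.Helper9.LhB

open CategoryTheory TopologicalSpace Opposite TopCat Limits Simplicial
open Groth.Agent.Helper9.LhA

universe u

variable {X S : TopCat.{u}} (f : X ⟶ S)

/-- the cosimplicial abelian group `⦋p⦌ ↦ CK f G (Fin (p + 1))` -/
def cosimp (G : CohTop.Ab S) : CosimplicialObject AddCommGrpCat.{u} where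
  obj n := AddCommGrpCat.of (CK f G (Fin (n.len + 1)))
  map θ := AddCommGrpCat.ofHom (mapI f G θ.toOrderHom)
  map_id n := by
    ext τ
    rfl
  map_comp θ θ' := by
    ext τ
    rfl

/-- functoriality of the cosimplicial group in the sheaf -/
def cosimpFunctor : CohTop.Ab S ⥤ CosimplicialObject AddCommGrpCat.{u} where
  obj G := cosimp f G
  map φ :=
    { app := fun n => AddCommGrpCat.ofHom (mapG f (Fin (n.len + 1)) φ)
      naturality := by
        intro n m θ
        ext τ
        rfl }
  map_id G := by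
    ext n τ
    rfl
  map_comp φ ψ := by
    ext n τ
    rfl

/-- the Čech-type complex -/
noncomputable def Row : CohTop.Ab S ⥤ CochainComplex AddCommGrpCat.{u} ℕ :=
  cosimpFunctor f ⋙ AlgebraicTopology.alternatingCofaceMapComplex AddCommGrpCat.{u}

lemma Row_X (G : CohTop.Ab S) (p : ℕ) :
    ((Row f).obj G).X p = AddCommGrpCat.of (CK f G (Fin (p + 1))) := rfl

/-- the explicit differential -/
def dK (G : CohTop.Ab S) (p : ℕ) : CK f G (Fin (p + 1)) →+ CK f G (Fin (p + 1 + 1)) :=
  ∑ i : Fin (p + 2), ((-1 : ℤ) ^ (i : ℕ)) • mapI f G (Fin.succAbove i)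

lemma Row_d (G : CohTop.Ab S) (p : ℕ) :
    ((Row f).obj G).d p (p + 1) = AddCommGrpCat.ofHom (dK f G p) := by
  change (AlgebraicTopology.AlternatingCofaceMapComplex.obj (cosimp f G)).d p (p + 1) = _
  unfold AlgebraicTopology.AlternatingCofaceMapComplex.obj
  refine (CochainComplex.of_d (V := AddCommGrpCat.{u}) (fun n => (cosimp f G).obj ⦋n⦌)
    (AlgebraicTopology.AlternatingCofaceMapComplex.objD (cosimp f G)) p).trans ?_
  apply AddCommGrpCat.hom_ext
  simp only [AlgebraicTopology.AlternatingCofaceMapComplex.objD, dK]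
  have h1 : (∑ i : Fin (p + 2), ((-1 : ℤ) ^ (i : ℕ)) • (cosimp f G).δ i).hom =
      ∑ i : Fin (p + 2), ((-1 : ℤ) ^ (i : ℕ)) • ((cosimp f G).δ i).hom :=
    (map_sum AddCommGrpCat.homAddEquiv _ _).trans
      (Finset.sum_congr rfl fun i _ => AddCommGrpCat.hom_zsmul _ _)
  refine h1.trans ?_
  rfl

end Groth.Agent.Helper9.LhB
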