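import Mathlib
import Groth.Prelude.Def_CohTop
import Groth.Agent.Helper9.CCovLoc

/-!
# Pointwise sheaves and the Godement embedding (concrete form)
-/

set_option autoImplicit false

namespace Groth.Agent.Helper9.LhC

open CategoryTheory TopologicalSpace Opposite TopCat Limits

universe u

variable {S : TopCat.{u}} (A : S → Type u) [∀ s, AddCommGroup (A s)]

/-- restriction of families -/
def resHom {V V' : Opens S} (h : V' ≤ V) : (∀ s : V, A s.1) →+ (∀ s : V', A s.1) where
  toFun t s := t ⟨s.1, h s.2⟩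
  map_zero' := rfl
  map_add' _ _ := rfl

/-- The presheaf `V ↦ ∏_{s ∈ V} A s`. -/
def ptwPresheaf : TopCat.Presheaf AddCommGrpCat.{u} S where
  obj V := AddCommGrpCat.of (∀ s : V.unop, A s.1)
  map {V V'} i := AddCommGrpCat.ofHom (resHom A (leOfHom i.unop))
  map_id _ := rfl
  map_comp _ _ := rfl

lemma ptwPresheaf_isSheaf : (ptwPresheaf A).IsSheaf := by
  rw [TopCat.Presheaf.isSheaf_iff_isSheafUniqueGluing]
  intro ι U sf hsf
  let sf' : ∀ i, ∀ s : U i, A s.1 := fun i => sf i
  have hcompat : ∀ (i j : ι) (s : S) (hi : s ∈ U i) (hj : s ∈ U j),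
      sf' i ⟨s, hi⟩ = sf' j ⟨s, hj⟩ := by
    intro i j s hi hj
    have := congrFun (hsf i j) ⟨s, ⟨hi, hj⟩⟩
    exact this
  let t : ∀ s : (iSup U : Opens S), A s.1 := fun s =>
    sf' (Opens.mem_iSup.1 s.2).choose ⟨s.1, (Opens.mem_iSup.1 s.2).choose_spec⟩
  refine ⟨t, ?_, ?_⟩
  · intro i
    funext s
    exact hcompat _ i s.1 _ s.2
  · intro t' ht'
    funext s
    have := congrFun (ht' (Opens.mem_iSup.1 s.2).choose)
      ⟨s.1, (Opens.mem_iSup.1 s.2).choose_spec⟩
    exact this

/-- The pointwise sheaf. -/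
def ptw : CohTop.Ab S := ⟨ptwPresheaf A, ptwPresheaf_isSheaf A⟩

lemma ptw_res {V V' : Opens S} (h : V' ≤ V) (t : (ptw A).obj.obj (op V)) (s : S) (hs : s ∈ V') :
    ((ptw A).obj.map (homOfLE h).op t : ∀ s : V', A s.1) ⟨s, hs⟩ =
      (t : ∀ s : V, A s.1) ⟨s, h hs⟩ := rfl

section God

variable (G : TopCat.Sheaf AddCommGrpCat.{u} S)

/-- the Godement map `G ⟶ ∏_s G_s` -/
noncomputable def god : G ⟶ ptw (fun s => G.presheaf.stalk s) :=
  ⟨{ app := fun V => AddCommGrpCat.ofHom
      { toFun := fun t s => G.presheaf.germ V.unop s.1 s.2 t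
        map_zero' := by
          funext s
          exact map_zero _
        map_add' := fun a b => by
          funext s
          exact map_add _ _ _ }
     naturality := by
      intro V V' i
      ext t
      funext s
      change G.presheaf.germ V'.unop s.1 s.2 (G.obj.map i t) =
        G.presheaf.germ V.unop s.1 (leOfHom i.unop s.2) t
      rw [TopCat.Presheaf.germ_res_apply'] }⟩

lemma god_app (V : Opens S) (t : G.obj.obj (op V)) (s : S) (hs : s ∈ V) :
    ((god G).hom.app (op V) t : ∀ s : V, G.presheaf.stalk s.1) ⟨s, hs⟩ = G.presheaf.germ V s hs t := rfl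

instance mono_god : Mono (god G) := by
  apply CCovLoc.mono_of_injective
  intro W
  rw [injective_iff_map_eq_zero]
  intro t ht
  apply TopCat.Presheaf.section_ext G W
  intro s hs
  have := congrFun ht ⟨s, hs⟩
  rw [map_zero]
  exact this

/-- an injective sheaf is a retract of its Godement sheaf -/
lemma exists_retraction (I : CohTop.Ab S) [hI : Injective I] :
    ∃ r : ptw (fun s => (TopCat.Presheaf.stalk (C := AddCommGrpCat.{u}) I.obj s :
      AddCommGrpCat.{u})) ⟶ I, god I ≫ r = 𝟙 I := by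
  have h := mono_god I
  exact @Injective.factors _ _ I hI _ _ (𝟙 I) (god I) h

end God

end Groth.Agent.Helper9.LhC
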