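import Mathlib
import Groth.Prelude.Def_CohTop
import Groth.Agent.Helper9.LhA
import Groth.Agent.Helper9.LhB
import Groth.Agent.Helper9.LhC

/-!
# Exactness of the Čech-type complex of a map with local sections, for pointwise sheaves
-/

set_option autoImplicit false

namespace Groth.Agent.Helper9.LhD

open CategoryTheory TopologicalSpace Opposite TopCat Limits
open Groth.Agent.Helper9.LhA Groth.Agent.Helper9.LhB Groth.Agent.Helper9.LhC

universe u

variable {X S : TopCat.{u}} (f : X ⟶ S) (A : S → Type u) [∀ s, AddCommGroup (A s)]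

section Ev

variable {f A} {ι : Type}

/-- evaluation of a family at a point -/
def ev (τ : CK f (ptw A) ι) (V : Opens S) (σ : ι → LSec f V) (s : S) (hs : s ∈ V) : A s :=
  (τ.1 V σ : ∀ s : V, A s.1) ⟨s, hs⟩

lemma ev_res (τ : CK f (ptw A) ι) {V V' : Opens S} (h : V' ≤ V) (σ : ι → LSec f V) (s : S)
    (hs : s ∈ V') : ev τ V' (fun i => (σ i).res h) s hs = ev τ V σ s (h hs) := by
  unfold ev
  rw [← CK.compat τ h σ]
  rfl

lemma ext_ev {τ τ' : CK f (ptw A) ι}
    (h : ∀ V σ s hs, ev τ V σ s hs = ev τ' V σ s hs) : τ = τ' := by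
  ext V σ
  funext s
  exact h V σ s.1 s.2

lemma ev_add (τ τ' : CK f (ptw A) ι) (V : Opens S) (σ : ι → LSec f V) (s : S) (hs : s ∈ V) :
    ev (τ + τ') V σ s hs = ev τ V σ s hs + ev τ' V σ s hs := rfl

lemma ev_zero (V : Opens S) (σ : ι → LSec f V) (s : S) (hs : s ∈ V) :
    ev (0 : CK f (ptw A) ι) V σ s hs = 0 := rfl

lemma ev_neg (τ : CK f (ptw A) ι) (V : Opens S) (σ : ι → LSec f V) (s : S) (hs : s ∈ V) :
    ev (-τ) V σ s hs = -ev τ V σ s hs := rfl

lemma ev_zsmul (n : ℤ) (τ : CK f (ptw A) ι) (V : Opens S) (σ : ι → LSec f V) (s : S)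
    (hs : s ∈ V) : ev (n • τ) V σ s hs = n • ev τ V σ s hs := rfl

lemma ev_sum {κ : Type*} (t : Finset κ) (τ : κ → CK f (ptw A) ι) (V : Opens S)
    (σ : ι → LSec f V) (s : S) (hs : s ∈ V) :
    ev (∑ k ∈ t, τ k) V σ s hs = ∑ k ∈ t, ev (τ k) V σ s hs := by
  classical
  induction t using Finset.induction_on with
  | empty => simp [ev_zero]
  | insert a t ha ih => rw [Finset.sum_insert ha, Finset.sum_insert ha, ev_add, ih]

lemma ev_mapI {ι' : Type} (g : ι → ι') (τ : CK f (ptw A) ι) (V : Opens S) (σ : ι' → LSec f V)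
    (s : S) (hs : s ∈ V) : ev (mapI f (ptw A) g τ) V σ s hs = ev τ V (σ ∘ g) s hs := rfl

end Ev

/-- a choice of local sections around every point of the base -/
structure Sections where
  V : S → Opens S
  mem : ∀ s, s ∈ V s
  ε : ∀ s, LSec f (V s)

variable {f} (E : Sections f)

/-- the tuple obtained by adding the chosen section at `s` -/
def consTup {n : ℕ} {V : Opens S} (s : S) (σ : Fin n → LSec f V) :
    Fin (n + 1) → LSec f (V ⊓ E.V s) :=
  Fin.cons ((E.ε s).res inf_le_right) (fun i => (σ i).res inf_le_left)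

lemma consTup_res {n : ℕ} {V V' : Opens S} (h : V' ≤ V) (s : S) (σ : Fin n → LSec f V) :
    (fun i => (consTup E s σ i).res (inf_le_inf_right (E.V s) h)) =
      consTup E s (fun i => (σ i).res h) := by
  funext i
  refine Fin.cases ?_ (fun j => ?_) i
  · rfl
  · rfl

lemma consTup_comp_succ {n : ℕ} {V : Opens S} (s : S) (σ : Fin n → LSec f V) :
    consTup E s σ ∘ Fin.succ = fun i => (σ i).res inf_le_left := by
  funext i
  rfl

lemma consTup_comp_succAbove {n : ℕ} {V : Opens S} (s : S) (σ : Fin (n + 1) → LSec f V)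
    (i : Fin (n + 1)) :
    consTup E s σ ∘ i.succ.succAbove = consTup E s (σ ∘ i.succAbove) := by
  unfold consTup
  rw [Fin.cons_comp_succ_succAbove]
  rfl

variable {A}

/-- the contracting homotopy -/
def hK (n : ℕ) : CK f (ptw A) (Fin (n + 1)) →+ CK f (ptw A) (Fin n) where
  toFun τ := ⟨fun V σ => (fun s : V => ev τ (V ⊓ E.V s.1) (consTup E s.1 σ) s.1 ⟨s.2, E.mem s.1⟩), by
    intro V V' h σ
    funext s
    change ev τ (V ⊓ E.V s.1) (consTup E s.1 σ) s.1 ⟨h s.2, E.mem s.1⟩ =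
      ev τ (V' ⊓ E.V s.1) (consTup E s.1 (fun i => (σ i).res h)) s.1 ⟨s.2, E.mem s.1⟩
    rw [← consTup_res E h s.1 σ, ev_res]⟩
  map_zero' := by
    apply ext_ev
    intro V σ s hs
    rfl
  map_add' τ τ' := by
    apply ext_ev
    intro V σ s hs
    rfl

lemma ev_hK (n : ℕ) (τ : CK f (ptw A) (Fin (n + 1))) (V : Opens S) (σ : Fin n → LSec f V)
    (s : S) (hs : s ∈ V) :
    ev (hK E n τ) V σ s hs = ev τ (V ⊓ E.V s) (consTup E s σ) s ⟨hs, E.mem s⟩ := rfl

lemma ev_dK (p : ℕ) (τ : CK f (ptw A) (Fin (p + 1))) (V : Opens S)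
    (σ : Fin (p + 1 + 1) → LSec f V) (s : S) (hs : s ∈ V) :
    ev (dK f (ptw A) p τ) V σ s hs =
      ∑ i : Fin (p + 2), ((-1 : ℤ) ^ (i : ℕ)) • ev τ V (σ ∘ Fin.succAbove i) s hs := by
  unfold dK
  rw [AddMonoidHom.finset_sum_apply, ev_sum]
  rfl

/-- the homotopy identity -/
theorem homotopy (p : ℕ) (τ : CK f (ptw A) (Fin (p + 1 + 1))) :
    dK f (ptw A) p (hK E (p + 1) τ) + hK E (p + 1 + 1) (dK f (ptw A) (p + 1) τ) = τ := by
  apply ext_ev
  intro V σ s hs
  have key : ev (hK E (p + 1 + 1) (dK f (ptw A) (p + 1) τ)) V σ s hs =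
      ev τ V σ s hs - ev (dK f (ptw A) p (hK E (p + 1) τ)) V σ s hs := by
    rw [ev_hK, ev_dK (p + 1) τ, Fin.sum_univ_succ, ev_dK p (hK E (p + 1) τ)]
    have h0 : ev τ (V ⊓ E.V s) (consTup E s σ ∘ Fin.succAbove 0) s ⟨hs, E.mem s⟩ =
        ev τ V σ s hs := by
      have : consTup E s σ ∘ Fin.succAbove (0 : Fin (p + 1 + 1 + 1)) =
          fun i => (σ i).res inf_le_left := consTup_comp_succ E s σ
      rw [this, ev_res]
    have h1 : ∀ i : Fin (p + 2),
        ((-1 : ℤ) ^ ((i.succ : Fin (p + 1 + 1 + 1)) : ℕ)) •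
          ev τ (V ⊓ E.V s) (consTup E s σ ∘ Fin.succAbove i.succ) s ⟨hs, E.mem s⟩ =
        -(((-1 : ℤ) ^ (i : ℕ)) • ev (hK E (p + 1) τ) V (σ ∘ Fin.succAbove i) s hs) := by
      intro i
      rw [consTup_comp_succAbove, ev_hK, Fin.val_succ, pow_succ, mul_neg_one, neg_smul]
    rw [h0, Finset.sum_congr rfl (fun i _ => h1 i), Finset.sum_neg_distrib]
    simp [sub_eq_add_neg]
  rw [ev_add, key]
  abel

/-- the contraction in degree `-1` -/
def h0 : CK f (ptw A) (Fin 1) →+ (ptw A).obj.obj (op ⊤) where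
  toFun τ := (fun s : (⊤ : Opens S) => ev τ (E.V s.1) (fun _ => E.ε s.1) s.1 (E.mem s.1))
  map_zero' := rfl
  map_add' _ _ := rfl

lemma h0_apply (τ : CK f (ptw A) (Fin 1)) (s : S) :
    (h0 E τ : ∀ s : (⊤ : Opens S), A s.1) ⟨s, True.intro⟩ =
      ev τ (E.V s) (fun _ => E.ε s) s (E.mem s) := rfl

lemma ev_augHom (t : (ptw A).obj.obj (op ⊤)) (V : Opens S) (σ : Fin 1 → LSec f V) (s : S)
    (hs : s ∈ V) :
    ev (augHom f (ptw A) t) V σ s hs = (t : ∀ s : (⊤ : Opens S), A s.1) ⟨s, True.intro⟩ := rfl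

lemma h0_augHom (t : (ptw A).obj.obj (op ⊤)) : h0 E (augHom f (ptw A) t) = t := rfl

theorem homotopy₀ (τ : CK f (ptw A) (Fin 1)) :
    augHom f (ptw A) (h0 E τ) + hK E 1 (dK f (ptw A) 0 τ) = τ := by
  apply ext_ev
  intro V σ s hs
  rw [ev_add, ev_augHom, h0_apply, ev_hK, ev_dK 0 τ, Fin.sum_univ_two]
  have e0 : ev τ (V ⊓ E.V s) (consTup E s σ ∘ Fin.succAbove 0) s ⟨hs, E.mem s⟩ =
      ev τ V σ s hs := by
    have : consTup E s σ ∘ Fin.succAbove (0 : Fin 2) =
        fun i => (σ i).res inf_le_left := consTup_comp_succ E s σ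
    rw [this, ev_res]
  have e1 : ev τ (V ⊓ E.V s) (consTup E s σ ∘ Fin.succAbove 1) s ⟨hs, E.mem s⟩ =
      ev τ (E.V s) (fun _ => E.ε s) s (E.mem s) := by
    have : consTup E s σ ∘ Fin.succAbove (1 : Fin 2) =
        fun i => ((fun _ : Fin 1 => E.ε s) i).res inf_le_right := by
      funext i
      fin_cases i
      rfl
    rw [this, ev_res]
  rw [e0, e1]
  simp

end Groth.Agent.Helper9.LhD
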