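import Mathlib
import Groth.Prelude.Def_CohTop
import Groth.Agent.Helper9.LhD

/-!
# Exactness of the Čech-type complex of a map with local sections, for injective sheaves
-/

set_option autoImplicit false

namespace Groth.Agent.Helper9.LhE

open CategoryTheory TopologicalSpace Opposite TopCat Limits
open Groth.Agent.Helper9.LhA Groth.Agent.Helper9.LhB Groth.Agent.Helper9.LhC
  Groth.Agent.Helper9.LhD

universe u

variable {X S : TopCat.{u}} (f : X ⟶ S)

lemma dK_apply (G : CohTop.Ab S) (p : ℕ) (τ : CK f G (Fin (p + 1))) (V : Opens S)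
    (σ : Fin (p + 1 + 1) → LSec f V) :
    (dK f G p τ).1 V σ =
      ∑ i : Fin (p + 2), ((-1 : ℤ) ^ (i : ℕ)) • τ.1 V (σ ∘ Fin.succAbove i) := by
  unfold dK
  rw [AddMonoidHom.finset_sum_apply, CK.sum_apply]
  rfl

lemma dK_mapG {G G' : CohTop.Ab S} (φ : G ⟶ G') (p : ℕ) (τ : CK f G (Fin (p + 1))) :
    dK f G' p (mapG f _ φ τ) = mapG f _ φ (dK f G p τ) := by
  ext V σ
  rw [dK_apply, mapG_apply, dK_apply, map_sum]
  refine Finset.sum_congr rfl fun i _ => ?_
  rw [map_zsmul]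
  rfl

lemma augHom_mapG {G G' : CohTop.Ab S} (φ : G ⟶ G') (t : G.obj.obj (op ⊤)) :
    augHom f G' (φ.hom.app (op ⊤) t) = mapG f _ φ (augHom f G t) := by
  ext V σ
  rw [augHom_apply, mapG_apply, augHom_apply]
  exact (NatTrans.naturality_apply φ.hom (homOfLE (le_top : V ≤ ⊤)).op t).symm

lemma mapG_id (G : CohTop.Ab S) (ι : Type) (τ : CK f G ι) : mapG f ι (𝟙 G) τ = τ := rfl

lemma mapG_comp {G G' G'' : CohTop.Ab S} (φ : G ⟶ G') (ψ : G' ⟶ G'') (ι : Type) (τ : CK f G ι) :
    mapG f ι (φ ≫ ψ) τ = mapG f ι ψ (mapG f ι φ τ) := rfl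

/-- exactness of the augmented Čech-type complex -/
structure RowExact (G : CohTop.Ab S) : Prop where
  inj : Function.Injective (augHom f G)
  ex0 : ∀ τ : CK f G (Fin 1), dK f G 0 τ = 0 → ∃ t, augHom f G t = τ
  ex : ∀ (p : ℕ) (τ : CK f G (Fin (p + 1 + 1))), dK f G (p + 1) τ = 0 → ∃ y, dK f G p y = τ

variable {f}

theorem rowExact_ptw (E : Sections f) (A : S → Type u) [∀ s, AddCommGroup (A s)] :
    RowExact f (ptw A) where
  inj := by
    intro t t' h
    have := congrArg (h0 E) h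
    rwa [h0_augHom, h0_augHom] at this
  ex0 τ hτ := by
    refine ⟨h0 E τ, ?_⟩
    have := homotopy₀ E τ
    rwa [hτ, map_zero, add_zero] at this
  ex p τ hτ := by
    refine ⟨hK E (p + 1) τ, ?_⟩
    have := homotopy E p τ
    rwa [hτ, map_zero, add_zero] at this

theorem rowExact_of_retract {G G' : CohTop.Ab S} (i : G ⟶ G') (r : G' ⟶ G) (h : i ≫ r = 𝟙 G)
    (hG' : RowExact f G') : RowExact f G where
  inj := by
    intro t t' ht
    have h1 : augHom f G' (i.hom.app (op ⊤) t) = augHom f G' (i.hom.app (op ⊤) t') := by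
      rw [augHom_mapG, augHom_mapG, ht]
    have h2 := hG'.inj h1
    have h3 := congrArg (fun z => r.hom.app (op ⊤) z) h2
    have h4 : ∀ z : G.obj.obj (op ⊤), r.hom.app (op ⊤) (i.hom.app (op ⊤) z) = z := by
      intro z
      have := congrArg (fun φ : G ⟶ G => φ.hom.app (op ⊤) z) h
      exact this
    simpa only [h4] using h3
  ex0 τ hτ := by
    have h1 : dK f G' 0 (mapG f _ i τ) = 0 := by
      rw [dK_mapG, hτ, map_zero]
    obtain ⟨t, ht⟩ := hG'.ex0 _ h1
    refine ⟨r.hom.app (op ⊤) t, ?_⟩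
    rw [augHom_mapG, ht, ← mapG_comp, h, mapG_id]
  ex p τ hτ := by
    have h1 : dK f G' (p + 1) (mapG f _ i τ) = 0 := by
      rw [dK_mapG, hτ, map_zero]
    obtain ⟨y, hy⟩ := hG'.ex p _ h1
    refine ⟨mapG f _ r y, ?_⟩
    rw [dK_mapG, hy, ← mapG_comp, h, mapG_id]

theorem rowExact_of_injective (E : Sections f) (I : CohTop.Ab S) [Injective I] :
    RowExact f I := by
  obtain ⟨r, hr⟩ := exists_retraction I
  exact rowExact_of_retract (god I) r hr (rowExact_ptw E _)

end Groth.Agent.Helper9.LhE
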