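import Mathlib
import Groth.Prelude.Def_CohTop
import Groth.Agent.Helper9.LhA
import Groth.Agent.Helper9.SoftA
import Groth.Agent.Helper9.SoftD
import Groth.Agent.Helper9.SoftF
import Groth.Agent.Helper9.SoftG

/-!
# Sections of an inverse image sheaf over the image of a local section
-/

set_option autoImplicit false

namespace Groth.Agent.Helper9.LhF

open CategoryTheory TopologicalSpace Opposite TopCat Limits
open Groth.Agent.Helper9.LhA Groth.Agent.Helper9.SoftA

universe u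

variable {T S : TopCat.{u}} (a : T ⟶ S) (G : TopCat.Sheaf AddCommGrpCat.{u} S)

/-- restriction of the unit to an open of `T` lying over `V` -/
noncomputable def locN (V : Opens S) (N : Opens T) (hN : N ≤ (Opens.map a).obj V) :
    G.obj.obj (op V) →+ (pb a G).obj.obj (op N) :=
  ((pb a G).obj.map (homOfLE hN).op).hom.comp (η a G V)

lemma locN_apply (V : Opens S) (N : Opens T) (hN : N ≤ (Opens.map a).obj V)
    (t : G.obj.obj (op V)) :
    locN a G V N hN t = (pb a G).obj.map (homOfLE hN).op (η a G V t) := rfl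

lemma locN_res {V V' : Opens S} (hV : V' ≤ V) {N N' : Opens T} (hNN : N' ≤ N)
    (hN : N ≤ (Opens.map a).obj V) (hN' : N' ≤ (Opens.map a).obj V') (t : G.obj.obj (op V)) :
    locN a G V' N' hN' (G.obj.map (homOfLE hV).op t) =
      (pb a G).obj.map (homOfLE hNN).op (locN a G V N hN t) := by
  rw [locN_apply, locN_apply, η_res a G (homOfLE hV), SoftD.map_map,
    ← ConcreteCategory.comp_apply, ← Functor.map_comp]
  rfl

lemma germ_locN (V : Opens S) (N : Opens T) (hN : N ≤ (Opens.map a).obj V)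
    (t : G.obj.obj (op V)) (x : T) (hx : x ∈ N) :
    (pb a G).presheaf.germ N x hx (locN a G V N hN t) =
      (pb a G).presheaf.germ ((Opens.map a).obj V) x (hN hx) (η a G V t) :=
  TopCat.Presheaf.germ_res_apply (pb a G).presheaf (homOfLE hN) x hx (η a G V t)

lemma germ_congr_pt {s s' : S} (e : s = s') {V : Opens S} (hs : s ∈ V) (t t' : G.obj.obj (op V))
    (h : G.presheaf.germ V s hs t = G.presheaf.germ V s hs t') :
    G.presheaf.germ V s' (e ▸ hs) t = G.presheaf.germ V s' (e ▸ hs) t' := by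
  subst e
  exact h

variable {a}

/-- preimage of an open of `T` under a local section, as an open of `S` -/
def preim {V : Opens S} (σ : LSec a V) (N : Opens T) : Opens S :=
  ⟨Subtype.val '' (σ.toFun ⁻¹' (N : Set T)),
    V.isOpen.isOpenMap_subtype_val _ (N.isOpen.preimage σ.cont)⟩

lemma mem_preim {V : Opens S} (σ : LSec a V) (N : Opens T) (s : S) :
    s ∈ preim σ N ↔ ∃ hs : s ∈ V, σ.toFun ⟨s, hs⟩ ∈ N := by
  constructor
  · rintro ⟨v, hv, rfl⟩
    exact ⟨v.2, hv⟩
  · rintro ⟨hs, h⟩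
    exact ⟨⟨s, hs⟩, h, rfl⟩

lemma preim_le {V : Opens S} (σ : LSec a V) (N : Opens T) : preim σ N ≤ V := by
  intro s hs
  exact ((mem_preim σ N s).1 hs).1

lemma preim_mono {V : Opens S} (σ : LSec a V) {N N' : Opens T} (h : N' ≤ N) :
    preim σ N' ≤ preim σ N := by
  intro s hs
  obtain ⟨hs1, hs2⟩ := (mem_preim σ N' s).1 hs
  exact (mem_preim σ N s).2 ⟨hs1, h hs2⟩

/-- an open contained in the image of `σ` lies over its preimage -/
lemma le_map_preim {V : Opens S} (σ : LSec a V) {N : Opens T}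
    (hN : (N : Set T) ⊆ Set.range σ.toFun) : N ≤ (Opens.map a).obj (preim σ N) := by
  intro x hx
  obtain ⟨v, rfl⟩ := hN hx
  show a (σ.toFun v) ∈ preim σ N
  rw [σ.sec v]
  exact (mem_preim σ N v.1).2 ⟨v.2, hx⟩

/-- an open contained in the image of `σ` is the image of the restriction of `σ` to its preimage -/
lemma eq_range_res {V : Opens S} (σ : LSec a V) {N : Opens T}
    (hN : (N : Set T) ⊆ Set.range σ.toFun) :
    (N : Set T) = Set.range (σ.res (preim_le σ N)).toFun := by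
  ext x
  constructor
  · intro hx
    obtain ⟨v, rfl⟩ := hN hx
    exact ⟨⟨v.1, (mem_preim σ N v.1).2 ⟨v.2, hx⟩⟩, rfl⟩
  · rintro ⟨v, rfl⟩
    obtain ⟨hs1, hs2⟩ := (mem_preim σ N v.1).1 v.2
    exact hs2

variable (a)

theorem locN_injective {V : Opens S} (σ : LSec a V) (N : Opens T)
    (hN : (N : Set T) = Set.range σ.toFun) (hNV : N ≤ (Opens.map a).obj V) :
    Function.Injective (locN a G V N hNV) := by
  rw [injective_iff_map_eq_zero]
  intro t ht
  apply TopCat.Presheaf.section_ext G V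
  intro s hs
  have hx : σ.toFun ⟨s, hs⟩ ∈ N := by
    show σ.toFun ⟨s, hs⟩ ∈ (N : Set T)
    rw [hN]
    exact Set.mem_range_self _
  have e : a (σ.toFun ⟨s, hs⟩) = s := σ.sec ⟨s, hs⟩
  have h1 := germ_locN a G V N hNV t _ hx
  have h2 := germ_locN a G V N hNV 0 _ hx
  rw [ht] at h1
  rw [map_zero] at h2
  have h3 := germ_inj a G (σ.toFun ⟨s, hs⟩) (hNV hx) (hNV hx) t 0 (h1.symm.trans h2)
  exact germ_congr_pt G e (hNV hx) t 0 h3

variable {a} in
/-- the restriction of `σ` to the preimage of `N ⊓ N'` has image `N ⊓ N'` -/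
lemma inf_eq_range {V : Opens S} (σ : LSec a V) {M M' : Opens T}
    (hM : (M : Set T) ⊆ Set.range σ.toFun) :
    ((M ⊓ M' : Opens T) : Set T) ⊆ Set.range σ.toFun := fun _ hx => hM hx.1

variable {a} in
lemma preim_inf {V : Opens S} (σ : LSec a V) (M M' : Opens T) :
    preim σ (M ⊓ M') = preim σ M ⊓ preim σ M' := by
  ext s
  constructor
  · intro hs
    obtain ⟨hs1, hs2⟩ := (mem_preim σ _ s).1 hs
    exact ⟨(mem_preim σ M s).2 ⟨hs1, hs2.1⟩, (mem_preim σ M' s).2 ⟨hs1, hs2.2⟩⟩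
  · rintro ⟨h1, h2⟩
    obtain ⟨hs1, hs2⟩ := (mem_preim σ M s).1 h1
    obtain ⟨hs1', hs2'⟩ := (mem_preim σ M' s).1 h2
    exact (mem_preim σ _ s).2 ⟨hs1, hs2, hs2'⟩

theorem locN_surjective {V : Opens S} (σ : LSec a V) (N : Opens T)
    (hN : (N : Set T) = Set.range σ.toFun) (hNV : N ≤ (Opens.map a).obj V) :
    Function.Surjective (locN a G V N hNV) := by
  intro γ
  have hxN : ∀ v : V, σ.toFun v ∈ N := by
    intro v
    show σ.toFun v ∈ (N : Set T)
    rw [hN]
    exact Set.mem_range_self _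
  -- local data
  have hloc : ∀ v : V, ∃ (U : Opens S) (t : G.obj.obj (op U)) (M : Opens T)
      (_ : σ.toFun v ∈ M) (i₁ : M ≤ N) (i₂ : M ≤ (Opens.map a).obj U),
      (pb a G).obj.map (homOfLE i₁).op γ = (pb a G).obj.map (homOfLE i₂).op (η a G U t) := by
    intro v
    obtain ⟨U, hU, t, e⟩ := germ_surj a G (σ.toFun v) N (hxN v) γ
    obtain ⟨M, hM, i₁, i₂, e'⟩ := (pb a G).presheaf.germ_eq (σ.toFun v) (hxN v) hU _ _ e
    exact ⟨U, t, M, hM, i₁.le, i₂.le, e'⟩
  choose U t M hM i₁ i₂ e using hloc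
  have hMr : ∀ v, ((M v : Opens T) : Set T) ⊆ Set.range σ.toFun := by
    intro v x hx
    have : x ∈ (N : Set T) := i₁ v hx
    rwa [hN] at this
  -- the opens downstairs
  let W : V → Opens S := fun v => preim σ (M v)
  have hWV : ∀ v, W v ≤ V := fun v => preim_le σ (M v)
  have hWU : ∀ v, W v ≤ U v := by
    intro v s hs
    obtain ⟨hs1, hs2⟩ := (mem_preim σ (M v) s).1 hs
    have h3 : a (σ.toFun ⟨s, hs1⟩) ∈ U v := i₂ v hs2
    rwa [σ.sec ⟨s, hs1⟩] at h3
  have hvW : ∀ v : V, v.1 ∈ W v := fun v => (mem_preim σ (M v) v.1).2 ⟨v.2, hM v⟩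
  have hMW : ∀ v, M v ≤ (Opens.map a).obj (W v) := fun v => le_map_preim σ (hMr v)
  let sf : ∀ v : V, G.obj.obj (op (W v)) := fun v => G.obj.map (homOfLE (hWU v)).op (t v)
  have hsf : ∀ v, locN a G (W v) (M v) (hMW v) (sf v) = (pb a G).obj.map (homOfLE (i₁ v)).op γ := by
    intro v
    rw [e v]
    exact locN_res a G (hWU v) le_rfl (i₂ v) (hMW v) (t v) |>.trans (by
      rw [locN_apply, SoftD.map_map])
  -- compatibility
  have hcompat : TopCat.Presheaf.IsCompatible G.presheaf W sf := by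
    intro v v'
    let σ₂ : LSec a (W v ⊓ W v') := σ.res (inf_le_left.trans (hWV v))
    have hM₂ : ((M v ⊓ M v' : Opens T) : Set T) = Set.range σ₂.toFun := by
      have h1 := eq_range_res σ (inf_eq_range σ (M' := M v') (hMr v))
      rw [h1]
      have h2 : preim σ (M v ⊓ M v') = W v ⊓ W v' := preim_inf σ (M v) (M v')
      ext x
      constructor
      · rintro ⟨w, rfl⟩
        exact ⟨⟨w.1, h2 ▸ w.2⟩, rfl⟩
      · rintro ⟨w, rfl⟩
        exact ⟨⟨w.1, h2.symm ▸ w.2⟩, rfl⟩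
    have hle : M v ⊓ M v' ≤ (Opens.map a).obj (W v ⊓ W v') := fun x hx =>
      ⟨hMW v hx.1, hMW v' hx.2⟩
    apply locN_injective a G σ₂ (M v ⊓ M v') hM₂ hle
    have e1 := locN_res a G (inf_le_left : W v ⊓ W v' ≤ W v) (inf_le_left : M v ⊓ M v' ≤ M v)
      (hMW v) hle (sf v)
    have e2 := locN_res a G (inf_le_right : W v ⊓ W v' ≤ W v') (inf_le_right : M v ⊓ M v' ≤ M v')
      (hMW v') hle (sf v')
    refine e1.trans (Eq.trans ?_ e2.symm)
    rw [hsf v, hsf v', SoftD.map_map, SoftD.map_map]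
  -- gluing
  have hcover : V ≤ iSup W := by
    intro s hs
    exact Opens.mem_iSup.2 ⟨⟨s, hs⟩, hvW ⟨s, hs⟩⟩
  obtain ⟨g, hg, -⟩ := G.existsUnique_gluing' W V (fun v => homOfLE (hWV v)) hcover sf hcompat
  refine ⟨g, ?_⟩
  have hcover' : N ≤ iSup M := by
    intro x hx
    have hx' : x ∈ (N : Set T) := hx
    rw [hN] at hx'
    obtain ⟨v, rfl⟩ := hx'
    exact Opens.mem_iSup.2 ⟨v, hM v⟩
  apply (pb a G).eq_of_locally_eq' M N (fun v => homOfLE (i₁ v)) hcover'
  intro v
  have e3 := locN_res a G (hWV v) (i₁ v) hNV (hMW v) g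
  refine e3.symm.trans ?_
  rw [hg v]
  exact hsf v

end Groth.Agent.Helper9.LhF
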