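import Mathlib
import Groth.Prelude.Def_CohTop
import Groth.Agent.Helper9.LhF

/-!
# Global sections of the inverse image along an étale map as families over local sections
-/

set_option autoImplicit false

namespace Groth.Agent.Helper9.LhG

open CategoryTheory TopologicalSpace Opposite TopCat Limits
open Groth.Agent.Helper9.LhA Groth.Agent.Helper9.SoftA Groth.Agent.Helper9.LhF

universe u

variable {T S : TopCat.{u}} (a : T ⟶ S)

/-- the properties of a local homeomorphism we use: images of local sections are open and cover -/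
structure IsEt : Prop where
  isOpen_range : ∀ (V : Opens S) (σ : LSec a V), IsOpen (Set.range σ.toFun)
  exists_sec : ∀ x : T, ∃ (V : Opens S) (σ : LSec a V) (v : V), σ.toFun v = x

variable {a} (ha : IsEt a)

/-- the image of a local section, as an open of `T` -/
def W {V : Opens S} (σ : LSec a V) : Opens T := ⟨Set.range σ.toFun, ha.isOpen_range V σ⟩

lemma coe_W {V : Opens S} (σ : LSec a V) : ((W ha σ : Opens T) : Set T) = Set.range σ.toFun := rfl

lemma W_le {V : Opens S} (σ : LSec a V) : W ha σ ≤ (Opens.map a).obj V := by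
  rintro x ⟨v, rfl⟩
  show a (σ.toFun v) ∈ V
  rw [σ.sec v]
  exact v.2

lemma W_res_le {V V' : Opens S} (σ : LSec a V) (h : V' ≤ V) : W ha (σ.res h) ≤ W ha σ := by
  rintro x ⟨v, rfl⟩
  exact ⟨⟨v.1, h v.2⟩, rfl⟩

variable (G : TopCat.Sheaf AddCommGrpCat.{u} S)

/-- sections of `G` over `V` are sections of the inverse image over the image of `σ` -/
noncomputable def locEquiv {V : Opens S} (σ : LSec a V) :
    G.obj.obj (op V) ≃+ (pb a G).obj.obj (op (W ha σ)) :=
  AddEquiv.ofBijective (locN a G V (W ha σ) (W_le ha σ))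
    ⟨locN_injective a G σ (W ha σ) (coe_W ha σ) (W_le ha σ),
      locN_surjective a G σ (W ha σ) (coe_W ha σ) (W_le ha σ)⟩

lemma locEquiv_apply {V : Opens S} (σ : LSec a V) (t : G.obj.obj (op V)) :
    locEquiv ha G σ t = locN a G V (W ha σ) (W_le ha σ) t := rfl

lemma locEquiv_res {V V' : Opens S} (σ : LSec a V) (h : V' ≤ V) (t : G.obj.obj (op V)) :
    locEquiv ha G (σ.res h) (G.obj.map (homOfLE h).op t) =
      (pb a G).obj.map (homOfLE (W_res_le ha σ h)).op (locEquiv ha G σ t) :=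
  locN_res a G h (W_res_le ha σ h) (W_le ha σ) (W_le ha (σ.res h)) t

/-- the family attached to a global section of the inverse image -/
noncomputable def Ψ : (pb a G).obj.obj (op ⊤) →+ CK a G (Fin 1) where
  toFun γ := ⟨fun V σ => (locEquiv ha G (σ 0)).symm
      ((pb a G).obj.map (homOfLE (le_top : W ha (σ 0) ≤ ⊤)).op γ), by
    intro V V' h σ
    apply (locEquiv ha G ((σ 0).res h)).injective
    rw [locEquiv_res, AddEquiv.apply_symm_apply]
    change _ = locEquiv ha G ((σ 0).res h) ((locEquiv ha G ((σ 0).res h)).symm _)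
    rw [AddEquiv.apply_symm_apply, SoftD.map_map]⟩
  map_zero' := by
    ext V σ
    change (locEquiv ha G (σ 0)).symm ((pb a G).obj.map _ 0) = 0
    rw [map_zero, map_zero]
  map_add' γ γ' := by
    ext V σ
    change (locEquiv ha G (σ 0)).symm ((pb a G).obj.map _ (γ + γ')) =
      (locEquiv ha G (σ 0)).symm ((pb a G).obj.map _ γ) +
        (locEquiv ha G (σ 0)).symm ((pb a G).obj.map _ γ')
    rw [map_add, map_add]

lemma Ψ_apply (γ : (pb a G).obj.obj (op ⊤)) (V : Opens S) (σ : Fin 1 → LSec a V) :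
    (Ψ ha G γ).1 V σ = (locEquiv ha G (σ 0)).symm
      ((pb a G).obj.map (homOfLE (le_top : W ha (σ 0) ≤ ⊤)).op γ) := rfl

lemma locEquiv_Ψ (γ : (pb a G).obj.obj (op ⊤)) (V : Opens S) (σ : Fin 1 → LSec a V) :
    locEquiv ha G (σ 0) ((Ψ ha G γ).1 V σ) =
      (pb a G).obj.map (homOfLE (le_top : W ha (σ 0) ≤ ⊤)).op γ := by
  rw [Ψ_apply, AddEquiv.apply_symm_apply]

lemma top_le_iSup_W :
    (⊤ : Opens T) ≤ iSup (fun j : (Σ V : Opens S, LSec a V) => W ha j.2) := by
  intro x _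
  obtain ⟨V, σ, v, rfl⟩ := ha.exists_sec x
  exact Opens.mem_iSup.2 ⟨⟨V, σ⟩, ⟨v, rfl⟩⟩

theorem Ψ_injective : Function.Injective (Ψ ha G) := by
  rw [injective_iff_map_eq_zero]
  intro γ hγ
  apply (pb a G).eq_of_locally_eq' (fun j : (Σ V : Opens S, LSec a V) => W ha j.2) ⊤
    (fun j => homOfLE le_top) (top_le_iSup_W ha)
  intro j
  have h1 := locEquiv_Ψ ha G γ j.1 (fun _ => j.2)
  rw [hγ] at h1
  change locEquiv ha G j.2 0 = _ at h1
  rw [map_zero] at h1
  rw [map_zero]
  exact h1.symm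

theorem Ψ_surjective : Function.Surjective (Ψ ha G) := by
  intro τ
  let J := (Σ V : Opens S, LSec a V)
  let Wc : J → Opens T := fun j => W ha j.2
  let sf : ∀ j : J, (pb a G).obj.obj (op (Wc j)) := fun j =>
    locEquiv ha G j.2 (τ.1 j.1 (fun _ => j.2))
  have hcompat : TopCat.Presheaf.IsCompatible (pb a G).presheaf Wc sf := by
    rintro ⟨V, σ⟩ ⟨V', σ'⟩
    -- the common open
    let N : Opens T := W ha σ ⊓ W ha σ'
    have hNr : ((N : Opens T) : Set T) ⊆ Set.range σ.toFun := fun x hx => hx.1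
    have hV2 : preim σ N ≤ V := preim_le σ N
    have hmem : ∀ s (hs : s ∈ preim σ N), ∃ hs' : s ∈ V',
        σ.toFun ⟨s, hV2 hs⟩ = σ'.toFun ⟨s, hs'⟩ := by
      intro s hs
      obtain ⟨hs1, hs2⟩ := (mem_preim σ N s).1 hs
      obtain ⟨v', hv'⟩ := hs2.2
      have h1 : a (σ'.toFun v') = a (σ.toFun ⟨s, hs1⟩) := by rw [hv']
      rw [σ'.sec, σ.sec] at h1
      have h1' : v'.1 = s := h1
      have hs' : s ∈ V' := h1' ▸ v'.2
      refine ⟨hs', ?_⟩
      rw [← hv']
      congr 1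
      exact Subtype.ext h1
    have hV3 : preim σ N ≤ V' := fun s hs => (hmem s hs).1
    have hσ : σ.res hV2 = σ'.res hV3 := by
      apply LSec.ext
      funext v
      exact (hmem v.1 v.2).2
    have hN2 : N ≤ (Opens.map a).obj (preim σ N) := le_map_preim σ hNr
    have e1 := locN_res a G hV2 (inf_le_left : N ≤ W ha σ) (W_le ha σ) hN2
      (τ.1 V (fun _ => σ))
    have e2 := locN_res a G hV3 (inf_le_right : N ≤ W ha σ') (W_le ha σ') hN2
      (τ.1 V' (fun _ => σ'))
    rw [CK.compat τ hV2 (fun _ => σ)] at e1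
    rw [CK.compat τ hV3 (fun _ => σ')] at e2
    have e3 : τ.1 (preim σ N) (fun _ => σ.res hV2) = τ.1 (preim σ N) (fun _ => σ'.res hV3) := by
      rw [hσ]
    rw [e3] at e1
    exact e1.symm.trans e2
  obtain ⟨γ, hγ, -⟩ := (pb a G).existsUnique_gluing' Wc ⊤ (fun j => homOfLE le_top)
    (top_le_iSup_W ha) sf hcompat
  refine ⟨γ, ?_⟩
  ext V σ
  rw [Ψ_apply]
  apply (locEquiv ha G (σ 0)).injective
  rw [AddEquiv.apply_symm_apply]
  have h1 := hγ ⟨V, σ 0⟩
  refine h1.trans ?_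
  change locEquiv ha G (σ 0) (τ.1 V (fun _ => σ 0)) = _
  have hσ : (fun _ : Fin 1 => σ 0) = σ := by
    funext i
    rw [Subsingleton.elim i 0]
  rw [hσ]

/-- `Ψ` as an isomorphism -/
noncomputable def ΨEquiv : (pb a G).obj.obj (op ⊤) ≃+ CK a G (Fin 1) :=
  AddEquiv.ofBijective (Ψ ha G) ⟨Ψ_injective ha G, Ψ_surjective ha G⟩

lemma locN_nat {G G' : TopCat.Sheaf AddCommGrpCat.{u} S} (φ : G ⟶ G') (V : Opens S) (N : Opens T)
    (hN : N ≤ (Opens.map a).obj V) (t : G.obj.obj (op V)) :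
    locN a G' V N hN (φ.hom.app (op V) t) =
      ((TopCat.Sheaf.pullback AddCommGrpCat.{u} a).map φ).hom.app (op N) (locN a G V N hN t) := by
  rw [locN_apply, locN_apply, SoftG.η_nat]
  exact (SoftD.nat_apply ((TopCat.Sheaf.pullback AddCommGrpCat.{u} a).map φ) hN _).symm

theorem Ψ_nat {G G' : TopCat.Sheaf AddCommGrpCat.{u} S} (φ : G ⟶ G')
    (γ : (pb a G).obj.obj (op ⊤)) :
    Ψ ha G' (((TopCat.Sheaf.pullback AddCommGrpCat.{u} a).map φ).hom.app (op ⊤) γ) =
      mapG a (Fin 1) φ (Ψ ha G γ) := by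
  ext V σ
  rw [mapG_apply]
  apply (locEquiv ha G' (σ 0)).injective
  rw [locEquiv_Ψ, locEquiv_apply, locN_nat, ← locEquiv_apply, locEquiv_Ψ]
  exact (SoftD.nat_apply ((TopCat.Sheaf.pullback AddCommGrpCat.{u} a).map φ) le_top γ).symm

end Groth.Agent.Helper9.LhG
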