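import Mathlib
import Groth.Prelude.Def_CohTop
import Groth.Agent.Helper9.SoftD

/-!
# Flasqueness is a local property
-/

set_option autoImplicit false

namespace Groth.Agent.Helper9.LhH

open CategoryTheory TopologicalSpace Opposite TopCat Limits
open Groth.Agent.Helper9

universe u

variable {T : TopCat.{u}} (B : TopCat.Sheaf AddCommGrpCat.{u} T)

/-- extensions of a given section to larger opens -/
structure Ex (N : Opens T) (t₀ : B.obj.obj (op N)) where
  /-- the larger open -/
  M : Opens T
  le : N ≤ M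
  /-- the extended section -/
  u : B.obj.obj (op M)
  res : B.obj.map (homOfLE le).op u = t₀

variable {B} {N : Opens T} {t₀ : B.obj.obj (op N)}

instance : Preorder (Ex B N t₀) where
  le e e' := ∃ h : e.M ≤ e'.M, B.obj.map (homOfLE h).op e'.u = e.u
  le_refl e := ⟨le_rfl, SoftD.map_self B _ _⟩
  le_trans e e' e'' := fun ⟨h, h1⟩ ⟨h', h2⟩ => ⟨h.trans h', by
    rw [← h1, ← h2, SoftD.map_map]⟩

lemma le_def (e e' : Ex B N t₀) :
    e ≤ e' ↔ ∃ h : e.M ≤ e'.M, B.obj.map (homOfLE h).op e'.u = e.u := Iff.rfl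

/-- sections agreeing after restriction to the smaller open agree on the intersection -/
lemma compat_of_le {U₁ U₂ : Opens T} (s₁ : B.obj.obj (op U₁)) (s₂ : B.obj.obj (op U₂))
    (h : U₁ ≤ U₂) (hs : B.obj.map (homOfLE h).op s₂ = s₁) :
    B.obj.map (homOfLE (inf_le_left : U₁ ⊓ U₂ ≤ U₁)).op s₁ =
      B.obj.map (homOfLE (inf_le_right : U₁ ⊓ U₂ ≤ U₂)).op s₂ := by
  rw [← hs, SoftD.map_map]

lemma compat_of_ge {U₁ U₂ : Opens T} (s₁ : B.obj.obj (op U₁)) (s₂ : B.obj.obj (op U₂))
    (h : U₂ ≤ U₁) (hs : B.obj.map (homOfLE h).op s₁ = s₂) :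
    B.obj.map (homOfLE (inf_le_left : U₁ ⊓ U₂ ≤ U₁)).op s₁ =
      B.obj.map (homOfLE (inf_le_right : U₁ ⊓ U₂ ≤ U₂)).op s₂ := by
  rw [← hs, SoftD.map_map]

theorem bddAbove_of_isChain (c : Set (Ex B N t₀)) (hc : IsChain (· ≤ ·) c) : BddAbove c := by
  classical
  let Wc : Option c → Opens T := fun o => match o with
    | none => N
    | some e => e.1.M
  let sf : ∀ o : Option c, B.obj.obj (op (Wc o)) := fun o => match o with
    | none => t₀
    | some e => e.1.u
  have hle : ∀ o, N ≤ Wc o := by
    intro o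
    match o with
    | none => exact le_rfl
    | some e => exact e.1.le
  have hres : ∀ o, B.obj.map (homOfLE (hle o)).op (sf o) = t₀ := by
    intro o
    match o with
    | none => exact SoftD.map_self B _ _
    | some e => exact e.1.res
  have hcompat : TopCat.Presheaf.IsCompatible B.presheaf Wc sf := by
    intro o o'
    match o, o' with
    | none, o' =>
      exact compat_of_le (sf none) (sf o') (hle o') (hres o')
    | some e, none =>
      exact compat_of_ge (sf (some e)) (sf none) (hle (some e)) (hres (some e))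
    | some e, some e' =>
      by_cases hee : e = e'
      · subst hee
        rfl
      · have hne : e.1 ≠ e'.1 := fun h => hee (Subtype.ext h)
        rcases hc e.2 e'.2 hne with h | h
        · obtain ⟨h1, h2⟩ := h
          exact compat_of_le (sf (some e)) (sf (some e')) h1 h2
        · obtain ⟨h1, h2⟩ := h
          exact compat_of_ge (sf (some e)) (sf (some e')) h1 h2
  obtain ⟨u, hu, -⟩ := B.existsUnique_gluing' Wc (iSup Wc) (fun o => homOfLE (le_iSup Wc o))
    le_rfl sf hcompat
  refine ⟨⟨iSup Wc, le_iSup Wc none, u, hu none⟩, ?_⟩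
  intro e he
  exact ⟨le_iSup Wc (some ⟨e, he⟩), hu (some ⟨e, he⟩)⟩

/-- **flasqueness is local**: if restrictions between opens contained in members of an open cover
are surjective, then every section extends to a global section -/
theorem surjective_of_local {ι : Type*} (Wc : ι → Opens T) (hcov : (⊤ : Opens T) ≤ iSup Wc)
    (hloc : ∀ (i : ι) (M : Opens T) (h : M ≤ Wc i),
      Function.Surjective (B.obj.map (homOfLE h).op))
    (N : Opens T) : Function.Surjective (B.obj.map (homOfLE (le_top : N ≤ ⊤)).op) := by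
  intro t₀
  obtain ⟨e, he⟩ := zorn_le (α := Ex B N t₀) bddAbove_of_isChain
  have hM : ∀ i, Wc i ≤ e.M := by
    intro i
    obtain ⟨u', hu'⟩ := hloc i (e.M ⊓ Wc i) inf_le_right
      (B.obj.map (homOfLE (inf_le_left : e.M ⊓ Wc i ≤ e.M)).op e.u)
    obtain ⟨u'', h1, h2⟩ := SoftD.glue₂ B e.M (Wc i) e.u u' hu'.symm
    let e'' : Ex B N t₀ := ⟨e.M ⊔ Wc i, e.le.trans le_sup_left, u'', by
      have h4 := e.res
      rw [← h1, SoftD.map_map] at h4
      exact h4⟩
    have hle : e ≤ e'' := ⟨le_sup_left, h1⟩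
    obtain ⟨h3, -⟩ := he hle
    exact le_sup_right.trans h3
  have htop : (⊤ : Opens T) ≤ e.M := hcov.trans (iSup_le hM)
  refine ⟨B.obj.map (homOfLE htop).op e.u, ?_⟩
  rw [SoftD.map_map]
  exact e.res

/-- the Mathlib flasqueness class from local surjectivity of restrictions -/
theorem isFlasque_of_local {ι : Type*} (Wc : ι → Opens T) (hcov : (⊤ : Opens T) ≤ iSup Wc)
    (hloc : ∀ (i : ι) (M : Opens T) (h : M ≤ Wc i),
      Function.Surjective (B.obj.map (homOfLE h).op)) : TopCat.Sheaf.IsFlasque B where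
  epi {U V} i := by
    rw [AddCommGrpCat.epi_iff_surjective]
    intro t
    obtain ⟨g, hg⟩ := surjective_of_local Wc hcov hloc V.unop t
    refine ⟨B.obj.map (homOfLE (le_top : U.unop ≤ ⊤)).op g, ?_⟩
    have h1 : V.unop ≤ U.unop := leOfHom i.unop
    have h2 : i = (homOfLE h1).op := rfl
    rw [h2, SoftD.map_map]
    exact hg

end Groth.Agent.Helper9.LhH
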