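import Mathlib
import Groth.Prelude.Def_CohTop
import Groth.Agent.Helper9.LhG
import Groth.Agent.Helper9.LhH
import Groth.Agent.Lead.CohTopB
import Groth.Agent.S0453

/-!
# Inverse images of flasque sheaves along étale maps are flasque
-/

set_option autoImplicit false

namespace Groth.Agent.Helper9.LhI

open CategoryTheory TopologicalSpace Opposite TopCat Limits
open Groth.Agent.Helper9.LhA Groth.Agent.Helper9.SoftA Groth.Agent.Helper9.LhF
  Groth.Agent.Helper9.LhG

universe u

variable {T S : TopCat.{u}} {a : T ⟶ S} (ha : IsEt a)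

include ha

theorem isFlasque_pb (G : TopCat.Sheaf AddCommGrpCat.{u} S) [hG : TopCat.Sheaf.IsFlasque G] :
    TopCat.Sheaf.IsFlasque (pb a G) := by
  apply LhH.isFlasque_of_local (fun j : (Σ V : Opens S, LSec a V) => W ha j.2)
    (top_le_iSup_W ha)
  rintro ⟨V, σ⟩ M hM γ'
  have hMr : ((M : Opens T) : Set T) ⊆ Set.range σ.toFun := fun x hx => hM hx
  have hV' : preim σ M ≤ V := preim_le σ M
  have hMV' : M ≤ (Opens.map a).obj (preim σ M) := le_map_preim σ hMr
  obtain ⟨t', ht'⟩ := locN_surjective a G (σ.res hV') M (eq_range_res σ hMr) hMV' γ'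
  have hepi : Epi (G.obj.map (homOfLE hV').op) := TopCat.Presheaf.IsFlasque.epi _
  obtain ⟨t, ht⟩ := (AddCommGrpCat.epi_iff_surjective _).1 hepi t'
  refine ⟨locN a G V (W ha σ) (W_le ha σ) t, ?_⟩
  rw [← locN_res a G hV' hM (W_le ha σ) hMV' t, ht, ht']

theorem subsingleton_H_pull (I : CohTop.Ab S) [Injective I] (q : ℕ) :
    Subsingleton (CohTop.H ((CohTop.pull a).obj I) (q + 1)) := by
  have h1 : TopCat.Sheaf.IsFlasque I := Groth.Agent.Lead.CohTopB.isFlasque_of_injective I
  have h2 : TopCat.Sheaf.IsFlasque ((CohTop.pull a).obj I) := isFlasque_pb ha I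
  exact Groth.Agent.S0453.result _ q

end Groth.Agent.Helper9.LhI
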