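import Mathlib
import Groth.Prelude.Def_CohTop
import Groth.Agent.Helper9.LhG

/-!
# Local sections of the iterated fibre products of a local homeomorphism
-/

set_option autoImplicit false

namespace Groth.Agent.Helper9.LhJ

open CategoryTheory TopologicalSpace Opposite TopCat Limits
open Groth.Agent.Helper9.LhA Groth.Agent.Helper9.LhG

universe u

variable {X S : TopCat.{u}} (f : X ⟶ S)

section LocalHomeo

variable {f} (hf : IsLocalHomeomorph f)

include hf

/-- local sections of a local homeomorphism have open image -/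
theorem isOpen_range_of_isLocalHomeomorph {V : Opens S} (σ : LSec f V) :
    IsOpen (Set.range σ.toFun) := by
  have h1 : IsLocalHomeomorph ((f : X → S) ∘ σ.toFun) := by
    have h2 : ((f : X → S) ∘ σ.toFun) = Subtype.val := by
      funext v
      exact σ.sec v
    rw [h2]
    exact V.isOpen.isOpenEmbedding_subtypeVal.isLocalHomeomorph
  have h3 : IsLocalHomeomorph σ.toFun := IsLocalHomeomorph.of_comp h1 hf σ.cont
  exact h3.isOpenMap.isOpen_range

/-- a local homeomorphism has a local section through every point -/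
theorem exists_lsec (x : X) :
    ∃ (V : Opens S) (σ : LSec f V) (hv : f x ∈ V), σ.toFun ⟨f x, hv⟩ = x := by
  obtain ⟨e, hx, he⟩ := hf x
  refine ⟨⟨e.target, e.open_target⟩, ⟨fun v => e.symm v.1, ?_, ?_⟩, ?_, ?_⟩
  · exact e.continuousOn_symm.restrict
  · intro v
    rw [he]
    exact e.right_inv v.2
  · rw [he]
    exact e.map_source hx
  · show e.symm (f x) = x
    rw [he]
    exact e.left_inv hx

theorem isEt_of_isLocalHomeomorph : IsEt f where
  isOpen_range _ σ := isOpen_range_of_isLocalHomeomorph hf σ
  exists_sec x := by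
    obtain ⟨V, σ, hv, h⟩ := exists_lsec hf x
    exact ⟨V, σ, ⟨f x, hv⟩, h⟩

end LocalHomeo

section Wide

variable (p : ℕ)

/-- the iterated fibre product -/
noncomputable abbrev Tp : TopCat.{u} := widePullback S (fun _ : Fin (p + 1) => X) (fun _ => f)

/-- its structure map -/
noncomputable abbrev ap : Tp f p ⟶ S := WidePullback.base (fun _ : Fin (p + 1) => f)

/-- its projections -/
noncomputable abbrev πp (i : Fin (p + 1)) : Tp f p ⟶ X :=
  WidePullback.π (fun _ : Fin (p + 1) => f) i

lemma f_πp (i : Fin (p + 1)) (x : Tp f p) : f (πp f p i x) = ap f p x := by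
  have h := WidePullback.π_arrow (fun _ : Fin (p + 1) => f) i
  exact ConcreteCategory.congr_hom h x

lemma ext_pt (x y : Tp f p) (h : ∀ i, πp f p i x = πp f p i y) : x = y :=
  Concrete.widePullback_ext' (fun _ : Fin (p + 1) => f) x y h

variable {f p}

/-- components of a section of the fibre product -/
noncomputable def proj {V : Opens S} (σ : LSec (ap f p) V) (i : Fin (p + 1)) : LSec f V where
  toFun v := πp f p i (σ.toFun v)
  cont := (πp f p i).hom.continuous.comp σ.cont
  sec v := by
    rw [f_πp]
    exact σ.sec v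

lemma proj_apply {V : Opens S} (σ : LSec (ap f p) V) (i : Fin (p + 1)) (v : V) :
    (proj σ i).toFun v = πp f p i (σ.toFun v) := rfl

lemma proj_res {V V' : Opens S} (σ : LSec (ap f p) V) (h : V' ≤ V) (i : Fin (p + 1)) :
    proj (σ.res h) i = (proj σ i).res h := rfl

/-- the morphism to the fibre product attached to a tuple of sections -/
noncomputable def tupHom {V : Opens S} (σs : Fin (p + 1) → LSec f V) : TopCat.of V ⟶ Tp f p :=
  WidePullback.lift (TopCat.ofHom ⟨Subtype.val, continuous_subtype_val⟩ : TopCat.of V ⟶ S)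
    (fun i => TopCat.ofHom ⟨(σs i).toFun, (σs i).cont⟩)
    (fun i => by
      ext v
      exact (σs i).sec v)

/-- a tuple of sections as a section of the fibre product -/
noncomputable def tup {V : Opens S} (σs : Fin (p + 1) → LSec f V) : LSec (ap f p) V where
  toFun v := tupHom σs v
  cont := (tupHom σs).hom.continuous
  sec v := by
    have h := WidePullback.lift_base (fun _ : Fin (p + 1) => f)
      (TopCat.ofHom ⟨Subtype.val, continuous_subtype_val⟩ : TopCat.of V ⟶ S)
      (fun i => TopCat.ofHom ⟨(σs i).toFun, (σs i).cont⟩)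
      (fun i => by
        ext v
        exact (σs i).sec v)
    exact ConcreteCategory.congr_hom h v

lemma proj_tup {V : Opens S} (σs : Fin (p + 1) → LSec f V) (i : Fin (p + 1)) :
    proj (tup σs) i = σs i := by
  apply LSec.ext
  funext v
  have h := WidePullback.lift_π (fun _ : Fin (p + 1) => f)
    (TopCat.ofHom ⟨Subtype.val, continuous_subtype_val⟩ : TopCat.of V ⟶ S)
    (fun i => TopCat.ofHom ⟨(σs i).toFun, (σs i).cont⟩)
    (fun i => by
      ext v
      exact (σs i).sec v) i
  exact ConcreteCategory.congr_hom h v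

lemma proj_injective {V : Opens S} (σ σ' : LSec (ap f p) V) (h : ∀ i, proj σ i = proj σ' i) :
    σ = σ' := by
  apply LSec.ext
  funext v
  apply ext_pt
  intro i
  have := congrArg (fun τ => τ.toFun v) (h i)
  exact this

lemma tup_proj {V : Opens S} (σ : LSec (ap f p) V) : tup (fun i => proj σ i) = σ :=
  proj_injective _ _ fun i => proj_tup _ i

lemma tup_res {V V' : Opens S} (σs : Fin (p + 1) → LSec f V) (h : V' ≤ V) :
    tup (fun i => (σs i).res h) = (tup σs).res h := by
  apply proj_injective
  intro i
  rw [proj_tup, proj_res, proj_tup]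

lemma range_eq {V : Opens S} (σ : LSec (ap f p) V) :
    Set.range σ.toFun = ⋂ i, (πp f p i) ⁻¹' Set.range (proj σ i).toFun := by
  ext x
  simp only [Set.mem_iInter, Set.mem_preimage]
  constructor
  · rintro ⟨v, rfl⟩ i
    exact ⟨v, rfl⟩
  · intro hx
    choose v hv using hx
    have hv1 : ∀ i, (v i).1 = ap f p x := by
      intro i
      rw [← (proj σ i).sec (v i), hv i, f_πp]
    refine ⟨v 0, ext_pt f p _ _ fun i => ?_⟩
    rw [← hv i, proj_apply]
    congr 2
    exact Subtype.ext ((hv1 0).trans (hv1 i).symm)

variable (f p) in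
theorem isEt_ap (hf : IsLocalHomeomorph f) : IsEt (ap f p) where
  isOpen_range V σ := by
    rw [range_eq]
    exact isOpen_iInter_of_finite fun i =>
      (isOpen_range_of_isLocalHomeomorph hf (proj σ i)).preimage (πp f p i).hom.continuous
  exists_sec x := by
    have h := fun i => exists_lsec hf (πp f p i x)
    choose V σ hv hσ using h
    have hax : ∀ i, ap f p x ∈ V i := fun i => by
      rw [← f_πp f p i x]
      exact hv i
    have hmem : ap f p x ∈ (⨅ i, V i : Opens S) := by
      show ap f p x ∈ ((⨅ i, V i : Opens S) : Set S)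
      rw [Opens.coe_iInf]
      exact Set.mem_iInter.2 hax
    refine ⟨⨅ i, V i, tup (fun i => (σ i).res (iInf_le V i)), ⟨ap f p x, hmem⟩, ?_⟩
    apply ext_pt
    intro i
    rw [← proj_apply, proj_tup, LSec.res_apply]
    refine Eq.trans ?_ (hσ i)
    congr 1
    exact Subtype.ext (f_πp f p i x).symm

variable (f p) in
/-- families over sections of the fibre product are families over tuples of sections -/
noncomputable def Θ (G : CohTop.Ab S) : CK (ap f p) G (Fin 1) ≃+ CK f G (Fin (p + 1)) where
  toFun τ := ⟨fun V σs => τ.1 V (fun _ => tup σs), by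
    intro V V' h σs
    rw [CK.compat τ h]
    exact congrArg (τ.1 V') (funext fun _ => (tup_res σs h).symm)⟩
  invFun τ := ⟨fun V σ => τ.1 V (fun i => proj (σ 0) i), by
    intro V V' h σ
    exact CK.compat τ h _⟩
  left_inv τ := by
    ext V σ
    change τ.1 V (fun _ => tup (fun i => proj (σ 0) i)) = τ.1 V σ
    refine congrArg (τ.1 V) (funext fun j => ?_)
    rw [tup_proj, Subsingleton.elim j 0]
  right_inv τ := by
    ext V σs
    change τ.1 V (fun i => proj (tup σs) i) = τ.1 V σs
    exact congrArg (τ.1 V) (funext fun i => proj_tup σs i)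
  map_add' _ _ := rfl

lemma Θ_apply (G : CohTop.Ab S) (τ : CK (ap f p) G (Fin 1)) (V : Opens S)
    (σs : Fin (p + 1) → LSec f V) : (Θ f p G τ).1 V σs = τ.1 V (fun _ => tup σs) := rfl

lemma Θ_nat {G G' : CohTop.Ab S} (φ : G ⟶ G') (τ : CK (ap f p) G (Fin 1)) :
    Θ f p G' (mapG (ap f p) (Fin 1) φ τ) = mapG f (Fin (p + 1)) φ (Θ f p G τ) := rfl

end Wide

end Groth.Agent.Helper9.LhJ
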