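import Mathlib
import Groth.Prelude.Def_CohTop
import Groth.Agent.Helper1.CohTopPush
import Groth.Agent.Helper1.DeltaComp
import Groth.Agent.Helper1.TopPush
import Groth.Agent.Helper1.Horseshoe
import Groth.Agent.Lead.CohTopB

/-!
# Right derived functors of `F ↦ Γ(T, R F)` for an exact functor `R` with acyclic values on injectives
-/

set_option autoImplicit false

namespace Groth.Agent.Helper9.LhK

open CategoryTheory TopologicalSpace Opposite TopCat Topology Limits Abelian
open Groth.Agent.Helper1.DeltaCmp Groth.Agent.Helper1.DeltaFun Groth.Agent.Helper1.CechTop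
open Groth.Agent.Helper1.CohTopFun Groth.Agent.Lead.CohTopB

universe u

variable {S T' : TopCat.{u}}

/-- `H⁰(T', R F) ≅ (R F)(T')`, naturally in `F` -/
noncomputable def h0Iso (R : CohTop.Ab S ⥤ CohTop.Ab T') :
    extSeq R (constZ T') 0 ≅ R ⋙ sectionsFunctor ⊤ :=
  NatIso.ofComponents (fun F =>
    (Sheaf.H.equiv₀ (R.obj F) isTerminalTop).toAddCommGrpIso)
    (by
      intro F G φ
      apply AddCommGrpCat.hom_ext
      apply AddMonoidHom.ext
      intro x
      exact (Sheaf.H.equiv₀_naturality isTerminalTop (R.map φ) x).symm)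

theorem nonempty_iso_rightDerived (Φ : CohTop.Ab S ⥤ AddCommGrpCat.{u}) [Φ.Additive]
    (R : CohTop.Ab S ⥤ CohTop.Ab T') [R.Additive] [PreservesFiniteLimits R]
    [PreservesFiniteColimits R] (e : Φ ≅ R ⋙ sectionsFunctor ⊤)
    (hac : ∀ (I : CohTop.Ab S) [Injective I] (n : ℕ), Subsingleton (CohTop.H (R.obj I) (n + 1)))
    (n : ℕ) (F : CohTop.Ab S) :
    Nonempty ((Φ.rightDerived n).obj F ≅ AddCommGrpCat.of (CohTop.H (R.obj F) n)) := by
  haveI : PreservesFiniteLimits Φ := preservesFiniteLimits_of_natIso e.symm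
  have e0 : Φ.rightDerived 0 ≅ extSeq R (constZ T') 0 :=
    Φ.rightDerivedZeroIsoSelf ≪≫ e ≪≫ (h0Iso R).symm
  have key : ∀ F : CohTop.Ab S, True →
      Nonempty (Effacement (fun n => Φ.rightDerived n) (fun n => extSeq R (constZ T') n)
        (fun _ => True) F) := by
    intro F _
    obtain ⟨S', hS, hI, rfl⟩ : ∃ (S' : ShortComplex (CohTop.Ab S)) (_ : S'.ShortExact)
        (_ : Injective S'.X₂), S'.X₁ = F := ⟨injSC F, injSC_shortExact F, inferInstance, rfl⟩
    have l1 : HasLES (fun n => Φ.rightDerived n) S' :=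
      Groth.Agent.Helper1.Horseshoe.hasLES_rightDerived Φ S' hS
    have l2 : HasLES (fun n => extSeq R (constZ T') n) S' :=
      hasLES_extSeq R (constZ T') S' hS
    exact ⟨{
      S := S'
      iso := rfl
      mem := trivial
      zero := fun n => Functor.isZero_rightDerived_obj_injective_succ Φ n S'.X₂
      zero' := fun n => by
        have : Subsingleton ((extSeq R (constZ T') (n + 1)).obj S'.X₂) := hac S'.X₂ n
        exact AddCommGrpCat.isZero_of_subsingleton _
      les := l1
      les' := l2 }⟩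
  exact nonempty_iso (fun _ => True) e0 key n F trivial

end Groth.Agent.Helper9.LhK
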