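import Mathlib
import Groth.Prelude.Def_CohTop
import Groth.Agent.Helper9.LhB
import Groth.Agent.Helper9.LhE
import Groth.Agent.Helper9.LhI
import Groth.Agent.Helper9.LhJ
import Groth.Agent.Helper9.LhK

/-!
# The rows of the descent double complex as functors, and their derived functors
-/

set_option autoImplicit false

namespace Groth.Agent.Helper9.LhL

open CategoryTheory TopologicalSpace Opposite TopCat Limits
open Groth.Agent.Helper9.LhA Groth.Agent.Helper9.LhB Groth.Agent.Helper9.LhD
  Groth.Agent.Helper9.LhE Groth.Agent.Helper9.LhG Groth.Agent.Helper9.LhJ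
  Groth.Agent.Helper9.SoftA
open Groth.Agent.Helper1.CechTop (sectionsFunctor)

universe u

variable {X S : TopCat.{u}} (f : X ⟶ S)

/-- the degree `p` part of the row complex, as a functor -/
noncomputable abbrev Cp (p : ℕ) : CohTop.Ab S ⥤ AddCommGrpCat.{u} :=
  Row f ⋙ HomologicalComplex.eval _ _ p

lemma Cp_obj (p : ℕ) (G : CohTop.Ab S) :
    (Cp f p).obj G = AddCommGrpCat.of (CK f G (Fin (p + 1))) := rfl

lemma Cp_map (p : ℕ) {G G' : CohTop.Ab S} (φ : G ⟶ G') :
    (Cp f p).map φ = AddCommGrpCat.ofHom (mapG f (Fin (p + 1)) φ) := rfl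

lemma mapG_add {G G' : CohTop.Ab S} (φ ψ : G ⟶ G') (ι : Type) (τ : CK f G ι) :
    mapG f ι (φ + ψ) τ = mapG f ι φ τ + mapG f ι ψ τ := by
  ext V σ
  rfl

instance Row_additive : (Row f).Additive where
  map_add {G G' φ ψ} := by
    apply HomologicalComplex.hom_ext
    intro p
    rw [HomologicalComplex.add_f_apply]
    apply AddCommGrpCat.hom_ext
    apply AddMonoidHom.ext
    intro τ
    exact mapG_add f φ ψ _ τ

instance Cp_additive (p : ℕ) : (Cp f p).Additive :=
  (inferInstance : (Row f ⋙ HomologicalComplex.eval _ _ p).Additive)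

lemma dK_augHom (G : CohTop.Ab S) (t : G.obj.obj (op ⊤)) : dK f G 0 (augHom f G t) = 0 := by
  ext V σ
  rw [dK_apply, Fin.sum_univ_two, augHom_apply, augHom_apply, CK.zero_apply]
  simp

/-- the augmentation as a natural transformation -/
noncomputable def augN : sectionsFunctor (⊤ : Opens S) ⟶ Cp f 0 where
  app G := AddCommGrpCat.ofHom (augHom f G)
  naturality G G' φ := by
    apply AddCommGrpCat.hom_ext
    apply AddMonoidHom.ext
    intro t
    exact augHom_mapG f φ t

section Pull

variable {T : TopCat.{u}} (a : T ⟶ S)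

instance pull_additive : (CohTop.pull a).Additive :=
  haveI : (TopCat.Sheaf.pushforward AddCommGrpCat.{u} a).Additive :=
    CohTop.instAdditiveAbPush _
  (TopCat.Sheaf.pullbackPushforwardAdjunction AddCommGrpCat.{u} a).left_adjoint_additive

instance pull_pfl : PreservesFiniteLimits (CohTop.pull a) :=
  Groth.Agent.Helper1.TopPush.pullPFL a

instance pull_pfc : PreservesFiniteColimits (CohTop.pull a) :=
  haveI : PreservesColimitsOfSize.{0, 0} (CohTop.pull a) :=
    (TopCat.Sheaf.pullbackPushforwardAdjunction AddCommGrpCat.{u}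
      a).leftAdjoint_preservesColimits
  PreservesColimitsOfSize.preservesFiniteColimits _

end Pull

variable {f}

/-- `C^p ≅ Γ(X_p, a_p^* -)` -/
noncomputable def cpIso (hf : IsLocalHomeomorph f) (p : ℕ) :
    Cp f p ≅ CohTop.pull (ap f p) ⋙ sectionsFunctor ⊤ :=
  NatIso.ofComponents (fun G =>
    ((ΨEquiv (isEt_ap f p hf) G).trans (Θ f p G)).symm.toAddCommGrpIso)
    (by
      intro G G' φ
      apply AddCommGrpCat.hom_ext
      apply AddMonoidHom.ext
      intro τ
      apply ((ΨEquiv (isEt_ap f p hf) G').trans (Θ f p G')).injective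
      refine (AddEquiv.apply_symm_apply _ _).trans ?_
      change mapG f (Fin (p + 1)) φ τ = Θ f p G' (Ψ (isEt_ap f p hf) G'
        (((TopCat.Sheaf.pullback AddCommGrpCat.{u} (ap f p)).map φ).hom.app (op ⊤)
          (((ΨEquiv (isEt_ap f p hf) G).trans (Θ f p G)).symm τ)))
      rw [Ψ_nat, Θ_nat]
      congr 1
      exact ((ΨEquiv (isEt_ap f p hf) G).trans (Θ f p G)).apply_symm_apply τ |>.symm)

lemma exists_sec_at (hf : IsLocalHomeomorph f) (hsurj : Function.Surjective f) (s : S) :
    ∃ V : Opens S, s ∈ V ∧ Nonempty (LSec f V) := by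
  obtain ⟨x, rfl⟩ := hsurj s
  obtain ⟨V, σ, hv, -⟩ := exists_lsec hf x
  exact ⟨V, hv, ⟨σ⟩⟩

/-- chosen local sections of a surjective local homeomorphism -/
noncomputable def sectionsOf (hf : IsLocalHomeomorph f) (hsurj : Function.Surjective f) :
    Sections f where
  V s := (exists_sec_at hf hsurj s).choose
  mem s := (exists_sec_at hf hsurj s).choose_spec.1
  ε s := (exists_sec_at hf hsurj s).choose_spec.2.some

end Groth.Agent.Helper9.LhL
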