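import Mathlib
import Groth.Prelude.Def_CohTop
import Groth.Prelude.Def_SpSeq
import Groth.Agent.Helper9.DblB
import Groth.Agent.Helper9.LhL

/-!
# The descent spectral sequence of a surjective local homeomorphism
-/

set_option autoImplicit false

namespace Groth.Agent.Helper9.LhM

open CategoryTheory TopologicalSpace Opposite TopCat Limits
open Groth.Agent.Helper9.LhA Groth.Agent.Helper9.LhB Groth.Agent.Helper9.LhD
  Groth.Agent.Helper9.LhE Groth.Agent.Helper9.LhG Groth.Agent.Helper9.LhJ
  Groth.Agent.Helper9.LhL Groth.Agent.Helper9.DblA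
open Groth.Agent.Helper1.CechTop (sectionsFunctor)

universe u

variable {X S : TopCat.{u}} (f : X ⟶ S)

instance sections_additive : (sectionsFunctor (⊤ : Opens S)).Additive where
  map_add := rfl

theorem main (hf : IsLocalHomeomorph f) (hsurj : Function.Surjective f) (F : CohTop.Ab S) :
    ∃ (E : CohomologicalSpectralSequence AddCommGrpCat.{u} 1)
      (a : SpSeq.Abutment E (fun n : ℤ =>
        if 0 ≤ n then AddCommGrpCat.of (CohTop.H F n.toNat) else AddCommGrpCat.of PUnit.{u + 1})),
      (∀ n, a.IsFinite n) ∧ SpSeq.IsBounded E ∧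
      ∀ p q : ℤ, Nonempty ((E.page 1 le_rfl).X (p, q) ≅
        (if 0 ≤ p ∧ 0 ≤ q then
          AddCommGrpCat.of (CohTop.H ((CohTop.pull
            (WidePullback.base (fun _ : Fin (p.toNat + 1) => f) :
              widePullback S (fun _ : Fin (p.toNat + 1) => X) (fun _ => f) ⟶ S)).obj F) q.toNat)
         else AddCommGrpCat.of PUnit.{u + 1})) := by
  obtain ⟨I⟩ : Nonempty (InjectiveResolution F) := (HasInjectiveResolutions.out F).out
  let E := sectionsOf hf hsurj
  -- the double complex
  let K' : HomologicalComplex₂ AddCommGrpCat.{u} (ComplexShape.up ℕ) (ComplexShape.up ℕ) :=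
    ((Row f).mapHomologicalComplex (ComplexShape.up ℕ)).obj I.cocomplex
  let K : CochainComplex BB.{u} ℕ := K'.flip
  let A : BB.{u} :=
    ((sectionsFunctor (⊤ : Opens S)).mapHomologicalComplex (ComplexShape.up ℕ)).obj I.cocomplex
  let aug : A ⟶ K.X 0 := (NatTrans.mapHomologicalComplex (augN f) (ComplexShape.up ℕ)).app I.cocomplex
  have hrow : ∀ q, RowExact f (I.cocomplex.X q) := fun q =>
    haveI := I.injective q
    rowExact_of_injective E (I.cocomplex.X q)
  have hd : ∀ p q, (K.d p (p + 1)).f q = AddCommGrpCat.ofHom (dK f (I.cocomplex.X q) p) :=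
    fun p q => Row_d f (I.cocomplex.X q) p
  have haugf : ∀ q, aug.f q = AddCommGrpCat.ofHom (augHom f (I.cocomplex.X q)) := fun q => rfl
  have haug : aug ≫ K.d 0 1 = 0 := by
    apply HomologicalComplex.hom_ext
    intro q
    rw [HomologicalComplex.comp_f, hd 0 q, haugf q]
    apply AddCommGrpCat.hom_ext
    apply AddMonoidHom.ext
    intro t
    exact dK_augHom f (I.cocomplex.X q) t
  refine DblB.main K A aug haug ?_ ?_ ?_ (fun n => AddCommGrpCat.of (CohTop.H F n)) ?_
    (fun p q => AddCommGrpCat.of (CohTop.H ((CohTop.pull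
            (WidePullback.base (fun _ : Fin (p + 1) => f) :
              widePullback S (fun _ : Fin (p + 1) => X) (fun _ => f) ⟶ S)).obj F) q)) ?_
  · intro q
    rw [haugf q]
    exact (hrow q).inj
  · intro q x hx
    rw [hd 0 q] at hx
    obtain ⟨t, ht⟩ := (hrow q).ex0 x hx
    exact ⟨t, by rw [haugf q]; exact ht⟩
  · intro p q x hx
    rw [hd (p + 1) q] at hx
    obtain ⟨y, hy⟩ := (hrow q).ex p x hx
    exact ⟨y, by rw [hd p q]; exact hy⟩
  · intro n
    obtain ⟨e⟩ := LhK.nonempty_iso_rightDerived (sectionsFunctor (⊤ : Opens S)) (𝟭 (CohTop.Ab S))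
      (Functor.leftUnitor _).symm (fun J _ m => by
        have : TopCat.Sheaf.IsFlasque J := Groth.Agent.Lead.CohTopB.isFlasque_of_injective J
        exact Groth.Agent.S0453.result J m) n F
    exact ⟨(I.isoRightDerivedObj (sectionsFunctor (⊤ : Opens S)) n).symm ≪≫ e⟩
  · intro p q
    obtain ⟨e⟩ := LhK.nonempty_iso_rightDerived (Cp f p) (CohTop.pull (ap f p)) (cpIso hf p)
      (fun J _ m => LhI.subsingleton_H_pull (isEt_ap f p hf) J m) q F
    exact ⟨(I.isoRightDerivedObj (Cp f p) q).symm ≪≫ e⟩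

end Groth.Agent.Helper9.LhM
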