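import Mathlib
import Groth.Prelude.Def_LiftSq

/-! Lifting properties for 2-commutative squares of based categories are stable under composition. -/

set_option autoImplicit false
universe v₆ u₆ v₅ u₅ v₄ u₄ v₃ u₃ v₂ u₂ v u

open CategoryTheory

namespace Groth.Agent.Helper9.LiftSqComp

variable {C : Type u} [Category.{v} C]
  {𝒜 : BasedCategory.{v₂, u₂} C} {ℬ : BasedCategory.{v₃, u₃} C}
  {𝒳 : BasedCategory.{v₄, u₄} C} {𝒴 : BasedCategory.{v₅, u₅} C} {𝒵 : BasedCategory.{v₆, u₆} C}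

theorem whiskerRight_whiskerLeft (j : 𝒜 ⥤ᵇ ℬ) {G H : ℬ ⥤ᵇ 𝒳} (α : G ⟶ H) (f : 𝒳 ⥤ᵇ 𝒴) :
    BasedCategory.whiskerRight (BasedCategory.whiskerLeft j α) f =
      BasedCategory.whiskerLeft j (BasedCategory.whiskerRight α f) := by
  apply BasedNatTrans.homCategory.ext; ext; rfl

theorem whiskerRight_whiskerRight {G H : 𝒜 ⥤ᵇ ℬ} (α : G ⟶ H) (f : ℬ ⥤ᵇ 𝒳) (g : 𝒳 ⥤ᵇ 𝒴) :
    BasedCategory.whiskerRight (BasedCategory.whiskerRight α f) g =
      BasedCategory.whiskerRight α (BasedFunctor.comp f g) := by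
  apply BasedNatTrans.homCategory.ext; ext; rfl

theorem comp_app {G H K : 𝒜 ⥤ᵇ ℬ} (α : G ⟶ H) (β : H ⟶ K) (x : 𝒜.obj) :
    (α ≫ β).toNatTrans.app x = α.toNatTrans.app x ≫ β.toNatTrans.app x := rfl

theorem id_app (G : 𝒜 ⥤ᵇ ℬ) (x : 𝒜.obj) :
    (𝟙 G : G ⟶ G).toNatTrans.app x = 𝟙 (G.obj x) := rfl

theorem wl_app (j : 𝒜 ⥤ᵇ ℬ) {G H : ℬ ⥤ᵇ 𝒳} (α : G ⟶ H) (x : 𝒜.obj) :
    (BasedCategory.whiskerLeft j α).toNatTrans.app x = α.toNatTrans.app (j.obj x) := rfl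

theorem wr_app {G H : 𝒜 ⥤ᵇ ℬ} (α : G ⟶ H) (f : ℬ ⥤ᵇ 𝒳) (x : 𝒜.obj) :
    (BasedCategory.whiskerRight α f).toNatTrans.app x = f.map (α.toNatTrans.app x) := rfl

theorem aux1 {D E : Type*} [Category D] [Category E] (G : D ⥤ E) {X : E} {a b c : D}
    (p : X ⟶ G.obj a) (q : a ⟶ b) (r : b ⟶ c) :
    (p ≫ G.map q) ≫ G.map r = p ≫ G.map (q ≫ r) := by
  rw [G.map_comp, Category.assoc]

theorem aux2 {D : Type*} [Category D] {X Y : D} {a : X ⟶ Y} {b : Y ⟶ X} {c : X ⟶ Y}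
    (h1 : a ≫ b = 𝟙 X) (h2 : b ≫ c = 𝟙 Y) : c = a := by
  calc c = 𝟙 X ≫ c := (Category.id_comp c).symm
    _ = (a ≫ b) ≫ c := by rw [h1]
    _ = a ≫ (b ≫ c) := Category.assoc _ _ _
    _ = a := by rw [h2, Category.comp_id]

/-- whiskering an isomorphism on the right -/
def wrIso {G H : 𝒜 ⥤ᵇ ℬ} (α : G ≅ H) (f : ℬ ⥤ᵇ 𝒳) :
    BasedFunctor.comp G f ≅ BasedFunctor.comp H f where
  hom := BasedCategory.whiskerRight α.hom f
  inv := BasedCategory.whiskerRight α.inv f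
  hom_inv_id := by rw [← LiftSq.whiskerRight_comp', α.hom_inv_id, LiftSq.whiskerRight_id']
  inv_hom_id := by rw [← LiftSq.whiskerRight_comp', α.inv_hom_id, LiftSq.whiskerRight_id']

variable {j : 𝒜 ⥤ᵇ ℬ} {f : 𝒳 ⥤ᵇ 𝒴} {g : 𝒴 ⥤ᵇ 𝒵}

/-- the square against `g` obtained from a square against `f ⋙ g` -/
def sqG (sq : LiftSq.Sq j (BasedFunctor.comp f g)) : LiftSq.Sq j g where
  top := BasedFunctor.comp sq.top f
  bot := sq.bot
  iso := sq.iso

/-- a lift of the composite square gives a lift of the square against `g` -/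
def liftG {sq : LiftSq.Sq j (BasedFunctor.comp f g)} (d : sq.Lift) : (sqG sq).Lift where
  fn := BasedFunctor.comp d.fn f
  isoTop := wrIso d.isoTop f
  isoBot := d.isoBot
  w := by
    have h := d.w
    change BasedCategory.whiskerLeft j d.isoBot.hom ≫
      BasedCategory.whiskerRight (BasedCategory.whiskerRight d.isoTop.hom f) g = sq.iso.hom
    rw [whiskerRight_whiskerRight]
    exact h

theorem hasLift_comp (hf : LiftSq.Lifts j f) (hg : LiftSq.Lifts j g)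
    (sq : LiftSq.Sq j (BasedFunctor.comp f g)) : sq.HasLift := by
  obtain ⟨d1⟩ := hg (sqG sq)
  let sqf : LiftSq.Sq j f := ⟨sq.top, d1.fn, d1.isoTop⟩
  obtain ⟨d2⟩ := hf sqf
  refine ⟨⟨d2.fn, d2.isoTop, d1.isoBot ≪≫ wrIso d2.isoBot g, ?_⟩⟩
  have h1 : BasedCategory.whiskerLeft j d1.isoBot.hom ≫
      BasedCategory.whiskerRight d1.isoTop.hom g = sq.iso.hom := d1.w
  have h2 : BasedCategory.whiskerLeft j d2.isoBot.hom ≫
      BasedCategory.whiskerRight d2.isoTop.hom f = d1.isoTop.hom := d2.w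
  change BasedCategory.whiskerLeft j (d1.isoBot.hom ≫ BasedCategory.whiskerRight d2.isoBot.hom g) ≫
      BasedCategory.whiskerRight d2.isoTop.hom (BasedFunctor.comp f g) = sq.iso.hom
  apply BasedNatTrans.homCategory.ext; ext x
  have h1x : d1.isoBot.hom.toNatTrans.app (j.obj x) ≫ g.map (d1.isoTop.hom.toNatTrans.app x) =
      sq.iso.hom.toNatTrans.app x := congrArg (fun t => t.toNatTrans.app x) h1
  have h2x : d2.isoBot.hom.toNatTrans.app (j.obj x) ≫ f.map (d2.isoTop.hom.toNatTrans.app x) =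
      d1.isoTop.hom.toNatTrans.app x := congrArg (fun t => t.toNatTrans.app x) h2
  change (d1.isoBot.hom.toNatTrans.app (j.obj x) ≫
      g.map (d2.isoBot.hom.toNatTrans.app (j.obj x))) ≫
      g.map (f.map (d2.isoTop.hom.toNatTrans.app x)) = sq.iso.hom.toNatTrans.app x
  rw [← h1x, ← h2x]
  exact aux1 g.toFunctor _ _ _

/-- a morphism of lifts of the composite square gives a morphism of lifts against `g` -/
def homG {sq : LiftSq.Sq j (BasedFunctor.comp f g)} {d d' : sq.Lift} (ψ : d ⟶ d') :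
    liftG d ⟶ liftG d' where
  hom := BasedCategory.whiskerRight ψ.hom f
  w_top := by
    have h := ψ.w_top
    change BasedCategory.whiskerLeft j (BasedCategory.whiskerRight ψ.hom f) ≫
      BasedCategory.whiskerRight d'.isoTop.hom f = BasedCategory.whiskerRight d.isoTop.hom f
    rw [← h, LiftSq.whiskerRight_comp', whiskerRight_whiskerLeft]
    rfl
  w_bot := by
    have h := ψ.w_bot
    change d.isoBot.hom ≫ BasedCategory.whiskerRight (BasedCategory.whiskerRight ψ.hom f) g =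
      d'.isoBot.hom
    rw [whiskerRight_whiskerRight]
    exact h

theorem uniqLift_comp (hf : LiftSq.LiftsUnique j f) (hg : LiftSq.LiftsUnique j g)
    (sq : LiftSq.Sq j (BasedFunctor.comp f g)) : sq.UniqLift := by
  intro d d'
  obtain ⟨u⟩ := hg (sqG sq) (liftG d) (liftG d')
  obtain ⟨u'⟩ := hg (sqG sq) (liftG d') (liftG d)
  obtain ⟨u0⟩ := hg (sqG sq) (liftG d) (liftG d)
  obtain ⟨u0'⟩ := hg (sqG sq) (liftG d') (liftG d')
  obtain ⟨θ, hθ⟩ : ∃ θ : liftG d ⟶ liftG d', θ = u.default := ⟨_, rfl⟩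
  obtain ⟨θ', hθ'⟩ : ∃ θ' : liftG d' ⟶ liftG d, θ' = u'.default := ⟨_, rfl⟩
  have e1 : θ ≫ θ' = 𝟙 _ := (u0.uniq _).trans (u0.uniq _).symm
  have e2 : θ' ≫ θ = 𝟙 _ := (u0'.uniq _).trans (u0'.uniq _).symm
  have e1h : θ.hom ≫ θ'.hom = 𝟙 _ := congrArg LiftSq.Sq.Lift.Hom.hom e1
  have e2h : θ'.hom ≫ θ.hom = 𝟙 _ := congrArg LiftSq.Sq.Lift.Hom.hom e2
  let sqf : LiftSq.Sq j f := ⟨sq.top, BasedFunctor.comp d'.fn f, wrIso d'.isoTop f⟩
  let k' : sqf.Lift := ⟨d'.fn, d'.isoTop, Iso.refl _, by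
    change BasedCategory.whiskerLeft j (𝟙 (BasedFunctor.comp d'.fn f)) ≫
      BasedCategory.whiskerRight d'.isoTop.hom f = BasedCategory.whiskerRight d'.isoTop.hom f
    rw [LiftSq.whiskerLeft_id']
    exact Category.id_comp _⟩
  let k : sqf.Lift := ⟨d.fn, d.isoTop, ⟨θ'.hom, θ.hom, e2h, e1h⟩, θ'.w_top⟩
  obtain ⟨uf⟩ := hf sqf k k'
  obtain ⟨φ, hφ⟩ : ∃ φ : k ⟶ k', φ = uf.default := ⟨_, rfl⟩
  have hφb : θ'.hom ≫ BasedCategory.whiskerRight φ.hom f = 𝟙 _ := φ.w_bot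
  have hφ2 : BasedCategory.whiskerRight φ.hom f = θ.hom := aux2 e1h hφb
  refine ⟨⟨⟨⟨φ.hom, φ.w_top, ?_⟩⟩, ?_⟩⟩
  · have h := θ.w_bot
    change d.isoBot.hom ≫ BasedCategory.whiskerRight θ.hom g = d'.isoBot.hom at h
    rw [← whiskerRight_whiskerRight, hφ2]
    exact h
  · intro ψ
    have h1 : homG ψ = θ := (u.uniq _).trans hθ.symm
    have h1h : BasedCategory.whiskerRight ψ.hom f = θ.hom := congrArg LiftSq.Sq.Lift.Hom.hom h1
    let ψf : k ⟶ k' := ⟨ψ.hom, ψ.w_top, by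
      change θ'.hom ≫ BasedCategory.whiskerRight ψ.hom f = 𝟙 _
      rw [h1h]; exact e2h⟩
    have h2 : ψf = φ := (uf.uniq _).trans hφ.symm
    apply LiftSq.Sq.Lift.hom_ext
    exact (congrArg LiftSq.Sq.Lift.Hom.hom h2 : ψf.hom = φ.hom)

theorem liftsUniquely_comp (hf : LiftSq.LiftsUniquely j f) (hg : LiftSq.LiftsUniquely j g) :
    LiftSq.LiftsUniquely j (BasedFunctor.comp f g) := fun sq =>
  ⟨hasLift_comp (fun s => (hf s).1) (fun s => (hg s).1) sq,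
    uniqLift_comp (fun s => (hf s).2) (fun s => (hg s).2) sq⟩


end Groth.Agent.Helper9.LiftSqComp
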