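import Mathlib
import Groth.Prelude.Def_LiftSq
import Groth.Prelude.Def_FibCat2
import Groth.Agent.Helper9.LiftSqComp

/-! Lifting properties for 2-commutative squares are stable under 2-base change. -/

set_option autoImplicit false
set_option backward.isDefEq.respectTransparency false
set_option backward.isDefEq.respectTransparency.types false
universe v₈ u₈ v₇ u₇ v₆ u₆ v₅ u₅ v₄ u₄ v₃ u₃ v₂ u₂ v u

open CategoryTheory CategoryTheory.Limits

namespace Groth.Agent.Helper9.LiftSqBC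

open Groth.Agent.Helper9.LiftSqComp

variable {C : Type u} [Category.{v} C]
  {𝒳 : BasedCategory.{v₂, u₂} C} {𝒴 : BasedCategory.{v₃, u₃} C} {𝒮 : BasedCategory.{v₄, u₄} C}
  {𝒲 : BasedCategory.{v₅, u₅} C}
  {F : 𝒳 ⥤ᵇ 𝒮} {G : 𝒴 ⥤ᵇ 𝒮}

/-- a 2-morphism into the 2-fibre product from its two components -/
def fpHomMk {a a' : 𝒲 ⥤ᵇ FibCat.fp F G}
    (α : BasedFunctor.comp a (FibCat.fpFst F G) ⟶ BasedFunctor.comp a' (FibCat.fpFst F G))
    (β : BasedFunctor.comp a (FibCat.fpSnd F G) ⟶ BasedFunctor.comp a' (FibCat.fpSnd F G))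
    (h : ∀ w, F.map (α.toNatTrans.app w) ≫ (a'.obj w).obj.iso.hom =
      (a.obj w).obj.iso.hom ≫ G.map (β.toNatTrans.app w)) : a ⟶ a' where
  toNatTrans :=
    { app := fun w => ObjectProperty.homMk ⟨α.toNatTrans.app w, β.toNatTrans.app w, h w⟩
      naturality := fun w w' g => by
        apply ObjectProperty.hom_ext
        apply CategoricalPullback.hom_ext
        · exact α.toNatTrans.naturality g
        · exact β.toNatTrans.naturality g }
  isHomLift' := fun w => by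
    have := α.isHomLift' w
    exact IsHomLift.of_fac _ _ _
      (IsHomLift.domain_eq 𝒳.p (𝟙 (𝒲.p.obj w)) (α.toNatTrans.app w))
      (IsHomLift.codomain_eq 𝒳.p (𝟙 (𝒲.p.obj w)) (α.toNatTrans.app w))
      (IsHomLift.fac 𝒳.p (𝟙 (𝒲.p.obj w)) (α.toNatTrans.app w))

theorem fpHomMk_fst {a a' : 𝒲 ⥤ᵇ FibCat.fp F G}
    (α : BasedFunctor.comp a (FibCat.fpFst F G) ⟶ BasedFunctor.comp a' (FibCat.fpFst F G))
    (β : BasedFunctor.comp a (FibCat.fpSnd F G) ⟶ BasedFunctor.comp a' (FibCat.fpSnd F G))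
    (h : ∀ w, F.map (α.toNatTrans.app w) ≫ (a'.obj w).obj.iso.hom =
      (a.obj w).obj.iso.hom ≫ G.map (β.toNatTrans.app w)) :
    BasedCategory.whiskerRight (fpHomMk α β h) (FibCat.fpFst F G) = α := by
  apply BasedNatTrans.homCategory.ext; ext; rfl

theorem fpHomMk_snd {a a' : 𝒲 ⥤ᵇ FibCat.fp F G}
    (α : BasedFunctor.comp a (FibCat.fpFst F G) ⟶ BasedFunctor.comp a' (FibCat.fpFst F G))
    (β : BasedFunctor.comp a (FibCat.fpSnd F G) ⟶ BasedFunctor.comp a' (FibCat.fpSnd F G))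
    (h : ∀ w, F.map (α.toNatTrans.app w) ≫ (a'.obj w).obj.iso.hom =
      (a.obj w).obj.iso.hom ≫ G.map (β.toNatTrans.app w)) :
    BasedCategory.whiskerRight (fpHomMk α β h) (FibCat.fpSnd F G) = β := by
  apply BasedNatTrans.homCategory.ext; ext; rfl

theorem fp_hom_ext {a a' : 𝒲 ⥤ᵇ FibCat.fp F G} (φ ψ : a ⟶ a')
    (h1 : BasedCategory.whiskerRight φ (FibCat.fpFst F G) =
      BasedCategory.whiskerRight ψ (FibCat.fpFst F G))
    (h2 : BasedCategory.whiskerRight φ (FibCat.fpSnd F G) =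
      BasedCategory.whiskerRight ψ (FibCat.fpSnd F G)) : φ = ψ := by
  apply BasedNatTrans.homCategory.ext; ext w
  · exact congrArg (fun t => t.toNatTrans.app w) h1
  · exact congrArg (fun t => t.toNatTrans.app w) h2

/-- the compatibility satisfied by any 2-morphism into the fibre product -/
theorem fp_hom_w {a a' : 𝒲 ⥤ᵇ FibCat.fp F G} (φ : a ⟶ a') (w : 𝒲.obj) :
    F.map ((BasedCategory.whiskerRight φ (FibCat.fpFst F G)).toNatTrans.app w) ≫
      (a'.obj w).obj.iso.hom =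
    (a.obj w).obj.iso.hom ≫
      G.map ((BasedCategory.whiskerRight φ (FibCat.fpSnd F G)).toNatTrans.app w) :=
  (φ.toNatTrans.app w).hom.w

theorem aux3 {D D' E : Type*} [Category D] [Category D'] [Category E] (F : D ⥤ E) (G : D' ⥤ E)
    {x x' : D} {y y' : D'} {i : F.obj x ⟶ G.obj y} {i' : F.obj x' ⟶ G.obj y'}
    {αh : x ⟶ x'} {αi : x' ⟶ x} {βh : y ⟶ y'} {βi : y' ⟶ y}
    (e1 : αi ≫ αh = 𝟙 _) (e2 : βh ≫ βi = 𝟙 _) (h0 : F.map αh ≫ i' = i ≫ G.map βh) :
    F.map αi ≫ i = i' ≫ G.map βi := by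
  calc F.map αi ≫ i = F.map αi ≫ (i ≫ G.map βh) ≫ G.map βi := by
        rw [Category.assoc, ← G.map_comp, e2, G.map_id, Category.comp_id]
    _ = i' ≫ G.map βi := by
        rw [← h0, Category.assoc, ← Category.assoc, ← F.map_comp, e1, F.map_id, Category.id_comp]

theorem aux4 {D D' E : Type*} [Category D] [Category D'] [Category E] (F : D ⥤ E) (G : D' ⥤ E)
    {x₀ x x' : D} {y y' : D'} {i : F.obj x ⟶ G.obj y} {i' : F.obj x' ⟶ G.obj y'}
    {b : x₀ ⟶ x} {αh : x ⟶ x'} {βh : y ⟶ y'} (h0 : F.map αh ≫ i' = i ≫ G.map βh) :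
    (F.map b ≫ i) ≫ G.map βh = F.map (b ≫ αh) ≫ i' := by
  rw [Category.assoc, ← h0, F.map_comp, Category.assoc]

theorem aux5 {D D' E : Type*} [Category D] [Category D'] [Category E] (F : D ⥤ E) (G : D' ⥤ E)
    {x₀ x x' : D} {y y' : D'} {i : F.obj x ⟶ G.obj y} {i' : F.obj x' ⟶ G.obj y'}
    {b : x₀ ⟶ x} {binv : x ⟶ x₀} {b' : x₀ ⟶ x'} {βh : y ⟶ y'} (e : binv ≫ b = 𝟙 _)
    (h0 : (F.map b ≫ i) ≫ G.map βh = F.map b' ≫ i') :
    F.map (binv ≫ b') ≫ i' = i ≫ G.map βh := by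
  rw [F.map_comp, Category.assoc, ← h0, Category.assoc, ← Category.assoc, ← F.map_comp, e,
    F.map_id, Category.id_comp]

theorem aux6 {D : Type*} [Category D] {x₀ x x' z : D} {b : x₀ ⟶ x} {binv : x ⟶ x₀}
    {b' : x₀ ⟶ x'} {t : x ⟶ z} {t' : x' ⟶ z} {s : x₀ ⟶ z} (e : binv ≫ b = 𝟙 _)
    (h : b ≫ t = s) (h' : b' ≫ t' = s) : (binv ≫ b') ≫ t' = t := by
  rw [Category.assoc, h', ← h, ← Category.assoc, e, Category.id_comp]

/-- an invertible 2-morphism into the 2-fibre product from its two components -/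
def fpIsoMk {a a' : 𝒲 ⥤ᵇ FibCat.fp F G}
    (α : BasedFunctor.comp a (FibCat.fpFst F G) ≅ BasedFunctor.comp a' (FibCat.fpFst F G))
    (β : BasedFunctor.comp a (FibCat.fpSnd F G) ≅ BasedFunctor.comp a' (FibCat.fpSnd F G))
    (h : ∀ w, F.map (α.hom.toNatTrans.app w) ≫ (a'.obj w).obj.iso.hom =
      (a.obj w).obj.iso.hom ≫ G.map (β.hom.toNatTrans.app w)) : a ≅ a' where
  hom := fpHomMk α.hom β.hom h
  inv := fpHomMk α.inv β.inv (fun w => by
    have e1 : α.inv.toNatTrans.app w ≫ α.hom.toNatTrans.app w = 𝟙 _ :=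
      congrArg (fun t => t.toNatTrans.app w) α.inv_hom_id
    have e2 : β.hom.toNatTrans.app w ≫ β.inv.toNatTrans.app w = 𝟙 _ :=
      congrArg (fun t => t.toNatTrans.app w) β.hom_inv_id
    exact aux3 F.toFunctor G.toFunctor e1 e2 (h w))
  hom_inv_id := by
    apply fp_hom_ext
    · rw [LiftSq.whiskerRight_comp', fpHomMk_fst, fpHomMk_fst, α.hom_inv_id,
        LiftSq.whiskerRight_id']
    · rw [LiftSq.whiskerRight_comp', fpHomMk_snd, fpHomMk_snd, β.hom_inv_id,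
        LiftSq.whiskerRight_id']
  inv_hom_id := by
    apply fp_hom_ext
    · rw [LiftSq.whiskerRight_comp', fpHomMk_fst, fpHomMk_fst, α.inv_hom_id,
        LiftSq.whiskerRight_id']
    · rw [LiftSq.whiskerRight_comp', fpHomMk_snd, fpHomMk_snd, β.inv_hom_id,
        LiftSq.whiskerRight_id']

/-- whiskering an isomorphism on the left -/
def wlIso {𝒜 : BasedCategory.{v₆, u₆} C} (j : 𝒜 ⥤ᵇ 𝒲) {G' H' : 𝒲 ⥤ᵇ 𝒳} (α : G' ≅ H') :
    BasedFunctor.comp j G' ≅ BasedFunctor.comp j H' where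
  hom := BasedCategory.whiskerLeft j α.hom
  inv := BasedCategory.whiskerLeft j α.inv
  hom_inv_id := by rw [← LiftSq.whiskerLeft_comp', α.hom_inv_id, LiftSq.whiskerLeft_id']
  inv_hom_id := by rw [← LiftSq.whiskerLeft_comp', α.inv_hom_id, LiftSq.whiskerLeft_id']

section Main

variable {𝒜 : BasedCategory.{v₇, u₇} C} {ℬ : BasedCategory.{v₈, u₈} C} {j : 𝒜 ⥤ᵇ ℬ}

/-- the square against `G` obtained from a square against the base change of `G` -/
def sqG (sq : LiftSq.Sq j (FibCat.fpFst F G)) : LiftSq.Sq j G where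
  top := BasedFunctor.comp sq.top (FibCat.fpSnd F G)
  bot := BasedFunctor.comp sq.bot F
  iso := wrIso sq.iso F ≪≫ wlIso sq.top (FibCat.fpIso F G)

theorem sqG_iso_app (sq : LiftSq.Sq j (FibCat.fpFst F G)) (x : 𝒜.obj) :
    (sqG sq).iso.hom.toNatTrans.app x =
      F.map (sq.iso.hom.toNatTrans.app x) ≫ (sq.top.obj x).obj.iso.hom := rfl

/-- a lift against the base change gives a lift against `G` -/
def liftG {sq : LiftSq.Sq j (FibCat.fpFst F G)} (d : sq.Lift) : (sqG sq).Lift where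
  fn := BasedFunctor.comp d.fn (FibCat.fpSnd F G)
  isoTop := wrIso d.isoTop (FibCat.fpSnd F G)
  isoBot := wrIso d.isoBot F ≪≫ wlIso d.fn (FibCat.fpIso F G)
  w := by
    apply BasedNatTrans.homCategory.ext; ext x
    have hw : d.isoBot.hom.toNatTrans.app (j.obj x) ≫ (d.isoTop.hom.toNatTrans.app x).hom.fst =
        sq.iso.hom.toNatTrans.app x := congrArg (fun t => t.toNatTrans.app x) d.w
    have h2 := (d.isoTop.hom.toNatTrans.app x).hom.w
    change (F.map (d.isoBot.hom.toNatTrans.app (j.obj x)) ≫ (d.fn.obj (j.obj x)).obj.iso.hom) ≫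
      G.map ((d.isoTop.hom.toNatTrans.app x).hom.snd) =
      F.map (sq.iso.hom.toNatTrans.app x) ≫ (sq.top.obj x).obj.iso.hom
    rw [← hw]
    exact aux4 F.toFunctor G.toFunctor h2

theorem hasLift_bc (hG : LiftSq.Lifts j G) (sq : LiftSq.Sq j (FibCat.fpFst F G)) :
    sq.HasLift := by
  obtain ⟨d'⟩ := hG (sqG sq)
  let fn : ℬ ⥤ᵇ FibCat.fp F G := FibCat.fpLift sq.bot d'.fn d'.isoBot
  have hw : ∀ x : 𝒜.obj, d'.isoBot.hom.toNatTrans.app (j.obj x) ≫
      G.map (d'.isoTop.hom.toNatTrans.app x) =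
      F.map (sq.iso.hom.toNatTrans.app x) ≫ (sq.top.obj x).obj.iso.hom := fun x =>
    congrArg (fun t => t.toNatTrans.app x) d'.w
  let isoTop : BasedFunctor.comp j fn ≅ sq.top :=
    fpIsoMk (a := BasedFunctor.comp j fn) (a' := sq.top) sq.iso d'.isoTop (fun x => (hw x).symm)
  let isoBot : sq.bot ≅ BasedFunctor.comp fn (FibCat.fpFst F G) := Iso.refl _
  refine ⟨⟨fn, isoTop, isoBot, ?_⟩⟩
  apply BasedNatTrans.homCategory.ext; ext x
  change 𝟙 _ ≫ sq.iso.hom.toNatTrans.app x = sq.iso.hom.toNatTrans.app x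
  exact Category.id_comp _


/-- a morphism of lifts against the base change gives a morphism of lifts against `G` -/
def homG {sq : LiftSq.Sq j (FibCat.fpFst F G)} {d d' : sq.Lift} (ψ : d ⟶ d') :
    liftG d ⟶ liftG d' where
  hom := BasedCategory.whiskerRight ψ.hom (FibCat.fpSnd F G)
  w_top := by
    have h := ψ.w_top
    change BasedCategory.whiskerLeft j (BasedCategory.whiskerRight ψ.hom (FibCat.fpSnd F G)) ≫
      BasedCategory.whiskerRight d'.isoTop.hom (FibCat.fpSnd F G) =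
      BasedCategory.whiskerRight d.isoTop.hom (FibCat.fpSnd F G)
    rw [← h, LiftSq.whiskerRight_comp', whiskerRight_whiskerLeft]
  w_bot := by
    apply BasedNatTrans.homCategory.ext; ext x
    have hb : d.isoBot.hom.toNatTrans.app x ≫ (ψ.hom.toNatTrans.app x).hom.fst =
        d'.isoBot.hom.toNatTrans.app x := congrArg (fun t => t.toNatTrans.app x) ψ.w_bot
    have h2 := (ψ.hom.toNatTrans.app x).hom.w
    change (F.map (d.isoBot.hom.toNatTrans.app x) ≫ (d.fn.obj x).obj.iso.hom) ≫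
      G.map ((ψ.hom.toNatTrans.app x).hom.snd) =
      F.map (d'.isoBot.hom.toNatTrans.app x) ≫ (d'.fn.obj x).obj.iso.hom
    rw [← hb]
    exact aux4 F.toFunctor G.toFunctor h2

theorem uniqLift_bc (hG : LiftSq.LiftsUnique j G) (sq : LiftSq.Sq j (FibCat.fpFst F G)) :
    sq.UniqLift := by
  intro d d'
  obtain ⟨u⟩ := hG (sqG sq) (liftG d) (liftG d')
  obtain ⟨φ', hφ'⟩ : ∃ φ' : liftG d ⟶ liftG d', φ' = u.default := ⟨_, rfl⟩
  have hbot : ∀ x : ℬ.obj, (F.map (d.isoBot.hom.toNatTrans.app x) ≫ (d.fn.obj x).obj.iso.hom) ≫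
      G.map (φ'.hom.toNatTrans.app x) =
      F.map (d'.isoBot.hom.toNatTrans.app x) ≫ (d'.fn.obj x).obj.iso.hom := fun x =>
    congrArg (fun t => t.toNatTrans.app x) φ'.w_bot
  have hinv : ∀ x : ℬ.obj, d.isoBot.inv.toNatTrans.app x ≫ d.isoBot.hom.toNatTrans.app x = 𝟙 _ :=
    fun x => congrArg (fun t => t.toNatTrans.app x) d.isoBot.inv_hom_id
  let φ : d.fn ⟶ d'.fn := fpHomMk (d.isoBot.inv ≫ d'.isoBot.hom) φ'.hom (fun x => by
    change F.map (d.isoBot.inv.toNatTrans.app x ≫ d'.isoBot.hom.toNatTrans.app x) ≫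
      (d'.fn.obj x).obj.iso.hom = (d.fn.obj x).obj.iso.hom ≫ G.map (φ'.hom.toNatTrans.app x)
    exact aux5 F.toFunctor G.toFunctor (hinv x) (hbot x))
  have hφ1 : BasedCategory.whiskerRight φ (FibCat.fpFst F G) = d.isoBot.inv ≫ d'.isoBot.hom :=
    fpHomMk_fst _ _ _
  have hφ2 : BasedCategory.whiskerRight φ (FibCat.fpSnd F G) = φ'.hom := fpHomMk_snd _ _ _
  refine ⟨⟨⟨⟨φ, ?_, ?_⟩⟩, ?_⟩⟩
  · apply fp_hom_ext
    · rw [LiftSq.whiskerRight_comp', whiskerRight_whiskerLeft, hφ1]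
      apply BasedNatTrans.homCategory.ext; ext x
      have hw : d.isoBot.hom.toNatTrans.app (j.obj x) ≫ (d.isoTop.hom.toNatTrans.app x).hom.fst =
        sq.iso.hom.toNatTrans.app x := congrArg (fun t => t.toNatTrans.app x) d.w
      have hw' : d'.isoBot.hom.toNatTrans.app (j.obj x) ≫
          (d'.isoTop.hom.toNatTrans.app x).hom.fst =
        sq.iso.hom.toNatTrans.app x := congrArg (fun t => t.toNatTrans.app x) d'.w
      change (d.isoBot.inv.toNatTrans.app (j.obj x) ≫ d'.isoBot.hom.toNatTrans.app (j.obj x)) ≫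
        (d'.isoTop.hom.toNatTrans.app x).hom.fst = (d.isoTop.hom.toNatTrans.app x).hom.fst
      exact aux6 (hinv (j.obj x)) hw hw'
    · rw [LiftSq.whiskerRight_comp', whiskerRight_whiskerLeft, hφ2]
      exact φ'.w_top
  · rw [hφ1, ← Category.assoc, Iso.hom_inv_id, Category.id_comp]
  · intro ψ
    have h1 : homG ψ = φ' := (u.uniq _).trans hφ'.symm
    have h1h : BasedCategory.whiskerRight ψ.hom (FibCat.fpSnd F G) = φ'.hom :=
      congrArg LiftSq.Sq.Lift.Hom.hom h1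
    have h2 : BasedCategory.whiskerRight ψ.hom (FibCat.fpFst F G) =
        d.isoBot.inv ≫ d'.isoBot.hom := by
      rw [← ψ.w_bot, ← Category.assoc, Iso.inv_hom_id, Category.id_comp]
    apply LiftSq.Sq.Lift.hom_ext
    change ψ.hom = φ
    apply fp_hom_ext
    · rw [h2, hφ1]
    · rw [h1h, hφ2]

theorem liftsUniquely_bc (hG : LiftSq.LiftsUniquely j G) :
    LiftSq.LiftsUniquely j (FibCat.fpFst F G) := fun sq =>
  ⟨hasLift_bc (fun s => (hG s).1) sq, uniqLift_bc (fun s => (hG s).2) sq⟩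


end Main

end Groth.Agent.Helper9.LiftSqBC
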