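import Mathlib

/-! Continuous functionals on linearly topologized vector spaces (helper9). -/

set_option autoImplicit false

namespace Groth.Agent.Helper9

open Topology

/-- A linear functional to a discrete field which vanishes on an open submodule is continuous. -/
theorem continuous_of_open_le_ker {k M : Type*} [Field k] [TopologicalSpace k] [DiscreteTopology k]
    [AddCommGroup M] [Module k M] [TopologicalSpace M] [IsTopologicalAddGroup M]
    (f : M →ₗ[k] k) (U : Submodule k M) (hU : IsOpen (U : Set M)) (hfU : ∀ u ∈ U, f u = 0) :
    Continuous f := by
  apply continuous_of_continuousAt_zero f.toAddMonoidHom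
  show ContinuousAt f 0
  rw [ContinuousAt, map_zero, nhds_discrete k, Filter.tendsto_pure]
  exact Filter.mem_of_superset (hU.mem_nhds U.zero_mem) fun u hu => hfU u hu

end Groth.Agent.Helper9
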