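import Mathlib
import Groth.Prelude.Def_W4c5cptfessfintypeLocImm

set_option autoImplicit false
universe u

open CategoryTheory AlgebraicGeometry

namespace Groth.Agent.Helper9.LocImmLib

variable {X Y : Scheme.{u}}

theorem surjOnStalks (f : X ⟶ Y) (h : LocImm.IsLocalizing f) : SurjectiveOnStalks f := by
  have hQ : RingHom.StableUnderCompositionWithLocalizationAwaySource
      RingHom.SurjectiveOnStalks := by
    intro R S T _ _ _ _ r _ g hg
    exact hg.comp (RingHom.surjectiveOnStalks_of_isLocalization (Submonoid.powers r) S)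
  rw [HasRingHomProperty.iff_exists_appLE (P := @SurjectiveOnStalks) hQ]
  intro x
  obtain ⟨U, V, hx, e, hloc⟩ := h x
  refine ⟨U, V, hx, e, ?_⟩
  letI := (f.appLE U V e).hom.toAlgebra
  obtain ⟨S, hS⟩ := hloc
  exact RingHom.surjectiveOnStalks_of_isLocalization S _

theorem flat (f : X ⟶ Y) (h : LocImm.IsLocalizing f) : Flat f := by
  have hQ : RingHom.StableUnderCompositionWithLocalizationAwaySource RingHom.Flat := by
    intro R S T _ _ _ _ r _ g hg
    exact RingHom.Flat.comp (RingHom.Flat.holdsForLocalizationAway S r) hg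
  rw [HasRingHomProperty.iff_exists_appLE (P := @Flat) hQ]
  intro x
  obtain ⟨U, V, hx, e, hloc⟩ := h x
  refine ⟨U, V, hx, e, ?_⟩
  letI := (f.appLE U V e).hom.toAlgebra
  obtain ⟨S, hS⟩ := hloc
  have : Module.Flat Γ(Y, U.1) Γ(X, V.1) := IsLocalization.flat _ S
  exact this

theorem stalkMap_bijective (f : X ⟶ Y) (h : LocImm.IsLocalizing f) (x : X) :
    Function.Bijective (f.stalkMap x) := by
  have h1 := surjOnStalks f h
  have h2 := flat f h
  refine ⟨?_, f.stalkMap_surjective x⟩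
  algebraize [(f.stalkMap x).hom]
  have : Module.FaithfullyFlat (Y.presheaf.stalk (f x)) (X.presheaf.stalk x) :=
    @Module.FaithfullyFlat.of_flat_of_isLocalHom _ _ _ _ _ _ _
      (Flat.stalkMap f x) (f.toLRSHom.prop x)
  exact ‹RingHom.FaithfullyFlat _›.injective

theorem stalkMap_isIso (f : X ⟶ Y) (h : LocImm.IsLocalizing f) (x : X) :
    IsIso (f.stalkMap x) :=
  (ConcreteCategory.isIso_iff_bijective _).mpr (stalkMap_bijective f h x)

theorem generalizingMap (f : X ⟶ Y) (h : LocImm.IsLocalizing f) : GeneralizingMap f :=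
  have := flat f h
  Flat.generalizingMap f

section Top
open TopologicalSpace Topology

theorem isInducing_of_generalizing {X Y : Type*} [TopologicalSpace X] [TopologicalSpace Y]
    [NoetherianSpace X] [QuasiSober X] (f : X → Y) (hc : Continuous f)
    (hinj : Function.Injective f) (hg : GeneralizingMap f) : IsInducing f := by
  rw [isInducing_iff_nhds]
  intro x
  refine le_antisymm (hc.tendsto x).le_comap ?_
  intro W hW
  rw [mem_nhds_iff] at hW
  obtain ⟨W', hW'W, hW'o, hxW'⟩ := hW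
  -- Z = complement of W'
  have hZc : IsClosed W'ᶜ := hW'o.isClosed_compl
  obtain ⟨S, hSf, hSc, hSi, hSU⟩ := NoetherianSpace.exists_finite_set_isClosed_irreducible hZc
  -- the open set
  have hcl : IsClosed (⋃ t ∈ S, closure (f '' t)) :=
    hSf.isClosed_biUnion fun t _ => isClosed_closure
  have hfx : f x ∉ ⋃ t ∈ S, closure (f '' t) := by
    intro hmem
    simp only [Set.mem_iUnion] at hmem
    obtain ⟨t, ht, hxt⟩ := hmem
    obtain ⟨z, hz⟩ := QuasiSober.sober (hSi t ht) (hSc t ht)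
    have h1 : closure (f '' t) = closure {f z} := by
      apply subset_antisymm
      · apply closure_minimal _ isClosed_closure
        rw [← hz.def]
        calc f '' closure {z} ⊆ closure (f '' {z}) := image_closure_subset_closure_image hc
          _ = closure {f z} := by rw [Set.image_singleton]
      · apply closure_mono
        rw [Set.singleton_subset_iff]
        exact ⟨z, hz.mem, rfl⟩
    rw [h1, ← specializes_iff_mem_closure] at hxt
    obtain ⟨z', hz'x, hz'⟩ := hg hxt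
    have : z' = z := hinj hz'
    subst this
    have hxt' : x ∈ t := by
      rw [← hz.def, ← specializes_iff_mem_closure]
      exact hz'x
    have : x ∈ W'ᶜ := by
      rw [hSU]
      exact ⟨t, ht, hxt'⟩
    exact this hxW'
  refine Filter.mem_comap.mpr ⟨(⋃ t ∈ S, closure (f '' t))ᶜ, hcl.isOpen_compl.mem_nhds hfx, ?_⟩
  intro y hy
  apply hW'W
  by_contra hyW
  have : y ∈ W'ᶜ := hyW
  rw [hSU] at this
  obtain ⟨t, ht, hyt⟩ := this
  apply hy
  simp only [Set.mem_iUnion]
  exact ⟨t, ht, subset_closure ⟨y, hyt, rfl⟩⟩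

theorem isOpen_of_isClosed_of_stableUnderGeneralization {Y : Type*} [TopologicalSpace Y]
    [NoetherianSpace Y] [QuasiSober Y] {Z : Set Y} (hZ : IsClosed Z)
    (hg : StableUnderGeneralization Z) : IsOpen Z := by
  obtain ⟨S, hSf, hSc, hSi, hSU⟩ :=
    NoetherianSpace.exists_finite_set_isClosed_irreducible (isClosed_univ (X := Y))
  have key : Zᶜ = ⋃ t ∈ {t ∈ S | ¬ t ⊆ Z}, t := by
    ext y
    simp only [Set.mem_compl_iff, Set.mem_ofPred_eq, Set.mem_iUnion, exists_prop]
    constructor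
    · intro hy
      have : y ∈ ⋃₀ S := hSU ▸ Set.mem_univ y
      obtain ⟨t, ht, hyt⟩ := this
      exact ⟨t, ⟨ht, fun h => hy (h hyt)⟩, hyt⟩
    · rintro ⟨t, ⟨ht, htZ⟩, hyt⟩ hyZ
      apply htZ
      obtain ⟨η, hη⟩ := QuasiSober.sober (hSi t ht) (hSc t ht)
      have h1 : η ⤳ y := by
        rw [specializes_iff_mem_closure, hη.def]
        exact hyt
      have h2 : η ∈ Z := hg h1 hyZ
      rw [← hη.def]
      exact closure_minimal (Set.singleton_subset_iff.mpr h2) hZ
  have : IsClosed Zᶜ := by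
    rw [key]
    exact (hSf.subset (fun t ht => ht.1)).isClosed_biUnion fun t ht => hSc t ht.1
  exact isClosed_compl_iff.mp this

end Top

theorem isEmbedding (f : X ⟶ Y) [IsNoetherian X] (h : LocImm.IsLocImmersion f) :
    Topology.IsEmbedding f :=
  ⟨isInducing_of_generalizing f f.continuous h.2 (generalizingMap f h.1), h.2⟩

theorem isOpenImmersion_of_isOpen_range (f : X ⟶ Y) [IsNoetherian X]
    (h : LocImm.IsLocImmersion f) (ho : IsOpen (Set.range f)) : IsOpenImmersion f := by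
  have : ∀ x, IsIso (f.stalkMap x) := stalkMap_isIso f h.1
  exact IsOpenImmersion.of_isIso_stalkMap f ⟨isEmbedding f h, ho⟩


theorem isLocHom_algebraMap (A B : Type*) [CommRing A] [CommRing B] [Algebra A B]
    (S : Submonoid A) [h : IsLocalization S B] : LocImm.IsLocHom (algebraMap A B) := by
  have : (algebraMap A B).toAlgebra = ‹Algebra A B› := Algebra.algebra_ext _ _ (fun r => rfl)
  refine ⟨S, ?_⟩
  rw [this]
  exact h

theorem isLocHom_iff {A B : Type*} [CommRing A] [CommRing B] (φ : A →+* B) :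
    LocImm.IsLocHom φ ↔ ∃ S : Submonoid A, (∀ s ∈ S, IsUnit (φ s)) ∧
      (∀ b : B, ∃ a : A, ∃ s ∈ S, b * φ s = φ a) ∧
      (∀ x y : A, φ x = φ y → ∃ c ∈ S, c * x = c * y) := by
  constructor
  · rintro ⟨S, hS⟩
    letI := φ.toAlgebra
    refine ⟨S, fun s hs => IsLocalization.map_units B (⟨s, hs⟩ : S), fun b => ?_,
      fun x y hxy => ?_⟩
    · obtain ⟨⟨a, s⟩, h⟩ := IsLocalization.surj S b
      exact ⟨a, s.1, s.2, h⟩
    · obtain ⟨c, hc⟩ := IsLocalization.exists_of_eq (M := S) (S := B) (x := x) (y := y) hxy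
      exact ⟨c.1, c.2, hc⟩
  · rintro ⟨S, h1, h2, h3⟩
    letI := φ.toAlgebra
    refine ⟨S, ⟨fun s => h1 s.1 s.2, fun b => ?_, fun {x y} hxy => ?_⟩⟩
    · obtain ⟨a, s, hs, h⟩ := h2 b
      exact ⟨⟨a, ⟨s, hs⟩⟩, h⟩
    · obtain ⟨c, hc, h⟩ := h3 x y hxy
      exact ⟨⟨c, hc⟩, h⟩

theorem isLocHom_of_bijective_square {A B A₁ B₁ : Type*} [CommRing A] [CommRing B]
    [CommRing A₁] [CommRing B₁] (φ : A →+* B) (φ₁ : A₁ →+* B₁) (α : A₁ →+* A) (β : B₁ →+* B)
    (hα : Function.Bijective α) (hβ : Function.Bijective β)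
    (hsq : β.comp φ₁ = φ.comp α) (h : LocImm.IsLocHom φ) : LocImm.IsLocHom φ₁ := by
  rw [isLocHom_iff] at h ⊢
  obtain ⟨S, h1, h2, h3⟩ := h
  have hsq' : ∀ a, β (φ₁ a) = φ (α a) := fun a => congr($hsq a)
  refine ⟨S.comap α, fun s hs => ?_, fun b => ?_, fun x y hxy => ?_⟩
  · have := h1 (α s) hs
    rw [← hsq'] at this
    exact (isUnit_map_iff (RingEquiv.ofBijective β hβ) _).mp this
  · obtain ⟨a, s, hs, h⟩ := h2 (β b)
    obtain ⟨a₁, rfl⟩ := hα.2 a
    obtain ⟨s₁, rfl⟩ := hα.2 s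
    refine ⟨a₁, s₁, hs, hβ.1 ?_⟩
    rw [map_mul, hsq', hsq', h]
  · have : φ (α x) = φ (α y) := by rw [← hsq', ← hsq', hxy]
    obtain ⟨c, hc, h⟩ := h3 _ _ this
    obtain ⟨c₁, rfl⟩ := hα.2 c
    refine ⟨c₁, hc, hα.1 ?_⟩
    rw [map_mul, map_mul, h]


theorem exists_ring_iso_of_openImmersion {X : Scheme.{u}} {B : CommRingCat.{u}} (i : Spec B ⟶ X)
    [IsOpenImmersion i] :
    ∃ β : Γ(X, i.opensRange) ⟶ B, IsIso β ∧
      Spec.map β ≫ (isAffineOpen_opensRange i).fromSpec = i := by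
  have hV := isAffineOpen_opensRange i
  have e : Set.range i = Set.range hV.fromSpec := by
    rw [hV.range_fromSpec]; rfl
  let iso := IsOpenImmersion.isoOfRangeEq i hV.fromSpec e
  refine ⟨Spec.preimage iso.hom, ?_, ?_⟩
  · have h1 : IsIso (Scheme.Spec.map (Spec.preimage iso.hom).op) := by
      change IsIso (Spec.map (Spec.preimage iso.hom))
      rw [Spec.map_preimage]
      infer_instance
    have h2 : IsIso (Spec.preimage iso.hom).op := isIso_of_reflects_iso _ Scheme.Spec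
    exact isIso_of_op _
  · rw [Spec.map_preimage]
    exact IsOpenImmersion.isoOfRangeEq_hom_fac _ _ _

theorem isLocHom_appLE_of_fac {X Y : Scheme.{u}} (f : X ⟶ Y) {A B : CommRingCat.{u}} (φ : A ⟶ B)
    (i : Spec B ⟶ X) (j : Spec A ⟶ Y) [IsOpenImmersion i] [IsOpenImmersion j]
    (w : i ≫ f = Spec.map φ ≫ j) (hφ : LocImm.IsLocHom φ.hom)
    (e : i.opensRange ≤ f ⁻¹ᵁ j.opensRange) :
    LocImm.IsLocHom (f.appLE j.opensRange i.opensRange e).hom := by
  obtain ⟨β, hβ, hβi⟩ := exists_ring_iso_of_openImmersion i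
  obtain ⟨α, hα, hαj⟩ := exists_ring_iso_of_openImmersion j
  have h1 := IsAffineOpen.SpecMap_appLE_fromSpec f (isAffineOpen_opensRange j)
    (isAffineOpen_opensRange i) e
  have h2 : Spec.map (f.appLE j.opensRange i.opensRange e ≫ β) ≫
      (isAffineOpen_opensRange j).fromSpec =
      Spec.map (α ≫ φ) ≫ (isAffineOpen_opensRange j).fromSpec := by
    rw [Spec.map_comp, Spec.map_comp, Category.assoc, Category.assoc, h1, reassoc_of% hβi, w,
      hαj]
  have h3 : f.appLE j.opensRange i.opensRange e ≫ β = α ≫ φ :=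
    Spec.map_injective ((cancel_mono _).mp h2)
  refine isLocHom_of_bijective_square φ.hom _ α.hom β.hom
    (ConcreteCategory.bijective_of_isIso α) (ConcreteCategory.bijective_of_isIso β) ?_ hφ
  rw [← CommRingCat.hom_comp, ← CommRingCat.hom_comp, h3]


/-- Spec-form of localizing at a point. -/
def IsLocalizingAt {X Y : Scheme.{u}} (f : X ⟶ Y) (x : X) : Prop :=
  ∃ (A B : CommRingCat.{u}) (φ : A ⟶ B) (i : Spec B ⟶ X) (j : Spec A ⟶ Y),
    IsOpenImmersion i ∧ IsOpenImmersion j ∧ x ∈ Set.range i ∧ i ≫ f = Spec.map φ ≫ j ∧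
      LocImm.IsLocHom φ.hom

theorem isLocalizing_iff {X Y : Scheme.{u}} (f : X ⟶ Y) :
    LocImm.IsLocalizing f ↔ ∀ x, IsLocalizingAt f x := by
  constructor
  · intro h x
    obtain ⟨U, V, hx, e, hloc⟩ := h x
    refine ⟨Γ(Y, U.1), Γ(X, V.1), f.appLE U.1 V.1 e, V.2.fromSpec, U.2.fromSpec,
      V.2.isOpenImmersion_fromSpec, U.2.isOpenImmersion_fromSpec, ?_, ?_, hloc⟩
    · rw [V.2.range_fromSpec]; exact hx
    · exact (IsAffineOpen.SpecMap_appLE_fromSpec f U.2 V.2 e).symm
  · intro h x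
    obtain ⟨A, B, φ, i, j, hi, hj, hx, w, hφ⟩ := h x
    have e : i.opensRange ≤ f ⁻¹ᵁ j.opensRange := by
      rintro _ ⟨t, rfl⟩
      change f (i t) ∈ Set.range j
      rw [← Scheme.Hom.comp_apply, w, Scheme.Hom.comp_apply]
      exact ⟨_, rfl⟩
    exact ⟨⟨j.opensRange, isAffineOpen_opensRange j⟩, ⟨i.opensRange, isAffineOpen_opensRange i⟩,
      hx, e, isLocHom_appLE_of_fac f φ i j w hφ e⟩


open Limits TensorProduct in
theorem isLocHom_includeRight (A B A' : Type u) [CommRing A] [CommRing B] [CommRing A']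
    [Algebra A B] [Algebra A A'] (h : LocImm.IsLocHom (algebraMap A B)) :
    LocImm.IsLocHom (RingHomClass.toRingHom
      (Algebra.TensorProduct.includeRight (R := A) (A := B) (B := A'))) := by
  obtain ⟨S, hS⟩ := h
  have e : (algebraMap A B).toAlgebra = ‹Algebra A B› := Algebra.algebra_ext _ _ (fun r => rfl)
  rw [e] at hS
  letI := Algebra.TensorProduct.rightAlgebra (R := A) (A := B) (B := A')
  have := isLocHom_algebraMap A' (B ⊗[A] A') (Algebra.algebraMapSubmonoid A' S)
  exact this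

open Limits TensorProduct in
theorem isLocalizingAt_pullback_snd {X Y Y' : Scheme.{u}} (f : X ⟶ Y) (g : Y' ⟶ Y)
    (z : ↑(pullback f g)) (h : IsLocalizingAt f (pullback.fst f g z)) :
    IsLocalizingAt (pullback.snd f g) z := by
  obtain ⟨A, B, φ, i, j, hi, hj, hx, w, hφ⟩ := h
  have hgy : g (pullback.snd f g z) ∈ j.opensRange := by
    rw [← Scheme.Hom.comp_apply, ← pullback.condition, Scheme.Hom.comp_apply]
    obtain ⟨t, ht⟩ := hx
    rw [← ht, ← Scheme.Hom.comp_apply, w, Scheme.Hom.comp_apply]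
    exact ⟨_, rfl⟩
  obtain ⟨_, ⟨W, hW, rfl⟩, hyW, hWU⟩ := Y'.isBasis_affineOpens.exists_subset_of_mem_open
    (show pullback.snd f g z ∈ (g ⁻¹ᵁ j.opensRange : Set Y') from hgy) (g ⁻¹ᵁ j.opensRange).isOpen
  have hrange : Set.range (hW.fromSpec ≫ g) ⊆ Set.range j := by
    rintro _ ⟨t, rfl⟩
    rw [Scheme.Hom.comp_apply]
    apply hWU
    rw [← hW.range_fromSpec]
    exact ⟨t, rfl⟩
  let ψ : A ⟶ Γ(Y', W) := Spec.preimage (IsOpenImmersion.lift j (hW.fromSpec ≫ g) hrange)
  have hψ : Spec.map ψ ≫ j = hW.fromSpec ≫ g := by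
    rw [Spec.map_preimage]; exact IsOpenImmersion.lift_fac _ _ _
  letI := φ.hom.toAlgebra
  letI := ψ.hom.toAlgebra
  have hi' : IsOpenImmersion hW.fromSpec := hW.isOpenImmersion_fromSpec
  let m := pullback.map (Spec.map φ) (Spec.map ψ) f g i hW.fromSpec j w.symm hψ
  have hm : IsOpenImmersion m := inferInstance
  refine ⟨Γ(Y', W), CommRingCat.of (B ⊗[A] Γ(Y', W)),
    CommRingCat.ofHom (RingHomClass.toRingHom (Algebra.TensorProduct.includeRight
      (R := A) (A := B) (B := Γ(Y', W)))),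
    (pullbackSpecIso A B Γ(Y', W)).inv ≫ m, hW.fromSpec, inferInstance, hi', ?_, ?_, ?_⟩
  · have hzm : z ∈ Set.range m := by
      rw [Scheme.Pullback.range_map]
      refine ⟨hx, ?_⟩
      change pullback.snd f g z ∈ Set.range hW.fromSpec
      rw [hW.range_fromSpec]
      exact hyW
    obtain ⟨t, rfl⟩ := hzm
    exact ⟨(pullbackSpecIso A B Γ(Y', W)).hom t, by
      rw [← Scheme.Hom.comp_apply, Iso.hom_inv_id_assoc]⟩
  · rw [Category.assoc]
    have : m ≫ pullback.snd f g = pullback.snd _ _ ≫ IsAffineOpen.fromSpec hW :=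
      pullback.lift_snd _ _ _
    rw [this, ← Category.assoc]
    have h2 := pullbackSpecIso_inv_snd (R := A) (S := B) (T := Γ(Y', W))
    exact congrArg (· ≫ IsAffineOpen.fromSpec hW) h2
  · exact isLocHom_includeRight A B Γ(Y', W) hφ


open Limits in
theorem isLocImmersion_pullback_snd {X Y Y' : Scheme.{u}} (f : X ⟶ Y) (g : Y' ⟶ Y)
    (hf : LocImm.IsLocImmersion f) : LocImm.IsLocImmersion (pullback.snd f g) := by
  have h2 := surjOnStalks f hf.1
  have h3 : Mono f := SurjectiveOnStalks.mono_of_injective hf.2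
  refine ⟨?_, (pullback.snd f g).injective⟩
  rw [isLocalizing_iff]
  intro z
  exact isLocalizingAt_pullback_snd f g z ((isLocalizing_iff f).mp hf.1 _)

end Groth.Agent.Helper9.LocImmLib
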