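import Mathlib
import Groth.Agent.Helper9.LocImmLib

set_option autoImplicit false
universe u
open CategoryTheory AlgebraicGeometry

namespace Groth.Agent.Helper9.LocImmLib

theorem isLocHom_away {R B Ra Bb : Type*} [CommRing R] [CommRing B] [CommRing Ra] [CommRing Bb]
    [Algebra R B] [Algebra R Ra] [Algebra B Bb] [Algebra Ra Bb] [Algebra R Bb]
    [IsScalarTower R B Bb] [IsScalarTower R Ra Bb] (S : Submonoid R) [IsLocalization S B]
    (a : R) [IsLocalization.Away a Ra] [IsLocalization.Away (algebraMap R B a) Bb] :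
    LocImm.IsLocHom (algebraMap Ra Bb) := by
  have h1 : IsLocalization (IsLocalization.localizationLocalizationSubmodule S
      (Submonoid.powers (algebraMap R B a))) Bb :=
    IsLocalization.localization_localization_isLocalization S _ Bb
  have hle : Submonoid.powers a ≤ IsLocalization.localizationLocalizationSubmodule S
      (Submonoid.powers (algebraMap R B a)) := by
    rw [Submonoid.powers_le, IsLocalization.mem_localizationLocalizationSubmodule]
    exact ⟨⟨algebraMap R B a, Submonoid.mem_powers _⟩, 1, by simp⟩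
  have h2 := IsLocalization.isLocalization_of_submonoid_le Ra Bb (Submonoid.powers a)
    (IsLocalization.localizationLocalizationSubmodule S
      (Submonoid.powers (algebraMap R B a))) hle
  exact isLocHom_algebraMap Ra Bb _ (h := h2)

end Groth.Agent.Helper9.LocImmLib

namespace Groth.Agent.Helper9.LocImmLib

theorem isLocHom_appLE_basicOpen {X Y : Scheme.{u}} (f : X ⟶ Y) {U : Y.Opens}
    (hU : IsAffineOpen U) {V : X.Opens} (hV : IsAffineOpen V) (e : V ≤ f ⁻¹ᵁ U)
    (hloc : LocImm.IsLocHom (f.appLE U V e).hom) (a : Γ(Y, U)) (W : X.Opens)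
    (hW : W = X.basicOpen (f.appLE U V e a)) (e' : W ≤ f ⁻¹ᵁ (Y.basicOpen a)) :
    LocImm.IsLocHom (f.appLE (Y.basicOpen a) W e').hom := by
  subst hW
  obtain ⟨S, hS⟩ := hloc
  letI : Algebra Γ(Y, U) Γ(X, V) := (f.appLE U V e).hom.toAlgebra
  letI : Algebra Γ(Y, Y.basicOpen a) Γ(X, X.basicOpen (f.appLE U V e a)) :=
    (f.appLE (Y.basicOpen a) _ e').hom.toAlgebra
  letI : Algebra Γ(Y, U) Γ(X, X.basicOpen (f.appLE U V e a)) :=
    ((algebraMap Γ(X, V) Γ(X, X.basicOpen (f.appLE U V e a))).comp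
      (algebraMap Γ(Y, U) Γ(X, V))).toAlgebra
  haveI : IsScalarTower Γ(Y, U) Γ(X, V) Γ(X, X.basicOpen (f.appLE U V e a)) :=
    IsScalarTower.of_algebraMap_eq' rfl
  haveI : IsScalarTower Γ(Y, U) Γ(Y, Y.basicOpen a) Γ(X, X.basicOpen (f.appLE U V e a)) := by
    apply IsScalarTower.of_algebraMap_eq'
    change ((X.presheaf.map _).hom).comp (f.appLE U V e).hom =
      (f.appLE (Y.basicOpen a) _ e').hom.comp (Y.presheaf.map _).hom
    rw [← CommRingCat.hom_comp, ← CommRingCat.hom_comp, Scheme.Hom.appLE_map,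
      Scheme.Hom.map_appLE]
  haveI : IsLocalization.Away a Γ(Y, Y.basicOpen a) := hU.isLocalization_basicOpen a
  haveI : IsLocalization.Away (algebraMap Γ(Y, U) Γ(X, V) a)
      Γ(X, X.basicOpen (f.appLE U V e a)) := hV.isLocalization_basicOpen _
  exact isLocHom_away (R := Γ(Y, U)) (B := Γ(X, V)) (Ra := Γ(Y, Y.basicOpen a))
    (Bb := Γ(X, X.basicOpen (f.appLE U V e a))) S a

end Groth.Agent.Helper9.LocImmLib

namespace Groth.Agent.Helper9.LocImmLib

theorem comap_injective_of_isLocHom {A B : Type*} [CommRing A] [CommRing B] (φ : A →+* B)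
    (h : LocImm.IsLocHom φ) : Function.Injective (PrimeSpectrum.comap φ) := by
  obtain ⟨S, hS⟩ := h
  letI := φ.toAlgebra
  exact PrimeSpectrum.localization_comap_injective B S

theorem isLocImmersion_iff_affine_nhd {X Y : Scheme.{u}} [IsNoetherian X] (f : X ⟶ Y) :
    LocImm.IsLocImmersion f ↔ ∀ x : X, ∃ V : Y.Opens, f x ∈ V ∧ IsAffineOpen V ∧
      IsAffineOpen (f ⁻¹ᵁ V) ∧ LocImm.IsLocHom (f.app V).hom := by
  constructor
  · intro hf x
    obtain ⟨U, V, hxV, e, hloc⟩ := hf.1 x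
    obtain ⟨U', hU'o, hU'⟩ := (isEmbedding f hf).isInducing.isOpen_iff.mp V.1.isOpen
    have hfx : f x ∈ U.1 ⊓ ⟨U', hU'o⟩ := ⟨e hxV, by
      change x ∈ f ⁻¹' U'
      rw [hU']; exact hxV⟩
    obtain ⟨a, ha_le, hxa⟩ := U.2.exists_basicOpen_le ⟨f x, hfx⟩ (e hxV)
    have hpre : f ⁻¹ᵁ (Y.basicOpen a) = X.basicOpen (f.appLE U.1 V.1 e a) := by
      rw [Scheme.basicOpen_appLE]
      refine (inf_eq_right.mpr ?_).symm
      intro t ht
      have : f t ∈ U' := (ha_le ht).2
      have : t ∈ f ⁻¹' U' := this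
      rw [hU'] at this
      exact this
    refine ⟨Y.basicOpen a, hxa, U.2.basicOpen a, ?_, ?_⟩
    · rw [hpre]; exact V.2.basicOpen _
    · rw [Scheme.Hom.app_eq_appLE]
      exact isLocHom_appLE_basicOpen f U.2 V.2 e hloc a _ hpre _
  · intro h
    constructor
    · intro x
      obtain ⟨V, hxV, hV, hV', hloc⟩ := h x
      refine ⟨⟨V, hV⟩, ⟨f ⁻¹ᵁ V, hV'⟩, hxV, le_rfl, ?_⟩
      rw [← Scheme.Hom.app_eq_appLE]
      exact hloc
    · intro x x' hxx'
      obtain ⟨V, hxV, hV, hV', hloc⟩ := h x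
      have hx'V : x' ∈ f ⁻¹ᵁ V := by
        change f x' ∈ V
        rw [← hxx']; exact hxV
      have h1 := IsAffineOpen.comap_primeIdealOf_appLE (f := f) (x := x) V hV (f ⁻¹ᵁ V) hV' le_rfl hxV
      have h2 := IsAffineOpen.comap_primeIdealOf_appLE (f := f) (x := x') V hV (f ⁻¹ᵁ V) hV' le_rfl hx'V
      have h3 : hV.primeIdealOf ⟨f x, hxV⟩ = hV.primeIdealOf ⟨f x', hx'V⟩ := by
        congr 1
        exact Subtype.ext hxx'
      rw [← Scheme.Hom.app_eq_appLE] at h1 h2
      have h4 := comap_injective_of_isLocHom _ hloc (h1.trans (h3.trans h2.symm))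
      have h5 := hV'.fromSpec_primeIdealOf ⟨x, hxV⟩
      have h6 := hV'.fromSpec_primeIdealOf ⟨x', hx'V⟩
      rw [h4] at h5
      exact h5.symm.trans h6

end Groth.Agent.Helper9.LocImmLib
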