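import Mathlib
import Groth.Agent.Helper9.LocImmLib2

set_option autoImplicit false
universe u
open CategoryTheory AlgebraicGeometry Limits

namespace Groth.Agent.Helper9.LocImmLib

theorem comap_map_eq {X Y : Scheme.{u}} [IsNoetherian X] (f : X ⟶ Y)
    (hf : LocImm.IsLocImmersion f) (I : X.IdealSheafData) : (I.map f).comap f = I := by
  apply le_antisymm (Scheme.IdealSheafData.comap_map_le I f)
  have h := (isLocImmersion_iff_affine_nhd f).mp hf
  choose V hxV hV hV' hloc using h
  refine Scheme.IdealSheafData.le_of_iSup_eq_top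
    (fun x : X => (⟨f ⁻¹ᵁ V x, hV' x⟩ : X.affineOpens)) ?_ ?_
  · rw [eq_top_iff]
    intro x _
    exact TopologicalSpace.Opens.mem_iSup.mpr ⟨x, hxV x⟩
  · intro x b hb
    have hqc1 : QuasiCompact (I.subschemeι ≫ f) := inferInstance
    have hqc2 : QuasiCompact (pullback.fst f (I.map f).subschemeι) := inferInstance
    obtain ⟨S, hunit, hsurj, -⟩ := (isLocHom_iff _).mp (hloc x)
    obtain ⟨a, s, hs, hbs⟩ := hsurj b
    have hιb : (I.subschemeι.app (f ⁻¹ᵁ V x)).hom b = 0 := by
      have := I.ker_subschemeι_app ⟨f ⁻¹ᵁ V x, hV' x⟩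
      rw [← RingHom.mem_ker, this]
      exact hb
    -- a ∈ J.ideal V
    have ha : a ∈ (I.map f).ideal ⟨V x, hV x⟩ := by
      rw [Scheme.IdealSheafData.map, Scheme.Hom.ker_apply, RingHom.mem_ker]
      have h1 : ((I.subschemeι ≫ f).app (V x)).hom a =
          (I.subschemeι.app (f ⁻¹ᵁ V x)).hom ((f.app (V x)).hom a) := rfl
      rw [h1, ← hbs, map_mul, hιb, zero_mul]
      rfl
    have hιa : ((I.map f).subschemeι.app (V x)).hom a = 0 := by
      have := (I.map f).ker_subschemeι_app ⟨V x, hV x⟩
      rw [← RingHom.mem_ker, this]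
      exact ha
    have hfa : ((pullback.fst f (I.map f).subschemeι).app (f ⁻¹ᵁ V x)).hom
        ((f.app (V x)).hom a) = 0 := by
      have h1 : ((pullback.fst f (I.map f).subschemeι ≫ f).app (V x)).hom a =
        ((pullback.fst f (I.map f).subschemeι).app (f ⁻¹ᵁ V x)).hom ((f.app (V x)).hom a) := rfl
      rw [← h1]
      have h2 := Scheme.Hom.congr_app (pullback.condition (f := f) (g := (I.map f).subschemeι))
        (V x)
      rw [h2]
      have h3 : ((pullback.snd f (I.map f).subschemeι ≫ (I.map f).subschemeι).app (V x)).hom a =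
        ((pullback.snd f (I.map f).subschemeι).app ((I.map f).subschemeι ⁻¹ᵁ V x)).hom
          (((I.map f).subschemeι.app (V x)).hom a) := rfl
      rw [CommRingCat.hom_comp, RingHom.comp_apply, h3, hιa, map_zero]
      exact map_zero _
    rw [Scheme.IdealSheafData.comap, Scheme.Hom.ker_apply, RingHom.mem_ker]
    rw [← hbs, map_mul] at hfa
    have hu : IsUnit (((pullback.fst f (I.map f).subschemeι).app (f ⁻¹ᵁ V x)).hom
        ((f.app (V x)).hom s)) := (hunit s hs).map _
    exact (hu.mul_left_eq_zero).mp hfa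

end Groth.Agent.Helper9.LocImmLib
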