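import Mathlib
import Groth.Agent.Helper9.LocImmLib2

set_option autoImplicit false
universe u
open CategoryTheory AlgebraicGeometry Limits

namespace Groth.Agent.Helper9.LocImmLib

section Top
open TopologicalSpace Topology
theorem exists_maximal_generization {X : Type*} [TopologicalSpace X] [QuasiSober X] [T0Space X]
    (x : X) : ∃ ξ : X, ξ ⤳ x ∧ ∀ ξ' : X, ξ' ⤳ ξ → ξ' = ξ := by
  obtain ⟨ξ, hξ⟩ := QuasiSober.sober (isIrreducible_irreducibleComponent (x := x))
    isClosed_irreducibleComponent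
  refine ⟨ξ, ?_, ?_⟩
  · rw [specializes_iff_mem_closure, hξ.def]
    exact mem_irreducibleComponent
  · intro ξ' h
    have h1 : irreducibleComponent x ⊆ closure {ξ'} := by
      rw [← hξ.def]
      exact closure_minimal (Set.singleton_subset_iff.mpr (specializes_iff_mem_closure.mp h))
        isClosed_closure
    have h2 : IsIrreducible (closure {ξ'}) := isIrreducible_singleton.closure
    have h3 : closure {ξ'} ⊆ irreducibleComponent x := by
      have hm := irreducibleComponent_mem_irreducibleComponents x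
      exact hm.2 h2 h1
    have h4 : ξ ⤳ ξ' := by
      rw [specializes_iff_mem_closure, hξ.def]
      exact h3 (subset_closure rfl)
    exact (h.antisymm h4).eq
end Top

theorem exists_open_injOn_mono {X Y : Scheme.{u}} (f : X ⟶ Y) (h : LocImm.IsLocalizing f)
    (p : X) : ∃ V : X.Opens, p ∈ V ∧ Set.InjOn (fun x => f x) (V : Set X) ∧ Mono (V.ι ≫ f) := by
  obtain ⟨U, V, hp, e, hloc⟩ := h p
  have hinj : Set.InjOn (fun x => f x) (V.1 : Set X) := by
    intro a ha b hb hab
    have h1 := IsAffineOpen.comap_primeIdealOf_appLE (f := f) (x := a) U.1 U.2 V.1 V.2 e ha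
    have h2 := IsAffineOpen.comap_primeIdealOf_appLE (f := f) (x := b) U.1 U.2 V.1 V.2 e hb
    have h3 : U.2.primeIdealOf ⟨f a, e ha⟩ = U.2.primeIdealOf ⟨f b, e hb⟩ := by
      congr 1
      exact Subtype.ext hab
    have h4 := comap_injective_of_isLocHom _ hloc (h1.trans (h3.trans h2.symm))
    have h5 := V.2.fromSpec_primeIdealOf ⟨a, ha⟩
    have h6 := V.2.fromSpec_primeIdealOf ⟨b, hb⟩
    rw [h4] at h5
    exact h5.symm.trans h6
  refine ⟨V.1, hp, hinj, ?_⟩
  have := surjOnStalks f h
  apply SurjectiveOnStalks.mono_of_injective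
  intro a b hab
  rw [Scheme.Hom.comp_apply, Scheme.Hom.comp_apply] at hab
  exact Subtype.ext (hinj a.2 b.2 hab)

theorem mem_range_diagonal {X Y : Scheme.{u}} (f : X ⟶ Y) (V : X.Opens) [Mono (V.ι ≫ f)]
    (z : ↑(pullback f f)) (h1 : pullback.fst f f z ∈ V) (h2 : pullback.snd f f z ∈ V) :
    z ∈ Set.range (pullback.diagonal f) := by
  let m := pullback.map (V.ι ≫ f) (V.ι ≫ f) f f V.ι V.ι (𝟙 Y) (by simp) (by simp)
  have hm : m = pullback.fst (V.ι ≫ f) (V.ι ≫ f) ≫ V.ι ≫ pullback.diagonal f := by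
    apply pullback.hom_ext
    · simp only [m, Category.assoc, pullback.diagonal_fst, Category.comp_id]
      exact pullback.lift_fst _ _ _
    · simp only [m, Category.assoc, pullback.diagonal_snd, Category.comp_id]
      rw [fst_eq_snd_of_mono_eq (V.ι ≫ f)]
      exact pullback.lift_snd _ _ _
  have hz : z ∈ Set.range m := by
    rw [Scheme.Pullback.range_map]
    refine ⟨?_, ?_⟩
    · change pullback.fst f f z ∈ Set.range V.ι
      rw [Scheme.Opens.range_ι]; exact h1
    · change pullback.snd f f z ∈ Set.range V.ι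
      rw [Scheme.Opens.range_ι]; exact h2
  obtain ⟨w, rfl⟩ := hz
  rw [hm]
  exact ⟨V.ι (pullback.fst (V.ι ≫ f) (V.ι ≫ f) w), by
    simp only [Scheme.Hom.comp_apply]⟩

theorem injective_iff_isSeparated_and_injOn {X Y : Scheme.{u}} (f : X ⟶ Y)
    (hf : LocImm.IsLocalizing f) :
    Function.Injective f.base ↔ (IsSeparated f ∧
      Set.InjOn (fun x => f x) {x : X | ∀ x' : X, x' ⤳ x → x' = x}) := by
  constructor
  · intro hinj
    have := surjOnStalks f hf
    have hm : Mono f := SurjectiveOnStalks.mono_of_injective hinj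
    exact ⟨inferInstance, fun a _ b _ hab => hinj hab⟩
  · rintro ⟨hsep, hmax⟩ x x' hxx'
    obtain ⟨ξ, hξx, hξmax⟩ := exists_maximal_generization x
    obtain ⟨z, hz1, hz2⟩ := Scheme.Pullback.exists_preimage_pullback (f := f) (g := f) x x' hxx'
    have hflat := flat f hf
    have hg1 : GeneralizingMap (pullback.fst f f) := Flat.generalizingMap _
    obtain ⟨z', hz'z, hz'1⟩ := hg1 (show ξ ⤳ pullback.fst f f z by rw [hz1]; exact hξx)
    have hξ'x' : pullback.snd f f z' ⤳ x' := hz2 ▸ (hz'z.map (pullback.snd f f).continuous)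
    have hfξ : f (pullback.snd f f z') = f ξ := by
      have h := congr($(pullback.condition (f := f) (g := f)) z')
      rw [Scheme.Hom.comp_apply, Scheme.Hom.comp_apply] at h
      rw [← hz'1]; exact h.symm
    have hξ'max : ∀ ξ₂ : X, ξ₂ ⤳ pullback.snd f f z' → ξ₂ = pullback.snd f f z' := by
      intro ξ₂ h
      obtain ⟨V', hV', hinj', -⟩ := exists_open_injOn_mono f hf (pullback.snd f f z')
      have h1 : f ξ₂ ⤳ f ξ := hfξ ▸ h.map f.continuous
      obtain ⟨ξ₃, h3, h4⟩ := generalizingMap f hf h1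
      have h5 : ξ₃ = ξ := hξmax _ h3
      rw [h5] at h4
      exact hinj' (h.mem_open V'.isOpen hV') hV' (h4.symm.trans hfξ.symm)
    have hξξ' : pullback.snd f f z' = ξ := hmax hξ'max hξmax hfξ
    obtain ⟨V, hV, -, hmono⟩ := exists_open_injOn_mono f hf ξ
    have hz'Δ : z' ∈ Set.range (pullback.diagonal f) :=
      mem_range_diagonal f V z' (hz'1 ▸ hV) (hξξ'.symm ▸ hV)
    have hclosed : IsClosed (Set.range (pullback.diagonal f)) :=
      (pullback.diagonal f).isClosedEmbedding.isClosed_range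
    have hzΔ : z ∈ Set.range (pullback.diagonal f) := hz'z.mem_closed hclosed hz'Δ
    obtain ⟨w, rfl⟩ := hzΔ
    rw [← Scheme.Hom.comp_apply, pullback.diagonal_fst] at hz1
    rw [← Scheme.Hom.comp_apply, pullback.diagonal_snd] at hz2
    exact hz1.symm.trans hz2

end Groth.Agent.Helper9.LocImmLib
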