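import Mathlib
import Groth.Agent.Helper9.LocImmLib3
import Groth.Agent.Helper9.LocImmLib4

set_option autoImplicit false
universe u
open CategoryTheory AlgebraicGeometry Limits

namespace Groth.Agent.Helper9.LocImmLib

theorem isLocallyNoetherian_of_isLocalizing {P Y : Scheme.{u}} [IsLocallyNoetherian Y]
    (p : P ⟶ Y) (hp : LocImm.IsLocalizing p) : IsLocallyNoetherian P := by
  choose U V hV e hloc using hp
  refine isLocallyNoetherian_of_affine_cover (S := V) ?_ ?_
  · rw [eq_top_iff]
    intro z _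
    exact TopologicalSpace.Opens.mem_iSup.mpr ⟨z, hV z⟩
  · intro z
    have hN : IsNoetherianRing Γ(Y, (U z).1) := IsLocallyNoetherian.component_noetherian (U z)
    obtain ⟨S, hS⟩ := hloc z
    letI := (p.appLE (U z).1 (V z).1 (e z)).hom.toAlgebra
    exact IsLocalization.isNoetherianRing S _ hN

theorem isLocalizingAt_iso_comp {X P Y : Scheme.{u}} (γ : X ⟶ P) [IsIso γ] (p : P ⟶ Y) (x : X)
    (h : IsLocalizingAt p (γ x)) : IsLocalizingAt (γ ≫ p) x := by
  obtain ⟨A, B, φ, i, j, hi, hj, hx, w, hφ⟩ := h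
  refine ⟨A, B, φ, i ≫ inv γ, j, inferInstance, hj, ?_, ?_, hφ⟩
  · obtain ⟨t, ht⟩ := hx
    refine ⟨t, ?_⟩
    rw [Scheme.Hom.comp_apply, ht, ← Scheme.Hom.comp_apply, IsIso.hom_inv_id]
    rfl
  · rw [Category.assoc, IsIso.inv_hom_id_assoc, w]

theorem isLocImmersion_iso_comp {X P Y : Scheme.{u}} (γ : X ⟶ P) [IsIso γ] (p : P ⟶ Y)
    (hp : LocImm.IsLocImmersion p) : LocImm.IsLocImmersion (γ ≫ p) := by
  refine ⟨?_, ?_⟩
  · rw [isLocalizing_iff]
    intro x
    exact isLocalizingAt_iso_comp γ p x ((isLocalizing_iff p).mp hp.1 _)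
  · intro a b hab
    have h1 : p (γ a) = p (γ b) := hab
    have h2 := hp.2 h1
    have : Function.Injective γ := (ConcreteCategory.bijective_of_isIso γ.base).1
    exact this h2

theorem isLocImmersion_of_comp_of_app_injective {X Y Z : Scheme.{u}} [IsNoetherian X]
    [IsNoetherian Y] (f : X ⟶ Y) (g : Y ⟶ Z)
    (hfg : LocImm.IsLocImmersion (f ≫ g)) [IsSeparated g]
    (hd : ∀ U : Y.Opens, Function.Injective (f.app U).hom) : LocImm.IsLocImmersion f := by
  -- the base change of `f ≫ g` along `g`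
  have hp := isLocImmersion_pullback_snd (f ≫ g) g hfg
  -- the graph
  let γ : X ⟶ pullback (f ≫ g) g := pullback.lift (𝟙 _) f (Category.id_comp (f ≫ g))
  have hγ : IsClosedImmersion γ := inferInstance
  have hγp : γ ≫ pullback.snd (f ≫ g) g = f := pullback.lift_snd _ _ _
  -- `P` is Noetherian
  have hPln : IsLocallyNoetherian (pullback (f ≫ g) g) :=
    isLocallyNoetherian_of_isLocalizing _ hp.1
  have hqc : QuasiCompact (pullback.fst (f ≫ g) g) := inferInstance
  have hPc : CompactSpace ↥(pullback (f ≫ g) g) :=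
    QuasiCompact.compactSpace_of_compactSpace (pullback.fst (f ≫ g) g)
  have hPn : IsNoetherian (pullback (f ≫ g) g) := { }
  -- kernel of `f` is trivial
  have hfker : f.ker = ⊥ := by
    rw [eq_bot_iff]
    intro U a ha
    have h1 := Scheme.Hom.ideal_ker_le f U ha
    rw [RingHom.mem_ker] at h1
    have h2 : a = 0 := hd U.1 (h1.trans (map_zero _).symm)
    rw [h2]
    exact Submodule.zero_mem _
  -- so the kernel of `γ` is trivial
  have hγker : γ.ker = ⊥ := by
    have h1 := comap_map_eq (pullback.snd (f ≫ g) g) hp γ.ker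
    rw [Scheme.IdealSheafData.map_ker, hγp, hfker, Scheme.IdealSheafData.comap_bot] at h1
    exact h1.symm
  have hγiso : IsIso γ := IsClosedImmersion.isIso_iff_ker_eq_bot.mpr hγker
  rw [← hγp]
  exact isLocImmersion_iso_comp γ _ hp

end Groth.Agent.Helper9.LocImmLib
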