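import Mathlib
import Groth.Prelude.Def_W4bk4git07Quot
import Groth.Prelude.Def_ChGrp
import Groth.Agent.Helper9.AssocBundle
import Groth.Agent.Helper5.FlatCodescent

set_option autoImplicit false
set_option linter.unusedSectionVars false

namespace Groth.Agent.Helper9.LocIsotriv

open CategoryTheory CategoryTheory.Limits MonoidalCategory CartesianMonoidalCategory MonObj GrpObj
  AlgebraicGeometry
open Groth.Agent.Helper9.DescTools Groth.Agent.Helper9.ExactH1 Groth.Agent.Helper9.LocDesc

universe u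

variable {S : Scheme.{u}}

section Cover

variable {I : Type u} {X : Over S} (W : I → Over S) (c : ∀ i, W i ⟶ X)
  (hcov : Presieve.ofArrows (fun i => (W i).left) (fun i => (c i).left) ∈
    Scheme.fpqcPrecoverage X.left)

include hcov in
/-- two morphisms over a covered base agree if they agree after pulling back to the members -/
theorem eq_of_cover {T Y : Over S} (q : T ⟶ X) (u v : T ⟶ Y)
    (H : ∀ (i : I) (V : Over S) (t : V ⟶ T) (w : V ⟶ W i), w ≫ c i = t ≫ q → t ≫ u = t ≫ v) :
    u = v := by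
  apply Over.OverMorphism.ext
  apply BalFix.eq_of_local
    ((Presieve.ofArrows (fun i => (W i).left) (fun i => (c i).left)).pullbackArrows q.left)
    (Precoverage.pullbackArrows_mem _ hcov)
  rintro V₁ t₁ ⟨U₁, k₁, hk₁⟩
  obtain ⟨i⟩ := hk₁
  let V : Over S := Over.mk (pullback.snd (c i).left q.left ≫ T.hom)
  let t : V ⟶ T := Over.homMk (pullback.snd (c i).left q.left) rfl
  let w : V ⟶ W i := Over.homMk (pullback.fst (c i).left q.left) (by
    change pullback.fst _ _ ≫ (W i).hom = pullback.snd _ _ ≫ T.hom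
    rw [← Over.w (c i), ← Over.w q, pullback.condition_assoc])
  have h1 := H i V t w (by
    apply Over.OverMorphism.ext
    exact pullback.condition)
  exact congrArg CommaMorphism.left h1

include hcov in
/-- a morphism factors through a monomorphism if it does so after pulling back to the members -/
theorem factor_of_cover {T Y Y'' : Over S} (m : Y'' ⟶ Y) [Mono m] (q : T ⟶ X) (y : T ⟶ Y)
    (H : ∀ (i : I) (V : Over S) (t : V ⟶ T) (w : V ⟶ W i), w ≫ c i = t ≫ q →
      ∃ x : V ⟶ Y'', x ≫ m = t ≫ y) :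
    ∃ y' : T ⟶ Y'', y' ≫ m = y := by
  haveI : Mono m.left := inferInstance
  obtain ⟨y', hy'⟩ := BalFix.factors_of_local m.left y.left
    ((Presieve.ofArrows (fun i => (W i).left) (fun i => (c i).left)).pullbackArrows q.left)
    (Precoverage.pullbackArrows_mem _ hcov) (by
      rintro V₁ t₁ ⟨U₁, k₁, hk₁⟩
      obtain ⟨i⟩ := hk₁
      let V : Over S := Over.mk (pullback.snd (c i).left q.left ≫ T.hom)
      let t : V ⟶ T := Over.homMk (pullback.snd (c i).left q.left) rfl
      let w : V ⟶ W i := Over.homMk (pullback.fst (c i).left q.left) (by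
        change pullback.fst _ _ ≫ (W i).hom = pullback.snd _ _ ≫ T.hom
        rw [← Over.w (c i), ← Over.w q, pullback.condition_assoc])
      obtain ⟨x, hx⟩ := H i V t w (by
        apply Over.OverMorphism.ext
        exact pullback.condition)
      exact ⟨x.left, congrArg CommaMorphism.left hx⟩)
  refine ⟨Over.homMk y' (by rw [← Over.w m, ← Category.assoc, hy', Over.w y]), ?_⟩
  apply Over.OverMorphism.ext
  exact hy'

end Cover

section Main

variable {G P X : Over S} [GrpObj G] (a : AlgGrp.Action G P) (π : P ⟶ X)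
  (hinv : GIT.IsInvariant a π)
  {I : Type u} (W : I → Over S) (c : ∀ i, W i ⟶ X) (s : ∀ i, W i ⟶ P)
  (hs : ∀ i, s i ≫ π = c i)
  (hpb : ∀ i, IsPullback (fst (W i) G) (lift (snd (W i) G) (fst (W i) G ≫ s i) ≫ a.act) (c i) π)
  (hcov : Presieve.ofArrows (fun i => (W i).left) (fun i => (c i).left) ∈
    Scheme.fpqcPrecoverage X.left)

theorem triv_pt (i : I) {V : Over S} (w : V ⟶ W i) (g : V ⟶ G) :
    lift w g ≫ lift (snd (W i) G) (fst (W i) G ≫ s i) ≫ a.act = lift g (w ≫ s i) ≫ a.act := by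
  rw [← Category.assoc, comp_lift, lift_snd, lift_fst_assoc]

include hpb in
theorem exists_pt (i : I) {V : Over S} (w : V ⟶ W i) (p : V ⟶ P) (h : w ≫ c i = p ≫ π) :
    ∃ g : V ⟶ G, lift g (w ≫ s i) ≫ a.act = p := by
  refine ⟨(hpb i).lift w p h ≫ snd _ _, ?_⟩
  have h1 := (hpb i).lift_fst w p h
  have h2 := (hpb i).lift_snd w p h
  rw [← triv_pt a W s i]
  have h3 : lift w ((hpb i).lift w p h ≫ snd _ _) = (hpb i).lift w p h := by
    apply CartesianMonoidalCategory.hom_ext
    · rw [lift_fst, h1]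
    · rw [lift_snd]
  rw [h3, h2]

include hpb in
theorem unique_pt (i : I) {V : Over S} (w : V ⟶ W i) (g g' : V ⟶ G)
    (h : lift g (w ≫ s i) ≫ a.act = lift g' (w ≫ s i) ≫ a.act) : g = g' := by
  have h1 : lift w g = lift w g' := by
    apply (hpb i).hom_ext
    · rw [lift_fst, lift_fst]
    · rw [triv_pt, triv_pt, h]
  have h2 := congrArg (fun m => m ≫ snd (W i) G) h1
  simpa using h2

include hpb hcov in
/-- the action of a locally isotrivial bundle is free -/
theorem free {T : Over S} (g g' : T ⟶ G) (p : T ⟶ P)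
    (h : lift g p ≫ a.act = lift g' p ≫ a.act) : g = g' := by
  apply eq_of_cover W c hcov (p ≫ π)
  intro i V t w hw
  obtain ⟨k, hk⟩ := exists_pt a π W c s hpb i w (t ≫ p) (by rw [hw, Category.assoc])
  have h1 : lift ((t ≫ g) * k) (w ≫ s i) ≫ a.act = lift ((t ≫ g') * k) (w ≫ s i) ≫ a.act := by
    rw [AlgGrp.Action.lift_mul_act, AlgGrp.Action.lift_mul_act, hk, ← comp_lift, ← comp_lift,
      Category.assoc, Category.assoc, h]
  exact mul_right_cancel (unique_pt a π W c s hpb i w _ _ h1)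

include hpb hcov hinv in
/-- a locally isotrivial bundle is principal -/
theorem isIso_psi {K : Over S} {p₁ p₂ : K ⟶ P} (sq : IsPullback p₁ p₂ π π) :
    IsIso (sq.lift a.act (snd G P) hinv) := by
  have hΨ1 : sq.lift a.act (snd G P) hinv ≫ p₁ = a.act := sq.lift_fst _ _ _
  have hΨ2 : sq.lift a.act (snd G P) hinv ≫ p₂ = snd G P := sq.lift_snd _ _ _
  have dec : ∀ {E : Over S} (z : E ⟶ G ⊗ P), z = lift (z ≫ fst _ _) (z ≫ snd _ _) := by
    intro E z
    rw [← comp_lift, lift_fst_snd, Category.comp_id]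
  haveI : Mono (sq.lift a.act (snd G P) hinv) := by
    refine ⟨fun {T} z₁ z₂ h12 => ?_⟩
    have e1 : z₁ ≫ a.act = z₂ ≫ a.act := by
      rw [← hΨ1, ← Category.assoc, h12, Category.assoc]
    have e2 : z₁ ≫ snd G P = z₂ ≫ snd G P := by
      rw [← hΨ2, ← Category.assoc, h12, Category.assoc]
    rw [dec z₁, dec z₂] at e1 ⊢
    rw [e2] at e1 ⊢
    rw [free a π W c s hpb hcov _ _ _ e1]
  obtain ⟨σ, hσ⟩ := factor_of_cover W c hcov (sq.lift a.act (snd G P) hinv) (p₂ ≫ π) (𝟙 K) (by
    intro i V t w hw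
    obtain ⟨k₂, hk₂⟩ := exists_pt a π W c s hpb i w (t ≫ p₂) (by rw [hw, Category.assoc])
    obtain ⟨k₁, hk₁⟩ := exists_pt a π W c s hpb i w (t ≫ p₁) (by
      rw [hw, Category.assoc, sq.w])
    refine ⟨lift (k₁ * k₂⁻¹) (t ≫ p₂), ?_⟩
    rw [Category.comp_id]
    apply sq.hom_ext
    · rw [Category.assoc, hΨ1, ← hk₂, ← AlgGrp.Action.lift_mul_act, inv_mul_cancel_right, hk₁]
    · rw [Category.assoc, hΨ2, lift_snd])
  refine ⟨⟨σ, ?_, hσ⟩⟩
  rw [← cancel_mono (sq.lift a.act (snd G P) hinv), Category.assoc, hσ, Category.comp_id,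
    Category.id_comp]

include hs hcov in
theorem loc_pi : Loc Scheme.fpqcPrecoverage π := by
  refine ⟨_, hcov, ?_⟩
  rintro V t ⟨i⟩
  exact ⟨(s i).left, congrArg CommaMorphism.left (hs i)⟩

set_option backward.isDefEq.respectTransparency false in
include hs hpb hcov in
/-- a locally isotrivial bundle is principal and flat -/
theorem main [Flat G.hom] : IsIso (GIT.PsiY a π hinv) ∧ Flat π.left := by
  obtain ⟨K, p₁, p₂, sq⟩ : ∃ (K : Over S) (p₁ p₂ : K ⟶ P), IsPullback p₁ p₂ π π :=
    ⟨_, _, _, IsPullback.of_hasPullback _ _⟩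
  haveI := isIso_psi a π hinv W c s hpb hcov sq
  have sqL := left_isPullback sq
  constructor
  · have e : GIT.PsiY a π hinv = (sq.lift a.act (snd G P) hinv).left ≫ sqL.isoPullback.hom := by
      apply pullback.hom_ext
      · rw [Category.assoc, sqL.isoPullback_hom_fst, ← Over.comp_left, sq.lift_fst]
        exact pullback.lift_fst _ _ _
      · rw [Category.assoc, sqL.isoPullback_hom_snd, ← Over.comp_left, sq.lift_snd]
        exact pullback.lift_snd _ _ _
    rw [e]
    infer_instance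
  · have h1 : Flat (snd G P).left := inferInstanceAs (Flat (pullback.snd G.hom P.hom))
    have e : p₂ = inv (sq.lift a.act (snd G P) hinv) ≫ snd G P := by
      rw [IsIso.eq_inv_comp, sq.lift_snd]
    have h2 : Flat p₂.left := by
      rw [e, Over.comp_left]
      infer_instance
    exact desc_of_loc @Flat π (loc_pi π W c s hs hcov) sqL h2

end Main

theorem isPullback_of_left {A B C D : Over S} {a : A ⟶ B} {b : A ⟶ C} {c : B ⟶ D} {d : C ⟶ D}
    (h : IsPullback a.left b.left c.left d.left) : IsPullback a b c d := by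
  refine IsPullback.of_map (Over.forget S) ?_ h
  apply Over.OverMorphism.ext
  exact h.w

set_option backward.isDefEq.respectTransparency false in
/-- S14877 in general form -/
theorem main' {G P X : Over S} [GrpObj G] [Flat G.hom] (a : AlgGrp.Action G P) (π : P ⟶ X)
    (hinv : GIT.IsInvariant a π)
    (hli : ∀ x : ↥X.left, ∃ (U : X.left.Opens) (_ : x ∈ U) (U' : Scheme.{u}) (φ : U' ⟶ ↑U)
      (_ : IsFinite φ) (_ : Etale φ) (_ : Surjective φ) (s : Over.mk (φ ≫ U.ι ≫ X.hom) ⟶ P),
      s.left ≫ π.left = φ ≫ U.ι ∧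
      IsPullback (fst (Over.mk (φ ≫ U.ι ≫ X.hom)) G).left
        (lift (snd (Over.mk (φ ≫ U.ι ≫ X.hom)) G)
          (fst (Over.mk (φ ≫ U.ι ≫ X.hom)) G ≫ s) ≫ a.act).left
        (φ ≫ U.ι) π.left) :
    IsIso (GIT.PsiY a π hinv) ∧ Flat π.left := by
  choose U hxU U' φ hfin het hsurj s hs hpb using hli
  let W : ↥X.left → Over S := fun x => Over.mk (φ x ≫ (U x).ι ≫ X.hom)
  let c : ∀ x, W x ⟶ X := fun x => Over.homMk (φ x ≫ (U x).ι) (by simp [W])
  refine main a π hinv W c s ?_ ?_ ?_
  · intro x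
    apply Over.OverMorphism.ext
    exact hs x
  · intro x
    exact isPullback_of_left (hpb x)
  · apply Scheme.fppfPrecoverage_le_fpqcPrecoverage
    change Presieve.ofArrows (fun x => U' x) (fun x => φ x ≫ (U x).ι) ∈ _
    rw [Scheme.fppfPrecoverage, Scheme.ofArrows_mem_precoverage_iff]
    refine ⟨fun y => ⟨y, ?_⟩, fun x => ?_⟩
    · obtain ⟨z, hz⟩ := (hsurj y).surj ⟨y, hxU y⟩
      refine ⟨z, ?_⟩
      rw [Scheme.Hom.comp_apply, hz]
      rfl
    · haveI := het x
      exact ⟨inferInstance, inferInstance⟩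

end Groth.Agent.Helper9.LocIsotriv
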