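import Mathlib

namespace Groth.Agent.Helper9.LocPi

/-- Abstract product decomposition of a module into localizations at the multiplicative sets
`{x | φ i x = 1}`, given orthogonal "idempotent-like" elements `e i` and the fact that elements
killed by all `φ i` annihilate the module. -/
theorem pi_mkLinearMap_bijective {R : Type*} [CommRing R] {N : Type*} [AddCommGroup N] [Module R N]
    {ι : Type*} [Finite ι] {Q : ι → Type*} [∀ i, CommRing (Q i)]
    (φ : ∀ i, R →+* Q i) (S : ι → Submonoid R) (hS : ∀ i x, x ∈ S i ↔ φ i x = 1)
    (hZ : ∀ r : R, (∀ i, φ i r = 0) → ∀ y : N, r • y = 0)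
    (e : ι → R) (he1 : ∀ i, φ i (e i) = 1) (he0 : ∀ i j, j ≠ i → φ j (e i) = 0) :
    Function.Bijective (LinearMap.pi fun i => LocalizedModule.mkLinearMap (S i) N) := by
  classical
  cases nonempty_fintype ι
  constructor
  · rw [← LinearMap.ker_eq_bot, LinearMap.ker_eq_bot']
    intro m hm
    have hm' : ∀ i, ∃ s ∈ S i, s • m = 0 := by
      intro i
      have := congrFun hm i
      rw [LinearMap.pi_apply] at this
      exact LocalizedModule.mem_ker_mkLinearMap_iff.mp this
    choose s hsS hsm using hm'
    have h1 : (∑ i, e i * s i - 1) • m = 0 := by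
      apply hZ
      intro j
      rw [map_sub, map_sum, map_one, Finset.sum_eq_single j]
      · rw [map_mul, he1, (hS j _).mp (hsS j), one_mul, sub_self]
      · intro i _ hij
        rw [map_mul, he0 i j hij.symm, zero_mul]
      · intro h
        exact absurd (Finset.mem_univ j) h
    rw [sub_smul, one_smul, Finset.sum_smul, sub_eq_zero] at h1
    rw [← h1]
    refine Finset.sum_eq_zero fun i _ => ?_
    rw [mul_smul, hsm, smul_zero]
  · intro g
    have hg : ∀ i, ∃ (m : N) (s : S i), g i = LocalizedModule.mk m s := by
      intro i
      induction g i using LocalizedModule.induction_on with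
      | h m s => exact ⟨m, s, rfl⟩
    choose m s hms using hg
    refine ⟨∑ j, e j • m j, ?_⟩
    ext i
    rw [LinearMap.pi_apply, LocalizedModule.mkLinearMap_apply, hms i, LocalizedModule.mk_eq]
    refine ⟨⟨e i, (hS i _).mpr (he1 i)⟩, ?_⟩
    rw [one_smul]
    show e i • (s i : R) • ∑ j, e j • m j = e i • m i
    have h2 : ∀ j, (e i * (s i : R) * e j - if j = i then e i else 0) • m j = 0 := by
      intro j
      apply hZ
      intro k
      by_cases hji : j = i
      · subst hji
        rw [if_pos rfl, map_sub, map_mul, map_mul]
        by_cases hkj : k = j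
        · subst hkj
          rw [he1, (hS k _).mp (s k).2, one_mul, one_mul, sub_self]
        · rw [he0 j k hkj, zero_mul, zero_mul, sub_self]
      · rw [if_neg hji, sub_zero, map_mul, map_mul]
        by_cases hki : k = i
        · subst hki
          rw [he0 j k (Ne.symm hji), mul_zero]
        · rw [he0 i k hki, zero_mul, zero_mul]
    have h3 : e i • (s i : R) • ∑ j, e j • m j - e i • m i =
        ∑ j, (e i * (s i : R) * e j - if j = i then e i else 0) • m j := by
      simp only [sub_smul, Finset.sum_sub_distrib, ite_smul, zero_smul, Finset.sum_ite_eq',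
        Finset.mem_univ, if_true, Finset.smul_sum, mul_smul]
    rw [← sub_eq_zero, h3]
    exact Finset.sum_eq_zero fun j _ => h2 j

end Groth.Agent.Helper9.LocPi
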