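import Mathlib
import Groth.Prelude.Def_NonAbH2
import Groth.Prelude.Def_ChGrp
import Groth.Agent.Helper9.FpqcLocal
import Groth.Agent.Helper9.DescTools
import Groth.Agent.Helper9.TorsorTriv
import Groth.Agent.Helper9.LocDesc

set_option autoImplicit false
set_option linter.unusedSectionVars false

namespace Groth.Agent.Helper9.LocTriv

open CategoryTheory CategoryTheory.Limits MonoidalCategory CartesianMonoidalCategory MonObj GrpObj
  AlgebraicGeometry
open Groth.Agent.Helper9.DescTools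

universe u

variable {S : Scheme.{u}}

section Triv

variable {G X : Over S} [GrpObj G] (a : AlgGrp.Action G X) {T : Over S} (s : T ⟶ X)
  (hφ : IsIso (lift ((G ◁ s) ≫ a.act) (snd G T)))

include hφ in
theorem ex_pt {T' : Over S} (x : T' ⟶ X) (t : T' ⟶ T) :
    ∃ g : T' ⟶ G, lift g (t ≫ s) ≫ a.act = x := by
  haveI := hφ
  set φ := lift ((G ◁ s) ≫ a.act) (snd G T) with hφd
  set w := lift x t ≫ inv φ with hw
  have h1 : w ≫ φ = lift x t := by
    rw [hw, Category.assoc, IsIso.inv_hom_id, Category.comp_id]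
  have h2 : w ≫ (G ◁ s) ≫ a.act = x := by
    have := congrArg (fun f => f ≫ fst X T) h1
    simpa [hφd] using this
  have h3 : w ≫ snd G T = t := by
    have := congrArg (fun f => f ≫ snd X T) h1
    simpa [hφd] using this
  refine ⟨w ≫ fst G T, ?_⟩
  rw [← h2, ← h3, ← lift_whiskerLeft_assoc]
  congr 1
  rw [← comp_lift, lift_fst_snd, Category.comp_id]

include hφ in
theorem un_pt {T' : Over S} (g g' : T' ⟶ G) (t : T' ⟶ T)
    (h : lift g (t ≫ s) ≫ a.act = lift g' (t ≫ s) ≫ a.act) : g = g' := by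
  haveI := hφ
  set φ := lift ((G ◁ s) ≫ a.act) (snd G T) with hφd
  have h1 : lift g t ≫ φ = lift g' t ≫ φ := by
    rw [hφd, comp_lift, comp_lift, lift_snd, lift_snd, lift_whiskerLeft_assoc,
      lift_whiskerLeft_assoc, h]
  have h2 : lift g t = lift g' t := by
    rwa [cancel_mono] at h1
  have h3 := congrArg (fun f => f ≫ fst G T) h2
  simpa using h3

theorem pt3 {A B C T' : Over S} (e : T' ⟶ (A ⊗ B) ⊗ C) :
    e = lift (lift (e ≫ fst _ _ ≫ fst _ _) (e ≫ fst _ _ ≫ snd _ _)) (e ≫ snd _ _) := by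
  rw [← comp_lift, ← comp_lift]
  have e1 : lift (lift (fst (A ⊗ B) C ≫ fst A B) (fst (A ⊗ B) C ≫ snd A B)) (snd (A ⊗ B) C) =
      𝟙 ((A ⊗ B) ⊗ C) := by
    rw [← comp_lift, lift_fst_snd, Category.comp_id, lift_fst_snd]
  rw [e1, Category.comp_id]

theorem psi_pt {T' : Over S} (g : T' ⟶ G) (x : T' ⟶ X) (t : T' ⟶ T) :
    lift (lift g x) t ≫ (lift a.act (snd G X) ▷ T) = lift (lift (lift g x ≫ a.act) x) t := by
  rw [lift_whiskerRight, comp_lift, lift_snd]

include hφ in
/-- over a trivialising base the translation map of the action is an isomorphism -/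
theorem psi_whisker_isIso : IsIso (lift a.act (snd G X) ▷ T) := by
  apply isIso_of_yoneda_map_bijective
  intro T'
  constructor
  · intro e₁ e₂ h12
    beta_reduce at h12
    rw [pt3 e₁, pt3 e₂] at h12 ⊢
    set g₁ := e₁ ≫ fst _ _ ≫ fst _ _
    set x₁ := e₁ ≫ fst _ _ ≫ snd _ _
    set t₁ := e₁ ≫ snd _ _
    set g₂ := e₂ ≫ fst _ _ ≫ fst _ _
    set x₂ := e₂ ≫ fst _ _ ≫ snd _ _
    set t₂ := e₂ ≫ snd _ _
    rw [psi_pt, psi_pt] at h12
    have ht : t₁ = t₂ := by
      have := congrArg (fun f => f ≫ snd _ _) h12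
      simpa using this
    have hx : x₁ = x₂ := by
      have := congrArg (fun f => f ≫ fst _ _ ≫ snd _ _) h12
      simpa using this
    have hgx : lift g₁ x₁ ≫ a.act = lift g₂ x₂ ≫ a.act := by
      have := congrArg (fun f => f ≫ fst _ _ ≫ fst _ _) h12
      simpa using this
    obtain ⟨h, hh⟩ := ex_pt a s hφ x₁ t₁
    have hg : g₁ = g₂ := by
      rw [← hx, ← hh, ← AlgGrp.Action.lift_mul_act, ← AlgGrp.Action.lift_mul_act] at hgx
      have := un_pt a s hφ _ _ _ hgx
      exact mul_right_cancel this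
    rw [hg, hx, ht]
  · intro e
    obtain ⟨h₁, hh₁⟩ := ex_pt a s hφ (e ≫ fst _ _ ≫ fst _ _) (e ≫ snd _ _)
    obtain ⟨h₂, hh₂⟩ := ex_pt a s hφ (e ≫ fst _ _ ≫ snd _ _) (e ≫ snd _ _)
    refine ⟨lift (lift (h₁ * h₂⁻¹) (e ≫ fst _ _ ≫ snd _ _)) (e ≫ snd _ _), ?_⟩
    beta_reduce
    rw [psi_pt]
    conv_rhs => rw [pt3 e]
    congr 2
    nth_rw 1 [← hh₂]
    rw [← AlgGrp.Action.lift_mul_act, inv_mul_cancel_right, hh₁]

end Triv

section IsoLoc

/-- a morphism over `S` which becomes an isomorphism after base change to the members of an fpqc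
covering family of `S` is an isomorphism -/
theorem isIso_of_loc {A B : Over S} (f : A ⟶ B) (R : Presieve S)
    (hR : R ∈ Scheme.fpqcPrecoverage S)
    (h : ∀ ⦃U : Scheme.{u}⦄ (t : U ⟶ S), R t → IsIso (f ▷ Over.mk t)) : IsIso f := by
  have hR' : R.pullbackArrows B.hom ∈ Scheme.fpqcPrecoverage B.left :=
    Precoverage.pullbackArrows_mem _ hR
  have h1 : (MorphismProperty.isomorphisms Scheme.{u}) f.left := by
    apply FpqcLocal.of_fpqc_cover (MorphismProperty.isomorphisms Scheme.{u}) f.left _ hR'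
    rintro V k ⟨U, t, ht⟩
    haveI := h t ht
    have sq := LocDesc.left_isPullback (isPullback_whiskerRight f (Over.mk t))
    -- sq : IsPullback (f ▷ T).left (fst A T).left (fst B T).left f.left
    have e : pullback.snd t B.hom = (pullbackSymmetry t B.hom).hom ≫ (fst B (Over.mk t)).left := by
      change pullback.snd t B.hom = (pullbackSymmetry t B.hom).hom ≫ pullback.fst B.hom t
      rw [pullbackSymmetry_hom_comp_fst]
    rw [e]
    apply FpqcLocal.of_comp_openImm
    rw [← FpqcLocal.of_isPullback_iff (MorphismProperty.isomorphisms Scheme.{u}) sq.flip]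
    exact (Over.forget S).map_isIso (f ▷ Over.mk t)
  haveI : IsIso f.left := h1
  haveI : IsIso ((Over.forget S).map f) := ‹IsIso f.left›
  exact isIso_of_reflects_iso f (Over.forget S)

end IsoLoc

end Groth.Agent.Helper9.LocTriv
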