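import Mathlib
import Groth.Prelude.Def_PerfD
import Groth.Agent.Helper9.LocTriv1
import Groth.Agent.Helper9.LocSplit3
import Groth.Agent.Helper9.Fib5
import Groth.Agent.Lead.PerfLib3
import Groth.Agent.Lead.FreeLocus1

/-! A perfect complex whose derived fibre at a point is a vector space of dimension `r` placed in
degree `i` is, near that point, a free module of rank `r` placed in degree `i`. -/

set_option autoImplicit false
set_option linter.style.haveILetI false
set_option linter.unusedVariables false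
set_option linter.unusedSectionVars false
universe u

namespace Groth.Agent.Helper9.LocTriv2

open CategoryTheory CategoryTheory.Limits AlgebraicGeometry Opposite TopologicalSpace
  HomologicalComplex
open Groth.Agent.Helper9.Lpull1 Groth.Agent.Helper9.Lpull3 Groth.Agent.Helper9.Lpull5
  Groth.Agent.Helper9.Betti3 Groth.Agent.Helper9.ShiftVB1 Groth.Agent.Lead.PerfLib
  Groth.Agent.Helper4.FinLocFree Groth.Agent.Helper9.LocTriv1 Groth.Agent.Helper9.SkyMod4
  Groth.Agent.Helper9.Betti2 Groth.Agent.Lead.FreeLocus Groth.Agent.Helper4.StalkDict Groth.Agent.Helper4.StalkExact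

attribute [local instance] HasDerivedCategory.standard

variable {X Y Z T : Scheme.{u}}

/-- a module which is free of rank `n` near a point where its stalk vanishes has `n = 0` -/
theorem eq_zero_of_isFreeAlong {M : Z.Modules} {V : Z.Opens} {n : ℕ}
    (hV : IsFreeAlong M V.ι n) (z : Z) (hz : z ∈ V)
    (h0 : Subsingleton (M.presheaf.stalk z)) : n = 0 := by
  obtain ⟨e⟩ := hV
  let z' : (V : Scheme.{u}) := ⟨z, hz⟩
  haveI : (FlatMod.freeMod (V : Scheme.{u}) n).IsQuasicoherent :=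
    Groth.Agent.Helper4.FinLocFree4.isQuasicoherent_freeMod n
  have hfree : IsFreeAlong (FlatMod.freeMod (V : Scheme.{u}) n)
      (⊤ : (V : Scheme.{u}).Opens).ι n := ⟨restrictFreeIso _ n⟩
  obtain ⟨b⟩ := Groth.Agent.Helper4.FinLocFree2.nonempty_basis_stalk_of_isFreeAlong _ hfree z'
    (Opens.mem_top _)
  have hbij : Function.Bijective (stalkLin e.inv z') :=
    ⟨stalkLin_injective e.inv z', Groth.Agent.Helper4.EpiStalk.stalkLin_surjective_of_epi e.inv z'⟩
  obtain ⟨σ, e', he'⟩ := rs_semilinear V.ι M z'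
  haveI : Subsingleton (M.presheaf.stalk (V.ι z')) := h0
  haveI : Subsingleton ((M.restrict V.ι).presheaf.stalk z') := e'.symm.injective.subsingleton
  haveI : Subsingleton ((FlatMod.freeMod (V : Scheme.{u}) n).presheaf.stalk z') :=
    hbij.1.subsingleton
  by_contra hn
  exact b.ne_zero ⟨0, Nat.pos_of_ne_zero hn⟩ (Subsingleton.elim _ _)

/-- finite intersections of open neighbourhoods -/
theorem exists_opens_le {ι : Type*} (s : Finset ι) (V : ι → Z.Opens) (z : Z)
    (h : ∀ q, z ∈ V q) : ∃ W : Z.Opens, z ∈ W ∧ ∀ q ∈ s, W ≤ V q :=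
  ⟨s.inf V, Finset.inf_induction (p := fun W : Z.Opens => z ∈ W) (Opens.mem_top _)
    (fun a ha b hb => ⟨ha, hb⟩) (fun q _ => h q), fun q hq => Finset.inf_le hq⟩

/-- **Key lemma.** -/
theorem locTriv_of_fibre (E : DCoh.D X) (hE : DCoh.IsPerfect E) [Unique T]
    (hK : IsField (Coh.Γtop T)) (t : T ⟶ X) [DCoh.HasLpull t] (i : ℤ) (r : ℕ)
    (e : (DCoh.Lpull t).obj E ≅ (DCoh.inD T (FlatMod.freeMod T r))⟦-i⟧) :
    LocTriv E i r (t.base default) := by
  obtain ⟨F, hF, ⟨eF⟩⟩ := exists_kflat_rep E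
  obtain ⟨Z, j, hj, ⟨z, hz⟩, P, hP, ⟨ψ⟩⟩ := (isPerfect_iff_locSP E F eF).1 hE (t.base default)
  haveI := hj
  have hr : Set.range t ⊆ Set.range j := by
    rintro _ ⟨w, rfl⟩
    rw [Unique.eq_default w]
    exact ⟨z, hz⟩
  let g : T ⟶ Z := IsOpenImmersion.lift j t hr
  have hg : g ≫ j = t := IsOpenImmersion.lift_fac _ _ _
  have hgz : g.base default = z := by
    apply j.isOpenEmbedding.injective
    have h1 : (g ≫ j).base default = t.base default := by rw [hg]
    exact h1.trans hz.symm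
  haveI : DCoh.HasLpull g := hasLpull _
  haveI : DCoh.HasLpull j := hasLpull _
  haveI : DCoh.HasLpull (g ≫ j) := hasLpull _
  have hPflat : DCoh.IsKFlat P := isKFlat_of_isStrictlyPerfect P hP
  -- the fibre model
  have em : (DCoh.Lpull t).obj E ≅ DerivedCategory.Q.obj
      (((Scheme.Modules.pullback g).mapHomologicalComplex (ComplexShape.up ℤ)).obj P) :=
    (lpullCongr hg.symm).app E ≪≫ ((lpullComp g j).app E).symm ≪≫
      (DCoh.Lpull g).mapIso (lpullOpenIso j E F hF eF ≪≫ ψ) ≪≫ lpullIso g P hPflat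
  have hvan : ∀ q : ℤ, q ≠ i → IsZero
      ((((Scheme.Modules.pullback g).mapHomologicalComplex (ComplexShape.up ℤ)).obj P).homology
        q) := fun q hq => (isZero_hd _ i q hq).of_iso
    (((DerivedCategory.homologyFunctorFactors _ q).app _).symm ≪≫
      (DerivedCategory.homologyFunctor _ q).mapIso (em.symm ≪≫ e))
  obtain ⟨hs1, hs2⟩ := Groth.Agent.Helper9.LocSplit3.stalk_homology_of_fibre hK g P hP.2 i hvan
  rw [hgz] at hs1 hs2
  -- flatness of all the stalks of the cohomology sheaves at `z`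
  have hflat : ∀ q, FlatAt (P.homology q) z := by
    intro q
    by_cases hq : q = i
    · subst hq
      haveI := hs2
      exact (inferInstance : Module.Flat (Z.presheaf.stalk z) ((St z).obj (P.homology q)))
    · haveI : Subsingleton ((St z).obj (P.homology q)) :=
        ModuleCat.subsingleton_of_isZero (hs1 q hq)
      exact (inferInstance : Module.Flat (Z.presheaf.stalk z) ((St z).obj (P.homology q)))
  obtain ⟨⟨a, b, hab⟩, hPf⟩ := hP
  obtain ⟨W₀, hzW₀, hW₀⟩ := exists_nhd_flf_homology (b - a + 1).toNat Z P a b z hPf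
    (fun q hq => hab q (Or.inl hq)) (fun q hq => hab q (Or.inr hq)) (by omega) hflat
  have hq : ∀ q, ∃ (V : Z.Opens) (n : ℕ), z ∈ V ∧ IsFreeAlong (P.homology q) V.ι n :=
    fun q => hW₀ q z hzW₀
  choose V n hzV hfree using hq
  have hn0 : ∀ q, q ≠ i → n q = 0 := fun q hq =>
    eq_zero_of_isFreeAlong (hfree q) z (hzV q) (ModuleCat.subsingleton_of_isZero (hs1 q hq))
  obtain ⟨W₁, hzW₁, hW₁⟩ := exists_opens_le (Finset.Icc a b) V z hzV
  -- the shrunk data
  let W : Z.Opens := V i ⊓ W₁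
  have hzW : z ∈ W := ⟨hzV i, hzW₁⟩
  let j' : (W : Scheme.{u}) ⟶ X := W.ι ≫ j
  let P' : CochainComplex (W : Scheme.{u}).Modules ℤ := (Rc W.ι).obj P
  haveI : DCoh.HasLpull j' := hasLpull _
  have e1 : (DCoh.Lpull j').obj E ≅ DerivedCategory.Q.obj P' :=
    lpullOpenIso j' E F hF eF ≪≫ DerivedCategory.Q.mapIso (rcCompIso j W.ι j' rfl F) ≪≫
      qRestrictIso W.ι ψ
  have e2 : ∀ q, DCoh.HD (DerivedCategory.Q.obj P') q ≅ (P.homology q).restrict W.ι := fun q =>
    (DerivedCategory.homologyFunctorFactors _ q).app _ ≪≫ homologyRestrictIso W.ι P q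
  have hz' : ∀ q : ℤ, q ≠ i → IsZero (DCoh.HD (DerivedCategory.Q.obj P') q) := by
    intro q hq
    refine IsZero.of_iso ?_ (e2 q)
    by_cases hqab : q ∈ Finset.Icc a b
    · have h1 : IsFreeAlong (P.homology q) W.ι (n q) :=
        IsFreeAlong.of_le (le_trans inf_le_right (hW₁ q hqab)) (hfree q)
      rw [hn0 q hq] at h1
      obtain ⟨e3⟩ := h1
      exact (isZero_freeMod_zero _).of_iso e3
    · rw [Finset.mem_Icc] at hqab
      exact Functor.map_isZero (Scheme.Modules.restrictFunctor W.ι)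
        (isZero_homology_of_isZero P q (hab q (by omega)))
  obtain ⟨e3⟩ : IsFreeAlong (P.homology i) W.ι (n i) := IsFreeAlong.of_le inf_le_left (hfree i)
  obtain ⟨e4⟩ := nonempty_iso_of_isZero_hd (DerivedCategory.Q.obj P') i hz'
  have e5 : (DCoh.Lpull j').obj E ≅ (DCoh.inD (W : Scheme.{u}) (FlatMod.freeMod _ (n i)))⟦-i⟧ :=
    e1 ≪≫ e4 ≪≫ ShiftVB1.mapIso (e2 i ≪≫ e3) i
  -- comparison of the ranks
  have hr' : Set.range t ⊆ Set.range j' := by
    rintro _ ⟨w, rfl⟩
    rw [Unique.eq_default w]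
    exact ⟨⟨z, hzW⟩, hz⟩
  let g' : T ⟶ (W : Scheme.{u}) := IsOpenImmersion.lift j' t hr'
  have hg' : g' ≫ j' = t := IsOpenImmersion.lift_fac _ _ _
  haveI : DCoh.HasLpull g' := hasLpull _
  haveI : DCoh.HasLpull (g' ≫ j') := hasLpull _
  obtain ⟨e6⟩ := nonempty_lpull_comp g' j' E i (n i) e5
  have e7 : FlatMod.freeMod T r ≅ FlatMod.freeMod T (n i) :=
    (hdSelfIso _ i).symm ≪≫ (DerivedCategory.homologyFunctor _ i).mapIso
      (e.symm ≪≫ (lpullCongr hg'.symm).app E ≪≫ e6) ≪≫ hdSelfIso _ i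
  have hrn : r = n i := by
    have h1 := LinearEquiv.finrank_eq
      ((ΓfFreeIso T r).symm ≪≫ (Γf T).mapIso e7 ≪≫ ΓfFreeIso T (n i)).toLinearEquiv
    rw [Groth.Agent.Helper9.Fib5.finrank_fin_fun' hK, Groth.Agent.Helper9.Fib5.finrank_fin_fun' hK]
      at h1
    exact h1
  rw [hrn]
  exact ⟨W, j', inferInstance, ⟨⟨z, hzW⟩, hz⟩, ⟨e5⟩⟩

end Groth.Agent.Helper9.LocTriv2
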