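import Mathlib
import Groth.Prelude.Def_PerfD
import Groth.Agent.Helper9.LocTriv2
import Groth.Agent.Helper9.Betti4

/-! If the derived pullback of a perfect complex `E` along `f` is a locally free module of rank `r`
placed in degree `i`, then `E` is locally a free module of rank `r` placed in degree `i` near the
image of `f`. -/

set_option autoImplicit false
set_option linter.style.haveILetI false
set_option linter.unusedVariables false
set_option linter.unusedSectionVars false
universe u

namespace Groth.Agent.Helper9.LocTriv3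

open CategoryTheory CategoryTheory.Limits AlgebraicGeometry Opposite TopologicalSpace
  HomologicalComplex
open Groth.Agent.Helper9.Lpull1 Groth.Agent.Helper9.Lpull3 Groth.Agent.Helper9.Lpull5
  Groth.Agent.Helper9.Betti3 Groth.Agent.Helper9.ShiftVB1 Groth.Agent.Helper9.LocTriv1
  Groth.Agent.Helper9.LocTriv2

attribute [local instance] HasDerivedCategory.standard

variable {X Y : Scheme.{u}}

theorem locTriv_of_iso (E : DCoh.D X) (hE : DCoh.IsPerfect E) (f : Y ⟶ X) [DCoh.HasLpull f]
    (i : ℤ) (r : ℕ) (V : Y.Modules) (hV : FlatMod.IsFinLocFreeOfRank r V)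
    (e : (DCoh.Lpull f).obj E ≅ (DCoh.inD Y V)⟦-i⟧) (y : Y) : LocTriv E i r (f.base y) := by
  obtain ⟨U, hyU, ⟨eU⟩⟩ := hV y
  have hVflf : FlatMod.IsFinLocFree V := fun x => by
    obtain ⟨U', hx, h⟩ := hV x
    exact ⟨U', r, hx, h⟩
  have hr : Set.range (Y.fromSpecResidueField y) ⊆ Set.range U.ι := by
    rw [Scheme.range_fromSpecResidueField, Scheme.Opens.range_ι]
    intro w hw
    rw [Set.mem_singleton_iff] at hw
    subst hw
    exact hyU
  let g : Spec (Y.residueField y) ⟶ (U : Scheme.{u}) :=
    IsOpenImmersion.lift U.ι (Y.fromSpecResidueField y) hr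
  have hg : g ≫ U.ι = Y.fromSpecResidueField y := IsOpenImmersion.lift_fac _ _ _
  let k : (U : Scheme.{u}) ⟶ X := U.ι ≫ f
  haveI : DCoh.HasLpull U.ι := hasLpull _
  haveI : DCoh.HasLpull k := hasLpull _
  haveI : DCoh.HasLpull g := hasLpull _
  haveI : DCoh.HasLpull (g ≫ k) := hasLpull _
  have e1 : (DCoh.Lpull k).obj E ≅ (DCoh.inD (U : Scheme.{u}) (FlatMod.freeMod _ r))⟦-i⟧ :=
    ((lpullComp U.ι f).app E).symm ≪≫ (DCoh.Lpull U.ι).mapIso e ≪≫
      lpullIso' U.ι V hVflf i ≪≫
      ShiftVB1.mapIso (((Scheme.Modules.restrictFunctorIsoPullback U.ι).app V).symm ≪≫ eU) i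
  obtain ⟨e2⟩ := nonempty_lpull_comp g k E i r e1
  have h1 := locTriv_of_fibre E hE (Groth.Agent.Helper9.Betti4.isField_Γtop_Spec y) (g ≫ k) i r e2
  have h2 : (g ≫ k).base default = f.base y := by
    have h3 : (g ≫ U.ι).base default = y := by
      rw [hg]
      exact Scheme.fromSpecResidueField_apply _ _
    change f.base ((g ≫ U.ι).base default) = f.base y
    rw [h3]
  rw [h2] at h1
  exact h1

end Groth.Agent.Helper9.LocTriv3
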