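import Mathlib

set_option autoImplicit false

namespace Groth.Agent.Helper9.LocalBasis

universe w x t

variable {A : Type w} [CommRing A] {P : Type x} [AddCommGroup P] [Module A P]
variable {ι : Type t} (f : ι → P) (m : Ideal A) [hmax : m.IsMaximal]

include hmax in
/-- Nakayama: if `f` spans modulo `m`, some element outside `m` multiplies `P` into the span. -/
theorem exists_gen_of_maximal [Module.Finite A P]
    (hsp : Submodule.span A (Set.range f) ⊔ m • (⊤ : Submodule A P) = ⊤) :
    ∃ a : A, (∀ p : P, a • p ∈ Submodule.span A (Set.range f)) ∧ a ∉ m := by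
  set Fs : Submodule A P := Submodule.span A (Set.range f) with hFs
  have htop : (⊤ : Submodule A (P ⧸ Fs)) ≤ m • (⊤ : Submodule A (P ⧸ Fs)) := by
    intro q _
    obtain ⟨p, rfl⟩ := Submodule.Quotient.mk_surjective Fs q
    have hp : p ∈ Fs ⊔ m • (⊤ : Submodule A P) := by rw [hsp]; trivial
    obtain ⟨x, hx, y, hy, rfl⟩ := Submodule.mem_sup.mp hp
    rw [Submodule.Quotient.mk_add, (Submodule.Quotient.mk_eq_zero Fs).mpr hx, zero_add]
    have hmap : Submodule.map Fs.mkQ (m • (⊤ : Submodule A P)) ≤
        m • (⊤ : Submodule A (P ⧸ Fs)) := by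
      rw [Submodule.map_smul'']
      exact Submodule.smul_mono le_rfl le_top
    exact hmap ⟨y, hy, rfl⟩
  obtain ⟨r, hr1, hr2⟩ := Submodule.exists_sub_one_mem_and_smul_eq_zero_of_fg_of_le_smul m
    (⊤ : Submodule A (P ⧸ Fs)) Module.Finite.fg_top htop
  refine ⟨r, fun p => ?_, fun hrm => ?_⟩
  · have := hr2 (Submodule.Quotient.mk p) trivial
    rw [← Submodule.Quotient.mk_smul, Submodule.Quotient.mk_eq_zero] at this
    exact this
  · have h1 : (1 : A) ∈ m := by
      have := m.sub_mem hrm hr1
      simpa using this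
    exact hmax.ne_top ((Ideal.eq_top_iff_one m).mpr h1)

/-- Dual basis + adjugate: if `f` reduces to a basis of `P/mP` and `P` is projective, some element
outside `m` kills all coefficients of all relations among the `f i`. -/
theorem exists_rel_of_maximal [Module.Projective A P] [Fintype ι] [DecidableEq ι]
    (hli : LinearIndependent (A ⧸ m)
      (fun i => (Submodule.Quotient.mk (f i) : P ⧸ (m • (⊤ : Submodule A P)))))
    (hsp : Submodule.span A (Set.range f) ⊔ m • (⊤ : Submodule A P) = ⊤) :
    ∃ a : A, (∀ c : ι → A, ∑ i, c i • f i = 0 → ∀ i, a * c i = 0) ∧ a ∉ m := by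
  set Fs : Submodule A P := Submodule.span A (Set.range f) with hFs
  let _ : Field (A ⧸ m) := Ideal.Quotient.field m
  have hspan : ⊤ ≤ Submodule.span (A ⧸ m)
      (Set.range fun i => (Submodule.Quotient.mk (f i) : P ⧸ (m • (⊤ : Submodule A P)))) := by
    intro q _
    obtain ⟨p, rfl⟩ := Submodule.Quotient.mk_surjective _ q
    have hp : p ∈ Fs ⊔ m • (⊤ : Submodule A P) := by rw [hsp]; trivial
    obtain ⟨x, hx, y, hy, rfl⟩ := Submodule.mem_sup.mp hp
    rw [Submodule.Quotient.mk_add, (Submodule.Quotient.mk_eq_zero _).mpr hy, add_zero]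
    obtain ⟨c, rfl⟩ := (Submodule.mem_span_range_iff_exists_fun A).mp hx
    have hsum : (Submodule.Quotient.mk (∑ i, c i • f i) : P ⧸ (m • (⊤ : Submodule A P))) =
        ∑ i, Submodule.Quotient.mk (c i • f i) :=
      map_sum (m • (⊤ : Submodule A P)).mkQ _ _
    rw [hsum]
    refine Submodule.sum_mem _ fun i _ => ?_
    rw [Submodule.Quotient.mk_smul]
    have : c i • (Submodule.Quotient.mk (f i) : P ⧸ (m • (⊤ : Submodule A P))) =
        (Ideal.Quotient.mk m (c i)) • (Submodule.Quotient.mk (f i) : P ⧸ (m • (⊤ : Submodule A P))) :=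
      rfl
    rw [this]
    exact Submodule.smul_mem _ _ (Submodule.subset_span ⟨i, rfl⟩)
  let bq := Module.Basis.mk hli hspan
  have hlift : ∀ j : ι, ∃ φ : P →ₗ[A] A, ∀ p : P,
      Ideal.Quotient.mk m (φ p) = bq.coord j (Submodule.Quotient.mk p) := by
    intro j
    let gj : P →ₗ[A] (A ⧸ m) :=
      ((bq.coord j).restrictScalars A) ∘ₗ (m • (⊤ : Submodule A P)).mkQ
    obtain ⟨φ, hφ⟩ := Module.projective_lifting_property (Submodule.mkQ m) gj
      (Submodule.mkQ_surjective m)
    exact ⟨φ, fun p => LinearMap.congr_fun hφ p⟩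
  choose φ hφ using hlift
  let Gm : Matrix ι ι A := Matrix.of fun j i => φ j (f i)
  have hGm : Gm.map (Ideal.Quotient.mk m) = 1 := by
    ext j i
    rw [Matrix.map_apply]
    show Ideal.Quotient.mk m (φ j (f i)) = _
    rw [hφ]
    have : (Submodule.Quotient.mk (f i) : P ⧸ (m • (⊤ : Submodule A P))) = bq i := by
      rw [Module.Basis.mk_apply]
    rw [this, Module.Basis.coord_apply, Module.Basis.repr_self, Matrix.one_apply,
      Finsupp.single_apply]
    by_cases h : i = j
    · rw [if_pos h, if_pos h.symm]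
    · rw [if_neg h, if_neg (Ne.symm h)]
  refine ⟨Gm.det, fun c hc i => ?_, fun hdet => ?_⟩
  · have hmv : Gm.mulVec c = 0 := by
      ext j
      rw [Matrix.mulVec, dotProduct, Pi.zero_apply]
      have : ∑ i, Gm j i * c i = φ j (∑ i, c i • f i) := by
        rw [map_sum]
        refine Finset.sum_congr rfl fun i _ => ?_
        rw [map_smul, smul_eq_mul, mul_comm]
        rfl
      rw [this, hc, map_zero]
    have h2 : (Gm.adjugate * Gm).mulVec c = 0 := by
      rw [← Matrix.mulVec_mulVec, hmv, Matrix.mulVec_zero]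
    rw [Matrix.adjugate_mul, Matrix.smul_mulVec, Matrix.one_mulVec] at h2
    have := congrFun h2 i
    simpa using this
  · have h1 : Ideal.Quotient.mk m Gm.det = 1 := by
      rw [RingHom.map_det, RingHom.mapMatrix_apply, hGm, Matrix.det_one]
    rw [Ideal.Quotient.eq_zero_iff_mem.mpr hdet] at h1
    exact zero_ne_one h1

end Groth.Agent.Helper9.LocalBasis
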