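import Mathlib

set_option autoImplicit false

namespace Groth.Agent.Helper9.LocalBasisPrime

open scoped TensorProduct

universe w x t

variable {A : Type w} [CommRing A] {P : Type x} [AddCommGroup P] [Module A P]
variable {ι : Type t} (f : ι → P) (𝔑 : Ideal A) [hprime : 𝔑.IsPrime]

/-- If the `1 ⊗ f i` span `κ(𝔑) ⊗ P`, some element outside `𝔑` multiplies `P` into the span of
the `f i`. -/
theorem exists_gen_of_prime [Module.Finite A P]
    (hspan : ⊤ ≤ Submodule.span 𝔑.ResidueField
      (Set.range fun i => (1 : 𝔑.ResidueField) ⊗ₜ[A] f i)) :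
    ∃ a : A, (∀ p : P, a • p ∈ Submodule.span A (Set.range f)) ∧ a ∉ 𝔑 := by
  set Fs : Submodule A P := Submodule.span A (Set.range f) with hFs
  have hzero : ∀ z : 𝔑.ResidueField ⊗[A] P, (Fs.mkQ.lTensor 𝔑.ResidueField) z = 0 := by
    intro z
    have hz : z ∈ Submodule.span 𝔑.ResidueField
        (Set.range fun i => (1 : 𝔑.ResidueField) ⊗ₜ[A] f i) := hspan trivial
    -- the base-changed map is κ-linear
    let L : 𝔑.ResidueField ⊗[A] P →ₗ[𝔑.ResidueField] 𝔑.ResidueField ⊗[A] (P ⧸ Fs) :=
      Fs.mkQ.baseChange 𝔑.ResidueField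
    have hL : ∀ z, L z = (Fs.mkQ.lTensor 𝔑.ResidueField) z := fun z => rfl
    rw [← hL]
    have hle : Submodule.span 𝔑.ResidueField
        (Set.range fun i => (1 : 𝔑.ResidueField) ⊗ₜ[A] f i) ≤ LinearMap.ker L := by
      rw [Submodule.span_le]
      rintro _ ⟨i, rfl⟩
      rw [SetLike.mem_coe, LinearMap.mem_ker, LinearMap.baseChange_tmul]
      have : Fs.mkQ (f i) = 0 := by
        rw [Submodule.mkQ_apply, Submodule.Quotient.mk_eq_zero]
        exact Submodule.subset_span ⟨i, rfl⟩
      rw [this, TensorProduct.tmul_zero]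
    exact hle hz
  have hsub : Subsingleton (𝔑.ResidueField ⊗[A] (P ⧸ Fs)) := by
    refine subsingleton_of_forall_eq 0 fun y => ?_
    obtain ⟨z, rfl⟩ := LinearMap.lTensor_surjective 𝔑.ResidueField (Submodule.mkQ_surjective Fs) y
    exact hzero z
  have hsupp : (⟨𝔑, hprime⟩ : PrimeSpectrum A) ∉ Module.support A (P ⧸ Fs) := by
    rw [Module.mem_support_iff_nontrivial_residueField_tensorProduct]
    exact not_nontrivial _
  rw [Module.mem_support_iff_of_finite, SetLike.not_le_iff_exists] at hsupp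
  obtain ⟨a, haAnn, ha𝔑⟩ := hsupp
  refine ⟨a, fun p => ?_, ha𝔑⟩
  have := Module.mem_annihilator.mp haAnn (Submodule.Quotient.mk p)
  rw [← Submodule.Quotient.mk_smul, Submodule.Quotient.mk_eq_zero] at this
  exact this

/-- Clearing denominators in the residue field of a prime. -/
lemma exists_common_denominator {α : Type*} [Fintype α] (x : α → 𝔑.ResidueField) :
    ∃ t : A, t ∉ 𝔑 ∧ ∀ i, ∃ b : A, algebraMap A 𝔑.ResidueField t * x i =
      algebraMap A 𝔑.ResidueField b := by
  obtain ⟨⟨tb, htb⟩, hb⟩ := IsLocalization.exist_integer_multiples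
    (nonZeroDivisors (A ⧸ 𝔑)) (Finset.univ : Finset α) x
  obtain ⟨t, rfl⟩ := Ideal.Quotient.mk_surjective tb
  refine ⟨t, fun ht => ?_, fun i => ?_⟩
  · have : Ideal.Quotient.mk 𝔑 t = 0 := Ideal.Quotient.eq_zero_iff_mem.mpr ht
    rw [this] at htb
    exact zero_notMem_nonZeroDivisors htb
  · obtain ⟨cb, hcb⟩ := hb i (Finset.mem_univ i)
    obtain ⟨c, rfl⟩ := Ideal.Quotient.mk_surjective cb
    refine ⟨c, ?_⟩
    rw [Ideal.algebraMap_quotient_residueField_mk] at hcb
    rw [hcb]
    show _ = (Ideal.Quotient.mk 𝔑 t) • x i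
    rw [Algebra.smul_def]
    rfl

/-- If the `1 ⊗ f i` form a basis of `κ(𝔑) ⊗ P` and `P` is finite projective, some element
outside `𝔑` kills all coefficients of all relations among the `f i`. -/
theorem exists_rel_of_prime [Module.Finite A P] [Module.Projective A P] [Fintype ι] [DecidableEq ι]
    (hli : LinearIndependent 𝔑.ResidueField (fun i => (1 : 𝔑.ResidueField) ⊗ₜ[A] f i))
    (hspan : ⊤ ≤ Submodule.span 𝔑.ResidueField
      (Set.range fun i => (1 : 𝔑.ResidueField) ⊗ₜ[A] f i)) :
    ∃ a : A, (∀ c : ι → A, ∑ i, c i • f i = 0 → ∀ i, a * c i = 0) ∧ a ∉ 𝔑 := by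
  classical
  let bV := Module.Basis.mk hli hspan
  let g : ι → P →ₗ[A] 𝔑.ResidueField := fun j =>
    ((bV.coord j).restrictScalars A) ∘ₗ (TensorProduct.mk A 𝔑.ResidueField P 1)
  have hg : ∀ j i, g j (f i) = if i = j then 1 else 0 := by
    intro j i
    show bV.coord j ((1 : 𝔑.ResidueField) ⊗ₜ[A] f i) = _
    have : (1 : 𝔑.ResidueField) ⊗ₜ[A] f i = bV i := by rw [Module.Basis.mk_apply]
    rw [this, Module.Basis.coord_apply, Module.Basis.repr_self, Finsupp.single_apply]
  obtain ⟨N, F, G, -, -, hFG⟩ := Module.Finite.exists_comp_eq_id_of_projective A P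
  let pl : Fin N → P := fun l => F (Pi.single l 1)
  have hp : ∀ p : P, p = ∑ l, G p l • pl l := by
    intro p
    have h1 : p = F (G p) := (LinearMap.congr_fun hFG p).symm
    have h2 : G p = ∑ l, G p l • (Pi.single l 1 : Fin N → A) := by
      ext l'
      simp [Finset.sum_apply, Pi.single_apply]
    conv_lhs => rw [h1, h2]
    simp only [map_sum, map_smul, pl]
  obtain ⟨t, ht, hb⟩ := exists_common_denominator 𝔑
    (fun jl : ι × Fin N => g jl.1 (pl jl.2))
  choose b hbeq using hb
  let φ : ι → P →ₗ[A] A := fun j => ∑ l, b (j, l) • ((LinearMap.proj l).comp G)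
  have hφ : ∀ j p, algebraMap A 𝔑.ResidueField (φ j p) =
      algebraMap A 𝔑.ResidueField t * g j p := by
    intro j p
    have h1 : φ j p = ∑ l, b (j, l) * G p l := by
      simp [φ, LinearMap.sum_apply]
    rw [h1, map_sum]
    conv_rhs => rw [hp p, map_sum, Finset.mul_sum]
    refine Finset.sum_congr rfl fun l _ => ?_
    rw [map_mul, ← hbeq (j, l), map_smul, Algebra.smul_def]
    ring
  let Gm : Matrix ι ι A := Matrix.of fun j i => φ j (f i)
  have hGm : Gm.map (algebraMap A 𝔑.ResidueField) =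
      algebraMap A 𝔑.ResidueField t • (1 : Matrix ι ι 𝔑.ResidueField) := by
    ext j i
    rw [Matrix.map_apply]
    show algebraMap A 𝔑.ResidueField (φ j (f i)) = _
    rw [hφ, hg, Matrix.smul_apply, Matrix.one_apply, smul_eq_mul]
    by_cases h : i = j
    · rw [if_pos h, if_pos h.symm]
    · rw [if_neg h, if_neg (Ne.symm h)]
  refine ⟨Gm.det, fun c hc i => ?_, fun hdet => ?_⟩
  · have hmv : Gm.mulVec c = 0 := by
      ext j
      rw [Matrix.mulVec, dotProduct, Pi.zero_apply]
      have : ∑ i, Gm j i * c i = φ j (∑ i, c i • f i) := by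
        rw [map_sum]
        refine Finset.sum_congr rfl fun i _ => ?_
        rw [map_smul, smul_eq_mul, mul_comm]
        rfl
      rw [this, hc, map_zero]
    have h2 : (Gm.adjugate * Gm).mulVec c = 0 := by
      rw [← Matrix.mulVec_mulVec, hmv, Matrix.mulVec_zero]
    rw [Matrix.adjugate_mul, Matrix.smul_mulVec, Matrix.one_mulVec] at h2
    have := congrFun h2 i
    simpa using this
  · have h1 : algebraMap A 𝔑.ResidueField Gm.det =
        (algebraMap A 𝔑.ResidueField t) ^ Fintype.card ι := by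
      rw [RingHom.map_det, RingHom.mapMatrix_apply, hGm, Matrix.det_smul, Matrix.det_one, mul_one]
    rw [Ideal.algebraMap_residueField_eq_zero.mpr hdet] at h1
    have h2 : algebraMap A 𝔑.ResidueField t ≠ 0 := by
      rw [Ne, Ideal.algebraMap_residueField_eq_zero]
      exact ht
    exact pow_ne_zero _ h2 h1.symm

end Groth.Agent.Helper9.LocalBasisPrime
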