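import Mathlib

set_option autoImplicit false
universe u
open CategoryTheory AlgebraicGeometry Limits

namespace Groth.Agent.Helper9.MonAlgPush

variable (R : Type u) [CommRing R] (C : Type u) [CommRing C] [Algebra R C]
variable (K : Type) [CommMonoid K]

/-- Coefficient extension `R[K] → C[K]`. -/
noncomputable def coeffHom : MonoidAlgebra R K →+* MonoidAlgebra C K :=
  (MonoidAlgebra.mapAlgHom K (Algebra.ofId R C)).toRingHom

/-- `Spec C[K]` is the pullback of `Spec R[K]` along `Spec C → Spec R`. -/
theorem isPushout_monoidAlgebra :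
    IsPushout (CommRingCat.ofHom (algebraMap R C)) (CommRingCat.ofHom (algebraMap R (MonoidAlgebra R K)))
      (CommRingCat.ofHom (algebraMap C (MonoidAlgebra C K))) (CommRingCat.ofHom (coeffHom R C K)) := by
  refine (CommRingCat.isPushout_tensorProduct R C (MonoidAlgebra R K)).of_iso (Iso.refl _) (Iso.refl _)
    (Iso.refl _) (MonoidAlgebra.scalarTensorEquiv R C (M := K)).toRingEquiv.toCommRingCatIso
    (by simp) (by simp) ?_ ?_
  · ext x
    simp [MonoidAlgebra.scalarTensorEquiv_tmul, Algebra.algebraMap_eq_smul_one]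
  · apply CommRingCat.hom_ext
    apply RingHom.ext
    intro p
    change MonoidAlgebra.scalarTensorEquiv R C ((1 : C) ⊗ₜ[R] p) = coeffHom R C K p
    rw [MonoidAlgebra.scalarTensorEquiv_tmul, one_smul]
    rfl

end Groth.Agent.Helper9.MonAlgPush
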