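import Mathlib
import Groth.Agent.Helper9.MonAlgPush
import Groth.Agent.Helper9.SchDom

set_option autoImplicit false
universe u
open CategoryTheory AlgebraicGeometry Limits

namespace Groth.Agent.Helper9.MonAlgDom

open Groth.Agent.Helper9.MonAlgPush Groth.Agent.Helper9.SchDom

variable (R : Type u) [CommRing R]

/-- structure map `Spec R[K] → Spec R` -/
noncomputable abbrev aK (K : Type) [CommMonoid K] :
    Spec (CommRingCat.of (MonoidAlgebra R K)) ⟶ Spec (CommRingCat.of R) :=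
  Spec.map (CommRingCat.ofHom (algebraMap R (MonoidAlgebra R K)))

variable {M' N' : Type} [CommMonoid M'] [CommMonoid N'] (f' : N' →* M')

/-- `Spec R[M'] → Spec R[N']` -/
noncomputable abbrev h0 : Spec (CommRingCat.of (MonoidAlgebra R M')) ⟶ Spec (CommRingCat.of (MonoidAlgebra R N')) :=
  Spec.map (CommRingCat.ofHom (MonoidAlgebra.mapDomainRingHom R f'))

theorem mapDomain_inj (C : Type u) [CommRing C] (hf' : Function.Injective f') :
    Function.Injective (MonoidAlgebra.mapDomainRingHom C f') := by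
  intro x y hxy
  exact MonoidAlgebra.mapDomain_injective hf' hxy

theorem comm1 (C : Type u) [CommRing C] [Algebra R C] :
    (MonoidAlgebra.mapDomainRingHom C f').comp (coeffHom R C N') =
      (coeffHom R C M').comp (MonoidAlgebra.mapDomainRingHom R f') := by
  apply MonoidAlgebra.ringHom_ext
  · intro r
    simp [coeffHom]
  · intro n
    simp [coeffHom]

theorem comm2 (C : Type u) [CommRing C] :
    (MonoidAlgebra.mapDomainRingHom C f').comp (algebraMap C (MonoidAlgebra C N')) =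
      algebraMap C (MonoidAlgebra C M') := by
  ext c
  simp

variable {R}

/-- local piece: over an affine base -/
theorem local_dom (hterm : ∀ {X : Scheme.{u}} (p q : X ⟶ Spec (CommRingCat.of R)), p = q)
    (hf' : Function.Injective f')
    {W : Scheme.{u}} [IsAffine W] (g : W ⟶ Spec (CommRingCat.of R))
    {PM PN : Scheme.{u}} {uM : PM ⟶ Spec (CommRingCat.of (MonoidAlgebra R M'))} {vM : PM ⟶ W}
    {uN : PN ⟶ Spec (CommRingCat.of (MonoidAlgebra R N'))} {vN : PN ⟶ W}
    (hM : IsPullback uM vM (aK R M') g) (hN : IsPullback uN vN (aK R N') g)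
    (H : PM ⟶ PN) (h1 : H ≫ uN = uM ≫ h0 R f') (h2 : H ≫ vN = vM) :
    IsSchemeTheoreticallyDominant H := by
  let C : Type u := Γ(W, ⊤)
  let φ : R →+* C := ((Scheme.ΓSpecIso (CommRingCat.of R)).inv ≫ g.appTop).hom
  letI : Algebra R C := φ.toAlgebra
  let θ : W ≅ Spec (CommRingCat.of C) := W.isoSpec
  have hmodel : ∀ (K : Type) [CommMonoid K],
      IsPullback (Spec.map (CommRingCat.ofHom (coeffHom R C K)))
        (Spec.map (CommRingCat.ofHom (algebraMap C (MonoidAlgebra C K))) ≫ θ.inv) (aK R K) g := by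
    intro K _
    have hp := (isPullback_SpecMap_of_isPushout _ _ _ _ (isPushout_monoidAlgebra R C K)).flip
    refine hp.of_iso (Iso.refl _) (Iso.refl _) θ.symm (Iso.refl _) (by simp) (by simp) (by simp) ?_
    exact hterm _ _
  let eM := hM.isoIsPullback _ _ (hmodel M')
  let eN := hN.isoIsPullback _ _ (hmodel N')
  have key : H = eM.hom ≫ Spec.map (CommRingCat.ofHom (MonoidAlgebra.mapDomainRingHom C f')) ≫ eN.inv := by
    rw [← Category.assoc, Iso.eq_comp_inv]
    apply (hmodel N').hom_ext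
    · rw [Category.assoc, IsPullback.isoIsPullback_hom_fst, h1, Category.assoc, ← Spec.map_comp,
        ← CommRingCat.ofHom_comp, comm1, CommRingCat.ofHom_comp, Spec.map_comp,
        IsPullback.isoIsPullback_hom_fst_assoc]
    · rw [Category.assoc, IsPullback.isoIsPullback_hom_snd, h2, Category.assoc, ← Category.assoc (Spec.map _),
        ← Spec.map_comp, ← CommRingCat.ofHom_comp, comm2, IsPullback.isoIsPullback_hom_snd]
  rw [key]
  haveI := schDominant_specMap (CommRingCat.ofHom (MonoidAlgebra.mapDomainRingHom C f'))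
    (mapDomain_inj f' C hf')
  infer_instance

/-- global: over any base -/
theorem global_dom (hterm : ∀ {X : Scheme.{u}} (p q : X ⟶ Spec (CommRingCat.of R)), p = q)
    (hf' : Function.Injective f')
    {T' : Scheme.{u}} (g : T' ⟶ Spec (CommRingCat.of R))
    {PM PN : Scheme.{u}} {uM : PM ⟶ Spec (CommRingCat.of (MonoidAlgebra R M'))} {vM : PM ⟶ T'}
    {uN : PN ⟶ Spec (CommRingCat.of (MonoidAlgebra R N'))} {vN : PN ⟶ T'}
    (hM : IsPullback uM vM (aK R M') g) (hN : IsPullback uN vN (aK R N') g)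
    (H : PM ⟶ PN) (h1 : H ≫ uN = uM ≫ h0 R f') (h2 : H ≫ vN = vM) :
    IsSchemeTheoreticallyDominant H := by
  haveI : IsAffineHom vN := MorphismProperty.of_isPullback hN inferInstance
  haveI : IsAffineHom vM := MorphismProperty.of_isPullback hM inferInstance
  haveI : IsAffineHom H := by
    haveI : IsAffineHom (H ≫ vN) := by rw [h2]; infer_instance
    exact IsAffineHom.of_comp H vN
  refine ⟨Scheme.IdealSheafData.ext_of_iSup_eq_top
    (fun W : T'.affineOpens => ⟨vN ⁻¹ᵁ W.1, W.2.preimage vN⟩) ?_ ?_⟩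
  · rw [eq_top_iff]
    rintro x -
    obtain ⟨_, ⟨W, hW, rfl⟩, hxW, -⟩ :=
      T'.isBasis_affineOpens.exists_subset_of_mem_open (Set.mem_univ (vN x)) isOpen_univ
    exact TopologicalSpace.Opens.mem_iSup.mpr ⟨⟨W, hW⟩, hxW⟩
  · intro W
    have hVaff : IsAffineOpen (vN ⁻¹ᵁ W.1) := W.2.preimage vN
    haveI : IsAffine (vN ⁻¹ᵁ W.1).toScheme := hVaff
    haveI : IsAffine W.1.toScheme := W.2
    have sqN := isPullback_morphismRestrict vN W.1
    have sqH := isPullback_morphismRestrict H (vN ⁻¹ᵁ W.1)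
    have hN' : IsPullback ((vN ⁻¹ᵁ W.1).ι ≫ uN) (vN ∣_ W.1) (aK R N') (W.1.ι ≫ g) :=
      sqN.flip.paste_horiz hN
    have hM' : IsPullback ((H ⁻¹ᵁ (vN ⁻¹ᵁ W.1)).ι ≫ uM) ((H ∣_ (vN ⁻¹ᵁ W.1)) ≫ (vN ∣_ W.1))
        (aK R M') (W.1.ι ≫ g) := by
      have h3 := sqH.paste_horiz sqN
      rw [h2] at h3
      exact h3.flip.paste_horiz hM
    have hdom : IsSchemeTheoreticallyDominant (H ∣_ (vN ⁻¹ᵁ W.1)) := by
      refine local_dom f' hterm hf' (W.1.ι ≫ g) hM' hN' _ ?_ rfl
      rw [← Category.assoc, morphismRestrict_ι, Category.assoc, h1, Category.assoc]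
    have h4 := Scheme.ker_morphismRestrict_ideal H (vN ⁻¹ᵁ W.1)
      ⟨⊤, isAffineOpen_top _⟩
    rw [hdom.ker_eq_bot] at h4
    have h5 : (⟨(vN ⁻¹ᵁ W.1).ι ''ᵁ ⊤, (isAffineOpen_top _).image_of_isOpenImmersion _⟩ :
        PN.affineOpens) = ⟨vN ⁻¹ᵁ W.1, hVaff⟩ := Subtype.ext (Scheme.Opens.ι_image_top _)
    have h6 : (Scheme.Hom.ker H).ideal ⟨(vN ⁻¹ᵁ W.1).ι ''ᵁ ⊤,
        (isAffineOpen_top _).image_of_isOpenImmersion _⟩ = ⊥ := by
      rw [← h4]; rfl
    have key : ∀ U₁ U₂ : PN.affineOpens, U₁ = U₂ → (Scheme.Hom.ker H).ideal U₁ = ⊥ →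
        (Scheme.Hom.ker H).ideal U₂ = ⊥ := by
      rintro _ _ rfl h; exact h
    have h7 := key _ _ h5 h6
    rw [h7]
    simp

end Groth.Agent.Helper9.MonAlgDom
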