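import Mathlib
import Groth.Prelude.Def_Magnet2
import Groth.Agent.Helper9.MonAlgDom

set_option autoImplicit false
universe u
open CategoryTheory AlgebraicGeometry Limits MonoidalCategory CartesianMonoidalCategory

namespace Groth.Agent.Helper9.MagnetDom

open Groth.Agent.Helper9.MonAlgDom

variable (S : Scheme.{u}) {M N : Type} [AddCommMonoid M] [AddCommMonoid N]

/-- The big pullback square for `A(M)_S ⊗ T`. -/
theorem isPullback_big (M : Type) [AddCommMonoid M] (T : Over S) :
    IsPullback
      (pullback.fst (Magnet.AMonS S M).hom T.hom ≫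
        pullback.fst (Magnet.AMon (ULift.{u} ℤ) M).hom (Limits.IsTerminal.from specULiftZIsTerminal S))
      (pullback.snd (Magnet.AMonS S M).hom T.hom)
      (aK (ULift.{u} ℤ) (Multiplicative M))
      (T.hom ≫ Limits.IsTerminal.from specULiftZIsTerminal S) := by
  have sq1 : IsPullback (pullback.fst (Magnet.AMonS S M).hom T.hom)
      (pullback.snd (Magnet.AMonS S M).hom T.hom) (Magnet.AMonS S M).hom T.hom :=
    IsPullback.of_hasPullback _ _
  have sq2 : IsPullback
      (pullback.fst (Magnet.AMon (ULift.{u} ℤ) M).hom (Limits.IsTerminal.from specULiftZIsTerminal S))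
      (pullback.snd (Magnet.AMon (ULift.{u} ℤ) M).hom (Limits.IsTerminal.from specULiftZIsTerminal S))
      (Magnet.AMon (ULift.{u} ℤ) M).hom (Limits.IsTerminal.from specULiftZIsTerminal S) :=
    IsPullback.of_hasPullback _ _
  exact (sq1.flip.paste_vert sq2.flip).flip

theorem dom (f : N →+ M) (hf : Function.Injective f) (T : Over S) :
    IsSchemeTheoreticallyDominant ((Magnet.AMonS.map S f) ▷ T).left := by
  refine global_dom (R := ULift.{u} ℤ) (AddMonoidHom.toMultiplicative f)
    (fun p q => specULiftZIsTerminal.hom_ext p q) hf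
    (T.hom ≫ Limits.IsTerminal.from specULiftZIsTerminal S)
    (isPullback_big S M T) (isPullback_big S N T) _ ?_ ?_
  · have e1 : ((Magnet.AMonS.map S f) ▷ T).left ≫ pullback.fst (Magnet.AMonS S N).hom T.hom =
        pullback.fst (Magnet.AMonS S M).hom T.hom ≫ (Magnet.AMonS.map S f).left :=
      Over.whiskerRight_left_fst _
    have e2 : (Magnet.AMonS.map S f).left ≫
        pullback.fst (Magnet.AMon (ULift.{u} ℤ) N).hom (Limits.IsTerminal.from specULiftZIsTerminal S) =
        pullback.fst (Magnet.AMon (ULift.{u} ℤ) M).hom (Limits.IsTerminal.from specULiftZIsTerminal S) ≫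
          (Magnet.AMon.map (ULift.{u} ℤ) f).left := by
      simp only [Magnet.AMonS.map, Over.pullback_map_left]
      exact pullback.lift_fst _ _ _
    have e3 : (Magnet.AMon.map (ULift.{u} ℤ) f).left =
        h0 (ULift.{u} ℤ) (AddMonoidHom.toMultiplicative f) := rfl
    calc ((Magnet.AMonS.map S f) ▷ T).left ≫ pullback.fst (Magnet.AMonS S N).hom T.hom ≫
          pullback.fst (Magnet.AMon (ULift.{u} ℤ) N).hom (Limits.IsTerminal.from specULiftZIsTerminal S)
        = (((Magnet.AMonS.map S f) ▷ T).left ≫ pullback.fst (Magnet.AMonS S N).hom T.hom) ≫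
          pullback.fst (Magnet.AMon (ULift.{u} ℤ) N).hom (Limits.IsTerminal.from specULiftZIsTerminal S) :=
          (Category.assoc _ _ _).symm
      _ = (pullback.fst (Magnet.AMonS S M).hom T.hom ≫ (Magnet.AMonS.map S f).left) ≫
          pullback.fst (Magnet.AMon (ULift.{u} ℤ) N).hom (Limits.IsTerminal.from specULiftZIsTerminal S) :=
          congrArg (fun t => t ≫ pullback.fst (Magnet.AMon (ULift.{u} ℤ) N).hom
            (Limits.IsTerminal.from specULiftZIsTerminal S)) e1
      _ = pullback.fst (Magnet.AMonS S M).hom T.hom ≫ ((Magnet.AMonS.map S f).left ≫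
          pullback.fst (Magnet.AMon (ULift.{u} ℤ) N).hom (Limits.IsTerminal.from specULiftZIsTerminal S)) :=
          Category.assoc _ _ _
      _ = pullback.fst (Magnet.AMonS S M).hom T.hom ≫
          (pullback.fst (Magnet.AMon (ULift.{u} ℤ) M).hom (Limits.IsTerminal.from specULiftZIsTerminal S) ≫
          (Magnet.AMon.map (ULift.{u} ℤ) f).left) :=
          congrArg (fun t => pullback.fst (Magnet.AMonS S M).hom T.hom ≫ t) e2
      _ = _ := by rw [e3]; exact (Category.assoc _ _ _).symm
  · exact Over.whiskerRight_left_snd _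

end Groth.Agent.Helper9.MagnetDom
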