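import Mathlib
import Groth.Prelude.Def_Magnet3
import Groth.Agent.Helper9.MagnetDom

set_option autoImplicit false
universe u
open CategoryTheory AlgebraicGeometry Limits MonoidalCategory CartesianMonoidalCategory MonObj Opposite

namespace Groth.Agent.Helper9.MagnetIso

variable (S : Scheme.{u})

theorem amon_map_id (R : Type u) [CommRing R] (N : Type) [AddCommMonoid N] :
    Magnet.AMon.map R (AddMonoidHom.id N) = 𝟙 _ := by
  ext : 1
  rw [Magnet.AMon.map_left]
  have : (MonoidAlgebra.mapDomainBialgHom R (AddMonoidHom.toMultiplicative (AddMonoidHom.id N))).toAlgHom.toRingHom =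
      RingHom.id _ := by
    apply MonoidAlgebra.ringHom_ext
    · intro r; simp
    · intro m; simp
  rw [this]
  exact Spec.map_id _

theorem amons_map_id (N : Type) [AddCommMonoid N] :
    Magnet.AMonS.map S (AddMonoidHom.id N) = 𝟙 _ := by
  rw [Magnet.AMonS.map, amon_map_id]
  exact CategoryTheory.Functor.map_id _ _

/-- an additive equivalence induces inverse morphisms -/
theorem amons_map_equiv {N Y : Type} [AddCommMonoid N] [AddCommMonoid Y] (e : N ≃+ Y) :
    Magnet.AMonS.map S e.toAddMonoidHom ≫ Magnet.AMonS.map S e.symm.toAddMonoidHom = 𝟙 _ ∧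
    Magnet.AMonS.map S e.symm.toAddMonoidHom ≫ Magnet.AMonS.map S e.toAddMonoidHom = 𝟙 _ := by
  constructor
  · rw [← Magnet.AMonS.map_comp, ← amons_map_id]
    congr 1
    ext x; simp
  · rw [← Magnet.AMonS.map_comp, ← amons_map_id]
    congr 1
    ext x; simp

end Groth.Agent.Helper9.MagnetIso
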