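import Mathlib

/-! Formal compatibilities of the base change map of right adjoints with counits and units
(abstract form of the trace / unit compatibilities of Grothendieck duality with base change). -/

set_option autoImplicit false
set_option linter.unusedSectionVars false
set_option linter.unusedVariables false
set_option linter.style.haveILetI false

namespace Groth.Agent.Helper9.MateBC

open CategoryTheory

variable {A B A' B' : Type*} [Category A] [Category B] [Category A'] [Category B']
  {F : A ⥤ B} {F' : A' ⥤ B'} {G : B' ⥤ B} {G' : A' ⥤ A} {L : B ⥤ B'} {L' : A ⥤ A'}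
  {a : B ⥤ A} {a' : B' ⥤ A'}
  (adj : F ⊣ a) (adj' : F' ⊣ a') (adjg : L ⊣ G) (adjg' : L' ⊣ G') (e : G' ⋙ F ≅ F' ⋙ G)

/-- `ξ_M : G' a' M ⟶ a G M` -/
def xi (M : B') : G'.obj (a'.obj M) ⟶ a.obj (G.obj M) :=
  (adj.homEquiv _ _) (e.hom.app (a'.obj M) ≫ G.map (adj'.counit.app M))

/-- the base change map `L' a K ⟶ a' L K` -/
noncomputable def bcMap (K : B) (hξ : IsIso (xi adj adj' e (L.obj K))) :
    L'.obj (a.obj K) ⟶ a'.obj (L.obj K) :=
  haveI := hξ
  L'.map (a.map (adjg.unit.app K)) ≫ L'.map (inv (xi adj adj' e (L.obj K))) ≫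
    adjg'.counit.app (a'.obj (L.obj K))

/-- the base change map `L F K ⟶ F' L' K` -/
def bcPush (K : A) : L.obj (F.obj K) ⟶ F'.obj (L'.obj K) :=
  (adjg.homEquiv _ _).symm (F.map (adjg'.unit.app K) ≫ e.hom.app (L'.obj K))

/-- the defining property of `ξ` -/
lemma map_xi_counit (M : B') :
    F.map (xi adj adj' e M) ≫ adj.counit.app (G.obj M) =
      e.hom.app (a'.obj M) ≫ G.map (adj'.counit.app M) := by
  have h := (adj.homEquiv _ _).symm_apply_apply (e.hom.app (a'.obj M) ≫ G.map (adj'.counit.app M))
  rw [Adjunction.homEquiv_counit] at h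
  exact h

/-- the transpose of `bcMap` -/
lemma unit_map_bcMap (K : B) (hξ : IsIso (xi adj adj' e (L.obj K))) :
    adjg'.unit.app (a.obj K) ≫ G'.map (bcMap adj adj' adjg adjg' e K hξ) =
      haveI := hξ
      a.map (adjg.unit.app K) ≫ inv (xi adj adj' e (L.obj K)) := by
  haveI := hξ
  have h1 : bcMap adj adj' adjg adjg' e K hξ =
      L'.map (a.map (adjg.unit.app K) ≫ inv (xi adj adj' e (L.obj K))) ≫
        adjg'.counit.app (a'.obj (L.obj K)) := by
    rw [L'.map_comp, Category.assoc]
    rfl
  have hn := adjg'.unit_naturality (a.map (adjg.unit.app K) ≫ inv (xi adj adj' e (L.obj K)))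
  try dsimp only [Functor.comp_obj, Functor.id_obj, Functor.comp_map, Functor.id_map] at hn
  have ht := adjg'.right_triangle_components (a'.obj (L.obj K))
  rw [h1, G'.map_comp, ← Category.assoc, hn, Category.assoc, ht, Category.comp_id]

/-- the transpose of `bcPush` -/
lemma unit_map_bcPush (K : A) :
    adjg.unit.app (F.obj K) ≫ G.map (bcPush adjg adjg' e K) =
      F.map (adjg'.unit.app K) ≫ e.hom.app (L'.obj K) := by
  have h := (adjg.homEquiv _ _).apply_symm_apply
    (F.map (adjg'.unit.app K) ≫ e.hom.app (L'.obj K))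
  rw [Adjunction.homEquiv_unit] at h
  exact h

/-- **compatibility with the counits (traces)** -/
theorem trace_compat (K : B) (hξ : IsIso (xi adj adj' e (L.obj K))) :
    bcPush adjg adjg' e (a.obj K) ≫ F'.map (bcMap adj adj' adjg adjg' e K hξ) ≫
      adj'.counit.app (L.obj K) = L.map (adj.counit.app K) := by
  haveI := hξ
  apply (adjg.homEquiv _ _).injective
  rw [Adjunction.homEquiv_unit, Adjunction.homEquiv_unit, G.map_comp, ← Category.assoc,
    unit_map_bcPush, G.map_comp]
  have hnat := e.hom.naturality (bcMap adj adj' adjg adjg' e K hξ)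
  try dsimp only [Functor.comp_obj, Functor.id_obj, Functor.comp_map, Functor.id_map] at hnat
  rw [Category.assoc, ← Category.assoc (e.hom.app _), ← hnat, Category.assoc,
    ← map_xi_counit adj adj' e (L.obj K), ← Category.assoc, ← Category.assoc, ← F.map_comp,
    ← F.map_comp, unit_map_bcMap, Category.assoc, IsIso.inv_hom_id, Category.comp_id]
  have h2 := adj.counit_naturality (adjg.unit.app K)
  try dsimp only [Functor.comp_obj, Functor.id_obj, Functor.comp_map, Functor.id_map] at h2
  rw [h2]
  have h3 := adjg.unit_naturality (adj.counit.app K)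
  try dsimp only [Functor.comp_obj, Functor.id_obj, Functor.comp_map, Functor.id_map] at h3
  exact h3.symm

/-- the unit compared with `ξ` -/
lemma map_unit_xi (N : A') :
    G'.map (adj'.unit.app N) ≫ xi adj adj' e (F'.obj N) =
      adj.unit.app (G'.obj N) ≫ a.map (e.hom.app N) := by
  unfold xi
  rw [Adjunction.homEquiv_unit]
  have h1 := adj.unit_naturality (G'.map (adj'.unit.app N))
  try dsimp only [Functor.comp_obj, Functor.id_obj, Functor.comp_map, Functor.id_map] at h1
  rw [← Category.assoc, ← h1, Category.assoc, ← a.map_comp]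
  have hnat := e.hom.naturality (adj'.unit.app N)
  try dsimp only [Functor.comp_obj, Functor.id_obj, Functor.comp_map, Functor.id_map] at hnat
  rw [← Category.assoc (F.map _), hnat, Category.assoc, ← G.map_comp,
    adj'.left_triangle_components, G.map_id, Category.comp_id]

/-- naturality of `ξ` -/
lemma xi_naturality {M N : B'} (φ : M ⟶ N) :
    G'.map (a'.map φ) ≫ xi adj adj' e N = xi adj adj' e M ≫ a.map (G.map φ) := by
  unfold xi
  rw [Adjunction.homEquiv_unit, Adjunction.homEquiv_unit]
  have h1 := adj.unit_naturality (G'.map (a'.map φ))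
  try dsimp only [Functor.comp_obj, Functor.id_obj, Functor.comp_map, Functor.id_map] at h1
  rw [← Category.assoc, ← h1, Category.assoc, Category.assoc, ← a.map_comp, ← a.map_comp]
  congr 2
  have hnat := e.hom.naturality (a'.map φ)
  try dsimp only [Functor.comp_obj, Functor.id_obj, Functor.comp_map, Functor.id_map] at hnat
  rw [← Category.assoc, hnat, Category.assoc, Category.assoc, ← G.map_comp, ← G.map_comp]
  congr 2
  have h2 := adj'.counit_naturality φ
  try dsimp only [Functor.comp_obj, Functor.id_obj, Functor.comp_map, Functor.id_map] at h2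
  exact h2

/-- **compatibility with the units** -/
theorem unit_compat (M : A) (hξ : ∀ N : B', IsIso (xi adj adj' e N)) :
    adj'.unit.app (L'.obj M) = L'.map (adj.unit.app M) ≫
      bcMap adj adj' adjg adjg' e (F.obj M) (hξ _) ≫ a'.map (bcPush adjg adjg' e M) := by
  haveI := hξ
  apply (adjg'.homEquiv _ _).injective
  rw [Adjunction.homEquiv_unit, Adjunction.homEquiv_unit, G'.map_comp, G'.map_comp]
  have h1 := adjg'.unit_naturality (adj.unit.app M)
  try dsimp only [Functor.comp_obj, Functor.id_obj, Functor.comp_map, Functor.id_map] at h1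
  rw [← Category.assoc (adjg'.unit.app M), h1, Category.assoc,
    ← Category.assoc (adjg'.unit.app _), unit_map_bcMap, Category.assoc]
  -- move `G' a' β` across `ξ⁻¹`
  have h2 : inv (xi adj adj' e (L.obj (F.obj M))) ≫ G'.map (a'.map (bcPush adjg adjg' e M)) =
      a.map (G.map (bcPush adjg adjg' e M)) ≫ inv (xi adj adj' e (F'.obj (L'.obj M))) := by
    rw [IsIso.inv_comp_eq, ← Category.assoc, ← xi_naturality, Category.assoc, IsIso.hom_inv_id,
      Category.comp_id]
  rw [h2, ← Category.assoc (a.map _), ← a.map_comp, unit_map_bcPush, a.map_comp]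
  have h3 := adj.unit_naturality (adjg'.unit.app M)
  try dsimp only [Functor.comp_obj, Functor.id_obj, Functor.comp_map, Functor.id_map] at h3
  rw [Category.assoc, ← Category.assoc (adj.unit.app M), h3, Category.assoc,
    ← Category.assoc (adj.unit.app _), ← map_unit_xi, Category.assoc, IsIso.hom_inv_id,
    Category.comp_id]

end Groth.Agent.Helper9.MateBC
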