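import Groth.Agent.Helper6.MilnorKBasic
import Mathlib
set_option autoImplicit false

namespace Groth.Agent.Helper9.MilK2

open MilK Groth.Agent.Helper6.MilnorKBasic

universe u w

theorem pairing {F : Type u} [Field F] {M : Type w} [AddCommGroup M] {f : Fˣ → Fˣ → M}
    (hf : IsSteinbergPairing f) (b c : Fˣ) (h : (b : F) + (c : F) ≠ 0) :
    f b c + f (Units.mk0 ((b : F) + (c : F)) h) (-(b / c)) = 0 := by
  set s : Fˣ := Units.mk0 ((b : F) + (c : F)) h with hs
  have hst : f (b / s) (c / s) = 0 := by
    apply hf.steinberg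
    simp only [Units.val_div_eq_div_val, hs, Units.val_mk0]
    rw [← add_div, div_self h]
  have e1 : f (b / s) (c / s) = f b c - f b s - f s c + f s s := by
    rw [div_eq_mul_inv, div_eq_mul_inv, hf.mul_left, hf.mul_right, hf.mul_right, hf.inv_left,
      hf.inv_left, hf.inv_right, hf.inv_right]
    abel
  have e2 : f s (-(b / c)) = f s (-1) + f s b - f s c := by
    have : (-(b / c) : Fˣ) = (-1) * (b * c⁻¹) := by rw [div_eq_mul_inv]; simp
    rw [this, hf.mul_right, hf.mul_right, hf.inv_right]
    abel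
  have e3 : f s s = f s (-1) := hf.self_eq s
  have e4 : f b s = - f s b := hf.antisymm b s
  rw [e2]
  rw [e1, e3, e4] at hst
  rw [← hst]
  abel

theorem main (F : Type u) [Field F] (b c : Fˣ) (h : (b : F) + (c : F) ≠ 0) :
    (MilK.symbol ![b, c] : MilK.K F 2) +
      MilK.symbol ![Units.mk0 ((b : F) + (c : F)) h, -(b / c)] = 0 :=
  pairing (f := fun a b => (symbol ![a, b] : K F 2)) pair_isSteinbergPairing b c h

end Groth.Agent.Helper9.MilK2
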