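import Groth.Agent.Helper6.MilnorKTame
import Mathlib

/-!
# Tame symbols on Milnor K-groups: functoriality lemmas
Built on helper6's `MilnorKTame` / `MilnorKGen` libraries.
-/

set_option autoImplicit false

namespace Groth.Agent.Helper9.MilKTame2

open MilK Groth.Agent.Helper6 Groth.Agent.Helper6.MilnorKTame Groth.Agent.Helper6.MilnorKDVR

universe u v

section General
variable {F : Type v} [Field F]

lemma append_one_cast (c : Fˣ) {n : ℕ} (x : Fin n → Fˣ) :
    (Fin.append ![c] x) ∘ Fin.cast (Nat.add_comm 1 n).symm = (Fin.cons c x : Fin (n + 1) → Fˣ) := by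
  funext k
  refine Fin.cases ?_ (fun i => ?_) k
  · simp only [Function.comp_apply, Fin.cons_zero]
    have : Fin.cast (Nat.add_comm 1 n).symm (0 : Fin (n + 1)) = Fin.castAdd n (0 : Fin 1) := by
      ext; simp
    rw [this, Fin.append_left]
    rfl
  · simp only [Function.comp_apply, Fin.cons_succ]
    have : Fin.cast (Nat.add_comm 1 n).symm i.succ = Fin.natAdd 1 i := by
      ext; simp [add_comm]
    rw [this, Fin.append_right]

/-- left multiplication by a symbol of length one is `consL` -/
lemma cast_mul_symbol_one (c : Fˣ) (n : ℕ) (y : K F n) :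
    cast F (Nat.add_comm 1 n) (mul F 1 n (symbol ![c]) y) = consL c n y := by
  have : ((cast F (Nat.add_comm 1 n)).toAddMonoidHom.comp (mul F 1 n (symbol ![c]))) = consL c n := by
    refine MilnorKSym.hom_ext_symbol fun x => ?_
    simp only [AddMonoidHom.comp_apply, AddEquiv.coe_toAddMonoidHom]
    rw [mul_symbol_symbol, cast_symbol, consL_symbol, append_one_cast]
  exact DFunLike.congr_fun this y

end General

section Field

variable (B : Type u) [CommRing B] [IsDomain B] [IsDiscreteValuationRing B]
  (E F : Type v) [Field E] [Field F] [Algebra B F] [IsFractionRing B F]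
  [Algebra E B] [Algebra E F] [IsScalarTower E B F]

/-- units of a subfield of the valuation ring, as units of the ring -/
noncomputable def fu (w : Eˣ) : Bˣ := Units.map (algebraMap E B : E →* B) w

lemma map_unit_eq (w : Eˣ) :
    Units.map ((algebraMap E F : E →+* F) : E →* F) w = unitToFrac B F (fu B E w) := by
  apply Units.ext
  simp [fu, MilK.unitToFrac, IsScalarTower.algebraMap_apply E B F]

theorem tame_map_eq_zero (n : ℕ) (d : K F (n + 1) →+ K (IsLocalRing.ResidueField B) n)
    (hd : IsTameSymbol B F n d) (x : K E (n + 1)) : d (map (algebraMap E F) (n + 1) x) = 0 := by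
  obtain ⟨ϖ, hϖ⟩ := IsDiscreteValuationRing.exists_irreducible B
  have : d.comp (map (algebraMap E F) (n + 1)) = 0 := by
    refine MilnorKSym.hom_ext_symbol fun w => ?_
    rw [AddMonoidHom.comp_apply, map_symbol, AddMonoidHom.zero_apply]
    simp only [map_unit_eq B E F]
    exact MilnorKGen.tame_unitSymbol hϖ d hd (fun i => fu B E (w i))
  exact DFunLike.congr_fun this x

theorem tame_negUniformizer_mul (n : ℕ) (d : K F (n + 1) →+ K (IsLocalRing.ResidueField B) n)
    (hd : IsTameSymbol B F n d) (ϖ : B) (hϖ : Irreducible ϖ) (x : K E n) :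
    d (cast F (Nat.add_comm 1 n)
        (mul F 1 n (symbol ![-unitFrac B F ϖ hϖ.ne_zero]) (map (algebraMap E F) n x))) =
      map ((IsLocalRing.residue B).comp (algebraMap E B)) n x := by
  have hneg : Irreducible (-ϖ) := by
    have h1 : -ϖ = ((-1 : Bˣ) : B) * ϖ := by simp
    rw [h1]
    exact (irreducible_units_mul (-1 : Bˣ)).2 hϖ
  have hu : -unitFrac B F ϖ hϖ.ne_zero = unitFrac B F (-ϖ) hneg.ne_zero := by
    apply Units.ext
    simp [MilK.unitFrac]
  have : (d.comp (consL (-unitFrac B F ϖ hϖ.ne_zero) n)).comp (map (algebraMap E F) n) =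
      map ((IsLocalRing.residue B).comp (algebraMap E B)) n := by
    refine MilnorKSym.hom_ext_symbol fun w => ?_
    simp only [AddMonoidHom.comp_apply]
    rw [map_symbol, map_symbol, consL_symbol, hu]
    simp only [map_unit_eq B E F]
    rw [hd (-ϖ) hneg (fun i => fu B E (w i))]
    congr 1
  rw [cast_mul_symbol_one]
  exact DFunLike.congr_fun this x

end Field

section Unit

variable (B : Type u) [CommRing B] [IsDomain B] [IsDiscreteValuationRing B]
  (F : Type v) [Field F] [Algebra B F] [IsFractionRing B F]

theorem tame_unit_mul (n : ℕ) (d : K F (n + 1) →+ K (IsLocalRing.ResidueField B) n)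
    (hd : IsTameSymbol B F n d)
    (d' : K F (n + 1 + 1) →+ K (IsLocalRing.ResidueField B) (n + 1))
    (hd' : IsTameSymbol B F (n + 1) d') (u : Bˣ) (ρ : K F (n + 1)) :
    d' (cast F (Nat.add_comm 1 (n + 1)) (mul F 1 (n + 1) (symbol ![unitToFrac B F u]) ρ)) =
      -(cast (IsLocalRing.ResidueField B) (Nat.add_comm 1 n)
          (mul (IsLocalRing.ResidueField B) 1 n (symbol ![unitResidue B u]) (d ρ))) := by
  obtain ⟨ϖ, hϖ⟩ := IsDiscreteValuationRing.exists_irreducible B
  have e1 : d = tame hϖ n := isTameSymbol_unique n hd (isTameSymbol_tame hϖ n)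
  have e2 : d' = tame hϖ (n + 1) := isTameSymbol_unique (n + 1) hd' (isTameSymbol_tame hϖ (n + 1))
  rw [cast_mul_symbol_one, cast_mul_symbol_one]
  have : (d'.comp (consL (unitToFrac B F u) (n + 1))) =
      -((consL (unitResidue B u) n).comp d) := by
    refine MilnorKSym.hom_ext_symbol fun y => ?_
    simp only [AddMonoidHom.comp_apply, AddMonoidHom.neg_apply]
    rw [consL_symbol, e1, e2, tame_symbol, tame_symbol, D_cons, ord_unitToFrac, zero_smul, zero_smul,
      zero_add, zero_sub, AddMonoidHom.neg_apply, resPart_unitToFrac]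
  have h := DFunLike.congr_fun this ρ
  simpa only [AddMonoidHom.comp_apply, AddMonoidHom.neg_apply] using h

end Unit

section Ramification

variable (A B : Type u) [CommRing A] [IsDomain A] [IsDiscreteValuationRing A]
  [CommRing B] [IsDomain B] [IsDiscreteValuationRing B] [Algebra A B] [IsLocalHom (algebraMap A B)]
  (E F : Type v) [Field E] [Field F] [Algebra A E] [IsFractionRing A E] [Algebra B F]
  [IsFractionRing B F] [Algebra E F] [Algebra A F] [IsScalarTower A E F] [IsScalarTower A B F]

/-- units of `A` mapped to units of `B` -/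
noncomputable def uAB (w : Aˣ) : Bˣ := Units.map (algebraMap A B : A →* B) w

omit [IsDomain A] [IsDiscreteValuationRing A] [IsDomain B] [IsDiscreteValuationRing B]
  [IsLocalHom (algebraMap A B)] [IsFractionRing A E] [IsFractionRing B F] in
lemma map_unitToFrac (w : Aˣ) :
    Units.map ((algebraMap E F : E →+* F) : E →* F) (unitToFrac A E w) =
      unitToFrac B F (uAB A B w) := by
  apply Units.ext
  simp only [Units.coe_map, MonoidHom.coe_coe, MilK.unitToFrac, uAB]
  rw [← IsScalarTower.algebraMap_apply A E F, IsScalarTower.algebraMap_apply A B F]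

omit [IsFractionRing A E] [IsFractionRing B F] [Algebra A E] [Algebra B F] [Algebra A F]
  [IsScalarTower A E F] [IsScalarTower A B F] in
lemma map_unitResidue (w : Aˣ) :
    Units.map ((IsLocalRing.ResidueField.map (algebraMap A B) :
        IsLocalRing.ResidueField A →+* IsLocalRing.ResidueField B) :
        IsLocalRing.ResidueField A →* IsLocalRing.ResidueField B) (unitResidue A w) =
      unitResidue B (uAB A B w) := by
  apply Units.ext
  simp only [Units.coe_map, MonoidHom.coe_coe, MilK.unitResidue, uAB]
  exact IsLocalRing.ResidueField.map_residue _ _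

theorem tame_ramification
    (e : ℕ) (he : Ideal.map (algebraMap A B) (IsLocalRing.maximalIdeal A) =
      IsLocalRing.maximalIdeal B ^ e)
    (n : ℕ) (dA : K E (n + 1) →+ K (IsLocalRing.ResidueField A) n) (hdA : IsTameSymbol A E n dA)
    (dB : K F (n + 1) →+ K (IsLocalRing.ResidueField B) n) (hdB : IsTameSymbol B F n dB)
    (x : K E (n + 1)) :
    dB (map (algebraMap E F) (n + 1) x) =
      e • map (IsLocalRing.ResidueField.map (algebraMap A B)) n (dA x) := by
  obtain ⟨πA, hπA⟩ := IsDiscreteValuationRing.exists_irreducible A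
  obtain ⟨πB, hπB⟩ := IsDiscreteValuationRing.exists_irreducible B
  -- the uniformizer of A is a unit times the e-th power of that of B
  have hass : Associated (algebraMap A B πA) (πB ^ e) := by
    rw [← Ideal.span_singleton_eq_span_singleton]
    have h1 : IsLocalRing.maximalIdeal A = Ideal.span {πA} := hπA.maximalIdeal_eq
    have h2 : IsLocalRing.maximalIdeal B = Ideal.span {πB} := hπB.maximalIdeal_eq
    rw [h1, h2, Ideal.map_span, Set.image_singleton, Ideal.span_singleton_pow] at he
    exact he
  obtain ⟨w, hw⟩ := hass.symm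
  -- hw : πB ^ e * w = algebraMap A B πA
  have hπmap : Units.map ((algebraMap E F : E →+* F) : E →* F) (unitFrac A E πA hπA.ne_zero) =
      unitFrac B F πB hπB.ne_zero ^ e * unitToFrac B F w := by
    apply Units.ext
    simp only [Units.coe_map, MonoidHom.coe_coe, MilK.coe_unitFrac, Units.val_mul, Units.val_pow_eq_pow_val,
      MilK.unitToFrac]
    rw [← IsScalarTower.algebraMap_apply A E F, IsScalarTower.algebraMap_apply A B F, ← hw, map_mul,
      map_pow]
  let G : AddSubgroup (K E (n + 1)) :=
    (dB.comp (map (algebraMap E F) (n + 1))).eqLocus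
      (e • ((map (IsLocalRing.ResidueField.map (algebraMap A B)) n).comp dA))
  have hG : G = ⊤ := by
    refine MilnorKGen.eq_top hπA G ?_ ?_
    · intro u
      change dB (map (algebraMap E F) (n + 1) _) = e • map _ n (dA _)
      rw [MilnorKGen.tame_unitSymbol hπA dA hdA u, map_zero, smul_zero, map_symbol]
      simp only [map_unitToFrac A B E F]
      exact MilnorKGen.tame_unitSymbol hπB dB hdB (fun i => uAB A B (u i))
    · intro u
      change dB (map (algebraMap E F) (n + 1) _) = e • map _ n (dA _)
      rw [hdA πA hπA u, map_symbol, map_symbol]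
      simp only [map_unitResidue A B]
      have hcons : (fun i => Units.map ((algebraMap E F : E →+* F) : E →* F)
          ((Fin.cons (unitFrac A E πA hπA.ne_zero) (fun i => unitToFrac A E (u i)) :
            Fin (n + 1) → Eˣ) i)) =
          (Fin.cons (unitFrac B F πB hπB.ne_zero ^ e * unitToFrac B F w)
            (fun i => unitToFrac B F (uAB A B (u i))) : Fin (n + 1) → Fˣ) := by
        funext k
        refine Fin.cases ?_ (fun i => ?_) k
        · rw [Fin.cons_zero, Fin.cons_zero, hπmap]
        · rw [Fin.cons_succ, Fin.cons_succ, map_unitToFrac A B E F]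
      rw [hcons, MilnorKGen.symbol_cons_mul, map_add]
      have hpow : (symbol (Fin.cons (unitFrac B F πB hπB.ne_zero ^ e)
            (fun i => unitToFrac B F (uAB A B (u i))) : Fin (n + 1) → Fˣ) : K F (n + 1)) =
          e • symbol (Fin.cons (unitFrac B F πB hπB.ne_zero)
            (fun i => unitToFrac B F (uAB A B (u i))) : Fin (n + 1) → Fˣ) := by
        have := MilnorKBasic.zpow_of_mul
          (fun c : Fˣ => (symbol (Fin.cons c (fun i => unitToFrac B F (uAB A B (u i))) :
            Fin (n + 1) → Fˣ) : K F (n + 1)))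
          (fun a b => MilnorKGen.symbol_cons_mul a b _) (unitFrac B F πB hπB.ne_zero) (e : ℤ)
        simpa using this
      rw [hpow, map_nsmul, hdB πB hπB (fun i => uAB A B (u i))]
      have hunit : dB (symbol (Fin.cons (unitToFrac B F w)
          (fun i => unitToFrac B F (uAB A B (u i))) : Fin (n + 1) → Fˣ)) = 0 := by
        have h := MilnorKGen.tame_unitSymbol hπB dB hdB
          (Fin.cons w (fun i => uAB A B (u i)) : Fin (n + 1) → Bˣ)
        have hx : (fun i => unitToFrac B F ((Fin.cons w (fun i => uAB A B (u i)) :
            Fin (n + 1) → Bˣ) i)) =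
            (Fin.cons (unitToFrac B F w) (fun i => unitToFrac B F (uAB A B (u i))) :
              Fin (n + 1) → Fˣ) := by
          funext k
          refine Fin.cases ?_ (fun i => ?_) k
          · rw [Fin.cons_zero, Fin.cons_zero]
          · rw [Fin.cons_succ, Fin.cons_succ]
        rw [hx] at h
        exact h
      rw [hunit, add_zero]
  have hx : x ∈ G := by rw [hG]; trivial
  exact hx

end Ramification

end Groth.Agent.Helper9.MilKTame2
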