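import Mathlib

/-! A point outside the image of a quasi-compact morphism has an open neighbourhood `V` and a
smaller open `W` not containing the point such that the image meets `V` only inside `W`. -/

set_option autoImplicit false
set_option linter.style.haveILetI false
universe u

namespace Groth.Agent.Helper9.QcImage

open CategoryTheory CategoryTheory.Limits AlgebraicGeometry Opposite

theorem exists_elem {R A : Type u} [CommRing R] [CommRing A] (φ : R →+* A) (p : PrimeSpectrum R)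
    (hp : p ∉ Set.range (PrimeSpectrum.comap φ)) :
    ∃ r : R, r ∉ p.asIdeal ∧ ∀ q' : PrimeSpectrum A,
      p.asIdeal ≤ (PrimeSpectrum.comap φ q').asIdeal → r ∈ (PrimeSpectrum.comap φ q').asIdeal := by
  rw [PrimeSpectrum.mem_range_comap_iff] at hp
  have hle : p.asIdeal ≤ (p.asIdeal.map φ).comap φ := Ideal.le_comap_map
  obtain ⟨r, hr1, hr2⟩ := Set.not_subset.1 (fun h => hp (le_antisymm h hle))
  refine ⟨r, hr2, fun q' hq' => ?_⟩
  have h1 : p.asIdeal.map φ ≤ q'.asIdeal := Ideal.map_le_iff_le_comap.2 hq'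
  exact h1 hr1

theorem exists_opens {X Y : Scheme.{u}} (g : X ⟶ Y) [QuasiCompact g] (y : Y)
    (hy : y ∉ Set.range g.base) :
    ∃ V W : Y.Opens, y ∈ V ∧ y ∉ W ∧ ∀ x, g.base x ∈ V → g.base x ∈ W := by
  obtain ⟨_, ⟨U₀, hU₀ : IsAffineOpen U₀, rfl⟩, hyU, -⟩ :=
    Y.isBasis_affineOpens.exists_subset_of_mem_open (Set.mem_univ y) isOpen_univ
  have hc : IsCompact ((g ⁻¹ᵁ U₀ : X.Opens) : Set X) :=
    QuasiCompact.isCompact_preimage _ U₀.isOpen hU₀.isCompact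
  obtain ⟨A, f, hf⟩ := isCompact_iff_exists.1 hc
  have hfa : ∀ a, g.base (f.base a) ∈ U₀ := fun a => by
    have : f.base a ∈ ((g ⁻¹ᵁ U₀ : X.Opens) : Set X) := hf ▸ ⟨a, rfl⟩
    exact this
  have hrange : Set.range (f ≫ g).base ⊆ Set.range hU₀.fromSpec.base := by
    rw [hU₀.range_fromSpec]
    rintro _ ⟨a, rfl⟩
    exact hfa a
  let ψ : Spec A ⟶ Spec Γ(Y, U₀) := IsOpenImmersion.lift hU₀.fromSpec (f ≫ g) hrange
  have hψ : ψ ≫ hU₀.fromSpec = f ≫ g := IsOpenImmersion.lift_fac _ _ _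
  obtain ⟨φ, hφ⟩ : ∃ φ : Γ(Y, U₀) ⟶ A, Spec.map φ = ψ := ⟨Spec.preimage ψ, Spec.map_preimage ψ⟩
  have hψa : ∀ a, hU₀.fromSpec.base (ψ.base a) = g.base (f.base a) := fun a => by
    rw [← Scheme.Hom.comp_apply, hψ, Scheme.Hom.comp_apply]
  have hinj : Function.Injective hU₀.fromSpec.base := hU₀.fromSpec.isOpenEmbedding.injective
  let p : Spec Γ(Y, U₀) := hU₀.primeIdealOf ⟨y, hyU⟩
  have hp : hU₀.fromSpec.base p = y := hU₀.fromSpec_primeIdealOf ⟨y, hyU⟩
  have hpr : p ∉ Set.range (PrimeSpectrum.comap φ.hom) := by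
    rintro ⟨a, ha⟩
    apply hy
    have ha' : ψ.base a = p := by rw [← hφ]; exact ha
    exact ⟨f.base a, (hψa a).symm.trans ((congrArg _ ha').trans hp)⟩
  obtain ⟨r, hr1, hr2⟩ := exists_elem φ.hom p hpr
  let D : Set (Spec Γ(Y, U₀)) := (PrimeSpectrum.basicOpen r : Set (PrimeSpectrum Γ(Y, U₀)))
  have hD : IsOpen D := (PrimeSpectrum.basicOpen r).isOpen
  let D' : Set (Spec Γ(Y, U₀)) := D ∩ (PrimeSpectrum.zeroLocus (p.asIdeal : Set Γ(Y, U₀)))ᶜ
  have hD' : IsOpen D' := hD.inter (PrimeSpectrum.isClosed_zeroLocus _).isOpen_compl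
  refine ⟨⟨hU₀.fromSpec.base '' D, hU₀.fromSpec.isOpenEmbedding.isOpenMap _ hD⟩,
    ⟨hU₀.fromSpec.base '' D', hU₀.fromSpec.isOpenEmbedding.isOpenMap _ hD'⟩, ?_, ?_, ?_⟩
  · exact ⟨p, hr1, hp⟩
  · rintro ⟨q, ⟨-, hq⟩, hqy⟩
    have : q = p := hinj (hqy.trans hp.symm)
    subst this
    exact hq (fun _ h => h)
  · rintro x ⟨q, hqD, hqx⟩
    have hxU : x ∈ ((g ⁻¹ᵁ U₀ : X.Opens) : Set X) := by
      show g.base x ∈ U₀
      rw [← hqx]
      have : hU₀.fromSpec.base q ∈ Set.range hU₀.fromSpec.base := ⟨q, rfl⟩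
      rw [hU₀.range_fromSpec] at this
      exact this
    rw [← hf] at hxU
    obtain ⟨a, rfl⟩ := hxU
    have hqa : ψ.base a = q := hinj ((hψa a).trans hqx.symm)
    refine ⟨q, ⟨hqD, fun hz => ?_⟩, hqx⟩
    have hz' : p.asIdeal ≤ q.asIdeal := hz
    have hqa' : PrimeSpectrum.comap φ.hom a = q := by rw [← hqa, ← hφ]; rfl
    have := hr2 a (hqa'.symm ▸ hz')
    rw [hqa'] at this
    exact hqD this

end Groth.Agent.Helper9.QcImage
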