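import Mathlib
import Groth.Prelude.Def_SGA4b
import Groth.Agent.Helper9.EtPropA

/-! Sub-terminal étale sheaves of sets attached to open subsets; a faithful inverse image functor
along `g'` forces every open subset containing the image of `g'` to be everything. -/

set_option autoImplicit false
set_option linter.style.haveILetI false
universe u

namespace Groth.Agent.Helper9.SubTermEt

open CategoryTheory CategoryTheory.Limits AlgebraicGeometry Opposite
open Groth.Agent.Helper9.EtPropA Groth.Agent.Helper9.EtAlmostCocont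

variable {V : Scheme.{u}} (W : V.Opens)

set_option backward.isDefEq.respectTransparency.types false in
theorem range_subset {U U' : V.Etale} (f : U' ⟶ U) :
    Set.range U'.hom.base ⊆ Set.range U.hom.base := by
  rintro _ ⟨x, rfl⟩
  refine ⟨f.left.base x, ?_⟩
  rw [← Scheme.Hom.comp_apply, MorphismProperty.Over.w f]

/-- the sub-terminal presheaf attached to an open subset -/
def psh : V.Etaleᵒᵖ ⥤ Type (u + 1) where
  obj U := ULift.{u + 1} (PLift (Set.range U.unop.hom.base ⊆ (W : Set V)))
  map {U U'} f := ↾fun h => ⟨⟨(range_subset f.unop).trans h.down.down⟩⟩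

instance (U : V.Etaleᵒᵖ) : Subsingleton ((psh W).obj U) := by
  dsimp [psh]; infer_instance

set_option backward.isDefEq.respectTransparency.types false in
theorem isSheaf : Presieve.IsSheaf V.smallEtaleTopology (psh W) := by
  intro U S hS x _
  have hU : Set.range U.hom.base ⊆ (W : Set V) := by
    rintro _ ⟨u, rfl⟩
    obtain ⟨U', f, u', hf, -, hu'⟩ := (mem_iff U S).1 hS u
    have := (x f hf).down.down
    apply this
    refine ⟨u', ?_⟩
    rw [← hu', ← Scheme.Hom.comp_apply, MorphismProperty.Over.w f]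
  exact ⟨⟨⟨hU⟩⟩, fun _ _ _ => Subsingleton.elim _ _, fun _ _ => Subsingleton.elim _ _⟩

/-- the sub-terminal sheaf attached to an open subset -/
def sheaf : EtDesc.Sh V := ⟨psh W, (isSheaf_iff_isSheaf_of_type _ _).2 (isSheaf W)⟩

/-- inclusion of sub-terminal sheaves -/
def ι {W W' : V.Opens} (h : W ≤ W') : sheaf W ⟶ sheaf W' :=
  ⟨{ app := fun U => ↾fun s => ⟨⟨s.down.down.trans h⟩⟩
     naturality := fun _ U' _ => by
       ext
       exact Subsingleton.elim (α := (psh W').obj U') _ _ }⟩


set_option backward.isDefEq.respectTransparency.types false in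
theorem eq_top_of_epi (h : Epi (ι (le_top : W ≤ ⊤))) : W = ⊤ := by
  have hls : Sheaf.IsLocallySurjective (ι (le_top : W ≤ ⊤)) :=
    (Sheaf.isLocallySurjective_iff_epi _).2 h
  rw [eq_top_iff]
  rintro v -
  let s₀ : (sheaf (⊤ : V.Opens)).obj.obj (op (EtCoh.top V)) := ⟨⟨fun _ _ => trivial⟩⟩
  have hmem := Presheaf.imageSieve_mem V.smallEtaleTopology (ι (le_top : W ≤ ⊤)).hom s₀
  obtain ⟨U, f, u, ⟨t, -⟩, -, hu⟩ := (mem_iff (EtCoh.top V) _).1 hmem v
  have ht : Set.range U.hom.base ⊆ (W : Set V) := t.down.down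
  apply ht
  refine ⟨u, ?_⟩
  have e1 : f.left = U.hom :=
    (Category.comp_id f.left).symm.trans (MorphismProperty.Over.w f)
  rw [← e1]
  exact hu

section Pull

variable {X' : Scheme.{u}} (g' : X' ⟶ V)

/-- the open subscheme `W` as an object of the small étale site -/
noncomputable abbrev Wobj : V.Etale := Scheme.Etale.mk W.ι

/-- the map `W → V` in the small étale site -/
noncomputable def tW : Wobj W ⟶ EtCoh.top V :=
  (EtCore.topIsTerminal V).from _

set_option backward.isDefEq.respectTransparency.types false in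
theorem isIso_bc_tW (hW : ∀ x, g'.base x ∈ W) : IsIso ((EtCoh.bc g').map (tW W)) := by
  have hsq := EtCoh.isPullback_bc_map g' (tW W)
  have hleft : (tW W).left = W.ι := by
    exact (Category.comp_id (tW W).left).symm.trans (MorphismProperty.Over.w (tW W))
  have h1 : IsOpenImmersion (tW W).left := hleft ▸ (inferInstance : IsOpenImmersion W.ι)
  have h2 : IsOpenImmersion ((EtCoh.bc g').map (tW W)).left :=
    MorphismProperty.of_isPullback hsq.flip h1
  have h3 : Surjective ((EtCoh.bc g').map (tW W)).left := by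
    constructor
    intro z
    let z1 : V := (pullback.fst (EtCoh.top V).hom g' :
      ((EtCoh.bc g').obj (EtCoh.top V)).left ⟶ V) z
    have hz1 : z1 ∈ W := by
      have e3 : pullback.fst (EtCoh.top V).hom g' =
          pullback.snd (EtCoh.top V).hom g' ≫ g' :=
        (Category.comp_id _).symm.trans pullback.condition
      have e4 : z1 = g'.base ((pullback.snd (EtCoh.top V).hom g').base z) :=
        congrArg (fun φ : ((EtCoh.bc g').obj (EtCoh.top V)).left ⟶ V => φ.base z) e3
      rw [e4]
      exact hW _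
    obtain ⟨z', hz'1, -⟩ := Scheme.Pullback.exists_preimage_pullback
      (f := (pullback.fst (EtCoh.top V).hom g' :
        ((EtCoh.bc g').obj (EtCoh.top V)).left ⟶ V)) (g := (tW W).left) z ⟨z1, hz1⟩
      (by rw [hleft]; rfl)
    refine ⟨hsq.isoPullback.inv.base z', ?_⟩
    have e5 : hsq.isoPullback.inv ≫ ((EtCoh.bc g').map (tW W)).left = pullback.fst _ _ :=
      IsPullback.isoPullback_inv_fst hsq
    have e6 := congrArg (fun φ : pullback (pullback.fst (EtCoh.top V).hom g') (tW W).left ⟶
      ((EtCoh.bc g').obj (EtCoh.top V)).left => φ.base z') e5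
    exact e6.trans hz'1
  have h4 : IsIso ((EtCoh.bc g').map (tW W)).left :=
    (isIso_iff_isOpenImmersion_and_surjective _).2 ⟨h2, h3⟩
  have h5 : IsIso ((Scheme.Etale.forget X' ⋙ Over.forget X').map ((EtCoh.bc g').map (tW W))) := h4
  exact isIso_of_reflects_iso _ (Scheme.Etale.forget X' ⋙ Over.forget X')

set_option backward.isDefEq.respectTransparency.types false in
theorem epi_pull_ι (hW : ∀ x, g'.base x ∈ W) :
    Epi ((EtDesc.pullSh g').map (ι (le_top : W ≤ ⊤))) := by
  constructor
  intro T a b hab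
  let adj := EtDesc.adjSh g'
  apply (adj.homEquiv _ _).injective
  have h1 : ι (le_top : W ≤ ⊤) ≫ adj.homEquiv _ _ a = ι (le_top : W ≤ ⊤) ≫ adj.homEquiv _ _ b := by
    rw [← adj.homEquiv_naturality_left, ← adj.homEquiv_naturality_left, hab]
  generalize adj.homEquiv _ _ a = a' at h1 ⊢
  generalize adj.homEquiv _ _ b = b' at h1 ⊢
  have hiso := isIso_bc_tW W g' hW
  let s₀ : (sheaf (⊤ : V.Opens)).obj.obj (op (EtCoh.top V)) := ⟨⟨fun _ _ => trivial⟩⟩
  let w₀ : (sheaf W).obj.obj (op (Wobj W)) := ⟨⟨by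
    rintro _ ⟨x, rfl⟩
    exact x.2⟩⟩
  have h2 : a'.hom.app (op (Wobj W)) ((ι (le_top : W ≤ ⊤)).hom.app _ w₀) =
      b'.hom.app (op (Wobj W)) ((ι (le_top : W ≤ ⊤)).hom.app _ w₀) :=
    congrArg (fun φ : sheaf W ⟶ (EtDesc.pushSh g').obj T => φ.hom.app (op (Wobj W)) w₀) h1
  have h3 : (ι (le_top : W ≤ ⊤)).hom.app _ w₀ = (sheaf (⊤ : V.Opens)).obj.map (tW W).op s₀ :=
    Subsingleton.elim (α := (psh (⊤ : V.Opens)).obj (op (Wobj W))) _ _
  have na := NatTrans.naturality_apply a'.hom (tW W).op s₀
  have nb := NatTrans.naturality_apply b'.hom (tW W).op s₀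
  have h4 : a'.hom.app (op (EtCoh.top V)) s₀ = b'.hom.app (op (EtCoh.top V)) s₀ := by
    have hinj : Function.Injective (T.obj.map ((EtCoh.bc g').map (tW W)).op) :=
      ((isIso_iff_bijective _).1 inferInstance).1
    apply hinj
    rw [h3] at h2
    exact na.symm.trans (h2.trans nb)
  apply Sheaf.hom_ext
  ext U s
  obtain ⟨U⟩ := U
  let tU : U ⟶ EtCoh.top V := (EtCore.topIsTerminal V).from U
  have hs : s = (sheaf (⊤ : V.Opens)).obj.map tU.op s₀ :=
    Subsingleton.elim (α := (psh (⊤ : V.Opens)).obj (op U)) _ _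
  rw [hs]
  exact (NatTrans.naturality_apply a'.hom tU.op s₀).trans
    ((congrArg _ h4).trans (NatTrans.naturality_apply b'.hom tU.op s₀).symm)

theorem eq_top_of_faithful (hf : (EtDesc.pullSh g').Faithful) (hW : ∀ x, g'.base x ∈ W) :
    W = ⊤ := by
  have h1 := epi_pull_ι W g' hW
  exact eq_top_of_epi W ((EtDesc.pullSh g').epi_of_epi_map h1)

end Pull

end Groth.Agent.Helper9.SubTermEt
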