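import Mathlib
import Groth.Prelude.Def_EtAcyc
import Groth.Agent.Helper9.SubTermEt
import Groth.Agent.Helper9.QcImage
import Groth.Agent.Helper9.EtPullSurjSets

/-! `(-1)`-acyclic morphisms are the surjective ones. -/

set_option autoImplicit false
set_option linter.style.haveILetI false
universe u

namespace Groth.Agent.Helper9.MinusOneAcyc

open CategoryTheory CategoryTheory.Limits AlgebraicGeometry Opposite

variable {X Y : Scheme.{u}} (g : X ⟶ Y)

theorem part1 (hs : Function.Surjective g.base) : EtAcyc.IsMinusOneAcyclic g := by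
  intro V F
  have : Surjective g := ⟨hs⟩
  have : Surjective (EtAcyc.prj g V) := inferInstance
  have := Groth.Agent.Helper9.EtPullSurjSets.faithful (EtAcyc.prj g V)
  infer_instance

set_option backward.isDefEq.respectTransparency.types false in
theorem part2 [QuasiCompact g] (h : EtAcyc.IsMinusOneAcyclic g) : Function.Surjective g.base := by
  by_contra hns
  obtain ⟨y, hy⟩ : ∃ y, y ∉ Set.range g.base := by
    by_contra hcon
    push Not at hcon
    exact hns hcon
  obtain ⟨V, W, hyV, hyW, hVW⟩ := Groth.Agent.Helper9.QcImage.exists_opens g y hy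
  let Vobj : Y.Etale := Scheme.Etale.mk V.ι
  have hf : (EtDesc.pullSh (EtAcyc.prj g Vobj)).Faithful := by
    have : ∀ F, Mono ((EtDesc.adjSh (EtAcyc.prj g Vobj)).unit.app F) := h Vobj
    exact (EtDesc.adjSh _).faithful_L_of_mono_unit_app
  have hall : ∀ x, (EtAcyc.prj g Vobj).base x ∈ V.ι ⁻¹ᵁ W := by
    intro x
    show V.ι.base ((pullback.fst V.ι g).base x) ∈ W
    have e1 : V.ι.base ((pullback.fst V.ι g).base x) = g.base ((pullback.snd V.ι g).base x) := by
      rw [← Scheme.Hom.comp_apply, pullback.condition, Scheme.Hom.comp_apply]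
    rw [e1]
    apply hVW
    rw [← e1]
    exact ((pullback.fst V.ι g).base x).2
  have htop := Groth.Agent.Helper9.SubTermEt.eq_top_of_faithful (V.ι ⁻¹ᵁ W) (EtAcyc.prj g Vobj) hf hall
  have hmem : (⟨y, hyV⟩ : V) ∈ V.ι ⁻¹ᵁ W := htop ▸ trivial
  exact hyW hmem

theorem main :
    (Function.Surjective g.base → EtAcyc.IsMinusOneAcyclic g) ∧
      (∀ [QuasiCompact g] [QuasiSeparated g], EtAcyc.IsMinusOneAcyclic g →
        Function.Surjective g.base) :=
  ⟨part1 g, fun h => part2 g h⟩

end Groth.Agent.Helper9.MinusOneAcyc
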