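import Mathlib
import Groth.Prelude.Def_ModSite2
import Groth.Agent.Helper9.ShriekCounitMono
import Groth.Agent.Helper9.EtCounitMono
import Groth.Agent.Helper9.RestrExt
import Groth.Agent.Helper9.RestrExact
import Groth.Agent.Helper9.ModCechExt
import Groth.Agent.Helper1.FunLES
import Groth.Agent.Helper1.DeltaComp

/-! Local cohomology sheaves of modules on a ringed site for a subterminal object `U`:
`ℋ¹_Z ≅ coker(𝟭 ⟶ j_* j^*)` and `ℋ^{q+1}_Z ≅ j^* ⋙ R^q j_*`. -/

set_option autoImplicit false
universe u

open CategoryTheory CategoryTheory.Limits Opposite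

namespace Groth.Agent.Helper9.ModLocCohSeq

open Groth.Agent.Helper9.ShriekSh Groth.Agent.Helper9.ShriekCounitMono
  Groth.Agent.Helper9.EtCounitMono

variable {C : Type u} [SmallCategory C] {J : GrothendieckTopology C} (O : Sheaf J CommRingCat.{u})
  (U : C) [ModSite.HasPushOver O U]

/-- the unit `I ⟶ j_* j^* I` is an epimorphism for `I` injective -/
theorem epi_unit (hU : ∀ V : C, Subsingleton (V ⟶ U)) (I : ModSite.Mod O) [Injective I] :
    Epi ((ModSite.restrPushOverAdj O U).unit.app I) := by
  obtain ⟨s, hs⟩ := exists_section_unit (extAdj O U) (ModSite.restrPushOverAdj O U) I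
    (mono_extAdj_counit O U hU _)
  exact epi_of_epi_fac hs

/-- the unit as a natural transformation -/
noncomputable abbrev β : 𝟭 (ModSite.Mod O) ⟶ ModSite.restr O U ⋙ ModSite.pushOver O U :=
  (ModSite.restrPushOverAdj O U).unit

lemma w : ModSite.sectOnι O U ≫ β O U = 0 := by
  ext F : 2
  exact kernel.condition ((ModSite.restrPushOverAdj O U).unit.app F)

instance : PreservesFiniteLimits (ModSite.pushOver O U) := by
  haveI : PreservesLimitsOfSize.{u, u} (ModSite.pushOver O U) :=
    (ModSite.restrPushOverAdj O U).rightAdjoint_preservesLimits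
  exact PreservesLimitsOfSize.preservesFiniteLimits.{u, u} _

variable [(ModSite.pushOver O U).Additive]

lemma shortExact_inj (hU : ∀ V : C, Subsingleton (V ⟶ U)) (I : ModSite.Mod O) [Injective I] :
    (Groth.Agent.Helper1.FunLES.sc (ModSite.sectOnι O U) (β O U) (w O U) I).ShortExact :=
  { exact := ShortComplex.exact_of_f_is_kernel _
      (kernelIsKernel ((ModSite.restrPushOverAdj O U).unit.app I))
    mono_f := by
      change Mono (kernel.ι ((ModSite.restrPushOverAdj O U).unit.app I))
      infer_instance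
    epi_g := epi_unit O U hU I }

theorem main (hU : ∀ V : C, Subsingleton (V ⟶ U))
    [HasInjectiveResolutions (ModSite.Mod O)] [HasInjectiveResolutions (ModSite.Mod (O.over U))] :
    Nonempty (ModSite.HZsh O U 1 ≅ cokernel (ModSite.restrPushOverAdj O U).unit) ∧
      ∀ q : ℕ, 1 ≤ q →
        Nonempty (ModSite.HZsh O U (q + 1) ≅
          ModSite.restr O U ⋙ (ModSite.pushOver O U).rightDerived q) := by
  haveI : EnoughInjectives (ModSite.Mod O) :=
    Groth.Agent.Helper9.ModCechExt.enoughInjectives_mod (ModSite.ringSh O)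
  have h : ∀ (I : ModSite.Mod O) [Injective I],
      (Groth.Agent.Helper1.FunLES.sc (ModSite.sectOnι O U) (β O U) (w O U) I).ShortExact :=
    fun I _ => shortExact_inj O U hU I
  have hG : ∀ (n : ℕ) (F : ModSite.Mod O),
      IsZero (((𝟭 (ModSite.Mod O)).rightDerived (n + 1)).obj F) :=
    fun n F => Groth.Agent.Helper1.FunLES.isZero_rightDerived_of_exact n F
  refine ⟨Groth.Agent.Helper1.FunLES.nonempty_iso_cokernel (ModSite.sectOnι O U) (β O U) (w O U) h
    (hG 0), ?_⟩
  intro p hp
  obtain ⟨k, rfl⟩ : ∃ k, p = k + 1 := ⟨p - 1, by omega⟩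
  have e1 := Groth.Agent.Helper1.FunLES.isoOfIsZero (ModSite.sectOnι O U) (β O U) (w O U) h
    (k + 1) (hG k) (hG (k + 1))
  have hR : ∀ S : ShortComplex (ModSite.Mod O), S.ShortExact →
      (S.map (ModSite.restr O U)).ShortExact := fun S hS =>
    Groth.Agent.Helper1.DeltaFun.shortExact_map_of_exact _ S hS
  obtain ⟨e2⟩ := Groth.Agent.Helper1.DeltaFun.nonempty_iso_rightDerived_comp
    (ModSite.restr O U) hR (ModSite.pushOver O U) (ModSite.restr O U ⋙ ModSite.pushOver O U)
    (Iso.refl _) (by
      intro I _ n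
      haveI := Groth.Agent.Helper9.RestrExact.injective_restr O U I
      exact Functor.isZero_rightDerived_obj_injective_succ _ n _) (k + 1)
  exact ⟨e1.symm ≪≫ e2⟩

end Groth.Agent.Helper9.ModLocCohSeq
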