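import Mathlib
import Groth.Prelude.Def_W4c5suslinpi1abAdj

/-! Helper lemmas for monoidal adjunction chases (S18591–S18594). -/

set_option autoImplicit false
universe v u

open CategoryTheory MonoidalCategory Functor.LaxMonoidal Functor.OplaxMonoidal

namespace Groth.Agent.Helper9.MonAdj

open W4c5suslinpi1ab

variable {C : Type u} [Category.{v} C] [MonoidalCategory C]
variable {D : Type u} [Category.{v} D] [MonoidalCategory D]

/-- adjoint of the right projection morphism -/
lemma map_projR_counit {L : C ⥤ D} {R : D ⥤ C} (adj : L ⊣ R) [L.OplaxMonoidal] [R.LaxMonoidal]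
    [adj.IsMonoidal] (A : D) (B : C) :
    L.map (projR adj A B) ≫ adj.counit.app (A ⊗ L.obj B) =
      δ L (R.obj A) B ≫ (adj.counit.app A ▷ L.obj B) := by
  unfold projR
  have h1 := δ_natural_right_assoc L (R.obj A) (adj.unit.app B)
    (adj.counit.app A ⊗ₘ adj.counit.app (L.obj B))
  dsimp only [Functor.comp_obj, Functor.id_obj] at h1
  rw [L.map_comp, Category.assoc, adj.map_μ_comp_counit_app_tensor, ← h1,
    MonoidalCategory.tensorHom_def', ← whiskerLeft_comp_assoc, adj.left_triangle_components]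
  simp

/-- adjoint of the left projection morphism -/
lemma map_projL_counit {L : C ⥤ D} {R : D ⥤ C} (adj : L ⊣ R) [L.OplaxMonoidal] [R.LaxMonoidal]
    [adj.IsMonoidal] (A : C) (B : D) :
    L.map (projL adj A B) ≫ adj.counit.app (L.obj A ⊗ B) =
      δ L A (R.obj B) ≫ (L.obj A ◁ adj.counit.app B) := by
  unfold projL
  have h1 := δ_natural_left_assoc L (adj.unit.app A) (R.obj B)
    (adj.counit.app (L.obj A) ⊗ₘ adj.counit.app B)
  dsimp only [Functor.comp_obj, Functor.id_obj] at h1
  rw [L.map_comp, Category.assoc, adj.map_μ_comp_counit_app_tensor, ← h1,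
    MonoidalCategory.tensorHom_def, ← comp_whiskerRight_assoc, adj.left_triangle_components]
  simp


/-- naturality of the right projection morphism -/
lemma projR_natural {L : C ⥤ D} {R : D ⥤ C} (adj : L ⊣ R) [R.LaxMonoidal]
    {A A' : D} {B B' : C} (a : A ⟶ A') (b : B ⟶ B') :
    (R.map a ⊗ₘ b) ≫ projR adj A' B' = projR adj A B ≫ R.map (a ⊗ₘ L.map b) := by
  unfold projR
  have h1 := adj.unit.naturality b
  dsimp only [Functor.comp_obj, Functor.id_obj, Functor.comp_map, Functor.id_map] at h1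
  rw [Category.assoc, ← μ_natural, ← Category.assoc, ← Category.assoc]
  congr 1
  rw [← MonoidalCategory.id_tensorHom, ← MonoidalCategory.id_tensorHom,
    MonoidalCategory.tensorHom_comp_tensorHom, MonoidalCategory.tensorHom_comp_tensorHom, h1]
  simp

/-- naturality of the left projection morphism -/
lemma projL_natural {L : C ⥤ D} {R : D ⥤ C} (adj : L ⊣ R) [R.LaxMonoidal]
    {A A' : C} {B B' : D} (a : A ⟶ A') (b : B ⟶ B') :
    (a ⊗ₘ R.map b) ≫ projL adj A' B' = projL adj A B ≫ R.map (L.map a ⊗ₘ b) := by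
  unfold projL
  have h1 := adj.unit.naturality a
  dsimp only [Functor.comp_obj, Functor.id_obj, Functor.comp_map, Functor.id_map] at h1
  rw [Category.assoc, ← μ_natural, ← Category.assoc, ← Category.assoc]
  congr 1
  rw [← MonoidalCategory.tensorHom_id, ← MonoidalCategory.tensorHom_id,
    MonoidalCategory.tensorHom_comp_tensorHom, MonoidalCategory.tensorHom_comp_tensorHom, h1]
  simp

section Square

variable {S₀ : Type u} [Category.{v} S₀] [MonoidalCategory S₀]
variable {Y₁ : Type u} [Category.{v} Y₁] [MonoidalCategory Y₁]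
variable {Y₂ : Type u} [Category.{v} Y₂] [MonoidalCategory Y₂]
variable {X : Type u} [Category.{v} X] [MonoidalCategory X]
variable {fL : S₀ ⥤ Y₁} {fR : Y₁ ⥤ S₀} (adjf : fL ⊣ fR) [fL.OplaxMonoidal] [fR.LaxMonoidal]
  [adjf.IsMonoidal] {gR : Y₂ ⥤ S₀}
  {pL : Y₁ ⥤ X} {pR : X ⥤ Y₁} (adjp : pL ⊣ pR) [pL.OplaxMonoidal] [pR.LaxMonoidal]
  [adjp.IsMonoidal] {qL : Y₂ ⥤ X} {qR : X ⥤ Y₂} (adjq : qL ⊣ qR)
  (ν : qR ⋙ gR ⟶ pR ⋙ fR)

omit [MonoidalCategory Y₂] [pL.OplaxMonoidal] [adjp.IsMonoidal] in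
/-- first-stage adjoint of the exterior product -/
lemma map_extProd_counit (A : Y₁) (B : Y₂) :
    fL.map (extProd adjf adjp adjq ν A B) ≫ adjf.counit.app _ =
      δ fL (fR.obj A) (gR.obj B) ≫ (adjf.counit.app A ▷ fL.obj (gR.obj B)) ≫
        (A ◁ (bcMor adjf adjq ν).app B) ≫ projL adjp A (qL.obj B) := by
  unfold extProd
  rw [fL.map_comp, fL.map_comp, Category.assoc, Category.assoc]
  have h1 := adjf.counit.naturality (projL adjp A (qL.obj B))
  have h2 := adjf.counit.naturality (A ◁ (bcMor adjf adjq ν).app B)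
  dsimp only [Functor.comp_obj, Functor.id_obj, Functor.comp_map, Functor.id_map] at h1 h2
  rw [h1, reassoc_of% h2, ← Category.assoc, ← Category.assoc, map_projR_counit]
  simp only [Category.assoc]

/-- adjoint of the exterior product under the composite adjunction (S18591) -/
theorem adjoint_extProd (A : Y₁) (B : Y₂) :
    ((adjf.comp adjp).homEquiv _ _).symm (extProd adjf adjp adjq ν A B) =
      δ (fL ⋙ pL) (fR.obj A) (gR.obj B) ≫
        (pL.map (adjf.counit.app A) ⊗ₘ
          (pL.map ((bcMor adjf adjq ν).app B) ≫ adjp.counit.app (qL.obj B))) := by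
  rw [Adjunction.homEquiv_counit, Adjunction.comp_counit_app, Functor.comp_map,
    ← Category.assoc, ← pL.map_comp, map_extProd_counit]
  simp only [pL.map_comp, Category.assoc, map_projL_counit]
  have h1 := δ_natural_right pL A ((bcMor adjf adjq ν).app B)
  have h2 := δ_natural_left pL (adjf.counit.app A) (fL.obj (gR.obj B))
  dsimp only [Functor.comp_obj, Functor.id_obj] at h1 h2
  rw [← reassoc_of% h1, ← reassoc_of% h2, Functor.OplaxMonoidal.comp_δ,
    MonoidalCategory.tensorHom_def, Category.assoc, MonoidalCategory.whiskerLeft_comp]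
  rfl

variable {fS : S₀ ⥤ Y₁} (adjf' : fR ⊣ fS) {gS : S₀ ⥤ Y₂} (adjg' : gR ⊣ gS)
  {pS : Y₁ ⥤ X} (adjp' : pR ⊣ pS)
  [∀ (A : Y₁) (B : S₀), IsIso (projR adjf A B)]
  [∀ (A : Y₁) (B : X), IsIso (projL adjp A B)]
  [∀ B : Y₂, IsIso ((bcMor adjf adjq ν).app B)]

omit [fL.OplaxMonoidal] [adjf.IsMonoidal] in
/-- adjoint of the shriek cup product -/
lemma map_cupShriek_counit (A B : S₀) :
    fR.map (cupShriek adjf adjf' A B) ≫ adjf'.counit.app (A ⊗ B) =
      inv (projR adjf (fS.obj A) B) ≫ (adjf'.counit.app A ▷ B) := by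
  unfold cupShriek
  have h := (adjf'.homEquiv _ _).symm_apply_apply
    (inv (projR adjf (fS.obj A) B) ≫ (adjf'.counit.app A ▷ B))
  rw [Adjunction.homEquiv_counit] at h
  exact h

omit [MonoidalCategory Y₂] [fL.OplaxMonoidal] [adjf.IsMonoidal] [pL.OplaxMonoidal] [adjp.IsMonoidal] in
/-- the adjoint of `prodShriek` under `pR ⋙ fR ⊣ fS ⋙ pS` -/
lemma adjoint_prodShriek (A B : S₀) :
    ((adjp'.comp adjf').homEquiv _ _).symm (prodShriek adjf adjf' adjg' adjp adjp' adjq ν A B) =
      fR.map (inv (projL adjp (fS.obj A) (qL.obj (gS.obj B)))) ≫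
        fR.map (fS.obj A ◁ inv ((bcMor adjf adjq ν).app (gS.obj B))) ≫
        inv (projR adjf (fS.obj A) (gR.obj (gS.obj B))) ≫
        (adjf'.counit.app A ▷ gR.obj (gS.obj B)) ≫ (A ◁ adjg'.counit.app B) := by
  rw [Adjunction.homEquiv_counit, Adjunction.comp_counit_app, Functor.comp_map,
    ← Category.assoc, ← fR.map_comp]
  have h1 : pR.map (prodShriek adjf adjf' adjg' adjp adjp' adjq ν A B) ≫
      adjp'.counit.app (fS.obj (A ⊗ B)) =
      inv (projL adjp (fS.obj A) (qL.obj (gS.obj B))) ≫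
      (fS.obj A ◁ inv ((bcMor adjf adjq ν).app (gS.obj B))) ≫
      cupShriek adjf adjf' A (gR.obj (gS.obj B)) ≫ fS.map (A ◁ adjg'.counit.app B) := by
    unfold prodShriek
    have h := (adjp'.homEquiv _ _).symm_apply_apply
      (inv (projL adjp (fS.obj A) (qL.obj (gS.obj B))) ≫
      (fS.obj A ◁ inv ((bcMor adjf adjq ν).app (gS.obj B))) ≫
      cupShriek adjf adjf' A (gR.obj (gS.obj B)) ≫ fS.map (A ◁ adjg'.counit.app B))
    rw [Adjunction.homEquiv_counit] at h
    exact h
  rw [h1]
  simp only [fR.map_comp, Category.assoc]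
  have h2 := adjf'.counit.naturality (A ◁ adjg'.counit.app B)
  dsimp only [Functor.comp_obj, Functor.id_obj, Functor.comp_map, Functor.id_map] at h2
  rw [h2, ← Category.assoc (fR.map (cupShriek adjf adjf' A (gR.obj (gS.obj B)))),
    map_cupShriek_counit]
  simp only [Category.assoc]

omit [MonoidalCategory Y₂] [fL.OplaxMonoidal] [adjf.IsMonoidal] [pL.OplaxMonoidal] [adjp.IsMonoidal] in
/-- S18592 -/
theorem extProd_comp_adjoint_prodShriek (A B : S₀) :
    extProd adjf adjp adjq ν (fS.obj A) (gS.obj B) ≫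
      ((adjp'.comp adjf').homEquiv _ _).symm
        (prodShriek adjf adjf' adjg' adjp adjp' adjq ν A B) =
      (adjf'.counit.app A ⊗ₘ adjg'.counit.app B) := by
  rw [adjoint_prodShriek]
  unfold extProd
  simp only [Category.assoc]
  rw [← fR.map_comp_assoc (projL adjp (fS.obj A) (qL.obj (gS.obj B))), IsIso.hom_inv_id,
    fR.map_id, Category.id_comp, ← fR.map_comp_assoc, ← MonoidalCategory.whiskerLeft_comp,
    IsIso.hom_inv_id, MonoidalCategory.whiskerLeft_id, fR.map_id, Category.id_comp,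
    IsIso.hom_inv_id_assoc, MonoidalCategory.tensorHom_def]
  rfl

omit [MonoidalCategory Y₂] [fL.OplaxMonoidal] [adjf.IsMonoidal] [pL.OplaxMonoidal] [adjp.IsMonoidal] in
/-- naturality of the exterior product -/
lemma extProd_natural {A₁ A₂ : Y₁} {B₁ B₂ : Y₂} (a : A₁ ⟶ A₂) (b : B₁ ⟶ B₂) :
    (fR.map a ⊗ₘ gR.map b) ≫ extProd adjf adjp adjq ν A₂ B₂ =
      extProd adjf adjp adjq ν A₁ B₁ ≫ fR.map (pR.map (pL.map a ⊗ₘ qL.map b)) := by
  unfold extProd
  rw [← Category.assoc, projR_natural, Category.assoc, Category.assoc, Category.assoc]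
  congr 1
  rw [← fR.map_comp, ← fR.map_comp, ← fR.map_comp, ← fR.map_comp]
  congr 1
  have h1 := (bcMor adjf adjq ν).naturality b
  dsimp only [Functor.comp_obj, Functor.id_obj, Functor.comp_map, Functor.id_map] at h1
  have h2 := projL_natural adjp a (qL.map b)
  rw [← h2, ← Category.assoc, ← Category.assoc (A₁ ◁ _)]
  congr 1
  rw [← MonoidalCategory.id_tensorHom, ← MonoidalCategory.id_tensorHom,
    MonoidalCategory.tensorHom_comp_tensorHom, MonoidalCategory.tensorHom_comp_tensorHom, h1]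
  simp

omit [fL.OplaxMonoidal] [adjf.IsMonoidal] in
/-- naturality of the shriek cup product in the second variable -/
lemma cupShriek_natural_right (A : S₀) {B B' : S₀} (φ : B ⟶ B') :
    cupShriek adjf adjf' A B ≫ fS.map (A ◁ φ) =
      (fS.obj A ◁ fL.map φ) ≫ cupShriek adjf adjf' A B' := by
  unfold cupShriek
  rw [← Adjunction.homEquiv_naturality_right, ← Adjunction.homEquiv_naturality_left]
  congr 1
  have h := projR_natural adjf (𝟙 (fS.obj A)) φ
  rw [fR.map_id, MonoidalCategory.id_tensorHom, MonoidalCategory.id_tensorHom] at h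
  have h' : fR.map (fS.obj A ◁ fL.map φ) ≫ inv (projR adjf (fS.obj A) B') =
      inv (projR adjf (fS.obj A) B) ≫ (fR.obj (fS.obj A) ◁ φ) := by
    rw [IsIso.comp_inv_eq, Category.assoc, h, IsIso.inv_hom_id_assoc]
  rw [reassoc_of% h', Category.assoc, whisker_exchange]
  rfl

omit [MonoidalCategory Y₂] [fL.OplaxMonoidal] [adjf.IsMonoidal] [pL.OplaxMonoidal] [adjp.IsMonoidal] in
/-- S18593 -/
theorem extProd_prodShriek_counit (A B : S₀) :
    extProd adjf adjp adjq ν (fS.obj A) (gS.obj B) ≫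
      fR.map (pR.map (prodShriek adjf adjf' adjg' adjp adjp' adjq ν A B)) ≫
        fR.map (adjp'.counit.app (fS.obj (A ⊗ B))) =
      (fR.obj (fS.obj A) ◁ adjg'.counit.app B) ≫ projR adjf (fS.obj A) B ≫
        fR.map (cupShriek adjf adjf' A B) := by
  have h1 : pR.map (prodShriek adjf adjf' adjg' adjp adjp' adjq ν A B) ≫
      adjp'.counit.app (fS.obj (A ⊗ B)) =
      inv (projL adjp (fS.obj A) (qL.obj (gS.obj B))) ≫
      (fS.obj A ◁ inv ((bcMor adjf adjq ν).app (gS.obj B))) ≫
      cupShriek adjf adjf' A (gR.obj (gS.obj B)) ≫ fS.map (A ◁ adjg'.counit.app B) := by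
    unfold prodShriek
    have h := (adjp'.homEquiv _ _).symm_apply_apply
      (inv (projL adjp (fS.obj A) (qL.obj (gS.obj B))) ≫
      (fS.obj A ◁ inv ((bcMor adjf adjq ν).app (gS.obj B))) ≫
      cupShriek adjf adjf' A (gR.obj (gS.obj B)) ≫ fS.map (A ◁ adjg'.counit.app B))
    rw [Adjunction.homEquiv_counit] at h
    exact h
  rw [← fR.map_comp, h1]
  unfold extProd
  simp only [fR.map_comp, Category.assoc]
  rw [← fR.map_comp_assoc (projL adjp (fS.obj A) (qL.obj (gS.obj B))), IsIso.hom_inv_id,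
    fR.map_id, Category.id_comp, ← fR.map_comp_assoc, ← MonoidalCategory.whiskerLeft_comp,
    IsIso.hom_inv_id, MonoidalCategory.whiskerLeft_id, fR.map_id, Category.id_comp]
  have h2 := projR_natural adjf (𝟙 (fS.obj A)) (adjg'.counit.app B)
  rw [fR.map_id, MonoidalCategory.id_tensorHom, MonoidalCategory.id_tensorHom] at h2
  dsimp only [Functor.comp_obj, Functor.id_obj] at h2
  rw [reassoc_of% h2, ← fR.map_comp, ← fR.map_comp, cupShriek_natural_right]
  rfl


omit [MonoidalCategory Y₂] [fL.OplaxMonoidal] [adjf.IsMonoidal] [pL.OplaxMonoidal] [adjp.IsMonoidal] in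
/-- the exterior product is an isomorphism under the standing hypotheses -/
lemma isIso_extProd (A : Y₁) (B : Y₂) : IsIso (extProd adjf adjp adjq ν A B) := by
  unfold extProd
  infer_instance

omit [MonoidalCategory Y₂] [fL.OplaxMonoidal] [adjf.IsMonoidal] [pL.OplaxMonoidal] [adjp.IsMonoidal] in
/-- S18594 -/
theorem prodShriek_compatible_iff (A B : S₀) (A' : Y₁) (B' : Y₂) (C' : X)
    (trA : A' ⟶ fS.obj A) (trB : B' ⟶ gS.obj B) (trC : C' ⟶ pS.obj (fS.obj (A ⊗ B)))
    (m : pL.obj A' ⊗ qL.obj B' ⟶ C') :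
    ((pL.map trA ⊗ₘ qL.map trB) ≫ prodShriek adjf adjf' adjg' adjp adjp' adjq ν A B =
        m ≫ trC) ↔
      (((adjf'.homEquiv _ _).symm trA ⊗ₘ (adjg'.homEquiv _ _).symm trB) =
        extProd adjf adjp adjq ν A' B' ≫ fR.map (pR.map m) ≫
          ((adjp'.comp adjf').homEquiv _ _).symm trC) := by
  have key : ((adjf'.homEquiv _ _).symm trA ⊗ₘ (adjg'.homEquiv _ _).symm trB) =
      extProd adjf adjp adjq ν A' B' ≫
        ((adjp'.comp adjf').homEquiv _ _).symm
          ((pL.map trA ⊗ₘ qL.map trB) ≫ prodShriek adjf adjf' adjg' adjp adjp' adjq ν A B) := by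
    rw [Adjunction.homEquiv_naturality_left_symm, Functor.comp_map, ← Category.assoc,
      ← extProd_natural, Category.assoc, extProd_comp_adjoint_prodShriek,
      MonoidalCategory.tensorHom_comp_tensorHom, Adjunction.homEquiv_counit,
      Adjunction.homEquiv_counit]
  have key2 : fR.map (pR.map m) ≫ ((adjp'.comp adjf').homEquiv _ _).symm trC =
      ((adjp'.comp adjf').homEquiv _ _).symm (m ≫ trC) := by
    rw [Adjunction.homEquiv_naturality_left_symm, Functor.comp_map]
  haveI := isIso_extProd adjf adjp adjq ν A' B'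
  rw [key, key2]
  constructor
  · intro h
    rw [h]
  · intro h
    exact ((adjp'.comp adjf').homEquiv _ _).symm.injective
      ((cancel_epi (extProd adjf adjp adjq ν A' B')).1 h)


end Square

end Groth.Agent.Helper9.MonAdj
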