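import Mathlib

set_option autoImplicit false

namespace Groth.Agent.Helper9.MonUnits

open CategoryTheory CategoryTheory.Limits MonoidalCategory CartesianMonoidalCategory MonObj
  AlgebraicGeometry

universe u

variable {S : Scheme.{u}} (M : Over S) [MonObj M]

/-- `(x, y) ↦ (xy, yx)` -/
noncomputable def phi : M ⊗ M ⟶ M ⊗ M := lift (fst M M * snd M M) (snd M M * fst M M)

/-- the point `(1, 1)` -/
noncomputable def e : 𝟙_ (Over S) ⟶ M ⊗ M := lift η[M] η[M]

theorem lift_phi {T : Over S} (x y : T ⟶ M) : lift x y ≫ phi M = lift (x * y) (y * x) := by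
  unfold phi
  rw [comp_lift, MonObj.comp_mul, MonObj.comp_mul, lift_fst, lift_snd]

theorem toUnit_e (T : Over S) : toUnit T ≫ e M = lift 1 1 := by
  unfold e
  rw [comp_lift, ← Hom.one_def]

/-- the scheme of units -/
noncomputable abbrev G : Over S := pullback (phi M) (e M)

/-- the inclusion of the units -/
noncomputable def i : G M ⟶ M := pullback.fst (phi M) (e M) ≫ fst M M

theorem point_spec {T : Over S} (g : T ⟶ G M) :
    ∃ x y : T ⟶ M, g ≫ pullback.fst (phi M) (e M) = lift x y ∧ x * y = 1 ∧ y * x = 1 := by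
  refine ⟨g ≫ pullback.fst (phi M) (e M) ≫ fst M M, g ≫ pullback.fst (phi M) (e M) ≫ snd M M, ?_, ?_⟩
  · apply CartesianMonoidalCategory.hom_ext
    · rw [lift_fst, Category.assoc]
    · rw [lift_snd, Category.assoc]
  · have hp : g ≫ pullback.fst (phi M) (e M) =
        lift (g ≫ pullback.fst (phi M) (e M) ≫ fst M M) (g ≫ pullback.fst (phi M) (e M) ≫ snd M M) := by
      apply CartesianMonoidalCategory.hom_ext
      · rw [lift_fst, Category.assoc]
      · rw [lift_snd, Category.assoc]
    have h1 : (g ≫ pullback.fst (phi M) (e M)) ≫ phi M = lift 1 1 := by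
      rw [Category.assoc, pullback.condition, ← Category.assoc, toUnit_unique (g ≫ _) (toUnit T),
        toUnit_e]
    rw [hp, lift_phi] at h1
    constructor
    · have := congrArg (fun f => f ≫ fst M M) h1
      simpa using this
    · have := congrArg (fun f => f ≫ snd M M) h1
      simpa using this

theorem i_mono : Mono (i M) := by
  refine ⟨fun {T} g g' h => ?_⟩
  obtain ⟨x, y, hp, hxy, hyx⟩ := point_spec M g
  obtain ⟨x', y', hp', hxy', hyx'⟩ := point_spec M g'
  have hx : x = x' := by
    have h1 : g ≫ i M = x := by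
      unfold i
      rw [← Category.assoc, hp, lift_fst]
    have h2 : g' ≫ i M = x' := by
      unfold i
      rw [← Category.assoc, hp', lift_fst]
    rw [← h1, ← h2, h]
  subst hx
  have hy : y = y' := by
    calc y = y * (x * y') := by rw [hxy', _root_.mul_one]
      _ = (y * x) * y' := by rw [_root_.mul_assoc]
      _ = y' := by rw [hyx, _root_.one_mul]
  subst hy
  apply pullback.hom_ext
  · rw [hp, hp']
  · exact toUnit_unique _ _

theorem factor_iff {T : Over S} (m : T ⟶ M) : (∃ g : T ⟶ G M, g ≫ i M = m) ↔ IsUnit m := by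
  constructor
  · rintro ⟨g, rfl⟩
    obtain ⟨x, y, hp, hxy, hyx⟩ := point_spec M g
    have h1 : g ≫ i M = x := by
      unfold i
      rw [← Category.assoc, hp, lift_fst]
    rw [h1]
    exact ⟨⟨x, y, hxy, hyx⟩, rfl⟩
  · rintro ⟨⟨x, y, hxy, hyx⟩, rfl⟩
    refine ⟨pullback.lift (lift x y) (toUnit T) ?_, ?_⟩
    · rw [lift_phi, toUnit_e, hxy, hyx]
    · unfold i
      rw [← Category.assoc, pullback.lift_fst, lift_fst]

theorem isAffine_G [IsAffine S] [IsAffine M.left] : IsAffine (G M).left := by
  haveI : IsAffine (M ⊗ M).left := by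
    show IsAffine (pullback M.hom M.hom)
    infer_instance
  haveI : IsAffine (𝟙_ (Over S)).left := by
    show IsAffine S
    infer_instance
  haveI : IsAffine (pullback ((Over.forget S).map (phi M)) ((Over.forget S).map (e M))) := by
    show IsAffine (pullback (phi M).left (e M).left)
    infer_instance
  have h : IsAffine ((Over.forget S).obj (pullback (phi M) (e M))) :=
    IsAffine.of_isIso (PreservesPullback.iso (Over.forget S) (phi M) (e M)).hom
  exact h

end Groth.Agent.Helper9.MonUnits
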