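import Mathlib
import Groth.Agent.Helper9.MonUnits

set_option autoImplicit false

namespace Groth.Agent.Helper9.MonUnits

open CategoryTheory CategoryTheory.Limits MonoidalCategory CartesianMonoidalCategory MonObj
  AlgebraicGeometry

universe u

variable {S : Scheme.{u}} (M : Over S) [MonObj M]

theorem isPullback_left :
    IsPullback (pullback.snd (phi M) (e M)).left (pullback.fst (phi M) (e M)).left
      (e M).left (phi M).left :=
  ((IsPullback.of_hasPullback (phi M) (e M)).map (Over.forget S)).flip

theorem tensor_hom_props [LocallyOfFiniteType M.hom] [QuasiCompact M.hom] :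
    LocallyOfFiniteType (M ⊗ M).hom ∧ QuasiCompact (M ⊗ M).hom := by
  have h : (M ⊗ M).hom = pullback.fst M.hom M.hom ≫ M.hom := rfl
  rw [h]
  constructor <;> infer_instance

theorem G_props [TopologicalSpace.NoetherianSpace S] [LocallyOfFiniteType M.hom] [QuasiCompact M.hom] :
    LocallyOfFiniteType (G M).hom ∧ QuasiCompact (G M).hom := by
  obtain ⟨h1, h2⟩ := tensor_hom_props M
  have hw : (G M).hom = (pullback.fst (phi M) (e M)).left ≫ (M ⊗ M).hom :=
    (Over.w (pullback.fst (phi M) (e M))).symm
  have he : (e M).left ≫ (M ⊗ M).hom = 𝟙 S := Over.w (e M)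
  haveI : LocallyOfFiniteType ((e M).left ≫ (M ⊗ M).hom) := by
    rw [he]; exact locallyOfFiniteType_of_isOpenImmersion (𝟙 S)
  have hel : LocallyOfFiniteType (e M).left := locallyOfFiniteType_of_comp (e M).left (M ⊗ M).hom
  haveI : TopologicalSpace.NoetherianSpace (𝟙_ (Over S)).left := by
    show TopologicalSpace.NoetherianSpace S
    infer_instance
  have heq : QuasiCompact (e M).left := inferInstance
  have h3 : LocallyOfFiniteType (pullback.fst (phi M) (e M)).left :=
    MorphismProperty.of_isPullback (isPullback_left M) hel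
  have h4 : QuasiCompact (pullback.fst (phi M) (e M)).left :=
    MorphismProperty.of_isPullback (isPullback_left M) heq
  rw [hw]
  constructor <;> infer_instance

/-- any representing object for the units is isomorphic to `G M`, hence inherits the properties -/
theorem props_of_represents [TopologicalSpace.NoetherianSpace S] [LocallyOfFiniteType M.hom] [QuasiCompact M.hom]
    (G' : Over S) (i' : G' ⟶ M) [Mono i']
    (hi : ∀ (T : Over S) (m : T ⟶ M), (∃ g : T ⟶ G', g ≫ i' = m) ↔ IsUnit m) :
    LocallyOfFiniteType G'.hom ∧ QuasiCompact G'.hom := by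
  obtain ⟨h1, h2⟩ := G_props M
  haveI := i_mono M
  have hu' : IsUnit i' := (hi G' i').mp ⟨𝟙 _, Category.id_comp _⟩
  have hu : IsUnit (i M) := (factor_iff M (i M)).mp ⟨𝟙 _, Category.id_comp _⟩
  obtain ⟨g₁, hg₁⟩ := (factor_iff M i').mpr hu'
  obtain ⟨g₂, hg₂⟩ := (hi (G M) (i M)).mpr hu
  have h12 : g₁ ≫ g₂ = 𝟙 G' := by
    rw [← cancel_mono i', Category.assoc, hg₂, hg₁, Category.id_comp]
  have h21 : g₂ ≫ g₁ = 𝟙 (G M) := by
    rw [← cancel_mono (i M), Category.assoc, hg₁, hg₂, Category.id_comp]
  have hiso : IsIso g₁.left := by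
    refine ⟨⟨g₂.left, ?_, ?_⟩⟩
    · rw [← Over.comp_left, h12]; rfl
    · rw [← Over.comp_left, h21]; rfl
  have hw : G'.hom = g₁.left ≫ (G M).hom := (Over.w g₁).symm
  rw [hw]
  constructor <;> infer_instance

end Groth.Agent.Helper9.MonUnits
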