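import Mathlib

set_option autoImplicit false
universe w v u
open CategoryTheory Limits

namespace Groth.Agent.Helper9.Monad

section
variable {C : Type u} [Category.{v} C] [Abelian C]

/-- first SES of a monad: A → K → E -/
noncomputable abbrev ses1 (M : ShortComplex C) : ShortComplex C :=
  ShortComplex.mk M.toCycles M.homologyπ (by simp)

/-- second SES: K → B → C -/
noncomputable abbrev ses2 (M : ShortComplex C) : ShortComplex C :=
  ShortComplex.mk M.iCycles M.g (by simp)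

lemma ses1_shortExact (M : ShortComplex C) [Mono M.f] : (ses1 M).ShortExact := by
  have hm : Mono M.toCycles := by
    have : Mono (M.toCycles ≫ M.iCycles) := by rw [M.toCycles_i]; infer_instance
    exact mono_of_mono _ M.iCycles
  have he : Epi M.homologyπ := inferInstance
  have hex : (ses1 M).Exact :=
    ShortComplex.exact_of_g_is_cokernel _ M.homologyIsCokernel
  exact { exact := hex, mono_f := hm, epi_g := he }

lemma ses2_shortExact (M : ShortComplex C) [Epi M.g] : (ses2 M).ShortExact := by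
  have hm : Mono M.iCycles := inferInstance
  have hex : (ses2 M).Exact :=
    ShortComplex.exact_of_f_is_kernel _ M.cyclesIsKernel
  exact { exact := hex, mono_f := hm, epi_g := ‹Epi M.g› }

end

open Abelian

variable {C : Type u} [Category.{v} C] [Abelian C] [HasExt.{w} C]

/-- Hom(S.X₁, Y) = 0 when Hom(S.X₂, Y) = 0 and Ext¹(S.X₃, Y) = 0. -/
lemma hom_X₁_eq_zero {S : ShortComplex C} (hS : S.ShortExact) (Y : C)
    (h2 : ∀ f : S.X₂ ⟶ Y, f = 0)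
    (h3 : Subsingleton (Abelian.Ext S.X₃ Y 1)) (u : S.X₁ ⟶ Y) : u = 0 := by
  obtain ⟨x₂, hx₂⟩ := Ext.contravariant_sequence_exact₁ hS Y (Ext.mk₀ u) (n₁ := 1) (by norm_num)
    (Subsingleton.elim _ _)
  obtain ⟨b, rfl⟩ := (Ext.mk₀_bijective S.X₂ Y).2 x₂
  rw [h2 b] at hx₂
  have h0 : (Ext.mk₀ u : Ext S.X₁ Y 0) = 0 := by
    rw [← hx₂, Ext.mk₀_zero, Ext.comp_zero]
  apply (Ext.mk₀_bijective _ _).1
  rw [h0, Ext.mk₀_zero]

/-- Ext¹(S.X₁, Y) = 0 when Ext¹(S.X₂, Y) = 0 and Ext²(S.X₃, Y) = 0. -/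
lemma ext_X₁_subsingleton {S : ShortComplex C} (hS : S.ShortExact) (Y : C)
    (h2 : Subsingleton (Abelian.Ext S.X₂ Y 1))
    (h3 : Subsingleton (Abelian.Ext S.X₃ Y 2)) :
    Subsingleton (Abelian.Ext S.X₁ Y 1) := by
  refine ⟨fun x y => ?_⟩
  have key : ∀ z : Abelian.Ext S.X₁ Y 1, z = 0 := by
    intro z
    obtain ⟨x₂, hx₂⟩ := Ext.contravariant_sequence_exact₁ hS Y z (n₁ := 2) (by norm_num)
      (Subsingleton.elim _ _)
    rw [← hx₂, Subsingleton.elim x₂ 0, Ext.comp_zero]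
  rw [key x, key y]

/-- extension of a map from `S.X₁` along the mono `S.f`, when `Ext¹(S.X₃, Y) = 0`. -/
lemma exists_extend {S : ShortComplex C} (hS : S.ShortExact) (Y : C)
    (h3 : Subsingleton (Abelian.Ext S.X₃ Y 1)) (u : S.X₁ ⟶ Y) :
    ∃ b : S.X₂ ⟶ Y, S.f ≫ b = u := by
  obtain ⟨x₂, hx₂⟩ := Ext.contravariant_sequence_exact₁ hS Y (Ext.mk₀ u) (n₁ := 1) (by norm_num)
    (Subsingleton.elim _ _)
  obtain ⟨b, rfl⟩ := (Ext.mk₀_bijective S.X₂ Y).2 x₂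
  refine ⟨b, ?_⟩
  apply (Ext.mk₀_bijective _ _).1
  rw [← hx₂, Ext.mk₀_comp_mk₀]

/-- lifting of a map to `S.X₃` along the epi `S.g`, when `Ext¹(X, S.X₁) = 0`. -/
lemma exists_lift {S : ShortComplex C} (hS : S.ShortExact) (X : C)
    (h1 : Subsingleton (Abelian.Ext X S.X₁ 1)) (u : X ⟶ S.X₃) :
    ∃ b : X ⟶ S.X₂, b ≫ S.g = u := by
  obtain ⟨x₂, hx₂⟩ := Ext.covariant_sequence_exact₃ X hS (Ext.mk₀ u) (n₁ := 1) (by norm_num)
    (Subsingleton.elim _ _)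
  obtain ⟨b, rfl⟩ := (Ext.mk₀_bijective X S.X₂).2 x₂
  refine ⟨b, ?_⟩
  apply (Ext.mk₀_bijective _ _).1
  rw [← hx₂, Ext.mk₀_comp_mk₀]

theorem surj (M M' : ShortComplex C) [Mono M.f] [Epi M.g] [Mono M'.f] [Epi M'.g]
    (hBA₁ : Subsingleton (Abelian.Ext M.X₂ M'.X₁ 1))
    (hCB₁ : Subsingleton (Abelian.Ext M.X₃ M'.X₂ 1)) (hCA₂ : Subsingleton (Abelian.Ext M.X₃ M'.X₁ 2))
    (ψ : M.homology ⟶ M'.homology) : ∃ φ : M ⟶ M', ShortComplex.homologyMap φ = ψ := by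
  have hS1 := ses1_shortExact M
  have hS2 := ses2_shortExact M
  have hS1' := ses1_shortExact M'
  have hS2' := ses2_shortExact M'
  have := hS1'.mono_f
  have := hS2.epi_g
  have V1 : Subsingleton (Abelian.Ext M.cycles M'.X₁ 1) :=
    ext_X₁_subsingleton hS2 M'.X₁ hBA₁ hCA₂
  -- Step 1: κ
  obtain ⟨κ, hκ⟩ : ∃ κ : M.cycles ⟶ M'.cycles, κ ≫ M'.homologyπ = M.homologyπ ≫ ψ :=
    exists_lift hS1' M.cycles V1 (M.homologyπ ≫ ψ)
  -- Step 2: α
  have h2 : (M.toCycles ≫ κ) ≫ M'.homologyπ = 0 := by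
    rw [Category.assoc, hκ, ← Category.assoc, M.toCycles_comp_homologyπ, zero_comp]
  have hα : hS1'.exact.lift (M.toCycles ≫ κ) h2 ≫ M'.toCycles = M.toCycles ≫ κ :=
    hS1'.exact.lift_f _ _
  set α : M.X₁ ⟶ M'.X₁ := hS1'.exact.lift (M.toCycles ≫ κ) h2 with hαdef
  -- Step 3: β
  obtain ⟨β, hβ⟩ : ∃ β : M.X₂ ⟶ M'.X₂, M.iCycles ≫ β = κ ≫ M'.iCycles :=
    exists_extend hS2 M'.X₂ hCB₁ (κ ≫ M'.iCycles)
  -- Step 4: γ
  have h4 : M.iCycles ≫ (β ≫ M'.g) = 0 := by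
    rw [← Category.assoc, hβ, Category.assoc, M'.iCycles_g, comp_zero]
  have hγ : M.g ≫ hS2.exact.desc (β ≫ M'.g) h4 = β ≫ M'.g := hS2.exact.g_desc _ _
  set γ : M.X₃ ⟶ M'.X₃ := hS2.exact.desc (β ≫ M'.g) h4 with hγdef
  -- Step 5: φ
  have c12 : α ≫ M'.f = M.f ≫ β := by
    rw [← M'.toCycles_i, ← Category.assoc, hα, Category.assoc, ← hβ, ← Category.assoc,
      M.toCycles_i]
  let φ : M ⟶ M' := { τ₁ := α, τ₂ := β, τ₃ := γ, comm₁₂ := c12, comm₂₃ := hγ.symm }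
  refine ⟨φ, ?_⟩
  have hc : ShortComplex.cyclesMap φ = κ := by
    rw [← cancel_mono M'.iCycles, ShortComplex.cyclesMap_i]
    exact hβ
  rw [← cancel_epi M.homologyπ, ShortComplex.homologyπ_naturality, hc, hκ]

theorem inj (M M' : ShortComplex C) [Mono M.f] [Epi M.g] [Mono M'.f] [Epi M'.g]
    (hBA : ∀ f : M.X₂ ⟶ M'.X₁, f = 0) (hCB : ∀ f : M.X₃ ⟶ M'.X₂, f = 0)
    (hCA₁ : Subsingleton (Abelian.Ext M.X₃ M'.X₁ 1))
    (δ : M ⟶ M') (hδ : ShortComplex.homologyMap δ = 0) : δ = 0 := by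
  have hS1 := ses1_shortExact M
  have hS2 := ses2_shortExact M
  have hS1' := ses1_shortExact M'
  have hS2' := ses2_shortExact M'
  have := hS1'.mono_f
  have := hS2.epi_g
  have V2 : ∀ u : M.cycles ⟶ M'.X₁, u = 0 := hom_X₁_eq_zero hS2 M'.X₁ hBA hCA₁
  have h1 : ShortComplex.cyclesMap δ ≫ M'.homologyπ = 0 := by
    rw [← ShortComplex.homologyπ_naturality, hδ, comp_zero]
  have hc : ShortComplex.cyclesMap δ = 0 := by
    have := hS1'.exact.lift_f (ShortComplex.cyclesMap δ) h1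
    rw [V2 (hS1'.exact.lift (ShortComplex.cyclesMap δ) h1), zero_comp] at this
    exact this.symm
  have h2 : M.iCycles ≫ δ.τ₂ = 0 := by
    rw [← ShortComplex.cyclesMap_i, hc, zero_comp]
  have hτ₂ : δ.τ₂ = 0 := by
    have := hS2.exact.g_desc δ.τ₂ h2
    rw [hCB (hS2.exact.desc δ.τ₂ h2), comp_zero] at this
    exact this.symm
  have hτ₁ : δ.τ₁ = 0 := by
    rw [← cancel_mono M'.f, δ.comm₁₂, hτ₂, comp_zero, zero_comp]
  have hτ₃ : δ.τ₃ = 0 := by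
    rw [← cancel_epi M.g, ← δ.comm₂₃, hτ₂, zero_comp, comp_zero]
  ext
  · exact hτ₁
  · exact hτ₂
  · exact hτ₃

end Groth.Agent.Helper9.Monad
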