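import Mathlib

/-!
# The finite flat cover `Spec A[X]/(F) ⟶ Spec A` for a monic polynomial `F` (helper9)
-/

set_option autoImplicit false
universe u
open CategoryTheory CategoryTheory.Limits AlgebraicGeometry TopologicalSpace Polynomial

namespace Groth.Agent.Helper9.MonicCover

theorem of_injective {A : Type u} [CommRing A] (F : A[X]) (hF : F.Monic) (hd : 0 < F.natDegree) :
    Function.Injective (AdjoinRoot.of F) := by
  rw [injective_iff_map_eq_zero]
  intro a ha
  have h1 : F ∣ C a := AdjoinRoot.mk_eq_zero.mp ha
  by_contra hne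
  exact hF.not_dvd_of_natDegree_lt (fun h0 => hne (C_eq_zero.mp h0)) (by simpa using hd) h1

/-- The structure morphism of the cover. -/
noncomputable def cov {A : Type u} [CommRing A] (F : A[X]) :
    Spec (CommRingCat.of (AdjoinRoot F)) ⟶ Spec (CommRingCat.of A) :=
  Spec.map (CommRingCat.ofHom (AdjoinRoot.of F))

theorem isFinite_cov {A : Type u} [CommRing A] (F : A[X]) (hF : F.Monic) : IsFinite (cov F) := by
  have := hF.finite_adjoinRoot
  rw [cov, IsFinite.SpecMap_iff]
  change (algebraMap A (AdjoinRoot F)).Finite
  exact RingHom.finite_algebraMap.mpr inferInstance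

theorem flat_cov {A : Type u} [CommRing A] (F : A[X]) (hF : F.Monic) : Flat (cov F) := by
  have := hF.free_adjoinRoot
  rw [cov, HasRingHomProperty.Spec_iff (P := @Flat)]
  change (algebraMap A (AdjoinRoot F)).Flat
  rw [RingHom.flat_algebraMap_iff]
  infer_instance

theorem lofp_cov {A : Type u} [CommRing A] (F : A[X]) : LocallyOfFinitePresentation (cov F) := by
  rw [cov, HasRingHomProperty.Spec_iff (P := @LocallyOfFinitePresentation)]
  change (algebraMap A (AdjoinRoot F)).FinitePresentation
  rw [RingHom.finitePresentation_algebraMap]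
  exact Algebra.FinitePresentation.quotient ⟨{F}, by simp⟩

theorem surjective_cov {A : Type u} [CommRing A] (F : A[X]) (hF : F.Monic) (hd : 0 < F.natDegree) :
    Function.Surjective (cov F).base := by
  have := hF.finite_adjoinRoot
  have : FaithfulSMul A (AdjoinRoot F) :=
    (faithfulSMul_iff_algebraMap_injective A (AdjoinRoot F)).mpr (of_injective F hF hd)
  exact Algebra.IsIntegral.comap_surjective A (AdjoinRoot F)

/-- A section of the cover gives a root of `F`. -/
theorem exists_root_of_section {A : Type u} [CommRing A] (F : A[X])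
    (h : Spec (CommRingCat.of A) ⟶ Spec (CommRingCat.of (AdjoinRoot F)))
    (hh : h ≫ cov F = 𝟙 _) : ∃ r : A, F.eval r = 0 := by
  let ψ : AdjoinRoot F →+* A := (Spec.preimage h).hom
  have hψ : ψ.comp (AdjoinRoot.of F) = RingHom.id A := by
    have h1 : Spec.map (CommRingCat.ofHom (AdjoinRoot.of F) ≫ Spec.preimage h) =
        Spec.map (𝟙 (CommRingCat.of A)) := by
      rw [Spec.map_comp, Spec.map_preimage, Spec.map_id]
      exact hh
    have h2 := Spec.map_injective h1
    exact congrArg CommRingCat.Hom.hom h2
  refine ⟨ψ (AdjoinRoot.root F), ?_⟩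
  have h3 := congrArg ψ (AdjoinRoot.eval₂_root F)
  rw [Polynomial.hom_eval₂, hψ, map_zero] at h3
  simpa [Polynomial.eval₂_id] using h3

end Groth.Agent.Helper9.MonicCover
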