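import Mathlib

/-!
# Dimension of `k[x,y]/(x^a, y^b)`
-/

set_option autoImplicit false

namespace Groth.Agent.Helper9.MonomialQuot

open MvPolynomial

universe u

noncomputable def expo {a b : ℕ} (ij : Fin a × Fin b) : Fin 2 →₀ ℕ :=
  Finsupp.single 0 (ij.1 : ℕ) + Finsupp.single 1 (ij.2 : ℕ)

lemma expo_zero {a b : ℕ} (ij : Fin a × Fin b) : expo ij 0 = ij.1 := by
  simp [expo]

lemma expo_one {a b : ℕ} (ij : Fin a × Fin b) : expo ij 1 = ij.2 := by
  simp [expo]

lemma expo_inj {a b : ℕ} : Function.Injective (expo (a := a) (b := b)) := by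
  intro x y h
  have h0 := DFunLike.congr_fun h 0
  have h1 := DFunLike.congr_fun h 1
  rw [expo_zero, expo_zero] at h0
  rw [expo_one, expo_one] at h1
  exact Prod.ext (Fin.ext h0) (Fin.ext h1)

lemma eq_expo {a b : ℕ} (m : Fin 2 →₀ ℕ) (h0 : m 0 < a) (h1 : m 1 < b) :
    m = expo (⟨⟨m 0, h0⟩, ⟨m 1, h1⟩⟩ : Fin a × Fin b) := by
  ext i
  fin_cases i
  · simp [expo]
  · simp [expo]

theorem finrank_quot_pow (k : Type u) [Field k] (a b : ℕ) :
    Module.finrank k (MvPolynomial (Fin 2) k ⧸
      Ideal.span ({X 0 ^ a, X 1 ^ b} : Set (MvPolynomial (Fin 2) k))) = a * b := by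
  classical
  let L : MvPolynomial (Fin 2) k →ₗ[k] (Fin a × Fin b → k) :=
    LinearMap.pi fun ij => MvPolynomial.lcoeff k (expo ij)
  have hL : ∀ f ij, L f ij = coeff (expo ij) f := fun f ij => rfl
  have hsurj : Function.Surjective L := by
    intro c
    refine ⟨∑ ij, monomial (expo ij) (c ij), ?_⟩
    funext ij'
    rw [hL, coeff_sum]
    simp only [coeff_monomial]
    rw [Finset.sum_eq_single ij']
    · simp
    · intro ij _ hne
      rw [if_neg]
      intro h
      exact hne (expo_inj h)
    · intro h; exact absurd (Finset.mem_univ _) h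
  have hspan : Ideal.span ({X 0 ^ a, X 1 ^ b} : Set (MvPolynomial (Fin 2) k)) =
      Ideal.span ((fun s => monomial s (1 : k)) '' {Finsupp.single 0 a, Finsupp.single 1 b}) := by
    rw [Set.image_pair, X_pow_eq_monomial, X_pow_eq_monomial]
  have hker : LinearMap.ker L =
      (Ideal.span ({X 0 ^ a, X 1 ^ b} : Set (MvPolynomial (Fin 2) k))).restrictScalars k := by
    ext f
    rw [LinearMap.mem_ker, Submodule.restrictScalars_mem, hspan, mem_ideal_span_monomial_image]
    constructor
    · intro hf m hm
      by_contra hcon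
      push Not at hcon
      have h0 : m 0 < a := by
        by_contra h
        push Not at h
        refine hcon _ (Set.mem_insert _ _) ?_
        intro i
        fin_cases i
        · simpa using h
        · simp
      have h1 : m 1 < b := by
        by_contra h
        push Not at h
        refine hcon _ (Set.mem_insert_of_mem _ rfl) ?_
        intro i
        fin_cases i
        · simp
        · simpa using h
      have := congrFun hf (⟨⟨m 0, h0⟩, ⟨m 1, h1⟩⟩ : Fin a × Fin b)
      rw [hL, ← eq_expo m h0 h1] at this
      exact (mem_support_iff.1 hm) this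
    · intro h
      funext ij
      rw [hL]
      by_contra hne
      have hm : expo ij ∈ f.support := mem_support_iff.2 hne
      obtain ⟨s, hs, hle⟩ := h _ hm
      rcases hs with rfl | hs
      · have := hle 0
        rw [expo_zero] at this
        simp at this
        exact absurd ij.1.2 (not_lt.2 this)
      · rw [Set.mem_singleton_iff] at hs
        subst hs
        have := hle 1
        rw [expo_one] at this
        simp at this
        exact absurd ij.2.2 (not_lt.2 this)
  let e : (MvPolynomial (Fin 2) k ⧸ Ideal.span ({X 0 ^ a, X 1 ^ b} : Set (MvPolynomial (Fin 2) k)))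
      ≃ₗ[k] (Fin a × Fin b → k) :=
    ((Submodule.Quotient.restrictScalarsEquiv k
      (Ideal.span ({X 0 ^ a, X 1 ^ b} : Set (MvPolynomial (Fin 2) k)))).symm.trans
      (Submodule.quotEquivOfEq _ _ hker.symm)).trans (L.quotKerEquivOfSurjective hsurj)
  rw [LinearEquiv.finrank_eq e, Module.finrank_fintype_fun_eq_card, Fintype.card_prod, Fintype.card_fin,
    Fintype.card_fin]

end Groth.Agent.Helper9.MonomialQuot
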