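import Mathlib
import Groth.Agent.Helper9.LocalBasisPrime
import Groth.Agent.Helper9.GradedHomog2

set_option autoImplicit false

namespace Groth.Agent.Helper9.MvGraded

open MvPolynomial DirectSum
open scoped TensorProduct

universe u v

variable {R : Type u} [CommRing R] (n : ℕ)

/-- A polynomial homogeneous for the standard `ℤ^n` weights, with nonzero constant coefficient,
is constant. -/
lemma eq_C_of_isWeightedHomogeneous {s : MvPolynomial (Fin n) R} {g : Fin n → ℤ}
    (hs : IsWeightedHomogeneous (fun i : Fin n => (Pi.single i 1 : Fin n → ℤ)) s g)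
    (h0 : constantCoeff s ≠ 0) : s = C (constantCoeff s) := by
  have hg : g = 0 := by
    have := hs (d := 0) (by rwa [constantCoeff_eq] at h0)
    rw [← this, map_zero]
  subst hg
  ext d
  rw [coeff_C]
  by_cases hd : 0 = d
  · subst hd
    rw [if_pos rfl, constantCoeff_eq]
  · rw [if_neg hd]
    by_contra hne
    have hw := hs hne
    apply hd
    ext i
    have := congrFun hw i
    rw [Finsupp.weight_eq_sum] at this
    simp only [Finset.sum_apply, Pi.smul_apply, Pi.single_apply, Pi.zero_apply] at this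
    simp only [smul_ite, smul_zero, Finset.sum_ite_eq, Finset.mem_univ, if_true] at this
    simp only [nsmul_eq_mul, mul_one] at this
    exact_mod_cast this.symm


section Main

variable {A : Type u} [CommRing A] {M : Type*} [AddCommGroup M] [DecidableEq M]
  {σ : Type*} [SetLike σ A] [AddSubmonoidClass σ A] (𝒜 : M → σ) [GradedRing 𝒜]
  {P : Type v} [AddCommGroup P] [Module A P] {τ : Type*} [SetLike τ P]
  [AddSubmonoidClass τ P] (ℳ : M → τ) [Decomposition ℳ] [SetLike.GradedSMul 𝒜 ℳ]

/-- Over a graded ring, a finite projective graded module has, at any prime `𝔑`, a finite family of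
homogeneous elements forming a basis after inverting a homogeneous element outside `𝔑`. -/
theorem exists_homogeneous_local_basis [Module.Finite A P] [Module.Projective A P]
    (𝔑 : Ideal A) [𝔑.IsPrime] :
    ∃ (m : ℕ) (d : Fin m → M) (f : Fin m → P), (∀ i, f i ∈ ℳ (d i)) ∧
      ∃ s : A, SetLike.IsHomogeneousElem 𝒜 s ∧ s ∉ 𝔑 ∧
      (∀ p : P, s • p ∈ Submodule.span A (Set.range f)) ∧
      (∀ c : Fin m → A, ∑ i, c i • f i = 0 → ∀ i, s * c i = 0) := by
  classical
  let κ := 𝔑.ResidueField
  let V := κ ⊗[A] P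
  let S : Set V := {v | ∃ (g : M) (q : P), q ∈ ℳ g ∧ v = (1 : κ) ⊗ₜ[A] q}
  have hS : ⊤ ≤ Submodule.span κ S := by
    rintro v -
    induction v using TensorProduct.induction_on with
    | zero => exact zero_mem _
    | add x y hx hy => exact add_mem hx hy
    | tmul a q =>
      have h1 : a ⊗ₜ[A] q = a • ((1 : κ) ⊗ₜ[A] q) := by
        rw [TensorProduct.smul_tmul', smul_eq_mul, mul_one]
      rw [h1]
      refine Submodule.smul_mem _ _ ?_
      rw [← DirectSum.sum_support_decompose ℳ q, TensorProduct.tmul_sum]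
      refine Submodule.sum_mem _ fun g _ => Submodule.subset_span ?_
      exact ⟨g, _, SetLike.coe_mem _, rfl⟩
  obtain ⟨b, hbS, hbspan, hbli⟩ := exists_linearIndependent κ S
  haveI : Module.Finite κ V := Module.Finite.base_change A κ P
  haveI : Finite b := hbli.finite_of_isNoetherian
  haveI : Fintype b := Fintype.ofFinite b
  have hch : ∀ v : b, ∃ (g : M) (q : P), q ∈ ℳ g ∧ (v : V) = (1 : κ) ⊗ₜ[A] q := fun v => hbS v.2
  choose dg fq hfq hv using hch
  have hfun : (fun v : b => (1 : κ) ⊗ₜ[A] fq v) = (Subtype.val : b → V) := by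
    funext v
    exact (hv v).symm
  have hli : LinearIndependent κ (fun v : b => (1 : κ) ⊗ₜ[A] fq v) := by
    rw [hfun]; exact hbli
  have hspan : ⊤ ≤ Submodule.span κ (Set.range fun v : b => (1 : κ) ⊗ₜ[A] fq v) := by
    rw [hfun, Subtype.range_coe, hbspan]
    exact hS
  have hgen := LocalBasisPrime.exists_gen_of_prime fq 𝔑 hspan
  have hrel := LocalBasisPrime.exists_rel_of_prime fq 𝔑 hli hspan
  obtain ⟨s, hsh, hs𝔑, hsgen, hsrel⟩ :=
    GradedHomog2.exists_homogeneous_of_exists 𝒜 ℳ dg fq hfq 𝔑 hgen hrel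
  let e := Fintype.equivFin b
  refine ⟨Fintype.card b, dg ∘ e.symm, fq ∘ e.symm, fun i => hfq _, s, hsh, hs𝔑, ?_, ?_⟩
  · intro p
    have : Set.range (fq ∘ e.symm) = Set.range fq := by
      rw [Set.range_comp, e.symm.surjective.range_eq, Set.image_univ]
    rw [this]
    exact hsgen p
  · intro c hc i
    have h1 : ∑ v, (c ∘ e) v • fq v = 0 := by
      rw [← hc, ← Equiv.sum_comp e.symm]
      refine Finset.sum_congr rfl fun i _ => ?_
      simp
    have := hsrel (c ∘ e) h1 (e.symm i)
    simpa using this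

end Main

end Groth.Agent.Helper9.MvGraded
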