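import Mathlib

/-!
# Bounded complexes of finite free modules over a (not necessarily commutative) ring

Basic lemmas on cones, shifts, peeling off the top term (adapted from the commutative version
in `Helper3/DRing1`, `DRingCone`, `DRingPeel`, `DRingBFF`).
-/

set_option autoImplicit false
set_option linter.style.haveILetI false
set_option linter.unusedSectionVars false
universe u
open CategoryTheory CategoryTheory.Limits

namespace Groth.Agent.Helper9.NCR

attribute [local instance] HasDerivedCategory.standard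

section Defs

variable (A : Type u) [Ring A]

/-- cochain complexes of left `A`-modules -/
abbrev Cx : Type (u + 1) := CochainComplex (ModuleCat.{u} A) ℤ

/-- the derived category of left `A`-modules -/
abbrev DA : Type (u + 1) := DerivedCategory (ModuleCat.{u} A)

/-- a module as an object of the derived category, in degree `0` -/
noncomputable abbrev inD (M : Type u) [AddCommGroup M] [Module A M] : DA A :=
  (DerivedCategory.singleFunctor (ModuleCat.{u} A) 0).obj (ModuleCat.of A M)

/-- the cohomology modules -/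
noncomputable abbrev HD (K : DA A) (i : ℤ) : Type u :=
  (DerivedCategory.homologyFunctor (ModuleCat.{u} A) i).obj K

variable {A}

def VanishesOutside (P : Cx A) (a b : ℤ) : Prop := ∀ i : ℤ, i < a ∨ b < i → IsZero (P.X i)

def VanishesAbove (P : Cx A) (b : ℤ) : Prop := ∀ i : ℤ, b < i → IsZero (P.X i)

def TermwiseFiniteFree (P : Cx A) : Prop := ∀ i : ℤ, Module.Finite A (P.X i) ∧ Module.Free A (P.X i)

noncomputable abbrev toD (P : Cx A) : DA A := DerivedCategory.Q.obj P

end Defs

variable {A : Type u} [Ring A]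


lemma isStrictlyLE_of_vanishesAbove (P : Cx A) (b : ℤ) (h : VanishesAbove P b) :
    P.IsStrictlyLE b := by
  rw [CochainComplex.isStrictlyLE_iff]
  exact h


lemma isStrictlyLE_of_vanishesOutside (P : Cx A) (a b : ℤ) (h : VanishesOutside P a b) :
    P.IsStrictlyLE b := by
  rw [CochainComplex.isStrictlyLE_iff]
  exact fun i hi => h i (Or.inr hi)


lemma isStrictlyGE_of_vanishesOutside (P : Cx A) (a b : ℤ) (h : VanishesOutside P a b) :
    P.IsStrictlyGE a := by
  rw [CochainComplex.isStrictlyGE_iff]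
  exact fun i hi => h i (Or.inl hi)


lemma projective_obj (M : ModuleCat.{u} A) (h : Module.Projective A M) : Projective M :=
  (IsProjective.iff_projective (R := A) (P := M)).mp h


lemma isKProjective_of_vanishesAbove (P : Cx A) (b : ℤ) (h : VanishesAbove P b)
    (hp : ∀ i, Module.Projective A (P.X i)) : P.IsKProjective := by
  have := isStrictlyLE_of_vanishesAbove P b h
  have : ∀ n, Projective (P.X n) := fun n => projective_obj _ (hp n)
  exact CochainComplex.isKProjective_of_projective P b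


/-- Morphisms in `D(A)` out of a K-projective complex lift to chain maps. -/
lemma exists_Q_map_eq (P L : Cx A) [P.IsKProjective] (f : toD P ⟶ toD L) :
    ∃ φ : P ⟶ L, DerivedCategory.Q.map φ = f := by
  obtain ⟨g, hg⟩ := (CochainComplex.IsKProjective.Qh_map_bijective P
    ((HomotopyCategory.quotient _ _).obj L)).surjective
      ((DerivedCategory.quotientCompQhIso _).hom.app P ≫ f ≫
        (DerivedCategory.quotientCompQhIso _).inv.app L)
  obtain ⟨φ, rfl⟩ := (HomotopyCategory.quotient _ _).map_surjective g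
  refine ⟨φ, ?_⟩
  have := DerivedCategory.quotientCompQhIso_hom_naturality φ
  rw [hg] at this
  simpa using this.symm


/-- Chain maps out of a K-projective complex which agree in `D(A)` are homotopic. -/
lemma homotopy_of_Q_map_eq (P L : Cx A) [P.IsKProjective] (φ ψ : P ⟶ L)
    (h : DerivedCategory.Q.map φ = DerivedCategory.Q.map ψ) : Nonempty (Homotopy φ ψ) := by
  have h2 : DerivedCategory.Qh.map ((HomotopyCategory.quotient _ _).map φ) =
      DerivedCategory.Qh.map ((HomotopyCategory.quotient _ _).map ψ) := by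
    have h1 := DerivedCategory.quotientCompQhIso_hom_naturality φ
    have h1' := DerivedCategory.quotientCompQhIso_hom_naturality ψ
    rw [← cancel_mono ((DerivedCategory.quotientCompQhIso _).hom.app L), h1, h1', h]
  have := (CochainComplex.IsKProjective.Qh_map_bijective P
    ((HomotopyCategory.quotient _ _).obj L)).injective h2
  exact ⟨HomotopyCategory.homotopyOfEq _ _ this⟩


lemma isLE_of_HD (K : DA A) (n : ℤ) (h : ∀ i, n < i → Subsingleton (HD A K i)) :
    K.IsLE n := by
  rw [DerivedCategory.isLE_iff]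
  intro i hi
  have := h i hi
  exact ModuleCat.isZero_of_subsingleton _


lemma isGE_of_HD (K : DA A) (n : ℤ) (h : ∀ i, i < n → Subsingleton (HD A K i)) :
    K.IsGE n := by
  rw [DerivedCategory.isGE_iff]
  intro i hi
  have := h i hi
  exact ModuleCat.isZero_of_subsingleton _


lemma subsingleton_HD_of_isLE (K : DA A) (n : ℤ) [K.IsLE n] (i : ℤ) (hi : n < i) :
    Subsingleton (HD A K i) :=
  ModuleCat.subsingleton_of_isZero (K.isZero_of_isLE n i hi)


lemma subsingleton_HD_of_isGE (K : DA A) (n : ℤ) [K.IsGE n] (i : ℤ) (hi : i < n) :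
    Subsingleton (HD A K i) :=
  ModuleCat.subsingleton_of_isZero (K.isZero_of_isGE n i hi)


/-- A morphism from a K-projective complex vanishing in degrees `< a` to an object of
`D^{≤ a-1}` is zero. -/
lemma hom_eq_zero_of_isLE (P : Cx A) [P.IsKProjective] (a : ℤ)
    (hP : ∀ i, i < a → IsZero (P.X i)) (K : DA A) (n : ℤ) (hn : n < a) [K.IsLE n]
    (f : toD P ⟶ K) : f = 0 := by
  obtain ⟨K', hK', ⟨e⟩⟩ := K.exists_iso_Q_obj_of_isLE n
  obtain ⟨φ, hφ⟩ := exists_Q_map_eq P K' (f ≫ e.hom)
  have hφ0 : φ = 0 := by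
    apply HomologicalComplex.hom_ext
    intro i
    by_cases hi : i < a
    · exact (hP i hi).eq_of_src _ _
    · exact (K'.isZero_of_isStrictlyLE n i (by omega)).eq_of_tgt _ _
  rw [← cancel_mono e.hom, ← hφ, hφ0, Functor.map_zero, zero_comp]




open Pretriangulated in
/-- The third vertex of a distinguished triangle whose first two vertices are represented by
complexes `E1` (K-projective) and `E2` is represented by a mapping cone. -/
lemma exists_cone_iso (T : Triangle (DA A)) (hT : T ∈ distTriang _) (E1 E2 : Cx A)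
    [E1.IsKProjective] (e1 : toD E1 ≅ T.obj₁) (e2 : toD E2 ≅ T.obj₂) :
    ∃ φ : E1 ⟶ E2, Nonempty (toD (CochainComplex.mappingCone φ) ≅ T.obj₃) := by
  obtain ⟨φ, hφ⟩ := exists_Q_map_eq E1 E2 (e1.hom ≫ T.mor₁ ≫ e2.inv)
  refine ⟨φ, ⟨?_⟩⟩
  have hT' := DerivedCategory.mappingCone_triangle_distinguished φ
  have e := isoTriangleOfIso₁₂ _ T hT' hT e1 e2 (by
    change DerivedCategory.Q.map φ ≫ e2.hom = _
    rw [hφ, Category.assoc, Category.assoc, Iso.inv_hom_id, Category.comp_id]
    rfl)
  exact Triangle.π₃.mapIso e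


/-- The linear equivalence between a term of the mapping cone and a product. -/
noncomputable def coneXEquiv {E1 E2 : Cx A} (φ : E1 ⟶ E2) (i : ℤ) :
    (CochainComplex.mappingCone φ).X i ≃ₗ[A] (E1.X (i + 1) × E2.X i) :=
  ((HomologicalComplex.homotopyCofiber.XIsoBiprod φ i (i + 1) rfl) ≪≫
    ModuleCat.biprodIsoProd _ _).toLinearEquiv


lemma cone_vanishesAbove {E1 E2 : Cx A} (φ : E1 ⟶ E2) (b : ℤ)
    (h1 : VanishesAbove E1 (b + 1)) (h2 : VanishesAbove E2 b) :
    VanishesAbove (CochainComplex.mappingCone φ) b := by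
  intro i hi
  rw [CochainComplex.mappingCone.isZero_X_iff]
  exact ⟨h1 _ (by omega), h2 _ hi⟩


lemma cone_vanishesOutside {E1 E2 : Cx A} (φ : E1 ⟶ E2) (a b : ℤ)
    (h1 : VanishesOutside E1 (a + 1) (b + 1)) (h2 : VanishesOutside E2 a b) :
    VanishesOutside (CochainComplex.mappingCone φ) a b := by
  intro i hi
  rw [CochainComplex.mappingCone.isZero_X_iff]
  exact ⟨h1 _ (by omega), h2 _ hi⟩


lemma cone_termwiseFiniteFree {E1 E2 : Cx A} (φ : E1 ⟶ E2)
    (h1 : TermwiseFiniteFree E1) (h2 : TermwiseFiniteFree E2) :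
    TermwiseFiniteFree (CochainComplex.mappingCone φ) := by
  intro i
  obtain ⟨f1, g1⟩ := h1 (i + 1)
  obtain ⟨f2, g2⟩ := h2 i
  exact ⟨Module.Finite.equiv (coneXEquiv φ i).symm, Module.Free.of_equiv (coneXEquiv φ i).symm⟩


lemma shift_vanishesAbove (E : Cx A) (b n : ℤ) (h : VanishesAbove E b) :
    VanishesAbove (E⟦n⟧) (b - n) := by
  intro i hi
  exact h (i + n) (by omega)


lemma shift_vanishesOutside (E : Cx A) (a b n : ℤ) (h : VanishesOutside E a b) :
    VanishesOutside (E⟦n⟧) (a - n) (b - n) := by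
  intro i hi
  exact h (i + n) (by omega)


lemma shift_termwiseFiniteFree (E : Cx A) (n : ℤ) (h : TermwiseFiniteFree E) :
    TermwiseFiniteFree (E⟦n⟧) := fun i => h (i + n)


/-- `toD (E⟦n⟧) ≅ (toD E)⟦n⟧`. -/
noncomputable def toDShiftIso (E : Cx A) (n : ℤ) :
    toD (E⟦n⟧) ≅ (toD E)⟦n⟧ :=
  (DerivedCategory.Q.commShiftIso n).app E


lemma vanishesOutside_mono (E : Cx A) {a b a' b' : ℤ} (ha : a' ≤ a) (hb : b ≤ b')
    (h : VanishesOutside E a b) : VanishesOutside E a' b' :=
  fun i hi => h i (by omega)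


open HomologicalComplex ComplexShape Pretriangulated


/-- stupid truncation `σ_{≤ n}`. -/
noncomputable abbrev sigmaLE (K : Cx A) (n : ℤ) : Cx A :=
  K.stupidTrunc (embeddingUpIntLE n)


lemma hasLift_id (K : Cx A) (n : ℤ) :
    (embeddingUpIntLE n).HasLift (𝟙 (K.restriction (embeddingUpIntLE n))) :=
  fun _ hj => (hj.false_of_isTruncLE).elim


/-- the projection `K → σ_{≤ n} K`. -/
noncomputable def piLE (K : Cx A) (n : ℤ) : K ⟶ sigmaLE K n :=
  (embeddingUpIntLE n).liftExtend (𝟙 (K.restriction (embeddingUpIntLE n))) (hasLift_id K n)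


lemma isZero_sigmaLE_X (K : Cx A) (n i : ℤ) (hi : n < i) : IsZero ((sigmaLE K n).X i) :=
  K.isZero_stupidTrunc_X _ i ((notMem_range_embeddingUpIntLE_iff n i).mpr hi)


lemma isIso_piLE_f (K : Cx A) (n i : ℤ) (hi : i ≤ n) : IsIso ((piLE K n).f i) := by
  have h : (embeddingUpIntLE n).f (n - i).toNat = i := by
    simp only [embeddingUpIntLE_f]
    omega
  exact ((embeddingUpIntLE n).isIso_liftExtend_f_iff _ (hasLift_id K n) h).mpr
    (by dsimp; infer_instance)


/-- the inclusion of the top term. -/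
noncomputable def iotaTop (K : Cx A) (b : ℤ) (hK : VanishesAbove K b) :
    (HomologicalComplex.single (ModuleCat.{u} A) (up ℤ) b).obj (K.X b) ⟶ K :=
  mkHomFromSingle (𝟙 (K.X b)) (fun k hk => (hK k (by simp at hk; omega)).eq_of_tgt _ _)


lemma iotaTop_piLE (K : Cx A) (b : ℤ) (hK : VanishesAbove K b) :
    iotaTop K b hK ≫ piLE K (b - 1) = 0 := by
  refine HomologicalComplex.hom_ext _ _ (fun i => ?_)
  by_cases hi : i = b
  · subst hi
    exact (isZero_sigmaLE_X K (i - 1) i (by omega)).eq_of_tgt _ _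
  · exact (isZero_single_obj_X (up ℤ) b (K.X b) i hi).eq_of_src _ _


/-- the short complex `K^b[-b] → K → σ_{≤ b-1}K`. -/
noncomputable def peelSC (K : Cx A) (b : ℤ) (hK : VanishesAbove K b) :
    ShortComplex (Cx A) :=
  ShortComplex.mk (iotaTop K b hK) (piLE K (b - 1)) (iotaTop_piLE K b hK)


lemma peelSC_shortExact (K : Cx A) (b : ℤ) (hK : VanishesAbove K b) :
    (peelSC K b hK).ShortExact := by
  apply HomologicalComplex.shortExact_of_degreewise_shortExact
  intro i
  by_cases hi : i = b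
  · subst hi
    have hz : IsZero (((peelSC K i hK).map (eval _ _ i)).X₃) :=
      isZero_sigmaLE_X K (i - 1) i (by omega)
    have hiso : IsIso ((peelSC K i hK).map (eval _ _ i)).f := by
      change IsIso ((iotaTop K i hK).f i)
      rw [iotaTop, mkHomFromSingle_f]
      infer_instance
    exact
      { exact := by
          rw [ShortComplex.exact_iff_epi _ (hz.eq_of_tgt _ _)]
          infer_instance
        mono_f := inferInstance
        epi_g := ⟨fun _ _ _ => hz.eq_of_src _ _⟩ }
  · have hz : IsZero (((peelSC K b hK).map (eval _ _ i)).X₁) :=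
      isZero_single_obj_X (up ℤ) b (K.X b) i hi
    have hiso : IsIso ((peelSC K b hK).map (eval _ _ i)).g := by
      change IsIso ((piLE K (b - 1)).f i)
      by_cases hib : i ≤ b - 1
      · exact isIso_piLE_f K (b - 1) i hib
      · exact ⟨0, (hK i (by omega)).eq_of_src _ _,
          (isZero_sigmaLE_X K (b - 1) i (by omega)).eq_of_src _ _⟩
    exact
      { exact := by
          rw [ShortComplex.exact_iff_mono _ (hz.eq_of_src _ _)]
          infer_instance
        mono_f := ⟨fun _ _ _ => hz.eq_of_tgt _ _⟩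
        epi_g := inferInstance }


/-- Peeling the top term: the distinguished triangle. -/
theorem exists_peel_top (K : Cx A) (b : ℤ) (hK : VanishesAbove K b) :
    ∃ (K' : Cx A) (π : K ⟶ K')
      (ι : (DerivedCategory.singleFunctor (ModuleCat.{u} A) b).obj (K.X b) ⟶ toD K)
      (δ : toD K' ⟶ ((DerivedCategory.singleFunctor (ModuleCat.{u} A) b).obj (K.X b))⟦(1 : ℤ)⟧),
      VanishesAbove K' (b - 1) ∧ (∀ i, i ≤ b - 1 → IsIso (π.f i)) ∧
        Triangle.mk ι (DerivedCategory.Q.map π) δ ∈ distTriang _ :=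
  ⟨sigmaLE K (b - 1), piLE K (b - 1), DerivedCategory.Q.map (iotaTop K b hK),
    DerivedCategory.triangleOfSESδ (peelSC_shortExact K b hK),
    fun i hi => isZero_sigmaLE_X K (b - 1) i hi, fun i hi => isIso_piLE_f K (b - 1) i hi,
    DerivedCategory.triangleOfSES_distinguished (peelSC_shortExact K b hK)⟩




open Pretriangulated DerivedCategory ZeroObject


/-- `K` is represented by a complex of finite free modules vanishing outside `[a,b]`. -/
def IsBFF (a b : ℤ) (K : DA A) : Prop :=
  ∃ E : Cx A, VanishesOutside E a b ∧ TermwiseFiniteFree E ∧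
    Nonempty (toD E ≅ K)


lemma IsBFF.of_iso {a b : ℤ} {K L : DA A} (e : K ≅ L) (h : IsBFF a b K) : IsBFF a b L := by
  obtain ⟨E, h1, h2, ⟨e'⟩⟩ := h
  exact ⟨E, h1, h2, ⟨e' ≪≫ e⟩⟩


lemma IsBFF.mono {a b a' b' : ℤ} {K : DA A} (ha : a' ≤ a) (hb : b ≤ b') (h : IsBFF a b K) :
    IsBFF a' b' K := by
  obtain ⟨E, h1, h2, ⟨e'⟩⟩ := h
  exact ⟨E, vanishesOutside_mono E ha hb h1, h2, ⟨e'⟩⟩


lemma IsBFF.shift {a b : ℤ} {K : DA A} (n : ℤ) (h : IsBFF a b K) :
    IsBFF (a - n) (b - n) (K⟦n⟧) := by
  obtain ⟨E, h1, h2, ⟨e'⟩⟩ := h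
  exact ⟨E⟦n⟧, shift_vanishesOutside E a b n h1, shift_termwiseFiniteFree E n h2,
    ⟨toDShiftIso E n ≪≫ (shiftFunctor (DA A) n).mapIso e'⟩⟩


lemma IsBFF.shift' {a b a' b' : ℤ} {K : DA A} (n : ℤ) (h : IsBFF a b K)
    (ha : a' = a - n) (hb : b' = b - n) : IsBFF a' b' (K⟦n⟧) := by
  subst ha hb
  exact h.shift n


lemma IsBFF.isKProjective {a b : ℤ} (E : Cx A) (h1 : VanishesOutside E a b)
    (h2 : TermwiseFiniteFree E) : E.IsKProjective :=
  isKProjective_of_vanishesAbove E b (fun i hi => h1 i (Or.inr hi))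
    (fun i => by have := (h2 i).2; infer_instance)


lemma IsBFF.obj₃ {a b : ℤ} (T : Triangle (DA A)) (hT : T ∈ distTriang _)
    (h1 : IsBFF (a + 1) (b + 1) T.obj₁) (h2 : IsBFF a b T.obj₂) : IsBFF a b T.obj₃ := by
  obtain ⟨E1, v1, p1, ⟨e1⟩⟩ := h1
  obtain ⟨E2, v2, p2, ⟨e2⟩⟩ := h2
  have : E1.IsKProjective := IsBFF.isKProjective E1 v1 p1
  obtain ⟨φ, ⟨e3⟩⟩ := exists_cone_iso T hT E1 E2 e1 e2
  exact ⟨_, cone_vanishesOutside φ a b v1 v2, cone_termwiseFiniteFree φ p1 p2, ⟨e3⟩⟩


lemma IsBFF.obj₂ {a b : ℤ} (T : Triangle (DA A)) (hT : T ∈ distTriang _)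
    (h1 : IsBFF a b T.obj₁) (h3 : IsBFF a b T.obj₃) : IsBFF a b T.obj₂ :=
  IsBFF.obj₃ T.invRotate (inv_rot_of_distTriang _ hT)
    (h3.shift' (-1) (by omega) (by omega)) h1


lemma termwiseFiniteFree_of_isZero (E : Cx A) (h : ∀ i, IsZero (E.X i)) :
    TermwiseFiniteFree E := by
  intro i
  have := ModuleCat.subsingleton_of_isZero (h i)
  exact ⟨Module.Finite.of_finite, Module.Free.of_subsingleton A _⟩


lemma IsBFF.of_isZero {a b : ℤ} {K : DA A} (h : IsZero K) : IsBFF a b K := by
  refine ⟨0, fun i _ => ?_, termwiseFiniteFree_of_isZero _ (fun i => ?_), ⟨?_⟩⟩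
  · exact Functor.map_isZero (HomologicalComplex.eval _ _ i) (isZero_zero _)
  · exact Functor.map_isZero (HomologicalComplex.eval _ _ i) (isZero_zero _)
  · exact (Functor.map_isZero DerivedCategory.Q (isZero_zero _)).iso h


lemma IsBFF.single (b : ℤ) (F : ModuleCat.{u} A) [Module.Finite A F] [Module.Free A F] :
    IsBFF b b ((DerivedCategory.singleFunctor (ModuleCat.{u} A) b).obj F) := by
  refine ⟨(HomologicalComplex.single _ _ b).obj F, fun i hi => ?_, fun i => ?_, ⟨Iso.refl _⟩⟩
  · exact HomologicalComplex.isZero_single_obj_X _ _ _ _ (by omega)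
  · by_cases hi : i = b
    · subst hi
      let e : ((HomologicalComplex.single (ModuleCat.{u} A) (ComplexShape.up ℤ) i).obj F).X i ≃ₗ[A] F :=
        (HomologicalComplex.singleObjXSelf (ComplexShape.up ℤ) i F).toLinearEquiv
      exact ⟨Module.Finite.equiv e.symm, Module.Free.of_equiv e.symm⟩
    · have := ModuleCat.subsingleton_of_isZero
        (HomologicalComplex.isZero_single_obj_X (ComplexShape.up ℤ) b F i hi)
      exact ⟨Module.Finite.of_finite, Module.Free.of_subsingleton A _⟩


/-- Peeling off the top term. -/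
lemma IsBFF.peel {a b : ℤ} {K : DA A} (h : IsBFF a b K) :
    ∃ (F : ModuleCat.{u} A) (K' : DA A)
      (ι : (DerivedCategory.singleFunctor (ModuleCat.{u} A) b).obj F ⟶ K) (π : K ⟶ K')
      (δ : K' ⟶ ((DerivedCategory.singleFunctor (ModuleCat.{u} A) b).obj F)⟦(1 : ℤ)⟧),
      Module.Finite A F ∧ Module.Free A F ∧ IsBFF a (b - 1) K' ∧
        Triangle.mk ι π δ ∈ distTriang _ := by
  obtain ⟨E, v, p, ⟨e⟩⟩ := h
  obtain ⟨E', π, ι, δ, v', hπ, hT⟩ := exists_peel_top E b (fun i hi => v i (Or.inr hi))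
  refine ⟨E.X b, toD E', ι ≫ e.hom, e.inv ≫ DerivedCategory.Q.map π, δ, (p b).1, (p b).2,
    ⟨E', ?_, ?_, ⟨Iso.refl _⟩⟩, ?_⟩
  · intro i hi
    by_cases hib : i ≤ b - 1
    · have := hπ i hib
      exact (v i (Or.inl (by omega))).of_iso (asIso (π.f i)).symm
    · exact v' i (by omega)
  · intro i
    by_cases hib : i ≤ b - 1
    · have := hπ i hib
      let e' : E.X i ≃ₗ[A] E'.X i := (asIso (π.f i)).toLinearEquiv
      obtain ⟨f1, f2⟩ := p i
      exact ⟨Module.Finite.equiv e', Module.Free.of_equiv e'⟩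
    · have := ModuleCat.subsingleton_of_isZero (v' i (by omega))
      exact ⟨Module.Finite.of_finite, Module.Free.of_subsingleton A _⟩
  · refine isomorphic_distinguished _ hT _ ?_
    exact Triangle.isoMk _ _ (Iso.refl _) e.symm (Iso.refl _)
      (by
        change (ι ≫ e.hom) ≫ e.inv = 𝟙 _ ≫ ι
        rw [Category.assoc, Iso.hom_inv_id, Category.comp_id, Category.id_comp])
      (by
        change (e.inv ≫ DerivedCategory.Q.map π) ≫ 𝟙 _ = e.inv ≫ DerivedCategory.Q.map π
        rw [Category.comp_id])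
      (by
        change δ ≫ (shiftFunctor (DA A) (1 : ℤ)).map (𝟙 _) = 𝟙 _ ≫ δ
        rw [CategoryTheory.Functor.map_id, Category.comp_id, Category.id_comp])





end Groth.Agent.Helper9.NCR
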