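import Mathlib
import Groth.Agent.Helper9.NCR1

/-!
# Approximations in the derived category of a (not necessarily commutative) ring

(adapted from the commutative version in `Helper3/DRingApprox`, `DRingDev`, `DRingPC`, `DRingPC2`).
-/

set_option autoImplicit false
set_option linter.style.haveILetI false
set_option linter.unusedSectionVars false
universe u
open CategoryTheory CategoryTheory.Limits

namespace Groth.Agent.Helper9.NCR

attribute [local instance] HasDerivedCategory.standard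

variable {A : Type u} [Ring A]


open Pretriangulated DerivedCategory


/-- `α` induces isomorphisms on `H^i` for `i > m` and an epimorphism on `H^m`. -/
def IsApprox (m : ℤ) {X K : DA A} (α : X ⟶ K) : Prop :=
  (∀ i : ℤ, m < i → IsIso ((homologyFunctor (ModuleCat.{u} A) i).map α)) ∧
    Epi ((homologyFunctor (ModuleCat.{u} A) m).map α)


lemma IsApprox.epi {m : ℤ} {X K : DA A} {α : X ⟶ K} (h : IsApprox m α) (i : ℤ) (hi : m ≤ i) :
    Epi ((homologyFunctor (ModuleCat.{u} A) i).map α) := by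
  rcases hi.eq_or_lt with rfl | hi
  · exact h.2
  · have := h.1 i hi
    infer_instance


lemma IsApprox.mono {m : ℤ} {X K : DA A} {α : X ⟶ K} (h : IsApprox m α) (i : ℤ) (hi : m < i) :
    Mono ((homologyFunctor (ModuleCat.{u} A) i).map α) := by
  have := h.1 i hi
  infer_instance


lemma isApprox_of_epi_mono {m : ℤ} {X K : DA A} {α : X ⟶ K}
    (he : ∀ i, m ≤ i → Epi ((homologyFunctor (ModuleCat.{u} A) i).map α))
    (hm : ∀ i, m < i → Mono ((homologyFunctor (ModuleCat.{u} A) i).map α)) : IsApprox m α := by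
  refine ⟨fun i hi => ?_, he m le_rfl⟩
  have := he i hi.le
  have := hm i hi
  exact isIso_of_mono_of_epi _


lemma isApprox_of_isIso (m : ℤ) {X K : DA A} (α : X ⟶ K) [IsIso α] : IsApprox m α :=
  ⟨fun _ _ => inferInstance, inferInstance⟩


lemma IsApprox.comp {m : ℤ} {X Y K : DA A} {α : X ⟶ Y} {β : Y ⟶ K} (h1 : IsApprox m α)
    (h2 : IsApprox m β) : IsApprox m (α ≫ β) := by
  refine ⟨fun i hi => ?_, ?_⟩
  · rw [Functor.map_comp]
    have := h1.1 i hi
    have := h2.1 i hi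
    infer_instance
  · rw [Functor.map_comp]
    have := h1.2
    have := h2.2
    exact epi_comp _ _


lemma IsApprox.of_le {m m' : ℤ} {X K : DA A} {α : X ⟶ K} (h : IsApprox m α) (hm : m ≤ m') :
    IsApprox m' α :=
  isApprox_of_epi_mono (fun i hi => h.epi i (by omega)) (fun i hi => h.mono i (by omega))


/-- `α` is an `m`-approximation iff its cone lies in `D^{≤ m-1}`. -/
lemma isApprox_iff_isLE (T : Triangle (DA A)) (hT : T ∈ distTriang _) (m : ℤ) :
    IsApprox m T.mor₁ ↔ T.obj₃.IsLE (m - 1) := by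
  constructor
  · intro h
    rw [DerivedCategory.isLE_iff]
    intro i hi
    have h1 : (homologyFunctor (ModuleCat.{u} A) i).map T.mor₂ = 0 :=
      (HomologySequence.epi_homologyMap_mor₁_iff _ hT i).mp (h.epi i (by omega))
    have h2 : HomologySequence.δ T i (i + 1) rfl = 0 :=
      (HomologySequence.mono_homologyMap_mor₁_iff _ hT i (i + 1) rfl).mp (h.mono (i + 1) (by omega))
    have hex := HomologySequence.exact₃ _ hT i (i + 1) rfl
    rw [ShortComplex.exact_iff_mono _ h1] at hex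
    change Mono (HomologySequence.δ T i (i + 1) rfl) at hex
    rw [h2] at hex
    exact IsZero.of_mono_zero _ ((homologyFunctor (ModuleCat.{u} A) (i + 1)).obj T.obj₁)
  · intro h
    apply isApprox_of_epi_mono
    · intro i hi
      exact (HomologySequence.epi_homologyMap_mor₁_iff _ hT i).mpr
        ((T.obj₃.isZero_of_isLE (m - 1) i (by omega)).eq_of_tgt _ _)
    · intro i hi
      exact (HomologySequence.mono_homologyMap_mor₁_iff _ hT (i - 1) i (by omega)).mpr
        ((T.obj₃.isZero_of_isLE (m - 1) (i - 1) (by omega)).eq_of_src _ _)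



lemma four_epi {M₁ M₂ M₃ M₄ N₁ N₂ N₃ N₄ : ModuleCat.{u} A}
    (f₁ : M₁ ⟶ M₂) (f₂ : M₂ ⟶ M₃) (f₃ : M₃ ⟶ M₄) (g₁ : N₁ ⟶ N₂) (g₂ : N₂ ⟶ N₃) (g₃ : N₃ ⟶ N₄)
    (a : M₁ ⟶ N₁) (b : M₂ ⟶ N₂) (c : M₃ ⟶ N₃) (d : M₄ ⟶ N₄)
    (c₁ : f₁ ≫ b = a ≫ g₁) (c₂ : f₂ ≫ c = b ≫ g₂) (c₃ : f₃ ≫ d = c ≫ g₃)
    (wM : f₂ ≫ f₃ = 0) (eM : (ShortComplex.mk f₂ f₃ wM).Exact)
    (wN : g₁ ≫ g₂ = 0) (eN : (ShortComplex.mk g₁ g₂ wN).Exact) (wN' : g₂ ≫ g₃ = 0)
    (ha : Epi a) (hc : Epi c) (hd : Mono d) : Epi b := by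
  rw [ModuleCat.epi_iff_surjective] at ha hc ⊢
  rw [ModuleCat.mono_iff_injective] at hd
  rw [ShortComplex.moduleCat_exact_iff] at eM eN
  intro y
  obtain ⟨x₃, hx₃⟩ := hc (g₂ y)
  have h1 : f₃ x₃ = 0 := by
    apply hd
    have := congr($c₃ x₃)
    simp only [ModuleCat.comp_apply] at this
    rw [this, hx₃, map_zero]
    have := congr($wN' y)
    simpa using this
  obtain ⟨x₂, hx₂⟩ := eM x₃ h1
  dsimp at hx₂
  have h2 : g₂ (y - b x₂) = 0 := by
    have := congr($c₂ x₂)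
    simp only [ModuleCat.comp_apply] at this
    rw [map_sub, ← this, hx₂, hx₃, sub_self]
  obtain ⟨z, hz⟩ := eN (y - b x₂) h2
  dsimp at hz
  obtain ⟨x₁, rfl⟩ := ha z
  refine ⟨x₂ + f₁ x₁, ?_⟩
  have := congr($c₁ x₁)
  simp only [ModuleCat.comp_apply] at this
  rw [map_add, this, hz]
  abel


lemma four_mono {M₁ M₂ M₃ M₄ N₁ N₂ N₃ N₄ : ModuleCat.{u} A}
    (f₁ : M₁ ⟶ M₂) (f₂ : M₂ ⟶ M₃) (f₃ : M₃ ⟶ M₄) (g₁ : N₁ ⟶ N₂) (g₂ : N₂ ⟶ N₃) (g₃ : N₃ ⟶ N₄)
    (a : M₁ ⟶ N₁) (b : M₂ ⟶ N₂) (c : M₃ ⟶ N₃) (d : M₄ ⟶ N₄)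
    (c₁ : f₁ ≫ b = a ≫ g₁) (c₂ : f₂ ≫ c = b ≫ g₂) (c₃ : f₃ ≫ d = c ≫ g₃)
    (wM : f₂ ≫ f₃ = 0) (eM : (ShortComplex.mk f₂ f₃ wM).Exact)
    (wN : g₁ ≫ g₂ = 0) (eN : (ShortComplex.mk g₁ g₂ wN).Exact) (wM' : f₁ ≫ f₂ = 0)
    (ha : Epi a) (hb : Mono b) (hd : Mono d) : Mono c := by
  rw [ModuleCat.epi_iff_surjective] at ha
  rw [ModuleCat.mono_iff_injective] at hb hd ⊢
  rw [ShortComplex.moduleCat_exact_iff] at eM eN
  rw [injective_iff_map_eq_zero]
  intro x₃ hx₃
  have h1 : f₃ x₃ = 0 := by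
    apply hd
    have := congr($c₃ x₃)
    simp only [ModuleCat.comp_apply] at this
    rw [this, hx₃, map_zero, map_zero]
  obtain ⟨x₂, hx₂⟩ := eM x₃ h1
  dsimp at hx₂
  have h2 : g₂ (b x₂) = 0 := by
    have := congr($c₂ x₂)
    simp only [ModuleCat.comp_apply] at this
    rw [← this, hx₂, hx₃]
  obtain ⟨z, hz⟩ := eN (b x₂) h2
  dsimp at hz
  obtain ⟨x₁, rfl⟩ := ha z
  have h3 : x₂ = f₁ x₁ := by
    apply hb
    have := congr($c₁ x₁)
    simp only [ModuleCat.comp_apply] at this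
    rw [this, hz]
  rw [← hx₂, h3]
  have := congr($wM' x₁)
  simpa using this


lemma δ_naturality (T T' : Triangle (DA A)) (φ : T ⟶ T') (i j : ℤ) (h : i + 1 = j) :
    HomologySequence.δ T i j h ≫ (homologyFunctor (ModuleCat.{u} A) j).map φ.hom₁ =
      (homologyFunctor (ModuleCat.{u} A) i).map φ.hom₃ ≫ HomologySequence.δ T' i j h :=
  ((homologyFunctor (ModuleCat.{u} A) 0).homologySequenceδ_naturality T T' φ i j h).symm


lemma epi_mid (T T' : Triangle (DA A)) (hT : T ∈ distTriang _) (hT' : T' ∈ distTriang _)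
    (φ : T ⟶ T') (i : ℤ)
    (h1 : Epi ((homologyFunctor (ModuleCat.{u} A) i).map φ.hom₁))
    (h3 : Epi ((homologyFunctor (ModuleCat.{u} A) i).map φ.hom₃))
    (h1' : Mono ((homologyFunctor (ModuleCat.{u} A) (i + 1)).map φ.hom₁)) :
    Epi ((homologyFunctor (ModuleCat.{u} A) i).map φ.hom₂) :=
  four_epi _ _ _ _ _ _ _ _ _ _
    (by rw [← Functor.map_comp, ← Functor.map_comp, φ.comm₁])
    (by rw [← Functor.map_comp, ← Functor.map_comp, φ.comm₂])
    (δ_naturality T T' φ i (i + 1) rfl)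
    _ (HomologySequence.exact₃ T hT i (i + 1) rfl)
    _ (HomologySequence.exact₂ T' hT' i)
    (HomologySequence.comp_δ T' hT' i (i + 1) rfl) h1 h3 h1'


lemma mono_mid (T T' : Triangle (DA A)) (hT : T ∈ distTriang _) (hT' : T' ∈ distTriang _)
    (φ : T ⟶ T') (j i : ℤ) (hji : j + 1 = i)
    (h3 : Epi ((homologyFunctor (ModuleCat.{u} A) j).map φ.hom₃))
    (h1 : Mono ((homologyFunctor (ModuleCat.{u} A) i).map φ.hom₁))
    (h3' : Mono ((homologyFunctor (ModuleCat.{u} A) i).map φ.hom₃)) :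
    Mono ((homologyFunctor (ModuleCat.{u} A) i).map φ.hom₂) :=
  four_mono _ _ _ _ _ _ _ _ _ _
    (δ_naturality T T' φ j i hji)
    (by rw [← Functor.map_comp, ← Functor.map_comp, φ.comm₁])
    (by rw [← Functor.map_comp, ← Functor.map_comp, φ.comm₂])
    _ (HomologySequence.exact₂ T hT i)
    _ (HomologySequence.exact₁ T' hT' j i hji)
    (HomologySequence.δ_comp T hT j i hji) h3 h1 h3'


/-- In a morphism of distinguished triangles, if the outer maps are `m`-approximations then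
so is the middle one. -/
lemma IsApprox.mid (T T' : Triangle (DA A)) (hT : T ∈ distTriang _) (hT' : T' ∈ distTriang _)
    (φ : T ⟶ T') (m : ℤ) (h1 : IsApprox m φ.hom₁) (h3 : IsApprox m φ.hom₃) :
    IsApprox m φ.hom₂ :=
  isApprox_of_epi_mono
    (fun i hi => epi_mid T T' hT hT' φ i (h1.epi i hi) (h3.epi i hi) (h1.mono (i + 1) (by omega)))
    (fun i hi => mono_mid T T' hT hT' φ (i - 1) i (by omega) (h3.epi (i - 1) (by omega))
      (h1.mono i hi) (h3.mono i hi))


lemma epi_map_iff_of_natIso {C D : Type*} [Category C] [Category D] {F₁ F₂ : C ⥤ D}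
    (e : F₁ ≅ F₂) {X Y : C} (f : X ⟶ Y) : Epi (F₁.map f) ↔ Epi (F₂.map f) := by
  have h1 : F₂.map f = e.inv.app X ≫ F₁.map f ≫ e.hom.app Y := by simp
  have h2 : F₁.map f = e.hom.app X ≫ F₂.map f ≫ e.inv.app Y := by simp
  constructor
  · intro h; rw [h1]; infer_instance
  · intro h; rw [h2]; infer_instance


lemma mono_map_iff_of_natIso {C D : Type*} [Category C] [Category D] {F₁ F₂ : C ⥤ D}
    (e : F₁ ≅ F₂) {X Y : C} (f : X ⟶ Y) : Mono (F₁.map f) ↔ Mono (F₂.map f) := by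
  have h1 : F₂.map f = e.inv.app X ≫ F₁.map f ≫ e.hom.app Y := by simp
  have h2 : F₁.map f = e.hom.app X ≫ F₂.map f ≫ e.inv.app Y := by simp
  constructor
  · intro h; rw [h1]; infer_instance
  · intro h; rw [h2]; infer_instance


/-- the natural isomorphism `H^i(K⟦n⟧) ≅ H^{n+i}(K)`. -/
noncomputable def homologyShiftNatIso (n i j : ℤ) (h : n + i = j) :
    shiftFunctor (DA A) n ⋙ homologyFunctor (ModuleCat.{u} A) i ≅
      homologyFunctor (ModuleCat.{u} A) j :=
  (homologyFunctor (ModuleCat.{u} A) 0).shiftIso n i j h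


lemma isIso_homology_shift_iff {X K : DA A} (α : X ⟶ K) (n i j : ℤ) (h : n + i = j) :
    IsIso ((homologyFunctor (ModuleCat.{u} A) i).map (α⟦n⟧')) ↔
      IsIso ((homologyFunctor (ModuleCat.{u} A) j).map α) :=
  NatIso.isIso_map_iff (homologyShiftNatIso n i j h) α


lemma epi_homology_shift_iff {X K : DA A} (α : X ⟶ K) (n i j : ℤ) (h : n + i = j) :
    Epi ((homologyFunctor (ModuleCat.{u} A) i).map (α⟦n⟧')) ↔
      Epi ((homologyFunctor (ModuleCat.{u} A) j).map α) :=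
  epi_map_iff_of_natIso (homologyShiftNatIso n i j h) α


lemma mono_homology_shift_iff {X K : DA A} (α : X ⟶ K) (n i j : ℤ) (h : n + i = j) :
    Mono ((homologyFunctor (ModuleCat.{u} A) i).map (α⟦n⟧')) ↔
      Mono ((homologyFunctor (ModuleCat.{u} A) j).map α) :=
  mono_map_iff_of_natIso (homologyShiftNatIso n i j h) α


lemma isApprox_shift_iff {X K : DA A} (α : X ⟶ K) (n m m' : ℤ) (h : n + m' = m) :
    IsApprox m' (α⟦n⟧') ↔ IsApprox m α := by
  constructor
  · intro H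
    refine ⟨fun i hi => ?_, ?_⟩
    · exact (isIso_homology_shift_iff α n (i - n) i (by omega)).mp (H.1 (i - n) (by omega))
    · exact (epi_homology_shift_iff α n m' m h).mp H.2
  · intro H
    refine ⟨fun i hi => ?_, ?_⟩
    · exact (isIso_homology_shift_iff α n i (n + i) rfl).mpr (H.1 (n + i) (by omega))
    · exact (epi_homology_shift_iff α n m' m h).mpr H.2


/-- In a morphism of distinguished triangles, if the first map is an `(m+1)`-approximation and
the second an `m`-approximation then the third is an `m`-approximation. -/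
lemma IsApprox.third (T T' : Triangle (DA A)) (hT : T ∈ distTriang _) (hT' : T' ∈ distTriang _)
    (φ : T ⟶ T') (m : ℤ) (h1 : IsApprox (m + 1) φ.hom₁) (h2 : IsApprox m φ.hom₂) :
    IsApprox m φ.hom₃ :=
  IsApprox.mid T.rotate T'.rotate (rot_of_distTriang _ hT) (rot_of_distTriang _ hT')
    ((Pretriangulated.rotate _).map φ) m h2
    ((isApprox_shift_iff φ.hom₁ 1 (m + 1) m (by omega)).mpr h1)


/-- In a morphism of distinguished triangles, if the second map is an `(m+1)`-approximation and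
the third an `m`-approximation then the first is an `(m+1)`-approximation. -/
lemma IsApprox.first (T T' : Triangle (DA A)) (hT : T ∈ distTriang _) (hT' : T' ∈ distTriang _)
    (φ : T ⟶ T') (m : ℤ) (h2 : IsApprox (m + 1) φ.hom₂) (h3 : IsApprox m φ.hom₃) :
    IsApprox (m + 1) φ.hom₁ :=
  IsApprox.mid T.invRotate T'.invRotate (inv_rot_of_distTriang _ hT) (inv_rot_of_distTriang _ hT')
    ((Pretriangulated.invRotate _).map φ) (m + 1)
    ((isApprox_shift_iff φ.hom₃ (-1) m (m + 1) (by omega)).mpr h3) h2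




open Pretriangulated DerivedCategory


/-- `single_m(M) ≅ M[0]⟦-m⟧` -/
noncomputable def singleShiftIso (M : ModuleCat.{u} A) (m : ℤ) :
    ((singleFunctor (ModuleCat.{u} A) 0).obj M)⟦-m⟧ ≅ (singleFunctor (ModuleCat.{u} A) m).obj M :=
  ((singleFunctors (ModuleCat.{u} A)).shiftIso (-m) m 0 (by omega)).app M


/-- An object concentrated in one cohomological degree `m` is `H^m[-m]`. -/
lemma exists_iso_single_HD (Z : DA A) (m : ℤ) [Z.IsGE m] [Z.IsLE m] :
    Nonempty (Z ≅ (inD A (HD A Z m))⟦-m⟧) := by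
  obtain ⟨Y, ⟨eY⟩⟩ := exists_iso_singleFunctor_obj_of_isGE_of_isLE Z m
  let eH : Y ≅ (homologyFunctor (ModuleCat.{u} A) m).obj Z :=
    ((singleFunctorCompHomologyFunctorIso (ModuleCat.{u} A) m).app Y).symm ≪≫
      ((homologyFunctor (ModuleCat.{u} A) m).mapIso eY).symm
  exact ⟨eY ≪≫ (singleFunctor (ModuleCat.{u} A) m).mapIso eH ≪≫ (singleShiftIso _ m).symm⟩


/-- For a distinguished triangle `X → K → Y` with `X ∈ D^{≤n}`, `Y ∈ D^{≥n+1}`:
`H^i(X) ≅ H^i(K)` for `i ≤ n`. -/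
lemma isIso_HD_mor₁ (T : Triangle (DA A)) (hT : T ∈ distTriang _) (n : ℤ)
    [T.obj₃.IsGE (n + 1)] (i : ℤ) (hi : i ≤ n) :
    IsIso ((homologyFunctor (ModuleCat.{u} A) i).map T.mor₁) := by
  have hm : Mono ((homologyFunctor (ModuleCat.{u} A) i).map T.mor₁) :=
    (HomologySequence.mono_homologyMap_mor₁_iff _ hT (i - 1) i (by omega)).mpr
      ((T.obj₃.isZero_of_isGE (n + 1) (i - 1) (by omega)).eq_of_src _ _)
  have he : Epi ((homologyFunctor (ModuleCat.{u} A) i).map T.mor₁) :=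
    (HomologySequence.epi_homologyMap_mor₁_iff _ hT i).mpr
      ((T.obj₃.isZero_of_isGE (n + 1) i (by omega)).eq_of_tgt _ _)
  exact isIso_of_mono_of_epi _


/-- `H^i(K) ≅ H^i(Y)` for `i ≥ n+1`. -/
lemma isIso_HD_mor₂ (T : Triangle (DA A)) (hT : T ∈ distTriang _) (n : ℤ)
    [T.obj₁.IsLE n] (i : ℤ) (hi : n + 1 ≤ i) :
    IsIso ((homologyFunctor (ModuleCat.{u} A) i).map T.mor₂) := by
  have hm : Mono ((homologyFunctor (ModuleCat.{u} A) i).map T.mor₂) :=
    (HomologySequence.mono_homologyMap_mor₂_iff _ hT i).mpr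
      ((T.obj₁.isZero_of_isLE n i (by omega)).eq_of_src _ _)
  have he : Epi ((homologyFunctor (ModuleCat.{u} A) i).map T.mor₂) :=
    (HomologySequence.epi_homologyMap_mor₂_iff _ hT i (i + 1) rfl).mpr
      ((T.obj₁.isZero_of_isLE n (i + 1) (by omega)).eq_of_tgt _ _)
  exact isIso_of_mono_of_epi _


open Pretriangulated DerivedCategory ZeroObject


lemma isZero_toD_of_isZero (E : Cx A) (h : ∀ i, IsZero (E.X i)) : IsZero (toD E) := by
  have : IsZero E := by
    rw [IsZero.iff_id_eq_zero]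
    refine HomologicalComplex.hom_ext _ _ (fun i => ?_)
    exact (h i).eq_of_src _ _
  exact Functor.map_isZero _ this


lemma IsBFF.isLE {a b : ℤ} {X : DA A} (h : IsBFF a b X) : X.IsLE b := by
  obtain ⟨E, h1, h2, ⟨e⟩⟩ := h
  have := isStrictlyLE_of_vanishesOutside E a b h1
  have : (toD E).IsLE b := inferInstanceAs ((DerivedCategory.Q.obj E).IsLE b)
  exact TStructure.t.isLE_of_iso e b


lemma IsBFF.isZero_of_lt {a b : ℤ} {X : DA A} (h : IsBFF a b X) (hab : b < a) : IsZero X := by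
  obtain ⟨E, h1, h2, ⟨e⟩⟩ := h
  refine (isZero_toD_of_isZero E (fun i => h1 i ?_)).of_iso e.symm
  omega


open Pretriangulated DerivedCategory ZeroObject


lemma isIso_of_isZero' {C : Type*} [Category C] [HasZeroMorphisms C] {X Y : C} (f : X ⟶ Y)
    (hX : IsZero X) (hY : IsZero Y) : IsIso f :=
  ⟨0, hX.eq_of_src _ _, hY.eq_of_src _ _⟩


lemma IsBFF.hom_eq_zero {a b : ℤ} {X : DA A} (h : IsBFF a b X) (K : DA A) (n : ℤ)
    (hn : n < a) [K.IsLE n] (f : X ⟶ K) : f = 0 := by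
  obtain ⟨E, v, p, ⟨e⟩⟩ := h
  have : E.IsKProjective := IsBFF.isKProjective E v p
  rw [← cancel_epi e.hom, comp_zero]
  exact hom_eq_zero_of_isLE E a (fun i hi => v i (Or.inl hi)) _ n hn _


/-- An object of `D^{≤ m}` with finitely generated `H^m` admits an `m`-approximation by a finite
free module placed in degree `m`. -/
theorem exists_single_approx (K : DA A) (m : ℤ) [K.IsLE m]
    (h : Module.Finite A (HD A K m)) :
    ∃ (n : ℕ) (α : (inD A (Fin n → A))⟦-m⟧ ⟶ K), IsApprox m α := by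
  obtain ⟨X, Y, hX, hY, f, g, δ, hT⟩ := TStructure.t.exists_triangle K (m - 1) m (by omega)
  have iX : X.IsLE (m - 1) := ⟨hX⟩
  have iY : Y.IsGE m := ⟨hY⟩
  have iX' : (Triangle.mk f g δ).obj₁.IsLE (m - 1) := iX
  have hg : ∀ i, m ≤ i → IsIso ((homologyFunctor (ModuleCat.{u} A) i).map g) :=
    fun i hi => isIso_HD_mor₂ _ hT (m - 1) i (by omega)
  have iYm : Y.IsLE m := by
    rw [DerivedCategory.isLE_iff]
    intro i hi
    have := hg i hi.le
    exact (K.isZero_of_isLE m i hi).of_iso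
      (asIso ((homologyFunctor (ModuleCat.{u} A) i).map g)).symm
  obtain ⟨e⟩ := exists_iso_single_HD Y m
  obtain ⟨n, p, hp⟩ := Module.Finite.exists_fin' A (HD A K m)
  have hgm := hg m le_rfl
  let p' : ModuleCat.of A (Fin n → A) ⟶ ModuleCat.of A (HD A Y m) :=
    ModuleCat.ofHom p ≫ (homologyFunctor (ModuleCat.{u} A) m).map g
  have hp' : Epi p' := by
    have : Epi (ModuleCat.ofHom p) := (ModuleCat.epi_iff_surjective _).mpr hp
    exact epi_comp _ _
  let s := (singleFunctor (ModuleCat.{u} A) 0).map p'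
  let φ : (inD A (Fin n → A))⟦-m⟧ ⟶ Y := s⟦-m⟧' ≫ e.inv
  have hXF : IsBFF m m ((inD A (Fin n → A))⟦-m⟧) :=
    (IsBFF.single 0 (ModuleCat.of A (Fin n → A))).shift' (-m) (by omega) (by omega)
  have iX1 : (X⟦(1 : ℤ)⟧).IsLE (m - 2) := TStructure.t.isLE_shift X (m - 1) 1 (m - 2) (by omega)
  have hφδ : φ ≫ δ = 0 := hXF.hom_eq_zero (X⟦(1 : ℤ)⟧) (m - 2) (by omega) _
  obtain ⟨(α : (inD A (Fin n → A))⟦-m⟧ ⟶ K), hα⟩ := Triangle.coyoneda_exact₃ _ hT φ hφδ
  refine ⟨n, α, ?_⟩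
  have iXF := hXF.isLE
  refine ⟨fun i hi => isIso_of_isZero' _ (((inD A (Fin n → A))⟦-m⟧).isZero_of_isLE m i hi) (K.isZero_of_isLE m i hi), ?_⟩
  have h1 : (homologyFunctor (ModuleCat.{u} A) m).map α ≫
      (homologyFunctor (ModuleCat.{u} A) m).map g =
        (homologyFunctor (ModuleCat.{u} A) m).map (s⟦-m⟧') ≫
          (homologyFunctor (ModuleCat.{u} A) m).map e.inv := by
    rw [← Functor.map_comp, ← Functor.map_comp]
    congr 1
    exact hα.symm
  have h2 : Epi ((homologyFunctor (ModuleCat.{u} A) m).map (s⟦-m⟧')) := by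
    rw [epi_homology_shift_iff s (-m) m 0 (by omega)]
    exact (epi_map_iff_of_natIso (singleFunctorCompHomologyFunctorIso (ModuleCat.{u} A) 0) p').mpr hp'
  have h3 : Epi ((homologyFunctor (ModuleCat.{u} A) m).map α ≫
      (homologyFunctor (ModuleCat.{u} A) m).map g) := by
    rw [h1]
    exact epi_comp _ _
  have h4 : (homologyFunctor (ModuleCat.{u} A) m).map α =
      ((homologyFunctor (ModuleCat.{u} A) m).map α ≫
        (homologyFunctor (ModuleCat.{u} A) m).map g) ≫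
          inv ((homologyFunctor (ModuleCat.{u} A) m).map g) := by simp
  rw [h4]
  exact epi_comp _ _



end Groth.Agent.Helper9.NCR
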