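import Mathlib
import Groth.Prelude.Def_DRing2
import Groth.Agent.Helper9.NCR1
import Groth.Agent.Helper9.NCR2
import Groth.Agent.Helper9.NCR3
import Groth.Agent.Helper3.DRingCone
import Groth.Agent.Helper3.DRingRes
import Groth.Agent.Helper3.DRingPC3

/-!
# Pseudo-coherence over a finite free (possibly noncommutative) algebra
-/

set_option autoImplicit false
set_option linter.style.haveILetI false
set_option linter.unusedSectionVars false
universe w₁ w₂ v₁ v₂ u₁ u₂ u
open CategoryTheory CategoryTheory.Limits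

namespace Groth.Agent.Helper9.NCR

section General

open DerivedCategory

variable {C₁ : Type u₁} [Category.{v₁} C₁] [Abelian C₁] [HasDerivedCategory.{w₁} C₁]
  {C₂ : Type u₂} [Category.{v₂} C₂] [Abelian C₂] [HasDerivedCategory.{w₂} C₂]
  (F : C₁ ⥤ C₂) [F.Additive] [PreservesFiniteLimits F] [PreservesFiniteColimits F]

/-- an exact functor commutes with cohomology of objects of the derived category -/
theorem nonempty_homologyIso (X : DerivedCategory C₁) (i : ℤ) :
    Nonempty ((homologyFunctor C₂ i).obj (F.mapDerivedCategory.obj X) ≅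
      F.obj ((homologyFunctor C₁ i).obj X)) := by
  obtain ⟨K, ⟨eK⟩⟩ : ∃ K, Nonempty (Q.obj K ≅ X) := ⟨_, ⟨Q.objObjPreimageIso X⟩⟩
  have e1 : (homologyFunctor C₂ i).obj (F.mapDerivedCategory.obj X) ≅
      (homologyFunctor C₂ i).obj (Q.obj ((F.mapHomologicalComplex (ComplexShape.up ℤ)).obj K)) :=
    (homologyFunctor C₂ i).mapIso (F.mapDerivedCategory.mapIso eK.symm ≪≫
      F.mapDerivedCategoryFactors.app K)
  have e2 : (homologyFunctor C₂ i).obj (Q.obj ((F.mapHomologicalComplex (ComplexShape.up ℤ)).obj K)) ≅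
      ((F.mapHomologicalComplex (ComplexShape.up ℤ)).obj K).homology i :=
    (homologyFunctorFactors C₂ i).app _
  have e3 : ((F.mapHomologicalComplex (ComplexShape.up ℤ)).obj K).homology i ≅
      F.obj (K.homology i) := (K.sc i).mapHomologyIso F
  have e4 : K.homology i ≅ (homologyFunctor C₁ i).obj X :=
    ((homologyFunctorFactors C₁ i).app K).symm ≪≫ (homologyFunctor C₁ i).mapIso eK
  exact ⟨e1 ≪≫ e2 ≪≫ e3 ≪≫ F.mapIso e4⟩

end General

attribute [local instance] HasDerivedCategory.standard

open Pretriangulated DerivedCategory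

variable (A : Type u) [CommRing A] (R : Type u) [Ring R] [Algebra A R]

/-- restriction of scalars -/
noncomputable abbrev G : ModuleCat.{u} R ⥤ ModuleCat.{u} A :=
  ModuleCat.restrictScalars.{u} (algebraMap A R)

variable {A R}

lemma isZero_G_iff (M : ModuleCat.{u} R) : IsZero ((G A R).obj M) ↔ IsZero M := by
  rw [ModuleCat.isZero_iff_subsingleton, ModuleCat.isZero_iff_subsingleton]
  rfl

lemma finite_of_finite_G (N : ModuleCat.{u} R) (h : Module.Finite A ((G A R).obj N)) :
    Module.Finite R N := by
  obtain ⟨s, hs⟩ := h.fg_top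
  let s' : Finset N := s
  have key : ∀ x : (G A R).obj N,
      x ∈ Submodule.span A (s : Set ((G A R).obj N)) →
      (show N from x) ∈ Submodule.span R (s' : Set N) := by
    intro x hx
    induction hx using Submodule.span_induction with
    | mem y hy => exact Submodule.subset_span hy
    | zero => exact Submodule.zero_mem _
    | add y z _ _ hy hz => exact Submodule.add_mem _ hy hz
    | smul c y _ hy =>
      have : c • y = (algebraMap A R c) • (show N from y) :=
        ModuleCat.restrictScalars.smul_def (algebraMap A R) c y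
      rw [this]
      exact Submodule.smul_mem _ _ hy
  refine ⟨⟨s', ?_⟩⟩
  rw [eq_top_iff]
  intro x _
  exact key x (by rw [hs]; trivial)

/-- the restriction of `R^n` is `R^n` -/
def piEquiv (n : ℕ) : ((G A R).obj (ModuleCat.of R (Fin n → R))) ≃ₗ[A] (Fin n → R) where
  toFun := fun x => x
  invFun := fun x => x
  map_add' := fun _ _ => rfl
  map_smul' := fun a x => by
    have : a • x = (algebraMap A R a) • (show (Fin n → R) from x) :=
      ModuleCat.restrictScalars.smul_def (algebraMap A R) a x
    rw [this]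
    ext i
    simp [Algebra.smul_def]
  left_inv := fun _ => rfl
  right_inv := fun _ => rfl

lemma finite_free_G [Module.Finite A R] [Module.Free A R] (M : ModuleCat.{u} R)
    (h1 : Module.Finite R M) (h2 : Module.Free R M) :
    Module.Finite A ((G A R).obj M) ∧ Module.Free A ((G A R).obj M) := by
  obtain ⟨n, ⟨b⟩⟩ : ∃ n : ℕ, Nonempty (Module.Basis (Fin n) R M) := by
    by_cases hR : Nontrivial R
    · let b₀ := Module.Free.chooseBasis R M
      haveI : Finite (Module.Free.ChooseBasisIndex R M) := Module.Finite.finite_basis b₀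
      exact ⟨_, ⟨b₀.reindex (Finite.equivFin _)⟩⟩
    · rw [not_nontrivial_iff_subsingleton] at hR
      haveI : Subsingleton M := Module.subsingleton R M
      exact ⟨0, ⟨Module.Basis.empty M⟩⟩
  let e : M ≃ₗ[R] (Fin n → R) := b.equivFun
  let e' : (G A R).obj M ≅ (G A R).obj (ModuleCat.of R (Fin n → R)) :=
    (G A R).mapIso e.toModuleIso
  let e'' : ((G A R).obj M) ≃ₗ[A] (Fin n → R) := e'.toLinearEquiv ≪≫ₗ piEquiv n
  exact ⟨Module.Finite.equiv e''.symm, Module.Free.of_equiv e''.symm⟩

variable [PreservesFiniteLimits (G A R)] [PreservesFiniteColimits (G A R)]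

lemma isLE_iff (X : DA R) (n : ℤ) : ((G A R).mapDerivedCategory.obj X).IsLE n ↔ X.IsLE n := by
  rw [DerivedCategory.isLE_iff, DerivedCategory.isLE_iff]
  refine forall_congr' (fun i => forall_congr' (fun _ => ?_))
  obtain ⟨e⟩ := nonempty_homologyIso (G A R) X i
  rw [e.isZero_iff, isZero_G_iff]

/-- the restriction of a bounded above complex of finite free modules is pseudo-coherent -/
lemma isPseudoCoherent'_of_bff [Module.Finite A R] [Module.Free A R] (E : Cx R) (b : ℤ)
    (hv : VanishesAbove E b) (hff : TermwiseFiniteFree E) :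
    DRing.IsPseudoCoherent' A ((G A R).mapDerivedCategory.obj (toD E)) := by
  refine ⟨((G A R).mapHomologicalComplex (ComplexShape.up ℤ)).obj E, b, ?_, ?_,
    ⟨((G A R).mapDerivedCategoryFactors.app E).symm⟩⟩
  · intro i hi
    exact (isZero_G_iff (E.X i)).mpr (hv i hi)
  · intro i
    exact finite_free_G (E.X i) (hff i).1 (hff i).2

open Groth.Agent.Helper3.DRingLib in
lemma finCond [Module.Finite A R] [Module.Free A R] (K' : Cx R)
    (hK : DRing.IsPseudoCoherent' A ((G A R).mapDerivedCategory.obj (toD K'))) :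
    FinCond K' := by
  intro E a b α X f h m hvan hff hT hX
  have hT' := (G A R).mapDerivedCategory.map_distinguished _ hT
  have h2 : DRing.IsPseudoCoherent' A ((G A R).mapDerivedCategory.obj (toD E)) :=
    isPseudoCoherent'_of_bff E b (fun i hi => hvan i (Or.inr hi)) hff
  have h1 : DRing.IsPseudoCoherent' A ((G A R).mapDerivedCategory.obj X) :=
    isPseudoCoherent'_obj₁ _ hT' h2 hK
  haveI : ((G A R).mapDerivedCategory.obj X).IsLE m := (isLE_iff X m).mpr hX
  have hfin : Module.Finite A (Dual.HD A ((G A R).mapDerivedCategory.obj X) m) :=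
    finite_HD_of_isPseudoCoherent _ m (isPseudoCoherent_of_isPseudoCoherent' h1 m)
  obtain ⟨e⟩ := nonempty_homologyIso (G A R) X m
  exact finite_of_finite_G _ (Module.Finite.equiv e.toLinearEquiv)

open Groth.Agent.Helper3.DRingLib in
theorem main [Module.Finite A R] [Module.Free A R] (M : DA R)
    (hM : DRing.IsPseudoCoherent' A ((G A R).mapDerivedCategory.obj M)) :
    ∃ (F : CochainComplex (ModuleCat.{u} R) ℤ) (b : ℤ), (∀ i : ℤ, b < i → IsZero (F.X i)) ∧
      (∀ i : ℤ, Module.Finite R (F.X i) ∧ Module.Free R (F.X i)) ∧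
      Nonempty (DerivedCategory.Q.obj F ≅ M) := by
  let K' : Cx R := DerivedCategory.Q.objPreimage M
  let e : toD K' ≅ M := DerivedCategory.Q.objObjPreimageIso M
  have hK : DRing.IsPseudoCoherent' A ((G A R).mapDerivedCategory.obj (toD K')) :=
    isPseudoCoherent'_of_iso ((G A R).mapDerivedCategory.mapIso e.symm) hM
  obtain ⟨b, hb⟩ : ∃ b : ℤ, (toD K').IsLE b := by
    obtain ⟨E, b, hv, hff, ⟨i⟩⟩ := hK
    refine ⟨b, (isLE_iff (A := A) (toD K') b).mp ?_⟩
    have := isStrictlyLE_of_vanishesAbove E b hv
    have : (DRing.toD E).IsLE b := inferInstanceAs ((DerivedCategory.Q.obj E).IsLE b)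
    exact TStructure.t.isLE_of_iso i b
  obtain ⟨F, α, hv, hff, hα⟩ := exists_resolution K' b (finCond K' hK) hb
  have hiso : IsIso (DerivedCategory.Q.map α) :=
    (DerivedCategory.isIso_Q_map_iff_quasiIso (ModuleCat.{u} R) _).mpr hα
  exact ⟨F, b, hv, hff, ⟨asIso (DerivedCategory.Q.map α) ≪≫ e⟩⟩

end Groth.Agent.Helper9.NCR
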