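import Mathlib

set_option autoImplicit false
set_option backward.isDefEq.respectTransparency false
set_option backward.isDefEq.respectTransparency.types false
open CategoryTheory CategoryTheory.Limits Opposite
universe v u

namespace Groth.Agent.Helper9.NatInj

variable {A : Type u} [Category.{v} A] [Abelian A]

section Forward

instance finite_hom (a b : ℕᵒᵖ) : Finite (a ⟶ b) := by
  haveI : Subsingleton (a ⟶ b) := ⟨fun f g => Quiver.Hom.unop_inj (Subsingleton.elim _ _)⟩
  infer_instance

instance hasCoproductsOfShape_hom (a b : ℕᵒᵖ) : HasCoproductsOfShape (a ⟶ b) A :=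
  inferInstance

theorem map_app_eq (c t : ℕᵒᵖ) {X Y : A} (f : X ⟶ Y) :
    ((evaluationLeftAdjoint A c).map f).app t = Limits.Sigma.map (fun _ : c ⟶ t => f) := by
  apply Sigma.hom_ext
  intro h
  simp

theorem preservesMono_left (c : ℕᵒᵖ) : (evaluationLeftAdjoint A c).PreservesMonomorphisms where
  preserves {X Y} f hf := by
    haveI : ∀ t, Mono (((evaluationLeftAdjoint A c).map f).app t) := fun t => by
      rw [map_app_eq]
      haveI := Abelian.hasFiniteBiproducts (C := A)
      infer_instance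
    apply NatTrans.mono_of_mono_app

theorem reflectsMono_left (c : ℕᵒᵖ) : (evaluationLeftAdjoint A c).ReflectsMonomorphisms where
  reflects {X Y} f hf := by
    haveI : Mono (((evaluationLeftAdjoint A c).map f).app c) :=
      (NatTrans.mono_iff_mono_app _).1 hf c
    have h1 : Sigma.ι (fun _ : c ⟶ c => X) (𝟙 c) ≫ ((evaluationLeftAdjoint A c).map f).app c =
        f ≫ Sigma.ι (fun _ : c ⟶ c => Y) (𝟙 c) := by
      rw [map_app_eq]
      simp
    haveI : Mono (f ≫ Sigma.ι (fun _ : c ⟶ c => Y) (𝟙 c)) := by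
      rw [← h1]; exact mono_comp _ _
    exact mono_of_mono f (Sigma.ι (fun _ : c ⟶ c => Y) (𝟙 c))

theorem enoughInjectives_of_functor [EnoughInjectives (ℕᵒᵖ ⥤ A)] : EnoughInjectives A := by
  haveI := preservesMono_left (A := A) (op 0)
  haveI := reflectsMono_left (A := A) (op 0)
  exact EnoughInjectives.of_adjunction (evaluationAdjunctionRight A (op 0))

end Forward

section Backward

variable (I : ℕ → A)

/-- The objects `J_n = I_0 ⊞ ⋯ ⊞ I_n`. -/
noncomputable def Jobj : ℕ → A
  | 0 => I 0
  | (n + 1) => Jobj n ⊞ I (n + 1)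

/-- The tower `⋯ ⟶ J_1 ⟶ J_0`. -/
noncomputable def J : ℕᵒᵖ ⥤ A :=
  Functor.ofOpSequence (X := Jobj I) (fun _ => biprod.fst)

/-- The projection `J_n ⟶ I_n`. -/
noncomputable def pr : ∀ n, Jobj I n ⟶ I n
  | 0 => 𝟙 _
  | (_ + 1) => biprod.snd

variable {I}

/-- Components of a morphism to `J` from a family of maps `Z_n ⟶ I_n`. -/
noncomputable def liftApp (Z : ℕᵒᵖ ⥤ A) (k : ∀ n, Z.obj (op n) ⟶ I n) :
    ∀ n, Z.obj (op n) ⟶ Jobj I n
  | 0 => k 0
  | (n + 1) => biprod.lift (Z.map (homOfLE (n.le_add_right 1)).op ≫ liftApp Z k n) (k (n + 1))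

theorem liftApp_pr (Z : ℕᵒᵖ ⥤ A) (k : ∀ n, Z.obj (op n) ⟶ I n) (n : ℕ) :
    liftApp Z k n ≫ pr I n = k n := by
  cases n with
  | zero => exact Category.comp_id _
  | succ n => exact biprod.lift_snd _ _

/-- The morphism to `J` from a family of maps `Z_n ⟶ I_n`. -/
noncomputable def lift (Z : ℕᵒᵖ ⥤ A) (k : ∀ n, Z.obj (op n) ⟶ I n) : Z ⟶ J I :=
  NatTrans.ofOpSequence (G := J I) (liftApp Z k) (fun n => by
    dsimp only [J]
    rw [Functor.ofOpSequence_map_homOfLE_succ]
    exact (biprod.lift_fst _ _).symm)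

theorem lift_app (Z : ℕᵒᵖ ⥤ A) (k : ∀ n, Z.obj (op n) ⟶ I n) (n : ℕ) :
    (lift Z k).app (op n) = liftApp Z k n := rfl

theorem hom_ext_J {Z : ℕᵒᵖ ⥤ A} {g g' : Z ⟶ J I}
    (h : ∀ n, g.app (op n) ≫ pr I n = g'.app (op n) ≫ pr I n) : g = g' := by
  have key : ∀ n, g.app (op n) = g'.app (op n) := by
    intro n
    induction n with
    | zero => exact (Category.comp_id _).symm.trans ((h 0).trans (Category.comp_id _))
    | succ n ih =>
      have h1 := g.naturality (homOfLE (n.le_add_right 1)).op
      have h2 := g'.naturality (homOfLE (n.le_add_right 1)).op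
      have hJ : (J I).map (homOfLE (n.le_add_right 1)).op = biprod.fst :=
        Functor.ofOpSequence_map_homOfLE_succ _ n
      rw [hJ] at h1 h2
      apply biprod.hom_ext
      · exact h1.symm.trans ((congrArg (fun t => Z.map (homOfLE (n.le_add_right 1)).op ≫ t) ih).trans h2)
      · exact h (n + 1)
  ext ⟨n⟩
  exact key n

theorem mono_lift (Z : ℕᵒᵖ ⥤ A) (k : ∀ n, Z.obj (op n) ⟶ I n) [∀ n, Mono (k n)] :
    Mono (lift Z k) := by
  haveI : ∀ c, Mono ((lift Z k).app c) := fun ⟨n⟩ => by
    haveI : Mono (liftApp Z k n ≫ pr I n) := by rw [liftApp_pr]; infer_instance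
    exact mono_of_mono (liftApp Z k n) (pr I n)
  apply NatTrans.mono_of_mono_app

theorem injective_J [∀ n, Injective (I n)] : Injective (J I) where
  factors {Y Z} g f hf := by
    haveI : ∀ c, Mono (f.app c) := fun c => (NatTrans.mono_iff_mono_app f).1 hf c
    refine ⟨lift Z (fun n => Injective.factorThru (g.app (op n) ≫ pr I n) (f.app (op n))), ?_⟩
    apply hom_ext_J
    intro n
    rw [NatTrans.comp_app, Category.assoc, lift_app, liftApp_pr, Injective.comp_factorThru]

end Backward

theorem enoughInjectives_functor [EnoughInjectives A] : EnoughInjectives (ℕᵒᵖ ⥤ A) where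
  presentation X := by
    haveI : ∀ n, Mono (Injective.ι (X.obj (op n))) := fun n => inferInstance
    exact ⟨{ J := J (fun n => Injective.under (X.obj (op n)))
             injective := injective_J
             f := lift X (fun n => Injective.ι (X.obj (op n)))
             mono := mono_lift X _ }⟩

theorem enoughInjectives_iff :
    EnoughInjectives (ℕᵒᵖ ⥤ A) ↔ EnoughInjectives A :=
  ⟨fun _ => enoughInjectives_of_functor, fun _ => enoughInjectives_functor⟩

end Groth.Agent.Helper9.NatInj
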