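import Mathlib
import Groth.Prelude.Def_W4c6eohyperellchar2Gc
import Groth.Agent.Helper9.GcMod

/-! Coordinates for `Nfil`, `NF`, `NV` of the nilpotent block. -/

namespace Groth.Agent.Helper9.NilBlock

open W4c6eohyperellchar2

universe u

section basic
variable (c : ℕ) (k : Type u) [Field k]

/-- coordinate description of `Nfil`. -/
def Ncoord (i : ℕ) : Submodule k (GcMod c k) where
  carrier := {v | (∀ j : Fin c, j.val + 1 ≤ 2 * c - i → v.1 j = 0) ∧
    (∀ m : Fin c, min i c < m.val + 1 → v.2 m = 0)}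
  add_mem' := by
    rintro x y ⟨hx1, hx2⟩ ⟨hy1, hy2⟩
    refine ⟨fun j hj => ?_, fun m hm => ?_⟩
    · simp [hx1 j hj, hy1 j hj]
    · simp [hx2 m hm, hy2 m hm]
  zero_mem' := ⟨fun _ _ => rfl, fun _ _ => rfl⟩
  smul_mem' := by
    rintro a x ⟨hx1, hx2⟩
    refine ⟨fun j hj => ?_, fun m hm => ?_⟩
    · simp [hx1 j hj]
    · simp [hx2 m hm]

lemma mem_Ncoord (i : ℕ) (v : GcMod c k) : v ∈ Ncoord c k i ↔
    (∀ j : Fin c, j.val + 1 ≤ 2 * c - i → v.1 j = 0) ∧
    (∀ m : Fin c, min i c < m.val + 1 → v.2 m = 0) := Iff.rfl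

lemma Y_mem_Nfil (i n : ℕ) (h1 : 1 ≤ n) (hn : n ≤ min i c) : Y c k n ∈ Nfil c k i :=
  Submodule.subset_span (Or.inl ⟨n, ⟨h1, hn⟩, rfl⟩)

lemma X_mem_Nfil (i n : ℕ) (h1 : 2 * c - i < n) (hn : n ≤ c) : X c k n ∈ Nfil c k i :=
  Submodule.subset_span (Or.inr ⟨n, ⟨h1, hn⟩, rfl⟩)

lemma Nfil_eq_Ncoord (i : ℕ) : Nfil c k i = Ncoord c k i := by
  apply le_antisymm
  · refine Submodule.span_le.mpr ?_
    rintro v (⟨n, ⟨h1, hn⟩, rfl⟩ | ⟨n, ⟨h1, hn⟩, rfl⟩)
    · refine ⟨fun j _ => rfl, fun m hm => ?_⟩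
      show (if m.val + 1 = n then (1 : k) else 0) = 0
      rw [if_neg (by omega)]
    · refine ⟨fun j hj => ?_, fun m _ => rfl⟩
      show (if j.val + 1 = n then (1 : k) else 0) = 0
      rw [if_neg (by omega)]
  · rintro v ⟨h1, h2⟩
    rw [GcMod.decomp c k v]
    refine add_mem (Submodule.sum_mem _ fun j _ => ?_) (Submodule.sum_mem _ fun m _ => ?_)
    · by_cases hj : j.val + 1 ≤ 2 * c - i
      · rw [h1 j hj, zero_smul]; exact zero_mem _
      · exact Submodule.smul_mem _ _ (X_mem_Nfil c k i _ (by omega) (by omega))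
    · by_cases hm : min i c < m.val + 1
      · rw [h2 m hm, zero_smul]; exact zero_mem _
      · exact Submodule.smul_mem _ _ (Y_mem_Nfil c k i _ (by omega) (by omega))

lemma mem_Nfil_iff (i : ℕ) (v : GcMod c k) : v ∈ Nfil c k i ↔
    (∀ j : Fin c, j.val + 1 ≤ 2 * c - i → v.1 j = 0) ∧
    (∀ m : Fin c, min i c < m.val + 1 → v.2 m = 0) := by
  rw [Nfil_eq_Ncoord]; rfl

/-- the standard basis of `GcMod`. -/
noncomputable def bas : Module.Basis (Fin c ⊕ Fin c) k (GcMod c k) :=
  (Pi.basisFun k (Fin c)).prod (Pi.basisFun k (Fin c))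

lemma bas_inl (j : Fin c) : bas c k (Sum.inl j) = X c k (j.val + 1) := by
  classical
  refine Prod.ext ?_ ?_
  · funext t
    simp [bas, X, Pi.single_apply, Fin.ext_iff]
  · simp [bas, X]

lemma bas_inr (m : Fin c) : bas c k (Sum.inr m) = Y c k (m.val + 1) := by
  classical
  refine Prod.ext ?_ ?_
  · simp [bas, Y]
  · funext t
    simp [bas, Y, Pi.single_apply, Fin.ext_iff]

lemma finrank_Nfil (i : ℕ) (hi : i ≤ 2 * c) : Module.finrank k (Nfil c k i) = i := by
  classical
  let e : Fin (min i c) ⊕ Fin (i - c) → Fin c ⊕ Fin c := fun x =>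
    match x with
    | Sum.inl m => Sum.inr ⟨m.val, by have := m.isLt; omega⟩
    | Sum.inr t => Sum.inl ⟨2 * c - i + t.val, by have := t.isLt; omega⟩
  have he : Function.Injective e := by
    rintro (m | t) (m' | t') h
    · simp only [e, Sum.inr.injEq, Fin.mk.injEq] at h
      exact congrArg _ (Fin.ext h)
    · simp [e] at h
    · simp [e] at h
    · simp only [e, Sum.inl.injEq, Fin.mk.injEq] at h
      exact congrArg _ (Fin.ext (by omega))
  have hli : LinearIndependent k (bas c k ∘ e) := (bas c k).linearIndependent.comp e he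
  have hspan : Submodule.span k (Set.range (bas c k ∘ e)) = Nfil c k i := by
    apply le_antisymm
    · refine Submodule.span_le.mpr ?_
      rintro _ ⟨(m | t), rfl⟩
      · simp only [Function.comp_apply, e, bas_inr]
        exact Y_mem_Nfil c k i _ (by omega) (by have := m.isLt; omega)
      · simp only [Function.comp_apply, e, bas_inl]
        exact X_mem_Nfil c k i _ (by omega) (by have := t.isLt; omega)
    · refine Submodule.span_le.mpr ?_
      rintro v (⟨n, ⟨h1, hn⟩, rfl⟩ | ⟨n, ⟨h1, hn⟩, rfl⟩)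
      · refine Submodule.subset_span ⟨Sum.inl ⟨n - 1, by omega⟩, ?_⟩
        simp only [Function.comp_apply, e, bas_inr]
        congr 1
        omega
      · refine Submodule.subset_span ⟨Sum.inr ⟨n - (2 * c - i) - 1, by omega⟩, ?_⟩
        simp only [Function.comp_apply, e, bas_inl]
        congr 1
        omega
  rw [← hspan, finrank_span_eq_card hli]
  simp only [Fintype.card_sum, Fintype.card_fin]
  omega

end basic

section NFpart
variable (c : ℕ) (k : Type u) [Field k] (a : ℕ → k)

lemma NF_fst (v : GcMod c k) (n : Fin c) : (NF c k a v).1 n =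
    if (n.val + 1) % 2 = 0 then coefX v ((n.val + 1) / 2) ^ 2 else 0 := rfl

lemma NF_snd (v : GcMod c k) (m : Fin c) : (NF c k a v).2 m =
    if (m.val + 1) % 2 = 1 then
      Finset.univ.sum (fun j : Fin c =>
        if c < 2 * (j.val + 1) ∧ (j.val + 1) + m.val / 2 ≤ c
          then v.1 j ^ 2 * a ((j.val + 1) + m.val / 2) else 0)
    else 0 := rfl

lemma coefX_eq (v : GcMod c k) (j : Fin c) : coefX v (j.val + 1) = v.1 j := by
  unfold coefX
  rw [dif_pos ⟨by omega, by have := j.isLt; omega⟩]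
  rfl

lemma NF_mem_iff (ha : a c ≠ 0) (i : ℕ) (hi : i ≤ 2 * c) (v : GcMod c k) :
    NF c k a v ∈ Nfil c k i ↔ v ∈ Nfil c k (c + (i + 1) / 2) := by
  rw [mem_Nfil_iff, mem_Nfil_iff]
  constructor
  · rintro ⟨hA, hB⟩
    refine ⟨?_, fun m hm => by have := m.isLt; omega⟩
    intro j
    induction' hj : j.val using Nat.strong_induction_on with J ih generalizing j
    intro hjle
    by_cases h2 : 2 * (j.val + 1) ≤ c
    · have h := hA ⟨2 * (j.val + 1) - 1, by omega⟩ (by simp only; omega)
      rw [NF_fst] at h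
      have e1 : (2 * (j.val + 1) - 1 + 1) % 2 = 0 := by omega
      have e2 : (2 * (j.val + 1) - 1 + 1) / 2 = j.val + 1 := by omega
      simp only [e1, e2, if_true, coefX_eq] at h
      exact pow_eq_zero_iff (two_ne_zero) |>.mp h
    · have hm : 2 * (c - (j.val + 1)) < c := by omega
      have h := hB ⟨2 * (c - (j.val + 1)), hm⟩ (by simp only; omega)
      rw [NF_snd] at h
      have e1 : (2 * (c - (j.val + 1)) + 1) % 2 = 1 := by omega
      have e2 : 2 * (c - (j.val + 1)) / 2 = c - (j.val + 1) := by omega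
      simp only [e1, e2, if_true] at h
      rw [Finset.sum_eq_single j] at h
      · rw [if_pos ⟨by omega, by omega⟩] at h
        have e3 : j.val + 1 + (c - (j.val + 1)) = c := by have := j.isLt; omega
        rw [e3] at h
        have := (mul_eq_zero.mp h).resolve_right ha
        exact pow_eq_zero_iff (two_ne_zero) |>.mp this
      · intro j' _ hne
        by_cases hlt : j'.val < j.val
        · have := ih j'.val (by omega) j' rfl (by omega)
          rw [this]
          simp
        · rw [if_neg]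
          rintro ⟨_, h2'⟩
          apply hne
          exact Fin.ext (by omega)
      · intro h'; exact absurd (Finset.mem_univ j) h'
  · rintro ⟨hs, _⟩
    refine ⟨fun n hn => ?_, fun m hm => ?_⟩
    · rw [NF_fst]
      split_ifs with hpar
      · have hq : (n.val + 1) / 2 - 1 < c := by have := n.isLt; omega
        have : coefX v ((n.val + 1) / 2) = v.1 ⟨(n.val + 1) / 2 - 1, hq⟩ := by
          have := coefX_eq c k v ⟨(n.val + 1) / 2 - 1, hq⟩
          simp only at this
          rw [← this]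
          congr 1
          omega
        rw [this, hs ⟨(n.val + 1) / 2 - 1, hq⟩ (by simp only; omega)]
        simp
      · rfl
    · rw [NF_snd]
      split_ifs with hpar
      · refine Finset.sum_eq_zero fun j _ => ?_
        split_ifs with hcond
        · rw [hs j (by have := m.isLt; omega)]
          simp
        · rfl
      · rfl

end NFpart

section NVpart
variable (c : ℕ) (k : Type u) [Field k] [CharP k 2] [PerfectRing k 2] (a : ℕ → k)

lemma NV_fst (v : GcMod c k) : (NV c k a v).1 = 0 := rfl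

lemma NV_snd (v : GcMod c k) (m : Fin c) : (NV c k a v).2 m =
    (frobeniusEquiv k 2).symm (coefY v (2 * (m.val + 1))) +
      Finset.univ.sum (fun j : Fin c =>
        if (j.val + 1) % 2 = 1 ∧ (m.val + 1) + j.val / 2 ≤ c then
          (frobeniusEquiv k 2).symm (v.1 j * a ((m.val + 1) + j.val / 2)) else 0) := rfl

omit [CharP k 2] [PerfectRing k 2] in
lemma coefY_add (x y : GcMod c k) (n : ℕ) : coefY (x + y) n = coefY x n + coefY y n := by
  unfold coefY
  split_ifs
  · rfl
  · simp

omit [CharP k 2] [PerfectRing k 2] in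
lemma coefY_smul (r : k) (x : GcMod c k) (n : ℕ) : coefY (r • x) n = r * coefY x n := by
  unfold coefY
  split_ifs
  · rfl
  · simp

lemma NV_add (x y : GcMod c k) : NV c k a (x + y) = NV c k a x + NV c k a y := by
  refine Prod.ext ?_ ?_
  · simp [NV_fst]
  · funext m
    simp only [Prod.snd_add, Pi.add_apply, NV_snd, coefY_add, map_add, Prod.fst_add, add_mul]
    rw [add_add_add_comm, ← Finset.sum_add_distrib]
    congr 1
    refine Finset.sum_congr rfl fun j _ => ?_
    split_ifs <;> simp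

lemma NV_smul (r : k) (x : GcMod c k) : NV c k a ((r ^ 2) • x) = r • NV c k a x := by
  refine Prod.ext ?_ ?_
  · simp [NV_fst]
  · funext m
    simp only [Prod.smul_snd, Pi.smul_apply, NV_snd, coefY_smul, map_mul, Prod.smul_fst,
      smul_eq_mul, mul_assoc, frobeniusEquiv_symm_pow, mul_add, Finset.mul_sum]
    congr 1
    refine Finset.sum_congr rfl fun j _ => ?_
    split_ifs <;> simp

omit [CharP k 2] [PerfectRing k 2] in
lemma coefY_eq (v : GcMod c k) (m : Fin c) : coefY v (m.val + 1) = v.2 m := by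
  unfold coefY
  rw [dif_pos ⟨by omega, by have := m.isLt; omega⟩]
  rfl

lemma NV_mem (i : ℕ) (hi : i ≤ 2 * c) (v : GcMod c k) (hv : v ∈ Nfil c k i) :
    NV c k a v ∈ Nfil c k (i / 2) := by
  rw [mem_Nfil_iff] at hv ⊢
  obtain ⟨h1, h2⟩ := hv
  refine ⟨fun j _ => rfl, fun m hm => ?_⟩
  rw [NV_snd]
  have hY : coefY v (2 * (m.val + 1)) = 0 := by
    by_cases hc : 2 * (m.val + 1) ≤ c
    · have := coefY_eq c k v ⟨2 * (m.val + 1) - 1, by omega⟩
      simp only at this
      have e : 2 * (m.val + 1) - 1 + 1 = 2 * (m.val + 1) := by omega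
      rw [e] at this
      rw [this]
      exact h2 _ (by simp only; omega)
    · unfold coefY
      rw [dif_neg (by omega)]
  rw [hY, map_zero, zero_add]
  refine Finset.sum_eq_zero fun j _ => ?_
  split_ifs with hcond
  · rw [h1 j (by omega), zero_mul, map_zero]
  · rfl

/-- the image of `Nfil i` under `NV`, as a submodule. -/
def Simg (i : ℕ) : Submodule k (GcMod c k) where
  carrier := NV c k a '' (Nfil c k i : Set (GcMod c k))
  add_mem' := by
    rintro _ _ ⟨x, hx, rfl⟩ ⟨y, hy, rfl⟩
    exact ⟨x + y, add_mem hx hy, NV_add c k a x y⟩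
  zero_mem' := ⟨0, zero_mem _, by
    have := NV_smul c k a 0 0
    simpa using this⟩
  smul_mem' := by
    rintro r _ ⟨x, hx, rfl⟩
    exact ⟨(r ^ 2) • x, Submodule.smul_mem _ _ hx, NV_smul c k a r x⟩

lemma mem_Simg (i : ℕ) (w : GcMod c k) :
    w ∈ Simg c k a i ↔ ∃ v ∈ Nfil c k i, NV c k a v = w := Iff.rfl

lemma NV_Y_even (n : ℕ) (h1 : 1 ≤ n) (hn : 2 * n ≤ c) : NV c k a (Y c k (2 * n)) = Y c k n := by
  refine Prod.ext rfl ?_
  funext m
  rw [NV_snd, GcMod.coefY_Y]
  have hz : ∀ j : Fin c, (Y c k (2 * n)).1 j = 0 := fun _ => rfl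
  simp only [hz, zero_mul, map_zero, ite_self, Finset.sum_const_zero, add_zero]
  show _ = if m.val + 1 = n then (1 : k) else 0
  by_cases hmn : m.val + 1 = n
  · rw [if_pos ⟨by omega, by omega, by omega⟩, if_pos hmn, map_one]
  · rw [if_neg (by omega), if_neg hmn, map_zero]

lemma NV_X_odd_snd (n : ℕ) (hn : n ≤ c) (hc : c < 2 * n) (m : Fin c) :
    (NV c k a (X c k (2 * (c - n) + 1))).2 m =
      if m.val + 1 ≤ n then (frobeniusEquiv k 2).symm (a (m.val + 1 + (c - n))) else 0 := by
  rw [NV_snd, GcMod.coefY_X, map_zero, zero_add]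
  rw [Finset.sum_eq_single (⟨2 * (c - n), by omega⟩ : Fin c)]
  · have e1 : (2 * (c - n) + 1) % 2 = 1 := by omega
    have e2 : 2 * (c - n) / 2 = c - n := by omega
    have hX : (X c k (2 * (c - n) + 1)).1 (⟨2 * (c - n), by omega⟩ : Fin c) = 1 := by
      show (if 2 * (c - n) + 1 = 2 * (c - n) + 1 then (1 : k) else 0) = 1
      rw [if_pos rfl]
    simp only [e1, e2, hX, one_mul, true_and]
    by_cases hmn : m.val + 1 ≤ n
    · rw [if_pos (by omega), if_pos hmn]
    · rw [if_neg (by omega), if_neg hmn]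
  · intro j _ hne
    have hX : (X c k (2 * (c - n) + 1)).1 j = 0 := by
      show (if j.val + 1 = 2 * (c - n) + 1 then (1 : k) else 0) = 0
      rw [if_neg]
      intro h
      apply hne
      exact Fin.ext (by simp only; omega)
    rw [hX, zero_mul, map_zero, ite_self]
  · intro h; exact absurd (Finset.mem_univ _) h

lemma Y_mem_Simg (ha : a c ≠ 0) (i : ℕ) (hi : i ≤ 2 * c) (n : ℕ) (h1 : 1 ≤ n) (hn : n ≤ i / 2) :
    Y c k n ∈ Simg c k a i := by
  induction' n using Nat.strong_induction_on with n ih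
  by_cases h2 : 2 * n ≤ c
  · exact ⟨Y c k (2 * n), Y_mem_Nfil c k i _ (by omega) (by omega), NV_Y_even c k a n h1 h2⟩
  · have hnc : n ≤ c := by omega
    obtain ⟨w, hw⟩ : ∃ w, w = NV c k a (X c k (2 * (c - n) + 1)) := ⟨_, rfl⟩
    have hwS : w ∈ Simg c k a i :=
      ⟨_, X_mem_Nfil c k i _ (by omega) (by omega), hw.symm⟩
    have hw1 : ∀ j : Fin c, w.1 j = 0 := fun j => by rw [hw]; rfl
    have hw2 : ∀ m : Fin c, w.2 m =
        if m.val + 1 ≤ n then (frobeniusEquiv k 2).symm (a (m.val + 1 + (c - n))) else 0 := by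
      intro m; rw [hw]; exact NV_X_odd_snd c k a n hnc (by omega) m
    have hdec := GcMod.decomp c k w
    have hz : ∑ j : Fin c, w.1 j • X c k (j.val + 1) = 0 :=
      Finset.sum_eq_zero fun j _ => by rw [hw1 j, zero_smul]
    rw [hz, zero_add] at hdec
    obtain ⟨m0, hm0⟩ : ∃ m0 : Fin c, m0 = (⟨n - 1, by omega⟩ : Fin c) := ⟨_, rfl⟩
    have hm0v : m0.val + 1 = n := by rw [hm0]; simp only; omega
    rw [← Finset.add_sum_erase _ _ (Finset.mem_univ m0)] at hdec
    have hrest : ∑ m ∈ Finset.univ.erase m0, w.2 m • Y c k (m.val + 1) ∈ Simg c k a i := by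
      refine Submodule.sum_mem _ fun m hm => ?_
      have hne : m ≠ m0 := (Finset.mem_erase.mp hm).1
      by_cases hlt : m.val + 1 < n
      · exact Submodule.smul_mem _ _ (ih (m.val + 1) hlt (by omega) (by omega))
      · rw [hw2 m, if_neg, zero_smul]
        · exact zero_mem _
        · intro hle
          apply hne
          exact Fin.ext (by omega)
    have hcoef : w.2 m0 ≠ 0 := by
      rw [hw2 m0, if_pos (by omega)]
      have e : m0.val + 1 + (c - n) = c := by omega
      rw [e]
      exact (EmbeddingLike.map_ne_zero_iff).mpr ha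
    have hmem : w.2 m0 • Y c k (m0.val + 1) ∈ Simg c k a i := by
      have : w.2 m0 • Y c k (m0.val + 1) =
          w - ∑ m ∈ Finset.univ.erase m0, w.2 m • Y c k (m.val + 1) := by
        rw [eq_sub_iff_add_eq]
        exact hdec.symm
      rw [this]
      exact sub_mem hwS hrest
    have := Submodule.smul_mem _ (w.2 m0)⁻¹ hmem
    rwa [smul_smul, inv_mul_cancel₀ hcoef, one_smul, hm0v] at this

lemma NV_image (ha : a c ≠ 0) (i : ℕ) (hi : i ≤ 2 * c) :
    NV c k a '' (Nfil c k i : Set (GcMod c k)) = (Nfil c k (i / 2) : Set (GcMod c k)) := by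
  apply Set.Subset.antisymm
  · rintro _ ⟨v, hv, rfl⟩
    exact NV_mem c k a i hi v hv
  · intro w hw
    have hw' := (mem_Nfil_iff c k (i / 2) w).mp hw
    obtain ⟨h1, h2⟩ := hw'
    show w ∈ Simg c k a i
    rw [GcMod.decomp c k w]
    refine add_mem (Submodule.sum_mem _ fun j _ => ?_) (Submodule.sum_mem _ fun m _ => ?_)
    · rw [h1 j (by have := j.isLt; omega), zero_smul]
      exact zero_mem _
    · by_cases hm : min (i / 2) c < m.val + 1
      · rw [h2 m hm, zero_smul]; exact zero_mem _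
      · exact Submodule.smul_mem _ _ (Y_mem_Simg c k a ha i hi _ (by omega) (by omega))

end NVpart

end Groth.Agent.Helper9.NilBlock
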