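import Groth.Agent.Helper9.FMS
import Mathlib

set_option autoImplicit false

namespace Groth.Agent.Helper9.NineHom

open CategoryTheory CategoryTheory.Limits
open Groth.Agent.Helper9.FM Groth.Agent.Helper9.FMS

universe v u

theorem main
    {C : Type u} [Category.{v} C] [Abelian C] {A₁ A₂ A₃ C₁ C₂ : C} (S : ShortComplex C)
    (i₁ : A₁ ⟶ A₂) (p₁ : A₂ ⟶ A₃) (wA : i₁ ≫ p₁ = 0) (hA : (ShortComplex.mk i₁ p₁ wA).ShortExact)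
    (i₂ : A₂ ⟶ S.X₂) (π₂ : S.X₂ ⟶ C₂) (wB : i₂ ≫ π₂ = 0) (hB : (ShortComplex.mk i₂ π₂ wB).ShortExact)
    (j : C₁ ⟶ C₂) (q : C₂ ⟶ S.X₃) (wC : j ≫ q = 0) (hC : (ShortComplex.mk j q wC).ShortExact)
    (e₁ : S.X₁ = A₁) (hSf : S.f = eqToHom e₁ ≫ i₁ ≫ i₂) (hSg : S.g = π₂ ≫ q)
    (h₂ : i₂ ≫ S.g = 0) (h₃ : S.f ≫ π₂ = 0)
    (f : A₃ ⟶ S.homology) (g : S.homology ⟶ C₁)
    (hf : p₁ ≫ f = S.liftCycles i₂ h₂ ≫ S.homologyπ)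
    (hg : g ≫ j = S.homologyι ≫ S.descOpcycles π₂ h₃) :
    ∃ wfg : f ≫ g = 0, (ShortComplex.mk f g wfg).ShortExact := by
  have hAe := (exact_iff _).1 hA.exact
  have hBe := (exact_iff _).1 hB.exact
  have hCe := (exact_iff _).1 hC.exact
  have hi₁ := (mono_iff _).1 hA.mono_f
  have hp₁ := (epi_iff _).1 hA.epi_g
  have hi₂ := (mono_iff _).1 hB.mono_f
  have hπ₂ := (epi_iff _).1 hB.epi_g
  have hj := (mono_iff _).1 hC.mono_f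
  have hq := (epi_iff _).1 hC.epi_g
  dsimp only at hAe hBe hCe hi₁ hp₁ hi₂ hπ₂ hj hq
  -- f on elements
  have hfe : ∀ a : (F C).obj A₂, m f (m p₁ a) = cls S (m i₂ a)
      (by rw [← m_comp_apply, h₂]; simp) := by
    intro a
    rw [← m_comp_apply, hf, liftCycles_cls]
  -- g on elements
  have hge : ∀ (b : (F C).obj S.X₂) (hb : m S.g b = 0), m j (m g (cls S b hb)) = m π₂ b := by
    intro b hb
    rw [← m_comp_apply, hg, homologyι_desc_cls]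
  have wfg : f ≫ g = 0 := by
    rw [comp_eq_zero_iff]
    intro a₃
    obtain ⟨a, rfl⟩ := hp₁ a₃
    apply hj
    rw [hfe, hge, map_zero, ← m_comp_apply, wB]; simp
  refine ⟨wfg, ?_⟩
  refine { exact := ?_, mono_f := ?_, epi_g := ?_ }
  · rw [exact_iff]
    intro k hk
    change m g k = 0 at hk
    obtain ⟨b, hb, rfl⟩ := exists_cls S k
    have h1 : m π₂ b = 0 := by rw [← hge b hb, hk, map_zero]
    obtain ⟨a, rfl⟩ := hBe b h1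
    exact ⟨m p₁ a, hfe a⟩
  · change Mono f
    rw [mono_iff, injective_iff_map_eq_zero]
    intro a₃ h0
    obtain ⟨a, rfl⟩ := hp₁ a₃
    rw [hfe, cls_eq_zero_iff] at h0
    obtain ⟨y, hy⟩ := h0
    rw [hSf, m_comp_apply, m_comp_apply] at hy
    rw [← hi₂ hy, ← m_comp_apply, wA]; simp
  · change Epi g
    rw [epi_iff]
    intro c₁
    obtain ⟨b, hb⟩ := hπ₂ (m j c₁)
    have hb0 : m S.g b = 0 := by
      rw [hSg, m_comp_apply, hb, ← m_comp_apply, wC]; simp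
    refine ⟨cls S b hb0, ?_⟩
    apply hj
    rw [hge, hb]

theorem S15465
    {C : Type u} [Category.{v} C] [Abelian C] {A₁ A₂ A₃ B₂ C₁ C₂ C₃ : C}
    (i₁ : A₁ ⟶ A₂) (p₁ : A₂ ⟶ A₃) (wA : i₁ ≫ p₁ = 0) (hA : (ShortComplex.mk i₁ p₁ wA).ShortExact)
    (i₂ : A₂ ⟶ B₂) (π₂ : B₂ ⟶ C₂) (wB : i₂ ≫ π₂ = 0) (hB : (ShortComplex.mk i₂ π₂ wB).ShortExact)
    (j : C₁ ⟶ C₂) (q : C₂ ⟶ C₃) (wC : j ≫ q = 0) (hC : (ShortComplex.mk j q wC).ShortExact)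
    (w : (i₁ ≫ i₂) ≫ (π₂ ≫ q) = 0) (h₂ : i₂ ≫ (π₂ ≫ q) = 0) (h₃ : (i₁ ≫ i₂) ≫ π₂ = 0)
    (f : A₃ ⟶ (CategoryTheory.ShortComplex.mk (i₁ ≫ i₂) (π₂ ≫ q) w).homology)
    (g : (CategoryTheory.ShortComplex.mk (i₁ ≫ i₂) (π₂ ≫ q) w).homology ⟶ C₁)
    (hf : p₁ ≫ f = (CategoryTheory.ShortComplex.mk (i₁ ≫ i₂) (π₂ ≫ q) w).liftCycles i₂ h₂ ≫ (CategoryTheory.ShortComplex.mk (i₁ ≫ i₂) (π₂ ≫ q) w).homologyπ)
    (hg : g ≫ j = (CategoryTheory.ShortComplex.mk (i₁ ≫ i₂) (π₂ ≫ q) w).homologyι ≫ (CategoryTheory.ShortComplex.mk (i₁ ≫ i₂) (π₂ ≫ q) w).descOpcycles π₂ h₃) :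
    ∃ wfg : f ≫ g = 0, (ShortComplex.mk f g wfg).ShortExact :=
  main (CategoryTheory.ShortComplex.mk (i₁ ≫ i₂) (π₂ ≫ q) w) i₁ p₁ wA hA i₂ π₂ wB hB j q wC hC rfl
    (by simp) rfl h₂ h₃ f g hf hg

end Groth.Agent.Helper9.NineHom
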