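import Mathlib

/-! Helper lemmas for the pinch-point subalgebra `K[x², xy, y] ⊆ K[x, y]`. -/

namespace Groth.Agent.Helper9.Pinch

open MvPolynomial

variable (K : Type*) [Field K]

/-- the pinch subalgebra -/
noncomputable def R : Subalgebra K (MvPolynomial (Fin 2) K) :=
  Algebra.adjoin K {X 0 ^ 2, X 0 * X 1, X 1}

/-- evaluation at `y = 0` -/
noncomputable def ev : MvPolynomial (Fin 2) K →ₐ[K] Polynomial K :=
  aeval ![Polynomial.X, 0]

/-- inclusion `K[X] → K[x,y]`, `X ↦ x`. -/
noncomputable def inc : Polynomial K →ₐ[K] MvPolynomial (Fin 2) K :=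
  Polynomial.aeval (X 0)

variable {K}

@[simp] lemma ev_X0 : ev K (X 0) = Polynomial.X := by simp [ev]
@[simp] lemma ev_X1 : ev K (X 1) = 0 := by simp [ev]
@[simp] lemma inc_X : inc K Polynomial.X = X 0 := by simp [inc]

lemma ev_inc (p : Polynomial K) : ev K (inc K p) = p := by
  have : (ev K).comp (inc K) = AlgHom.id K _ := by
    apply Polynomial.algHom_ext
    simp
  exact DFunLike.congr_fun this p

lemma sub_inc_ev_mem (f : MvPolynomial (Fin 2) K) :
    f - inc K (ev K f) ∈ Ideal.span {(X 1 : MvPolynomial (Fin 2) K)} := by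
  induction f using MvPolynomial.induction_on with
  | C a =>
    have : ev K (C a) = Polynomial.C a := by simp [ev]
    rw [this]
    simp [inc]
  | add p q hp hq =>
    have : p + q - inc K (ev K (p + q)) = (p - inc K (ev K p)) + (q - inc K (ev K q)) := by
      rw [map_add, map_add]; ring
    rw [this]
    exact Ideal.add_mem _ hp hq
  | mul_X p i hp =>
    fin_cases i
    · have : p * X 0 - inc K (ev K (p * X 0)) = (p - inc K (ev K p)) * X 0 := by
        rw [map_mul, map_mul, ev_X0, inc_X]; ring
      simp only [Fin.zero_eta]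
      rw [this]
      exact Ideal.mul_mem_right _ _ hp
    · have : p * X 1 - inc K (ev K (p * X 1)) = p * X 1 := by
        rw [map_mul, ev_X1, mul_zero, map_zero, sub_zero]
      simp only [Fin.mk_one]
      rw [this]
      exact Ideal.mul_mem_left _ _ (Ideal.subset_span rfl)

lemma X1_dvd_of_ev_eq_zero {f : MvPolynomial (Fin 2) K} (h : ev K f = 0) :
    (X 1 : MvPolynomial (Fin 2) K) ∣ f := by
  have := sub_inc_ev_mem f
  rw [h, map_zero, sub_zero] at this
  exact Ideal.mem_span_singleton.mp this

lemma X1_mul_mem (f : MvPolynomial (Fin 2) K) :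
    X 1 * f ∈ R K ∧ X 0 * X 1 * f ∈ R K := by
  have hx2 : (X 0 ^ 2 : MvPolynomial (Fin 2) K) ∈ R K := Algebra.subset_adjoin (by simp)
  have hxy : (X 0 * X 1 : MvPolynomial (Fin 2) K) ∈ R K := Algebra.subset_adjoin (by simp)
  have hy : (X 1 : MvPolynomial (Fin 2) K) ∈ R K := Algebra.subset_adjoin (by simp)
  induction f using MvPolynomial.induction_on with
  | C a =>
    constructor
    · rw [mul_comm, ← algebraMap_eq, ← Algebra.smul_def]
      exact Subalgebra.smul_mem _ hy a
    · rw [mul_comm, ← algebraMap_eq, ← Algebra.smul_def]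
      exact Subalgebra.smul_mem _ hxy a
  | add p q hp hq =>
    constructor
    · rw [mul_add]; exact Subalgebra.add_mem _ hp.1 hq.1
    · rw [mul_add]; exact Subalgebra.add_mem _ hp.2 hq.2
  | mul_X p i hp =>
    fin_cases i
    · simp only [Fin.zero_eta]
      constructor
      · have : X 1 * (p * X 0) = X 0 * X 1 * p := by ring
        rw [this]; exact hp.2
      · have : X 0 * X 1 * (p * X 0) = X 0 ^ 2 * (X 1 * p) := by ring
        rw [this]; exact Subalgebra.mul_mem _ hx2 hp.1
    · simp only [Fin.mk_one]
      constructor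
      · have : X 1 * (p * X 1) = (X 1 * p) * X 1 := by ring
        rw [this]; exact Subalgebra.mul_mem _ hp.1 hy
      · have : X 0 * X 1 * (p * X 1) = (X 0 * X 1 * p) * X 1 := by ring
        rw [this]; exact Subalgebra.mul_mem _ hp.2 hy

lemma aeval_sq_mem (p : Polynomial K) :
    Polynomial.aeval (X 0 ^ 2 : MvPolynomial (Fin 2) K) p ∈ R K := by
  have h1 := Polynomial.aeval_mem_adjoin_singleton K (X 0 ^ 2 : MvPolynomial (Fin 2) K) (p := p)
  refine Algebra.adjoin_mono ?_ h1
  simp

/-- elements of `R` have even restriction to `y = 0`. -/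
lemma ev_mem_range_expand {r : MvPolynomial (Fin 2) K} (hr : r ∈ R K) :
    ev K r ∈ (Polynomial.expand K 2).range := by
  have : R K ≤ (Polynomial.expand K 2).range.comap (ev K) := by
    refine Algebra.adjoin_le ?_
    intro z hz
    simp only [Set.mem_insert_iff, Set.mem_singleton_iff] at hz
    rcases hz with rfl | rfl | rfl
    · exact ⟨Polynomial.X, by simp⟩
    · exact ⟨0, by simp⟩
    · exact ⟨0, by simp⟩
  exact this hr

lemma coeff_odd_of_mem_range_expand {p : Polynomial K} (hp : p ∈ (Polynomial.expand K 2).range)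
    (k : ℕ) : p.coeff (2 * k + 1) = 0 := by
  obtain ⟨q, rfl⟩ := hp
  show (Polynomial.expand K 2 q).coeff (2 * k + 1) = 0
  rw [Polynomial.coeff_expand (by norm_num)]
  rw [if_neg]
  omega

/-- if `w` and `X w` are both even then `w = 0`. -/
lemma eq_zero_of_even_of_X_mul_even {w : Polynomial K} (h1 : w ∈ (Polynomial.expand K 2).range)
    (h2 : Polynomial.X * w ∈ (Polynomial.expand K 2).range) : w = 0 := by
  ext n
  rcases Nat.even_or_odd' n with ⟨k, rfl | rfl⟩
  · have := coeff_odd_of_mem_range_expand h2 k
    rwa [Polynomial.coeff_X_mul] at this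
  · simpa using coeff_odd_of_mem_range_expand h1 k

/-- if `X u` is even then `u = X * expand 2 p`. -/
lemma exists_of_X_mul_even {u : Polynomial K}
    (h : Polynomial.X * u ∈ (Polynomial.expand K 2).range) :
    ∃ p : Polynomial K, u = Polynomial.X * Polynomial.expand K 2 p := by
  refine ⟨Polynomial.contract 2 u.divX, ?_⟩
  ext n
  cases n with
  | zero =>
    have := coeff_odd_of_mem_range_expand h 0
    rw [Polynomial.coeff_X_mul] at this
    simpa using this
  | succ m =>
    rw [Polynomial.coeff_X_mul, Polynomial.coeff_expand (by norm_num)]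
    split_ifs with hm
    · obtain ⟨j, rfl⟩ := hm
      rw [Polynomial.coeff_contract (by norm_num), Polynomial.coeff_divX]
      congr 1
      omega
    · have hm' : ∃ k, m + 1 = 2 * k := by
        rcases Nat.even_or_odd' m with ⟨k, rfl | rfl⟩
        · exact absurd (dvd_mul_right 2 k) hm
        · exact ⟨k + 1, by ring⟩
      obtain ⟨k, hk⟩ := hm'
      cases k with
      | zero => omega
      | succ k =>
        have := coeff_odd_of_mem_range_expand h k
        rw [Polynomial.coeff_X_mul] at this
        have h3 : m + 1 = 2 * k + 1 + 1 := by omega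
        have h4 : m = 2 * k + 1 := by omega
        rw [h4]
        -- coefficient at even index `2k+2`
        have := coeff_odd_of_mem_range_expand h (k + 1)
        rw [show 2 * (k + 1) + 1 = (2 * k + 1 + 1) + 1 by ring, Polynomial.coeff_X_mul] at this
        exact this

end Groth.Agent.Helper9.Pinch
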