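import Mathlib
import Groth.Prelude.Def_W4c5spincurvestfNode
import Groth.Agent.Helper9.Pinch

/-! Helper lemmas for S18435 (global sections of O(1) on the glued node are torsion-free). -/

set_option autoImplicit false
universe u

open Polynomial LaurentPolynomial

namespace Groth.Agent.Helper9.NodeTF

open Groth.Agent.Helper9.Pinch

variable {k : Type u} [Field k]

lemma trunc_invert_toLaurent (p : k[X]) :
    LaurentPolynomial.trunc (LaurentPolynomial.invert (toLaurent p)) = Polynomial.C (p.coeff 0) := by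
  induction p using Polynomial.induction_on' with
  | add p q hp hq => simp [map_add, hp, hq]
  | monomial n a =>
    rw [← C_mul_X_pow_eq_monomial, Polynomial.toLaurent_C_mul_X_pow, map_mul,
      LaurentPolynomial.invert_C, LaurentPolynomial.invert_T, LaurentPolynomial.trunc_C_mul_T]
    rcases Nat.eq_zero_or_pos n with rfl | hn
    · simp
    · have h1 : ¬ (0 : ℤ) ≤ -(n : ℤ) := by omega
      rw [if_neg h1]
      simp [Polynomial.coeff_C_mul, Polynomial.coeff_X_pow, hn.ne]

/-- the key Laurent polynomial lemma -/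
lemma laurent_key (g₁ f₁ : k[X])
    (h : (T 1 : k[T;T⁻¹]) * toLaurent g₁ = LaurentPolynomial.invert (toLaurent f₁)) :
    g₁ = 0 ∧ f₁ = 0 := by
  have h1 : (T 1 : k[T;T⁻¹]) * toLaurent g₁ = toLaurent (X * g₁) := by
    rw [map_mul, Polynomial.toLaurent_X]
  have h2 := congrArg LaurentPolynomial.trunc h
  rw [h1, Polynomial.trunc_toLaurent, trunc_invert_toLaurent] at h2
  have h3 : f₁.coeff 0 = 0 := by
    have := congrArg (fun q => Polynomial.coeff q 0) h2
    simpa using this.symm
  have hg : g₁ = 0 := by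
    rw [h3, map_zero] at h2
    exact (mul_eq_zero.mp h2).resolve_left Polynomial.X_ne_zero
  refine ⟨hg, ?_⟩
  rw [hg, map_zero, mul_zero] at h
  have h4 : toLaurent f₁ = 0 := by
    have := congrArg LaurentPolynomial.invert h
    rw [map_zero, LaurentPolynomial.involutive_invert] at this
    exact this.symm
  exact Polynomial.toLaurent_eq_zero.mp h4

open SpinCurv in
/-- elements of the node ring killed by `y` are classes of `X0 * (polynomial in X0)` -/
lemma exists_of_y_mul_eq_zero (g : PolyNodeRing k 0) (h : PolyNodeRing.y k 0 * g = 0) :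
    ∃ g₁ : k[X], g = Ideal.Quotient.mk _ (inc k (X * g₁)) := by
  obtain ⟨G, rfl⟩ := Ideal.Quotient.mk_surjective g
  have hI : (Ideal.span {(MvPolynomial.X 0 * MvPolynomial.X 1 - MvPolynomial.C (0 : k) :
      MvPolynomial (Fin 2) k)}) = Ideal.span {(MvPolynomial.X 0 * MvPolynomial.X 1 :
      MvPolynomial (Fin 2) k)} := by
    rw [map_zero, sub_zero]
  have h1 : (MvPolynomial.X 1 * G : MvPolynomial (Fin 2) k) ∈
      Ideal.span {(MvPolynomial.X 0 * MvPolynomial.X 1 : MvPolynomial (Fin 2) k)} := by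
    rw [← hI, ← Ideal.Quotient.eq_zero_iff_mem, map_mul]
    exact h
  obtain ⟨r, hr⟩ := Ideal.mem_span_singleton'.mp h1
  have hG : G = MvPolynomial.X 0 * r := by
    have hX1 : (MvPolynomial.X 1 : MvPolynomial (Fin 2) k) ≠ 0 := MvPolynomial.X_ne_zero _
    apply mul_left_cancel₀ hX1
    rw [← hr]; ring
  obtain ⟨t, ht⟩ := Ideal.mem_span_singleton'.mp (sub_inc_ev_mem r)
  refine ⟨ev k r, ?_⟩
  rw [Ideal.Quotient.eq, hI, Ideal.mem_span_singleton']
  refine ⟨t, ?_⟩
  rw [hG, map_mul, inc_X]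
  have : r = inc k (ev k r) + t * MvPolynomial.X 1 := by rw [ht]; ring
  calc t * (MvPolynomial.X 0 * MvPolynomial.X 1)
      = MvPolynomial.X 0 * (t * MvPolynomial.X 1) := by ring
    _ = MvPolynomial.X 0 * (r - inc k (ev k r)) := by rw [ht]
    _ = MvPolynomial.X 0 * r - MvPolynomial.X 0 * inc k (ev k r) := by ring

open SpinCurv in
/-- an algebra map out of the node ring, restricted to polynomials in the first variable -/
lemma algHom_mk_inc (φ : PolyNodeRing k 0 →ₐ[k] k[T;T⁻¹]) (n : ℤ)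
    (hφ : φ (PolyNodeRing.x k 0) = T n) (p : k[X]) :
    φ (Ideal.Quotient.mk _ (inc k p)) = Polynomial.aeval (T n : k[T;T⁻¹]) p := by
  have : (φ.comp ((Ideal.Quotient.mkₐ k _).comp (inc k))) = Polynomial.aeval (T n : k[T;T⁻¹]) := by
    apply Polynomial.algHom_ext
    simp only [AlgHom.comp_apply, inc_X, Polynomial.aeval_X]
    exact hφ
  exact DFunLike.congr_fun this p

lemma aeval_T_one (p : k[X]) : Polynomial.aeval (T 1 : k[T;T⁻¹]) p = toLaurent p := by
  have : Polynomial.aeval (T 1 : k[T;T⁻¹]) = Polynomial.toLaurentAlg := by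
    apply Polynomial.algHom_ext
    simp [Polynomial.toLaurent_X]
  rw [this]; rfl

lemma aeval_T_neg_one (p : k[X]) :
    Polynomial.aeval (T (-1) : k[T;T⁻¹]) p = LaurentPolynomial.invert (toLaurent p) := by
  have : Polynomial.aeval (T (-1) : k[T;T⁻¹]) =
      (LaurentPolynomial.invert : k[T;T⁻¹] ≃ₐ[k] k[T;T⁻¹]).toAlgHom.comp Polynomial.toLaurentAlg := by
    apply Polynomial.algHom_ext
    simp [Polynomial.toLaurent_X]
  rw [this]; rfl

open SpinCurv in
theorem main
    (gU : PolyNodeRing k 0 →ₐ[k] k[T;T⁻¹]) (hgUs : gU (PolyNodeRing.x k 0) = T 1)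
    (gV : PolyNodeRing k 0 →ₐ[k] k[T;T⁻¹]) (hgVt : gV (PolyNodeRing.x k 0) = T (-1))
    (g f : PolyNodeRing k 0) (hsec : gU g = T 1 * gV f)
    (hg : PolyNodeRing.y k 0 * g = 0) (hf : PolyNodeRing.y k 0 * f = 0) : g = 0 ∧ f = 0 := by
  obtain ⟨g₁, rfl⟩ := exists_of_y_mul_eq_zero g hg
  obtain ⟨f₁, rfl⟩ := exists_of_y_mul_eq_zero f hf
  rw [algHom_mk_inc gU 1 hgUs, algHom_mk_inc gV (-1) hgVt, aeval_T_one, aeval_T_neg_one,
    map_mul, map_mul, map_mul, Polynomial.toLaurent_X, LaurentPolynomial.invert_T,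
    ← mul_assoc (T 1), ← LaurentPolynomial.T_add] at hsec
  simp only [add_neg_cancel, LaurentPolynomial.T_zero, one_mul] at hsec
  obtain ⟨h1, h2⟩ := laurent_key g₁ f₁ hsec
  subst h1 h2
  simp


end Groth.Agent.Helper9.NodeTF
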