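import Mathlib
import Groth.Prelude.Def_DescFam

set_option autoImplicit false

namespace Groth.Agent.Helper9.OpenDesc

open CategoryTheory CategoryTheory.Limits AlgebraicGeometry Opposite

universe u

variable {S : Scheme.{u}} {ι : Type u} {X : ι → Scheme.{u}} {f : ∀ i, X i ⟶ S}
  (D : Desc.SchDDFam f) (hD : ∀ i, IsOpenImmersion (D.obj i).hom)

include hD in
/-- the key consequence of the descent datum: membership in the image opens is compatible -/
theorem mem_of_mem {Z : Scheme.{u}} {i j : ι} (gi : Z ⟶ X i) (gj : Z ⟶ X j)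
    (h : gi ≫ f i = gj ≫ f j) (z : Z) (hz : gi z ∈ Set.range (D.obj i).hom) :
    gj z ∈ Set.range (D.obj j).hom := by
  haveI := hD i
  haveI := hD j
  let U : Z.Opens := gi ⁻¹ᵁ (D.obj i).hom.opensRange
  have hzU : z ∈ U := hz
  have hr : Set.range (U.ι ≫ gi) ⊆ Set.range (D.obj i).hom := by
    rintro _ ⟨t, rfl⟩
    have : (U.ι t) ∈ U := by
      have := Set.mem_range_self (f := U.ι) t
      rwa [Scheme.Opens.range_ι] at this
    exact this
  let v : Desc.Lifts (D.obj i) (U.ι ≫ gi) :=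
    ⟨IsOpenImmersion.lift (D.obj i).hom (U.ι ≫ gi) hr, IsOpenImmersion.lift_fac _ _ _⟩
  have h' : (U.ι ≫ gi) ≫ f i = (U.ι ≫ gj) ≫ f j := by
    rw [Category.assoc, Category.assoc, h]
  let w := D.φ (U.ι ≫ gi) (U.ι ≫ gj) h' v
  obtain ⟨t, rfl⟩ : ∃ t, U.ι t = z := by
    have : z ∈ Set.range U.ι := by rw [Scheme.Opens.range_ι]; exact hzU
    exact this
  refine ⟨w.1 t, ?_⟩
  rw [← Scheme.Hom.comp_apply, w.2, Scheme.Hom.comp_apply]

include hD in
theorem mem_iff {Z : Scheme.{u}} {i j : ι} (gi : Z ⟶ X i) (gj : Z ⟶ X j)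
    (h : gi ≫ f i = gj ≫ f j) (z : Z) :
    gi z ∈ Set.range (D.obj i).hom ↔ gj z ∈ Set.range (D.obj j).hom :=
  ⟨mem_of_mem D hD gi gj h z, mem_of_mem D hD gj gi h.symm z⟩

include hD in
/-- the descended open subset -/
theorem exists_opens (hf : Presieve.ofArrows X f ∈ Scheme.fpqcPrecoverage S) :
    ∃ W : S.Opens, ∀ i, (f i) ⁻¹' (W : Set S) = Set.range (D.obj i).hom := by
  have hsh := (isSheaf_iff_isSheaf_of_type _ _).1
    (isSheaf_fpqcTopology_continuousMapPresheaf.{0, u} Prop)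
  have h1 : Presieve.IsSheafFor (continuousMapPresheaf.{0, u} Prop) (Presieve.ofArrows X f) := by
    rw [Presieve.isSheafFor_iff_generate]
    exact hsh _ (Precoverage.generate_mem_toGrothendieck hf)
  rw [Presieve.isSheafFor_arrows_iff] at h1
  obtain ⟨χ, hχ, -⟩ := h1
    (fun i => ⟨fun x => x ∈ Set.range (D.obj i).hom,
      isOpen_iff_continuous_mem.1 (haveI := hD i; (D.obj i).hom.isOpenEmbedding.isOpen_range)⟩)
    (by
      intro i j Z gi gj h
      apply ContinuousMap.ext
      intro z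
      exact propext (mem_iff D hD gi gj h z))
  let χ' : C(S, Prop) := χ
  refine ⟨⟨{s | χ' s}, continuous_Prop.1 χ'.continuous⟩, fun i => ?_⟩
  ext x
  have := congrArg (fun c : C(X i, Prop) => c x) (hχ i)
  exact Iff.of_eq this

/-- two open immersions into `Z` with the same range are isomorphic over `Z` -/
noncomputable def overIso {Z : Scheme.{u}} (A B : Over Z) [IsOpenImmersion A.hom]
    [IsOpenImmersion B.hom] (e : Set.range A.hom = Set.range B.hom) : A ≅ B :=
  Over.isoMk (IsOpenImmersion.isoOfRangeEq A.hom B.hom e)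
    (IsOpenImmersion.isoOfRangeEq_hom_fac _ _ _)

include hD in
theorem main (hf : Presieve.ofArrows X f ∈ Scheme.fpqcPrecoverage S) : D.IsEffective := by
  obtain ⟨W, hW⟩ := exists_opens D hD hf
  let U : Over S := Over.mk W.ι
  haveI : ∀ i, IsOpenImmersion (D.obj i).hom := hD
  haveI : IsOpenImmersion U.hom := inferInstanceAs (IsOpenImmersion W.ι)
  haveI : ∀ i, IsOpenImmersion ((Desc.canonicalDDFam f U).obj i).hom := fun i =>
    inferInstanceAs (IsOpenImmersion (pullback.fst (f i) U.hom))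
  have hr : ∀ i, Set.range ((Desc.canonicalDDFam f U).obj i).hom = Set.range (D.obj i).hom := by
    intro i
    change Set.range (pullback.fst (f i) U.hom) = _
    rw [Scheme.Pullback.range_fst, ← hW i]
    change (f i) ⁻¹' Set.range W.ι = _
    rw [Scheme.Opens.range_ι]
  -- the component isomorphisms
  let e : ∀ i, (Desc.canonicalDDFam f U).obj i ≅ D.obj i := fun i => overIso _ _ (hr i)
  suffices key : Nonempty (Desc.canonicalDDFam f U ≅ D) from ⟨U, key⟩
  refine ⟨⟨⟨fun i => (e i).hom, ?_⟩, ⟨fun i => (e i).inv, ?_⟩, ?_, ?_⟩⟩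
  · intro T i j x₀ x₁ h v w hw
    rw [← cancel_mono (D.obj j).hom, Category.assoc, Over.w (e j).hom]
    exact (D.φ x₀ x₁ h w).2.trans ((Desc.canonicalDDFam f U).φ x₀ x₁ h v).2.symm
  · intro T i j x₀ x₁ h v w hw
    rw [← cancel_mono ((Desc.canonicalDDFam f U).obj j).hom, Category.assoc, Over.w (e j).inv]
    exact ((Desc.canonicalDDFam f U).φ x₀ x₁ h w).2.trans (D.φ x₀ x₁ h v).2.symm
  · apply Desc.SchDDFam.hom_ext
    funext i
    exact (e i).hom_inv_id
  · apply Desc.SchDDFam.hom_ext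
    funext i
    exact (e i).inv_hom_id

end Groth.Agent.Helper9.OpenDesc
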