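import Mathlib

/-! Open subgroups in locally compact totally disconnected groups (van Dantzig), helper9. -/

set_option autoImplicit false

namespace Groth.Agent.Helper9

open Topology Pointwise

/-- In a Hausdorff locally compact totally disconnected additive topological group, every open
neighbourhood of `0` contains an open subgroup. -/
theorem exists_openAddSubgroup_subset {B : Type*} [AddCommGroup B] [TopologicalSpace B]
    [IsTopologicalAddGroup B] [T2Space B] [LocallyCompactSpace B] [TotallyDisconnectedSpace B]
    {O : Set B} (hO : IsOpen O) (h0 : (0 : B) ∈ O) :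
    ∃ U : AddSubgroup B, IsOpen (U : Set B) ∧ (U : Set B) ⊆ O := by
  obtain ⟨C, hC, h0C, hCO⟩ := exists_compact_subset hO h0
  have hbasis := loc_compact_Haus_tot_disc_of_zero_dim (H := B)
  obtain ⟨W, hW, h0W, hWC⟩ := hbasis.exists_subset_of_mem_open h0C isOpen_interior
  have hWclopen : IsClopen W := hW
  have hWcompact : IsCompact W :=
    hC.of_isClosed_subset hWclopen.isClosed (hWC.trans interior_subset)
  obtain ⟨V, hV, hWV⟩ := compact_open_separated_add_right hWcompact hWclopen.isOpen subset_rfl
  let H : AddSubgroup B :=
    { carrier := {x | ∀ w ∈ W, w + x ∈ W ∧ w - x ∈ W}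
      zero_mem' := fun w hw => by simp [hw]
      add_mem' := by
        intro x y hx hy w hw
        constructor
        · have := (hy _ (hx w hw).1).1
          rwa [add_assoc] at this
        · have := (hy _ (hx w hw).2).2
          rwa [sub_sub] at this
      neg_mem' := by
        intro x hx w hw
        constructor
        · have := (hx w hw).2
          rwa [sub_eq_add_neg] at this
        · have := (hx w hw).1
          rwa [sub_neg_eq_add] }
  refine ⟨H, ?_, ?_⟩
  · apply AddSubgroup.isOpen_of_mem_nhds H (g := 0)
    have hV' : V ∩ -V ∈ 𝓝 (0 : B) := Filter.inter_mem hV (neg_mem_nhds_zero B hV)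
    refine Filter.mem_of_superset hV' ?_
    intro x hx w hw
    constructor
    · exact hWV (Set.add_mem_add hw hx.1)
    · have : -x ∈ V := hx.2
      rw [sub_eq_add_neg]
      exact hWV (Set.add_mem_add hw this)
  · intro x hx
    have := (hx 0 h0W).1
    rw [zero_add] at this
    exact hCO (interior_subset (hWC this))

end Groth.Agent.Helper9
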