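import Mathlib
import Groth.Prelude.Def_Magnet3

set_option autoImplicit false
universe u
open CategoryTheory AlgebraicGeometry Limits MonoidalCategory CartesianMonoidalCategory MonObj Opposite

namespace Groth.Agent.Helper9.OpenZero

variable {S : Scheme.{u}}

/-- The field-valued point of an `S`-scheme `P` at a point `y`, as an object over `S`. -/
noncomputable def ptObj (P : Over S) (y : P.left) : Over S :=
  Over.mk (P.left.fromSpecResidueField y ≫ P.hom)

noncomputable def ptHom (P : Over S) (y : P.left) : ptObj P y ⟶ P :=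
  Over.homMk (P.left.fromSpecResidueField y) rfl

theorem ptHom_left_apply (P : Over S) (y : P.left) (s : (ptObj P y).left) :
    (ptHom P y).left s = y :=
  Scheme.fromSpecResidueField_apply y s

instance (P : Over S) (y : P.left) : Nonempty (ptObj P y).left :=
  inferInstanceAs (Nonempty (Spec (P.left.residueField y)))

/-- A field-valued point landing in the range of an open immersion factors through it. -/
theorem exists_factor (P : Over S) (y : P.left) {X U : Over S} (j : U ⟶ X)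
    [IsOpenImmersion j.left] (f : P ⟶ X) (hy : f.left y ∈ Set.range j.left) :
    ∃ g : ptObj P y ⟶ U, g ≫ j = ptHom P y ≫ f := by
  have hr : Set.range ((ptHom P y).left ≫ f.left) ⊆ Set.range j.left := by
    rintro _ ⟨s, rfl⟩
    rw [Scheme.Hom.comp_apply, ptHom_left_apply]
    exact hy
  refine ⟨Over.homMk (IsOpenImmersion.lift j.left ((ptHom P y).left ≫ f.left) hr) ?_, ?_⟩
  · have e1 : U.hom = j.left ≫ X.hom := (Over.w j).symm
    rw [e1, IsOpenImmersion.lift_fac_assoc, Category.assoc, Over.w f]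
    exact Over.w (ptHom P y)
  · apply Over.OverMorphism.ext
    simp only [Over.comp_left, Over.homMk_left]
    exact IsOpenImmersion.lift_fac _ _ _


open Magnet

/-- An open subscheme which is stable in the equivariant sense is stable as an open subset. -/
theorem stable_of_equivariant {G X U : Over S} [MonObj G] (aX : MonAct G X) (aU : MonAct G U)
    (j : U ⟶ X) [IsOpenImmersion j.left] (hj : MonAct.IsEquivariant aU aX j) :
    (CartesianMonoidalCategory.snd G X).left ⁻¹ᵁ j.left.opensRange ≤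
      aX.act.left ⁻¹ᵁ j.left.opensRange := by
  intro y hy
  have hy' : (CartesianMonoidalCategory.snd G X).left y ∈ Set.range j.left := hy
  obtain ⟨g, hg⟩ := exists_factor (G ⊗ X) y j (CartesianMonoidalCategory.snd G X) hy'
  have h1 : ptHom (G ⊗ X) y =
      lift (ptHom (G ⊗ X) y ≫ CartesianMonoidalCategory.fst G X) g ≫ (G ◁ j) := by
    rw [lift_whiskerLeft, hg]
    apply CartesianMonoidalCategory.hom_ext <;> simp
  have h2 : ptHom (G ⊗ X) y ≫ aX.act =
      (lift (ptHom (G ⊗ X) y ≫ CartesianMonoidalCategory.fst G X) g ≫ aU.act) ≫ j := by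
    have h3 : aU.act ≫ j = (G ◁ j) ≫ aX.act := hj
    rw [Category.assoc, h3, ← Category.assoc, ← h1]
  obtain ⟨s⟩ : Nonempty (ptObj (G ⊗ X) y).left := inferInstance
  have h4 : aX.act.left y = (ptHom (G ⊗ X) y ≫ aX.act).left s := by
    rw [Over.comp_left, Scheme.Hom.comp_apply, ptHom_left_apply]
  show aX.act.left y ∈ Set.range j.left
  rw [h4, h2, Over.comp_left, Scheme.Hom.comp_apply]
  exact ⟨_, rfl⟩

/-- Naturality in `T` of the action on `M ⊗ T` through the first factor. -/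
theorem act_natural {C : Type*} [Category C] [CartesianMonoidalCategory C] {G M : C} [MonObj G]
    (ρ : MonAct G M) {T' T : C} (b : T' ⟶ T) :
    (ρ.prod (MonAct.trivial G T')).act ≫ (M ◁ b) =
      (G ◁ (M ◁ b)) ≫ (ρ.prod (MonAct.trivial G T)).act := by
  apply Magnet.hom_ext_lift₂
  intro P g x
  have hx : x = lift (x ≫ CartesianMonoidalCategory.fst M T') (x ≫ CartesianMonoidalCategory.snd M T') := by
    apply CartesianMonoidalCategory.hom_ext <;> simp
  rw [hx, MonAct.lift_prod_act_assoc, lift_whiskerLeft_assoc, lift_whiskerLeft, lift_whiskerLeft,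
    MonAct.lift_prod_act, MonAct.lift_trivial_act, MonAct.lift_trivial_act]


theorem preimage_of_comm {A B C D : Over S} (f : A ⟶ B) (g : B ⟶ D) (f' : A ⟶ C) (g' : C ⟶ D)
    (h : f ≫ g = f' ≫ g') (W : D.left.Opens) :
    f.left ⁻¹ᵁ (g.left ⁻¹ᵁ W) = f'.left ⁻¹ᵁ (g'.left ⁻¹ᵁ W) :=
  congrArg (fun q => (Over.Hom.left q) ⁻¹ᵁ W) h

/-- The main point: an equivariant morphism `M ⊗ T ⟶ X` whose restriction to the zero section
lands in the open stable `U` lands in `U`. -/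
theorem range_subset (k : Type u) [Field k]
    (M G X U : Over (Spec (CommRingCat.of k))) [MonObj M] [GrpObj G] (i : G ⟶ M) [IsMonHom i]
    (o : 𝟙_ (Over (Spec (CommRingCat.of k))) ⟶ M)
    (hM : ∀ (T : Over (Spec (CommRingCat.of k))) (K : Type u) [Field K]
      (eT : T.left ≅ Spec (CommRingCat.of K)) (W : (M ⊗ T).left.Opens),
      (CartesianMonoidalCategory.snd G (M ⊗ T)).left ⁻¹ᵁ W ≤
          ((((Magnet.MonAct.regular M).restrict i).prod (Magnet.MonAct.trivial G T)).act).left ⁻¹ᵁ W →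
      (CartesianMonoidalCategory.lift (toUnit T ≫ o) (𝟙 T)).left ⁻¹ᵁ W = ⊤ → W = ⊤)
    (aX : MonAct G X) (aU : MonAct G U) (j : U ⟶ X) [IsOpenImmersion j.left]
    (hj : MonAct.IsEquivariant aU aX j) (T : Over (Spec (CommRingCat.of k)))
    (φ : M ⊗ T ⟶ X)
    (hφ : MonAct.IsEquivariant
      (((Magnet.MonAct.regular M).restrict i).prod (Magnet.MonAct.trivial G T)) aX φ)
    (z : T ⟶ U) (hz : lift (toUnit T ≫ o) (𝟙 T) ≫ φ = z ≫ j) :
    Set.range φ.left ⊆ Set.range j.left := by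
  rintro _ ⟨x, rfl⟩
  obtain ⟨ρ, hρ⟩ : ∃ ρ, ρ = (Magnet.MonAct.regular M).restrict i := ⟨_, rfl⟩
  rw [← hρ] at hM hφ
  -- the open set `W`
  obtain ⟨W, hW⟩ : ∃ W : (M ⊗ T).left.Opens, W = φ.left ⁻¹ᵁ j.left.opensRange := ⟨_, rfl⟩
  -- `W` is stable
  have hWst : (CartesianMonoidalCategory.snd G (M ⊗ T)).left ⁻¹ᵁ W ≤
      (ρ.prod (Magnet.MonAct.trivial G T)).act.left ⁻¹ᵁ W := by
    have e1 : (CartesianMonoidalCategory.snd G (M ⊗ T)).left ⁻¹ᵁ W =
        (G ◁ φ).left ⁻¹ᵁ ((CartesianMonoidalCategory.snd G X).left ⁻¹ᵁ j.left.opensRange) := by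
      rw [hW]
      exact preimage_of_comm _ _ _ _ (whiskerLeft_snd _ _).symm _
    have e2 : (ρ.prod (Magnet.MonAct.trivial G T)).act.left ⁻¹ᵁ W =
        (G ◁ φ).left ⁻¹ᵁ (aX.act.left ⁻¹ᵁ j.left.opensRange) := by
      have h3 : (ρ.prod (Magnet.MonAct.trivial G T)).act ≫ φ = (G ◁ φ) ≫ aX.act := hφ
      rw [hW]
      exact preimage_of_comm _ _ _ _ h3 _
    rw [e1, e2]
    exact Scheme.Hom.preimage_mono _ (stable_of_equivariant aX aU j hj)
  -- the field-valued point at `x`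
  obtain ⟨T', hT'⟩ : ∃ T', T' = ptObj (M ⊗ T) x := ⟨_, rfl⟩
  obtain ⟨p, hp⟩ : ∃ p : ptObj (M ⊗ T) x ⟶ M ⊗ T, p = ptHom (M ⊗ T) x := ⟨_, rfl⟩
  obtain ⟨b, hb⟩ : ∃ b : ptObj (M ⊗ T) x ⟶ T, b = p ≫ CartesianMonoidalCategory.snd M T := ⟨_, rfl⟩
  obtain ⟨W', hW'⟩ : ∃ W' : (M ⊗ ptObj (M ⊗ T) x).left.Opens, W' = (M ◁ b).left ⁻¹ᵁ W := ⟨_, rfl⟩
  have hW'st : (CartesianMonoidalCategory.snd G (M ⊗ ptObj (M ⊗ T) x)).left ⁻¹ᵁ W' ≤
      (ρ.prod (Magnet.MonAct.trivial G (ptObj (M ⊗ T) x))).act.left ⁻¹ᵁ W' := by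
    have e1 : (CartesianMonoidalCategory.snd G (M ⊗ ptObj (M ⊗ T) x)).left ⁻¹ᵁ W' =
        (G ◁ (M ◁ b)).left ⁻¹ᵁ ((CartesianMonoidalCategory.snd G (M ⊗ T)).left ⁻¹ᵁ W) := by
      rw [hW']
      exact preimage_of_comm _ _ _ _ (whiskerLeft_snd _ _).symm _
    have e2 : (ρ.prod (Magnet.MonAct.trivial G (ptObj (M ⊗ T) x))).act.left ⁻¹ᵁ W' =
        (G ◁ (M ◁ b)).left ⁻¹ᵁ ((ρ.prod (Magnet.MonAct.trivial G T)).act.left ⁻¹ᵁ W) := by
      rw [hW']
      exact preimage_of_comm _ _ _ _ (act_natural ρ b) _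
    rw [e1, e2]
    exact Scheme.Hom.preimage_mono _ hWst
  have hW'zero : (lift (toUnit (ptObj (M ⊗ T) x) ≫ o) (𝟙 (ptObj (M ⊗ T) x))).left ⁻¹ᵁ W' = ⊤ := by
    have e3 : lift (toUnit (ptObj (M ⊗ T) x) ≫ o) (𝟙 (ptObj (M ⊗ T) x)) ≫ (M ◁ b) =
        b ≫ lift (toUnit T ≫ o) (𝟙 T) := by
      rw [lift_whiskerLeft, Category.id_comp]
      apply CartesianMonoidalCategory.hom_ext
      · rw [lift_fst, Category.assoc, lift_fst, ← Category.assoc]
        congr 1
        exact toUnit_unique _ _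
      · rw [lift_snd, Category.assoc, lift_snd, Category.comp_id]
    have e4 : (lift (toUnit (ptObj (M ⊗ T) x) ≫ o) (𝟙 (ptObj (M ⊗ T) x))).left ⁻¹ᵁ W' =
        b.left ⁻¹ᵁ ((lift (toUnit T ≫ o) (𝟙 T)).left ⁻¹ᵁ W) := by
      rw [hW']
      exact preimage_of_comm _ _ _ _ e3 _
    have e5 : (lift (toUnit T ≫ o) (𝟙 T)).left ⁻¹ᵁ W = z.left ⁻¹ᵁ (j.left ⁻¹ᵁ j.left.opensRange) := by
      rw [hW]
      exact preimage_of_comm _ _ _ _ hz _
    rw [e4, e5, Scheme.Hom.preimage_opensRange]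
    rfl
  have hW'top : W' = ⊤ :=
    hM (ptObj (M ⊗ T) x) (↑((M ⊗ T).left.residueField x)) (Iso.refl _) W' hW'st hW'zero
  -- conclude
  obtain ⟨s⟩ : Nonempty (ptObj (M ⊗ T) x).left := inferInstance
  have hp2 : lift (p ≫ CartesianMonoidalCategory.fst M T) (𝟙 (ptObj (M ⊗ T) x)) ≫ (M ◁ b) = p := by
    rw [lift_whiskerLeft, Category.id_comp, hb]
    apply CartesianMonoidalCategory.hom_ext <;> simp
  have hx : x = (M ◁ b).left
      ((lift (p ≫ CartesianMonoidalCategory.fst M T) (𝟙 (ptObj (M ⊗ T) x))).left s) := by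
    rw [← Scheme.Hom.comp_apply, ← Over.comp_left, hp2, hp, ptHom_left_apply]
  have hmem : (lift (p ≫ CartesianMonoidalCategory.fst M T) (𝟙 (ptObj (M ⊗ T) x))).left s ∈ W' := by
    rw [hW'top]; exact True.intro
  rw [hW'] at hmem
  have hxW : (M ◁ b).left
      ((lift (p ≫ CartesianMonoidalCategory.fst M T) (𝟙 (ptObj (M ⊗ T) x))).left s) ∈ W := hmem
  rw [← hx, hW] at hxW
  exact hxW

end Groth.Agent.Helper9.OpenZero
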