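import Mathlib

set_option autoImplicit false

namespace Groth.Agent.Helper9.OrbRR

open Finset

/-- The function `f(x) = x(x-N)/2 + (N^2-1)/12` on `ℤ/N`. -/
noncomputable def F (N : ℕ) (x : ZMod N) : ℝ :=
  ((x.val : ℝ) * ((x.val : ℝ) - (N : ℝ))) / 2 + ((N : ℝ) ^ 2 - 1) / 12

theorem sum_range_aux (c : ℝ) (a : ℝ) (k : ℕ) :
    ∑ v ∈ range k, (((v : ℝ) * ((v : ℝ) - a)) / 2 + c) =
      ((k : ℝ) - 1) * k * (2 * k - 1) / 12 - a * k * ((k : ℝ) - 1) / 4 + k * c := by
  induction k with
  | zero => simp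
  | succ k ih =>
    rw [Finset.sum_range_succ, ih]
    push_cast
    ring

theorem sum_F (N : ℕ) [NeZero N] : ∑ x : ZMod N, F N x = 0 := by
  obtain ⟨n, rfl⟩ := Nat.exists_eq_succ_of_ne_zero (NeZero.ne N)
  have h1 : ∑ x : ZMod (n+1), F (n+1) x =
      ∑ v ∈ range (n+1), (((v : ℝ) * ((v : ℝ) - ((n+1 : ℕ) : ℝ))) / 2 +
        ((((n+1 : ℕ) : ℝ) ^ 2 - 1) / 12)) :=
    Fin.sum_univ_eq_sum_range (fun v => (((v : ℝ) * ((v : ℝ) - ((n+1 : ℕ) : ℝ))) / 2 +
      ((((n+1 : ℕ) : ℝ) ^ 2 - 1) / 12))) (n+1)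
  rw [h1, sum_range_aux]
  push_cast
  ring

theorem F_second_diff (N : ℕ) [NeZero N] (y : ZMod N) :
    2 * F N y - F N (y + 1) - F N (y - 1) = (if y = 0 then (N : ℝ) else 0) - 1 := by
  have hN0 : 0 < N := Nat.pos_of_ne_zero (NeZero.ne N)
  rcases Nat.lt_or_ge 1 N with hN | hN
  swap
  · have h1 : N = 1 := by omega
    subst h1
    have hy : y = 0 := Subsingleton.elim _ _
    subst hy
    simp [F]
  haveI : Fact (1 < N) := ⟨hN⟩
  have hv : y.val < N := ZMod.val_lt y
  have hadd : (y + 1).val = (y.val + 1) % N := by rw [ZMod.val_add, ZMod.val_one]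
  have hsub : (y - 1).val = (y.val + (N - 1)) % N := by
    have : y - 1 = y + ((N - 1 : ℕ) : ZMod N) := by
      rw [Nat.cast_sub hN0]; simp [sub_eq_add_neg]
    rw [this, ZMod.val_add, ZMod.val_natCast, Nat.add_mod_mod]
  by_cases h0 : y = 0
  · subst h0
    have e1 : ((0 : ZMod N) + 1).val = 1 := by rw [zero_add, ZMod.val_one]
    have e2 : ((0 : ZMod N) - 1).val = N - 1 := by
      rw [hsub, ZMod.val_zero, zero_add, Nat.mod_eq_of_lt (by omega)]
    unfold F
    rw [e1, e2, ZMod.val_zero, if_pos rfl, Nat.cast_sub hN0]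
    push_cast
    ring
  · have hv0 : y.val ≠ 0 := fun h => h0 ((ZMod.val_eq_zero y).1 h)
    rw [if_neg h0]
    have e2 : (y - 1).val = y.val - 1 := by
      rw [hsub]
      have : y.val + (N - 1) = (y.val - 1) + N := by omega
      rw [this, Nat.add_mod_right, Nat.mod_eq_of_lt (by omega)]
    have hc : ((y.val - 1 : ℕ) : ℝ) = (y.val : ℝ) - 1 := by
      rw [Nat.cast_sub (by omega)]; simp
    rcases Nat.lt_or_ge (y.val + 1) N with h1 | h1
    · have e1 : (y + 1).val = y.val + 1 := by rw [hadd, Nat.mod_eq_of_lt h1]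
      unfold F
      rw [e1, e2, hc]
      push_cast
      ring
    · have hvN : y.val + 1 = N := by omega
      have e1 : (y + 1).val = 0 := by rw [hadd, hvN, Nat.mod_self]
      have hN' : (N : ℝ) = (y.val : ℝ) + 1 := by exact_mod_cast hvN.symm
      unfold F
      rw [e1, e2, hc, hN']
      push_cast
      ring

theorem reindex (N : ℕ) [NeZero N] (a b : ZMod N) :
    ∑ k : ZMod N, F N (a - k) * F N (b - k) = ∑ y : ZMod N, F N (y + (a - b)) * F N y := by
  refine Fintype.sum_equiv (Equiv.subLeft b) _ _ ?_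
  intro k
  simp only [Equiv.subLeft_apply]
  congr 2
  ring

theorem sum_g_mul (N : ℕ) [NeZero N] (i j : ZMod N) :
    ∑ k : ZMod N, (F N (i - k) - F N (i - k - 1)) * (F N (j - k) - F N (j - k - 1)) =
      (N : ℝ) * F N (j - i) := by
  have e1 : ∀ k : ZMod N, (F N (i - k) - F N (i - k - 1)) * (F N (j - k) - F N (j - k - 1)) =
      F N (i - k) * F N (j - k) - F N (i - k) * F N ((j - 1) - k)
        - F N ((i - 1) - k) * F N (j - k) + F N ((i - 1) - k) * F N ((j - 1) - k) := by
    intro k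
    have h1 : i - k - 1 = i - 1 - k := by ring
    have h2 : j - k - 1 = j - 1 - k := by ring
    rw [h1, h2]; ring
  simp only [e1, Finset.sum_add_distrib, Finset.sum_sub_distrib, reindex]
  have e2 : i - (j - 1) = i - j + 1 := by ring
  have e3 : i - 1 - j = i - j - 1 := by ring
  have e4 : i - 1 - (j - 1) = i - j := by ring
  rw [e2, e3, e4]
  rw [← Finset.sum_sub_distrib, ← Finset.sum_sub_distrib, ← Finset.sum_add_distrib]
  have e5 : ∀ y : ZMod N, F N (y + (i - j)) * F N y - F N (y + (i - j + 1)) * F N y -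
      F N (y + (i - j - 1)) * F N y + F N (y + (i - j)) * F N y =
      F N y * ((if y = j - i then (N : ℝ) else 0) - 1) := by
    intro y
    have := F_second_diff N (y + (i - j))
    have h1 : y + (i - j) + 1 = y + (i - j + 1) := by ring
    have h2 : y + (i - j) - 1 = y + (i - j - 1) := by ring
    rw [h1, h2] at this
    have h3 : (y + (i - j) = 0) ↔ y = j - i := by
      constructor
      · intro h; linear_combination h
      · intro h; rw [h]; ring
    simp only [h3] at this
    rw [← this]; ring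
  simp only [e5, mul_sub, mul_one, Finset.sum_sub_distrib, sum_F, mul_ite, mul_zero, sub_zero]
  rw [Finset.sum_ite_eq' Finset.univ (j - i) (fun y => F N y * (N : ℝ))]
  simp [mul_comm]

theorem posSemidef (N : ℕ) [NeZero N] :
    (Matrix.of fun i j : ZMod N => F N (j - i) / (N : ℝ)).PosSemidef := by
  have hN : (N : ℝ) ≠ 0 := Nat.cast_ne_zero.2 (NeZero.ne N)
  set B : Matrix (ZMod N) (ZMod N) ℝ :=
    Matrix.of fun k j => (F N (j - k) - F N (j - k - 1)) / (N : ℝ) with hB
  have : (Matrix.of fun i j : ZMod N => F N (j - i) / (N : ℝ)) = B.conjTranspose * B := by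
    ext i j
    simp only [Matrix.mul_apply, Matrix.conjTranspose_apply, hB, Matrix.of_apply, star_trivial]
    have : ∀ k : ZMod N, (F N (i - k) - F N (i - k - 1)) / (N : ℝ) *
        ((F N (j - k) - F N (j - k - 1)) / (N : ℝ)) =
        ((F N (i - k) - F N (i - k - 1)) * (F N (j - k) - F N (j - k - 1))) / ((N : ℝ) * N) := by
      intro k; field_simp
    simp only [this, ← Finset.sum_div, sum_g_mul]
    field_simp
  rw [this]
  exact Matrix.posSemidef_conjTranspose_mul_self B

end Groth.Agent.Helper9.OrbRR
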