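import Mathlib

/-! Derivations of an Ore extension `O[∂]` with values in `End_K(E)` (helper9). -/

namespace Groth.Agent.Helper9.Ore

universe u v w x

variable {K : Type u} [Field K]
    {O : Type v} [CommRing O] [Algebra K O] (δ : Derivation K O O)
    {D : Type w} [Ring D] [Algebra K D] (ι : O →ₐ[K] D) (d : D)
    {E : Type x} [AddCommGroup E] [Module K E] (ρ : D →ₐ[K] Module.End K E)

/-- the linear map `c ↦ Σ ι (c i) * d^i` -/
noncomputable def eLin : (ℕ →₀ O) →ₗ[K] D :=
  Finsupp.lsum K (fun i : ℕ => (LinearMap.mulRight K (d ^ i)).comp ι.toLinearMap)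

theorem eLin_apply (c : ℕ →₀ O) : eLin ι d c = c.sum (fun i f => ι f * d ^ i) := by
  simp only [eLin, Finsupp.lsum_apply]
  rfl

theorem eLin_single (i : ℕ) (f : O) : eLin ι d (Finsupp.single i f) = ι f * d ^ i := by
  rw [eLin_apply, Finsupp.sum_single_index]
  rw [map_zero, zero_mul]

/-- the twisted powers `V i = Σ_{j<i} ρ(d)^j v ρ(d)^{i-1-j}` -/
def V (v : Module.End K E) : ℕ → Module.End K E
  | 0 => 0
  | (i + 1) => v * ρ d ^ i + ρ d * V v i

/-- the candidate derivation on coefficient vectors -/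
noncomputable def s₀ (r : O →ₗ[K] Module.End K E) (v : Module.End K E) :
    (ℕ →₀ O) →ₗ[K] Module.End K E :=
  Finsupp.lsum K (fun i : ℕ =>
    (LinearMap.mulRight K (ρ d ^ i)).comp r +
      (LinearMap.mulRight K (V d ρ v i)).comp (ρ.toLinearMap.comp ι.toLinearMap))

theorem s₀_single (r : O →ₗ[K] Module.End K E) (v : Module.End K E) (i : ℕ) (f : O) :
    s₀ ι d ρ r v (Finsupp.single i f) = r f * ρ d ^ i + ρ (ι f) * V d ρ v i := by
  simp only [s₀, Finsupp.lsum_apply]
  rw [Finsupp.sum_single_index]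
  · rfl
  · simp

variable {δ ι d ρ}

theorem main
    (hd : ∀ f : O, d * ι f = ι f * d + ι (δ f))
    (hbasis : Function.Bijective (fun c : ℕ →₀ O => c.sum (fun i f => ι f * d ^ i)))
    (r : O →ₗ[K] Module.End K E) (v : Module.End K E)
    (hr : ∀ f g : O, r (f * g) = r f * ρ (ι g) + ρ (ι f) * r g)
    (hrv : ∀ f : O, (r f * ρ d - ρ d * r f) + (ρ (ι f) * v - v * ρ (ι f)) + r (δ f) = 0) :
    ∃! s : D →ₗ[K] Module.End K E,
      (∀ P Q : D, s (P * Q) = s P * ρ Q + ρ P * s Q) ∧ s ∘ₗ ι.toLinearMap = r ∧ s d = v := by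
  classical
  have hbij : Function.Bijective (eLin ι d) := by
    have : (eLin ι d : (ℕ →₀ O) → D) = fun c : ℕ →₀ O => c.sum (fun i f => ι f * d ^ i) :=
      funext (eLin_apply ι d)
    rw [this]; exact hbasis
  let e : (ℕ →₀ O) ≃ₗ[K] D := LinearEquiv.ofBijective (eLin ι d) hbij
  have he : ∀ c, e c = eLin ι d c := fun c => rfl
  -- induction principle for `D`
  have hind : ∀ (p : D → Prop), p 0 → (∀ P Q, p P → p Q → p (P + Q)) →
      (∀ i f, p (ι f * d ^ i)) → ∀ P, p P := by
    intro p h0 hadd hsingle P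
    obtain ⟨c, rfl⟩ := e.surjective P
    induction c using Finsupp.induction_linear with
    | zero => rw [map_zero]; exact h0
    | add a b ha hb => rw [map_add]; exact hadd _ _ ha hb
    | single i f => rw [he, eLin_single]; exact hsingle i f
  have hr1 : r 1 = 0 := by
    have h := hr 1 1
    rw [mul_one, map_one ι, map_one ρ, mul_one, one_mul] at h
    have : r 1 + r 1 = r 1 + 0 := by rw [add_zero]; exact h.symm
    exact add_left_cancel this
  have hρd : ∀ g : O, ρ d * ρ (ι g) = ρ (ι g) * ρ d + ρ (ι (δ g)) := by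
    intro g
    rw [← map_mul, hd, map_add, map_mul]
  -- the candidate
  let s : D →ₗ[K] Module.End K E := (s₀ ι d ρ r v).comp e.symm.toLinearMap
  have hs_single : ∀ i f, s (ι f * d ^ i) = r f * ρ d ^ i + ρ (ι f) * V d ρ v i := by
    intro i f
    have : e.symm (ι f * d ^ i) = Finsupp.single i f := by
      rw [LinearEquiv.symm_apply_eq, he, eLin_single]
    show s₀ ι d ρ r v (e.symm (ι f * d ^ i)) = _
    rw [this, s₀_single]
  have hs_ι : ∀ f, s (ι f) = r f := by
    intro f
    have := hs_single 0 f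
    rwa [pow_zero, mul_one, pow_zero, mul_one, V, mul_zero, add_zero] at this
  have hs_d : s d = v := by
    have := hs_single 1 1
    rwa [map_one, one_mul, pow_one, hr1, zero_mul, zero_add, map_one, one_mul, V, pow_zero,
      mul_one, V, mul_zero, add_zero] at this
  -- Leibniz for `ι f` on the left
  have h1 : ∀ f Q, s (ι f * Q) = r f * ρ Q + ρ (ι f) * s Q := by
    intro f Q
    refine hind (fun Q => s (ι f * Q) = r f * ρ Q + ρ (ι f) * s Q) ?_ ?_ ?_ Q
    · simp
    · intro P Q hP hQ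
      rw [mul_add, map_add, hP, hQ, map_add, map_add, mul_add, mul_add]
      abel
    · intro j g
      rw [← mul_assoc, ← map_mul, hs_single, hs_single, hr, map_mul, map_mul, map_mul, map_pow]
      simp only [add_mul, mul_add, mul_assoc]
      abel
  -- Leibniz for `d` on the left
  have h2 : ∀ Q, s (d * Q) = v * ρ Q + ρ d * s Q := by
    intro Q
    refine hind (fun Q => s (d * Q) = v * ρ Q + ρ d * s Q) ?_ ?_ ?_ Q
    · simp
    · intro P Q hP hQ
      rw [mul_add, map_add, hP, hQ, map_add, map_add, mul_add, mul_add]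
      abel
    · intro j g
      have e1 : d * (ι g * d ^ j) = ι g * d ^ (j + 1) + ι (δ g) * d ^ j := by
        rw [← mul_assoc, hd, add_mul, mul_assoc, ← pow_succ']
      rw [e1, map_add, hs_single, hs_single, hs_single, map_mul, map_pow]
      have hI := hrv g
      have hI' : r g * ρ d ^ (j + 1) + ρ (ι g) * v * ρ d ^ j + r (δ g) * ρ d ^ j =
          ρ d * r g * ρ d ^ j + v * ρ (ι g) * ρ d ^ j := by
        have := congrArg (fun z => z * ρ d ^ j) hI
        simp only [add_mul, sub_mul, zero_mul] at this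
        rw [pow_succ', ← mul_assoc]
        rw [← sub_eq_zero]
        rw [← this]
        abel
      have hV : V d ρ v (j + 1) = v * ρ d ^ j + ρ d * V d ρ v j := rfl
      rw [hV]
      have hc := hρd g
      simp only [mul_add, mul_assoc] at hI' ⊢
      rw [← mul_assoc (ρ d) (ρ (ι g)) (V d ρ v j), hc, add_mul]
      simp only [mul_assoc]
      rw [← sub_eq_zero] at hI' ⊢
      rw [← hI']
      abel
  -- the set of left factors satisfying Leibniz
  have hmul : ∀ P₁ P₂ : D, (∀ Q, s (P₁ * Q) = s P₁ * ρ Q + ρ P₁ * s Q) →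
      (∀ Q, s (P₂ * Q) = s P₂ * ρ Q + ρ P₂ * s Q) →
      ∀ Q, s (P₁ * P₂ * Q) = s (P₁ * P₂) * ρ Q + ρ (P₁ * P₂) * s Q := by
    intro P₁ P₂ h₁ h₂ Q
    rw [mul_assoc, h₁, h₂, h₁ P₂, map_mul, map_mul]
    simp only [add_mul, mul_add, mul_assoc]
    abel
  have hιL : ∀ f Q, s (ι f * Q) = s (ι f) * ρ Q + ρ (ι f) * s Q := by
    intro f Q; rw [h1, hs_ι]
  have hdL : ∀ Q, s (d * Q) = s d * ρ Q + ρ d * s Q := by
    intro Q; rw [h2, hs_d]
  have hs1 : s 1 = 0 := by
    have := hs_ι 1
    rwa [map_one, hr1] at this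
  have hpowL : ∀ i : ℕ, ∀ Q, s (d ^ i * Q) = s (d ^ i) * ρ Q + ρ (d ^ i) * s Q := by
    intro i
    induction i with
    | zero =>
      intro Q
      rw [pow_zero, one_mul, hs1, zero_mul, zero_add, map_one, one_mul]
    | succ i ih =>
      intro Q
      rw [pow_succ]
      exact hmul _ _ ih hdL Q
  have hLeib : ∀ P Q : D, s (P * Q) = s P * ρ Q + ρ P * s Q := by
    intro P
    refine hind (fun P => ∀ Q, s (P * Q) = s P * ρ Q + ρ P * s Q) ?_ ?_ ?_ P
    · intro Q; simp
    · intro P₁ P₂ h₁ h₂ Q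
      rw [add_mul, map_add, h₁, h₂, map_add, map_add, add_mul, add_mul]
      abel
    · intro i f
      exact hmul _ _ (hιL f) (hpowL i)
  refine ⟨s, ⟨hLeib, ?_, hs_d⟩, ?_⟩
  · apply LinearMap.ext
    intro f
    exact hs_ι f
  · rintro s' ⟨hL', hι', hd'⟩
    have hs'ι : ∀ f, s' (ι f) = r f := fun f => LinearMap.congr_fun hι' f
    have hs'1 : s' 1 = 0 := by
      have := hs'ι 1
      rwa [map_one, hr1] at this
    have hs'pow : ∀ i : ℕ, s' (d ^ i) = V d ρ v i := by
      intro i
      induction i with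
      | zero => rw [pow_zero, hs'1]; rfl
      | succ i ih =>
        rw [pow_succ', hL', hd', ih, map_pow]
        rfl
    apply LinearMap.ext
    intro P
    refine hind (fun P => s' P = s P) ?_ ?_ ?_ P
    · simp
    · intro P Q hP hQ
      rw [map_add, map_add, hP, hQ]
    · intro i f
      rw [hL', hs'ι, hs'pow, hs_single, map_pow]

end Groth.Agent.Helper9.Ore
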