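import Mathlib
import Groth.Agent.Helper9.OverInj
import Groth.Agent.Helper9.KInjAdj

/-! Extension by zero of abelian sheaves from a slice site is exact; restriction to a slice site
preserves K-injective complexes (S0942). -/

set_option autoImplicit false
universe u

open CategoryTheory CategoryTheory.Limits Opposite

namespace Groth.Agent.Helper9.OverInj

variable {C : Type u} [SmallCategory C] (U : C) (J : GrothendieckTopology C)

instance isLeftAdjoint_jshriek : (jshriek U J).IsLeftAdjoint := (jadj U J).isLeftAdjoint

instance isRightAdjoint_jstar : (jstar U J).IsRightAdjoint := (jadj U J).isRightAdjoint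

instance additive_jstar : (jstar U J).Additive := Functor.additive_of_preserves_binary_products _

instance additive_jshriek : (jshriek U J).Additive := (jadj U J).left_adjoint_additive

instance preservesFiniteLimits_jshriek : PreservesFiniteLimits (jshriek U J) := by
  rw [Functor.preservesFiniteLimits_iff_forall_exact_map_and_mono]
  intro S hS
  haveI := hS.mono_f
  have hc : PreservesFiniteColimits (jshriek U J) := inferInstance
  exact ⟨((Functor.preservesFiniteColimits_iff_forall_exact_map_and_epi _).1 hc S hS).1,
    (jshriek U J).map_mono S.f⟩

theorem isKInjective_jstar (I : CochainComplex (Sheaf J AddCommGrpCat.{u}) ℤ) [I.IsKInjective] :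
    CochainComplex.IsKInjective
      (((jstar U J).mapHomologicalComplex (ComplexShape.up ℤ)).obj I) :=
  Groth.Agent.Helper9.KInjAdj.isKInjective_map (jadj U J) I

end Groth.Agent.Helper9.OverInj
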