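import Mathlib
import Groth.Agent.Helper9.OverInj

/-! Restriction of abelian sheaves along `Over.map g` preserves injectives. -/

set_option autoImplicit false
universe u

open CategoryTheory CategoryTheory.Limits Opposite

namespace Groth.Agent.Helper9.OverMapInj

variable {C : Type u} [SmallCategory C] (J : GrothendieckTopology C) {X : C} (x : Over X)

/-- restriction along `Over.map x.hom` -/
abbrev restr : Sheaf (J.over X) AddCommGrpCat.{u} ⥤ Sheaf (J.over x.left) AddCommGrpCat.{u} :=
  (Over.map x.hom).sheafPushforwardContinuous AddCommGrpCat.{u} (J.over x.left) (J.over X)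

/-- restriction along the backward iterated slice functor -/
abbrev back : Sheaf ((J.over X).over x) AddCommGrpCat.{u} ⥤
    Sheaf (J.over x.left) AddCommGrpCat.{u} :=
  x.iteratedSliceBackward.sheafPushforwardContinuous AddCommGrpCat.{u}
    (J.over x.left) ((J.over X).over x)

/-- restriction along the forward iterated slice functor -/
abbrev forw : Sheaf (J.over x.left) AddCommGrpCat.{u} ⥤
    Sheaf ((J.over X).over x) AddCommGrpCat.{u} :=
  x.iteratedSliceForward.sheafPushforwardContinuous AddCommGrpCat.{u}
    ((J.over X).over x) (J.over x.left)

noncomputable def adj₁ : forw J x ⊣ back J x :=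
  letI : x.iteratedSliceEquiv.functor.IsContinuous ((J.over X).over x) (J.over x.left) :=
    inferInstanceAs (x.iteratedSliceForward.IsContinuous _ _)
  letI : x.iteratedSliceEquiv.inverse.IsContinuous (J.over x.left) ((J.over X).over x) :=
    inferInstanceAs (x.iteratedSliceBackward.IsContinuous _ _)
  x.iteratedSliceEquiv.toAdjunction.sheafPushforwardContinuous
    (E := AddCommGrpCat.{u}) ((J.over X).over x) (J.over x.left)

noncomputable def adj₂ : back J x ⊣ forw J x :=
  letI : x.iteratedSliceEquiv.symm.inverse.IsContinuous ((J.over X).over x) (J.over x.left) :=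
    inferInstanceAs (x.iteratedSliceForward.IsContinuous _ _)
  letI : x.iteratedSliceEquiv.symm.functor.IsContinuous (J.over x.left) ((J.over X).over x) :=
    inferInstanceAs (x.iteratedSliceBackward.IsContinuous _ _)
  x.iteratedSliceEquiv.symm.toAdjunction.sheafPushforwardContinuous
    (E := AddCommGrpCat.{u}) (J.over x.left) ((J.over X).over x)

instance : (forw J x).PreservesMonomorphisms := by
  haveI : (forw J x).IsRightAdjoint := (adj₂ J x).isRightAdjoint
  infer_instance

lemma injective_back (I : Sheaf ((J.over X).over x) AddCommGrpCat.{u}) [Injective I] :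
    Injective ((back J x).obj I) :=
  Injective.injective_of_adjoint (adj₁ J x) I

/-- `Over.map x.hom` factors through the iterated slice -/
def factIso : x.iteratedSliceBackward ⋙ Over.forget x ≅ Over.map x.hom :=
  NatIso.ofComponents (fun Y => Iso.refl _) (by
    intro Y Y' f
    apply Over.OverMorphism.ext
    simp only [Functor.comp_map, Iso.refl_hom, Over.comp_left]
    erw [Category.comp_id, Category.id_comp]
    rfl)

noncomputable def restrIso :
    OverInj.jstar x (J.over X) ⋙ back J x ≅ restr J x :=
  Functor.sheafPushforwardContinuousComp' (factIso x) AddCommGrpCat.{u} (J.over x.left)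
    ((J.over X).over x) (J.over X)

theorem injective_restr (I : Sheaf (J.over X) AddCommGrpCat.{u}) [Injective I] :
    Injective ((restr J x).obj I) := by
  haveI : Injective ((OverInj.jstar x (J.over X)).obj I) := OverInj.injective_jstar x (J.over X) I
  haveI : Injective ((back J x).obj ((OverInj.jstar x (J.over X)).obj I)) :=
    injective_back J x ((OverInj.jstar x (J.over X)).obj I)
  exact Injective.of_iso ((restrIso J x).app I)
    (inferInstanceAs (Injective ((back J x).obj ((OverInj.jstar x (J.over X)).obj I))))

end Groth.Agent.Helper9.OverMapInj
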