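import Mathlib
import Groth.Prelude.Def_SGA4a

set_option autoImplicit false
universe v u w
open CategoryTheory Limits

namespace Groth.Agent.Helper9.OverProd

variable {E : Type v} [Category.{u} E] (U : E) (hU : ∀ (Z : E) (a b : Z ⟶ U), a = b)
  (I : Type w) [Nonempty I] [HasProductsOfShape I E]

include hU in
theorem preserves_forget : PreservesLimitsOfShape (Discrete I) (Over.forget U) := by
  haveI : ∀ f : I → Over U, PreservesLimit (Discrete.functor f) (Over.forget U) := by
    intro f
    let i₀ : I := Classical.arbitrary I
    let P : E := ∏ᶜ (fun i => (f i).left)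
    let c : Fan f := Fan.mk (Over.mk (Pi.π (fun i => (f i).left) i₀ ≫ (f i₀).hom))
      (fun i => Over.homMk (Pi.π (fun i => (f i).left) i) (hU _ _ _))
    have hc : IsLimit c := Fan.IsLimit.mk c
      (fun s => Over.homMk (Pi.lift (fun i => (s.proj i).left)) (hU _ _ _))
      (fun s i => by
        apply Over.OverMorphism.ext
        exact Pi.lift_π _ _)
      (fun s m hm => by
        apply Over.OverMorphism.ext
        apply Pi.hom_ext
        intro i
        have h1 : m.left ≫ Pi.π (fun i => (f i).left) i = (s.proj i).left :=
          congrArg (fun t => t.left) (hm i)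
        have h2 : Pi.lift (fun i => (s.proj i).left) ≫ Pi.π (fun i => (f i).left) i =
            (s.proj i).left := Pi.lift_π _ _
        exact h1.trans h2.symm)
    refine preservesLimit_of_preserves_limit_cone hc ?_
    refine (isLimitMapConeFanMkEquiv (Over.forget U) f _).symm ?_
    exact productIsProduct (fun i => (f i).left)
  exact preservesLimitsOfShape_of_discrete _

end Groth.Agent.Helper9.OverProd
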