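import Mathlib
import Groth.Prelude.Def_CohCx
import Groth.Agent.Helper9.OverKInj
import Groth.Agent.Helper9.ExtAdj

/-! Restriction to a slice site preserves totally acyclic abelian sheaves (S3094). -/

set_option autoImplicit false
universe u

open CategoryTheory CategoryTheory.Limits Opposite Abelian

namespace Groth.Agent.Helper9.OverTotAcyc

open Groth.Agent.Helper9.OverInj

variable {C : Type u} [SmallCategory C] (J : GrothendieckTopology C)

/-- the free abelian sheaf on a sheaf of sets -/
noncomputable abbrev Lfree : Sheaf J (Type u) ⥤ Sheaf J AddCommGrpCat.{u} :=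
  Sheaf.composeAndSheafify J AddCommGrpCat.free.{u}

/-- the free–forgetful adjunction on sheaves -/
noncomputable abbrev adjFree : Lfree J ⊣ sheafCompose J (forget AddCommGrpCat.{u}) :=
  Sheaf.adjunction J AddCommGrpCat.adj.{u}

variable (X : C)

/-- restriction of sheaves of sets -/
abbrev jstarSet : Sheaf J (Type u) ⥤ Sheaf (J.over X) (Type u) :=
  (Over.forget X).sheafPushforwardContinuous (Type u) (J.over X) J

/-- extension by the empty set -/
noncomputable abbrev jshriekSet : Sheaf (J.over X) (Type u) ⥤ Sheaf J (Type u) :=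
  (Over.forget X).sheafPullback (Type u) (J.over X) J

/-- the adjunction for sheaves of sets -/
noncomputable abbrev jadjSet : jshriekSet J X ⊣ jstarSet J X :=
  (Over.forget X).sheafAdjunctionContinuous (Type u) (J.over X) J

/-- the two right adjoints agree -/
def rightIso : jstar X J ⋙ sheafCompose (J.over X) (forget AddCommGrpCat.{u}) ≅
    sheafCompose J (forget AddCommGrpCat.{u}) ⋙ jstarSet J X :=
  NatIso.ofComponents (fun F => Iso.refl _) (by intro F G φ; rfl)

/-- extension by zero of a free sheaf is the free sheaf on the extension by the empty set -/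
noncomputable def shriekFreeIso :
    Lfree (J.over X) ⋙ jshriek X J ≅ jshriekSet J X ⋙ Lfree J :=
  (conjugateIsoEquiv ((jadjSet J X).comp (adjFree J))
    ((adjFree (J.over X)).comp (jadj X J))).symm (rightIso J X).symm

instance : (jstar X J).IsLeftAdjoint :=
  ((Over.forget X).sheafAdjunctionCocontinuous AddCommGrpCat.{u} (J.over X) J).isLeftAdjoint

theorem isTotallyAcyclic_jstar (F : Sheaf J AddCommGrpCat.{u}) (hF : CohCx.IsTotallyAcyclic F) :
    CohCx.IsTotallyAcyclic ((jstar X J).obj F) := by
  intro K' p
  change Subsingleton (Ext ((Lfree (J.over X)).obj K') ((jstar X J).obj F) (p + 1))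
  rw [← Groth.Agent.Helper9.ExtAdj.subsingleton_iff (jadj X J)
    (fun I hI => by haveI := hI; exact injective_jstar X J I)]
  have h := hF ((jshriekSet J X).obj K') p
  change Subsingleton (Ext ((Lfree J).obj ((jshriekSet J X).obj K')) F (p + 1)) at h
  let i : (jshriek X J).obj ((Lfree (J.over X)).obj K') ≅ (Lfree J).obj ((jshriekSet J X).obj K') :=
    (shriekFreeIso J X).app K'
  constructor
  intro x y
  have hx : (Ext.mk₀ i.inv).comp x (zero_add _) = (Ext.mk₀ i.inv).comp y (zero_add _) :=
    Subsingleton.elim _ _
  have key : ∀ z : Ext ((jshriek X J).obj ((Lfree (J.over X)).obj K')) F (p + 1),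
      (Ext.mk₀ i.hom).comp ((Ext.mk₀ i.inv).comp z (zero_add _)) (zero_add _) = z := by
    intro z
    rw [← Ext.comp_assoc_of_second_deg_zero, Ext.mk₀_comp_mk₀, i.hom_inv_id, Ext.mk₀_id_comp]
  rw [← key x, ← key y, hx]

end Groth.Agent.Helper9.OverTotAcyc
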