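import Groth.Agent.Helper9.FM3
import Groth.Prelude.Def_PCoh
import Mathlib

set_option autoImplicit false

namespace Groth.Agent.Helper9.PCohA

open CategoryTheory CategoryTheory.Limits PCoh
open Groth.Agent.Helper9.FM

universe v u

variable {C : Type u} [Category.{v} C] [Abelian C] (P : ObjectProperty C)

theorem isOfFiniteType_of_epi {X Y : C} (p : X ⟶ Y) [Epi p] (h : IsOfFiniteType P X) :
    IsOfFiniteType P Y := by
  obtain ⟨E, π, hE, hπ⟩ := h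
  exact ⟨E, π ≫ p, hE, epi_comp _ _⟩

theorem S5623 (S : ShortComplex C) (hS : S.Exact) (hf : Mono S.f)
    (hG : PCoh.IsOfFiniteType P S.X₂)
    (hH : (∀ (E : C) (u : E ⟶ S.X₃), P E → PCoh.IsOfFiniteType P (kernel u))) :
    PCoh.IsOfFiniteType P S.X₁ := by
  obtain ⟨E₀, π, hE₀, hπ⟩ := hG
  have hft := hH E₀ (π ≫ S.g) hE₀
  have hz : (kernel.ι (π ≫ S.g) ≫ π) ≫ S.g = 0 := by
    rw [Category.assoc, kernel.condition]
  let t := hS.lift _ hz
  have ht : t ≫ S.f = kernel.ι (π ≫ S.g) ≫ π := hS.lift_f _ hz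
  have : Epi t := by
    rw [epi_iff]
    intro x₁
    obtain ⟨e₀, he₀⟩ := (epi_iff π).1 hπ (m S.f x₁)
    have h0 : m (π ≫ S.g) e₀ = 0 := by
      rw [m_comp_apply, he₀, ← m_comp_apply, S.zero]; simp
    obtain ⟨k, hk⟩ := exists_kernel_ι_eq _ e₀ h0
    refine ⟨k, ?_⟩
    apply (mono_iff S.f).1 hf
    rw [← m_comp_apply, ht, m_comp_apply, hk, he₀]
  exact isOfFiniteType_of_epi P t hft

theorem precoherent_of_shortExact (S : ShortComplex C) (hS : S.ShortExact)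
    (hF : ∀ (E : C) (u : E ⟶ S.X₁), P E → PCoh.IsOfFiniteType P (kernel u))
    (hH : ∀ (E : C) (u : E ⟶ S.X₃), P E → PCoh.IsOfFiniteType P (kernel u))
    (E : C) (u : E ⟶ S.X₂) (hE : P E) : PCoh.IsOfFiniteType P (kernel u) := by
  haveI := hS.mono_f
  obtain ⟨E₁, π₁, hE₁, hπ₁⟩ := hH E (u ≫ S.g) hE
  have hz : (kernel.ι (u ≫ S.g) ≫ u) ≫ S.g = 0 := by
    rw [Category.assoc, kernel.condition]
  let t := hS.exact.lift _ hz
  have ht : t ≫ S.f = kernel.ι (u ≫ S.g) ≫ u := hS.exact.lift_f _ hz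
  have hft := hF E₁ (π₁ ≫ t) hE₁
  have hz2 : (kernel.ι (π₁ ≫ t) ≫ π₁ ≫ kernel.ι (u ≫ S.g)) ≫ u = 0 := by
    rw [Category.assoc, Category.assoc, ← ht, ← Category.assoc, ← Category.assoc,
      Category.assoc _ π₁ t, kernel.condition, zero_comp]
  let s := kernel.lift u _ hz2
  have hs : s ≫ kernel.ι u = kernel.ι (π₁ ≫ t) ≫ π₁ ≫ kernel.ι (u ≫ S.g) := kernel.lift_ι _ _ _
  have : Epi s := by
    rw [epi_iff]
    intro x
    have h0 : m (u ≫ S.g) (m (kernel.ι u) x) = 0 := by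
      rw [m_comp_apply, kernel_ι_apply, map_zero]
    obtain ⟨k', hk'⟩ := exists_kernel_ι_eq _ _ h0
    obtain ⟨e₁, he₁⟩ := (epi_iff π₁).1 hπ₁ k'
    have h1 : m (π₁ ≫ t) e₁ = 0 := by
      apply (mono_iff S.f).1 hS.mono_f
      rw [map_zero, ← m_comp_apply, Category.assoc, ht, m_comp_apply, m_comp_apply, he₁, hk',
        kernel_ι_apply]
    obtain ⟨k'', hk''⟩ := exists_kernel_ι_eq _ e₁ h1
    refine ⟨k'', ?_⟩
    apply kernel_ι_injective u
    rw [← m_comp_apply, hs, m_comp_apply, m_comp_apply, hk'', he₁, hk']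
  exact isOfFiniteType_of_epi P s hft

theorem finiteType_of_shortExact [P.IsClosedUnderIsomorphisms]
    (hsum : ∀ X Y : C, P X → P Y → P (X ⨯ Y)) (hql : PCoh.IsQuasiLiftable P)
    (S : ShortComplex C) (hS : S.ShortExact)
    (h₁ : PCoh.IsOfFiniteType P S.X₁) (h₃ : PCoh.IsOfFiniteType P S.X₃) :
    PCoh.IsOfFiniteType P S.X₂ := by
  haveI := hS.epi_g
  obtain ⟨E₁, π₁, hE₁, hπ₁⟩ := h₁
  obtain ⟨E₃, π₃, hE₃, hπ₃⟩ := h₃
  have hsnd : Epi (pullback.snd S.g π₃) := inferInstance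
  obtain ⟨F', v, hF', hv⟩ := hql _ _ (pullback.snd S.g π₃) hsnd hE₃
  let β := v ≫ pullback.fst S.g π₃
  have hβ : β ≫ S.g = (v ≫ pullback.snd S.g π₃) ≫ π₃ := by
    simp only [β, Category.assoc, pullback.condition]
  have hβe : Function.Surjective (m (β ≫ S.g)) := by
    rw [hβ, ← epi_iff]; exact epi_comp _ _
  have hPP : P (E₁ ⊞ F') := P.prop_of_iso (biprod.isoProd E₁ F').symm (hsum _ _ hE₁ hF')
  refine ⟨E₁ ⊞ F', biprod.desc (π₁ ≫ S.f) β, hPP, ?_⟩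
  rw [epi_iff]
  intro x₂
  obtain ⟨f', hf'⟩ := hβe (m S.g x₂)
  have h0 : m S.g (x₂ - m β f') = 0 := by
    rw [map_sub, ← hf', m_comp_apply, sub_self]
  obtain ⟨x₁, hx₁⟩ := (exact_iff _).1 hS.exact _ h0
  obtain ⟨e₁, he₁⟩ := (epi_iff π₁).1 hπ₁ x₁
  refine ⟨m biprod.inl e₁ + m biprod.inr f', ?_⟩
  rw [map_add, ← m_comp_apply, ← m_comp_apply, biprod.inl_desc, biprod.inr_desc, m_comp_apply,
    he₁, hx₁]
  abel

theorem S5624 [P.IsClosedUnderIsomorphisms]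
    (hsum : ∀ X Y : C, P X → P Y → P (X ⨯ Y)) (hql : PCoh.IsQuasiLiftable P)
    (S : ShortComplex C) (hS : S.ShortExact) :
    ((∀ (E : C) (u : E ⟶ S.X₁), P E → PCoh.IsOfFiniteType P (kernel u)) →
        (∀ (E : C) (u : E ⟶ S.X₃), P E → PCoh.IsOfFiniteType P (kernel u)) →
        (∀ (E : C) (u : E ⟶ S.X₂), P E → PCoh.IsOfFiniteType P (kernel u))) ∧
      (PCoh.IsOfFiniteType P S.X₁ → PCoh.IsOfFiniteType P S.X₃ → PCoh.IsOfFiniteType P S.X₂) :=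
  ⟨fun hF hH E u hE => precoherent_of_shortExact P S hS hF hH E u hE,
    fun h₁ h₃ => finiteType_of_shortExact P hsum hql S hS h₁ h₃⟩

end Groth.Agent.Helper9.PCohA
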