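import Mathlib
import Groth.Prelude.Def_DDual2

/-!
# Power-torsion of `Hom(X, R⟦i⟧)`: abstract two-out-of-three lemmas and module dévissage
-/

set_option autoImplicit false
set_option linter.style.haveILetI false
set_option linter.unusedSectionVars false
set_option linter.unusedVariables false

open CategoryTheory CategoryTheory.Limits DerivedCategory Pretriangulated

universe u
attribute [local instance] HasDerivedCategory.standard

namespace Groth.Agent.Helper9.PF1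

variable {A : Type u} [CommRing A] (R : Dual.D A)

/-- every morphism `X ⟶ R⟦i⟧` is killed by a power of `f` -/
def Tor (f : A) (X : Dual.D A) (i : ℤ) : Prop := ∀ g : X ⟶ R⟦i⟧, ∃ n : ℕ, f ^ n • g = 0

/-- every morphism `X ⟶ R⟦i⟧` vanishes -/
def Van (X : Dual.D A) (i : ℤ) : Prop := ∀ g : X ⟶ R⟦i⟧, g = 0

lemma van_iff_tor_one (X : Dual.D A) (i : ℤ) : Van R X i ↔ Tor R 1 X i := by
  constructor
  · intro h g
    exact ⟨0, by rw [h g, smul_zero]⟩
  · intro h g
    obtain ⟨n, hn⟩ := h g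
    rwa [one_pow, one_smul] at hn

variable {R}

lemma Van.tor {X : Dual.D A} {i : ℤ} (h : Van R X i) (f : A) : Tor R f X i := fun g =>
  ⟨0, by rw [h g, smul_zero]⟩

lemma Tor.of_iso {f : A} {X Y : Dual.D A} (e : X ≅ Y) {i : ℤ} (h : Tor R f X i) :
    Tor R f Y i := by
  intro g
  obtain ⟨n, hn⟩ := h (e.hom ≫ g)
  refine ⟨n, ?_⟩
  rw [← cancel_epi e.hom, Linear.comp_smul, hn, comp_zero]

lemma Van.of_iso {X Y : Dual.D A} (e : X ≅ Y) {i : ℤ} (h : Van R X i) : Van R Y i := by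
  rw [van_iff_tor_one] at h ⊢
  exact h.of_iso e

lemma Tor.obj₂ (T : Triangle (Dual.D A)) (hT : T ∈ distTriang _) {f : A} {i : ℤ}
    (h1 : Tor R f T.obj₁ i) (h3 : Tor R f T.obj₃ i) : Tor R f T.obj₂ i := by
  intro g
  obtain ⟨n, hn⟩ := h1 (T.mor₁ ≫ g)
  have h0 : T.mor₁ ≫ (f ^ n • g) = 0 := by rw [Linear.comp_smul, hn]
  obtain ⟨g', hg'⟩ := Triangle.yoneda_exact₂ T hT _ h0
  obtain ⟨m, hm⟩ := h3 g'
  refine ⟨m + n, ?_⟩
  rw [pow_add, mul_smul, hg', ← Linear.comp_smul, hm, comp_zero]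

lemma tor_shift_iff (f : A) (X : Dual.D A) (j k i : ℤ) (h : j + k = i) :
    Tor R f (X⟦k⟧) i ↔ Tor R f X j := by
  subst h
  let σ : (X ⟶ R⟦j⟧) → (X⟦k⟧ ⟶ R⟦j + k⟧) := fun g =>
    g⟦k⟧' ≫ (shiftFunctorAdd' (Dual.D A) j k (j + k) rfl).inv.app R
  have hσ : ∀ (c : A) (g : X ⟶ R⟦j⟧), σ (c • g) = c • σ g := by
    intro c g
    simp only [σ]
    rw [Functor.map_smul, Linear.smul_comp]
  have hσ0 : σ 0 = 0 := by simp [σ]
  have hsurj : Function.Surjective σ := by
    intro g'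
    obtain ⟨g, hg⟩ := (shiftFunctor (Dual.D A) k).map_surjective
      (g' ≫ (shiftFunctorAdd' (Dual.D A) j k (j + k) rfl).hom.app R)
    exact ⟨g, by simp [σ, hg]⟩
  have hinj : Function.Injective σ := by
    intro g₁ g₂ h12
    simp only [σ] at h12
    exact (shiftFunctor (Dual.D A) k).map_injective ((cancel_mono _).1 h12)
  constructor
  · intro h g
    obtain ⟨n, hn⟩ := h (σ g)
    exact ⟨n, hinj (by rw [hσ, hn, hσ0])⟩
  · intro h g'
    obtain ⟨g, rfl⟩ := hsurj g'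
    obtain ⟨n, hn⟩ := h g
    exact ⟨n, by rw [← hσ, hn, hσ0]⟩

lemma van_shift_iff (X : Dual.D A) (j k i : ℤ) (h : j + k = i) :
    Van R (X⟦k⟧) i ↔ Van R X j := by
  rw [van_iff_tor_one, van_iff_tor_one]
  exact tor_shift_iff 1 X j k i h

lemma Tor.obj₃ (T : Triangle (Dual.D A)) (hT : T ∈ distTriang _) {f : A} {i i' : ℤ}
    (hi : i' + 1 = i) (h1 : Tor R f T.obj₁ i') (h2 : Tor R f T.obj₂ i) : Tor R f T.obj₃ i :=
  Tor.obj₂ T.rotate (rot_of_distTriang _ hT) (f := f) (i := i) h2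
    ((tor_shift_iff f T.obj₁ i' 1 i hi).mpr h1)

lemma Tor.obj₁ (T : Triangle (Dual.D A)) (hT : T ∈ distTriang _) {f : A} {i i' : ℤ}
    (hi : i + 1 = i') (h2 : Tor R f T.obj₂ i) (h3 : Tor R f T.obj₃ i') : Tor R f T.obj₁ i :=
  Tor.obj₂ T.invRotate (inv_rot_of_distTriang _ hT) (f := f) (i := i)
    ((tor_shift_iff f T.obj₃ i' (-1) i (by omega)).mpr h3) h2

section modules

variable {N₁ N₂ N₃ : Type u} [AddCommGroup N₁] [Module A N₁] [AddCommGroup N₂] [Module A N₂]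
  [AddCommGroup N₃] [Module A N₃]

/-- the distinguished triangle of a short exact sequence of modules -/
lemma triangle_of_exact (f : N₁ →ₗ[A] N₂) (g : N₂ →ₗ[A] N₃) (hf : Function.Injective f)
    (hg : Function.Surjective g) (hfg : Function.Exact f g) :
    ∃ δ : Dual.inD A N₃ ⟶ (Dual.inD A N₁)⟦(1 : ℤ)⟧,
      Triangle.mk ((singleFunctor (ModuleCat.{u} A) 0).map (ModuleCat.ofHom f))
        ((singleFunctor (ModuleCat.{u} A) 0).map (ModuleCat.ofHom g)) δ ∈
          distTriang (Dual.D A) := by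
  let S : ShortComplex (ModuleCat.{u} A) :=
    ShortComplex.moduleCatMk f g (by ext x; exact hfg.apply_apply_eq_zero x)
  have hS : S.ShortExact := ModuleCat.shortComplex_shortExact S hfg hf hg
  exact ⟨hS.singleδ, hS.singleTriangle_distinguished⟩

lemma Tor.of_exact (f : N₁ →ₗ[A] N₂) (g : N₂ →ₗ[A] N₃) (hf : Function.Injective f)
    (hg : Function.Surjective g) (hfg : Function.Exact f g) {c : A} {i : ℤ}
    (h1 : Tor R c (Dual.inD A N₁) i) (h3 : Tor R c (Dual.inD A N₃) i) :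
    Tor R c (Dual.inD A N₂) i := by
  obtain ⟨δ, hT⟩ := triangle_of_exact f g hf hg hfg
  exact Tor.obj₂ _ hT h1 h3

lemma Tor.of_equiv (e : N₁ ≃ₗ[A] N₂) {c : A} {i : ℤ} (h : Tor R c (Dual.inD A N₁) i) :
    Tor R c (Dual.inD A N₂) i :=
  h.of_iso ((singleFunctor (ModuleCat.{u} A) 0).mapIso e.toModuleIso)

lemma Tor.of_subsingleton [Subsingleton N₁] (c : A) (i : ℤ) : Tor R c (Dual.inD A N₁) i := by
  intro g
  have hz : IsZero (Dual.inD A N₁) :=
    Functor.map_isZero _ (ModuleCat.isZero_of_subsingleton _)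
  exact ⟨0, by rw [hz.eq_of_src g 0, smul_zero]⟩

end modules

variable (R) in
/-- eventual vanishing of `Hom(X, R⟦i⟧)` -/
def Ev (X : Dual.D A) : Prop := ∃ N : ℤ, ∀ i : ℤ, N < i → Van R X i

section modules

variable {N₁ N₂ N₃ : Type u} [AddCommGroup N₁] [Module A N₁] [AddCommGroup N₂] [Module A N₂]
  [AddCommGroup N₃] [Module A N₃]

lemma Ev.of_exact (f : N₁ →ₗ[A] N₂) (g : N₂ →ₗ[A] N₃) (hf : Function.Injective f)
    (hg : Function.Surjective g) (hfg : Function.Exact f g)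
    (h1 : Ev R (Dual.inD A N₁)) (h3 : Ev R (Dual.inD A N₃)) : Ev R (Dual.inD A N₂) := by
  obtain ⟨n1, h1⟩ := h1
  obtain ⟨n3, h3⟩ := h3
  refine ⟨max n1 n3, fun i hi => ?_⟩
  rw [van_iff_tor_one]
  exact Tor.of_exact f g hf hg hfg ((van_iff_tor_one _ _ _).1 (h1 i (by omega)))
    ((van_iff_tor_one _ _ _).1 (h3 i (by omega)))

lemma Ev.of_equiv (e : N₁ ≃ₗ[A] N₂) (h : Ev R (Dual.inD A N₁)) : Ev R (Dual.inD A N₂) := by
  obtain ⟨n, h⟩ := h
  exact ⟨n, fun i hi => (h i hi).of_iso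
    ((singleFunctor (ModuleCat.{u} A) 0).mapIso e.toModuleIso)⟩

lemma Ev.of_subsingleton [Subsingleton N₁] : Ev R (Dual.inD A N₁) :=
  ⟨0, fun i _ => (van_iff_tor_one _ _ _).2 (Tor.of_subsingleton 1 i)⟩

end modules

/-- dévissage for finite modules over a Noetherian ring with support in a given set -/
theorem module_devissage [IsNoetherianRing A] (Z : Set (PrimeSpectrum A))
    (Pm : ∀ (N : Type u) [AddCommGroup N] [Module A N], Prop)
    (hsub : ∀ (N : Type u) [AddCommGroup N] [Module A N] [Subsingleton N], Pm N)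
    (hquot : ∀ (N : Type u) [AddCommGroup N] [Module A N] (q : PrimeSpectrum A), q ∈ Z →
      (N ≃ₗ[A] A ⧸ q.asIdeal) → Pm N)
    (hext : ∀ (N₁ N₂ N₃ : Type u) [AddCommGroup N₁] [Module A N₁] [AddCommGroup N₂] [Module A N₂]
      [AddCommGroup N₃] [Module A N₃] (f : N₁ →ₗ[A] N₂) (g : N₂ →ₗ[A] N₃),
      Function.Injective f → Function.Surjective g → Function.Exact f g → Pm N₁ → Pm N₃ → Pm N₂)
    (M : Type u) [AddCommGroup M] [Module A M] [hfin : Module.Finite A M]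
    (hM : Module.support A M ⊆ Z) : Pm M := by
  refine IsNoetherianRing.induction_on_isQuotientEquivQuotientPrime A
    (motive := fun N _ _ _ => Module.support A N ⊆ Z → Pm N) hfin ?_ ?_ ?_ hM
  · intro N _ _ _ _ _
    exact hsub N
  · intro N _ _ _ q e hN
    refine hquot N q (hN ?_) e
    rw [e.support_eq, Module.mem_support_iff_of_finite, Ideal.annihilator_quotient]
  · intro N₁ _ _ _ N₂ _ _ _ N₃ _ _ _ f g hf hg hfg h1 h3 hN
    rw [Module.support_of_exact hfg hf hg] at hN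
    exact hext N₁ N₂ N₃ f g hf hg hfg (h1 (Set.subset_union_left.trans hN))
      (h3 (Set.subset_union_right.trans hN))

end Groth.Agent.Helper9.PF1
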