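import Mathlib
import Groth.Prelude.Def_DDual2
import Groth.Prelude.Def_Koszul
import Groth.Agent.Helper3.DRingDev
import Groth.Agent.Helper3.KPerfA
import Groth.Agent.Helper3.KzTor
import Groth.Agent.Helper6.KC1
import Groth.Agent.Helper6.PerfRes
import Groth.Agent.Helper6.DFinExt
import Groth.Agent.Lead.KoszulFunC
import Groth.Agent.Helper9.PF1

/-!
# Amplitude-aware dévissage and the Koszul object of a list of ring elements in `D(A)`
-/

set_option autoImplicit false
set_option linter.style.haveILetI false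
set_option linter.unusedSectionVars false
set_option linter.unusedVariables false

open CategoryTheory CategoryTheory.Limits DerivedCategory Pretriangulated

universe u
attribute [local instance] HasDerivedCategory.standard

namespace Groth.Agent.Helper9.PF2

open Groth.Agent.Helper3.DRingLib

variable {A : Type u} [CommRing A]

/-- Dévissage along cohomology, remembering the degrees: a property stable under isomorphisms
and extensions holds for `K ∈ D^{[a, a+n]}` as soon as it holds for all `H^j(K)[-j]`. -/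
theorem devissage_amp (P : Dual.D A → Prop)
    (hiso : ∀ {K L : Dual.D A}, (K ≅ L) → P K → P L)
    (hext : ∀ T : Triangle (Dual.D A), T ∈ distTriang _ → P T.obj₁ → P T.obj₃ → P T.obj₂)
    (n : ℕ) : ∀ (K : Dual.D A) (a : ℤ) [K.IsGE a] [K.IsLE (a + n)],
      (∀ j : ℤ, a ≤ j → j ≤ a + n → P ((Dual.inD A (Dual.HD A K j))⟦-j⟧)) → P K := by
  induction n with
  | zero =>
    intro K a _ _ h
    have : K.IsLE a := by simpa using (inferInstance : K.IsLE (a + (0 : ℕ)))
    obtain ⟨e⟩ := exists_iso_single_HD K a
    exact hiso e.symm (h a le_rfl (by simp))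
  | succ n ih =>
    intro K a _ _ h
    set b : ℤ := a + (n + 1 : ℕ) with hb
    obtain ⟨X, Y, hX, hY, f, g, δ, hT⟩ := TStructure.t.exists_triangle K (b - 1) b (by omega)
    have iX : X.IsLE (b - 1) := ⟨hX⟩
    have iY : Y.IsGE b := ⟨hY⟩
    have iY' : (Triangle.mk f g δ).obj₃.IsGE ((b - 1) + 1) := by
      have : b - 1 + 1 = b := by omega
      rw [this]; exact iY
    have iX' : (Triangle.mk f g δ).obj₁.IsLE (b - 1) := iX
    have iXa : X.IsGE a := by
      rw [DerivedCategory.isGE_iff]
      intro i hi
      have : IsIso ((homologyFunctor (ModuleCat.{u} A) i).map f) :=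
        isIso_HD_mor₁ _ hT (b - 1) i (by omega)
      exact (K.isZero_of_isGE a i hi).of_iso (asIso ((homologyFunctor (ModuleCat.{u} A) i).map f))
    have iXn : X.IsLE (a + n) := by
      have : a + (n : ℤ) = b - 1 := by rw [hb]; push_cast; omega
      rw [this]; exact iX
    have iYb : Y.IsLE b := by
      rw [DerivedCategory.isLE_iff]
      intro i hi
      have : IsIso ((homologyFunctor (ModuleCat.{u} A) i).map g) :=
        isIso_HD_mor₂ _ hT (b - 1) i (by omega)
      exact (K.isZero_of_isLE b i hi).of_iso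
        (asIso ((homologyFunctor (ModuleCat.{u} A) i).map g)).symm
    have hPX : P X := by
      apply ih X a
      intro j hj1 hj2
      have : IsIso ((homologyFunctor (ModuleCat.{u} A) j).map f) :=
        isIso_HD_mor₁ _ hT (b - 1) j (by rw [hb]; push_cast; omega)
      exact hiso ((shiftFunctor (Dual.D A) (-j)).mapIso
        ((singleFunctor (ModuleCat.{u} A) 0).mapIso
          (asIso ((homologyFunctor (ModuleCat.{u} A) j).map f)).symm))
        (h j hj1 (by rw [hb] at *; push_cast; omega))
    have hPY : P Y := by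
      obtain ⟨e⟩ := exists_iso_single_HD Y b
      have : IsIso ((homologyFunctor (ModuleCat.{u} A) b).map g) :=
        isIso_HD_mor₂ _ hT (b - 1) b (by omega)
      refine hiso e.symm ?_
      exact hiso ((shiftFunctor (Dual.D A) (-b)).mapIso
        ((singleFunctor (ModuleCat.{u} A) 0).mapIso
          (asIso ((homologyFunctor (ModuleCat.{u} A) b).map g))))
        (h b (by rw [hb]; push_cast; omega) le_rfl)
    exact hext _ hT hPX hPY

section koszul

variable (l : List A)

/-- the Koszul object of a list -/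
noncomputable abbrev Kz : Dual.D A := DRing.toD (Koszul.koszul A l)

lemma kz_isLE : (Kz l).IsLE 0 := by
  apply isLE_of_HD
  intro i hi
  exact Groth.Agent.Helper6.DFinExt.subsingleton_HD_toD _ i
    (Groth.Agent.Helper3.KPerfA.koszul_vanishesOutside l i (Or.inr hi))

lemma kz_isGE : (Kz l).IsGE (-(l.length : ℤ)) := by
  apply isGE_of_HD
  intro i hi
  exact Groth.Agent.Helper6.DFinExt.subsingleton_HD_toD _ i
    (Groth.Agent.Helper3.KPerfA.koszul_vanishesOutside l i (Or.inl hi))

instance : (Koszul.koszul A l).IsKProjective :=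
  isKProjective_of_vanishesAbove _ 0
    (fun i hi => Groth.Agent.Helper3.KPerfA.koszul_vanishesOutside l i (Or.inr hi))
    (fun i => by
      obtain ⟨h1, h2⟩ := Groth.Agent.Helper3.KPerfA.koszul_termwiseFiniteFree l i
      infer_instance)

lemma kz_van (R : Dual.D A) (b : ℤ) [R.IsLE b] (i : ℤ) (hi : b + l.length < i) :
    PF1.Van R (Kz l) i := by
  intro g
  haveI : (R⟦i⟧).IsLE (b - i) := TStructure.t.isLE_shift R b i (b - i) (by omega)
  haveI : (R⟦i⟧).IsLE (-(l.length : ℤ) - 1) :=
    TStructure.t.isLE_of_le (R⟦i⟧) (b - i) _ (by omega)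
  exact Groth.Agent.Helper6.PerfRes.hom_eq_zero_of_vanishesBelow (Koszul.koszul A l)
    (-(l.length : ℤ))
    (fun j hj => Groth.Agent.Helper3.KPerfA.koszul_vanishesOutside l j (Or.inl hj)) (R⟦i⟧) g

lemma kz_smul (j : ℤ) (x : A) (hx : x ∈ l) (z : Dual.HD A (Kz l) j) : x • z = 0 := by
  let e : (homologyFunctor (ModuleCat.{u} A) j).obj (Kz l) ≅ (Koszul.koszul A l).homology j :=
    homologyToDIso _ j
  have h0 : x • 𝟙 ((Koszul.koszul A l).homology j) = 0 := by
    rw [Groth.Agent.Helper6.KC.koszul_eq]
    exact Groth.Agent.Helper6.KC.smul_id_homology_eq_zero _ l x hx j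
  have h1 : x • e.hom.hom z = 0 := by
    have := congrArg (fun φ => φ.hom (e.hom.hom z)) h0
    simp only [ModuleCat.hom_smul, ModuleCat.hom_id, LinearMap.smul_apply, LinearMap.id_apply,
      ModuleCat.hom_zero, LinearMap.zero_apply] at this
    exact this
  have h2 : e.hom.hom (x • z) = 0 := by rw [map_smul, h1]
  have h3 : e.inv.hom (e.hom.hom (x • z)) = x • z := by
    rw [← LinearMap.comp_apply, ← ModuleCat.hom_comp, e.hom_inv_id]
    rfl
  rw [h2, map_zero] at h3
  exact h3.symm

lemma kz_H0 : Nonempty (Dual.HD A (Kz l) 0 ≃ₗ[A] A ⧸ Ideal.ofList l) := by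
  have e0' : Nonempty ((Koszul.koszul A l).homology 0 ≅ ModuleCat.of A (A ⧸ Ideal.ofList l)) := by
    rw [Groth.Agent.Lead.KoszulFunC.koszul_eq]
    exact Groth.Agent.Helper3.KzTor.nonempty_homology_zero_iso l
  obtain ⟨e0⟩ := e0'
  exact ⟨(homologyToDIso (Koszul.koszul A l) 0 ≪≫ e0).toLinearEquiv⟩

lemma kz_finite [IsNoetherianRing A] (j : ℤ) : Module.Finite A (Dual.HD A (Kz l) j) := by
  set E := Koszul.koszul A l
  have hfin : Module.Finite A (E.X j) :=
    (Groth.Agent.Helper3.KPerfA.koszul_termwiseFiniteFree l j).1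
  have hfin' : Module.Finite A (E.sc' (j - 1) j (j + 1)).X₂ := hfin
  haveI : IsNoetherian A (E.sc' (j - 1) j (j + 1)).X₂ :=
    isNoetherian_of_isNoetherianRing_of_finite A _
  refine finite_of_iso ((homologyToDIso E j) ≪≫ homologyIsoQuot E j).symm ?_
  change Module.Finite A (LinearMap.ker (E.sc' (j - 1) j (j + 1)).g.hom ⧸
    LinearMap.range (E.sc' (j - 1) j (j + 1)).moduleCatToCycles)
  infer_instance

end koszul

end Groth.Agent.Helper9.PF2
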