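import Mathlib
import Groth.Prelude.Def_DDual2
import Groth.Agent.Helper9.FB6
import Groth.Agent.Helper6.DFinExt
import Groth.Agent.Helper6.LBCAdj

/-!
# `Hom(X, R⟦i⟧)` vanishes at a prime for large `i` when `R_p` has finite injective dimension
-/

set_option autoImplicit false
set_option linter.style.haveILetI false
set_option linter.unusedSectionVars false
set_option linter.unusedVariables false

open CategoryTheory CategoryTheory.Limits DerivedCategory Pretriangulated

universe u
attribute [local instance] HasDerivedCategory.standard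

namespace Groth.Agent.Helper9.PF3

open TensorProduct Groth.Agent.Helper6

variable {A : Type u} [CommRing A]

theorem exists_bound_at_prime (R : Dual.D A) (a : ℤ) (hRa : R.IsGE a) (p : Ideal A) [p.IsPrime]
    [DRing.HasLBaseChange (algebraMap A (Localization.AtPrime p))]
    (hp : DRing.HasFiniteInjDim (Localization.AtPrime p)
      ((DRing.LBaseChange (algebraMap A (Localization.AtPrime p))).obj R))
    (X : Dual.D A) (hX : DRing.IsPseudoCoherent' A X) (hX0 : X.IsGE 0) :
    ∃ N : ℤ, ∀ i : ℤ, N < i → ∀ g : X ⟶ R⟦i⟧, ∃ s : A, s ∉ p ∧ s • g = 0 := by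
  obtain ⟨a', b', I, hv, hinj, ⟨e⟩⟩ := hp
  refine ⟨b', fun i hi g => ?_⟩
  have adj := LBCAdj.adj (algebraMap A (Localization.AtPrime p))
  haveI : (DRing.LBaseChange (algebraMap A (Localization.AtPrime p))).Additive :=
    adj.left_adjoint_additive
  haveI : (R⟦i⟧).IsGE (a - i) := TStructure.t.isGE_shift R a i (a - i) (by omega)
  have hbij := FB4.bij_pc adj hX (R⟦i⟧) (a - i) inferInstance
  haveI : ((DRing.LBaseChange (algebraMap A (Localization.AtPrime p))).obj X).IsGE 0 :=
    FB6.isGE_lbc X 0 hX0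
  obtain ⟨e2⟩ := FB6.lbc_shift (algebraMap A (Localization.AtPrime p)) R i
  have hzero : ∀ φ : (DRing.LBaseChange (algebraMap A (Localization.AtPrime p))).obj X ⟶
      (DRing.LBaseChange (algebraMap A (Localization.AtPrime p))).obj (R⟦i⟧), φ = 0 := by
    intro φ
    have h0 := DFinExt.vanish_high I a' b' hv hinj
      ((DRing.LBaseChange (algebraMap A (Localization.AtPrime p))).obj X) 0 i (by omega)
      (φ ≫ e2.hom ≫ (e.inv)⟦i⟧')
    have h1 : IsIso (e2.hom ≫ (e.inv)⟦i⟧') := inferInstance
    rw [← cancel_mono (e2.hom ≫ (e.inv)⟦i⟧'), h0, zero_comp]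
  have h1 : FB1.β (FB4.semilinear_of_adj adj) X (R⟦i⟧)
      ((1 : Localization.AtPrime p) ⊗ₜ[A] g) = 0 := hzero _
  have h2 : (1 : Localization.AtPrime p) ⊗ₜ[A] g = 0 := hbij.1 (h1.trans (map_zero _).symm)
  have hloc : IsLocalizedModule p.primeCompl
      (TensorProduct.mk A (Localization.AtPrime p) (X ⟶ R⟦i⟧) 1) :=
    (isLocalizedModule_iff_isBaseChange p.primeCompl (Localization.AtPrime p) _).mpr
      (TensorProduct.isBaseChange A _ (Localization.AtPrime p))
  obtain ⟨s, hs⟩ := (IsLocalizedModule.eq_zero_iff p.primeCompl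
    (TensorProduct.mk A (Localization.AtPrime p) (X ⟶ R⟦i⟧) 1)).1 h2
  exact ⟨s.1, s.2, hs⟩

end Groth.Agent.Helper9.PF3
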