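import Mathlib
import Groth.Prelude.Def_DDual2
import Groth.Agent.Helper9.PF1
import Groth.Agent.Helper9.PF2
import Groth.Agent.Helper9.PF3

/-!
# Eventual vanishing of `Ext^i(M, R)` when `R` is bounded with finite cohomology and has
pointwise finite injective dimension (Noetherian induction + Koszul window argument)
-/

set_option autoImplicit false
set_option linter.style.haveILetI false
set_option linter.unusedSectionVars false
set_option linter.unusedVariables false

open CategoryTheory CategoryTheory.Limits DerivedCategory Pretriangulated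

universe u
attribute [local instance] HasDerivedCategory.standard

namespace Groth.Agent.Helper9.PF4

open PF1 PF2 PF3 Groth.Agent.Helper3.DRingLib Groth.Agent.Helper6

variable {A : Type u} [CommRing A] [IsNoetherianRing A] (R : Dual.D A)

/-- the comparison property for modules -/
def Qm (p : Ideal A) (N : Type u) [AddCommGroup N] [Module A N] : Prop :=
  ∃ n : ℤ, ∀ i : ℤ, n < i → ∀ f : A, Tor R f (Dual.inD A (A ⧸ p)) i → Tor R f (Dual.inD A N) i

lemma Qm.of_equiv {p : Ideal A} {N N' : Type u} [AddCommGroup N] [Module A N] [AddCommGroup N']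
    [Module A N'] (e : N ≃ₗ[A] N') (h : Qm R p N) : Qm R p N' := by
  obtain ⟨n, hn⟩ := h
  exact ⟨n, fun i hi f hf => Tor.of_equiv e (hn i hi f hf)⟩

lemma qm_of_support (p : Ideal A) [p.IsPrime]
    (IH : ∀ q : Ideal A, q.IsPrime → p < q → Ev R (Dual.inD A (A ⧸ q)))
    (N : Type u) [AddCommGroup N] [Module A N] [Module.Finite A N]
    (hN : Module.support A N ⊆ PrimeSpectrum.zeroLocus (p : Set A)) : Qm R p N := by
  refine module_devissage (PrimeSpectrum.zeroLocus (p : Set A)) (fun N _ _ => Qm R p N)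
    ?_ ?_ ?_ N hN
  · intro N _ _ _
    exact ⟨0, fun i _ f _ => Tor.of_subsingleton f i⟩
  · intro N _ _ q hq e
    have hle : p ≤ q.asIdeal := SetLike.coe_subset_coe.1 ((PrimeSpectrum.mem_zeroLocus _ _).1 hq)
    by_cases hqp : q.asIdeal = p
    · refine ⟨0, fun i _ f h => ?_⟩
      exact Tor.of_equiv ((Submodule.quotEquivOfEq p q.asIdeal hqp.symm).trans e.symm) h
    · have hlt : p < q.asIdeal := lt_of_le_of_ne hle (Ne.symm hqp)
      obtain ⟨n, hn⟩ := Ev.of_equiv (R := R) e.symm (IH q.asIdeal q.isPrime hlt)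
      exact ⟨n, fun i hi f _ => (hn i hi).tor f⟩
  · intro N₁ N₂ N₃ _ _ _ _ _ _ f g hf hg hfg h1 h3
    obtain ⟨n1, h1⟩ := h1
    obtain ⟨n3, h3⟩ := h3
    exact ⟨max n1 n3, fun i hi c hc =>
      Tor.of_exact f g hf hg hfg (h1 i (by omega) c hc) (h3 i (by omega) c hc)⟩

lemma ev_of_support (p : Ideal A) [p.IsPrime]
    (IH : ∀ q : Ideal A, q.IsPrime → p < q → Ev R (Dual.inD A (A ⧸ q)))
    (N : Type u) [AddCommGroup N] [Module A N] [Module.Finite A N]
    (hN : Module.support A N ⊆ {q | p < q.asIdeal}) : Ev R (Dual.inD A N) := by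
  refine module_devissage {q : PrimeSpectrum A | p < q.asIdeal}
    (fun N _ _ => Ev R (Dual.inD A N)) ?_ ?_ ?_ N hN
  · intro N _ _ _
    exact Ev.of_subsingleton
  · intro N _ _ q hq e
    exact Ev.of_equiv e.symm (IH q.asIdeal q.isPrime hq)
  · intro N₁ N₂ N₃ _ _ _ _ _ _ f g hf hg hfg h1 h3
    exact Ev.of_exact f g hf hg hfg h1 h3

omit [IsNoetherianRing A] in
lemma window_induction (T : ℤ → Prop) (N₀ M : ℤ) (h0 : ∀ i, N₀ < i → i ≤ M → T i)
    (hstep : ∀ i, M < i → (∀ i', N₀ < i' → i' < i → T i') → T i) : ∀ i, N₀ < i → T i := by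
  have key : ∀ k : ℕ, ∀ i, N₀ < i → i ≤ N₀ + k → T i := by
    intro k
    induction k with
    | zero => intro i h1 h2; simp at h2; omega
    | succ k ih =>
      intro i h1 h2
      by_cases hi : i ≤ N₀ + k
      · exact ih i h1 hi
      · by_cases hM : i ≤ M
        · exact h0 i h1 hM
        · refine hstep i (by omega) (fun i' h1' h2' => ih i' h1' ?_)
          push_cast at h2
          omega
  intro i hi
  exact key (i - N₀).toNat i hi (by omega)

lemma exists_list (p : Ideal A) : ∃ l : List A, Ideal.ofList l = p := by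
  obtain ⟨S, hS⟩ := (IsNoetherian.noetherian p : p.FG)
  refine ⟨S.toList, ?_⟩
  rw [← hS]
  show Ideal.span {r | r ∈ S.toList} = Ideal.span (S : Set A)
  congr 1
  ext x
  simp

omit [IsNoetherianRing A] in
lemma exists_kill (p : Ideal A) [p.IsPrime] (E : Type*) [AddCommGroup E] [Module A E]
    [Module.Finite A E] (h : ∀ g : E, ∃ s : A, s ∉ p ∧ s • g = 0) :
    ∃ f : A, f ∉ p ∧ ∀ g : E, f • g = 0 := by
  have h1 : (⟨p, inferInstance⟩ : PrimeSpectrum A) ∉ Module.support A E := by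
    rw [Module.notMem_support_iff']
    intro m
    obtain ⟨s, hs, hsm⟩ := h m
    exact ⟨s, hs, hsm⟩
  rw [Module.mem_support_iff_of_finite] at h1
  obtain ⟨f, hf, hfp⟩ := SetLike.not_le_iff_exists.1 h1
  exact ⟨f, hfp, fun g => Module.mem_annihilator.1 hf g⟩

section mulf

variable (p : Ideal A) (f : A)

/-- multiplication by `f` on `A ⧸ p` -/
noncomputable def mulf : (A ⧸ p) →ₗ[A] (A ⧸ p) := f • LinearMap.id

omit [IsNoetherianRing A] in
lemma mulf_injective [hp : p.IsPrime] (hf : f ∉ p) : Function.Injective (mulf p f) := by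
  rw [← LinearMap.ker_eq_bot, LinearMap.ker_eq_bot']
  intro x hx
  obtain ⟨y, rfl⟩ := Ideal.Quotient.mk_surjective x
  have h1 : Ideal.Quotient.mk p (f * y) = 0 := by
    have : f • Ideal.Quotient.mk p y = 0 := hx
    rwa [Algebra.smul_def, Ideal.Quotient.algebraMap_eq, ← map_mul] at this
  rw [Ideal.Quotient.eq_zero_iff_mem] at h1 ⊢
  exact (hp.mem_or_mem h1).resolve_left hf

/-- `A ⧸ (p, f)` -/
abbrev Hf : Type u := (A ⧸ p) ⧸ LinearMap.range (mulf p f)

omit [IsNoetherianRing A] in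
lemma support_Hf (hf : f ∉ p) : Module.support A (Hf p f) ⊆ {q | p < q.asIdeal} := by
  intro q hq
  have h1 := Module.annihilator_le_of_mem_support hq
  have hp : p ≤ Module.annihilator A (Hf p f) := by
    intro x hx
    rw [Module.mem_annihilator]
    intro m
    obtain ⟨y, rfl⟩ := Submodule.mkQ_surjective _ m
    obtain ⟨z, rfl⟩ := Ideal.Quotient.mk_surjective y
    rw [← map_smul]
    have : x • Ideal.Quotient.mk p z = 0 := by
      rw [Algebra.smul_def, Ideal.Quotient.algebraMap_eq, ← map_mul,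
        Ideal.Quotient.eq_zero_iff_mem]
      exact p.mul_mem_right z hx
    rw [this, map_zero]
  have hfa : f ∈ Module.annihilator A (Hf p f) := by
    rw [Module.mem_annihilator]
    intro m
    obtain ⟨y, rfl⟩ := Submodule.mkQ_surjective _ m
    rw [← map_smul, Submodule.mkQ_apply, Submodule.Quotient.mk_eq_zero]
    exact ⟨y, rfl⟩
  refine lt_of_le_of_ne (hp.trans h1) ?_
  intro heq
  exact hf (heq ▸ h1 hfa)

lemma van_of_tor [hp : p.IsPrime] (hf : f ∉ p) (i : ℤ)
    (hH : Van R (Dual.inD A (Hf p f)) i) (ht : Tor R f (Dual.inD A (A ⧸ p)) i) :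
    Van R (Dual.inD A (A ⧸ p)) i := by
  obtain ⟨δ, hT⟩ := triangle_of_exact (mulf p f) (LinearMap.range (mulf p f)).mkQ
    (mulf_injective p f hf) (Submodule.mkQ_surjective _) (LinearMap.exact_map_mkQ_range _)
  have hmap : (singleFunctor (ModuleCat.{u} A) 0).map (ModuleCat.ofHom (mulf p f)) =
      f • 𝟙 (Dual.inD A (A ⧸ p)) := by
    have h1 : ModuleCat.ofHom (mulf p f) = f • 𝟙 (ModuleCat.of A (A ⧸ p)) := rfl
    rw [h1, Functor.map_smul, CategoryTheory.Functor.map_id]
  have key : ∀ g' : Dual.inD A (A ⧸ p) ⟶ R⟦i⟧, f • g' = 0 → g' = 0 := by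
    intro g' h0
    have h1 : (singleFunctor (ModuleCat.{u} A) 0).map (ModuleCat.ofHom (mulf p f)) ≫ g' = 0 := by
      rw [hmap, Linear.smul_comp, Category.id_comp, h0]
    obtain ⟨g'', hg''⟩ := Triangle.yoneda_exact₂ _ hT g' h1
    have h2 : g'' = 0 := hH g''
    rw [hg'', h2]
    exact comp_zero
  intro g
  obtain ⟨n, hn⟩ := ht g
  induction n with
  | zero => simpa using hn
  | succ n ih =>
    apply ih
    apply key
    rw [← mul_smul, ← pow_succ']
    exact hn

end mulf

/-- the inductive step at a prime -/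
theorem ev_prime (b : ℤ) [R.IsLE b] (p : Ideal A) [hp : p.IsPrime]
    (hfinE : ∀ i : ℤ, Module.Finite A (Dual.inD A (A ⧸ p) ⟶ R⟦i⟧))
    (N₀ : ℤ)
    (hN₀ : ∀ i : ℤ, N₀ < i → ∀ g : Dual.inD A (A ⧸ p) ⟶ R⟦i⟧, ∃ s : A, s ∉ p ∧ s • g = 0)
    (IH : ∀ q : Ideal A, q.IsPrime → p < q → Ev R (Dual.inD A (A ⧸ q))) :
    Ev R (Dual.inD A (A ⧸ p)) := by
  obtain ⟨l, hl⟩ := exists_list p
  haveI iK0 := kz_isLE l
  haveI iKh := kz_isGE l
  -- the cohomology modules of the Koszul object satisfy `Qm`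
  have hQK : ∀ j : ℤ, Qm R p (Dual.HD A (Kz l) j) := by
    intro j
    haveI := kz_finite l j
    apply qm_of_support R p IH
    intro q hq
    have h1 := Module.annihilator_le_of_mem_support hq
    rw [PrimeSpectrum.mem_zeroLocus]
    refine subset_trans ?_ (SetLike.coe_subset_coe.2 h1)
    rw [← hl]
    refine SetLike.coe_subset_coe.2 (Ideal.span_le.2 ?_)
    intro x hx
    rw [SetLike.mem_coe, Module.mem_annihilator]
    exact fun z => kz_smul l j x hx z
  -- the truncation triangle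
  obtain ⟨X, Y, hX, hY, f, g, δ, hT⟩ := TStructure.t.exists_triangle (Kz l) (-1) 0 (by omega)
  have iX : X.IsLE (-1) := ⟨hX⟩
  have iY : Y.IsGE 0 := ⟨hY⟩
  have iY' : (Triangle.mk f g δ).obj₃.IsGE ((-1) + 1) := iY
  have iX' : (Triangle.mk f g δ).obj₁.IsLE (-1) := iX
  have iXa : X.IsGE (-(l.length : ℤ) - 1) := by
    rw [DerivedCategory.isGE_iff]
    intro i hi
    have : IsIso ((homologyFunctor (ModuleCat.{u} A) i).map f) :=
      isIso_HD_mor₁ _ hT (-1) i (by omega)
    exact ((Kz l).isZero_of_isGE (-(l.length : ℤ)) i (by omega)).of_iso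
      (asIso ((homologyFunctor (ModuleCat.{u} A) i).map f))
  have iYb : Y.IsLE 0 := by
    rw [DerivedCategory.isLE_iff]
    intro i hi
    have : IsIso ((homologyFunctor (ModuleCat.{u} A) i).map g) :=
      isIso_HD_mor₂ _ hT (-1) i (by omega)
    exact ((Kz l).isZero_of_isLE 0 i hi).of_iso
      (asIso ((homologyFunctor (ModuleCat.{u} A) i).map g)).symm
  -- `Y ≅ (A ⧸ p)[0]`
  have eY : Nonempty (Y ≅ Dual.inD A (A ⧸ p)) := by
    obtain ⟨e⟩ := exists_iso_single_HD Y 0
    have : IsIso ((homologyFunctor (ModuleCat.{u} A) 0).map g) :=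
      isIso_HD_mor₂ _ hT (-1) 0 (by omega)
    obtain ⟨e0⟩ := kz_H0 l
    let e1 : Dual.HD A Y 0 ≃ₗ[A] A ⧸ p :=
      ((asIso ((homologyFunctor (ModuleCat.{u} A) 0).map g)).symm.toLinearEquiv.trans e0).trans
        (Submodule.quotEquivOfEq _ _ hl)
    exact ⟨e ≪≫ (shiftFunctorZero' (Dual.D A) (-0) (by simp)).app _ ≪≫
      (singleFunctor (ModuleCat.{u} A) 0).mapIso e1.toModuleIso⟩
  obtain ⟨eY⟩ := eY
  -- dévissage of `X`
  let P' : Dual.D A → Prop := fun W => ∃ n : ℤ, ∀ i : ℤ, n < i → ∀ c : A,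
    (∀ i' : ℤ, N₀ < i' → i' < i → Tor R c (Dual.inD A (A ⧸ p)) i') → Tor R c W i
  have hP'X : P' X := by
    haveI : X.IsLE (-(l.length : ℤ) - 1 + (l.length : ℕ)) := by
      have : -(l.length : ℤ) - 1 + (l.length : ℕ) = -1 := by omega
      rw [this]; exact iX
    refine devissage_amp P' ?_ ?_ l.length X (-(l.length : ℤ) - 1) ?_
    · rintro W W' e ⟨n, hn⟩
      exact ⟨n, fun i hi c hc => (hn i hi c hc).of_iso e⟩
    · rintro T hT' ⟨n1, h1⟩ ⟨n3, h3⟩
      exact ⟨max n1 n3, fun i hi c hc =>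
        Tor.obj₂ T hT' (h1 i (by omega) c hc) (h3 i (by omega) c hc)⟩
    · intro j hj1 hj2
      have hj : j ≤ -1 := by omega
      have : IsIso ((homologyFunctor (ModuleCat.{u} A) j).map f) :=
        isIso_HD_mor₁ _ hT (-1) j hj
      obtain ⟨n, hn⟩ := (hQK j).of_equiv R
        (asIso ((homologyFunctor (ModuleCat.{u} A) j).map f)).symm.toLinearEquiv
      refine ⟨max n N₀ - j, fun i hi c hc => ?_⟩
      rw [tor_shift_iff c _ (i + j) (-j) i (by omega)]
      exact hn (i + j) (by omega) c (hc (i + j) (by omega) (by omega))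
  obtain ⟨nX, hnX⟩ := hP'X
  -- the window step
  have hstep : ∀ c : A, ∀ i : ℤ, max (nX + 1) (b + l.length) < i →
      (∀ i' : ℤ, N₀ < i' → i' < i → Tor R c (Dual.inD A (A ⧸ p)) i') →
        Tor R c (Dual.inD A (A ⧸ p)) i := by
    intro c i hi hw
    have h1 : Tor R c X (i - 1) :=
      hnX (i - 1) (by omega) c (fun i' h1 h2 => hw i' h1 (by omega))
    have h2 : Tor R c (Kz l) i := (kz_van l R b i (by omega)).tor c
    have h3 : Tor R c Y i :=
      Tor.obj₃ (Triangle.mk f g δ) hT (by omega : i - 1 + 1 = i) h1 h2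
    exact h3.of_iso eY
  -- choose `c`
  have hkill : ∀ i' : ℤ, N₀ < i' → ∃ s : A, s ∉ p ∧
      ∀ g : Dual.inD A (A ⧸ p) ⟶ R⟦i'⟧, s • g = 0 := fun i' hi' =>
    haveI := hfinE i'
    exists_kill p _ (hN₀ i' hi')
  choose! sf hsf1 hsf2 using hkill
  set M : ℤ := max (nX + 1) (b + l.length) with hM
  set c : A := ∏ i' ∈ Finset.Ioc N₀ M, sf i' with hcdef
  have hc : c ∉ p := by
    intro hmem
    obtain ⟨i', hi', hmem'⟩ := Ideal.IsPrime.prod_mem_iff.1 hmem
    exact hsf1 i' (Finset.mem_Ioc.1 hi').1 hmem'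
  have h0 : ∀ i' : ℤ, N₀ < i' → i' ≤ M → Tor R c (Dual.inD A (A ⧸ p)) i' := by
    intro i' h1 h2 g'
    obtain ⟨d, hd⟩ := Finset.dvd_prod_of_mem sf (Finset.mem_Ioc.2 ⟨h1, h2⟩)
    refine ⟨1, ?_⟩
    rw [pow_one, show c = d * sf i' by rw [hcdef, hd, mul_comm], mul_smul, hsf2 i' h1 g',
      smul_zero]
  have hall := window_induction (fun i => Tor R c (Dual.inD A (A ⧸ p)) i) N₀ M h0 (hstep c)
  -- conclusion
  obtain ⟨nH, hnH⟩ := ev_of_support R p IH (Hf p c) (support_Hf p c hc)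
  exact ⟨max nH N₀, fun i hi => van_of_tor R p c hc i (hnH i (by omega)) (hall i (by omega))⟩

/-- **Main theorem**: eventual vanishing of `Hom(M, R⟦i⟧)` for every finite module `M`. -/
theorem main (hfin : ∀ i : ℤ, Module.Finite A (Dual.HD A R i))
    (hbdd : ∃ a b : ℤ, ∀ i : ℤ, (i < a ∨ b < i) → Subsingleton (Dual.HD A R i))
    [hL : ∀ p : PrimeSpectrum A,
      DRing.HasLBaseChange (algebraMap A (Localization.AtPrime p.asIdeal))]
    (hpw : ∀ p : PrimeSpectrum A, DRing.HasFiniteInjDim (Localization.AtPrime p.asIdeal)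
      ((DRing.LBaseChange (algebraMap A (Localization.AtPrime p.asIdeal))).obj R))
    (M : Type u) [AddCommGroup M] [Module A M] [Module.Finite A M] : Ev R (Dual.inD A M) := by
  obtain ⟨a, b, hab⟩ := hbdd
  haveI iRa : R.IsGE a := isGE_of_HD R a (fun i hi => hab i (Or.inl hi))
  haveI iRb : R.IsLE b := isLE_of_HD R b (fun i hi => hab i (Or.inr hi))
  have hfinE : ∀ (N : Type u) [AddCommGroup N] [Module A N] [Module.Finite A N] (i : ℤ),
      Module.Finite A (Dual.inD A N ⟶ R⟦i⟧) := by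
    intro N _ _ _ i
    have h1 := DFinExt.finite_right N R ⟨a, b, hab⟩ hfin (-i)
    have h2 := DFinExt.finite_shift_both i h1
    exact DFinExt.finite_of_iso_left
      ((shiftFunctorCompIsoId (Dual.D A) (-i) i (by omega)).app (Dual.inD A N)) h2
  have hprimes : ∀ p : Ideal A, p.IsPrime → Ev R (Dual.inD A (A ⧸ p)) := by
    intro p
    induction p using WellFoundedGT.induction with
    | ind p IH =>
      intro hp
      haveI := hp
      haveI := hL ⟨p, hp⟩
      obtain ⟨N₀, hN₀⟩ := exists_bound_at_prime R a iRa p (hpw ⟨p, hp⟩) (Dual.inD A (A ⧸ p))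
        (Groth.Agent.Helper9.FB6.isPseudoCoherentModule'_of_finite (A ⧸ p)) inferInstance
      exact ev_prime R b p (hfinE (A ⧸ p)) N₀ hN₀ (fun q hq hpq => IH q hpq hq)
  refine module_devissage (Set.univ : Set (PrimeSpectrum A))
    (fun (N : Type u) [AddCommGroup N] [Module A N] => Ev R (Dual.inD A N)) ?_ ?_ ?_ M
    (Set.subset_univ _)
  · intro N _ _ _
    exact Ev.of_subsingleton
  · intro N _ _ q _ e
    exact Ev.of_equiv e.symm (hprimes q.asIdeal q.isPrime)
  · intro N₁ N₂ N₃ _ _ _ _ _ _ f g hf hg hfg h1 h3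
    exact Ev.of_exact f g hf hg hfg h1 h3

end Groth.Agent.Helper9.PF4
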