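import Mathlib
import Groth.Prelude.Def_ModSite
import Groth.Prelude.Def_KFlatSite
import Groth.Agent.Helper9.ShriekProjSh
import Groth.Agent.Helper9.TotFun1
import Groth.Agent.Helper9.TotFun2
import Groth.Agent.Helper9.KFlat18
import Groth.Agent.Helper9.StalkKFlat1

/-!
# The projection formula `j_!(P ⊗ j^*N) ≅ j_!P ⊗ N` is natural in both variables
-/

set_option autoImplicit false
set_option linter.style.haveILetI false
set_option linter.unusedSectionVars false

namespace Groth.Agent.Helper9.PJ1

open CategoryTheory MonoidalCategory Opposite Limits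
  Groth.Agent.Helper9.TensorSh Groth.Agent.Helper9.TensorAdj Groth.Agent.Helper9.TensorFlat
  Groth.Agent.Helper9.FreeTensor Groth.Agent.Helper9.Shriek
  Groth.Agent.Helper9.ShriekSh Groth.Agent.Helper9.ShriekProj Groth.Agent.Helper9.ShriekFaithful
  Groth.Agent.Helper9.ShriekProjSh

universe u

variable {C : Type u} [SmallCategory C] {J : GrothendieckTopology C} (O : Sheaf J CommRingCat.{u})
  (X : C)

/-- the explicit value of the projection isomorphism -/
lemma projExtA_hom_app (N : ModSite.Mod O) (P : ModSite.Mod (O.over X)) :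
    (projExtA O X N).hom.app P =
      (cmpIso O X).hom.app ((ιX O X).obj P ⊗ (pf O.obj X).obj ((ι O).obj N)) ≫
        (a O).map (ψ ((ιX O X).obj P) ((ι O).obj N)) ≫
        (a O).map (η O (sh ((ιX O X).obj P)) ▷ (ι O).obj N) := by
  have h : (projExtA O X N).hom.app P =
      (ext O X).map (𝟙 _) ≫
      (cmpIso O X).hom.app ((ιX O X).obj P ⊗ (pf O.obj X).obj ((ι O).obj N)) ≫
        (a O).map (ψ ((ιX O X).obj P) ((ι O).obj N)) ≫
        (a O).map (η O (sh ((ιX O X).obj P)) ▷ (ι O).obj N) := rfl
  rw [h, CategoryTheory.Functor.map_id, Category.id_comp]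

lemma projExtA_natural_aux {N N' : ModSite.Mod O} (f : N ⟶ N') (P : ModSite.Mod (O.over X)) :
    (a O).map ((shF O.obj X).map ((ιX O X).obj P ◁ (pf O.obj X).map ((ι O).map f))) ≫
      (a O).map (ψ ((ιX O X).obj P) ((ι O).obj N')) ≫
        (a O).map (η O (sh ((ιX O X).obj P)) ▷ (ι O).obj N') =
    ((a O).map (ψ ((ιX O X).obj P) ((ι O).obj N)) ≫
        (a O).map (η O (sh ((ιX O X).obj P)) ▷ (ι O).obj N)) ≫
      (a O).map ((ι O).obj ((ext O X).obj P) ◁ (ι O).map f) := by
  have key : ((shF O.obj X).map ((ιX O X).obj P ◁ (pf O.obj X).map ((ι O).map f)) ≫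
        ψ ((ιX O X).obj P) ((ι O).obj N')) ≫ (η O (sh ((ιX O X).obj P)) ▷ (ι O).obj N') =
      (ψ ((ιX O X).obj P) ((ι O).obj N) ≫ (η O (sh ((ιX O X).obj P)) ▷ (ι O).obj N)) ≫
        ((ι O).obj ((ext O X).obj P) ◁ (ι O).map f) :=
    (congrArg (· ≫ (η O (sh ((ιX O X).obj P)) ▷ (ι O).obj N'))
      (ψ_naturality_right ((ιX O X).obj P) ((ι O).map f))).trans
      ((Category.assoc _ _ _).trans
        ((congrArg (ψ ((ιX O X).obj P) ((ι O).obj N) ≫ ·)
          (whisker_exchange (η O (sh ((ιX O X).obj P))) ((ι O).map f))).trans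
          (Category.assoc _ _ _).symm))
  have key2 := congrArg (a O).map key
  refine Eq.trans ?_ (key2.trans ?_)
  · exact ((congrArg (· ≫ (a O).map (η O (sh ((ιX O X).obj P)) ▷ (ι O).obj N'))
      ((a O).map_comp _ _)).trans (Category.assoc _ _ _)).symm.trans ((a O).map_comp _ _).symm
  · exact ((a O).map_comp _ _).trans (congrArg (· ≫ _) ((a O).map_comp _ _))

/-- naturality of the explicit projection isomorphism in the module on `C` -/
lemma projExtA_natural {N N' : ModSite.Mod O} (f : N ⟶ N') (P : ModSite.Mod (O.over X)) :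
    (ext O X).map (((ModSite.tensorBi (O.over X)).obj P).map ((ModSite.restr O X).map f)) ≫
        (projExtA O X N').hom.app P =
      (projExtA O X N).hom.app P ≫ ((ModSite.tensorBi O).obj ((ext O X).obj P)).map f := by
  rw [projExtA_hom_app, projExtA_hom_app]
  have h1 : (ext O X).map (((ModSite.tensorBi (O.over X)).obj P).map ((ModSite.restr O X).map f)) =
      (a (O.over X) ⋙ ext O X).map
        ((ιX O X).obj P ◁ (pf O.obj X).map ((ι O).map f)) := rfl
  have h2 : ((ModSite.tensorBi O).obj ((ext O X).obj P)).map f =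
      (a O).map ((ι O).obj ((ext O X).obj P) ◁ (ι O).map f) := rfl
  rw [h2]
  refine (congrArg (· ≫ _) h1).trans ?_
  refine ((cmpIso O X).hom.naturality_assoc
    ((ιX O X).obj P ◁ (pf O.obj X).map ((ι O).map f)) _).trans ?_
  refine Eq.trans ?_ (Category.assoc _ _ _).symm
  congr 1
  exact projExtA_natural_aux O X f P

/-- the value of the projection isomorphism for `j_!` -/
lemma projShA_hom_app (N : ModSite.Mod O) (P : ModSite.Mod (O.over X)) :
    (projShA O X N).hom.app P =
      (Functor.whiskerLeft (TN ((ModSite.restr O X).obj N)) (extZeroIso O X).hom).app P ≫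
        (projExtA O X N).hom.app P ≫
          (Functor.whiskerRight (extZeroIso O X).inv (TN N)).app P := rfl

/-- naturality of the projection isomorphism for `j_!` in the module on `C` -/
lemma projShA_natural {N N' : ModSite.Mod O} (f : N ⟶ N') (P : ModSite.Mod (O.over X)) :
    (ModSite.extZero O X).map
        (((ModSite.tensorBi (O.over X)).obj P).map ((ModSite.restr O X).map f)) ≫
        (projShA O X N').hom.app P =
      (projShA O X N).hom.app P ≫
        ((ModSite.tensorBi O).obj ((ModSite.extZero O X).obj P)).map f := by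
  rw [projShA_hom_app, projShA_hom_app]
  have h1 : (ModSite.extZero O X).map
        (((ModSite.tensorBi (O.over X)).obj P).map ((ModSite.restr O X).map f)) ≫
      (Functor.whiskerLeft (TN ((ModSite.restr O X).obj N')) (extZeroIso O X).hom).app P =
      (Functor.whiskerLeft (TN ((ModSite.restr O X).obj N)) (extZeroIso O X).hom).app P ≫
      (ext O X).map (((ModSite.tensorBi (O.over X)).obj P).map ((ModSite.restr O X).map f)) :=
    (extZeroIso O X).hom.naturality
      (((ModSite.tensorBi (O.over X)).obj P).map ((ModSite.restr O X).map f))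
  have h2 := projExtA_natural O X f P
  have h3 : ((ModSite.tensorBi O).obj ((ext O X).obj P)).map f ≫
      (Functor.whiskerRight (extZeroIso O X).inv (TN N')).app P =
      (Functor.whiskerRight (extZeroIso O X).inv (TN N)).app P ≫
        ((ModSite.tensorBi O).obj ((ModSite.extZero O X).obj P)).map f :=
    ((ModSite.tensorBi O).map ((extZeroIso O X).inv.app P)).naturality f
  refine ((reassoc_of% h1) _).trans ?_
  refine (congrArg ((Functor.whiskerLeft (TN ((ModSite.restr O X).obj N))
    (extZeroIso O X).hom).app P ≫ ·) ((reassoc_of% h2) _)).trans ?_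
  refine Eq.trans ?_ (Category.assoc _ _ _).symm
  refine congrArg ((Functor.whiskerLeft (TN ((ModSite.restr O X).obj N))
    (extZeroIso O X).hom).app P ≫ ·) ?_
  refine Eq.trans ?_ (Category.assoc _ _ _).symm
  exact congrArg ((projExtA O X N).hom.app P ≫ ·) h3

section Cx

open HomologicalComplex

instance additive_extZero : (ModSite.extZero O X).Additive :=
  (ModSite.extZeroAdj O X).left_adjoint_additive

/-- the bifunctor `(L, M) ↦ j_!(L ⊗ j^*M)` -/
noncomputable abbrev biL : ModSite.Mod (O.over X) ⥤ ModSite.Mod O ⥤ ModSite.Mod O :=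
  Groth.Agent.Helper9.TotFun1.FG
    (Groth.Agent.Helper9.TotFun2.GF (𝟭 (ModSite.Mod (O.over X))) (ModSite.restr O X)
      (ModSite.tensorBi (O.over X)))
    (ModSite.extZero O X)

/-- the bifunctor `(L, M) ↦ j_!L ⊗ M` -/
noncomputable abbrev biR : ModSite.Mod (O.over X) ⥤ ModSite.Mod O ⥤ ModSite.Mod O :=
  Groth.Agent.Helper9.TotFun2.GF (ModSite.extZero O X) (𝟭 (ModSite.Mod O))
    (ModSite.tensorBi O)

/-- the projection isomorphism -/
noncomputable def pIso (L : ModSite.Mod (O.over X)) (M : ModSite.Mod O) :
    ((biL O X).obj L).obj M ≅ ((biR O X).obj L).obj M :=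
  (projShA O X M).app L

lemma pIso_natural_right (L : ModSite.Mod (O.over X)) {M M' : ModSite.Mod O} (ψ : M ⟶ M') :
    ((biL O X).obj L).map ψ ≫ (pIso O X L M').hom =
      (pIso O X L M).hom ≫ ((biR O X).obj L).map ψ :=
  projShA_natural O X ψ L

lemma pIso_natural_left {L L' : ModSite.Mod (O.over X)} (φ : L ⟶ L') (M : ModSite.Mod O) :
    ((biL O X).map φ).app M ≫ (pIso O X L' M).hom =
      (pIso O X L M).hom ≫ ((biR O X).map φ).app M :=
  (projShA O X M).hom.naturality φ

/-- the projection formula as an isomorphism of bifunctors -/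
noncomputable def biIso : biL O X ≅ biR O X :=
  NatIso.ofComponents
    (fun L => NatIso.ofComponents (fun M => pIso O X L M)
      (fun {M M'} ψ => pIso_natural_right O X L ψ))
    (fun {L L'} φ => by
      apply NatTrans.ext
      funext M
      exact pIso_natural_left O X φ M)

instance preservesColimits_extZero : PreservesColimitsOfSize.{0, 0} (ModSite.extZero O X) :=
  (ModSite.extZeroAdj O X).leftAdjoint_preservesColimits

/-- termwise restriction of complexes -/
noncomputable abbrev restrCx :
    CochainComplex (ModSite.Mod O) ℤ ⥤ CochainComplex (ModSite.Mod (O.over X)) ℤ :=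
  (ModSite.restr O X).mapHomologicalComplex (ComplexShape.up ℤ)

/-- termwise extension by zero of complexes -/
noncomputable abbrev extCx :
    CochainComplex (ModSite.Mod (O.over X)) ℤ ⥤ CochainComplex (ModSite.Mod O) ℤ :=
  (ModSite.extZero O X).mapHomologicalComplex (ComplexShape.up ℤ)

variable (L : CochainComplex (ModSite.Mod (O.over X)) ℤ) (K : CochainComplex (ModSite.Mod O) ℤ)

instance : HasMapBifunctor L K (biR O X) (ComplexShape.up ℤ) := fun _ => inferInstance
instance : HasMapBifunctor L K (biL O X) (ComplexShape.up ℤ) := fun _ => inferInstance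
instance : HasMapBifunctor L K
    (Groth.Agent.Helper9.TotFun2.GF (𝟭 (ModSite.Mod (O.over X))) (ModSite.restr O X)
      (ModSite.tensorBi (O.over X))) (ComplexShape.up ℤ) := fun _ => inferInstance

/-- `L ⊗ j^* K` as the total complex of a bifunctor -/
noncomputable def tensorRestrIso :
    mapBifunctor L K
      (Groth.Agent.Helper9.TotFun2.GF (𝟭 (ModSite.Mod (O.over X))) (ModSite.restr O X)
        (ModSite.tensorBi (O.over X))) (ComplexShape.up ℤ) ≅
      ((ModSite.tensorCx (O.over X)).obj L).obj ((restrCx O X).obj K) :=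
  Groth.Agent.Helper9.TotFun2.precompIso (𝟭 (ModSite.Mod (O.over X))) (ModSite.restr O X)
      (ModSite.tensorBi (O.over X)) L K (ComplexShape.up ℤ) ≪≫
    ((ModSite.tensorCx (O.over X)).mapIso ((Functor.mapHomologicalComplexIdIso
      (ModSite.Mod (O.over X)) (ComplexShape.up ℤ)).app L)).app ((restrCx O X).obj K)

/-- **the projection formula for complexes** for `j_!` -/
noncomputable def projCxIso :
    (extCx O X).obj (((ModSite.tensorCx (O.over X)).obj L).obj ((restrCx O X).obj K)) ≅
      ((ModSite.tensorCx O).obj ((extCx O X).obj L)).obj K :=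
  (extCx O X).mapIso (tensorRestrIso O X L K).symm ≪≫
    (Groth.Agent.Helper9.TotFun1.comparisonIso
      (Groth.Agent.Helper9.TotFun2.GF (𝟭 (ModSite.Mod (O.over X))) (ModSite.restr O X)
        (ModSite.tensorBi (O.over X))) (ModSite.extZero O X) (ComplexShape.up ℤ) L K).symm ≪≫
    Groth.Agent.Helper9.KFlat18.mapBifunctorNatIso (ComplexShape.up ℤ) (biIso O X) L K ≪≫
    Groth.Agent.Helper9.TotFun2.precompIso (ModSite.extZero O X) (𝟭 (ModSite.Mod O))
      (ModSite.tensorBi O) L K (ComplexShape.up ℤ) ≪≫
    ((ModSite.tensorCx O).obj ((extCx O X).obj L)).mapIso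
      ((Functor.mapHomologicalComplexIdIso (ModSite.Mod O) (ComplexShape.up ℤ)).app K)

/-- `j_!` preserves and reflects exactness of complexes in each degree -/
lemma exactAt_extCx_iff (M : CochainComplex (ModSite.Mod (O.over X)) ℤ) (i : ℤ) :
    ((extCx O X).obj M).ExactAt i ↔ M.ExactAt i := by
  haveI := preservesFiniteLimits_extZero O X
  haveI : PreservesFiniteColimits (ModSite.extZero O X) :=
    PreservesColimitsOfSize.preservesFiniteColimits _
  rw [HomologicalComplex.exactAt_iff, HomologicalComplex.exactAt_iff]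
  exact ShortComplex.exact_map_iff_of_faithful (M.sc i) (ModSite.extZero O X)

/-- **S9054**: the restriction of a K-flat complex to a localised site is K-flat -/
theorem isKFlat_restr (hK : ModSite.IsKFlat K) : ModSite.IsKFlat ((restrCx O X).obj K) := by
  intro L hL i
  have h1 : ∀ i : ℤ, IsZero (((extCx O X).obj L).homology i) := by
    intro i
    rw [← HomologicalComplex.exactAt_iff_isZero_homology, exactAt_extCx_iff,
      HomologicalComplex.exactAt_iff_isZero_homology]
    exact hL i
  have h2 := hK _ h1 i
  have h3 : IsZero (((extCx O X).obj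
      (((ModSite.tensorCx (O.over X)).obj L).obj ((restrCx O X).obj K))).homology i) :=
    h2.of_iso ((HomologicalComplex.homologyFunctor _ _ i).mapIso (projCxIso O X L K))
  rw [← HomologicalComplex.exactAt_iff_isZero_homology] at h3 ⊢
  exact (exactAt_extCx_iff O X _ i).1 h3

end Cx

end Groth.Agent.Helper9.PJ1
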