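import Mathlib
import Groth.Prelude.Def_FlatCA

/-!
# Elementary etale neighbourhoods: identity and composition; idempotent splitting of finiteness
-/

set_option autoImplicit false
universe u
open TensorProduct

namespace Groth.Agent.Helper9.PQF1

theorem isEtaleNhd_refl (R : Type u) [CommRing R] (p : Ideal R) [p.IsPrime] :
    FlatCA.IsEtaleNhd R R p p := by
  refine ⟨inferInstance, ⟨⟨rfl⟩, ?_⟩⟩
  have e : Ideal.ResidueField.mapₐ p p (Algebra.ofId R R) rfl = AlgHom.id R _ := by
    ext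
  rw [e]
  exact Function.bijective_id

theorem isEtaleNhd_trans {R R₁ R₂ : Type u} [CommRing R] [CommRing R₁] [CommRing R₂]
    [Algebra R R₁] [Algebra R₁ R₂] [Algebra R R₂] [IsScalarTower R R₁ R₂]
    (p : Ideal R) [p.IsPrime] (P₁ : Ideal R₁) [P₁.IsPrime] (P₂ : Ideal R₂) [P₂.IsPrime]
    (h₁ : FlatCA.IsEtaleNhd R R₁ p P₁) (h₂ : FlatCA.IsEtaleNhd R₁ R₂ P₁ P₂) :
    FlatCA.IsEtaleNhd R R₂ p P₂ := by
  obtain ⟨e₁, l₁, b₁⟩ := h₁
  obtain ⟨e₂, l₂, b₂⟩ := h₂
  haveI := e₁
  haveI := e₂
  haveI := l₁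
  haveI := l₂
  have l : P₂.LiesOver p := Ideal.LiesOver.trans P₂ P₁ p
  refine ⟨Algebra.Etale.comp R R₁ R₂, l, ?_⟩
  have key : (Ideal.ResidueField.mapₐ p P₂ (Algebra.ofId R R₂) l.over).toRingHom =
      (Ideal.ResidueField.mapₐ P₁ P₂ (Algebra.ofId R₁ R₂) l₂.over).toRingHom.comp
        (Ideal.ResidueField.mapₐ p P₁ (Algebra.ofId R R₁) l₁.over).toRingHom := by
    apply Ideal.ResidueField.ringHom_ext
    ext r
    simp only [RingHom.comp_apply, AlgHom.toRingHom_eq_coe, RingHom.coe_coe,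
      Ideal.ResidueField.mapₐ_apply, Ideal.ResidueField.map_algebraMap]
    congr 1
    exact IsScalarTower.algebraMap_apply R R₁ R₂ r
  have key' : ⇑(Ideal.ResidueField.mapₐ p P₂ (Algebra.ofId R R₂) l.over) =
      ⇑(Ideal.ResidueField.mapₐ P₁ P₂ (Algebra.ofId R₁ R₂) l₂.over) ∘
        ⇑(Ideal.ResidueField.mapₐ p P₁ (Algebra.ofId R R₁) l₁.over) := by
    funext x
    exact congrArg (fun f => f x) key
  rw [key']
  exact b₂.comp b₁

end Groth.Agent.Helper9.PQF1

namespace Groth.Agent.Helper9.PQF1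

section Idem

variable {R T : Type*} [CommRing R] [CommRing T] [Algebra R T]

/-- `x̄ ↦ a x` from `T ⧸ I` to `T`, when `a` kills `I`. -/
noncomputable def sec (a : T) (I : Ideal T) (h : ∀ x ∈ I, a * x = 0) : (T ⧸ I) →ₗ[R] T :=
  (Submodule.liftQ I (LinearMap.mulLeft T a) (by
    intro x hx
    rw [LinearMap.mem_ker, LinearMap.mulLeft_apply]
    exact h x hx)).restrictScalars R

theorem sec_mk (a : T) (I : Ideal T) (h : ∀ x ∈ I, a * x = 0) (x : T) :
    sec (R := R) a I h (Ideal.Quotient.mk I x) = a * x := rfl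

theorem kill_one_sub {e : T} (he : IsIdempotentElem e) : ∀ x ∈ Ideal.span {1 - e}, e * x = 0 := by
  intro x hx
  obtain ⟨y, rfl⟩ := Ideal.mem_span_singleton'.mp hx
  have : e * (1 - e) = 0 := by rw [mul_sub, mul_one, he.eq, sub_self]
  rw [mul_comm y, ← mul_assoc, this, zero_mul]

theorem kill_self {e : T} (he : IsIdempotentElem e) : ∀ x ∈ Ideal.span {e}, (1 - e) * x = 0 := by
  intro x hx
  obtain ⟨y, rfl⟩ := Ideal.mem_span_singleton'.mp hx
  have : (1 - e) * e = 0 := by rw [sub_mul, one_mul, he.eq, sub_self]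
  rw [mul_comm y, ← mul_assoc, this, zero_mul]

theorem finite_quot_one_sub {e : T} (he : IsIdempotentElem e)
    [Module.Finite R (Localization.Away e)] : Module.Finite R (T ⧸ Ideal.span {1 - e}) := by
  haveI : IsLocalization.Away e (T ⧸ Ideal.span {1 - e}) :=
    IsLocalization.away_of_isIdempotentElem he Ideal.mk_ker Ideal.Quotient.mk_surjective
  let φ : Localization.Away e ≃ₐ[T] (T ⧸ Ideal.span {1 - e}) :=
    IsLocalization.algEquiv (Submonoid.powers e) _ _
  exact Module.Finite.equiv (φ.restrictScalars R).toLinearEquiv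

theorem finite_tensor_of_idempotent (Rp : Type*) [CommRing Rp] [Algebra R Rp]
    {e : T} (he : IsIdempotentElem e)
    [Module.Finite R (T ⧸ Ideal.span {1 - e})]
    [Module.Finite Rp (Rp ⊗[R] (T ⧸ Ideal.span {e}))] : Module.Finite Rp (Rp ⊗[R] T) := by
  let σ : ((T ⧸ Ideal.span {1 - e}) × (T ⧸ Ideal.span {e})) →ₗ[R] T :=
    (sec (R := R) e _ (kill_one_sub he)).coprod (sec (R := R) (1 - e) _ (kill_self he))
  have hσ : Function.Surjective σ := by
    intro x
    refine ⟨(Ideal.Quotient.mk _ x, Ideal.Quotient.mk _ x), ?_⟩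
    simp only [σ, LinearMap.coprod_apply, sec_mk]
    ring
  haveI : Module.Finite Rp (Rp ⊗[R] ((T ⧸ Ideal.span {1 - e}) × (T ⧸ Ideal.span {e}))) :=
    Module.Finite.equiv (TensorProduct.prodRight R Rp Rp _ _).symm
  refine Module.Finite.of_surjective (σ.baseChange Rp) ?_
  rw [LinearMap.baseChange_eq_ltensor]
  exact LinearMap.lTensor_surjective Rp hσ

end Idem

end Groth.Agent.Helper9.PQF1

namespace Groth.Agent.Helper9.PQF1

section Descent

variable {R R₁ S : Type*} [CommRing R] [CommRing R₁] [Algebra R R₁] [CommRing S] [Algebra R S]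

theorem finite_descent [Module.Flat R R₁] (p : Ideal R) [p.IsPrime] (P₁ : Ideal R₁) [P₁.IsPrime]
    [P₁.LiesOver p]
    (h : Module.Finite (Localization.AtPrime P₁) (Localization.AtPrime P₁ ⊗[R₁] (R₁ ⊗[R] S))) :
    Module.Finite (Localization.AtPrime p) (Localization.AtPrime p ⊗[R] S) := by
  letI := Localization.AtPrime.algebraOfLiesOver p P₁
  haveI : IsLocalHom (algebraMap (Localization.AtPrime p) (Localization.AtPrime P₁)) := by
    rw [Localization.AtPrime.IsLiesOverAlgebra.algebraMap_eq (p := p) (P := P₁)]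
    exact Localization.isLocalHom_localRingHom _ _ _ _
  haveI : Module.FaithfullyFlat (Localization.AtPrime p) (Localization.AtPrime P₁) :=
    Module.FaithfullyFlat.of_flat_of_isLocalHom
  let e₁ := AlgebraTensorModule.cancelBaseChange R (Localization.AtPrime p)
    (Localization.AtPrime P₁) (Localization.AtPrime P₁) S
  let e₂ := AlgebraTensorModule.cancelBaseChange R R₁
    (Localization.AtPrime P₁) (Localization.AtPrime P₁) S
  haveI : Module.Finite (Localization.AtPrime P₁)
      (Localization.AtPrime P₁ ⊗[Localization.AtPrime p] (Localization.AtPrime p ⊗[R] S)) :=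
    Module.Finite.equiv (e₂.trans e₁.symm)
  exact Module.Finite.of_finite_tensorProduct_of_faithfullyFlat (Localization.AtPrime P₁)

end Descent

end Groth.Agent.Helper9.PQF1
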