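import Mathlib
import Groth.Prelude.Def_FlatCA

/-!
# Going down for locally flat maps and their base changes; base change of elementary etale
neighbourhoods
-/

set_option autoImplicit false
universe u
open TensorProduct

namespace Groth.Agent.Helper9.PQF8

section GD

variable {R S : Type*} [CommRing R] [CommRing S] [Algebra R S]

/-- going down at a prime where the algebra is flat. -/
theorem exists_le_liesOver_of_flat_localization (Q : Ideal S) [Q.IsPrime]
    [Module.Flat R (Localization.AtPrime Q)] (p : Ideal R) [p.IsPrime] (hp : p ≤ Q.under R) :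
    ∃ P : Ideal S, P ≤ Q ∧ P.IsPrime ∧ P.LiesOver p := by
  have hm : (IsLocalRing.maximalIdeal (Localization.AtPrime Q)).comap
      (algebraMap S (Localization.AtPrime Q)) = Q :=
    IsLocalization.AtPrime.under_maximalIdeal (Localization.AtPrime Q) Q
  haveI : (IsLocalRing.maximalIdeal (Localization.AtPrime Q)).LiesOver (Q.under R) := ⟨by
    rw [Ideal.under_def, Ideal.under_def,
      IsScalarTower.algebraMap_eq R S (Localization.AtPrime Q), ← Ideal.comap_comap, hm]⟩
  obtain ⟨P', hle, hP', hlo⟩ := Ideal.exists_ideal_le_liesOver_of_le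
    (S := Localization.AtPrime Q) (p := p) (q := Q.under R)
    (IsLocalRing.maximalIdeal (Localization.AtPrime Q)) hp
  refine ⟨P'.comap (algebraMap S (Localization.AtPrime Q)), ?_, Ideal.comap_isPrime _ _, ⟨?_⟩⟩
  · exact (Ideal.comap_mono hle).trans hm.le
  · rw [Ideal.under_def, Ideal.comap_comap, ← IsScalarTower.algebraMap_eq]
    exact hlo.over

end GD

section GDbc

attribute [local instance] Algebra.TensorProduct.rightAlgebra

variable {A A' A₁ : Type u} [CommRing A] [CommRing A'] [CommRing A₁] [Algebra A A'] [Algebra A A₁]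

/-- going down for the base change `A₁ → A₁ ⊗[A] A'` at a prime `t₂` over a prime `p'` of `A'`
at which `A'` is flat over `A`. -/
theorem exists_le_liesOver_tensor (t₂ : Ideal (A₁ ⊗[A] A')) [t₂.IsPrime] (p' : Ideal A')
    [p'.IsPrime] [t₂.LiesOver p'] [Module.Flat A (Localization.AtPrime p')]
    (t₁' : Ideal A₁) [t₁'.IsPrime] (hle : t₁' ≤ t₂.under A₁) :
    ∃ t₂' : Ideal (A₁ ⊗[A] A'), t₂' ≤ t₂ ∧ t₂'.IsPrime ∧ t₂'.LiesOver t₁' := by
  have hp' : p' = t₂.comap (Algebra.TensorProduct.includeRight : A' →ₐ[A] A₁ ⊗[A] A') :=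
    Ideal.LiesOver.over (p := p') (P := t₂)
  let σ : Localization.AtPrime p' →ₐ[A] Localization.AtPrime t₂ :=
    Localization.localAlgHom p' t₂ (Algebra.TensorProduct.includeRight : A' →ₐ[A] A₁ ⊗[A] A') hp'
  let ψ : A₁ ⊗[A] (Localization.AtPrime p') →ₐ[A₁] Localization.AtPrime t₂ :=
    Algebra.TensorProduct.lift (Algebra.ofId A₁ (Localization.AtPrime t₂)) σ
      (fun _ _ => .all _ _)
  let ι : A₁ ⊗[A] A' →ₐ[A₁] A₁ ⊗[A] (Localization.AtPrime p') :=
    Algebra.TensorProduct.map (AlgHom.id A₁ A₁) (IsScalarTower.toAlgHom A A' _)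
  have hcomp : ∀ x, ψ (ι x) = algebraMap (A₁ ⊗[A] A') (Localization.AtPrime t₂) x := by
    intro x
    induction x using TensorProduct.induction_on with
    | zero => simp
    | add x y hx hy => rw [map_add, map_add, hx, hy, map_add]
    | tmul a b =>
      simp only [ι, ψ, σ, Algebra.TensorProduct.map_tmul, Algebra.TensorProduct.lift_tmul,
        AlgHom.coe_id, id_eq, IsScalarTower.coe_toAlgHom', Localization.localAlgHom_apply,
        Localization.localRingHom_to_map]
      show algebraMap A₁ (Localization.AtPrime t₂) a *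
        algebraMap (A₁ ⊗[A] A') (Localization.AtPrime t₂) (1 ⊗ₜ b) = _
      rw [IsScalarTower.algebraMap_apply A₁ (A₁ ⊗[A] A') (Localization.AtPrime t₂), ← map_mul]
      congr 1
      rw [Algebra.TensorProduct.algebraMap_apply, Algebra.TensorProduct.tmul_mul_tmul]
      simp
  -- the prime of `A₁ ⊗ A'_{p'}` above `t₂`
  obtain ⟨T, hT⟩ : ∃ T : Ideal (A₁ ⊗[A] (Localization.AtPrime p')),
      T = (IsLocalRing.maximalIdeal (Localization.AtPrime t₂)).comap ψ.toRingHom := ⟨_, rfl⟩
  haveI : T.IsPrime := hT ▸ Ideal.comap_isPrime _ _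
  have hTt : T.comap ι.toRingHom = t₂ := by
    rw [hT, Ideal.comap_comap]
    have : ψ.toRingHom.comp ι.toRingHom =
        algebraMap (A₁ ⊗[A] A') (Localization.AtPrime t₂) := RingHom.ext fun x => hcomp x
    rw [this]
    exact IsLocalization.AtPrime.under_maximalIdeal (Localization.AtPrime t₂) t₂
  have hTu : T.under A₁ = t₂.under A₁ := by
    rw [← hTt, Ideal.under_def, Ideal.under_def, Ideal.comap_comap]
    congr 1
    ext a
    exact (ι.commutes a).symm
  obtain ⟨T', hT'le, hT'p, hT'o⟩ := Ideal.exists_ideal_le_liesOver_of_le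
    (S := A₁ ⊗[A] (Localization.AtPrime p')) (p := t₁') (q := T.under A₁) T (hTu ▸ hle)
  refine ⟨T'.comap ι.toRingHom, ?_, Ideal.comap_isPrime _ _, ⟨?_⟩⟩
  · rw [← hTt]
    exact Ideal.comap_mono hT'le
  · rw [hT'o.over, Ideal.under_def, Ideal.under_def, Ideal.comap_comap]
    congr 1
    ext a
    exact (ι.commutes a).symm

end GDbc

section ENbc

attribute [local instance] Algebra.TensorProduct.rightAlgebra

variable {A A' A₁ : Type u} [CommRing A] [CommRing A'] [CommRing A₁] [Algebra A A'] [Algebra A A₁]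

/-- etaleness of the base change, for the right algebra structure. -/
theorem etale_right [Algebra.Etale A A₁] : Algebra.Etale A' (A₁ ⊗[A] A') := by
  let e : A' ⊗[A] A₁ ≃ₐ[A'] A₁ ⊗[A] A' :=
    AlgEquiv.ofRingEquiv (f := (Algebra.TensorProduct.comm A A' A₁).toRingEquiv) (fun a => by
      show Algebra.TensorProduct.comm A A' A₁ (a ⊗ₜ 1) = 1 ⊗ₜ a
      rw [Algebra.TensorProduct.comm_tmul])
  exact Algebra.Etale.of_equiv e

variable (p : Ideal A) [p.IsPrime] (t₁ : Ideal A₁) [t₁.IsPrime] (p' : Ideal A') [p'.IsPrime]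
  (t₂ : Ideal (A₁ ⊗[A] A')) [t₂.IsPrime]

/-- the residue field extension of the base change of a residually trivial extension is
trivial. -/
theorem residue_bijective (h₁ : t₁.LiesOver p) (h' : p'.LiesOver p) (h₂ : t₂.LiesOver t₁)
    (h₂' : t₂.LiesOver p')
    (hbij : Function.Bijective (Ideal.ResidueField.mapₐ p t₁ (Algebra.ofId A A₁) h₁.over)) :
    Function.Bijective
      (Ideal.ResidueField.mapₐ p' t₂ (Algebra.ofId A' (A₁ ⊗[A] A')) h₂'.over) := by
  refine ⟨RingHom.injective _, ?_⟩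
  obtain ⟨φ, hφ⟩ : ∃ φ : p'.ResidueField →+* t₂.ResidueField,
      φ = (Ideal.ResidueField.mapₐ p' t₂ (Algebra.ofId A' (A₁ ⊗[A] A')) h₂'.over).toRingHom :=
    ⟨_, rfl⟩
  -- the images of `A₁` and `A'` lie in the range
  have hA' : ∀ a' : A', algebraMap (A₁ ⊗[A] A') t₂.ResidueField (algebraMap A' _ a') ∈
      φ.fieldRange := by
    intro a'
    refine ⟨algebraMap A' p'.ResidueField a', ?_⟩
    rw [hφ]
    simp only [AlgHom.toRingHom_eq_coe, RingHom.coe_coe, Ideal.ResidueField.mapₐ_apply,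
      Ideal.ResidueField.map_algebraMap]
    rfl
  have hcomm : φ.comp (Ideal.ResidueField.mapₐ p p' (Algebra.ofId A A') h'.over).toRingHom =
      (Ideal.ResidueField.mapₐ t₁ t₂ (Algebra.ofId A₁ (A₁ ⊗[A] A')) h₂.over).toRingHom.comp
        (Ideal.ResidueField.mapₐ p t₁ (Algebra.ofId A A₁) h₁.over).toRingHom := by
    apply Ideal.ResidueField.ringHom_ext
    ext r
    rw [hφ]
    simp only [RingHom.comp_apply, AlgHom.toRingHom_eq_coe, RingHom.coe_coe,
      Ideal.ResidueField.mapₐ_apply, Ideal.ResidueField.map_algebraMap]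
    congr 1
    show algebraMap A' (A₁ ⊗[A] A') (algebraMap A A' r) =
      algebraMap A₁ (A₁ ⊗[A] A') (algebraMap A A₁ r)
    rw [← IsScalarTower.algebraMap_apply, ← IsScalarTower.algebraMap_apply]
  have hA₁ : ∀ a₁ : A₁, algebraMap (A₁ ⊗[A] A') t₂.ResidueField (algebraMap A₁ _ a₁) ∈
      φ.fieldRange := by
    intro a₁
    obtain ⟨y, hy⟩ := hbij.2 (algebraMap A₁ t₁.ResidueField a₁)
    refine ⟨Ideal.ResidueField.mapₐ p p' (Algebra.ofId A A') h'.over y, ?_⟩
    have h1 := congrArg (fun f => f y) hcomm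
    simp only [RingHom.comp_apply, AlgHom.toRingHom_eq_coe, RingHom.coe_coe] at h1
    rw [h1, hy]
    simp only [Ideal.ResidueField.mapₐ_apply, Ideal.ResidueField.map_algebraMap]
    rfl
  have hall : ∀ x : A₁ ⊗[A] A', algebraMap (A₁ ⊗[A] A') t₂.ResidueField x ∈ φ.fieldRange := by
    intro x
    induction x using TensorProduct.induction_on with
    | zero => rw [map_zero]; exact zero_mem _
    | add x y hx hy => rw [map_add]; exact add_mem hx hy
    | tmul a b =>
      have : a ⊗ₜ[A] b = algebraMap A₁ (A₁ ⊗[A] A') a * algebraMap A' (A₁ ⊗[A] A') b := by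
        rw [Algebra.TensorProduct.algebraMap_apply]
        show _ = (algebraMap A₁ A₁ a ⊗ₜ[A] (1 : A')) * ((1 : A₁) ⊗ₜ[A] b)
        rw [Algebra.TensorProduct.tmul_mul_tmul, mul_one, one_mul]
        rfl
      rw [this, map_mul]
      exact mul_mem (hA₁ a) (hA' b)
  intro y
  obtain ⟨x, s, -, rfl⟩ := IsFractionRing.div_surjective (A := (A₁ ⊗[A] A') ⧸ t₂) y
  obtain ⟨x, rfl⟩ := Ideal.Quotient.mk_surjective x
  obtain ⟨s, rfl⟩ := Ideal.Quotient.mk_surjective s
  have hx := hall x
  have hs := hall s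
  have hdiv := div_mem hx hs
  obtain ⟨z, hz⟩ := hdiv
  refine ⟨z, ?_⟩
  rw [hφ] at hz
  rw [Ideal.algebraMap_quotient_residueField_mk, Ideal.algebraMap_quotient_residueField_mk]
  exact hz

end ENbc

end Groth.Agent.Helper9.PQF8
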