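import Mathlib
import Groth.Prelude.Def_FlatCA
import Groth.Agent.Helper9.PQF1

/-!
# Quasi-finite algebras with specialization lifting after elementary etale base change are finite
at the prime
-/

set_option autoImplicit false
universe u
open TensorProduct

namespace Groth.Agent.Helper9.PQF2

open Groth.Agent.Helper9.PQF1

/-- specialization lifting after elementary etale base change. -/
def PureQF (R S : Type u) [CommRing R] [CommRing S] [Algebra R S] (p : Ideal R) [p.IsPrime] :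
    Prop :=
  ∀ (R' : Type u) [CommRing R'] [Algebra R R'] (P : Ideal R') [P.IsPrime],
    FlatCA.IsEtaleNhd R R' p P → ∀ (t' : Ideal R') [t'.IsPrime], t' ≤ P →
    ∀ (Q : Ideal (R' ⊗[R] S)) [Q.IsPrime], Q.LiesOver t' →
    ∃ Q' : Ideal (R' ⊗[R] S), Q'.IsPrime ∧ Q ≤ Q' ∧ Q'.LiesOver P

section Empty

variable {R S : Type u} [CommRing R] [CommRing S] [Algebra R S] (p : Ideal R) [p.IsPrime]

theorem subsingleton_of_empty (h : PureQF R S p) (hempty : p.primesOver S = ∅) :
    Subsingleton (Localization.AtPrime p ⊗[R] S) := by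
  by_contra hne
  rw [not_subsingleton_iff_nontrivial] at hne
  obtain ⟨𝔔, h𝔔⟩ := Ideal.exists_maximal (Localization.AtPrime p ⊗[R] S)
  haveI := h𝔔.isPrime
  obtain ⟨Q₀, hQ₀⟩ : ∃ Q₀ : Ideal S, Q₀ = 𝔔.comap
    (Algebra.TensorProduct.includeRight (R := R) (A := Localization.AtPrime p)
      (B := S)).toRingHom := ⟨_, rfl⟩
  haveI : Q₀.IsPrime := hQ₀ ▸ Ideal.comap_isPrime _ _
  obtain ⟨t', ht'def⟩ : ∃ t' : Ideal R, t' = Q₀.under R := ⟨_, rfl⟩
  haveI : t'.IsPrime := ht'def ▸ Ideal.comap_isPrime _ _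
  have ht' : t' ≤ p := by
    intro r hr
    by_contra hrp
    have h1 : algebraMap R (Localization.AtPrime p ⊗[R] S) r ∈ 𝔔 := by
      have : algebraMap R S r ∈ Q₀ := by rw [ht'def] at hr; exact hr
      have h2 : (Algebra.TensorProduct.includeRight (R := R) (A := Localization.AtPrime p)
          (B := S)) (algebraMap R S r) ∈ 𝔔 := by rw [hQ₀] at this; exact this
      rwa [AlgHom.commutes] at h2
    have h3 : IsUnit (algebraMap R (Localization.AtPrime p ⊗[R] S) r) := by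
      rw [IsScalarTower.algebraMap_apply R (Localization.AtPrime p)]
      exact (IsLocalization.map_units (Localization.AtPrime p) (⟨r, hrp⟩ : p.primeCompl)).map _
    exact h𝔔.ne_top (Ideal.eq_top_of_isUnit_mem _ h1 h3)
  let ℓ : R ⊗[R] S ≃ₐ[R] S := Algebra.TensorProduct.lid R S
  let Q : Ideal (R ⊗[R] S) := Q₀.comap ℓ.toAlgHom.toRingHom
  haveI : Q.IsPrime := Ideal.comap_isPrime _ _
  have hQ : Q.LiesOver t' := ⟨by
    rw [ht'def]
    show Q₀.comap (algebraMap R S) = (Q₀.comap ℓ.toAlgHom.toRingHom).comap (algebraMap R _)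
    rw [Ideal.comap_comap]
    have : algebraMap R S = ℓ.toAlgHom.toRingHom.comp (algebraMap R (R ⊗[R] S)) := by
      ext r
      simp
    rw [← this]⟩
  obtain ⟨Q', hQ'p, -, hQ'o⟩ := h R p (isEtaleNhd_refl R p) t' ht' Q hQ
  let Q'' : Ideal S := Q'.comap ℓ.symm.toAlgHom.toRingHom
  have hQ''p : Q''.IsPrime := Ideal.comap_isPrime _ _
  have hQ''o : Q''.LiesOver p := ⟨by
    have := hQ'o.over
    rw [this]
    show Q'.comap (algebraMap R _) = (Q'.comap ℓ.symm.toAlgHom.toRingHom).comap (algebraMap R S)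
    rw [Ideal.comap_comap]
    have : algebraMap R (R ⊗[R] S) = ℓ.symm.toAlgHom.toRingHom.comp (algebraMap R S) := by
      ext r
      simp
    rw [← this]⟩
  have : Q'' ∈ p.primesOver S := ⟨hQ''p, hQ''o⟩
  rw [hempty] at this
  exact this

end Empty

section Count

variable {R : Type u} [CommRing R] {S : Type u} [CommRing S] [Algebra R S] (p : Ideal R)
  [p.IsPrime] {R₁ : Type u} [CommRing R₁] [Algebra R R₁] (P₁ : Ideal R₁) [P₁.IsPrime]
  [P₁.LiesOver p] (e₁ : R₁ ⊗[R] S)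

/-- a prime of the quotient over `P₁` gives a prime of the tensor product over `P₁`. -/
theorem comap_mk_liesOver (Q : Ideal ((R₁ ⊗[R] S) ⧸ Ideal.span {e₁})) [Q.LiesOver P₁] :
    (Q.comap (Ideal.Quotient.mk (Ideal.span {e₁}))).LiesOver P₁ := ⟨by
  have h := Ideal.LiesOver.over (p := P₁) (P := Q)
  rw [h]
  show Q.comap (algebraMap R₁ _) = (Q.comap (Ideal.Quotient.mk _)).comap (algebraMap R₁ _)
  rw [Ideal.comap_comap]
  rfl⟩

theorem comap_includeRight_liesOver (𝔓 : Ideal (R₁ ⊗[R] S)) [𝔓.LiesOver P₁] :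
    (𝔓.comap (Algebra.TensorProduct.includeRight (R := R) (A := R₁) (B := S)).toRingHom).LiesOver
      p := ⟨by
  have h1 := Ideal.LiesOver.over (p := p) (P := P₁)
  have h2 := Ideal.LiesOver.over (p := P₁) (P := 𝔓)
  rw [h1, h2]
  show (𝔓.comap (algebraMap R₁ _)).comap (algebraMap R R₁) =
    (𝔓.comap _).comap (algebraMap R S)
  rw [Ideal.comap_comap, Ideal.comap_comap]
  congr 1
  ext r
  simp [Algebra.TensorProduct.algebraMap_apply]⟩

theorem ncard_primesOver_quot_lt
    (hbij : Function.Bijective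
      (Ideal.ResidueField.mapₐ p P₁ (Algebra.ofId R R₁) (P₁.over_def p)))
    (q : Ideal S) [q.IsPrime] (P' : Ideal (R₁ ⊗[R] S)) [P'.IsPrime] [P'.LiesOver P₁]
    (hP'q : P'.comap (Algebra.TensorProduct.includeRight (R := R) (A := R₁)
      (B := S)).toRingHom = q) (he : e₁ ∉ P')
    (hfinite : (p.primesOver S).Finite) (hq : q ∈ p.primesOver S) :
    (P₁.primesOver ((R₁ ⊗[R] S) ⧸ Ideal.span {e₁})).ncard + 1 ≤ (p.primesOver S).ncard := by
  let g : Ideal ((R₁ ⊗[R] S) ⧸ Ideal.span {e₁}) → Ideal S := fun Q =>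
    (Q.comap (Ideal.Quotient.mk (Ideal.span {e₁}))).comap
      (Algebra.TensorProduct.includeRight (R := R) (A := R₁) (B := S)).toRingHom
  have hmaps : ∀ Q ∈ P₁.primesOver ((R₁ ⊗[R] S) ⧸ Ideal.span {e₁}),
      g Q ∈ p.primesOver S \ {q} := by
    rintro Q ⟨hQp, hQo⟩
    haveI := hQp
    haveI := hQo
    haveI : (Q.comap (Ideal.Quotient.mk (Ideal.span {e₁}))).IsPrime := Ideal.comap_isPrime _ _
    haveI := comap_mk_liesOver P₁ e₁ Q
    refine ⟨⟨Ideal.comap_isPrime _ _, comap_includeRight_liesOver p P₁ _⟩, ?_⟩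
    intro hgq
    rw [Set.mem_singleton_iff] at hgq
    have := Ideal.eq_of_comap_eq_comap_of_bijective_residueFieldMap hbij
      (Q.comap (Ideal.Quotient.mk (Ideal.span {e₁}))) P' (hgq.trans hP'q.symm)
    apply he
    rw [← this, Ideal.mem_comap, Ideal.Quotient.eq_zero_iff_mem.mpr
      (Ideal.mem_span_singleton_self e₁)]
    exact Q.zero_mem
  have hinj : Set.InjOn g (P₁.primesOver ((R₁ ⊗[R] S) ⧸ Ideal.span {e₁})) := by
    rintro Q ⟨hQp, hQo⟩ Q' ⟨hQ'p, hQ'o⟩ hgg
    haveI := hQp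
    haveI := hQo
    haveI := hQ'p
    haveI := hQ'o
    haveI : (Q.comap (Ideal.Quotient.mk (Ideal.span {e₁}))).IsPrime := Ideal.comap_isPrime _ _
    haveI : (Q'.comap (Ideal.Quotient.mk (Ideal.span {e₁}))).IsPrime := Ideal.comap_isPrime _ _
    haveI := comap_mk_liesOver P₁ e₁ Q
    haveI := comap_mk_liesOver P₁ e₁ Q'
    have := Ideal.eq_of_comap_eq_comap_of_bijective_residueFieldMap hbij
      (Q.comap (Ideal.Quotient.mk (Ideal.span {e₁})))
      (Q'.comap (Ideal.Quotient.mk (Ideal.span {e₁}))) hgg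
    exact Ideal.comap_injective_of_surjective _ Ideal.Quotient.mk_surjective this
  have h1 := Set.ncard_le_ncard_of_injOn g hmaps hinj (hfinite.sdiff)
  have h2 := Set.ncard_sdiff_singleton_add_one hq hfinite
  omega

end Count

section Transfer

variable {R : Type u} [CommRing R] {S : Type u} [CommRing S] [Algebra R S] (p : Ideal R)
  [p.IsPrime] {R₁ : Type u} [CommRing R₁] [Algebra R R₁] (P₁ : Ideal R₁) [P₁.IsPrime]
  (e₁ : R₁ ⊗[R] S)

theorem pureQF_quot (h : PureQF R S p) (hnhd₁ : FlatCA.IsEtaleNhd R R₁ p P₁) :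
    PureQF R₁ ((R₁ ⊗[R] S) ⧸ Ideal.span {e₁}) P₁ := by
  intro R₂ _ _ P₂ _ hnhd₂ t' _ ht' Q _ hQ
  letI : Algebra R R₂ := ((algebraMap R₁ R₂).comp (algebraMap R R₁)).toAlgebra
  haveI : IsScalarTower R R₁ R₂ := IsScalarTower.of_algebraMap_eq (fun _ => rfl)
  have hnhd : FlatCA.IsEtaleNhd R R₂ p P₂ := isEtaleNhd_trans p P₁ P₂ hnhd₁ hnhd₂
  let θ : R₂ ⊗[R] S →ₐ[R₂] R₂ ⊗[R₁] ((R₁ ⊗[R] S) ⧸ Ideal.span {e₁}) :=
    (Algebra.TensorProduct.map (AlgHom.id R₂ R₂)
      (Ideal.Quotient.mkₐ R₁ (Ideal.span {e₁}))).comp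
      (Algebra.TensorProduct.cancelBaseChange R R₁ R₂ R₂ S).symm.toAlgHom
  have hθ : Function.Surjective θ := by
    have h1 : Function.Surjective (Algebra.TensorProduct.map (AlgHom.id R₂ R₂)
      (Ideal.Quotient.mkₐ R₁ (Ideal.span {e₁}))) :=
      Algebra.TensorProduct.map_surjective _ _ Function.surjective_id
        Ideal.Quotient.mk_surjective
    exact h1.comp (Algebra.TensorProduct.cancelBaseChange R R₁ R₂ R₂ S).symm.surjective
  obtain ⟨Q₀, hQ₀⟩ : ∃ Q₀ : Ideal (R₂ ⊗[R] S), Q₀ = Q.comap θ.toRingHom := ⟨_, rfl⟩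
  haveI : Q₀.IsPrime := hQ₀ ▸ Ideal.comap_isPrime _ _
  have hQ₀o : Q₀.LiesOver t' := ⟨by
    rw [hQ.over, hQ₀]
    show Q.comap (algebraMap R₂ _) = (Q.comap θ.toRingHom).comap (algebraMap R₂ _)
    rw [Ideal.comap_comap]
    have : algebraMap R₂ (R₂ ⊗[R₁] ((R₁ ⊗[R] S) ⧸ Ideal.span {e₁})) =
        θ.toRingHom.comp (algebraMap R₂ (R₂ ⊗[R] S)) := by
      ext r
      exact (θ.commutes r).symm
    rw [← this]⟩
  obtain ⟨Q₀', hQ₀'p, hle, hover⟩ := h R₂ P₂ hnhd t' ht' Q₀ hQ₀o
  have hker : RingHom.ker θ.toRingHom ≤ Q₀' := by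
    refine le_trans ?_ hle
    rw [hQ₀]
    exact Ideal.comap_mono bot_le
  refine ⟨Q₀'.map θ.toRingHom, Ideal.map_isPrime_of_surjective hθ hker, ?_, ⟨?_⟩⟩
  · calc Q = (Q.comap θ.toRingHom).map θ.toRingHom := (Ideal.map_comap_of_surjective _ hθ Q).symm
      _ ≤ Q₀'.map θ.toRingHom := Ideal.map_mono (hQ₀ ▸ hle)
  · rw [hover.over]
    show Q₀'.comap (algebraMap R₂ _) = (Q₀'.map θ.toRingHom).comap (algebraMap R₂ _)
    have : algebraMap R₂ (R₂ ⊗[R₁] ((R₁ ⊗[R] S) ⧸ Ideal.span {e₁})) =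
        θ.toRingHom.comp (algebraMap R₂ (R₂ ⊗[R] S)) := by
      ext r
      exact (θ.commutes r).symm
    rw [this, ← Ideal.comap_comap, Ideal.comap_map_of_surjective θ.toRingHom hθ]
    congr 1
    rw [eq_comm, sup_eq_left]
    exact Ideal.comap_mono bot_le |>.trans hker

end Transfer

section Main

theorem finite_aux (n : ℕ) : ∀ (R S : Type u) [CommRing R] [CommRing S] [Algebra R S]
    [Algebra.FiniteType R S] [Algebra.QuasiFinite R S] (p : Ideal R) [p.IsPrime],
    (p.primesOver S).ncard ≤ n → PureQF R S p →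
    Module.Finite (Localization.AtPrime p) (Localization.AtPrime p ⊗[R] S) := by
  induction n with
  | zero =>
    intro R S _ _ _ _ _ p _ hn h
    have hfin : (p.primesOver S).Finite := Algebra.QuasiFinite.finite_primesOver p
    have hempty : p.primesOver S = ∅ := by
      rw [← Set.ncard_eq_zero hfin]
      omega
    haveI := subsingleton_of_empty p h hempty
    exact Module.Finite.of_finite
  | succ n ih =>
    intro R S _ _ _ _ _ p _ hn h
    have hfin : (p.primesOver S).Finite := Algebra.QuasiFinite.finite_primesOver p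
    by_cases hempty : p.primesOver S = ∅
    · haveI := subsingleton_of_empty p h hempty
      exact Module.Finite.of_finite
    obtain ⟨q, hq⟩ := Set.nonempty_iff_ne_empty.mpr hempty
    haveI : q.IsPrime := hq.1
    haveI : q.LiesOver p := hq.2
    obtain ⟨R₁, _, _, _, P₁, _, _, e₁, he₁, P', _, _, hP'q, he₁P', hbij, hfinloc, -⟩ :=
      Algebra.exists_etale_isIdempotentElem_forall_liesOver_eq p q
    have hnhd₁ : FlatCA.IsEtaleNhd R R₁ p P₁ := ⟨inferInstance, inferInstance, hbij⟩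
    have hcount := ncard_primesOver_quot_lt p P₁ e₁ hbij q P' hP'q he₁P' hfin hq
    have hpure := pureQF_quot p P₁ e₁ h hnhd₁
    haveI := ih R₁ ((R₁ ⊗[R] S) ⧸ Ideal.span {e₁}) P₁ (by omega) hpure
    haveI : Module.Finite R₁ ((R₁ ⊗[R] S) ⧸ Ideal.span {1 - e₁}) := finite_quot_one_sub he₁
    have h7 : Module.Finite (Localization.AtPrime P₁)
        (Localization.AtPrime P₁ ⊗[R₁] (R₁ ⊗[R] S)) :=
      finite_tensor_of_idempotent (Localization.AtPrime P₁) he₁
    exact finite_descent p P₁ h7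

/-- A quasi-finite finite type algebra with specialization lifting after elementary etale base
change at `p` is finite after localizing at `p`. -/
theorem finite_of_pureQF (R S : Type u) [CommRing R] [CommRing S] [Algebra R S]
    [Algebra.FiniteType R S] [Algebra.QuasiFinite R S] (p : Ideal R) [p.IsPrime]
    (h : PureQF R S p) :
    Module.Finite (Localization.AtPrime p) (Localization.AtPrime p ⊗[R] S) :=
  finite_aux _ R S p le_rfl h

end Main

end Groth.Agent.Helper9.PQF2
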