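import Mathlib
import Groth.Prelude.Def_FlatCA
import Groth.Agent.Helper3.SuppBC
import Groth.Agent.Helper5.FlatAss1
import Groth.Agent.Helper5.Pure1
import Groth.Agent.Helper9.PQF2

/-!
# From purity of a module with finite fibre supports to `PureQF` of its scheme-theoretic support
-/

set_option autoImplicit false
universe u
open TensorProduct

namespace Groth.Agent.Helper9.PQF4

open Groth.Agent.Helper9.PQF2

attribute [local instance] Algebra.TensorProduct.rightAlgebra

section Supp

variable {A B : Type u} [CommRing A] [CommRing B] [Algebra A B]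
  (N : Type u) [AddCommGroup N] [Module B N] [Module A N] [IsScalarTower A B N]
  [Module.Finite B N] (p : Ideal A) [p.IsPrime]

theorem comap_fiberIdeal (q : Ideal B) [q.IsPrime] [q.LiesOver p] :
    (FlatCA.fiberIdeal p q).comap (algebraMap B (p.Fiber B)) = q := by
  apply le_antisymm
  · intro b hb
    exact Groth.Agent.Helper5.Pure.mem_of_tmul_mem_fiberIdeal p q b hb
  · intro b hb
    exact Ideal.mem_map_of_mem _ hb

/-- the point of the fibre given by a prime in the support lies in the support of the fibre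
module. -/
theorem fiberIdeal_mem_support (q : Ideal B) [q.IsPrime] [q.LiesOver p]
    (hq : (⟨q, inferInstance⟩ : PrimeSpectrum B) ∈ Module.support B N) :
    (⟨FlatCA.fiberIdeal p q, Groth.Agent.Helper5.FlatAss.isPrime_fiberIdeal p q⟩ :
      PrimeSpectrum (p.Fiber B)) ∈ Module.support (p.Fiber B) (FlatCA.fiberMod p B N) := by
  show _ ∈ Module.support (p.Fiber B) ((p.Fiber B) ⊗[B] N)
  rw [Groth.Agent.Helper3.SuppBC.mem_support_baseChange_iff]
  convert hq using 1
  apply PrimeSpectrum.ext
  exact comap_fiberIdeal p q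

theorem liesOver_comap_mk (I : Ideal B) (Q : Ideal (B ⧸ I)) [Q.LiesOver p] :
    (Q.comap (Ideal.Quotient.mk I)).LiesOver p := ⟨by
  have h := Ideal.LiesOver.over (p := p) (P := Q)
  rw [h]
  show Q.comap (algebraMap A _) = (Q.comap (Ideal.Quotient.mk I)).comap (algebraMap A B)
  rw [Ideal.comap_comap]
  rfl⟩

theorem mem_support_comap_mk (Q : Ideal (B ⧸ Module.annihilator B N)) [Q.IsPrime] :
    (⟨Q.comap (Ideal.Quotient.mk _), Ideal.comap_isPrime _ _⟩ : PrimeSpectrum B) ∈
      Module.support B N := by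
  rw [Module.mem_support_iff_of_finite]
  intro b hb
  show Ideal.Quotient.mk _ b ∈ Q
  rw [Ideal.Quotient.eq_zero_iff_mem.mpr hb]
  exact Q.zero_mem

theorem quasiFinite_quot [Algebra.FiniteType A B]
    (hfin : ∀ (p : Ideal A) [p.IsPrime],
      (Module.support (p.Fiber B) (FlatCA.fiberMod p B N)).Finite) :
    Algebra.QuasiFinite A (B ⧸ Module.annihilator B N) := by
  rw [Algebra.QuasiFinite.iff_finite_primesOver]
  intro p hp
  haveI := hp
  let f : Ideal (B ⧸ Module.annihilator B N) → Ideal (p.Fiber B) := fun Q =>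
    FlatCA.fiberIdeal p (Q.comap (Ideal.Quotient.mk _))
  apply Set.Finite.of_finite_image (f := f)
  · apply Set.Finite.subset ((hfin p).image PrimeSpectrum.asIdeal)
    rintro _ ⟨Q, ⟨hQp, hQo⟩, rfl⟩
    haveI := hQp
    haveI := hQo
    haveI : (Q.comap (Ideal.Quotient.mk (Module.annihilator B N))).IsPrime :=
      Ideal.comap_isPrime _ _
    haveI := liesOver_comap_mk p (Module.annihilator B N) Q
    exact ⟨_, fiberIdeal_mem_support N p _ (mem_support_comap_mk N Q), rfl⟩
  · rintro Q ⟨hQp, hQo⟩ Q' ⟨hQ'p, hQ'o⟩ hff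
    haveI := hQp
    haveI := hQo
    haveI := hQ'p
    haveI := hQ'o
    haveI : (Q.comap (Ideal.Quotient.mk (Module.annihilator B N))).IsPrime :=
      Ideal.comap_isPrime _ _
    haveI : (Q'.comap (Ideal.Quotient.mk (Module.annihilator B N))).IsPrime :=
      Ideal.comap_isPrime _ _
    haveI := liesOver_comap_mk p (Module.annihilator B N) Q
    haveI := liesOver_comap_mk p (Module.annihilator B N) Q'
    have h1 := comap_fiberIdeal p (Q.comap (Ideal.Quotient.mk (Module.annihilator B N)))
    have h2 := comap_fiberIdeal p (Q'.comap (Ideal.Quotient.mk (Module.annihilator B N)))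
    have h3 : Q.comap (Ideal.Quotient.mk (Module.annihilator B N)) =
        Q'.comap (Ideal.Quotient.mk (Module.annihilator B N)) := by
      rw [← h1, ← h2]
      exact congrArg _ hff
    exact Ideal.comap_injective_of_surjective _ Ideal.Quotient.mk_surjective h3

end Supp

section Pure

variable {A B : Type u} [CommRing A] [CommRing B] [Algebra A B] [Algebra.FiniteType A B]
  (N : Type u) [AddCommGroup N] [Module B N] [Module A N] [IsScalarTower A B N]
  [Module.Finite B N] (p : Ideal A) [p.IsPrime]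

theorem liesOver_comap_algHom {A' X Y : Type u} [CommRing A'] [CommRing X] [CommRing Y]
    [Algebra A' X] [Algebra A' Y] (π : X →ₐ[A'] Y) (t : Ideal A') (Q : Ideal Y) [Q.LiesOver t] :
    (Q.comap π.toRingHom).LiesOver t := ⟨by
  have h := Ideal.LiesOver.over (p := t) (P := Q)
  rw [h]
  show Q.comap (algebraMap A' Y) = (Q.comap π.toRingHom).comap (algebraMap A' X)
  rw [Ideal.comap_comap]
  have : algebraMap A' Y = π.toRingHom.comp (algebraMap A' X) := by
    ext r
    exact (π.commutes r).symm
  rw [← this]⟩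

theorem liesOver_map_algHom {A' X Y : Type u} [CommRing A'] [CommRing X] [CommRing Y]
    [Algebra A' X] [Algebra A' Y] (π : X →ₐ[A'] Y) (hπ : Function.Surjective π)
    (t : Ideal A') (P : Ideal X) [P.LiesOver t] (hker : RingHom.ker π.toRingHom ≤ P) :
    (P.map π.toRingHom).LiesOver t := ⟨by
  have h := Ideal.LiesOver.over (p := t) (P := P)
  rw [h]
  show P.comap (algebraMap A' X) = (P.map π.toRingHom).comap (algebraMap A' Y)
  have : algebraMap A' Y = π.toRingHom.comp (algebraMap A' X) := by
    ext r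
    exact (π.commutes r).symm
  rw [this, ← Ideal.comap_comap, Ideal.comap_map_of_surjective π.toRingHom hπ]
  congr 1
  rw [eq_comm, sup_eq_left]
  exact Ideal.comap_mono bot_le |>.trans hker⟩

theorem pureQF_of_isPureAlong [Algebra.QuasiFinite A (B ⧸ Module.annihilator B N)]
    (hpure : FlatCA.IsPureAlong A B N p) : PureQF A (B ⧸ Module.annihilator B N) p := by
  intro A' _ _ t _ hnhd t' _ ht' Q _ hQ
  by_contra hno
  push Not at hno
  obtain ⟨I, hI⟩ : ∃ I : Ideal B, I = Module.annihilator B N := ⟨_, rfl⟩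
  let π : A' ⊗[A] B →ₐ[A'] A' ⊗[A] (B ⧸ Module.annihilator B N) :=
    Algebra.TensorProduct.map (AlgHom.id A' A') (Ideal.Quotient.mkₐ A (Module.annihilator B N))
  have hπ : Function.Surjective π :=
    Algebra.TensorProduct.map_surjective _ _ Function.surjective_id Ideal.Quotient.mk_surjective
  obtain ⟨P, hP⟩ : ∃ P : Ideal (A' ⊗[A] B), P = Q.comap π.toRingHom := ⟨_, rfl⟩
  haveI : P.IsPrime := hP ▸ Ideal.comap_isPrime _ _
  haveI hPo : P.LiesOver t' := hP ▸ liesOver_comap_algHom π t' Q
  have hkerP : RingHom.ker π.toRingHom ≤ P := by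
    rw [hP]
    exact Ideal.comap_mono bot_le
  -- elements of the annihilator land in every prime over which things live
  have hkerπ : RingHom.ker π.toRingHom =
      (Module.annihilator B N).map (algebraMap B (A' ⊗[A] B)) := by
    have := Algebra.TensorProduct.lTensor_ker (A := A')
      (Ideal.Quotient.mkₐ A (Module.annihilator B N)) Ideal.Quotient.mk_surjective
    have h2 : RingHom.ker (Ideal.Quotient.mkₐ A (Module.annihilator B N)) =
        Module.annihilator B N := Ideal.Quotient.mkₐ_ker A _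
    rw [h2] at this
    exact this
  have hlt : t.LiesOver p := hnhd.2.1
  refine hpure A' (A' ⊗[A] B) ((A' ⊗[A] B) ⊗[B] N) (TensorProduct.mk B (A' ⊗[A] B) N 1) t' t P
    hnhd ⟨inferInstance, TensorProduct.isBaseChange B N (A' ⊗[A] B), ht', hlt, hPo, ?_, ?_⟩
  · -- the associated prime condition
    haveI : IsNoetherianRing (t'.Fiber (A' ⊗[A] B)) :=
      Groth.Agent.Helper5.FibAss.isNoetherianRing_fiber t'
    haveI : Module.Finite (t'.Fiber (A' ⊗[A] B))
        (FlatCA.fiberMod t' (A' ⊗[A] B) ((A' ⊗[A] B) ⊗[B] N)) := by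
      show Module.Finite (t'.Fiber (A' ⊗[A] B))
        ((t'.Fiber (A' ⊗[A] B)) ⊗[A' ⊗[A] B] ((A' ⊗[A] B) ⊗[B] N))
      infer_instance
    apply Module.associatedPrimes.minimalPrimes_annihilator_subset_associatedPrimes
    -- `P` is in the support of `N'`
    have hsuppP : (⟨P, inferInstance⟩ : PrimeSpectrum (A' ⊗[A] B)) ∈
        Module.support (A' ⊗[A] B) ((A' ⊗[A] B) ⊗[B] N) := by
      rw [Groth.Agent.Helper3.SuppBC.mem_support_baseChange_iff,
        Module.mem_support_iff_of_finite]
      intro b hb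
      show algebraMap B (A' ⊗[A] B) b ∈ P
      apply hkerP
      rw [hkerπ]
      exact Ideal.mem_map_of_mem _ hb
    have hsupp := fiberIdeal_mem_support ((A' ⊗[A] B) ⊗[B] N) t' P hsuppP
    rw [Module.mem_support_iff_of_finite] at hsupp
    refine ⟨⟨Groth.Agent.Helper5.FlatAss.isPrime_fiberIdeal t' P, hsupp⟩, ?_⟩
    rintro J ⟨hJp, hJann⟩ hJle
    haveI := hJp
    obtain ⟨P₀, hP₀⟩ : ∃ P₀ : Ideal (A' ⊗[A] B),
        P₀ = J.comap (algebraMap (A' ⊗[A] B) (t'.Fiber (A' ⊗[A] B))) := ⟨_, rfl⟩
    haveI : P₀.IsPrime := hP₀ ▸ Ideal.comap_isPrime _ _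
    have hP₀o : P₀.LiesOver t' := ⟨by
      rw [hP₀]
      have h1 : J.LiesOver t' := inferInstance
      refine h1.over.trans ?_
      show J.comap (algebraMap A' _) = (J.comap _).comap (algebraMap A' _)
      rw [Ideal.comap_comap]
      have : algebraMap A' (t'.Fiber (A' ⊗[A] B)) =
          (algebraMap (A' ⊗[A] B) (t'.Fiber (A' ⊗[A] B))).comp
            (algebraMap A' (A' ⊗[A] B)) := by
        ext a
        show (algebraMap A' t'.ResidueField a) ⊗ₜ[A'] (1 : A' ⊗[A] B) =
          (1 : t'.ResidueField) ⊗ₜ[A'] (algebraMap A' (A' ⊗[A] B) a)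
        rw [Algebra.algebraMap_eq_smul_one, Algebra.algebraMap_eq_smul_one,
          TensorProduct.smul_tmul]
      rw [← this]⟩
    have hP₀P : P₀ ≤ P := by
      rw [hP₀, ← comap_fiberIdeal t' P]
      exact Ideal.comap_mono hJle
    have hkerP₀ : RingHom.ker π.toRingHom ≤ P₀ := by
      rw [hkerπ, Ideal.map_le_iff_le_comap]
      intro b hb
      rw [Ideal.mem_comap, hP₀, Ideal.mem_comap]
      apply hJann
      rw [Module.mem_annihilator]
      intro m
      exact Groth.Agent.Helper5.Pure.tmul_smul_eq_zero' ((A' ⊗[A] B) ⊗[B] N) t'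
        (algebraMap B (A' ⊗[A] B) b)
        (Groth.Agent.Helper5.Pure.smul_eq_zero_of_isBaseChange N
          (TensorProduct.mk B (A' ⊗[A] B) N 1) (TensorProduct.isBaseChange B N (A' ⊗[A] B)) b hb)
        m
    -- compare the images in `A' ⊗ C`
    have hQ₀p : (P₀.map π.toRingHom).IsPrime := Ideal.map_isPrime_of_surjective hπ hkerP₀
    have hQ₀o : (P₀.map π.toRingHom).LiesOver t' := liesOver_map_algHom π hπ t' P₀ hkerP₀
    have hQ₀Q : P₀.map π.toRingHom ≤ Q := by
      calc P₀.map π.toRingHom ≤ P.map π.toRingHom := Ideal.map_mono hP₀P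
        _ = Q := by rw [hP, Ideal.map_comap_of_surjective π.toRingHom hπ]
    have heq : P₀.map π.toRingHom = Q :=
      Algebra.QuasiFinite.eq_of_le_of_under_eq (R := A') _ _ hQ₀Q
        (hQ₀o.over.symm.trans hQ.over)
    have hP₀eq : P₀ = P := by
      rw [hP, ← heq, Ideal.comap_map_of_surjective π.toRingHom hπ, eq_comm, sup_eq_left]
      exact Ideal.comap_mono bot_le |>.trans hkerP₀
    show FlatCA.fiberIdeal t' P ≤ J
    rw [← hP₀eq, hP₀]
    exact Ideal.map_comap_le
  · -- no specialization over `t`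
    intro P' hP'p hPP' hP'o
    have hkerP' : RingHom.ker π.toRingHom ≤ P' := hkerP.trans hPP'
    refine hno (P'.map π.toRingHom) (Ideal.map_isPrime_of_surjective hπ hkerP') ?_
      (liesOver_map_algHom π hπ t P' hkerP')
    calc Q = P.map π.toRingHom := by rw [hP, Ideal.map_comap_of_surjective π.toRingHom hπ]
      _ ≤ P'.map π.toRingHom := Ideal.map_mono hPP'

end Pure

end Groth.Agent.Helper9.PQF4
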