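import Mathlib
import Groth.Agent.Helper1.AssTensor2

/-!
# Associated primes under flat base change of Noetherian rings (up and down)
-/

set_option autoImplicit false
open TensorProduct

namespace Groth.Agent.Helper9.PQF5

variable {F F'' : Type*} [CommRing F] [CommRing F''] [Algebra F F''] [Module.Flat F F'']

/-- a nonzerodivisor modulo a prime stays a nonzerodivisor modulo the extended ideal. -/
theorem mem_map_of_mul_mem (𝔭 : Ideal F) [𝔭.IsPrime] {s : F} (hs : s ∉ 𝔭) {x : F''}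
    (hx : algebraMap F F'' s * x ∈ 𝔭.map (algebraMap F F'')) : x ∈ 𝔭.map (algebraMap F F'') := by
  have hreg : IsSMulRegular (F ⧸ 𝔭) s := by
    intro a b hab
    obtain ⟨a, rfl⟩ := Ideal.Quotient.mk_surjective a
    obtain ⟨b, rfl⟩ := Ideal.Quotient.mk_surjective b
    have h1 : Ideal.Quotient.mk 𝔭 (s * a) = Ideal.Quotient.mk 𝔭 (s * b) := hab
    rw [Ideal.Quotient.eq, ← mul_sub] at h1
    rw [Ideal.Quotient.eq]
    exact (Ideal.IsPrime.mem_or_mem ‹_› h1).resolve_left hs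
  have hreg2 : IsSMulRegular (F'' ⊗[F] (F ⧸ 𝔭)) (algebraMap F F'' s) :=
    hreg.of_flat_of_isBaseChange (TensorProduct.isBaseChange F (F ⧸ 𝔭) F'')
  have h0 : Algebra.TensorProduct.quotIdealMapEquivTensorQuot F'' 𝔭
      (Ideal.Quotient.mk _ (algebraMap F F'' s * x)) = 0 := by
    rw [Ideal.Quotient.eq_zero_iff_mem.mpr hx, map_zero]
  rw [Algebra.TensorProduct.quotIdealMapEquivTensorQuot_mk] at h0
  have h1 : algebraMap F F'' s • (x ⊗ₜ[F] (1 : F ⧸ 𝔭)) = algebraMap F F'' s • 0 := by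
    rw [smul_zero, TensorProduct.smul_tmul', smul_eq_mul]
    exact h0
  have h2 := hreg2 h1
  have h3 : Algebra.TensorProduct.quotIdealMapEquivTensorQuot F'' 𝔭
      (Ideal.Quotient.mk _ x) = 0 := by
    rw [Algebra.TensorProduct.quotIdealMapEquivTensorQuot_mk]
    exact h2
  rw [map_eq_zero_iff _ (AlgEquiv.injective _)] at h3
  exact Ideal.Quotient.eq_zero_iff_mem.mp h3

/-- an associated prime of `F''/𝔭F''` contracts to `𝔭`. -/
theorem comap_eq_of_mem_associatedPrimes_quot (𝔭 : Ideal F) [𝔭.IsPrime] (𝔓 : Ideal F'')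
    (h : 𝔓 ∈ associatedPrimes F''
      (F'' ⧸ (𝔭.map (algebraMap F F'') • (⊤ : Submodule F'' F'')))) :
    𝔓.comap (algebraMap F F'') = 𝔭 := by
  obtain ⟨hprime, xbar, hx⟩ := h
  obtain ⟨x, rfl⟩ := Submodule.Quotient.mk_surjective _ xbar
  have hmem : ∀ y : F'', y ∈ 𝔓 ↔ ∃ k : ℕ, y ^ k * x ∈ 𝔭.map (algebraMap F F'') := by
    intro y
    rw [hx, Ideal.mem_radical_iff]
    refine exists_congr fun k => ?_
    rw [Submodule.mem_colon_singleton, Submodule.mem_bot, ← Submodule.Quotient.mk_smul,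
      Submodule.Quotient.mk_eq_zero, smul_eq_mul, smul_eq_mul, Ideal.mul_top]
  apply le_antisymm
  · intro r hr
    rw [Ideal.mem_comap, hmem] at hr
    obtain ⟨k, hk⟩ := hr
    by_contra hrp
    have hrk : r ^ k ∉ 𝔭 := fun h => hrp (Ideal.IsPrime.mem_of_pow_mem ‹_› k h)
    rw [← map_pow] at hk
    have hx' := mem_map_of_mul_mem 𝔭 hrk hk
    apply hprime.ne_top
    rw [Ideal.eq_top_iff_one, hmem]
    exact ⟨1, by rw [pow_one, one_mul]; exact hx'⟩
  · intro r hr
    rw [Ideal.mem_comap, hmem]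
    exact ⟨1, by rw [pow_one]; exact Ideal.mul_mem_right _ _ (Ideal.mem_map_of_mem _ hr)⟩

variable [IsNoetherianRing F] (M : Type*) [AddCommGroup M] [Module F M]

/-- going down for associated primes along a flat map. -/
theorem comap_mem_associatedPrimes (𝔓 : Ideal F'')
    (h : 𝔓 ∈ associatedPrimes F'' (F'' ⊗[F] M)) :
    𝔓.comap (algebraMap F F'') ∈ associatedPrimes F M := by
  obtain ⟨𝔭, h𝔭, h𝔓⟩ := Groth.Agent.Helper1.AssTensor.exists_mem_ass_of_mem_ass_tensor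
    (R := F) (S := F'') (N := F'') (M := M) h
  haveI : 𝔭.IsPrime := h𝔭.isPrime
  rw [comap_eq_of_mem_associatedPrimes_quot 𝔭 𝔓 h𝔓]
  exact h𝔭

/-- lifting associated primes along a flat map with nontrivial fibre. -/
theorem exists_mem_associatedPrimes_comap_eq [IsNoetherianRing F''] (𝔭 : Ideal F)
    (h : 𝔭 ∈ associatedPrimes F M) (hne : 𝔭.map (algebraMap F F'') ≠ ⊤) :
    ∃ 𝔓 ∈ associatedPrimes F'' (F'' ⊗[F] M), 𝔓.comap (algebraMap F F'') = 𝔭 := by
  haveI : 𝔭.IsPrime := h.isPrime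
  haveI : Nontrivial (F'' ⧸ (𝔭.map (algebraMap F F'') • (⊤ : Submodule F'' F''))) := by
    rw [Submodule.Quotient.nontrivial_iff]
    intro htop
    apply hne
    rw [smul_eq_mul, Ideal.mul_top] at htop
    exact htop
  obtain ⟨𝔓, h𝔓⟩ := associatedPrimes.nonempty F''
    (F'' ⧸ (𝔭.map (algebraMap F F'') • (⊤ : Submodule F'' F'')))
  exact ⟨𝔓, Groth.Agent.Helper1.AssTensor.mem_ass_tensor_of_mem h h𝔓,
    comap_eq_of_mem_associatedPrimes_quot 𝔭 𝔓 h𝔓⟩

end Groth.Agent.Helper9.PQF5
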