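import Mathlib
import Groth.Prelude.Def_FlatCA
import Groth.Agent.Helper5.FlatAss1
import Groth.Agent.Helper5.Pure1
import Groth.Agent.Helper9.PQF4
import Groth.Agent.Helper9.PQF5

/-!
# Fibre rings and fibre modules under base change
-/

set_option autoImplicit false
universe u
open TensorProduct

namespace Groth.Agent.Helper9.PQF6

attribute [local instance] Algebra.TensorProduct.rightAlgebra

section Ring

variable {A' A'' B' B'' : Type u} [CommRing A'] [CommRing A''] [CommRing B'] [CommRing B'']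
  [Algebra A' A''] [Algebra A' B'] [Algebra A'' B''] [Algebra B' B''] [Algebra A' B'']
  [IsScalarTower A' B' B''] [IsScalarTower A' A'' B'']
  (hpo : Algebra.IsPushout A' B' A'' B'')
  (t' : Ideal A') [t'.IsPrime] (t'' : Ideal A'') [t''.IsPrime] [t''.LiesOver t']
  [Algebra (Localization.AtPrime t') (Localization.AtPrime t'')]
  [Localization.AtPrime.IsLiesOverAlgebra t' t'']

/-- the fibre ring of the base change is the base change of the fibre ring along the residue
field extension. -/
noncomputable def fibEquiv :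
    t''.Fiber B'' ≃ₐ[t''.ResidueField] t''.ResidueField ⊗[t'.ResidueField] (t'.Fiber B') :=
  haveI := hpo.symm
  (Algebra.TensorProduct.congr (AlgEquiv.refl (R := t''.ResidueField) (A₁ := t''.ResidueField))
    (Algebra.IsPushout.equiv A' A'' B' B'').symm).trans
  ((Algebra.TensorProduct.cancelBaseChange A' A'' t''.ResidueField t''.ResidueField B').trans
    (Algebra.TensorProduct.cancelBaseChange A' t'.ResidueField t''.ResidueField
      t''.ResidueField B').symm)

theorem fibEquiv_symm_tmul (c : t''.ResidueField) (c' : t'.ResidueField) (b : B') :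
    (fibEquiv hpo t' t'').symm (c ⊗ₜ (c' ⊗ₜ b)) =
      (c * algebraMap t'.ResidueField t''.ResidueField c') ⊗ₜ algebraMap B' B'' b := by
  haveI := hpo.symm
  simp only [fibEquiv, AlgEquiv.symm_trans_apply, AlgEquiv.symm_symm,
    Algebra.TensorProduct.cancelBaseChange_tmul, Algebra.TensorProduct.cancelBaseChange_symm_tmul]
  rw [Algebra.TensorProduct.congr_symm_apply, Algebra.TensorProduct.map_tmul]
  simp only [AlgEquiv.symm_symm, AlgEquiv.coe_toAlgHom, AlgEquiv.refl_symm, AlgEquiv.coe_refl, id_eq,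
    Algebra.IsPushout.equiv_tmul, map_one, one_mul, Algebra.smul_def, mul_comm]

/-- the canonical map between the fibre rings. -/
noncomputable def fibHom : t'.Fiber B' →+* t''.Fiber B'' :=
  ((fibEquiv hpo t' t'').symm : _ →+* _).comp
    (Algebra.TensorProduct.includeRight (R := t'.ResidueField) (A := t''.ResidueField)
      (B := t'.Fiber B')).toRingHom

theorem fibHom_apply (x : t'.Fiber B') :
    fibHom hpo t' t'' x = (fibEquiv hpo t' t'').symm (1 ⊗ₜ x) := rfl

theorem fibHom_tmul (c' : t'.ResidueField) (b : B') :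
    fibHom hpo t' t'' (c' ⊗ₜ b) =
      (algebraMap t'.ResidueField t''.ResidueField c') ⊗ₜ algebraMap B' B'' b := by
  rw [fibHom_apply, fibEquiv_symm_tmul, one_mul]

/-- the fibre ring of the base change is faithfully flat over the fibre ring. -/
theorem fibHom_faithfullyFlat :
    letI := (fibHom hpo t' t'').toAlgebra
    Module.FaithfullyFlat (t'.Fiber B') (t''.Fiber B'') := by
  letI := (fibHom hpo t' t'').toAlgebra
  let e0 : t''.Fiber B'' ≃+* (t'.Fiber B') ⊗[t'.ResidueField] t''.ResidueField :=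
    (fibEquiv hpo t' t'').toRingEquiv.trans
      (Algebra.TensorProduct.comm t'.ResidueField t''.ResidueField (t'.Fiber B')).toRingEquiv
  have he0 : ∀ x : t'.Fiber B', e0 (fibHom hpo t' t'' x) = x ⊗ₜ 1 := by
    intro x
    simp only [e0, RingEquiv.trans_apply, fibHom_apply,
      AlgEquiv.coe_ringEquiv, AlgEquiv.apply_symm_apply, Algebra.TensorProduct.comm_tmul]
  let e : t''.Fiber B'' ≃ₗ[t'.Fiber B'] (t'.Fiber B') ⊗[t'.ResidueField] t''.ResidueField :=
    { e0.toAddEquiv with
      map_smul' := by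
        intro x y
        show e0 (x • y) = x • e0 y
        rw [Algebra.smul_def, map_mul]
        show e0 (fibHom hpo t' t'' x) * e0 y = x • e0 y
        rw [he0]
        exact (Algebra.smul_def x (e0 y)).symm }
  exact Module.FaithfullyFlat.of_linearEquiv _ _ e

end Ring

section Square

variable {B' B'' F' F'' : Type u} [CommRing B'] [CommRing B''] [CommRing F'] [CommRing F'']
  [Algebra B' B''] [Algebra B' F'] [Algebra B'' F''] [Algebra F' F''] [Algebra B' F'']
  [IsScalarTower B' B'' F''] [IsScalarTower B' F' F'']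
  {N' N'' : Type u} [AddCommGroup N'] [AddCommGroup N''] [Module B' N'] [Module B'' N'']
  [Module B' N''] [IsScalarTower B' B'' N'']
  (g : N' →ₗ[B'] N'') (hg : IsBaseChange B'' g)

/-- base change of modules along a commutative square of rings. -/
noncomputable def squareEquiv : F'' ⊗[B''] N'' ≃ₗ[F''] F'' ⊗[F'] (F' ⊗[B'] N') :=
  (TensorProduct.AlgebraTensorModule.congr (LinearEquiv.refl F'' F'') hg.equiv.symm) ≪≫ₗ
  (TensorProduct.AlgebraTensorModule.cancelBaseChange B' B'' F'' F'' N') ≪≫ₗ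
  (TensorProduct.AlgebraTensorModule.cancelBaseChange B' F' F'' F'' N').symm

include hg in
theorem down_abs [IsNoetherianRing F'] [Module.Flat F' F''] (𝔓 : Ideal F'')
    (h : 𝔓 ∈ associatedPrimes F'' (F'' ⊗[B''] N'')) :
    𝔓.comap (algebraMap F' F'') ∈ associatedPrimes F' (F' ⊗[B'] N') := by
  rw [LinearEquiv.AssociatedPrimes.eq (squareEquiv (F' := F') (F'' := F'') g hg)] at h
  exact Groth.Agent.Helper9.PQF5.comap_mem_associatedPrimes (F' ⊗[B'] N') 𝔓 h

include hg in
theorem up_abs [IsNoetherianRing F'] [IsNoetherianRing F''] [Module.FaithfullyFlat F' F'']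
    (𝔭 : Ideal F') (h : 𝔭 ∈ associatedPrimes F' (F' ⊗[B'] N')) :
    ∃ 𝔓 ∈ associatedPrimes F'' (F'' ⊗[B''] N''), 𝔓.comap (algebraMap F' F'') = 𝔭 := by
  have hne : 𝔭.map (algebraMap F' F'') ≠ ⊤ := by
    intro htop
    have h1 := Ideal.comap_map_eq_self_of_faithfullyFlat (B := F'') 𝔭
    rw [htop, Ideal.comap_top] at h1
    exact h.1.ne_top h1.symm
  obtain ⟨𝔓, h𝔓, hc⟩ :=
    Groth.Agent.Helper9.PQF5.exists_mem_associatedPrimes_comap_eq (F'' := F'') (F' ⊗[B'] N') 𝔭 h hne
  refine ⟨𝔓, ?_, hc⟩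
  rw [LinearEquiv.AssociatedPrimes.eq (squareEquiv (F' := F') (F'' := F'') g hg)]
  exact h𝔓

end Square

section Fib

variable {A' A'' B' B'' : Type u} [CommRing A'] [CommRing A''] [CommRing B'] [CommRing B'']
  [Algebra A' A''] [Algebra A' B'] [Algebra A'' B''] [Algebra B' B''] [Algebra A' B'']
  [IsScalarTower A' B' B''] [IsScalarTower A' A'' B'']

/-- primes of a fibre ring are determined by their contractions. -/
theorem fiber_prime_ext (t' : Ideal A') [t'.IsPrime] (𝔓₁ 𝔓₂ : Ideal (t'.Fiber B'))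
    [h₁ : 𝔓₁.IsPrime] [h₂ : 𝔓₂.IsPrime]
    (h : 𝔓₁.comap (algebraMap B' (t'.Fiber B')) = 𝔓₂.comap (algebraMap B' (t'.Fiber B'))) :
    𝔓₁ = 𝔓₂ := by
  have h' : (PrimeSpectrum.primesOverOrderIsoFiber A' B' t').symm ⟨𝔓₁, h₁⟩ =
      (PrimeSpectrum.primesOverOrderIsoFiber A' B' t').symm ⟨𝔓₂, h₂⟩ := by
    apply Subtype.ext
    rw [PrimeSpectrum.coe_primesOverOrderIsoFiber_symm_apply,
      PrimeSpectrum.coe_primesOverOrderIsoFiber_symm_apply]
    exact h
  have h'' := (PrimeSpectrum.primesOverOrderIsoFiber A' B' t').symm.injective h'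
  exact congrArg PrimeSpectrum.asIdeal h''

theorem comap_liesOver_fiber (t' : Ideal A') [t'.IsPrime] (𝔓 : Ideal (t'.Fiber B'))
    [h₁ : 𝔓.IsPrime] : (𝔓.comap (algebraMap B' (t'.Fiber B'))).LiesOver t' :=
  ((PrimeSpectrum.primesOverOrderIsoFiber A' B' t').symm ⟨𝔓, h₁⟩).2.2

theorem fiberIdeal_comap (t' : Ideal A') [t'.IsPrime] (𝔓 : Ideal (t'.Fiber B'))
    [h₁ : 𝔓.IsPrime] :
    FlatCA.fiberIdeal t' (𝔓.comap (algebraMap B' (t'.Fiber B'))) = 𝔓 := by
  haveI := comap_liesOver_fiber t' 𝔓
  haveI : (𝔓.comap (algebraMap B' (t'.Fiber B'))).IsPrime := Ideal.comap_isPrime _ _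
  haveI := Groth.Agent.Helper5.FlatAss.isPrime_fiberIdeal t'
    (𝔓.comap (algebraMap B' (t'.Fiber B')))
  apply fiber_prime_ext t'
  exact Groth.Agent.Helper9.PQF4.comap_fiberIdeal t' _

end Fib

section Main

variable {A' A'' B' B'' : Type u} [CommRing A'] [CommRing A''] [CommRing B'] [CommRing B'']
  [Algebra A' A''] [Algebra A' B'] [Algebra A'' B''] [Algebra B' B''] [Algebra A' B'']
  [IsScalarTower A' B' B''] [IsScalarTower A' A'' B'']
  (hpo : Algebra.IsPushout A' B' A'' B'')

include hpo in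
theorem finiteType_of_isPushout [Algebra.FiniteType A' B'] : Algebra.FiniteType A'' B'' := by
  haveI := hpo.symm
  exact Algebra.FiniteType.equiv inferInstance (Algebra.IsPushout.equiv A' A'' B' B'')

theorem liesOver_comap_of_tower (t' : Ideal A') (t'' : Ideal A'') [t''.LiesOver t']
    (P'' : Ideal B'') [P''.LiesOver t''] : (P''.comap (algebraMap B' B'')).LiesOver t' := ⟨by
  have h1 : t'' = P''.comap (algebraMap A'' B'') := Ideal.LiesOver.over
  have h2 : t' = t''.comap (algebraMap A' A'') := Ideal.LiesOver.over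
  rw [Ideal.under_def, Ideal.comap_comap, ← IsScalarTower.algebraMap_eq,
    IsScalarTower.algebraMap_eq A' A'' B'', ← Ideal.comap_comap, ← h1, ← h2]⟩

variable (t' : Ideal A') [t'.IsPrime] (t'' : Ideal A'') [t''.IsPrime] [t''.LiesOver t']

theorem comap_fibHom [Algebra (Localization.AtPrime t') (Localization.AtPrime t'')]
    [Localization.AtPrime.IsLiesOverAlgebra t' t'']
    (P'' : Ideal B'') [P''.IsPrime] [P''.LiesOver t''] :
    (FlatCA.fiberIdeal t'' P'').comap (fibHom hpo t' t'') =
      FlatCA.fiberIdeal t' (P''.comap (algebraMap B' B'')) := by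
  haveI := liesOver_comap_of_tower (B' := B') t' t'' P''
  haveI : (P''.comap (algebraMap B' B'')).IsPrime := Ideal.comap_isPrime _ _
  haveI := Groth.Agent.Helper5.FlatAss.isPrime_fiberIdeal t'' P''
  haveI := Groth.Agent.Helper5.FlatAss.isPrime_fiberIdeal t' (P''.comap (algebraMap B' B''))
  haveI : ((FlatCA.fiberIdeal t'' P'').comap (fibHom hpo t' t'')).IsPrime :=
    Ideal.comap_isPrime _ _
  apply fiber_prime_ext t'
  rw [Groth.Agent.Helper9.PQF4.comap_fiberIdeal, Ideal.comap_comap]
  have hcomp : (fibHom hpo t' t'').comp (algebraMap B' (t'.Fiber B')) =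
      (algebraMap B'' (t''.Fiber B'')).comp (algebraMap B' B'') := by
    ext b
    show fibHom hpo t' t'' ((1 : t'.ResidueField) ⊗ₜ b) = (1 : t''.ResidueField) ⊗ₜ _
    rw [fibHom_tmul, map_one]
  rw [hcomp, ← Ideal.comap_comap, Groth.Agent.Helper9.PQF4.comap_fiberIdeal]

include hpo in
/-- primes of a base change over given primes of the two factors exist. -/
theorem exists_prime_over (P : Ideal B') [P.IsPrime] [P.LiesOver t'] :
    ∃ (P'' : Ideal B'') (_ : P''.IsPrime) (_ : P''.LiesOver t''),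
      P''.comap (algebraMap B' B'') = P := by
  letI := Localization.AtPrime.algebraOfLiesOver t' t''
  letI : Algebra (t'.Fiber B') (t''.Fiber B'') := (fibHom hpo t' t'').toAlgebra
  haveI : Module.FaithfullyFlat (t'.Fiber B') (t''.Fiber B'') := fibHom_faithfullyFlat hpo t' t''
  haveI := Groth.Agent.Helper5.FlatAss.isPrime_fiberIdeal t' P
  obtain ⟨⟨𝔓, h𝔓⟩, hc⟩ := PrimeSpectrum.comap_surjective_of_faithfullyFlat
    (A := t'.Fiber B') (B := t''.Fiber B'') ⟨FlatCA.fiberIdeal t' P, inferInstance⟩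
  have hc' : 𝔓.comap (algebraMap (t'.Fiber B') (t''.Fiber B'')) = FlatCA.fiberIdeal t' P :=
    congrArg PrimeSpectrum.asIdeal hc
  refine ⟨𝔓.comap (algebraMap B'' (t''.Fiber B'')), Ideal.comap_isPrime _ _,
    comap_liesOver_fiber t'' 𝔓, ?_⟩
  have h2 := congrArg (Ideal.comap (algebraMap B' (t'.Fiber B'))) hc'
  rw [Groth.Agent.Helper9.PQF4.comap_fiberIdeal, Ideal.comap_comap] at h2
  rw [Ideal.comap_comap, ← h2]
  congr 1
  ext b
  show (1 : t''.ResidueField) ⊗ₜ _ = fibHom hpo t' t'' ((1 : t'.ResidueField) ⊗ₜ b)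
  rw [fibHom_tmul, map_one]

variable {N' N'' : Type u} [AddCommGroup N'] [AddCommGroup N''] [Module B' N'] [Module B'' N'']
  [Module B' N''] [IsScalarTower B' B'' N'']
  [Module A' N'] [IsScalarTower A' B' N'] [Module A'' N''] [IsScalarTower A'' B'' N'']
  (g : N' →ₗ[B'] N'') (hg : IsBaseChange B'' g)

include hpo hg in
/-- (DOWN) associated points of fibres of a base change map to associated points of fibres. -/
theorem down [Algebra.FiniteType A' B'] (P'' : Ideal B'') [P''.IsPrime] [P''.LiesOver t'']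
    (h : FlatCA.fiberIdeal t'' P'' ∈
      associatedPrimes (t''.Fiber B'') (FlatCA.fiberMod t'' B'' N'')) :
    FlatCA.fiberIdeal t' (P''.comap (algebraMap B' B'')) ∈
      associatedPrimes (t'.Fiber B') (FlatCA.fiberMod t' B' N') := by
  letI := Localization.AtPrime.algebraOfLiesOver t' t''
  letI : Algebra (t'.Fiber B') (t''.Fiber B'') := (fibHom hpo t' t'').toAlgebra
  letI : Algebra B' (t''.Fiber B'') :=
    ((algebraMap B'' (t''.Fiber B'')).comp (algebraMap B' B'')).toAlgebra
  haveI : IsScalarTower B' B'' (t''.Fiber B'') := IsScalarTower.of_algebraMap_eq (fun _ => rfl)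
  haveI : IsScalarTower B' (t'.Fiber B') (t''.Fiber B'') :=
    IsScalarTower.of_algebraMap_eq (fun b => by
      show (1 : t''.ResidueField) ⊗ₜ _ = fibHom hpo t' t'' ((1 : t'.ResidueField) ⊗ₜ b)
      rw [fibHom_tmul, map_one])
  haveI := Groth.Agent.Helper5.FibAss.isNoetherianRing_fiber (R := A') (S := B') t'
  haveI : Module.FaithfullyFlat (t'.Fiber B') (t''.Fiber B'') := fibHom_faithfullyFlat hpo t' t''
  have h1 := down_abs (F' := t'.Fiber B') (F'' := t''.Fiber B'') g hg (FlatCA.fiberIdeal t'' P'') h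
  rw [← comap_fibHom hpo t' t'' P'']
  exact h1

include hpo hg in
/-- (UP) associated points of fibres lift to associated points of fibres of a base change. -/
theorem up [Algebra.FiniteType A' B'] (P : Ideal B') [P.IsPrime] [P.LiesOver t']
    (h : FlatCA.fiberIdeal t' P ∈ associatedPrimes (t'.Fiber B') (FlatCA.fiberMod t' B' N')) :
    ∃ (P'' : Ideal B'') (_ : P''.IsPrime) (_ : P''.LiesOver t''),
      P''.comap (algebraMap B' B'') = P ∧
      FlatCA.fiberIdeal t'' P'' ∈
        associatedPrimes (t''.Fiber B'') (FlatCA.fiberMod t'' B'' N'') := by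
  letI := Localization.AtPrime.algebraOfLiesOver t' t''
  letI : Algebra (t'.Fiber B') (t''.Fiber B'') := (fibHom hpo t' t'').toAlgebra
  letI : Algebra B' (t''.Fiber B'') :=
    ((algebraMap B'' (t''.Fiber B'')).comp (algebraMap B' B'')).toAlgebra
  haveI : IsScalarTower B' B'' (t''.Fiber B'') := IsScalarTower.of_algebraMap_eq (fun _ => rfl)
  haveI : IsScalarTower B' (t'.Fiber B') (t''.Fiber B'') :=
    IsScalarTower.of_algebraMap_eq (fun b => by
      show (1 : t''.ResidueField) ⊗ₜ _ = fibHom hpo t' t'' ((1 : t'.ResidueField) ⊗ₜ b)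
      rw [fibHom_tmul, map_one])
  haveI := finiteType_of_isPushout hpo
  haveI := Groth.Agent.Helper5.FibAss.isNoetherianRing_fiber (R := A') (S := B') t'
  haveI := Groth.Agent.Helper5.FibAss.isNoetherianRing_fiber (R := A'') (S := B'') t''
  haveI : Module.FaithfullyFlat (t'.Fiber B') (t''.Fiber B'') := fibHom_faithfullyFlat hpo t' t''
  obtain ⟨𝔓, h𝔓, hc⟩ :=
    up_abs (F' := t'.Fiber B') (F'' := t''.Fiber B'') g hg (FlatCA.fiberIdeal t' P) h
  haveI : 𝔓.IsPrime := h𝔓.1
  refine ⟨𝔓.comap (algebraMap B'' (t''.Fiber B'')), Ideal.comap_isPrime _ _,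
    comap_liesOver_fiber t'' 𝔓, ?_, ?_⟩
  · have h2 := congrArg (Ideal.comap (algebraMap B' (t'.Fiber B'))) hc
    rw [Groth.Agent.Helper9.PQF4.comap_fiberIdeal, Ideal.comap_comap] at h2
    rw [Ideal.comap_comap, ← h2]
    congr 1
    ext b
    show (1 : t''.ResidueField) ⊗ₜ _ = fibHom hpo t' t'' ((1 : t'.ResidueField) ⊗ₜ b)
    rw [fibHom_tmul, map_one]
  · rw [fiberIdeal_comap]
    exact h𝔓

end Main

end Groth.Agent.Helper9.PQF6
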