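import Mathlib
import Groth.Prelude.Def_FlatCA

/-!
# Models of base changes: cancellation and composition
-/

set_option autoImplicit false
universe u
open TensorProduct

namespace Groth.Agent.Helper9.PQF7

section Cancel

variable {A B : Type u} [CommRing A] [CommRing B] [Algebra A B]
  {N : Type u} [AddCommGroup N] [Module B N]
  {A' B' N' : Type u} [CommRing A'] [CommRing B'] [Algebra A A'] [Algebra B B'] [Algebra A' B']
  [Algebra A B'] [IsScalarTower A B B'] [IsScalarTower A A' B']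
  [AddCommGroup N'] [Module B' N'] [Module B N'] [IsScalarTower B B' N']
  (hpo : Algebra.IsPushout A B A' B') (f : N →ₗ[B] N') (hf : IsBaseChange B' f)
  {A₂ B₂ N₂ : Type u} [CommRing A₂] [CommRing B₂] [Algebra A A₂] [Algebra B B₂] [Algebra A₂ B₂]
  [Algebra A B₂] [IsScalarTower A B B₂] [IsScalarTower A A₂ B₂]
  [AddCommGroup N₂] [Module B₂ N₂] [Module B N₂] [IsScalarTower B B₂ N₂]
  (hpo₂ : Algebra.IsPushout A B A₂ B₂) (f₂ : N →ₗ[B] N₂) (hf₂ : IsBaseChange B₂ f₂)
  [Algebra A' A₂] [IsScalarTower A A' A₂] [Algebra A' B₂] [IsScalarTower A' A₂ B₂]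

include hpo hf hpo₂ hf₂ in
/-- If `(A₂, B₂, N₂)` and `(A', B', N')` are base changes of `(A, B, N)` and `A₂` is an
`A'`-algebra, then `(A₂, B₂, N₂)` is a base change of `(A', B', N')`. -/
theorem exists_model_over :
    ∃ (_ : Algebra B' B₂) (_ : IsScalarTower A' B' B₂) (_ : IsScalarTower B B' B₂)
      (_ : Module B' N₂) (_ : IsScalarTower B' B₂ N₂) (g : N' →ₗ[B'] N₂),
      Algebra.IsPushout A' B' A₂ B₂ ∧ IsBaseChange B₂ g ∧ ∀ n, g (f n) = f₂ n := by
  haveI : IsScalarTower A A' B₂ := IsScalarTower.of_algebraMap_eq (fun a => by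
    rw [IsScalarTower.algebraMap_apply A A₂ B₂, IsScalarTower.algebraMap_apply A A' A₂,
      ← IsScalarTower.algebraMap_apply A' A₂ B₂])
  let φ : B' →ₐ[A] B₂ := Algebra.pushoutDesc B' (IsScalarTower.toAlgHom A B B₂)
    (IsScalarTower.toAlgHom A A' B₂) (fun _ _ => mul_comm _ _)
  letI : Algebra B' B₂ := φ.toRingHom.toAlgebra
  have hφ : ∀ x, algebraMap B' B₂ x = φ x := fun _ => rfl
  haveI t1 : IsScalarTower A' B' B₂ := IsScalarTower.of_algebraMap_eq (fun a => by
    rw [hφ]
    exact (Algebra.pushoutDesc_right B' (IsScalarTower.toAlgHom A B B₂)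
      (IsScalarTower.toAlgHom A A' B₂) (fun _ _ => mul_comm _ _) a).symm)
  haveI t2 : IsScalarTower B B' B₂ := IsScalarTower.of_algebraMap_eq (fun b => by
    rw [hφ]
    exact (Algebra.pushoutDesc_left B' (IsScalarTower.toAlgHom A B B₂)
      (IsScalarTower.toAlgHom A A' B₂) (fun _ _ => mul_comm _ _) b).symm)
  haveI : IsScalarTower A B' B₂ := IsScalarTower.of_algebraMap_eq (fun a => by
    rw [IsScalarTower.algebraMap_apply A B B₂, IsScalarTower.algebraMap_apply A B B',
      ← IsScalarTower.algebraMap_apply B B' B₂])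
  letI : Module B' N₂ := Module.compHom N₂ (algebraMap B' B₂)
  haveI t3 : IsScalarTower B' B₂ N₂ := ⟨fun x y z => by
    rw [Algebra.smul_def, mul_smul]
    rfl⟩
  haveI : IsScalarTower B B' N₂ := ⟨fun x y z => by
    show algebraMap B' B₂ (x • y) • z = x • (algebraMap B' B₂ y • z)
    rw [Algebra.smul_def, map_mul, mul_smul, ← IsScalarTower.algebraMap_apply B B' B₂,
      algebraMap_smul]⟩
  refine ⟨inferInstance, t1, t2, inferInstance, t3, hf.lift f₂, ?_, ?_, fun n => hf.lift_eq f₂ n⟩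
  · haveI := hpo.symm
    haveI := hpo₂.symm
    have h1 : Algebra.IsPushout A' A₂ B' B₂ :=
      (Algebra.IsPushout.comp_iff A A' B B' (T := A₂) (T' := B₂)).mp inferInstance
    exact h1.symm
  · apply IsBaseChange.of_comp hf
    convert hf₂ using 1
    ext n
    exact hf.lift_eq f₂ n

end Cancel

section Comp

variable {A B : Type u} [CommRing A] [CommRing B] [Algebra A B]
  {N : Type u} [AddCommGroup N] [Module B N]
  {A' B' N' : Type u} [CommRing A'] [CommRing B'] [Algebra A A'] [Algebra B B'] [Algebra A' B']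
  [Algebra A B'] [IsScalarTower A B B'] [IsScalarTower A A' B']
  [AddCommGroup N'] [Module B' N'] [Module B N'] [IsScalarTower B B' N']
  (hpo : Algebra.IsPushout A B A' B') (f : N →ₗ[B] N') (hf : IsBaseChange B' f)
  {A₂ B₂ N₂ : Type u} [CommRing A₂] [CommRing B₂] [Algebra A' A₂] [Algebra B' B₂] [Algebra A₂ B₂]
  [Algebra A' B₂] [IsScalarTower A' B' B₂] [IsScalarTower A' A₂ B₂]
  [AddCommGroup N₂] [Module B₂ N₂] [Module B' N₂] [IsScalarTower B' B₂ N₂]
  (hpo₂ : Algebra.IsPushout A' B' A₂ B₂) (g : N' →ₗ[B'] N₂) (hg : IsBaseChange B₂ g)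

include hpo hf hpo₂ hg in
/-- A base change of a base change of `(A, B, N)` is a base change of `(A, B, N)`. -/
theorem exists_model_comp :
    ∃ (_ : Algebra A A₂) (_ : IsScalarTower A A' A₂) (_ : Algebra B B₂)
      (_ : IsScalarTower B B' B₂) (_ : Algebra A B₂) (_ : IsScalarTower A B B₂)
      (_ : IsScalarTower A A₂ B₂) (_ : Module B N₂) (_ : IsScalarTower B B₂ N₂)
      (f₂ : N →ₗ[B] N₂),
      Algebra.IsPushout A B A₂ B₂ ∧ IsBaseChange B₂ f₂ ∧ ∀ n, f₂ n = g (f n) := by
  letI i1 : Algebra A A₂ := ((algebraMap A' A₂).comp (algebraMap A A')).toAlgebra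
  haveI t1 : IsScalarTower A A' A₂ := IsScalarTower.of_algebraMap_eq (fun _ => rfl)
  letI i2 : Algebra B B₂ := ((algebraMap B' B₂).comp (algebraMap B B')).toAlgebra
  haveI t2 : IsScalarTower B B' B₂ := IsScalarTower.of_algebraMap_eq (fun _ => rfl)
  letI i3 : Algebra A B₂ := ((algebraMap B B₂).comp (algebraMap A B)).toAlgebra
  haveI t3 : IsScalarTower A B B₂ := IsScalarTower.of_algebraMap_eq (fun _ => rfl)
  haveI t5 : IsScalarTower A B' B₂ := IsScalarTower.of_algebraMap_eq (fun a => by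
    show algebraMap B' B₂ (algebraMap B B' (algebraMap A B a)) = _
    rw [← IsScalarTower.algebraMap_apply A B B'])
  haveI t6 : IsScalarTower A A' B₂ := IsScalarTower.of_algebraMap_eq (fun a => by
    rw [IsScalarTower.algebraMap_apply A B' B₂, IsScalarTower.algebraMap_apply A A' B',
      ← IsScalarTower.algebraMap_apply A' B' B₂])
  haveI t4 : IsScalarTower A A₂ B₂ := IsScalarTower.of_algebraMap_eq (fun a => by
    rw [IsScalarTower.algebraMap_apply A A' B₂, IsScalarTower.algebraMap_apply A' A₂ B₂]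
    rfl)
  letI i4 : Module B N₂ := Module.compHom N₂ (algebraMap B B')
  haveI t7 : IsScalarTower B B' N₂ := ⟨fun x y z => by
    rw [Algebra.smul_def, mul_smul]
    rfl⟩
  haveI t8 : IsScalarTower B B₂ N₂ := ⟨fun x y z => by
    show (x • y) • z = algebraMap B B' x • (y • z)
    rw [Algebra.smul_def, mul_smul, IsScalarTower.algebraMap_apply B B' B₂, algebraMap_smul]⟩
  refine ⟨i1, t1, i2, t2, i3, t3, t4, i4, t8, (g.restrictScalars B).comp f, ?_,
    IsBaseChange.comp hf hg, fun _ => rfl⟩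
  haveI := hpo.symm
  have h1 : Algebra.IsPushout A A₂ B B₂ :=
    (Algebra.IsPushout.comp_iff A A' B B' (T := A₂) (T' := B₂)).mpr hpo₂.symm
  exact h1.symm

end Comp

end Groth.Agent.Helper9.PQF7
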