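import Mathlib
import Groth.Prelude.Def_FlatCA
import Groth.Agent.Helper9.PQF8
import Groth.Agent.Helper9.PQF9

/-!
# Transfer of impurities to a base change which is flat at the prime
-/

set_option autoImplicit false
universe u
open TensorProduct

namespace Groth.Agent.Helper9.PQF10

attribute [local instance] Algebra.TensorProduct.rightAlgebra

section Model

variable (A B : Type u) [CommRing A] [CommRing B] [Algebra A B]
  (N : Type u) [AddCommGroup N] [Module B N] (A₂ : Type u) [CommRing A₂] [Algebra A A₂]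

/-- existence of a base change of `(A, B, N)` to an `A`-algebra `A₂` (with opaque carrier). -/
theorem exists_model :
    ∃ (B₂ N₂ : Type u) (_ : CommRing B₂) (_ : Algebra B B₂) (_ : Algebra A₂ B₂) (_ : Algebra A B₂)
      (_ : IsScalarTower A B B₂) (_ : IsScalarTower A A₂ B₂) (_ : AddCommGroup N₂)
      (_ : Module B₂ N₂) (_ : Module B N₂) (_ : IsScalarTower B B₂ N₂) (_ : Module A₂ N₂)
      (_ : IsScalarTower A₂ B₂ N₂) (f₂ : N →ₗ[B] N₂),
      Algebra.IsPushout A B A₂ B₂ ∧ IsBaseChange B₂ f₂ :=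
  ⟨A₂ ⊗[A] B, (A₂ ⊗[A] B) ⊗[B] N, inferInstance, inferInstance, inferInstance, inferInstance,
    inferInstance, inferInstance, inferInstance, inferInstance, inferInstance, inferInstance,
    inferInstance, inferInstance, TensorProduct.mk B (A₂ ⊗[A] B) N 1, inferInstance,
    TensorProduct.isBaseChange B N (A₂ ⊗[A] B)⟩

end Model

section Tensor

variable {A B : Type u} [CommRing A] [CommRing B] [Algebra A B] [Algebra.FiniteType A B]
  {N : Type u} [AddCommGroup N] [Module B N] (p : Ideal A) [p.IsPrime]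
  {A' B' N' : Type u} [CommRing A'] [CommRing B'] [Algebra A A'] [Algebra B B'] [Algebra A' B']
  [Algebra A B'] [IsScalarTower A B B'] [IsScalarTower A A' B']
  [AddCommGroup N'] [Module B' N'] [Module B N'] [IsScalarTower B B' N']
  (hpo : Algebra.IsPushout A B A' B') (f : N →ₗ[B] N') (hf : IsBaseChange B' f)
  (p' : Ideal A') [p'.IsPrime] [Module.Flat A (Localization.AtPrime p')]
  {A₁ B₁ N₁ : Type u} [CommRing A₁] [CommRing B₁] [Algebra A A₁] [Algebra B B₁] [Algebra A₁ B₁]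
  [Algebra A B₁] [IsScalarTower A B B₁] [IsScalarTower A A₁ B₁]
  [AddCommGroup N₁] [Module B₁ N₁] [Module B N₁] [IsScalarTower B B₁ N₁]
  [Module A₁ N₁] [IsScalarTower A₁ B₁ N₁]
  (f₁ : N →ₗ[B] N₁) (t₁' t₁ : Ideal A₁) [t₁'.IsPrime] [t₁.IsPrime] (P : Ideal B₁) [P.IsPrime]
  (t₂ : Ideal (A₁ ⊗[A] A')) [t₂.IsPrime]

include hpo hf in
theorem false_of_isImpurity_tensor
    (himp : FlatCA.IsImpurity A B N p A₁ B₁ N₁ f₁ t₁' t₁ P)
    (h₂₁ : t₂.LiesOver t₁) (h₂p' : t₂.LiesOver p')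
    (hno : ∀ (B₂ N₂ : Type u) [CommRing B₂] [Algebra B' B₂] [Algebra (A₁ ⊗[A] A') B₂]
      [Algebra A' B₂] [IsScalarTower A' B' B₂] [IsScalarTower A' (A₁ ⊗[A] A') B₂]
      [AddCommGroup N₂] [Module B₂ N₂] [Module B' N₂] [IsScalarTower B' B₂ N₂]
      [Module (A₁ ⊗[A] A') N₂] [IsScalarTower (A₁ ⊗[A] A') B₂ N₂] (g : N' →ₗ[B'] N₂)
      (t₂' : Ideal (A₁ ⊗[A] A')) [t₂'.IsPrime] (P₂ : Ideal B₂) [P₂.IsPrime],
      ¬ FlatCA.IsImpurity A' B' N' p' (A₁ ⊗[A] A') B₂ N₂ g t₂' t₂ P₂) : False := by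
  have hle : t₁' ≤ t₁ := himp.2.2.1
  have hle' : t₁' ≤ t₂.under A₁ := by
    rw [← h₂₁.over]
    exact hle
  obtain ⟨t₂', ht₂'le, ht₂'p, ht₂'o⟩ :=
    Groth.Agent.Helper9.PQF8.exists_le_liesOver_tensor t₂ p' t₁' hle'
  obtain ⟨B₂, N₂, _, _, _, _, _, _, _, _, _, _, _, _, f₂, hpo₂, hf₂⟩ :=
    exists_model A B N (A₁ ⊗[A] A')
  letI : Algebra A' B₂ :=
    ((algebraMap (A₁ ⊗[A] A') B₂).comp (algebraMap A' (A₁ ⊗[A] A'))).toAlgebra
  haveI : IsScalarTower A' (A₁ ⊗[A] A') B₂ := IsScalarTower.of_algebraMap_eq (fun _ => rfl)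
  letI : Algebra A₁ B₂ :=
    ((algebraMap (A₁ ⊗[A] A') B₂).comp (algebraMap A₁ (A₁ ⊗[A] A'))).toAlgebra
  haveI : IsScalarTower A₁ (A₁ ⊗[A] A') B₂ := IsScalarTower.of_algebraMap_eq (fun _ => rfl)
  exact Groth.Agent.Helper9.PQF9.false_of_isImpurity p hpo f hf p' f₁ t₁' t₁ P
    hpo₂ f₂ hf₂ t₂' t₂ himp ht₂'le ht₂'o h₂₁ h₂p'
    (fun i1 i2 i3 i4 g P₂ i5 => hno B₂ N₂ g t₂' P₂)

end Tensor

end Groth.Agent.Helper9.PQF10
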