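import Mathlib
import Groth.Prelude.Def_FlatCA
import Groth.Agent.Helper9.PQF6
import Groth.Agent.Helper9.PQF7

/-!
# Pushing an impurity down along a finite map with a unique prime over the base point
-/

set_option autoImplicit false
universe u
open TensorProduct

namespace Groth.Agent.Helper9.PQF11

section Core

variable {A B : Type u} [CommRing A] [CommRing B] [Algebra A B] [Algebra.FiniteType A B]
  {N : Type u} [AddCommGroup N] [Module B N] (p : Ideal A) [p.IsPrime]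
  -- the first model, carrying the impurity
  {A' B' N' : Type u} [CommRing A'] [CommRing B'] [Algebra A A'] [Algebra B B'] [Algebra A' B']
  [Algebra A B'] [IsScalarTower A B B'] [IsScalarTower A A' B']
  [AddCommGroup N'] [Module B' N'] [Module B N'] [IsScalarTower B B' N']
  [Module A' N'] [IsScalarTower A' B' N']
  (f : N →ₗ[B] N') (t' t : Ideal A') [t'.IsPrime] [t.IsPrime] (P : Ideal B') [P.IsPrime]
  -- the second model
  {A₁ B₁ N₁ : Type u} [CommRing A₁] [CommRing B₁] [Algebra A A₁] [Algebra B B₁] [Algebra A₁ B₁]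
  [Algebra A B₁] [IsScalarTower A B B₁] [IsScalarTower A A₁ B₁]
  [AddCommGroup N₁] [Module B₁ N₁] [Module B N₁] [IsScalarTower B B₁ N₁]
  [Module A₁ N₁] [IsScalarTower A₁ B₁ N₁]
  (hpo₁ : Algebra.IsPushout A B A₁ B₁) (f₁ : N →ₗ[B] N₁) (hf₁ : IsBaseChange B₁ f₁)
  (P₁ : Ideal A₁) [P₁.IsPrime]
  -- the third model, dominating both
  {A₂ B₂ N₂ : Type u} [CommRing A₂] [CommRing B₂] [Algebra A A₂] [Algebra B B₂] [Algebra A₂ B₂]
  [Algebra A B₂] [IsScalarTower A B B₂] [IsScalarTower A A₂ B₂]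
  [AddCommGroup N₂] [Module B₂ N₂] [Module B N₂] [IsScalarTower B B₂ N₂]
  [Module A₂ N₂] [IsScalarTower A₂ B₂ N₂]
  (hpo₂ : Algebra.IsPushout A B A₂ B₂) (f₂ : N →ₗ[B] N₂) (hf₂ : IsBaseChange B₂ f₂)
  [Algebra A' A₂] [IsScalarTower A A' A₂] [Algebra A' B₂] [IsScalarTower A' A₂ B₂]
  [Algebra A₁ A₂] [IsScalarTower A A₁ A₂] [Algebra A₁ B₂] [IsScalarTower A₁ A₂ B₂]
  (t₂' t₂ : Ideal A₂) [t₂'.IsPrime] [t₂.IsPrime]

include hpo₁ hf₁ hpo₂ hf₂ in
/-- An impurity over `(A', t' ≤ t)` gives an impurity over `(A₁, t₂' ∩ A₁ ≤ P₁)` when `A₂` is an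
algebra over `A'` and `A₁`, integral over `A₁` with `t₂` its only prime over `P₁`, and
`t₂' ≤ t₂` lie over `t' ≤ t`. -/
theorem exists_isImpurity_of_integral [Algebra.IsIntegral A₁ A₂]
    (himp : FlatCA.IsImpurity A B N p A' B' N' f t' t P)
    (hle₂ : t₂' ≤ t₂) (h₂' : t₂'.LiesOver t') (h₂ : t₂.LiesOver t) (h₂₁ : t₂.LiesOver P₁)
    (hP₁ : P₁.LiesOver p)
    (huniq : ∀ (t₂'' : Ideal A₂) [t₂''.IsPrime], t₂''.LiesOver P₁ → t₂'' = t₂) :
    ∃ (Q : Ideal B₁) (_ : Q.IsPrime),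
      FlatCA.IsImpurity A B N p A₁ B₁ N₁ f₁ (t₂'.under A₁) P₁ Q := by
  obtain ⟨hpo, hf, hle, htp, hPt', hass, hno⟩ := himp
  obtain ⟨iB'B₂, tw1, tw2, mB'N₂, tw3, g, hpo', hg, hgf⟩ :=
    Groth.Agent.Helper9.PQF7.exists_model_over hpo f hf hpo₂ f₂ hf₂
  obtain ⟨iB₁B₂, tv1, tv2, mB₁N₂, tv3, g₁, hpo₁', hg₁, hg₁f⟩ :=
    Groth.Agent.Helper9.PQF7.exists_model_over hpo₁ f₁ hf₁ hpo₂ f₂ hf₂
  haveI : Algebra.FiniteType A' B' := Groth.Agent.Helper9.PQF6.finiteType_of_isPushout hpo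
  haveI : Algebra.FiniteType A₁ B₁ := Groth.Agent.Helper9.PQF6.finiteType_of_isPushout hpo₁
  -- lift the associated prime to the fibre over `t₂'`
  obtain ⟨P₂, hP₂p, hP₂o, hP₂c, hass₂⟩ :=
    Groth.Agent.Helper9.PQF6.up hpo' t' t₂' g hg P hass
  -- push it down to the fibre over `t₂' ∩ A₁`
  haveI : t₂'.LiesOver (t₂'.under A₁) := ⟨rfl⟩
  have hassQ := Groth.Agent.Helper9.PQF6.down hpo₁' (t₂'.under A₁) t₂' g₁ hg₁ P₂ hass₂
  haveI hQo : (P₂.comap (algebraMap B₁ B₂)).LiesOver (t₂'.under A₁) :=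
    Groth.Agent.Helper9.PQF6.liesOver_comap_of_tower (B' := B₁) (t₂'.under A₁) t₂' P₂
  refine ⟨P₂.comap (algebraMap B₁ B₂), Ideal.comap_isPrime _ _, hpo₁, hf₁, ?_, hP₁, hQo, hassQ, ?_⟩
  · rw [h₂₁.over]
    exact Ideal.comap_mono hle₂
  · intro Q' hQ'p hQQ' hQ'o
    haveI : Algebra.IsIntegral B₁ B₂ := Algebra.IsPushout.isIntegral' A₁ B₁ A₂ B₂
    obtain ⟨P₂', hP₂P₂', hP₂'p, hP₂'c⟩ :=
      Ideal.exists_ideal_over_prime_of_isIntegral_of_isPrime (R := B₁) (S := B₂) Q' P₂ hQQ'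
    -- `P₂'` lies over `t₂` by uniqueness
    have h1 : (P₂'.under A₂).LiesOver P₁ := ⟨by
      rw [Ideal.under_def, Ideal.under_def, Ideal.comap_comap, ← IsScalarTower.algebraMap_eq,
        IsScalarTower.algebraMap_eq A₁ B₁ B₂, ← Ideal.comap_comap, hP₂'c]
      exact hQ'o.over⟩
    have h2 : P₂'.under A₂ = t₂ := huniq (P₂'.under A₂) h1
    haveI : P₂'.LiesOver t₂ := ⟨h2.symm⟩
    refine hno (P₂'.comap (algebraMap B' B₂)) ?_ ?_
    · rw [← hP₂c]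
      exact Ideal.comap_mono hP₂P₂'
    · exact Groth.Agent.Helper9.PQF6.liesOver_comap_of_tower (B' := B') t t₂ P₂'

end Core

end Groth.Agent.Helper9.PQF11
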