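import Mathlib
import Groth.Prelude.Def_FlatCA
import Groth.Agent.Helper9.PQF8

/-!
# Stacks 00UJ packaged: a quasi-finite point is dominated by a finite algebra over an elementary
etale neighbourhood with a unique point over the base point
-/

set_option autoImplicit false
universe u
open TensorProduct

namespace Groth.Agent.Helper9.PQF12

attribute [local instance] Algebra.TensorProduct.rightAlgebra

theorem exists_finite_over_etaleNhd {A A' : Type u} [CommRing A] [CommRing A'] [Algebra A A']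
    [Algebra.FiniteType A A'] (p : Ideal A) [p.IsPrime] (t : Ideal A') [t.IsPrime]
    [t.LiesOver p] [Algebra.QuasiFiniteAt A t] (t' : Ideal A') [t'.IsPrime] (hle : t' ≤ t) :
    ∃ (A₁ : Type u) (_ : CommRing A₁) (_ : Algebra A A₁) (P₁ : Ideal A₁) (_ : P₁.IsPrime),
      FlatCA.IsEtaleNhd A A₁ p P₁ ∧
      ∃ (A₂ : Type u) (_ : CommRing A₂) (_ : Algebra A A₂) (_ : Algebra A' A₂)
        (_ : IsScalarTower A A' A₂) (_ : Algebra A₁ A₂) (_ : IsScalarTower A A₁ A₂)
        (t₂' t₂ : Ideal A₂) (_ : t₂'.IsPrime) (_ : t₂.IsPrime),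
        Algebra.IsIntegral A₁ A₂ ∧ t₂' ≤ t₂ ∧ t₂'.LiesOver t' ∧ t₂.LiesOver t ∧
          t₂.LiesOver P₁ ∧ ∀ (t₂'' : Ideal A₂) [t₂''.IsPrime], t₂''.LiesOver P₁ → t₂'' = t₂ := by
  obtain ⟨A₁, _, _, het, P₁, _, hP₁p, e, he, Q', _, hQ'P₁, hQ't, heQ', hbij, hfin, huniq⟩ :=
    Algebra.exists_etale_isIdempotentElem_forall_liesOver_eq p t
  refine ⟨A₁, inferInstance, inferInstance, P₁, inferInstance, ⟨het, hP₁p, hbij⟩, ?_⟩
  haveI hQ'o : Q'.LiesOver t := ⟨hQ't.symm⟩
  have hdisj : Disjoint (Submonoid.powers e : Set (A₁ ⊗[A] A')) ↑Q' := by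
    rwa [Ideal.disjoint_powers_iff_notMem_of_isPrime]
  obtain ⟨t₂, ht₂⟩ : ∃ t₂ : Ideal (Localization.Away e),
      t₂ = Q'.map (algebraMap (A₁ ⊗[A] A') (Localization.Away e)) := ⟨_, rfl⟩
  haveI ht₂p : t₂.IsPrime :=
    ht₂ ▸ IsLocalization.isPrime_of_isPrime_disjoint (.powers e) _ _ ‹_› hdisj
  haveI ht₂Q' : t₂.LiesOver Q' :=
    ht₂ ▸ IsLocalization.liesOver_map_of_isPrime_disjoint (.powers e) _ hdisj
  haveI ht₂P₁ : t₂.LiesOver P₁ := Ideal.LiesOver.trans t₂ Q' P₁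
  haveI ht₂t : t₂.LiesOver t := Ideal.LiesOver.trans t₂ Q' t
  haveI : Algebra.Etale A' (A₁ ⊗[A] A') := Groth.Agent.Helper9.PQF8.etale_right
  haveI : Module.Flat (A₁ ⊗[A] A') (Localization.Away e) :=
    IsLocalization.flat (Localization.Away e) (Submonoid.powers e)
  haveI : Module.Flat A' (Localization.Away e) :=
    Module.Flat.trans A' (A₁ ⊗[A] A') (Localization.Away e)
  obtain ⟨t₂', ht₂'le, ht₂'p, ht₂'o⟩ := Ideal.exists_ideal_le_liesOver_of_le
    (S := Localization.Away e) (p := t') (q := t) t₂ hle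
  haveI : Algebra.IsIntegral A₁ (Localization.Away e) := Algebra.IsIntegral.of_finite _ _
  refine ⟨Localization.Away e, inferInstance, inferInstance, inferInstance, inferInstance,
    inferInstance, inferInstance, t₂', t₂, ht₂'p, ht₂p, inferInstance, ht₂'le, ht₂'o, ht₂t,
    ht₂P₁, ?_⟩
  intro t₂'' _ ht₂''o
  have hQ''o : (t₂''.under (A₁ ⊗[A] A')).LiesOver P₁ := ⟨by
    rw [Ideal.under_under]
    exact ht₂''o.over⟩
  have heQ'' : e ∉ t₂''.under (A₁ ⊗[A] A') := by
    intro hmem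
    have hu : IsUnit (algebraMap (A₁ ⊗[A] A') (Localization.Away e) e) :=
      IsLocalization.Away.algebraMap_isUnit e
    exact (Ideal.IsPrime.ne_top ‹t₂''.IsPrime›) (Ideal.eq_top_of_isUnit_mem _ hmem hu)
  have hQ'' := huniq (t₂''.under (A₁ ⊗[A] A')) inferInstance hQ''o heQ''
  rw [ht₂, ← hQ'']
  exact (IsLocalization.map_under (Submonoid.powers e) (Localization.Away e) t₂'').symm

end Groth.Agent.Helper9.PQF12
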