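import Mathlib
import Groth.Prelude.Def_FlatCA

/-!
# Quasi-finiteness at a prime is stable under composition with a quasi-finite map
-/

set_option autoImplicit false
universe u
open TensorProduct

namespace Groth.Agent.Helper9.PQF13

theorem quasiFiniteAt_trans {R S T : Type*} [CommRing R] [CommRing S] [CommRing T]
    [Algebra R S] [Algebra S T] [Algebra R T] [IsScalarTower R S T]
    (q : Ideal S) [q.IsPrime] (Q : Ideal T) [Q.IsPrime] [Q.LiesOver q]
    [Algebra.QuasiFiniteAt R q] [Algebra.QuasiFinite S T] : Algebra.QuasiFiniteAt R Q := by
  letI := Localization.AtPrime.algebraOfLiesOver q Q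
  haveI : Algebra.QuasiFinite S (Localization.AtPrime Q) := inferInstance
  haveI : Algebra.QuasiFinite (Localization.AtPrime q) (Localization.AtPrime Q) :=
    Algebra.QuasiFinite.of_restrictScalars S _ _
  haveI : IsScalarTower R (Localization.AtPrime q) (Localization.AtPrime Q) :=
    IsScalarTower.of_algebraMap_eq (fun r => by
      rw [IsScalarTower.algebraMap_apply R S (Localization.AtPrime q),
        ← IsScalarTower.algebraMap_apply S (Localization.AtPrime q) (Localization.AtPrime Q),
        IsScalarTower.algebraMap_apply S T (Localization.AtPrime Q),
        ← IsScalarTower.algebraMap_apply R S T,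
        ← IsScalarTower.algebraMap_apply R T (Localization.AtPrime Q)])
  exact Algebra.QuasiFinite.trans R (Localization.AtPrime q) (Localization.AtPrime Q)

end Groth.Agent.Helper9.PQF13
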