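import Mathlib
import Groth.Prelude.Def_FlatCA
import Groth.Agent.Helper9.PQF6
import Groth.Agent.Helper9.PQF7

/-!
# Certificates for the absence of specializations, and their descent to smaller base rings
-/

set_option autoImplicit false
universe u
open TensorProduct

namespace Groth.Agent.Helper9.PQF14

section Cert

variable {A' B' : Type*} [CommRing A'] [CommRing B'] [Algebra A' B'] (t : Ideal A') [t.IsPrime]
  (P : Ideal B')

/-- if no prime above `P` lies over `t`, some element outside `t` lies in `P + t B'`. -/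
theorem exists_cert (h : ∀ (P' : Ideal B') [P'.IsPrime], P ≤ P' → ¬ P'.LiesOver t) :
    ∃ s ∉ t, algebraMap A' B' s ∈ P ⊔ t.map (algebraMap A' B') := by
  by_contra hcon
  push Not at hcon
  have hdisj : Disjoint ((P ⊔ t.map (algebraMap A' B') : Ideal B') : Set B')
      (t.primeCompl.map (algebraMap A' B') : Submonoid B') := by
    rw [Set.disjoint_left]
    rintro y hy ⟨s, hs, rfl⟩
    exact hcon s hs hy
  obtain ⟨P', hP'p, hle, hP'd⟩ := Ideal.exists_le_prime_disjoint _ _ hdisj
  haveI := hP'p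
  refine h P' (le_sup_left.trans hle) ⟨?_⟩
  apply le_antisymm
  · intro a ha
    exact hle (Ideal.mem_sup_right (Ideal.mem_map_of_mem _ ha))
  · intro a ha
    by_contra hat
    rw [Set.disjoint_left] at hP'd
    exact hP'd ha ⟨a, hat, rfl⟩

theorem not_liesOver_of_cert {s : A'} (hs : s ∉ t)
    (hmem : algebraMap A' B' s ∈ P ⊔ t.map (algebraMap A' B'))
    (P' : Ideal B') (hPP' : P ≤ P') : ¬ P'.LiesOver t := by
  intro hlo
  apply hs
  rw [hlo.over]
  have : P ⊔ t.map (algebraMap A' B') ≤ P' := by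
    refine sup_le hPP' ?_
    rw [Ideal.map_le_iff_le_comap]
    exact hlo.over.le
  exact this hmem

/-- explicit form of a certificate -/
theorem exists_sum_of_cert {s : A'}
    (hmem : algebraMap A' B' s ∈ P ⊔ t.map (algebraMap A' B')) :
    ∃ x ∈ P, ∃ (m : ℕ) (a : Fin m → A') (b : Fin m → B'), (∀ k, a k ∈ t) ∧
      algebraMap A' B' s = x + ∑ k, b k * algebraMap A' B' (a k) := by
  obtain ⟨x, hx, y, hy, hxy⟩ := Submodule.mem_sup.mp hmem
  refine ⟨x, hx, ?_⟩
  have hy' : y ∈ Submodule.span B' (algebraMap A' B' '' (t : Set A')) := hy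
  obtain ⟨m, c, g, hg⟩ := Submodule.mem_span_set'.mp hy'
  choose a ha using fun k => (g k).2
  refine ⟨m, a, c, fun k => (ha k).1, ?_⟩
  rw [← hxy, ← hg]
  congr 1
  refine Finset.sum_congr rfl fun k _ => ?_
  rw [(ha k).2, smul_eq_mul]

end Cert

section Gen

variable {A B A' B' : Type*} [CommRing A] [CommRing B] [CommRing A'] [CommRing B']
  [Algebra A B] [Algebra A A'] [Algebra B B'] [Algebra A' B'] [Algebra A B']
  [IsScalarTower A B B'] [IsScalarTower A A' B']

/-- every element of a pushout lies in the subring generated by `B` and finitely many elements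
of `A'`. -/
theorem exists_finset_mem_subring (hpo : Algebra.IsPushout A B A' B') (b : B') :
    ∃ F : Finset A', ∀ L : Subring B', (∀ β, algebraMap B B' β ∈ L) →
      (∀ α ∈ F, algebraMap A' B' α ∈ L) → b ∈ L := by
  classical
  refine hpo.out.inductionOn b _ ?_ ?_ ?_ ?_
  · exact ⟨∅, fun L _ _ => L.zero_mem⟩
  · intro α
    refine ⟨{α}, fun L _ h => ?_⟩
    exact h α (Finset.mem_singleton_self α)
  · rintro β b ⟨F, hF⟩
    refine ⟨F, fun L h1 h2 => ?_⟩
    rw [Algebra.smul_def]
    exact L.mul_mem (h1 β) (hF L h1 h2)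
  · rintro b₁ b₂ ⟨F₁, hF₁⟩ ⟨F₂, hF₂⟩
    refine ⟨F₁ ∪ F₂, fun L h1 h2 => ?_⟩
    exact L.add_mem (hF₁ L h1 fun α hα => h2 α (Finset.mem_union_left _ hα))
      (hF₂ L h1 fun α hα => h2 α (Finset.mem_union_right _ hα))

/-- finitely many elements of a pushout lie in the subring generated by `B` and finitely many
elements of `A'`. -/
theorem exists_finset_forall_mem_subring (hpo : Algebra.IsPushout A B A' B') {m : ℕ}
    (b : Fin m → B') :
    ∃ F : Finset A', ∀ L : Subring B', (∀ β, algebraMap B B' β ∈ L) →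
      (∀ α ∈ F, algebraMap A' B' α ∈ L) → ∀ k, b k ∈ L := by
  classical
  choose F hF using fun k => exists_finset_mem_subring hpo (b k)
  refine ⟨Finset.univ.biUnion F, fun L h1 h2 k => hF k L h1 fun α hα => h2 α ?_⟩
  exact Finset.mem_biUnion.mpr ⟨k, Finset.mem_univ k, hα⟩

end Gen

section Descent

variable {A B : Type u} [CommRing A] [CommRing B] [Algebra A B] [Algebra.FiniteType A B]
  {N : Type u} [AddCommGroup N] [Module B N] (p : Ideal A) [p.IsPrime]
  {A' B' N' : Type u} [CommRing A'] [CommRing B'] [Algebra A A'] [Algebra B B'] [Algebra A' B']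
  [Algebra A B'] [IsScalarTower A B B'] [IsScalarTower A A' B']
  [AddCommGroup N'] [Module B' N'] [Module B N'] [IsScalarTower B B' N']
  [Module A' N'] [IsScalarTower A' B' N']
  (f : N →ₗ[B] N') (t' t : Ideal A') [t'.IsPrime] [t.IsPrime] (P : Ideal B') [P.IsPrime]

/-- An impurity descends to every base ring `A''` mapping to `A'` whose image contains a certain
finite set; moreover the point `t` may then be replaced by any specialization avoiding a certain
element. -/
theorem exists_finset_descent (himp : FlatCA.IsImpurity A B N p A' B' N' f t' t P) :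
    ∃ F : Finset A', ∀ (A'' B'' N'' : Type u) [CommRing A''] [CommRing B''] [Algebra A A'']
      [Algebra B B''] [Algebra A'' B''] [Algebra A B''] [IsScalarTower A B B'']
      [IsScalarTower A A'' B''] [AddCommGroup N''] [Module B'' N''] [Module B N'']
      [IsScalarTower B B'' N''] [Module A'' N''] [IsScalarTower A'' B'' N'']
      [Algebra A'' A'] [IsScalarTower A A'' A']
      (_ : Algebra.IsPushout A B A'' B'') (f'' : N →ₗ[B] N'') (_ : IsBaseChange B'' f''),
      (∀ c ∈ F, c ∈ Set.range (algebraMap A'' A')) →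
      ∃ (s'' : A'') (P'' : Ideal B'') (_ : P''.IsPrime),
        s'' ∉ t.comap (algebraMap A'' A') ∧
        ∀ (t₃ : Ideal A'') [t₃.IsPrime], t.comap (algebraMap A'' A') ≤ t₃ → s'' ∉ t₃ →
          t₃.LiesOver p →
          FlatCA.IsImpurity A B N p A'' B'' N'' f'' (t'.comap (algebraMap A'' A')) t₃ P'' := by
  classical
  obtain ⟨hpo, hf, hle, htp, hPt', hass, hno⟩ := himp
  obtain ⟨s, hs, hmem⟩ := exists_cert t P hno
  obtain ⟨x, hx, m, a, b, ha, hsum⟩ := exists_sum_of_cert t P hmem
  obtain ⟨F₀, hF₀⟩ := exists_finset_forall_mem_subring hpo b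
  refine ⟨insert s (F₀ ∪ Finset.univ.image a), ?_⟩
  intro A'' B'' N'' _ _ _ _ _ _ _ _ _ _ _ _ _ _ _ _ hpo'' f'' hf'' hFr
  letI : Algebra A'' B' := ((algebraMap A' B').comp (algebraMap A'' A')).toAlgebra
  haveI : IsScalarTower A'' A' B' := IsScalarTower.of_algebraMap_eq (fun _ => rfl)
  obtain ⟨iB''B', tw1, tw2, mB''N', tw3, g, hpo', hg, hgf⟩ :=
    Groth.Agent.Helper9.PQF7.exists_model_over hpo'' f'' hf'' hpo f hf
  have hb : ∀ k, b k ∈ (algebraMap B'' B').range := by
    refine hF₀ _ (fun β => ⟨algebraMap B B'' β, ?_⟩) (fun α hα => ?_)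
    · exact (IsScalarTower.algebraMap_apply B B'' B' β).symm
    · obtain ⟨α'', rfl⟩ := hFr α (Finset.mem_insert_of_mem (Finset.mem_union_left _ hα))
      refine ⟨algebraMap A'' B'' α'', ?_⟩
      rw [← IsScalarTower.algebraMap_apply A'' B'' B', IsScalarTower.algebraMap_apply A'' A' B']
  choose b'' hb'' using hb
  obtain ⟨s'', hs''⟩ := hFr s (Finset.mem_insert_self _ _)
  have harange : ∀ k, a k ∈ Set.range (algebraMap A'' A') := fun k =>
    hFr (a k) (Finset.mem_insert_of_mem (Finset.mem_union_right _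
      (Finset.mem_image_of_mem _ (Finset.mem_univ k))))
  choose a'' ha'' using harange
  have hx'' : algebraMap A'' B'' s'' - ∑ k, b'' k * algebraMap A'' B'' (a'' k) ∈
      P.comap (algebraMap B'' B') := by
    rw [Ideal.mem_comap, map_sub, map_sum]
    have h1 : algebraMap B'' B' (algebraMap A'' B'' s'') = algebraMap A' B' s := by
      rw [← IsScalarTower.algebraMap_apply A'' B'' B', IsScalarTower.algebraMap_apply A'' A' B',
        hs'']
    have h2 : ∀ k, algebraMap B'' B' (b'' k * algebraMap A'' B'' (a'' k)) =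
        b k * algebraMap A' B' (a k) := by
      intro k
      rw [map_mul, hb'' k, ← IsScalarTower.algebraMap_apply A'' B'' B',
        IsScalarTower.algebraMap_apply A'' A' B', ha'' k]
    rw [h1, Finset.sum_congr rfl (fun k _ => h2 k), hsum, add_sub_cancel_right]
    exact hx
  refine ⟨s'', P.comap (algebraMap B'' B'), Ideal.comap_isPrime _ _, ?_, ?_⟩
  · rw [Ideal.mem_comap, hs'']
    exact hs
  intro t₃ _ hle₃ hs₃ hlo₃
  haveI : Algebra.FiniteType A'' B'' := Groth.Agent.Helper9.PQF6.finiteType_of_isPushout hpo''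
  haveI : t'.LiesOver (t'.comap (algebraMap A'' A')) := ⟨rfl⟩
  haveI hP''o : (P.comap (algebraMap B'' B')).LiesOver (t'.comap (algebraMap A'' A')) :=
    Groth.Agent.Helper9.PQF6.liesOver_comap_of_tower (B' := B'')
      (t'.comap (algebraMap A'' A')) t' P
  have hass'' := Groth.Agent.Helper9.PQF6.down hpo' (t'.comap (algebraMap A'' A')) t' g hg P hass
  refine ⟨hpo'', hf'', (Ideal.comap_mono hle).trans hle₃, hlo₃, hP''o, hass'', ?_⟩
  intro P' hP'p hPP'
  refine not_liesOver_of_cert t₃ (P.comap (algebraMap B'' B')) hs₃ ?_ P' hPP'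
  have hdecomp : algebraMap A'' B'' s'' =
      (algebraMap A'' B'' s'' - ∑ k, b'' k * algebraMap A'' B'' (a'' k)) +
        ∑ k, b'' k * algebraMap A'' B'' (a'' k) := by ring
  rw [hdecomp]
  refine Submodule.add_mem_sup hx'' (Ideal.sum_mem _ fun k _ => Ideal.mul_mem_left _ _ ?_)
  apply Ideal.mem_map_of_mem
  apply hle₃
  rw [Ideal.mem_comap, ha'' k]
  exact ha k

end Descent

end Groth.Agent.Helper9.PQF14
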