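import Mathlib
import Groth.Prelude.Def_FlatCA
import Groth.Agent.Helper9.PQF6

/-!
# Closed points of fibres above a given point, avoiding an element
-/

set_option autoImplicit false
universe u
open TensorProduct

namespace Groth.Agent.Helper9.PQF15

attribute [local instance] Algebra.TensorProduct.rightAlgebra

theorem exists_closed_point {A A'' : Type u} [CommRing A] [CommRing A''] [Algebra A A'']
    [Algebra.FiniteType A A''] (p : Ideal A) [p.IsPrime] (t₂ : Ideal A'') [t₂.IsPrime]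
    [t₂.LiesOver p] (s : A'') (hs : s ∉ t₂) :
    ∃ (t₃ : Ideal A'') (_ : t₃.IsPrime) (_ : t₃.LiesOver p), t₂ ≤ t₃ ∧ s ∉ t₃ ∧
      (FlatCA.fiberIdeal p t₃).IsMaximal := by
  haveI : Algebra.FiniteType p.ResidueField (p.Fiber A'') :=
    inferInstanceAs (Algebra.FiniteType p.ResidueField (p.ResidueField ⊗[A] A''))
  haveI : IsJacobsonRing (p.Fiber A'') :=
    isJacobsonRing_of_finiteType (A := p.ResidueField) (B := p.Fiber A'')
  haveI hqp := Groth.Agent.Helper5.FlatAss.isPrime_fiberIdeal p t₂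
  have hc : (FlatCA.fiberIdeal p t₂).comap (algebraMap A'' (p.Fiber A'')) = t₂ :=
    Groth.Agent.Helper9.PQF4.comap_fiberIdeal p t₂
  have hσ : algebraMap A'' (p.Fiber A'') s ∉ FlatCA.fiberIdeal p t₂ := by
    intro h
    apply hs
    rw [← hc]
    exact h
  have hjac : (FlatCA.fiberIdeal p t₂).jacobson = FlatCA.fiberIdeal p t₂ :=
    IsJacobsonRing.out inferInstance hqp.isRadical
  rw [← hjac, Ideal.jacobson, Ideal.mem_sInf] at hσ
  push Not at hσ
  obtain ⟨m, ⟨hle, hmax⟩, hsm⟩ := hσ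
  haveI := hmax
  haveI : m.IsPrime := hmax.isPrime
  refine ⟨m.comap (algebraMap A'' (p.Fiber A'')), Ideal.comap_isPrime _ _,
    Groth.Agent.Helper9.PQF6.comap_liesOver_fiber p m, ?_, ?_, ?_⟩
  · rw [← hc]
    exact Ideal.comap_mono hle
  · exact hsm
  · rw [Groth.Agent.Helper9.PQF6.fiberIdeal_comap p m]
    exact hmax

end Groth.Agent.Helper9.PQF15
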