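import Mathlib
import Groth.Prelude.Def_FlatCA
import Groth.Prelude.Def_Hensel
import Groth.Agent.Helper1.HensElts
import Groth.Agent.Helper1.HensIsHens

/-!
# The henselization of a local ring `A_p` as the colimit `Hens A κ(p)` over pointed etale
`A`-algebras
-/

set_option autoImplicit false
set_option linter.dupNamespace false
universe u

noncomputable section

namespace Groth.Agent.Helper9.PQF16

open Groth.Agent.Helper1.Hens IsLocalRing

variable {A : Type u} [CommRing A] (p : Ideal A) [p.IsPrime]

/-- the colimit of the local rings of the pointed etale `A`-algebras with point in `κ(p)`. -/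
abbrev HA : Type u := Hens A p.ResidueField

theorem isUnit_algebraMap {a : A} (ha : a ∉ p) : IsUnit (algebraMap A (HA p) a) := by
  rw [Hens.isUnit_iff, Hens.γ_algebraMap]
  intro h
  exact ha (Ideal.algebraMap_residueField_eq_zero.mp h)

/-- the structure map from the local ring. -/
def locHom : Localization.AtPrime p →+* HA p :=
  IsLocalization.lift (M := p.primeCompl) (g := algebraMap A (HA p))
    (fun y => isUnit_algebraMap p y.2)

/-- the algebra structure over the local ring. -/
@[reducible] def algLoc : Algebra (Localization.AtPrime p) (HA p) := (locHom p).toAlgebra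

attribute [local instance] algLoc

instance : IsScalarTower A (Localization.AtPrime p) (HA p) :=
  IsScalarTower.of_algebraMap_eq (fun a => by
    show _ = locHom p (algebraMap A _ a)
    rw [locHom, IsLocalization.lift_eq])

theorem γ_algebraMap_loc (x : Localization.AtPrime p) :
    Hens.γ (algebraMap (Localization.AtPrime p) (HA p) x) =
      IsLocalRing.residue (Localization.AtPrime p) x := by
  have h : (Hens.γ (R := A) (Ω := p.ResidueField)).toRingHom.comp
      (algebraMap (Localization.AtPrime p) (HA p)) =
      IsLocalRing.residue (Localization.AtPrime p) := by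
    apply IsLocalization.ringHom_ext p.primeCompl
    ext a
    simp only [RingHom.comp_apply, AlgHom.toRingHom_eq_coe, RingHom.coe_coe]
    rw [← IsScalarTower.algebraMap_apply A (Localization.AtPrime p) (HA p), Hens.γ_algebraMap]
    rfl
  exact congrArg (fun φ => φ x) h

instance : IsLocalHom (algebraMap (Localization.AtPrime p) (HA p)) := by
  constructor
  intro x hx
  rw [Hens.isUnit_iff, γ_algebraMap_loc] at hx
  by_contra hnu
  apply hx
  rw [IsLocalRing.residue_eq_zero_iff]
  exact (IsLocalRing.mem_maximalIdeal _).mpr hnu

theorem pt_liesOver {C : Type u} [CommRing C] [Algebra A C] (γ : C →ₐ[A] p.ResidueField) :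
    (pt γ).LiesOver p := ⟨by
  ext a
  rw [Ideal.under_def, Ideal.mem_comap, mem_pt, AlgHom.commutes,
    Ideal.algebraMap_residueField_eq_zero]⟩

theorem map_eq_maximalIdeal_loc {C : Type u} [CommRing C] [Algebra A C] [Algebra.Etale A C]
    (γ : C →ₐ[A] p.ResidueField) :
    p.map (algebraMap A (Loc γ)) = maximalIdeal (Loc γ) := by
  haveI := pt_liesOver p γ
  letI := Localization.AtPrime.algebraOfLiesOver p (pt γ)
  haveI : Algebra.IsUnramifiedAt A (pt γ) :=
    inferInstanceAs (Algebra.FormallyUnramified A (Loc γ))
  exact ((Algebra.isUnramifiedAt_iff_map_eq A p (pt γ)).mp inferInstance).2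

theorem map_eq_maximalIdeal : p.map (algebraMap A (HA p)) = maximalIdeal (HA p) := by
  apply le_antisymm
  · rw [Ideal.map_le_iff_le_comap]
    intro a ha
    rw [Ideal.mem_comap, ← Hens.γ_eq_zero_iff, Hens.γ_algebraMap]
    exact Ideal.algebraMap_residueField_eq_zero.mpr ha
  · intro z hz
    obtain ⟨i, x, rfl⟩ := Hens.exists_of z
    rw [← Hens.γ_eq_zero_iff, Hens.γ_of, γLoc_eq_zero_iff, ← map_eq_maximalIdeal_loc p i.γ] at hz
    have h1 : (p.map (algebraMap A i.L)).map (Hens.of i) = p.map (algebraMap A (HA p)) := by
      rw [Ideal.map_map]
      congr 1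
      ext r
      exact (Hens.algebraMap_eq i r).symm
    rw [← h1]
    exact Ideal.mem_map_of_mem _ hz

/-- any ring map out of `HA p` whose restriction to `A_p` is local is compatible with the
points. -/
theorem residue_ringHom {T : Type u} [CommRing T] [IsLocalRing T]
    (f : Localization.AtPrime p →+* T) [IsLocalHom f] (g : HA p →+* T)
    (hg : g.comp (algebraMap (Localization.AtPrime p) (HA p)) = f) (z : HA p) :
    residue T (g z) = ResidueField.map f (Hens.γ z) := by
  obtain ⟨r, hr⟩ := residue_surjective (R := Localization.AtPrime p) (Hens.γ z)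
  have h1 : z - algebraMap (Localization.AtPrime p) (HA p) r ∈ maximalIdeal (HA p) := by
    rw [← Hens.γ_eq_zero_iff, map_sub, γ_algebraMap_loc, hr]
    exact sub_self _
  rw [← map_eq_maximalIdeal] at h1
  have h2 : p.map (algebraMap A (HA p)) ≤ (maximalIdeal T).comap g := by
    rw [Ideal.map_le_iff_le_comap]
    intro a ha
    rw [Ideal.mem_comap, Ideal.mem_comap,
      IsScalarTower.algebraMap_apply A (Localization.AtPrime p) (HA p)]
    have h3 : g (algebraMap (Localization.AtPrime p) (HA p) (algebraMap A _ a)) =
        f (algebraMap A _ a) := congrArg (fun φ => φ (algebraMap A _ a)) hg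
    rw [h3]
    have h4 : algebraMap A (Localization.AtPrime p) a ∈ maximalIdeal (Localization.AtPrime p) := by
      rw [← Localization.AtPrime.map_eq_maximalIdeal]
      exact Ideal.mem_map_of_mem _ ha
    exact ((local_hom_TFAE f).out 0 2 rfl rfl).mp inferInstance (Ideal.mem_map_of_mem _ h4)
  have h5 := h2 h1
  rw [Ideal.mem_comap, map_sub, ← residue_eq_zero_iff, map_sub, sub_eq_zero] at h5
  rw [h5]
  have h6 : g (algebraMap (Localization.AtPrime p) (HA p) r) = f r :=
    congrArg (fun φ => φ r) hg
  rw [h6, ← hr, ResidueField.map_residue]

theorem isHenselization : Hensel.IsHenselization (Localization.AtPrime p) (HA p) where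
  henselian := inferInstance
  universal T _ _ f hf := by
    haveI : IsLocalHom f := hf
    letI : Algebra A T := (f.comp (algebraMap A (Localization.AtPrime p))).toAlgebra
    have hτ : ∀ a : A, ResidueField.map f (algebraMap A p.ResidueField a) =
        residue T (algebraMap A T a) := fun a => ResidueField.map_residue f _
    have hcomp : (Hens.lift (ResidueField.map f) hτ).toRingHom.comp
        (algebraMap (Localization.AtPrime p) (HA p)) = f := by
      apply IsLocalization.ringHom_ext p.primeCompl
      ext a
      simp only [RingHom.comp_apply, AlgHom.toRingHom_eq_coe, RingHom.coe_coe]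
      rw [← IsScalarTower.algebraMap_apply A (Localization.AtPrime p) (HA p), AlgHom.commutes]
      rfl
    refine ⟨(Hens.lift (ResidueField.map f) hτ).toRingHom, hcomp, ?_⟩
    intro g hg
    let g' : HA p →ₐ[A] T :=
      { g with
        commutes' := fun a => by
          show g (algebraMap A (HA p) a) = f (algebraMap A _ a)
          rw [IsScalarTower.algebraMap_apply A (Localization.AtPrime p) (HA p)]
          exact congrArg (fun φ => φ (algebraMap A _ a)) hg }
    have : g' = Hens.lift (ResidueField.map f) hτ :=
      Hens.lift_unique _ hτ g' (fun z => residue_ringHom p f g hg z)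
    ext z
    exact congrArg (fun φ => φ z) this

/-- two henselizations of a local ring are isomorphic. -/
def equivOfIsHenselization {R : Type u} [CommRing R] [IsLocalRing R] (S S' : Type u)
    [CommRing S] [IsLocalRing S] [Algebra R S] [IsLocalHom (algebraMap R S)]
    [hS : Hensel.IsHenselization R S] [CommRing S'] [IsLocalRing S'] [Algebra R S']
    [IsLocalHom (algebraMap R S')] [hS' : Hensel.IsHenselization R S'] : S ≃ₐ[R] S' := by
  haveI : HenselianLocalRing S := hS.henselian
  haveI : HenselianLocalRing S' := hS'.henselian
  have h1 := hS.universal S' (algebraMap R S') inferInstance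
  have h2 := hS'.universal S (algebraMap R S) inferInstance
  have h3 := hS.universal S (algebraMap R S) inferInstance
  have h4 := hS'.universal S' (algebraMap R S') inferInstance
  let g := h1.choose
  have hg : g.comp (algebraMap R S) = algebraMap R S' := h1.choose_spec.1
  let g' := h2.choose
  have hg' : g'.comp (algebraMap R S') = algebraMap R S := h2.choose_spec.1
  have e1 : g'.comp g = RingHom.id S := by
    refine h3.unique ?_ rfl
    rw [RingHom.comp_assoc, hg, hg']
  have e2 : g.comp g' = RingHom.id S' := by
    refine h4.unique ?_ rfl
    rw [RingHom.comp_assoc, hg', hg]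
  exact
    { toFun := g
      invFun := g'
      left_inv := fun x => congr($e1 x)
      right_inv := fun x => congr($e2 x)
      map_mul' := map_mul g
      map_add' := map_add g
      commutes' := fun r => congr($hg r) }

end Groth.Agent.Helper9.PQF16
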