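import Mathlib
import Groth.Prelude.Def_FlatCA
import Groth.Prelude.Def_Hensel
import Groth.Agent.Helper9.PQF16

/-!
# Finitely many elements of a henselization of `A_p` come from an elementary etale neighbourhood
of `(A, p)`
-/

set_option autoImplicit false
set_option linter.dupNamespace false
universe u

noncomputable section

namespace Groth.Agent.Helper9.PQF17

open Groth.Agent.Helper1.Hens IsLocalRing Groth.Agent.Helper9.PQF16

variable {A : Type u} [CommRing A] (p : Ideal A) [p.IsPrime]

/-- a pointed etale algebra with point in `κ(p)` is an elementary etale neighbourhood. -/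
theorem isEtaleNhd_pt {C : Type u} [CommRing C] [Algebra A C] [Algebra.Etale A C]
    (γ : C →ₐ[A] p.ResidueField) : FlatCA.IsEtaleNhd A C p (pt γ) := by
  have hlo := pt_liesOver p γ
  refine ⟨inferInstance, hlo, RingHom.injective _, ?_⟩
  -- the map induced by `γ` on the residue field of its point
  have hunits : (pt γ).primeCompl ≤ (IsUnit.submonoid p.ResidueField).comap γ := by
    intro c hc
    exact isUnit_iff_ne_zero.mpr hc
  let γbar : (pt γ).ResidueField →ₐ[A] p.ResidueField :=
    Ideal.ResidueField.liftₐ (pt γ) γ (le_refl _) hunits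
  have hcomp : γbar.comp (Ideal.ResidueField.mapₐ p (pt γ) (Algebra.ofId A C) hlo.over) =
      AlgHom.id A p.ResidueField := by
    apply Ideal.ResidueField.algHom_ext
    ext
  intro y
  refine ⟨γbar y, ?_⟩
  apply RingHom.injective γbar.toRingHom
  exact congrArg (fun φ => φ (γbar y)) hcomp

variable (A' : Type u) [CommRing A'] [IsLocalRing A'] [Algebra A A']
  [Algebra (Localization.AtPrime p) A'] [IsScalarTower A (Localization.AtPrime p) A']
  [IsLocalHom (algebraMap (Localization.AtPrime p) A')]

theorem exists_etaleNhd_range [hS : Hensel.IsHenselization (Localization.AtPrime p) A']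
    (F : Finset A') :
    ∃ (C : Type u) (_ : CommRing C) (_ : Algebra A C) (q : Ideal C) (_ : q.IsPrime)
      (_ : Algebra C A') (_ : IsScalarTower A C A'),
      FlatCA.IsEtaleNhd A C p q ∧ (maximalIdeal A').comap (algebraMap C A') = q ∧
        ∀ c ∈ F, c ∈ Set.range (algebraMap C A') := by
  classical
  letI := algLoc p
  haveI := isHenselization p
  let e : A' ≃ₐ[Localization.AtPrime p] HA p := equivOfIsHenselization A' (HA p)
  obtain ⟨C, _, _, _, γ, hC⟩ := Hens.exists_ι_eq_finset (F.image e)
  let ψ : C →+* A' := (e.symm : HA p →+* A').comp (Hens.ι γ).toRingHom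
  have hψ : ∀ c, ψ c = e.symm (Hens.ι γ c) := fun _ => rfl
  letI : Algebra C A' := ψ.toAlgebra
  haveI tw : IsScalarTower A C A' := IsScalarTower.of_algebraMap_eq (fun a => by
    show _ = ψ (algebraMap A C a)
    rw [hψ, AlgHom.commutes, IsScalarTower.algebraMap_apply A (Localization.AtPrime p) (HA p),
      AlgEquiv.commutes, ← IsScalarTower.algebraMap_apply])
  refine ⟨C, inferInstance, inferInstance, pt γ, inferInstance, inferInstance, tw,
    isEtaleNhd_pt p γ, ?_, ?_⟩
  · ext c
    rw [Ideal.mem_comap, mem_pt, mem_maximalIdeal, mem_nonunits_iff]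
    show ¬ IsUnit (ψ c) ↔ _
    rw [hψ, ← Hens.γ_ι γ c, ← not_iff_not, not_not, ← ne_eq, ← Hens.isUnit_iff]
    constructor
    · intro h
      have := h.map (e : A' →+* HA p)
      simpa using this
    · intro h
      exact h.map (e.symm : HA p →+* A')
  · intro c hc
    obtain ⟨c₀, hc₀⟩ := hC (e c) (Finset.mem_image_of_mem _ hc)
    refine ⟨c₀, ?_⟩
    show ψ c₀ = c
    rw [hψ, hc₀, AlgEquiv.symm_apply_apply]

end Groth.Agent.Helper9.PQF17
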