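import Mathlib
import Groth.Prelude.Def_FlatCA
import Groth.Agent.Helper9.PQF6
import Groth.Agent.Helper9.PQF7

/-!
# Lifting an impurity to a dominating base ring
-/

set_option autoImplicit false
universe u
open TensorProduct

namespace Groth.Agent.Helper9.PQF18

section Core

variable {A B : Type u} [CommRing A] [CommRing B] [Algebra A B] [Algebra.FiniteType A B]
  {N : Type u} [AddCommGroup N] [Module B N] (p : Ideal A) [p.IsPrime]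
  {A₁ B₁ N₁ : Type u} [CommRing A₁] [CommRing B₁] [Algebra A A₁] [Algebra B B₁] [Algebra A₁ B₁]
  [Algebra A B₁] [IsScalarTower A B B₁] [IsScalarTower A A₁ B₁]
  [AddCommGroup N₁] [Module B₁ N₁] [Module B N₁] [IsScalarTower B B₁ N₁]
  [Module A₁ N₁] [IsScalarTower A₁ B₁ N₁]
  (f₁ : N →ₗ[B] N₁) (t₁' t₁ : Ideal A₁) [t₁'.IsPrime] [t₁.IsPrime] (P : Ideal B₁) [P.IsPrime]
  {A₂ B₂ N₂ : Type u} [CommRing A₂] [CommRing B₂] [Algebra A A₂] [Algebra B B₂] [Algebra A₂ B₂]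
  [Algebra A B₂] [IsScalarTower A B B₂] [IsScalarTower A A₂ B₂]
  [AddCommGroup N₂] [Module B₂ N₂] [Module B N₂] [IsScalarTower B B₂ N₂]
  [Module A₂ N₂] [IsScalarTower A₂ B₂ N₂]
  (hpo₂ : Algebra.IsPushout A B A₂ B₂) (f₂ : N →ₗ[B] N₂) (hf₂ : IsBaseChange B₂ f₂)
  [Algebra A₁ A₂] [IsScalarTower A A₁ A₂] [Algebra A₁ B₂] [IsScalarTower A₁ A₂ B₂]
  (t₂' t₂ : Ideal A₂) [t₂'.IsPrime] [t₂.IsPrime]

include hpo₂ hf₂ in
/-- An impurity over `(A₁, t₁' ≤ t₁)` lifts to an impurity over `(A₂, t₂' ≤ t₂)` when `A₂` is an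
`A₁`-algebra and the primes `t₂' ≤ t₂` lie over `t₁' ≤ t₁`. -/
theorem exists_isImpurity_of_dominating
    (himp : FlatCA.IsImpurity A B N p A₁ B₁ N₁ f₁ t₁' t₁ P)
    (hle₂ : t₂' ≤ t₂) (h₂₁' : t₂'.LiesOver t₁') (h₂₁ : t₂.LiesOver t₁) (h₂p : t₂.LiesOver p) :
    ∃ (P₂ : Ideal B₂) (_ : P₂.IsPrime), FlatCA.IsImpurity A B N p A₂ B₂ N₂ f₂ t₂' t₂ P₂ := by
  obtain ⟨hpo₁, hf₁, hle, ht₁p, hPt₁', hass, hno₁⟩ := himp
  obtain ⟨iB₁B₂, tv1, tv2, mB₁N₂, tv3, g₁, hpo₁', hg₁, hg₁f⟩ :=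
    Groth.Agent.Helper9.PQF7.exists_model_over hpo₁ f₁ hf₁ hpo₂ f₂ hf₂
  haveI : Algebra.FiniteType A₁ B₁ := Groth.Agent.Helper9.PQF6.finiteType_of_isPushout hpo₁
  obtain ⟨P₂, hP₂p, hP₂o, hP₂c, hass₂⟩ :=
    Groth.Agent.Helper9.PQF6.up hpo₁' t₁' t₂' g₁ hg₁ P hass
  refine ⟨P₂, hP₂p, hpo₂, hf₂, hle₂, h₂p, hP₂o, hass₂, ?_⟩
  intro P' hP'p hP₂P' hP'o
  refine hno₁ (P'.comap (algebraMap B₁ B₂)) ?_ ?_
  · rw [← hP₂c]
    exact Ideal.comap_mono hP₂P'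
  · exact Groth.Agent.Helper9.PQF6.liesOver_comap_of_tower (B' := B₁) t₁ t₂ P'

end Core

end Groth.Agent.Helper9.PQF18
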