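import Mathlib
import Groth.Prelude.Def_FlatCA
import Groth.Prelude.Def_Hensel
import Groth.Agent.Helper9.PQF16

/-!
# The henselization dominates every elementary etale neighbourhood, with going-down
-/

set_option autoImplicit false
set_option linter.dupNamespace false
universe u

noncomputable section

namespace Groth.Agent.Helper9.PQF19

open Groth.Agent.Helper1.Hens IsLocalRing Groth.Agent.Helper9.PQF16

variable {A : Type u} [CommRing A] (p : Ideal A) [p.IsPrime]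

theorem maximalIdeal_liesOver : (maximalIdeal (HA p)).LiesOver p := ⟨by
  ext a
  rw [Ideal.under_def, Ideal.mem_comap, ← Hens.γ_eq_zero_iff, Hens.γ_algebraMap,
    Ideal.algebraMap_residueField_eq_zero]⟩

theorem exists_algebra_goingDown {A₁ : Type u} [CommRing A₁] [Algebra A A₁] (t₁ : Ideal A₁)
    [t₁.IsPrime] (hnhd : FlatCA.IsEtaleNhd A A₁ p t₁) (t₁' : Ideal A₁) [t₁'.IsPrime]
    (hle : t₁' ≤ t₁) :
    ∃ (_ : Algebra A₁ (HA p)) (_ : IsScalarTower A A₁ (HA p)) (t₂' : Ideal (HA p))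
      (_ : t₂'.IsPrime), t₂' ≤ maximalIdeal (HA p) ∧ t₂'.LiesOver t₁' ∧
        (maximalIdeal (HA p)).LiesOver t₁ := by
  obtain ⟨het, hlo, hbij⟩ := hnhd
  haveI := het
  let e₁ : p.ResidueField ≃ₐ[A] t₁.ResidueField :=
    AlgEquiv.ofBijective (Ideal.ResidueField.mapₐ p t₁ (Algebra.ofId A A₁) hlo.over) hbij
  let γ₁ : A₁ →ₐ[A] p.ResidueField :=
    e₁.symm.toAlgHom.comp (IsScalarTower.toAlgHom A A₁ t₁.ResidueField)
  have hγ₁ : ∀ c, γ₁ c = 0 ↔ c ∈ t₁ := by
    intro c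
    show e₁.symm (algebraMap A₁ t₁.ResidueField c) = 0 ↔ _
    rw [map_eq_zero_iff _ e₁.symm.injective, Ideal.algebraMap_residueField_eq_zero]
  letI i1 : Algebra A₁ (HA p) := (Hens.ι γ₁).toRingHom.toAlgebra
  haveI tw : IsScalarTower A A₁ (HA p) :=
    IsScalarTower.of_algebraMap_eq (fun a => ((Hens.ι γ₁).commutes a).symm)
  haveI hmax : (maximalIdeal (HA p)).LiesOver t₁ := ⟨by
    ext c
    rw [Ideal.under_def, Ideal.mem_comap, ← Hens.γ_eq_zero_iff]
    show _ ↔ Hens.γ (Hens.ι γ₁ c) = 0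
    rw [Hens.γ_ι, hγ₁]⟩
  haveI : Module.Flat A₁ (HA p) := Algebra.FormallyUnramified.flat_of_restrictScalars A A₁ (HA p)
  obtain ⟨t₂', ht₂'le, ht₂'p, ht₂'o⟩ := Ideal.exists_ideal_le_liesOver_of_le
    (S := HA p) (p := t₁') (q := t₁) (maximalIdeal (HA p)) hle
  exact ⟨i1, tw, t₂', ht₂'p, ht₂'le, ht₂'o, hmax⟩

end Groth.Agent.Helper9.PQF19
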