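import Mathlib

/-!
# A nonzero prime below a prime of height at least two avoiding a given nonzero element
-/

set_option autoImplicit false
universe u

namespace Groth.Agent.Helper9.PQF20

variable {D : Type u} [CommRing D] [IsDomain D] [IsNoetherianRing D]

/-- In a Noetherian domain, below a prime `t` which strictly contains a nonzero prime `q`
there is a nonzero prime not containing a given nonzero element `h`. -/
theorem exists_prime_avoiding (t q : Ideal D) [t.IsPrime] [q.IsPrime] (hq0 : q ≠ ⊥) (hqt : q < t)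
    (h : D) (hh : h ≠ 0) :
    ∃ v : Ideal D, v.IsPrime ∧ v ≠ ⊥ ∧ v ≤ t ∧ h ∉ v := by
  classical
  by_cases hhq : h ∈ q
  swap
  · exact ⟨q, inferInstance, hq0, hqt.le, hhq⟩
  -- the minimal primes of `(h)`
  have hfin : ((Ideal.span {h} : Ideal D).minimalPrimes).Finite :=
    Ideal.finite_minimalPrimes_of_isNoetherianRing D _
  set V : Finset (Ideal D) := hfin.toFinset with hV
  have hVmem : ∀ w, w ∈ V ↔ w ∈ (Ideal.span {h} : Ideal D).minimalPrimes := by
    intro w; rw [hV, Set.Finite.mem_toFinset]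
  -- height of `t` is at least two
  have hq_pos : (⊥ : Ideal D).height < q.height :=
    Ideal.height_strict_mono_of_isPrime_of_isPrime (bot_lt_iff_ne_bot.mpr hq0)
  have ht2 : q.height < t.height := Ideal.height_strict_mono_of_isPrime_of_isPrime hqt
  have ht_two : (2 : ℕ∞) ≤ t.height := by
    have h1 : (1 : ℕ∞) ≤ q.height := by
      rw [Order.one_le_iff_ne_zero]
      exact (lt_of_le_of_lt bot_le hq_pos).ne'
    have h2 : q.height + 1 ≤ t.height := Order.add_one_le_of_lt ht2
    calc (2 : ℕ∞) = 1 + 1 := by norm_num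
      _ ≤ q.height + 1 := by gcongr
      _ ≤ t.height := h2
  -- `t` is not contained in any minimal prime of `(h)`
  have hnot : ¬ ((t : Set D) ⊆ ⋃ w ∈ (↑V : Set (Ideal D)), (w : Set D)) := by
    intro hsub
    rw [Ideal.subset_union_prime (⊥ : Ideal D) (⊥ : Ideal D)
      (fun w hw _ _ => ((hVmem w).mp hw).isPrime)] at hsub
    obtain ⟨w, hwV, htw⟩ := hsub
    have hw := (hVmem w).mp hwV
    have hw1 : w.height ≤ 1 :=
      Ideal.height_le_one_of_isPrincipal_of_mem_minimalPrimes (Ideal.span {h}) w hw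
    have : t.height ≤ 1 := (Ideal.height_mono htw).trans hw1
    have : (2 : ℕ∞) ≤ 1 := ht_two.trans this
    norm_num at this
  rw [Set.not_subset] at hnot
  obtain ⟨g, hgt, hgV⟩ := hnot
  have hgV' : ∀ w ∈ (Ideal.span {h} : Ideal D).minimalPrimes, g ∉ w := by
    intro w hw hgw
    apply hgV
    simp only [Set.mem_iUnion, SetLike.mem_coe, exists_prop]
    exact ⟨w, (hVmem w).mpr hw, hgw⟩
  -- `g ≠ 0`
  have hspan_le : (Ideal.span {h} : Ideal D) ≤ q := by
    rw [Ideal.span_singleton_le_iff_mem]; exact hhq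
  obtain ⟨w₀, hw₀, hw₀q⟩ := Ideal.exists_minimalPrimes_le hspan_le
  have hg0 : g ≠ 0 := by
    rintro rfl
    exact hgV' w₀ hw₀ (Ideal.zero_mem _)
  -- a minimal prime of `(g)` inside `t`
  have hgspan : (Ideal.span {g} : Ideal D) ≤ t := by
    rw [Ideal.span_singleton_le_iff_mem]; exact hgt
  obtain ⟨v, hv, hvt⟩ := Ideal.exists_minimalPrimes_le hgspan
  haveI hvp : v.IsPrime := hv.isPrime
  have hgv : g ∈ v := hv.1.2 (Ideal.mem_span_singleton_self g)
  have hv0 : v ≠ ⊥ := by
    rintro rfl
    exact hg0 (by simpa using hgv)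
  have hv1 : v.height ≤ 1 :=
    Ideal.height_le_one_of_isPrincipal_of_mem_minimalPrimes (Ideal.span {g}) v hv
  refine ⟨v, hvp, hv0, hvt, ?_⟩
  intro hhv
  have hspan_v : (Ideal.span {h} : Ideal D) ≤ v := by
    rw [Ideal.span_singleton_le_iff_mem]; exact hhv
  obtain ⟨w, hw, hwv⟩ := Ideal.exists_minimalPrimes_le hspan_v
  haveI : w.IsPrime := hw.isPrime
  have hw0 : w ≠ ⊥ := by
    rintro rfl
    have : h ∈ (⊥ : Ideal D) := hw.1.2 (Ideal.mem_span_singleton_self h)
    exact hh (by simpa using this)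
  have hwv_eq : w = v := by
    by_contra hne
    have hlt : w < v := lt_of_le_of_ne hwv hne
    have h1 : (⊥ : Ideal D).height < w.height :=
      Ideal.height_strict_mono_of_isPrime_of_isPrime (bot_lt_iff_ne_bot.mpr hw0)
    have h2 : w.height < v.height := Ideal.height_strict_mono_of_isPrime_of_isPrime hlt
    have h3 : (1 : ℕ∞) ≤ w.height := by
      rw [Order.one_le_iff_ne_zero]
      exact (lt_of_le_of_lt bot_le h1).ne'
    have h4 : w.height + 1 ≤ v.height := Order.add_one_le_of_lt h2
    have h5 : (2 : ℕ∞) ≤ 1 := by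
      calc (2 : ℕ∞) = 1 + 1 := by norm_num
        _ ≤ w.height + 1 := by gcongr
        _ ≤ v.height := h4
        _ ≤ 1 := hv1
    norm_num at h5
  exact hgV' w hw (hwv_eq ▸ hgv)

end Groth.Agent.Helper9.PQF20
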