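import Mathlib
import Groth.Agent.Helper1.AssTensor

/-!
# Associated primes of a module which is free over a Noetherian local base meet the closed fibre
-/

set_option autoImplicit false
universe u

namespace Groth.Agent.Helper9.PQF21

open IsLocalRing

variable {D S N : Type u} [CommRing D] [IsNoetherianRing D] [IsLocalRing D]
  [CommRing S] [Algebra D S] [AddCommGroup N] [Module S N] [Module D N] [IsScalarTower D S N]

/-- coordinates of an element of `I • N` with respect to a basis lie in `I`. -/
theorem repr_mem_of_mem_smul_top {ι : Type*} (b : Module.Basis ι D N) (I : Ideal D) (x : N)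
    (hx : x ∈ (I • ⊤ : Submodule D N)) (i : ι) : b.repr x i ∈ I := by
  rw [← b.span_eq, Submodule.mem_ideal_smul_span_iff_exists_sum] at hx
  obtain ⟨a, ha, rfl⟩ := hx
  have : b.repr (a.sum fun i c => c • b i) = a := by
    have h1 : (a.sum fun i c => c • b i) = Finsupp.linearCombination D b a := by
      rw [Finsupp.linearCombination_apply]
    rw [h1, b.repr_linearCombination]
  rw [this]
  exact ha i

/-- Let `D` be a Noetherian local ring, `S` a `D`-algebra and `N` an `S`-module which is free as a
`D`-module. Every associated prime of the `S`-module `N` is contained in a prime of `S` lying over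
the maximal ideal of `D`. -/
theorem exists_prime_over_of_free [Module.Free D N] (P : Ideal S) (hP : P ∈ associatedPrimes S N) :
    ∃ P' : Ideal S, P'.IsPrime ∧ P ≤ P' ∧ P'.LiesOver (maximalIdeal D) := by
  classical
  obtain ⟨hprime, x, hx⟩ := hP
  by_contra hcon
  push Not at hcon
  set mS : Ideal S := (maximalIdeal D).map (algebraMap D S) with hmS
  -- `P ⊔ mS = ⊤`
  have htop : P ⊔ mS = ⊤ := by
    by_contra hne
    obtain ⟨M, hM, hle⟩ := Ideal.exists_le_maximal _ hne
    haveI := hM.isPrime
    refine hcon M hM.isPrime (le_sup_left.trans hle) ⟨?_⟩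
    have h1 : maximalIdeal D ≤ M.comap (algebraMap D S) := by
      rw [← Ideal.map_le_iff_le_comap]
      exact le_sup_right.trans hle
    have h2 : M.comap (algebraMap D S) ≤ maximalIdeal D :=
      IsLocalRing.le_maximalIdeal (Ideal.comap_ne_top _ hM.ne_top)
    exact le_antisymm h1 h2
  have h1mem : (1 : S) ∈ P ⊔ mS := by rw [htop]; trivial
  obtain ⟨π, hπ, τ, hτ, hsum⟩ := Submodule.mem_sup.mp h1mem
  -- a power of `π` kills `x`
  have hπ' : π ∈ (Submodule.colon (⊥ : Submodule S N) {x}).radical := by rw [← hx]; exact hπ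
  obtain ⟨k, hk⟩ := hπ'
  rw [Submodule.mem_colon_singleton, Submodule.mem_bot] at hk
  -- `1 - π ^ k ∈ mS`
  have hτ' : 1 - π ^ k ∈ mS := by
    have hπeq : π = 1 - τ := by rw [← hsum]; ring
    rw [← Ideal.Quotient.eq_zero_iff_mem, map_sub, map_one, map_pow, hπeq, map_sub, map_one,
      Ideal.Quotient.eq_zero_iff_mem.mpr hτ, sub_zero, one_pow, sub_self]
  have hxfix : (1 - π ^ k) • x = x := by rw [sub_smul, one_smul, hk, sub_zero]
  -- hence `x ∈ mS ^ n • ⊤` for all `n`
  have hxn : ∀ n : ℕ, x ∈ (mS ^ n • ⊤ : Submodule S N) := by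
    intro n
    induction n with
    | zero => simp
    | succ n ih =>
      rw [← hxfix, pow_succ', Submodule.mul_smul]
      exact Submodule.smul_mem_smul hτ' ih
  have hxn' : ∀ n : ℕ, x ∈ ((maximalIdeal D) ^ n • ⊤ : Submodule D N) := by
    intro n
    have := hxn n
    rw [hmS, ← Ideal.map_pow, Groth.Agent.Helper1.AssTensor.mem_map_smul_top_iff] at this
    exact this
  -- so `x = 0`
  let b := Module.Free.chooseBasis D N
  have hx0 : x = 0 := by
    apply b.repr.injective
    ext i
    rw [map_zero, Finsupp.zero_apply]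
    have hmem : b.repr x i ∈ ⨅ n : ℕ, (maximalIdeal D) ^ n := by
      rw [Ideal.mem_iInf]
      intro n
      exact repr_mem_of_mem_smul_top b _ x (hxn' n) i
    rw [Ideal.iInf_pow_eq_bot_of_isLocalRing (maximalIdeal D) Ideal.IsPrime.ne_top'] at hmem
    simpa using hmem
  apply hprime.ne_top
  rw [hx, hx0, Ideal.radical_eq_top, Ideal.eq_top_iff_one, Submodule.mem_colon_singleton]
  simp

end Groth.Agent.Helper9.PQF21
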