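import Mathlib
import Groth.Agent.Helper8.GenFree6

/-!
# Spreading an associated prime lying over the generic point to the fibres over an open set

Let `D` be a Noetherian domain, `S` a finite type `D`-algebra, `N` a finite `S`-module and `P` an
associated prime of `N` lying over `0`.  By generic freeness there is `h ≠ 0` in `D` such that for
every prime `v` of `D` not containing `h` some associated prime (over `S`) of `N ⊗ κ(v)` contains
`P` and lies over `v`.
-/

set_option autoImplicit false
universe u
open TensorProduct

namespace Groth.Agent.Helper9.PQF22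

open Groth.Agent.Helper8.GenFree

section Free

variable {R : Type*} [CommRing R] {M : Type*} [AddCommGroup M] [Module R M]

/-- freeness of a localized module from `GFat`, for any localization inverting `f`. -/
theorem free_of_gfat {f : R} (h : GFat R M f) (T : Submonoid R) (hfT : f ∈ T) (Rf : Type*)
    [CommRing Rf] [Algebra R Rf] [IsLocalization T Rf] (Mf : Type*) [AddCommGroup Mf] [Module R Mf]
    [Module Rf Mf] [IsScalarTower R Rf Mf] (φ : M →ₗ[R] Mf)
    [IsLocalizedModule T φ] : Module.Free Rf Mf := by
  obtain ⟨s, hs, hsp⟩ := h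
  have hli : LinearIndependent Rf (φ ∘ (fun x : s => (x : M))) :=
    LinearIndependent.of_isLocalizedModule Rf T φ hs
  have hspan : ⊤ ≤ Submodule.span Rf (Set.range (φ ∘ (fun x : s => (x : M)))) := by
    rintro y -
    obtain ⟨⟨m, t⟩, ht⟩ := IsLocalizedModule.surj T φ y
    obtain ⟨n, hn⟩ := hsp m
    have h1 : φ (f ^ n • m) ∈ Submodule.span Rf (Set.range (φ ∘ (fun x : s => (x : M)))) := by
      have h2 : Submodule.span R s ≤ ((Submodule.span Rf
          (Set.range (φ ∘ (fun x : s => (x : M))))).restrictScalars R).comap φ := by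
        rw [Submodule.span_le]
        intro x hx
        exact Submodule.subset_span ⟨⟨x, hx⟩, rfl⟩
      exact h2 hn
    have h3 : (algebraMap R Rf (f ^ n * t)) • y ∈
        Submodule.span Rf (Set.range (φ ∘ (fun x : s => (x : M)))) := by
      have : (algebraMap R Rf (f ^ n * t)) • y = φ (f ^ n • m) := by
        rw [algebraMap_smul, mul_smul, map_smul, ← ht]; rfl
      rw [this]; exact h1
    have hu : IsUnit (algebraMap R Rf (f ^ n * t)) := by
      rw [map_mul]
      refine IsUnit.mul ?_ (IsLocalization.map_units Rf t)
      exact IsLocalization.map_units Rf (⟨f ^ n, T.pow_mem hfT n⟩ : T)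
    exact (Submodule.smul_mem_iff_of_isUnit _ hu).mp h3
  exact Module.Free.of_basis (Module.Basis.mk hli hspan)

end Free

section Inj

variable {D : Type u} [CommRing D] (v : Ideal D) [v.IsPrime]
  {M₁ M₂ Q : Type u} [AddCommGroup M₁] [Module D M₁] [AddCommGroup M₂] [Module D M₂]
  [AddCommGroup Q] [Module D Q]

/-- If the cokernel of an injective map becomes flat after localizing at `v`, the map stays
injective after tensoring with the residue field at `v`. -/
theorem lTensor_residueField_injective (i : M₁ →ₗ[D] M₂) (π : M₂ →ₗ[D] Q)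
    (hi : Function.Injective i) (hπ : Function.Surjective π) (hex : Function.Exact i π)
    [Module.Flat (Localization.AtPrime v) (Localization.AtPrime v ⊗[D] Q)] :
    Function.Injective (i.lTensor v.ResidueField) := by
  set L := Localization.AtPrime v with hL
  set K := v.ResidueField with hK
  have hinjL : Function.Injective (i.baseChange L) := by
    rw [LinearMap.baseChange_eq_ltensor]
    exact Module.Flat.lTensor_preserves_injective_linearMap i hi
  have hsurjL : Function.Surjective (π.baseChange L) := by
    rw [LinearMap.baseChange_eq_ltensor]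
    exact LinearMap.lTensor_surjective L hπ
  have hexL : Function.Exact (i.baseChange L) (π.baseChange L) := by
    rw [LinearMap.baseChange_eq_ltensor, LinearMap.baseChange_eq_ltensor]
    exact lTensor_exact L hex hπ
  have h1 : Function.Injective ((i.baseChange L).lTensor K) :=
    LinearMap.lTensor_injective_of_exact_of_flat (π.baseChange L) hsurjL (i.baseChange L) hinjL
      hexL K
  let e₁ := TensorProduct.AlgebraTensorModule.cancelBaseChange D L K K M₁
  let e₂ := TensorProduct.AlgebraTensorModule.cancelBaseChange D L K K M₂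
  have hsq : ∀ z : K ⊗[L] (L ⊗[D] M₁),
      e₂ ((i.baseChange L).lTensor K z) = i.lTensor K (e₁ z) := by
    intro z
    induction z using TensorProduct.induction_on with
    | zero => simp
    | add x y hx hy => simp only [map_add, hx, hy]
    | tmul k y =>
      induction y using TensorProduct.induction_on with
      | zero => simp
      | add x y hx hy =>
        simp only [TensorProduct.tmul_add, map_add] at hx hy ⊢
        rw [hx, hy]
      | tmul a m =>
        simp only [e₁, e₂, LinearMap.lTensor_tmul, LinearMap.baseChange_tmul,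
          TensorProduct.AlgebraTensorModule.cancelBaseChange_tmul]
  intro x y hxy
  have hx : x = e₁ (e₁.symm x) := (e₁.apply_symm_apply x).symm
  have hy : y = e₁ (e₁.symm y) := (e₁.apply_symm_apply y).symm
  rw [hx, hy, ← hsq, ← hsq] at hxy
  have := h1 (e₂.injective hxy)
  rw [hx, hy, this]

end Inj

section Under

variable {D S : Type u} [CommRing D] [CommRing S] [Algebra D S] (v : Ideal D) [v.IsPrime]
  (M : Type u) [AddCommGroup M] [Module S M] [Module D M] [IsScalarTower D S M]

/-- an associated prime (over `S`) of `M ⊗ κ(v)` lies over `v`. -/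
theorem under_eq_of_mem_associatedPrimes (q : Ideal S)
    (h : q ∈ associatedPrimes S (M ⊗[D] v.ResidueField)) : q.under D = v := by
  obtain ⟨hprime, ξ, hξ⟩ := h
  have hξ0 : ξ ≠ 0 := by
    rintro rfl
    apply hprime.ne_top
    rw [hξ, Ideal.radical_eq_top, Ideal.eq_top_iff_one, Submodule.mem_colon_singleton]
    simp
  have hsm : ∀ (d : D) (ζ : M ⊗[D] v.ResidueField), algebraMap D S d • ζ = d • ζ := fun d ζ =>
    algebraMap_smul S d ζ
  have hact : ∀ (d : D) (ζ : M ⊗[D] v.ResidueField),
      d • ζ = (LinearMap.lsmul D v.ResidueField d).lTensor M ζ := by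
    intro d ζ
    induction ζ using TensorProduct.induction_on with
    | zero => simp
    | add x y hx hy => rw [smul_add, map_add, hx, hy]
    | tmul m k =>
      rw [LinearMap.lTensor_tmul, LinearMap.lsmul_apply, TensorProduct.smul_tmul',
        TensorProduct.smul_tmul]
  apply le_antisymm
  · intro d hd
    by_contra hdv
    rw [Ideal.under_def, Ideal.mem_comap, hξ] at hd
    obtain ⟨k, hk⟩ := hd
    rw [Submodule.mem_colon_singleton, Submodule.mem_bot, ← map_pow, hsm] at hk
    have hdk : d ^ k ∉ v := fun h' => hdv (Ideal.IsPrime.mem_of_pow_mem inferInstance k h')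
    have hne : algebraMap D v.ResidueField (d ^ k) ≠ 0 := by
      rw [Ne, Ideal.algebraMap_residueField_eq_zero]
      exact hdk
    -- multiplication by the inverse
    set u : v.ResidueField := (algebraMap D v.ResidueField (d ^ k))⁻¹ with hu
    let ψ : M ⊗[D] v.ResidueField →ₗ[D] M ⊗[D] v.ResidueField :=
      (LinearMap.lsmul v.ResidueField v.ResidueField u |>.restrictScalars D).lTensor M
    have hψ : ∀ ζ : M ⊗[D] v.ResidueField, ψ (d ^ k • ζ) = ζ := by
      intro ζ
      induction ζ using TensorProduct.induction_on with
      | zero => simp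
      | add x y hx hy => rw [smul_add, map_add, hx, hy]
      | tmul m κ =>
        rw [TensorProduct.smul_tmul', TensorProduct.smul_tmul]
        simp only [ψ, LinearMap.lTensor_tmul, LinearMap.coe_restrictScalars, LinearMap.lsmul_apply]
        rw [smul_eq_mul, Algebra.smul_def (d ^ k) κ, ← mul_assoc, hu,
          inv_mul_cancel₀ hne, one_mul]
    apply hξ0
    rw [← hψ ξ, hk, map_zero]
  · intro d hd
    rw [Ideal.under_def, Ideal.mem_comap, hξ]
    refine Ideal.le_radical ?_
    rw [Submodule.mem_colon_singleton, Submodule.mem_bot, hsm, hact]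
    have : LinearMap.lsmul D v.ResidueField d = 0 := by
      ext κ
      simp only [LinearMap.lsmul_apply, LinearMap.zero_apply]
      rw [Algebra.smul_def, Ideal.algebraMap_residueField_eq_zero.mpr hd, zero_mul]
    rw [this, LinearMap.lTensor_zero, LinearMap.zero_apply]

end Under

section Spread

variable {D S N : Type u} [CommRing D] [IsDomain D] [IsNoetherianRing D] [CommRing S] [Algebra D S]
  [Algebra.FiniteType D S] [AddCommGroup N] [Module S N] [Module D N] [IsScalarTower D S N]
  [Module.Finite S N]

/-- Spreading an associated prime over the generic point: there is `h ≠ 0` such that over every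
prime `v` of `D` not containing `h`, some associated prime of `N ⊗ κ(v)` contains `P` and lies
over `v`. -/
theorem exists_spread (P : Ideal S) [P.IsPrime] [hPo : P.LiesOver (⊥ : Ideal D)]
    (hP : P ∈ associatedPrimes S N) :
    ∃ h : D, h ≠ 0 ∧ ∀ (v : Ideal D) [v.IsPrime], h ∉ v →
      ∃ (q : Ideal S) (_ : q.IsPrime) (_ : q.LiesOver v), P ≤ q ∧
        q ∈ associatedPrimes S (N ⊗[D] v.ResidueField) := by
  classical
  haveI : IsNoetherianRing S := Algebra.FiniteType.isNoetherianRing D S
  obtain ⟨-, i, hi⟩ := (isAssociatedPrime_iff_exists_injective_linearMap P N).mp hP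
  -- the cokernel
  let Q := N ⧸ LinearMap.range i
  let π : N →ₗ[S] Q := (LinearMap.range i).mkQ
  have hπ : Function.Surjective π := Submodule.mkQ_surjective _
  have hex : Function.Exact i π := LinearMap.exact_map_mkQ_range i
  obtain ⟨f₁, hf₁, hg₁⟩ := genericFreeness D S Q
  obtain ⟨f₂, hf₂, hg₂⟩ := genericFreeness D S (S ⧸ P)
  refine ⟨f₁ * f₂, mul_ne_zero hf₁ hf₂, ?_⟩
  intro v _ hv
  have hf₁v : f₁ ∈ v.primeCompl := fun h => hv (Ideal.mul_mem_right _ _ h)
  have hf₂v : f₂ ∈ v.primeCompl := fun h => hv (Ideal.mul_mem_left _ _ h)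
  set L := Localization.AtPrime v with hL
  set K := v.ResidueField with hK
  haveI hfreeQ : Module.Free L (L ⊗[D] Q) :=
    free_of_gfat hg₁ v.primeCompl hf₁v L (L ⊗[D] Q) (TensorProduct.mk D L Q 1)
  haveI hfreeSP : Module.Free L (L ⊗[D] (S ⧸ P)) :=
    free_of_gfat hg₂ v.primeCompl hf₂v L (L ⊗[D] (S ⧸ P)) (TensorProduct.mk D L (S ⧸ P) 1)
  -- injectivity after tensoring with the residue field
  have hinjK : Function.Injective ((i.restrictScalars D).lTensor K) :=
    lTensor_residueField_injective v (i.restrictScalars D) (π.restrictScalars D) hi hπ hex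
  -- nontriviality of the fibre of `S ⧸ P`
  have hnt : Nontrivial (K ⊗[D] (S ⧸ P)) := by
    have hinjD : Function.Injective (Algebra.linearMap D (S ⧸ P)) := by
      intro a b hab
      have h0 : algebraMap D (S ⧸ P) (a - b) = 0 := by
        rw [map_sub]; exact sub_eq_zero.mpr hab
      rw [IsScalarTower.algebraMap_apply D S (S ⧸ P), Ideal.Quotient.algebraMap_eq,
        Ideal.Quotient.eq_zero_iff_mem] at h0
      have h1 : a - b ∈ P.under D := h0
      rw [← hPo.over] at h1
      exact sub_eq_zero.mp (by simpa using h1)
    have hinjL : Function.Injective ((Algebra.linearMap D (S ⧸ P)).lTensor L) :=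
      Module.Flat.lTensor_preserves_injective_linearMap _ hinjD
    haveI : Nontrivial (L ⊗[D] D) := (TensorProduct.rid D L).toEquiv.nontrivial
    haveI : Nontrivial (L ⊗[D] (S ⧸ P)) := hinjL.nontrivial
    haveI : Nontrivial (K ⊗[L] (L ⊗[D] (S ⧸ P))) := inferInstance
    exact (TensorProduct.AlgebraTensorModule.cancelBaseChange D L K K (S ⧸ P)).symm.toEquiv.nontrivial
  -- pass to `· ⊗ K` with the `S`-module structure on the left
  let j : (S ⧸ P) ⊗[D] K →ₗ[S] N ⊗[D] K :=
    TensorProduct.AlgebraTensorModule.map i (LinearMap.id (R := D) (M := K))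
  have hj : Function.Injective j := by
    have hj' : ∀ z, j z = (TensorProduct.comm D K N)
        (((i.restrictScalars D).lTensor K) ((TensorProduct.comm D (S ⧸ P) K) z)) := by
      intro z
      induction z using TensorProduct.induction_on with
      | zero => simp
      | add x y hx hy => simp only [map_add, hx, hy]
      | tmul x k => simp [j]
    intro x y hxy
    rw [hj', hj'] at hxy
    exact (TensorProduct.comm D (S ⧸ P) K).injective
      (hinjK ((TensorProduct.comm D K N).injective hxy))
  haveI : Nontrivial ((S ⧸ P) ⊗[D] K) := (TensorProduct.comm D (S ⧸ P) K).toEquiv.nontrivial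
  obtain ⟨q, hq⟩ := associatedPrimes.nonempty S ((S ⧸ P) ⊗[D] K)
  haveI hqp : q.IsPrime := hq.isPrime
  have hq' : q ∈ associatedPrimes S (N ⊗[D] K) := associatedPrimes.subset_of_injective hj hq
  refine ⟨q, hqp, ⟨(under_eq_of_mem_associatedPrimes v N q hq').symm⟩, ?_, hq'⟩
  -- `P ≤ q`
  refine le_trans ?_ hq.annihilator_le
  intro s hs
  rw [Submodule.mem_annihilator]
  have key : ∀ z : (S ⧸ P) ⊗[D] K, s • z = 0 := by
    intro z
    induction z using TensorProduct.induction_on with
    | zero => simp
    | add x y hx hy => rw [smul_add, hx, hy, add_zero]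
    | tmul x k =>
      obtain ⟨x, rfl⟩ := Ideal.Quotient.mk_surjective x
      rw [TensorProduct.smul_tmul']
      have : s • (Ideal.Quotient.mk P x) = 0 := by
        rw [← Ideal.Quotient.mk_eq_mk, ← Submodule.Quotient.mk_smul, smul_eq_mul]
        exact (Submodule.Quotient.mk_eq_zero _).mpr (Ideal.mul_mem_right _ _ hs)
      rw [this, TensorProduct.zero_tmul]
  exact fun z _ => key z

end Spread

end Groth.Agent.Helper9.PQF22
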