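import Mathlib
import Groth.Prelude.Def_FlatCA
import Groth.Agent.Helper5.FlatAss1
import Groth.Agent.Helper9.PQF4
import Groth.Agent.Helper9.PQF5
import Groth.Agent.Helper9.PQF6
import Groth.Agent.Helper9.PQF10
import Groth.Agent.Helper9.PQF18
import Groth.Agent.Helper9.PQF20
import Groth.Agent.Helper9.PQF21
import Groth.Agent.Helper9.PQF22

/-!
# Moving the generic point of an impurity over a Noetherian domain
-/

set_option autoImplicit false
universe u
open TensorProduct

namespace Groth.Agent.Helper9.PQF23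

attribute [local instance] Algebra.TensorProduct.rightAlgebra

section Generic

variable {D S : Type u} [CommRing D] [IsDomain D] [CommRing S] [Algebra D S]

/-- the generic fibre ring is flat over the algebra. -/
theorem flat_fiber_bot : Module.Flat S ((⊥ : Ideal D).Fiber S) := by
  let κ := (⊥ : Ideal D).ResidueField
  haveI : Module.Flat D κ := IsLocalization.flat κ (nonZeroDivisors D)
  let e0 : κ ⊗[D] S ≃+* S ⊗[D] κ := (Algebra.TensorProduct.comm D κ S).toRingEquiv
  have he0 : ∀ x : S, e0 (algebraMap S (κ ⊗[D] S) x) = x ⊗ₜ 1 := by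
    intro x
    show e0 ((1 : κ) ⊗ₜ[D] x) = x ⊗ₜ 1
    simp [e0]
  let e : (κ ⊗[D] S) ≃ₗ[S] S ⊗[D] κ :=
    { e0.toAddEquiv with
      map_smul' := by
        intro x y
        show e0 (x • y) = x • e0 y
        rw [Algebra.smul_def, map_mul, he0]
        exact (Algebra.smul_def x (e0 y)).symm }
  exact Module.Flat.of_linearEquiv e

variable [IsNoetherianRing S] {N : Type u} [AddCommGroup N] [Module S N] [Module D N]
  [IsScalarTower D S N]

/-- an associated point of the generic fibre module is an associated prime of the module. -/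
theorem mem_associatedPrimes_of_fiber_bot (P : Ideal S) [P.IsPrime] [P.LiesOver (⊥ : Ideal D)]
    (h : FlatCA.fiberIdeal (⊥ : Ideal D) P ∈
      associatedPrimes ((⊥ : Ideal D).Fiber S) (FlatCA.fiberMod (⊥ : Ideal D) S N)) :
    P ∈ associatedPrimes S N := by
  haveI := flat_fiber_bot (D := D) (S := S)
  have h1 := Groth.Agent.Helper9.PQF5.comap_mem_associatedPrimes (F := S)
    (F'' := (⊥ : Ideal D).Fiber S) N (FlatCA.fiberIdeal (⊥ : Ideal D) P) h
  rwa [Groth.Agent.Helper9.PQF4.comap_fiberIdeal] at h1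

end Generic

section Step

variable {A B : Type u} [CommRing A] [CommRing B] [Algebra A B] [Algebra.FiniteType A B]
  {N : Type u} [AddCommGroup N] [Module B N] [Module.Finite B N] (p : Ideal A) [p.IsPrime]
  {D B' N' : Type u} [CommRing D] [IsDomain D] [IsNoetherianRing D] [CommRing B'] [Algebra A D]
  [Algebra B B'] [Algebra D B'] [Algebra A B'] [IsScalarTower A B B'] [IsScalarTower A D B']
  [AddCommGroup N'] [Module B' N'] [Module B N'] [IsScalarTower B B' N'] [Module D N']
  [IsScalarTower D B' N']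
  (f : N →ₗ[B] N') (t : Ideal D) [t.IsPrime] (P : Ideal B') [P.IsPrime]

/-- Over a Noetherian domain, an impurity based at the generic point can be moved to a nonzero
prime, provided the point `t` has height at least two. -/
theorem exists_isImpurity_above_bot (himp : FlatCA.IsImpurity A B N p D B' N' f ⊥ t P)
    (q : Ideal D) [q.IsPrime] (hq0 : q ≠ ⊥) (hqt : q < t) :
    ∃ (v : Ideal D) (_ : v.IsPrime) (Q : Ideal B') (_ : Q.IsPrime), v ≠ ⊥ ∧
      FlatCA.IsImpurity A B N p D B' N' f v t Q := by
  obtain ⟨hpo, hf, hle, htp, hPo, hass, hno⟩ := himp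
  haveI : Algebra.FiniteType D B' := Groth.Agent.Helper9.PQF6.finiteType_of_isPushout hpo
  haveI : IsNoetherianRing B' := Algebra.FiniteType.isNoetherianRing D B'
  haveI : Module.Finite B' N' := Module.Finite.equiv hf.equiv
  haveI := hPo
  have hPass : P ∈ associatedPrimes B' N' := mem_associatedPrimes_of_fiber_bot (D := D) P hass
  obtain ⟨h, hh, hsp⟩ := Groth.Agent.Helper9.PQF22.exists_spread (D := D) P hPass
  obtain ⟨v, hvp, hv0, hvt, hhv⟩ :=
    Groth.Agent.Helper9.PQF20.exists_prime_avoiding t q hq0 hqt h hh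
  obtain ⟨Q, hQp, hQo, hPQ, hQass⟩ := hsp v hhv
  refine ⟨v, hvp, Q, hQp, hv0, hpo, hf, hvt, htp, hQo, ?_, ?_⟩
  · apply Groth.Agent.Helper5.FlatAss.fiberIdeal_mem_associatedPrimes v N' Q
    rw [LinearEquiv.AssociatedPrimes.eq (Groth.Agent.Helper5.FlatAss.fiberModEquiv v N')]
    exact hQass
  · intro P' _ hQP' hP't
    exact hno P' (hPQ.trans hQP') hP't

/-- There is no impurity above `p` whose generic point lies over `p`. -/
theorem false_of_isImpurity_of_map_eq_bot [Module A N] [IsScalarTower A B N] (himp : FlatCA.IsImpurity A B N p D B' N' f ⊥ t P)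
    (hp0 : p.map (algebraMap A D) = ⊥) : False := by
  classical
  have htp : t.LiesOver p := himp.2.2.2.1
  set L := Localization.AtPrime t with hL
  obtain ⟨B₂, N₂, _, _, _, _, _, _, _, _, _, _, _, _, f₂, hpo₂, hf₂⟩ :=
    Groth.Agent.Helper9.PQF10.exists_model A B N L
  letI : Algebra D B₂ := ((algebraMap L B₂).comp (algebraMap D L)).toAlgebra
  haveI : IsScalarTower D L B₂ := IsScalarTower.of_algebraMap_eq (fun _ => rfl)
  have hinj : Function.Injective (algebraMap D L) :=
    IsLocalization.injective L t.primeCompl_le_nonZeroDivisors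
  haveI hbb : (⊥ : Ideal L).LiesOver (⊥ : Ideal D) := ⟨by
    rw [Ideal.under_def, Ideal.comap_bot_of_injective _ hinj]⟩
  haveI hmt : (IsLocalRing.maximalIdeal L).LiesOver t :=
    ⟨(Localization.AtPrime.under_maximalIdeal (I := t)).symm⟩
  haveI hmp : (IsLocalRing.maximalIdeal L).LiesOver p := Ideal.LiesOver.trans _ t p
  obtain ⟨P₂, hP₂p, himp₂⟩ := Groth.Agent.Helper9.PQF18.exists_isImpurity_of_dominating p f
    (⊥ : Ideal D) t P hpo₂ f₂ hf₂ (⊥ : Ideal L) (IsLocalRing.maximalIdeal L) himp bot_le hbb hmt hmp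
  obtain ⟨-, -, -, -, hP₂o, hass₂, hno₂⟩ := himp₂
  haveI : Algebra.FiniteType L B₂ := Groth.Agent.Helper9.PQF6.finiteType_of_isPushout hpo₂
  haveI : IsNoetherianRing B₂ := Algebra.FiniteType.isNoetherianRing L B₂
  haveI := hP₂o
  have hPass : P₂ ∈ associatedPrimes B₂ N₂ :=
    mem_associatedPrimes_of_fiber_bot (D := L) P₂ hass₂
  -- `L` is an algebra over the residue field of `p`
  have hf₁ : p ≤ RingHom.ker (algebraMap A L) := by
    intro a ha
    rw [RingHom.mem_ker, IsScalarTower.algebraMap_apply A D L]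
    have : algebraMap A D a ∈ p.map (algebraMap A D) := Ideal.mem_map_of_mem _ ha
    rw [hp0, Ideal.mem_bot] at this
    rw [this, map_zero]
  have hf₂' : p.primeCompl ≤ (IsUnit.submonoid L).comap (algebraMap A L) := by
    intro a ha
    rw [Submonoid.mem_comap, IsUnit.mem_submonoid_iff, IsScalarTower.algebraMap_apply A D L]
    have hat : algebraMap A D a ∉ t := by
      intro h
      apply ha
      rw [htp.over]
      exact h
    exact IsLocalization.map_units L (⟨algebraMap A D a, hat⟩ : t.primeCompl)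
  letI : Algebra p.ResidueField L :=
    (Ideal.ResidueField.lift p (algebraMap A L) hf₁ hf₂').toAlgebra
  haveI : IsScalarTower A p.ResidueField L := IsScalarTower.of_algebraMap_eq (fun a =>
    (Ideal.ResidueField.lift_algebraMap p (algebraMap A L) hf₁ hf₂' a).symm)
  haveI hpo₂' : Algebra.IsPushout A L B B₂ := hpo₂.symm
  let e : N₂ ≃ₗ[L] L ⊗[p.ResidueField] (p.ResidueField ⊗[A] N) :=
    (hf₂.equiv.symm.restrictScalars L) ≪≫ₗ
      (Algebra.IsPushout.cancelBaseChange A L B B₂ N) ≪≫ₗ
      (TensorProduct.AlgebraTensorModule.cancelBaseChange A p.ResidueField L L N).symm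
  haveI : Module.Free L N₂ := Module.Free.of_equiv e.symm
  obtain ⟨P', hP'p, hP₂P', hP'o⟩ :=
    Groth.Agent.Helper9.PQF21.exists_prime_over_of_free (D := L) (S := B₂) (N := N₂) P₂ hPass
  exact hno₂ P' hP₂P' hP'o

end Step

end Groth.Agent.Helper9.PQF23
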