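import Mathlib
import Groth.Prelude.Def_FlatCA
import Groth.Agent.Helper9.PQF6
import Groth.Agent.Helper9.PQF7
import Groth.Agent.Helper9.PQF10
import Groth.Agent.Helper9.PQF18
import Groth.Agent.Helper9.PQF23

/-!
# The induction step: enlarging the generic point of an impurity over a Noetherian base
-/

set_option autoImplicit false
universe u
open TensorProduct

namespace Groth.Agent.Helper9.PQF24

section Surj

variable {A₁ B₁ D B_D : Type u} [CommRing A₁] [CommRing B₁] [CommRing D] [CommRing B_D]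
  [Algebra A₁ B₁] [Algebra A₁ D] [Algebra B₁ B_D] [Algebra D B_D] [Algebra A₁ B_D]
  [IsScalarTower A₁ B₁ B_D] [IsScalarTower A₁ D B_D]

/-- the base change of a surjective ring map is surjective. -/
theorem surjective_of_isPushout (hpo : Algebra.IsPushout A₁ B₁ D B_D)
    (hs : Function.Surjective (algebraMap A₁ D)) : Function.Surjective (algebraMap B₁ B_D) := by
  have hbc : IsBaseChange B₁ (IsScalarTower.toAlgHom A₁ D B_D).toLinearMap := hpo.out
  intro x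
  refine hbc.inductionOn x (fun x => ∃ y, algebraMap B₁ B_D y = x) ⟨0, map_zero _⟩ ?_ ?_ ?_
  · intro d
    obtain ⟨a, rfl⟩ := hs d
    refine ⟨algebraMap A₁ B₁ a, ?_⟩
    show _ = algebraMap D B_D (algebraMap A₁ D a)
    rw [← IsScalarTower.algebraMap_apply, ← IsScalarTower.algebraMap_apply]
  · rintro b n ⟨y, rfl⟩
    exact ⟨b * y, by rw [map_mul, Algebra.smul_def]⟩
  · rintro n₁ n₂ ⟨y₁, rfl⟩ ⟨y₂, rfl⟩
    exact ⟨y₁ + y₂, map_add _ _ _⟩

end Surj

section Step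

variable {A B : Type u} [CommRing A] [CommRing B] [Algebra A B] [Algebra.FiniteType A B]
  {N : Type u} [AddCommGroup N] [Module B N] [Module.Finite B N] [Module A N] [IsScalarTower A B N]
  (p : Ideal A) [p.IsPrime]
  {A₁ B₁ N₁ : Type u} [CommRing A₁] [IsNoetherianRing A₁] [CommRing B₁] [Algebra A A₁]
  [Algebra B B₁] [Algebra A₁ B₁]
  [Algebra A B₁] [IsScalarTower A B B₁] [IsScalarTower A A₁ B₁]
  [AddCommGroup N₁] [Module B₁ N₁] [Module B N₁] [IsScalarTower B B₁ N₁]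
  [Module A₁ N₁] [IsScalarTower A₁ B₁ N₁]
  (f₁ : N →ₗ[B] N₁) (u t₁ : Ideal A₁) [u.IsPrime] [t₁.IsPrime] (P : Ideal B₁) [P.IsPrime]

/-- If `t₁` is not minimal over `u + p A₁`, the generic point `u` of an impurity can be enlarged. -/
theorem step (himp : FlatCA.IsImpurity A B N p A₁ B₁ N₁ f₁ u t₁ P)
    (hnot : t₁ ∉ (u ⊔ p.map (algebraMap A A₁)).minimalPrimes) :
    ∃ (u₁ : Ideal A₁) (_ : u₁.IsPrime) (P₁ : Ideal B₁) (_ : P₁.IsPrime), u < u₁ ∧
      FlatCA.IsImpurity A B N p A₁ B₁ N₁ f₁ u₁ t₁ P₁ := by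
  classical
  obtain ⟨hpo₁, hf₁, hle, htp, hPo, hass, hno⟩ := id himp
  haveI : Algebra.FiniteType A₁ B₁ := Groth.Agent.Helper9.PQF6.finiteType_of_isPushout hpo₁
  -- the quotient domain
  let D := A₁ ⧸ u
  haveI : IsDomain D := Ideal.Quotient.isDomain u
  have hmk : ∀ a, algebraMap A₁ D a = Ideal.Quotient.mk u a := fun _ => rfl
  have hsurj : Function.Surjective (algebraMap A₁ D) := Ideal.Quotient.mk_surjective
  obtain ⟨B_D, N_D, _, _, _, _, _, _, _, _, _, _, _, _, f_D, hpo_D, hf_D⟩ :=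
    Groth.Agent.Helper9.PQF10.exists_model A B N D
  letI : Algebra A₁ B_D := ((algebraMap D B_D).comp (algebraMap A₁ D)).toAlgebra
  haveI : IsScalarTower A₁ D B_D := IsScalarTower.of_algebraMap_eq (fun _ => rfl)
  -- the primes of `D`
  let t_D : Ideal D := t₁.map (algebraMap A₁ D)
  haveI ht_Dp : t_D.IsPrime := Ideal.isPrime_map_quotientMk_of_isPrime hle
  have hct : t_D.comap (algebraMap A₁ D) = t₁ := Ideal.comap_map_mk hle
  have hcb : (⊥ : Ideal D).comap (algebraMap A₁ D) = u := by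
    rw [← RingHom.ker_eq_comap_bot]
    exact Ideal.mk_ker
  haveI hbu : (⊥ : Ideal D).LiesOver u := ⟨hcb.symm⟩
  haveI htt : t_D.LiesOver t₁ := ⟨hct.symm⟩
  haveI htDp : t_D.LiesOver p := Ideal.LiesOver.trans t_D t₁ p
  obtain ⟨P_D, hP_Dp, himp_D⟩ := Groth.Agent.Helper9.PQF18.exists_isImpurity_of_dominating p f₁
    u t₁ P hpo_D f_D hf_D (⊥ : Ideal D) t_D himp bot_le hbu htt htDp
  -- a minimal prime below `t₁`
  have hpt : p.map (algebraMap A A₁) ≤ t₁ := by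
    rw [Ideal.map_le_iff_le_comap]
    exact le_of_eq htp.over
  obtain ⟨𝔮, h𝔮min, h𝔮t⟩ := Ideal.exists_minimalPrimes_le (J := t₁) (sup_le hle hpt)
  haveI h𝔮p : 𝔮.IsPrime := h𝔮min.1.1
  have hu𝔮 : u ≤ 𝔮 := le_sup_left.trans h𝔮min.1.2
  have hp𝔮 : p.map (algebraMap A A₁) ≤ 𝔮 := le_sup_right.trans h𝔮min.1.2
  have h𝔮ne : 𝔮 ≠ t₁ := fun h => hnot (h ▸ h𝔮min)
  by_cases hp0 : p.map (algebraMap A D) = ⊥
  · exact (Groth.Agent.Helper9.PQF23.false_of_isImpurity_of_map_eq_bot p f_D t_D P_D himp_D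
      hp0).elim
  -- the prime `𝔮` gives a nonzero prime strictly below `t_D`
  let 𝔮_D : Ideal D := 𝔮.map (algebraMap A₁ D)
  haveI h𝔮_Dp : 𝔮_D.IsPrime := Ideal.isPrime_map_quotientMk_of_isPrime hu𝔮
  have hc𝔮 : 𝔮_D.comap (algebraMap A₁ D) = 𝔮 := Ideal.comap_map_mk hu𝔮
  have h𝔮0 : 𝔮_D ≠ ⊥ := by
    intro h0
    apply hp0
    have h𝔮u : 𝔮 = u := by rw [← hc𝔮, h0, hcb]
    rw [eq_bot_iff, IsScalarTower.algebraMap_eq A A₁ D, ← Ideal.map_map]
    refine (Ideal.map_mono (h𝔮u ▸ hp𝔮)).trans (le_of_eq ?_)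
    exact Ideal.map_quotient_self u
  have h𝔮lt : 𝔮_D < t_D := by
    refine lt_of_le_of_ne (Ideal.map_mono h𝔮t) ?_
    intro h
    apply h𝔮ne
    rw [← hc𝔮, h, hct]
  obtain ⟨v, hvp, Q, hQp, hv0, himp_v⟩ :=
    Groth.Agent.Helper9.PQF23.exists_isImpurity_above_bot p f_D t_D P_D himp_D 𝔮_D h𝔮0 h𝔮lt
  obtain ⟨-, -, hvt, -, hQv, hassQ, hnoQ⟩ := himp_v
  -- descend to `A₁`
  obtain ⟨iB, tv1, tv2, mB₁N_D, tv3, g, hpo', hg, hgf⟩ :=
    Groth.Agent.Helper9.PQF7.exists_model_over hpo₁ f₁ hf₁ hpo_D f_D hf_D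
  have hφ : Function.Surjective (algebraMap B₁ B_D) := surjective_of_isPushout hpo' hsurj
  let u₁ : Ideal A₁ := v.comap (algebraMap A₁ D)
  haveI hu₁p : u₁.IsPrime := Ideal.comap_isPrime _ _
  haveI hvu₁ : v.LiesOver u₁ := ⟨rfl⟩
  let P₁ : Ideal B₁ := Q.comap (algebraMap B₁ B_D)
  haveI hP₁p : P₁.IsPrime := Ideal.comap_isPrime _ _
  refine ⟨u₁, hu₁p, P₁, hP₁p, ?_, hpo₁, hf₁, ?_, htp, ?_, ?_, ?_⟩
  · refine lt_of_le_of_ne ?_ ?_
    · rw [← hcb]
      exact Ideal.comap_mono bot_le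
    · intro h
      apply hv0
      apply Ideal.comap_injective_of_surjective _ hsurj
      rw [hcb]
      exact h.symm
  · rw [← hct]
    exact Ideal.comap_mono hvt
  · exact Groth.Agent.Helper9.PQF6.liesOver_comap_of_tower (B' := B₁) u₁ v Q
  · exact Groth.Agent.Helper9.PQF6.down hpo' u₁ v g hg Q hassQ
  · intro P' hP'p hP₁P' hP't
    have hker : RingHom.ker (algebraMap B₁ B_D) ≤ P' := by
      refine le_trans ?_ hP₁P'
      rw [RingHom.ker_eq_comap_bot]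
      exact Ideal.comap_mono bot_le
    haveI hP''p : (P'.map (algebraMap B₁ B_D)).IsPrime :=
      Ideal.map_isPrime_of_surjective hφ hker
    have hcP : (P'.map (algebraMap B₁ B_D)).comap (algebraMap B₁ B_D) = P' := by
      rw [Ideal.comap_map_of_surjective _ hφ, ← RingHom.ker_eq_comap_bot]
      exact sup_eq_left.mpr hker
    refine hnoQ (P'.map (algebraMap B₁ B_D)) ?_ ⟨?_⟩
    · rw [← Ideal.map_comap_of_surjective _ hφ Q]
      exact Ideal.map_mono hP₁P'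
    · apply Ideal.comap_injective_of_surjective _ hsurj
      rw [hct, Ideal.under_def, Ideal.comap_comap, ← IsScalarTower.algebraMap_eq,
        IsScalarTower.algebraMap_eq A₁ B₁ B_D, ← Ideal.comap_comap, hcP]
      exact hP't.over

end Step

end Groth.Agent.Helper9.PQF24
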