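import Mathlib
import Groth.Prelude.Def_FlatCA
import Groth.Agent.Helper5.FlatAss1
import Groth.Agent.Helper9.PQF4
import Groth.Agent.Helper9.PQF6
import Groth.Agent.Helper9.PQF10
import Groth.Agent.Helper9.PQF18
import Groth.Agent.Helper9.PQF24

/-!
# Quasi-finite impurities over a Noetherian base
-/

set_option autoImplicit false
universe u
open TensorProduct

namespace Groth.Agent.Helper9.PQF25

attribute [local instance] Algebra.TensorProduct.rightAlgebra

section QF

variable {A A₁ : Type u} [CommRing A] [CommRing A₁] [Algebra A A₁] (p : Ideal A) [p.IsPrime]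

/-- the point of the fibre ring given by a prime over `p`, via the order isomorphism. -/
theorem orderIso_apply (t : Ideal A₁) [ht : t.IsPrime] [hto : t.LiesOver p] :
    PrimeSpectrum.primesOverOrderIsoFiber A A₁ p ⟨t, ht, hto⟩ =
      ⟨FlatCA.fiberIdeal p t, Groth.Agent.Helper5.FlatAss.isPrime_fiberIdeal p t⟩ := by
  apply (PrimeSpectrum.primesOverOrderIsoFiber A A₁ p).symm.injective
  rw [OrderIso.symm_apply_apply]
  apply Subtype.ext
  rw [PrimeSpectrum.coe_primesOverOrderIsoFiber_symm_apply]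
  exact (Groth.Agent.Helper9.PQF4.comap_fiberIdeal p t).symm

variable [Algebra.FiniteType A A₁]

/-- If `t₁` is minimal over `u + p A₁` and is a closed point of its fibre, then `A₁ ⧸ u` is
quasi-finite over `A` at the image of `t₁`. -/
theorem quasiFiniteAt_quotient (u t₁ : Ideal A₁) [u.IsPrime] [t₁.IsPrime] [t₁.LiesOver p]
    (hle : u ≤ t₁) (hmin : t₁ ∈ (u ⊔ p.map (algebraMap A A₁)).minimalPrimes)
    (hmax : (FlatCA.fiberIdeal p t₁).IsMaximal)
    [ht₂ : (t₁.map (algebraMap A₁ (A₁ ⧸ u))).IsPrime] :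
    Algebra.QuasiFiniteAt A (t₁.map (algebraMap A₁ (A₁ ⧸ u))) := by
  classical
  let A₂ := A₁ ⧸ u
  let t₂ : Ideal A₂ := t₁.map (algebraMap A₁ A₂)
  have hsurj : Function.Surjective (algebraMap A₁ A₂) := Ideal.Quotient.mk_surjective
  have hct : t₂.comap (algebraMap A₁ A₂) = t₁ := Ideal.comap_map_mk hle
  have hcb : (⊥ : Ideal A₂).comap (algebraMap A₁ A₂) = u := by
    rw [← RingHom.ker_eq_comap_bot]
    exact Ideal.mk_ker
  haveI htt : t₂.LiesOver t₁ := ⟨hct.symm⟩
  haveI ht₂o : t₂.LiesOver p := Ideal.LiesOver.trans t₂ t₁ p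
  haveI : Algebra.FiniteType A₁ A₂ := Algebra.FiniteType.of_surjective
    (Algebra.ofId A₁ A₂) hsurj
  haveI : Algebra.FiniteType A A₂ := Algebra.FiniteType.trans (S := A₁) inferInstance inferInstance
  -- the point of the fibre ring
  let e₁ := PrimeSpectrum.primesOverOrderIsoFiber A A₁ p
  let e₂ := PrimeSpectrum.primesOverOrderIsoFiber A A₂ p
  let y₁ : p.primesOver A₁ := ⟨t₁, inferInstance, inferInstance⟩
  let y₂ : p.primesOver A₂ := ⟨t₂, ht₂, ht₂o⟩
  have hy₁max : IsMax y₁ := by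
    rw [← e₁.isMax_apply, PrimeSpectrum.isMax_iff]
    show (e₁ y₁).asIdeal.IsMaximal
    rw [show e₁ y₁ = _ from orderIso_apply p t₁]
    exact hmax
  -- pulling back a prime of `A₂` over `p`
  have hpull : ∀ y' : p.primesOver A₂, ∃ y'' : p.primesOver A₁,
      y''.1 = y'.1.comap (algebraMap A₁ A₂) := by
    intro y'
    haveI := y'.2.1
    haveI := y'.2.2
    refine ⟨⟨y'.1.comap (algebraMap A₁ A₂), Ideal.comap_isPrime _ _, ⟨?_⟩⟩, rfl⟩
    rw [Ideal.under_def, Ideal.comap_comap, ← IsScalarTower.algebraMap_eq]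
    exact y'.2.2.over
  have hy₂max : IsMax y₂ := by
    intro y' hy'
    obtain ⟨y'', hy''⟩ := hpull y'
    have h1 : y₁ ≤ y'' := by
      show t₁ ≤ y''.1
      rw [hy'', ← hct]
      exact Ideal.comap_mono hy'
    have h2 : y''.1 ≤ t₁ := hy₁max h1
    show y'.1 ≤ t₂
    rw [← Ideal.map_comap_of_surjective _ hsurj y'.1, ← hy'']
    exact Ideal.map_mono h2
  have hy₂min : IsMin y₂ := by
    intro y' hy'
    obtain ⟨y'', hy''⟩ := hpull y'
    haveI := y''.2.1
    haveI := y''.2.2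
    have h1 : y''.1 ≤ t₁ := by
      rw [hy'', ← hct]
      exact Ideal.comap_mono hy'
    have h2 : u ⊔ p.map (algebraMap A A₁) ≤ y''.1 := by
      refine sup_le ?_ ?_
      · rw [hy'']
        exact le_trans (le_of_eq hcb.symm) (Ideal.comap_mono bot_le)
      · rw [Ideal.map_le_iff_le_comap]
        exact le_of_eq y''.2.2.over
    have h3 : t₁ ≤ y''.1 := hmin.2 ⟨y''.2.1, h2⟩ h1
    show t₂ ≤ y'.1
    rw [← Ideal.map_comap_of_surjective _ hsurj y'.1, ← hy'']
    exact Ideal.map_mono h3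
  let x : PrimeSpectrum (p.Fiber A₂) := e₂ y₂
  have hx : x.asIdeal = FlatCA.fiberIdeal p t₂ := by
    show (e₂ y₂).asIdeal = _
    rw [show e₂ y₂ = _ from orderIso_apply p t₂]
  have hxmax : IsMax x := (e₂.isMax_apply).mpr hy₂max
  have hxmin : IsMin x := (e₂.isMin_apply).mpr hy₂min
  haveI : Algebra.FiniteType p.ResidueField (p.Fiber A₂) := inferInstance
  haveI : IsNoetherianRing (p.Fiber A₂) :=
    Algebra.FiniteType.isNoetherianRing p.ResidueField (p.Fiber A₂)
  haveI : IsJacobsonRing (p.Fiber A₂) := isJacobsonRing_of_finiteType (A := p.ResidueField)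
  have hopen : IsOpen ({x} : Set (PrimeSpectrum (p.Fiber A₂))) := by
    have htfae := (PrimeSpectrum.isOpen_singleton_tfae_of_isNoetherian_of_isJacobsonRing x).out
      0 2 rfl rfl
    rw [htfae]
    refine ⟨?_, ?_⟩
    · rw [PrimeSpectrum.isClosed_singleton_iff_isMaximal, ← PrimeSpectrum.isMax_iff]
      exact hxmax
    · rw [PrimeSpectrum.stableUnderGeneralization_singleton, ← PrimeSpectrum.isMin_iff]
      exact hxmin
  haveI hqf : Algebra.QuasiFiniteAt p.ResidueField x.asIdeal :=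
    Algebra.QuasiFiniteAt.of_isOpen_singleton (R := p.ResidueField) x hopen
  refine Algebra.QuasiFiniteAt.of_quasiFiniteAt_residueField p t₂ x.asIdeal ?_
  rw [hx]
  exact Groth.Agent.Helper9.PQF4.comap_fiberIdeal p t₂

end QF

section Main

variable {A B : Type u} [CommRing A] [CommRing B] [Algebra A B] [Algebra.FiniteType A B]
  {N : Type u} [AddCommGroup N] [Module B N] [Module.Finite B N] [Module A N] [IsScalarTower A B N]
  (p : Ideal A) [p.IsPrime]
  {A₁ B₁ N₁ : Type u} [CommRing A₁] [IsNoetherianRing A₁] [CommRing B₁] [Algebra A A₁]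
  [Algebra B B₁] [Algebra A₁ B₁]
  [Algebra A B₁] [IsScalarTower A B B₁] [IsScalarTower A A₁ B₁]
  [AddCommGroup N₁] [Module B₁ N₁] [Module B N₁] [IsScalarTower B B₁ N₁]
  [Module A₁ N₁] [IsScalarTower A₁ B₁ N₁]
  (f₁ : N →ₗ[B] N₁) (t₁ : Ideal A₁) [t₁.IsPrime]

/-- Over a Noetherian base ring, the generic point of an impurity can be enlarged until `t₁` is
minimal over `u + p A₁`. -/
theorem exists_minimal : ∀ (u : Ideal A₁) [u.IsPrime] (P : Ideal B₁) [P.IsPrime],
    FlatCA.IsImpurity A B N p A₁ B₁ N₁ f₁ u t₁ P →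
    ∃ (u' : Ideal A₁) (_ : u'.IsPrime) (P' : Ideal B₁) (_ : P'.IsPrime),
      FlatCA.IsImpurity A B N p A₁ B₁ N₁ f₁ u' t₁ P' ∧
      t₁ ∈ (u' ⊔ p.map (algebraMap A A₁)).minimalPrimes := by
  intro u
  induction u using WellFoundedGT.induction with
  | ind u ih =>
    intro hu P hP himp
    by_cases hmin : t₁ ∈ (u ⊔ p.map (algebraMap A A₁)).minimalPrimes
    · exact ⟨u, hu, P, hP, himp, hmin⟩
    · obtain ⟨u₁, hu₁, P₁, hP₁, hlt, himp₁⟩ :=
        Groth.Agent.Helper9.PQF24.step p f₁ u t₁ P himp hmin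
      exact ih u₁ hlt P₁ himp₁

/-- From an impurity over a Noetherian finite type `A`-algebra at a closed point of the fibre, an
impurity whose base is of finite type and quasi-finite at the point. -/
theorem hasImpurity_quasiFinite [Algebra.FiniteType A A₁] (u : Ideal A₁) [u.IsPrime]
    (P : Ideal B₁) [P.IsPrime] (himp : FlatCA.IsImpurity A B N p A₁ B₁ N₁ f₁ u t₁ P)
    (hmax : (FlatCA.fiberIdeal p t₁).IsMaximal) :
    FlatCA.HasImpurity A B N p
      (fun A' _ _ t => ∃ _ : t.IsPrime, Algebra.FiniteType A A' ∧ Algebra.QuasiFiniteAt A t) := by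
  classical
  obtain ⟨u', hu', P', hP', himp', hmin⟩ := exists_minimal p f₁ t₁ u P himp
  have hle : u' ≤ t₁ := himp'.2.2.1
  haveI htp : t₁.LiesOver p := himp'.2.2.2.1
  let A₂ := A₁ ⧸ u'
  haveI : IsDomain A₂ := Ideal.Quotient.isDomain u'
  have hsurj : Function.Surjective (algebraMap A₁ A₂) := Ideal.Quotient.mk_surjective
  obtain ⟨B₂, N₂, _, _, _, _, _, _, _, _, _, _, _, _, f₂, hpo₂, hf₂⟩ :=
    Groth.Agent.Helper9.PQF10.exists_model A B N A₂
  letI : Algebra A₁ B₂ := ((algebraMap A₂ B₂).comp (algebraMap A₁ A₂)).toAlgebra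
  haveI : IsScalarTower A₁ A₂ B₂ := IsScalarTower.of_algebraMap_eq (fun _ => rfl)
  let t₂ : Ideal A₂ := t₁.map (algebraMap A₁ A₂)
  haveI ht₂p : t₂.IsPrime := Ideal.isPrime_map_quotientMk_of_isPrime hle
  have hct : t₂.comap (algebraMap A₁ A₂) = t₁ := Ideal.comap_map_mk hle
  have hcb : (⊥ : Ideal A₂).comap (algebraMap A₁ A₂) = u' := by
    rw [← RingHom.ker_eq_comap_bot]
    exact Ideal.mk_ker
  haveI hbu : (⊥ : Ideal A₂).LiesOver u' := ⟨hcb.symm⟩
  haveI htt : t₂.LiesOver t₁ := ⟨hct.symm⟩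
  haveI ht₂o : t₂.LiesOver p := Ideal.LiesOver.trans t₂ t₁ p
  obtain ⟨P₂, hP₂p, himp₂⟩ := Groth.Agent.Helper9.PQF18.exists_isImpurity_of_dominating p f₁
    u' t₁ P' hpo₂ f₂ hf₂ (⊥ : Ideal A₂) t₂ himp' bot_le hbu htt ht₂o
  haveI : Algebra.FiniteType A₁ A₂ := Algebra.FiniteType.of_surjective
    (Algebra.ofId A₁ A₂) hsurj
  have hft : Algebra.FiniteType A A₂ :=
    Algebra.FiniteType.trans (S := A₁) inferInstance inferInstance
  have hqf : Algebra.QuasiFiniteAt A t₂ := quasiFiniteAt_quotient p u' t₁ hle hmin hmax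
  exact ⟨A₂, B₂, N₂, inferInstance, inferInstance, inferInstance,
    inferInstance, inferInstance, inferInstance, inferInstance, inferInstance, inferInstance,
    inferInstance, inferInstance, inferInstance, inferInstance, inferInstance, f₂,
    ⊥, t₂, Ideal.isPrime_bot, ht₂p, P₂, hP₂p, himp₂, ⟨ht₂p, hft, hqf⟩⟩

end Main

end Groth.Agent.Helper9.PQF25
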