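import Mathlib

/-!
# A finite type algebra that is finite after localizing at every prime is finite
-/

set_option autoImplicit false
universe u
open TensorProduct

namespace Groth.Agent.Helper9.PQF3

variable {A C : Type*} [CommRing A] [CommRing C] [Algebra A C]

attribute [local instance] Algebra.TensorProduct.rightAlgebra in
theorem exists_smul_isIntegral (p : Ideal A) [p.IsPrime]
    [Module.Finite (Localization.AtPrime p) (Localization.AtPrime p ⊗[A] C)] (c : C) :
    ∃ s : A, s ∉ p ∧ IsIntegral A (s • c) := by
  have h1 : IsIntegral (Localization.AtPrime p)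
      ((1 : Localization.AtPrime p) ⊗ₜ[A] c) := Algebra.IsIntegral.isIntegral _
  obtain ⟨m, hm⟩ := IsIntegral.exists_multiple_integral_of_isLocalization p.primeCompl
    (Rₘ := Localization.AtPrime p) _ h1
  have h2 : m • ((1 : Localization.AtPrime p) ⊗ₜ[A] c) =
      algebraMap C (Localization.AtPrime p ⊗[A] C) ((m : A) • c) := by
    rw [Submonoid.smul_def, TensorProduct.smul_tmul', TensorProduct.smul_tmul]
    rfl
  rw [h2] at hm
  obtain ⟨m', hm', hint⟩ := IsLocalization.exists_isIntegral_smul_of_isIntegral_map
    (R := A) (S := C) (Sₘ := Localization.AtPrime p ⊗[A] C) p.primeCompl hm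
  refine ⟨m' * m, p.primeCompl.mul_mem hm' m.2, ?_⟩
  rwa [mul_smul]

theorem isIntegral_of_forall (h : ∀ (p : Ideal A) [p.IsPrime],
    Module.Finite (Localization.AtPrime p) (Localization.AtPrime p ⊗[A] C)) :
    Algebra.IsIntegral A C := by
  constructor
  intro c
  let J : Ideal A :=
    { carrier := {a | IsIntegral A (a • c)}
      add_mem' := fun {a b} ha hb => by
        show IsIntegral A ((a + b) • c)
        rw [add_smul]
        exact IsIntegral.add ha hb
      zero_mem' := by
        show IsIntegral A ((0 : A) • c)
        rw [zero_smul]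
        exact isIntegral_zero
      smul_mem' := fun r a ha => by
        show IsIntegral A ((r • a) • c)
        rw [smul_assoc]
        exact IsIntegral.smul r ha }
  have hJ : J = ⊤ := by
    by_contra hne
    obtain ⟨m, hm, hle⟩ := Ideal.exists_le_maximal J hne
    haveI := hm.isPrime
    haveI := h m
    obtain ⟨s, hs, hint⟩ := exists_smul_isIntegral m c
    exact hs (hle hint)
  have : (1 : A) ∈ J := hJ ▸ Submodule.mem_top
  have h1 : IsIntegral A ((1 : A) • c) := this
  rwa [one_smul] at h1

theorem finite_of_forall [Algebra.FiniteType A C] (h : ∀ (p : Ideal A) [p.IsPrime],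
    Module.Finite (Localization.AtPrime p) (Localization.AtPrime p ⊗[A] C)) :
    Module.Finite A C := by
  haveI := isIntegral_of_forall h
  exact Algebra.IsIntegral.finite

end Groth.Agent.Helper9.PQF3
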