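import Mathlib
import Groth.Prelude.Def_DCoh4
import Groth.Agent.Helper4.QcohLimits
import Groth.Agent.Lead.QcohTensor
import Groth.Agent.Helper9.KFlat2

/-! Tensor products of complexes with quasi-coherent terms; homology of such complexes. -/

set_option autoImplicit false
set_option linter.style.haveILetI false
set_option linter.unusedVariables false
set_option linter.unusedSectionVars false
universe u

namespace Groth.Agent.Helper9.QcTensor1

open CategoryTheory CategoryTheory.Limits AlgebraicGeometry Opposite TopologicalSpace
  HomologicalComplex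
open Groth.Agent.Helper4

variable {X : Scheme.{u}}

/-- the homology of a complex with quasi-coherent terms is quasi-coherent -/
theorem isQuasicoherent_homology (C : CochainComplex X.Modules ℤ)
    (hC : ∀ i, (C.X i).IsQuasicoherent) (i : ℤ) : (C.homology i).IsQuasicoherent := by
  let S := C.sc i
  haveI h1 : (S.X₁).IsQuasicoherent := hC _
  haveI h2 : (S.X₂).IsQuasicoherent := hC _
  haveI h3 : (S.X₃).IsQuasicoherent := hC _
  haveI := QcohLimits.isQuasicoherent_kernel S.g
  haveI := QcohLimits.isQuasicoherent_cokernel (kernel.lift S.g S.f S.zero)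
  exact QcohLimits.isQuasicoherent_of_iso S.homologyIsoCokernelLift.symm

/-- the tensor product of quasi-coherent modules is quasi-coherent -/
theorem isQuasicoherent_tensorBi (A B : X.Modules) [A.IsQuasicoherent] [B.IsQuasicoherent] :
    (((DCoh.tensorBi (X := X)).obj A).obj B).IsQuasicoherent :=
  Groth.Agent.Lead.QcohTensor.isQuasicoherent_tensorMod A B

/-- the terms of the tensor product of two complexes with quasi-coherent terms are
quasi-coherent -/
theorem isQuasicoherent_tensorCx_X (P F : CochainComplex X.Modules ℤ)
    (hP : ∀ i, (P.X i).IsQuasicoherent) (hF : ∀ i, (F.X i).IsQuasicoherent) (n : ℤ) :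
    (((DCoh.tensorCx.obj P).obj F).X n).IsQuasicoherent := by
  let D : Discrete (KFlat2.κ n) ⥤ X.Modules :=
    Discrete.functor (fun i : KFlat2.κ n => ((DCoh.tensorBi (X := X)).obj (P.X i.1.1)).obj (F.X i.1.2))
  have h := QcohLimits.isQuasicoherent_colimit D (fun j => by
    haveI := hP j.as.1.1
    haveI := hF j.as.1.2
    exact isQuasicoherent_tensorBi _ _)
  let e := (colimit.isColimit D).coconePointUniqueUpToIso
    (KFlat2.isColimitCof (DCoh.tensorBi (X := X)) P F n)
  exact QcohLimits.isQuasicoherent_of_iso (hF := h) e

end Groth.Agent.Helper9.QcTensor1
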