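import Mathlib
import Groth.Prelude.Def_DCoh4
import Groth.Agent.Helper9.LTCx5
import Groth.Agent.Helper9.LTCx6
import Groth.Agent.Helper9.LTM3

/-! The image in `D(O_X)` of `P ⊗ B` only depends on the images of `P` and `B` (K-flat `P`). -/

set_option autoImplicit false
set_option linter.style.haveILetI false
set_option linter.unusedVariables false
set_option linter.unusedSectionVars false
universe u

namespace Groth.Agent.Helper9.QcTensor2

open CategoryTheory CategoryTheory.Limits AlgebraicGeometry Opposite TopologicalSpace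
  HomologicalComplex

attribute [local instance] HasDerivedCategory.standard

variable {X : Scheme.{u}}

/-- a roof of quasi-isomorphisms with K-flat apex between quasi-isomorphic complexes -/
theorem exists_roof {P T : CochainComplex X.Modules ℤ}
    (e : DerivedCategory.Q.obj P ≅ DerivedCategory.Q.obj T) :
    ∃ (Z : CochainComplex X.Modules ℤ) (s : Z ⟶ P) (g : Z ⟶ T),
      DCoh.IsKFlat Z ∧ QuasiIso s ∧ QuasiIso g := by
  obtain ⟨Z', s, hs, g, hfac⟩ := DerivedCategory.right_fac e.hom
  have hg : IsIso (DerivedCategory.Q.map g) := by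
    have : DerivedCategory.Q.map g = DerivedCategory.Q.map s ≫ e.hom := by
      rw [hfac, IsIso.hom_inv_id_assoc]
    rw [this]
    infer_instance
  obtain ⟨Z, r, hZ, -, hr, -⟩ := Groth.Agent.Helper9.LTM3.exists_kflat_resolution Z'
  rw [DerivedCategory.isIso_Q_map_iff_quasiIso] at hs hg
  haveI := hs
  haveI := hg
  haveI := hr
  exact ⟨Z, r ≫ s, r ≫ g, hZ, inferInstance, inferInstance⟩

/-- first variable -/
theorem nonempty_iso_left {P T : CochainComplex X.Modules ℤ} (B : CochainComplex X.Modules ℤ)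
    (hP : DCoh.IsKFlat P) (hT : DCoh.IsKFlat T)
    (e : DerivedCategory.Q.obj P ≅ DerivedCategory.Q.obj T) :
    Nonempty (DerivedCategory.Q.obj ((DCoh.tensorCx.obj P).obj B) ≅
      DerivedCategory.Q.obj ((DCoh.tensorCx.obj T).obj B)) := by
  obtain ⟨Z, s, g, hZ, hs, hg⟩ := exists_roof e
  have h1 := @Groth.Agent.Helper9.LTCx5.quasiIso_flip_map_of_isKFlat _ _ _ X.sheaf B Z P hZ hP s hs
  have h2 := @Groth.Agent.Helper9.LTCx5.quasiIso_flip_map_of_isKFlat _ _ _ X.sheaf B Z T hZ hT g hg
  haveI i1 : IsIso (DerivedCategory.Q.map (((DCoh.tensorCx (X := X)).flip.obj B).map s)) := by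
    rw [DerivedCategory.isIso_Q_map_iff_quasiIso]
    exact h1
  haveI i2 : IsIso (DerivedCategory.Q.map (((DCoh.tensorCx (X := X)).flip.obj B).map g)) := by
    rw [DerivedCategory.isIso_Q_map_iff_quasiIso]
    exact h2
  exact ⟨(asIso (DerivedCategory.Q.map (((DCoh.tensorCx (X := X)).flip.obj B).map s))).symm ≪≫
    asIso (DerivedCategory.Q.map (((DCoh.tensorCx (X := X)).flip.obj B).map g))⟩

/-- second variable -/
theorem nonempty_iso_right {B B' : CochainComplex X.Modules ℤ} (P : CochainComplex X.Modules ℤ)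
    (hP : DCoh.IsKFlat P)
    (e : DerivedCategory.Q.obj B ≅ DerivedCategory.Q.obj B') :
    Nonempty (DerivedCategory.Q.obj ((DCoh.tensorCx.obj P).obj B) ≅
      DerivedCategory.Q.obj ((DCoh.tensorCx.obj P).obj B')) := by
  obtain ⟨Z, s, g, hZ, hs, hg⟩ := exists_roof e
  have h1 := @Groth.Agent.Helper9.LTCx6.quasiIso_obj_map_of_isKFlat _ _ _ X.sheaf P hP Z B s hs
  have h2 := @Groth.Agent.Helper9.LTCx6.quasiIso_obj_map_of_isKFlat _ _ _ X.sheaf P hP Z B' g hg
  haveI i1 : IsIso (DerivedCategory.Q.map (((DCoh.tensorCx (X := X)).obj P).map s)) := by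
    rw [DerivedCategory.isIso_Q_map_iff_quasiIso]
    exact h1
  haveI i2 : IsIso (DerivedCategory.Q.map (((DCoh.tensorCx (X := X)).obj P).map g)) := by
    rw [DerivedCategory.isIso_Q_map_iff_quasiIso]
    exact h2
  exact ⟨(asIso (DerivedCategory.Q.map (((DCoh.tensorCx (X := X)).obj P).map s))).symm ≪≫
    asIso (DerivedCategory.Q.map (((DCoh.tensorCx (X := X)).obj P).map g))⟩

end Groth.Agent.Helper9.QcTensor2
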