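import Mathlib
import Groth.Prelude.Def_DCoh4
import Groth.Agent.Helper9.QcTensor1
import Groth.Agent.Helper9.QcTensor2
import Groth.Agent.Helper9.QcLpull1
import Groth.Agent.Helper9.PullMon5

/-! `E ⊗^L F` has quasi-coherent cohomology when `E` and `F` do. -/

set_option autoImplicit false
set_option linter.style.haveILetI false
set_option linter.unusedVariables false
set_option linter.unusedSectionVars false
universe u

namespace Groth.Agent.Helper9.QcTensor3

open CategoryTheory CategoryTheory.Limits AlgebraicGeometry Opposite TopologicalSpace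
  HomologicalComplex
open Groth.Agent.Helper4
open Groth.Agent.Helper9.Lpull1 Groth.Agent.Helper9.Lpull2 Groth.Agent.Helper9.Lpull3

attribute [local instance] HasDerivedCategory.standard

/-- objects of `D_QCoh(Spec R)` are represented by `P~` with `P` K-flat -/
theorem exists_tilde_rep (R : CommRingCat.{u}) (K : DCoh.D (Spec (CommRingCat.of R)))
    (hK : DCoh.IsQCohD K) :
    ∃ P : CochainComplex (ModuleCat.{u} R) ℤ, DRing.IsKFlat R P ∧
      Nonempty (K ≅ DerivedCategory.Q.obj
        (((tilde.functor R).mapHomologicalComplex (ComplexShape.up ℤ)).obj P)) := by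
  obtain ⟨M, ⟨eM⟩⟩ := QcLpull1.exists_iso_tildeD R K hK
  obtain ⟨P, hP, hPf, ⟨e⟩⟩ := Groth.Agent.Helper6.LBCAdj.exists_kproj M
  let e0 : DerivedCategory.Q.obj P ≅ M := (DerivedCategory.quotientCompQhIso _).symm.app P ≪≫ e
  exact ⟨P, hPf, ⟨eM.symm ≪≫ (DCoh.tildeD R).mapIso e0.symm ≪≫
    (tilde.functor R).mapDerivedCategoryFactors.app P⟩⟩

/-- on `Spec R`: the tensor product of K-flat complexes with quasi-coherent cohomology has
quasi-coherent cohomology -/
theorem isQuasicoherent_homology_tensorCx_spec (R : CommRingCat.{u})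
    (P P' : CochainComplex (Spec (CommRingCat.of R)).Modules ℤ)
    (hP : DCoh.IsKFlat P) (hP' : DCoh.IsKFlat P')
    (hq : DCoh.IsQCohD (DerivedCategory.Q.obj P)) (hq' : DCoh.IsQCohD (DerivedCategory.Q.obj P'))
    (i : ℤ) : (((DCoh.tensorCx.obj P).obj P').homology i).IsQuasicoherent := by
  obtain ⟨P₁, hP₁, ⟨e₁⟩⟩ := exists_tilde_rep R _ hq
  obtain ⟨P₂, hP₂, ⟨e₂⟩⟩ := exists_tilde_rep R _ hq'
  let T := ((tilde.functor R).mapHomologicalComplex (ComplexShape.up ℤ)).obj P₁
  let T' := ((tilde.functor R).mapHomologicalComplex (ComplexShape.up ℤ)).obj P₂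
  have hT : DCoh.IsKFlat T := Groth.Agent.Helper9.Tilde2.isKFlat_tilde R P₁ hP₁
  obtain ⟨a⟩ := QcTensor2.nonempty_iso_left P' hP hT e₁
  obtain ⟨b⟩ := QcTensor2.nonempty_iso_right T hT e₂
  have h : (((DCoh.tensorCx.obj T).obj T').homology i).IsQuasicoherent := by
    apply QcTensor1.isQuasicoherent_homology
    intro n
    apply QcTensor1.isQuasicoherent_tensorCx_X
    · intro j
      show ((tilde.functor R).obj (P₁.X j)).IsQuasicoherent
      infer_instance
    · intro j
      show ((tilde.functor R).obj (P₂.X j)).IsQuasicoherent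
      infer_instance
  exact QcohLimits.isQuasicoherent_of_iso (hF := h)
    (Groth.Agent.Lead.PerfLib.homologyIsoOfQIso (a ≪≫ b) i).symm

/-- the tensor product of K-flat complexes with quasi-coherent cohomology has quasi-coherent
cohomology -/
theorem isQCohD_tensorCx {X : Scheme.{u}} (P P' : CochainComplex X.Modules ℤ)
    (hP : DCoh.IsKFlat P) (hP' : DCoh.IsKFlat P')
    (hq : DCoh.IsQCohD (DerivedCategory.Q.obj P)) (hq' : DCoh.IsQCohD (DerivedCategory.Q.obj P')) :
    DCoh.IsQCohD (DerivedCategory.Q.obj ((DCoh.tensorCx.obj P).obj P')) := by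
  intro i
  let C := (DCoh.tensorCx.obj P).obj P'
  suffices h : (C.homology i).IsQuasicoherent from
    QcohLimits.isQuasicoherent_of_iso (hF := h)
      ((DerivedCategory.homologyFunctorFactors X.Modules i).app C).symm
  apply QcohGlue.isQuasicoherent_of_affine_cover
  intro x
  obtain ⟨U, hU, hx⟩ := QcohLimits.exists_affine_nhd x
  refine ⟨U, hU, hx, ?_⟩
  haveI : DCoh.HasLpull hU.fromSpec := hasLpull _
  have e1 := Groth.Agent.Lead.PerfLib.homologyRestrictIso hU.fromSpec C i
  have e2 : (Groth.Agent.Lead.PerfLib.Rc hU.fromSpec).obj C ≅ (PullMon5.pCx hU.fromSpec).obj C :=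
    (NatIso.mapHomologicalComplex (Scheme.Modules.restrictFunctorIsoPullback hU.fromSpec)
      (ComplexShape.up ℤ)).app C
  have e3 := PullMon5.pullTensorCxIso hU.fromSpec P P'
  have hk := isKFlat_pullback hU.fromSpec P hP
  have hk' := isKFlat_pullback hU.fromSpec P' hP'
  have hq1 : DCoh.IsQCohD (DerivedCategory.Q.obj ((PullMon5.pCx hU.fromSpec).obj P)) :=
    QcLpull1.isQCohD_of_iso (lpullIso hU.fromSpec P hP)
      (QcLpull1.isQCohD_lpull_of_isOpenImmersion hU.fromSpec _ hq)
  have hq1' : DCoh.IsQCohD (DerivedCategory.Q.obj ((PullMon5.pCx hU.fromSpec).obj P')) :=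
    QcLpull1.isQCohD_of_iso (lpullIso hU.fromSpec P' hP')
      (QcLpull1.isQCohD_lpull_of_isOpenImmersion hU.fromSpec _ hq')
  have h := isQuasicoherent_homology_tensorCx_spec Γ(X, U) _ _ hk hk' hq1 hq1' i
  exact QcohLimits.isQuasicoherent_of_iso (hF := h)
    ((HomologicalComplex.homologyFunctor _ _ i).mapIso (e2 ≪≫ e3).symm ≪≫ e1)

/-- **`E ⊗^L F` has quasi-coherent cohomology when `E` and `F` do** -/
theorem isQCohD_ltensorCx (X : Scheme.{u}) (F : CochainComplex X.Modules ℤ)
    (hF : DCoh.IsQCohD (DCoh.toD X F)) [DCoh.HasLTensorCx F]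
    (E : DCoh.D X) (hE : DCoh.IsQCohD E) : DCoh.IsQCohD ((DCoh.LTensorCx F).obj E) := by
  obtain ⟨P, hP, ⟨eP⟩⟩ := exists_kflat_rep E
  obtain ⟨PF, q, hPF, -, hq, -⟩ := Groth.Agent.Helper9.LTM3.exists_kflat_resolution F
  have i1 : @ModSite.HasLTensorCx _ _ _ X.sheaf F := ‹DCoh.HasLTensorCx F›
  have hc := @Groth.Agent.Helper9.LTCx5.isIso_counit_app _ _ _ X.sheaf F i1 P hP
  let a1 : (DCoh.LTensorCx F).obj E ≅ DerivedCategory.Q.obj ((DCoh.tensorCx.obj P).obj F) :=
    (DCoh.LTensorCx F).mapIso eP.symm ≪≫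
      @asIso _ _ _ _ ((@Groth.Agent.Helper9.LTCx1.counit _ _ _ X.sheaf F i1).app P) hc
  have h2 := @Groth.Agent.Helper9.LTCx6.quasiIso_obj_map_of_isKFlat _ _ _ X.sheaf P hP PF F q hq
  haveI : IsIso (DerivedCategory.Q.map (((DCoh.tensorCx (X := X)).obj P).map q)) := by
    rw [DerivedCategory.isIso_Q_map_iff_quasiIso]
    exact h2
  let a2 := asIso (DerivedCategory.Q.map (((DCoh.tensorCx (X := X)).obj P).map q))
  haveI : IsIso (DerivedCategory.Q.map q) := by
    rw [DerivedCategory.isIso_Q_map_iff_quasiIso]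
    exact hq
  have hqPF : DCoh.IsQCohD (DerivedCategory.Q.obj PF) :=
    QcLpull1.isQCohD_of_iso (asIso (DerivedCategory.Q.map q)).symm hF
  have hqP : DCoh.IsQCohD (DerivedCategory.Q.obj P) := QcLpull1.isQCohD_of_iso eP.symm hE
  exact QcLpull1.isQCohD_of_iso (a2 ≪≫ a1.symm) (isQCohD_tensorCx P PF hP hPF hqP hqPF)

end Groth.Agent.Helper9.QcTensor3
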