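import Mathlib
import Groth.Prelude.Def_CxOX
import Groth.Agent.Helper9.HP1
import Groth.Agent.Helper9.PcTensor4
import Groth.Agent.Helper9.QcTensor3
import Groth.Agent.Helper9.RpPc1
import Groth.Agent.Helper9.TP4
import Groth.Agent.Helper9.Shriek1
import Groth.Agent.Helper4.RDerTri
import Groth.Agent.Helper4.QcohWSerre

/-! Testing pseudo-coherence of `Rπ_*(E ⊗^L K)` on perfect `E`. -/

set_option autoImplicit false
set_option linter.style.haveILetI false
set_option linter.unusedVariables false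
set_option linter.unusedSectionVars false
universe u

namespace Groth.Agent.Helper9.PT1

open CategoryTheory CategoryTheory.Limits AlgebraicGeometry Opposite TopologicalSpace
  Pretriangulated DerivedCategory
open Groth.Agent.Lead.PcLib Groth.Agent.Helper9

attribute [local instance] HasDerivedCategory.standard

variable {X : Scheme.{u}}

/-- `- ⊗^L K` sends `n`-quasi-isomorphisms to `(n + b)`-quasi-isomorphisms when `K` has no
cohomology above `b` -/
theorem isQisAbove_ltensor (K : CochainComplex X.Modules ℤ) [DCoh.HasLTensorCx K] (b : ℤ)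
    (hKb : ∀ i : ℤ, b < i → IsZero (K.homology i)) {F G : DCoh.D X} (α : F ⟶ G) (n : ℤ)
    (h : IsQisAbove n α) : IsQisAbove (n + b) ((DCoh.LTensorCx K).map α) := by
  have i1 : @ModSite.HasLTensorCx _ _ _ X.sheaf K := ‹DCoh.HasLTensorCx K›
  obtain ⟨P, q, hP, -, hq, -⟩ := Groth.Agent.Helper9.LTM3.exists_kflat_resolution K
  haveI := hq
  have i2 : @ModSite.HasLTensorCx _ _ _ X.sheaf P :=
    @Groth.Agent.Helper9.LTCx7.hasLTensorCx_of_isKFlat _ _ _ X.sheaf P hP
  haveI : DCoh.HasLTensorCx P := i2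
  have e : DCoh.LTensorCx P ≅ DCoh.LTensorCx K :=
    @Groth.Agent.Helper9.LTCx6.ltensorIso _ _ _ X.sheaf P K q i2 i1 hq
  have hPb : ∀ i : ℤ, b < i → IsZero (P.homology i) := fun i hi =>
    (hKb i hi).of_iso (@asIso _ _ _ _ (HomologicalComplex.homologyMap q i)
      ((quasiIsoAt_iff_isIso_homologyMap q i).1 (hq.quasiIsoAt i)))
  have h1 : IsQisAbove (n + b) ((DCoh.LTensorCx P).map α) :=
    @Groth.Agent.Helper9.PcTensor3.isQisAbove_ltensor _ _ _ X.sheaf P hP i2 b hPb _ _ α n h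
  have h2 : (DCoh.LTensorCx K).map α = e.inv.app F ≫ (DCoh.LTensorCx P).map α ≫ e.hom.app G := by
    rw [e.hom.naturality, ← Category.assoc, ← NatTrans.comp_app, Iso.inv_hom_id]
    simp
  rw [h2]
  exact (IsQisAbove.of_isIso _ _).comp (h1.comp (IsQisAbove.of_isIso _ _))

/-- **pseudo-coherence of `Rπ_*(E ⊗^L K)` can be tested on perfect `E`** -/
theorem main (A : Type u) [CommRing A] (X : Scheme.{u}) [CompactSpace ↥X] [QuasiSeparatedSpace ↥X]
    (π : X ⟶ Spec (CommRingCat.of A)) [DCoh.HasRpush π]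
    (K : CochainComplex X.Modules ℤ) (hK : DCoh.IsQCohD (DCoh.toD X K)) (b : ℤ)
    [(DCoh.toD X K).IsLE b] [DCoh.HasLTensorCx K]
    (h : ∀ E : DCoh.D X, DCoh.IsPerfect E → ∀ m : ℤ,
      DCoh.IsPseudoCoherentD m ((DCoh.Rpush π).obj ((DCoh.LTensorCx K).obj E)))
    (E : DCoh.D X) (hE : ∀ m : ℤ, DCoh.IsPseudoCoherentD m E) (m : ℤ) :
    DCoh.IsPseudoCoherentD m ((DCoh.Rpush π).obj ((DCoh.LTensorCx K).obj E)) := by
  haveI := Groth.Agent.Helper4.SchAdj.isGrothendieckAbelian_modules X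
  have hKb : ∀ i : ℤ, b < i → IsZero (K.homology i) := fun i hi =>
    ((DerivedCategory.isLE_iff (DCoh.toD X K) b).1 inferInstance i hi).of_iso
      ((homologyFunctorFactors X.Modules i).app K).symm
  obtain ⟨N, hN⟩ := Groth.Agent.Helper9.Van1.rpush_vanishing π
  have hEq : DCoh.IsQCohD E := RpPc1.isQCohD_of_isPseudoCoherentD E hE
  have hretro : IsRetrocompact ((Set.univ : Set X)ᶜ) := by
    rw [Set.compl_univ]
    exact IsRetrocompact.empty
  -- the approximation level
  obtain ⟨s, hs⟩ := HP1.exists_stage (Set.univ : Set X) isClosed_univ hretro E hE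
    (fun i => Set.subset_univ _) (m - N - b)
  have hα : IsQisAbove (m - N - b) s.α :=
    ⟨fun i hi => s.iso i (by rw [hs]; exact hi), by rw [← hs]; exact s.epi⟩
  have hβ := isQisAbove_ltensor K b hKb s.α (m - N - b) hα
  obtain ⟨C, u, v, hT⟩ := distinguished_cocone_triangle ((DCoh.LTensorCx K).map s.α)
  have hC0 : ∀ j : ℤ, m - N - b + b ≤ j → IsZero (DCoh.HD C j) := fun j hj =>
    HP0.isZero_homology_obj₃ _ hT j (hβ.epi j hj) (hβ.mono' (j + 1) (by omega))
  have hPq : DCoh.IsQCohD ((DCoh.LTensorCx K).obj s.P) :=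
    QcTensor3.isQCohD_ltensorCx X K hK s.P (TP4.isQCohD_of_isPerfect _ s.perf)
  have hEKq : DCoh.IsQCohD ((DCoh.LTensorCx K).obj E) :=
    QcTensor3.isQCohD_ltensorCx X K hK E hEq
  have hCq : DCoh.IsQCohD C := Groth.Agent.Helper4.QcohWSerre.isQCohD_obj₃ _ hT hPq hEKq
  haveI : C.IsLE (m - N - 1) := (isLE_iff C _).2 (fun j hj => hC0 j (by omega))
  have hRC : DCoh.IsPseudoCoherentD m ((DCoh.Rpush π).obj C) :=
    isPseudoCoherentD_of_isZero_HD m _ (fun i hi =>
      Groth.Agent.Helper9.Shriek1.isZero_HD_Rpush_of_isLE π N hN C hCq (m - N - 1) i (by omega))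
  obtain ⟨c, hc⟩ := Groth.Agent.Helper4.RDerTri.exists_distinguished_map
    (Scheme.Modules.pushforward π) (DCoh.Rpush π)
    ((DCoh.pushKh π).totalRightDerivedUnit DerivedCategory.Qh
      (HomotopyCategory.quasiIso X.Modules (ComplexShape.up ℤ))) _ hT
  exact (isPseudoCoherentD_triangle m _ hc).2.1 (h s.P s.perf m) hRC

end Groth.Agent.Helper9.PT1
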