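import Mathlib
import Groth.Agent.Helper8.FFR
import Groth.Agent.Helper9.VP6

/-!
# PV1: the Picard group of the generic fibre of a local flat algebra essentially of finite type
over a valuation ring with regular closed fibre is trivial.
-/

set_option autoImplicit false
universe u
open CategoryTheory TensorProduct

namespace Groth.Agent.Helper9.PV1

open Groth.Agent.Helper9 Groth.Agent.Helper8.FFR

section FFR

variable {R : Type u} [CommRing R] [IsDomain R] [ValuationRing R]
  {A : Type u} [CommRing A] [IsLocalRing A] [Algebra R A] [Algebra.EssFiniteType R A]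

/-- finite free resolutions of finite torsion-free modules of finite projective dimension -/
theorem hasFFR_of_pdLT (hA : ∀ c : R, c ≠ 0 → ∀ a : A, c • a = 0 → a = 0) :
    ∀ (n : ℕ) (M : Type u) [AddCommGroup M] [Module A M] [Module R M] [IsScalarTower R A M]
      [Module.Finite A M],
      (∀ c : R, c ≠ 0 → ∀ m : M, c • m = 0 → m = 0) →
      HasProjectiveDimensionLT (ModuleCat.of A M) (n + 1) → HasFFR A n M
  | 0, M, _, _, _, _, _, _, h => by
    rw [zero_add, ← projective_iff_hasProjectiveDimensionLT_one,
      ← IsProjective.iff_projective] at h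
    have : Module.Projective A M := h
    exact ⟨Module.free_of_flat_of_isLocalRing, inferInstance⟩
  | n + 1, M, _, _, _, _, _, htf, h => by
    obtain ⟨k, f, hf⟩ := Module.Finite.exists_fin' A M
    refine ⟨Fin k → A, inferInstance, inferInstance, inferInstance, inferInstance, f, hf, ?_⟩
    have hfp : Module.FinitePresentation A M :=
      VP5.finitePresentation_of_torsionFree (V := R) htf
    have hKfg : (LinearMap.ker f).FG := Module.FinitePresentation.fg_ker f hf
    have hKfin : Module.Finite A (LinearMap.ker f) := Module.Finite.iff_fg.2 hKfg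
    have hKtf : ∀ c : R, c ≠ 0 → ∀ m : LinearMap.ker f, c • m = 0 → m = 0 := by
      intro c hc m hm
      apply Subtype.ext
      funext i
      apply hA c hc
      have h1 := congrFun (congrArg Subtype.val hm) i
      simpa using h1
    have hS := Groth.Agent.Helper1.TorLib.scOfLinear_shortExact (LinearMap.ker f).subtype f
      (LinearMap.ker f).injective_subtype hf (LinearMap.exact_subtype_ker_map f)
    have hF : HasProjectiveDimensionLT (ModuleCat.of A (Fin k → A)) (n + 1) := by
      have : Module.Projective A (Fin k → A) := inferInstance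
      have : Projective (ModuleCat.of A (Fin k → A)) :=
        (IsProjective.iff_projective (ModuleCat.of A (Fin k → A))).mp inferInstance
      have h1 : HasProjectiveDimensionLT (ModuleCat.of A (Fin k → A)) 1 :=
        projective_iff_hasProjectiveDimensionLT_one.mp inferInstance
      exact hasProjectiveDimensionLT_of_ge _ 1 _ (by omega)
    have hK := hS.hasProjectiveDimensionLT_X₁ (n + 1) hF h
    exact hasFFR_of_pdLT hA n (LinearMap.ker f) hKtf hK

end FFR


section Loc

variable {A : Type u} [CommRing A] (S : Submonoid A) (AS : Type u) [CommRing AS] [Algebra A AS]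
  [IsLocalization S AS]
  (P : Type u) [AddCommGroup P] [Module AS P] [Module A P] [IsScalarTower A AS P]

/-- the `A`-span of a generating set of a module over a localization is a lattice -/
lemma isLocalizedModule_span (T : Finset P) (hT : Submodule.span AS (T : Set P) = ⊤) :
    IsLocalizedModule S (Submodule.span A (T : Set P)).subtype := by
  refine ⟨?_, ?_, ?_⟩
  · intro s
    rw [Module.End.isUnit_iff]
    have hu : IsUnit (algebraMap A AS s) := IsLocalization.map_units AS s
    constructor
    · intro x y hxy
      simp only [Module.algebraMap_end_apply] at hxy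
      have : algebraMap A AS s • x = algebraMap A AS s • y := by
        rwa [algebraMap_smul, algebraMap_smul]
      exact hu.smul_left_cancel.mp this
    · intro y
      obtain ⟨v, hv⟩ := hu.exists_left_inv
      refine ⟨v • y, ?_⟩
      simp only [Module.algebraMap_end_apply]
      rw [← algebraMap_smul AS (s : A), smul_smul, mul_comm, hv, one_smul]
  · intro y
    have hy : y ∈ Submodule.span AS (T : Set P) := by rw [hT]; trivial
    induction hy using Submodule.span_induction with
    | mem t ht => exact ⟨(⟨t, Submodule.subset_span ht⟩, 1), by simp⟩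
    | zero => exact ⟨(0, 1), by simp⟩
    | add y z _ _ hy hz =>
      obtain ⟨⟨m₁, s₁⟩, h₁⟩ := hy
      obtain ⟨⟨m₂, s₂⟩, h₂⟩ := hz
      have h₁' : (s₁ : A) • y = (m₁ : P) := h₁
      have h₂' : (s₂ : A) • z = (m₂ : P) := h₂
      refine ⟨((s₂ : A) • m₁ + (s₁ : A) • m₂, s₁ * s₂), ?_⟩
      show ((s₁ * s₂ : S) : A) • (y + z) = ((s₂ : A) • (m₁ : P) + (s₁ : A) • (m₂ : P))
      rw [← h₁', ← h₂', Submonoid.coe_mul, smul_add, mul_smul, mul_smul,
        smul_comm (s₁ : A) (s₂ : A) y]
    | smul a y _ hy =>
      obtain ⟨⟨m, s⟩, h⟩ := hy
      have h' : (s : A) • y = (m : P) := h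
      obtain ⟨⟨b, t⟩, hb⟩ := IsLocalization.surj S a
      refine ⟨(b • m, t * s), ?_⟩
      show ((t * s : S) : A) • (a • y) = b • (m : P)
      rw [← h', ← algebraMap_smul AS ((t * s : S) : A), ← algebraMap_smul AS b,
        ← algebraMap_smul AS (s : A)]
      simp only at hb
      rw [← hb, smul_smul, smul_smul, Submonoid.coe_mul, map_mul]
      congr 1
      ring
  · intro x y hxy
    exact ⟨1, by rw [Submodule.injective_subtype _ hxy]⟩

end Loc

section Main

variable {R : Type u} [CommRing R] [IsDomain R] [ValuationRing R]
  {A : Type u} [CommRing A] [IsLocalRing A] [Algebra R A] [IsLocalHom (algebraMap R A)]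
  [Module.Flat R A] [Algebra.EssFiniteType R A]

/-- finite projective modules over the generic fibre are stably free -/
theorem isStablyFree
    (hreg : IsRegularLocalRing (A ⧸ (IsLocalRing.maximalIdeal R).map (algebraMap R A)))
    (AS : Type u) [CommRing AS] [Algebra A AS]
    [IsLocalization (Algebra.algebraMapSubmonoid A (nonZeroDivisors R)) AS]
    (P : Type u) [AddCommGroup P] [Module AS P] [Module.Finite AS P] [Module.Projective AS P] :
    Module.IsStablyFree AS P := by
  classical
  have := hreg
  let _ : Module A P := Module.compHom P (algebraMap A AS)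
  have hst1 : IsScalarTower A AS P := IsScalarTower.of_algebraMap_smul fun r x => rfl
  let _ : Module R P := Module.compHom P ((algebraMap A AS).comp (algebraMap R A))
  have hst2 : IsScalarTower R A P := ⟨fun r a p => by
    show algebraMap A AS (r • a) • p = algebraMap A AS (algebraMap R A r) • (algebraMap A AS a • p)
    rw [Algebra.smul_def, map_mul, mul_smul]⟩
  obtain ⟨T, hT⟩ := (Module.Finite.fg_top : (⊤ : Submodule AS P).FG)
  let M : Submodule A P := Submodule.span A (T : Set P)
  have hfin : Module.Finite A M := Module.Finite.span_of_finite A T.finite_toSet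
  have hloc : IsLocalizedModule (Algebra.algebraMapSubmonoid A (nonZeroDivisors R)) M.subtype :=
    isLocalizedModule_span _ AS P T hT
  have hA : ∀ c : R, c ≠ 0 → ∀ a : A, c • a = 0 → a = 0 := by
    intro c hc a ha
    have hreg : IsSMulRegular A c :=
      Module.Flat.isSMulRegular_of_nonZeroDivisors (mem_nonZeroDivisors_of_ne_zero hc)
    exact hreg (by simp only [ha, smul_zero])
  have htfP : ∀ c : R, c ≠ 0 → ∀ m : P, c • m = 0 → m = 0 := by
    intro c hc m hm
    have hu : IsUnit (algebraMap A AS (algebraMap R A c)) :=
      IsLocalization.map_units AS (⟨algebraMap R A c,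
        Algebra.mem_algebraMapSubmonoid_of_mem ⟨c, mem_nonZeroDivisors_of_ne_zero hc⟩⟩ :
        Algebra.algebraMapSubmonoid A (nonZeroDivisors R))
    exact (hu.smul_eq_zero).1 hm
  have htf : ∀ c : R, c ≠ 0 → ∀ m : M, c • m = 0 → m = 0 := by
    intro c hc m hm
    apply Subtype.ext
    apply htfP c hc
    have := congrArg Subtype.val hm
    simpa using this
  have hI : Ideal.map (algebraMap R A) (IsLocalRing.maximalIdeal R) ≤
      IsLocalRing.maximalIdeal A :=
    ((IsLocalRing.local_hom_TFAE (algebraMap R A)).out 0 2).1 ‹_›
  obtain ⟨n, hn⟩ : ∃ n : ℕ, ringKrullDim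
      (A ⧸ (IsLocalRing.maximalIdeal R).map (algebraMap R A)) = n :=
    ⟨(IsLocalRing.maximalIdeal _).spanFinrank,
      (IsRegularLocalRing.spanFinrank_maximalIdeal).symm⟩
  have hfp : Module.FinitePresentation A M := VP5.finitePresentation_of_torsionFree (V := R) htf
  have hpd := Groth.Agent.Helper1.TorLib.hasProjectiveDimensionLT_of_isRegularLocalRing n hn
    (ModuleCat.of _ (TensorProduct A
      (A ⧸ Ideal.map (algebraMap R A) (IsLocalRing.maximalIdeal R)) M))
  have hpdM := VP6.pd_of_fibre (IsLocalRing.maximalIdeal R) hI hA n M htf hpd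
  have hffr := hasFFR_of_pdLT hA n M htf hpdM
  have := hasFFR_of_isLocalizedModule (Algebra.algebraMapSubmonoid A (nonZeroDivisors R)) AS n M P
    M.subtype hffr
  exact isStablyFree_of_hasFFR n P this

end Main

end Groth.Agent.Helper9.PV1
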