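import Mathlib
import Groth.Prelude.Def_DualSh
import Groth.Prelude.Def_DerSch2
import Groth.Prelude.Def_DerCA
import Groth.Agent.Helper9.Chart20
import Groth.Agent.Helper9.TenPC3
import Groth.Agent.Helper9.FBC4
import Groth.Agent.Helper9.QcLpull1
import Groth.Agent.Helper9.QP7
import Groth.Agent.Helper6.HasLBC
import Groth.Agent.Helper4.TildeExact

/-! Derived pullback along a pseudo-coherent morphism preserves relative pseudo-coherence
(for objects with quasi-coherent cohomology). -/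

set_option autoImplicit false
set_option linter.style.haveILetI false
set_option linter.unusedVariables false
set_option linter.unusedSectionVars false
universe u

namespace Groth.Agent.Helper9.PcPull1

open CategoryTheory CategoryTheory.Limits AlgebraicGeometry HomologicalComplex Pretriangulated
open Groth.Agent.Lead.PcLib Scheme.Modules

attribute [local instance] HasDerivedCategory.standard

variable {X Y Z : Scheme.{u}}

/-- **`Lf^*` along a pseudo-coherent morphism preserves `m`-pseudo-coherence relative to the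
base**, for objects with quasi-coherent cohomology -/
theorem rel_lpull (f : X ⟶ Y) (g : Y ⟶ Z) [LocallyOfFiniteType f] [LocallyOfFiniteType g]
    (hf : ∀ n : ℤ, DerSch.IsNPseudoCoherent f n) [DCoh.HasLpull f] (m : ℤ) (E : DCoh.D Y)
    (hq : DCoh.IsQCohD E) (hE : DerSch.IsPseudoCoherentRel g m E) :
    DerSch.IsPseudoCoherentRel (f ≫ g) m ((DCoh.Lpull f).obj E) := by
  have hf' := fun n => (Chart6.rel_iff f n _).1 (hf n)
  have hg' := (Chart6.rel_iff g m E).1 hE
  refine ⟨inferInstance, Set.univ, ?_, fun W _ => ?_⟩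
  · rw [eq_top_iff]
    intro z _
    obtain ⟨_, ⟨W, hW, rfl⟩, hzW, -⟩ :=
      (Z.isBasis_affineOpens).exists_subset_of_mem_open (Set.mem_univ z) isOpen_univ
    simp only [TopologicalSpace.Opens.mem_iSup]
    exact ⟨⟨W, hW⟩, Set.mem_univ _, hzW⟩
  · refine ⟨{U | ∃ V : Y.affineOpens, (V : Y.Opens) ≤ g ⁻¹ᵁ (W : Z.Opens) ∧
        (U : X.Opens) ≤ f ⁻¹ᵁ (V : Y.Opens)}, ?_, ?_⟩
    · apply le_antisymm
      · refine iSup₂_le ?_
        rintro U ⟨V, hVW, hUV⟩ x hx
        exact hVW (hUV hx)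
      · intro x hx
        have hx' : f.base x ∈ g ⁻¹ᵁ (W : Z.Opens) := hx
        obtain ⟨_, ⟨V, hV, rfl⟩, hxV, hVW⟩ :=
          (Y.isBasis_affineOpens).exists_subset_of_mem_open hx' (g ⁻¹ᵁ (W : Z.Opens)).2
        obtain ⟨_, ⟨U, hU, rfl⟩, hxU, hUV⟩ :=
          (X.isBasis_affineOpens).exists_subset_of_mem_open
            (show x ∈ (f ⁻¹ᵁ V : Set X) from hxV) (f ⁻¹ᵁ V).2
        simp only [TopologicalSpace.Opens.mem_iSup]
        exact ⟨⟨U, hU⟩, ⟨⟨V, hV⟩, hVW, hUV⟩, hxU⟩
    · rintro U ⟨V, hVW, hUV⟩ hUW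
      have hUa : IsAffineOpen (U : X.Opens) := U.2
      have hVa : IsAffineOpen (V : Y.Opens) := V.2
      have hWa : IsAffineOpen (W : Z.Opens) := W.2
      haveI : PreservesFiniteLimits (tilde.functor Γ(X, (U : X.Opens))) :=
        Groth.Agent.Helper4.TildeExact.preservesFiniteLimits_tilde _
      haveI : PreservesFiniteLimits (tilde.functor Γ(Y, (V : Y.Opens))) :=
        Groth.Agent.Helper4.TildeExact.preservesFiniteLimits_tilde _
      obtain ⟨N, ⟨eN⟩⟩ := Groth.Agent.Helper9.QcLpull1.exists_iso_tildeD Γ(Y, (V : Y.Opens))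
        ((DCoh.restrictD hVa.fromSpec).obj E)
        (Groth.Agent.Helper9.QP7.isQCohD_restrictD hVa.fromSpec E hq)
      letI algRA : Algebra Γ(Z, (W : Z.Opens)) Γ(Y, (V : Y.Opens)) :=
        (g.appLE (W : Z.Opens) (V : Y.Opens) hVW).hom.toAlgebra
      letI algAB : Algebra Γ(Y, (V : Y.Opens)) Γ(X, (U : X.Opens)) :=
        (f.appLE (V : Y.Opens) (U : X.Opens) hUV).hom.toAlgebra
      letI algRB : Algebra Γ(Z, (W : Z.Opens)) Γ(X, (U : X.Opens)) :=
        ((f ≫ g).appLE (W : Z.Opens) (U : X.Opens) hUW).hom.toAlgebra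
      haveI : IsScalarTower Γ(Z, (W : Z.Opens)) Γ(Y, (V : Y.Opens)) Γ(X, (U : X.Opens)) := by
        refine IsScalarTower.of_algebraMap_eq' ?_
        show ((f ≫ g).appLE (W : Z.Opens) (U : X.Opens) hUW).hom =
          (f.appLE (V : Y.Opens) (U : X.Opens) hUV).hom.comp
            (g.appLE (W : Z.Opens) (V : Y.Opens) hVW).hom
        rw [← CommRingCat.hom_comp, Scheme.Hom.appLE_comp_appLE]
      haveI := Groth.Agent.Helper6.HasLBC.hasLBaseChange
        (f.appLE (V : Y.Opens) (U : X.Opens) hUV).hom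
      obtain ⟨eM⟩ := Groth.Agent.Helper9.FBC4.nonempty_tildeD_lbc_iso f hVa hUa hUV E N eN
      rw [Chart18.exists_chart_iff_ring' (f ≫ g) hUa hWa hUW m _ _ eM]
      have h2 := (Chart18.exists_chart_iff_ring' g hVa hWa hVW m E N eN).1 (hg' V W hVW)
      have h1 : DerCA.IsRelPseudoCoherentModuleAll Γ(Y, (V : Y.Opens)) Γ(X, (U : X.Opens))
          Γ(X, (U : X.Opens)) :=
        fun n => (Chart20.unit_chart_iff f hUa hVa hUV n).1 (hf' n U V hUV)
      exact Groth.Agent.Helper9.TenPC3.relPC_LBaseChange h1 N m h2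

end Groth.Agent.Helper9.PcPull1
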