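import Mathlib
import Groth.Agent.Helper9.KR1
import Groth.Agent.Helper3.PcHomA
import Groth.Agent.Helper3.DRingTor6
import Groth.Agent.Helper6.TorAmpBridge
import Groth.Prelude.Def_MoreMor

/-! The direct image of the structure sheaf along a perfect closed immersion is perfect. -/

set_option autoImplicit false
set_option linter.style.haveILetI false
set_option linter.unusedVariables false
set_option linter.unusedSectionVars false
universe u

namespace Groth.Agent.Helper9.PerfCI1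

open CategoryTheory CategoryTheory.Limits AlgebraicGeometry Opposite
open Scheme.Modules Groth.Agent.Lead.PerfLib Groth.Agent.Lead.PcLib Groth.Agent.Helper9.TP1
  Groth.Agent.Helper9.TP2 Groth.Agent.Helper9.KR1

attribute [local instance] HasDerivedCategory.standard

/-- ring level: a surjective perfect ring map `A → B` makes `B` a perfect `A`-module -/
theorem isPerfect_inD_of_perfectHom {A B : Type u} [CommRing A] [CommRing B] [Algebra A B]
    (hsurj : Function.Surjective (algebraMap A B)) (h : MoreMor.IsPerfectHom A B) :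
    DRing.IsPerfect A (Dual.inD A B) := by
  obtain ⟨hpc, n, hn⟩ := h
  rw [Groth.Agent.Helper3.DRingLib.isPerfect_iff_pc_and_torDim]
  refine ⟨(Groth.Agent.Helper3.PcHom.pcHom_iff_of_surjective hsurj).1 hpc, -(n : ℤ), 0, ?_⟩
  exact Groth.Agent.Helper6.TorAmpBridge.hasTorAmplitudeIn_of_hasTorDimLE n B hn

variable {X Z : Scheme.{u}} (i : Z ⟶ X) [IsClosedImmersion i]

theorem isPerfect_pushO_of_perfectMor (hi : MoreMor.IsPerfectMor i) :
    DCoh.IsPerfect (DCoh.inD X (pushO i)) := by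
  rw [isPerfect_iff_locSP _ (sg (pushO i)) (sgIso (pushO i))]
  intro x
  obtain ⟨_, ⟨U, hU, rfl⟩, hxU, -⟩ :=
    X.isBasis_affineOpens.exists_subset_of_mem_open (show x ∈ (⊤ : Set X) from trivial)
      isOpen_univ
  refine locSP_sg_of_affine (pushO i) hU x hxU ?_
  have hUZ : IsAffineOpen (i ⁻¹ᵁ U) := hU.preimage i
  have hperf := hi (i ⁻¹ᵁ U) U hUZ hU le_rfl
  letI : Algebra Γ(X, U) Γ(Z, i ⁻¹ᵁ U) := (i.appLE U (i ⁻¹ᵁ U) le_rfl).hom.toAlgebra
  have hsurj : Function.Surjective (algebraMap Γ(X, U) Γ(Z, i ⁻¹ᵁ U)) := by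
    have := i.app_surjective U hU
    rw [Scheme.Hom.app_eq_appLE] at this
    exact this
  have h1 : DRing.IsPerfect Γ(X, U) (Dual.inD Γ(X, U) Γ(Z, i ⁻¹ᵁ U)) :=
    isPerfect_inD_of_perfectHom hsurj hperf
  obtain ⟨e⟩ := nonempty_sections_equiv i U hU _ rfl
  have hk : LinearMap.ker (Algebra.linearMap Γ(X, U) Γ(Z, i ⁻¹ᵁ U)) =
      RingHom.ker (i.app U).hom := by
    ext r
    rw [LinearMap.mem_ker, RingHom.mem_ker, Algebra.linearMap_apply, Scheme.Hom.app_eq_appLE]
    rfl
  let e0 : Γ(Z, i ⁻¹ᵁ U) ≃ₗ[Γ(X, U)] (Γ(X, U) ⧸ RingHom.ker (i.app U).hom) :=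
    ((Algebra.linearMap Γ(X, U) Γ(Z, i ⁻¹ᵁ U)).quotKerEquivOfSurjective hsurj).symm.trans
      (Submodule.quotEquivOfEq _ _ hk)
  exact isPerfect_inD_of_equiv (e0.trans e) h1

end Groth.Agent.Helper9.PerfCI1
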