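import Mathlib
import Groth.Prelude.Def_DCoh4
import Groth.Prelude.Def_DDual2
import Groth.Agent.Helper9.RPL1
import Groth.Agent.Helper9.PcTensor4
import Groth.Agent.Helper9.TorAmpSch2
import Groth.Agent.Helper9.TT6

/-! The derived tensor product of a perfect complex with an `S`-perfect complex is `S`-perfect. -/

set_option autoImplicit false
set_option linter.style.haveILetI false
set_option linter.unusedVariables false
set_option linter.unusedSectionVars false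
universe u

namespace Groth.Agent.Helper9.PerfTen1

open CategoryTheory CategoryTheory.Limits AlgebraicGeometry HomologicalComplex MonoidalCategory
open Groth.Agent.Lead.PerfLib Groth.Agent.Lead.PcLib Groth.Agent.Lead.FlatLib
  Groth.Agent.Helper9.RelTor2 Groth.Agent.Helper9.RPL1 Groth.Agent.Helper9.PerfTensor1
  Groth.Agent.Helper9.SkyMod4 Groth.Agent.Helper9.StalkTensor9
  Groth.Agent.Helper9.RingProj1 Groth.Agent.Helper9.RingProj4

attribute [local instance] HasDerivedCategory.standard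

variable {X S : Scheme.{u}} (f : X ⟶ S)

/-- the pointwise statement for a K-flat `P` -/
theorem at_tensor [Flat f] (F₀ P : CochainComplex X.Modules ℤ) (hP : DCoh.IsKFlat P)
    (hF₀ : DCoh.IsPerfect (DCoh.toD X F₀))
    (hPpc : ∀ m : ℤ, DCoh.IsPseudoCoherentD m (DCoh.toD X P))
    (hPtor : DCoh.LocHasFiniteRelTorDim f (DCoh.toD X P)) (x : X) :
    At f ((DCoh.tensorCx.obj F₀).obj P) x := by
  have hF₀' := (isPerfect_iff_pc_locFiniteTorDim _).1 hF₀
  constructor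
  · intro t
    obtain ⟨V₂, a, b, hxV₂, hV₂⟩ := hPtor x
    obtain ⟨E, hE, hEfl, ⟨eE⟩⟩ := hV₂ P ⟨Iso.refl _⟩
    let j : (V₂ : Scheme.{u}) ⟶ X := V₂.ι
    let P' : CochainComplex (V₂ : Scheme.{u}).Modules ℤ := (Rc j).obj P
    have hP'k : DCoh.IsKFlat P' := Groth.Agent.Helper9.Lpull5.isKFlat_restrict j P hP
    have i2 : @ModSite.HasLTensorCx _ _ _ (V₂ : Scheme.{u}).sheaf P' :=
      @Groth.Agent.Helper9.LTCx7.hasLTensorCx_of_isKFlat _ _ _ (V₂ : Scheme.{u}).sheaf P' hP'k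
    haveI : DCoh.HasLTensorCx P' := i2
    have hP'pc : ∀ n : ℤ, DCoh.IsPseudoCoherentD n (DerivedCategory.Q.obj P') := fun n =>
      isPseudoCoherentD_of_iso
        ((Scheme.Modules.restrictFunctor j).mapDerivedCategoryFactors.app P)
        (Groth.Agent.Helper9.TT6.isPseudoCoherentD_restrictD j n _ (hPpc n))
    have hP'b : ∀ i : ℤ, b < i → IsZero (P'.homology i) := fun i hi =>
      IsZero.of_iso ((HomologicalComplex.ExactAt.of_isZero (hE i (Or.inr hi))).isZero_homology)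
        (homologyIsoOfQIso eE.symm i)
    have hK' : ∀ m : ℤ, DCoh.IsPseudoCoherentD m (DerivedCategory.Q.obj ((Rc j).obj F₀)) :=
      fun n => isPseudoCoherentD_of_iso
        ((Scheme.Modules.restrictFunctor j).mapDerivedCategoryFactors.app F₀)
        (Groth.Agent.Helper9.TT6.isPseudoCoherentD_restrictD j n _ (hF₀'.1 n))
    have h1 := Groth.Agent.Helper9.PcTensor4.isPseudoCoherentD_ltensor_of_isKFlat P' hP'k hP'pc b
      hP'b (DerivedCategory.Q.obj ((Rc j).obj F₀)) hK' t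
    have h2 : DCoh.IsPseudoCoherentD t
        (DerivedCategory.Q.obj ((Rc j).obj ((DCoh.tensorCx.obj F₀).obj P))) :=
      isPseudoCoherentD_of_iso
        (@Groth.Agent.Helper9.LTCx1.ltIso _ _ _ (V₂ : Scheme.{u}).sheaf P' i2 hP'k
            ((Rc j).obj F₀) ≪≫
          DerivedCategory.Q.mapIso (resTensorCxIso j F₀ P).symm) h1
    have h3 := (isPseudoCoherentD_iff_locPC t _ ((Rc j).obj ((DCoh.tensorCx.obj F₀).obj P))
      (Iso.refl _)).1 h2 ⟨x, hxV₂⟩
    exact LocPC.of_restrict j h3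
  · obtain ⟨V₁, c, d, hxV₁, hV₁⟩ :=
      (Groth.Agent.Helper9.SmTor7.locHasFiniteTorDim_iff F₀).1 hF₀'.2 x
    obtain ⟨V₂, a, b, hxV₂, hV₂⟩ := (locHasFiniteRelTorDim_iff f _ P (Iso.refl _)).1 hPtor x
    refine ⟨V₁ ⊓ V₂, c + a, d + b, ⟨hxV₁, hxV₂⟩, fun x' hx' => ?_⟩
    have hk : Groth.Agent.Helper6.TenCx.KFlat ((StCx x').obj P) :=
      Groth.Agent.Helper9.StalkKFlat1.isKFlat_stalk P hP x'
    have h := core2 (f.stalkMap x').hom ((StCx x').obj F₀) ((StCx x').obj P) c d a b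
      (hV₁ x' hx'.1) hk (hV₂ x' hx'.2)
    exact Groth.Agent.Helper3.DRingLib.hasTorAmplitudeIn_of_iso
      (DerivedCategory.Q.mapIso ((rCx (f.stalkMap x').hom).mapIso
        (stalkTensorCxIso x' F₀ P).symm)) _ _ h

/-- **S7249** -/
theorem main [Flat f] (K : DCoh.D X) (hK : DCoh.IsPerfect K) (M : CochainComplex X.Modules ℤ)
    (hMpc : ∀ m : ℤ, DCoh.IsPseudoCoherentD m (DCoh.toD X M))
    (hMtor : DCoh.LocHasFiniteRelTorDim f (DCoh.toD X M)) [DCoh.HasLTensorCx M] :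
    (∀ m : ℤ, DCoh.IsPseudoCoherentD m ((DCoh.LTensorCx M).obj K)) ∧
      DCoh.LocHasFiniteRelTorDim f ((DCoh.LTensorCx M).obj K) := by
  have i1 : @ModSite.HasLTensorCx _ _ _ X.sheaf M := ‹DCoh.HasLTensorCx M›
  obtain ⟨P, q, hP, -, hq, -⟩ := Groth.Agent.Helper9.LTM3.exists_kflat_resolution M
  haveI := hq
  have i2 : @ModSite.HasLTensorCx _ _ _ X.sheaf P :=
    @Groth.Agent.Helper9.LTCx7.hasLTensorCx_of_isKFlat _ _ _ X.sheaf P hP
  haveI : DCoh.HasLTensorCx P := i2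
  haveI : IsIso (DerivedCategory.Q.map q) := by
    rw [DerivedCategory.isIso_Q_map_iff_quasiIso]; exact hq
  have eQ : DerivedCategory.Q.obj P ≅ DerivedCategory.Q.obj M := asIso (DerivedCategory.Q.map q)
  have e : DCoh.LTensorCx P ≅ DCoh.LTensorCx M :=
    @Groth.Agent.Helper9.LTCx6.ltensorIso _ _ _ X.sheaf P M q i2 i1 hq
  let F₀ : CochainComplex X.Modules ℤ := DerivedCategory.Q.objPreimage K
  let e₀ : DerivedCategory.Q.obj F₀ ≅ K := DerivedCategory.Q.objObjPreimageIso K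
  have a1 : (DCoh.LTensorCx M).obj K ≅ DerivedCategory.Q.obj ((DCoh.tensorCx.obj F₀).obj P) :=
    (e.app K).symm ≪≫ (DCoh.LTensorCx P).mapIso e₀.symm ≪≫
      (@Groth.Agent.Helper9.LTCx1.ltIso _ _ _ X.sheaf P i2 hP F₀)
  change Groth.Agent.Helper9.RPL1.P f ((DCoh.LTensorCx M).obj K)
  rw [P_iff_at f _ _ a1.symm]
  intro x
  refine at_tensor f F₀ P hP (isPerfect_of_iso e₀.symm hK)
    (fun m => isPseudoCoherentD_of_iso eQ.symm (hMpc m)) (fun y => ?_) x
  obtain ⟨V, a, b, hy, h⟩ := hMtor y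
  exact ⟨V, a, b, hy, fun F' ⟨e'⟩ => h F' ⟨e' ≪≫ eQ⟩⟩

end Groth.Agent.Helper9.PerfTen1
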