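import Mathlib

set_option autoImplicit false
universe u
open scoped FintypeCatDiscrete
open CategoryTheory

namespace Groth.Agent.Helper9.Pi1Aut

variable (G : Type u) [Group G] [TopologicalSpace G] [IsTopologicalGroup G]

/-- The forgetful functor. -/
abbrev F : ContAction FintypeCat.{u} G ⥤ FintypeCat.{u} :=
  forget₂ (ContAction FintypeCat.{u} G) FintypeCat.{u}

/-- The automorphism of the forgetful functor given by `g`. -/
def iotaFun (g : G) : Aut (F G) :=
  NatIso.ofComponents (fun X => X.obj.ρAut g) (by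
    intro X Y f
    exact (f.hom.comm g).symm)

lemma iotaFun_app (g : G) (X : ContAction FintypeCat.{u} G) (x : X.obj.V) :
    (iotaFun G g).hom.app X x = (X.obj.ρ g).hom x := rfl

/-- The canonical homomorphism `G → Aut F`. -/
def iota : G →* Aut (F G) where
  toFun := iotaFun G
  map_one' := by
    ext X x
    show (X.obj.ρ 1).hom x = x
    rw [map_one]
    rfl
  map_mul' g h := by
    ext X x
    show (X.obj.ρ (g * h)).hom x = (X.obj.ρ g).hom ((X.obj.ρ h).hom x)
    rw [map_mul]
    rfl

variable {G}

lemma isOpen_setOf_smul_eq (X : ContAction FintypeCat.{u} G) (x y : X.obj.V) :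
    IsOpen {g : G | (X.obj.ρ g).hom x = y} := by
  let T := (forget₂ (Action FintypeCat.{u} G) TopCat).obj X.obj
  have hc : ContinuousSMul G T := X.property
  let x' : T := x
  let y' : T := y
  have h1 : Continuous (fun g : G => g • x') := continuous_id.smul continuous_const
  have hd : DiscreteTopology T := inferInstanceAs (DiscreteTopology X.obj.V)
  have h2 : IsOpen ({y'} : Set T) := isOpen_discrete _
  exact h2.preimage h1


open PreGaloisCategory

variable (G) in
lemma continuous_iota : Continuous (iota G) := by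
  rw [continuous_induced_rng]
  refine continuous_pi fun X => ?_
  rw [continuous_discrete_rng]
  intro b
  have : (fun g => (autEmbedding (F G) ∘ iota G) g X) ⁻¹' {b} =
      ⋂ x : X.obj.V, {g : G | (X.obj.ρ g).hom x = b.hom x} := by
    ext g
    simp only [Set.mem_preimage, Set.mem_iInter, Set.mem_ofPred_eq, Function.comp_apply,
      Set.mem_singleton_iff]
    constructor
    · intro h x
      rw [← h]
      rfl
    · intro h
      apply Iso.ext
      ext x
      exact h x
  rw [this]
  exact isOpen_iInter_of_finite fun x => isOpen_setOf_smul_eq X x _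


section mk

lemma isContinuous_ofMulAction (Y : FintypeCat.{u}) [MulAction G Y]
    (hY : ∀ x y : Y, IsOpen {g : G | g • x = y}) :
    (Action.FintypeCat.ofMulAction G Y).IsContinuous := by
  let T := (forget₂ (Action FintypeCat.{u} G) TopCat).obj (Action.FintypeCat.ofMulAction G Y)
  have hd : DiscreteTopology T := inferInstanceAs (DiscreteTopology Y)
  refine ⟨?_⟩
  rw [continuous_prod_of_discrete_right]
  intro x
  rw [continuous_discrete_rng]
  intro y
  exact hY x y

variable (G) (X : Type u) [Fintype X] [MulAction G X]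

/-- A finite `G`-set with open point-transporters as an object of `ContAction FintypeCat G`. -/
def mkObj (hX : ∀ x y : X, IsOpen {g : G | g • x = y}) : ContAction FintypeCat.{u} G :=
  ⟨Action.FintypeCat.ofMulAction G (FintypeCat.of X), isContinuous_ofMulAction _ hX⟩

variable {G X}

lemma mkObj_ρ (hX : ∀ x y : X, IsOpen {g : G | g • x = y}) (g : G) (x : X) :
    (((mkObj G X hX).obj.ρ g).hom x : X) = g • x := rfl

/-- Morphism out of `mkObj` from an equivariant map. -/
def mkHom (hX : ∀ x y : X, IsOpen {g : G | g • x = y}) (Y : ContAction FintypeCat.{u} G)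
    (f : X → Y.obj.V) (hf : ∀ g x, f (g • x) = (Y.obj.ρ g).hom (f x)) : mkObj G X hX ⟶ Y :=
  ObjectProperty.homMk ⟨FintypeCat.homMk f, fun g => by
    ext x
    exact hf g x⟩

lemma mkHom_apply (hX : ∀ x y : X, IsOpen {g : G | g • x = y}) (Y : ContAction FintypeCat.{u} G)
    (f : X → Y.obj.V) (hf : ∀ g x, f (g • x) = (Y.obj.ρ g).hom (f x)) (x : X) :
    ((F G).map (mkHom hX Y f hf)) x = f x := rfl

end mk


section dense

/-- The action of `G` on the underlying set of an object. -/
@[reducible] def actOn (X : ContAction FintypeCat.{u} G) : MulAction G X.obj.V where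
  smul g x := (X.obj.ρ g).hom x
  one_smul x := by
    show (X.obj.ρ 1).hom x = x
    rw [map_one]; rfl
  mul_smul g h x := by
    show (X.obj.ρ (g * h)).hom x = (X.obj.ρ g).hom ((X.obj.ρ h).hom x)
    rw [map_mul]; rfl

lemma naturality_apply (σ : Aut (F G)) {X Y : ContAction FintypeCat.{u} G} (f : X ⟶ Y)
    (x : X.obj.V) : σ.hom.app Y ((F G).map f x) = (F G).map f (σ.hom.app X x) :=
  NatTrans.naturality_apply σ.hom f x

lemma exists_eq_on_fin (n : ℕ) (Xs : Fin n → ContAction FintypeCat.{u} G) (σ : Aut (F G)) :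
    ∃ g : G, ∀ (k : Fin n) (x : (Xs k).obj.V), σ.hom.app (Xs k) x = ((Xs k).obj.ρ g).hom x := by
  classical
  letI inst : ∀ X : ContAction FintypeCat.{u} G, MulAction G X.obj.V := fun X => actOn X
  let P := ∀ (k : Fin n) (x : (Xs k).obj.V), (Xs k).obj.V
  let p₀ : P := fun k x => x
  let O := MulAction.orbit G p₀
  haveI : Fintype O := Fintype.ofFinite _
  have hO : ∀ o o' : O, IsOpen {g : G | g • o = o'} := by
    intro o o'
    have : {g : G | g • o = o'} =
        ⋂ (k : Fin n), ⋂ (x : (Xs k).obj.V),
          {g : G | ((Xs k).obj.ρ g).hom (o.1 k x) = o'.1 k x} := by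
      ext g
      simp only [Set.mem_ofPred_eq, Set.mem_iInter]
      constructor
      · intro h X x
        rw [← h]
        rfl
      · intro h
        apply Subtype.ext
        funext X x
        exact h X x
    rw [this]
    exact isOpen_iInter_of_finite fun k => isOpen_iInter_of_finite fun x =>
      isOpen_setOf_smul_eq (Xs k) _ _
  let objO := mkObj G O hO
  let o₀ : O := ⟨p₀, MulAction.mem_orbit_self p₀⟩
  obtain ⟨g, hg⟩ : ∃ g : G, g • p₀ = (σ.hom.app objO o₀ : O).1 :=
    (σ.hom.app objO o₀ : O).2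
  refine ⟨g, fun k x => ?_⟩
  let φ : objO ⟶ Xs k := mkHom hO (Xs k) (fun o => o.1 k x) (fun g o => rfl)
  have h1 : σ.hom.app (Xs k) x = ((σ.hom.app objO o₀ : O).1 k x) := naturality_apply σ φ o₀
  rw [h1, ← hg]
  rfl

lemma exists_eq_on_finset (I : Finset (ContAction FintypeCat.{u} G)) (σ : Aut (F G)) :
    ∃ g : G, ∀ X ∈ I, ∀ x : X.obj.V, σ.hom.app X x = (X.obj.ρ g).hom x := by
  classical
  let e := I.equivFin
  obtain ⟨g, hg⟩ := exists_eq_on_fin _ (fun k => (e.symm k).1) σ
  refine ⟨g, fun X hX => ?_⟩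
  obtain ⟨k, rfl⟩ : ∃ k, (e.symm k).1 = X := ⟨e ⟨X, hX⟩, by rw [Equiv.symm_apply_apply]⟩
  exact hg k

variable (G) in
lemma denseRange_iota : DenseRange (iota G) := by
  rw [DenseRange, dense_iff_inter_open]
  intro U hU hne
  obtain ⟨σ, hσ⟩ := hne
  obtain ⟨V, hV, rfl⟩ := isOpen_induced_iff.mp hU
  obtain ⟨I, u, hu, hsub⟩ := isOpen_pi_iff.mp hV _ hσ
  obtain ⟨g, hg⟩ := exists_eq_on_finset I σ
  refine ⟨iota G g, ?_, ⟨g, rfl⟩⟩
  apply hsub
  intro X hX
  have : autEmbedding (F G) (iota G g) X = autEmbedding (F G) σ X := by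
    apply Iso.ext
    ext x
    exact (hg X hX x).symm
  rw [this]
  exact (hu X hX).2

end dense


section univ

variable (G) in
lemma existsUnique_factor (Q : Type u) [Group Q] [Finite Q] [TopologicalSpace Q]
    [DiscreteTopology Q] (π : G →* Q) (hπ : Continuous π) :
    ∃! ψ : Aut (F G) →* Q, Continuous ψ ∧ ψ.comp (iota G) = π := by
  classical
  letI : MulAction G Q := MulAction.compHom Q π
  haveI : Fintype Q := Fintype.ofFinite Q
  have hsm : ∀ (g : G) (q : Q), g • q = π g * q := fun g q => rfl
  have hQ : ∀ x y : Q, IsOpen {g : G | g • x = y} := by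
    intro x y
    have : {g : G | g • x = y} = π ⁻¹' {y * x⁻¹} := by
      ext g
      simp only [Set.mem_ofPred_eq, Set.mem_preimage, Set.mem_singleton_iff, hsm]
      exact eq_mul_inv_iff_mul_eq.symm
    rw [this]
    exact (isOpen_discrete _).preimage hπ
  let objQ := mkObj G Q hQ
  let r : Q → (objQ ⟶ objQ) := fun q' => mkHom hQ objQ (fun q => (q * q' : Q))
    (fun g q => by
      show (g • q) * q' = g • (q * q')
      rw [hsm, hsm, mul_assoc])
  let act : Aut (F G) → Q → Q := fun σ q => show Q from σ.hom.app objQ q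
  let ev : Aut (F G) → Q := fun σ => act σ 1
  have hev : ∀ (σ : Aut (F G)) (q' : Q), act σ q' = ev σ * q' := by
    intro σ q'
    have h1 : act σ (1 * q') = act σ 1 * q' := naturality_apply σ (r q') (1 : Q)
    rw [one_mul] at h1
    exact h1
  let ψ : Aut (F G) →* Q :=
    { toFun := ev
      map_one' := rfl
      map_mul' := by
        intro σ τ
        exact hev σ (ev τ) }
  have hψc : Continuous ψ := by
    rw [continuous_discrete_rng]
    intro q
    have h2 : Continuous (fun σ : Aut (F G) => autEmbedding (F G) σ objQ) :=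
      (continuous_apply objQ).comp continuous_induced_dom
    exact (isOpen_discrete {a : Aut ((F G).obj objQ) | (show Q from a.hom (1 : Q)) = q}).preimage h2
  have hψι : ψ.comp (iota G) = π := by
    ext g
    show ((objQ.obj.ρ g).hom (1 : Q) : Q) = π g
    rw [mkObj_ρ, hsm, mul_one]
  refine ⟨ψ, ⟨hψc, hψι⟩, ?_⟩
  rintro ψ' ⟨hψ'c, hψ'ι⟩
  have : (ψ' : Aut (F G) → Q) = ψ := by
    refine Continuous.ext_on (denseRange_iota G) hψ'c hψc ?_
    rintro _ ⟨g, rfl⟩
    show (ψ'.comp (iota G)) g = (ψ.comp (iota G)) g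
    rw [hψ'ι, hψι]
  exact DFunLike.coe_injective this

end univ

end Groth.Agent.Helper9.Pi1Aut
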