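import Mathlib

set_option autoImplicit false
universe u
open CategoryTheory

namespace Groth.Agent.Helper9.Pi1AutDisc

variable (G : Type u) [Group G]

/-- The forgetful functor. -/
abbrev F : Action FintypeCat.{u} G ⥤ FintypeCat.{u} := Action.forget FintypeCat.{u} G

/-- The automorphism of the forgetful functor given by `g`. -/
def iotaFun (g : G) : Aut (F G) :=
  NatIso.ofComponents (fun X => X.ρAut g) (by
    intro X Y f
    exact (f.comm g).symm)

/-- The canonical homomorphism `G → Aut F`. -/
def iota : G →* Aut (F G) where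
  toFun := iotaFun G
  map_one' := by
    ext X x
    show (X.ρ 1).hom x = x
    rw [map_one]
    rfl
  map_mul' g h := by
    ext X x
    show (X.ρ (g * h)).hom x = (X.ρ g).hom ((X.ρ h).hom x)
    rw [map_mul]
    rfl

lemma iota_app (g : G) (X : Action FintypeCat.{u} G) (x : X.V) :
    (iota G g).hom.app X x = (X.ρ g).hom x := rfl

variable {G}

section mk

variable (G) (X : Type u) [Fintype X] [MulAction G X]

/-- A finite `G`-set as an object of `Action FintypeCat G`. -/
def mkObj : Action FintypeCat.{u} G := Action.FintypeCat.ofMulAction G (FintypeCat.of X)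

variable {G X}

lemma mkObj_ρ (g : G) (x : X) : (((mkObj G X).ρ g).hom x : X) = g • x := rfl

/-- Morphism out of `mkObj` from an equivariant map. -/
def mkHom (Y : Action FintypeCat.{u} G)
    (f : X → Y.V) (hf : ∀ g x, f (g • x) = (Y.ρ g).hom (f x)) : mkObj G X ⟶ Y :=
  ⟨FintypeCat.homMk f, fun g => by
    ext x
    exact hf g x⟩

lemma mkHom_apply (Y : Action FintypeCat.{u} G)
    (f : X → Y.V) (hf : ∀ g x, f (g • x) = (Y.ρ g).hom (f x)) (x : X) :
    ((F G).map (mkHom Y f hf)) x = f x := rfl

end mk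

section dense

open PreGaloisCategory

/-- The action of `G` on the underlying set of an object. -/
@[reducible] def actOn (X : Action FintypeCat.{u} G) : MulAction G X.V where
  smul g x := (X.ρ g).hom x
  one_smul x := by
    show (X.ρ 1).hom x = x
    rw [map_one]; rfl
  mul_smul g h x := by
    show (X.ρ (g * h)).hom x = (X.ρ g).hom ((X.ρ h).hom x)
    rw [map_mul]; rfl

lemma naturality_apply (σ : Aut (F G)) {X Y : Action FintypeCat.{u} G} (f : X ⟶ Y)
    (x : X.V) : σ.hom.app Y ((F G).map f x) = (F G).map f (σ.hom.app X x) :=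
  NatTrans.naturality_apply σ.hom f x

lemma exists_eq_on_fin (n : ℕ) (Xs : Fin n → Action FintypeCat.{u} G) (σ : Aut (F G)) :
    ∃ g : G, ∀ (k : Fin n) (x : (Xs k).V), σ.hom.app (Xs k) x = ((Xs k).ρ g).hom x := by
  classical
  letI inst : ∀ X : Action FintypeCat.{u} G, MulAction G X.V := fun X => actOn X
  let P := ∀ (k : Fin n) (x : (Xs k).V), (Xs k).V
  let p₀ : P := fun k x => x
  let O := MulAction.orbit G p₀
  haveI : Fintype O := Fintype.ofFinite _
  let objO := mkObj G O
  let o₀ : O := ⟨p₀, MulAction.mem_orbit_self p₀⟩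
  obtain ⟨g, hg⟩ : ∃ g : G, g • p₀ = (σ.hom.app objO o₀ : O).1 :=
    (σ.hom.app objO o₀ : O).2
  refine ⟨g, fun k x => ?_⟩
  let φ : objO ⟶ Xs k := mkHom (Xs k) (fun o => o.1 k x) (fun g o => rfl)
  have h1 : σ.hom.app (Xs k) x = ((σ.hom.app objO o₀ : O).1 k x) := naturality_apply σ φ o₀
  rw [h1, ← hg]
  rfl

lemma exists_eq_on_finset (I : Finset (Action FintypeCat.{u} G)) (σ : Aut (F G)) :
    ∃ g : G, ∀ X ∈ I, ∀ x : X.V, σ.hom.app X x = (X.ρ g).hom x := by
  classical
  let e := I.equivFin
  obtain ⟨g, hg⟩ := exists_eq_on_fin _ (fun k => (e.symm k).1) σ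
  refine ⟨g, fun X hX => ?_⟩
  obtain ⟨k, rfl⟩ : ∃ k, (e.symm k).1 = X := ⟨e ⟨X, hX⟩, by rw [Equiv.symm_apply_apply]⟩
  exact hg k

variable (G) in
lemma denseRange_iota : DenseRange (iota G) := by
  rw [DenseRange, dense_iff_inter_open]
  intro U hU hne
  obtain ⟨σ, hσ⟩ := hne
  obtain ⟨V, hV, rfl⟩ := isOpen_induced_iff.mp hU
  obtain ⟨I, u, hu, hsub⟩ := isOpen_pi_iff.mp hV _ hσ
  obtain ⟨g, hg⟩ := exists_eq_on_finset I σ
  refine ⟨iota G g, ?_, ⟨g, rfl⟩⟩
  apply hsub
  intro X hX
  have : autEmbedding (F G) (iota G g) X = autEmbedding (F G) σ X := by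
    apply Iso.ext
    ext x
    exact (hg X hX x).symm
  rw [this]
  exact (hu X hX).2

end dense

open PreGaloisCategory

section ev

variable (N : Subgroup G) [N.Normal] [N.FiniteIndex]

/-- The `Fintype` structure on a finite quotient. -/
noncomputable def fintypeQ : Fintype (G ⧸ N) := Fintype.ofFinite _

/-- `G ⧸ N` as a finite `G`-set. -/
noncomputable def objQ : Action FintypeCat.{u} G :=
  letI : Fintype (G ⧸ N) := fintypeQ N
  mkObj G (G ⧸ N)

/-- The action of `σ` on `G ⧸ N`. -/
noncomputable def actQ (σ : Aut (F G)) (q : G ⧸ N) : G ⧸ N :=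
  show G ⧸ N from σ.hom.app (objQ N) q

/-- Evaluation at the unit coset. -/
noncomputable def evQ (σ : Aut (F G)) : G ⧸ N := actQ N σ 1

lemma smul_eq_mk_mul (g : G) (q : G ⧸ N) : g • q = (QuotientGroup.mk g : G ⧸ N) * q := by
  induction q using QuotientGroup.induction_on with
  | H a => rfl

lemma actQ_eq (σ : Aut (F G)) (q' : G ⧸ N) : actQ N σ q' = evQ N σ * q' := by
  letI : Fintype (G ⧸ N) := fintypeQ N
  let r : objQ N ⟶ objQ N := mkHom (objQ N) (fun q => (q * q' : G ⧸ N))
    (fun g q => by
      show (g • q) * q' = g • (q * q')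
      rw [smul_eq_mk_mul, smul_eq_mk_mul, mul_assoc])
  have h1 : actQ N σ (1 * q') = actQ N σ 1 * q' := naturality_apply σ r (1 : G ⧸ N)
  rw [one_mul] at h1
  exact h1

lemma evQ_one : evQ N (1 : Aut (F G)) = 1 := rfl

lemma evQ_mul (σ τ : Aut (F G)) : evQ N (σ * τ) = evQ N σ * evQ N τ :=
  actQ_eq N σ (evQ N τ)

lemma evQ_iota (g : G) : evQ N (iota G g) = QuotientGroup.mk g := by
  show g • (1 : G ⧸ N) = _
  rw [smul_eq_mk_mul, mul_one]

lemma evQ_map {N' : Subgroup G} [N'.Normal] [N'.FiniteIndex] (h : N ≤ N') (σ : Aut (F G)) :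
    QuotientGroup.map N N' (MonoidHom.id G) h (evQ N σ) = evQ N' σ := by
  letI : Fintype (G ⧸ N) := fintypeQ N
  let pr : objQ N ⟶ objQ N' := mkHom (objQ N')
    (fun q => (QuotientGroup.map N N' (MonoidHom.id G) h q : G ⧸ N'))
    (fun g q => by
      show QuotientGroup.map N N' (MonoidHom.id G) h (g • q) =
        g • (QuotientGroup.map N N' (MonoidHom.id G) h q)
      rw [smul_eq_mk_mul, smul_eq_mk_mul, map_mul]
      rfl)
  have h1 : actQ N' σ (QuotientGroup.map N N' (MonoidHom.id G) h 1) =
      QuotientGroup.map N N' (MonoidHom.id G) h (actQ N σ 1) := naturality_apply σ pr (1 : G ⧸ N)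
  rw [map_one] at h1
  exact h1.symm

lemma isOpen_evQ_preimage (q : G ⧸ N) : IsOpen {σ : Aut (F G) | evQ N σ = q} := by
  have h2 : Continuous (fun σ : Aut (F G) => autEmbedding (F G) σ (objQ N)) :=
    (continuous_apply (objQ N)).comp continuous_induced_dom
  exact (isOpen_discrete {a : Aut ((F G).obj (objQ N)) |
    (show G ⧸ N from a.hom (1 : G ⧸ N)) = q}).preimage h2

/-- If `σ` fixes the unit coset of every `G ⧸ N`, it is trivial. -/
lemma eq_one_of_forall_evQ
    (σ : Aut (F G)) (h : ∀ (N : Subgroup G) [N.Normal] [N.FiniteIndex], evQ N σ = 1) : σ = 1 := by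
  suffices hs : ∀ (X : Action FintypeCat.{u} G) (x : X.V), σ.hom.app X x = x by
    ext X x
    exact hs X x
  intro X x
  letI : MulAction G X.V := actOn X
  let K : Subgroup G := (MulAction.toPermHom G X.V).ker
  haveI : K.Normal := MonoidHom.normal_ker _
  haveI : K.FiniteIndex := by
    have : Finite (G ⧸ K) := by
      have e := QuotientGroup.quotientKerEquivRange (MulAction.toPermHom G X.V)
      exact Finite.of_equiv _ e.symm.toEquiv
    exact Subgroup.finiteIndex_of_finite_quotient
  letI : Fintype (G ⧸ K) := fintypeQ K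
  let φ : objQ K ⟶ X := mkHom X
    (fun q => Quotient.liftOn' q (fun g => g • x) (by
      intro a b hab
      rw [QuotientGroup.leftRel_apply] at hab
      have : (MulAction.toPermHom G X.V) (a⁻¹ * b) = 1 := hab
      have h2 := congrArg (fun p : Equiv.Perm X.V => p x) this
      simp only [MulAction.toPermHom_apply, MulAction.toPerm_apply, Equiv.Perm.coe_one, id_eq,
        mul_smul] at h2
      show a • x = b • x
      conv_lhs => rw [← h2]
      rw [smul_inv_smul]))
    (fun g q => by
      induction q using QuotientGroup.induction_on with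
      | H a =>
        show (g * a) • x = g • (a • x)
        rw [mul_smul])
  have h1 : σ.hom.app X ((1 : G) • x) = (F G).map φ (actQ K σ 1) :=
    naturality_apply σ φ ((1 : G ⧸ K))
  rw [one_smul] at h1
  rw [h1]
  have h3 : actQ K σ 1 = 1 := h K
  rw [h3]
  show (1 : G) • x = x
  rw [one_smul]

end ev


section main

open ProfiniteGrp.ProfiniteCompletion

variable (G)

/-- The comparison homomorphism `Aut F → Ĝ`. -/
noncomputable def psi : Aut (F G) →* completion (GrpCat.of G) where
  toFun σ := ⟨fun H => evQ H.toSubgroup σ, fun _ _ f => evQ_map _ (leOfHom f) σ⟩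
  map_one' := Subtype.ext (funext fun H => evQ_one _)
  map_mul' σ τ := Subtype.ext (funext fun H => evQ_mul _ σ τ)

lemma psi_iota (g : G) : psi G (iota G g) = etaFn (GrpCat.of G) g :=
  Subtype.ext (funext fun H => evQ_iota _ g)

lemma continuous_psi : Continuous (psi G) := by
  refine continuous_induced_rng.mpr (continuous_pi fun H => ?_)
  haveI : DiscreteTopology ((diagram (GrpCat.of G)).obj H) := ⟨rfl⟩
  rw [continuous_discrete_rng]
  intro q
  exact isOpen_evQ_preimage H.toSubgroup q

lemma injective_psi : Function.Injective (psi G) := by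
  rw [injective_iff_map_eq_one]
  intro σ hσ
  apply eq_one_of_forall_evQ
  intro N _ _
  let H : FiniteIndexNormalSubgroup G := { toSubgroup := N }
  have := congrFun (congrArg Subtype.val hσ) H
  exact this

lemma surjective_psi : Function.Surjective (psi G) := by
  have hcl : IsClosed (Set.range (psi G)) := (isCompact_range (continuous_psi G)).isClosed
  have hd : Dense (Set.range (psi G)) := by
    refine (denseRange (GrpCat.of G)).mono ?_
    rintro _ ⟨g, rfl⟩
    exact ⟨_, psi_iota G g⟩
  rw [← Set.range_eq_univ, ← hcl.closure_eq, hd.closure_eq]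

theorem main : ∃ φ : (completion (GrpCat.of G)) ≃ₜ* Aut (Action.forget FintypeCat.{u} G),
      ∀ (g : G) (X : Action FintypeCat.{u} G) (x : X.V),
        (φ (etaFn (GrpCat.of G) g)).hom.app X x = (X.ρ g).hom x := by
  let e : Aut (F G) ≃* completion (GrpCat.of G) :=
    MulEquiv.ofBijective (psi G) ⟨injective_psi G, surjective_psi G⟩
  let h : Aut (F G) ≃ₜ completion (GrpCat.of G) :=
    Continuous.homeoOfEquivCompactToT2 (f := e.toEquiv) (continuous_psi G)
  let φ' : Aut (F G) ≃ₜ* completion (GrpCat.of G) :=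
    { e with
      continuous_toFun := h.continuous_toFun
      continuous_invFun := h.continuous_invFun }
  refine ⟨φ'.symm, fun g X x => ?_⟩
  have h1 : φ'.symm (etaFn (GrpCat.of G) g) = iota G g := by
    rw [← psi_iota]
    exact φ'.symm_apply_apply (iota G g)
  rw [h1]
  rfl

end main

end Groth.Agent.Helper9.Pi1AutDisc
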