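import Mathlib

set_option autoImplicit false

namespace Groth.Agent.Helper9.PiHtpy

open CategoryTheory CategoryTheory.Limits Opposite Simplicial

universe w v u

variable {C : Type u} [Category.{v} C] {T : Type w} [HasLimitsOfShape (Discrete T) C]

theorem hom_ext_pi (Y : T → SimplicialObject C) (k : SimplexCategoryᵒᵖ) {S : C}
    (f g : S ⟶ (∏ᶜ Y).obj k) (h : ∀ t, f ≫ (Pi.π Y t).app k = g ≫ (Pi.π Y t).app k) : f = g := by
  rw [← cancel_mono (piObjIso Y k).hom]
  apply Pi.hom_ext
  intro t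
  rw [Category.assoc, Category.assoc, piObjIso_hom_comp_π]
  exact h t

/-- lifting into a component of a product of simplicial objects -/
noncomputable def liftPi (Y : T → SimplicialObject C) (k : SimplexCategoryᵒᵖ) {S : C}
    (g : ∀ t, S ⟶ (Y t).obj k) : S ⟶ (∏ᶜ Y).obj k :=
  Pi.lift g ≫ (piObjIso Y k).inv

@[reassoc (attr := simp)]
theorem liftPi_π (Y : T → SimplicialObject C) (k : SimplexCategoryᵒᵖ) {S : C}
    (g : ∀ t, S ⟶ (Y t).obj k) (t : T) : liftPi Y k g ≫ (Pi.π Y t).app k = g t := by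
  unfold liftPi
  rw [Category.assoc, piObjIso_inv_comp_π, Pi.lift_π]

variable {X Y : T → SimplicialObject C} (a b : ∀ t, X t ⟶ Y t)

theorem piMap_π_app (t : T) (k : SimplexCategoryᵒᵖ) :
    (Limits.Pi.map a).app k ≫ (Pi.π Y t).app k = (Pi.π X t).app k ≫ (a t).app k := by
  rw [← NatTrans.comp_app, ← NatTrans.comp_app, Limits.Pi.map_π]

theorem π_δ (t : T) {n : ℕ} (i : Fin (n + 2)) :
    (∏ᶜ Y).δ i ≫ (Pi.π Y t).app _ = (Pi.π Y t).app _ ≫ (Y t).δ i :=
  (Pi.π Y t).naturality _

theorem π_σ (t : T) {n : ℕ} (i : Fin (n + 1)) :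
    (∏ᶜ Y).σ i ≫ (Pi.π Y t).app _ = (Pi.π Y t).app _ ≫ (Y t).σ i :=
  (Pi.π Y t).naturality _

noncomputable def piHomotopy (h : ∀ t, SimplicialObject.Homotopy (a t) (b t)) :
    SimplicialObject.Homotopy (Limits.Pi.map a) (Limits.Pi.map b) where
  h {n} i := liftPi Y (op ⦋n + 1⦌) (fun t => (Pi.π X t).app (op ⦋n⦌) ≫ (h t).h i)
  h_zero_comp_δ_zero n := by
    apply hom_ext_pi
    intro t
    rw [Category.assoc, π_δ, liftPi_π_assoc, Category.assoc, (h t).h_zero_comp_δ_zero, piMap_π_app]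
  h_last_comp_δ_last n := by
    apply hom_ext_pi
    intro t
    rw [Category.assoc, π_δ, liftPi_π_assoc, Category.assoc, (h t).h_last_comp_δ_last, piMap_π_app]
  h_succ_comp_δ_castSucc_of_lt i j hij := by
    apply hom_ext_pi
    intro t
    rw [Category.assoc, π_δ, liftPi_π_assoc, Category.assoc,
      (h t).h_succ_comp_δ_castSucc_of_lt i j hij, Category.assoc, liftPi_π, ← Category.assoc,
      ← Category.assoc, π_δ]
  h_succ_comp_δ_castSucc_succ j := by
    apply hom_ext_pi
    intro t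
    rw [Category.assoc, π_δ, liftPi_π_assoc, Category.assoc,
      (h t).h_succ_comp_δ_castSucc_succ j, Category.assoc, π_δ, liftPi_π_assoc, Category.assoc]
  h_castSucc_comp_δ_succ_of_lt i j hji := by
    apply hom_ext_pi
    intro t
    rw [Category.assoc, π_δ, liftPi_π_assoc, Category.assoc,
      (h t).h_castSucc_comp_δ_succ_of_lt i j hji, Category.assoc, liftPi_π, ← Category.assoc,
      ← Category.assoc, π_δ]
  h_comp_σ_castSucc_of_le i j hij := by
    apply hom_ext_pi
    intro t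
    rw [Category.assoc, π_σ, liftPi_π_assoc, Category.assoc,
      (h t).h_comp_σ_castSucc_of_le i j hij, Category.assoc, liftPi_π, ← Category.assoc,
      ← Category.assoc, π_σ]
  h_comp_σ_succ_of_lt i j hji := by
    apply hom_ext_pi
    intro t
    rw [Category.assoc, π_σ, liftPi_π_assoc, Category.assoc,
      (h t).h_comp_σ_succ_of_lt i j hji, Category.assoc, liftPi_π, ← Category.assoc,
      ← Category.assoc, π_σ]

theorem S6815 (h : ∀ t, Nonempty (SimplicialObject.Homotopy (a t) (b t))) :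
    Nonempty (SimplicialObject.Homotopy (Limits.Pi.map a) (Limits.Pi.map b)) :=
  ⟨piHomotopy a b (fun t => (h t).some)⟩

end Groth.Agent.Helper9.PiHtpy
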