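import Mathlib

/-!
# The free Picard groupoid over a symmetric monoidal category: construction

Objects are formal expressions built from objects of `A`, a formal unit, formal tensor products and
formal inverses; morphisms are formal composites of the structural isomorphisms, the images of the
morphisms of `A`, the lax monoidal structure morphisms of the inclusion, and the morphisms
`X ⊗ X⁻¹ ⟶ 𝟙`, all made invertible, modulo the relations of a symmetric monoidal category and of a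
lax braided functor.
-/

set_option autoImplicit false

universe v u

namespace Groth.Agent.Helper9.PicF

open CategoryTheory MonoidalCategory

variable (A : Type u) [Category.{v} A] [MonoidalCategory A] [SymmetricCategory A]

set_option genSizeOfSpec false in
set_option genInjectivity false in
/-- the objects of the free Picard groupoid -/
inductive Obj : Type u
  | of : A → Obj
  | unit : Obj
  | tensor : Obj → Obj → Obj
  | inv : Obj → Obj

variable {A}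

/-- formal morphisms -/
inductive Hom : Obj A → Obj A → Type (max u v)
  | id (X) : Hom X X
  | comp {X Y Z} (f : Hom X Y) (g : Hom Y Z) : Hom X Z
  | symm {X Y} (f : Hom X Y) : Hom Y X
  | whiskerLeft (X : Obj A) {Y₁ Y₂} (f : Hom Y₁ Y₂) : Hom (X.tensor Y₁) (X.tensor Y₂)
  | whiskerRight {X₁ X₂} (f : Hom X₁ X₂) (Y : Obj A) : Hom (X₁.tensor Y) (X₂.tensor Y)
  | tensor {W X Y Z} (f : Hom W Y) (g : Hom X Z) : Hom (W.tensor X) (Y.tensor Z)
  | α (X Y Z : Obj A) : Hom ((X.tensor Y).tensor Z) (X.tensor (Y.tensor Z))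
  | l (X : Obj A) : Hom (Obj.unit.tensor X) X
  | ρ (X : Obj A) : Hom (X.tensor Obj.unit) X
  | β (X Y : Obj A) : Hom (X.tensor Y) (Y.tensor X)
  | of {a b : A} (f : a ⟶ b) : Hom (Obj.of a) (Obj.of b)
  | μ (a b : A) : Hom ((Obj.of a).tensor (Obj.of b)) (Obj.of (a ⊗ b))
  | ε : Hom Obj.unit (Obj.of (𝟙_ A))
  | η (X : Obj A) : Hom (X.tensor X.inv) Obj.unit

local infixr:10 " ⟶ᵐ " => Hom

/-- the relations -/
inductive HomEquiv : ∀ {X Y : Obj A}, (X ⟶ᵐ Y) → (X ⟶ᵐ Y) → Prop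
  | refl {X Y} (f : X ⟶ᵐ Y) : HomEquiv f f
  | symm' {X Y} (f g : X ⟶ᵐ Y) : HomEquiv f g → HomEquiv g f
  | trans {X Y} {f g h : X ⟶ᵐ Y} : HomEquiv f g → HomEquiv g h → HomEquiv f h
  | comp {X Y Z} {f f' : X ⟶ᵐ Y} {g g' : Y ⟶ᵐ Z} :
      HomEquiv f f' → HomEquiv g g' → HomEquiv (f.comp g) (f'.comp g')
  | symm {X Y} {f f' : X ⟶ᵐ Y} : HomEquiv f f' → HomEquiv f.symm f'.symm
  | whiskerLeft (X) {Y Z} (f f' : Y ⟶ᵐ Z) :
      HomEquiv f f' → HomEquiv (f.whiskerLeft X) (f'.whiskerLeft X)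
  | whiskerRight {Y Z} (f f' : Y ⟶ᵐ Z) (X) :
      HomEquiv f f' → HomEquiv (f.whiskerRight X) (f'.whiskerRight X)
  | tensor {W X Y Z} {f f' : W ⟶ᵐ X} {g g' : Y ⟶ᵐ Z} :
      HomEquiv f f' → HomEquiv g g' → HomEquiv (f.tensor g) (f'.tensor g')
  | comp_id {X Y} (f : X ⟶ᵐ Y) : HomEquiv (f.comp (Hom.id _)) f
  | id_comp {X Y} (f : X ⟶ᵐ Y) : HomEquiv ((Hom.id _).comp f) f
  | assoc {X Y U V : Obj A} (f : X ⟶ᵐ U) (g : U ⟶ᵐ V) (h : V ⟶ᵐ Y) :
      HomEquiv ((f.comp g).comp h) (f.comp (g.comp h))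
  | symm_comp {X Y} (f : X ⟶ᵐ Y) : HomEquiv (f.symm.comp f) (Hom.id _)
  | comp_symm {X Y} (f : X ⟶ᵐ Y) : HomEquiv (f.comp f.symm) (Hom.id _)
  | tensorHom_def {X₁ Y₁ X₂ Y₂} (f : X₁ ⟶ᵐ Y₁) (g : X₂ ⟶ᵐ Y₂) :
      HomEquiv (f.tensor g) ((f.whiskerRight X₂).comp (g.whiskerLeft Y₁))
  | id_tensorHom_id {X Y} : HomEquiv ((Hom.id X).tensor (Hom.id Y)) (Hom.id _)
  | tensorHom_comp_tensorHom {X₁ Y₁ Z₁ X₂ Y₂ Z₂ : Obj A} (f₁ : X₁ ⟶ᵐ Y₁) (f₂ : X₂ ⟶ᵐ Y₂)
      (g₁ : Y₁ ⟶ᵐ Z₁) (g₂ : Y₂ ⟶ᵐ Z₂) :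
    HomEquiv ((f₁.tensor f₂).comp (g₁.tensor g₂)) ((f₁.comp g₁).tensor (f₂.comp g₂))
  | whiskerLeft_id (X Y) : HomEquiv ((Hom.id Y).whiskerLeft X) (Hom.id (X.tensor Y))
  | id_whiskerRight (X Y) : HomEquiv ((Hom.id X).whiskerRight Y) (Hom.id (X.tensor Y))
  | associator_naturality {X₁ X₂ X₃ Y₁ Y₂ Y₃} (f₁ : X₁ ⟶ᵐ Y₁) (f₂ : X₂ ⟶ᵐ Y₂) (f₃ : X₃ ⟶ᵐ Y₃) :
      HomEquiv (((f₁.tensor f₂).tensor f₃).comp (Hom.α Y₁ Y₂ Y₃))
        ((Hom.α X₁ X₂ X₃).comp (f₁.tensor (f₂.tensor f₃)))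
  | ρ_naturality {X Y} (f : X ⟶ᵐ Y) :
      HomEquiv ((f.whiskerRight Obj.unit).comp (Hom.ρ Y)) ((Hom.ρ X).comp f)
  | l_naturality {X Y} (f : X ⟶ᵐ Y) :
      HomEquiv ((f.whiskerLeft Obj.unit).comp (Hom.l Y)) ((Hom.l X).comp f)
  | pentagon {W X Y Z} :
      HomEquiv
        (((Hom.α W X Y).whiskerRight Z).comp
          ((Hom.α W (X.tensor Y) Z).comp ((Hom.α X Y Z).whiskerLeft W)))
        ((Hom.α (W.tensor X) Y Z).comp (Hom.α W X (Y.tensor Z)))
  | triangle {X Y} :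
      HomEquiv ((Hom.α X Obj.unit Y).comp ((Hom.l Y).whiskerLeft X))
        ((Hom.ρ X).whiskerRight Y)
  | braiding_naturality_right (X) {Y Z} (f : Y ⟶ᵐ Z) :
      HomEquiv ((f.whiskerLeft X).comp (Hom.β X Z)) ((Hom.β X Y).comp (f.whiskerRight X))
  | braiding_naturality_left {X Y} (f : X ⟶ᵐ Y) (Z) :
      HomEquiv ((f.whiskerRight Z).comp (Hom.β Y Z)) ((Hom.β X Z).comp (f.whiskerLeft Z))
  | hexagon_forward (X Y Z) :
      HomEquiv ((Hom.α X Y Z).comp ((Hom.β X (Y.tensor Z)).comp (Hom.α Y Z X)))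
        (((Hom.β X Y).whiskerRight Z).comp ((Hom.α Y X Z).comp ((Hom.β X Z).whiskerLeft Y)))
  | hexagon_reverse (X Y Z) :
      HomEquiv ((Hom.α X Y Z).symm.comp ((Hom.β (X.tensor Y) Z).comp (Hom.α Z X Y).symm))
        (((Hom.β Y Z).whiskerLeft X).comp ((Hom.α X Z Y).symm.comp ((Hom.β X Z).whiskerRight Y)))
  | symmetry (X Y) : HomEquiv ((Hom.β X Y).comp (Hom.β Y X)) (Hom.id _)
  | of_id (a : A) : HomEquiv (Hom.of (𝟙 a)) (Hom.id _)
  | of_comp {a b c : A} (f : a ⟶ b) (g : b ⟶ c) :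
      HomEquiv (Hom.of (f ≫ g)) ((Hom.of f).comp (Hom.of g))
  | μ_natural_left {a b : A} (f : a ⟶ b) (c : A) :
      HomEquiv (((Hom.of f).whiskerRight (Obj.of c)).comp (Hom.μ b c))
        ((Hom.μ a c).comp (Hom.of (f ▷ c)))
  | μ_natural_right {a b : A} (c : A) (f : a ⟶ b) :
      HomEquiv (((Hom.of f).whiskerLeft (Obj.of c)).comp (Hom.μ c b))
        ((Hom.μ c a).comp (Hom.of (c ◁ f)))
  | associativity (a b c : A) :
      HomEquiv (((Hom.μ a b).whiskerRight (Obj.of c)).comp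
          ((Hom.μ (a ⊗ b) c).comp (Hom.of (α_ a b c).hom)))
        ((Hom.α (Obj.of a) (Obj.of b) (Obj.of c)).comp
          (((Hom.μ b c).whiskerLeft (Obj.of a)).comp (Hom.μ a (b ⊗ c))))
  | left_unitality (a : A) :
      HomEquiv (Hom.l (Obj.of a))
        ((Hom.ε.whiskerRight (Obj.of a)).comp ((Hom.μ (𝟙_ A) a).comp (Hom.of (λ_ a).hom)))
  | right_unitality (a : A) :
      HomEquiv (Hom.ρ (Obj.of a))
        ((Hom.ε.whiskerLeft (Obj.of a)).comp ((Hom.μ a (𝟙_ A)).comp (Hom.of (ρ_ a).hom)))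
  | braided (a b : A) :
      HomEquiv ((Hom.μ a b).comp (Hom.of (β_ a b).hom))
        ((Hom.β (Obj.of a) (Obj.of b)).comp (Hom.μ b a))

instance setoidHom (X Y : Obj A) : Setoid (X ⟶ᵐ Y) :=
  ⟨HomEquiv, ⟨HomEquiv.refl, HomEquiv.symm' _ _, HomEquiv.trans⟩⟩

section

open HomEquiv

instance categoryObj : Category.{max u v} (Obj A) where
  Hom X Y := Quotient (setoidHom X Y)
  id X := ⟦Hom.id X⟧
  comp := Quotient.map₂ Hom.comp (fun _ _ hf _ _ hg ↦ HomEquiv.comp hf hg)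
  id_comp := by
    rintro X Y ⟨f⟩
    exact Quotient.sound (id_comp f)
  comp_id := by
    rintro X Y ⟨f⟩
    exact Quotient.sound (comp_id f)
  assoc := by
    rintro W X Y Z ⟨f⟩ ⟨g⟩ ⟨h⟩
    exact Quotient.sound (assoc f g h)

/-- the class of a formal morphism -/
abbrev homMk {X Y : Obj A} (f : X ⟶ᵐ Y) : X ⟶ Y := ⟦f⟧

/-- the isomorphism attached to a formal morphism -/
def isoMk {X Y : Obj A} (f : X ⟶ᵐ Y) : X ≅ Y :=
  ⟨homMk f, homMk f.symm, Quotient.sound (comp_symm f), Quotient.sound (symm_comp f)⟩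

instance : MonoidalCategory (Obj A) where
  tensorObj X Y := Obj.tensor X Y
  tensorHom := Quotient.map₂ Hom.tensor (fun _ _ hf _ _ hg ↦ HomEquiv.tensor hf hg)
  whiskerLeft X _ _ f := Quot.map (fun f ↦ Hom.whiskerLeft X f) (fun f f' ↦ .whiskerLeft X f f') f
  whiskerRight f Y := Quot.map (fun f ↦ Hom.whiskerRight f Y) (fun f f' ↦ .whiskerRight f f' Y) f
  tensorHom_def {W X Y Z} := by
    rintro ⟨f⟩ ⟨g⟩
    exact Quotient.sound (tensorHom_def _ _)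
  id_tensorHom_id _ _ := Quot.sound id_tensorHom_id
  tensorHom_comp_tensorHom {X₁ Y₁ Z₁ X₂ Y₂ Z₂} := by
    rintro ⟨f₁⟩ ⟨f₂⟩ ⟨g₁⟩ ⟨g₂⟩
    exact Quotient.sound (tensorHom_comp_tensorHom _ _ _ _)
  whiskerLeft_id X Y := Quot.sound (HomEquiv.whiskerLeft_id X Y)
  id_whiskerRight X Y := Quot.sound (HomEquiv.id_whiskerRight X Y)
  tensorUnit := Obj.unit
  associator X Y Z := isoMk (Hom.α X Y Z)
  associator_naturality {X₁ X₂ X₃ Y₁ Y₂ Y₃} := by
    rintro ⟨f₁⟩ ⟨f₂⟩ ⟨f₃⟩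
    exact Quotient.sound (associator_naturality _ _ _)
  leftUnitor X := isoMk (Hom.l X)
  leftUnitor_naturality {X Y} := by
    rintro ⟨f⟩
    exact Quotient.sound (l_naturality _)
  rightUnitor X := isoMk (Hom.ρ X)
  rightUnitor_naturality {X Y} := by
    rintro ⟨f⟩
    exact Quotient.sound (ρ_naturality _)
  pentagon _ _ _ _ := Quotient.sound pentagon
  triangle _ _ := Quotient.sound triangle

instance : SymmetricCategory (Obj A) where
  braiding X Y := isoMk (Hom.β X Y)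
  braiding_naturality_right X {Y Z} := by
    rintro ⟨f⟩
    exact Quotient.sound (braiding_naturality_right X f)
  braiding_naturality_left {X Y} := by
    rintro ⟨f⟩ Z
    exact Quotient.sound (braiding_naturality_left f Z)
  hexagon_forward X Y Z := Quotient.sound (hexagon_forward X Y Z)
  hexagon_reverse X Y Z := Quotient.sound (hexagon_reverse X Y Z)
  symmetry X Y := Quotient.sound (symmetry X Y)

instance : IsGroupoid (Obj A) where
  all_isIso := by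
    rintro X Y ⟨f⟩
    exact (isoMk f).isIso_hom

end

end Groth.Agent.Helper9.PicF
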