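import Mathlib
import Groth.Agent.Helper9.PicF1

/-!
# The free Picard groupoid: the inclusion functor and invertibility of objects
-/

set_option autoImplicit false

universe v u v' u'

namespace Groth.Agent.Helper9.PicF

open CategoryTheory MonoidalCategory

section general

variable {C : Type u'} [Category.{v'} C] [MonoidalCategory C]

/-- tensoring on the left with an invertible object is an equivalence -/
lemma isEquivalence_tensorLeft {X X' : C} (e : X ⊗ X' ≅ 𝟙_ C) (e' : X' ⊗ X ≅ 𝟙_ C) :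
    (tensorLeft X).IsEquivalence := by
  let unit : 𝟭 C ≅ tensorLeft X ⋙ tensorLeft X' :=
    (leftUnitorNatIso C).symm ≪≫ (tensoringLeft C).mapIso e'.symm ≪≫ tensorLeftTensor X' X
  let counit : tensorLeft X' ⋙ tensorLeft X ≅ 𝟭 C :=
    (tensorLeftTensor X X').symm ≪≫ (tensoringLeft C).mapIso e ≪≫ leftUnitorNatIso C
  exact (CategoryTheory.Equivalence.mk (tensorLeft X) (tensorLeft X') unit counit).isEquivalence_functor

/-- tensoring on the right with an invertible object is an equivalence -/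
lemma isEquivalence_tensorRight {X X' : C} (e : X ⊗ X' ≅ 𝟙_ C) (e' : X' ⊗ X ≅ 𝟙_ C) :
    (tensorRight X).IsEquivalence := by
  let unit : 𝟭 C ≅ tensorRight X ⋙ tensorRight X' :=
    (rightUnitorNatIso C).symm ≪≫ (tensoringRight C).mapIso e.symm ≪≫ tensorRightTensor X X'
  let counit : tensorRight X' ⋙ tensorRight X ≅ 𝟭 C :=
    (tensorRightTensor X' X).symm ≪≫ (tensoringRight C).mapIso e' ≪≫ rightUnitorNatIso C
  exact (CategoryTheory.Equivalence.mk (tensorRight X) (tensorRight X') unit counit).isEquivalence_functor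

end general

variable {A : Type u} [Category.{v} A] [MonoidalCategory A] [SymmetricCategory A]

open HomEquiv

@[simp]
theorem mk_comp {X Y Z : Obj A} (f : Hom X Y) (g : Hom Y Z) :
    homMk (f.comp g) = homMk f ≫ homMk g :=
  rfl

@[simp]
theorem mk_tensor {X₁ Y₁ X₂ Y₂ : Obj A} (f : Hom X₁ Y₁) (g : Hom X₂ Y₂) :
    homMk (f.tensor g) = homMk f ⊗ₘ homMk g :=
  rfl

@[simp]
theorem mk_whiskerLeft (X : Obj A) {Y₁ Y₂ : Obj A} (f : Hom Y₁ Y₂) :
    homMk (f.whiskerLeft X) = X ◁ homMk f :=
  rfl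

@[simp]
theorem mk_whiskerRight {X₁ X₂ : Obj A} (f : Hom X₁ X₂) (Y : Obj A) :
    homMk (f.whiskerRight Y) = homMk f ▷ Y :=
  rfl

@[simp]
theorem mk_id {X : Obj A} : homMk (Hom.id X) = 𝟙 X :=
  rfl

theorem mk_symm {X Y : Obj A} (f : Hom X Y) : homMk f.symm = inv (homMk f) := by
  symm
  apply IsIso.inv_eq_of_hom_inv_id
  exact Quotient.sound (comp_symm f)

@[simp]
theorem mk_α {X Y Z : Obj A} : homMk (Hom.α X Y Z) = (α_ X Y Z).hom :=
  rfl

@[simp]
theorem mk_ρ {X : Obj A} : homMk (Hom.ρ X) = (ρ_ X).hom :=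
  rfl

@[simp]
theorem mk_l {X : Obj A} : homMk (Hom.l X) = (λ_ X).hom :=
  rfl

@[simp]
theorem mk_β {X Y : Obj A} : homMk (Hom.β X Y) = (β_ X Y).hom :=
  rfl

@[simp]
theorem tensor_eq_tensor {X Y : Obj A} : X.tensor Y = X ⊗ Y :=
  rfl

@[simp]
theorem unit_eq_unit : (Obj.unit : Obj A) = 𝟙_ (Obj A) :=
  rfl

/-- the inclusion functor -/
def incl : A ⥤ Obj A where
  obj := Obj.of
  map f := homMk (Hom.of f)
  map_id a := Quotient.sound (of_id a)
  map_comp f g := Quotient.sound (of_comp f g)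

@[simp] lemma incl_obj (a : A) : (incl (A := A)).obj a = Obj.of a := rfl

lemma incl_map {a b : A} (f : a ⟶ b) : (incl (A := A)).map f = homMk (Hom.of f) := rfl

instance : (incl (A := A)).LaxBraided where
  ε := homMk Hom.ε
  μ a b := homMk (Hom.μ a b)
  μ_natural_left f c := Quotient.sound (μ_natural_left f c)
  μ_natural_right c f := Quotient.sound (μ_natural_right c f)
  associativity a b c := Quotient.sound (associativity a b c)
  left_unitality a := Quotient.sound (left_unitality a)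
  right_unitality a := Quotient.sound (right_unitality a)
  braided a b := Quotient.sound (braided a b)

lemma incl_ε : Functor.LaxMonoidal.ε (incl (A := A)) = homMk Hom.ε := rfl

lemma incl_μ (a b : A) : Functor.LaxMonoidal.μ (incl (A := A)) a b = homMk (Hom.μ a b) := rfl

/-- `X ⊗ X⁻¹ ≅ 𝟙` -/
def ηIso (X : Obj A) : X ⊗ X.inv ≅ 𝟙_ (Obj A) := isoMk (Hom.η X)

lemma ηIso_hom (X : Obj A) : (ηIso X).hom = homMk (Hom.η X) := rfl

/-- `X⁻¹ ⊗ X ≅ 𝟙` -/
def ηIso' (X : Obj A) : X.inv ⊗ X ≅ 𝟙_ (Obj A) := β_ X.inv X ≪≫ ηIso X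

instance (X : Obj A) : (tensorLeft X).IsEquivalence :=
  isEquivalence_tensorLeft (ηIso X) (ηIso' X)

instance (X : Obj A) : (tensorRight X).IsEquivalence :=
  isEquivalence_tensorRight (ηIso X) (ηIso' X)

/-- induction principle for morphisms -/
theorem Hom.inductionOn {motive : {X Y : Obj A} → (X ⟶ Y) → Prop} {X Y : Obj A} (t : X ⟶ Y)
    (id : (X : Obj A) → motive (𝟙 X))
    (comp : {X Y Z : Obj A} → (f : X ⟶ Y) → (g : Y ⟶ Z) → motive f → motive g → motive (f ≫ g))
    (inv : {X Y : Obj A} → (f : X ⟶ Y) → motive f → motive (CategoryTheory.inv f))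
    (whiskerLeft : (X : Obj A) → {Y Z : Obj A} → (f : Y ⟶ Z) → motive f → motive (X ◁ f))
    (whiskerRight : {X Y : Obj A} → (f : X ⟶ Y) → (Z : Obj A) → motive f → motive (f ▷ Z))
    (α : (X Y Z : Obj A) → motive (α_ X Y Z).hom)
    (l : (X : Obj A) → motive (λ_ X).hom)
    (ρ : (X : Obj A) → motive (ρ_ X).hom)
    (β : (X Y : Obj A) → motive (β_ X Y).hom)
    (of : {a b : A} → (f : a ⟶ b) → motive ((incl (A := A)).map f))
    (μ : (a b : A) → motive (Functor.LaxMonoidal.μ (incl (A := A)) a b))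
    (ε : motive (Functor.LaxMonoidal.ε (incl (A := A))))
    (η : (X : Obj A) → motive (ηIso X).hom) :
    motive t := by
  induction t using Quotient.inductionOn with | _ f
  induction f with
  | id X => exact id X
  | comp f g hf hg => exact comp _ _ hf hg
  | symm f hf =>
      change motive (homMk f.symm)
      rw [mk_symm]
      exact inv _ hf
  | whiskerLeft X f hf => exact whiskerLeft X _ hf
  | whiskerRight f X hf => exact whiskerRight _ X hf
  | @tensor W X Y Z f g hf hg =>
      have : homMk f ⊗ₘ homMk g = homMk f ▷ X ≫ Y ◁ homMk g :=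
        Quotient.sound (HomEquiv.tensorHom_def f g)
      change motive (homMk f ⊗ₘ homMk g)
      rw [this]
      exact comp _ _ (whiskerRight _ _ hf) (whiskerLeft _ _ hg)
  | α X Y Z => exact α X Y Z
  | l X => exact l X
  | ρ X => exact ρ X
  | β X Y => exact β X Y
  | of f => exact of f
  | μ a b => exact μ a b
  | ε => exact ε
  | η X => exact η X

end Groth.Agent.Helper9.PicF
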