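import Mathlib
import Groth.Agent.Helper9.PicF2

/-!
# The free Picard groupoid: extension of lax braided functors to Picard groupoids
-/

set_option autoImplicit false

universe v u v' u'

namespace Groth.Agent.Helper9.PicF

open CategoryTheory MonoidalCategory

variable {A : Type u} [Category.{v} A] [MonoidalCategory A] [SymmetricCategory A]
  {P : Type u'} [Category.{v'} P] [MonoidalCategory P] [SymmetricCategory P] [IsGroupoid P]
  (hP : ∀ X : P, (tensorLeft X).IsEquivalence ∧ (tensorRight X).IsEquivalence)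
  (Φ : A ⥤ P) [Φ.LaxBraided]

include hP in
/-- a chosen inverse of an object -/
noncomputable def invObj (Y : P) : P :=
  haveI := (hP Y).1
  (tensorLeft Y).objPreimage (𝟙_ P)

/-- `Y ⊗ Y⁻¹ ≅ 𝟙` -/
noncomputable def invIso (Y : P) : Y ⊗ invObj hP Y ≅ 𝟙_ P :=
  haveI := (hP Y).1
  (tensorLeft Y).objObjPreimageIso (𝟙_ P)

/-- the extension on objects -/
noncomputable def projObj : Obj A → P
  | .of a => Φ.obj a
  | .unit => 𝟙_ P
  | .tensor X Y => projObj X ⊗ projObj Y
  | .inv X => invObj hP (projObj X)

/-- the extension on formal morphisms -/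
noncomputable def projMapAux : ∀ {X Y : Obj A}, Hom X Y → (projObj hP Φ X ⟶ projObj hP Φ Y)
  | _, _, .id _ => 𝟙 _
  | _, _, .comp f g => projMapAux f ≫ projMapAux g
  | _, _, .symm f => inv (projMapAux f)
  | _, _, .whiskerLeft X f => projObj hP Φ X ◁ projMapAux f
  | _, _, .whiskerRight f X => projMapAux f ▷ projObj hP Φ X
  | _, _, .tensor f g => projMapAux f ⊗ₘ projMapAux g
  | _, _, .α _ _ _ => (α_ _ _ _).hom
  | _, _, .l _ => (λ_ _).hom
  | _, _, .ρ _ => (ρ_ _).hom
  | _, _, .β _ _ => (β_ _ _).hom
  | _, _, .of f => Φ.map f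
  | _, _, .μ a b => Functor.LaxMonoidal.μ Φ a b
  | _, _, .ε => Functor.LaxMonoidal.ε Φ
  | _, _, .η X => (invIso hP (projObj hP Φ X)).hom

lemma projMapAux_respects {X Y : Obj A} (f g : Hom X Y) (h : HomEquiv f g) :
    projMapAux hP Φ f = projMapAux hP Φ g := by
  induction h with
  | refl => rfl
  | symm' _ _ _ hfg' => exact hfg'.symm
  | trans _ _ hfg hgh => exact hfg.trans hgh
  | comp _ _ hf hg => dsimp only [projMapAux]; rw [hf, hg]
  | symm _ hf => dsimp only [projMapAux]; simp only [hf]
  | whiskerLeft _ _ _ _ hf => dsimp only [projMapAux, projObj]; rw [hf]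
  | whiskerRight _ _ _ _ hf => dsimp only [projMapAux, projObj]; rw [hf]
  | tensor _ _ hfg hfg' => dsimp only [projMapAux]; rw [hfg, hfg']
  | comp_id => dsimp only [projMapAux]; rw [Category.comp_id]
  | id_comp => dsimp only [projMapAux]; rw [Category.id_comp]
  | assoc => dsimp only [projMapAux]; rw [Category.assoc]
  | symm_comp => dsimp only [projMapAux]; rw [IsIso.inv_hom_id]
  | comp_symm => dsimp only [projMapAux]; rw [IsIso.hom_inv_id]
  | tensorHom_def _ _ =>
      dsimp only [projMapAux, projObj]; rw [MonoidalCategory.tensorHom_def]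
  | id_tensorHom_id => dsimp only [projMapAux]; rw [MonoidalCategory.id_tensorHom_id]; rfl
  | tensorHom_comp_tensorHom =>
      exact MonoidalCategory.tensorHom_comp_tensorHom _ _ _ _
  | whiskerLeft_id =>
      dsimp only [projMapAux, projObj]
      rw [MonoidalCategory.whiskerLeft_id]
  | id_whiskerRight =>
      dsimp only [projMapAux, projObj]
      rw [MonoidalCategory.id_whiskerRight]
  | associator_naturality =>
      exact MonoidalCategory.associator_naturality _ _ _
  | ρ_naturality =>
      dsimp only [projMapAux, projObj]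
      rw [MonoidalCategory.rightUnitor_naturality]
  | l_naturality =>
      dsimp only [projMapAux, projObj]
      rw [MonoidalCategory.leftUnitor_naturality]
  | pentagon =>
      dsimp only [projMapAux, projObj]
      rw [MonoidalCategory.pentagon]
  | triangle =>
      dsimp only [projMapAux, projObj]
      rw [MonoidalCategory.triangle]
  | braiding_naturality_right =>
      dsimp only [projMapAux, projObj]
      rw [BraidedCategory.braiding_naturality_right]
  | braiding_naturality_left =>
      dsimp only [projMapAux, projObj]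
      rw [BraidedCategory.braiding_naturality_left]
  | hexagon_forward =>
      dsimp only [projMapAux, projObj]
      rw [BraidedCategory.hexagon_forward]
  | hexagon_reverse =>
      dsimp only [projMapAux, projObj]
      simp only [IsIso.Iso.inv_hom]
      rw [BraidedCategory.hexagon_reverse]
  | symmetry =>
      dsimp only [projMapAux, projObj]
      rw [SymmetricCategory.symmetry]
  | of_id => dsimp only [projMapAux]; rw [Φ.map_id]; rfl
  | of_comp => exact Φ.map_comp _ _
  | μ_natural_left =>
      dsimp only [projMapAux, projObj]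
      rw [Functor.LaxMonoidal.μ_natural_left]
  | μ_natural_right =>
      dsimp only [projMapAux, projObj]
      rw [Functor.LaxMonoidal.μ_natural_right]
  | associativity =>
      dsimp only [projMapAux, projObj]
      rw [Functor.LaxMonoidal.associativity]
  | left_unitality =>
      dsimp only [projMapAux, projObj]
      rw [Functor.LaxMonoidal.left_unitality]
  | right_unitality =>
      dsimp only [projMapAux, projObj]
      rw [Functor.LaxMonoidal.right_unitality]
  | braided =>
      dsimp only [projMapAux, projObj]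
      rw [Functor.LaxBraided.braided]

/-- the extension on morphisms -/
noncomputable def projMap (X Y : Obj A) : (X ⟶ Y) → (projObj hP Φ X ⟶ projObj hP Φ Y) :=
  Quotient.lift (projMapAux hP Φ) (projMapAux_respects hP Φ)

/-- the extension of `Φ` to the free Picard groupoid -/
noncomputable def proj : Obj A ⥤ P where
  obj := projObj hP Φ
  map := projMap hP Φ _ _
  map_id _ := rfl
  map_comp := by rintro _ _ _ ⟨_⟩ ⟨_⟩; rfl

lemma proj_map_mk {X Y : Obj A} (f : Hom X Y) :
    (proj hP Φ).map (homMk f) = projMapAux hP Φ f := rfl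

lemma proj_obj_tensor (X Y : Obj A) :
    (proj hP Φ).obj (X ⊗ Y) = (proj hP Φ).obj X ⊗ (proj hP Φ).obj Y := rfl

lemma proj_map_whiskerRight {X Y : Obj A} (f : X ⟶ Y) (Z : Obj A) :
    (proj hP Φ).map (f ▷ Z) = (proj hP Φ).map f ▷ (proj hP Φ).obj Z := by
  induction f using Quotient.inductionOn
  rfl

lemma proj_map_whiskerLeft (Z : Obj A) {X Y : Obj A} (f : X ⟶ Y) :
    (proj hP Φ).map (Z ◁ f) = (proj hP Φ).obj Z ◁ (proj hP Φ).map f := by
  induction f using Quotient.inductionOn
  rfl

noncomputable instance : (proj hP Φ).LaxBraided where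
  ε := 𝟙 _
  μ X Y := 𝟙 _
  μ_natural_left f Z := by
    rw [proj_map_whiskerRight]
    exact (Category.comp_id _).trans (Category.id_comp _).symm
  μ_natural_right Z f := by
    rw [proj_map_whiskerLeft]
    exact (Category.comp_id _).trans (Category.id_comp _).symm
  associativity X Y Z := by
    change 𝟙 _ ▷ _ ≫ 𝟙 _ ≫ (α_ _ _ _).hom = (α_ _ _ _).hom ≫ _ ◁ 𝟙 _ ≫ 𝟙 _
    simp
  left_unitality X := by
    change (λ_ _).hom = 𝟙 _ ▷ _ ≫ 𝟙 _ ≫ (λ_ _).hom
    simp
  right_unitality X := by
    change (ρ_ _).hom = _ ◁ 𝟙 _ ≫ 𝟙 _ ≫ (ρ_ _).hom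
    simp
  braided X Y := by
    change 𝟙 _ ≫ (β_ _ _).hom = (β_ _ _).hom ≫ 𝟙 _
    simp

lemma proj_ε : Functor.LaxMonoidal.ε (proj hP Φ) = 𝟙 _ := rfl

lemma proj_μ (X Y : Obj A) : Functor.LaxMonoidal.μ (proj hP Φ) X Y = 𝟙 _ := rfl

/-- the restriction of the extension is the original functor -/
noncomputable def inclCompProj : incl ⋙ proj hP Φ ≅ Φ :=
  NatIso.ofComponents (fun _ => Iso.refl _) (fun f => by
    change Φ.map f ≫ 𝟙 _ = 𝟙 _ ≫ Φ.map f
    simp)

instance : NatTrans.IsMonoidal (inclCompProj hP Φ).hom where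
  unit := by
    rw [Functor.LaxMonoidal.comp_ε]
    change (𝟙 _ ≫ Functor.LaxMonoidal.ε Φ) ≫ 𝟙 _ = _
    simp
  tensor a b := by
    rw [Functor.LaxMonoidal.comp_μ]
    change (𝟙 _ ≫ Functor.LaxMonoidal.μ Φ a b) ≫ 𝟙 _ = (𝟙 _ ⊗ₘ 𝟙 _) ≫ _
    simp

end Groth.Agent.Helper9.PicF
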