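import Mathlib
import Groth.Agent.Helper9.PicF2

/-!
# The free Picard groupoid: extension of monoidal natural transformations
-/

set_option autoImplicit false

universe v u v' u'

namespace Groth.Agent.Helper9.PicF

open CategoryTheory MonoidalCategory Functor.LaxMonoidal

variable {A : Type u} [Category.{v} A] [MonoidalCategory A] [SymmetricCategory A]
  {P : Type u'} [Category.{v'} P] [MonoidalCategory P] [SymmetricCategory P] [IsGroupoid P]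
  (hP : ∀ X : P, (tensorLeft X).IsEquivalence ∧ (tensorRight X).IsEquivalence)
  (Ψ Ψ' : Obj A ⥤ P) [Ψ.LaxBraided] [Ψ'.LaxBraided]
  (τ : incl ⋙ Ψ ⟶ incl ⋙ Ψ')

include hP in
/-- the components of the extended transformation -/
noncomputable def thetaApp : (X : Obj A) → (Ψ.obj X ⟶ Ψ'.obj X)
  | .of a => τ.app a
  | .unit => inv (ε Ψ) ≫ ε Ψ'
  | .tensor X Y => inv (μ Ψ X Y) ≫ (thetaApp X ⊗ₘ thetaApp Y) ≫ μ Ψ' X Y
  | .inv X =>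
      haveI := (hP (Ψ.obj X)).1
      (tensorLeft (Ψ.obj X)).preimage
        (μ Ψ X X.inv ≫ Ψ.map (ηIso X).hom ≫ (inv (ε Ψ) ≫ ε Ψ') ≫ inv (Ψ'.map (ηIso X).hom) ≫
          inv (μ Ψ' X X.inv) ≫ inv (thetaApp X ▷ Ψ'.obj X.inv))

lemma thetaApp_of (a : A) : thetaApp hP Ψ Ψ' τ (Obj.of a) = τ.app a := rfl

lemma thetaApp_unit : thetaApp hP Ψ Ψ' τ (𝟙_ (Obj A)) = inv (ε Ψ) ≫ ε Ψ' := rfl

lemma thetaApp_tensor (X Y : Obj A) :
    thetaApp hP Ψ Ψ' τ (X ⊗ Y) =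
      inv (μ Ψ X Y) ≫ (thetaApp hP Ψ Ψ' τ X ⊗ₘ thetaApp hP Ψ Ψ' τ Y) ≫ μ Ψ' X Y := rfl

lemma whiskerLeft_thetaApp_inv (X : Obj A) :
    Ψ.obj X ◁ thetaApp hP Ψ Ψ' τ X.inv =
      μ Ψ X X.inv ≫ Ψ.map (ηIso X).hom ≫ (inv (ε Ψ) ≫ ε Ψ') ≫ inv (Ψ'.map (ηIso X).hom) ≫
          inv (μ Ψ' X X.inv) ≫ inv (thetaApp hP Ψ Ψ' τ X ▷ Ψ'.obj X.inv) := by
  haveI := (hP (Ψ.obj X)).1
  exact (tensorLeft (Ψ.obj X)).map_preimage _

lemma thetaApp_naturality_η (X : Obj A) :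
    Ψ.map (ηIso X).hom ≫ thetaApp hP Ψ Ψ' τ (𝟙_ (Obj A)) =
      thetaApp hP Ψ Ψ' τ (X ⊗ X.inv) ≫ Ψ'.map (ηIso X).hom := by
  rw [thetaApp_tensor, tensorHom_def', whiskerLeft_thetaApp_inv, thetaApp_unit]
  simp

local notation "θ" => thetaApp hP Ψ Ψ' τ

lemma nat_whiskerLeft (Z : Obj A) {X Y : Obj A} (f : X ⟶ Y)
    (h : Ψ.map f ≫ θ Y = θ X ≫ Ψ'.map f) :
    Ψ.map (Z ◁ f) ≫ θ (Z ⊗ Y) = θ (Z ⊗ X) ≫ Ψ'.map (Z ◁ f) := by
  rw [thetaApp_tensor, thetaApp_tensor]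
  have h1 : Ψ.map (Z ◁ f) ≫ inv (μ Ψ Z Y) = inv (μ Ψ Z X) ≫ Ψ.obj Z ◁ Ψ.map f := by
    rw [IsIso.comp_inv_eq, Category.assoc, IsIso.eq_inv_comp]
    exact (μ_natural_right Ψ Z f).symm
  rw [reassoc_of% h1, Category.assoc, Category.assoc, ← μ_natural_right Ψ' Z f,
    whiskerLeft_comp_tensorHom_assoc, h, ← tensorHom_comp_whiskerLeft_assoc]

lemma nat_whiskerRight {X Y : Obj A} (f : X ⟶ Y) (Z : Obj A)
    (h : Ψ.map f ≫ θ Y = θ X ≫ Ψ'.map f) :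
    Ψ.map (f ▷ Z) ≫ θ (Y ⊗ Z) = θ (X ⊗ Z) ≫ Ψ'.map (f ▷ Z) := by
  rw [thetaApp_tensor, thetaApp_tensor]
  have h1 : Ψ.map (f ▷ Z) ≫ inv (μ Ψ Y Z) = inv (μ Ψ X Z) ≫ Ψ.map f ▷ Ψ.obj Z := by
    rw [IsIso.comp_inv_eq, Category.assoc, IsIso.eq_inv_comp]
    exact (μ_natural_left Ψ f Z).symm
  rw [reassoc_of% h1, Category.assoc, Category.assoc, ← μ_natural_left Ψ' f Z,
    whiskerRight_comp_tensorHom_assoc, h, ← tensorHom_comp_whiskerRight_assoc]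

lemma nat_inv {X Y : Obj A} (f : X ⟶ Y)
    (h : Ψ.map f ≫ θ Y = θ X ≫ Ψ'.map f) :
    Ψ.map (inv f) ≫ θ X = θ Y ≫ Ψ'.map (inv f) := by
  rw [Functor.map_inv, Functor.map_inv, IsIso.inv_comp_eq, ← Category.assoc, IsIso.eq_comp_inv]
  exact h.symm

lemma nat_β (X Y : Obj A) :
    Ψ.map (β_ X Y).hom ≫ θ (Y ⊗ X) = θ (X ⊗ Y) ≫ Ψ'.map (β_ X Y).hom := by
  rw [thetaApp_tensor, thetaApp_tensor, ← cancel_epi (μ Ψ X Y)]
  have h1 := Functor.LaxBraided.braided (F := Ψ) X Y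
  have h2 := Functor.LaxBraided.braided (F := Ψ') X Y
  rw [reassoc_of% h1, IsIso.hom_inv_id_assoc, Category.assoc, Category.assoc,
    IsIso.hom_inv_id_assoc, h2, BraidedCategory.braiding_naturality_assoc]

lemma nat_of {a b : A} (f : a ⟶ b) :
    Ψ.map (incl.map f) ≫ θ (Obj.of b) = θ (Obj.of a) ≫ Ψ'.map (incl.map f) :=
  τ.naturality f

lemma nat_α (X Y Z : Obj A) :
    Ψ.map (α_ X Y Z).hom ≫ θ (X ⊗ (Y ⊗ Z)) = θ ((X ⊗ Y) ⊗ Z) ≫ Ψ'.map (α_ X Y Z).hom := by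
  rw [← cancel_epi (μ Ψ X Y ▷ Ψ.obj Z ≫ μ Ψ (X ⊗ Y) Z)]
  have h1 := associativity Ψ X Y Z
  have h2 := associativity Ψ' X Y Z
  rw [Category.assoc, reassoc_of% h1]
  rw [thetaApp_tensor hP Ψ Ψ' τ X (Y ⊗ Z), thetaApp_tensor hP Ψ Ψ' τ (X ⊗ Y) Z,
    thetaApp_tensor hP Ψ Ψ' τ X Y, thetaApp_tensor hP Ψ Ψ' τ Y Z]
  rw [IsIso.hom_inv_id_assoc]
  simp only [Category.assoc, IsIso.hom_inv_id_assoc]
  rw [whiskerRight_comp_tensorHom_assoc, IsIso.hom_inv_id_assoc,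
    whiskerLeft_comp_tensorHom_assoc, IsIso.hom_inv_id_assoc,
    ← tensorHom_comp_whiskerRight_assoc, h2, ← tensorHom_comp_whiskerLeft_assoc,
    associator_naturality_assoc]

lemma nat_l (X : Obj A) :
    Ψ.map (λ_ X).hom ≫ θ X = θ (𝟙_ (Obj A) ⊗ X) ≫ Ψ'.map (λ_ X).hom := by
  rw [← cancel_epi (ε Ψ ▷ Ψ.obj X ≫ μ Ψ (𝟙_ (Obj A)) X)]
  have h1 := (left_unitality Ψ X).symm
  have h2 := left_unitality Ψ' X
  rw [Category.assoc, Category.assoc, reassoc_of% h1, thetaApp_tensor, thetaApp_unit]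
  simp only [Category.assoc, IsIso.hom_inv_id_assoc]
  rw [whiskerRight_comp_tensorHom_assoc, IsIso.hom_inv_id_assoc, tensorHom_def'_assoc, ← h2,
    leftUnitor_naturality]

lemma nat_ρ (X : Obj A) :
    Ψ.map (ρ_ X).hom ≫ θ X = θ (X ⊗ 𝟙_ (Obj A)) ≫ Ψ'.map (ρ_ X).hom := by
  rw [← cancel_epi (Ψ.obj X ◁ ε Ψ ≫ μ Ψ X (𝟙_ (Obj A)))]
  have h1 := (right_unitality Ψ X).symm
  have h2 := right_unitality Ψ' X
  rw [Category.assoc, Category.assoc, reassoc_of% h1, thetaApp_tensor, thetaApp_unit]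
  simp only [Category.assoc, IsIso.hom_inv_id_assoc]
  rw [whiskerLeft_comp_tensorHom_assoc, IsIso.hom_inv_id_assoc, tensorHom_def_assoc, ← h2,
    rightUnitor_naturality]

variable [NatTrans.IsMonoidal τ]

lemma nat_μ (a b : A) :
    Ψ.map (μ incl a b) ≫ θ (Obj.of (a ⊗ b)) =
      θ (Obj.of a ⊗ Obj.of b) ≫ Ψ'.map (μ incl a b) := by
  have h := NatTrans.IsMonoidal.tensor (τ := τ) a b
  rw [comp_μ, comp_μ] at h
  have h' : μ Ψ (Obj.of a) (Obj.of b) ≫ Ψ.map (μ incl a b) ≫ θ (Obj.of (a ⊗ b)) =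
      (θ (Obj.of a) ⊗ₘ θ (Obj.of b)) ≫ μ Ψ' (Obj.of a) (Obj.of b) ≫ Ψ'.map (μ incl a b) :=
    (Category.assoc _ _ _).symm.trans h
  rw [thetaApp_tensor, Category.assoc, Category.assoc]
  exact (IsIso.eq_inv_comp _).2 h'

lemma nat_ε :
    Ψ.map (ε incl) ≫ θ (Obj.of (𝟙_ A)) = θ (𝟙_ (Obj A)) ≫ Ψ'.map (ε incl) := by
  have h := NatTrans.IsMonoidal.unit (τ := τ)
  rw [comp_ε, comp_ε] at h
  have h' : ε Ψ ≫ Ψ.map (ε incl) ≫ θ (Obj.of (𝟙_ A)) = ε Ψ' ≫ Ψ'.map (ε incl) :=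
    (Category.assoc _ _ _).symm.trans h
  rw [thetaApp_unit, Category.assoc]
  exact (IsIso.eq_inv_comp _).2 h'

/-- naturality of the extended transformation -/
theorem thetaApp_naturality {X Y : Obj A} (f : X ⟶ Y) :
    Ψ.map f ≫ θ Y = θ X ≫ Ψ'.map f := by
  induction f using Hom.inductionOn with
  | id X => simp
  | comp f g hf hg => rw [Ψ.map_comp, Ψ'.map_comp, Category.assoc, hg, reassoc_of% hf]
  | inv f hf => exact nat_inv hP Ψ Ψ' τ f hf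
  | whiskerLeft X f hf => exact nat_whiskerLeft hP Ψ Ψ' τ X f hf
  | whiskerRight f Z hf => exact nat_whiskerRight hP Ψ Ψ' τ f Z hf
  | α X Y Z => exact nat_α hP Ψ Ψ' τ X Y Z
  | l X => exact nat_l hP Ψ Ψ' τ X
  | ρ X => exact nat_ρ hP Ψ Ψ' τ X
  | β X Y => exact nat_β hP Ψ Ψ' τ X Y
  | of f => exact nat_of hP Ψ Ψ' τ f
  | μ a b => exact nat_μ hP Ψ Ψ' τ a b
  | ε => exact nat_ε hP Ψ Ψ' τ
  | η X => exact thetaApp_naturality_η hP Ψ Ψ' τ X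

/-- the extended transformation -/
noncomputable def theta : Ψ ⟶ Ψ' where
  app := thetaApp hP Ψ Ψ' τ
  naturality _ _ f := thetaApp_naturality hP Ψ Ψ' τ f

instance : NatTrans.IsMonoidal (theta hP Ψ Ψ' τ) where
  unit := by
    change ε Ψ ≫ (inv (ε Ψ) ≫ ε Ψ') = ε Ψ'
    rw [IsIso.hom_inv_id_assoc]
  tensor X Y := by
    change μ Ψ X Y ≫ (inv (μ Ψ X Y) ≫ (θ X ⊗ₘ θ Y) ≫ μ Ψ' X Y) = _
    rw [IsIso.hom_inv_id_assoc]
    rfl

lemma whiskerLeft_theta : Functor.whiskerLeft incl (theta hP Ψ Ψ' τ) = τ := by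
  ext a
  rfl

omit [NatTrans.IsMonoidal τ] in
/-- uniqueness of the extended transformation -/
theorem theta_unique (θ₂ : Ψ ⟶ Ψ') [NatTrans.IsMonoidal θ₂]
    (h : Functor.whiskerLeft incl θ₂ = τ) (X : Obj A) : θ₂.app X = θ X := by
  induction X with
  | of a => exact congr_app h a
  | unit =>
      have h1 := NatTrans.IsMonoidal.unit (τ := θ₂)
      change θ₂.app (𝟙_ (Obj A)) = inv (ε Ψ) ≫ ε Ψ'
      rw [IsIso.eq_inv_comp]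
      exact h1
  | tensor X Y hX hY =>
      have h1 := NatTrans.IsMonoidal.tensor (τ := θ₂) X Y
      change θ₂.app (X ⊗ Y) = inv (μ Ψ X Y) ≫ (θ X ⊗ₘ θ Y) ≫ μ Ψ' X Y
      rw [IsIso.eq_inv_comp, h1, hX, hY]
  | inv X hX =>
      haveI := (hP (Ψ.obj X)).1
      apply (tensorLeft (Ψ.obj X)).map_injective
      change Ψ.obj X ◁ θ₂.app X.inv = Ψ.obj X ◁ θ X.inv
      rw [whiskerLeft_thetaApp_inv]
      have h1 := NatTrans.IsMonoidal.tensor (τ := θ₂) X X.inv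
      have h2 := θ₂.naturality (ηIso X).hom
      have h3 := NatTrans.IsMonoidal.unit (τ := θ₂)
      have h4 : θ₂.app (𝟙_ (Obj A)) = inv (ε Ψ) ≫ ε Ψ' := by
        rw [IsIso.eq_inv_comp]
        exact h3
      rw [← hX, ← h4]
      rw [← Category.assoc, ← Category.assoc, ← Category.assoc, ← Category.assoc,
        IsIso.eq_comp_inv, ← tensorHom_def', IsIso.eq_comp_inv, IsIso.eq_comp_inv]
      simp only [Category.assoc]
      rw [← reassoc_of% h1, ← h2]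

end Groth.Agent.Helper9.PicF
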