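import Mathlib

/-! Helper lemmas for the pinching chart `B[u,v] → B'[t]`, `B' = B[z]/(z² - b)`. -/

namespace Groth.Agent.Helper9.PinchChart

open Polynomial

variable {B : Type*} [CommRing B] (b : B)

lemma monic_g : (X ^ 2 - C b : B[X]).Monic := monic_X_pow_sub_C b (by norm_num)

lemma root_sq : (AdjoinRoot.root (X ^ 2 - C b : B[X])) ^ 2 =
    algebraMap B (AdjoinRoot (X ^ 2 - C b : B[X])) b := by
  have := AdjoinRoot.mk_self (f := (X ^ 2 - C b : B[X]))
  rw [map_sub, map_pow, AdjoinRoot.mk_X, AdjoinRoot.mk_C] at this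
  rw [AdjoinRoot.algebraMap_eq]; exact sub_eq_zero.mp this

lemma eq_zero_of (c d : B)
    (h : algebraMap B (AdjoinRoot (X ^ 2 - C b : B[X])) c +
      AdjoinRoot.root (X ^ 2 - C b : B[X]) * algebraMap B _ d = 0) : c = 0 ∧ d = 0 := by
  rcases subsingleton_or_nontrivial B with hB | hB
  · exact ⟨Subsingleton.elim _ _, Subsingleton.elim _ _⟩
  have h1 : AdjoinRoot.mk (X ^ 2 - C b : B[X]) (C c + X * C d) = 0 := by
    rw [map_add, map_mul, AdjoinRoot.mk_C, AdjoinRoot.mk_X, AdjoinRoot.mk_C]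
    simpa [AdjoinRoot.algebraMap_eq] using h
  have h2 := congrArg (AdjoinRoot.modByMonicHom (monic_g b)) h1
  have hdeg : (C c + X * C d : B[X]).degree < (X ^ 2 - C b : B[X]).degree := by
    rw [degree_X_pow_sub_C (by norm_num)]
    refine lt_of_le_of_lt (degree_add_le _ _) ?_
    rw [max_lt_iff]
    constructor
    · exact lt_of_le_of_lt degree_C_le (by norm_num)
    · refine lt_of_le_of_lt (degree_mul_le _ _) ?_
      refine lt_of_le_of_lt (add_le_add degree_X_le degree_C_le) ?_
      norm_num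
  rw [AdjoinRoot.modByMonicHom_mk, map_zero, (modByMonic_eq_self_iff (monic_g b)).mpr hdeg] at h2
  constructor
  · simpa using congrArg (fun p => p.coeff 0) h2
  · simpa using congrArg (fun p => p.coeff 1) h2

lemma exists_rep (w : AdjoinRoot (X ^ 2 - C b : B[X])) :
    ∃ c d : B, w = algebraMap B (AdjoinRoot (X ^ 2 - C b : B[X])) c +
      AdjoinRoot.root (X ^ 2 - C b : B[X]) * algebraMap B _ d := by
  rcases subsingleton_or_nontrivial B with hB | hB
  · haveI : Subsingleton (AdjoinRoot (X ^ 2 - C b : B[X])) := by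
      refine ⟨fun x y => ?_⟩
      have : (1 : AdjoinRoot (X ^ 2 - C b : B[X])) = 0 := by
        rw [← map_one (algebraMap B _), Subsingleton.elim (1 : B) 0, map_zero]
      rw [← mul_one x, ← mul_one y, this, mul_zero, mul_zero]
    exact ⟨0, 0, Subsingleton.elim _ _⟩
  have h1 := AdjoinRoot.mk_leftInverse (monic_g b) w
  set h := AdjoinRoot.modByMonicHom (monic_g b) w with hh
  have hdeg : h.natDegree ≤ 1 := by
    obtain ⟨f, rfl⟩ := AdjoinRoot.mk_surjective w
    rw [hh, AdjoinRoot.modByMonicHom_mk]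
    have hne : (X ^ 2 - C b : B[X]) ≠ 1 := by
      intro h1
      have := congrArg natDegree h1
      rw [natDegree_X_pow_sub_C, natDegree_one] at this
      omega
    have := natDegree_modByMonic_lt f (monic_g b) hne
    rw [natDegree_X_pow_sub_C] at this
    omega
  obtain ⟨a, c, hac⟩ := exists_eq_X_add_C_of_natDegree_le_one hdeg
  refine ⟨c, a, ?_⟩
  rw [← h1, hac, map_add, map_mul, AdjoinRoot.mk_C, AdjoinRoot.mk_X, AdjoinRoot.mk_C,
    AdjoinRoot.algebraMap_eq]
  ring

/-- the chart map -/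
noncomputable def Psi : MvPolynomial (Fin 2) B →ₐ[B] Polynomial (AdjoinRoot (X ^ 2 - C b : B[X])) :=
  MvPolynomial.aeval ![C (AdjoinRoot.root (X ^ 2 - C b : B[X])) * X, X]

lemma Psi_X0 : Psi b (MvPolynomial.X 0) = C (AdjoinRoot.root (X ^ 2 - C b : B[X])) * X := by
  simp [Psi]

lemma Psi_X1 : Psi b (MvPolynomial.X 1) = X := by
  simp [Psi]

lemma Psi_gen : Psi b (MvPolynomial.X 0 ^ 2 - MvPolynomial.C b * MvPolynomial.X 1 ^ 2) = 0 := by
  rw [map_sub, map_mul, map_pow, map_pow, Psi_X0, Psi_X1, mul_pow, ← C_pow, root_sq]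
  have : Psi b (MvPolynomial.C b) = C (algebraMap B _ b) := by
    rw [← MvPolynomial.algebraMap_eq, AlgHom.commutes]; rfl
  rw [this, sub_self]

lemma Psi_aeval (P : B[X]) : Psi b (aeval (MvPolynomial.X 1 : MvPolynomial (Fin 2) B) P) =
    P.map (algebraMap B (AdjoinRoot (X ^ 2 - C b : B[X]))) := by
  rw [← aeval_algHom_apply, Psi_X1, aeval_X_left_eq_map]

/-- reduction modulo `u² - b v²` -/
lemma exists_reduce (f : MvPolynomial (Fin 2) B) :
    ∃ P Q : B[X], f - (aeval (MvPolynomial.X 1 : MvPolynomial (Fin 2) B) P +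
      MvPolynomial.X 0 * aeval (MvPolynomial.X 1 : MvPolynomial (Fin 2) B) Q) ∈
      Ideal.span {(MvPolynomial.X 0 ^ 2 - MvPolynomial.C b * MvPolynomial.X 1 ^ 2 :
        MvPolynomial (Fin 2) B)} := by
  induction f using MvPolynomial.induction_on with
  | C a =>
    refine ⟨C a, 0, ?_⟩
    simp [MvPolynomial.algebraMap_eq]
  | add p q hp hq =>
    obtain ⟨P, Q, h1⟩ := hp
    obtain ⟨P', Q', h2⟩ := hq
    refine ⟨P + P', Q + Q', ?_⟩
    have := Ideal.add_mem _ h1 h2
    convert this using 1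
    simp only [map_add]
    ring
  | mul_X p i hp =>
    obtain ⟨P, Q, h1⟩ := hp
    fin_cases i
    · refine ⟨C b * X ^ 2 * Q, P, ?_⟩
      simp only [Fin.zero_eta, map_mul, map_pow, aeval_X, aeval_C, MvPolynomial.algebraMap_eq]
      have h2 := Ideal.add_mem _ (Ideal.mul_mem_right (MvPolynomial.X 0) _ h1)
        (Ideal.mul_mem_left _ (aeval (MvPolynomial.X 1 : MvPolynomial (Fin 2) B) Q)
          (Ideal.subset_span (Set.mem_singleton _)))
      convert h2 using 1
      ring
    · refine ⟨X * P, X * Q, ?_⟩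
      simp only [Fin.mk_one, map_mul, aeval_X]
      have h2 := Ideal.mul_mem_right (MvPolynomial.X 1) _ h1
      convert h2 using 1
      ring

lemma ker_Psi : RingHom.ker (Psi b).toRingHom =
    Ideal.span {(MvPolynomial.X 0 ^ 2 - MvPolynomial.C b * MvPolynomial.X 1 ^ 2 :
        MvPolynomial (Fin 2) B)} := by
  apply le_antisymm
  · intro f hf
    obtain ⟨P, Q, h1⟩ := exists_reduce b f
    have hker : Ideal.span {(MvPolynomial.X 0 ^ 2 - MvPolynomial.C b * MvPolynomial.X 1 ^ 2 :
        MvPolynomial (Fin 2) B)} ≤ RingHom.ker (Psi b).toRingHom := by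
      rw [Ideal.span_le, Set.singleton_subset_iff]
      exact Psi_gen b
    have h2 : Psi b (aeval (MvPolynomial.X 1 : MvPolynomial (Fin 2) B) P +
      MvPolynomial.X 0 * aeval (MvPolynomial.X 1 : MvPolynomial (Fin 2) B) Q) = 0 := by
      have h3 := hker h1
      rw [RingHom.mem_ker] at h3 hf
      have h4 : Psi b (f - (aeval (MvPolynomial.X 1 : MvPolynomial (Fin 2) B) P +
        MvPolynomial.X 0 * aeval (MvPolynomial.X 1 : MvPolynomial (Fin 2) B) Q)) = 0 := h3
      have h5 : Psi b f = 0 := hf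
      rw [map_sub, h5, zero_sub, neg_eq_zero] at h4
      exact h4
    rw [map_add, map_mul, Psi_aeval, Psi_aeval, Psi_X0] at h2
    have hPQ : ∀ n, P.coeff n = 0 ∧ Q.coeff n = 0 := by
      have key : ∀ n, P.coeff (n + 1) = 0 ∧ Q.coeff n = 0 := by
        intro n
        have h3 := congrArg (fun p => p.coeff (n + 1)) h2
        simp only [coeff_add, coeff_map, mul_assoc, coeff_C_mul, coeff_X_mul, coeff_zero] at h3
        exact eq_zero_of b _ _ h3
      have h0 : P.coeff 0 = 0 := by
        have h3 := congrArg (fun p => p.coeff 0) h2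
        simp only [coeff_add, coeff_map, mul_assoc, coeff_zero, mul_coeff_zero,
          coeff_X_zero, zero_mul, mul_zero, add_zero] at h3
        have := eq_zero_of b (P.coeff 0) 0 (by rw [h3]; simp)
        exact this.1
      intro n
      refine ⟨?_, (key n).2⟩
      cases n with
      | zero => exact h0
      | succ m => exact (key m).1
    have hP : P = 0 := by ext n; simpa using (hPQ n).1
    have hQ : Q = 0 := by ext n; simpa using (hPQ n).2
    rw [hP, hQ] at h1
    simpa using h1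
  · rw [Ideal.span_le, Set.singleton_subset_iff]
    exact Psi_gen b

lemma mem_range_Psi (G : Polynomial (AdjoinRoot (X ^ 2 - C b : B[X])))
    (hG : ∃ c : B, G.coeff 0 = algebraMap B (AdjoinRoot (X ^ 2 - C b : B[X])) c) :
    G ∈ (Psi b).range := by
  rw [G.as_sum_support]
  refine Subalgebra.sum_mem _ (fun n _ => ?_)
  cases n with
  | zero =>
    obtain ⟨c, hc⟩ := hG
    rw [hc]
    refine ⟨MvPolynomial.C c, ?_⟩
    show Psi b (MvPolynomial.C c) = _
    rw [← MvPolynomial.algebraMap_eq, AlgHom.commutes]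
    simp [Polynomial.algebraMap_apply]
  | succ m =>
    obtain ⟨c, d, hcd⟩ := exists_rep b (G.coeff (m + 1))
    rw [hcd]
    refine ⟨MvPolynomial.C c * MvPolynomial.X 1 ^ (m + 1) +
      MvPolynomial.C d * MvPolynomial.X 0 * MvPolynomial.X 1 ^ m, ?_⟩
    show Psi b (MvPolynomial.C c * MvPolynomial.X 1 ^ (m + 1) +
      MvPolynomial.C d * MvPolynomial.X 0 * MvPolynomial.X 1 ^ m) = _
    have hC : ∀ a : B, Psi b (MvPolynomial.C a) = C (algebraMap B _ a) := by
      intro a
      rw [← MvPolynomial.algebraMap_eq, AlgHom.commutes]; rfl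
    rw [map_add, map_mul, map_mul, map_mul, map_pow, map_pow, Psi_X0, Psi_X1, hC, hC,
      ← C_mul_X_pow_eq_monomial, map_add, map_mul, pow_succ]
    ring

end Groth.Agent.Helper9.PinchChart
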