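import Groth.Agent.Helper9.CubicEckardt3

/-!
# Smooth plane cubics (abstract form): flexes and their reflections
-/

set_option linter.unusedSimpArgs false

namespace Groth.Agent.Helper9.CubicForm

open Module

variable {V : Type*} [AddCommGroup V] [Module ℂ V] (C : Tri V)

/-- `v` is a flex: a point of the curve with a line through it meeting the curve three times there. -/
def Tri.IsFlex (v : V) : Prop :=
  v ≠ 0 ∧ C.F v = 0 ∧ ∃ w, LinearIndependent ℂ ![v, w] ∧ C.T v v w = 0 ∧ C.T v w w = 0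

/-- the functional-construction step: if `T e` vanishes on the tangent space then the reflection data exist -/
theorem eData_of_vanishing (e : V) (hFe : C.F e = 0) (hv₀ : ∃ v₀, C.T e e v₀ ≠ 0)
    (hWW : ∀ w w', C.T e e w = 0 → C.T e e w' = 0 → C.T e w w' = 0) : Nonempty (EData C e) := by
  have hFe' : C.T e e e = 0 := hFe
  obtain ⟨v₀, hv₀⟩ : ∃ v₀, C.T e e v₀ = 1 := by
    obtain ⟨w, hw⟩ := hv₀
    exact ⟨(C.T e e w)⁻¹ • w, by simp [hw]⟩
  refine ⟨⟨C.T e v₀ - ((1/2 : ℂ) * C.T e v₀ v₀) • C.T e e, ?_, hFe, ?_⟩⟩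
  · simp only [LinearMap.sub_apply, LinearMap.smul_apply, smul_eq_mul, hFe', mul_zero, sub_zero]
    rw [C.s23 e v₀ e, hv₀]
  · intro w w'
    have h1 := hWW (w - C.T e e w • v₀) (w' - C.T e e w' • v₀) (by simp [hv₀]) (by simp [hv₀])
    simp only [map_sub, map_smul, LinearMap.sub_apply, LinearMap.smul_apply, smul_eq_mul] at h1
    simp only [LinearMap.sub_apply, LinearMap.smul_apply, smul_eq_mul]
    rw [C.s23 e w v₀] at h1
    linear_combination h1

/-- a cubic vanishing on a plane of a 3-dimensional space is not smooth -/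
theorem not_smooth_of_vanishing_plane [FiniteDimensional ℂ V] (hV : finrank ℂ V = 3)
    (W : Submodule ℂ V) (hW : finrank ℂ W = 2) (hF : ∀ u ∈ W, C.F u = 0) : ¬ C.Smooth := by
  intro hs
  have hT := T_eq_zero_of_F_eq_zero C W hF
  have hlt : W < ⊤ := by
    refine lt_top_iff_ne_top.mpr fun h => ?_
    have := finrank_top ℂ V
    rw [← h, hW, hV] at this
    omega
  obtain ⟨φ, hφ0, hφ⟩ := W.exists_le_ker_of_lt_top hlt
  have hker : W = LinearMap.ker φ := by
    refine Submodule.eq_of_le_of_finrank_eq hφ ?_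
    have := Module.Dual.finrank_ker_add_one_of_ne_zero hφ0
    omega
  obtain ⟨u, hu⟩ : ∃ u, φ u = 1 := by
    obtain ⟨u, hu⟩ : ∃ u, φ u ≠ 0 := by
      by_contra h
      push Not at h
      exact hφ0 (LinearMap.ext h)
    exact ⟨(φ u)⁻¹ • u, by simp [hu]⟩
  obtain ⟨a, ha, b, hb, hab⟩ := exists_pair_in W (by omega)
  obtain ⟨h, hmem, hne, hiso⟩ := exists_isotropic C u a b hab
  have hhW : h ∈ W := by
    refine Submodule.span_le.mpr ?_ hmem
    rintro x (rfl | rfl)
    · exact ha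
    · exact hb
  obtain ⟨w, hw⟩ := hs h hne (hF h hhW)
  apply hw
  have : w = φ w • u + (w - φ w • u) := by abel
  rw [this, map_add, map_smul, smul_eq_mul, C.s13 h h u, hiso, mul_zero, zero_add]
  apply hT h hhW h hhW
  rw [hker, LinearMap.mem_ker]
  simp [hu]

variable {C}

/-- expansion along a flex line -/
lemma Tri.IsFlex.F_line {p w : V} (hFp : C.F p = 0) (h1 : C.T p p w = 0) (h2 : C.T p w w = 0)
    (s t : ℂ) : C.F (s • p + t • w) = t ^ 3 * C.F w := by
  rw [C.expand2, hFp, h1, h2]; ring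

variable (C)

/-- structure at a flex of a smooth plane cubic -/
theorem flex_structure [FiniteDimensional ℂ V] (hV : finrank ℂ V = 3) (hs : C.Smooth) (p : V)
    (hp : C.IsFlex p) :
    ∃ (D : EData C p) (w : V), LinearIndependent ℂ ![p, w] ∧ C.T p p w = 0 ∧ C.T p w w = 0 ∧
      C.F w ≠ 0 ∧ ∀ y, C.T p p y = 0 → ∃ s t : ℂ, y = s • p + t • w := by
  obtain ⟨hp0, hFp, w, hind, h1, h2⟩ := hp
  have hFp' : C.T p p p = 0 := hFp
  have hFw : C.F w ≠ 0 := by
    intro hFw
    refine not_smooth_of_vanishing_plane C hV (Submodule.span ℂ {p, w}) (finrank_span_pair p w hind)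
      ?_ hs
    intro u hu
    obtain ⟨s, t, rfl⟩ := Submodule.mem_span_pair.mp hu
    rw [Tri.IsFlex.F_line hFp h1 h2, hFw, mul_zero]
  obtain ⟨v₀, hv₀⟩ := hs p hp0 hFp
  have hl0 : C.T p p ≠ 0 := by
    intro h
    rw [h] at hv₀
    simp at hv₀
  have hker : finrank ℂ (LinearMap.ker (C.T p p)) = 2 := by
    have := Module.Dual.finrank_ker_add_one_of_ne_zero hl0
    omega
  have hspan := mem_span_pair_of_finrank_two (LinearMap.ker (C.T p p)) hker p w hFp' h1 hind
  have hWW : ∀ y y', C.T p p y = 0 → C.T p p y' = 0 → C.T p y y' = 0 := by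
    intro y y' hy hy'
    obtain ⟨s, t, rfl⟩ := hspan y hy
    obtain ⟨s', t', rfl⟩ := hspan y' hy'
    simp only [map_add, map_smul, LinearMap.add_apply, LinearMap.smul_apply, smul_eq_mul]
    rw [C.s23 p w p, hFp', h1, h2]
    ring
  obtain ⟨D⟩ := eData_of_vanishing C p hFp ⟨v₀, hv₀⟩ hWW
  exact ⟨D, w, hind, h1, h2, hFw, fun y hy => hspan y hy⟩

end Groth.Agent.Helper9.CubicForm
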