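import Groth.Agent.Helper9.PlaneCubic1

/-!
# A second flex on a smooth plane cubic
-/

set_option linter.unusedSimpArgs false

namespace Groth.Agent.Helper9.CubicForm

open Module

variable {V : Type*} [AddCommGroup V] [Module ℂ V] (C : Tri V)

open Polynomial in
lemma exists_root_quartic (a₄ a₃ a₂ a₁ a₀ : ℂ) (h : a₄ ≠ 0) :
    ∃ x : ℂ, a₄ * x ^ 4 + a₃ * x ^ 3 + a₂ * x ^ 2 + a₁ * x + a₀ = 0 := by
  set P : ℂ[X] := C a₄ * X ^ 4 + C a₃ * X ^ 3 + C a₂ * X ^ 2 + C a₁ * X + C a₀ with hP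
  have hc : P.coeff 4 = a₄ := by
    simp [hP, coeff_X_pow, coeff_X, coeff_C]
  have hdeg : P.degree ≠ 0 := by
    intro h0
    have h1 := eq_C_of_degree_eq_zero h0
    rw [h1, coeff_C] at hc
    simp at hc
    exact h hc.symm
  obtain ⟨x, hx⟩ := IsAlgClosed.exists_root P hdeg
  refine ⟨x, ?_⟩
  have : eval x P = a₄ * x ^ 4 + a₃ * x ^ 3 + a₂ * x ^ 2 + a₁ * x + a₀ := by simp [hP]
  rw [← this]
  exact hx

/-- a second flex -/
theorem exists_second_flex [FiniteDimensional ℂ V] (hV : finrank ℂ V = 3) (hs : C.Smooth) (p : V)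
    (hp : C.IsFlex p) : ∃ q, C.IsFlex q ∧ LinearIndependent ℂ ![p, q] := by
  obtain ⟨D, w, hind, h1, h2, hFw, -⟩ := flex_structure C hV hs p hp
  have hFp : C.F p = 0 := D.hFe
  have hFp' : C.T p p p = 0 := hFp
  -- the coordinate vectors of the plane `ker m`
  set hx := w - D.m w • p with hhx
  have mhx : D.m hx = 0 := by simp [hhx, D.me]
  have lhx : C.T p p hx = 0 := by simp [hhx, h1, hFp']
  have Fhx : C.F hx = C.F w := by
    have : hx = (-(D.m w)) • p + (1:ℂ) • w := by rw [hhx]; simp only [neg_smul, one_smul]; abel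
    rw [this, Tri.IsFlex.F_line hFp h1 h2]; ring
  obtain ⟨h, mh, lh⟩ := exists_transverse C hs p D.m D.me hFp
  set hz := (C.T p p h)⁻¹ • h with hhz
  have mhz : D.m hz = 0 := by simp [hhz, mh]
  have lhz : C.T p p hz = 1 := by simp [hhz, lh]
  obtain ⟨c₀, hc₀⟩ : ∃ c, C.T hx hx hx = c := ⟨_, rfl⟩
  obtain ⟨c₁, hc₁⟩ : ∃ c, C.T hx hx hz = c := ⟨_, rfl⟩
  obtain ⟨c₂, hc₂⟩ : ∃ c, C.T hx hz hz = c := ⟨_, rfl⟩
  obtain ⟨c₃, hc₃⟩ : ∃ c, C.T hz hz hz = c := ⟨_, rfl⟩
  have hc₀ne : c₀ ≠ 0 := by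
    have : c₀ = C.F hx := hc₀.symm
    rw [this, Fhx]; exact hFw
  obtain ⟨x₀, hx₀⟩ := exists_root_quartic (c₀ ^ 2) (4 * c₀ * c₁) (6 * c₀ * c₂) (4 * c₀ * c₃)
    (4 * c₁ * c₃ - 3 * c₂ ^ 2) (pow_ne_zero 2 hc₀ne)
  obtain ⟨t, ht⟩ := IsAlgClosed.exists_eq_mul_self
    (-(c₀ * x₀ ^ 3 + 3 * c₁ * x₀ ^ 2 + 3 * c₂ * x₀ + c₃) / 3)
  set hq := x₀ • hx + (1:ℂ) • hz with hhq
  have mhq : D.m hq = 0 := by simp [hhq, mhx, mhz]
  have lhq : C.T p p hq = 1 := by simp [hhq, lhx, lhz]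
  set q := t • p + (1:ℂ) • hq with hqdef
  have lq : C.T p p q = 1 := by simp [hqdef, hFp', lhq]
  have mq : D.m q = t := by simp [hqdef, D.me, mhq]
  have Fhq : C.F hq = c₀ * x₀ ^ 3 + 3 * c₁ * x₀ ^ 2 + 3 * c₂ * x₀ + c₃ := by
    rw [hhq, C.expand2]
    have : C.F hx = c₀ := hc₀
    have h' : C.F hz = c₃ := hc₃
    rw [this, h', hc₁, hc₂]; ring
  have Fq : C.F q = 0 := by
    rw [hqdef, C.expand2, hFp, lhq, D.hq hq hq mhq mhq, Fhq]
    linear_combination (-3 : ℂ) * ht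
  have q0 : q ≠ 0 := by
    intro h0
    rw [h0, map_zero] at lq
    exact zero_ne_one lq
  -- entries of the polar matrix at q
  have Tq : ∀ u y, C.T q u y = t * C.T p u y + x₀ * C.T hx u y + C.T hz u y := by
    intro u y
    simp only [hqdef, hhq, map_add, map_smul, LinearMap.add_apply, LinearMap.smul_apply,
      smul_eq_mul, one_mul]
    ring
  have e_pp : C.T q p p = 1 := by
    rw [Tq, hFp', C.s13 hx p p, lhx, C.s13 hz p p, lhz]; ring
  have e_px : C.T q p hx = 0 := by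
    rw [Tq, lhx, C.s12 hx p hx, D.hq hx hx mhx mhx, C.s12 hz p hx, D.hq hz hx mhz mhx]; ring
  have e_pz : C.T q p hz = t := by
    rw [Tq, lhz, C.s12 hx p hz, D.hq hx hz mhx mhz, C.s12 hz p hz, D.hq hz hz mhz mhz]; ring
  have e_xx : C.T q hx hx = x₀ * c₀ + c₁ := by
    rw [Tq, D.hq hx hx mhx mhx, C.s13 hz hx hx, hc₀, hc₁]; ring
  have e_xz : C.T q hx hz = x₀ * c₁ + c₂ := by
    rw [Tq, D.hq hx hz mhx mhz, C.s12 hz hx hz, hc₁, hc₂]; ring
  have e_zz : C.T q hz hz = x₀ * c₂ + c₃ := by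
    rw [Tq, D.hq hz hz mhz mhz, hc₂, hc₃]; ring
  have hx0 : hx ≠ 0 := by
    intro h0
    apply hFw
    rw [← Fhx, h0]
    simp [Tri.F]
  -- p, hx, hz span
  have hm0 : D.m ≠ 0 := by
    intro h0
    have := D.me
    rw [h0] at this
    simp at this
  have hkerm : finrank ℂ (LinearMap.ker D.m) = 2 := by
    have := Module.Dual.finrank_ker_add_one_of_ne_zero hm0
    omega
  have hind_xz : LinearIndependent ℂ ![hx, hz] := by
    rw [LinearIndependent.pair_iff]
    intro a b hab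
    have h3 := congrArg (C.T p p) hab
    simp only [map_add, map_smul, lhx, lhz, smul_eq_mul, mul_zero, mul_one, zero_add,
      map_zero] at h3
    subst h3
    simp only [zero_smul, add_zero, smul_eq_zero] at hab
    exact ⟨hab.resolve_right hx0, rfl⟩
  have hspanH := mem_span_pair_of_finrank_two (LinearMap.ker D.m) hkerm hx hz mhx mhz hind_xz
  have hspan : ∀ y : V, ∃ y₀ y₁ y₂ : ℂ, y = y₀ • p + y₁ • hx + y₂ • hz := by
    intro y
    obtain ⟨a, b, hab⟩ := hspanH (y - D.m y • p) (by simp [D.me])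
    exact ⟨D.m y, a, b, by rw [add_assoc, ← hab]; abel⟩
  have hE : -(t * t) * (x₀ * c₀ + c₁) - (x₀ * c₁ + c₂) ^ 2 + (x₀ * c₀ + c₁) * (x₀ * c₂ + c₃) = 0 := by
    linear_combination (1/3:ℂ) * hx₀ + (x₀ * c₀ + c₁) * ht
  -- the kernel vector
  obtain ⟨wq, hwq0, hwq⟩ : ∃ wq : V, wq ≠ 0 ∧ ∀ y, C.T q y wq = 0 := by
    have hrows : ∀ wq : V, C.T q p wq = 0 → C.T q hx wq = 0 → C.T q hz wq = 0 →
        ∀ y, C.T q y wq = 0 := by
      intro wq r1 r2 r3 y
      obtain ⟨y₀, y₁, y₂, rfl⟩ := hspan y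
      simp only [map_add, map_smul, LinearMap.add_apply, LinearMap.smul_apply, smul_eq_mul, r1,
        r2, r3, mul_zero, add_zero]
    by_cases ha : x₀ * c₀ + c₁ = 0
    · have hb : x₀ * c₁ + c₂ = 0 := by
        rw [ha] at hE
        have : (x₀ * c₁ + c₂) ^ 2 = 0 := by linear_combination -hE
        exact pow_eq_zero_iff (by norm_num) |>.mp this
      refine ⟨hx, hx0, hrows hx e_px ?_ ?_⟩
      · rw [e_xx, ha]
      · rw [C.s23 q hz hx, e_xz, hb]
    · refine ⟨(-(t * (x₀ * c₀ + c₁))) • p + (-(x₀ * c₁ + c₂)) • hx + (x₀ * c₀ + c₁) • hz, ?_,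
        hrows _ ?_ ?_ ?_⟩
      · intro h0
        have h3 := congrArg (C.T p p) h0
        simp only [map_add, map_smul, lhx, lhz, hFp', smul_eq_mul, mul_zero, mul_one, zero_add,
          map_zero, add_zero] at h3
        exact ha h3
      · simp only [map_add, map_smul, smul_eq_mul, e_pp, e_px, e_pz]; ring
      · simp only [map_add, map_smul, smul_eq_mul, C.s23 q hx p, e_px, e_xx, e_xz]; ring
      · simp only [map_add, map_smul, smul_eq_mul, C.s23 q hz p, e_pz, C.s23 q hz hx, e_xz, e_zz]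
        linear_combination hE
  refine ⟨q, ⟨q0, Fq, wq, ?_, hwq q, ?_⟩, ?_⟩
  · rw [LinearIndependent.pair_iff]
    intro a b hab
    by_cases hb : b = 0
    · subst hb
      simp only [zero_smul, add_zero, smul_eq_zero] at hab
      exact ⟨hab.resolve_right q0, rfl⟩
    · exfalso
      have hwq' : wq = (-(a / b)) • q := by
        have : b • wq = -(a • q) := by
          rw [eq_neg_iff_add_eq_zero, add_comm]; exact hab
        calc wq = b⁻¹ • (b • wq) := by rw [smul_smul, inv_mul_cancel₀ hb, one_smul]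
          _ = _ := by rw [this, smul_neg, smul_smul, neg_smul]; congr 2; field_simp
      have ha : a ≠ 0 := by
        rintro rfl
        rw [zero_div, neg_zero, zero_smul] at hwq'
        exact hwq0 hwq'
      obtain ⟨y, hy⟩ := hs q q0 Fq
      apply hy
      have := hwq y
      rw [hwq', map_smul, smul_eq_mul] at this
      have h4 : C.T q y q = 0 := by
        rcases mul_eq_zero.mp this with h5 | h5
        · exfalso
          rw [neg_eq_zero, div_eq_zero_iff] at h5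
          rcases h5 with h5 | h5
          · exact ha h5
          · exact hb h5
        · exact h5
      rw [C.s23 q q y]; exact h4
  · exact hwq wq
  · rw [LinearIndependent.pair_iff]
    intro a b hab
    have h3 := congrArg (C.T p p) hab
    simp only [map_add, map_smul, hFp', lq, smul_eq_mul, mul_zero, mul_one, zero_add,
      map_zero] at h3
    subst h3
    simp only [zero_smul, add_zero, smul_eq_zero] at hab
    exact ⟨hab.resolve_right D.ne_zero, rfl⟩

end Groth.Agent.Helper9.CubicForm
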