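import Groth.Agent.Helper9.PlaneCubic2
set_option linter.unusedSimpArgs false
namespace Groth.Agent.Helper9.CubicForm
open Module
variable {V : Type*} [AddCommGroup V] [Module ℂ V] (C : Tri V)

/-- polarisation identity -/
lemma six_T (u v w : V) :
    6 * C.T u v w = C.F (u + v + w) - C.F (u + v) - C.F (u + w) - C.F (v + w) + C.F u + C.F v + C.F w := by
  simp only [Tri.F, map_add, LinearMap.add_apply]
  simp only [C.s12, C.s23]
  ring

/-- a linear map preserving the cubic form preserves the trilinear form -/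
lemma T_invariant (g : V →ₗ[ℂ] V) (hg : ∀ v, C.F (g v) = C.F v) (u v w : V) :
    C.T (g u) (g v) (g w) = C.T u v w := by
  have h1 := six_T C (g u) (g v) (g w)
  have h2 := six_T C u v w
  simp only [← map_add, hg] at h1
  have : (6:ℂ) * C.T (g u) (g v) (g w) = 6 * C.T u v w := by rw [h1, h2]
  exact mul_left_cancel₀ (by norm_num) this

/-- eigenvectors and the vanishing of the trilinear form -/
lemma T_eigen (g : V →ₗ[ℂ] V) (hg : ∀ v, C.F (g v) = C.F v) (u v w : V) (a b c : ℂ)
    (hu : g u = a • u) (hv : g v = b • v) (hw : g w = c • w) (habc : a * b * c ≠ 1) :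
    C.T u v w = 0 := by
  have := T_invariant C g hg u v w
  rw [hu, hv, hw] at this
  simp only [map_smul, LinearMap.smul_apply, smul_eq_mul] at this
  have h2 : (a * b * c - 1) * C.T u v w = 0 := by linear_combination this
  exact (mul_eq_zero.mp h2).resolve_left (sub_ne_zero.mpr habc)

lemma span_of_indep3 [FiniteDimensional ℂ V] (hV : finrank ℂ V = 3) (b : Fin 3 → V)
    (hb : LinearIndependent ℂ b) : ∀ y : V, ∃ c : Fin 3 → ℂ, y = c 0 • b 0 + c 1 • b 1 + c 2 • b 2 := by
  intro y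
  have htop := hb.span_eq_top_of_card_eq_finrank' (by simp [hV])
  have : y ∈ Submodule.span ℂ (Set.range b) := by rw [htop]; trivial
  obtain ⟨c, hc⟩ := (Submodule.mem_span_range_iff_exists_fun ℂ).mp this
  exact ⟨c, by rw [← hc, Fin.sum_univ_three]⟩


/-- an eigenbasis for the order-three automorphism generated by the reflections at two flexes -/
theorem exists_eigenbasis [FiniteDimensional ℂ V] (hV : finrank ℂ V = 3) (hs : C.Smooth) (p q : V)
    (hp : C.IsFlex p) (hq : C.IsFlex q) (hind : LinearIndependent ℂ ![p, q]) :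
    ∃ (v₀ v₁ v₂ : V) (ω : ℂ), ω * ω + ω + 1 = 0 ∧ LinearIndependent ℂ ![v₀, v₁, v₂] ∧
      C.T v₀ v₀ v₁ = 0 ∧ C.T v₀ v₀ v₂ = 0 ∧ C.T v₀ v₁ v₁ = 0 ∧ C.T v₀ v₂ v₂ = 0 ∧
      C.T v₁ v₁ v₂ = 0 ∧ C.T v₁ v₂ v₂ = 0 := by
  obtain ⟨D, w, -, hw1, hw2, hFw, hspanp⟩ := flex_structure C hV hs p hp
  obtain ⟨D', -, -, -, -, -, -⟩ := flex_structure C hV hs q hq
  have hind' := LinearIndependent.pair_iff.mp hind
  have hFp : C.F p = 0 := D.hFe
  have hFq : C.F q = 0 := D'.hFe
  -- q is not on the tangent line at p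
  have ha : C.T p p q ≠ 0 := by
    intro ha
    obtain ⟨s, t, hst⟩ := hspanp q ha
    have h1 : C.F q = t ^ 3 * C.F w := by rw [hst, Tri.IsFlex.F_line hFp hw1 hw2]
    rw [hFq] at h1
    have ht : t = 0 := by
      rcases mul_eq_zero.mp h1.symm with h | h
      · exact pow_eq_zero_iff (by norm_num) |>.mp h
      · exact absurd h hFw
    rw [ht, zero_smul, add_zero] at hst
    have := (hind' s (-1) (by rw [← hst]; simp)).2
    norm_num at this
  -- the relation 4 x x' = 1
  obtain ⟨x, hx⟩ : ∃ x, D.m q = x := ⟨_, rfl⟩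
  obtain ⟨x', hx'⟩ : ∃ x, D'.m p = x := ⟨_, rfl⟩
  have hb1 : C.T p q q = 2 * C.T p p q * x := by rw [D.b_eq, hx]
  have hb2 : C.T p p q = 2 * C.T p q q * x' := by
    have := D'.b_eq (e' := p)
    rw [hx', C.s13 q p p, C.s13 q q p] at this
    exact this
  have hxx : 4 * x * x' = 1 := by
    have : C.T p p q * (4 * x * x' - 1) = 0 := by
      rw [hb1] at hb2
      linear_combination -hb2
    have := (mul_eq_zero.mp this).resolve_left ha
    linear_combination this
  have hx0 : x ≠ 0 := by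
    rintro rfl
    norm_num at hxx
  -- the cube root of unity
  obtain ⟨ω, hω⟩ : ∃ ω : ℂ, 1 * (ω * ω) + 1 * ω + 1 = 0 :=
    exists_quadratic_eq_zero one_ne_zero (IsAlgClosed.exists_eq_mul_self _)
  have hω' : ω * ω + ω + 1 = 0 := by linear_combination hω
  have hω3 : ω ^ 3 = 1 := by linear_combination (ω - 1) * hω'
  have hω1 : ω ≠ 1 := by
    rintro rfl
    norm_num at hω'
  have hω0 : ω ≠ 0 := by
    rintro rfl
    norm_num at hω'
  have hω2 : ω ^ 2 ≠ 1 := by
    intro h
    have h2 : ω = -2 := by linear_combination hω' - h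
    rw [h2] at h
    norm_num at h
  -- the automorphism g = A_p A_q
  set g : V →ₗ[ℂ] V := reflMap p D.m ∘ₗ reflMap q D'.m with hg
  have hgF : ∀ v, C.F (g v) = C.F v := by
    intro v
    simp only [hg, LinearMap.comp_apply]
    rw [reflMap_apply p D.m, D.inv, reflMap_apply q D'.m, D'.inv]
  have hgp : g p = (-(2 * x')) • q := by
    simp only [hg, LinearMap.comp_apply, reflMap_apply, map_sub, map_smul, D.me, D'.me, hx, hx',
      smul_eq_mul, mul_one]
    calc _ = (4 * x * x' - 1) • p + (-(2 * x')) • q := by module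
      _ = _ := by rw [hxx, sub_self, zero_smul, zero_add]
  have hgq : g q = (2 * x) • p + (-1 : ℂ) • q := by
    simp only [hg, LinearMap.comp_apply, reflMap_apply, map_sub, map_smul, D.me, D'.me, hx, hx',
      smul_eq_mul, mul_one]
    module
  -- eigenvectors
  obtain ⟨v₀, hv₀ker, hv₀⟩ : ∃ v₀ : V, (D.m v₀ = 0 ∧ D'.m v₀ = 0) ∧ v₀ ≠ 0 := by
    have : LinearMap.ker (D.m.prod D'.m) ≠ ⊥ := by
      apply LinearMap.ker_ne_bot_of_finrank_lt
      rw [hV, Module.finrank_prod, Module.finrank_self]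
      norm_num
    obtain ⟨v, hv, hv0⟩ := Submodule.exists_mem_ne_zero_of_ne_bot this
    refine ⟨v, ?_, hv0⟩
    have := LinearMap.mem_ker.mp hv
    simpa [Prod.ext_iff] using this
  have hgv₀ : g v₀ = (1:ℂ) • v₀ := by
    simp only [hg, LinearMap.comp_apply, reflMap_apply, map_sub, map_smul, hv₀ker.1, hv₀ker.2,
      smul_eq_mul, mul_zero, zero_smul, sub_zero, one_smul]
  have hgv : ∀ μ : ℂ, μ * μ + μ + 1 = 0 → g ((2 * x) • p + μ • q) = μ • ((2 * x) • p + μ • q) := by
    intro μ hμ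
    rw [map_add, map_smul, map_smul, hgp, hgq]
    have e1 : (2 * x) * (-(2 * x')) + μ * (-1) = μ * μ := by linear_combination -hxx - hμ
    have : (2 * x) • (-(2 * x')) • q + μ • ((2 * x) • p + (-1 : ℂ) • q) =
        (μ * (2 * x)) • p + ((2 * x) * (-(2 * x')) + μ * (-1)) • q := by module
    rw [this, e1]
    module
  have hω'' : ω ^ 2 * ω ^ 2 + ω ^ 2 + 1 = 0 := by linear_combination (ω ^ 2 - ω + 1) * hω'
  have hgv₁ := hgv ω hω'
  have hgv₂ := hgv (ω ^ 2) hω''
  set v₁ := (2 * x) • p + ω • q with hv₁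
  set v₂ := (2 * x) • p + ω ^ 2 • q with hv₂
  refine ⟨v₀, v₁, v₂, ω, hω', ?_, ?_, ?_, ?_, ?_, ?_, ?_⟩
  · rw [Fintype.linearIndependent_iff]
    intro c hc
    rw [Fin.sum_univ_three] at hc
    simp only [Matrix.cons_val_zero, Matrix.cons_val_one, Matrix.cons_val_two, Matrix.head_cons,
      Matrix.tail_cons] at hc
    have h1 := congrArg D.m hc
    have h2 := congrArg D'.m hc
    simp only [hv₁, hv₂, map_add, map_smul, hv₀ker.1, hv₀ker.2, D.me, D'.me, hx, hx', smul_eq_mul,
      mul_one, mul_zero, zero_add, map_zero] at h1 h2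
    -- u = c1 v1 + c2 v2 = α p + β q with α + β x = 0, α x' + β = 0
    have hβ : c 1 * ω + c 2 * ω ^ 2 = 0 := by
      have : (c 1 * ω + c 2 * ω ^ 2) * (1 - x * x') = 0 := by
        linear_combination h2 - x' * h1
      have hne : (1 - x * x') ≠ 0 := by
        intro h
        have : (4:ℂ) = 1 := by linear_combination hxx + 4 * h
        norm_num at this
      exact (mul_eq_zero.mp this).resolve_right hne
    have hα : c 1 + c 2 = 0 := by
      have : (2 * x) * (c 1 + c 2) = 0 := by linear_combination h1 - x * hβ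
      exact (mul_eq_zero.mp this).resolve_left (mul_ne_zero two_ne_zero hx0)
    have hc1 : c 1 = 0 := by
      have : c 1 * (ω * (1 - ω)) = 0 := by linear_combination hβ - ω ^ 2 * hα
      exact (mul_eq_zero.mp this).resolve_right (mul_ne_zero hω0 (sub_ne_zero.mpr hω1.symm))
    have hc2 : c 2 = 0 := by linear_combination hα - hc1
    rw [hc1, hc2, zero_smul, zero_smul, add_zero, add_zero] at hc
    have hc0 : c 0 = 0 := (smul_eq_zero.mp hc).resolve_right hv₀
    intro i
    fin_cases i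
    · exact hc0
    · exact hc1
    · exact hc2
  · exact T_eigen C g hgF v₀ v₀ v₁ 1 1 ω hgv₀ hgv₀ hgv₁ (by simpa using hω1)
  · exact T_eigen C g hgF v₀ v₀ v₂ 1 1 (ω ^ 2) hgv₀ hgv₀ hgv₂ (by simpa using hω2)
  · exact T_eigen C g hgF v₀ v₁ v₁ 1 ω ω hgv₀ hgv₁ hgv₁ (by
      intro h; apply hω2; linear_combination h)
  · exact T_eigen C g hgF v₀ v₂ v₂ 1 (ω ^ 2) (ω ^ 2) hgv₀ hgv₂ hgv₂ (by
      intro h; apply hω1; linear_combination h - ω * hω3)
  · exact T_eigen C g hgF v₁ v₁ v₂ ω ω (ω ^ 2) hgv₁ hgv₁ hgv₂ (by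
      intro h; apply hω1; linear_combination h - ω * hω3)
  · exact T_eigen C g hgF v₁ v₂ v₂ ω (ω ^ 2) (ω ^ 2) hgv₁ hgv₂ hgv₂ (by
      intro h; apply hω2; linear_combination h - ω ^ 2 * hω3)

end Groth.Agent.Helper9.CubicForm
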