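import Groth.Agent.Helper9.PlaneCubic3

/-!
# Hesse normal form of a smooth plane cubic (abstract form)
-/

set_option linter.unusedSimpArgs false

namespace Groth.Agent.Helper9.CubicForm

open Module

variable {V : Type*} [AddCommGroup V] [Module ℂ V] (C : Tri V)

lemma indep3_iff (a b c : V) :
    LinearIndependent ℂ ![a, b, c] ↔
      ∀ x y z : ℂ, x • a + y • b + z • c = 0 → x = 0 ∧ y = 0 ∧ z = 0 := by
  rw [Fintype.linearIndependent_iff]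
  constructor
  · intro h x y z hxyz
    have := h ![x, y, z] (by simpa [Fin.sum_univ_three] using hxyz)
    exact ⟨this 0, this 1, this 2⟩
  · intro h g hg
    rw [Fin.sum_univ_three] at hg
    obtain ⟨h0, h1, h2⟩ := h (g 0) (g 1) (g 2) (by simpa using hg)
    intro i
    fin_cases i
    · exact h0
    · exact h1
    · exact h2

/-- expansion of the cubic form in a basis with six vanishing relations -/
lemma F_expand3 (v₀ v₁ v₂ : V)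
    (h1 : C.T v₀ v₀ v₁ = 0) (h2 : C.T v₀ v₀ v₂ = 0) (h3 : C.T v₀ v₁ v₁ = 0) (h4 : C.T v₀ v₂ v₂ = 0)
    (h5 : C.T v₁ v₁ v₂ = 0) (h6 : C.T v₁ v₂ v₂ = 0) (x₀ x₁ x₂ : ℂ) :
    C.F (x₀ • v₀ + x₁ • v₁ + x₂ • v₂) =
      x₀ ^ 3 * C.F v₀ + x₁ ^ 3 * C.F v₁ + x₂ ^ 3 * C.F v₂ + 6 * (x₀ * x₁ * x₂) * C.T v₀ v₁ v₂ := by
  simp only [Tri.F, map_add, map_smul, LinearMap.add_apply, LinearMap.smul_apply, smul_eq_mul]
  simp only [C.s12, C.s23] at h1 h2 h3 h4 h5 h6 ⊢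
  simp only [h1, h2, h3, h4, h5, h6]
  ring

lemma six_Tvvy (v y : V) : 6 * C.T v v y = C.F (v + y) - C.F (v - y) - 2 * C.F y := by
  simp only [Tri.F, map_add, map_sub, LinearMap.add_apply, LinearMap.sub_apply]
  simp only [C.s12, C.s23]
  ring

/-- the Hesse normal form in abstract terms -/
theorem hesse_basis [FiniteDimensional ℂ V] (hV : finrank ℂ V = 3) (hs : C.Smooth)
    (v₀ v₁ v₂ : V) (hind : LinearIndependent ℂ ![v₀, v₁, v₂])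
    (h1 : C.T v₀ v₀ v₁ = 0) (h2 : C.T v₀ v₀ v₂ = 0) (h3 : C.T v₀ v₁ v₁ = 0) (h4 : C.T v₀ v₂ v₂ = 0)
    (h5 : C.T v₁ v₁ v₂ = 0) (h6 : C.T v₁ v₂ v₂ = 0) :
    ∃ (b₀ b₁ b₂ : V) (k : ℂ), LinearIndependent ℂ ![b₀, b₁, b₂] ∧ k ^ 3 ≠ 1 ∧
      ∀ x₀ x₁ x₂ : ℂ, C.F (x₀ • b₀ + x₁ • b₁ + x₂ • b₂) =
        x₀ ^ 3 + x₁ ^ 3 + x₂ ^ 3 - 3 * k * (x₀ * x₁ * x₂) := by
  have hind' := (indep3_iff v₀ v₁ v₂).mp hind
  have hspan := span_of_indep3 hV ![v₀, v₁, v₂] hind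
  simp only [Matrix.cons_val_zero, Matrix.cons_val_one, Matrix.cons_val_two, Matrix.head_cons,
    Matrix.tail_cons] at hspan
  have hv₀ : v₀ ≠ 0 := by
    rintro rfl
    have := (hind' 1 0 0 (by simp)).1
    exact one_ne_zero this
  have hv₁ : v₁ ≠ 0 := by
    rintro rfl
    have := (hind' 0 1 0 (by simp)).2.1
    exact one_ne_zero this
  have hv₂ : v₂ ≠ 0 := by
    rintro rfl
    have := (hind' 0 0 1 (by simp)).2.2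
    exact one_ne_zero this
  have hα : C.F v₀ ≠ 0 := by
    intro hF
    obtain ⟨w, hw⟩ := hs v₀ hv₀ hF
    obtain ⟨c, rfl⟩ := hspan w
    apply hw
    simp only [map_add, map_smul, smul_eq_mul, h1, h2]
    rw [show C.T v₀ v₀ v₀ = 0 from hF]
    ring
  have hβ : C.F v₁ ≠ 0 := by
    intro hF
    obtain ⟨w, hw⟩ := hs v₁ hv₁ hF
    obtain ⟨c, rfl⟩ := hspan w
    apply hw
    simp only [map_add, map_smul, smul_eq_mul, h5]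
    rw [show C.T v₁ v₁ v₁ = 0 from hF, C.s13 v₁ v₁ v₀, h3]
    ring
  have hγ : C.F v₂ ≠ 0 := by
    intro hF
    obtain ⟨w, hw⟩ := hs v₂ hv₂ hF
    obtain ⟨c, rfl⟩ := hspan w
    apply hw
    simp only [map_add, map_smul, smul_eq_mul]
    rw [show C.T v₂ v₂ v₂ = 0 from hF, C.s13 v₂ v₂ v₀, h4, C.s13 v₂ v₂ v₁, h6]
    ring
  obtain ⟨r₀, hr₀⟩ := IsAlgClosed.exists_pow_nat_eq (C.F v₀) (n := 3) (by norm_num)
  obtain ⟨r₁, hr₁⟩ := IsAlgClosed.exists_pow_nat_eq (C.F v₁) (n := 3) (by norm_num)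
  obtain ⟨r₂, hr₂⟩ := IsAlgClosed.exists_pow_nat_eq (C.F v₂) (n := 3) (by norm_num)
  have hr₀0 : r₀ ≠ 0 := by
    rintro rfl
    apply hα
    rw [← hr₀]
    norm_num
  have hr₁0 : r₁ ≠ 0 := by
    rintro rfl
    apply hβ
    rw [← hr₁]
    norm_num
  have hr₂0 : r₂ ≠ 0 := by
    rintro rfl
    apply hγ
    rw [← hr₂]
    norm_num
  obtain ⟨k, hk⟩ : ∃ k : ℂ, k = -2 * C.T v₀ v₁ v₂ * (r₀ * r₁ * r₂)⁻¹ := ⟨_, rfl⟩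
  have hF : ∀ x₀ x₁ x₂ : ℂ, C.F (x₀ • r₀⁻¹ • v₀ + x₁ • r₁⁻¹ • v₁ + x₂ • r₂⁻¹ • v₂) =
        x₀ ^ 3 + x₁ ^ 3 + x₂ ^ 3 - 3 * k * (x₀ * x₁ * x₂) := by
    intro x₀ x₁ x₂
    simp only [smul_smul]
    rw [F_expand3 C v₀ v₁ v₂ h1 h2 h3 h4 h5 h6, ← hr₀, ← hr₁, ← hr₂, hk]
    field_simp
    ring
  have hindb : ∀ x y z : ℂ, x • r₀⁻¹ • v₀ + y • r₁⁻¹ • v₁ + z • r₂⁻¹ • v₂ = 0 → x = 0 ∧ y = 0 ∧ z = 0 := by
    intro x y z hxyz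
    simp only [smul_smul] at hxyz
    obtain ⟨hx, hy, hz⟩ := hind' _ _ _ hxyz
    refine ⟨?_, ?_, ?_⟩
    · exact (mul_eq_zero.mp hx).resolve_right (inv_ne_zero hr₀0)
    · exact (mul_eq_zero.mp hy).resolve_right (inv_ne_zero hr₁0)
    · exact (mul_eq_zero.mp hz).resolve_right (inv_ne_zero hr₂0)
  refine ⟨r₀⁻¹ • v₀, r₁⁻¹ • v₁, r₂⁻¹ • v₂, k, (indep3_iff _ _ _).mpr hindb, ?_, hF⟩
  intro hk3
  obtain ⟨b₀, hb₀⟩ : ∃ b, b = r₀⁻¹ • v₀ := ⟨_, rfl⟩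
  obtain ⟨b₁, hb₁⟩ : ∃ b, b = r₁⁻¹ • v₁ := ⟨_, rfl⟩
  obtain ⟨b₂, hb₂⟩ : ∃ b, b = r₂⁻¹ • v₂ := ⟨_, rfl⟩
  rw [← hb₀, ← hb₁, ← hb₂] at hF hindb
  have hspanb : ∀ y : V, ∃ c₀ c₁ c₂ : ℂ, y = c₀ • b₀ + c₁ • b₁ + c₂ • b₂ := by
    intro y
    obtain ⟨c, hc⟩ := hspan y
    refine ⟨c 0 * r₀, c 1 * r₁, c 2 * r₂, ?_⟩
    rw [hc, hb₀, hb₁, hb₂]
    simp only [smul_smul]
    rw [mul_assoc, mul_assoc, mul_assoc, mul_inv_cancel₀ hr₀0, mul_inv_cancel₀ hr₁0,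
      mul_inv_cancel₀ hr₂0, mul_one, mul_one, mul_one]
  have hsing0 : k • b₀ + k • b₁ + (1:ℂ) • b₂ ≠ 0 := by
    intro h
    exact one_ne_zero (hindb _ _ _ h).2.2
  have hFs : C.F (k • b₀ + k • b₁ + (1:ℂ) • b₂) = 0 := by
    rw [hF]
    linear_combination (-1 : ℂ) * hk3
  obtain ⟨w, hw⟩ := hs _ hsing0 hFs
  obtain ⟨y₀, y₁, y₂, rfl⟩ := hspanb w
  apply hw
  have h6 := six_Tvvy C (k • b₀ + k • b₁ + (1:ℂ) • b₂) (y₀ • b₀ + y₁ • b₁ + y₂ • b₂)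
  have e1 : k • b₀ + k • b₁ + (1:ℂ) • b₂ + (y₀ • b₀ + y₁ • b₁ + y₂ • b₂) =
      (k + y₀) • b₀ + (k + y₁) • b₁ + (1 + y₂) • b₂ := by module
  have e2 : k • b₀ + k • b₁ + (1:ℂ) • b₂ - (y₀ • b₀ + y₁ • b₁ + y₂ • b₂) =
      (k - y₀) • b₀ + (k - y₁) • b₁ + (1 - y₂) • b₂ := by module
  rw [e1, e2, hF, hF, hF] at h6
  have : (6:ℂ) * C.T (k • b₀ + k • b₁ + (1:ℂ) • b₂) (k • b₀ + k • b₁ + (1:ℂ) • b₂)
      (y₀ • b₀ + y₁ • b₁ + y₂ • b₂) = 0 := by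
    rw [h6]
    linear_combination (-6 * y₂) * hk3
  exact (mul_eq_zero.mp this).resolve_left (by norm_num)

end Groth.Agent.Helper9.CubicForm
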