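import Mathlib

/-!
# Two projective plane curves over ℂ meet (via Krull's height theorem and the Nullstellensatz)
-/

set_option linter.unusedSimpArgs false
set_option linter.style.haveILetI false

namespace Groth.Agent.Helper9.PlaneCurves

open MvPolynomial

local notation "P3" => MvPolynomial (Fin 3) ℂ

lemma three_le_height_origin :
    3 ≤ (vanishingIdeal ℂ ({0} : Set (Fin 3 → ℂ))).height := by
  let φ₁ : P3 →ₐ[ℂ] P3 := aeval ![0, X 1, X 2]
  let φ₂ : P3 →ₐ[ℂ] P3 := aeval ![0, 0, X 2]
  let ψ : P3 →ₐ[ℂ] P3 := aeval ![X 0, 0, X 2]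
  have hcomp : ψ.comp φ₁ = φ₂ := by
    apply MvPolynomial.algHom_ext
    intro i
    fin_cases i <;> simp [φ₁, φ₂, ψ]
  set m := vanishingIdeal ℂ ({0} : Set (Fin 3 → ℂ)) with hm
  have hmem : ∀ p : P3, p ∈ m ↔ eval 0 p = 0 := by
    intro p
    rw [hm, mem_vanishingIdeal_singleton_iff]
    simp [aeval_def, eval, eval₂Hom]
  haveI hmprime : m.IsPrime := by
    have : m = RingHom.ker (eval (0 : Fin 3 → ℂ)) := by
      ext p; rw [hmem, RingHom.mem_ker]
    rw [this]
    exact RingHom.ker_isPrime _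
  haveI h1 : (RingHom.ker φ₁.toRingHom).IsPrime := RingHom.ker_isPrime _
  haveI h2 : (RingHom.ker φ₂.toRingHom).IsPrime := RingHom.ker_isPrime _
  have lt1 : (⊥ : Ideal P3) < RingHom.ker φ₁.toRingHom := by
    refine lt_of_le_of_ne bot_le (fun h => ?_)
    have : (X 0 : P3) ∈ RingHom.ker φ₁.toRingHom := by simp [φ₁, RingHom.mem_ker]
    rw [← h] at this
    exact X_ne_zero (R := ℂ) (0 : Fin 3) (by simpa using this)
  have lt2 : RingHom.ker φ₁.toRingHom < RingHom.ker φ₂.toRingHom := by
    refine lt_of_le_of_ne ?_ (fun h => ?_)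
    · intro p hp
      rw [RingHom.mem_ker] at hp ⊢
      have : φ₂ p = ψ (φ₁ p) := by rw [← hcomp]; rfl
      show φ₂ p = 0
      rw [this]
      show ψ (φ₁.toRingHom p) = 0
      rw [hp, map_zero]
    · have : (X 1 : P3) ∈ RingHom.ker φ₂.toRingHom := by simp [φ₂, RingHom.mem_ker]
      rw [← h] at this
      have h3 : φ₁ (X 1) = 0 := this
      simp [φ₁] at h3
  have lt3 : RingHom.ker φ₂.toRingHom < m := by
    refine lt_of_le_of_ne ?_ (fun h => ?_)
    · have hcomp2 : (MvPolynomial.aeval (0 : Fin 3 → ℂ)).comp φ₂ =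
          MvPolynomial.aeval (R := ℂ) (0 : Fin 3 → ℂ) := by
        apply MvPolynomial.algHom_ext
        intro i
        fin_cases i <;> simp [φ₂]
      intro p hp
      rw [RingHom.mem_ker] at hp
      rw [hmem]
      have : eval (0 : Fin 3 → ℂ) (φ₂ p) = eval 0 p := by
        have := AlgHom.congr_fun hcomp2 p
        simpa [MvPolynomial.aeval_eq_eval] using this
      rw [← this]
      show eval 0 (φ₂.toRingHom p) = 0
      rw [hp, map_zero]
    · have : (X 2 : P3) ∈ m := by rw [hmem]; simp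
      rw [← h] at this
      have h3 : φ₂ (X 2) = 0 := this
      simp [φ₂] at h3
  have e1 := Ideal.height_add_one_le_of_lt_of_isPrime lt1
  have e2 := Ideal.height_add_one_le_of_lt_of_isPrime lt2
  have e3 := Ideal.height_add_one_le_of_lt_of_isPrime lt3
  calc (3 : ℕ∞) = 0 + 1 + 1 + 1 := by norm_num
    _ ≤ (⊥ : Ideal P3).height + 1 + 1 + 1 := by gcongr; exact zero_le
    _ ≤ (RingHom.ker φ₁.toRingHom).height + 1 + 1 := by gcongr
    _ ≤ (RingHom.ker φ₂.toRingHom).height + 1 := by gcongr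
    _ ≤ m.height := e3

lemma eval_zero_of_homogeneous {n : ℕ} {F : MvPolynomial (Fin n) ℂ} {d : ℕ} (hF : F.IsHomogeneous d)
    (hd : 0 < d) : eval 0 F = 0 := by
  have : eval (0 : Fin n → ℂ) F = constantCoeff F := by
    simp [constantCoeff_eq, eval_zero]
  rw [this, constantCoeff_eq]
  apply hF.coeff_eq_zero
  simp
  omega

/-- Two projective plane curves over ℂ meet. -/
theorem exists_common_zero (F G : MvPolynomial (Fin 3) ℂ) {dF dG : ℕ} (hF : F.IsHomogeneous dF)
    (hG : G.IsHomogeneous dG) (hdF : 0 < dF) (hdG : 0 < dG) :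
    ∃ v : Fin 3 → ℂ, v ≠ 0 ∧ eval v F = 0 ∧ eval v G = 0 := by
  by_contra hcon
  push Not at hcon
  set m := vanishingIdeal ℂ ({0} : Set (Fin 3 → ℂ)) with hm
  have hmem : ∀ p : MvPolynomial (Fin 3) ℂ, p ∈ m ↔ eval 0 p = 0 := by
    intro p
    rw [hm, mem_vanishingIdeal_singleton_iff]
    simp [aeval_def, eval, eval₂Hom]
  have hmprime : m.IsPrime := by
    have : m = RingHom.ker (eval (0 : Fin 3 → ℂ)) := by
      ext p; rw [hmem, RingHom.mem_ker]
    rw [this]
    exact RingHom.ker_isPrime _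
  have hI : Ideal.span (({F, G} : Finset (MvPolynomial (Fin 3) ℂ)) : Set _) ≤ m := by
    rw [Ideal.span_le]
    intro p hp
    simp only [Finset.coe_insert, Finset.coe_singleton, Set.mem_insert_iff,
      Set.mem_singleton_iff] at hp
    rcases hp with rfl | rfl
    · exact (hmem _).mpr (eval_zero_of_homogeneous hF hdF)
    · exact (hmem _).mpr (eval_zero_of_homogeneous hG hdG)
  have hmin : m ∈ (Ideal.span (({F, G} : Finset (MvPolynomial (Fin 3) ℂ)) : Set _)).minimalPrimes := by
    refine ⟨⟨hmprime, hI⟩, ?_⟩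
    rintro P ⟨hP, hIP⟩ hPm
    have hz : zeroLocus ℂ P ⊆ {0} := by
      intro v hv
      by_contra hv0
      have h1 : eval v F = 0 := by
        have := hv F (hIP (Ideal.subset_span (by simp)))
        rwa [aeval_eq_eval] at this
      have h2 : eval v G = 0 := by
        have := hv G (hIP (Ideal.subset_span (by simp)))
        rwa [aeval_eq_eval] at this
      exact hcon v hv0 h1 h2
    have := vanishingIdeal_anti_mono (k := ℂ) hz
    rw [IsPrime.vanishingIdeal_zeroLocus] at this
    exact this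
  have h1 := Ideal.height_le_card_of_mem_minimalPrimes_span_finset hmin
  have h2 : (({F, G} : Finset (MvPolynomial (Fin 3) ℂ)).card : ℕ∞) ≤ 2 := by
    exact_mod_cast Finset.card_le_two
  have h3 := three_le_height_origin
  have : (3 : ℕ∞) ≤ 2 := h3.trans (h1.trans h2)
  norm_num at this

end Groth.Agent.Helper9.PlaneCurves
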