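import Groth.Agent.Helper9.PlaneCubic4
import Groth.Agent.Helper9.PlaneCurvesMeet
import Groth.Agent.Helper9.CubicBridge

/-!
# Flexes of concrete smooth plane cubics; Hesse normal form
-/

set_option linter.unusedSimpArgs false

namespace Groth.Agent.Helper9.CubicForm

open Module MvPolynomial

section abstract
variable {V : Type*} [AddCommGroup V] [Module ℂ V] (C : Tri V)

theorem isFlex_of_degenerate (hs : C.Smooth) (v : V) (hv : v ≠ 0) (hF : C.F v = 0) (w : V)
    (hw : w ≠ 0) (hdeg : ∀ y, C.T v w y = 0) : C.IsFlex v := by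
  refine ⟨hv, hF, w, ?_, ?_, hdeg w⟩
  · rw [LinearIndependent.pair_iff]
    intro s t hst
    by_cases ht : t = 0
    · subst ht
      rw [zero_smul, add_zero] at hst
      exact ⟨(smul_eq_zero.mp hst).resolve_right hv, rfl⟩
    · exfalso
      obtain ⟨y, hy⟩ := hs v hv hF
      have hw' : w = (-(s / t)) • v := by
        have h1 : t • w = (-s) • v := by
          rw [neg_smul]; exact eq_neg_of_add_eq_zero_right hst
        rw [← inv_smul_smul₀ ht w, h1, smul_smul]
        congr 1
        field_simp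
      by_cases hs0 : s = 0
      · apply hw; rw [hw', hs0]; simp
      · have := hdeg y
        rw [hw', map_smul, LinearMap.smul_apply, smul_eq_mul] at this
        rcases mul_eq_zero.mp this with h | h
        · have : s / t = 0 := neg_eq_zero.mp h
          rcases div_eq_zero_iff.mp this with h | h
          · exact hs0 h
          · exact ht h
        · exact hy h
  · rw [C.s23]; exact hdeg v

end abstract

lemma sum_e3 (w : Fin 3 → ℂ) : w = ∑ j, w j • (Pi.single j 1 : Fin 3 → ℂ) := by
  funext i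
  simp [Finset.sum_apply, Pi.single_apply]

/-- the Hessian matrix with polynomial entries -/
noncomputable def hessMat (C : Tri (Fin 3 → ℂ)) : Matrix (Fin 3) (Fin 3) (MvPolynomial (Fin 3) ℂ) :=
  Matrix.of fun i j => ∑ k, MvPolynomial.C (C.T (Pi.single k 1) (Pi.single i 1) (Pi.single j 1)) * X k

lemma T_sum_left (C : Tri (Fin 3 → ℂ)) (v a b : Fin 3 → ℂ) :
    C.T v a b = ∑ k, C.T (Pi.single k 1) a b * v k := by
  conv_lhs => rw [sum_e3 v]
  simp only [map_sum, map_smul, LinearMap.sum_apply, LinearMap.smul_apply, smul_eq_mul, mul_comm]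

lemma hessMat_eval (C : Tri (Fin 3 → ℂ)) (v : Fin 3 → ℂ) :
    (eval v).mapMatrix (hessMat C) = Matrix.of fun i j => C.T v (Pi.single i 1) (Pi.single j 1) := by
  ext i j
  simp only [hessMat, RingHom.mapMatrix_apply, Matrix.map_apply, Matrix.of_apply, map_sum, map_mul,
    eval_C, eval_X]
  rw [T_sum_left C v]

lemma hessMat_det_homogeneous (C : Tri (Fin 3 → ℂ)) : (hessMat C).det.IsHomogeneous 3 := by
  have hent : ∀ i j, (hessMat C i j).IsHomogeneous 1 := by
    intro i j
    simp only [hessMat, Matrix.of_apply]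
    exact IsHomogeneous.sum _ _ _ (fun k _ => isHomogeneous_C_mul_X _ _)
  rw [Matrix.det_fin_three]
  have h3 : ∀ a b c d e f : Fin 3, (hessMat C a b * hessMat C c d * hessMat C e f).IsHomogeneous 3 :=
    fun a b c d e f => ((hent a b).mul (hent c d)).mul (hent e f)
  exact (((((h3 _ _ _ _ _ _).sub (h3 _ _ _ _ _ _)).sub (h3 _ _ _ _ _ _)).add (h3 _ _ _ _ _ _)).add
    (h3 _ _ _ _ _ _)).sub (h3 _ _ _ _ _ _)

/-- a smooth plane cubic has a flex -/
theorem exists_flex (f : MvPolynomial (Fin 3) ℂ) (hf : f.IsHomogeneous 3)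
    (hs : (triOf f hf).Smooth) : ∃ v, (triOf f hf).IsFlex v := by
  obtain ⟨C, hC⟩ : ∃ C, C = triOf f hf := ⟨_, rfl⟩
  rw [← hC] at hs ⊢
  obtain ⟨v, hv, hfv, hHv⟩ := PlaneCurves.exists_common_zero f (hessMat C).det hf
    (hessMat_det_homogeneous C) (by norm_num) (by norm_num)
  have hF : C.F v = 0 := by rw [hC, triOf_F]; exact hfv
  have hdet : (Matrix.of fun i j => C.T v (Pi.single i 1) (Pi.single j 1) :
      Matrix (Fin 3) (Fin 3) ℂ).det = 0 := by
    rw [← hessMat_eval, ← RingHom.map_det]
    exact hHv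
  obtain ⟨w, hw, hMw⟩ := Matrix.exists_mulVec_eq_zero_iff.mpr hdet
  have h1 : ∀ i, C.T v (Pi.single i 1) w = 0 := by
    intro i
    have := congrFun hMw i
    simp only [Matrix.mulVec, dotProduct, Matrix.of_apply, Pi.zero_apply] at this
    rw [C.s13, T_sum_left C w, ← this]
    refine Finset.sum_congr rfl fun j _ => ?_
    rw [C.s13]
  refine ⟨v, isFlex_of_degenerate C hs v hv hF w hw ?_⟩
  intro y
  rw [C.s23, C.s12, T_sum_left C y]
  refine Finset.sum_eq_zero fun i _ => ?_
  rw [C.s12, h1, zero_mul]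

end Groth.Agent.Helper9.CubicForm
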