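import Groth.Agent.Helper9.PlaneCubic5
import Groth.Prelude.Def_W4c5monodromycubicsHesse

/-!
# Hesse normal form of a smooth plane cubic
-/

set_option linter.unusedSimpArgs false

namespace Groth.Agent.Helper9.CubicForm

open Module MvPolynomial

/-- abstract Hesse normal form from a flex -/
theorem hesse_of_flex {V : Type*} [AddCommGroup V] [Module ℂ V] (C : Tri V) [FiniteDimensional ℂ V]
    (hV : finrank ℂ V = 3) (hs : C.Smooth) (p : V) (hp : C.IsFlex p) :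
    ∃ (b₀ b₁ b₂ : V) (k : ℂ), LinearIndependent ℂ ![b₀, b₁, b₂] ∧ k ^ 3 ≠ 1 ∧
      ∀ x₀ x₁ x₂ : ℂ, C.F (x₀ • b₀ + x₁ • b₁ + x₂ • b₂) =
        x₀ ^ 3 + x₁ ^ 3 + x₂ ^ 3 - 3 * k * (x₀ * x₁ * x₂) := by
  obtain ⟨q, hq, hind⟩ := exists_second_flex C hV hs p hp
  obtain ⟨v₀, v₁, v₂, ω, -, hind3, h1, h2, h3, h4, h5, h6⟩ := exists_eigenbasis C hV hs p q hp hq hind
  exact hesse_basis C hV hs v₀ v₁ v₂ hind3 h1 h2 h3 h4 h5 h6

lemma eval_hesse (k : ℂ) (x : Fin 3 → ℂ) :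
    eval x (HesseCubic.form k) = x 0 ^ 3 + x 1 ^ 3 + x 2 ^ 3 - 3 * k * (x 0 * x 1 * x 2) := by
  simp [HesseCubic.form]

/-- the matrix with given columns -/
def colMat (b₀ b₁ b₂ : Fin 3 → ℂ) : Matrix (Fin 3) (Fin 3) ℂ :=
  Matrix.of fun i j => (![b₀, b₁, b₂] j) i

lemma colMat_mulVec (b₀ b₁ b₂ x : Fin 3 → ℂ) :
    (colMat b₀ b₁ b₂).mulVec x = x 0 • b₀ + x 1 • b₁ + x 2 • b₂ := by
  funext i
  simp [colMat, Matrix.mulVec, dotProduct, Fin.sum_univ_three, mul_comm]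

lemma colMat_isUnit (b₀ b₁ b₂ : Fin 3 → ℂ) (h : LinearIndependent ℂ ![b₀, b₁, b₂]) :
    IsUnit (colMat b₀ b₁ b₂).det := by
  rw [← Matrix.isUnit_iff_isUnit_det, ← Matrix.mulVec_injective_iff_isUnit]
  have h' := (indep3_iff b₀ b₁ b₂).mp h
  intro x y hxy
  have : (colMat b₀ b₁ b₂).mulVec (x - y) = 0 := by rw [Matrix.mulVec_sub, hxy, sub_self]
  rw [colMat_mulVec] at this
  obtain ⟨h0, h1, h2⟩ := h' _ _ _ this
  funext i
  fin_cases i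
  · exact sub_eq_zero.mp h0
  · exact sub_eq_zero.mp h1
  · exact sub_eq_zero.mp h2

/-- Hesse normal form of a smooth plane cubic -/
theorem exists_hesse (f : MvPolynomial (Fin 3) ℂ) (hf : f.IsHomogeneous 3)
    (hsm : ∀ v : Fin 3 → ℂ, v ≠ 0 → eval v f = 0 → ∃ i : Fin 3, eval v (pderiv i f) ≠ 0) :
    ∃ (A : Matrix (Fin 3) (Fin 3) ℂ) (k : ℂ), IsUnit A.det ∧ k ^ 3 ≠ 1 ∧
      aeval (fun i : Fin 3 => ∑ j : Fin 3, C (A i j) * X j) f = HesseCubic.form k := by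
  have hs := triOf_smooth f hf hsm
  have hV : finrank ℂ (Fin 3 → ℂ) = 3 := by simp
  obtain ⟨p, hp⟩ := exists_flex f hf hs
  obtain ⟨b₀, b₁, b₂, k, hind, hk, hF⟩ := hesse_of_flex (triOf f hf) hV hs p hp
  refine ⟨colMat b₀ b₁ b₂, k, colMat_isUnit b₀ b₁ b₂ hind, hk, ?_⟩
  apply MvPolynomial.funext
  intro x
  rw [eval_aeval_matrix, colMat_mulVec, ← triOf_F f hf, hF, eval_hesse]

end Groth.Agent.Helper9.CubicForm
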