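import Groth.Agent.Helper9.PlaneCubic6

/-!
# Automorphisms of a smooth plane cubic act transitively on flexes
-/

set_option linter.unusedSimpArgs false

namespace Groth.Agent.Helper9.CubicForm

open Module MvPolynomial

section abstract
variable {V : Type*} [AddCommGroup V] [Module ℂ V] (C : Tri V)

/-- the product of the reflections at two independent flexes maps one to a multiple of the other -/
theorem flex_pair [FiniteDimensional ℂ V] (hV : finrank ℂ V = 3) (hs : C.Smooth) (p q : V)
    (hp : C.IsFlex p) (hq : C.IsFlex q) (hind : LinearIndependent ℂ ![p, q]) :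
    ∃ (D : EData C p) (D' : EData C q) (x x' : ℂ), D.m q = x ∧ D'.m p = x' ∧ 4 * x * x' = 1 := by
  obtain ⟨D, w, -, hw1, hw2, hFw, hspanp⟩ := flex_structure C hV hs p hp
  obtain ⟨D', -, -, -, -, -, -⟩ := flex_structure C hV hs q hq
  have hind' := LinearIndependent.pair_iff.mp hind
  have hFp : C.F p = 0 := D.hFe
  have hFq : C.F q = 0 := D'.hFe
  -- q is not on the tangent line at p
  have ha : C.T p p q ≠ 0 := by
    intro ha
    obtain ⟨s, t, hst⟩ := hspanp q ha
    have h1 : C.F q = t ^ 3 * C.F w := by rw [hst, Tri.IsFlex.F_line hFp hw1 hw2]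
    rw [hFq] at h1
    have ht : t = 0 := by
      rcases mul_eq_zero.mp h1.symm with h | h
      · exact pow_eq_zero_iff (by norm_num) |>.mp h
      · exact absurd h hFw
    rw [ht, zero_smul, add_zero] at hst
    have := (hind' s (-1) (by rw [← hst]; simp)).2
    norm_num at this
  -- the relation 4 x x' = 1
  obtain ⟨x, hx⟩ : ∃ x, D.m q = x := ⟨_, rfl⟩
  obtain ⟨x', hx'⟩ : ∃ x, D'.m p = x := ⟨_, rfl⟩
  have hb1 : C.T p q q = 2 * C.T p p q * x := by rw [D.b_eq, hx]
  have hb2 : C.T p p q = 2 * C.T p q q * x' := by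
    have := D'.b_eq (e' := p)
    rw [hx', C.s13 q p p, C.s13 q q p] at this
    exact this
  have hxx : 4 * x * x' = 1 := by
    have : C.T p p q * (4 * x * x' - 1) = 0 := by
      rw [hb1] at hb2
      linear_combination -hb2
    have := (mul_eq_zero.mp this).resolve_left ha
    linear_combination this
  have hx0 : x ≠ 0 := by
    rintro rfl
    norm_num at hxx
  exact ⟨D, D', x, x', hx, hx', hxx⟩

theorem exists_aut_of_flexes [FiniteDimensional ℂ V] (hV : finrank ℂ V = 3) (hs : C.Smooth) (p q : V)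
    (hp : C.IsFlex p) (hq : C.IsFlex q) :
    ∃ (g g' : V →ₗ[ℂ] V) (d : ℂ), (∀ v, g (g' v) = v) ∧ (∀ v, C.F (g v) = C.F v) ∧ g p = d • q := by
  by_cases hind : LinearIndependent ℂ ![p, q]
  · obtain ⟨D, D', x, x', hx, hx', hxx⟩ := flex_pair C hV hs p q hp hq hind
    refine ⟨reflMap p D.m ∘ₗ reflMap q D'.m, reflMap q D'.m ∘ₗ reflMap p D.m, -(2 * x'), ?_, ?_, ?_⟩
    · intro v
      simp only [LinearMap.comp_apply]
      rw [reflMap_reflMap q D'.m D'.me, reflMap_reflMap p D.m D.me]
    · intro v
      simp only [LinearMap.comp_apply]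
      rw [reflMap_apply p D.m, D.inv, reflMap_apply q D'.m, D'.inv]
    · simp only [LinearMap.comp_apply, reflMap_apply, map_sub, map_smul, D.me, D'.me, hx, hx',
        smul_eq_mul, mul_one]
      calc _ = (4 * x * x' - 1) • p + (-(2 * x')) • q := by module
        _ = _ := by rw [hxx, sub_self, zero_smul, zero_add]
  · rw [LinearIndependent.pair_symm_iff, LinearIndependent.pair_iff' hq.1] at hind
    push Not at hind
    obtain ⟨a, ha⟩ := hind
    exact ⟨LinearMap.id, LinearMap.id, a, fun v => rfl, fun v => rfl, ha.symm⟩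

end abstract

/-- translation of the flex condition -/
lemma isFlex_iff (f : MvPolynomial (Fin 3) ℂ) (hf : f.IsHomogeneous 3) (v : Fin 3 → ℂ) :
    (triOf f hf).IsFlex v ↔ (v ≠ 0 ∧ eval v f = 0 ∧
      ∃ w : Fin 3 → ℂ, LinearIndependent ℂ ![v, w] ∧ ∀ t : ℂ, eval (v + t • w) f = t ^ 3 * eval w f) := by
  unfold Tri.IsFlex
  rw [triOf_F]
  refine and_congr_right fun hv => and_congr_right fun hF => exists_congr fun w =>
    and_congr_right fun hind => ?_
  have hF' : (triOf f hf).F v = 0 := by rw [triOf_F]; exact hF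
  constructor
  · rintro ⟨h1, h2⟩ t
    have := Tri.IsFlex.F_line hF' h1 h2 1 t
    rwa [one_smul, triOf_F, triOf_F] at this
  · intro h
    have key : ∀ t : ℂ, 3 * t * (triOf f hf).T v v w + 3 * t ^ 2 * (triOf f hf).T v w w = 0 := by
      intro t
      have h1 := (triOf f hf).expand2 v w 1 t
      rw [one_smul, triOf_F, triOf_F, triOf_F, h t, hF] at h1
      linear_combination -h1
    have k1 := key 1
    have k2 := key (-1)
    constructor
    · linear_combination (1/6 : ℂ) * k1 - (1/6 : ℂ) * k2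
    · linear_combination (1/6 : ℂ) * k1 + (1/6 : ℂ) * k2

/-- matrix form of a linear automorphism -/
lemma matrix_of_aut (f : MvPolynomial (Fin 3) ℂ) (hf : f.IsHomogeneous 3)
    (g g' : (Fin 3 → ℂ) →ₗ[ℂ] (Fin 3 → ℂ)) (hgg' : ∀ v, g (g' v) = v)
    (hF : ∀ v, (triOf f hf).F (g v) = (triOf f hf).F v) :
    IsUnit (LinearMap.toMatrix' g).det ∧
      aeval (fun i : Fin 3 => ∑ j : Fin 3, C (LinearMap.toMatrix' g i j) * X j) f = C 1 * f := by
  constructor
  · apply Matrix.isUnit_det_of_right_inverse (B := LinearMap.toMatrix' g')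
    rw [← LinearMap.toMatrix'_comp, ← LinearMap.toMatrix'_id]
    congr 1
    exact LinearMap.ext hgg'
  · apply MvPolynomial.funext
    intro x
    rw [eval_aeval_matrix, LinearMap.toMatrix'_mulVec, ← triOf_F f hf, hF, triOf_F]
    simp

end Groth.Agent.Helper9.CubicForm
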