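import Groth.Agent.Helper9.PlaneCubic7

/-!
# A linear map fixing all flexes of a smooth plane cubic is a scalar
-/

set_option linter.unusedSimpArgs false

namespace Groth.Agent.Helper9.CubicForm

open Module MvPolynomial

section abstract
variable {V : Type*} [AddCommGroup V] [Module ℂ V] (C : Tri V)

/-- In a Hesse basis, `b₁ - ε b₂` is a flex for each cube root of unity `ε`. -/
theorem hesse_flex (b₀ b₁ b₂ : V) (k : ℂ) (hind : LinearIndependent ℂ ![b₀, b₁, b₂])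
    (hF : ∀ x₀ x₁ x₂ : ℂ, C.F (x₀ • b₀ + x₁ • b₁ + x₂ • b₂) =
      x₀ ^ 3 + x₁ ^ 3 + x₂ ^ 3 - 3 * k * (x₀ * x₁ * x₂))
    (ε : ℂ) (hε : ε ^ 3 = 1) : C.IsFlex (b₁ - ε • b₂) := by
  have hind' := (indep3_iff b₀ b₁ b₂).mp hind
  have es : b₁ - ε • b₂ = (0:ℂ) • b₀ + (1:ℂ) • b₁ + (-ε) • b₂ := by module
  have hFs : C.F (b₁ - ε • b₂) = 0 := by
    rw [es, hF]; linear_combination (-1:ℂ) * hε
  have e1 : b₁ - ε • b₂ + (b₀ - (k * ε) • b₁) = (1:ℂ) • b₀ + (1 - k * ε) • b₁ + (-ε) • b₂ := by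
    module
  have e2 : b₁ - ε • b₂ - (b₀ - (k * ε) • b₁) = (-1:ℂ) • b₀ + (1 + k * ε) • b₁ + (-ε) • b₂ := by
    module
  have e2' : b₀ - (k * ε) • b₁ - (b₁ - ε • b₂) = (1:ℂ) • b₀ + (-(1 + k * ε)) • b₁ + ε • b₂ := by
    module
  have e1' : b₀ - (k * ε) • b₁ + (b₁ - ε • b₂) = (1:ℂ) • b₀ + (1 - k * ε) • b₁ + (-ε) • b₂ := by
    module
  have e3 : b₀ - (k * ε) • b₁ = (1:ℂ) • b₀ + (-(k * ε)) • b₁ + (0:ℂ) • b₂ := by module
  have hFw : C.F (b₀ - (k * ε) • b₁) = 1 - (k * ε) ^ 3 := by rw [e3, hF]; ring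
  refine ⟨?_, hFs, b₀ - (k * ε) • b₁, ?_, ?_, ?_⟩
  · intro h
    rw [es] at h
    exact one_ne_zero (hind' _ _ _ h).2.1
  · rw [LinearIndependent.pair_iff]
    intro a b hab
    have : b • b₀ + (a - b * (k * ε)) • b₁ + (-(a * ε)) • b₂ = 0 := by
      rw [← hab]; module
    obtain ⟨h0, h1, h2⟩ := hind' _ _ _ this
    refine ⟨?_, h0⟩
    rw [h0] at h1; linear_combination h1
  · have h6 := six_Tvvy C (b₁ - ε • b₂) (b₀ - (k * ε) • b₁)
    rw [e1, e2, hF, hF, hFw] at h6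
    have : (6:ℂ) * C.T (b₁ - ε • b₂) (b₁ - ε • b₂) (b₀ - (k * ε) • b₁) = 0 := by
      rw [h6]; ring
    exact (mul_eq_zero.mp this).resolve_left (by norm_num)
  · have h6 := six_Tvvy C (b₀ - (k * ε) • b₁) (b₁ - ε • b₂)
    rw [e1', e2', hF, hF, hFs] at h6
    have : (6:ℂ) * C.T (b₀ - (k * ε) • b₁) (b₀ - (k * ε) • b₁) (b₁ - ε • b₂) = 0 := by
      rw [h6]; linear_combination (-2 : ℂ) * hε
    rw [C.s13, C.s12]
    exact (mul_eq_zero.mp this).resolve_left (by norm_num)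

/-- a linear map fixing (projectively) all flexes of a smooth plane cubic is a scalar -/
theorem scalar_of_fix_flexes [FiniteDimensional ℂ V] (hV : finrank ℂ V = 3) (hs : C.Smooth) (p : V)
    (hp : C.IsFlex p) (g : V →ₗ[ℂ] V) (hfix : ∀ v, C.IsFlex v → ∃ d : ℂ, g v = d • v) :
    ∃ c : ℂ, ∀ v, g v = c • v := by
  obtain ⟨b₀, b₁, b₂, k, hind, hk, hF⟩ := hesse_of_flex C hV hs p hp
  obtain ⟨ω, hω⟩ : ∃ ω : ℂ, 1 * (ω * ω) + 1 * ω + 1 = 0 :=
    exists_quadratic_eq_zero one_ne_zero (IsAlgClosed.exists_eq_mul_self _)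
  have hω' : ω * ω + ω + 1 = 0 := by linear_combination hω
  have hω3 : ω ^ 3 = 1 := by linear_combination (ω - 1) * hω'
  have hω1 : ω - 1 ≠ 0 := by
    intro h
    have : ω = 1 := by linear_combination h
    rw [this] at hω'
    norm_num at hω'
  have key : ∀ (b₀ b₁ b₂ : V), LinearIndependent ℂ ![b₀, b₁, b₂] →
      (∀ x₀ x₁ x₂ : ℂ, C.F (x₀ • b₀ + x₁ • b₁ + x₂ • b₂) =
        x₀ ^ 3 + x₁ ^ 3 + x₂ ^ 3 - 3 * k * (x₀ * x₁ * x₂)) →
      ∃ a : ℂ, g b₁ = a • b₁ ∧ g b₂ = a • b₂ := by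
    intro b₀ b₁ b₂ hind hF
    have hind' := (indep3_iff b₀ b₁ b₂).mp hind
    obtain ⟨d1, h1⟩ := hfix _ (hesse_flex C b₀ b₁ b₂ k hind hF 1 (one_pow 3))
    obtain ⟨d2, h2⟩ := hfix _ (hesse_flex C b₀ b₁ b₂ k hind hF ω hω3)
    obtain ⟨d3, h3⟩ := hfix _ (hesse_flex C b₀ b₁ b₂ k hind hF (ω ^ 2)
      (by linear_combination (ω ^ 3 + 1) * hω3))
    rw [map_sub, map_smul] at h1 h2 h3
    have hvec : (0:ℂ) • b₀ + (ω * (d1 - d2) - (d2 - d3)) • b₁ +
        (ω * (d2 * ω - d1) - (d3 * ω ^ 2 - d2 * ω)) • b₂ = 0 := by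
      linear_combination (norm := module) (-ω) • h1 + (ω + 1) • h2 - h3
    obtain ⟨-, hc1, hc2⟩ := hind' _ _ _ hvec
    have hd : d1 = d2 := by
      have : (1 - ω) * (d1 - d2) = 0 := by
        linear_combination hc2 + ω ^ 2 * hc1 - (d1 - d2) * hω3
      have := (mul_eq_zero.mp this).resolve_left (by
        intro h; apply hω1; linear_combination -h)
      linear_combination this
    subst hd
    have hG2 : (ω - 1) • g b₂ = (ω - 1) • (d1 • b₂) := by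
      linear_combination (norm := module) h1 - h2
    have hG2' : g b₂ = d1 • b₂ := smul_right_injective V hω1 hG2
    refine ⟨d1, ?_, hG2'⟩
    rw [hG2'] at h1
    linear_combination (norm := module) h1
  obtain ⟨a, ha1, ha2⟩ := key b₀ b₁ b₂ hind hF
  have hind2 : LinearIndependent ℂ ![b₁, b₀, b₂] := by
    rw [indep3_iff] at hind ⊢
    intro x y z h
    obtain ⟨h0, h1, h2⟩ := hind y x z (by rw [← h]; module)
    exact ⟨h1, h0, h2⟩
  obtain ⟨a', ha0, ha2'⟩ := key b₁ b₀ b₂ hind2 (by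
    intro x₀ x₁ x₂
    have := hF x₁ x₀ x₂
    rw [show x₀ • b₁ + x₁ • b₀ + x₂ • b₂ = x₁ • b₀ + x₀ • b₁ + x₂ • b₂ by module, this]
    ring)
  have hind' := (indep3_iff b₀ b₁ b₂).mp hind
  have haa : a' = a := by
    have hb2 : b₂ ≠ 0 := by
      rintro rfl
      exact one_ne_zero (hind' 0 0 1 (by simp)).2.2
    have : (a' - a) • b₂ = 0 := by rw [sub_smul, ← ha2, ← ha2', sub_self]
    have := (smul_eq_zero.mp this).resolve_right hb2
    linear_combination this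
  subst haa
  refine ⟨a', fun v => ?_⟩
  obtain ⟨c, hc⟩ := span_of_indep3 hV ![b₀, b₁, b₂] hind v
  simp only [Matrix.cons_val_zero, Matrix.cons_val_one, Matrix.cons_val_two, Matrix.head_cons,
    Matrix.tail_cons] at hc
  rw [hc, map_add, map_add, map_smul, map_smul, map_smul, ha0, ha1, ha2]
  module

end abstract

end Groth.Agent.Helper9.CubicForm
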