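import Mathlib

/-! Polarization identity for multilinear maps. -/

namespace Groth.Agent.Helper9.Polarization

open Finset

/-- inclusion–exclusion coefficient. -/
lemma inner_sum (n : ℕ) (T : Finset (Fin n)) :
    ∑ S ∈ (univ : Finset (Fin n)).powerset, (if T ⊆ S then (-1 : ℤ) ^ (n - S.card) else 0) =
      if T = univ then 1 else 0 := by
  classical
  have h1 : ∏ i : Fin n, ((1 : ℤ) + (if i ∈ T then 0 else -1)) = if T = univ then 1 else 0 := by
    have : ∀ i : Fin n, ((1 : ℤ) + (if i ∈ T then 0 else -1)) = if i ∈ T then 1 else 0 := by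
      intro i; split_ifs <;> simp
    simp only [this]
    rw [Fintype.prod_boole]
    congr 1
    simp [Finset.eq_univ_iff_forall]
  rw [← h1, Finset.prod_add]
  refine Finset.sum_congr rfl fun S _ => ?_
  rw [Finset.prod_const_one, one_mul]
  split_ifs with hTS
  · have : ∀ i ∈ univ \ S, (if i ∈ T then (0 : ℤ) else -1) = -1 := by
      intro i hi
      rw [if_neg]
      intro hiT
      exact (Finset.mem_sdiff.mp hi).2 (hTS hiT)
    rw [Finset.prod_congr rfl this, Finset.prod_const, Finset.card_sdiff_of_subset (Finset.subset_univ S),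
      Finset.card_univ, Fintype.card_fin]
  · obtain ⟨i, hiT, hiS⟩ := Finset.not_subset.mp hTS
    exact (Finset.prod_eq_zero (i := i) (Finset.mem_sdiff.mpr ⟨Finset.mem_univ _, hiS⟩)
      (by rw [if_pos hiT])).symm

variable {A : Type*} [CommRing A] {R N : Type*} [AddCommGroup R] [Module A R]
  [AddCommGroup N] [Module A N]

theorem polarization (n : ℕ) (m : MultilinearMap A (fun _ : Fin n => R) N) (f : Fin n → R) :
    ∑ σ : Equiv.Perm (Fin n), m (fun i => f (σ i)) =
      ∑ S ∈ (univ : Finset (Fin n)).powerset,
        ((-1 : ℤ) ^ (n - S.card)) • m (fun _ => ∑ i ∈ S, f i) := by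
  classical
  have hexp : ∀ S : Finset (Fin n), m (fun _ => ∑ i ∈ S, f i) =
      ∑ g : Fin n → Fin n, if (univ.image g) ⊆ S then m (fun j => f (g j)) else 0 := by
    intro S
    rw [MultilinearMap.map_sum_finset m (fun _ j => f j) (fun _ => S)]
    rw [← Finset.sum_filter]
    refine Finset.sum_congr ?_ fun _ _ => rfl
    ext g
    simp only [Fintype.mem_piFinset, Finset.mem_filter, Finset.mem_univ, true_and,
      Finset.image_subset_iff, true_imp_iff]
  simp only [hexp, Finset.smul_sum]
  rw [Finset.sum_comm]
  have hinner : ∀ g : Fin n → Fin n,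
      ∑ S ∈ (univ : Finset (Fin n)).powerset, ((-1 : ℤ) ^ (n - S.card)) •
        (if (univ.image g) ⊆ S then m (fun j => f (g j)) else 0) =
      if Function.Surjective g then m (fun j => f (g j)) else 0 := by
    intro g
    have : ∀ S : Finset (Fin n), ((-1 : ℤ) ^ (n - S.card)) •
        (if (univ.image g) ⊆ S then m (fun j => f (g j)) else 0) =
        (if (univ.image g) ⊆ S then (-1 : ℤ) ^ (n - S.card) else 0) • m (fun j => f (g j)) := by
      intro S; split_ifs <;> simp
    simp only [this]
    rw [← Finset.sum_smul, inner_sum]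
    have hsurj : univ.image g = univ ↔ Function.Surjective g := by
      rw [Finset.eq_univ_iff_forall]
      constructor
      · intro h b
        obtain ⟨a, -, ha⟩ := Finset.mem_image.mp (h b)
        exact ⟨a, ha⟩
      · intro h b
        obtain ⟨a, ha⟩ := h b
        exact Finset.mem_image.mpr ⟨a, Finset.mem_univ _, ha⟩
    by_cases hg : Function.Surjective g
    · rw [if_pos (hsurj.mpr hg), if_pos hg, one_smul]
    · rw [if_neg (fun h => hg (hsurj.mp h)), if_neg hg, zero_smul]
  rw [Finset.sum_congr rfl fun g _ => hinner g, ← Finset.sum_filter]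
  -- sum over permutations vs surjective functions
  refine Finset.sum_bij (fun σ _ => (σ : Fin n → Fin n)) ?_ ?_ ?_ ?_
  · intro σ _
    simp only [Finset.mem_filter, Finset.mem_univ, true_and]
    exact σ.surjective
  · intro σ _ τ _ h
    exact Equiv.ext (congrFun h)
  · intro g hg
    simp only [Finset.mem_filter, Finset.mem_univ, true_and] at hg
    have hbij : Function.Bijective g := ⟨Finite.injective_iff_surjective.mpr hg, hg⟩
    exact ⟨Equiv.ofBijective g hbij, Finset.mem_univ _, rfl⟩
  · intro σ _
    rfl

end Groth.Agent.Helper9.Polarization
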