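import Groth.Prelude.Def_GLin
import Mathlib
set_option autoImplicit false
set_option linter.unusedSectionVars false

namespace Groth.Agent.Helper9.PolyInv

open TensorProduct Polynomial

universe u

variable {k : Type u} [Field k] {A : Type u} [CommRing A] [Bialgebra k A]
  {R : Type u} [CommRing R] [Algebra k R] [HopfRep.Comod k A R] [GLin.IsCoactAlg k A R]
  [HopfRep.Comod k A (Polynomial R)] [GLin.IsCoactAlg k A (Polynomial R)]

/-- coefficient extraction on `R[t] ⊗ A` -/
noncomputable def cf (r : ℕ) : Polynomial R ⊗[k] A →ₗ[k] R ⊗[k] A :=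
  ((Polynomial.lcoeff R r).restrictScalars k).rTensor A

lemma cf_mul (r s : ℕ) (a : A) (z : R ⊗[k] A) :
    cf (k := k) r (Algebra.TensorProduct.map (Polynomial.CAlgHom : R →ₐ[k] Polynomial R)
      (AlgHom.id k A) z * (((Polynomial.X : Polynomial R) ^ s) ⊗ₜ[k] a)) =
      if r = s then z * ((1 : R) ⊗ₜ[k] a) else 0 := by
  induction z using TensorProduct.induction_on with
  | zero => simp
  | tmul x b =>
    simp only [Algebra.TensorProduct.map_tmul, CAlgHom_apply, AlgHom.coe_id, id_eq,
      Algebra.TensorProduct.tmul_mul_tmul, cf, LinearMap.rTensor_tmul,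
      LinearMap.restrictScalars_apply, lcoeff_apply, coeff_C_mul, coeff_X_pow, mul_one]
    split_ifs <;> simp
  | add x y hx hy =>
    rw [map_add, add_mul, map_add, hx, hy]
    split_ifs <;> simp [add_mul]

lemma coact_pow (f : Polynomial R) (n : ℕ) :
    HopfRep.Comod.coact (k := k) (A := A) (f ^ n) =
      (HopfRep.Comod.coact (k := k) (A := A) f) ^ n := by
  have := map_pow (GLin.coactAlgHom k A (Polynomial R)) f n
  simpa using this

theorem main (χ χ' : A) (hχχ' : χ * χ' = 1)
    (hC : ∀ r : R, HopfRep.Comod.coact (k := k) (A := A) (Polynomial.C r) =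
      Algebra.TensorProduct.map (Polynomial.CAlgHom : R →ₐ[k] Polynomial R) (AlgHom.id k A)
        (HopfRep.Comod.coact (k := k) (A := A) r))
    (hX : HopfRep.Comod.coact (k := k) (A := A) (Polynomial.X : Polynomial R) = Polynomial.X ⊗ₜ[k] χ')
    (g : Polynomial R) :
    g ∈ GLin.invariants k A (Polynomial R) ↔
      ∀ r : ℕ, g.coeff r ∈ HopfRep.eigenspace k A R (χ ^ r) := by
  have hρ : HopfRep.Comod.coact (k := k) (A := A) g =
      ∑ s ∈ Finset.range (g.natDegree + 1),
        Algebra.TensorProduct.map (Polynomial.CAlgHom : R →ₐ[k] Polynomial R) (AlgHom.id k A)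
          (HopfRep.Comod.coact (k := k) (A := A) (g.coeff s)) *
          (((Polynomial.X : Polynomial R) ^ s) ⊗ₜ[k] (χ' ^ s)) := by
    conv_lhs => rw [Polynomial.as_sum_range_C_mul_X_pow g, map_sum]
    apply Finset.sum_congr rfl
    intro s _
    rw [GLin.IsCoactAlg.coact_mul, hC, coact_pow, hX, Algebra.TensorProduct.tmul_pow]
  have hχ'χ : χ' * χ = 1 := by rw [mul_comm]; exact hχχ'
  constructor
  · intro hg r
    have hg' : HopfRep.Comod.coact (k := k) (A := A) g = g ⊗ₜ[k] (1 : A) := hg
    have h1 := congrArg (cf (k := k) (A := A) r) hg'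
    rw [hρ, map_sum] at h1
    simp only [cf_mul] at h1
    rw [Finset.sum_ite_eq] at h1
    have h2 : cf (k := k) (A := A) r (g ⊗ₜ[k] (1 : A)) = g.coeff r ⊗ₜ[k] (1 : A) := by
      simp [cf]
    rw [h2] at h1
    show HopfRep.Comod.coact (k := k) (A := A) (g.coeff r) = g.coeff r ⊗ₜ[k] (χ ^ r)
    by_cases hr : r ∈ Finset.range (g.natDegree + 1)
    · rw [if_pos hr] at h1
      have h3 := congrArg (fun z => z * ((1 : R) ⊗ₜ[k] (χ ^ r))) h1
      simp only [mul_assoc, Algebra.TensorProduct.tmul_mul_tmul, mul_one, one_mul] at h3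
      rw [← mul_pow, hχ'χ, one_pow, ← Algebra.TensorProduct.one_def, mul_one] at h3
      exact h3
    · rw [Finset.mem_range, not_lt] at hr
      rw [Polynomial.coeff_eq_zero_of_natDegree_lt (by omega), map_zero, TensorProduct.zero_tmul]
  · intro h
    show HopfRep.Comod.coact (k := k) (A := A) g = g ⊗ₜ[k] (1 : A)
    rw [hρ]
    conv_rhs => rw [Polynomial.as_sum_range_C_mul_X_pow g, TensorProduct.sum_tmul]
    apply Finset.sum_congr rfl
    intro s _
    have hs : HopfRep.Comod.coact (k := k) (A := A) (g.coeff s) = g.coeff s ⊗ₜ[k] (χ ^ s) := h s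
    rw [hs]
    simp only [Algebra.TensorProduct.map_tmul, CAlgHom_apply, AlgHom.coe_id, id_eq,
      Algebra.TensorProduct.tmul_mul_tmul]
    rw [← mul_pow, hχχ', one_pow]

end Groth.Agent.Helper9.PolyInv
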