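import Mathlib

namespace Groth.Agent.Helper9.PontDual

universe u

lemma htor (n : ℤ) (hn : 0 < n) (u : AddCircle (1:ℚ)) (hu : n • u = 0) :
    ∃ m : ℤ, u = m • (((1:ℚ) / n : ℚ) : AddCircle (1:ℚ)) := by
  obtain ⟨k, rfl⟩ : ∃ k : ℕ, n = k := ⟨n.toNat, (Int.toNat_of_nonneg hn.le).symm⟩
  have hk : 0 < k := by exact_mod_cast hn
  rw [natCast_zsmul] at hu
  obtain ⟨m, -, hm⟩ := (AddCircle.nsmul_eq_zero_iff hk).1 hu
  refine ⟨m, ?_⟩
  rw [← hm, ← AddCircle.coe_zsmul]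
  congr 1
  simp
  ring

lemma lemA {G : Type*} [AddCommGroup G] (φ χ : G →+ AddCircle (1:ℚ)) (N : ℕ) (hN : 0 < N)
    (hφ : ∀ g, N • φ g = 0) (hker : ∀ g, φ g = 0 → χ g = 0) : ∃ t : ℤ, χ = t • φ := by
  obtain ⟨e, he⟩ : ∃ e : AddCircle (1:ℚ), e = (((1:ℚ) / (N : ℤ) : ℚ) : AddCircle (1:ℚ)) := ⟨_, rfl⟩
  have hNe : (N : ℤ) • e = 0 := by
    rw [he, ← AddCircle.coe_zsmul]
    have : ((N : ℤ) • ((1:ℚ) / ((N : ℤ) : ℚ)) : ℚ) = 1 := by
      have : ((N : ℤ) : ℚ) ≠ 0 := by exact_mod_cast hN.ne'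
      rw [zsmul_eq_mul]; field_simp
    rw [this]
    exact AddCircle.coe_period 1
  let M : AddSubgroup ℤ := AddSubgroup.comap (zmultiplesHom _ e) φ.range
  have hM : ∀ m : ℤ, m ∈ M ↔ ∃ g, φ g = m • e := by
    intro m
    simp only [M, AddSubgroup.mem_comap, AddMonoidHom.mem_range, zmultiplesHom_apply]
  obtain ⟨d₀, hd₀⟩ := Int.subgroup_cyclic M
  -- normalise d ≥ 0
  obtain ⟨d, hd, hd0⟩ : ∃ d : ℤ, M = AddSubgroup.closure {d} ∧ 0 ≤ d := by
    refine ⟨|d₀|, ?_, abs_nonneg _⟩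
    rw [hd₀, ← AddSubgroup.zmultiples_eq_closure, ← AddSubgroup.zmultiples_eq_closure]
    rcases abs_choice d₀ with h | h
    · rw [h]
    · rw [h, AddSubgroup.zmultiples_neg]
  have hMd : ∀ m : ℤ, m ∈ M ↔ ∃ s : ℤ, s * d = m := by
    intro m
    rw [hd, AddSubgroup.mem_closure_singleton]
    simp only [smul_eq_mul]
  obtain ⟨g₀, hg₀⟩ := (hM d).1 ((hMd d).2 ⟨1, one_mul d⟩)
  have hNM : (N : ℤ) ∈ M := (hM _).2 ⟨0, by rw [map_zero, hNe]⟩
  obtain ⟨n₀, hn₀⟩ := (hMd _).1 hNM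
  have hdpos : 0 < d := by
    rcases hd0.lt_or_eq with h | h
    · exact h
    · rw [← h, mul_zero] at hn₀
      have : (N : ℤ) ≠ 0 := by exact_mod_cast hN.ne'
      exact absurd hn₀.symm this
  have hn₀pos : 0 < n₀ := by
    by_contra h
    push Not at h
    have : n₀ * d ≤ 0 := mul_nonpos_of_nonpos_of_nonneg h hd0
    have hNpos : (0 : ℤ) < N := by exact_mod_cast hN
    omega
  -- every value of φ is a multiple of φ g₀
  have hmult : ∀ g, ∃ s : ℤ, φ g = s • φ g₀ := by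
    intro g
    obtain ⟨m, hm⟩ := htor N (by exact_mod_cast hN) (φ g) (by rw [natCast_zsmul]; exact hφ g)
    rw [← he] at hm
    obtain ⟨s, hs⟩ := (hMd m).1 ((hM m).2 ⟨g, hm⟩)
    refine ⟨s, ?_⟩
    rw [hm, hg₀, ← hs, mul_smul]
  -- χ g₀ is a multiple of φ g₀
  have hφg₀ : φ g₀ = (((1:ℚ) / n₀ : ℚ) : AddCircle (1:ℚ)) := by
    rw [hg₀, he, ← AddCircle.coe_zsmul]
    congr 1
    have h1 : ((N : ℤ) : ℚ) = n₀ * d := by exact_mod_cast hn₀.symm
    have h2 : (d : ℚ) ≠ 0 := by exact_mod_cast hdpos.ne'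
    have h3 : (n₀ : ℚ) ≠ 0 := by exact_mod_cast hn₀pos.ne'
    rw [zsmul_eq_mul, h1]
    field_simp
  have hχg₀ : ∃ t : ℤ, χ g₀ = t • φ g₀ := by
    have h1 : φ (n₀ • g₀) = 0 := by
      rw [map_zsmul, hg₀, ← mul_smul, hn₀, hNe]
    have h2 : n₀ • χ g₀ = 0 := by
      rw [← map_zsmul]; exact hker _ h1
    obtain ⟨m, hm⟩ := htor n₀ hn₀pos _ h2
    exact ⟨m, by rw [hm, hφg₀]⟩
  obtain ⟨t, ht⟩ := hχg₀
  refine ⟨t, ?_⟩
  ext g
  obtain ⟨s, hs⟩ := hmult g
  have h1 : φ (g - s • g₀) = 0 := by rw [map_sub, map_zsmul, hs, sub_self]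
  have h2 := hker _ h1
  rw [map_sub, map_zsmul, sub_eq_zero] at h2
  rw [h2, ht, AddMonoidHom.smul_apply, hs, smul_comm]

lemma lemB (G' : Type u) [AddCommGroup G'] (hG' : IsAddTorsion G') (I : Finset G') :
    ∀ (G : Type u) [AddCommGroup G] (β : G' →+ (G →+ AddCircle (1 : ℚ)))
    (χ : G →+ AddCircle (1 : ℚ)),
    (∀ g, (∀ f ∈ I, β f g = 0) → χ g = 0) → ∃ f' : G', β f' = χ := by
  classical
  induction I using Finset.induction_on with
  | empty =>
    intro G _ β χ h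
    refine ⟨0, ?_⟩
    ext g
    rw [map_zero, AddMonoidHom.zero_apply]
    exact (h g (by simp)).symm
  | insert f I hf ih =>
    intro G _ β χ h
    -- restrict to H = ker (β f)
    let H : AddSubgroup G := (β f).ker
    let βH : G' →+ (H →+ AddCircle (1:ℚ)) :=
      { toFun := fun g' => (β g').comp H.subtype
        map_zero' := by ext; simp
        map_add' := by intro a b; ext; simp }
    obtain ⟨g₁, hg₁⟩ := ih H βH (χ.comp H.subtype) (by
      intro g hg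
      simp only [AddMonoidHom.comp_apply, AddSubgroup.subtype_apply]
      apply h
      intro f' hf'
      rcases Finset.mem_insert.1 hf' with rfl | hf'
      · exact g.2
      · exact hg f' hf')
    have hker : ∀ g, β f g = 0 → (χ - β g₁) g = 0 := by
      intro g hg
      have := DFunLike.congr_fun hg₁ ⟨g, hg⟩
      simp only [βH, AddMonoidHom.coe_mk, ZeroHom.coe_mk, AddMonoidHom.comp_apply,
        AddSubgroup.subtype_apply] at this
      rw [AddMonoidHom.sub_apply, this, sub_self]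
    have hN : 0 < addOrderOf f := (hG' f).addOrderOf_pos
    obtain ⟨t, ht⟩ := lemA (β f) (χ - β g₁) (addOrderOf f) hN (by
      intro g
      rw [← AddMonoidHom.smul_apply, ← map_nsmul, addOrderOf_nsmul_eq_zero, map_zero,
        AddMonoidHom.zero_apply]) hker
    refine ⟨g₁ + t • f, ?_⟩
    rw [map_add, map_zsmul, ← ht]
    abel

lemma topStep (G : Type u) (G' : Type u) [AddCommGroup G] [AddCommGroup G']
    (β : G' →+ (G →+ AddCircle (1 : ℚ)))
    (χ : G →+ AddCircle (1 : ℚ))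
    (hχ : @Continuous G (AddCircle (1 : ℚ)) (⨅ f' : G', TopologicalSpace.induced (fun x : G => β f' x) ⊥) ⊥ χ) :
    ∃ I : Finset G', ∀ g, (∀ f ∈ I, β f g = 0) → χ g = 0 := by
  classical
  letI τ : TopologicalSpace G := ⨅ f' : G', TopologicalSpace.induced (fun x : G => β f' x) ⊥
  letI σ : TopologicalSpace (AddCircle (1:ℚ)) := ⊥
  haveI : DiscreteTopology (AddCircle (1:ℚ)) := ⟨rfl⟩
  have hopen : IsOpen (χ ⁻¹' {0}) := (isOpen_discrete ({0} : Set (AddCircle (1:ℚ)))).preimage hχ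
  have hmem : χ ⁻¹' {0} ∈ @nhds G τ 0 := hopen.mem_nhds (by simp)
  rw [nhds_iInf] at hmem
  simp only [nhds_induced, map_zero, nhds_discrete, Filter.comap_pure] at hmem
  rw [Filter.mem_iInf_finite] at hmem
  obtain ⟨I, hI⟩ := hmem
  refine ⟨I, ?_⟩
  intro g hg
  rw [Filter.iInf_principal_finset, Filter.mem_principal] at hI
  have : g ∈ ⋂ i ∈ I, (fun x => β i x) ⁻¹' {0} := by
    simp only [Set.mem_iInter, Set.mem_preimage, Set.mem_singleton_iff]
    exact hg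
  exact hI this

end Groth.Agent.Helper9.PontDual
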