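import Mathlib

namespace Groth.Agent.Helper9.PosInv

variable {R : Type*} [Ring R] [Algebra ℚ R] [Module.Finite ℚ R]

/-- in a finite-dimensional algebra, a right inverse of `a` lies in `ℚ[a]` -/
theorem mem_adjoin_of_mul_eq_one (a b : R) (h : a * b = 1) :
    b ∈ Algebra.adjoin ℚ ({a} : Set R) := by
  -- left multiplication by a on R is surjective hence injective
  set L : R →ₗ[ℚ] R := LinearMap.mulLeft ℚ a with hL
  have hLsurj : Function.Surjective L := by
    intro y
    exact ⟨b * y, by simp [hL, ← mul_assoc, h]⟩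
  have hLinj : Function.Injective L := LinearMap.injective_iff_surjective.mpr hLsurj
  set S := Algebra.adjoin ℚ ({a} : Set R) with hS
  have ha : a ∈ S := Algebra.self_mem_adjoin_singleton ℚ a
  -- restriction to S
  let LS : S →ₗ[ℚ] S :=
    { toFun := fun x => ⟨a * x, S.mul_mem ha x.2⟩
      map_add' := fun x y => by ext; simp [mul_add]
      map_smul' := fun c x => by ext; simp }
  have hLSinj : Function.Injective LS := by
    intro x y hxy
    have : a * (x : R) = a * (y : R) := congrArg Subtype.val hxy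
    exact Subtype.ext (hLinj this)
  have hLSsurj : Function.Surjective LS := LinearMap.injective_iff_surjective.mp hLSinj
  obtain ⟨g, hg⟩ := hLSsurj 1
  have hg' : a * (g : R) = 1 := congrArg Subtype.val hg
  have : (g : R) = b := hLinj (by show a * (g : R) = a * b; rw [hg', h])
  rw [← this]
  exact g.2


open Module

theorem adjoint_eigen {V : Type*} [AddCommGroup V] [Module ℚ V] [Module.Finite ℚ V]
    (B : LinearMap.BilinForm ℚ V) (hsymm : ∀ x y, B x y = B y x)
    (hpos : ∀ x, x ≠ 0 → 0 < B x x)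
    (T T' : V →ₗ[ℚ] V) (hadj : ∀ x y, B (T x) y = B x (T' y))
    (ρ : V →ₗ[ℚ] ℂ) (hρ : ρ ≠ 0) (z w : ℂ) (hz : ∀ x, ρ (T x) = z * ρ x)
    (hw : ∀ x, ρ (T' x) = w * ρ x) :
    w = starRingEnd ℂ z := by
  classical
  have : Invertible (2:ℚ) := invertibleOfNonzero two_ne_zero
  obtain ⟨e, he⟩ := LinearMap.BilinForm.exists_orthogonal_basis (B := B)
    (LinearMap.isSymm_def.mpr (fun x y => by simpa using hsymm x y))
  rw [LinearMap.isOrthoᵢ_def] at he
  set a : Fin (finrank ℚ V) → ℚ := fun i => B (e i) (e i) with ha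
  have hapos : ∀ i, 0 < a i := fun i => hpos _ (e.ne_zero i)
  have hrepr : ∀ x i, e.repr x i = B x (e i) / a i := by
    intro x i
    have hx : x = ∑ j, e.repr x j • e j := (e.sum_repr x).symm
    have : B x (e i) = e.repr x i * a i := by
      conv_lhs => rw [hx]
      rw [map_sum, LinearMap.sum_apply]
      simp only [map_smul, LinearMap.smul_apply, smul_eq_mul]
      rw [Finset.sum_eq_single i]
      · intro j _ hji; rw [he j i hji, mul_zero]
      · intro h; exact absurd (Finset.mem_univ i) h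
    rw [this, mul_div_assoc, div_self (hapos i).ne', mul_one]
  set v : Fin (finrank ℚ V) → ℂ := fun i => ρ (e i) with hv
  have hexp : ∀ x, ρ x = ∑ i, ((B x (e i) / a i : ℚ) : ℂ) * v i := by
    intro x
    conv_lhs => rw [← e.sum_repr x]
    rw [map_sum]
    refine Finset.sum_congr rfl fun i _ => ?_
    rw [map_smul, hrepr, Rat.smul_def]
  -- some v i ≠ 0
  obtain ⟨i₀, hi₀⟩ : ∃ i, v i ≠ 0 := by
    by_contra hcon
    push Not at hcon
    apply hρ
    ext x
    rw [hexp x]
    simp [hcon]
  have haC : ∀ i, (a i : ℂ) ≠ 0 := fun i => by exact_mod_cast (hapos i).ne'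
  set H : ℂ := ∑ i, (starRingEnd ℂ) (v i) * v i / (a i : ℂ) with hH
  have hHne : H ≠ 0 := by
    have hre : H = ((∑ i, Complex.normSq (v i) / (a i : ℝ) : ℝ) : ℂ) := by
      rw [hH]; push_cast
      refine Finset.sum_congr rfl fun i _ => ?_
      rw [Complex.normSq_eq_conj_mul_self]
    have hpos' : 0 < ∑ i, Complex.normSq (v i) / (a i : ℝ) := by
      refine Finset.sum_pos' (fun i _ => div_nonneg (Complex.normSq_nonneg _)
        (by exact_mod_cast (hapos i).le))
        ⟨i₀, Finset.mem_univ _, div_pos (Complex.normSq_pos.mpr hi₀) (by exact_mod_cast hapos i₀)⟩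
    rw [hre]
    exact_mod_cast hpos'.ne'
  -- X two ways
  have hXa : ∑ i, (starRingEnd ℂ) (v i) * ρ (T (e i)) / (a i : ℂ) = z * H := by
    rw [hH, Finset.mul_sum]
    refine Finset.sum_congr rfl fun i _ => ?_
    rw [hz]; ring
  have hconj : ∀ j, ∑ i, ((B (T' (e j)) (e i) / a i : ℚ) : ℂ) * (starRingEnd ℂ) (v i)
      = (starRingEnd ℂ) w * (starRingEnd ℂ) (v j) := by
    intro j
    have h1 := congrArg (starRingEnd ℂ) (hexp (T' (e j)))
    rw [hw, map_mul, map_sum] at h1
    rw [h1]
    refine Finset.sum_congr rfl fun i _ => ?_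
    rw [map_mul, map_ratCast]
  have hXb : ∑ i, (starRingEnd ℂ) (v i) * ρ (T (e i)) / (a i : ℂ) = (starRingEnd ℂ) w * H := by
    have h1 : ∀ i, ρ (T (e i)) = ∑ j, ((B (T' (e j)) (e i) / a j : ℚ) : ℂ) * v j := by
      intro i
      rw [hexp (T (e i))]
      refine Finset.sum_congr rfl fun j _ => ?_
      rw [hadj, hsymm]
    simp_rw [h1, Finset.mul_sum, Finset.sum_div]
    rw [Finset.sum_comm, hH, Finset.mul_sum]
    refine Finset.sum_congr rfl fun j _ => ?_
    have := hconj j
    calc ∑ i, (starRingEnd ℂ) (v i) * (((B (T' (e j)) (e i) / a j : ℚ) : ℂ) * v j) / (a i : ℂ)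
        = (v j / (a j : ℂ)) *
            ∑ i, ((B (T' (e j)) (e i) / a i : ℚ) : ℂ) * (starRingEnd ℂ) (v i) := by
          rw [Finset.mul_sum]
          refine Finset.sum_congr rfl fun i _ => ?_
          have := haC i
          have := haC j
          push_cast
          field_simp
      _ = _ := by rw [this]; ring
  have : (z - (starRingEnd ℂ) w) * H = 0 := by rw [sub_mul, ← hXa, ← hXb, sub_self]
  rcases mul_eq_zero.mp this with h | h
  · have hzw : z = (starRingEnd ℂ) w := sub_eq_zero.mp h
    rw [hzw, Complex.conj_conj]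
  · exact absurd h hHne

end Groth.Agent.Helper9.PosInv
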