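import Mathlib
import Groth.Prelude.Def_FibCat2
import Groth.Prelude.Def_AlgSt
import Groth.Agent.Helper3.EquivOver
import Groth.Agent.Helper6.FpTools
import Groth.Agent.Helper6.StkTools

set_option autoImplicit false
universe v₃ u₃ v₂ u₂ v u

namespace Groth.Agent.Helper9.PrestackEquiv
open CategoryTheory FibCat
open Groth.Agent.Helper3 Groth.Agent.Helper6.FpTools

variable {C : Type u} [Category.{v} C]
variable {𝒳 : BasedCategory.{v₂, u₂} C} {𝒴 : BasedCategory.{v₃, u₃} C}

theorem faithful_of_ff {U : C} (R : Sieve U) (F : 𝒳 ⥤ᵇ 𝒴) [F.toFunctor.Faithful]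
    (h : (Stk.resSieve R 𝒴).Faithful) : (Stk.resSieve R 𝒳).Faithful where
  map_injective {H H'} α β hαβ := by
    have h1 : (Stk.resSieve R 𝒴).map (BasedCategory.whiskerRight α F) =
        (Stk.resSieve R 𝒴).map (BasedCategory.whiskerRight β F) := by
      apply BasedNatTrans.homCategory.ext
      ext a
      have := congrArg (fun t => F.toFunctor.map (t.toNatTrans.app a)) hαβ
      exact this
    have h2 := h.map_injective h1
    apply BasedNatTrans.homCategory.ext
    ext a
    apply F.toFunctor.map_injective
    exact congrArg (fun t => t.toNatTrans.app a) h2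

theorem full_of_ff {U : C} (R : Sieve U) (F : 𝒳 ⥤ᵇ 𝒴) [F.toFunctor.Faithful] [F.toFunctor.Full]
    (h : (Stk.resSieve R 𝒴).Full) : (Stk.resSieve R 𝒳).Full where
  map_surjective {H H'} γ := by
    obtain ⟨δ, hδ⟩ := h.map_surjective (X := BasedFunctor.comp H F) (Y := BasedFunctor.comp H' F)
      (BasedCategory.whiskerRight γ F)
    have hδ' : ∀ a : (Stk.sieveCat R).obj, δ.toNatTrans.app ((Stk.sieveIncl R).obj a) =
        F.toFunctor.map (γ.toNatTrans.app a) := fun a =>
      congrArg (fun t => t.toNatTrans.app a) hδ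
    let pre : ∀ a : (overCat U).obj, H.obj a ⟶ H'.obj a := fun a =>
      F.toFunctor.preimage
        (show F.toFunctor.obj (H.obj a) ⟶ F.toFunctor.obj (H'.obj a) from δ.toNatTrans.app a)
    have hpre : ∀ a, F.toFunctor.map (pre a) = δ.toNatTrans.app a := fun a =>
      F.toFunctor.map_preimage _
    refine ⟨{ toNatTrans :=
              { app := pre
                naturality := fun a b f => by
                  apply F.toFunctor.map_injective
                  rw [Functor.map_comp, Functor.map_comp]
                  exact ((congrArg (fun t => F.toFunctor.map (H.toFunctor.map f) ≫ t) (hpre b)).trans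
                    (δ.toNatTrans.naturality f)).trans
                    (congrArg (fun t => t ≫ F.toFunctor.map (H'.toFunctor.map f)) (hpre a)).symm }
              isHomLift' := fun a => by
                rw [← BasedFunctor.isHomLift_iff F]
                have := δ.isHomLift' a
                rw [← hpre a] at this
                exact this }, ?_⟩
    apply BasedNatTrans.homCategory.ext
    ext a
    apply F.toFunctor.map_injective
    exact (hpre ((Stk.sieveIncl R).obj a)).trans (hδ' a)

theorem isPrestackFor_of_isEquivOver {U : C} (R : Sieve U) (F : 𝒳 ⥤ᵇ 𝒴) (hF : IsEquivOver F)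
    (h : Stk.IsPrestackFor R 𝒴) : Stk.IsPrestackFor R 𝒳 := by
  obtain ⟨i1, i2, -⟩ := (isEquivOver_iff F).1 hF
  exact ⟨full_of_ff R F h.1, faithful_of_ff R F h.2⟩

theorem isPrestack_iff_of_isEquivOver (J : GrothendieckTopology C) (F : 𝒳 ⥤ᵇ 𝒴)
    (hF : IsEquivOver F) : Stk.IsPrestack J 𝒳 ↔ Stk.IsPrestack J 𝒴 := by
  obtain ⟨G, hG, -, -⟩ := EquivOver.symm hF
  unfold Stk.IsPrestack
  rw [Groth.Agent.Helper6.StkTools.isFibGrpd_iff_of_isEquivOver F hF]
  refine and_congr Iff.rfl ?_
  refine forall_congr' fun U => forall_congr' fun R => forall_congr' fun _ => ?_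
  exact ⟨isPrestackFor_of_isEquivOver R G hG, isPrestackFor_of_isEquivOver R F hF⟩

end Groth.Agent.Helper9.PrestackEquiv
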