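import Mathlib

set_option autoImplicit false

namespace Groth.Agent.Helper9.PrimeUnits

variable {R : Type*} [CommRing R] [IsDomain R] {r : ℕ} (f : Fin r → R) (hf : ∀ i, Prime (f i))

include hf in
/-- If `a * a'` is a power of the product of the primes `f i`, then `a` is a unit times a monomial
in the `f i`. -/
theorem exists_repr (a a' : R) (N : ℕ) (h : a * a' = (∏ i, f i) ^ N) :
    ∃ (v : Rˣ) (c : Fin r → ℕ), a = v * ∏ i, f i ^ c i := by
  classical
  have h1 : (∏ i, f i) ^ N = 1 * ∏ x ∈ (Finset.univ : Finset (Fin r × Fin N)), f x.1 := by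
    rw [one_mul, ← Finset.univ_product_univ, Finset.prod_product]
    simp only [Finset.prod_const, Finset.card_univ, Fintype.card_fin]
    rw [Finset.prod_pow]
  obtain ⟨t, u, b, c, -, -, hbc, ha, -⟩ :=
    mul_eq_mul_prime_prod (fun i _ => hf i.1) (h.trans h1)
  have hb : IsUnit b := IsUnit.of_mul_eq_one c hbc.symm
  refine ⟨hb.unit, fun i => (t.filter (fun x => x.1 = i)).card, ?_⟩
  rw [ha, IsUnit.unit_spec]
  congr 1
  rw [← Finset.prod_fiberwise t (fun x => x.1) (fun x => f x.1)]
  refine Finset.prod_congr rfl fun i _ => ?_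
  rw [← Finset.prod_const]
  refine Finset.prod_congr rfl fun x hx => ?_
  rw [(Finset.mem_filter.mp hx).2]

include hf in
theorem emultiplicity_monomial (hfa : ∀ i j, Associated (f i) (f j) → i = j)
    (v : Rˣ) (n : Fin r → ℕ) (i : Fin r) :
    emultiplicity (f i) ((v : R) * ∏ j, f j ^ n j) = n i := by
  rw [emultiplicity_mul (hf i), emultiplicity_of_isUnit_right (hf i).not_isUnit v.isUnit, zero_add,
    Finset.emultiplicity_prod (hf i), Finset.sum_eq_single i]
  · exact emultiplicity_pow_self_of_prime (hf i) _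
  · intro j _ hji
    rw [emultiplicity_pow (hf i)]
    have : emultiplicity (f i) (f j) = 0 := by
      rw [emultiplicity_eq_zero]
      intro hdvd
      exact hji ((hfa i j ((hf i).associated_of_dvd (hf j) hdvd)).symm)
    rw [this, mul_zero]
  · intro hi; exact absurd (Finset.mem_univ i) hi

include hf in
theorem monomial_injective (hfa : ∀ i j, Associated (f i) (f j) → i = j)
    (v v' : Rˣ) (n n' : Fin r → ℕ)
    (h : (v : R) * ∏ j, f j ^ n j = (v' : R) * ∏ j, f j ^ n' j) : n = n' := by
  funext i
  have h1 := emultiplicity_monomial f hf hfa v n i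
  have h2 := emultiplicity_monomial f hf hfa v' n' i
  rw [h, h2] at h1
  exact_mod_cast h1.symm

end Groth.Agent.Helper9.PrimeUnits
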