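import Mathlib
import Groth.Prelude.Def_ProEtS
import Groth.Prelude.Def_EtShriek2

/-! `ε⁻¹ j_! ≅ j_! ε⁻¹` (S0743). -/

set_option autoImplicit false
set_option backward.isDefEq.respectTransparency false
universe u

open CategoryTheory CategoryTheory.Limits Opposite AlgebraicGeometry

namespace Groth.Agent.Helper9.ProEtEps

variable {U X : Scheme.{u}} (j : U ⟶ X) [hj : Etale j]

/-- the two composite site functors agree -/
noncomputable def siteIso :
    ProEtS.eps U ⋙ ProEtS.compP j ≅ EtShriek.compEtale j ⋙ ProEtS.eps X :=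
  NatIso.ofComponents (fun V => MorphismProperty.Over.isoMk (Iso.refl _) (by
    change 𝟙 _ ≫ V.hom ≫ j = V.hom ≫ j
    exact Category.id_comp _)) (by
    intro V W g
    apply MorphismProperty.Over.Hom.ext
    change g.left ≫ 𝟙 _ = 𝟙 _ ≫ g.left
    rw [Category.comp_id, Category.id_comp])

variable [EtShriek.JCont j] [ProEtS.JPCont j] [ProEtS.EpsCont U] [ProEtS.EpsCont X]

/-- the isomorphism of the right adjoints -/
noncomputable def rightIso :
    ProEtS.restrP j ⋙ ProEtS.epsPush U ≅ ProEtS.epsPush X ⋙ EtShriek.restrAlong j := by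
  haveI : (EtShriek.compEtale j ⋙ ProEtS.eps X).IsContinuous U.smallEtaleTopology
      (Scheme.ProEt.topology X) :=
    Functor.isContinuous_comp _ _ _ X.smallEtaleTopology _
  exact Functor.sheafPushforwardContinuousComp' (siteIso j) AddCommGrpCat.{u + 1}
      U.smallEtaleTopology (Scheme.ProEt.topology U) (Scheme.ProEt.topology X) ≪≫
    (Functor.sheafPushforwardContinuousComp (EtShriek.compEtale j) (ProEtS.eps X)
      AddCommGrpCat.{u + 1} U.smallEtaleTopology X.smallEtaleTopology
      (Scheme.ProEt.topology X)).symm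

theorem nonempty_iso :
    Nonempty (EtShriek.extZero j ⋙ ProEtS.epsPull X ≅ ProEtS.epsPull U ⋙ ProEtS.extZeroP j) := by
  let adj1 : EtShriek.extZero j ⋙ ProEtS.epsPull X ⊣ ProEtS.epsPush X ⋙ EtShriek.restrAlong j :=
    (EtShriek.extZeroAdj j).comp (ProEtS.epsAdj X)
  let adj2 : ProEtS.epsPull U ⋙ ProEtS.extZeroP j ⊣ ProEtS.restrP j ⋙ ProEtS.epsPush U :=
    (ProEtS.epsAdj U).comp (ProEtS.extZeroPAdj j)
  exact ⟨adj1.leftAdjointUniq (adj2.ofNatIsoRight (rightIso j))⟩

end Groth.Agent.Helper9.ProEtEps
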