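import Mathlib
import Groth.Prelude.Def_ProEtS

/-! Pro-étale analogue of `EtShriekOpen`: for weakly étale `j`, the adjoint triple
`j_! ⊣ j⁻¹ ⊣ j_*`; for a monomorphism the unit / counits are isomorphisms. -/

set_option autoImplicit false
set_option backward.isDefEq.respectTransparency false
universe u

open CategoryTheory CategoryTheory.Limits Opposite AlgebraicGeometry

namespace Groth.Agent.Helper9.ProEtOpen

variable {U X : Scheme.{u}} (j : U ⟶ X) [hj : WeaklyEtale j]

/-- the adjunction of site functors `compP j ⊣ bcP j` -/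
noncomputable def siteAdj : ProEtS.compP j ⊣ ProEtS.bcP j :=
  MorphismProperty.Over.mapPullbackAdj (@WeaklyEtale) ⊤ j hj trivial

instance full_compP [Mono j] : (ProEtS.compP j).Full where
  map_surjective {V W} g := by
    have e : ((g.left : V.left ⟶ W.left) ≫ W.hom) ≫ j = V.hom ≫ j := by
      rw [Category.assoc]; exact MorphismProperty.Over.w g
    exact ⟨MorphismProperty.Over.homMk g.left ((cancel_mono j).1 e),
      MorphismProperty.Over.Hom.ext rfl⟩

instance faithful_compP : (ProEtS.compP j).Faithful where
  map_injective {_ _} _ _ h :=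
    MorphismProperty.Over.Hom.ext (congrArg (fun k => k.left) h :)

variable [ProEtS.JPCont j] [ProEtS.PCont j]

/-- the adjunction `j⁻¹ ⊣ j_*` coming from the site adjunction -/
noncomputable def sheafAdj : ProEtS.restrP j ⊣ ProEtS.pushP j :=
  (siteAdj j).sheafPushforwardContinuous (E := AddCommGrpCat.{u + 1})
    (Scheme.ProEt.topology U) (Scheme.ProEt.topology X)

/-- restriction along a weakly étale morphism is the inverse image -/
noncomputable def pullIsoRestr : ProEtS.pullP j ≅ ProEtS.restrP j :=
  (ProEtS.pullPushAdjP j).leftAdjointUniq (sheafAdj j)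

/-- the adjoint triple -/
noncomputable def triple :
    CategoryTheory.Adjunction.Triple (ProEtS.extZeroP j) (ProEtS.restrP j) (ProEtS.pushP j) where
  adj₁ := ProEtS.extZeroPAdj j
  adj₂ := sheafAdj j

section Mono

variable [Mono j]

instance isIso_siteAdj_unit : IsIso (siteAdj j).unit := inferInstance

omit [Mono j] in
lemma sheafAdj_counit_app_hom_app (F : ProEtS.AbP U) (V : U.ProEt) :
    (((sheafAdj j).counit.app F).hom).app (op V) = F.obj.map ((siteAdj j).unit.app V).op := by
  dsimp [sheafAdj]
  simp

instance isIso_sheafAdj_counit_app (F : ProEtS.AbP U) : IsIso ((sheafAdj j).counit.app F) := by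
  haveI : IsIso ((sheafToPresheaf _ _).map ((sheafAdj j).counit.app F)) := by
    haveI : ∀ V, IsIso (((sheafToPresheaf _ _).map ((sheafAdj j).counit.app F)).app V) := by
      rintro ⟨V⟩
      change IsIso ((((sheafAdj j).counit.app F).hom).app (op V))
      rw [sheafAdj_counit_app_hom_app]
      infer_instance
    exact NatIso.isIso_of_isIso_app _
  exact isIso_of_reflects_iso _ (sheafToPresheaf _ _)

instance isIso_sheafAdj_counit : IsIso (sheafAdj j).counit :=
  NatIso.isIso_of_isIso_app _

instance isIso_extZeroPAdj_unit : IsIso (ProEtS.extZeroPAdj j).unit :=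
  (triple j).isIso_unit_iff_isIso_counit.2 (isIso_sheafAdj_counit j)

theorem isIso_extZeroPAdj_unit_app (F : ProEtS.AbP U) :
    IsIso ((ProEtS.extZeroPAdj j).unit.app F) := inferInstance

theorem isIso_pullPushAdjP_counit_app (F : ProEtS.AbP U) :
    IsIso ((ProEtS.pullPushAdjP j).counit.app F) := by
  let ff : (ProEtS.pushP j).FullyFaithful := (sheafAdj j).fullyFaithfulROfIsIsoCounit
  haveI := ff.full
  haveI := ff.faithful
  infer_instance

end Mono

end Groth.Agent.Helper9.ProEtOpen
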