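import Mathlib
import Groth.Prelude.Def_DerCA
import Groth.Agent.Helper6.ProFive

/-!
# Pro-isomorphisms of ℕ-indexed systems: composition, cancellation, twists by a scalar,
# systems of mapping cones and the cone lemma
-/

set_option autoImplicit false

namespace Groth.Agent.Helper9.ProK1

open CategoryTheory CategoryTheory.Limits Opposite
open Groth.Agent.Helper6.EssTri Groth.Agent.Helper6.ProFive

universe v u v' u'

section Calc

variable {C : Type u} [Category.{v} C]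

theorem proIso_of_isIso {X Y : ARSys.PS C} (a : X ⟶ Y) [∀ n : ℕ, IsIso (a.app (op n))] :
    DerCA.IsProIso a := by
  intro n
  refine ⟨n, le_rfl, inv (a.app (op n)), ?_, ?_⟩
  · rw [IsIso.hom_inv_id, tr_refl]
  · rw [IsIso.inv_hom_id, tr_refl]

theorem proIso_comp {X Y Z : ARSys.PS C} (a : X ⟶ Y) (b : Y ⟶ Z) (ha : DerCA.IsProIso a)
    (hb : DerCA.IsProIso b) : DerCA.IsProIso (a ≫ b) := by
  intro n
  obtain ⟨m₁, h₁, α, hα1, hα2⟩ := ha n
  obtain ⟨m, h₂, β, hβ1, hβ2⟩ := hb m₁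
  refine ⟨m, h₁.trans h₂, β ≫ α, ?_, ?_⟩
  · rw [NatTrans.comp_app, Category.assoc, reassoc_of% hβ1, natL_assoc a h₂, hα1, tr_tr]
  · rw [NatTrans.comp_app, Category.assoc, reassoc_of% hα2, ← natL b h₁, reassoc_of% hβ2, tr_tr]

theorem proIso_cancel_left {X Y Z : ARSys.PS C} (a : X ⟶ Y) (b : Y ⟶ Z)
    (ha : DerCA.IsProIso a) (hab : DerCA.IsProIso (a ≫ b)) : DerCA.IsProIso b := by
  intro n
  obtain ⟨m₁, h₁, g, hg1, hg2⟩ := hab n
  obtain ⟨m, h₂, α, hα1, hα2⟩ := ha m₁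
  simp only [NatTrans.comp_app, Category.assoc] at hg1 hg2
  refine ⟨m, h₁.trans h₂, ARSys.tr Z h₂ ≫ g ≫ a.app (op n), ?_, ?_⟩
  · rw [natL_assoc b h₂, ← hα2, Category.assoc, reassoc_of% hg1, ← natL a h₁,
      reassoc_of% hα2, tr_tr]
  · rw [Category.assoc, Category.assoc, hg2, tr_tr]

end Calc

section Twist

variable {R : Type*} [CommRing R] {C : Type u} [Category.{v} C] [Preadditive C] [Linear R C]

/-- the system with the same objects and transition maps multiplied by powers of `f` -/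
def tw (f : R) (Z : ℕᵒᵖ ⥤ C) : ℕᵒᵖ ⥤ C where
  obj n := Z.obj n
  map {a b} g := f ^ (a.unop - b.unop) • Z.map g
  map_id a := by simp
  map_comp {a b c} g h := by
    have h1 : b.unop ≤ a.unop := leOfHom g.unop
    have h2 : c.unop ≤ b.unop := leOfHom h.unop
    rw [Z.map_comp, Linear.smul_comp, Linear.comp_smul, smul_smul, ← pow_add]
    congr 2
    omega

lemma tw_obj (f : R) (Z : ℕᵒᵖ ⥤ C) (n : ℕᵒᵖ) : (tw f Z).obj n = Z.obj n := rfl

lemma tr_tw (f : R) (Z : ℕᵒᵖ ⥤ C) {n m : ℕ} (h : n ≤ m) :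
    ARSys.tr (tw f Z) h = f ^ (m - n) • ARSys.tr Z h := rfl

/-- a map of systems induces a map of twisted systems -/
def twMap (f : R) {X Y : ℕᵒᵖ ⥤ C} (a : X ⟶ Y) : tw f X ⟶ tw f Y where
  app n := a.app n
  naturality {n m} g := by
    show (f ^ (n.unop - m.unop) • X.map g) ≫ a.app m = a.app n ≫ (f ^ (n.unop - m.unop) • Y.map g)
    rw [Linear.smul_comp, Linear.comp_smul, a.naturality]

lemma twMap_app (f : R) {X Y : ℕᵒᵖ ⥤ C} (a : X ⟶ Y) (n : ℕᵒᵖ) :
    (twMap f a).app n = a.app n := rfl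

/-- multiplication by `f ^ (n + 1)` from the twisted system -/
def twφ (f : R) (Z : ℕᵒᵖ ⥤ C) : tw f Z ⟶ Z where
  app n := f ^ (n.unop + 1) • 𝟙 (Z.obj n)
  naturality {n m} g := by
    have h1 : m.unop ≤ n.unop := leOfHom g.unop
    show (f ^ (n.unop - m.unop) • Z.map g) ≫ (f ^ (m.unop + 1) • 𝟙 (Z.obj m)) =
      (f ^ (n.unop + 1) • 𝟙 (Z.obj n)) ≫ Z.map g
    rw [Linear.smul_comp, Linear.comp_smul, Linear.smul_comp, Category.comp_id, Category.id_comp,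
      smul_smul, ← pow_add]
    congr 2
    omega

lemma twφ_app (f : R) (Z : ℕᵒᵖ ⥤ C) (n : ℕ) :
    (twφ f Z).app (op n) = f ^ (n + 1) • 𝟙 (Z.obj (op n)) := rfl

lemma twMap_twφ (f : R) {X Y : ℕᵒᵖ ⥤ C} (a : X ⟶ Y) : twφ f X ≫ a = twMap f a ≫ twφ f Y := by
  ext n
  show (f ^ (n.unop + 1) • 𝟙 (X.obj n)) ≫ a.app n = a.app n ≫ (f ^ (n.unop + 1) • 𝟙 (Y.obj n))
  rw [Linear.smul_comp, Linear.comp_smul, Category.comp_id, Category.id_comp]

variable {D : Type u'} [Category.{v'} D] [Preadditive D] [Linear R D]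

theorem proIso_tw (f : R) {X Y : ℕᵒᵖ ⥤ C} (a : X ⟶ Y) (G : C ⥤ D) [G.Additive] [G.Linear R]
    (ha : DerCA.IsProIso (Functor.whiskerRight a G)) :
    DerCA.IsProIso (Functor.whiskerRight (twMap f a) G) := by
  intro n
  obtain ⟨m, h, b, h1, h2⟩ := ha n
  refine ⟨m, h, f ^ (m - n) • b, ?_, ?_⟩
  · show G.map (a.app (op m)) ≫ (f ^ (m - n) • b) = G.map (f ^ (m - n) • ARSys.tr X h)
    have h1' : G.map (a.app (op m)) ≫ b = G.map (ARSys.tr X h) := h1
    rw [Linear.comp_smul, h1', Functor.map_smul]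
  · show (f ^ (m - n) • b) ≫ G.map (a.app (op n)) = G.map (f ^ (m - n) • ARSys.tr Y h)
    have h2' : b ≫ G.map (a.app (op n)) = G.map (ARSys.tr Y h) := h2
    rw [Linear.smul_comp, h2', Functor.map_smul]

end Twist

section Cone

set_option backward.isDefEq.respectTransparency false

open CochainComplex HomComplex Pretriangulated

variable {C : Type u} [Category.{v} C] [Abelian C]

lemma map_congr {K₁ L₁ K₂ L₂ : CochainComplex C ℤ} (φ₁ : K₁ ⟶ L₁) (φ₂ : K₂ ⟶ L₂)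
    {a a' : K₁ ⟶ K₂} {b b' : L₁ ⟶ L₂} (ha : a = a') (hb : b = b') (comm : φ₁ ≫ b = a ≫ φ₂) :
    mappingCone.map φ₁ φ₂ a b comm = mappingCone.map φ₁ φ₂ a' b' (by rw [← ha, ← hb]; exact comm) := by
  subst ha hb
  rfl

/-- the system of mapping cones of a map of systems of complexes -/
noncomputable def coneSys {X Y : ℕᵒᵖ ⥤ CochainComplex C ℤ} (φ : X ⟶ Y) :
    ℕᵒᵖ ⥤ CochainComplex C ℤ where
  obj n := mappingCone (φ.app n)
  map {a b} g := mappingCone.map (φ.app a) (φ.app b) (X.map g) (Y.map g) (φ.naturality g).symm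
  map_id a := by
    rw [map_congr _ _ (X.map_id a) (Y.map_id a)]
    exact mappingCone.map_id _
  map_comp {a b c} g h := by
    rw [map_congr _ _ (X.map_comp g h) (Y.map_comp g h)]
    exact mappingCone.map_comp _ _ _ _ _ _ _ _ _

lemma coneSys_obj {X Y : ℕᵒᵖ ⥤ CochainComplex C ℤ} (φ : X ⟶ Y) (n : ℕᵒᵖ) :
    (coneSys φ).obj n = mappingCone (φ.app n) := rfl

lemma tr_coneSys {X Y : ℕᵒᵖ ⥤ CochainComplex C ℤ} (φ : X ⟶ Y) {n m : ℕ} (h : n ≤ m) :
    ARSys.tr (coneSys φ) h = mappingCone.map (φ.app (op m)) (φ.app (op n)) (ARSys.tr X h)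
      (ARSys.tr Y h) (φ.naturality (homOfLE h).op).symm := rfl

variable {X Y X' Y' : ℕᵒᵖ ⥤ CochainComplex C ℤ} (φ : X ⟶ Y) (φ' : X' ⟶ Y')

/-- the map of cone systems induced by a commutative square of systems -/
noncomputable def coneMap (u : X ⟶ X') (v : Y ⟶ Y') (comm : φ ≫ v = u ≫ φ') :
    coneSys φ ⟶ coneSys φ' where
  app n := mappingCone.map (φ.app n) (φ'.app n) (u.app n) (v.app n) (congr_app comm n)
  naturality {a b} g := by
    show mappingCone.map (φ.app a) (φ.app b) (X.map g) (Y.map g) (φ.naturality g).symm ≫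
        mappingCone.map (φ.app b) (φ'.app b) (u.app b) (v.app b) (congr_app comm b) =
      mappingCone.map (φ.app a) (φ'.app a) (u.app a) (v.app a) (congr_app comm a) ≫
        mappingCone.map (φ'.app a) (φ'.app b) (X'.map g) (Y'.map g) (φ'.naturality g).symm
    rw [← mappingCone.map_comp, ← mappingCone.map_comp]
    exact map_congr _ _ (u.naturality g) (v.naturality g) _

lemma coneMap_app (u : X ⟶ X') (v : Y ⟶ Y') (comm : φ ≫ v = u ≫ φ') (n : ℕᵒᵖ) :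
    (coneMap φ φ' u v comm).app n =
      mappingCone.map (φ.app n) (φ'.app n) (u.app n) (v.app n) (congr_app comm n) := rfl

/-- the inclusions into the cones -/
noncomputable def inrSys : Y ⟶ coneSys φ where
  app n := mappingCone.inr (φ.app n)
  naturality {a b} g :=
    (mappingCone.triangleMap (φ.app a) (φ.app b) (X.map g) (Y.map g)
      (φ.naturality g).symm).comm₂.symm

/-- the connecting maps of the cones -/
noncomputable def δSys : coneSys φ ⟶ X ⋙ shiftFunctor (CochainComplex C ℤ) (1 : ℤ) where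
  app n := (mappingCone.triangle (φ.app n)).mor₃
  naturality {a b} g :=
    (mappingCone.triangleMap (φ.app a) (φ.app b) (X.map g) (Y.map g)
      (φ.naturality g).symm).comm₃.symm

lemma triangle_comm₃ {K₁ L₁ K₂ L₂ : CochainComplex C ℤ} (φ₁ : K₁ ⟶ L₁) (φ₂ : K₂ ⟶ L₂)
    (a : K₁ ⟶ K₂) (b : L₁ ⟶ L₂) (comm : φ₁ ≫ b = a ≫ φ₂) :
    (mappingCone.triangle φ₁).mor₃ ≫ a⟦(1 : ℤ)⟧' =
      mappingCone.map φ₁ φ₂ a b comm ≫ (mappingCone.triangle φ₂).mor₃ :=
  (mappingCone.triangleMap φ₁ φ₂ a b comm).comm₃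

lemma triangle_comm₂ {K₁ L₁ K₂ L₂ : CochainComplex C ℤ} (φ₁ : K₁ ⟶ L₁) (φ₂ : K₂ ⟶ L₂)
    (a : K₁ ⟶ K₂) (b : L₁ ⟶ L₂) (comm : φ₁ ≫ b = a ≫ φ₂) :
    mappingCone.inr φ₁ ≫ mappingCone.map φ₁ φ₂ a b comm = b ≫ mappingCone.inr φ₂ :=
  (mappingCone.triangleMap φ₁ φ₂ a b comm).comm₂

variable [HasDerivedCategory.{v'} C]

open DerivedCategory in
lemma Q_comm₃ {K₁ L₁ K₂ L₂ : CochainComplex C ℤ} (φ₁ : K₁ ⟶ L₁) (φ₂ : K₂ ⟶ L₂)
    (a : K₁ ⟶ K₂) (b : L₁ ⟶ L₂) (comm : φ₁ ≫ b = a ≫ φ₂) :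
    (Q.map ((mappingCone.triangle φ₁).mor₃) ≫ (Q.commShiftIso (1 : ℤ)).hom.app K₁) ≫
        (Q.map a)⟦(1 : ℤ)⟧' =
      Q.map (mappingCone.map φ₁ φ₂ a b comm) ≫
        (Q.map ((mappingCone.triangle φ₂).mor₃) ≫ (Q.commShiftIso (1 : ℤ)).hom.app K₂) := by
  have h2 : Q.map (a⟦(1 : ℤ)⟧') ≫ (Q.commShiftIso (1 : ℤ)).hom.app K₂ =
      (Q.commShiftIso (1 : ℤ)).hom.app K₁ ≫ (Q.map a)⟦(1 : ℤ)⟧' :=
    (Q.commShiftIso (1 : ℤ)).hom.naturality a
  calc (Q.map ((mappingCone.triangle φ₁).mor₃) ≫ (Q.commShiftIso (1 : ℤ)).hom.app K₁) ≫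
        (Q.map a)⟦(1 : ℤ)⟧'
      = Q.map ((mappingCone.triangle φ₁).mor₃) ≫ ((Q.commShiftIso (1 : ℤ)).hom.app K₁ ≫
        (Q.map a)⟦(1 : ℤ)⟧') := Category.assoc _ _ _
    _ = Q.map ((mappingCone.triangle φ₁).mor₃) ≫ (Q.map (a⟦(1 : ℤ)⟧') ≫
        (Q.commShiftIso (1 : ℤ)).hom.app K₂) := by rw [h2]
    _ = Q.map ((mappingCone.triangle φ₁).mor₃ ≫ a⟦(1 : ℤ)⟧') ≫
        (Q.commShiftIso (1 : ℤ)).hom.app K₂ := by rw [Functor.map_comp, Category.assoc]
    _ = Q.map (mappingCone.map φ₁ φ₂ a b comm ≫ (mappingCone.triangle φ₂).mor₃) ≫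
        (Q.commShiftIso (1 : ℤ)).hom.app K₂ := by rw [triangle_comm₃]
    _ = _ := by rw [Functor.map_comp, Category.assoc]

open DerivedCategory in
/-- the connecting maps in the derived category -/
noncomputable def δQ : coneSys φ ⋙ Q ⟶ (X ⋙ Q) ⋙ shiftFunctor (DerivedCategory C) (1 : ℤ) where
  app n := Q.map ((mappingCone.triangle (φ.app n)).mor₃) ≫
    (Q.commShiftIso (1 : ℤ)).hom.app (X.obj n)
  naturality {a b} g :=
    (Q_comm₃ (φ.app a) (φ.app b) (X.map g) (Y.map g) (φ.naturality g).symm).symm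

open DerivedCategory in
/-- minus the shifted map -/
noncomputable def negShiftQ :
    (X ⋙ Q) ⋙ shiftFunctor (DerivedCategory C) (1 : ℤ) ⟶
      (Y ⋙ Q) ⋙ shiftFunctor (DerivedCategory C) (1 : ℤ) where
  app n := -(Q.map (φ.app n))⟦(1 : ℤ)⟧'
  naturality {a b} g := by
    show (Q.map (X.map g))⟦(1 : ℤ)⟧' ≫ (-(Q.map (φ.app b))⟦(1 : ℤ)⟧') =
      (-(Q.map (φ.app a))⟦(1 : ℤ)⟧') ≫ (Q.map (Y.map g))⟦(1 : ℤ)⟧'
    rw [Preadditive.comp_neg, Preadditive.neg_comp, ← Functor.map_comp, ← Functor.map_comp,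
      ← Functor.map_comp, ← Functor.map_comp, φ.naturality]

open DerivedCategory in
theorem cone_proIso (u : X ⟶ X') (v : Y ⟶ Y') (comm : φ ≫ v = u ≫ φ')
    (hu : DerCA.IsProIso (Functor.whiskerRight u (Q (C := C))))
    (hv : DerCA.IsProIso (Functor.whiskerRight v (Q (C := C)))) :
    DerCA.IsProIso (Functor.whiskerRight (coneMap φ φ' u v comm) (Q (C := C))) := by
  have hdist : ∀ (X₀ Y₀ : ℕᵒᵖ ⥤ CochainComplex C ℤ) (ψ : X₀ ⟶ Y₀) (n : ℕ),
      Triangle.mk ((Functor.whiskerRight (inrSys ψ) Q).app (op n)) ((δQ ψ).app (op n))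
        ((negShiftQ ψ).app (op n)) ∈ distinguishedTriangles := fun X₀ Y₀ ψ n =>
    rot_of_distTriang _ (mappingCone_triangle_distinguished (ψ.app (op n)))
  refine five (Functor.whiskerRight (inrSys φ) Q) (δQ φ) (negShiftQ φ)
    (Functor.whiskerRight (inrSys φ') Q) (δQ φ') (negShiftQ φ') (hdist X Y φ) (hdist X' Y' φ')
    (Functor.whiskerRight v Q) (Functor.whiskerRight (coneMap φ φ' u v comm) Q)
    (Functor.whiskerRight (Functor.whiskerRight u Q) (shiftFunctor (DerivedCategory C) (1 : ℤ)))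
    ?_ ?_ ?_ hv (proIso_whisker _ _ hu)
  · intro n
    show Q.map (mappingCone.inr (φ.app (op n))) ≫
        Q.map (mappingCone.map (φ.app (op n)) (φ'.app (op n)) (u.app (op n)) (v.app (op n))
          (congr_app comm (op n))) =
      Q.map (v.app (op n)) ≫ Q.map (mappingCone.inr (φ'.app (op n)))
    rw [← Functor.map_comp, ← Functor.map_comp, triangle_comm₂]
  · intro n
    exact Q_comm₃ (φ.app (op n)) (φ'.app (op n)) (u.app (op n)) (v.app (op n))
      (congr_app comm (op n))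
  · intro n
    show (-(Q.map (φ.app (op n)))⟦(1 : ℤ)⟧') ≫ (Q.map (v.app (op n)))⟦(1 : ℤ)⟧' =
      (Q.map (u.app (op n)))⟦(1 : ℤ)⟧' ≫ (-(Q.map (φ'.app (op n)))⟦(1 : ℤ)⟧')
    rw [Preadditive.neg_comp, Preadditive.comp_neg, ← Functor.map_comp, ← Functor.map_comp,
      ← Functor.map_comp, ← Functor.map_comp]
    exact congrArg (fun t => -(CategoryTheory.shiftFunctor (DerivedCategory C) (1 : ℤ)).map (Q.map t))
      (congr_app comm (op n))

end Cone

end Groth.Agent.Helper9.ProK1
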