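import Mathlib
import Groth.Prelude.Def_DerCA
import Groth.Agent.Helper9.ProK1

/-!
# The cone of multiplication by `f ^ (n + 1)` versus the quotient, as pro-systems
-/

set_option autoImplicit false
set_option linter.style.haveILetI false
set_option linter.unusedSectionVars false

namespace Groth.Agent.Helper9.ProK2

open CategoryTheory CategoryTheory.Limits Opposite
open Groth.Agent.Helper6.EssTri Groth.Agent.Helper6.ProFive Groth.Agent.Helper9.ProK1
open CochainComplex HomComplex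

universe v u v'

set_option backward.isDefEq.respectTransparency false

variable {C : Type u} [Category.{v} C] [Abelian C]

/-- the map `cone φ ⟶ M` which is zero on the shifted part and `β` on the other part -/
noncomputable def descZero {K L M : CochainComplex C ℤ} (φ : K ⟶ L) (β : L ⟶ M)
    (h : φ ≫ β = 0) : mappingCone φ ⟶ M :=
  mappingCone.desc φ 0 β (by rw [δ_zero, h, Cochain.ofHom_zero])

@[reassoc]
lemma inr_descZero {K L M : CochainComplex C ℤ} (φ : K ⟶ L) (β : L ⟶ M) (h : φ ≫ β = 0) :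
    mappingCone.inr φ ≫ descZero φ β h = β := by
  simp [descZero]

@[reassoc]
lemma map_descZero {K₁ L₁ K₂ L₂ M : CochainComplex C ℤ} (φ₁ : K₁ ⟶ L₁) (φ₂ : K₂ ⟶ L₂)
    (a : K₁ ⟶ K₂) (b : L₁ ⟶ L₂) (comm : φ₁ ≫ b = a ≫ φ₂) (β : L₂ ⟶ M) (h : φ₂ ≫ β = 0) :
    mappingCone.map φ₁ φ₂ a b comm ≫ descZero φ₂ β h =
      descZero φ₁ (b ≫ β) (by rw [reassoc_of% comm, h, comp_zero]) := by
  ext n
  simp [mappingCone.ext_from_iff _ (n + 1) n rfl, mappingCone.map, descZero]

@[reassoc]
lemma descZero_comp {K L M M' : CochainComplex C ℤ} (φ : K ⟶ L) (β : L ⟶ M) (h : φ ≫ β = 0)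
    (k : M ⟶ M') :
    descZero φ β h ≫ k = descZero φ (β ≫ k) (by rw [reassoc_of% h, zero_comp]) := by
  ext n
  simp [mappingCone.ext_from_iff _ (n + 1) n rfl, descZero]

lemma descZero_congr {K L M : CochainComplex C ℤ} (φ : K ⟶ L) {β β' : L ⟶ M} (hβ : β = β')
    (h : φ ≫ β = 0) : descZero φ β h = descZero φ β' (by rw [← hβ]; exact h) := by
  subst hβ
  rfl

lemma descShortComplex_eq (S : ShortComplex (CochainComplex C ℤ)) :
    mappingCone.descShortComplex S = descZero S.f S.g S.zero := rfl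

section Level

variable [HasDerivedCategory.{v'} C]

open DerivedCategory in
/-- the levelwise construction of the pro-inverse -/
theorem level {Zm Zn Zm'' Zn'' : CochainComplex C ℤ} (φm : Zm ⟶ Zm) (φn : Zn ⟶ Zn)
    (ρm : Zm ⟶ Zm'') (ρn : Zn ⟶ Zn'') (t : Zm ⟶ Zn) (t'' : Zm'' ⟶ Zn'') (g : Zm ⟶ Zn)
    (hρm : φm ≫ ρm = 0) (hρn : φn ≫ ρn = 0) [Epi ρm]
    (hex : (ShortComplex.mk φm ρm hρm).Exact) (hT' : kernel.ι φm ≫ g = 0)
    (hgφ : φm ≫ t = g ≫ φn) (hnat : t ≫ ρn = ρm ≫ t'') :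
    ∃ b : Q.obj Zm'' ⟶ Q.obj (mappingCone φn),
      Q.map (descZero φm ρm hρm) ≫ b = Q.map (mappingCone.map φm φn g t hgφ) ∧
      b ≫ Q.map (descZero φn ρn hρn) = Q.map t'' := by
  -- the image factorisation
  let e := Abelian.factorThruImage φm
  let ι := Abelian.image.ι φm
  have hfac : e ≫ ι = φm := Abelian.image.fac φm
  have hker : kernel.ι e ≫ g = 0 := by
    have h0 : kernel.ι e ≫ φm = 0 :=
      (congrArg (fun t => kernel.ι e ≫ t) hfac).symm.trans
        (by rw [kernel.condition_assoc, zero_comp])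
    rw [← kernel.lift_ι φm (kernel.ι e) h0, Category.assoc, hT', comp_zero]
  let β := Abelian.epiDesc e g hker
  have hβ : e ≫ β = g := Abelian.comp_epiDesc e g hker
  have hsq : ι ≫ t = β ≫ φn := by
    rw [← cancel_epi e, reassoc_of% hfac, reassoc_of% hβ, hgφ]
  -- the short exact sequence
  have hιρ : ι ≫ ρm = 0 := Abelian.image_ι_comp_eq_zero hρm
  let S : ShortComplex (CochainComplex C ℤ) := ShortComplex.mk ι ρm hιρ
  have hS : S.ShortExact := by
    haveI : Mono S.f := (inferInstance : Mono (Abelian.image.ι φm))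
    haveI : Epi S.g := (inferInstance : Epi ρm)
    exact { exact := (ShortComplex.exact_iff_exact_image_ι _).1 hex }
  haveI : QuasiIso (mappingCone.descShortComplex S) := mappingCone.quasiIso_descShortComplex hS
  haveI : IsIso (Q.map (mappingCone.descShortComplex S)) :=
    (isIso_Q_map_iff_quasiIso (φ := mappingCone.descShortComplex S)).2 inferInstance
  let κ := mappingCone.map ι φn β t hsq
  have hγm : descZero φm ρm hρm =
      mappingCone.map φm ι e (𝟙 _) (by rw [Category.comp_id, hfac]) ≫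
        mappingCone.descShortComplex S := by
    rw [descShortComplex_eq, map_descZero]
    exact descZero_congr _ (Category.id_comp _).symm _
  refine ⟨inv (Q.map (mappingCone.descShortComplex S)) ≫ Q.map κ, ?_, ?_⟩
  · rw [hγm, Functor.map_comp, Category.assoc, IsIso.hom_inv_id_assoc, ← Functor.map_comp,
      ← mappingCone.map_comp]
    exact congrArg _ (map_congr _ _ hβ (Category.id_comp _) _)
  · rw [Category.assoc, ← Functor.map_comp, map_descZero, IsIso.inv_comp_eq,
      ← Functor.map_comp, descShortComplex_eq, descZero_comp]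
    exact congrArg _ (descZero_congr _ hnat _)

end Level

section K4

variable {R : Type*} [CommRing R] [Linear R C] [HasDerivedCategory.{v'} C]

variable (f : R) {Z Z'' : ℕᵒᵖ ⥤ CochainComplex C ℤ} (ρ : Z ⟶ Z'')
  (hρ : ∀ n : ℕ, (f ^ (n + 1) • 𝟙 (Z.obj (op n))) ≫ ρ.app (op n) = 0)

/-- the comparison map from the cone of `f ^ (n + 1)` to the quotient -/
noncomputable def γ : coneSys (twφ f Z) ⟶ Z'' where
  app n := descZero ((twφ f Z).app n) (ρ.app n) (hρ n.unop)
  naturality {a b} g := by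
    show mappingCone.map ((twφ f Z).app a) ((twφ f Z).app b) ((tw f Z).map g) (Z.map g)
        ((twφ f Z).naturality g).symm ≫ descZero ((twφ f Z).app b) (ρ.app b) (hρ b.unop) =
      descZero ((twφ f Z).app a) (ρ.app a) (hρ a.unop) ≫ Z''.map g
    rw [map_descZero, descZero_comp]
    exact descZero_congr _ (ρ.naturality g) _

lemma γ_app (n : ℕ) : (γ f ρ hρ).app (op n) =
    descZero (f ^ (n + 1) • 𝟙 (Z.obj (op n))) (ρ.app (op n)) (hρ n) := rfl

open DerivedCategory in
theorem proIso_γ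
    (h1 : ∀ n : ℕ, Epi (ρ.app (op n)))
    (h2 : ∀ n : ℕ, (ShortComplex.mk (f ^ (n + 1) • 𝟙 (Z.obj (op n))) (ρ.app (op n)) (hρ n)).Exact)
    (h3 : ∀ n : ℕ, ∃ (m : ℕ) (h : n ≤ m),
      kernel.ι (f ^ (m + 1) • 𝟙 (Z.obj (op m))) ≫ (f ^ (m - n) • ARSys.tr Z h) = 0) :
    DerCA.IsProIso (Functor.whiskerRight (γ f ρ hρ) (Q (C := C))) := by
  intro n
  obtain ⟨m, hnm, hT⟩ := h3 n
  haveI := h1 m
  have hgφ : (f ^ (m + 1) • 𝟙 (Z.obj (op m))) ≫ ARSys.tr Z hnm =
      (f ^ (m - n) • ARSys.tr Z hnm) ≫ (f ^ (n + 1) • 𝟙 (Z.obj (op n))) := by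
    rw [Linear.smul_comp, Linear.comp_smul, Linear.smul_comp, Category.comp_id,
      Category.id_comp, smul_smul, ← pow_add]
    congr 2
    omega
  obtain ⟨b, hb1, hb2⟩ := level (f ^ (m + 1) • 𝟙 (Z.obj (op m))) (f ^ (n + 1) • 𝟙 (Z.obj (op n)))
    (ρ.app (op m)) (ρ.app (op n)) (ARSys.tr Z hnm) (ARSys.tr Z'' hnm)
    (f ^ (m - n) • ARSys.tr Z hnm) (hρ m) (hρ n) (h2 m) hT hgφ (natL ρ hnm).symm
  exact ⟨m, hnm, b, hb1, hb2⟩

end K4

end Groth.Agent.Helper9.ProK2
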