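import Mathlib
import Groth.Prelude.Def_DerCA
import Groth.Agent.Helper6.KzTen1
import Groth.Agent.Helper6.TorAR1
import Groth.Agent.Helper9.ProK2

/-!
# Tensoring a system of mapping cones with a fixed complex
-/

set_option autoImplicit false
set_option linter.style.haveILetI false
set_option linter.unusedSectionVars false

namespace Groth.Agent.Helper9.ProK3

open CategoryTheory CategoryTheory.Limits Opposite MonoidalCategory
open Groth.Agent.Helper6.EssTri Groth.Agent.Helper6.ProFive Groth.Agent.Helper9.ProK1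
  Groth.Agent.Helper9.ProK2 Groth.Agent.Helper6.KzTen Groth.Agent.Helper6.TenCx
open CochainComplex HomComplex

universe u

set_option backward.isDefEq.respectTransparency false

variable {R : Type u} [CommRing R]

section MapComponents

variable {K₁ L₁ K₂ L₂ : DRing.Cx R} (φ₁ : K₁ ⟶ L₁) (φ₂ : K₂ ⟶ L₂) (a : K₁ ⟶ K₂) (b : L₁ ⟶ L₂)
  (comm : φ₁ ≫ b = a ≫ φ₂)

@[reassoc]
lemma map_f_fst_v (p p' : ℤ) (hp : p + 1 = p') :
    (mappingCone.map φ₁ φ₂ a b comm).f p ≫ (mappingCone.fst φ₂).1.v p p' hp =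
      (mappingCone.fst φ₁).1.v p p' hp ≫ a.f p' := by
  simp [mappingCone.map, mappingCone.ext_from_iff _ _ _ hp]

@[reassoc]
lemma map_f_snd_v (p : ℤ) :
    (mappingCone.map φ₁ φ₂ a b comm).f p ≫ (mappingCone.snd φ₂).v p p (add_zero p) =
      (mappingCone.snd φ₁).v p p (add_zero p) ≫ b.f p := by
  simp [mappingCone.map, mappingCone.ext_from_iff _ _ _ (rfl : p + 1 = p + 1)]

@[reassoc]
lemma inl_v_map_f (p q : ℤ) (h : p + (-1) = q) :
    (mappingCone.inl φ₁).v p q h ≫ (mappingCone.map φ₁ φ₂ a b comm).f q =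
      a.f p ≫ (mappingCone.inl φ₂).v p q h := by
  simp [mappingCone.map]

@[reassoc]
lemma inr_f_map_f (p : ℤ) :
    (mappingCone.inr φ₁).f p ≫ (mappingCone.map φ₁ φ₂ a b comm).f p =
      b.f p ≫ (mappingCone.inr φ₂).f p := by
  simp [mappingCone.map]

end MapComponents

section Nat

variable {K₁ L₁ K₂ L₂ : DRing.Cx R} (φ₁ : K₁ ⟶ L₁) (φ₂ : K₂ ⟶ L₂) (a : K₁ ⟶ K₂) (b : L₁ ⟶ L₂)

lemma comm_whiskerRight (comm : φ₁ ≫ b = a ≫ φ₂) (Y : DRing.Cx R) :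
    (φ₁ ▷ Y) ≫ (b ▷ Y) = (a ▷ Y) ≫ (φ₂ ▷ Y) := by
  rw [← comp_whiskerRight, ← comp_whiskerRight, comm]

/-- naturality of `coneTensorIso` -/
theorem coneTensorIso_naturality (comm : φ₁ ≫ b = a ≫ φ₂) (Y : DRing.Cx R) :
    (mappingCone.map φ₁ φ₂ a b comm ▷ Y) ≫ (coneTensorIso φ₂ Y).hom =
      (coneTensorIso φ₁ Y).hom ≫ mappingCone.map (φ₁ ▷ Y) (φ₂ ▷ Y) (a ▷ Y) (b ▷ Y)
        (comm_whiskerRight φ₁ φ₂ a b comm Y) := by
  ext n : 1
  apply Groth.Agent.Helper6.TenCx.hom_ext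
  intro p q h
  have e1 := ι_fwdF φ₂ Y p (p + 1) q n (n + 1) rfl h rfl
  have e2 := ι_fwdF φ₁ Y p (p + 1) q n (n + 1) rfl h rfl
  have e3 := ι_whiskerRight (mappingCone.map φ₁ φ₂ a b comm) Y p q n h
  have e4 := ι_whiskerRight a Y (p + 1) q (n + 1) (by omega)
  have e5 := ι_whiskerRight b Y p q n h
  have e6 := inl_v_map_f (φ₁ ▷ Y) (φ₂ ▷ Y) (a ▷ Y) (b ▷ Y)
    (comm_whiskerRight φ₁ φ₂ a b comm Y) (n + 1) n (by omega)
  have e7 := inr_f_map_f (φ₁ ▷ Y) (φ₂ ▷ Y) (a ▷ Y) (b ▷ Y)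
    (comm_whiskerRight φ₁ φ₂ a b comm Y) n
  show ι (mappingCone φ₁) Y p q n h ≫ (mappingCone.map φ₁ φ₂ a b comm ▷ Y).f n ≫ fwdF φ₂ Y n =
    ι (mappingCone φ₁) Y p q n h ≫ fwdF φ₁ Y n ≫ (mappingCone.map (φ₁ ▷ Y) (φ₂ ▷ Y) (a ▷ Y)
      (b ▷ Y) (comm_whiskerRight φ₁ φ₂ a b comm Y)).f n
  rw [reassoc_of% e3, e1, reassoc_of% e2]
  unfold fwdComp
  simp only [Preadditive.add_comp, Preadditive.comp_add, Category.assoc]
  rw [e6, e7, reassoc_of% e4, reassoc_of% e5]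
  rw [← comp_whiskerRight_assoc, ← comp_whiskerRight_assoc, ← comp_whiskerRight_assoc,
    ← comp_whiskerRight_assoc, map_f_fst_v, map_f_snd_v]

end Nat

section Desc

variable {K L M : DRing.Cx R} (φ : K ⟶ L) (β : L ⟶ M)

lemma whiskerRight_zero_aux (h : φ ≫ β = 0) (Y : DRing.Cx R) : (φ ▷ Y) ≫ (β ▷ Y) = 0 := by
  rw [← comp_whiskerRight, h]
  exact Groth.Agent.Helper6.TorAR.zero_whiskerRight' Y K M

theorem coneTensorIso_descZero (h : φ ≫ β = 0) (Y : DRing.Cx R) :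
    (coneTensorIso φ Y).hom ≫ descZero (φ ▷ Y) (β ▷ Y) (whiskerRight_zero_aux φ β h Y) =
      descZero φ β h ▷ Y := by
  ext n : 1
  apply Groth.Agent.Helper6.TenCx.hom_ext
  intro p q hpq
  have e1 := ι_fwdF φ Y p (p + 1) q n (n + 1) rfl hpq rfl
  have e3 := ι_whiskerRight (descZero φ β h) Y p q n hpq
  have e5 := ι_whiskerRight β Y p q n hpq
  have e6 : (mappingCone.inl (φ ▷ Y)).v (n + 1) n (by omega) ≫
      (descZero (φ ▷ Y) (β ▷ Y) (whiskerRight_zero_aux φ β h Y)).f n = 0 := by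
    simp [descZero]
  have e7 : (mappingCone.inr (φ ▷ Y)).f n ≫
      (descZero (φ ▷ Y) (β ▷ Y) (whiskerRight_zero_aux φ β h Y)).f n = (β ▷ Y).f n := by
    simp [descZero]
  have e8 : (descZero φ β h).f p = (mappingCone.snd φ).v p p (add_zero p) ≫ β.f p := by
    simp [descZero, mappingCone.desc_f _ _ _ _ p (p + 1) rfl]
  show ι (mappingCone φ) Y p q n hpq ≫ fwdF φ Y n ≫
      (descZero (φ ▷ Y) (β ▷ Y) (whiskerRight_zero_aux φ β h Y)).f n =
    ι (mappingCone φ) Y p q n hpq ≫ (descZero φ β h ▷ Y).f n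
  rw [reassoc_of% e1, e3]
  unfold fwdComp
  simp only [Preadditive.add_comp, Category.assoc]
  rw [e6, e7, e5, e8, comp_zero, comp_zero, zero_add, comp_whiskerRight, Category.assoc]

end Desc

section Systems

lemma whiskerRight_smul (x : R) {K K' : DRing.Cx R} (g : K ⟶ K') (Y : DRing.Cx R) :
    (x • g) ▷ Y = x • (g ▷ Y) := by
  refine HomologicalComplex.hom_ext _ _ (fun n => Groth.Agent.Helper6.TenCx.hom_ext
    (fun p q hpq => ?_))
  rw [HomologicalComplex.smul_f_apply, Linear.comp_smul, ι_whiskerRight, ι_whiskerRight,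
    HomologicalComplex.smul_f_apply, MonoidalLinear.smul_whiskerRight, Linear.smul_comp]

variable {X X' : ℕᵒᵖ ⥤ DRing.Cx R} (φ : X ⟶ X') (Y : DRing.Cx R)

/-- tensoring a system of cones with `Y` -/
noncomputable def tenCone :
    coneSys φ ⋙ tensorRight Y ⟶ coneSys (Functor.whiskerRight φ (tensorRight Y)) where
  app n := (coneTensorIso (φ.app n) Y).hom
  naturality {a b} g :=
    coneTensorIso_naturality (φ.app a) (φ.app b) (X.map g) (X'.map g) (φ.naturality g).symm Y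

instance (n : ℕᵒᵖ) : IsIso ((tenCone φ Y).app n) :=
  inferInstanceAs (IsIso (coneTensorIso (φ.app n) Y).hom)

variable (f : R) (Z : ℕᵒᵖ ⥤ DRing.Cx R)

/-- the identity between the two ways of twisting and tensoring -/
noncomputable def twU : tw f Z ⋙ tensorRight Y ⟶ tw f (Z ⋙ tensorRight Y) where
  app n := 𝟙 _
  naturality {a b} g := by
    show ((f ^ (a.unop - b.unop) • Z.map g) ▷ Y) ≫ 𝟙 _ = 𝟙 _ ≫ (f ^ (a.unop - b.unop) • (Z.map g ▷ Y))
    rw [Category.comp_id, Category.id_comp, whiskerRight_smul]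

instance (n : ℕᵒᵖ) : IsIso ((twU Y f Z).app n) := inferInstanceAs (IsIso (𝟙 _))

lemma twU_comm : Functor.whiskerRight (twφ f Z) (tensorRight Y) ≫ 𝟙 (Z ⋙ tensorRight Y) =
    twU Y f Z ≫ twφ f (Z ⋙ tensorRight Y) := by
  refine NatTrans.ext (funext fun n => ?_)
  show ((f ^ (n.unop + 1) • 𝟙 (Z.obj n)) ▷ Y) ≫ 𝟙 _ = 𝟙 _ ≫ (f ^ (n.unop + 1) • 𝟙 (Z.obj n ⊗ Y))
  rw [Category.comp_id, Category.id_comp, smul_id_whiskerRight]

end Systems

section Step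

attribute [local instance] HasDerivedCategory.standard

open DerivedCategory

variable (f : R) (Y : DRing.Cx R) {Z₀ W₀ W₀'' : ℕᵒᵖ ⥤ DRing.Cx R} (p : Z₀ ⟶ W₀) (π₀ : W₀ ⟶ W₀'')

lemma hρ_of (hπ₀ : ∀ n : ℕ, (f ^ (n + 1) • 𝟙 (W₀.obj (op n))) ≫ π₀.app (op n) = 0) (n : ℕ) :
    (f ^ (n + 1) • 𝟙 (Z₀.obj (op n))) ≫ (p ≫ π₀).app (op n) = 0 := by
  have h := hπ₀ n
  rw [Linear.smul_comp, Category.id_comp] at h ⊢
  rw [NatTrans.comp_app, ← Linear.comp_smul, h, comp_zero]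

lemma hπ_of (hπ₀ : ∀ n : ℕ, (f ^ (n + 1) • 𝟙 (W₀.obj (op n))) ≫ π₀.app (op n) = 0) (n : ℕ) :
    (f ^ (n + 1) • 𝟙 ((W₀ ⋙ tensorRight Y).obj (op n))) ≫
      (Functor.whiskerRight π₀ (tensorRight Y)).app (op n) = 0 := by
  show (f ^ (n + 1) • 𝟙 (W₀.obj (op n) ⊗ Y)) ≫ (π₀.app (op n) ▷ Y) = 0
  rw [← smul_id_whiskerRight, ← comp_whiskerRight, hπ₀ n]
  exact Groth.Agent.Helper6.TorAR.zero_whiskerRight' Y _ _

/-- the factorisation of the tensored comparison map -/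
theorem step_fac (hπ₀ : ∀ n : ℕ, (f ^ (n + 1) • 𝟙 (W₀.obj (op n))) ≫ π₀.app (op n) = 0) :
    Functor.whiskerRight (γ f (p ≫ π₀) (hρ_of f p π₀ hπ₀)) (tensorRight Y) =
      tenCone (twφ f Z₀) Y ≫
        coneMap (Functor.whiskerRight (twφ f Z₀) (tensorRight Y)) (twφ f (Z₀ ⋙ tensorRight Y))
          (twU Y f Z₀) (𝟙 _) (twU_comm Y f Z₀) ≫
        coneMap (twφ f (Z₀ ⋙ tensorRight Y)) (twφ f (W₀ ⋙ tensorRight Y))
          (twMap f (Functor.whiskerRight p (tensorRight Y))) (Functor.whiskerRight p (tensorRight Y))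
          (twMap_twφ f _) ≫
        γ f (Functor.whiskerRight π₀ (tensorRight Y)) (hπ_of f Y π₀ hπ₀) := by
  refine NatTrans.ext (funext fun n => ?_)
  obtain ⟨n⟩ := n
  have h0 : (f ^ (n + 1) • 𝟙 (Z₀.obj (op n))) ≫ (p ≫ π₀).app (op n) = 0 := hρ_of f p π₀ hπ₀ n
  show descZero (f ^ (n + 1) • 𝟙 (Z₀.obj (op n))) ((p ≫ π₀).app (op n)) h0 ▷ Y =
    (coneTensorIso (f ^ (n + 1) • 𝟙 (Z₀.obj (op n))) Y).hom ≫
      mappingCone.map ((f ^ (n + 1) • 𝟙 (Z₀.obj (op n))) ▷ Y)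
        (f ^ (n + 1) • 𝟙 (Z₀.obj (op n) ⊗ Y)) (𝟙 _) (𝟙 _)
        (congr_app (twU_comm Y f Z₀) (op n)) ≫
      mappingCone.map (f ^ (n + 1) • 𝟙 (Z₀.obj (op n) ⊗ Y)) (f ^ (n + 1) • 𝟙 (W₀.obj (op n) ⊗ Y))
        (p.app (op n) ▷ Y) (p.app (op n) ▷ Y)
        (congr_app (twMap_twφ f (Functor.whiskerRight p (tensorRight Y))) (op n)) ≫
      descZero (f ^ (n + 1) • 𝟙 (W₀.obj (op n) ⊗ Y)) (π₀.app (op n) ▷ Y) (hπ_of f Y π₀ hπ₀ n)
  rw [map_descZero, map_descZero, ← coneTensorIso_descZero _ _ h0 Y]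
  congr 1
  refine descZero_congr _ ?_ _
  rw [Category.id_comp, NatTrans.comp_app, comp_whiskerRight]

theorem step (hπ₀ : ∀ n : ℕ, (f ^ (n + 1) • 𝟙 (W₀.obj (op n))) ≫ π₀.app (op n) = 0)
    (hp : DerCA.IsProIso (Functor.whiskerRight (Functor.whiskerRight p (tensorRight Y))
      (Q (C := ModuleCat.{u} R))))
    (hγ : DerCA.IsProIso (Functor.whiskerRight
      (γ f (Functor.whiskerRight π₀ (tensorRight Y)) (hπ_of f Y π₀ hπ₀))
      (Q (C := ModuleCat.{u} R)))) :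
    DerCA.IsProIso (Functor.whiskerRight (Functor.whiskerRight
      (γ f (p ≫ π₀) (hρ_of f p π₀ hπ₀)) (tensorRight Y)) (Q (C := ModuleCat.{u} R))) := by
  rw [step_fac f Y p π₀ hπ₀, Functor.whiskerRight_comp, Functor.whiskerRight_comp,
    Functor.whiskerRight_comp]
  refine proIso_comp _ _ ?_ (proIso_comp _ _ ?_ (proIso_comp _ _ ?_ hγ))
  · haveI : ∀ n : ℕ, IsIso ((Functor.whiskerRight (tenCone (twφ f Z₀) Y)
        (Q (C := ModuleCat.{u} R))).app (op n)) := fun n =>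
      inferInstanceAs (IsIso (Q.map ((tenCone (twφ f Z₀) Y).app (op n))))
    exact proIso_of_isIso _
  · refine cone_proIso _ _ _ _ _ ?_ ?_
    · haveI : ∀ n : ℕ, IsIso ((Functor.whiskerRight (twU Y f Z₀)
          (Q (C := ModuleCat.{u} R))).app (op n)) := fun n =>
        inferInstanceAs (IsIso (Q.map ((twU Y f Z₀).app (op n))))
      exact proIso_of_isIso _
    · haveI : ∀ n : ℕ, IsIso ((Functor.whiskerRight (𝟙 (Z₀ ⋙ tensorRight Y))
          (Q (C := ModuleCat.{u} R))).app (op n)) := fun n =>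
        inferInstanceAs (IsIso (Q.map (𝟙 _)))
      exact proIso_of_isIso _
  · exact cone_proIso _ _ _ _ _ (proIso_tw f _ Q hp) hp

end Step

end Groth.Agent.Helper9.ProK3
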