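import Mathlib
import Groth.Prelude.Def_DerCA
import Groth.Prelude.Def_Koszul
import Groth.Agent.Helper9.ProK3
import Groth.Agent.Helper9.ProK5
import Groth.Agent.Helper6.TenCompute
import Groth.Agent.Helper3.KPerfA

/-!
# Koszul power systems and their comparison with the quotient systems
-/

set_option autoImplicit false
set_option linter.style.haveILetI false
set_option linter.unusedSectionVars false

universe u

open CategoryTheory CategoryTheory.Limits Opposite MonoidalCategory

namespace Groth.Agent.Helper9.ProK6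

open Groth.Agent.Helper9.ProK1 Groth.Agent.Helper9.ProK2 Groth.Agent.Helper9.ProK3
open Groth.Agent.Helper9.ProK4 Groth.Agent.Helper9.ProK5
open Groth.Agent.Helper6.TenCx Groth.Agent.Helper6.SingleTen Groth.Agent.Helper6.LTenAR2
open Groth.Agent.Helper6.EssTri Groth.Agent.Helper6.ProFive

attribute [local instance] HasDerivedCategory.standard

open DerivedCategory

variable {A : Type u} [CommRing A]

/-- the systems `n ↦ (A ⧸ (f₁^{n+1}, …, f_r^{n+1}))[0]` -/
noncomputable abbrev W (l : List A) : ℕᵒᵖ ⥤ DRing.Cx A := QS (bb l) (bb_anti l) ⋙ Sg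

/-- the projection `A ⧸ 𝔟_l(n) → A ⧸ 𝔟_{f :: l}(n)` -/
noncomputable abbrev π₀ (f : A) (l : List A) : W l ⟶ W (f :: l) :=
  Functor.whiskerRight (QSmap (bb_anti l) (bb_anti (f :: l)) (bb_le_cons f l)) Sg

lemma hπ₀ (f : A) (l : List A) (n : ℕ) :
    (f ^ (n + 1) • 𝟙 ((W l).obj (op n))) ≫ (π₀ f l).app (op n) = 0 := by
  rw [Linear.smul_comp, Category.id_comp]
  exact Groth.Agent.Helper6.LTenAR.smul_to_single_eq_zero (bb (f :: l) n) (f ^ (n + 1))
    (pow_mem_bb_cons f l n) _

section Gamma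

variable (Y : DRing.Cx A) (f : A) (l : List A)

lemma h1 (n : ℕ) : Epi ((Functor.whiskerRight (π₀ f l) (tensorRight Y)).app (op n)) :=
  epi_whisker Y (bb_le_cons f l n)

lemma h2 (n : ℕ) : (ShortComplex.mk (f ^ (n + 1) • 𝟙 ((W l ⋙ tensorRight Y).obj (op n)))
    ((Functor.whiskerRight (π₀ f l) (tensorRight Y)).app (op n))
    (hπ_of f Y (π₀ f l) (hπ₀ f l) n)).Exact :=
  exact_whisker Y (f ^ (n + 1)) (bb_le_cons f l n) (bb_cons f l n).le _

theorem h3 [IsNoetherianRing A] (a b : ℤ) (hY : DRing.VanishesOutside Y a b)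
    (hYf : ∀ i : ℤ, Module.Finite A (Y.X i)) (n : ℕ) :
    ∃ (m : ℕ) (h : n ≤ m),
      kernel.ι (f ^ (m + 1) • 𝟙 ((W l ⋙ tensorRight Y).obj (op m))) ≫
        (f ^ (m - n) • ARSys.tr (W l ⋙ tensorRight Y) h) = 0 := by
  have key : ∀ q : ℤ, ∃ m₀ : ℕ, ∀ m : ℕ, m₀ ≤ m → ∀ x : Y.X q,
      f ^ (m + 1) • x ∈ (bb l m • ⊤ : Submodule A (Y.X q)) →
        f ^ (m - n) • x ∈ (bb l n • ⊤ : Submodule A (Y.X q)) := fun q => by
    haveI := hYf q
    exact torsion_bound f l n
  choose m₀ hm₀ using key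
  refine ⟨max n ((Finset.Icc a b).sup m₀), le_max_left _ _, ?_⟩
  refine kernel_ι_comp_eq_zero _ _ (fun q y hy => ?_)
  show f ^ (max n ((Finset.Icc a b).sup m₀) - n) •
    ((Sg.map (ModuleCat.ofHom (Submodule.factor (bb_anti l (le_max_left n _)))) ▷ Y).f q).hom y = 0
  by_cases hq : q ∈ Finset.Icc a b
  · refine torsion_whisker Y (f ^ (max n ((Finset.Icc a b).sup m₀) + 1)) _
      (bb_anti l (le_max_left n _)) q ?_ y hy
    exact hm₀ q _ (le_trans (Finset.le_sup hq) (le_max_right _ _))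
  · have hz : IsZero (Y.X q) := by
      refine hY q ?_
      rw [Finset.mem_Icc, not_and_or, not_le, not_le] at hq
      exact hq
    haveI := ModuleCat.subsingleton_of_isZero (Groth.Agent.Helper6.LTenAR2.isZero_X (ModuleCat.of A (A ⧸ bb l n)) Y q hz)
    exact Subsingleton.elim _ _

theorem proIso_γπ [IsNoetherianRing A] (a b : ℤ) (hY : DRing.VanishesOutside Y a b)
    (hYf : ∀ i : ℤ, Module.Finite A (Y.X i)) :
    DerCA.IsProIso (Functor.whiskerRight
      (γ f (Functor.whiskerRight (π₀ f l) (tensorRight Y)) (hπ_of f Y (π₀ f l) (hπ₀ f l)))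
      (Q (C := ModuleCat.{u} A))) :=
  proIso_γ f _ _ (h1 Y f l) (h2 Y f l) (h3 Y f l a b hY hYf)

end Gamma

section Koszul

/-- the Koszul power systems `n ↦ K(f₁^{n+1}, …, f_r^{n+1})` -/
noncomputable def KK : List A → (ℕᵒᵖ ⥤ DRing.Cx A)
  | [] => (Functor.const _).obj
      ((CochainComplex.singleFunctor (ModuleCat.{u} A) 0).obj (ModuleCat.of A A))
  | f :: l => coneSys (twφ f (KK l))

lemma KK_obj : ∀ (l : List A) (n : ℕ),
    (KK l).obj (op n) = Koszul.koszul A (l.map (· ^ (n + 1)))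
  | [], _ => rfl
  | f :: l, n => by
    show CochainComplex.mappingCone (f ^ (n + 1) • 𝟙 ((KK l).obj (op n))) =
      CochainComplex.mappingCone (f ^ (n + 1) • 𝟙 (Koszul.koszul A (l.map (· ^ (n + 1)))))
    rw [KK_obj l n]

lemma kflat_koszul (l : List A) : KFlat (Koszul.koszul A l) :=
  kflat_of_boundedAbove_flat _ 0
    (fun i hi => Groth.Agent.Helper6.LTenAR.koszul_isZero l i (Or.inr hi))
    (fun i => Groth.Agent.Helper6.LTenAR.koszul_flat l i)

lemma kflat_KK (l : List A) (n : ℕ) : KFlat ((KK l).obj (op n)) := by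
  rw [KK_obj]
  exact kflat_koszul _

/-- the comparison `K(f^{n+1}) → A ⧸ (f^{n+1})` -/
noncomputable def pS : ∀ l : List A, KK l ⟶ W l
  | [] =>
    { app := fun n => Sg.map (ModuleCat.ofHom (Submodule.mkQ (bb ([] : List A) n.unop)))
      naturality := by
        intro a b g
        have h1 : (ModuleCat.ofHom (Submodule.mkQ (bb ([] : List A) b.unop)) :
            ModuleCat.of A A ⟶ (QS (bb ([] : List A)) (bb_anti [])).obj b) =
            (ModuleCat.ofHom (Submodule.mkQ (bb ([] : List A) a.unop)) :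
              ModuleCat.of A A ⟶ (QS (bb ([] : List A)) (bb_anti [])).obj a) ≫
              (QS (bb ([] : List A)) (bb_anti [])).map g := rfl
        exact (Category.id_comp _).trans ((congrArg Sg.map h1).trans (Sg.map_comp _ _)) }
  | f :: l => γ f (pS l ≫ π₀ f l) (hρ_of f (pS l) (π₀ f l) (hπ₀ f l))

lemma pS_cons (f : A) (l : List A) :
    pS (f :: l) = γ f (pS l ≫ π₀ f l) (hρ_of f (pS l) (π₀ f l) (hπ₀ f l)) := rfl

instance isIso_pS_nil (n : ℕᵒᵖ) : IsIso ((pS ([] : List A)).app n) := by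
  have hbij : Function.Bijective (Submodule.mkQ (bb ([] : List A) n.unop)) := by
    constructor
    · rw [← LinearMap.ker_eq_bot, Submodule.ker_mkQ]
      exact bb_nil _
    · exact Submodule.mkQ_surjective _
  haveI : IsIso (ModuleCat.ofHom (Submodule.mkQ (bb ([] : List A) n.unop))) :=
    (ConcreteCategory.isIso_iff_bijective _).2 hbij
  exact inferInstanceAs (IsIso (Sg.map (ModuleCat.ofHom (Submodule.mkQ (bb ([] : List A) n.unop)))))

variable (Y : DRing.Cx A)

/-- (B**) -/
theorem proIso_pS [IsNoetherianRing A] (a b : ℤ) (hY : DRing.VanishesOutside Y a b)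
    (hYf : ∀ i : ℤ, Module.Finite A (Y.X i)) : ∀ l : List A,
    DerCA.IsProIso (Functor.whiskerRight (Functor.whiskerRight (pS l) (tensorRight Y))
      (Q (C := ModuleCat.{u} A)))
  | [] => by
    haveI : ∀ n : ℕ, IsIso ((Functor.whiskerRight (Functor.whiskerRight (pS ([] : List A))
        (tensorRight Y)) (Q (C := ModuleCat.{u} A))).app (op n)) := fun n =>
      inferInstanceAs (IsIso (Q.map ((tensorRight Y).map ((pS ([] : List A)).app (op n)))))
    exact proIso_of_isIso _
  | f :: l => by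
    rw [pS_cons]
    exact step f Y (pS l) (π₀ f l) (hπ₀ f l) (proIso_pS a b hY hYf l)
      (proIso_γπ Y f l a b hY hYf)

end Koszul

section Final

/-- the comparison `K(f^{n+1}) → A ⧸ I^{n+1}` -/
noncomputable def pA (l : List A) (I : Ideal A) (hI : Ideal.ofList l = I) :
    KK l ⟶ CohIII.adicSystem I (ModuleCat.of A A) ⋙ Sg :=
  pS l ≫ Functor.whiskerRight (toAdic l I hI) Sg

theorem proIso_pA_tensorRight [IsNoetherianRing A] (Y : DRing.Cx A) (a b : ℤ)
    (hY : DRing.VanishesOutside Y a b) (hYf : ∀ i : ℤ, Module.Finite A (Y.X i))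
    (l : List A) (I : Ideal A) (hI : Ideal.ofList l = I) :
    DerCA.IsProIso (Functor.whiskerRight (Functor.whiskerRight (pA l I hI) (tensorRight Y))
      (Q (C := ModuleCat.{u} A))) := by
  unfold pA
  rw [Functor.whiskerRight_comp, Functor.whiskerRight_comp]
  refine proIso_comp _ _ (proIso_pS Y a b hY hYf l) ?_
  exact proIso_whisker Q _ (proIso_whisker (tensorRight Y) _
    (proIso_whisker Sg _ (proIso_toAdic l I hI)))

/-- braiding as a natural isomorphism of systems -/
noncomputable def brSys (X : ℕᵒᵖ ⥤ DRing.Cx A) (K : DRing.Cx A) :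
    X ⋙ tensorRight K ≅ X ⋙ tensorLeft K :=
  NatIso.ofComponents (fun n => DTen.braidCx (X.obj n) K) (by
    intro a b g
    show (X.map g ▷ K) ≫ (DTen.braidCx (X.obj b) K).hom =
      (DTen.braidCx (X.obj a) K).hom ≫ (K ◁ X.map g)
    have h := DTen.braidCx_naturality (X.map g) (𝟙 K)
    rwa [tensorHom_id, id_tensorHom] at h)

lemma brSys_nat {X X' : ℕᵒᵖ ⥤ DRing.Cx A} (p : X ⟶ X') (K : DRing.Cx A) :
    Functor.whiskerRight p (tensorRight K) ≫ (brSys X' K).hom =
      (brSys X K).hom ≫ Functor.whiskerRight p (tensorLeft K) := by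
  refine NatTrans.ext (funext fun n => ?_)
  show (p.app n ▷ K) ≫ (DTen.braidCx (X'.obj n) K).hom =
    (DTen.braidCx (X.obj n) K).hom ≫ (K ◁ p.app n)
  have h := DTen.braidCx_naturality (p.app n) (𝟙 K)
  rwa [tensorHom_id, id_tensorHom] at h

theorem proIso_tensorLeft_of_tensorRight {X X' : ℕᵒᵖ ⥤ DRing.Cx A} (p : X ⟶ X')
    (K : DRing.Cx A)
    (h : DerCA.IsProIso (Functor.whiskerRight (Functor.whiskerRight p (tensorRight K))
      (Q (C := ModuleCat.{u} A)))) :
    DerCA.IsProIso (Functor.whiskerRight (Functor.whiskerRight p (tensorLeft K))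
      (Q (C := ModuleCat.{u} A))) :=
  proIso_of_iso_arrow _ _ (Functor.isoWhiskerRight (brSys X K) Q)
    (Functor.isoWhiskerRight (brSys X' K) Q) (by
      show Functor.whiskerRight _ Q ≫ Functor.whiskerRight (brSys X' K).hom Q =
        Functor.whiskerRight (brSys X K).hom Q ≫ Functor.whiskerRight _ Q
      rw [← Functor.whiskerRight_comp, ← Functor.whiskerRight_comp, brSys_nat]) h

/-- the right unitor as a natural isomorphism of systems -/
noncomputable def ruSys (X : ℕᵒᵖ ⥤ DRing.Cx A) : X ⋙ tensorRight (𝟙_ (DRing.Cx A)) ≅ X :=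
  NatIso.ofComponents (fun n => ρ_ (X.obj n)) (by
    intro a b g
    exact rightUnitor_naturality (X.map g))

lemma ruSys_nat {X X' : ℕᵒᵖ ⥤ DRing.Cx A} (p : X ⟶ X') :
    Functor.whiskerRight p (tensorRight (𝟙_ (DRing.Cx A))) ≫ (ruSys X').hom =
      (ruSys X).hom ≫ p := by
  refine NatTrans.ext (funext fun n => ?_)
  exact rightUnitor_naturality (p.app n)

theorem proIso_of_tensorRight_unit {X X' : ℕᵒᵖ ⥤ DRing.Cx A} (p : X ⟶ X')
    (h : DerCA.IsProIso (Functor.whiskerRight (Functor.whiskerRight p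
      (tensorRight (𝟙_ (DRing.Cx A)))) (Q (C := ModuleCat.{u} A)))) :
    DerCA.IsProIso (Functor.whiskerRight p (Q (C := ModuleCat.{u} A))) :=
  proIso_of_iso_arrow _ _ (Functor.isoWhiskerRight (ruSys X) Q)
    (Functor.isoWhiskerRight (ruSys X') Q) (by
      show Functor.whiskerRight _ Q ≫ Functor.whiskerRight (ruSys X').hom Q =
        Functor.whiskerRight (ruSys X).hom Q ≫ Functor.whiskerRight _ Q
      rw [← Functor.whiskerRight_comp, ← Functor.whiskerRight_comp, ruSys_nat]) h

lemma unit_vanishesOutside : DRing.VanishesOutside (𝟙_ (DRing.Cx A)) 0 0 :=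
  Groth.Agent.Helper3.KPerfA.single_vanishesOutside (𝟙_ (ModuleCat.{u} A))

lemma unit_finite (i : ℤ) : Module.Finite A ((𝟙_ (DRing.Cx A)).X i) := by
  haveI : Module.Finite A (𝟙_ (ModuleCat.{u} A)) := inferInstanceAs (Module.Finite A A)
  haveI : Module.Free A (𝟙_ (ModuleCat.{u} A)) := inferInstanceAs (Module.Free A A)
  exact (Groth.Agent.Helper3.KPerfA.single_termwiseFiniteFree (𝟙_ (ModuleCat.{u} A)) i).1

lemma exists_list (I : Ideal A) (hI : I.FG) : ∃ l : List A, Ideal.ofList l = I := by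
  obtain ⟨s, hs⟩ := hI
  refine ⟨s.toList, ?_⟩
  rw [← hs]
  unfold Ideal.ofList
  congr 1
  ext x
  simp

theorem main [IsNoetherianRing A] [DTen.HasLTen A] (I : Ideal A) (K : DRing.Cx A) (a b : ℤ)
    (hK : DRing.VanishesOutside K a b) (hKf : ∀ i : ℤ, Module.Finite A (K.X i)) :
    DerCA.IsProIso (Functor.whiskerLeft
      (CohIII.adicSystem I (ModuleCat.of A A) ⋙
        HomologicalComplex.single (ModuleCat.{u} A) (ComplexShape.up ℤ) 0)
      (DTen.εLeft A K)) := by
  obtain ⟨l, hl⟩ := exists_list I (IsNoetherian.noetherian I)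
  have hA : DerCA.IsProIso (Functor.whiskerRight (pA l I hl) (Q (C := ModuleCat.{u} A))) :=
    proIso_of_tensorRight_unit _
      (proIso_pA_tensorRight _ 0 0 unit_vanishesOutside unit_finite l I hl)
  have hB : DerCA.IsProIso (Functor.whiskerRight (Functor.whiskerRight (pA l I hl)
      (tensorLeft K)) (Q (C := ModuleCat.{u} A))) :=
    proIso_tensorLeft_of_tensorRight _ K (proIso_pA_tensorRight K a b hK hKf l I hl)
  haveI hC : ∀ n : ℕ, IsIso ((Functor.whiskerLeft (KK l) (DTen.εLeft A K)).app (op n)) :=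
    fun n => Groth.Agent.Helper6.TenCompute.isIso_ε_of_kflat A K _ (Or.inr (kflat_KK l n))
  have hnat : Functor.whiskerRight (Functor.whiskerRight (pA l I hl) (Q (C := ModuleCat.{u} A)))
        ((DTen.LTen A).obj (Q.obj K)) ≫
      Functor.whiskerLeft (CohIII.adicSystem I (ModuleCat.of A A) ⋙ Sg) (DTen.εLeft A K) =
      Functor.whiskerLeft (KK l) (DTen.εLeft A K) ≫
        Functor.whiskerRight (Functor.whiskerRight (pA l I hl) (tensorLeft K))
          (Q (C := ModuleCat.{u} A)) := by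
    refine NatTrans.ext (funext fun n => ?_)
    exact (DTen.εLeft A K).naturality ((pA l I hl).app n)
  refine proIso_cancel_left _ _ (proIso_whisker ((DTen.LTen A).obj (Q.obj K)) _ hA) ?_
  rw [hnat]
  exact proIso_comp _ _ (proIso_of_isIso _) hB

end Final

end Groth.Agent.Helper9.ProK6
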