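import Mathlib
import Groth.Agent.Helper9.Van1
import Groth.Agent.Helper9.Shriek1

/-! Quantitative vanishing bound for `Rf_*` on `D_QCoh^{≤ 0}`: a scheme with affine diagonal covered
by `n` affine opens over an affine base has `R^m f_* = 0` for `m ≥ n`. -/

set_option autoImplicit false
set_option linter.style.haveILetI false
set_option linter.unusedVariables false
set_option linter.unusedSectionVars false
universe u

namespace Groth.Agent.Helper9.VanN

open CategoryTheory Limits AlgebraicGeometry Opposite TopologicalSpace DerivedCategory Pretriangulated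
open Groth.Agent.Helper9 Groth.Agent.Helper9.LCAff1 Groth.Agent.Helper9.QP2
  Groth.Agent.Helper9.QP3 Groth.Agent.Helper9.LC3 Groth.Agent.Helper9.Van1

attribute [local instance] HasDerivedCategory.standard

variable {X S : Scheme.{u}}

/-- union of `n ≥ 1` affine opens in a scheme with affine diagonal -/
theorem van_finset
    (hd : ∀ U V : X.Opens, IsAffineOpen U → IsAffineOpen V → IsAffineOpen (U ⊓ V)) :
    ∀ (n : ℕ) (s : Finset X.Opens), (∀ U ∈ s, IsAffineOpen U) → s.card ≤ n + 1 →
      Van (GU (s.sup id)) ((n : ℤ) + 1) := by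
  classical
  intro n
  induction n with
  | zero =>
    intro s hs hcard
    rcases s.eq_empty_or_nonempty with rfl | ⟨A, hA⟩
    · have : ((∅ : Finset X.Opens).sup id : X.Opens) = ⊥ := by simp
      rw [this]
      exact (van_affine ⊥ (isAffineOpen_bot X)).mono (by simp)
    · have hs' : s = {A} := by
        apply Finset.eq_singleton_iff_unique_mem.2
        refine ⟨hA, fun B hB => ?_⟩
        by_contra hne
        have : 2 ≤ s.card := Finset.one_lt_card.2 ⟨B, hB, A, hA, hne⟩
        omega
      rw [hs', Finset.sup_singleton, id]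
      exact (van_affine A (hs A hA)).mono (by simp)
  | succ n ih =>
    intro s hs hcard
    rcases s.eq_empty_or_nonempty with rfl | ⟨A, hA⟩
    · have : ((∅ : Finset X.Opens).sup id : X.Opens) = ⊥ := by simp
      rw [this]
      exact (van_affine ⊥ (isAffineOpen_bot X)).mono (by
        push_cast
        omega)
    · have hs' : s = insert A (s.erase A) := (Finset.insert_erase hA).symm
      have hcard' : (s.erase A).card ≤ n + 1 := by
        rw [Finset.card_erase_of_mem hA]
        omega
      have h1 : Van (GU A) 1 := van_affine A (hs A hA)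
      have h2 : Van (GU ((s.erase A).sup id)) ((n : ℤ) + 1) :=
        ih (s.erase A) (fun U hU => hs U (Finset.mem_of_mem_erase hU)) hcard'
      have h3 : Van (GU (A ⊓ (s.erase A).sup id)) ((n : ℤ) + 1) := by
        have e : A ⊓ (s.erase A).sup id = ((s.erase A).image (fun V => A ⊓ V)).sup id := by
          rw [Finset.sup_image, Finset.sup_inf_distrib_left]
          rfl
        rw [e]
        apply ih
        · intro U hU
          obtain ⟨V, hV, rfl⟩ := Finset.mem_image.1 hU
          exact hd A V (hs A hA) (hs V (Finset.mem_of_mem_erase hV))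
        · exact Finset.card_image_le.trans hcard'
      have h4 := Van.of_shortExact (mvS A ((s.erase A).sup id)) (mvS_shortExact A _) h3
        (Van.biprod h1 h2)
      rw [hs', Finset.sup_insert, id]
      refine Van.mono h4 ?_
      push_cast
      have : max (max (1 : ℤ) ((n : ℤ) + 1)) ((n : ℤ) + 1 + 1) = (n : ℤ) + 1 + 1 := by
        have : (0 : ℤ) ≤ n := Int.natCast_nonneg n
        rw [max_eq_right (by omega : (1 : ℤ) ≤ (n : ℤ) + 1), max_eq_right (by omega)]
      exact this.le

/-- affine base, `X` covered by `n + 1` affine opens, affine diagonal -/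
theorem rpush_vanishing_of_isAffine (f : X ⟶ S) [IsAffine S] [QuasiCompact f] [QuasiSeparated f]
    [DCoh.HasRpush f]
    (hd : ∀ U V : X.Opens, IsAffineOpen U → IsAffineOpen V → IsAffineOpen (U ⊓ V))
    (n : ℕ) (s : Finset X.Opens) (hs : ∀ U ∈ s, IsAffineOpen U) (hcard : s.card ≤ n + 1)
    (hcov : s.sup id = ⊤) :
    ∀ (E : DCoh.D X), DCoh.IsQCohD E → E.IsLE 0 → ∀ m : ℤ, (n : ℤ) + 1 ≤ m →
      IsZero (DCoh.HD ((DCoh.Rpush f).obj E) m) := by
  haveI : DCoh.HasLpull f := Groth.Agent.Helper9.Lpull1.hasLpull f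
  haveI := Groth.Agent.Helper4.SchAdj.isGrothendieckAbelian_modules X
  have hN : Van (GU (f ⁻¹ᵁ (⊤ : S.Opens))) ((n : ℤ) + 1) := by
    have h := van_finset hd n s hs hcard
    rw [hcov] at h
    exact h
  intro E hE hE0 m hm
  have hK : DCoh.IsQCohD ((DCoh.Rpush f).obj E) := QP7.isQCohD_Rpush f E hE
  haveI : (DCoh.HD ((DCoh.Rpush f).obj E) m).IsQuasicoherent := hK m
  apply isZero_of_sections_top
  intro s
  obtain ⟨ψ, rfl⟩ := (kk_bijective m _ hK ⊤ (isAffineOpen_top S)).2 s
  have hψ : ψ = 0 := by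
    let adj := Groth.Agent.Helper4.SchAdj.adj f
    let θ := QP4b.θ f ⊤ m
    have h1 : θ.inv ≫ (adj.homEquiv _ _).symm ψ = 0 := hN E hE hE0 m hm _
    have h2 : (adj.homEquiv _ _).symm ψ = 0 := (cancel_epi θ.inv).1 (h1.trans comp_zero.symm)
    have h3 : ψ = adj.homEquiv _ _ 0 := by
      rw [← h2, Equiv.apply_symm_apply]
    rw [h3, Adjunction.homEquiv_unit]
    have h4 : (DCoh.Rpush f).map (0 : (DCoh.Lpull f).obj (W (GU (⊤ : S.Opens)) m) ⟶ E) = 0 :=
      Groth.Agent.Helper4.RDerAdd.map_zero (Scheme.Modules.pushforward f) (DCoh.Rpush f)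
        ((DCoh.pushKh f).totalRightDerivedUnit DerivedCategory.Qh
          (HomotopyCategory.quasiIso X.Modules (ComplexShape.up ℤ))) _ _
    rw [h4, comp_zero]
  rw [hψ]
  exact kk_zero m _ ⊤

/-- amplitude form -/
theorem isLE_Rpush (f : X ⟶ S) [IsAffine S] [QuasiCompact f] [QuasiSeparated f]
    [DCoh.HasRpush f]
    (hd : ∀ U V : X.Opens, IsAffineOpen U → IsAffineOpen V → IsAffineOpen (U ⊓ V))
    (n : ℕ) (s : Finset X.Opens) (hs : ∀ U ∈ s, IsAffineOpen U) (hcard : s.card ≤ n + 1)
    (hcov : s.sup id = ⊤) (E : DCoh.D X) (hE : DCoh.IsQCohD E) (a : ℤ) [E.IsLE a] :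
    ((DCoh.Rpush f).obj E).IsLE (a + n) := by
  rw [isLE_iff]
  intro j hj
  exact Shriek1.isZero_HD_Rpush_of_isLE f ((n : ℤ) + 1)
    (rpush_vanishing_of_isAffine f hd n s hs hcard hcov) E hE a j (by omega)

end Groth.Agent.Helper9.VanN
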