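import Mathlib
import Groth.Agent.Helper9.VanN
import Groth.Agent.Helper9.QcPc1
import Groth.Agent.Helper1.LinEmb3
import Groth.Agent.Helper6.HProj

/-! `Rf_*` on `P^r_Y` over an affine base raises the amplitude by at most `r`. -/

set_option autoImplicit false
set_option linter.style.haveILetI false
set_option linter.unusedVariables false
set_option linter.unusedSectionVars false
universe u

namespace Groth.Agent.Helper9.ProjAmp

open CategoryTheory Limits AlgebraicGeometry Opposite TopologicalSpace DerivedCategory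
open Groth.Agent.Helper1.LinEmb Groth.Agent.Helper1.Segre

attribute [local instance] HasDerivedCategory.standard

variable (Y : Scheme.{u}) (r : ℕ)

lemma isAffineOpen_DS [IsAffine Y] (k : Fin (r + 1)) : IsAffineOpen (DS Y k) := by
  haveI : IsAffineHom (specULiftZIsTerminal.from Y) := inferInstance
  haveI : IsAffineHom (prZ' Y r) := by
    unfold prZ'
    exact MorphismProperty.pullback_fst _ _ ‹_›
  unfold DS
  exact (Proj.isAffineOpen_basicOpen (CohB1.polyGrading r (ULift.{u} ℤ)) (MvPolynomial.X k)
    (hX k) one_pos).preimage (prZ' Y r)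

lemma isSeparated_projSpaceOver [IsAffine Y] : (CohB1.ProjSpaceOver r Y).IsSeparated := by
  haveI := Groth.Agent.Helper6.HProj.isProper_toBase r Y
  haveI : IsSeparated (terminal.from Y) := inferInstance
  have : terminal.from (CohB1.ProjSpaceOver r Y) =
      CohB1.ProjSpaceOver.toBase r Y ≫ terminal.from Y := terminal.hom_ext _ _
  constructor
  rw [this]
  infer_instance

lemma affine_inf [IsAffine Y] (U V : (CohB1.ProjSpaceOver r Y).Opens) (hU : IsAffineOpen U)
    (hV : IsAffineOpen V) : IsAffineOpen (U ⊓ V) := by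
  haveI := isSeparated_projSpaceOver Y r
  haveI : IsAffineHom (pullback.diagonal (terminal.from (CohB1.ProjSpaceOver r Y))) :=
    inferInstance
  exact hU.inf hV

theorem main [IsAffine Y] [DCoh.HasRpush (CohB1.ProjSpaceOver.toBase r Y)]
    (E : DCoh.D (CohB1.ProjSpaceOver r Y)) (hE : ∀ m : ℤ, DCoh.IsPseudoCoherentD m E)
    (a : ℤ) [E.IsLE a] :
    ((DCoh.Rpush (CohB1.ProjSpaceOver.toBase r Y)).obj E).IsLE (a + r) := by
  classical
  haveI := Groth.Agent.Helper6.HProj.isProper_toBase r Y
  have hq : DCoh.IsQCohD E := Groth.Agent.Helper9.QcPc1.isQCohD_of_pc E hE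
  let s : Finset (CohB1.ProjSpaceOver r Y).Opens := Finset.univ.image (fun k : Fin (r + 1) => DS Y k)
  have hs : ∀ U ∈ s, IsAffineOpen U := by
    intro U hU
    obtain ⟨k, -, rfl⟩ := Finset.mem_image.1 hU
    exact isAffineOpen_DS Y r k
  have hcard : s.card ≤ r + 1 := by
    refine Finset.card_image_le.trans ?_
    simp
  have hcov : s.sup id = ⊤ := by
    rw [Finset.sup_image, ← iSup_DS Y r]
    simp [Finset.sup_univ_eq_iSup]
  exact Groth.Agent.Helper9.VanN.isLE_Rpush (CohB1.ProjSpaceOver.toBase r Y) (affine_inf Y r) r s hs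
    hcard hcov E hq a

end Groth.Agent.Helper9.ProjAmp
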