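import Mathlib
import Groth.Agent.Helper9.DProd

/-! Lifting maps from bounded complexes of projectives along maps which are
isomorphisms on high cohomology. -/

set_option autoImplicit false
universe w v u
open CategoryTheory CategoryTheory.Limits CategoryTheory.Pretriangulated

namespace Groth.Agent.Helper9.ProjLift

open CochainComplex HomComplex

variable {A : Type u} [Category.{v} A] [Abelian A]

section

variable [HasDerivedCategory.{w} A]

/-- Chain maps out of a K-projective complex which agree in `D(A)` are homotopic. -/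
lemma homotopy_of_Q_map_eq_of_isKProjective (P L : CochainComplex A ℤ) [P.IsKProjective]
    (φ ψ : P ⟶ L) (h : DerivedCategory.Q.map φ = DerivedCategory.Q.map ψ) :
    Nonempty (Homotopy φ ψ) := by
  have h2 : DerivedCategory.Qh.map ((HomotopyCategory.quotient _ _).map φ) =
      DerivedCategory.Qh.map ((HomotopyCategory.quotient _ _).map ψ) := by
    have h1 := DerivedCategory.quotientCompQhIso_hom_naturality φ
    have h1' := DerivedCategory.quotientCompQhIso_hom_naturality ψ
    rw [← cancel_mono ((DerivedCategory.quotientCompQhIso _).hom.app L), h1, h1', h]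
  have := (CochainComplex.IsKProjective.Qh_map_bijective P
    ((HomotopyCategory.quotient _ _).obj L)).injective h2
  exact ⟨HomotopyCategory.homotopyOfEq _ _ this⟩

/-- the cone of a map which is an iso on `H^i` for `i > n` and epi on `H^n` is `≤ n - 1` -/
lemma isLE_mappingCone {E L : CochainComplex A ℤ} (α : E ⟶ L) (n : ℤ)
    (hiso : ∀ i : ℤ, n < i → IsIso (HomologicalComplex.homologyMap α i))
    (hepi : Epi (HomologicalComplex.homologyMap α n)) :
    (mappingCone α).IsLE (n - 1) := by
  have hT : DerivedCategory.Q.mapTriangle.obj (mappingCone.triangle α) ∈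
      distTriang (DerivedCategory A) := by
    rw [DerivedCategory.mem_distTriang_iff]
    exact ⟨_, _, α, ⟨Iso.refl _⟩⟩
  rw [CochainComplex.isLE_iff]
  intro i hi
  rw [HomologicalComplex.exactAt_iff_isZero_homology]
  have hepi' : Epi (HomologicalComplex.homologyMap α i) := by
    by_cases h : i = n
    · subst h; exact hepi
    · have := hiso i (by omega)
      infer_instance
  have hmono : Mono (HomologicalComplex.homologyMap α (i + 1)) := by
    have := hiso (i + 1) (by omega)
    infer_instance
  have e3 := CochainComplex.homologyMap_exact₃_of_distTriang (mappingCone.triangle α) hT i (i + 1) rfl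
  have z2 := CochainComplex.homologyMap_comp_eq_zero_of_distTriang (mappingCone.triangle α) hT i
  have z1 := CochainComplex.homologyδOfTriangle_homologyMap (mappingCone.triangle α) hT i (i + 1) rfl
  apply e3.isZero_of_both_zeros
  · exact (cancel_epi (HomologicalComplex.homologyMap α i)).1 (z2.trans comp_zero.symm)
  · exact (cancel_mono (HomologicalComplex.homologyMap α (i + 1))).1 (z1.trans zero_comp.symm)

/-- no maps in `D(A)` from a K-projective complex in degrees `≥ n` to a complex `≤ n - 1` -/
lemma hom_eq_zero (P C : CochainComplex A ℤ) [P.IsKProjective] (n : ℤ) [P.IsStrictlyGE n]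
    [C.IsLE (n - 1)] (φ : DerivedCategory.Q.obj P ⟶ DerivedCategory.Q.obj C) : φ = 0 := by
  have hq : QuasiIso (C.ιTruncLE (n - 1)) := (C.quasiIso_ιTruncLE_iff (n - 1)).mpr inferInstance
  have hiso : IsIso (DerivedCategory.Q.map (C.ιTruncLE (n - 1))) :=
    (DerivedCategory.isIso_Q_map_iff_quasiIso A _).mpr hq
  obtain ⟨ψ, hψ⟩ := PerfCone.exists_map_eq_of_isKProjective P (C.truncLE (n - 1))
    (φ ≫ inv (DerivedCategory.Q.map (C.ιTruncLE (n - 1))))
  have hψ0 : ψ = 0 := by
    ext i
    by_cases h : i < n
    · exact (P.isZero_of_isStrictlyGE n i h).eq_of_src _ _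
    · exact ((C.truncLE (n - 1)).isZero_of_isStrictlyLE (n - 1) i (by omega)).eq_of_tgt _ _
  rw [hψ0, Functor.map_zero] at hψ
  rw [← cancel_mono (inv (DerivedCategory.Q.map (C.ιTruncLE (n - 1)))), ← hψ, zero_comp]

theorem exists_lift' (P E L : CochainComplex A ℤ) (β : P ⟶ L) (α : E ⟶ L) (n b : ℤ)
    [P.IsStrictlyGE n] [P.IsStrictlyLE b]
    (hP : ∀ i : ℤ, Projective (P.X i))
    (hiso : ∀ i : ℤ, n < i → IsIso (HomologicalComplex.homologyMap α i))
    (hepi : Epi (HomologicalComplex.homologyMap α n)) :
    ∃ γ : P ⟶ E, Nonempty (Homotopy (γ ≫ α) β) := by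
  haveI : P.IsKProjective := CochainComplex.isKProjective_of_projective P b
  haveI := isLE_mappingCone α n hiso hepi
  have hT : DerivedCategory.Q.mapTriangle.obj (mappingCone.triangle α) ∈
      distTriang (DerivedCategory A) := by
    rw [DerivedCategory.mem_distTriang_iff]
    exact ⟨_, _, α, ⟨Iso.refl _⟩⟩
  obtain ⟨γ', hγ'⟩ := Triangle.coyoneda_exact₂ _ hT (DerivedCategory.Q.map β)
    (hom_eq_zero P (mappingCone α) n _)
  obtain ⟨γ, hγ⟩ := PerfCone.exists_map_eq_of_isKProjective P E γ'
  refine ⟨γ, ?_⟩
  apply homotopy_of_Q_map_eq_of_isKProjective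
  rw [Functor.map_comp, hγ]
  exact hγ'.symm

end

theorem exists_lift (P E L : CochainComplex A ℤ) (β : P ⟶ L) (α : E ⟶ L) (n b : ℤ)
    [P.IsStrictlyGE n] [P.IsStrictlyLE b]
    (hP : ∀ i : ℤ, Projective (P.X i))
    (hiso : ∀ i : ℤ, n < i → IsIso (HomologicalComplex.homologyMap α i))
    (hepi : Epi (HomologicalComplex.homologyMap α n)) :
    ∃ γ : P ⟶ E, Nonempty (Homotopy (γ ≫ α) β) := by
  letI : HasDerivedCategory.{max u v} A := HasDerivedCategory.standard A
  exact exists_lift' P E L β α n b hP hiso hepi

end Groth.Agent.Helper9.ProjLift
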