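import Mathlib
import Groth.Prelude.Def_SGA1
import Groth.Agent.Helper6.QuotSpec
import Groth.Agent.Helper9.QuotCharts

/-!
# `Proj B → Proj B^G` is a quotient by `G`

Graded-algebra lemmas (invariants of the degree zero localisations, covering by invariant charts)
and the chartwise assembly through `QuotCharts.isQuot_of_charts`.
-/

universe u

namespace Groth.Agent.Helper9.ProjQuot

open HomogeneousLocalization

section Compat

variable {ι A B σ τ : Type*} [CommRing A] [CommRing B] [SetLike σ A] [SetLike τ B]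
  [AddSubgroupClass σ A] [AddSubgroupClass τ B] [AddCommMonoid ι] [DecidableEq ι]
  {𝒜 : ι → σ} {ℬ : ι → τ} [GradedRing 𝒜] [GradedRing ℬ]

theorem away_map_compat (g : 𝒜 →+*ᵍ ℬ) {d : ι} (f : A) (hf : f ∈ 𝒜 d) :
    (algebraMap (Away ℬ (g f)) (Localization.Away (g f))).comp (Away.map g f) =
      (Localization.awayMap g.toRingHom f).comp
        (algebraMap (Away 𝒜 f) (Localization.Away f)) := by
  ext x
  obtain ⟨n, a, ha, rfl⟩ := Away.mk_surjective 𝒜 hf x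
  simp only [RingHom.coe_comp, Function.comp_apply, Away.map_mk]
  rw [HomogeneousLocalization.algebraMap_apply, HomogeneousLocalization.algebraMap_apply,
    Away.val_mk, Away.val_mk, Localization.mk_eq_mk', Localization.mk_eq_mk']
  erw [IsLocalization.map_mk']
  congr 1
  ext
  simp

end Compat

section Setup

variable {R A : Type u} [CommRing R] [CommRing A] [Algebra R A] (𝒜 : ℕ → Submodule R A)
  [GradedAlgebra 𝒜] {G : Type u} [Group G] [MulSemiringAction G A]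
  (hGdeg : ∀ (σ : G) (i : ℕ) (a : A), a ∈ 𝒜 i → σ • a ∈ 𝒜 i)
  {C : Type u} [CommRing C] [Algebra R C] (𝒞 : ℕ → Submodule R C) [GradedAlgebra 𝒞]
  (ι : C →ₐ[R] A)
  (hιdeg : ∀ (i : ℕ) (a : A), a ∈ (𝒞 i).map ι.toLinearMap ↔ (a ∈ 𝒜 i ∧ ∀ σ : G, σ • a = a))

/-- the action of `σ` as a graded ring endomorphism -/
def actHom (σ : G) : 𝒜 →+*ᵍ 𝒜 :=
  { MulSemiringAction.toRingHom G A σ with map_mem := fun {i x} hx => hGdeg σ i x hx }

@[simp] theorem actHom_apply (σ : G) (a : A) : actHom 𝒜 hGdeg σ a = σ • a := rfl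

include hιdeg in
theorem incl_mem {i : ℕ} {c : C} (hc : c ∈ 𝒞 i) : ι c ∈ 𝒜 i :=
  ((hιdeg i (ι c)).mp (Submodule.mem_map_of_mem hc)).1

/-- the inclusion of the invariants as a graded ring homomorphism -/
def incl : 𝒞 →+*ᵍ 𝒜 :=
  { ι.toRingHom with map_mem := fun {_ _} hx => incl_mem 𝒜 𝒞 ι hιdeg hx }

@[simp] theorem incl_apply (c : C) : incl 𝒜 𝒞 ι hιdeg c = ι c := rfl

/-- the map `C_(c) → A_(ι c)` induced by `ι` -/
def inclAway (c : C) : Away 𝒞 c →+* Away 𝒜 (ι c) := Away.map (incl 𝒜 𝒞 ι hιdeg) c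

theorem inclAway_mk {n : ℕ} (c : C) (hc : c ∈ 𝒞 n) (k : ℕ) (a : C) (ha : a ∈ 𝒞 (k • n)) :
    inclAway 𝒜 𝒞 ι hιdeg c (Away.mk 𝒞 hc k a ha) =
      Away.mk 𝒜 (incl_mem 𝒜 𝒞 ι hιdeg hc) k (ι a) (incl_mem 𝒜 𝒞 ι hιdeg ha) :=
  Away.map_mk (incl 𝒜 𝒞 ι hιdeg) c hc k a ha

theorem inclAway_compat {n : ℕ} (c : C) (hc : c ∈ 𝒞 n) :
    (algebraMap (Away 𝒜 (ι c)) (Localization.Away (ι c))).comp (inclAway 𝒜 𝒞 ι hιdeg c) =
      (Localization.awayMap ι.toRingHom c).comp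
        (algebraMap (Away 𝒞 c) (Localization.Away c)) :=
  away_map_compat (incl 𝒜 𝒞 ι hιdeg) c hc

include hιdeg in
theorem smul_incl (σ : G) (c : C) : σ • ι c = ι c := by
  induction c using DirectSum.Decomposition.inductionOn 𝒞 with
  | zero => simp
  | homogeneous c => exact ((hιdeg _ (ι c)).mp (Submodule.mem_map_of_mem c.2)).2 σ
  | add a b ha hb => rw [map_add, smul_add, ha, hb]

include hGdeg in
theorem smul_decompose (σ : G) (a : A) (i : ℕ) :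
    σ • (DirectSum.decompose 𝒜 a i : A) = (DirectSum.decompose 𝒜 (σ • a) i : A) :=
  (actHom 𝒜 hGdeg σ).map_directSumDecompose

include hιdeg in
/-- an invariant homogeneous element lies in the image of `ι` -/
theorem exists_incl_eq {i : ℕ} {a : A} (ha : a ∈ 𝒜 i) (hinv : ∀ σ : G, σ • a = a) :
    ∃ c ∈ 𝒞 i, ι c = a := by
  obtain ⟨c, hc, hca⟩ := (hιdeg i a).mpr ⟨ha, hinv⟩
  exact ⟨c, hc, hca⟩

variable [Finite G]

include hGdeg hιdeg in
/-- The basic opens `D₊(ι c)` cover `Proj 𝒜`: algebraic form. -/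
theorem exists_incl_notMem (𝔭 : Ideal A) [𝔭.IsPrime]
    (h𝔭 : ¬ (HomogeneousIdeal.irrelevant 𝒜).toIdeal ≤ 𝔭) :
    ∃ n : ℕ, 0 < n ∧ ∃ c ∈ 𝒞 n, ι c ∉ 𝔭 := by
  classical
  cases nonempty_fintype G
  by_contra hcon
  push Not at hcon
  apply h𝔭
  set I := (HomogeneousIdeal.irrelevant 𝒜).toIdeal with hI
  -- invariant elements of the irrelevant ideal are in 𝔭
  have claim1 : ∀ a ∈ I, (∀ σ : G, σ • a = a) → a ∈ 𝔭 := by
    intro a ha hinv
    rw [← DirectSum.sum_support_decompose 𝒜 a]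
    refine Ideal.sum_mem _ fun i _ => ?_
    by_cases hi : i = 0
    · subst hi
      have : (DirectSum.decompose 𝒜 a 0 : A) = 0 :=
        (HomogeneousIdeal.mem_irrelevant_iff 𝒜 a).mp ha
      rw [this]; exact zero_mem _
    · have hinv' : ∀ σ : G, σ • (DirectSum.decompose 𝒜 a i : A) = DirectSum.decompose 𝒜 a i := by
        intro σ
        rw [smul_decompose 𝒜 hGdeg, hinv]
      obtain ⟨c, hc, hca⟩ := exists_incl_eq 𝒜 𝒞 ι hιdeg (DirectSum.decompose 𝒜 a i).2 hinv'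
      rw [← hca]
      exact hcon i (Nat.pos_of_ne_zero hi) c hc
  -- the irrelevant ideal is stable
  have claim2 : ∀ (σ : G) (a : A), a ∈ I → σ • a ∈ I := by
    intro σ a ha
    have h0 : (DirectSum.decompose 𝒜 a 0 : A) = 0 :=
      (HomogeneousIdeal.mem_irrelevant_iff 𝒜 a).mp ha
    refine (HomogeneousIdeal.mem_irrelevant_iff 𝒜 _).mpr ?_
    change (DirectSum.decompose 𝒜 (σ • a) 0 : A) = 0
    rw [← smul_decompose 𝒜 hGdeg, h0, smul_zero]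
  -- norms
  have claim3 : ∀ a ∈ I, ∃ σ : G, σ • a ∈ 𝔭 := by
    intro a ha
    have h1 : (∏ σ : G, σ • a) ∈ I := by
      rw [← Finset.mul_prod_erase Finset.univ (fun σ : G => σ • a) (Finset.mem_univ 1), one_smul]
      exact Ideal.mul_mem_right _ _ ha
    have h2 : ∀ τ : G, τ • (∏ σ : G, σ • a) = ∏ σ : G, σ • a := by
      intro τ
      rw [Finset.smul_prod']
      simp_rw [← mul_smul]
      exact Fintype.prod_equiv (Equiv.mulLeft τ) _ _ (fun σ => rfl)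
    have h3 := claim1 _ h1 h2
    obtain ⟨σ, -, hσ⟩ := (Ideal.IsPrime.prod_mem_iff (p := 𝔭)).mp h3
    exact ⟨σ, hσ⟩
  have claim4 : (I : Set A) ⊆ ⋃ σ ∈ ((Finset.univ : Finset G) : Set G),
      (𝔭.comap (MulSemiringAction.toRingHom G A σ) : Set A) := by
    intro a ha
    obtain ⟨σ, hσ⟩ := claim3 a ha
    exact Set.mem_biUnion (Finset.mem_coe.mpr (Finset.mem_univ σ)) hσ
  obtain ⟨σ, -, hσ⟩ := (Ideal.subset_union_prime (1 : G) (1 : G)
    (fun σ _ _ _ => Ideal.comap_isPrime _ _)).mp claim4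
  intro a ha
  have h1 := hσ (claim2 σ⁻¹ a ha)
  change σ • σ⁻¹ • a ∈ 𝔭 at h1
  rwa [smul_inv_smul] at h1

omit [Finite G] in
theorem inclAway_injective (hι : Function.Injective ι) {n : ℕ} (c : C) (hc : c ∈ 𝒞 n) :
    Function.Injective (inclAway 𝒜 𝒞 ι hιdeg c) := by
  have h1 := inclAway_compat 𝒜 𝒞 ι hιdeg c hc
  have h2 : Function.Injective (Localization.awayMap ι.toRingHom c) := by
    rw [Localization.awayMap_injective_iff]
    intro a ha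
    refine ⟨0, ?_⟩
    have : ι a = 0 := ha
    rw [pow_zero, one_mul]
    exact hι (this.trans (map_zero ι).symm)
  intro x y hxy
  apply HomogeneousLocalization.val_injective
  apply h2
  have e1 := congrArg (fun φ => φ x) h1
  have e2 := congrArg (fun φ => φ y) h1
  simp only [RingHom.coe_comp, Function.comp_apply, HomogeneousLocalization.algebraMap_apply] at e1 e2
  rw [← e1, ← e2, hxy]

/-- the action of `σ` on the degree zero part of `A_f` for an invariant `f` -/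
def actAway (f : A) (hfix : ∀ σ : G, σ • f = f) (σ : G) : Away 𝒜 f →+* Away 𝒜 f :=
  HomogeneousLocalization.map (actHom 𝒜 hGdeg σ) (by
    rintro _ ⟨k, rfl⟩
    exact ⟨k, by simp [hfix σ]⟩)

omit [Finite G] in
theorem actAway_mk (f : A) (hfix : ∀ σ : G, σ • f = f) (σ : G) {d : ℕ} (hf : f ∈ 𝒜 d) (k : ℕ)
    (a : A) (ha : a ∈ 𝒜 (k • d)) :
    actAway 𝒜 hGdeg f hfix σ (Away.mk 𝒜 hf k a ha) =
      Away.mk 𝒜 hf k (σ • a) (hGdeg σ _ a ha) := by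
  apply HomogeneousLocalization.val_injective
  simp only [actAway, Away.mk, HomogeneousLocalization.map_mk, HomogeneousLocalization.val_mk]
  simp [hfix σ]

include hιdeg in
theorem mem_range_of_invariant {n : ℕ} (c : C) (hc : c ∈ 𝒞 n)
    (y : Away 𝒜 (ι c))
    (hy : ∀ σ : G, actAway 𝒜 hGdeg (ι c) (fun σ => smul_incl 𝒜 𝒞 ι hιdeg σ c) σ y = y) :
    y ∈ Set.range (inclAway 𝒜 𝒞 ι hιdeg c) := by
  classical
  cases nonempty_fintype G
  have hf : ι c ∈ 𝒜 n := incl_mem 𝒜 𝒞 ι hιdeg hc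
  have hfix : ∀ σ : G, σ • ι c = ι c := fun σ => smul_incl 𝒜 𝒞 ι hιdeg σ c
  obtain ⟨k, b, hb, rfl⟩ := Away.mk_surjective 𝒜 hf y
  -- for each σ an exponent killing the difference
  have hex : ∀ σ : G, ∃ m : ℕ, (ι c) ^ m * (σ • b) = (ι c) ^ m * b := by
    intro σ
    have h1 := congrArg HomogeneousLocalization.val (hy σ)
    rw [actAway_mk, Away.val_mk, Away.val_mk, Localization.mk_eq_mk_iff,
      Localization.r_iff_exists] at h1
    obtain ⟨⟨_, m, rfl⟩, hm⟩ := h1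
    refine ⟨m + k, ?_⟩
    simp only at hm
    rw [pow_add, mul_assoc, mul_assoc]
    linear_combination hm
  choose m hm using hex
  set M := Finset.univ.sup m with hM
  have hM' : ∀ σ : G, (ι c) ^ M * (σ • b) = (ι c) ^ M * b := by
    intro σ
    obtain ⟨j, hj⟩ := Nat.exists_eq_add_of_le (Finset.le_sup (f := m) (Finset.mem_univ σ))
    rw [← hM] at hj
    rw [hj, pow_add, mul_comm ((ι c) ^ m σ), mul_assoc, mul_assoc, hm σ]
  have hb' : (ι c) ^ M * b ∈ 𝒜 ((M + k) • n) := by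
    rw [add_smul]
    exact SetLike.mul_mem_graded (SetLike.pow_mem_graded M hf) hb
  have hinv' : ∀ σ : G, σ • ((ι c) ^ M * b) = (ι c) ^ M * b := by
    intro σ
    rw [smul_mul', smul_pow', hfix σ, hM' σ]
  obtain ⟨a', ha', ha'b⟩ := exists_incl_eq 𝒜 𝒞 ι hιdeg hb' hinv'
  refine ⟨Away.mk 𝒞 hc (M + k) a' ha', ?_⟩
  rw [inclAway_mk]
  apply HomogeneousLocalization.val_injective
  rw [Away.val_mk, Away.val_mk, Localization.mk_eq_mk_iff, Localization.r_iff_exists]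
  refine ⟨1, ?_⟩
  simp only [OneMemClass.coe_one, one_mul]
  rw [ha'b, pow_add]
  ring

end Setup

section Geom

open AlgebraicGeometry CategoryTheory

variable {R A : Type u} [CommRing R] [CommRing A] [Algebra R A] (𝒜 : ℕ → Submodule R A)
  [GradedAlgebra 𝒜] {G : Type u} [Group G] [MulSemiringAction G A]
  (hGdeg : ∀ (σ : G) (i : ℕ) (a : A), a ∈ 𝒜 i → σ • a ∈ 𝒜 i)
  {C : Type u} [CommRing C] [Algebra R C] (𝒞 : ℕ → Submodule R C) [GradedAlgebra 𝒞]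
  (ι : C →ₐ[R] A)
  (hιdeg : ∀ (i : ℕ) (a : A), a ∈ (𝒞 i).map ι.toLinearMap ↔ (a ∈ 𝒜 i ∧ ∀ σ : G, σ • a = a))

omit [Algebra R A] in
theorem chart_transport {σ' : Type*} [SetLike σ' A] [AddSubgroupClass σ' A] (𝒜 : ℕ → σ')
    [GradedRing 𝒜] (r : Proj 𝒜 ⟶ Proj 𝒜) (s : A → A) {n : ℕ} (hn : 0 < n)
    (hs : ∀ i a, a ∈ 𝒜 i → s a ∈ 𝒜 i)
    (f f' : A) (e : f' = f) (hf : f ∈ 𝒜 n) (hf' : f' ∈ 𝒜 n)
    (θ : CommRingCat.of (Away 𝒜 f) ⟶ CommRingCat.of (Away 𝒜 f'))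
    (θ' : CommRingCat.of (Away 𝒜 f) ⟶ CommRingCat.of (Away 𝒜 f))
    (hθ : ∀ k a (ha : a ∈ 𝒜 (k • n)),
      θ.hom (Away.mk 𝒜 hf k a ha) = Away.mk 𝒜 hf' k (s a) (hs _ a ha))
    (hθ' : ∀ k a (ha : a ∈ 𝒜 (k • n)),
      θ'.hom (Away.mk 𝒜 hf k a ha) = Away.mk 𝒜 hf k (s a) (hs _ a ha))
    (H : Proj.awayι 𝒜 f' hf' hn ≫ r = Spec.map θ ≫ Proj.awayι 𝒜 f hf hn) :
    Proj.awayι 𝒜 f hf hn ≫ r = Spec.map θ' ≫ Proj.awayι 𝒜 f hf hn := by
  subst e
  have : θ = θ' := by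
    ext y
    obtain ⟨k, a, ha, rfl⟩ := Away.mk_surjective 𝒜 hf y
    rw [hθ, hθ']
  rw [← this]; exact H

variable (ρ : G →* Aut (Proj 𝒜))
    (hρ : ∀ (σ : G) (n : ℕ) (f : A) (hn : 0 < n) (hf : f ∈ 𝒜 n)
      (θ : CommRingCat.of (HomogeneousLocalization.Away 𝒜 f) ⟶ CommRingCat.of (HomogeneousLocalization.Away 𝒜 (σ • f))),
      (algebraMap (HomogeneousLocalization.Away 𝒜 (σ • f)) (Localization.Away (σ • f))).comp θ.hom =
        (Localization.awayMap (MulSemiringAction.toRingHom G A σ) f).comp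
          (algebraMap (HomogeneousLocalization.Away 𝒜 f) (Localization.Away f)) →
      Proj.awayι 𝒜 (σ • f) (hGdeg σ n f hf) hn ≫ (ρ σ).inv = Spec.map θ ≫ Proj.awayι 𝒜 f hf hn)
    (π : Proj 𝒜 ⟶ Proj 𝒞)
    (hπ : ∀ (n : ℕ) (c : C) (hn : 0 < n) (hc : c ∈ 𝒞 n)
      (θ : CommRingCat.of (HomogeneousLocalization.Away 𝒞 c) ⟶ CommRingCat.of (HomogeneousLocalization.Away 𝒜 (ι c))),
      (algebraMap (HomogeneousLocalization.Away 𝒜 (ι c)) (Localization.Away (ι c))).comp θ.hom =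
        (Localization.awayMap ι.toRingHom c).comp
          (algebraMap (HomogeneousLocalization.Away 𝒞 c) (Localization.Away c)) →
      Proj.awayι 𝒜 (ι c) ((hιdeg n (ι c)).mp (Submodule.mem_map_of_mem hc)).1 hn ≫ π =
        Spec.map θ ≫ Proj.awayι 𝒞 c hc hn)

include hπ in
theorem pi_chart {n : ℕ} (hn : 0 < n) (c : C) (hc : c ∈ 𝒞 n) :
    Proj.awayι 𝒜 (ι c) (incl_mem 𝒜 𝒞 ι hιdeg hc) hn ≫ π =
      Spec.map (CommRingCat.ofHom (inclAway 𝒜 𝒞 ι hιdeg c)) ≫ Proj.awayι 𝒞 c hc hn :=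
  hπ n c hn hc (CommRingCat.ofHom (inclAway 𝒜 𝒞 ι hιdeg c))
    (inclAway_compat 𝒜 𝒞 ι hιdeg c hc)

include hρ in
theorem rho_inv_chart (σ : G) {n : ℕ} (hn : 0 < n) (f : A) (hf : f ∈ 𝒜 n)
    (hfix : ∀ τ : G, τ • f = f) :
    Proj.awayι 𝒜 f hf hn ≫ (ρ σ).inv =
      Spec.map (CommRingCat.ofHom (actAway 𝒜 hGdeg f hfix σ)) ≫ Proj.awayι 𝒜 f hf hn := by
  refine chart_transport 𝒜 (ρ σ).inv (fun a => σ • a) hn (fun i a ha => hGdeg σ i a ha) f (σ • f)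
    (hfix σ) hf (hGdeg σ n f hf)
    (CommRingCat.ofHom (Away.map (actHom 𝒜 hGdeg σ) f)) _ ?_ ?_ ?_
  · intro k a ha
    exact Away.map_mk (actHom 𝒜 hGdeg σ) f hf k a ha
  · intro k a ha
    exact actAway_mk 𝒜 hGdeg f hfix σ hf k a ha
  · exact hρ σ n f hn hf _ (away_map_compat (actHom 𝒜 hGdeg σ) f hf)

include hρ in
theorem rho_hom_chart (σ : G) {n : ℕ} (hn : 0 < n) (f : A) (hf : f ∈ 𝒜 n)
    (hfix : ∀ τ : G, τ • f = f) :
    Proj.awayι 𝒜 f hf hn ≫ (ρ σ).hom =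
      Spec.map (CommRingCat.ofHom (actAway 𝒜 hGdeg f hfix σ⁻¹)) ≫ Proj.awayι 𝒜 f hf hn := by
  have : (ρ σ).hom = (ρ σ⁻¹).inv := by rw [map_inv]; rfl
  rw [this]
  exact rho_inv_chart 𝒜 hGdeg ρ hρ σ⁻¹ hn f hf hfix

omit [Algebra R A] in
theorem spec_preimage_basicOpen {S T : CommRingCat.{u}} (φ : S ⟶ T) (r : S) :
    (Spec.map φ) ⁻¹ᵁ (PrimeSpectrum.basicOpen r : (Spec S).Opens) =
      (PrimeSpectrum.basicOpen (φ.hom r) : (Spec T).Opens) := rfl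

variable [Finite G]

include hGdeg hιdeg in
theorem exists_chart (x : Proj 𝒜) :
    ∃ n : ℕ, 0 < n ∧ ∃ c ∈ 𝒞 n, x ∈ Proj.basicOpen 𝒜 (ι c) := by
  haveI : x.asHomogeneousIdeal.toIdeal.IsPrime := x.isPrime
  obtain ⟨n, hn, c, hc, hx⟩ := exists_incl_notMem 𝒜 hGdeg 𝒞 ι hιdeg x.asHomogeneousIdeal.toIdeal
    (fun h => x.not_irrelevant_le h)
  exact ⟨n, hn, c, hc, hx⟩

omit [Finite G] in
theorem incl_comp_act {n : ℕ} (c : C) (hc : c ∈ 𝒞 n) (τ : G) :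
    (actAway 𝒜 hGdeg (ι c) (fun σ => smul_incl 𝒜 𝒞 ι hιdeg σ c) τ).comp
      (inclAway 𝒜 𝒞 ι hιdeg c) = inclAway 𝒜 𝒞 ι hιdeg c := by
  refine RingHom.ext fun y => ?_
  obtain ⟨k, a, ha, rfl⟩ := Away.mk_surjective 𝒞 hc y
  rw [RingHom.comp_apply, inclAway_mk, actAway_mk]
  congr 1
  exact smul_incl 𝒜 𝒞 ι hιdeg τ a

include hρ hπ in
theorem rho_pi (σ : G) : (ρ σ).hom ≫ π = π := by
  apply Scheme.hom_ext_of_forall
  intro x
  obtain ⟨n, hn, c, hc, hx⟩ := exists_chart 𝒜 hGdeg 𝒞 ι hιdeg x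
  refine ⟨Proj.basicOpen 𝒜 (ι c), hx, ?_⟩
  have hf : ι c ∈ 𝒜 n := incl_mem 𝒜 𝒞 ι hιdeg hc
  have hfix : ∀ τ : G, τ • ι c = ι c := fun τ => smul_incl 𝒜 𝒞 ι hιdeg τ c
  have hU : (Proj.basicOpen 𝒜 (ι c)).ι =
      (Proj.basicOpenIsoSpec 𝒜 (ι c) hf hn).hom ≫ Proj.awayι 𝒜 (ι c) hf hn := by
    rw [← Proj.basicOpenIsoSpec_inv_ι, Iso.hom_inv_id_assoc]
  have h1 := rho_hom_chart 𝒜 hGdeg ρ hρ σ hn (ι c) hf hfix
  have h2 := pi_chart 𝒜 𝒞 ι hιdeg π hπ hn c hc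
  have h3 : Proj.awayι 𝒜 (ι c) hf hn ≫ (ρ σ).hom ≫ π = Proj.awayι 𝒜 (ι c) hf hn ≫ π := by
    rw [← Category.assoc, h1, Category.assoc, h2, ← Category.assoc, ← Spec.map_comp]
    congr 2
    rw [← CommRingCat.ofHom_comp]
    congr 1
    exact incl_comp_act 𝒜 hGdeg 𝒞 ι hιdeg c hc σ⁻¹
  rw [hU, Category.assoc, Category.assoc, h3]

include hGdeg hπ in
theorem pi_preimage_basicOpen {n : ℕ} (hn : 0 < n) (c : C) (hc : c ∈ 𝒞 n) :
    π ⁻¹ᵁ (Proj.basicOpen 𝒞 c) = Proj.basicOpen 𝒜 (ι c) := by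
  have key : ∀ (n' : ℕ) (hn' : 0 < n') (c' : C) (hc' : c' ∈ 𝒞 n'),
      (Proj.awayι 𝒜 (ι c') (incl_mem 𝒜 𝒞 ι hιdeg hc') hn') ⁻¹ᵁ (π ⁻¹ᵁ (Proj.basicOpen 𝒞 c)) =
      (Proj.awayι 𝒜 (ι c') (incl_mem 𝒜 𝒞 ι hιdeg hc') hn') ⁻¹ᵁ (Proj.basicOpen 𝒜 (ι c)) := by
    intro n' hn' c' hc'
    rw [← Scheme.Hom.comp_preimage, pi_chart 𝒜 𝒞 ι hιdeg π hπ hn' c' hc',
      Scheme.Hom.comp_preimage, Proj.awayι_preimage_basicOpen 𝒞 hc' hn' hc hn,
      Proj.awayι_preimage_basicOpen 𝒜 (incl_mem 𝒜 𝒞 ι hιdeg hc') hn'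
        (incl_mem 𝒜 𝒞 ι hιdeg hc) hn, spec_preimage_basicOpen]
    congr 1
    change inclAway 𝒜 𝒞 ι hιdeg c' (Away.isLocalizationElem hc' hc) = Away.isLocalizationElem _ _
    unfold Away.isLocalizationElem
    rw [inclAway_mk]
    apply HomogeneousLocalization.val_injective
    rw [Away.val_mk, Away.val_mk]
    simp [map_pow]
  ext x
  obtain ⟨n', hn', c', hc', hx⟩ := exists_chart 𝒜 hGdeg 𝒞 ι hιdeg x
  rw [← Proj.opensRange_awayι 𝒜 (ι c') (incl_mem 𝒜 𝒞 ι hιdeg hc') hn'] at hx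
  obtain ⟨x', rfl⟩ := hx
  exact SetLike.ext_iff.mp (key n' hn' c' hc') x'

end Geom

section SpecQuot

open AlgebraicGeometry CategoryTheory Groth.Agent.Helper6.QuotAct Groth.Agent.Helper6.QuotSpec

/-- ring-level criterion for `Spec θ` to be a quotient by a finite group -/
theorem spec_quot {G : Type u} [Group G] [Finite G] {A B : CommRingCat.{u}} (θ : B ⟶ A)
    (act : G → (A ⟶ A)) (ρ : G →* Aut (Spec A)) (hρ : ∀ g, (ρ g).hom = Spec.map (act g))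
    (hθ : ∀ g, θ ≫ act g = θ) (hinj : Function.Injective θ.hom)
    (hrange : ∀ a : A, (∀ g, (act g).hom a = a) → a ∈ Set.range θ.hom) :
    SGA1.IsQuot ρ (Spec.map θ) := by
  set p := Spec.map θ with hp
  have hinv : ∀ g : G, (ρ g).hom ≫ p = p := by
    intro g
    rw [hρ g, hp, ← Spec.map_comp, hθ g]
  have hnat : p.appTop ≫ (Scheme.ΓSpecIso A).hom = (Scheme.ΓSpecIso B).hom ≫ θ :=
    Scheme.ΓSpecIso_naturality θ
  refine isQuot_of_affine ρ p hinv ?_ ?_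
  · intro t₁ t₂ ht
    have h1 : (Scheme.ΓSpecIso A).hom.hom (p.appTop.hom t₁) =
        (Scheme.ΓSpecIso A).hom.hom (p.appTop.hom t₂) := congrArg _ ht
    have e1 := congrArg (fun φ => φ.hom t₁) hnat
    have e2 := congrArg (fun φ => φ.hom t₂) hnat
    simp only [CommRingCat.hom_comp, RingHom.coe_comp, Function.comp_apply] at e1 e2
    rw [e1, e2] at h1
    exact (ConcreteCategory.bijective_of_isIso (Scheme.ΓSpecIso B).hom).1 (hinj h1)
  · intro s hs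
    let a : A := (Scheme.ΓSpecIso A).hom.hom s
    have ha : ∀ g : G, (act g).hom a = a := by
      intro g
      have h1 := hs g
      unfold pb at h1
      rw [appLE_top'] at h1
      rw [hρ g] at h1
      let s' : Γ(Spec A, ⊤) := s
      have e1 : (Scheme.ΓSpecIso A).hom.hom ((Spec.map (act g)).appTop.hom s') =
          (act g).hom ((Scheme.ΓSpecIso A).hom.hom s') :=
        congrArg (fun φ => φ.hom s') (Scheme.ΓSpecIso_naturality (act g))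
      have h1' : (Spec.map (act g)).appTop.hom s' = s' := h1
      rw [h1'] at e1
      exact e1.symm
    obtain ⟨b, hb⟩ := hrange a ha
    refine ⟨(Scheme.ΓSpecIso B).inv.hom b, ?_⟩
    apply (ConcreteCategory.bijective_of_isIso (Scheme.ΓSpecIso A).hom).1
    have e1 := congrArg (fun φ => φ.hom ((Scheme.ΓSpecIso B).inv.hom b)) hnat
    simp only [CommRingCat.hom_comp, RingHom.coe_comp, Function.comp_apply] at e1
    show (Scheme.ΓSpecIso A).hom.hom (p.appTop.hom _) = a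
    rw [e1, ← hb]
    congr 1
    exact congrArg (fun φ => φ.hom b) (Scheme.ΓSpecIso B).inv_hom_id

/-- A compatible family of ring endomorphisms gives an action on `Spec`. -/
noncomputable def specAct {G : Type u} [Group G] {A : CommRingCat.{u}} (act : G → (A ⟶ A))
    (h1 : act 1 = 𝟙 A) (hmul : ∀ σ τ, act (σ * τ) = act τ ≫ act σ) : G →* Aut (Spec A) where
  toFun σ :=
    { hom := Spec.map (act σ⁻¹)
      inv := Spec.map (act σ)
      hom_inv_id := by rw [← Spec.map_comp, ← hmul, inv_mul_cancel, h1, Spec.map_id]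
      inv_hom_id := by rw [← Spec.map_comp, ← hmul, mul_inv_cancel, h1, Spec.map_id] }
  map_one' := by
    apply Iso.ext
    change Spec.map (act (1 : G)⁻¹) = 𝟙 _
    rw [inv_one, h1, Spec.map_id]
  map_mul' σ τ := by
    apply Iso.ext
    change Spec.map (act (σ * τ)⁻¹) = Spec.map (act τ⁻¹) ≫ Spec.map (act σ⁻¹)
    rw [← Spec.map_comp, ← hmul, mul_inv_rev]

theorem specAct_hom {G : Type u} [Group G] {A : CommRingCat.{u}} (act : G → (A ⟶ A))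
    (h1 : act 1 = 𝟙 A) (hmul : ∀ σ τ, act (σ * τ) = act τ ≫ act σ) (σ : G) :
    (specAct act h1 hmul σ).hom = Spec.map (act σ⁻¹) := rfl

end SpecQuot

section Main

open AlgebraicGeometry CategoryTheory

variable {R A : Type u} [CommRing R] [CommRing A] [Algebra R A] (𝒜 : ℕ → Submodule R A)
  [GradedAlgebra 𝒜] {G : Type u} [Group G] [MulSemiringAction G A]
  (hGdeg : ∀ (σ : G) (i : ℕ) (a : A), a ∈ 𝒜 i → σ • a ∈ 𝒜 i)

theorem actAway_one (f : A) (hfix : ∀ σ : G, σ • f = f) {d : ℕ} (hf : f ∈ 𝒜 d) :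
    actAway 𝒜 hGdeg f hfix 1 = RingHom.id _ := by
  refine RingHom.ext fun y => ?_
  obtain ⟨k, a, ha, rfl⟩ := Away.mk_surjective 𝒜 hf y
  rw [actAway_mk 𝒜 hGdeg f hfix 1 hf]
  simp

theorem actAway_mul (f : A) (hfix : ∀ σ : G, σ • f = f) {d : ℕ} (hf : f ∈ 𝒜 d) (σ τ : G) :
    actAway 𝒜 hGdeg f hfix (σ * τ) =
      (actAway 𝒜 hGdeg f hfix σ).comp (actAway 𝒜 hGdeg f hfix τ) := by
  refine RingHom.ext fun y => ?_
  obtain ⟨k, a, ha, rfl⟩ := Away.mk_surjective 𝒜 hf y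
  rw [RingHom.comp_apply, actAway_mk 𝒜 hGdeg f hfix _ hf, actAway_mk 𝒜 hGdeg f hfix _ hf,
    actAway_mk 𝒜 hGdeg f hfix _ hf]
  simp [mul_smul]

variable {C : Type u} [CommRing C] [Algebra R C] (𝒞 : ℕ → Submodule R C) [GradedAlgebra 𝒞]
  (ι : C →ₐ[R] A)
  (hιdeg : ∀ (i : ℕ) (a : A), a ∈ (𝒞 i).map ι.toLinearMap ↔ (a ∈ 𝒜 i ∧ ∀ σ : G, σ • a = a))
  (ρ : G →* Aut (Proj 𝒜))
    (hρ : ∀ (σ : G) (n : ℕ) (f : A) (hn : 0 < n) (hf : f ∈ 𝒜 n)
      (θ : CommRingCat.of (HomogeneousLocalization.Away 𝒜 f) ⟶ CommRingCat.of (HomogeneousLocalization.Away 𝒜 (σ • f))),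
      (algebraMap (HomogeneousLocalization.Away 𝒜 (σ • f)) (Localization.Away (σ • f))).comp θ.hom =
        (Localization.awayMap (MulSemiringAction.toRingHom G A σ) f).comp
          (algebraMap (HomogeneousLocalization.Away 𝒜 f) (Localization.Away f)) →
      Proj.awayι 𝒜 (σ • f) (hGdeg σ n f hf) hn ≫ (ρ σ).inv = Spec.map θ ≫ Proj.awayι 𝒜 f hf hn)
    (π : Proj 𝒜 ⟶ Proj 𝒞)
    (hπ : ∀ (n : ℕ) (c : C) (hn : 0 < n) (hc : c ∈ 𝒞 n)
      (θ : CommRingCat.of (HomogeneousLocalization.Away 𝒞 c) ⟶ CommRingCat.of (HomogeneousLocalization.Away 𝒜 (ι c))),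
      (algebraMap (HomogeneousLocalization.Away 𝒜 (ι c)) (Localization.Away (ι c))).comp θ.hom =
        (Localization.awayMap ι.toRingHom c).comp
          (algebraMap (HomogeneousLocalization.Away 𝒞 c) (Localization.Away c)) →
      Proj.awayι 𝒜 (ι c) ((hιdeg n (ι c)).mp (Submodule.mem_map_of_mem hc)).1 hn ≫ π =
        Spec.map θ ≫ Proj.awayι 𝒞 c hc hn)

include hρ hπ in
theorem main [Finite G] (hι : Function.Injective ι) : SGA1.IsQuot ρ π := by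
  classical
  have hfix : ∀ (c : C) (τ : G), τ • ι c = ι c := fun c τ => smul_incl 𝒜 𝒞 ι hιdeg τ c
  -- the index set of charts
  let I := Σ n : ℕ, {c : C // c ∈ 𝒞 n ∧ 0 < n}
  let act : ∀ i : I, G → (CommRingCat.of (Away 𝒜 (ι i.2.1)) ⟶ CommRingCat.of (Away 𝒜 (ι i.2.1))) :=
    fun i σ => CommRingCat.ofHom (actAway 𝒜 hGdeg (ι i.2.1) (hfix i.2.1) σ)
  have hact1 : ∀ i : I, act i 1 = 𝟙 _ := by
    intro i
    change CommRingCat.ofHom (actAway 𝒜 hGdeg (ι i.2.1) (hfix i.2.1) 1) = 𝟙 _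
    rw [actAway_one 𝒜 hGdeg _ _ (incl_mem 𝒜 𝒞 ι hιdeg i.2.2.1)]
    rfl
  have hactmul : ∀ (i : I) (σ τ : G), act i (σ * τ) = act i τ ≫ act i σ := by
    intro i σ τ
    change CommRingCat.ofHom (actAway 𝒜 hGdeg (ι i.2.1) (hfix i.2.1) (σ * τ)) = _
    rw [actAway_mul 𝒜 hGdeg _ _ (incl_mem 𝒜 𝒞 ι hιdeg i.2.2.1)]
    rfl
  refine Groth.Agent.Helper9.QuotCharts.isQuot_of_charts ρ π
    (rho_pi 𝒜 hGdeg 𝒞 ι hιdeg ρ hρ π hπ)
    (fun i : I => Spec (CommRingCat.of (Away 𝒜 (ι i.2.1))))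
    (fun i : I => Spec (CommRingCat.of (Away 𝒞 i.2.1)))
    (fun i : I => Proj.awayι 𝒜 (ι i.2.1) (incl_mem 𝒜 𝒞 ι hιdeg i.2.2.1) i.2.2.2)
    (fun i : I => Proj.awayι 𝒞 i.2.1 i.2.2.1 i.2.2.2)
    (fun i : I => Spec.map (CommRingCat.ofHom (inclAway 𝒜 𝒞 ι hιdeg i.2.1)))
    (fun i : I => pi_chart 𝒜 𝒞 ι hιdeg π hπ i.2.2.2 i.2.1 i.2.2.1) ?_ ?_
    (fun i : I => specAct (act i) (hact1 i) (hactmul i)) ?_ ?_
  · intro i
    rw [Proj.opensRange_awayι, Proj.opensRange_awayι]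
    exact pi_preimage_basicOpen 𝒜 hGdeg 𝒞 ι hιdeg π hπ i.2.2.2 i.2.1 i.2.2.1
  · intro y
    let j := (Proj.affineOpenCover 𝒞).idx y
    exact ⟨⟨j.1, j.2.1, j.2.2, j.1.2⟩, (Proj.affineOpenCover 𝒞).covers y⟩
  · intro i g
    rw [specAct_hom]
    exact (rho_hom_chart 𝒜 hGdeg ρ hρ g i.2.2.2 (ι i.2.1) (incl_mem 𝒜 𝒞 ι hιdeg i.2.2.1)
      (hfix i.2.1)).symm
  · intro i
    refine spec_quot (CommRingCat.ofHom (inclAway 𝒜 𝒞 ι hιdeg i.2.1)) (fun g => act i g⁻¹)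
      (specAct (act i) (hact1 i) (hactmul i)) (fun g => specAct_hom _ _ _ g) ?_ ?_ ?_
    · intro g
      change CommRingCat.ofHom (inclAway 𝒜 𝒞 ι hιdeg i.2.1) ≫
        CommRingCat.ofHom (actAway 𝒜 hGdeg (ι i.2.1) (hfix i.2.1) g⁻¹) = _
      rw [← CommRingCat.ofHom_comp, incl_comp_act 𝒜 hGdeg 𝒞 ι hιdeg i.2.1 i.2.2.1]
    · exact inclAway_injective 𝒜 𝒞 ι hιdeg hι i.2.1 i.2.2.1
    · intro a ha
      refine mem_range_of_invariant 𝒜 hGdeg 𝒞 ι hιdeg i.2.1 i.2.2.1 a (fun σ => ?_)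
      have := ha σ⁻¹
      rw [inv_inv] at this
      exact this

end Main

end Groth.Agent.Helper9.ProjQuot
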