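import Mathlib
import Groth.Prelude.Def_CohB1
import Groth.Agent.Helper6.HProj

universe u

namespace Groth.Agent.Helper9.ProjSp2

open AlgebraicGeometry CategoryTheory Limits HomogeneousLocalization

variable (k : Type u) [Field k]

theorem X_mem_irrelevant (n : ℕ) (i : Fin (n + 1)) :
    (MvPolynomial.X i : MvPolynomial (Fin (n + 1)) k) ∈
      HomogeneousIdeal.irrelevant (CohB1.polyGrading n k) := by
  rw [HomogeneousIdeal.mem_irrelevant_iff]
  have h1 : (MvPolynomial.X i : MvPolynomial (Fin (n + 1)) k) ∈ CohB1.polyGrading n k 1 :=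
    MvPolynomial.isHomogeneous_X k i
  exact DirectSum.decompose_of_mem_ne (CohB1.polyGrading n k) h1 one_ne_zero

/-- the generic point of the projective line -/
noncomputable def genPt : ProjectiveSpectrum (CohB1.polyGrading 1 k) where
  asHomogeneousIdeal := ⊥
  isPrime := by
    change (⊥ : Ideal (MvPolynomial (Fin 2) k)).IsPrime
    exact Ideal.isPrime_bot
  not_irrelevant_le := by
    intro h
    have h1 := h (X_mem_irrelevant k 1 0)
    have h2 : (MvPolynomial.X 0 : MvPolynomial (Fin 2) k) = 0 := h1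
    exact MvPolynomial.X_ne_zero 0 h2

theorem X1_notMem : (MvPolynomial.X 1 : MvPolynomial (Fin 2) k) ∉
    Ideal.span {(MvPolynomial.X 0 : MvPolynomial (Fin 2) k)} := by
  intro h
  have h1 : (MvPolynomial.X 1 : MvPolynomial (Fin 2) k) ∈
      Ideal.span (MvPolynomial.X '' ({0} : Set (Fin 2)) : Set (MvPolynomial (Fin 2) k)) := by
    rwa [Set.image_singleton]
  rw [MvPolynomial.mem_ideal_span_X_image] at h1
  obtain ⟨i, hi, hne⟩ := h1 (Finsupp.single 1 1) (by
    rw [MvPolynomial.support_X]; exact Finset.mem_singleton_self _)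
  rw [Set.mem_singleton_iff] at hi
  subst hi
  exact hne (by simp)

/-- the point `X₀ = 0` of the projective line -/
noncomputable def zeroPt : ProjectiveSpectrum (CohB1.polyGrading 1 k) where
  asHomogeneousIdeal := ⟨Ideal.span {(MvPolynomial.X 0 : MvPolynomial (Fin 2) k)},
    Ideal.homogeneous_span _ _ (by
      rintro x hx
      rw [Set.mem_singleton_iff] at hx
      subst hx
      exact ⟨1, MvPolynomial.isHomogeneous_X k 0⟩)⟩
  isPrime := by
    change (Ideal.span {(MvPolynomial.X 0 : MvPolynomial (Fin 2) k)}).IsPrime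
    rw [Ideal.span_singleton_prime (MvPolynomial.X_ne_zero 0)]
    exact MvPolynomial.X_prime
  not_irrelevant_le := by
    intro h
    exact X1_notMem k (h (X_mem_irrelevant k 1 1))

theorem genPt_ne_zeroPt : genPt k ≠ zeroPt k := by
  intro h
  have h1 : (MvPolynomial.X 0 : MvPolynomial (Fin 2) k) ∈ (zeroPt k).asHomogeneousIdeal :=
    Ideal.subset_span rfl
  rw [← h] at h1
  have h2 : (MvPolynomial.X 0 : MvPolynomial (Fin 2) k) = 0 := h1
  exact MvPolynomial.X_ne_zero 0 h2

theorem not_isAffine : ¬ IsAffine (CohB1.ProjSpace 1 k) := by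
  intro hA
  haveI : IsProper (CohB1.ProjSpace.toSpec 1 k) := Groth.Agent.Helper6.HProj.isProper_toSpec 1 k
  haveI : IsAffineHom (CohB1.ProjSpace.toSpec 1 k) := inferInstance
  haveI hfin : IsFinite (CohB1.ProjSpace.toSpec 1 k) :=
    IsFinite.iff_isProper_and_isAffineHom.mpr ⟨inferInstance, inferInstance⟩
  have hfin' := ((HasAffineProperty.iff_of_isAffine (P := @IsFinite)).mp hfin).2
  haveI : IsLocallyArtinian (Spec (CommRingCat.of k)) :=
    Scheme.isLocallyArtinianScheme_Spec.mpr (inferInstanceAs (IsArtinianRing k))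
  haveI : IsArtinianRing Γ(Spec (CommRingCat.of k), ⊤) := inferInstance
  algebraize [(CohB1.ProjSpace.toSpec 1 k).appTop.hom]
  haveI : Module.Finite Γ(Spec (CommRingCat.of k), ⊤) Γ(CohB1.ProjSpace 1 k, ⊤) := hfin'
  haveI : IsArtinianRing Γ(CohB1.ProjSpace 1 k, ⊤) :=
    IsArtinianRing.of_finite Γ(Spec (CommRingCat.of k), ⊤) _
  haveI : IsLocallyArtinian (Spec Γ(CohB1.ProjSpace 1 k, ⊤)) :=
    Scheme.isLocallyArtinianScheme_Spec.mpr inferInstance
  haveI : IsLocallyArtinian (CohB1.ProjSpace 1 k) :=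
    IsLocallyArtinian.of_isImmersion (CohB1.ProjSpace 1 k).isoSpec.hom
  haveI : DiscreteTopology (CohB1.ProjSpace 1 k) := inferInstance
  have hle : genPt k ≤ zeroPt k := by
    rw [← ProjectiveSpectrum.as_ideal_le_as_ideal]
    exact bot_le
  rw [ProjectiveSpectrum.le_iff_mem_closure] at hle
  have hcl : closure ({genPt k} : Set (ProjectiveSpectrum (CohB1.polyGrading 1 k))) =
      {genPt k} := by
    have : IsClosed ({genPt k} : Set (CohB1.ProjSpace 1 k)) := isClosed_discrete _
    exact this.closure_eq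
  rw [hcl] at hle
  exact genPt_ne_zeroPt k hle.symm

end Groth.Agent.Helper9.ProjSp2
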