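import Mathlib
import Groth.Prelude.Def_DRing2
import Groth.Agent.Helper3.DRingResP

/-!
# Bounded projective representatives over a ring of finite global dimension

If every `A`-module has projective dimension `≤ d`, an object of `D(A)` with cohomology in
`[a, c]` is represented by a complex of projective modules vanishing outside `[a - d, c]`.
-/

set_option autoImplicit false
set_option linter.style.haveILetI false
set_option linter.unusedSectionVars false
universe u

namespace Groth.Agent.Helper9.ProjTrunc

open CategoryTheory Limits DerivedCategory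

section General

variable {C : Type*} [Category C] [Abelian C] (K : CochainComplex C ℤ)

lemma fromOpcycles_pOpcycles (k k' : ℤ) : K.fromOpcycles k k' ≫ K.pOpcycles k' = 0 := by
  rw [← cancel_epi (K.pOpcycles k), HomologicalComplex.p_fromOpcycles_assoc,
    HomologicalComplex.d_pOpcycles, comp_zero]

/-- `0 ⟶ K.opcycles k ⟶ K.X (k+1) ⟶ K.opcycles (k+1) ⟶ 0` is exact when `K` is exact at `k` -/
lemma shortExact_opcycles (k k' : ℤ) (h : k + 1 = k') (hK : K.ExactAt k) :
    (ShortComplex.mk (K.fromOpcycles k k') (K.pOpcycles k') (fromOpcycles_pOpcycles K k k')).ShortExact := by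
  have hm : Mono (K.fromOpcycles k k') := by
    refine Preadditive.mono_of_isZero_kernel' _ (K.homologyIsKernel k k' (by simp [← h])) ?_
    exact (HomologicalComplex.exactAt_iff_isZero_homology K k).1 hK
  have hc : IsColimit (CokernelCofork.ofπ (K.pOpcycles k') (fromOpcycles_pOpcycles K k k')) :=
    isCokernelOfComp (K.pOpcycles k) (K.d k k') (K.opcyclesIsCokernel k k' (by simp [← h]))
      (fromOpcycles_pOpcycles K k k') (K.p_fromOpcycles k k')
  exact { exact := ShortComplex.exact_of_g_is_cokernel _ hc }

/-- dimension shifting along the exact part of a complex of projectives -/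
lemma hasProjectiveDimensionLT_opcycles (a : ℤ) (d : ℕ)
    (hproj : ∀ i, Projective (K.X i)) (hex : ∀ i, i < a → K.ExactAt i)
    (hA : HasProjectiveDimensionLT (K.opcycles a) (d + 1)) :
    ∀ j : ℕ, j ≤ d → HasProjectiveDimensionLT (K.opcycles (a - j)) (d + 1 - j)
  | 0, _ => by simpa using hA
  | j + 1, hj => by
    have ih := hasProjectiveDimensionLT_opcycles a d hproj hex hA j (by omega)
    have hS := shortExact_opcycles K (a - (j + 1 : ℕ)) (a - j) (by push_cast; omega)
      (hex _ (by push_cast; omega))
    have h3 : HasProjectiveDimensionLT (K.opcycles (a - j)) ((d - j) + 1) := by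
      have : d - j + 1 = d + 1 - j := by omega
      rw [this]
      exact ih
    haveI := hproj (a - j)
    have h2 : HasProjectiveDimensionLT (K.X (a - j)) (d - j) :=
      hasProjectiveDimensionLT_of_ge (K.X (a - j)) 1 (d - j) (by omega)
    have h1 := hS.hasProjectiveDimensionLT_X₁ (d - j) h2 h3
    have : d + 1 - (j + 1) = d - j := by omega
    rw [this]
    exact h1

end General

attribute [local instance] HasDerivedCategory.standard

variable {A : Type u} [CommRing A]

/-- bounded projective representative -/
theorem exists_projective_rep (d : ℕ)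
    (hA : ∀ M : ModuleCat.{u} A, HasProjectiveDimensionLT M (d + 1))
    (K : Dual.D A) (a c : ℤ) [K.IsGE a] [K.IsLE c] :
    ∃ L : DRing.Cx A, (∀ i : ℤ, Module.Projective A (L.X i)) ∧
      DRing.VanishesOutside L (a - d) c ∧ Nonempty (DRing.toD L ≅ K) := by
  obtain ⟨P, hPv, hPp, ⟨e⟩⟩ := Groth.Agent.Helper3.DRingLib.exists_projective_rep K c
  have hPp' : ∀ i, Projective (P.X i) := fun i =>
    (IsProjective.iff_projective (R := A) (P := P.X i)).mp (hPp i)
  haveI hGE : P.IsGE a := by
    rw [← DerivedCategory.isGE_Q_obj_iff]
    exact TStructure.t.isGE_of_iso e.symm a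
  have hex : ∀ i, i < a → P.ExactAt i := fun i hi => P.exactAt_of_isGE a i hi
  have h1 := hasProjectiveDimensionLT_opcycles P a d hPp' hex (hA _) d le_rfl
  have h1' : HasProjectiveDimensionLT (P.opcycles (a - d)) 1 := by
    have : d + 1 - d = 1 := by omega
    rw [this] at h1
    exact h1
  haveI hpo : Projective (P.opcycles (a - d)) :=
    projective_iff_hasProjectiveDimensionLT_one.2 h1'
  haveI : P.IsGE (a - d) := P.isGE_of_ge (a - d) a (by omega)
  let L : DRing.Cx A := P.truncGE (a - d)
  haveI : QuasiIso (P.πTruncGE (a - d)) := inferInstance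
  haveI : IsIso (Q.map (P.πTruncGE (a - d))) := by
    rw [isIso_Q_map_iff_quasiIso]
    infer_instance
  refine ⟨L, fun i => ?_, fun i hi => ?_, ⟨(asIso (Q.map (P.πTruncGE (a - d)))).symm ≪≫ e⟩⟩
  · rcases lt_trichotomy i (a - d) with h | h | h
    · have hz : IsZero (L.X i) := L.isZero_of_isStrictlyGE (a - d) i h
      have := ModuleCat.subsingleton_of_isZero hz
      infer_instance
    · subst h
      have hp : Module.Projective A (P.opcycles (a - d)) :=
        (IsProjective.iff_projective (R := A) (P := P.opcycles (a - d))).mpr hpo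
      exact Module.Projective.of_equiv (P.truncGEXIsoOpcycles (a - d)).toLinearEquiv.symm
    · have hp := hPp i
      exact Module.Projective.of_equiv (P.truncGEXIso (a - d) i h).toLinearEquiv.symm
  · rcases hi with hi | hi
    · exact L.isZero_of_isStrictlyGE (a - d) i hi
    · rcases lt_trichotomy i (a - d) with h | h | h
      · exact L.isZero_of_isStrictlyGE (a - d) i h
      · subst h
        exact (IsZero.of_epi (P.pOpcycles (a - d)) (hPv _ hi)).of_iso
          (P.truncGEXIsoOpcycles (a - d))
      · exact (hPv i hi).of_iso (P.truncGEXIso (a - d) i h)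

end Groth.Agent.Helper9.ProjTrunc
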