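import Mathlib
import Groth.Prelude.Def_BigSite
import Groth.Prelude.Def_EGA4Misc
import Groth.Agent.Helper9.PropAQF3

/-! The geometric refinement of condition (A) of `PropAQF3`, together with the finiteness of the
clopen pieces over the étale neighbourhood of the base point. -/

set_option autoImplicit false
set_option linter.style.haveILetI false
universe u

open CategoryTheory CategoryTheory.Limits AlgebraicGeometry

namespace Groth.Agent.Helper9.PropAQF4

open Groth.Agent.Helper9.PropAQF Groth.Agent.Helper9.PropAQF2 Groth.Agent.Helper9.PropAQF3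

section

variable {X Y U V : Scheme.{u}} (f : X ⟶ Y) (g : U ⟶ X) (v : V ⟶ Y)

/-- `PropAQF3.piece_geom` together with the finiteness of the piece over the base -/
theorem piece_geom_fin [IsSeparated f] [Etale g] (P : (pullback (g ≫ f) v).Opens)
    (pp : ↥(pullback (g ≫ f) v)) (hppmem : pp ∈ P)
    (hfin : IsFinite (P.ι ≫ pullback.snd (g ≫ f) v))
    (huniq : ∀ w ∈ P, pullback.snd (g ≫ f) v w = pullback.snd (g ≫ f) v pp → w = pp)
    (hpi : letI := ((pullback.snd (g ≫ f) v).residueFieldMap pp).hom.toAlgebra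
      IsPurelyInseparable (V.residueField (pullback.snd (g ≫ f) v pp))
        ((pullback (g ≫ f) v).residueField pp)) :
    ∃ (W : (pullback f v).Opens), IsClosed (W : Set ↥(pullback f v)) ∧ liftMap f g v pp ∈ W ∧
      IsFinite (W.ι ≫ pullback.snd f v) ∧
      ∃ h : (W : Scheme.{u}) ⟶ U, h ≫ g = W.ι ≫ pullback.fst f v ∧
        (∀ (K : Type u) [Field K] (τ : Spec (CommRingCat.of K) ⟶ pullback (g ≫ f) v),
          τ (IsLocalRing.closedPoint K) = pp →
          ∃ ζ : Spec (CommRingCat.of K) ⟶ (W : Scheme.{u}),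
            ζ ≫ W.ι = τ ≫ liftMap f g v ∧ ζ ≫ h = τ ≫ pullback.fst (g ≫ f) v) ∧
        (∀ (K : Type u) [Field K] (ζ ζ' : Spec (CommRingCat.of K) ⟶ (W : Scheme.{u})),
          ζ ≫ W.ι ≫ pullback.snd f v = ζ' ≫ W.ι ≫ pullback.snd f v →
          (ζ ≫ W.ι ≫ pullback.snd f v) (IsLocalRing.closedPoint K) =
            pullback.snd (g ≫ f) v pp → ζ = ζ') := by
  let a := liftMap f g v
  have ha1 : a ≫ pullback.fst f v = pullback.fst (g ≫ f) v ≫ g := liftMap_fst f g v
  have ha2 : a ≫ pullback.snd f v = pullback.snd (g ≫ f) v := liftMap_snd f g v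
  let b : (P : Scheme.{u}) ⟶ pullback f v := P.ι ≫ a
  let c : (P : Scheme.{u}) ⟶ V := P.ι ≫ pullback.snd (g ≫ f) v
  have hb2 : b ≫ pullback.snd f v = c := by
    simp only [b, c, Category.assoc, ha2]
  haveI : IsFinite (b ≫ pullback.snd f v) := by rw [hb2]; exact hfin
  haveI : IsFinite b := IsFinite.of_comp b (pullback.snd f v)
  haveI : Etale b := inferInstance
  let p' : (P : Scheme.{u}) := ⟨pp, hppmem⟩
  have hιp' : P.ι p' = pp := rfl
  have huniq' : ∀ p'' : (P : Scheme.{u}), b p'' = b p' → p'' = p' := by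
    intro p'' hp''
    have h1 : (b ≫ pullback.snd f v) p'' = (b ≫ pullback.snd f v) p' :=
      congrArg (pullback.snd f v) hp''
    rw [hb2] at h1
    have h2 := huniq (P.ι p'') p''.2 h1
    exact Subtype.ext h2
  have h3 := pi_transfer P.ι (pullback.snd (g ≫ f) v) p' hpi
  have hres : Function.Surjective (b.residueFieldMap p').hom := by
    refine residue_surj b (pullback.snd f v) p' ?_
    have key : ∀ (c c' : (P : Scheme.{u}) ⟶ V) (e : c = c'),
        (letI := (c'.residueFieldMap p').hom.toAlgebra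
         IsPurelyInseparable (V.residueField (c' p')) ((P : Scheme.{u}).residueField p')) →
        (letI := (c.residueFieldMap p').hom.toAlgebra
         IsPurelyInseparable (V.residueField (c p')) ((P : Scheme.{u}).residueField p')) := by
      intro c c' e hh; subst e; exact hh
    exact key _ _ hb2 h3
  -- radicial at the point
  have hrad : RadPt.IsRadicialAt c (c p') := by
    refine ⟨?_, ?_⟩
    · intro x x' hx hx'
      have e1 : x = p' := Subtype.ext (huniq (P.ι x) x.2 hx)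
      have e2 : x' = p' := Subtype.ext (huniq (P.ι x') x'.2 hx')
      rw [e1, e2]
    · intro x hx
      have e1 : x = p' := Subtype.ext (huniq (P.ι x) x.2 hx)
      subst e1
      exact h3
  have hcrit := Groth.Agent.Helper5.RadAt.ptCrit_of_isRadicialAt c (c p') hrad
  have hrk := FinEtRankOne.finrank_eq_one b p' huniq' hres
  obtain ⟨W, hWcl, hWmem, hWiso⟩ := FinEtRankOne.exists_clopen_iso b (b p') hrk
  haveI := hWiso
  obtain ⟨β, hβdef⟩ : ∃ β : (W : Scheme.{u}) ⟶ (P : Scheme.{u}),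
      β = inv (b ∣_ W) ≫ (b ⁻¹ᵁ W).ι := ⟨_, rfl⟩
  have hβb : β ≫ b = W.ι := by
    rw [hβdef, Category.assoc, IsIso.inv_comp_eq, morphismRestrict_ι]
  haveI : Mono β := by
    rw [hβdef]
    infer_instance
  have hrβ : (b ∣_ W) ≫ β = (b ⁻¹ᵁ W).ι := by
    rw [hβdef, IsIso.hom_inv_id_assoc]
  have hfinW : IsFinite (W.ι ≫ pullback.snd f v) := by
    have hclW : IsClosed (Set.range (b ⁻¹ᵁ W).ι) := by
      rw [Scheme.Opens.range_ι]
      exact hWcl.preimage b.continuous
    haveI : IsClosedImmersion (b ⁻¹ᵁ W).ι := IsClosedImmersion.of_isPreimmersion _ hclW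
    haveI : IsFinite c := hfin
    haveI : IsFinite β := by
      rw [hβdef]
      infer_instance
    have hβc : β ≫ c = W.ι ≫ pullback.snd f v := by
      rw [← hb2, ← Category.assoc, hβb]
    rw [← hβc]
    infer_instance
  refine ⟨W, hWcl, hWmem, hfinW, β ≫ P.ι ≫ pullback.fst (g ≫ f) v, ?_, ?_, ?_⟩
  · calc (β ≫ P.ι ≫ pullback.fst (g ≫ f) v) ≫ g
        = β ≫ P.ι ≫ (pullback.fst (g ≫ f) v ≫ g) := by simp only [Category.assoc]
      _ = β ≫ P.ι ≫ a ≫ pullback.fst f v := by rw [ha1]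
      _ = (β ≫ b) ≫ pullback.fst f v := by simp only [b, Category.assoc]
      _ = W.ι ≫ pullback.fst f v := by rw [hβb]
  · intro K _ τ hτ
    have hr1 : Set.range τ ⊆ Set.range P.ι := by
      rintro _ ⟨t, rfl⟩
      rw [Scheme.Opens.range_ι, spec_field_eq t, hτ]
      exact hppmem
    let τP : Spec (CommRingCat.of K) ⟶ (P : Scheme.{u}) := IsOpenImmersion.lift P.ι τ hr1
    have hτP : τP ≫ P.ι = τ := IsOpenImmersion.lift_fac _ _ _
    have hτPpt : τP (IsLocalRing.closedPoint K) = p' := by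
      apply Subtype.ext
      have e1 : (τP ≫ P.ι) (IsLocalRing.closedPoint K) = τ (IsLocalRing.closedPoint K) := by
        rw [hτP]
      exact e1.trans hτ
    have hr2 : Set.range τP ⊆ Set.range (b ⁻¹ᵁ W).ι := by
      rintro _ ⟨t, rfl⟩
      rw [Scheme.Opens.range_ι, spec_field_eq t, hτPpt]
      exact hWmem
    let τW : Spec (CommRingCat.of K) ⟶ ((b ⁻¹ᵁ W : (P : Scheme.{u}).Opens) : Scheme.{u}) :=
      IsOpenImmersion.lift (b ⁻¹ᵁ W).ι τP hr2
    have hτW : τW ≫ (b ⁻¹ᵁ W).ι = τP := IsOpenImmersion.lift_fac _ _ _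
    refine ⟨τW ≫ (b ∣_ W), ?_, ?_⟩
    · rw [Category.assoc, morphismRestrict_ι, ← Category.assoc, hτW]
      show τP ≫ P.ι ≫ a = τ ≫ a
      rw [← Category.assoc, hτP]
    · rw [Category.assoc, ← Category.assoc (b ∣_ W), hrβ, ← Category.assoc, hτW,
        ← Category.assoc, hτP]
  · intro K _ ζ ζ' hζ hpt
    have hβc : β ≫ c = W.ι ≫ pullback.snd f v := by
      rw [← hb2, ← Category.assoc, hβb]
    have e1 : (ζ ≫ β) ≫ c = (ζ' ≫ β) ≫ c := by
      rw [Category.assoc, Category.assoc, hβc]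
      exact hζ
    have e2 : ((ζ ≫ β) ≫ c) (IsLocalRing.closedPoint K) = c p' := by
      rw [Category.assoc, hβc]
      exact hpt
    have e3 := hcrit K _ _ e1 e2
    exact (cancel_mono β).1 e3

end

/-- `PropAQF3.main_geom` together with the finiteness of the pieces over the base -/
theorem main_geom_fin {X Y U : Scheme.{u}} (f : X ⟶ Y) [IsSeparated f] (g : U ⟶ X) [Etale g]
    [LocallyOfFiniteType (g ≫ f)] (s : Y) {ι : Type} [Finite ι] (x : ι → U)
    (hs : ∀ i, (g ≫ f) (x i) = s) (hqf : ∀ i, (g ≫ f).QuasiFiniteAt (x i)) :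
    ∃ (V : Scheme.{u}) (v : V ⟶ Y) (pt : V), Etale v ∧ v pt = s ∧
      ∃ (m : ι → ℕ) (W : ∀ i, Fin (m i) → (pullback f v).Opens),
        (∀ i j, IsClosed ((W i j : (pullback f v).Opens) : Set ↥(pullback f v))) ∧
        (∀ i j, IsFinite ((W i j).ι ≫ pullback.snd f v)) ∧
        ∃ (h : ∀ i j, ((W i j : (pullback f v).Opens) : Scheme.{u}) ⟶ U),
          (∀ i j, h i j ≫ g = (W i j).ι ≫ pullback.fst f v) ∧
          (∀ (i : ι) (K : Type u) [Field K] (τ : Spec (CommRingCat.of K) ⟶ pullback (g ≫ f) v),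
            pullback.snd (g ≫ f) v (τ (IsLocalRing.closedPoint K)) = pt →
            pullback.fst (g ≫ f) v (τ (IsLocalRing.closedPoint K)) = x i →
            ∃ (j : Fin (m i)) (ζ : Spec (CommRingCat.of K) ⟶ ((W i j : (pullback f v).Opens) : Scheme.{u})),
              ζ ≫ (W i j).ι = τ ≫ liftMap f g v ∧ ζ ≫ h i j = τ ≫ pullback.fst (g ≫ f) v) ∧
          (∀ (i : ι) (j : Fin (m i)) (K : Type u) [Field K]
            (ζ ζ' : Spec (CommRingCat.of K) ⟶ ((W i j : (pullback f v).Opens) : Scheme.{u})),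
            ζ ≫ (W i j).ι ≫ pullback.snd f v = ζ' ≫ (W i j).ι ≫ pullback.snd f v →
            (ζ ≫ (W i j).ι ≫ pullback.snd f v) (IsLocalRing.closedPoint K) = pt → ζ = ζ') := by
  obtain ⟨V, v, pt, hpt, hv, hsplit, H⟩ :=
    Groth.Agent.Helper3.QFFinal.stageB (g ≫ f) s x hs hqf
  choose m Pc pp H1 H2 H3 using H
  haveI : Etale v := hv
  have hpiece : ∀ i (j : Fin (m i)), ∃ (W : (pullback f v).Opens),
      IsClosed (W : Set ↥(pullback f v)) ∧ liftMap f g v (pp i j) ∈ W ∧
      IsFinite (W.ι ≫ pullback.snd f v) ∧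
      ∃ h : (W : Scheme.{u}) ⟶ U, h ≫ g = W.ι ≫ pullback.fst f v ∧
        (∀ (K : Type u) [Field K] (τ : Spec (CommRingCat.of K) ⟶ pullback (g ≫ f) v),
          τ (IsLocalRing.closedPoint K) = pp i j →
          ∃ ζ : Spec (CommRingCat.of K) ⟶ (W : Scheme.{u}),
            ζ ≫ W.ι = τ ≫ liftMap f g v ∧ ζ ≫ h = τ ≫ pullback.fst (g ≫ f) v) ∧
        (∀ (K : Type u) [Field K] (ζ ζ' : Spec (CommRingCat.of K) ⟶ (W : Scheme.{u})),
          ζ ≫ W.ι ≫ pullback.snd f v = ζ' ≫ W.ι ≫ pullback.snd f v →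
          (ζ ≫ W.ι ≫ pullback.snd f v) (IsLocalRing.closedPoint K) =
            pullback.snd (g ≫ f) v (pp i j) → ζ = ζ') := by
    intro i j
    obtain ⟨hmem, hfin, hsnd, hfst, huniq⟩ := H1 i j
    refine piece_geom_fin f g v (Pc i j) (pp i j) hmem hfin ?_ ?_
    · intro w hw hw2
      exact huniq w hw (hw2.trans hsnd)
    · have h1 := (hsplit i).congr (g ≫ f) v (pp i j) hfst hsnd
      exact Groth.Agent.Helper3.PtResidue.isPurelyInseparable_of_splitAt (g ≫ f) v (pp i j) s _ _ h1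
  choose W hWcl hWmem hWfin h hh hgeom huq using hpiece
  refine ⟨V, v, pt, hv, hpt, m, W, hWcl, hWfin, h, hh, ?_, ?_⟩
  · intro i K _ τ hτ1 hτ2
    obtain ⟨j, hj⟩ := H3 i _ hτ1 hτ2
    obtain ⟨ζ, hζ1, hζ2⟩ := hgeom i j K τ hj
    exact ⟨j, ζ, hζ1, hζ2⟩
  · intro i j K _ ζ ζ' hζ hpt'
    refine huq i j K ζ ζ' hζ ?_
    rw [hpt', (H1 i j).2.2.1]

end Groth.Agent.Helper9.PropAQF4
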