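import Mathlib
import Groth.Prelude.Def_BigSite
import Groth.Agent.Helper9.LocalBInt

/-! Condition (C) for injective integral morphisms. -/

set_option autoImplicit false
set_option linter.style.haveILetI false
universe u

open CategoryTheory CategoryTheory.Limits AlgebraicGeometry TensorProduct

namespace Groth.Agent.Helper9.LocalG

open Groth.Agent.Helper9.PropAQF2 Groth.Agent.Helper9.LocalB

/-- gluing morphisms over a cover by open immersions with pairwise disjoint images -/
theorem glue_disjoint_cover {T U : Scheme.{u}} (𝒰 : T.OpenCover)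
    (hdisj : ∀ a b, a ≠ b → Disjoint (Set.range (𝒰.f a)) (Set.range (𝒰.f b)))
    (φ : ∀ a, 𝒰.X a ⟶ U) : ∃ h : T ⟶ U, ∀ a, 𝒰.f a ≫ h = φ a := by
  classical
  have compat : ∀ a b, pullback.fst (𝒰.f a) (𝒰.f b) ≫ φ a = pullback.snd _ _ ≫ φ b := by
    intro a b
    by_cases hab : a = b
    · subst hab
      have : pullback.fst (𝒰.f a) (𝒰.f a) = pullback.snd _ _ := by
        rw [← cancel_mono (𝒰.f a)]; exact pullback.condition
      exact congrArg (fun t => t ≫ φ a) this
    · have : IsEmpty ↥(pullback (𝒰.f a) (𝒰.f b)) := by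
        constructor
        intro z
        have h1 : (pullback.fst (𝒰.f a) (𝒰.f b) ≫ 𝒰.f a) z ∈ Set.range (𝒰.f a) := ⟨_, rfl⟩
        have h2 : (pullback.fst (𝒰.f a) (𝒰.f b) ≫ 𝒰.f a) z ∈ Set.range (𝒰.f b) := by
          rw [pullback.condition]; exact ⟨_, rfl⟩
        exact Set.disjoint_left.1 (hdisj a b hab) h1 h2
      exact (isInitialOfIsEmpty (X := pullback (𝒰.f a) (𝒰.f b))).hom_ext _ _
  exact ⟨𝒰.glueMorphisms φ compat, fun a => 𝒰.ι_glueMorphisms φ compat a⟩

theorem propC_of_injective {X Y : Scheme.{u}} (f : X ⟶ Y) [IsIntegralHom f]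
    (hinj : Function.Injective f) : BigSite.PropC f := by
  intro U g _
  classical
  haveI : LocallyQuasiFinite g := Groth.Agent.Helper4.SchLQF.locallyQuasiFinite_of_etale g
  have hO : ∀ u : U, ∃ O : U.Opens, (O : Set U) ∩ g ⁻¹' {g u} = {u} := by
    intro u
    obtain ⟨O, hO, hOF⟩ := isOpen_inter_eq_singleton_of_mem_discrete
      (g.isDiscrete_preimage_singleton (g u)) (x := u) rfl
    exact ⟨⟨O, hO⟩, hOF⟩
  choose O hOF using hO
  have huO : ∀ u, u ∈ O u := by
    intro u
    have h1 : u ∈ (O u : Set U) ∩ g ⁻¹' {g u} := by rw [hOF]; rfl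
    exact h1.1
  have key : ∀ u : U, ∃ (V : Scheme.{u}) (v : V ⟶ Y) (pt : V), Etale v ∧ v pt = f (g u) ∧
      ∃ h : pullback f v ⟶ (O u : Scheme.{u}), h ≫ (O u).ι ≫ g = pullback.fst f v := by
    intro u
    refine localB1_of_isIntegralHom f (f (g u)) (O u) ((O u).ι ≫ g) ?_
    intro x hx
    have h1 : x = g u := hinj hx
    exact ⟨⟨u, huO u⟩, h1.symm⟩
  choose V v pt hv hpt h hh using key
  let Vc : Scheme.{u} := ∐ V
  let vc : Vc ⟶ Y := Sigma.desc v
  haveI : IsZariskiLocalAtSource @Etale.{u} :=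
    HasRingHomProperty.instIsZariskiLocalAtSource (Q := RingHom.Etale)
  haveI : Etale vc := IsZariskiLocalAtSource.sigmaDesc hv
  let κ : ∀ u, pullback f (v u) ⟶ pullback f vc := fun u =>
    pullback.lift (pullback.fst f (v u)) (pullback.snd f (v u) ≫ Sigma.ι V u)
      (by rw [pullback.condition, Category.assoc, Sigma.ι_desc])
  have hκ1 : ∀ u, κ u ≫ pullback.fst f vc = pullback.fst f (v u) :=
    fun u => pullback.lift_fst _ _ _
  have hκ2 : ∀ u, κ u ≫ pullback.snd f vc = pullback.snd f (v u) ≫ Sigma.ι V u :=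
    fun u => pullback.lift_snd _ _ _
  have hκpb : ∀ u, IsPullback (κ u) (pullback.snd f (v u)) (pullback.snd f vc) (Sigma.ι V u) := by
    intro u
    refine IsPullback.of_right ?_ (hκ2 u) (IsPullback.of_hasPullback f vc)
    rw [hκ1]
    have h1 : Sigma.ι V u ≫ vc = v u := Sigma.ι_desc v u
    rw [h1]
    exact IsPullback.of_hasPullback f (v u)
  haveI : ∀ u, IsOpenImmersion (κ u) := fun u =>
    MorphismProperty.of_isPullback (P := @IsOpenImmersion) (hκpb u).flip inferInstance
  let 𝒰 : (pullback f vc).OpenCover :=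
    { I₀ := U
      X := fun u => pullback f (v u)
      f := κ
      mem₀ := by
        rw [Scheme.presieve₀_mem_precoverage_iff]
        refine ⟨fun x => ?_, inferInstance⟩
        have h1 : pullback.snd f vc x ∈ (⊤ : (∐ V).Opens) := trivial
        rw [← (sigmaOpenCover V).iSup_opensRange] at h1
        obtain ⟨u, a, ha⟩ := TopologicalSpace.Opens.mem_iSup.1 h1
        obtain ⟨z, hz1, -⟩ := exists_preimage_of_isPullback (hκpb u) x a ha.symm
        exact ⟨u, z, hz1⟩ }
  have hdisj : ∀ a b, a ≠ b → Disjoint (Set.range (𝒰.f a)) (Set.range (𝒰.f b)) := by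
    intro a b hab
    rw [Set.disjoint_left]
    rintro _ ⟨z, rfl⟩ ⟨z', hz'⟩
    have h1 : pullback.snd f vc (κ a z) ∈ (Sigma.ι V a).opensRange := by
      have h2 : (κ a ≫ pullback.snd f vc) z = (pullback.snd f (v a) ≫ Sigma.ι V a) z := by
        rw [hκ2]
      exact ⟨_, h2.symm⟩
    have h3 : pullback.snd f vc (κ a z) ∈ (Sigma.ι V b).opensRange := by
      have h2 : (κ b ≫ pullback.snd f vc) z' = (pullback.snd f (v b) ≫ Sigma.ι V b) z' := by
        rw [hκ2]
      have h4 : κ b z' = κ a z := hz'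
      refine ⟨_, h2.symm.trans ?_⟩
      show pullback.snd f vc (κ b z') = _
      rw [h4]
    exact (disjoint_opensRange_sigmaι V a b hab).le_bot ⟨h1, h3⟩
  obtain ⟨hg, hhg⟩ := glue_disjoint_cover 𝒰 hdisj (fun u => h u ≫ (O u).ι)
  refine ⟨Vc, vc, inferInstance, hg, ?_, ⟨fun u => ?_⟩⟩
  · apply 𝒰.hom_ext
    intro u
    have e1 : κ u ≫ hg ≫ g = κ u ≫ pullback.fst f vc := by
      rw [← Category.assoc, hhg, Category.assoc, hh, hκ1]
    exact e1
  · obtain ⟨z, hz1, hz2⟩ := Scheme.Pullback.exists_preimage_pullback (f := f) (g := v u) (g u)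
      (pt u) (hpt u).symm
    refine ⟨κ u z, ?_⟩
    have h1 : hg (κ u z) = (O u).ι (h u z) := by
      have h2 : (κ u ≫ hg) z = (h u ≫ (O u).ι) z := by rw [hhg]
      exact h2
    rw [h1]
    have h3 : (O u).ι (h u z) ∈ (O u : Set U) ∩ g ⁻¹' {g u} := by
      refine ⟨(h u z).2, ?_⟩
      show g ((O u).ι (h u z)) = g u
      have h4 : (h u ≫ (O u).ι ≫ g) z = pullback.fst f (v u) z := by rw [hh]
      exact h4.trans hz1
    rw [hOF] at h3
    exact h3

end Groth.Agent.Helper9.LocalG
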