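import Mathlib
import Groth.Agent.Helper9.PshFlat
import Groth.Agent.Helper9.ChaseMono
import Groth.Agent.Helper9.TensorSES

/-!
# Presheaves of modules: short exact sequences with flat quotient stay exact after tensoring
-/

namespace Groth.Agent.Helper9.PshSES

open CategoryTheory MonoidalCategory Opposite Limits Groth.Agent.Helper9.TensorSES

universe u

variable {C : Type u} [SmallCategory C] (O : Cᵒᵖ ⥤ CommRingCat.{u})

/-- every presheaf of modules is a quotient of a sectionwise free one -/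
lemma exists_epi_flat (G : PresheafOfModules.{u} (O ⋙ forget₂ CommRingCat.{u} RingCat.{u})) :
    ∃ (L : PresheafOfModules.{u} (O ⋙ forget₂ CommRingCat.{u} RingCat.{u})) (π : L ⟶ G),
      (∀ X : Cᵒᵖ, Module.Flat (O.obj X) (L.obj X)) ∧ Epi π := by
  haveI : (PresheafOfModules.toPresheaf (O ⋙ forget₂ CommRingCat.{u} RingCat.{u}) ⋙
      (Functor.whiskeringRight _ _ _).obj (forget Ab)).Faithful := inferInstance
  refine ⟨_, (PresheafOfModules.freeAdjunction
    (O ⋙ forget₂ CommRingCat.{u} RingCat.{u})).counit.app G, fun X => ?_, inferInstance⟩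
  exact inferInstanceAs (Module.Flat (O.obj X) (_ →₀ O.obj X))

instance (M : PresheafOfModules.{u} (O ⋙ forget₂ CommRingCat.{u} RingCat.{u})) :
    PreservesFiniteColimits (tensorLeft M) :=
  preservesFiniteColimits_of_natIso (BraidedCategory.tensorLeftIsoTensorRight M).symm

lemma mono_whiskerLeft_of_flat (M : PresheafOfModules.{u} (O ⋙ forget₂ CommRingCat.{u} RingCat.{u}))
    [PreservesFiniteLimits (tensorRight M)]
    {K L : PresheafOfModules.{u} (O ⋙ forget₂ CommRingCat.{u} RingCat.{u})} (k : K ⟶ L) [Mono k] :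
    Mono (M ◁ k) := by
  haveI : Mono (k ▷ M) := (tensorRight M).map_mono k
  have h : M ◁ k = (β_ M K).hom ≫ (k ▷ M) ≫ (β_ M L).inv := by
    rw [← Category.assoc, ← BraidedCategory.braiding_naturality_right, Category.assoc,
      Iso.hom_inv_id, Category.comp_id]
  rw [h]
  infer_instance

theorem mono_whiskerRight_of_flat_quotient
    (S : ShortComplex (PresheafOfModules.{u} (O ⋙ forget₂ CommRingCat.{u} RingCat.{u})))
    (hS : S.ShortExact) [PreservesFiniteLimits (tensorRight S.X₃)]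
    (G : PresheafOfModules.{u} (O ⋙ forget₂ CommRingCat.{u} RingCat.{u})) : Mono (S.f ▷ G) := by
  obtain ⟨L, π, hL, hπ⟩ := exists_epi_flat O G
  let Sk : ShortComplex (PresheafOfModules.{u} (O ⋙ forget₂ CommRingCat.{u} RingCat.{u})) :=
    ShortComplex.mk (kernel.ι π) π (kernel.condition π)
  have hSk : Sk.ShortExact :=
    { exact := ShortComplex.exact_kernel π
      mono_f := by dsimp [Sk]; infer_instance
      epi_g := hπ }
  obtain ⟨z₁, _, he₁⟩ := map_exact_epi (tensorLeft S.X₁) Sk hSk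
  obtain ⟨z₂, hx₂, _⟩ := map_exact_epi (tensorLeft S.X₂) Sk hSk
  obtain ⟨zK, hxK, _⟩ := map_exact_epi (tensorRight (kernel π)) S hS
  haveI : Mono S.f := hS.mono_f
  haveI : Mono (S.f ▷ L) := PshFlat.mono_whiskerRight O L hL S.f
  haveI : Mono (S.X₃ ◁ kernel.ι π) := mono_whiskerLeft_of_flat O S.X₃ _
  haveI : Epi (S.X₁ ◁ π) := he₁
  have huv : S.f ▷ L ≫ S.g ▷ L = 0 := by
    rw [← comp_whiskerRight, S.zero]
    exact (tensorRight L).map_zero _ _
  exact ChaseMono.mono_of_chase (S.X₁ ◁ kernel.ι π) (S.X₁ ◁ π)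
    (S.X₂ ◁ kernel.ι π) (S.X₂ ◁ π) (S.X₃ ◁ kernel.ι π)
    (S.f ▷ kernel π) (S.g ▷ kernel π) (S.f ▷ L) (S.g ▷ L)
    (S.f ▷ G) z₁ z₂ hx₂ zK hxK huv
    (whisker_exchange S.f (kernel.ι π))
    (whisker_exchange S.g (kernel.ι π))
    (whisker_exchange S.f π)

theorem shortExact_map_tensorRight
    (S : ShortComplex (PresheafOfModules.{u} (O ⋙ forget₂ CommRingCat.{u} RingCat.{u})))
    (hS : S.ShortExact) [PreservesFiniteLimits (tensorRight S.X₃)]
    (G : PresheafOfModules.{u} (O ⋙ forget₂ CommRingCat.{u} RingCat.{u}))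
    [(tensorRight G).PreservesZeroMorphisms] :
    (S.map (tensorRight G)).ShortExact := by
  obtain ⟨z, hx, he⟩ := map_exact_epi (tensorRight G) S hS
  exact { exact := hx, mono_f := mono_whiskerRight_of_flat_quotient O S hS G, epi_g := he }

end Groth.Agent.Helper9.PshSES
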