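import Mathlib
import Groth.Prelude.Def_W4c5quivmodgenus0Quiv

set_option autoImplicit false
set_option linter.unusedSectionVars false
universe u v

namespace Groth.Agent.Helper9.PtQ

open PtQuiv

variable {K : Type u} [Field K] {κ : Type v} [Fintype κ] [DecidableEq κ]

theorem line_mem (L : Submodule K (Fin 2 → K))
    (hL : Module.finrank K L = 1)
    (x y : Fin 2 → K) (hx : x ∈ L) (hy : y ∈ L) (hy0 : y ≠ 0) : x ∈ K ∙ y := by
  obtain ⟨v, hv0, hv⟩ := finrank_eq_one_iff'.mp hL
  obtain ⟨c1, hc1⟩ := hv ⟨x, hx⟩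
  obtain ⟨c2, hc2⟩ := hv ⟨y, hy⟩
  have h1 : c1 • (v : Fin 2 → K) = x := by simpa using congrArg Subtype.val hc1
  have h2 : c2 • (v : Fin 2 → K) = y := by simpa using congrArg Subtype.val hc2
  have hc20 : c2 ≠ 0 := by
    rintro rfl
    rw [zero_smul] at h2
    exact hy0 h2.symm
  rw [Submodule.mem_span_singleton]
  refine ⟨c1 / c2, ?_⟩
  rw [← h2, ← h1, smul_smul, div_mul_cancel₀ _ hc20]

/-- the subtype embedding -/
abbrev emb (a b : κ) : {i : κ // i ≠ a ∧ i ≠ b} ↪ κ := Function.Embedding.subtype _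

theorem sum_map (a b : κ) (I : Finset {i : κ // i ≠ a ∧ i ≠ b}) (f : κ → ℚ) :
    ∑ i ∈ I.map (emb a b), f i = ∑ i ∈ I, f i.1 := by
  rw [Finset.sum_map]
  rfl

theorem a_notMem (a b : κ) (I : Finset {i : κ // i ≠ a ∧ i ≠ b}) : a ∉ I.map (emb a b) := by
  intro h
  obtain ⟨i, _, hi⟩ := Finset.mem_map.mp h
  exact i.2.1 hi

theorem b_notMem (a b : κ) (I : Finset {i : κ // i ≠ a ∧ i ≠ b}) : b ∉ I.map (emb a b) := by
  intro h
  obtain ⟨i, _, hi⟩ := Finset.mem_map.mp h
  exact i.2.2 hi

theorem map_subtype (a b : κ) (I : Finset κ) (ha : a ∉ I) (hb : b ∉ I) :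
    (I.subtype (fun i => i ≠ a ∧ i ≠ b)).map (emb a b) = I := by
  rw [Finset.subtype_map]
  apply Finset.filter_true_of_mem
  intro i hi
  exact ⟨fun h => ha (h ▸ hi), fun h => hb (h ▸ hi)⟩

theorem pwt_eq (a b : κ) (θ : κ → ℚ) (c : ℚ) (U : Fin 2 → Submodule K K)
    (I : Finset {i : κ // i ≠ a ∧ i ≠ b}) :
    PWt K ![c * (θ a - 1), c * (θ b - 1)] (fun i : {i : κ // i ≠ a ∧ i ≠ b} => c * θ i.1) U I =
      c * ((θ a - 1) * (Module.finrank K (U 0) : ℚ) + (θ b - 1) * (Module.finrank K (U 1) : ℚ)
        + ∑ i ∈ I.map (emb a b), θ i) := by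
  unfold PWt
  rw [Fin.sum_univ_two, sum_map, ← Finset.mul_sum]
  simp only [Matrix.cons_val_zero, Matrix.cons_val_one]
  ring

theorem sum_le_two_a (θ : κ → ℚ) (h0 : ∀ i, 0 ≤ θ i) (h2 : ∑ i, θ i = 2) (a : κ) (I : Finset κ)
    (ha : a ∉ I) : ∑ i ∈ I, θ i + θ a ≤ 2 := by
  have h1 : ∑ i ∈ insert a I, θ i = θ a + ∑ i ∈ I, θ i := Finset.sum_insert ha
  have h3 : ∑ i ∈ insert a I, θ i ≤ ∑ i, θ i := Finset.sum_le_univ_sum_of_nonneg h0
  linarith

theorem sum_le_two_ab (θ : κ → ℚ) (h0 : ∀ i, 0 ≤ θ i) (h2 : ∑ i, θ i = 2) (a b : κ) (hab : a ≠ b)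
    (I : Finset κ) (ha : a ∉ I) (hb : b ∉ I) : ∑ i ∈ I, θ i + θ a + θ b ≤ 2 := by
  have h1 : ∑ i ∈ insert a (insert b I), θ i = θ a + (θ b + ∑ i ∈ I, θ i) := by
    rw [Finset.sum_insert (by simp [hab, ha]), Finset.sum_insert hb]
  have h3 : ∑ i ∈ insert a (insert b I), θ i ≤ ∑ i, θ i := Finset.sum_le_univ_sum_of_nonneg h0
  linarith

theorem bot_ne_top_fun : (⊥ : Fin 2 → Submodule K K) ≠ ⊤ := by
  intro h
  have := congrFun h 0
  exact bot_ne_top this

theorem finrank_top_K : Module.finrank K (⊤ : Submodule K K) = 1 := by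
  rw [finrank_top, Module.finrank_self]

theorem finrank_bot_K : Module.finrank K (⊥ : Submodule K K) = 0 := finrank_bot K K


section LI

variable (a b : κ) (s : κ → (Fin 2 → K)) (hLI : LinearIndependent K ![s a, s b])
include hLI

theorem li_zero (x y : K) (h : x • s a + y • s b = 0) : x = 0 ∧ y = 0 :=
  (LinearIndependent.pair_iff.mp hLI) x y h

theorem sa_ne : s a ≠ 0 := by
  intro h
  have := li_zero a b s hLI 1 0 (by rw [h]; simp)
  exact one_ne_zero this.1

theorem sb_ne : s b ≠ 0 := by
  intro h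
  have := li_zero a b s hLI 0 1 (by rw [h]; simp)
  exact one_ne_zero this.2

theorem sb_notMem : s b ∉ K ∙ s a := by
  intro h
  obtain ⟨x, hx⟩ := Submodule.mem_span_singleton.mp h
  have := li_zero a b s hLI x (-1) (by rw [hx]; simp)
  have h1 : (-1 : K) = 0 := this.2
  exact one_ne_zero (by linear_combination -h1)

theorem sa_notMem : s a ∉ K ∙ s b := by
  intro h
  obtain ⟨x, hx⟩ := Submodule.mem_span_singleton.mp h
  have := li_zero a b s hLI (-1) x (by rw [hx]; simp)
  have h1 : (-1 : K) = 0 := this.1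
  exact one_ne_zero (by linear_combination -h1)

variable (t : {i : κ // i ≠ a ∧ i ≠ b} → (Fin 2 → K))
  (ht : ∀ i, s i.1 = t i 0 • s a + t i 1 • s b)
include ht

theorem t_zero (j : {i : κ // i ≠ a ∧ i ≠ b}) (h : s j.1 = 0) : t j 0 = 0 ∧ t j 1 = 0 := by
  rw [ht j] at h
  exact li_zero a b s hLI _ _ h

theorem t_one_zero (j : {i : κ // i ≠ a ∧ i ≠ b}) (h : s j.1 ∈ K ∙ s a) : t j 1 = 0 := by
  obtain ⟨x, hx⟩ := Submodule.mem_span_singleton.mp h
  have := li_zero a b s hLI (t j 0 - x) (t j 1) (by
    rw [sub_smul, hx, ht j]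
    abel)
  exact this.2

theorem t_zero_zero (j : {i : κ // i ≠ a ∧ i ≠ b}) (h : s j.1 ∈ K ∙ s b) : t j 0 = 0 := by
  obtain ⟨x, hx⟩ := Submodule.mem_span_singleton.mp h
  have := li_zero a b s hLI (t j 0) (t j 1 - x) (by
    rw [sub_smul, hx, ht j]
    abel)
  exact this.1

end LI


theorem p_to_q (a b : κ) (hab : a ≠ b) (s : κ → (Fin 2 → K)) (θ : κ → ℚ) (c : ℚ)
    (hLI : LinearIndependent K ![s a, s b])
    (t : {i : κ // i ≠ a ∧ i ≠ b} → (Fin 2 → K))
    (ht : ∀ i, s i.1 = t i 0 • s a + t i 1 • s b)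
    (U : Fin 2 → Submodule K K) (I : Finset {i : κ // i ≠ a ∧ i ≠ b}) (hsub : PSubrep t U I) :
    ∃ (L : Submodule K (Fin 2 → K)) (I' : Finset κ), QSubrep s L I' ∧
      PWt K ![c * (θ a - 1), c * (θ b - 1)] (fun i : {i : κ // i ≠ a ∧ i ≠ b} => c * θ i.1) U I
        = c * QWt K (-1) θ L I' ∧
      (L = ⊥ ∧ I' = ∅ → U = ⊥ ∧ I = ∅) ∧
      (L = ⊤ ∧ I' = Finset.univ → U = ⊤ ∧ I = Finset.univ) := by
  have hsa := sa_ne a b s hLI
  have hsb := sb_ne a b s hLI
  have hbt : (⊥ : Submodule K (Fin 2 → K)) ≠ ⊤ := bot_ne_top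
  rcases Ideal.eq_bot_or_top (U 0) with h0 | h0 <;> rcases Ideal.eq_bot_or_top (U 1) with h1 | h1
  · -- (⊥, ⊥)
    refine ⟨⊥, I.map (emb a b), ?_, ?_, ?_, ?_⟩
    · intro i hi
      obtain ⟨j, hj, rfl⟩ := Finset.mem_map.mp hi
      have e0 : t j 0 = 0 := by
        have := hsub j hj 0
        rw [h0] at this
        exact this
      have e1 : t j 1 = 0 := by
        have := hsub j hj 1
        rw [h1] at this
        exact this
      show s j.1 ∈ (⊥ : Submodule K (Fin 2 → K))
      rw [ht j, e0, e1]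
      simp
    · rw [pwt_eq, h0, h1]
      unfold QWt
      rw [show Module.finrank K (⊥ : Ideal K) = 0 from finrank_bot K K, finrank_bot]
      push_cast
      ring
    · rintro ⟨_, hI⟩
      refine ⟨?_, Finset.map_eq_empty.mp hI⟩
      funext j
      fin_cases j
      · exact h0
      · exact h1
    · rintro ⟨hL, _⟩
      exact absurd hL hbt
  · -- (⊥, ⊤)
    have hfin : Module.finrank K (K ∙ s b) = 1 := finrank_span_singleton hsb
    refine ⟨K ∙ s b, insert b (I.map (emb a b)), ?_, ?_, ?_, ?_⟩
    · intro i hi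
      rcases Finset.mem_insert.mp hi with rfl | hi
      · exact Submodule.mem_span_singleton_self _
      · obtain ⟨j, hj, rfl⟩ := Finset.mem_map.mp hi
        have e0 : t j 0 = 0 := by
          have := hsub j hj 0
          rw [h0] at this
          exact this
        show s j.1 ∈ K ∙ s b
        rw [ht j, e0, zero_smul, zero_add]
        exact Submodule.smul_mem _ _ (Submodule.mem_span_singleton_self _)
    · rw [pwt_eq, h0, h1]
      unfold QWt
      rw [Finset.sum_insert (b_notMem a b I), hfin,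
        show Module.finrank K (⊥ : Ideal K) = 0 from finrank_bot K K,
        show Module.finrank K (⊤ : Ideal K) = 1 from finrank_top_K]
      push_cast
      ring
    · rintro ⟨hL, _⟩
      rw [hL, finrank_bot] at hfin
      exact absurd hfin (by norm_num)
    · rintro ⟨hL, _⟩
      rw [hL, finrank_top, Module.finrank_fin_fun] at hfin
      exact absurd hfin (by norm_num)
  · -- (⊤, ⊥)
    have hfin : Module.finrank K (K ∙ s a) = 1 := finrank_span_singleton hsa
    refine ⟨K ∙ s a, insert a (I.map (emb a b)), ?_, ?_, ?_, ?_⟩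
    · intro i hi
      rcases Finset.mem_insert.mp hi with rfl | hi
      · exact Submodule.mem_span_singleton_self _
      · obtain ⟨j, hj, rfl⟩ := Finset.mem_map.mp hi
        have e1 : t j 1 = 0 := by
          have := hsub j hj 1
          rw [h1] at this
          exact this
        show s j.1 ∈ K ∙ s a
        rw [ht j, e1, zero_smul, add_zero]
        exact Submodule.smul_mem _ _ (Submodule.mem_span_singleton_self _)
    · rw [pwt_eq, h0, h1]
      unfold QWt
      rw [Finset.sum_insert (a_notMem a b I), hfin,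
        show Module.finrank K (⊥ : Ideal K) = 0 from finrank_bot K K,
        show Module.finrank K (⊤ : Ideal K) = 1 from finrank_top_K]
      push_cast
      ring
    · rintro ⟨hL, _⟩
      rw [hL, finrank_bot] at hfin
      exact absurd hfin (by norm_num)
    · rintro ⟨hL, _⟩
      rw [hL, finrank_top, Module.finrank_fin_fun] at hfin
      exact absurd hfin (by norm_num)
  · -- (⊤, ⊤)
    refine ⟨⊤, insert a (insert b (I.map (emb a b))), ?_, ?_, ?_, ?_⟩
    · intro i _
      exact Submodule.mem_top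
    · rw [pwt_eq, h0, h1]
      unfold QWt
      have e2 : Module.finrank K (⊤ : Submodule K (Fin 2 → K)) = 2 := by
        rw [finrank_top, Module.finrank_fin_fun]
      rw [Finset.sum_insert (by simp [hab, a_notMem a b I]), Finset.sum_insert (b_notMem a b I),
        e2, show Module.finrank K (⊤ : Ideal K) = 1 from finrank_top_K]
      push_cast
      ring
    · rintro ⟨hL, _⟩
      exact absurd hL.symm hbt
    · rintro ⟨_, hI⟩
      refine ⟨?_, ?_⟩
      · funext j
        fin_cases j
        · exact h0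
        · exact h1
      · rw [Finset.eq_univ_iff_forall]
        intro j
        have hj : j.1 ∈ insert a (insert b (I.map (emb a b))) := by
          rw [hI]
          exact Finset.mem_univ _
        rcases Finset.mem_insert.mp hj with h | hj
        · exact absurd h j.2.1
        rcases Finset.mem_insert.mp hj with h | hj
        · exact absurd h j.2.2
        obtain ⟨j', hj', he⟩ := Finset.mem_map.mp hj
        have : j' = j := Subtype.ext he
        rwa [← this]


theorem q_to_p (a b : κ) (hab : a ≠ b) (s : κ → (Fin 2 → K)) (θ : κ → ℚ)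
    (h0 : ∀ i, 0 ≤ θ i) (h2 : ∑ i, θ i = 2) (hθa : 0 < θ a) (hθb : 0 < θ b)
    (hθ : 1 < θ a + θ b) (c : ℚ)
    (hLI : LinearIndependent K ![s a, s b])
    (t : {i : κ // i ≠ a ∧ i ≠ b} → (Fin 2 → K))
    (ht : ∀ i, s i.1 = t i 0 • s a + t i 1 • s b)
    (L : Submodule K (Fin 2 → K)) (I : Finset κ) (hsub : QSubrep s L I) :
    QWt K (-1) θ L I < 0 ∨
    ∃ (U : Fin 2 → Submodule K K) (I₀ : Finset {i : κ // i ≠ a ∧ i ≠ b}), PSubrep t U I₀ ∧
      PWt K ![c * (θ a - 1), c * (θ b - 1)] (fun i : {i : κ // i ≠ a ∧ i ≠ b} => c * θ i.1) U I₀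
        = c * QWt K (-1) θ L I ∧
      (U = ⊥ ∧ I₀ = ∅ → L = ⊥ ∧ I = ∅) ∧
      (U = ⊤ ∧ I₀ = Finset.univ → L = ⊤ ∧ I = Finset.univ) := by
  have hsa := sa_ne a b s hLI
  have hsb := sb_ne a b s hLI
  have hle : Module.finrank K L ≤ 2 := by
    have := Submodule.finrank_le L
    rwa [Module.finrank_fin_fun] at this
  have hbt : (⊥ : Submodule K K) ≠ ⊤ := bot_ne_top
  interval_cases hL : Module.finrank K L
  · -- L = ⊥
    have hbot : L = ⊥ := Submodule.finrank_eq_zero.mp hL
    have hz : ∀ i ∈ I, s i = 0 := by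
      intro i hi
      have := hsub i hi
      rwa [hbot, Submodule.mem_bot] at this
    have ha : a ∉ I := fun h => hsa (hz a h)
    have hb : b ∉ I := fun h => hsb (hz b h)
    right
    refine ⟨⊥, I.subtype (fun i => i ≠ a ∧ i ≠ b), ?_, ?_, ?_, ?_⟩
    · intro j hj k
      have hj' : j.1 ∈ I := Finset.mem_subtype.mp hj
      have := t_zero a b s hLI t ht j (hz j.1 hj')
      show t j k ∈ (⊥ : Submodule K K)
      fin_cases k
      · exact this.1
      · exact this.2
    · rw [pwt_eq, map_subtype a b I ha hb]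
      unfold QWt
      have f0 : Module.finrank K ((⊥ : Fin 2 → Submodule K K) 0) = 0 := finrank_bot_K
      have f1 : Module.finrank K ((⊥ : Fin 2 → Submodule K K) 1) = 0 := finrank_bot_K
      rw [hL, f0, f1]
      push_cast
      ring
    · rintro ⟨_, hI⟩
      refine ⟨hbot, ?_⟩
      rw [← map_subtype a b I ha hb, hI, Finset.map_empty]
    · rintro ⟨hU, _⟩
      exact absurd hU bot_ne_top_fun
  · -- line
    by_cases ha : a ∈ I
    · have hb : b ∉ I := fun h =>
        sb_notMem a b s hLI (line_mem L hL _ _ (hsub b h) (hsub a ha) hsa)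
      right
      have hb' : b ∉ I.erase a := fun h => hb (Finset.mem_of_mem_erase h)
      have ha' : a ∉ I.erase a := Finset.notMem_erase a I
      refine ⟨![⊤, ⊥], (I.erase a).subtype (fun i => i ≠ a ∧ i ≠ b), ?_, ?_, ?_, ?_⟩
      · intro j hj k
        have hj' : j.1 ∈ I := Finset.mem_of_mem_erase (Finset.mem_subtype.mp hj)
        have := t_one_zero a b s hLI t ht j (line_mem L hL _ _ (hsub j.1 hj') (hsub a ha) hsa)
        fin_cases k
        · exact Submodule.mem_top
        · exact this
      · rw [pwt_eq, map_subtype a b _ ha' hb']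
        unfold QWt
        have f0 : Module.finrank K ((![⊤, ⊥] : Fin 2 → Submodule K K) 0) = 1 := finrank_top_K
        have f1 : Module.finrank K ((![⊤, ⊥] : Fin 2 → Submodule K K) 1) = 0 := finrank_bot_K
        rw [hL, ← Finset.add_sum_erase I θ ha, f0, f1]
        push_cast
        ring
      · rintro ⟨hU, _⟩
        have := congrFun hU 0
        exact absurd this.symm hbt
      · rintro ⟨hU, _⟩
        have := congrFun hU 1
        exact absurd this hbt
    · by_cases hb : b ∈ I
      · right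
        have hb' : b ∉ I.erase b := Finset.notMem_erase b I
        have ha' : a ∉ I.erase b := fun h => ha (Finset.mem_of_mem_erase h)
        refine ⟨![⊥, ⊤], (I.erase b).subtype (fun i => i ≠ a ∧ i ≠ b), ?_, ?_, ?_, ?_⟩
        · intro j hj k
          have hj' : j.1 ∈ I := Finset.mem_of_mem_erase (Finset.mem_subtype.mp hj)
          have := t_zero_zero a b s hLI t ht j (line_mem L hL _ _ (hsub j.1 hj') (hsub b hb) hsb)
          fin_cases k
          · exact this
          · exact Submodule.mem_top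
        · rw [pwt_eq, map_subtype a b _ ha' hb']
          unfold QWt
          have f0 : Module.finrank K ((![⊥, ⊤] : Fin 2 → Submodule K K) 0) = 0 := finrank_bot_K
          have f1 : Module.finrank K ((![⊥, ⊤] : Fin 2 → Submodule K K) 1) = 1 := finrank_top_K
          rw [hL, ← Finset.add_sum_erase I θ hb, f0, f1]
          push_cast
          ring
        · rintro ⟨hU, _⟩
          have := congrFun hU 1
          exact absurd this.symm hbt
        · rintro ⟨hU, _⟩
          have := congrFun hU 0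
          exact absurd this hbt
      · left
        have := sum_le_two_ab θ h0 h2 a b hab I ha hb
        unfold QWt
        rw [hL]
        push_cast
        linarith
  · -- L = ⊤
    have htop : L = ⊤ := by
      apply Submodule.eq_top_of_finrank_eq
      rw [hL, Module.finrank_fin_fun]
    by_cases ha : a ∈ I
    · by_cases hb : b ∈ I
      · right
        have hb1 : b ∈ I.erase a := Finset.mem_erase.mpr ⟨hab.symm, hb⟩
        have hb' : b ∉ (I.erase a).erase b := Finset.notMem_erase b _
        have ha' : a ∉ (I.erase a).erase b := fun h =>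
          Finset.notMem_erase a I (Finset.mem_of_mem_erase h)
        refine ⟨⊤, ((I.erase a).erase b).subtype (fun i => i ≠ a ∧ i ≠ b), ?_, ?_, ?_, ?_⟩
        · intro j _ k
          exact Submodule.mem_top
        · rw [pwt_eq, map_subtype a b _ ha' hb']
          unfold QWt
          have f0 : Module.finrank K ((⊤ : Fin 2 → Submodule K K) 0) = 1 := finrank_top_K
          have f1 : Module.finrank K ((⊤ : Fin 2 → Submodule K K) 1) = 1 := finrank_top_K
          rw [hL, ← Finset.add_sum_erase I θ ha, ← Finset.add_sum_erase (I.erase a) θ hb1, f0, f1]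
          push_cast
          ring
        · rintro ⟨hU, _⟩
          exact absurd hU.symm bot_ne_top_fun
        · rintro ⟨_, hI⟩
          refine ⟨htop, ?_⟩
          rw [Finset.eq_univ_iff_forall]
          intro i
          by_cases hia : i = a
          · rw [hia]; exact ha
          by_cases hib : i = b
          · rw [hib]; exact hb
          have : (⟨i, hia, hib⟩ : {i : κ // i ≠ a ∧ i ≠ b}) ∈
              ((I.erase a).erase b).subtype (fun i => i ≠ a ∧ i ≠ b) := by
            rw [hI]
            exact Finset.mem_univ _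
          have h3 : i ∈ (I.erase a).erase b := Finset.mem_subtype.mp this
          exact Finset.mem_of_mem_erase (Finset.mem_of_mem_erase h3)
      · left
        have := sum_le_two_a θ h0 h2 b I hb
        unfold QWt
        rw [hL]
        push_cast
        linarith
    · left
      have := sum_le_two_a θ h0 h2 a I ha
      unfold QWt
      rw [hL]
      push_cast
      linarith


theorem sum_sub (a b : κ) (hab : a ≠ b) (f : κ → ℚ) :
    ∑ i : {i : κ // i ≠ a ∧ i ≠ b}, f i.1 = ∑ i, f i - f a - f b := by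
  have h : insert a (insert b ((Finset.univ : Finset {i : κ // i ≠ a ∧ i ≠ b}).map (emb a b)))
      = Finset.univ := by
    rw [Finset.eq_univ_iff_forall]
    intro i
    by_cases hia : i = a
    · rw [hia]; exact Finset.mem_insert_self _ _
    by_cases hib : i = b
    · rw [hib]; exact Finset.mem_insert_of_mem (Finset.mem_insert_self _ _)
    · refine Finset.mem_insert_of_mem (Finset.mem_insert_of_mem ?_)
      exact Finset.mem_map.mpr ⟨⟨i, hia, hib⟩, Finset.mem_univ _, rfl⟩
  rw [← h, Finset.sum_insert (by simp [hab, a_notMem a b]), Finset.sum_insert (b_notMem a b _),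
    sum_map]
  ring

theorem not_li_contra (a b : κ) (hab : a ≠ b) (s : κ → (Fin 2 → K)) (θ : κ → ℚ)
    (hθ : 1 < θ a + θ b) (hss : QSemistable (-1) θ s) : LinearIndependent K ![s a, s b] := by
  by_contra hLI
  rw [linearIndependent_iff_card_eq_finrank_span] at hLI
  have hle : (Set.range ![s a, s b]).finrank K ≤ Fintype.card (Fin 2) := finrank_range_le_card _
  rw [Fintype.card_fin] at hle hLI
  have h1 : Module.finrank K (Submodule.span K (Set.range ![s a, s b])) ≤ 1 := by
    have : (Set.range ![s a, s b]).finrank K ≠ 2 := fun h => hLI h.symm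
    have h3 : (Set.range ![s a, s b]).finrank K ≤ 1 := by omega
    exact h3
  have hsub : QSubrep s (Submodule.span K (Set.range ![s a, s b])) {a, b} := by
    intro i hi
    rcases Finset.mem_insert.mp hi with rfl | hi
    · exact Submodule.subset_span ⟨0, rfl⟩
    · rw [Finset.mem_singleton] at hi
      rw [hi]
      exact Submodule.subset_span ⟨1, rfl⟩
  have := hss.2 _ _ hsub
  unfold QWt at this
  rw [Finset.sum_pair hab] at this
  have h3 : (Module.finrank K (Submodule.span K (Set.range ![s a, s b])) : ℚ) ≤ 1 := by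
    exact_mod_cast h1
  linarith

theorem exists_t (a b : κ) (s : κ → (Fin 2 → K)) (hLI : LinearIndependent K ![s a, s b]) :
    ∃ t : {i : κ // i ≠ a ∧ i ≠ b} → (Fin 2 → K), ∀ i, s i.1 = t i 0 • s a + t i 1 • s b := by
  have hcard : Fintype.card (Fin 2) = Module.finrank K (Fin 2 → K) := by
    rw [Module.finrank_fin_fun, Fintype.card_fin]
  have hB : ⇑(basisOfLinearIndependentOfCardEqFinrank hLI hcard) = ![s a, s b] :=
    coe_basisOfLinearIndependentOfCardEqFinrank _ _
  refine ⟨fun i k => (basisOfLinearIndependentOfCardEqFinrank hLI hcard).repr (s i.1) k, ?_⟩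
  intro i
  have := ((basisOfLinearIndependentOfCardEqFinrank hLI hcard).sum_repr (s i.1)).symm
  rw [Fin.sum_univ_two, hB] at this
  exact this

theorem sum_zero (a b : κ) (hab : a ≠ b) (θ : κ → ℚ) (h2 : ∑ i, θ i = 2) (c : ℚ) :
    (∑ j, (![c * (θ a - 1), c * (θ b - 1)] : Fin 2 → ℚ) j) +
      ∑ i : {i : κ // i ≠ a ∧ i ≠ b}, c * θ i.1 = 0 := by
  rw [Fin.sum_univ_two, ← Finset.mul_sum, sum_sub a b hab θ, h2]
  simp only [Matrix.cons_val_zero, Matrix.cons_val_one]
  ring

end Groth.Agent.Helper9.PtQ
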