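import Mathlib
import Groth.Prelude.Def_EtTens2

/-! The fibre of a pointwise tensor product of presheaves of abelian groups at a point of a site
is the tensor product of the fibres. -/

set_option autoImplicit false
set_option linter.style.haveILetI false
universe w v v₁ u₁

open CategoryTheory CategoryTheory.Limits Opposite TensorProduct

namespace Groth.Agent.Helper9.PtTensor

variable {C : Type u₁} [Category.{v₁} C] {J : GrothendieckTopology C}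
  (Φ : GrothendieckTopology.Point.{w} J) [LocallySmall.{w} C]
  [HasColimitsOfSize.{w, w} AddCommGrpCat.{v}]
  [PreservesFilteredColimitsOfSize.{w, w} (forget AddCommGrpCat.{v})]

section One

variable (P : Cᵒᵖ ⥤ AddCommGrpCat.{v})

/-- the germ of a section -/
noncomputable def gm (V : C) (y : Φ.fiber.obj V) (s : P.obj (op V)) :
    ↑(Φ.presheafFiber.obj P) :=
  Φ.toPresheafFiber V y P s

theorem gm_add (V : C) (y : Φ.fiber.obj V) (s s' : P.obj (op V)) :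
    gm Φ P V y (s + s') = gm Φ P V y s + gm Φ P V y s' :=
  map_add _ _ _

theorem gm_map {V V' : C} (a : V' ⟶ V) (y' : Φ.fiber.obj V') (s : P.obj (op V)) :
    gm Φ P V' y' (P.map a.op s) = gm Φ P V (Φ.fiber.map a y') s := by
  have h1 := Φ.toPresheafFiber_w a y' P
  exact congrArg (fun m => m s) (congrArg AddCommGrpCat.Hom.hom h1)

omit [LocallySmall.{w} C] [PreservesFilteredColimitsOfSize.{w, w} (forget AddCommGrpCat.{v})] in
theorem map_comp_apply {V V' V'' : C} (b : V'' ⟶ V') (a : V' ⟶ V) (s : P.obj (op V)) :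
    P.map (b ≫ a).op s = P.map b.op (P.map a.op s) := by
  rw [op_comp, P.map_comp]
  rfl

theorem exists_gm_eq (μ : ↑(Φ.presheafFiber.obj P)) :
    ∃ (V : C) (y : Φ.fiber.obj V) (s : P.obj (op V)), gm Φ P V y s = μ :=
  Φ.toPresheafFiber_jointly_surjective μ

/-- two neighbourhoods of the point have a common refinement -/
theorem exists_refine {V₁ V₂ : C} (y₁ : Φ.fiber.obj V₁) (y₂ : Φ.fiber.obj V₂) :
    ∃ (V : C) (y : Φ.fiber.obj V) (a₁ : V ⟶ V₁) (a₂ : V ⟶ V₂),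
      Φ.fiber.map a₁ y = y₁ ∧ Φ.fiber.map a₂ y = y₂ := by
  let k₁ : Φ.fiber.Elements := ⟨V₁, y₁⟩
  let k₂ : Φ.fiber.Elements := ⟨V₂, y₂⟩
  let m := IsCofiltered.min k₁ k₂
  exact ⟨m.1, m.2, (IsCofiltered.minToLeft k₁ k₂).1, (IsCofiltered.minToRight k₁ k₂).1,
    (IsCofiltered.minToLeft k₁ k₂).2, (IsCofiltered.minToRight k₁ k₂).2⟩

/-- equal germs agree on a common refinement -/
theorem gm_eq {V₁ V₂ : C} (y₁ : Φ.fiber.obj V₁) (y₂ : Φ.fiber.obj V₂) (s₁ : P.obj (op V₁))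
    (s₂ : P.obj (op V₂)) (h : gm Φ P V₁ y₁ s₁ = gm Φ P V₂ y₂ s₂) :
    ∃ (V : C) (y : Φ.fiber.obj V) (a₁ : V ⟶ V₁) (a₂ : V ⟶ V₂),
      Φ.fiber.map a₁ y = y₁ ∧ Φ.fiber.map a₂ y = y₂ ∧ P.map a₁.op s₁ = P.map a₂.op s₂ := by
  obtain ⟨V, y, a₁, a₂, h1, h2⟩ := exists_refine Φ y₁ y₂
  rw [← h1, ← h2, ← gm_map, ← gm_map] at h
  obtain ⟨V', b, y', hy', hb⟩ := (Φ.toPresheafFiber_eq_iff' V y _ _).1 h
  refine ⟨V', y', b ≫ a₁, b ≫ a₂, ?_, ?_, ?_⟩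
  · rw [Φ.fiber.map_comp]
    show Φ.fiber.map a₁ (Φ.fiber.map b y') = y₁
    rw [hy', h1]
  · rw [Φ.fiber.map_comp]
    show Φ.fiber.map a₂ (Φ.fiber.map b y') = y₂
    rw [hy', h2]
  · rw [map_comp_apply, map_comp_apply]
    exact hb

end One

variable (P Q : Cᵒᵖ ⥤ AddCommGrpCat.{v})

/-- the germ of a pure tensor -/
noncomputable def gt (V : C) (y : Φ.fiber.obj V) (s : P.obj (op V)) (t : Q.obj (op V)) :
    ↑(Φ.presheafFiber.obj (EtTens.tensorObj P Q)) :=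
  gm Φ (EtTens.tensorObj P Q) V y (s ⊗ₜ[ℤ] t)

theorem gt_map {V V' : C} (a : V' ⟶ V) (y' : Φ.fiber.obj V') (s : P.obj (op V))
    (t : Q.obj (op V)) :
    gt Φ P Q V' y' (P.map a.op s) (Q.map a.op t) = gt Φ P Q V (Φ.fiber.map a y') s t :=
  gm_map Φ (EtTens.tensorObj P Q) a y' (s ⊗ₜ[ℤ] t)

/-- two germs have representatives on a common neighbourhood -/
theorem exists_common₂ (μ : ↑(Φ.presheafFiber.obj P)) (ν : ↑(Φ.presheafFiber.obj Q)) :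
    ∃ (V : C) (y : Φ.fiber.obj V) (s : P.obj (op V)) (t : Q.obj (op V)),
      gm Φ P V y s = μ ∧ gm Φ Q V y t = ν := by
  obtain ⟨V₁, y₁, s, rfl⟩ := exists_gm_eq Φ P μ
  obtain ⟨V₂, y₂, t, rfl⟩ := exists_gm_eq Φ Q ν
  obtain ⟨V, y, a₁, a₂, h1, h2⟩ := exists_refine Φ y₁ y₂
  refine ⟨V, y, P.map a₁.op s, Q.map a₂.op t, ?_, ?_⟩
  · rw [gm_map, h1]
  · rw [gm_map, h2]

/-- the value of the pairing on two germs is well defined -/
theorem exists_pair (μ : ↑(Φ.presheafFiber.obj P)) (ν : ↑(Φ.presheafFiber.obj Q)) :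
    ∃ τ : ↑(Φ.presheafFiber.obj (EtTens.tensorObj P Q)),
      ∀ (V : C) (y : Φ.fiber.obj V) (s : P.obj (op V)) (t : Q.obj (op V)),
        gm Φ P V y s = μ → gm Φ Q V y t = ν → τ = gt Φ P Q V y s t := by
  obtain ⟨V₀, y₀, s₀, t₀, rfl, rfl⟩ := exists_common₂ Φ P Q μ ν
  refine ⟨gt Φ P Q V₀ y₀ s₀ t₀, ?_⟩
  intro V y s t hs ht
  obtain ⟨V₁, y₁, a₁, a₀, h1, h2, e1⟩ := gm_eq Φ P y y₀ s s₀ hs
  obtain ⟨V₂, y₂, b₁, b₀, h3, h4, e2⟩ := gm_eq Φ Q y y₀ t t₀ ht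
  let k₁ : Φ.fiber.Elements := ⟨V₁, y₁⟩
  let k₂ : Φ.fiber.Elements := ⟨V₂, y₂⟩
  let j₁ : Φ.fiber.Elements := ⟨V, y⟩
  let j₂ : Φ.fiber.Elements := ⟨V₀, y₀⟩
  let f₁ : k₁ ⟶ j₁ := ⟨a₁, h1⟩
  let g₁ : k₂ ⟶ j₁ := ⟨b₁, h3⟩
  let f₂ : k₁ ⟶ j₂ := ⟨a₀, h2⟩
  let g₂ : k₂ ⟶ j₂ := ⟨b₀, h4⟩
  obtain ⟨⟨V₃, y₃⟩, ⟨α, hα⟩, ⟨β, hβ⟩, q1, q2⟩ := IsCofiltered.bowtie f₁ g₁ f₂ g₂
  have c1 : α ≫ a₁ = β ≫ b₁ := congrArg Subtype.val q1
  have c2 : α ≫ a₀ = β ≫ b₀ := congrArg Subtype.val q2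
  have hα' : Φ.fiber.map α y₃ = y₁ := hα
  have hy : Φ.fiber.map (α ≫ a₁) y₃ = y := by
    rw [Φ.fiber.map_comp]
    show Φ.fiber.map a₁ (Φ.fiber.map α y₃) = y
    rw [hα', h1]
  have hy₀ : Φ.fiber.map (α ≫ a₀) y₃ = y₀ := by
    rw [Φ.fiber.map_comp]
    show Φ.fiber.map a₀ (Φ.fiber.map α y₃) = y₀
    rw [hα', h2]
  rw [← hy, ← gt_map]
  conv_lhs => rw [← hy₀, ← gt_map]
  have e3 : P.map (α ≫ a₀).op s₀ = P.map (α ≫ a₁).op s := by
    rw [map_comp_apply, map_comp_apply, e1]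
  have e4 : Q.map (α ≫ a₀).op t₀ = Q.map (α ≫ a₁).op t := by
    rw [c1, c2, map_comp_apply, map_comp_apply, e2]
  rw [e3, e4]

/-- the pairing on germs -/
noncomputable def pair (μ : ↑(Φ.presheafFiber.obj P)) (ν : ↑(Φ.presheafFiber.obj Q)) :
    ↑(Φ.presheafFiber.obj (EtTens.tensorObj P Q)) :=
  (exists_pair Φ P Q μ ν).choose

theorem pair_gm (V : C) (y : Φ.fiber.obj V) (s : P.obj (op V)) (t : Q.obj (op V)) :
    pair Φ P Q (gm Φ P V y s) (gm Φ Q V y t) = gt Φ P Q V y s t :=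
  (exists_pair Φ P Q _ _).choose_spec V y s t rfl rfl

theorem exists_common₃l (μ μ' : ↑(Φ.presheafFiber.obj P)) (ν : ↑(Φ.presheafFiber.obj Q)) :
    ∃ (V : C) (y : Φ.fiber.obj V) (s s' : P.obj (op V)) (t : Q.obj (op V)),
      gm Φ P V y s = μ ∧ gm Φ P V y s' = μ' ∧ gm Φ Q V y t = ν := by
  obtain ⟨V₁, y₁, s, t, rfl, rfl⟩ := exists_common₂ Φ P Q μ ν
  obtain ⟨V₂, y₂, s', rfl⟩ := exists_gm_eq Φ P μ'
  obtain ⟨V, y, a₁, a₂, h1, h2⟩ := exists_refine Φ y₁ y₂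
  refine ⟨V, y, P.map a₁.op s, P.map a₂.op s', Q.map a₁.op t, ?_, ?_, ?_⟩
  · rw [gm_map, h1]
  · rw [gm_map, h2]
  · rw [gm_map, h1]

theorem exists_common₃r (μ : ↑(Φ.presheafFiber.obj P)) (ν ν' : ↑(Φ.presheafFiber.obj Q)) :
    ∃ (V : C) (y : Φ.fiber.obj V) (s : P.obj (op V)) (t t' : Q.obj (op V)),
      gm Φ P V y s = μ ∧ gm Φ Q V y t = ν ∧ gm Φ Q V y t' = ν' := by
  obtain ⟨V₁, y₁, s, t, rfl, rfl⟩ := exists_common₂ Φ P Q μ ν
  obtain ⟨V₂, y₂, t', rfl⟩ := exists_gm_eq Φ Q ν'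
  obtain ⟨V, y, a₁, a₂, h1, h2⟩ := exists_refine Φ y₁ y₂
  refine ⟨V, y, P.map a₁.op s, Q.map a₁.op t, Q.map a₂.op t', ?_, ?_, ?_⟩
  · rw [gm_map, h1]
  · rw [gm_map, h1]
  · rw [gm_map, h2]

theorem gt_add_left (V : C) (y : Φ.fiber.obj V) (s s' : P.obj (op V)) (t : Q.obj (op V)) :
    gt Φ P Q V y (s + s') t = gt Φ P Q V y s t + gt Φ P Q V y s' t := by
  unfold gt
  rw [add_tmul]
  exact gm_add Φ (EtTens.tensorObj P Q) V y _ _

theorem gt_add_right (V : C) (y : Φ.fiber.obj V) (s : P.obj (op V)) (t t' : Q.obj (op V)) :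
    gt Φ P Q V y s (t + t') = gt Φ P Q V y s t + gt Φ P Q V y s t' := by
  unfold gt
  rw [tmul_add]
  exact gm_add Φ (EtTens.tensorObj P Q) V y _ _

theorem pair_add_left (μ μ' : ↑(Φ.presheafFiber.obj P)) (ν : ↑(Φ.presheafFiber.obj Q)) :
    pair Φ P Q (μ + μ') ν = pair Φ P Q μ ν + pair Φ P Q μ' ν := by
  obtain ⟨V, y, s, s', t, rfl, rfl, rfl⟩ := exists_common₃l Φ P Q μ μ' ν
  rw [← gm_add, pair_gm, pair_gm, pair_gm, gt_add_left]

theorem pair_add_right (μ : ↑(Φ.presheafFiber.obj P)) (ν ν' : ↑(Φ.presheafFiber.obj Q)) :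
    pair Φ P Q μ (ν + ν') = pair Φ P Q μ ν + pair Φ P Q μ ν' := by
  obtain ⟨V, y, s, t, t', rfl, rfl, rfl⟩ := exists_common₃r Φ P Q μ ν ν'
  rw [← gm_add, pair_gm, pair_gm, pair_gm, gt_add_right]

/-- the pairing as a biadditive map -/
noncomputable def pairHom : ↑(Φ.presheafFiber.obj P) →+ ↑(Φ.presheafFiber.obj Q) →+
    ↑(Φ.presheafFiber.obj (EtTens.tensorObj P Q)) :=
  AddMonoidHom.mk' (fun μ => AddMonoidHom.mk' (fun ν => pair Φ P Q μ ν)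
    (fun ν ν' => pair_add_right Φ P Q μ ν ν'))
    (fun μ μ' => by
      ext ν
      exact pair_add_left Φ P Q μ μ' ν)

/-- the comparison map from the tensor product of the fibres to the fibre of the tensor
product -/
noncomputable def mu : ↑(Φ.presheafFiber.obj P) ⊗[ℤ] ↑(Φ.presheafFiber.obj Q) →+
    ↑(Φ.presheafFiber.obj (EtTens.tensorObj P Q)) :=
  TensorProduct.liftAddHom (pairHom Φ P Q) (fun r μ ν => by
    show pairHom Φ P Q (r • μ) ν = pairHom Φ P Q μ (r • ν)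
    rw [map_zsmul, map_zsmul]
    rfl)

theorem mu_tmul_gm (V : C) (y : Φ.fiber.obj V) (s : P.obj (op V)) (t : Q.obj (op V)) :
    mu Φ P Q (gm Φ P V y s ⊗ₜ[ℤ] gm Φ Q V y t) = gt Φ P Q V y s t :=
  pair_gm Φ P Q V y s t

/-- the comparison map from the fibre of the tensor product to the tensor product of the
fibres -/
noncomputable def nu : Φ.presheafFiber.obj (EtTens.tensorObj P Q) ⟶
    AddCommGrpCat.of (↑(Φ.presheafFiber.obj P) ⊗[ℤ] ↑(Φ.presheafFiber.obj Q)) :=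
  Φ.presheafFiberDesc (fun V y => AddCommGrpCat.ofHom
    (TensorProduct.map (Φ.toPresheafFiber V y P).hom.toIntLinearMap
      (Φ.toPresheafFiber V y Q).hom.toIntLinearMap).toAddMonoidHom)
    (by
      intro V V' a y
      apply EtTens.hom_ext_tmul
      intro m n
      show gm Φ P V y (P.map a.op m) ⊗ₜ[ℤ] gm Φ Q V y (Q.map a.op n) =
        gm Φ P V' (Φ.fiber.map a y) m ⊗ₜ[ℤ] gm Φ Q V' (Φ.fiber.map a y) n
      rw [gm_map, gm_map])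

theorem nu_gt (V : C) (y : Φ.fiber.obj V) (s : P.obj (op V)) (t : Q.obj (op V)) :
    nu Φ P Q (gt Φ P Q V y s t) = gm Φ P V y s ⊗ₜ[ℤ] gm Φ Q V y t := by
  have h1 := Φ.toPresheafFiber_presheafFiberDesc (P := EtTens.tensorObj P Q)
    (fun V y => AddCommGrpCat.ofHom
    (TensorProduct.map (Φ.toPresheafFiber V y P).hom.toIntLinearMap
      (Φ.toPresheafFiber V y Q).hom.toIntLinearMap).toAddMonoidHom)
    (by
      intro V V' a y
      apply EtTens.hom_ext_tmul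
      intro m n
      show gm Φ P V y (P.map a.op m) ⊗ₜ[ℤ] gm Φ Q V y (Q.map a.op n) =
        gm Φ P V' (Φ.fiber.map a y) m ⊗ₜ[ℤ] gm Φ Q V' (Φ.fiber.map a y) n
      rw [gm_map, gm_map]) V y
  exact congrArg (fun m => m (s ⊗ₜ[ℤ] t)) (congrArg AddCommGrpCat.Hom.hom h1)

theorem nu_comp_mu : nu Φ P Q ≫ AddCommGrpCat.ofHom (mu Φ P Q) = 𝟙 _ := by
  apply Φ.presheafFiber_hom_ext
  intro V y
  apply EtTens.hom_ext_tmul
  intro s t
  show mu Φ P Q (nu Φ P Q (gt Φ P Q V y s t)) = gt Φ P Q V y s t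
  rw [nu_gt, mu_tmul_gm]

theorem mu_nu (τ : ↑(Φ.presheafFiber.obj (EtTens.tensorObj P Q))) :
    mu Φ P Q (nu Φ P Q τ) = τ :=
  congrArg (fun m => m τ) (congrArg AddCommGrpCat.Hom.hom (nu_comp_mu Φ P Q))

theorem nu_mu (z : ↑(Φ.presheafFiber.obj P) ⊗[ℤ] ↑(Φ.presheafFiber.obj Q)) :
    nu Φ P Q (mu Φ P Q z) = z := by
  induction z using TensorProduct.induction_on with
  | zero => rw [map_zero, map_zero]
  | tmul μ ν =>
    obtain ⟨V, y, s, t, rfl, rfl⟩ := exists_common₂ Φ P Q μ ν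
    rw [mu_tmul_gm, nu_gt]
  | add a b ha hb => rw [map_add, map_add, ha, hb]

/-- the fibre of the tensor product is the tensor product of the fibres -/
noncomputable def tensorFiberEquiv : ↑(Φ.presheafFiber.obj P) ⊗[ℤ] ↑(Φ.presheafFiber.obj Q) ≃+
    ↑(Φ.presheafFiber.obj (EtTens.tensorObj P Q)) where
  toFun := mu Φ P Q
  invFun := fun τ => nu Φ P Q τ
  left_inv := nu_mu Φ P Q
  right_inv := mu_nu Φ P Q
  map_add' := map_add _

theorem tensorFiberEquiv_tmul_gm (V : C) (y : Φ.fiber.obj V) (s : P.obj (op V))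
    (t : Q.obj (op V)) :
    tensorFiberEquiv Φ P Q (gm Φ P V y s ⊗ₜ[ℤ] gm Φ Q V y t) = gt Φ P Q V y s t :=
  mu_tmul_gm Φ P Q V y s t

end Groth.Agent.Helper9.PtTensor
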