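import Mathlib
import Groth.Prelude.Def_EtBase
import Groth.Prelude.Def_EtTens2
import Groth.Agent.Helper9.PtTensorA
import Groth.Agent.Helper9.EtStalkExact

/-! The stalk of the tensor product of abelian étale sheaves at a geometric point is the tensor
product of the stalks. -/

set_option autoImplicit false
set_option linter.style.haveILetI false
universe u

open CategoryTheory CategoryTheory.Limits Opposite AlgebraicGeometry TensorProduct

namespace Groth.Agent.Helper9.PtTensor

attribute [local instance] Groth.Agent.Helper9.EtStalkExact.preservesFilteredColimits_forget_ab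

variable {X : Scheme.{u}} (A B : EtCoh.Ab X)

/-- the tensor product of two abelian étale sheaves -/
noncomputable abbrev TT : EtCoh.Ab X := (EtTens.tensorBi.obj A).obj B

/-- the canonical map from the presheaf tensor product to the sheaf tensor product -/
noncomputable def tmHom : EtTens.tensorObj A.obj B.obj ⟶ (TT A B).obj :=
  toSheafify X.smallEtaleTopology (EtTens.tensorObj A.obj B.obj)

/-- the section `s ⊗ t` of the tensor product sheaf -/
noncomputable def tm (W : X.Etale) (s : A.obj.obj (op W)) (t : B.obj.obj (op W)) :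
    (TT A B).obj.obj (op W) :=
  (tmHom A B).app (op W) (s ⊗ₜ[ℤ] t)

theorem tm_add_left (W : X.Etale) (s s' : A.obj.obj (op W)) (t : B.obj.obj (op W)) :
    tm A B W (s + s') t = tm A B W s t + tm A B W s' t := by
  unfold tm
  rw [add_tmul]
  exact map_add _ _ _

theorem tm_add_right (W : X.Etale) (s : A.obj.obj (op W)) (t t' : B.obj.obj (op W)) :
    tm A B W s (t + t') = tm A B W s t + tm A B W s t' := by
  unfold tm
  rw [tmul_add]
  exact map_add _ _ _

theorem tm_zero_left (W : X.Etale) (t : B.obj.obj (op W)) : tm A B W 0 t = 0 := by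
  unfold tm
  rw [zero_tmul]
  exact map_zero _

theorem tm_map {W W' : X.Etale} (a : W' ⟶ W) (s : A.obj.obj (op W)) (t : B.obj.obj (op W)) :
    (TT A B).obj.map a.op (tm A B W s t) = tm A B W' (A.obj.map a.op s) (B.obj.map a.op t) := by
  have h1 := NatTrans.naturality_apply (tmHom A B) a.op (s ⊗ₜ[ℤ] t)
  exact h1.symm

variable {Ω : Type u} [Field Ω] [IsSepClosed Ω] (ξ : Spec (CommRingCat.of Ω) ⟶ X)

instance isIso_stalk_tmHom :
    IsIso ((Scheme.pointSmallEtale ξ).presheafFiber.map (tmHom A B)) :=
  inferInstanceAs (IsIso ((Scheme.pointSmallEtale ξ).presheafFiber.map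
    (toSheafify X.smallEtaleTopology (EtTens.tensorObj A.obj B.obj))))

/-- the stalk of the tensor product is the tensor product of the stalks -/
noncomputable def tauEquiv :
    ↑((EtCoh.stalk ξ).obj A) ⊗[ℤ] ↑((EtCoh.stalk ξ).obj B) ≃+ ↑((EtCoh.stalk ξ).obj (TT A B)) :=
  (tensorFiberEquiv (Scheme.pointSmallEtale ξ) A.obj B.obj).trans
    (asIso ((Scheme.pointSmallEtale ξ).presheafFiber.map (tmHom A B))).addCommGroupIsoToAddEquiv

theorem tauEquiv_tmul (W : X.Etale) (l : (Scheme.pointSmallEtale ξ).fiber.obj W)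
    (s : A.obj.obj (op W)) (t : B.obj.obj (op W)) :
    tauEquiv A B ξ ((Scheme.pointSmallEtale ξ).toPresheafFiber W l A.obj s ⊗ₜ[ℤ]
      (Scheme.pointSmallEtale ξ).toPresheafFiber W l B.obj t) =
    (Scheme.pointSmallEtale ξ).toPresheafFiber W l (TT A B).obj (tm A B W s t) := by
  have h1 := tensorFiberEquiv_tmul_gm (Scheme.pointSmallEtale ξ) A.obj B.obj W l s t
  have h2 := (Scheme.pointSmallEtale ξ).toPresheafFiber_naturality (tmHom A B) W l
  have h3 := congrArg (fun m => m (s ⊗ₜ[ℤ] t)) (congrArg AddCommGrpCat.Hom.hom h2)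
  show (Scheme.pointSmallEtale ξ).presheafFiber.map (tmHom A B)
    (tensorFiberEquiv (Scheme.pointSmallEtale ξ) A.obj B.obj _) = _
  exact (congrArg ((Scheme.pointSmallEtale ξ).presheafFiber.map (tmHom A B)) h1).trans h3

end Groth.Agent.Helper9.PtTensor
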