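import Mathlib
import Groth.Prelude.Def_DCoh4
import Groth.Prelude.Def_DDual2
import Groth.Agent.Helper9.PullMon5
import Groth.Agent.Helper9.Lpull3
import Groth.Agent.Helper9.LTCx1
import Groth.Agent.Helper9.CxAssoc1

/-! `Lf^*(K ⊗^L L) ≅ Lf^*K ⊗^L f^*L` for a K-flat complex `L`. -/

set_option autoImplicit false
set_option linter.style.haveILetI false
set_option linter.unusedVariables false
set_option linter.unusedSectionVars false
universe u

namespace Groth.Agent.Helper9.PullMon6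

open CategoryTheory CategoryTheory.Limits AlgebraicGeometry Opposite TopologicalSpace
  HomologicalComplex
open Groth.Agent.Helper9.Lpull1 Groth.Agent.Helper9.Lpull2 Groth.Agent.Helper9.Lpull3
  Groth.Agent.Helper9.PullMon5

attribute [local instance] HasDerivedCategory.standard

theorem lpull_ltensor {X Y : Scheme.{u}} (f : X ⟶ Y) [DCoh.HasLpull f]
    (L : CochainComplex Y.Modules ℤ) (hL : DCoh.IsKFlat L) [DCoh.HasLTensorCx L]
    [DCoh.HasLTensorCx
      (((Scheme.Modules.pullback f).mapHomologicalComplex (ComplexShape.up ℤ)).obj L)]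
    (K : DCoh.D Y) :
    Nonempty ((DCoh.Lpull f).obj ((DCoh.LTensorCx L).obj K) ≅
      (DCoh.LTensorCx
        (((Scheme.Modules.pullback f).mapHomologicalComplex (ComplexShape.up ℤ)).obj L)).obj
          ((DCoh.Lpull f).obj K)) := by
  have i1 : @ModSite.HasLTensorCx _ _ _ Y.sheaf L := ‹DCoh.HasLTensorCx L›
  have i2 : @ModSite.HasLTensorCx _ _ _ X.sheaf
      (((Scheme.Modules.pullback f).mapHomologicalComplex (ComplexShape.up ℤ)).obj L) :=
    ‹DCoh.HasLTensorCx
      (((Scheme.Modules.pullback f).mapHomologicalComplex (ComplexShape.up ℤ)).obj L)›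
  obtain ⟨P, hP, ⟨eP⟩⟩ := exists_kflat_rep K
  have a1 : (DCoh.LTensorCx L).obj K ≅ DerivedCategory.Q.obj ((DCoh.tensorCx.obj P).obj L) :=
    (DCoh.LTensorCx L).mapIso eP.symm ≪≫
      (@Groth.Agent.Helper9.LTCx1.ltIso _ _ _ Y.sheaf L i1 hL P)
  have hPL : DCoh.IsKFlat ((DCoh.tensorCx.obj P).obj L) :=
    @Groth.Agent.Helper9.CxAssoc1.isKFlat_tensorCx _ _ _ Y.sheaf P L hP hL
  have a2 := (DCoh.Lpull f).mapIso a1 ≪≫ lpullIso f _ hPL
  have a3 := DerivedCategory.Q.mapIso (pullTensorCxIso f P L)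
  have hfL : DCoh.IsKFlat ((pCx f).obj L) := isKFlat_pullback f L hL
  have a4 := @Groth.Agent.Helper9.LTCx1.ltIso _ _ _ X.sheaf ((pCx f).obj L) i2 hfL ((pCx f).obj P)
  have a5 : (DCoh.Lpull f).obj K ≅ DerivedCategory.Q.obj ((pCx f).obj P) :=
    (DCoh.Lpull f).mapIso eP.symm ≪≫ lpullIso f P hP
  exact ⟨a2 ≪≫ a3 ≪≫ a4.symm ≪≫
    (DCoh.LTensorCx
      (((Scheme.Modules.pullback f).mapHomologicalComplex (ComplexShape.up ℤ)).obj L)).mapIso
        a5.symm⟩

end Groth.Agent.Helper9.PullMon6
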