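import Mathlib

/-!
# Wide pullbacks of `n+2` copies as a pullback of the wide pullback of `n+1` copies
-/

namespace Groth.Agent.Helper9.WidePB

open CategoryTheory Limits

universe v u

variable {A : Type u} [Category.{v} A] [HasFiniteLimits A] {X B : A} (f : X ⟶ B)

/-- the wide pullback of `n+1` copies of `f` -/
noncomputable abbrev W (n : ℕ) : A := widePullback.{0} B (fun _ : Fin (n + 1) => X) (fun _ => f)

/-- forget the last factor -/
noncomputable def dlast (n : ℕ) : W f (n + 1) ⟶ W f n :=
  WidePullback.lift (WidePullback.base _) (fun k => WidePullback.π _ k.castSucc) (by simp)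

/-- the comparison with the binary pullback -/
noncomputable def q (n : ℕ) :
    W f (n + 1) ⟶ pullback (WidePullback.base (fun _ : Fin (n + 1) => f)) f :=
  pullback.lift (dlast f n) (WidePullback.π _ (Fin.last (n + 1))) (by
    unfold dlast
    rw [WidePullback.lift_base, WidePullback.π_arrow])

/-- the inverse comparison -/
noncomputable def qinv (n : ℕ) :
    pullback (WidePullback.base (fun _ : Fin (n + 1) => f)) f ⟶ W f (n + 1) :=
  WidePullback.lift (pullback.fst _ _ ≫ WidePullback.base _)
    (fun i => Fin.lastCases (pullback.snd _ _) (fun k => pullback.fst _ _ ≫ WidePullback.π _ k) i)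
    (by
      intro i
      refine Fin.lastCases ?_ (fun k => ?_) i
      · rw [Fin.lastCases_last, pullback.condition]
      · rw [Fin.lastCases_castSucc, Category.assoc, WidePullback.π_arrow])

lemma q_qinv (n : ℕ) : q f n ≫ qinv f n = 𝟙 _ := by
  apply WidePullback.hom_ext
  · intro i
    unfold qinv
    rw [Category.assoc, WidePullback.lift_π, Category.id_comp]
    refine Fin.lastCases ?_ (fun k => ?_) i
    · rw [Fin.lastCases_last]
      exact pullback.lift_snd _ _ _
    · rw [Fin.lastCases_castSucc, ← Category.assoc]
      unfold q
      rw [pullback.lift_fst]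
      unfold dlast
      rw [WidePullback.lift_π]
  · unfold qinv
    rw [Category.assoc, WidePullback.lift_base, Category.id_comp, ← Category.assoc]
    unfold q
    rw [pullback.lift_fst]
    unfold dlast
    rw [WidePullback.lift_base]

lemma qinv_q (n : ℕ) : qinv f n ≫ q f n = 𝟙 _ := by
  apply pullback.hom_ext
  · rw [Category.assoc, Category.id_comp]
    unfold q
    rw [pullback.lift_fst]
    apply WidePullback.hom_ext
    · intro k
      unfold dlast qinv
      rw [Category.assoc, WidePullback.lift_π, WidePullback.lift_π, Fin.lastCases_castSucc]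
    · unfold dlast qinv
      rw [Category.assoc, WidePullback.lift_base, WidePullback.lift_base]
  · rw [Category.assoc, Category.id_comp]
    unfold q
    rw [pullback.lift_snd]
    unfold qinv
    rw [WidePullback.lift_π, Fin.lastCases_last]

instance isIso_q (n : ℕ) : IsIso (q f n) := ⟨⟨qinv f n, q_qinv f n, qinv_q f n⟩⟩

instance isIso_π_zero : IsIso (WidePullback.π (fun _ : Fin 1 => f) 0) :=
  ⟨⟨WidePullback.lift f (fun _ => 𝟙 X) (by simp), by
    apply WidePullback.hom_ext
    · intro i
      obtain rfl : i = 0 := Subsingleton.elim _ _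
      rw [Category.assoc, WidePullback.lift_π, Category.comp_id, Category.id_comp]
    · rw [Category.assoc, WidePullback.lift_base, Category.id_comp, WidePullback.π_arrow],
    WidePullback.lift_π _ _ _ _ _⟩⟩

variable {A' : Type*} [Category A'] [HasFiniteLimits A'] (P : A ⥤ A')

/-- the comparison morphism `P(X ×_B ⋯ ×_B X) ⟶ PX ×_{PB} ⋯ ×_{PB} PX` -/
noncomputable def κhom (n : ℕ) : P.obj (W f n) ⟶ W (P.map f) n :=
  WidePullback.lift (P.map (WidePullback.base _)) (fun i => P.map (WidePullback.π _ i))
    (by intro i; rw [← P.map_comp, WidePullback.π_arrow])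

lemma κhom_base (n : ℕ) : κhom f P n ≫ WidePullback.base _ = P.map (WidePullback.base _) :=
  WidePullback.lift_base _ _ _ _

lemma κhom_π (n : ℕ) (i : Fin (n + 1)) :
    κhom f P n ≫ WidePullback.π _ i = P.map (WidePullback.π _ i) :=
  WidePullback.lift_π _ _ _ _ _

lemma κhom_dlast (n : ℕ) :
    κhom f P (n + 1) ≫ dlast (P.map f) n = P.map (dlast f n) ≫ κhom f P n := by
  apply WidePullback.hom_ext
  · intro k
    unfold dlast
    rw [Category.assoc, Category.assoc, WidePullback.lift_π, κhom_π, κhom_π, ← P.map_comp,
      WidePullback.lift_π]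
  · unfold dlast
    rw [Category.assoc, Category.assoc, WidePullback.lift_base, κhom_base, κhom_base,
      ← P.map_comp, WidePullback.lift_base]

variable [PreservesLimitsOfShape WalkingCospan P]

theorem isIso_κhom : ∀ n : ℕ, IsIso (κhom f P n)
  | 0 => by
    have h : κhom f P 0 = P.map (WidePullback.π (fun _ : Fin 1 => f) 0) ≫
        inv (WidePullback.π (fun _ : Fin 1 => P.map f) 0) := by
      rw [IsIso.eq_comp_inv, κhom_π]
    rw [h]
    infer_instance
  | n + 1 => by
    haveI := isIso_κhom n
    -- the square relating the two decompositions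
    have hsq : κhom f P (n + 1) ≫ q (P.map f) n =
        P.map (q f n) ≫ (PreservesPullback.iso P (WidePullback.base _) f).hom ≫
          pullback.map _ _ _ _ (κhom f P n) (𝟙 _) (𝟙 _)
            (by rw [Category.comp_id, κhom_base]) (by rw [Category.comp_id, Category.id_comp]) := by
      apply pullback.hom_ext
      · rw [Category.assoc, Category.assoc, Category.assoc, pullback.lift_fst,
          PreservesPullback.iso_hom_fst_assoc, ← P.map_comp_assoc]
        unfold q
        rw [pullback.lift_fst, pullback.lift_fst, κhom_dlast]
      · rw [Category.assoc, Category.assoc, Category.assoc, pullback.lift_snd,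
          PreservesPullback.iso_hom_snd_assoc, Category.comp_id, ← P.map_comp]
        unfold q
        rw [pullback.lift_snd, pullback.lift_snd, κhom_π]
    haveI : IsIso (pullback.map (P.map (WidePullback.base fun _ : Fin (n + 1) => f)) (P.map f)
        (WidePullback.base fun _ : Fin (n + 1) => P.map f) (P.map f) (κhom f P n) (𝟙 _) (𝟙 _)
        (by rw [Category.comp_id, κhom_base]) (by rw [Category.comp_id, Category.id_comp])) :=
      pullback.map_isIso _ _ _ _ _ _ _ _ _
    have h : κhom f P (n + 1) = (P.map (q f n) ≫
        (PreservesPullback.iso P (WidePullback.base _) f).hom ≫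
          pullback.map _ _ _ _ (κhom f P n) (𝟙 _) (𝟙 _)
            (by rw [Category.comp_id, κhom_base]) (by rw [Category.comp_id, Category.id_comp])) ≫
        inv (q (P.map f) n) := by
      rw [IsIso.eq_comp_inv, hsq]
    rw [h]
    infer_instance

end Groth.Agent.Helper9.WidePB
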