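import Mathlib
import Groth.Agent.Helper9.PushAcyc
import Groth.Agent.Helper9.WidePB

/-!
# Direct images preserve Čech-acyclic sheaves when the pullback of sheaves of sets preserves
fibre products
-/

namespace Groth.Agent.Helper9.PushAcyc2

open CategoryTheory Limits Opposite Abelian Groth.Agent.Helper9.CechNerveSet
  Groth.Agent.Helper9.CechNerveRes Groth.Agent.Helper9.CechNerveCartan
  Groth.Agent.Helper9.PushAcyc

universe u

variable {C D : Type u} [SmallCategory C] [SmallCategory D]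
  {J : GrothendieckTopology C} {K : GrothendieckTopology D}

section Compare

variable (P : Sheaf K (Type u) ⥤ Sheaf J (Type u)) [PreservesLimitsOfShape WalkingCospan P]
  {M' M : Sheaf K (Type u)} (f : M' ⟶ M)

instance isIso_κhom (n : ℕ) : IsIso (WidePB.κhom f P n) := WidePB.isIso_κhom f P n

/-- the comparison isomorphism -/
noncomputable def κ' (n : ℕ) : P.obj (WP f n) ≅ WP (P.map f) n := asIso (WidePB.κhom f P n)

lemma κ'_face (n : ℕ) (i : Fin (n + 2)) :
    P.map (face f n i) ≫ (κ' P f n).hom = (κ' P f (n + 1)).hom ≫ face (P.map f) n i := by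
  apply WidePullback.hom_ext
  · intro k
    show (P.map (face f n i) ≫ WidePB.κhom f P n) ≫ _ =
      (WidePB.κhom f P (n + 1) ≫ face (P.map f) n i) ≫ _
    rw [Category.assoc, Category.assoc, WidePB.κhom_π]
    unfold face
    rw [WidePullback.lift_π, WidePB.κhom_π, ← P.map_comp, WidePullback.lift_π]
  · show (P.map (face f n i) ≫ WidePB.κhom f P n) ≫ _ =
      (WidePB.κhom f P (n + 1) ≫ face (P.map f) n i) ≫ _
    rw [Category.assoc, Category.assoc, WidePB.κhom_base]
    unfold face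
    rw [WidePullback.lift_base, WidePB.κhom_base, ← P.map_comp, WidePullback.lift_base]

end Compare

section Transport

variable (u : D ⥤ C) [u.IsContinuous K J]
  [PreservesLimitsOfShape WalkingCospan (PS (J := J) (K := K) u)]
  {M' M : Sheaf K (Type u)} (f : M' ⟶ M)

/-- transport of Čech cochains -/
noncomputable def Ψc' (n : ℕ) (G : Sheaf J AddCommGrpCat.{u}) :
    ((Φ K).obj (WP f n) ⟶ (pushA u).obj G) ≃+ ((Φ J).obj (WP ((PS u).map f) n) ⟶ G) :=
  (θ u (WP f n) G).trans (preAdd ((Φ J).mapIso (κ' (PS u) f n)) G)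

lemma Ψc'_apply (n : ℕ) (G : Sheaf J AddCommGrpCat.{u})
    (t : (Φ K).obj (WP f n) ⟶ (pushA u).obj G) :
    Ψc' u f n G t = (Φ J).map (κ' (PS u) f n).inv ≫ θ u (WP f n) G t := rfl

lemma Ψc'_face (n : ℕ) (i : Fin (n + 2)) (G : Sheaf J AddCommGrpCat.{u})
    (t : (Φ K).obj (WP f n) ⟶ (pushA u).obj G) :
    Ψc' u f (n + 1) G ((Φ K).map (face f n i) ≫ t) =
      (Φ J).map (face ((PS u).map f) n i) ≫ Ψc' u f n G t := by
  rw [Ψc'_apply, Ψc'_apply, θ_nat, ← Category.assoc, ← Category.assoc, ← Functor.map_comp,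
    ← Functor.map_comp]
  congr 2
  rw [Iso.inv_comp_eq, ← Category.assoc, Iso.eq_comp_inv]
  exact κ'_face (PS u) f n i

lemma Ψc'_d (n : ℕ) (G : Sheaf J AddCommGrpCat.{u})
    (t : (Φ K).obj (WP f n) ⟶ (pushA u).obj G) :
    Ψc' u f (n + 1) G (dΦ f n ≫ t) = dΦ ((PS u).map f) n ≫ Ψc' u f n G t := by
  rw [ModCechExt.dΦ_eq, ModCechExt.dΦ_eq, Preadditive.sum_comp, Preadditive.sum_comp, map_sum]
  refine Finset.sum_congr rfl (fun i _ => ?_)
  rw [Preadditive.zsmul_comp, Preadditive.zsmul_comp, map_zsmul, Ψc'_face]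

theorem homAcyc_push' (G : Sheaf J AddCommGrpCat.{u}) (hG : HomAcyc G) :
    HomAcyc ((pushA (K := K) u).obj G) := by
  intro M' M f hf q c hc
  haveI := hf
  haveI : (PS (J := J) (K := K) u).PreservesEpimorphisms :=
    (PS (J := J) (K := K) u).preservesEpimorphisms_of_adjunction (adjS u)
  haveI : Epi ((PS (J := J) u).map f) := (PS (J := J) (K := K) u).map_epi f
  have h0 : dΦ ((PS (J := J) u).map f) (q + 1) ≫ Ψc' u f (q + 1) G c = 0 := by
    rw [← Ψc'_d, hc, map_zero]
  obtain ⟨b', hb'⟩ := hG _ _ ((PS (J := J) u).map f) inferInstance q (Ψc' u f (q + 1) G c) h0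
  refine ⟨(Ψc' u f q G).symm b', ?_⟩
  apply (Ψc' u f (q + 1) G).injective
  rw [Ψc'_d, AddEquiv.apply_symm_apply, hb']

theorem totallyAcyclic_push' (G : Sheaf J AddCommGrpCat.{u}) (hG : HomAcyc G) :
    CohCx.IsTotallyAcyclic ((pushA (K := K) u).obj G) :=
  totallyAcyclic_of_homAcyc _ (homAcyc_push' u G hG)

end Transport

end Groth.Agent.Helper9.PushAcyc2
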