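import Mathlib

set_option autoImplicit false
universe u
open CategoryTheory TopologicalSpace Opposite

namespace Groth.Agent.Helper9.PushEpi

variable {X : TopCat.{u}}

lemma res_res (F : TopCat.Presheaf (Type u) X) {A B D : Opens X} (h1 : B ≤ A) (h2 : D ≤ B)
    (s : F.obj (op A)) :
    F.map (homOfLE h2).op (F.map (homOfLE h1).op s) = F.map (homOfLE (h2.trans h1)).op s := by
  have : (homOfLE (h2.trans h1)).op = (homOfLE h1).op ≫ (homOfLE h2).op := rfl
  rw [this, Functor.map_comp_apply]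

lemma subsingleton_of_eq_bot (F : TopCat.Sheaf (Type u) X) (O : Opens X) (hO : O = ⊥) :
    Subsingleton (F.obj.obj (op O)) := by
  subst hO
  constructor
  intro a b
  exact F.eq_of_locally_eq' (fun i : PEmpty.{1} => i.elim) ⊥ (fun i => i.elim) bot_le a b
    (fun i => i.elim)

lemma nat_res {F G : TopCat.Sheaf (Type u) X} (φ : F ⟶ G) {A B : Opens X} (h : B ≤ A)
    (s : F.obj.obj (op A)) :
    φ.hom.app (op B) (F.obj.map (homOfLE h).op s) = G.obj.map (homOfLE h).op (φ.hom.app (op A) s) :=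
  NatTrans.naturality_apply φ.hom (homOfLE h).op s

/-- the key local statement -/
theorem key {Y : TopCat.{u}} (π : X ⟶ Y)
    (h1 : ∀ (y : Y) (U : Set X), IsOpen U → π ⁻¹' {y} ⊆ U →
      ∃ V : Set Y, IsOpen V ∧ y ∈ V ∧ π ⁻¹' V ⊆ U)
    (h2 : ∀ y : Y, (π ⁻¹' {y}).Finite ∧ ∃ U : X → Set X,
      (∀ x ∈ π ⁻¹' {y}, IsOpen (U x) ∧ x ∈ U x) ∧ (π ⁻¹' {y}).PairwiseDisjoint U)
    {F G : TopCat.Sheaf (Type u) X} (φ : F ⟶ G)
    (hφ : ∀ (U : Opens X) (t : G.obj.obj (op U)), ∀ x ∈ U, ∃ (V : Opens X) (hV : V ≤ U),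
      (∃ s : F.obj.obj (op V), φ.hom.app (op V) s = G.obj.map (homOfLE hV).op t) ∧ x ∈ V)
    (V : Opens Y) (t : G.obj.obj (op ((Opens.map π).obj V))) (y : Y) (hy : y ∈ V) :
    ∃ (V' : Opens Y) (hV' : V' ≤ V), (∃ s : F.obj.obj (op ((Opens.map π).obj V')),
      φ.hom.app (op ((Opens.map π).obj V')) s =
        G.obj.map (homOfLE (show (Opens.map π).obj V' ≤ (Opens.map π).obj V from
          fun _ hx => hV' hx)).op t) ∧ y ∈ V' := by
  classical
  obtain ⟨-, U, hU, hdisj⟩ := h2 y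
  have hkey : ∀ x : (π ⁻¹' {y} : Set X), ∃ (W : Opens X) (hW : W ≤ ((Opens.map π).obj V)) (s : F.obj.obj (op W)),
      φ.hom.app (op W) s = G.obj.map (homOfLE hW).op t ∧ x.1 ∈ W ∧ (W : Set X) ⊆ U x.1 := by
    intro x
    have hxV : x.1 ∈ ((Opens.map π).obj V) := by
      show π x.1 ∈ V
      have : π x.1 = y := x.2
      rw [this]; exact hy
    obtain ⟨W₀, hW₀, ⟨s₀, hs₀⟩, hxW₀⟩ := hφ ((Opens.map π).obj V) t x.1 hxV
    let UO : Opens X := ⟨U x.1, (hU x.1 x.2).1⟩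
    refine ⟨W₀ ⊓ UO, inf_le_left.trans hW₀, F.obj.map (homOfLE inf_le_left).op s₀, ?_,
      ⟨hxW₀, (hU x.1 x.2).2⟩, fun z hz => hz.2⟩
    rw [nat_res, hs₀, res_res]
  choose W hW s hs hxW hWU using hkey
  have hcompat : TopCat.Presheaf.IsCompatible F.obj W s := by
    intro i j
    by_cases hij : i = j
    · subst hij
      rfl
    · have hbot : W i ⊓ W j = ⊥ := by
        apply le_antisymm _ bot_le
        intro z hz
        have hd := hdisj i.2 j.2 (fun h => hij (Subtype.ext h))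
        exact (Set.disjoint_iff.1 hd) ⟨hWU i hz.1, hWU j hz.2⟩
      have := subsingleton_of_eq_bot F _ hbot
      exact Subsingleton.elim _ _
  obtain ⟨sg, hsg, -⟩ := F.existsUnique_gluing W s hcompat
  have hsup : iSup W ≤ ((Opens.map π).obj V) := iSup_le hW
  have hφsg : φ.hom.app (op (iSup W)) sg = G.obj.map (homOfLE hsup).op t := by
    apply G.eq_of_locally_eq W
    intro i
    have h1' : F.obj.map (Opens.leSupr W i).op sg = s i := hsg i
    have e1 : G.obj.map (Opens.leSupr W i).op (φ.hom.app (op (iSup W)) sg) =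
        φ.hom.app (op (W i)) (F.obj.map (Opens.leSupr W i).op sg) :=
      (NatTrans.naturality_apply φ.hom (Opens.leSupr W i).op sg).symm
    have e2 : G.obj.map (Opens.leSupr W i).op (G.obj.map (homOfLE hsup).op t) =
        G.obj.map (homOfLE (hW i)).op t := res_res G.obj hsup (le_iSup W i) t
    exact e1.trans ((congrArg _ h1').trans ((hs i).trans e2.symm))
  have hfib : π ⁻¹' {y} ⊆ ((iSup W : Opens X) : Set X) := by
    intro x hx
    exact (le_iSup W ⟨x, hx⟩) (hxW ⟨x, hx⟩)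
  obtain ⟨V₀, hV₀o, hyV₀, hV₀⟩ := h1 y _ (iSup W).2 hfib
  let V' : Opens Y := V ⊓ ⟨V₀, hV₀o⟩
  have hV'W : (Opens.map π).obj V' ≤ iSup W := fun x hx => hV₀ hx.2
  refine ⟨V', inf_le_left, ⟨F.obj.map (homOfLE hV'W).op sg, ?_⟩, ⟨hy, hyV₀⟩⟩
  rw [nat_res, hφsg, res_res]

end Groth.Agent.Helper9.PushEpi
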