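import Mathlib
import Groth.Prelude.Def_EtBase
import Groth.Prelude.Def_EtCore
import Groth.Agent.Helper9.StalkFinA
import Groth.Agent.Helper9.StalkFinC
import Groth.Agent.Helper9.GeomFin
import Groth.Agent.Helper9.EtStalkExact

/-! The stalk formula for direct images along finite morphisms: abelian sheaves. -/

set_option autoImplicit false
set_option linter.style.haveILetI false
universe u

open CategoryTheory CategoryTheory.Limits Opposite AlgebraicGeometry

namespace Groth.Agent.Helper9.StalkFinE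

open Groth.Agent.Helper9.StalkFinA Groth.Agent.Helper9.StalkFinC

attribute [local instance] Groth.Agent.Helper9.EtStalkExact.preservesFilteredColimits_forget_ab

variable {X Y : Scheme.{u}} (f : X ⟶ Y) [IsFinite f] {Ω : Type u} [Field Ω] [IsAlgClosed Ω]
  (η : Spec (CommRingCat.of Ω) ⟶ Y)

/-- the fan of comparison maps for an abelian sheaf -/
noncomputable def fan (F : EtCoh.Ab X) :
    Fan (fun ξ : {ξ : Spec (CommRingCat.of Ω) ⟶ X // ξ ≫ f = η} => (EtCoh.stalk ξ.1).obj F) :=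
  Fan.mk ((EtCoh.stalk η).obj ((EtCoh.push f).obj F)) (fun ξ => theta f η ξ.1 ξ.2 F.obj)

theorem nonempty_isLimit_fan (F : EtCoh.Ab X) : Nonempty (IsLimit (fan f η F)) := by
  have hP : Presieve.IsSheaf X.smallEtaleTopology (F.obj ⋙ forget AddCommGrpCat.{u + 1}) :=
    (isSheaf_iff_isSheaf_of_type _ _).1
      ((Presheaf.isSheaf_iff_isSheaf_forget _ _ (forget AddCommGrpCat.{u + 1})).1 F.property)
  have h2 : Nonempty (IsLimit ((forget AddCommGrpCat.{u + 1}).mapCone (fan f η F))) := by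
    rw [Types.isLimit_iff]
    intro t _
    obtain ⟨x, hx⟩ := germ_exists f η F.obj hP (fun ξ => t ⟨ξ⟩)
    refine ⟨x, ?_, ?_⟩
    · rintro ⟨ξ⟩
      exact hx ξ
    · intro x' hx'
      apply germ_ext f η F.obj hP
      intro ξ
      exact (hx' ⟨ξ⟩).trans (hx ξ).symm
  obtain ⟨h2⟩ := h2
  exact ⟨isLimitOfReflects (forget AddCommGrpCat.{u + 1}) h2⟩

theorem main (F : EtCoh.Ab X) :
    Nonempty ((EtCoh.stalk η).obj ((EtCoh.push f).obj F) ≅
      ∐ fun ξ : {ξ : Spec (CommRingCat.of Ω) ⟶ X // ξ ≫ f = η} => (EtCoh.stalk ξ.1).obj F) := by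
  obtain ⟨h⟩ := nonempty_isLimit_fan f η F
  haveI : Finite {ξ : Spec (CommRingCat.of Ω) ⟶ X // ξ ≫ f = η} := GeomFin.finite_lifts f η
  haveI : HasBiproductsOfShape {ξ : Spec (CommRingCat.of Ω) ⟶ X // ξ ≫ f = η}
    AddCommGrpCat.{u + 1} := hasBiproductsOfShape_finite _
  exact ⟨h.conePointUniqueUpToIso (limit.isLimit _) ≪≫ (biproduct.isoProduct _).symm ≪≫
    biproduct.isoCoproduct _⟩

end Groth.Agent.Helper9.StalkFinE
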