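import Mathlib
import Groth.Prelude.Def_EtBase
import Groth.Prelude.Def_EtShriek2
import Groth.Agent.Helper9.StalkBC5
import Groth.Agent.Helper9.StalkFinE
import Groth.Agent.Helper9.EtShriekOpen
import Groth.Agent.Helper9.EtShriekStalkZero
import Groth.Agent.Helper9.EtRecollement
import Groth.Agent.Helper9.EtStalkAlgClosed

/-! `f_* j'_! F ≅ j_! g_* F` for a finite morphism `f` and an open immersion `j`. -/

set_option autoImplicit false
set_option linter.style.haveILetI false
universe u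

open CategoryTheory CategoryTheory.Limits Opposite AlgebraicGeometry

namespace Groth.Agent.Helper9.PushExtZeroFin

open Groth.Agent.Helper9.EtStalkExact Groth.Agent.Helper9.EtShriekOpen

attribute [local instance] preservesFilteredColimits_forget_ab

variable {U X V Y : Scheme.{u}} (f : X ⟶ Y) [IsFinite f] (j : V ⟶ Y)
  [IsOpenImmersion j] [AlgebraicGeometry.Etale j] [EtShriek.JCont j] (j' : U ⟶ X)
  [IsOpenImmersion j'] [AlgebraicGeometry.Etale j'] [EtShriek.JCont j'] (g : U ⟶ V)
  (h : IsPullback j' g f j) (F : EtCoh.Ab U)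

omit [IsOpenImmersion j] [Etale j] [EtShriek.JCont j] [IsOpenImmersion j'] in
include h in
/-- the stalks of `f_* j'_! F` vanish outside `V` -/
theorem isZero_stalk {Ω : Type u} [Field Ω] [IsAlgClosed Ω] (ξ : Spec (CommRingCat.of Ω) ⟶ Y)
    (hξ : Disjoint (Set.range ξ.base) (Set.range j.base)) :
    IsZero ((EtCoh.stalk ξ).obj ((EtCoh.push f).obj ((EtShriek.extZero j').obj F))) := by
  obtain ⟨e⟩ := Groth.Agent.Helper9.StalkFinE.main f ξ ((EtShriek.extZero j').obj F)
  refine IsZero.of_iso ?_ e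
  have hz : ∀ x : {x : Spec (CommRingCat.of Ω) ⟶ X // x ≫ f = ξ},
      IsZero ((EtCoh.stalk x.1).obj ((EtShriek.extZero j').obj F)) := by
    intro x
    apply Groth.Agent.Helper9.EtShriekStalkZero.isZero_stalk_extZero
    rw [Set.disjoint_left]
    rintro _ ⟨p, rfl⟩ ⟨q, hq⟩
    refine (Set.disjoint_left.1 hξ) ⟨p, rfl⟩ ⟨g q, ?_⟩
    have e1 : (g ≫ j) q = (j' ≫ f) q := by rw [h.w]
    have e2 : (x.1 ≫ f) p = ξ p := by rw [x.2]
    calc j (g q) = (g ≫ j) q := rfl
      _ = (j' ≫ f) q := e1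
      _ = f (j' q) := rfl
      _ = f (x.1 p) := by rw [hq]
      _ = ξ p := e2
  rw [IsZero.iff_id_eq_zero]
  apply Sigma.hom_ext
  intro x
  exact (hz x).eq_of_src _ _


omit [IsOpenImmersion j'] in
include h in
/-- the counit `j_! j⁻¹ (f_* j'_! F) ⟶ f_* j'_! F` is an isomorphism -/
theorem isIso_counit :
    IsIso ((EtShriek.extZeroAdj j).counit.app
      ((EtCoh.push f).obj ((EtShriek.extZero j').obj F))) := by
  apply Groth.Agent.Helper9.EtStalkAlgClosed.isIso_of_stalks
  intro Ω _ _ ξ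
  by_cases hξ : Disjoint (Set.range ξ.base) (Set.range j.base)
  · have h1 := Groth.Agent.Helper9.EtShriekStalkZero.isZero_stalk_extZero j ξ
      ((EtShriek.restrAlong j).obj ((EtCoh.push f).obj ((EtShriek.extZero j').obj F))) hξ
    have h2 := isZero_stalk f j j' g h F ξ hξ
    have s1 := AddCommGrpCat.subsingleton_of_isZero h1
    have s2 := AddCommGrpCat.subsingleton_of_isZero h2
    exact ⟨fun a b _ => @Subsingleton.elim _ s1 a b, fun b => ⟨0, @Subsingleton.elim _ s2 _ _⟩⟩
  · have hr : Set.range ξ ⊆ Set.range j := by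
      rintro _ ⟨p, rfl⟩
      rw [Set.not_disjoint_iff] at hξ
      obtain ⟨_, ⟨q, rfl⟩, hq⟩ := hξ
      rw [Subsingleton.elim p q]
      exact hq
    obtain ⟨u, rfl⟩ : ∃ u, u ≫ j = ξ :=
      ⟨IsOpenImmersion.lift j ξ hr, IsOpenImmersion.lift_fac j ξ hr⟩
    exact (ConcreteCategory.isIso_iff_bijective _).1
      (Groth.Agent.Helper9.EtRecollement.isIso_stalk_map_counit j _ u)

include h in
theorem main :
    Nonempty ((EtCoh.push f).obj ((EtShriek.extZero j').obj F) ≅
      (EtShriek.extZero j).obj ((EtCoh.push g).obj F)) := by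
  haveI := isIso_counit f j j' g h F
  haveI := Groth.Agent.Helper9.StalkBC5.main f j g j' h ((EtShriek.extZero j').obj F)
  haveI := isIso_extZeroAdj_unit_app j' F
  -- `j⁻¹ (f_* j'_! F) ≅ g_* F`
  let e1 : (EtShriek.restrAlong j).obj ((EtCoh.push f).obj ((EtShriek.extZero j').obj F)) ≅
      (EtCoh.push g).obj F :=
    ((pullIsoRestr j).app _).symm ≪≫
      asIso (EtCoh.baseChange0 f j g j' h.w ((EtShriek.extZero j').obj F)) ≪≫
      (EtCoh.push g).mapIso ((pullIsoRestr j').app _ ≪≫
        (asIso ((EtShriek.extZeroAdj j').unit.app F)).symm)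
  exact ⟨(asIso ((EtShriek.extZeroAdj j).counit.app
      ((EtCoh.push f).obj ((EtShriek.extZero j').obj F)))).symm ≪≫
    (EtShriek.extZero j).mapIso e1⟩

end Groth.Agent.Helper9.PushExtZeroFin
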