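import Mathlib
import Groth.Prelude.Def_NonAbH2
import Groth.Prelude.Def_ChGrp
import Groth.Agent.Helper9.ExactH1
import Groth.Agent.Helper9.TorsorTriv

set_option autoImplicit false
set_option linter.unusedSectionVars false

namespace Groth.Agent.Helper9.PushHom

open CategoryTheory CategoryTheory.Limits MonoidalCategory CartesianMonoidalCategory MonObj
  AlgebraicGeometry
open Groth.Agent.Helper9.BalDesc Groth.Agent.Helper9.ExactH1 Groth.Agent.Helper9.TorsorTriv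

universe u

variable {X : Scheme.{u}} {J J' J'' : Over X} [GrpObj J] [GrpObj J'] [GrpObj J'']
  (u : J ⟶ J') [IsMonHom u] (v : J' ⟶ J'') [IsMonHom v] {P P' P'' : Over X}
  (a : AlgGrp.Action J P) (a' : AlgGrp.Action J' P') (a'' : AlgGrp.Action J'' P'')
  (hP : NonAbH1.IsTorsorFor Scheme.fpqcPrecoverage a)
  (hP' : NonAbH1.IsTorsorFor Scheme.fpqcPrecoverage a')
  (q' : P ⟶ P') (hq' : a.act ≫ q' = lift (fst J P ≫ u) (snd J P ≫ q') ≫ a'.act)
  (q'' : P ⟶ P'') (hq'' : a.act ≫ q'' = lift (fst J P ≫ u ≫ v) (snd J P ≫ q'') ≫ a''.act)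

/-- `(g', p) ↦ g' • q'(p)` -/
noncomputable def m : J' ⊗ P ⟶ P' := (J' ◁ q') ≫ a'.act

/-- `(g', p) ↦ v(g') • q''(p)` -/
noncomputable def F : J' ⊗ P ⟶ P'' := lift (fst J' P ≫ v) (snd J' P ≫ q'') ≫ a''.act

theorem m_pt {T : Over X} (g' : T ⟶ J') (p : T ⟶ P) :
    lift g' p ≫ m a' q' = lift g' (p ≫ q') ≫ a'.act := by
  rw [m, lift_whiskerLeft_assoc]

theorem F_pt {T : Over X} (g' : T ⟶ J') (p : T ⟶ P) :
    lift g' p ≫ F v a'' q'' = lift (g' ≫ v) (p ≫ q'') ≫ a''.act := by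
  rw [F, ← Category.assoc, comp_lift, lift_fst_assoc, lift_snd_assoc]

include hq' in
theorem hq'_pt {T : Over X} (j : T ⟶ J) (p : T ⟶ P) :
    (lift j p ≫ a.act) ≫ q' = lift (j ≫ u) (p ≫ q') ≫ a'.act := by
  rw [Category.assoc, hq', ← Category.assoc, comp_lift, lift_fst_assoc, lift_snd_assoc]

include hq'' in
theorem hq''_pt {T : Over X} (j : T ⟶ J) (p : T ⟶ P) :
    (lift j p ≫ a.act) ≫ q'' = lift ((j ≫ u) ≫ v) (p ≫ q'') ≫ a''.act := by
  rw [Category.assoc, hq'', ← Category.assoc, comp_lift, lift_fst_assoc, lift_snd_assoc,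
    Category.assoc]

include hP hP' in
theorem m_loc : NonAbH1.IsLocallyTrivialFor Scheme.fpqcPrecoverage
    (Over.mk (m a' q').left : Over P'.left) := by
  obtain ⟨-, R, hR, hsec⟩ := hP
  refine ⟨R.pullbackArrows P'.hom, Precoverage.pullbackArrows_mem _ hR, ?_⟩
  rintro V t ⟨U, k, hk⟩
  obtain ⟨s, hs⟩ := hsec k hk
  let T : Over X := Over.mk (pullback.snd k P'.hom ≫ P'.hom)
  let y : T ⟶ P' := Over.homMk (pullback.snd k P'.hom) rfl
  let x : T ⟶ P := Over.homMk (pullback.fst k P'.hom ≫ s) (by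
    change (pullback.fst k P'.hom ≫ s) ≫ P.hom = pullback.snd k P'.hom ≫ P'.hom
    rw [Category.assoc, hs, pullback.condition])
  refine ⟨(lift (lift y (x ≫ q') ≫ dv a' hP'.1) x).left, ?_⟩
  change (lift (lift y (x ≫ q') ≫ dv a' hP'.1) x).left ≫ (m a' q').left = pullback.snd k P'.hom
  have h1 : lift (lift y (x ≫ q') ≫ dv a' hP'.1) x ≫ m a' q' = y := by
    rw [m_pt]
    exact act_dv a' hP'.1 _ _
  exact congrArg CommaMorphism.left h1

include hP hP' hq' hq'' in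
theorem compat ⦃T : Over X⦄ (e₁ e₂ : T ⟶ J' ⊗ P) (h12 : e₁ ≫ m a' q' = e₂ ≫ m a' q') :
    e₁ ≫ F v a'' q'' = e₂ ≫ F v a'' q'' := by
  have e1 : ∀ e : T ⟶ J' ⊗ P, e = lift (e ≫ fst _ _) (e ≫ snd _ _) := by
    intro e
    rw [← comp_lift, lift_fst_snd, Category.comp_id]
  rw [e1 e₁, e1 e₂] at h12 ⊢
  set g₁ := e₁ ≫ fst J' P
  set p₁ := e₁ ≫ snd J' P
  set g₂ := e₂ ≫ fst J' P
  set p₂ := e₂ ≫ snd J' P
  obtain ⟨j, hj⟩ := exists_act_ps a hP.1 p₁ p₂
  rw [m_pt, m_pt, ← hj, hq'_pt u a a' q' hq', ← AlgGrp.Action.lift_mul_act] at h12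
  have h3 : g₁ * (j ≫ u) = g₂ := act_unique_ps a' hP'.1 _ _ _ h12
  rw [F_pt, F_pt, ← hj, hq''_pt u v a a'' q'' hq'', ← AlgGrp.Action.lift_mul_act, ← h3,
    MonObj.mul_comp]

include hP hP' hq' hq'' in
theorem main :
    ∃! r : P' ⟶ P'', a'.act ≫ r = lift (fst J' P' ≫ v) (snd J' P' ≫ r) ≫ a''.act ∧
      q' ≫ r = q'' := by
  obtain ⟨r, hr⟩ := over_desc_q (m a' q') (m_loc a a' hP hP' q') (F v a'' q'')
    (compat u v a a' a'' hP hP' q' hq' q'' hq'')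
  have hr' : ∀ {T : Over X} (g' : T ⟶ J') (p : T ⟶ P),
      (lift g' (p ≫ q') ≫ a'.act) ≫ r = lift (g' ≫ v) (p ≫ q'') ≫ a''.act := by
    intro T g' p
    rw [← m_pt, Category.assoc, hr, F_pt]
  refine ⟨r, ⟨?_, ?_⟩, ?_⟩
  · apply over_epi_q (snd P (J' ⊗ P')) (snd_loc hP.2 (J' ⊗ P'))
    apply BalProdAux.hom_ext_lift₃'
    intro T p g' p'
    rw [lift_snd_assoc, lift_snd_assoc]
    have e2 : lift g' p' ≫ lift (fst J' P' ≫ v) (snd J' P' ≫ r) ≫ a''.act =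
        lift (g' ≫ v) (p' ≫ r) ≫ a''.act := by
      rw [← Category.assoc, comp_lift, lift_fst_assoc, lift_snd_assoc]
    rw [e2]
    set h := lift p' (p ≫ q') ≫ dv a' hP'.1 with hh
    have h1 : lift h (p ≫ q') ≫ a'.act = p' := act_dv a' hP'.1 _ _
    have hL : (lift g' p' ≫ a'.act) ≫ r = lift ((g' * h) ≫ v) (p ≫ q'') ≫ a''.act := by
      conv_lhs => rw [← h1]
      rw [← AlgGrp.Action.lift_mul_act, hr']
    have hR : lift (g' ≫ v) (p' ≫ r) ≫ a''.act =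
        lift ((g' ≫ v) * (h ≫ v)) (p ≫ q'') ≫ a''.act := by
      conv_lhs => rw [← h1, hr']
      rw [← AlgGrp.Action.lift_mul_act]
    rw [← Category.assoc, hL, hR, MonObj.mul_comp]
  · have h1 : q' = lift (1 : P ⟶ J') (𝟙 P ≫ q') ≫ a'.act := by
      rw [AlgGrp.Action.lift_one_act, Category.id_comp]
    conv_lhs => rw [h1]
    rw [hr', MonObj.one_comp, AlgGrp.Action.lift_one_act, Category.id_comp]
  · rintro r' ⟨hr1, hr2⟩
    apply over_epi_q (m a' q') (m_loc a a' hP hP' q')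
    rw [hr]
    apply AlgGrp.Action.hom_ext_lift₂
    intro T g' p
    rw [← Category.assoc, m_pt, F_pt, Category.assoc, hr1, ← Category.assoc, comp_lift,
      lift_fst_assoc, lift_snd_assoc, Category.assoc, hr2]

end Groth.Agent.Helper9.PushHom
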