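import Mathlib

/-!
# Quasi-homeomorphisms: bijection on opens gives an equivalence of sheaf categories
-/

set_option autoImplicit false

namespace Groth.Agent.Helper9.QH1

open CategoryTheory TopologicalSpace Opposite TopCat

universe u v w

variable {X₀ X : TopCat.{u}} (f : X₀ ⟶ X)

lemma le_of_map_le (hinj : Function.Injective (fun U : Opens X => (Opens.map f).obj U))
    {U V : Opens X} (h : (Opens.map f).obj U ≤ (Opens.map f).obj V) : U ≤ V := by
  have h1 : (Opens.map f).obj (U ⊔ V) = (Opens.map f).obj V := by
    apply Opens.ext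
    ext x
    constructor
    · rintro (hx | hx)
      · exact h hx
      · exact hx
    · intro hx
      exact Or.inr hx
  have h2 : U ⊔ V = V := hinj h1
  rw [← h2]
  exact le_sup_left

variable (hbij : Function.Bijective (fun U : Opens X => (Opens.map f).obj U))

include hbij in
lemma isEquivalence_map : (Opens.map f).IsEquivalence := by
  have : (Opens.map f).Full := ⟨fun {U V} g =>
    ⟨homOfLE (le_of_map_le f hbij.1 (leOfHom g)), Subsingleton.elim _ _⟩⟩
  have : (Opens.map f).Faithful := ⟨fun _ => Subsingleton.elim _ _⟩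
  have : (Opens.map f).EssSurj := ⟨fun W => by
    obtain ⟨U, hU⟩ := hbij.2 W
    exact ⟨U, ⟨eqToIso hU⟩⟩⟩
  exact { }

include hbij in
lemma isDenseSubsite_map :
    (Opens.map f).IsDenseSubsite (Opens.grothendieckTopology X) (Opens.grothendieckTopology X₀) := by
  have := isEquivalence_map f hbij
  refine { functorPushforward_mem_iff := ?_ }
  intro U S
  constructor
  · intro hS
    -- the union of the members of S
    let U' : Opens X := sSup {V | ∃ g : V ⟶ U, S g}
    have hU' : (Opens.map f).obj U ≤ (Opens.map f).obj U' := by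
      intro x₀ hx₀
      obtain ⟨W, g, ⟨V, h, k, hS', -⟩, hxW⟩ := hS x₀ hx₀
      have : x₀ ∈ (Opens.map f).obj V := leOfHom k hxW
      have hVU' : V ≤ U' := le_sSup ⟨h, hS'⟩
      exact (Opens.map f).monotone hVU' this
    have hUU' : U ≤ U' := le_of_map_le f hbij.1 hU'
    intro x hx
    have hx' : x ∈ U' := hUU' hx
    obtain ⟨V, ⟨g, hg⟩, hxV⟩ := Opens.mem_sSup.1 hx'
    exact ⟨V, g, hg, hxV⟩
  · intro hS x₀ hx₀
    obtain ⟨V, g, hg, hxV⟩ := hS (f x₀) hx₀
    exact ⟨(Opens.map f).obj V, (Opens.map f).map g,
      Sieve.image_mem_functorPushforward _ _ hg, hxV⟩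

variable (A : Type w) [Category.{u} A] [Limits.HasLimitsOfSize.{u, u} A]

include hbij in
theorem isEquivalence_pushforward :
    (TopCat.Sheaf.pushforward A f).IsEquivalence := by
  have := isDenseSubsite_map f hbij
  have : ∀ (V : (Opens X₀)ᵒᵖ), Limits.HasLimitsOfShape (StructuredArrow V (Opens.map f).op) A :=
    fun V => inferInstance
  exact inferInstanceAs
    (((Opens.map f).sheafPushforwardContinuous A (Opens.grothendieckTopology X)
      (Opens.grothendieckTopology X₀)).IsEquivalence)

end Groth.Agent.Helper9.QH1
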