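import Mathlib

/-!
# Quasi-homeomorphisms: equivalence of sheaf categories implies bijection on opens (sets)
-/

set_option autoImplicit false

namespace Groth.Agent.Helper9.QH2

open CategoryTheory TopologicalSpace Opposite TopCat

universe u v w

variable {X₀ X : TopCat.{u}} (f : X₀ ⟶ X)

section General

variable (A : Type w) [Category.{v} A]

/-- If `f_*` is essentially surjective, restriction maps of sheaves on `X` between opens with
the same preimage are isomorphisms. -/
lemma isIso_map_of_essSurj [(TopCat.Sheaf.pushforward A f).EssSurj]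
    (H : TopCat.Sheaf A X) {W U : Opens X} (hWU : W ≤ U)
    (h : (Opens.map f).obj U ≤ (Opens.map f).obj W) :
    IsIso (H.obj.map (homOfLE hWU).op) := by
  let H' := (TopCat.Sheaf.pushforward A f).objPreimage H
  let α : (TopCat.Sheaf.pushforward A f).obj H' ≅ H :=
    (TopCat.Sheaf.pushforward A f).objObjPreimageIso H
  let β : ((TopCat.Sheaf.pushforward A f).obj H').obj ≅ H.obj :=
    (TopCat.Sheaf.forget A X).mapIso α
  have hiso : IsIso (((TopCat.Sheaf.pushforward A f).obj H').obj.map (homOfLE hWU).op) := by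
    have : IsIso ((Opens.map f).map (homOfLE hWU)) :=
      ⟨homOfLE h, Subsingleton.elim _ _, Subsingleton.elim _ _⟩
    change IsIso (H'.obj.map ((Opens.map f).map (homOfLE hWU)).op)
    infer_instance
  rw [← NatIso.naturality_1 β]
  infer_instance

end General

section Sets

variable {Y : TopCat.{u}}

/-- The subterminal presheaf of sets attached to an open subset. -/
def hPresheaf (W : Opens Y) : TopCat.Presheaf (Type u) Y where
  obj V := ULift.{u} (PLift (V.unop ≤ W))
  map {V V'} i := TypeCat.ofHom (fun s => ⟨⟨(leOfHom i.unop).trans s.down.down⟩⟩)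
  map_id _ := rfl
  map_comp _ _ := rfl

lemma hPresheaf_obj (W : Opens Y) (V : (Opens Y)ᵒᵖ) :
    (hPresheaf W).obj V = ULift.{u} (PLift (V.unop ≤ W)) := rfl

instance (W : Opens Y) (V : (Opens Y)ᵒᵖ) : Subsingleton ((hPresheaf W).obj V) :=
  inferInstanceAs (Subsingleton (ULift.{u} (PLift (V.unop ≤ W))))

instance (W : Opens Y) (V : (Opens Y)ᵒᵖ) : Subsingleton (ToType ((hPresheaf W).obj V)) :=
  inferInstanceAs (Subsingleton (ULift.{u} (PLift (V.unop ≤ W))))

lemma hPresheaf_isSheaf (W : Opens Y) : (hPresheaf W).IsSheaf := by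
  rw [TopCat.Presheaf.isSheaf_iff_isSheafUniqueGluing_types]
  intro ι U sf _
  have key : iSup U ≤ W := iSup_le fun i => (show ULift.{u} (PLift (U i ≤ W)) from sf i).down.down
  let s : ULift.{u} (PLift (iSup U ≤ W)) := ⟨⟨key⟩⟩
  refine ⟨s, fun i => Subsingleton.elim _ _, fun _ _ => Subsingleton.elim _ _⟩

/-- The subterminal sheaf of sets attached to an open subset. -/
def hSheaf (W : Opens Y) : TopCat.Sheaf (Type u) Y := ⟨hPresheaf W, hPresheaf_isSheaf W⟩

lemma nonempty_hSheaf_iff (W V : Opens Y) : Nonempty ((hSheaf W).obj.obj (op V)) ↔ V ≤ W :=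
  ⟨fun ⟨s⟩ => (show ULift.{u} (PLift (V ≤ W)) from s).down.down,
    fun h => ⟨(⟨⟨h⟩⟩ : ULift.{u} (PLift (V ≤ W)))⟩⟩

end Sets

end Groth.Agent.Helper9.QH2
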