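import Mathlib
import Groth.Agent.Helper9.QH2

/-!
# Quasi-homeomorphisms: equivalence of categories of sheaves of sets implies bijection on opens
-/

set_option autoImplicit false

namespace Groth.Agent.Helper9.QH3

open CategoryTheory TopologicalSpace Opposite TopCat
open Groth.Agent.Helper9.QH2

universe u

variable {X₀ X : TopCat.{u}} (f : X₀ ⟶ X)

section

variable {Y : TopCat.{u}}

/-- The morphism of subterminal sheaves attached to an inclusion of opens. -/
def hMap {W W' : Opens Y} (h : W ≤ W') : hSheaf W ⟶ hSheaf W' :=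
  ObjectProperty.homMk
    { app := fun V => TypeCat.ofHom (fun s =>
        (⟨⟨(show ULift.{u} (PLift (V.unop ≤ W)) from s).down.down.trans h⟩⟩ :
          ULift.{u} (PLift (V.unop ≤ W'))))
      naturality := fun V V' i => by
        ext x
        exact Subsingleton.elim (α := ULift.{u} (PLift (V'.unop ≤ W'))) _ _ }

lemma nonempty_of_isIso {A B : Type u} (g : A ⟶ B) (hg : IsIso g) (hB : Nonempty B) :
    Nonempty A :=
  hB.map (inv g)

end

lemma injective_of_essSurj_types [(TopCat.Sheaf.pushforward (Type u) f).EssSurj] :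
    Function.Injective (fun U : Opens X => (Opens.map f).obj U) := by
  have key : ∀ U V : Opens X, (Opens.map f).obj U = (Opens.map f).obj V → U ≤ V := by
    intro U V h
    have hWU : U ⊓ V ≤ U := inf_le_left
    have h' : (Opens.map f).obj U ≤ (Opens.map f).obj (U ⊓ V) := by
      intro x hx
      exact ⟨hx, (h ▸ hx : x ∈ (Opens.map f).obj V)⟩
    have := isIso_map_of_essSurj f (Type u) (hSheaf (U ⊓ V)) hWU h'
    have hne : Nonempty ((hSheaf (U ⊓ V)).obj.obj (op U)) :=
      nonempty_of_isIso ((hSheaf (U ⊓ V)).obj.map (homOfLE hWU).op) this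
        ((nonempty_hSheaf_iff (U ⊓ V) (U ⊓ V)).2 le_rfl)
    exact ((nonempty_hSheaf_iff _ _).1 hne).trans inf_le_right
  intro U V h
  exact le_antisymm (key U V h) (key V U h.symm)

lemma surjective_of_isEquivalence_types [(TopCat.Sheaf.pushforward (Type u) f).IsEquivalence] :
    Function.Surjective (fun U : Opens X => (Opens.map f).obj U) := by
  intro W₀
  let U : Opens X := sSup {V | (Opens.map f).obj V ≤ W₀}
  have hle : (Opens.map f).obj U ≤ W₀ := by
    intro x₀ hx₀
    obtain ⟨V, hV, hxV⟩ := Opens.mem_sSup.1 (show f x₀ ∈ U from hx₀)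
    exact hV hxV
  refine ⟨U, le_antisymm hle ?_⟩
  let φ := hMap hle
  have hiso : IsIso ((TopCat.Sheaf.pushforward (Type u) f).map φ) := by
    have : IsIso ((TopCat.Sheaf.forget (Type u) X).map
        ((TopCat.Sheaf.pushforward (Type u) f).map φ)) := by
      rw [NatTrans.isIso_iff_isIso_app]
      intro V
      rw [isIso_iff_bijective]
      constructor
      · intro a b _
        exact Subsingleton.elim
          (α := ULift.{u} (PLift ((Opens.map f).obj V.unop ≤ (Opens.map f).obj U))) _ _
      · intro b
        have hb : (Opens.map f).obj V.unop ≤ W₀ :=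
          (show ULift.{u} (PLift ((Opens.map f).obj V.unop ≤ W₀)) from b).down.down
        have hVU : V.unop ≤ U := le_sSup hb
        refine ⟨(⟨⟨(Opens.map f).monotone hVU⟩⟩ :
          ULift.{u} (PLift ((Opens.map f).obj V.unop ≤ (Opens.map f).obj U))), ?_⟩
        exact Subsingleton.elim (α := ULift.{u} (PLift ((Opens.map f).obj V.unop ≤ W₀))) _ _
    exact isIso_of_reflects_iso _ (TopCat.Sheaf.forget (Type u) X)
  have hφ : IsIso φ := isIso_of_fully_faithful (TopCat.Sheaf.pushforward (Type u) f) φ
  have : IsIso ((TopCat.Sheaf.forget (Type u) X₀).map φ) := inferInstance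
  have : IsIso (((TopCat.Sheaf.forget (Type u) X₀).map φ).app (op W₀)) :=
    (NatTrans.isIso_iff_isIso_app _).1 this (op W₀)
  have hne : Nonempty ((hSheaf ((Opens.map f).obj U)).obj.obj (op W₀)) :=
    nonempty_of_isIso (((TopCat.Sheaf.forget (Type u) X₀).map φ).app (op W₀)) this
      ((nonempty_hSheaf_iff W₀ W₀).2 le_rfl)
  exact (nonempty_hSheaf_iff _ _).1 hne

theorem bijective_of_isEquivalence_types
    [(TopCat.Sheaf.pushforward (Type u) f).IsEquivalence] :
    Function.Bijective (fun U : Opens X => (Opens.map f).obj U) :=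
  ⟨injective_of_essSurj_types f, surjective_of_isEquivalence_types f⟩

end Groth.Agent.Helper9.QH3
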