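import Mathlib

/-!
# Sheaves of functions supported on a subset (abelian group valued)
-/

set_option autoImplicit false

namespace Groth.Agent.Helper9.QH4

open CategoryTheory TopologicalSpace Opposite TopCat

universe u

variable {Y : TopCat.{u}} (Z : Set Y) (B : Type u) [AddCommGroup B]

/-- The points of `Z` lying in an open subset. -/
abbrev Pts (T : Opens Y) : Type u := {z : Y // z ∈ T ∧ z ∈ Z}

/-- restriction of functions -/
def resHom {T T' : Opens Y} (h : T' ≤ T) : (Pts Z T → B) →+ (Pts Z T' → B) where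
  toFun s p := s ⟨p.1, ⟨h p.2.1, p.2.2⟩⟩
  map_zero' := rfl
  map_add' _ _ := rfl

@[simp] lemma resHom_apply {T T' : Opens Y} (h : T' ≤ T) (s : Pts Z T → B) (p : Pts Z T') :
    resHom Z B h s p = s ⟨p.1, ⟨h p.2.1, p.2.2⟩⟩ := rfl

/-- The presheaf `T ↦ (T ∩ Z → B)`. -/
def fnPresheaf : TopCat.Presheaf AddCommGrpCat.{u} Y where
  obj T := AddCommGrpCat.of (Pts Z T.unop → B)
  map {T T'} i := AddCommGrpCat.ofHom (resHom Z B (leOfHom i.unop))
  map_id _ := rfl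
  map_comp _ _ := rfl

lemma fnPresheaf_map_apply {T T' : (Opens Y)ᵒᵖ} (i : T ⟶ T') (s : Pts Z T.unop → B)
    (p : Pts Z T'.unop) :
    ((fnPresheaf Z B).map i).hom s p = s ⟨p.1, ⟨leOfHom i.unop p.2.1, p.2.2⟩⟩ := rfl

lemma fnPresheaf_isSheaf : (fnPresheaf Z B).IsSheaf := by
  rw [TopCat.Presheaf.isSheaf_iff_isSheafUniqueGluing]
  intro ι U sf hsf
  -- sections as functions
  let sf' : ∀ i, Pts Z (U i) → B := fun i => sf i
  have hcompat : ∀ (i j : ι) (z : Y) (hi : z ∈ U i) (hj : z ∈ U j) (hz : z ∈ Z),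
      sf' i ⟨z, hi, hz⟩ = sf' j ⟨z, hj, hz⟩ := by
    intro i j z hi hj hz
    have := congrFun (hsf i j) ⟨z, ⟨hi, hj⟩, hz⟩
    exact this
  have hex : ∀ p : Pts Z (iSup U), ∃ i, p.1 ∈ U i := fun p => Opens.mem_iSup.1 p.2.1
  let s : Pts Z (iSup U) → B := fun p => sf' (hex p).choose ⟨p.1, (hex p).choose_spec, p.2.2⟩
  refine ⟨s, ?_, ?_⟩
  · intro i
    funext p
    exact hcompat _ i p.1
      (hex ⟨p.1, ⟨leOfHom (Opens.leSupr U i) p.2.1, p.2.2⟩⟩).choose_spec p.2.1 p.2.2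
  · intro s' hs'
    funext p
    have := congrFun (hs' (hex p).choose) ⟨p.1, (hex p).choose_spec, p.2.2⟩
    exact this

/-- The sheaf `T ↦ (T ∩ Z → B)`. -/
def fnSheaf : TopCat.Sheaf AddCommGrpCat.{u} Y := ⟨fnPresheaf Z B, fnPresheaf_isSheaf Z B⟩

end Groth.Agent.Helper9.QH4
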