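import Mathlib
import Groth.Agent.Helper9.QH2
import Groth.Agent.Helper9.QH4

/-!
# Quasi-homeomorphisms: equivalence of categories of abelian sheaves implies bijection on opens
-/

set_option autoImplicit false

namespace Groth.Agent.Helper9.QH5

open CategoryTheory TopologicalSpace Opposite TopCat
open Groth.Agent.Helper9.QH2 Groth.Agent.Helper9.QH4

universe u

variable {X₀ X : TopCat.{u}} (f : X₀ ⟶ X)

/-- the integers in universe `u` -/
abbrev BZ : Type u := ULift.{u} ℤ

lemma injective_of_essSurj_ab [(TopCat.Sheaf.pushforward AddCommGrpCat.{u} f).EssSurj] :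
    Function.Injective (fun U : Opens X => (Opens.map f).obj U) := by
  have key : ∀ U V : Opens X, (Opens.map f).obj U = (Opens.map f).obj V → U ≤ V := by
    intro U V h
    have hWU : U ⊓ V ≤ U := inf_le_left
    have h' : (Opens.map f).obj U ≤ (Opens.map f).obj (U ⊓ V) := by
      intro x hx
      exact ⟨hx, (h ▸ hx : x ∈ (Opens.map f).obj V)⟩
    let Z : Set X := {x | x ∉ U ⊓ V}
    have hiso := isIso_map_of_essSurj f AddCommGrpCat.{u} (fnSheaf Z BZ) hWU h'
    have hbij := ConcreteCategory.bijective_of_isIso ((fnSheaf Z BZ).obj.map (homOfLE hWU).op)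
    intro x hxU
    by_contra hxV
    have hxZ : x ∈ Z := fun h => hxV h.2
    let s : Pts Z U → BZ := fun _ => ⟨1⟩
    have hs : s = 0 := hbij.1 (by
      funext p
      exact absurd p.2.1 p.2.2)
    have h1 := congrFun hs ⟨x, hxU, hxZ⟩
    exact absurd (congrArg ULift.down h1) one_ne_zero
  intro U V h
  exact le_antisymm (key U V h) (key V U h.symm)

section Surj

variable (W₀ : Opens X₀) (x₀ : X₀)

/-- the sheaf on `X₀` of functions on the complement of `W₀` -/
noncomputable abbrev G' : TopCat.Sheaf AddCommGrpCat.{u} X₀ := fnSheaf {z | z ∉ W₀} BZ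

/-- its pushforward, as a presheaf on `X` -/
noncomputable abbrev P : TopCat.Presheaf AddCommGrpCat.{u} X :=
  ((TopCat.Sheaf.pushforward AddCommGrpCat.{u} f).obj (G' W₀)).obj

/-- the stalk at `f x₀` -/
noncomputable abbrev M : AddCommGrpCat.{u} := (P f W₀).stalk (f x₀)

/-- the skyscraper sheaf at `x₀` with value `M` -/
noncomputable abbrev S : TopCat.Sheaf AddCommGrpCat.{u} X₀ := fnSheaf {x₀} (M f W₀ x₀)

lemma mem_of_pts {V : Opens X} (p : Pts ({x₀} : Set X₀) ((Opens.map f).obj V)) : f x₀ ∈ V := by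
  have h1 : p.1 = x₀ := p.2.2
  have h2 : f p.1 ∈ V := p.2.1
  rwa [h1] at h2

/-- the germ map as a morphism of presheaves `f_* G' ⟶ f_* S` -/
noncomputable def ψ : (TopCat.Sheaf.pushforward AddCommGrpCat.{u} f).obj (G' W₀) ⟶
    (TopCat.Sheaf.pushforward AddCommGrpCat.{u} f).obj (S f W₀ x₀) :=
  ObjectProperty.homMk
    { app := fun V => AddCommGrpCat.ofHom
        { toFun := fun s p => ((P f W₀).germ V.unop (f x₀) (mem_of_pts f x₀ p)).hom s
          map_zero' := by
            funext p
            exact map_zero _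
          map_add' := fun s t => by
            funext p
            exact map_add _ s t }
      naturality := fun V V' i => by
        ext s
        funext p
        exact (P f W₀).germ_res_apply i.unop (f x₀) (mem_of_pts f x₀ p) s }

end Surj

lemma surjective_of_isEquivalence_ab
    [(TopCat.Sheaf.pushforward AddCommGrpCat.{u} f).IsEquivalence] :
    Function.Surjective (fun U : Opens X => (Opens.map f).obj U) := by
  intro W₀
  let U : Opens X := sSup {V | (Opens.map f).obj V ≤ W₀}
  have hle : (Opens.map f).obj U ≤ W₀ := by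
    intro x₀ hx₀
    obtain ⟨V, hV, hxV⟩ := Opens.mem_sSup.1 (show f x₀ ∈ U from hx₀)
    exact hV hxV
  refine ⟨U, le_antisymm hle ?_⟩
  intro x₀ hx₀
  by_contra hx₀U
  have K : ∀ V : Opens X, f x₀ ∈ V → ∃ z : X₀, f z ∈ V ∧ z ∉ W₀ := by
    intro V hV
    by_contra hcon
    push Not at hcon
    have hVW : (Opens.map f).obj V ≤ W₀ := fun z hz => hcon z hz
    have hVU : V ≤ U := le_sSup hVW
    exact hx₀U (hVU hV)
  obtain ⟨φ, hφ⟩ := (TopCat.Sheaf.pushforward AddCommGrpCat.{u} f).map_surjective (ψ f W₀ x₀)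
  have hφ0 : ∀ (T : Opens X₀) (s : Pts {z | z ∉ W₀} T → BZ) (p : Pts ({x₀} : Set X₀) T),
      (φ.hom.app (op T)).hom s p = 0 := by
    intro T s p
    rcases p with ⟨z, hzT, hz⟩
    have hzx : z = x₀ := hz
    subst hzx
    have hT' : T ⊓ W₀ ≤ T := inf_le_left
    have nat := φ.hom.naturality (homOfLE hT').op
    have nat' := congrArg (fun g => g.hom s) nat
    have hres : ((G' W₀).obj.map (homOfLE hT').op).hom s = 0 := by
      funext q
      exact absurd q.2.1.2 q.2.2
    have nat'' := congrFun nat' ⟨z, ⟨hzT, hx₀⟩, rfl⟩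
    simp only [AddCommGrpCat.hom_comp, AddMonoidHom.comp_apply] at nat''
    rw [hres, map_zero] at nat''
    exact nat''.symm
  have h1 := congrArg (fun g => (g.hom.app (op ⊤)).hom (fun _ => (⟨1⟩ : BZ))
    ⟨x₀, ⟨True.intro, rfl⟩⟩) hφ
  have h2 : ((P f W₀).germ ⊤ (f x₀) True.intro).hom (fun _ => (⟨1⟩ : BZ)) = 0 := by
    refine Eq.trans h1.symm ?_
    exact hφ0 _ _ _
  have h3 : ((P f W₀).germ ⊤ (f x₀) True.intro).hom (fun _ => (⟨1⟩ : BZ)) =
      ((P f W₀).germ ⊤ (f x₀) True.intro).hom 0 := by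
    rw [h2, map_zero]
  obtain ⟨V, hyV, iU, iV, hV⟩ := (P f W₀).germ_eq (U := ⊤) (V := ⊤) (f x₀) True.intro True.intro _ _ h3
  obtain ⟨z, hzV, hzW⟩ := K V hyV
  have h4 := congrFun hV ⟨z, hzV, hzW⟩
  have h5 : (⟨1⟩ : BZ) = 0 := h4
  exact absurd (congrArg ULift.down h5) one_ne_zero

theorem bijective_of_isEquivalence_ab
    [(TopCat.Sheaf.pushforward AddCommGrpCat.{u} f).IsEquivalence] :
    Function.Bijective (fun U : Opens X => (Opens.map f).obj U) :=
  ⟨injective_of_essSurj_ab f, surjective_of_isEquivalence_ab f⟩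

end Groth.Agent.Helper9.QH5
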