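import Mathlib
import Groth.Prelude.Def_AlgGrp
import Groth.Agent.Helper9.DescTools
import Groth.Agent.Helper9.LocDesc
import Groth.Agent.Helper9.QuotGrp

set_option autoImplicit false
set_option linter.unusedSectionVars false

namespace Groth.Agent.Helper9.QuotProps

open CategoryTheory CategoryTheory.Limits MonoidalCategory CartesianMonoidalCategory MonObj GrpObj
  AlgebraicGeometry
open Groth.Agent.Helper9.DescTools Groth.Agent.Helper9.LocDesc

universe u

variable {S : Scheme.{u}} {G N Q : Over S} [GrpObj G] [GrpObj N] (u : N ⟶ G) [IsMonHom u] [Mono u]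
  (p : G ⟶ Q) (hloc : Loc Scheme.fpqcPrecoverage p)
  (hpb : IsPullback (fst G N) ((G ◁ u) ≫ μ[G]) p p)

include hpb in
theorem ker_sq : IsPullback u (toUnit N) p (η[G] ≫ p) := by
  have hfib := QuotGrp.fib_of_isPullback u p hpb
  have e1 : ∀ T : Over S, (1 : T ⟶ G) = toUnit T ≫ η[G] := fun T => rfl
  refine ⟨⟨?_⟩, ⟨PullbackCone.IsLimit.mk _
    (fun s => Classical.choose ((hfib (1 : s.pt ⟶ G) s.fst).mp ?_)) ?_ ?_ ?_⟩⟩
  · have h1 := (hfib (1 : N ⟶ G) u).mpr ⟨𝟙 N, by rw [Category.id_comp, _root_.one_mul]⟩
    rw [← h1, e1, Category.assoc]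
  · have h1 := s.condition
    rw [h1, e1, Category.assoc]
    congr 1
    exact toUnit_unique _ _
  · intro s
    have h2 := Classical.choose_spec ((hfib (1 : s.pt ⟶ G) s.fst).mp (by
      have h1 := s.condition
      rw [h1, e1, Category.assoc]
      congr 1
      exact toUnit_unique _ _))
    rw [_root_.one_mul] at h2
    exact h2.symm
  · intro s
    exact toUnit_unique _ _
  · intro s m hm1 hm2
    rw [← cancel_mono u, hm1]
    have h2 := Classical.choose_spec ((hfib (1 : s.pt ⟶ G) s.fst).mp (by
      have h1 := s.condition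
      rw [h1, e1, Category.assoc]
      congr 1
      exact toUnit_unique _ _))
    rw [_root_.one_mul] at h2
    exact h2

include hpb in
theorem immersion : IsImmersion u.left := by
  have sq := (left_isPullback (ker_sq u p hpb)).flip
  haveI : IsImmersion ((η[G] ≫ p).left ≫ Q.hom) := by
    rw [Over.w]
    exact inferInstanceAs (IsImmersion (𝟙 S))
  have h1 : IsImmersion (η[G] ≫ p).left := IsImmersion.of_comp _ Q.hom
  exact MorphismProperty.of_isPullback sq h1

include hpb in
theorem closed_of_sep [IsSeparated Q.hom] : IsClosedImmersion (η[G] ≫ p).left := by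
  haveI : IsClosedImmersion ((η[G] ≫ p).left ≫ Q.hom) := by
    rw [Over.w]
    exact inferInstanceAs (IsClosedImmersion (𝟙 S))
  exact IsClosedImmersion.of_comp _ Q.hom

include hpb in
theorem closed_u_of_closed_unit (h : IsClosedImmersion (η[G] ≫ p).left) :
    IsClosedImmersion u.left := by
  have sq := (left_isPullback (ker_sq u p hpb)).flip
  exact MorphismProperty.of_isPullback sq h

include hpb hloc in
theorem closed_unit_of_closed_u (h : IsClosedImmersion u.left) :
    IsClosedImmersion (η[G] ≫ p).left := by
  have sq := (left_isPullback (ker_sq u p hpb)).flip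
  exact desc_of_loc @IsClosedImmersion p hloc sq h

theorem shear_isIso : IsIso (lift (fst G G) μ[G]) := by
  refine ⟨⟨lift (fst G G) (lift (fst G G ≫ ι[G]) (snd G G) ≫ μ[G]), ?_, ?_⟩⟩
  · ext1
    · rw [Category.assoc, lift_fst, lift_fst, Category.id_comp]
    · have e : μ[G] = fst G G * snd G G := by rw [Hom.mul_def, lift_fst_snd, Category.id_comp]
      rw [Category.assoc, lift_snd, Category.id_comp, ← Category.assoc, comp_lift,
        lift_fst_assoc, ← Hom.inv_def, ← Hom.mul_def, lift_snd]
      nth_rw 1 [e]
      rw [inv_mul_cancel_left]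
  · ext1
    · rw [Category.assoc, lift_fst, lift_fst, Category.id_comp]
    · rw [Category.assoc, lift_snd, Category.id_comp, ← Hom.mul_def,
        ← Hom.mul_def, ← Hom.inv_def, mul_inv_cancel_left]

include hpb hloc in
theorem sep_of_closed_u (h : IsClosedImmersion u.left) : IsSeparated Q.hom := by
  apply separated_of_graph p hloc hpb
  have e : lift (fst G N) ((G ◁ u) ≫ μ[G]) = (G ◁ u) ≫ lift (fst G G) μ[G] := by
    rw [comp_lift, whiskerLeft_fst]
  rw [e, Over.comp_left]
  haveI : IsClosedImmersion (G ◁ u).left :=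
    MorphismProperty.of_isPullback (left_isPullback (isPullback_whiskerLeft u G)).flip h
  haveI : IsIso (lift (fst G G) μ[G]).left :=
    haveI := shear_isIso (G := G)
    (Over.forget S).map_isIso (lift (fst G G) μ[G])
  infer_instance

end Groth.Agent.Helper9.QuotProps
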