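import Mathlib
import Groth.Prelude.Def_SGA1
import Groth.Agent.Helper9.FinQuot
import Groth.Agent.Helper6.QuotBasis

/-!
# Quotients in stages (product groups)
-/

set_option autoImplicit false

namespace Groth.Agent.Helper9.QuotStage

open CategoryTheory CategoryTheory.Limits AlgebraicGeometry

universe u

variable {X M Z : Scheme.{u}} {G H : Type u} [Group G] [Group H]

theorem stage_prod (θ : G × H →* Aut X) (π₁ : X ⟶ M)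
    (hπ₁ : SGA1.IsQuot (θ.comp (MonoidHom.inl G H)) π₁) (σ' : H →* Aut M)
    (hequiv : ∀ h : H, π₁ ≫ (σ' h).hom = (θ (1, h)).hom ≫ π₁)
    (π₂ : M ⟶ Z) (hπ₂ : SGA1.IsQuot σ' π₂) : SGA1.IsQuot θ (π₁ ≫ π₂) := by
  haveI := hπ₁.affine
  haveI := hπ₂.affine
  have hsplit : ∀ (g : G) (h : H), (θ (g, h)).hom = (θ (1, h)).hom ≫ (θ (g, 1)).hom := by
    intro g h
    have : ((g, h) : G × H) = (g, 1) * (1, h) := by simp
    rw [this, map_mul]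
    rfl
  have hinv : ∀ gh : G × H, (θ gh).hom ≫ π₁ ≫ π₂ = π₁ ≫ π₂ := by
    rintro ⟨g, h⟩
    rw [hsplit, Category.assoc]
    have h1 : (θ (g, 1)).hom ≫ π₁ = π₁ := hπ₁.inv g
    rw [← Category.assoc (θ (g, 1)).hom, h1, ← Category.assoc, ← hequiv, Category.assoc, hπ₂.inv]
  have happ : ∀ U : Z.Opens, (π₁ ≫ π₂).app U = π₂.app U ≫ π₁.app (π₂ ⁻¹ᵁ U) :=
    fun U => Scheme.Hom.comp_app π₁ π₂ U
  refine ⟨inferInstance, hinv, ?_, ?_⟩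
  · intro U
    rw [happ]
    exact (hπ₁.injective (π₂ ⁻¹ᵁ U)).comp (hπ₂.injective U)
  · intro U s
    constructor
    · rintro ⟨t, rfl⟩ gh
      exact congrArg (fun φ => φ.hom t)
        (Groth.Agent.Helper6.QuotBasis.app_pb θ (π₁ ≫ π₂) hinv gh U)
    · intro hs
      -- descend to `M`
      have hs1 : ∀ g : G, (((θ.comp (MonoidHom.inl G H)) g).hom.appLE (π₁ ⁻¹ᵁ (π₂ ⁻¹ᵁ U))
          (π₁ ⁻¹ᵁ (π₂ ⁻¹ᵁ U))
          (SGA1.preimage_le_of_inv (θ.comp (MonoidHom.inl G H)) π₁ hπ₁.inv g (π₂ ⁻¹ᵁ U))).hom s = s :=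
        fun g => hs (g, 1)
      obtain ⟨t, ht⟩ := (hπ₁.range_iff (π₂ ⁻¹ᵁ U) s).mpr hs1
      have key : ∀ h : H,
          (σ' h).hom.appLE (π₂ ⁻¹ᵁ U) (π₂ ⁻¹ᵁ U) (SGA1.preimage_le_of_inv σ' π₂ hπ₂.inv h U)
            ≫ π₁.app (π₂ ⁻¹ᵁ U)
          = π₁.app (π₂ ⁻¹ᵁ U) ≫ (θ (1, h)).hom.appLE (π₁ ⁻¹ᵁ (π₂ ⁻¹ᵁ U)) (π₁ ⁻¹ᵁ (π₂ ⁻¹ᵁ U))
              (SGA1.preimage_le_of_inv θ (π₁ ≫ π₂) hinv (1, h) U) := by
        intro h
        have h1 := Scheme.Hom.appLE_comp_appLE π₁ (σ' h).hom (π₂ ⁻¹ᵁ U) (π₂ ⁻¹ᵁ U)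
          (π₁ ⁻¹ᵁ (π₂ ⁻¹ᵁ U)) (SGA1.preimage_le_of_inv σ' π₂ hπ₂.inv h U) le_rfl
        have h2 := Scheme.Hom.appLE_comp_appLE (θ (1, h)).hom π₁ (π₂ ⁻¹ᵁ U) (π₁ ⁻¹ᵁ (π₂ ⁻¹ᵁ U))
          (π₁ ⁻¹ᵁ (π₂ ⁻¹ᵁ U)) le_rfl (SGA1.preimage_le_of_inv θ (π₁ ≫ π₂) hinv (1, h) U)
        rw [Scheme.Hom.app_eq_appLE]
        refine h1.trans (Eq.trans ?_ h2.symm)
        exact Groth.Agent.Helper9.EffEpiQ.appLE_congr_hom _ _ (hequiv h) _ _ _ _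
      have ht2 : ∀ h : H, ((σ' h).hom.appLE (π₂ ⁻¹ᵁ U) (π₂ ⁻¹ᵁ U)
          (SGA1.preimage_le_of_inv σ' π₂ hπ₂.inv h U)).hom t = t := by
        intro h
        apply hπ₁.injective (π₂ ⁻¹ᵁ U)
        have e := congrArg (fun φ => φ.hom t) (key h)
        refine e.trans ?_
        change ((θ (1, h)).hom.appLE _ _ _).hom ((π₁.app (π₂ ⁻¹ᵁ U)).hom t) = _
        rw [ht]
        exact hs (1, h)
      obtain ⟨a, ha⟩ := (hπ₂.range_iff U t).mpr ht2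
      refine ⟨a, ?_⟩
      rw [happ, ← ht, ← ha]
      rfl


/-- a group homomorphism to `Aut X` from an anti-multiplicative family of endomorphisms -/
def autOfAct {C : Type*} [Category C] {X : C} {H : Type*} [Group H] (a : H → (X ⟶ X))
    (h1 : a 1 = 𝟙 X) (hmul : ∀ g h : H, a (g * h) = a h ≫ a g) : H →* Aut X where
  toFun h :=
    { hom := a h
      inv := a h⁻¹
      hom_inv_id := by rw [← hmul, inv_mul_cancel, h1]
      inv_hom_id := by rw [← hmul, mul_inv_cancel, h1] }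
  map_one' := Iso.ext h1
  map_mul' g h := Iso.ext (hmul g h)

@[simp] theorem autOfAct_hom {C : Type*} [Category C] {X : C} {H : Type*} [Group H]
    (a : H → (X ⟶ X)) (h1 : a 1 = 𝟙 X) (hmul : ∀ g h : H, a (g * h) = a h ≫ a g) (h : H) :
    (autOfAct a h1 hmul h).hom = a h := rfl

end Groth.Agent.Helper9.QuotStage
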