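import Mathlib
import Groth.Prelude.Def_RedSub
import Groth.Agent.Helper9.KerSq
import Groth.Agent.Helper9.QuotGrp
import Groth.Agent.Helper9.LocFactor
import Groth.Agent.Helper9.HNQuot

set_option autoImplicit false
set_option linter.unusedSectionVars false

namespace Groth.Agent.Helper9.QuotTorus

open CategoryTheory CategoryTheory.Limits MonoidalCategory CartesianMonoidalCategory MonObj GrpObj
  AlgebraicGeometry
open Groth.Agent.Helper9.DescTools Groth.Agent.Helper9.ExactH1 Groth.Agent.Helper9.LocDesc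

universe u

variable {S : Scheme.{u}} {G D C T'' H Q : Over S} [GrpObj G] [GrpObj D]
    [GrpObj C] [GrpObj T''] [GrpObj H] (d : D ⟶ G) [IsMonHom d]
    (f₀ : G ⟶ C) [IsMonHom f₀] (hker : AlgGrp.IsKernel d f₀)
    (hquot : RedSub.IsQuotient d f₀)
    (t : T'' ⟶ C) [IsMonHom t] [Mono t] (k : H ⟶ G) [IsMonHom k] (g : H ⟶ T'') [IsMonHom g]
    (hsq : IsPullback k g f₀ t) (q : G ⟶ Q) (hq : RedSub.IsQuotient k q)

omit [GrpObj G] in
theorem loc_of_fppf {E B : Over S} (j : E ⟶ B) (hs : Surjective j.left) (hf : Flat j.left)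
    (hp : LocallyOfFinitePresentation j.left) : Loc Scheme.fpqcPrecoverage j := by
  refine ⟨Presieve.singleton j.left,
    Scheme.fppfPrecoverage_le_fpqcPrecoverage _ (Scheme.Hom.singleton_mem_fppfPrecoverage _), ?_⟩
  rintro U t ⟨⟩
  exact ⟨𝟙 _, Category.id_comp _⟩

set_option backward.isDefEq.respectTransparency false in
include hker hquot hsq hq in
/-- the quotient of `G` by the preimage `H` of a subgroup `T'' ⊆ C = G/D` is the quotient `C/T''` -/
theorem main (hlfp : LocallyOfFinitePresentation T''.hom) :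
    ∃! q' : C ⟶ Q, f₀ ≫ q' = q ∧ RedSub.IsQuotient t q' := by
  obtain ⟨hs0, hfl0, hlfp0, hpb0⟩ := hquot
  obtain ⟨hsq', hflq, hlfpq, hpbq⟩ := hq
  have hloc0 : Loc Scheme.fpqcPrecoverage f₀ := loc_of_fppf f₀ hs0 hfl0 hlfp0
  have hlocq : Loc Scheme.fpqcPrecoverage q := loc_of_fppf q hsq' hflq hlfpq
  have hfib0 := QuotGrp.fib_of_isPullback (p := f₀) (u := d) hpb0
  have hfibq := QuotGrp.fib_of_isPullback (p := q) (u := k) hpbq
  -- D ⊆ H
  have hdt : d ≫ f₀ = (toUnit D ≫ η[T'']) ≫ t := by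
    rw [hker.w, Category.assoc, IsMonHom.one_hom]
  have he : hsq.lift d (toUnit D ≫ η[T'']) hdt ≫ k = d := hsq.lift_fst _ _ _
  -- descend q
  obtain ⟨q', hq'⟩ := over_desc_q f₀ hloc0 q (by
    intro T e₁ e₂ h12
    obtain ⟨x, rfl⟩ := (hfib0 e₁ e₂).mp h12
    exact (hfibq e₁ _).mpr ⟨x ≫ hsq.lift d (toUnit D ≫ η[T'']) hdt, by rw [Category.assoc, he]⟩)
  refine ⟨q', ⟨hq', ?_⟩, fun q'' h => over_epi_q f₀ hloc0 _ _ (by rw [h.1, hq'])⟩
  -- the cover g : H ⟶ T''
  have hlocg : Loc Scheme.fpqcPrecoverage g := pullback_loc _ hsq.flip hloc0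
  have hlocq' : Loc Scheme.fpqcPrecoverage q' := by
    apply LocFactor.loc_of_comp _ f₀ q'
    rw [hq']
    exact hlocq
  -- fibres of q'
  have hfib : ∀ ⦃X : Over S⦄ (c₁ c₂ : X ⟶ C), c₁ ≫ q' = c₂ ≫ q' ↔
      ∃ τ : X ⟶ T'', c₂ = c₁ * (τ ≫ t) := by
    intro X c₁ c₂
    constructor
    · intro h12
      -- lift (c₁, c₂) locally to G × G
      obtain ⟨E, j, gam, sq⟩ : ∃ (E : Over S) (j : E ⟶ X) (gam : E ⟶ G ⊗ G),
          IsPullback j gam (lift c₁ c₂) (f₀ ⊗ₘ f₀) := ⟨_, _, _, IsPullback.of_hasPullback _ _⟩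
      have hj : Loc Scheme.fpqcPrecoverage j :=
        pullback_loc _ sq (tensor_loc _ f₀ f₀ hloc0 hloc0)
      have h1 : j ≫ c₁ = (gam ≫ fst G G) ≫ f₀ := by
        have := congrArg (fun e => e ≫ fst C C) sq.w
        simpa using this
      have h2 : j ≫ c₂ = (gam ≫ snd G G) ≫ f₀ := by
        have := congrArg (fun e => e ≫ snd C C) sq.w
        simpa using this
      have h3 : (gam ≫ fst G G) ≫ q = (gam ≫ snd G G) ≫ q := by
        rw [← hq', ← Category.assoc, ← Category.assoc, ← h1, ← h2, Category.assoc, Category.assoc,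
          h12]
      obtain ⟨h, hh⟩ := (hfibq _ _).mp h3
      obtain ⟨τ, hτ⟩ := LocFactor.factor_of_loc t (c₁⁻¹ * c₂) j hj (h ≫ g) (by
        rw [MonObj.comp_mul, GrpObj.comp_inv, h1, h2, hh, MonObj.mul_comp, inv_mul_cancel_left,
          Category.assoc, Category.assoc, hsq.w])
      exact ⟨τ, by rw [hτ, mul_inv_cancel_left]⟩
    · rintro ⟨τ, rfl⟩
      -- lift (c₁, τ) locally to G × H
      obtain ⟨E, j, gam, sq⟩ : ∃ (E : Over S) (j : E ⟶ X) (gam : E ⟶ G ⊗ H),
          IsPullback j gam (lift c₁ τ) (f₀ ⊗ₘ g) := ⟨_, _, _, IsPullback.of_hasPullback _ _⟩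
      have hj : Loc Scheme.fpqcPrecoverage j :=
        pullback_loc _ sq (tensor_loc _ f₀ g hloc0 hlocg)
      have h1 : j ≫ c₁ = (gam ≫ fst G H) ≫ f₀ := by
        have := congrArg (fun e => e ≫ fst C T'') sq.w
        simpa using this
      have h2 : j ≫ τ = (gam ≫ snd G H) ≫ g := by
        have := congrArg (fun e => e ≫ snd C T'') sq.w
        simpa using this
      apply over_epi_q j hj
      have h3 : j ≫ (c₁ * (τ ≫ t)) = ((gam ≫ fst G H) * ((gam ≫ snd G H) ≫ k)) ≫ f₀ := by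
        rw [MonObj.comp_mul, ← Category.assoc j τ t, h1, h2, MonObj.mul_comp]
        congr 1
        simp only [Category.assoc, hsq.w]
      have e1 : j ≫ c₁ ≫ q' = (gam ≫ fst G H) ≫ q := by
        rw [← Category.assoc, h1, Category.assoc, hq']
      have e2 : j ≫ (c₁ * (τ ≫ t)) ≫ q' =
          ((gam ≫ fst G H) * ((gam ≫ snd G H) ≫ k)) ≫ q := by
        rw [← Category.assoc, h3, Category.assoc, hq']
      rw [e1, e2]
      exact (hfibq _ _).mpr ⟨_, rfl⟩
  have hpb' := LocFactor.isPullback_of_fib t q' hfib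
  refine ⟨?_, ?_, ?_, hpb'⟩
  · -- surjective
    haveI : Surjective (f₀.left ≫ q'.left) := by
      rw [← Over.comp_left, hq']
      exact hsq'
    exact Surjective.of_comp f₀.left q'.left
  · -- flat
    haveI := hfl0
    haveI := hs0
    haveI : Flat (f₀.left ≫ q'.left) := by
      rw [← Over.comp_left, hq']
      exact hflq
    exact HNQuot.flat_of_comp_surjective_flat f₀.left q'.left
  · -- locally of finite presentation
    have h1 : LocallyOfFinitePresentation (fst C T'').left := by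
      change LocallyOfFinitePresentation (pullback.fst C.hom T''.hom)
      infer_instance
    exact desc_of_loc @LocallyOfFinitePresentation q' hlocq' (left_isPullback hpb').flip h1

end Groth.Agent.Helper9.QuotTorus
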