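import Mathlib
import Groth.Prelude.Def_DTen5

set_option autoImplicit false

/-!
# Base change for derived hom: reduction of `rhomBC` being an isomorphism to the strong
monoidality of derived base change (abstract part)
-/

universe u
open CategoryTheory CategoryTheory.Limits MonoidalCategory
attribute [local instance] HasDerivedCategory.standard
open DTen

namespace Groth.Agent.Helper9.RBC1

variable {R R' : Type u} [CommRing R] [CommRing R'] (φ : R →+* R')

section Adj

variable [HasLBase φ]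

/-- the adjunct `LBase X ⟶ Y` of a map `X ⟶ res Y` -/
noncomputable def adjt {X : Dual.D R} {Y : Dual.D R'} (u : X ⟶ (DRing.restrictD φ).obj Y) :
    (LBase φ).obj X ⟶ Y :=
  ((baseAdj φ).homEquiv X Y).symm u

lemma adjt_comp_res {X : Dual.D R} {Y Y' : Dual.D R'} (u : X ⟶ (DRing.restrictD φ).obj Y)
    (b : Y ⟶ Y') : adjt φ (u ≫ (DRing.restrictD φ).map b) = adjt φ u ≫ b :=
  (baseAdj φ).homEquiv_naturality_right_symm u b

lemma adjt_precomp {X' X : Dual.D R} {Y : Dual.D R'} (a : X' ⟶ X)
    (u : X ⟶ (DRing.restrictD φ).obj Y) : adjt φ (a ≫ u) = (LBase φ).map a ≫ adjt φ u :=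
  (baseAdj φ).homEquiv_naturality_left_symm a u

lemma adjt_unit (X : Dual.D R) : adjt φ ((baseAdj φ).unit.app X) = 𝟙 _ := by
  rw [adjt, Adjunction.homEquiv_counit]
  exact (baseAdj φ).left_triangle_components X

lemma unit_res_adjt {X : Dual.D R} {Y : Dual.D R'} (u : X ⟶ (DRing.restrictD φ).obj Y) :
    (baseAdj φ).unit.app X ≫ (DRing.restrictD φ).map (adjt φ u) = u := by
  have h := ((baseAdj φ).homEquiv X Y).apply_symm_apply u
  rw [Adjunction.homEquiv_unit] at h
  exact h

lemma adjt_unit_res {X : Dual.D R} {Y : Dual.D R'} (b : (LBase φ).obj X ⟶ Y) :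
    adjt φ ((baseAdj φ).unit.app X ≫ (DRing.restrictD φ).map b) = b := by
  rw [adjt_comp_res, adjt_unit, Category.id_comp]

lemma bijective_of_isIso_adjt {X : Dual.D R} {Y : Dual.D R'}
    (u : X ⟶ (DRing.restrictD φ).obj Y) [IsIso (adjt φ u)] (M : Dual.D R') :
    Function.Bijective (fun g : Y ⟶ M => u ≫ (DRing.restrictD φ).map g) := by
  have h1 : Function.Bijective (fun g : Y ⟶ M => adjt φ u ≫ g) := by
    constructor
    · intro a b hab
      exact (cancel_epi (adjt φ u)).mp hab
    · intro c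
      exact ⟨inv (adjt φ u) ≫ c, by simp⟩
  have h2 := ((baseAdj φ).homEquiv X M).bijective
  have h3 := h2.comp h1
  convert h3 using 1
  funext g
  simp only [Function.comp_apply]
  rw [Adjunction.homEquiv_unit, Functor.map_comp, ← Category.assoc, unit_res_adjt]

end Adj

section Main

variable [HasLTen R] [HasLTen R'] [HasLBase φ] [HasResTen φ] [ResLegIso φ]

/-- the lax-monoidal structure map of the unit: `T ⊗^L_R K ⟶ res (LBase T ⊗^L_{R'} LBase K)` -/
noncomputable def m (T K : Dual.D R) :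
    (LTen₂ R).obj (T, K) ⟶
      (DRing.restrictD φ).obj ((LTen₂ R').obj ((LBase φ).obj T, (LBase φ).obj K)) :=
  (LTen₂ R).map (Prod.mkHom ((baseAdj φ).unit.app T) ((baseAdj φ).unit.app K)) ≫
    (resPF φ).app ((LBase φ).obj T, (LBase φ).obj K)

omit [HasLBase φ] in
/-- naturality of `resPF`, spelled out -/
lemma resPF_naturality {E₁ E₂ E₁' E₂' : Dual.D R'} (a : E₁ ⟶ E₂) (b : E₁' ⟶ E₂') :
    (LTen₂ R).map (Prod.mkHom ((DRing.restrictD φ).map a) ((DRing.restrictD φ).map b)) ≫
        (resPF φ).app (E₂, E₂') =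
      (resPF φ).app (E₁, E₁') ≫ (DRing.restrictD φ).map ((LTen₂ R').map (Prod.mkHom a b)) :=
  (resPF φ).naturality (Prod.mkHom a b : (E₁, E₁') ⟶ (E₂, E₂'))

/-- naturality of `m` -/
lemma m_naturality {T₁ T₂ K₁ K₂ : Dual.D R} (a : T₁ ⟶ T₂) (b : K₁ ⟶ K₂) :
    (LTen₂ R).map (Prod.mkHom a b) ≫ m φ T₂ K₂ =
      m φ T₁ K₁ ≫ (DRing.restrictD φ).map
        ((LTen₂ R').map (Prod.mkHom ((LBase φ).map a) ((LBase φ).map b))) := by
  have h1 := (baseAdj φ).unit.naturality a
  have h2 := (baseAdj φ).unit.naturality b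
  simp only [Functor.id_obj, Functor.id_map, Functor.comp_obj, Functor.comp_map] at h1 h2
  rw [m, m, Category.assoc, ← resPF_naturality, ← Category.assoc, ← Category.assoc,
    ← Functor.map_comp, ← Functor.map_comp]
  congr 2
  exact Prod.ext h1 h2

variable [HasRHom R] [HasRHom R']

theorem isIso_rhomBC_of_univ (K : Dual.D R) (M : Dual.D R')
    (h : ∀ T : Dual.D R, IsIso (adjt φ (m φ T K))) : IsIso (rhomBC φ K M) := by
  apply isIso_of_yoneda_map_bijective
  intro T
  have := h T
  have e1 := ((baseAdj φ).homEquiv T ((RHomR R' ((LBase φ).obj K)).obj M)).bijective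
  have e2 := ((rhomAdj R' ((LBase φ).obj K)).homEquiv ((LBase φ).obj T) M).symm.bijective
  have e3 := bijective_of_isIso_adjt φ (m φ T K) M
  have e4 := ((rhomAdj R K).homEquiv T ((DRing.restrictD φ).obj M)).bijective
  rw [← Function.Bijective.of_comp_iff _ e1]
  have e5 := e4.comp (e3.comp e2)
  convert e5 using 1
  funext t'
  simp only [Function.comp_apply]
  -- the key identity
  have hcore : (tensorRightD R K).map ((baseAdj φ).unit.app T ≫ (DRing.restrictD φ).map t') ≫
      rhomBCCore φ K M =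
      m φ T K ≫ (DRing.restrictD φ).map
        ((tensorRightD R' ((LBase φ).obj K)).map t' ≫ ev ((LBase φ).obj K) M) := by
    have hn := resPF_naturality φ t' (𝟙 ((LBase φ).obj K))
    rw [CategoryTheory.Functor.map_id] at hn
    change (LTen₂ R).map (Prod.mkHom ((baseAdj φ).unit.app T ≫ (DRing.restrictD φ).map t')
      (𝟙 K)) ≫ rhomBCCore φ K M =
      m φ T K ≫ (DRing.restrictD φ).map
        ((LTen₂ R').map (Prod.mkHom t' (𝟙 ((LBase φ).obj K))) ≫ ev ((LBase φ).obj K) M)
    rw [rhomBCCore, m, Functor.map_comp, Category.assoc, ← reassoc_of% hn,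
      ← Functor.map_comp_assoc, ← Functor.map_comp_assoc]
    congr 2
    exact Prod.ext (by simp) (by simp)
  rw [Adjunction.homEquiv_unit, rhomBC, rhomHomEquiv, ← Adjunction.homEquiv_naturality_left,
    hcore, Adjunction.homEquiv_counit]

end Main

end Groth.Agent.Helper9.RBC1
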