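import Mathlib
import Groth.Prelude.Def_DTen5
import Groth.Agent.Helper6.TorAmpBridge
import Groth.Agent.Helper6.TensorSES
import Groth.Agent.Helper6.RingChangeTen
import Groth.Agent.Helper3.DRingTor3
import Groth.Agent.Helper6.KProjRes
import Groth.Agent.Helper6.LBaseCmp

set_option autoImplicit false
set_option linter.unusedSectionVars false

/-!
# Tensoring a termwise flat complex with a module of finite tor dimension: amplitude bound
-/

universe u
open CategoryTheory CategoryTheory.Limits MonoidalCategory DerivedCategory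
attribute [local instance] HasDerivedCategory.standard

namespace Groth.Agent.Helper9.RBC10

open Groth.Agent.Helper6 Groth.Agent.Helper6.TorAmpBridge Groth.Agent.Helper6.TensorSES
  Groth.Agent.Helper3.DRingLib

variable {A : Type u} [CommRing A]

/-- tensoring with a flat module preserves exactness -/
lemma exactAt_tensorCx_of_flat (P : DRing.Cx A) (B : ModuleCat.{u} A) [Module.Flat A B] (j : ℤ)
    (h : P.ExactAt j) : (DRing.tensorCx P B).ExactAt j := by
  rw [exactAt_iff_forall _ (j - 1) j (j + 1) (by omega) rfl] at h ⊢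
  have hex : Function.Exact (P.d (j - 1) j).hom (P.d j (j + 1)).hom := by
    intro x
    constructor
    · intro hx
      exact h x hx
    · rintro ⟨y, rfl⟩
      have := P.d_comp_d (j - 1) j (j + 1)
      exact congrArg (fun t => t.hom y) this
  have hex' := Module.Flat.rTensor_exact B hex
  intro t ht
  exact (hex' t).mp ht

/-- **Amplitude bound**: if `B` has tor dimension `≤ d`, `P` is termwise flat and exact below
`n`, then `P ⊗ B` is exact below `n - d`. -/
theorem exactAt_tensorCx_of_torDimLE (d : ℕ) : ∀ (B : ModuleCat.{u} A), TorDimLE d B →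
    ∀ (P : DRing.Cx A), DRing.TermwiseFlat P → ∀ n : ℤ, (∀ j, j < n → P.ExactAt j) →
      ∀ j, j < n - d → (DRing.tensorCx P B).ExactAt j := by
  induction d with
  | zero =>
    intro B hB P fP n hP j hj
    have := flat_of_torDimLE_zero B hB
    exact exactAt_tensorCx_of_flat P B j (hP j (by push_cast at hj; omega))
  | succ d ih =>
    intro B hB P fP n hP j hj
    let S : ShortComplex (ModuleCat.{u} A) :=
      ShortComplex.mk (kernel.ι (Projective.π B)) (Projective.π B) (kernel.condition _)
    have hS : S.ShortExact :=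
      { exact := ShortComplex.exact_of_f_is_kernel _ (kernelIsKernel _)
        mono_f := inferInstanceAs (Mono (kernel.ι (Projective.π B)))
        epi_g := inferInstanceAs (Epi (Projective.π B)) }
    have : Projective S.X₂ := inferInstanceAs (Projective (Projective.over B))
    have hF : Module.Projective A S.X₂ := (IsProjective.iff_projective S.X₂).2 inferInstance
    have hFl : Module.Flat A S.X₂ := inferInstance
    have hX₁ : TorDimLE d S.X₁ := torDimLE_kernel d hS hFl hB
    have hT := tsc_shortExact P fP S hS
    have h1 : (DRing.tensorCx P S.X₁).ExactAt (j + 1) :=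
      ih S.X₁ hX₁ P fP n hP (j + 1) (by push_cast at hj ⊢; omega)
    have h2 : (DRing.tensorCx P S.X₂).ExactAt j :=
      exactAt_tensorCx_of_flat P S.X₂ j (hP j (by push_cast at hj; omega))
    rw [HomologicalComplex.exactAt_iff_isZero_homology] at h1 h2 ⊢
    have hex := hT.homology_exact₃ j (j + 1) (by simp)
    exact hex.isZero_of_both_zeros (h2.eq_of_src _ _) (h1.eq_of_tgt _ _)

section LBase

open DTen

variable {R R' : Type u} [CommRing R] [CommRing R'] (φ : R →+* R') [HasLBase φ]

lemma exists_proj_iso (Y : Dual.D R) : ∃ (P : DRing.Cx R), TenCx.KFlat P ∧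
    (∀ i, Module.Projective R (P.X i)) ∧ Nonempty (Y ≅ Q.obj P) := by
  obtain ⟨P, f, -, hPf, hPp, hf, -⟩ := KProjRes.exists_resolution (Q.objPreimage Y)
  have : IsIso (Q.map f) := by
    rw [DerivedCategory.isIso_Q_map_iff_quasiIso]; exact hf
  exact ⟨P, hPf, hPp, ⟨(Q.objObjPreimageIso Y).symm ≪≫ (asIso (Q.map f)).symm⟩⟩

/-- **Amplitude bound for derived base change**: if `R'` has tor dimension `≤ d` over `R`,
then `LBase` maps `D^{≥ n}` into `D^{≥ n - d}`. -/
theorem isGE_LBase_of_torDimLE (d : ℕ)
    (hB : TorDimLE d ((ModuleCat.restrictScalars.{u} φ).obj (ModuleCat.of R' R')))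
    (Y : Dual.D R) (n : ℤ) (hY : DerivedCategory.IsGE Y n) :
    DerivedCategory.IsGE ((LBase φ).obj Y) (n - d) := by
  obtain ⟨P, hPf, hPp, ⟨e⟩⟩ := exists_proj_iso Y
  have hQP : DerivedCategory.IsGE (Q.obj P) n := TStructure.t.isGE_of_iso e n
  have hPge : P.IsGE n := (DerivedCategory.isGE_Q_obj_iff P n).mp hQP
  have hPex : ∀ j, j < n → P.ExactAt j := fun j hj => (CochainComplex.isGE_iff P n).mp hPge j hj
  have fP : DRing.TermwiseFlat P := fun i => by
    have := hPp i
    infer_instance
  have hext : ∀ j, j < n - d → ((extCx φ).obj P).ExactAt j := by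
    intro j hj
    have h1 := exactAt_tensorCx_of_torDimLE d _ hB P fP n hPex j hj
    have h2 := RingChangeTen.exactAt_tensorCx_ext φ (ModuleCat.of R' R') P j h1
    exact exactAt_of_exactAt_tensorCx_unit _ j h2
  have h3 : DerivedCategory.IsGE (Q.obj ((extCx φ).obj P)) (n - d) := by
    rw [DerivedCategory.isGE_Q_obj_iff, CochainComplex.isGE_iff]
    exact hext
  have := LBaseCmp.isIso_baseCmp_of_kflat φ P hPf
  have i : (LBase φ).obj Y ≅ Q.obj ((extCx φ).obj P) :=
    (LBase φ).mapIso e ≪≫ asIso ((baseCmp φ).app P)
  exact TStructure.t.isGE_of_iso i.symm (n - d)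

/-- the same with the algebra structure -/
theorem isGE_LBase_of_hasTorDimLE [Algebra R R'] [HasLBase (algebraMap R R')] (d : ℕ)
    (hd : DRing.HasTorDimLE R d R') (Y : Dual.D R) (n : ℤ) (hY : DerivedCategory.IsGE Y n) :
    DerivedCategory.IsGE ((LBase (algebraMap R R')).obj Y) (n - d) := by
  apply isGE_LBase_of_torDimLE (algebraMap R R') d _ Y n hY
  have h0 := torDimLE_of_hasTorDimLE d R' hd
  let e' : R' ≃ₗ[R]
      ((ModuleCat.restrictScalars.{u} (algebraMap R R')).obj (ModuleCat.of R' R')) :=
    { toFun := fun x => x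
      invFun := fun x => x
      map_add' := fun _ _ => rfl
      map_smul' := fun r x => Algebra.smul_def r x
      left_inv := fun _ => rfl
      right_inv := fun _ => rfl }
  let e : ModuleCat.of R R' ≅
      (ModuleCat.restrictScalars.{u} (algebraMap R R')).obj (ModuleCat.of R' R') :=
    e'.toModuleIso
  intro N p hp
  exact (h0 N p hp).of_iso (((Tor (ModuleCat.{u} R) p).mapIso e).app N).symm

end LBase

end Groth.Agent.Helper9.RBC10
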