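import Mathlib
import Groth.Prelude.Def_DTen5
import Groth.Agent.Helper6.AdjHC
import Groth.Agent.Helper6.TenCx
import Groth.Agent.Helper6.CofanMod

set_option autoImplicit false
set_option backward.isDefEq.respectTransparency false

/-!
# Extension of scalars is strong monoidal on cochain complexes, compatibly with `resTenCx`
-/

universe u
open CategoryTheory CategoryTheory.Limits MonoidalCategory
open DTen

namespace Groth.Agent.Helper9.RBC2

open Groth.Agent.Helper6 Groth.Agent.Helper6.TenCx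

variable {R R' : Type u} [CommRing R] [CommRing R'] (φ : R →+* R')

/-- module level: the unit is monoidal -/
lemma unit_tensor_δ (M N : ModuleCat.{u} R) :
    (ModuleCat.extendRestrictScalarsAdj.{u, u, u} φ).unit.app (M ⊗ N) ≫
        (ModuleCat.restrictScalars.{u} φ).map
          (Functor.OplaxMonoidal.δ (ModuleCat.extendScalars.{u, u, u} φ) M N) =
      ((ModuleCat.extendRestrictScalarsAdj.{u, u, u} φ).unit.app M ⊗ₘ
        (ModuleCat.extendRestrictScalarsAdj.{u, u, u} φ).unit.app N) ≫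
        resTen₀app φ ((ModuleCat.extendScalars.{u, u, u} φ).obj M)
          ((ModuleCat.extendScalars.{u, u, u} φ).obj N) := by
  rw [resTen₀app_eq_μ]
  exact (ModuleCat.extendRestrictScalarsAdj.{u, u, u} φ).unit_app_tensor_comp_map_δ M N

/-- the adjunction on complexes -/
noncomputable abbrev adjC : extCx φ ⊣ resCx φ :=
  AdjHC.adjHC (ModuleCat.extendRestrictScalarsAdj.{u, u, u} φ) (ComplexShape.up ℤ)

lemma adjC_unit : (adjC φ).unit = unitCx φ := by
  ext K i
  rfl

/-- `P ⊗ P' ⟶ res (ext P ⊗ ext P')` -/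
noncomputable def cMap (P P' : DRing.Cx R) :
    P ⊗ P' ⟶ (resCx φ).obj ((extCx φ).obj P ⊗ (extCx φ).obj P') :=
  ((unitCx φ).app P ⊗ₘ (unitCx φ).app P') ≫ resTenCx φ ((extCx φ).obj P) ((extCx φ).obj P')

/-- the comparison `ext (P ⊗ P') ⟶ ext P ⊗ ext P'` -/
noncomputable def σ (P P' : DRing.Cx R) :
    (extCx φ).obj (P ⊗ P') ⟶ (extCx φ).obj P ⊗ (extCx φ).obj P' :=
  ((adjC φ).homEquiv _ _).symm (cMap φ P P')

lemma unitCx_σ (P P' : DRing.Cx R) :
    (unitCx φ).app (P ⊗ P') ≫ (resCx φ).map (σ φ P P') = cMap φ P P' := by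
  have h := ((adjC φ).homEquiv (P ⊗ P') ((extCx φ).obj P ⊗ (extCx φ).obj P')).apply_symm_apply
    (cMap φ P P')
  rw [Adjunction.homEquiv_unit, adjC_unit] at h
  exact h

lemma ι_tensorHom {K K' L L' : DRing.Cx R} (f : K ⟶ K') (g : L ⟶ L') (p q n : ℤ)
    (h : p + q = n) :
    ι K L p q n h ≫ (f ⊗ₘ g).f n = (f.f p ⊗ₘ g.f q) ≫ ι K' L' p q n h := by
  have := HomologicalComplex.ι_mapBifunctorMap f g (curriedTensor (ModuleCat.{u} R))
    (ComplexShape.up ℤ) p q n h
  refine this.trans ?_
  simp [MonoidalCategory.tensorHom_def]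

lemma ι_cMap (P P' : DRing.Cx R) (p q n : ℤ) (h : p + q = n) :
    ι P P' p q n h ≫ (cMap φ P P').f n =
      ((ModuleCat.extendRestrictScalarsAdj.{u, u, u} φ).unit.app (P.X p) ⊗ₘ
        (ModuleCat.extendRestrictScalarsAdj.{u, u, u} φ).unit.app (P'.X q)) ≫
        resTen₀app φ (((extCx φ).obj P).X p) (((extCx φ).obj P').X q) ≫
        (resM φ).map (ι ((extCx φ).obj P) ((extCx φ).obj P') p q n h) := by
  rw [cMap, HomologicalComplex.comp_f, ← Category.assoc, ι_tensorHom, Category.assoc]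
  erw [ι_resTenCx φ ((extCx φ).obj P) ((extCx φ).obj P') p q n h]
  rfl

/-- the degree `n` part of `σ`, with its source spelled through `extendScalars` -/
noncomputable def σf (P P' : DRing.Cx R) (n : ℤ) :
    (ModuleCat.extendScalars.{u, u, u} φ).obj ((P ⊗ P').X n) ⟶
      ((extCx φ).obj P ⊗ (extCx φ).obj P').X n :=
  (σ φ P P').f n

lemma unit_σf (P P' : DRing.Cx R) (n : ℤ) :
    (ModuleCat.extendRestrictScalarsAdj.{u, u, u} φ).unit.app ((P ⊗ P').X n) ≫
      (ModuleCat.restrictScalars.{u} φ).map (σf φ P P' n) = (cMap φ P P').f n := by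
  have h2 := congrArg (fun t => t.f n) (unitCx_σ φ P P')
  simp only [HomologicalComplex.comp_f] at h2
  exact h2

lemma ext_ι_σ (P P' : DRing.Cx R) (p q n : ℤ) (h : p + q = n) :
    (ModuleCat.extendScalars.{u, u, u} φ).map (ι P P' p q n h) ≫ σf φ P P' n =
      Functor.OplaxMonoidal.δ (ModuleCat.extendScalars.{u, u, u} φ) (P.X p) (P'.X q) ≫
        ι ((extCx φ).obj P) ((extCx φ).obj P') p q n h := by
  apply ((ModuleCat.extendRestrictScalarsAdj.{u, u, u} φ).homEquiv _ _).injective
  rw [Adjunction.homEquiv_unit, Adjunction.homEquiv_unit, Functor.map_comp, Functor.map_comp,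
    ← Category.assoc, ← Category.assoc]
  have h1 := (ModuleCat.extendRestrictScalarsAdj.{u, u, u} φ).unit.naturality (ι P P' p q n h)
  simp only [Functor.id_obj, Functor.id_map, Functor.comp_obj, Functor.comp_map] at h1
  rw [← h1, unit_tensor_δ, Category.assoc, Category.assoc, unit_σf]
  exact ι_cMap φ P P' p q n h

/-- the source cofan -/
noncomputable def cofE (P P' : DRing.Cx R) (n : ℤ) :
    Cofan (fun i : Idx n => (ModuleCat.extendScalars.{u, u, u} φ).obj (P.X i.1.1 ⊗ P'.X i.1.2)) :=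
  Cofan.mk ((ModuleCat.extendScalars.{u, u, u} φ).obj ((P ⊗ P').X n))
    (fun i => (ModuleCat.extendScalars.{u, u, u} φ).map (ι P P' i.1.1 i.1.2 n i.2))

noncomputable def isColimitCofE (P P' : DRing.Cx R) (n : ℤ) : IsColimit (cofE φ P P' n) := by
  haveI := (ModuleCat.extendRestrictScalarsAdj.{u, u, u} φ).leftAdjoint_preservesColimits
  exact isColimitCofanMkObjOfIsColimit (ModuleCat.extendScalars.{u, u, u} φ) _ _
    (isColimitCof P P' n)

lemma σ_bijective (P P' : DRing.Cx R) (n : ℤ) : Function.Bijective ((σ φ P P').f n) := by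
  have hF : ∀ i : Idx n, (cofE φ P P' n).inj i ≫ σf φ P P' n =
      Functor.OplaxMonoidal.δ (ModuleCat.extendScalars.{u, u, u} φ) (P.X i.1.1) (P'.X i.1.2) ≫
        (cof ((extCx φ).obj P) ((extCx φ).obj P') n).inj i := fun i =>
    ext_ι_σ φ P P' i.1.1 i.1.2 n i.2
  change Function.Bijective (σf φ P P' n)
  have hb : ∀ i : Idx n, Function.Bijective
      (Functor.OplaxMonoidal.δ (ModuleCat.extendScalars.{u, u, u} φ) (P.X i.1.1) (P'.X i.1.2)) :=
    fun i => ConcreteCategory.bijective_of_isIso _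
  constructor
  · exact CofanMod.injective_of_injective (cofE φ P P' n) (isColimitCofE φ P P' n)
      (cof ((extCx φ).obj P) ((extCx φ).obj P') n)
      (isColimitCof ((extCx φ).obj P) ((extCx φ).obj P') n)
      (fun i => Functor.OplaxMonoidal.δ (ModuleCat.extendScalars.{u, u, u} φ)
        (P.X i.1.1) (P'.X i.1.2)) (σf φ P P' n) hF (fun i => (hb i).1)
  · exact CofanMod.surjective_of_surjective (cofE φ P P' n) (isColimitCofE φ P P' n)
      (cof ((extCx φ).obj P) ((extCx φ).obj P') n)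
      (isColimitCof ((extCx φ).obj P) ((extCx φ).obj P') n)
      (fun i => Functor.OplaxMonoidal.δ (ModuleCat.extendScalars.{u, u, u} φ)
        (P.X i.1.1) (P'.X i.1.2)) (σf φ P P' n) hF (fun i => (hb i).2)

instance isIso_σ (P P' : DRing.Cx R) : IsIso (σ φ P P') := by
  have : ∀ n, IsIso ((σ φ P P').f n) := fun n =>
    (ConcreteCategory.isIso_iff_bijective _).mpr (σ_bijective φ P P' n)
  exact HomologicalComplex.Hom.isIso_of_components _

end Groth.Agent.Helper9.RBC2
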