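import Mathlib
import Groth.Prelude.Def_DTen5
import Groth.Agent.Helper9.RBC1
import Groth.Agent.Helper9.RBC2
import Groth.Agent.Helper6.TenCompute
import Groth.Agent.Helper6.LBaseCmp
import Groth.Agent.Helper6.ExtKFlat
import Groth.Agent.Helper6.MixCompute
import Groth.Agent.Helper6.KProjRes

set_option autoImplicit false

/-!
# Derived base change is strong monoidal; `rhomBC` is an isomorphism
-/

universe u
open CategoryTheory CategoryTheory.Limits MonoidalCategory DerivedCategory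
attribute [local instance] HasDerivedCategory.standard
open DTen

namespace Groth.Agent.Helper9.RBC3

open Groth.Agent.Helper6 Groth.Agent.Helper6.TenCx Groth.Agent.Helper9.RBC1
  Groth.Agent.Helper9.RBC2

variable {R R' : Type u} [CommRing R] [CommRing R'] (φ : R →+* R')
  [HasLTen R] [HasLTen R'] [HasLBase φ] [HasResTen φ] [ResLegIso φ]

/-- `LBase QP ⊗^L LBase QP' ⟶ Q(ext P ⊗ ext P')` -/
noncomputable def iso₁ (P P' : DRing.Cx R) :
    (LTen₂ R').obj ((LBase φ).obj (Q.obj P), (LBase φ).obj (Q.obj P')) ⟶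
      Q.obj ((extCx φ).obj P ⊗ (extCx φ).obj P') :=
  (LTen₂ R').map (Prod.mkHom ((baseCmp φ).app P) ((baseCmp φ).app P')) ≫
    (ε R').app ((extCx φ).obj P, (extCx φ).obj P')

omit [HasLTen R] [HasResTen φ] [ResLegIso φ] in
lemma isIso_iso₁ (P P' : DRing.Cx R) (hP : KFlat P) (hP' : KFlat P') : IsIso (iso₁ φ P P') := by
  have h1 := LBaseCmp.isIso_baseCmp_of_kflat φ P hP
  have h2 := LBaseCmp.isIso_baseCmp_of_kflat φ P' hP'
  have h3 := TenCompute.isIso_ε_of_kflat R' ((extCx φ).obj P) ((extCx φ).obj P')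
    (Or.inl (ExtKFlat.kflat_ext φ hP))
  have h4 : IsIso (Prod.mkHom ((baseCmp φ).app P) ((baseCmp φ).app P') :
      ((Q ⋙ LBase φ).obj P, (Q ⋙ LBase φ).obj P') ⟶ _) :=
    (isIso_prod_iff _ _).mpr ⟨h1, h2⟩
  rw [iso₁]
  infer_instance

omit [HasLTen R] [HasLTen R'] [HasResTen φ] [ResLegIso φ] in
lemma baseγ_resFactors (P : DRing.Cx R) :
    (baseγ φ).app P ≫ (resFactors φ).hom.app ((extCx φ).obj P) = Q.map ((unitCx φ).app P) := by
  rw [baseγ]
  dsimp only
  rw [Category.assoc, Iso.inv_hom_id_app]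
  exact Category.comp_id _

/-- Step (a) -/
lemma m_iso₁ (P P' : DRing.Cx R) :
    m φ (Q.obj P) (Q.obj P') ≫ (DRing.restrictD φ).map (iso₁ φ P P') ≫
        (resFactors φ).hom.app ((extCx φ).obj P ⊗ (extCx φ).obj P') =
      (ε R).app (P, P') ≫ Q.map (cMap φ P P') := by
  have hn := resPF_naturality φ ((baseCmp φ).app P) ((baseCmp φ).app P')
  have hfac := resPF_fac φ ((extCx φ).obj P, (extCx φ).obj P')
  have hε : (LTen₂ R).map ((QQ R).map (Prod.mkHom ((unitCx φ).app P) ((unitCx φ).app P') :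
      (P, P') ⟶ ((resCx φ).obj ((extCx φ).obj P), (resCx φ).obj ((extCx φ).obj P')))) ≫
      (ε R).app ((resCx φ).obj ((extCx φ).obj P), (resCx φ).obj ((extCx φ).obj P')) =
      (ε R).app (P, P') ≫ Q.map ((tensorT R).map
        (Prod.mkHom ((unitCx φ).app P) ((unitCx φ).app P') :
      (P, P') ⟶ ((resCx φ).obj ((extCx φ).obj P), (resCx φ).obj ((extCx φ).obj P')))) :=
    (ε R).naturality
    (Prod.mkHom ((unitCx φ).app P) ((unitCx φ).app P') :
      (P, P') ⟶ ((resCx φ).obj ((extCx φ).obj P), (resCx φ).obj ((extCx φ).obj P')))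
  have hγ1 := baseCmp_fac φ P
  have hγ2 := baseCmp_fac φ P'
  have hb1 := baseγ_resFactors φ P
  have hb2 := baseγ_resFactors φ P'
  -- rewrite the left-hand side
  have step1 : m φ (Q.obj P) (Q.obj P') ≫ (DRing.restrictD φ).map (iso₁ φ P P') ≫
        (resFactors φ).hom.app ((extCx φ).obj P ⊗ (extCx φ).obj P') =
      (LTen₂ R).map (Prod.mkHom ((baseγ φ).app P) ((baseγ φ).app P')) ≫
        (resPF φ).app (Q.obj ((extCx φ).obj P), Q.obj ((extCx φ).obj P')) ≫
        (resβB φ).app ((extCx φ).obj P, (extCx φ).obj P') := by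
    rw [m, iso₁, Functor.map_comp, Category.assoc, Category.assoc, ← reassoc_of% hn,
      ← Functor.map_comp_assoc]
    congr 1
    · congr 1
      exact Prod.ext hγ1 hγ2
  rw [step1]
  erw [hfac]
  change (LTen₂ R).map _ ≫ ((LTen₂ R).map (Prod.mkHom
    ((resFactors φ).hom.app ((extCx φ).obj P)) ((resFactors φ).hom.app ((extCx φ).obj P'))) ≫
    (ε R).app ((resCx φ).obj ((extCx φ).obj P), (resCx φ).obj ((extCx φ).obj P')) ≫
    Q.map (resTenCx φ ((extCx φ).obj P) ((extCx φ).obj P'))) = _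
  rw [← Functor.map_comp_assoc]
  have step2 : (Prod.mkHom ((baseγ φ).app P) ((baseγ φ).app P') ≫
      Prod.mkHom ((resFactors φ).hom.app ((extCx φ).obj P))
        ((resFactors φ).hom.app ((extCx φ).obj P')) :
      ((Q.obj P, Q.obj P') : Dual.D R × Dual.D R) ⟶ _) =
      (QQ R).map (Prod.mkHom ((unitCx φ).app P) ((unitCx φ).app P') :
      (P, P') ⟶ ((resCx φ).obj ((extCx φ).obj P), (resCx φ).obj ((extCx φ).obj P'))) :=
    Prod.ext hb1 hb2
  rw [step2]
  rw [reassoc_of% hε, cMap, Functor.map_comp]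
  rw [TenHtpy.tensorT_map]

omit [HasLTen R] [HasLTen R'] [HasResTen φ] [ResLegIso φ] in
/-- Step (c) -/
lemma cMap_resFactors (P P' : DRing.Cx R) :
    Q.map (cMap φ P P') ≫ (resFactors φ).inv.app ((extCx φ).obj P ⊗ (extCx φ).obj P') =
      (baseAdj φ).unit.app (Q.obj (P ⊗ P')) ≫
        (DRing.restrictD φ).map ((baseCmp φ).app (P ⊗ P') ≫ Q.map (σ φ P P')) := by
  have h1 := (resFactors φ).inv.naturality (σ φ P P')
  simp only [Functor.comp_map] at h1
  have h2 := baseCmp_fac φ (P ⊗ P')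
  rw [← unitCx_σ, Functor.map_comp, Category.assoc, h1, Functor.map_comp, ← Category.assoc,
    ← Category.assoc, h2, baseγ]

/-- Step (d) -/
lemma adjt_m_iso₁ (P P' : DRing.Cx R) :
    adjt φ (m φ (Q.obj P) (Q.obj P')) ≫ iso₁ φ P P' =
      (LBase φ).map ((ε R).app (P, P')) ≫ (baseCmp φ).app (P ⊗ P') ≫ Q.map (σ φ P P') := by
  have h1 := m_iso₁ φ P P'
  have h2 : m φ (Q.obj P) (Q.obj P') ≫ (DRing.restrictD φ).map (iso₁ φ P P') =
      (ε R).app (P, P') ≫ (baseAdj φ).unit.app (Q.obj (P ⊗ P')) ≫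
        (DRing.restrictD φ).map ((baseCmp φ).app (P ⊗ P') ≫ Q.map (σ φ P P')) := by
    rw [← cMap_resFactors, ← reassoc_of% h1, Iso.hom_inv_id_app]
    erw [Category.comp_id]
  rw [← adjt_comp_res, h2, adjt_precomp, adjt_unit_res]

theorem isIso_adjt_m_Q (P P' : DRing.Cx R) (hP : KFlat P) (hP' : KFlat P') :
    IsIso (adjt φ (m φ (Q.obj P) (Q.obj P'))) := by
  have h1 := isIso_iso₁ φ P P' hP hP'
  have h2 := TenCompute.isIso_ε_of_kflat R P P' (Or.inl hP)
  have h3 := LBaseCmp.isIso_baseCmp_of_kflat φ (P ⊗ P') (MixCompute.kflat_tensor hP hP')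
  have h4 : IsIso (Q.map (σ φ P P')) := inferInstance
  have h5 : adjt φ (m φ (Q.obj P) (Q.obj P')) =
      ((LBase φ).map ((ε R).app (P, P')) ≫ (baseCmp φ).app (P ⊗ P') ≫ Q.map (σ φ P P')) ≫
        inv (iso₁ φ P P') := by
    rw [← adjt_m_iso₁, Category.assoc, IsIso.hom_inv_id, Category.comp_id]
  rw [h5]
  infer_instance

omit [HasLTen R] [HasLTen R'] [HasLBase φ] [HasResTen φ] [ResLegIso φ] in
lemma exists_kflat_iso (T : Dual.D R) : ∃ (P : DRing.Cx R), KFlat P ∧ Nonempty (T ≅ Q.obj P) := by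
  obtain ⟨P, f, -, hPf, -, hf, -⟩ := KProjRes.exists_resolution (Q.objPreimage T)
  have : IsIso (Q.map f) := by
    rw [DerivedCategory.isIso_Q_map_iff_quasiIso]; exact hf
  exact ⟨P, hPf, ⟨(Q.objObjPreimageIso T).symm ≪≫ (asIso (Q.map f)).symm⟩⟩

theorem isIso_adjt_m (T K : Dual.D R) : IsIso (adjt φ (m φ T K)) := by
  obtain ⟨P, hP, ⟨a⟩⟩ := exists_kflat_iso T
  obtain ⟨P', hP', ⟨b⟩⟩ := exists_kflat_iso K
  have h0 := isIso_adjt_m_Q φ P P' hP hP'
  have hn := m_naturality φ a.hom b.hom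
  have hv : IsIso (Prod.mkHom a.hom b.hom : (T, K) ⟶ (Q.obj P, Q.obj P')) :=
    (isIso_prod_iff _ _).mpr ⟨inferInstance, inferInstance⟩
  have hw : IsIso (Prod.mkHom ((LBase φ).map a.hom) ((LBase φ).map b.hom) :
      ((LBase φ).obj T, (LBase φ).obj K) ⟶ ((LBase φ).obj (Q.obj P), (LBase φ).obj (Q.obj P'))) :=
    (isIso_prod_iff _ _).mpr ⟨inferInstance, inferInstance⟩
  have h1 : adjt φ (m φ T K) ≫
      (LTen₂ R').map (Prod.mkHom ((LBase φ).map a.hom) ((LBase φ).map b.hom)) =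
      (LBase φ).map ((LTen₂ R).map (Prod.mkHom a.hom b.hom)) ≫
        adjt φ (m φ (Q.obj P) (Q.obj P')) := by
    rw [← adjt_comp_res, ← hn, adjt_precomp]
  have h2 : adjt φ (m φ T K) =
      ((LBase φ).map ((LTen₂ R).map (Prod.mkHom a.hom b.hom)) ≫
        adjt φ (m φ (Q.obj P) (Q.obj P'))) ≫
        inv ((LTen₂ R').map (Prod.mkHom ((LBase φ).map a.hom) ((LBase φ).map b.hom))) := by
    rw [← h1, Category.assoc, IsIso.hom_inv_id, Category.comp_id]
  rw [h2]
  infer_instance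

variable [HasRHom R] [HasRHom R']

theorem isIso_rhomBC (K : Dual.D R) (M : Dual.D R') : IsIso (rhomBC φ K M) :=
  isIso_rhomBC_of_univ φ K M (fun T => isIso_adjt_m φ T K)

end Groth.Agent.Helper9.RBC3
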