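import Mathlib
import Groth.Prelude.Def_DTen5
import Groth.Agent.Helper9.RBC3

set_option autoImplicit false

/-!
# The base change map for derived hom through the strong monoidal structure of `LBase`;
naturality in the first variable
-/

universe u
open CategoryTheory CategoryTheory.Limits MonoidalCategory DerivedCategory
attribute [local instance] HasDerivedCategory.standard
open DTen

namespace Groth.Agent.Helper9.RBC4

open Groth.Agent.Helper9.RBC1 Groth.Agent.Helper9.RBC3

variable {R R' : Type u} [CommRing R] [CommRing R'] (φ : R →+* R')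
  [HasLTen R] [HasLTen R'] [HasLBase φ] [HasResTen φ] [ResLegIso φ]

/-- the (op)monoidal structure map of derived base change -/
noncomputable def μ (T K : Dual.D R) :
    (LBase φ).obj ((LTen₂ R).obj (T, K)) ⟶
      (LTen₂ R').obj ((LBase φ).obj T, (LBase φ).obj K) :=
  adjt φ (m φ T K)

instance isIso_μ (T K : Dual.D R) : IsIso (μ φ T K) := isIso_adjt_m φ T K

lemma unit_res_μ (T K : Dual.D R) :
    (baseAdj φ).unit.app ((LTen₂ R).obj (T, K)) ≫ (DRing.restrictD φ).map (μ φ T K) =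
      m φ T K :=
  unit_res_adjt φ _

lemma μ_naturality {T₁ T₂ K₁ K₂ : Dual.D R} (a : T₁ ⟶ T₂) (b : K₁ ⟶ K₂) :
    (LBase φ).map ((LTen₂ R).map (Prod.mkHom a b)) ≫ μ φ T₂ K₂ =
      μ φ T₁ K₁ ≫ (LTen₂ R').map (Prod.mkHom ((LBase φ).map a) ((LBase φ).map b)) := by
  rw [μ, μ, ← adjt_precomp, m_naturality, adjt_comp_res]

variable [HasRHom R] [HasRHom R']

omit [HasRHom R] in
lemma core (T K : Dual.D R) (M : Dual.D R')
    (t' : (LBase φ).obj T ⟶ (RHomR R' ((LBase φ).obj K)).obj M) :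
    (tensorRightD R K).map ((baseAdj φ).unit.app T ≫ (DRing.restrictD φ).map t') ≫
      rhomBCCore φ K M =
      m φ T K ≫ (DRing.restrictD φ).map
        ((tensorRightD R' ((LBase φ).obj K)).map t' ≫ ev ((LBase φ).obj K) M) := by
  have hn := resPF_naturality φ t' (𝟙 ((LBase φ).obj K))
  rw [CategoryTheory.Functor.map_id] at hn
  change (LTen₂ R).map (Prod.mkHom ((baseAdj φ).unit.app T ≫ (DRing.restrictD φ).map t')
    (𝟙 K)) ≫ rhomBCCore φ K M =
    m φ T K ≫ (DRing.restrictD φ).map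
      ((LTen₂ R').map (Prod.mkHom t' (𝟙 ((LBase φ).obj K))) ≫ ev ((LBase φ).obj K) M)
  rw [rhomBCCore, m, Functor.map_comp, Category.assoc, ← reassoc_of% hn,
    ← Functor.map_comp_assoc, ← Functor.map_comp_assoc]
  congr 2
  exact Prod.ext (by simp) (by simp)

/-- the base change map is the canonical comparison of a strong monoidal functor between
closed categories -/
theorem star (K M : Dual.D R) [IsIso (rhomBC φ K ((LBase φ).obj M))] :
    μ φ ((RHomR R K).obj M) K ≫
      (tensorRightD R' ((LBase φ).obj K)).map (bcRHom φ K M) ≫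
        ev ((LBase φ).obj K) ((LBase φ).obj M) = (LBase φ).map (ev K M) := by
  apply ((baseAdj φ).homEquiv _ _).injective
  rw [Adjunction.homEquiv_unit, Adjunction.homEquiv_unit, Functor.map_comp,
    ← Category.assoc, unit_res_μ, ← core, bcRHom_fac, Functor.map_comp, Category.assoc,
    ← rhomBC_fac]
  have h0 : (tensorRightD R K).map (inv (rhomBC φ K ((LBase φ).obj M))) ≫
      (tensorRightD R K).map (rhomBC φ K ((LBase φ).obj M)) = 𝟙 _ := by
    rw [← Functor.map_comp, IsIso.inv_hom_id, CategoryTheory.Functor.map_id]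
  rw [reassoc_of% h0]
  have h1 := (rhomAdj R K).counit.naturality ((baseAdj φ).unit.app M)
  have h2 := (baseAdj φ).unit.naturality (ev K M)
  simp only [Functor.id_obj, Functor.id_map, Functor.comp_obj, Functor.comp_map] at h1 h2
  rw [h1, h2]

/-- `bcRHom` is natural in the first variable -/
theorem bcRHom_naturality {K₁ K₂ : Dual.D R} (g : K₁ ⟶ K₂) (M : Dual.D R)
    [IsIso (rhomBC φ K₁ ((LBase φ).obj M))] [IsIso (rhomBC φ K₂ ((LBase φ).obj M))] :
    (LBase φ).map (RHomMap g M) ≫ bcRHom φ K₁ M =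
      bcRHom φ K₂ M ≫ RHomMap ((LBase φ).map g) ((LBase φ).obj M) := by
  apply ((rhomAdj R' ((LBase φ).obj K₁)).homEquiv _ _).symm.injective
  rw [Adjunction.homEquiv_counit, Adjunction.homEquiv_counit]
  rw [← cancel_epi (μ φ ((RHomR R K₂).obj M) K₁)]
  -- left-hand side
  have hL : μ φ ((RHomR R K₂).obj M) K₁ ≫
      (tensorRightD R' ((LBase φ).obj K₁)).map ((LBase φ).map (RHomMap g M) ≫ bcRHom φ K₁ M) ≫
        (rhomAdj R' ((LBase φ).obj K₁)).counit.app ((LBase φ).obj M) =
      (LBase φ).map ((LTen₂ R).map (Prod.mkHom (𝟙 ((RHomR R K₂).obj M)) g) ≫ ev K₂ M) := by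
    have h1 := μ_naturality φ (RHomMap g M) (𝟙 K₁)
    rw [CategoryTheory.Functor.map_id] at h1
    have h2 := star φ K₁ M
    have h3 := RHom_map_ev g M
    rw [Functor.map_comp, Category.assoc]
    change μ φ ((RHomR R K₂).obj M) K₁ ≫
      (LTen₂ R').map (Prod.mkHom ((LBase φ).map (RHomMap g M)) (𝟙 ((LBase φ).obj K₁))) ≫ _ = _
    rw [← reassoc_of% h1, h2, ← Functor.map_comp, h3]
  -- right-hand side
  have hR : μ φ ((RHomR R K₂).obj M) K₁ ≫
      (tensorRightD R' ((LBase φ).obj K₁)).map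
        (bcRHom φ K₂ M ≫ RHomMap ((LBase φ).map g) ((LBase φ).obj M)) ≫
        (rhomAdj R' ((LBase φ).obj K₁)).counit.app ((LBase φ).obj M) =
      (LBase φ).map ((LTen₂ R).map (Prod.mkHom (𝟙 ((RHomR R K₂).obj M)) g) ≫ ev K₂ M) := by
    have h1 := μ_naturality φ (𝟙 ((RHomR R K₂).obj M)) g
    rw [CategoryTheory.Functor.map_id] at h1
    have h2 := star φ K₂ M
    have h3 := RHom_map_ev ((LBase φ).map g) ((LBase φ).obj M)
    rw [Functor.map_comp, Category.assoc]
    change μ φ ((RHomR R K₂).obj M) K₁ ≫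
      (LTen₂ R').map (Prod.mkHom (bcRHom φ K₂ M) (𝟙 ((LBase φ).obj K₁))) ≫
      ((LTen₂ R').map (Prod.mkHom (RHomMap ((LBase φ).map g) ((LBase φ).obj M))
        (𝟙 ((LBase φ).obj K₁))) ≫ ev ((LBase φ).obj K₁) ((LBase φ).obj M)) = _
    rw [h3]
    have h4 : (LTen₂ R').map (Prod.mkHom (bcRHom φ K₂ M) (𝟙 ((LBase φ).obj K₁))) ≫
        (LTen₂ R').map (Prod.mkHom (𝟙 ((RHomR R' ((LBase φ).obj K₂)).obj ((LBase φ).obj M)))
          ((LBase φ).map g)) =
        (LTen₂ R').map (Prod.mkHom (𝟙 ((LBase φ).obj ((RHomR R K₂).obj M))) ((LBase φ).map g)) ≫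
        (LTen₂ R').map (Prod.mkHom (bcRHom φ K₂ M) (𝟙 ((LBase φ).obj K₂))) := by
      rw [← Functor.map_comp, ← Functor.map_comp]
      congr 1
      exact Prod.ext (by simp) (by simp)
    rw [reassoc_of% h4, ← reassoc_of% h1, Functor.map_comp]
    congr 1
  rw [hL, hR]

end Groth.Agent.Helper9.RBC4
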