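import Mathlib
import Groth.Prelude.Def_DTen5
import Groth.Agent.Helper9.RBC4
import Groth.Agent.Helper6.HomTenD
import Groth.Agent.Helper6.DTenX2

set_option autoImplicit false
set_option linter.unusedSectionVars false

/-!
# Dévissage framework for the base change map of derived hom, in the first variable
-/

universe u
open CategoryTheory CategoryTheory.Limits MonoidalCategory DerivedCategory Pretriangulated
attribute [local instance] HasDerivedCategory.standard
open DTen

namespace Groth.Agent.Helper9.RBC5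

open Groth.Agent.Helper9.RBC1 Groth.Agent.Helper9.RBC3 Groth.Agent.Helper9.RBC4
  Groth.Agent.Helper6.DTenX Groth.Agent.Helper6.HomTen

/-- co-Yoneda mid-exactness is preserved by triangulated functors -/
lemma transfer {D D' : Type*} [Category D] [Category D'] [HasZeroObject D] [HasZeroObject D']
    [HasShift D ℤ] [HasShift D' ℤ] [Preadditive D] [Preadditive D']
    [∀ n : ℤ, (shiftFunctor D n).Additive] [∀ n : ℤ, (shiftFunctor D' n).Additive]
    [Pretriangulated D] [Pretriangulated D'] (Φ : D ⥤ D') [Φ.CommShift ℤ] [Φ.IsTriangulated]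
    {A B C : D} (u : A ⟶ B) (v : B ⟶ C)
    (h : ∀ (N : D) (y : B ⟶ N), u ≫ y = 0 → ∃ y' : C ⟶ N, v ≫ y' = y)
    (N' : D') (y : Φ.obj B ⟶ N') (hy : Φ.map u ≫ y = 0) :
    ∃ y' : Φ.obj C ⟶ N', Φ.map v ≫ y' = y := by
  obtain ⟨C', c, w, hT⟩ := Pretriangulated.distinguished_cocone_triangle u
  have huc : u ≫ c = 0 := comp_distTriang_mor_zero₁₂ _ hT
  obtain ⟨c', hc'⟩ := h C' c huc
  have hT' := Φ.map_distinguished _ hT
  obtain ⟨y'', hy''⟩ : ∃ y'' : Φ.obj C' ⟶ N', y = Φ.map c ≫ y'' :=
    Triangle.yoneda_exact₂ _ hT' y hy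
  refine ⟨Φ.map c' ≫ y'', ?_⟩
  rw [← Category.assoc, ← Φ.map_comp, hc']
  exact hy''.symm

variable {R R' : Type u} [CommRing R] [CommRing R'] (φ : R →+* R')

section Tri

variable [HasLBase φ]

noncomputable instance commShiftLBase : (LBase φ).CommShift ℤ :=
  (baseAdj φ).leftAdjointCommShift ℤ

instance commShiftBaseAdj : (baseAdj φ).CommShift ℤ :=
  (baseAdj φ).commShift_of_rightAdjoint ℤ

instance isTriangulatedLBase : (LBase φ).IsTriangulated :=
  (baseAdj φ).isTriangulated_leftAdjoint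

end Tri

section Zero

variable {A : Type u} [CommRing A] [HasLTen A] [HasRHom A]

instance preservesZero_LTen_obj (X : Dual.D A) : ((LTen A).obj X).PreservesZeroMorphisms :=
  Functor.preservesZeroMorphisms_of_iso (symmIso X).symm

lemma RHomMap_zero (K K' L : Dual.D A) : RHomMap (0 : K' ⟶ K) L = 0 := by
  apply (rhomHomEquiv ((RHomR A K).obj L) K' L).symm.injective
  rw [rhomHomEquiv, Adjunction.homEquiv_counit, Adjunction.homEquiv_counit]
  have h1 := RHom_map_ev (0 : K' ⟶ K) L
  have h2 : (LTen₂ A).map (Prod.mkHom (𝟙 ((RHomR A K).obj L)) (0 : K' ⟶ K)) = 0 :=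
    ((LTen A).obj ((RHomR A K).obj L)).map_zero _ _
  rw [h2, zero_comp] at h1
  rw [Functor.map_zero, zero_comp]
  exact h1

end Zero

section Main

variable [HasLTen R] [HasLTen R'] [HasLBase φ] [HasResTen φ] [ResLegIso φ] [HasRHom R]
  [HasRHom R']

instance isIso_rhomBC' (K : Dual.D R) (M' : Dual.D R') : IsIso (rhomBC φ K M') :=
  isIso_rhomBC φ K M'

/-- `K ↦ LBase (RHom (K, M))`, as a covariant functor to the opposite category -/
noncomputable def G₁ (M : Dual.D R) : Dual.D R ⥤ (Dual.D R')ᵒᵖ :=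
  ((RHom R).flip.obj M ⋙ LBase φ).rightOp

/-- `K ↦ RHom' (LBase K, LBase M)`, as a covariant functor to the opposite category -/
noncomputable def G₂ (M : Dual.D R) : Dual.D R ⥤ (Dual.D R')ᵒᵖ :=
  ((LBase φ).op ⋙ (RHom R').flip.obj ((LBase φ).obj M)).rightOp

omit [HasResTen φ] [ResLegIso φ] [HasRHom R'] [HasLTen R'] in
lemma G₁_map (M : Dual.D R) {K₁ K₂ : Dual.D R} (g : K₁ ⟶ K₂) :
    (G₁ φ M).map g = ((LBase φ).map (RHomMap g M)).op := rfl

omit [HasResTen φ] [ResLegIso φ] [HasRHom R] [HasLTen R] in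
lemma G₂_map (M : Dual.D R) {K₁ K₂ : Dual.D R} (g : K₁ ⟶ K₂) :
    (G₂ φ M).map g = (RHomMap ((LBase φ).map g) ((LBase φ).obj M)).op := rfl

instance (M : Dual.D R) : (G₁ φ M).PreservesZeroMorphisms :=
  ⟨fun K K' => by
    rw [G₁_map, RHomMap_zero, Functor.map_zero]
    rfl⟩

instance (M : Dual.D R) : (G₂ φ M).PreservesZeroMorphisms :=
  ⟨fun K K' => by
    rw [G₂_map, Functor.map_zero, RHomMap_zero]
    rfl⟩

/-- the base change map as a natural transformation in the first variable -/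
noncomputable def bcNat (M : Dual.D R) : G₂ φ M ⟶ G₁ φ M where
  app K := (bcRHom φ K M).op
  naturality K₁ K₂ g := by
    apply Quiver.Hom.unop_inj
    exact (bcRHom_naturality φ g M).symm

theorem midExact_G₂ (M : Dual.D R) : MidExact (G₂ φ M) := by
  intro T hT W g hg
  have hT' := (LBase φ).map_distinguished _ hT
  have hR := rExactAt_of_distinguished ((LBase φ).obj M) _ hT'
  have hg' : RHomMap ((LBase φ).map T.mor₂) ((LBase φ).obj M) ≫ g.unop = 0 := by
    have := congrArg Quiver.Hom.unop hg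
    rw [G₂_map] at this
    exact this
  obtain ⟨y', hy'⟩ := hR W.unop g.unop hg'
  refine ⟨y'.op, ?_⟩
  rw [G₂_map]
  apply Quiver.Hom.unop_inj
  exact hy'

theorem midExact_G₁ (M : Dual.D R) : MidExact (G₁ φ M) := by
  intro T hT W g hg
  have hR := rExactAt_of_distinguished M T hT
  have hg' : (LBase φ).map (RHomMap T.mor₂ M) ≫ g.unop = 0 := by
    have := congrArg Quiver.Hom.unop hg
    rw [G₁_map] at this
    exact this
  obtain ⟨y', hy'⟩ := transfer (LBase φ) (RHomMap T.mor₂ M) (RHomMap T.mor₁ M) hR W.unop g.unop hg'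
  refine ⟨y'.op, ?_⟩
  rw [G₁_map]
  apply Quiver.Hom.unop_inj
  exact hy'

end Main

end Groth.Agent.Helper9.RBC5
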