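import Mathlib
import Groth.Prelude.Def_DTen5
import Groth.Agent.Helper6.TenCompute

set_option autoImplicit false
set_option linter.unusedSectionVars false

/-!
# Tensoring with an invertible K-flat complex is an equivalence of `D(A)`
-/

universe u
open CategoryTheory CategoryTheory.Limits MonoidalCategory DerivedCategory
attribute [local instance] HasDerivedCategory.standard
open DTen

namespace Groth.Agent.Helper9.RBC6

open Groth.Agent.Helper6 Groth.Agent.Helper6.TenCx

variable {A : Type u} [CommRing A] [HasLTen A]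

/-- for K-flat `E`: `Q ⋙ (- ⊗^L QE) ≅ (- ⊗ E) ⋙ Q` -/
noncomputable def κ (E : DRing.Cx A) (hE : KFlat E) :
    (Q : DRing.Cx A ⥤ Dual.D A) ⋙ tensorRightD A (Q.obj E) ≅ tensorRight E ⋙ Q :=
  NatIso.ofComponents (fun X =>
    haveI : IsIso ((ε A).app (X, E)) := TenCompute.isIso_ε_of_kflat A X E (Or.inr hE)
    asIso ((ε A).app (X, E))) (fun f => (εRight A E).naturality f)

/-- the composite of two such functors -/
noncomputable def κ₂ (E E' : DRing.Cx A) (hE : KFlat E) (hE' : KFlat E') :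
    (Q : DRing.Cx A ⥤ Dual.D A) ⋙ (tensorRightD A (Q.obj E) ⋙ tensorRightD A (Q.obj E')) ≅
      tensorRight (E ⊗ E') ⋙ Q :=
  (Functor.associator _ _ _).symm ≪≫
    Functor.isoWhiskerRight (κ E hE) (tensorRightD A (Q.obj E')) ≪≫
    Functor.associator _ _ _ ≪≫
    Functor.isoWhiskerLeft (tensorRight E) (κ E' hE') ≪≫
    (Functor.associator _ _ _).symm ≪≫
    Functor.isoWhiskerRight (tensorRightTensor E E').symm Q

/-- if `E ⊗ E' ≅ 𝟙`, the composite is the identity -/
noncomputable def compIso (E E' : DRing.Cx A) (hE : KFlat E) (hE' : KFlat E')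
    (e : E ⊗ E' ≅ 𝟙_ (DRing.Cx A)) :
    tensorRightD A (Q.obj E) ⋙ tensorRightD A (Q.obj E') ≅ 𝟭 (Dual.D A) :=
  Localization.liftNatIso (Q : DRing.Cx A ⥤ Dual.D A)
    (HomologicalComplex.quasiIso (ModuleCat.{u} A) (ComplexShape.up ℤ))
    (Q ⋙ (tensorRightD A (Q.obj E) ⋙ tensorRightD A (Q.obj E'))) (Q ⋙ 𝟭 (Dual.D A)) _ _
    (κ₂ E E' hE hE' ≪≫
      Functor.isoWhiskerRight ((tensoringRight (DRing.Cx A)).mapIso e ≪≫
        rightUnitorNatIso (DRing.Cx A)) Q ≪≫
      Functor.leftUnitor _ ≪≫ (Functor.rightUnitor _).symm)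

/-- tensoring with an invertible K-flat complex is an equivalence -/
theorem isEquivalence (E E' : DRing.Cx A) (hE : KFlat E) (hE' : KFlat E')
    (e : E ⊗ E' ≅ 𝟙_ (DRing.Cx A)) (e' : E' ⊗ E ≅ 𝟙_ (DRing.Cx A)) :
    (tensorRightD A (Q.obj E)).IsEquivalence :=
  (CategoryTheory.Equivalence.mk (tensorRightD A (Q.obj E)) (tensorRightD A (Q.obj E'))
    (compIso E E' hE hE' e).symm (compIso E' E hE' hE e')).isEquivalence_functor

end Groth.Agent.Helper9.RBC6
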