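import Mathlib
import Groth.Prelude.Def_DTen5
import Groth.Agent.Helper9.RBC5
import Groth.Agent.Helper9.RBC6
import Groth.Agent.Helper6.DTenX4
import Groth.Agent.Helper6.HomTenC

set_option autoImplicit false
set_option linter.unusedSectionVars false

/-!
# The base change map for derived hom is an isomorphism when the first variable is perfect
-/

universe u
open CategoryTheory CategoryTheory.Limits MonoidalCategory DerivedCategory Pretriangulated
attribute [local instance] HasDerivedCategory.standard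
open DTen

namespace Groth.Agent.Helper9.RBC7

open Groth.Agent.Helper6 Groth.Agent.Helper6.TenCx Groth.Agent.Helper9.RBC1
  Groth.Agent.Helper9.RBC2 Groth.Agent.Helper9.RBC3 Groth.Agent.Helper9.RBC4
  Groth.Agent.Helper9.RBC5 Groth.Agent.Helper6.DTenX

variable {R R' : Type u} [CommRing R] [CommRing R'] (φ : R →+* R')

section Complexes

/-- extension of scalars of the unit complex -/
noncomputable def extU : (extCx φ).obj (𝟙_ (DRing.Cx R)) ≅ 𝟙_ (DRing.Cx R') :=
  (HomologicalComplex.singleMapHomologicalComplex (ModuleCat.extendScalars.{u, u, u} φ)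
    (ComplexShape.up ℤ) 0).app (𝟙_ (ModuleCat.{u} R)) ≪≫
    (HomologicalComplex.single (ModuleCat.{u} R') (ComplexShape.up ℤ) 0).mapIso
      (Functor.Monoidal.εIso (ModuleCat.extendScalars.{u, u, u} φ)).symm

/-- invertibility is preserved by extension of scalars -/
noncomputable def extInv {E E' : DRing.Cx R} (e : E ⊗ E' ≅ 𝟙_ (DRing.Cx R)) :
    (extCx φ).obj E ⊗ (extCx φ).obj E' ≅ 𝟙_ (DRing.Cx R') :=
  (asIso (σ φ E E')).symm ≪≫ (extCx φ).mapIso e ≪≫ extU φ

/-- `A[a] ⊗ A[b] ≅ A` when `b + a = 0` -/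
noncomputable def shiftInv (A : Type u) [CommRing A] (a b : ℤ) (h : b + a = 0) :
    (U A)⟦a⟧ ⊗ (U A)⟦b⟧ ≅ 𝟙_ (DRing.Cx A) :=
  (CochainComplex.mapBifunctorShift₁Iso (U A) ((U A)⟦b⟧)
      (curriedTensor (ModuleCat.{u} A)) a : (U A)⟦a⟧ ⊗ (U A)⟦b⟧ ≅ ((U A) ⊗ (U A)⟦b⟧)⟦a⟧) ≪≫
    (shiftFunctor (DRing.Cx A) a).mapIso (λ_ ((U A)⟦b⟧)) ≪≫
    (shiftFunctorCompIsoId (DRing.Cx A) b a h).app (U A)

end Complexes

section Main

variable [HasLTen R] [HasLTen R'] [HasLBase φ] [HasResTen φ] [ResLegIso φ] [HasRHom R]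
  [HasRHom R']

/-- formal criterion -/
theorem isIso_bcRHom_of_isEquivalence (K M : Dual.D R) [(tensorRightD R K).IsEquivalence]
    [(tensorRightD R' ((LBase φ).obj K)).IsEquivalence] : IsIso (bcRHom φ K M) := by
  have h1 : IsIso (rhomAdj R K).counit := inferInstance
  have h2 : IsIso (ev K M) := inferInstanceAs (IsIso ((rhomAdj R K).counit.app M))
  have h3 : IsIso (rhomAdj R' ((LBase φ).obj K)).counit := inferInstance
  have h4 : IsIso (ev ((LBase φ).obj K) ((LBase φ).obj M)) :=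
    inferInstanceAs (IsIso ((rhomAdj R' ((LBase φ).obj K)).counit.app ((LBase φ).obj M)))
  have hs := star φ K M
  have h5 : (tensorRightD R' ((LBase φ).obj K)).map (bcRHom φ K M) =
      inv (μ φ ((RHomR R K).obj M) K) ≫ (LBase φ).map (ev K M) ≫
        inv (ev ((LBase φ).obj K) ((LBase φ).obj M)) := by
    rw [← hs, Category.assoc, Category.assoc, IsIso.hom_inv_id, Category.comp_id,
      IsIso.inv_hom_id_assoc]
  have h6 : IsIso ((tensorRightD R' ((LBase φ).obj K)).map (bcRHom φ K M)) := by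
    rw [h5]; infer_instance
  exact isIso_of_reflects_iso _ (tensorRightD R' ((LBase φ).obj K))

theorem isIso_bcRHom_Q_of_invertible (E E' : DRing.Cx R) (hE : KFlat E) (hE' : KFlat E')
    (e : E ⊗ E' ≅ 𝟙_ (DRing.Cx R)) (e' : E' ⊗ E ≅ 𝟙_ (DRing.Cx R)) (M : Dual.D R) :
    IsIso (bcRHom φ (Q.obj E) M) := by
  have h1 : (tensorRightD R (Q.obj E)).IsEquivalence := RBC6.isEquivalence E E' hE hE' e e'
  have h2 : (tensorRightD R' (Q.obj ((extCx φ).obj E))).IsEquivalence :=
    RBC6.isEquivalence ((extCx φ).obj E) ((extCx φ).obj E') (ExtKFlat.kflat_ext φ hE)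
      (ExtKFlat.kflat_ext φ hE') (extInv φ e) (extInv φ e')
  have h3 : IsIso ((baseCmp φ).app E) := LBaseCmp.isIso_baseCmp_of_kflat φ E hE
  have i : tensorRightD R' (Q.obj ((extCx φ).obj E)) ≅
      tensorRightD R' ((LBase φ).obj (Q.obj E)) :=
    ((LTen R').flip.mapIso (asIso ((baseCmp φ).app E))).symm
  have h4 : (tensorRightD R' ((LBase φ).obj (Q.obj E))).IsEquivalence :=
    Functor.isEquivalence_of_iso i
  exact isIso_bcRHom_of_isEquivalence φ (Q.obj E) M

/-- the property used in the dévissage -/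
def PBC (M : Dual.D R) (K : Dual.D R) : Prop := ∀ n : ℤ, IsIso ((bcNat φ M).app (K⟦n⟧))

variable {φ}

lemma PBC.of_iso {M K K' : Dual.D R} (e : K ≅ K') (h : PBC φ M K) : PBC φ M K' := fun n =>
  (NatTrans.isIso_app_iff_of_iso (bcNat φ M) ((shiftFunctor (Dual.D R) n).mapIso e)).mp (h n)

lemma PBC.of_isZero {M K : Dual.D R} (h : IsZero K) : PBC φ M K := fun n =>
  isIso_app_of_isZero (bcNat φ M) ((shiftFunctor (Dual.D R) n).map_isZero h)

lemma PBC.shift {M K : Dual.D R} (h : PBC φ M K) (m : ℤ) : PBC φ M (K⟦m⟧) := fun n =>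
  (NatTrans.isIso_app_iff_of_iso (bcNat φ M)
    ((shiftFunctorAdd' (Dual.D R) m n (m + n) rfl).app K)).mp (h (m + n))

lemma PBC.retract {M K Z : Dual.D R} (i : K ⟶ Z) (r : Z ⟶ K) (hir : i ≫ r = 𝟙 K)
    (h : PBC φ M Z) : PBC φ M K := fun n =>
  isIso_app_of_retract (bcNat φ M) (i⟦n⟧') (r⟦n⟧')
    (by rw [← Functor.map_comp, hir, CategoryTheory.Functor.map_id]) (h n)

lemma PBC.ext {M : Dual.D R} (T : Triangle (Dual.D R)) (hT : T ∈ distTriang _)
    (h1 : PBC φ M T.obj₁) (h3 : PBC φ M T.obj₃) : PBC φ M T.obj₂ := fun n => by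
  have hT' := Triangle.shift_distinguished T hT n
  exact isIso_app_obj₂ (bcNat φ M) (midExact_G₂ φ M) (midExact_G₁ φ M) _ hT' (h1 n) (h3 n)
    ((h1.shift n) 1) ((h3.shift n) (-1))

lemma PBC.unit (M : Dual.D R) : PBC φ M (DTen.unit R) := fun n => by
  have hE : KFlat ((U R)⟦n⟧) := HomTen.kflat_of_isKProjective _
  have hE' : KFlat ((U R)⟦-n⟧) := HomTen.kflat_of_isKProjective _
  have h := isIso_bcRHom_Q_of_invertible φ ((U R)⟦n⟧) ((U R)⟦-n⟧) hE hE'
    (shiftInv R n (-n) (by omega)) (shiftInv R (-n) n (by omega)) M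
  have h' : IsIso ((bcNat φ M).app (Q.obj ((U R)⟦n⟧))) :=
    inferInstanceAs (IsIso (bcRHom φ (Q.obj ((U R)⟦n⟧)) M).op)
  exact (NatTrans.isIso_app_iff_of_iso (bcNat φ M) ((Q.commShiftIso n).app (U R))).mp h'

variable (φ)

theorem isIso_bcRHom_of_isPerfect (K M : Dual.D R) (hK : DRing.IsPerfect R K) :
    IsIso (bcRHom φ K M) := by
  have h : PBC φ M K := perfect_induction (PBC φ M) (fun e h => h.of_iso e)
    (fun K hK => PBC.of_isZero hK) PBC.ext (fun K n h => h.shift n)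
    (fun K Z i r hir h => h.retract i r hir) (PBC.unit M) hK
  have h0 := (NatTrans.isIso_app_iff_of_iso (bcNat φ M)
    ((shiftFunctorZero (Dual.D R) ℤ).app K)).mp (h 0)
  have h1 : IsIso (bcRHom φ K M).op := h0
  exact (isIso_op_iff _).mp h1

end Main

end Groth.Agent.Helper9.RBC7
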