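import Mathlib
import Groth.Prelude.Def_DTen5
import Groth.Agent.Helper9.LCB3
import Groth.Agent.Helper6.DTenH1
import Groth.Agent.Helper6.LBCAdj
import Groth.Agent.Helper6.HasLBC
import Groth.Agent.Helper6.ExtKFlat
import Groth.Agent.Helper6.LBaseCmp

set_option autoImplicit false
set_option linter.unusedSectionVars false

/-!
# Amplitude estimates for `RHom` and for flat derived base change
-/

universe u
open CategoryTheory CategoryTheory.Limits MonoidalCategory DerivedCategory Pretriangulated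
attribute [local instance] HasDerivedCategory.standard
open DTen

namespace Groth.Agent.Helper9.RBC8

open Groth.Agent.Helper6 Groth.Agent.Helper6.TenCx Groth.Agent.Helper6.DTenG
  Groth.Agent.Helper6.DTenH Groth.Agent.Helper6.HomTen

section Amp

variable {A : Type u} [CommRing A]

instance isLE_T (i : ℤ) : DerivedCategory.IsLE (T A i) i :=
  inferInstanceAs (DerivedCategory.IsLE (Q.obj (Sg A i)) i)

lemma hom_T_eq_zero_of_isGE (X : Dual.D A) (m i : ℤ) (hX : DerivedCategory.IsGE X m)
    (hi : i < m) (g : T A i ⟶ X) : g = 0 :=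
  TStructure.t.zero g i m hi

variable [HasLTen A] [HasRHom A]

/-- `RHom(QC, Y) ∈ D^{≥ n - c}` for `C` K-flat vanishing above `c` and `Y ∈ D^{≥ n}` -/
lemma isGE_RHom (C : DRing.Cx A) (c : ℤ) (hC : ∀ j, c < j → IsZero (C.X j)) (hCf : KFlat C)
    (Y : Dual.D A) (n : ℤ) (hY : DerivedCategory.IsGE Y n) :
    DerivedCategory.IsGE ((RHomR A (Q.obj C)).obj Y) (n - c) := by
  apply isGE_of_hom_T_eq_zero
  intro t ht g
  have hle : DerivedCategory.IsLE ((LTen₂ A).obj (T A t, Q.obj C)) (t + c) := by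
    apply isLE_of_hom_T_eq_zero
    intro i hi g'
    exact hom_T_LTen_eq_zero (T A t) t inferInstance C c hC hCf i hi g'
  have h0 : (rhomHomEquiv (T A t) (Q.obj C) Y).symm g = 0 :=
    TStructure.t.zero _ (t + c) n (by omega)
  calc g = rhomHomEquiv (T A t) (Q.obj C) Y ((rhomHomEquiv (T A t) (Q.obj C) Y).symm g) :=
        (Equiv.apply_symm_apply _ _).symm
    _ = rhomHomEquiv (T A t) (Q.obj C) Y 0 := by rw [h0]
    _ = 0 := by rw [Adjunction.homEquiv_unit, Functor.map_zero, comp_zero]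

/-- the same after replacing the first variable by an isomorphic object -/
lemma isGE_RHom_of_iso (X : Dual.D A) (C : DRing.Cx A) (e : X ≅ Q.obj C) (c : ℤ)
    (hC : ∀ j, c < j → IsZero (C.X j)) (hCf : KFlat C)
    (Y : Dual.D A) (n : ℤ) (hY : DerivedCategory.IsGE Y n) :
    DerivedCategory.IsGE ((RHomR A X).obj Y) (n - c) := by
  have h := isGE_RHom C c hC hCf Y n hY
  have i : (RHomR A (Q.obj C)).obj Y ≅ (RHomR A X).obj Y := asIso (RHomMap e.hom Y)
  exact TStructure.t.isGE_of_iso i (n - c)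

end Amp

section Flat

variable {R R' : Type u} [CommRing R] [CommRing R'] (φ : R →+* R') [HasLBase φ]

/-- derived base change along a flat map is extension of scalars -/
noncomputable def lbaseIsoExtD [PreservesFiniteLimits (LCB2.ext φ)]
    [PreservesFiniteColimits (LCB2.ext φ)] : LBase φ ≅ LCB2.extD φ :=
  haveI := HasLBC.hasLBaseChange φ
  (baseAdj φ).leftAdjointUniq (LBCAdj.adj φ) ≪≫ LCB3.lbcIsoExtD φ

lemma isGE_LBase (hφ : φ.Flat) (Y : Dual.D R) (n : ℤ) (hY : DerivedCategory.IsGE Y n) :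
    DerivedCategory.IsGE ((LBase φ).obj Y) n := by
  have := LCB3.preservesFiniteLimits_ext φ hφ
  have := LCB3.preservesFiniteColimits_ext φ
  have h1 : DerivedCategory.IsGE ((LCB2.extD φ).obj Y) n := by
    rw [DerivedCategory.isGE_iff]
    intro i hi
    obtain ⟨e⟩ := LCB2.nonempty_hd_map (LCB2.ext φ) Y i
    have hz : IsZero ((DerivedCategory.homologyFunctor (ModuleCat.{u} R) i).obj Y) :=
      (DerivedCategory.isGE_iff Y n).mp hY i hi
    exact IsZero.of_iso ((LCB2.ext φ).map_isZero hz) e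
  exact TStructure.t.isGE_of_iso ((lbaseIsoExtD φ).app Y).symm n

/-- `LBase (QC) ≅ Q(ext C)` for K-flat `C` -/
noncomputable def lbaseQIso (C : DRing.Cx R) (hC : KFlat C) :
    (LBase φ).obj (Q.obj C) ≅ Q.obj ((extCx φ).obj C) :=
  haveI := LBaseCmp.isIso_baseCmp_of_kflat φ C hC
  asIso ((baseCmp φ).app C)

lemma isZero_extCx_X (C : DRing.Cx R) (c : ℤ) (hC : ∀ j, c < j → IsZero (C.X j)) (j : ℤ)
    (hj : c < j) : IsZero (((extCx φ).obj C).X j) :=
  (ModuleCat.extendScalars.{u, u, u} φ).map_isZero (hC j hj)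

end Flat

end Groth.Agent.Helper9.RBC8
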