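import Mathlib
import Groth.Prelude.Def_DTen5
import Groth.Agent.Helper9.RBC7
import Groth.Agent.Helper9.RBC8
import Groth.Agent.Helper9.KFlat11

set_option autoImplicit false
set_option linter.unusedSectionVars false

/-!
# The base change map for derived hom: flat base change, pseudo-coherent source, bounded below
target
-/

universe u
open CategoryTheory CategoryTheory.Limits MonoidalCategory DerivedCategory Pretriangulated
attribute [local instance] HasDerivedCategory.standard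
open DTen

namespace Groth.Agent.Helper9.RBC9

open Groth.Agent.Helper6 Groth.Agent.Helper6.TenCx Groth.Agent.Helper6.DTenG
  Groth.Agent.Helper6.DTenH Groth.Agent.Helper6.HomTen Groth.Agent.Helper9.RBC4
  Groth.Agent.Helper9.RBC5 Groth.Agent.Helper9.RBC7 Groth.Agent.Helper9.RBC8

/-- four-term five lemma, tested against `W` -/
lemma four {E'' : Type*} [Category E''] [Preadditive E''] {F₁ F₂ F₃ F₀ G₁ G₂ G₃ : E''}
    (f₃₂ : F₃ ⟶ F₂) (f₂₁ : F₂ ⟶ F₁) (f₁₀ : F₁ ⟶ F₀) (g₃₂ : G₃ ⟶ G₂) (g₂₁ : G₂ ⟶ G₁)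
    (η₁ : F₁ ⟶ G₁) (η₂ : F₂ ⟶ G₂) [IsIso η₁] (c21 : f₂₁ ≫ η₁ = η₂ ≫ g₂₁) (W : E'')
    (exF2 : ∀ x : W ⟶ F₂, x ≫ f₂₁ = 0 → ∃ x' : W ⟶ F₃, x' ≫ f₃₂ = x)
    (exF1 : ∀ x : W ⟶ F₁, x ≫ f₁₀ = 0 → ∃ x' : W ⟶ F₂, x' ≫ f₂₁ = x)
    (exG2 : ∀ x : W ⟶ G₂, x ≫ g₂₁ = 0 → ∃ x' : W ⟶ G₃, x' ≫ g₃₂ = x)
    (zF3 : ∀ x : W ⟶ F₃, x = 0) (zG3 : ∀ x : W ⟶ G₃, x = 0) (zF0 : ∀ x : W ⟶ F₀, x = 0) :
    Function.Bijective (fun a : W ⟶ F₂ => a ≫ η₂) := by
  constructor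
  · intro a₁ a₂ h12
    dsimp at h12
    have key : ∀ a : W ⟶ F₂, a ≫ η₂ = 0 → a = 0 := by
      intro a ha
      have h1 : a ≫ f₂₁ = 0 := by
        rw [← cancel_mono η₁, Category.assoc, c21, reassoc_of% ha, zero_comp, zero_comp]
      obtain ⟨x', hx'⟩ := exF2 a h1
      rw [← hx', zF3 x', zero_comp]
    exact sub_eq_zero.mp (key (a₁ - a₂) (by rw [Preadditive.sub_comp, h12, sub_self]))
  · intro a'
    obtain ⟨a, ha⟩ := exF1 (a' ≫ g₂₁ ≫ inv η₁) (zF0 _)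
    have h2 : (a ≫ η₂ - a') ≫ g₂₁ = 0 := by
      rw [Preadditive.sub_comp, Category.assoc, ← c21, reassoc_of% ha, IsIso.inv_hom_id,
        Category.comp_id, sub_self]
    obtain ⟨x', hx'⟩ := exG2 _ h2
    refine ⟨a, ?_⟩
    dsimp
    rw [zG3 x', zero_comp] at hx'
    exact (sub_eq_zero.mp hx'.symm)

/-- co-Yoneda mid-exactness implies Yoneda mid-exactness -/
lemma yoneda_of_coyoneda {D : Type*} [Category D] [HasZeroObject D] [HasShift D ℤ]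
    [Preadditive D] [∀ n : ℤ, (shiftFunctor D n).Additive] [Pretriangulated D]
    {A B C : D} (u : A ⟶ B) (v : B ⟶ C)
    (h : ∀ (N : D) (y : B ⟶ N), u ≫ y = 0 → ∃ y' : C ⟶ N, v ≫ y' = y)
    (W : D) (x : W ⟶ B) (hx : x ≫ v = 0) : ∃ x' : W ⟶ A, x' ≫ u = x := by
  obtain ⟨C', c, w, hT⟩ := Pretriangulated.distinguished_cocone_triangle u
  have huc : u ≫ c = 0 := comp_distTriang_mor_zero₁₂ _ hT
  obtain ⟨c', hc'⟩ := h C' c huc
  have hxc : x ≫ c = 0 := by rw [← hc', reassoc_of% hx, zero_comp]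
  obtain ⟨x', hx'⟩ : ∃ x' : W ⟶ A, x = x' ≫ u := Triangle.coyoneda_exact₂ _ hT x hxc
  exact ⟨x', hx'.symm⟩

variable {R R' : Type u} [CommRing R] [CommRing R'] (φ : R →+* R')
  [HasLTen R] [HasLTen R'] [HasLBase φ] [HasResTen φ] [ResLegIso φ] [HasRHom R] [HasRHom R']

/-- co-Yoneda exactness of `K ↦ LBase RHom(K, M)` -/
lemma coex₁ (M : Dual.D R) (T : Triangle (Dual.D R)) (hT : T ∈ distTriang _)
    (N : Dual.D R') (y : (LBase φ).obj ((RHomR R T.obj₂).obj M) ⟶ N)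
    (hy : (LBase φ).map (RHomMap T.mor₂ M) ≫ y = 0) :
    ∃ y' : (LBase φ).obj ((RHomR R T.obj₁).obj M) ⟶ N,
      (LBase φ).map (RHomMap T.mor₁ M) ≫ y' = y :=
  transfer (LBase φ) (RHomMap T.mor₂ M) (RHomMap T.mor₁ M)
    (rExactAt_of_distinguished M T hT) N y hy

/-- co-Yoneda exactness of `K ↦ RHom'(LBase K, M')` -/
lemma coex₂ (M' : Dual.D R') (T : Triangle (Dual.D R)) (hT : T ∈ distTriang _)
    (N : Dual.D R') (y : (RHomR R' ((LBase φ).obj T.obj₂)).obj M' ⟶ N)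
    (hy : RHomMap ((LBase φ).map T.mor₂) M' ≫ y = 0) :
    ∃ y' : (RHomR R' ((LBase φ).obj T.obj₁)).obj M' ⟶ N,
      RHomMap ((LBase φ).map T.mor₁) M' ≫ y' = y :=
  rExactAt_of_distinguished M' _ ((LBase φ).map_distinguished _ hT) N y hy

/-- vanishing of maps from the generators into `LBase RHom(X, M)` -/
lemma zero_F (hφ : φ.Flat) (M : Dual.D R) (n : ℤ) (hM : DerivedCategory.IsGE M n)
    (X : Dual.D R) (C : DRing.Cx R) (e : X ≅ Q.obj C) (c : ℤ)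
    (hC : ∀ j, c < j → IsZero (C.X j)) (hCf : KFlat C) (i : ℤ) (hi : i < n - c)
    (x : T R' i ⟶ (LBase φ).obj ((RHomR R X).obj M)) : x = 0 := by
  have h1 := isGE_RHom_of_iso X C e c hC hCf M n hM
  have h2 := isGE_LBase φ hφ _ (n - c) h1
  exact hom_T_eq_zero_of_isGE _ (n - c) i h2 hi x

/-- vanishing of maps from the generators into `RHom'(LBase X, LBase M)` -/
lemma zero_G (hφ : φ.Flat) (M : Dual.D R) (n : ℤ) (hM : DerivedCategory.IsGE M n)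
    (X : Dual.D R) (C : DRing.Cx R) (e : X ≅ Q.obj C) (c : ℤ)
    (hC : ∀ j, c < j → IsZero (C.X j)) (hCf : KFlat C) (i : ℤ) (hi : i < n - c)
    (x : T R' i ⟶ (RHomR R' ((LBase φ).obj X)).obj ((LBase φ).obj M)) : x = 0 := by
  have h1 := isGE_LBase φ hφ M n hM
  have e' : (LBase φ).obj X ≅ Q.obj ((extCx φ).obj C) :=
    (LBase φ).mapIso e ≪≫ lbaseQIso φ C hCf
  have h2 := isGE_RHom_of_iso ((LBase φ).obj X) ((extCx φ).obj C) e' c
    (isZero_extCx_X φ C c hC) (ExtKFlat.kflat_ext φ hCf) _ n h1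
  exact hom_T_eq_zero_of_isGE _ (n - c) i h2 hi x

theorem isIso_bcRHom_of_flat (hφ : φ.Flat) (K M : Dual.D R)
    (hK : DRing.IsPseudoCoherent' R K) (n : ℤ) (hM : DerivedCategory.IsGE M n) :
    IsIso (bcRHom φ K M) := by
  obtain ⟨E, b, hb, hf, ⟨eK⟩⟩ := hK
  suffices h : IsIso (bcRHom φ (Q.obj E) M) by
    have h1 : IsIso ((bcNat φ M).app (Q.obj E)) := inferInstanceAs (IsIso (bcRHom φ (Q.obj E) M).op)
    have h2 : IsIso (bcRHom φ K M).op :=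
      (NatTrans.isIso_app_iff_of_iso (bcNat φ M) eK).mp h1
    exact (isIso_op_iff _).mp h2
  apply isIso_of_bijective
  intro i
  obtain ⟨c, hc⟩ : ∃ c : ℤ, i < n - c - 1 := ⟨n - i - 2, by omega⟩
  have hS := KFlat11.shortExact E c
  have hTr := triangleOfSES_distinguished hS
  have hTi := inv_rot_of_distTriang _ hTr
  have h1 : IsIso (bcRHom φ (Q.obj (KFlat11.kerLE E c)) M) :=
    isIso_bcRHom_of_isPerfect φ _ M (isPerfect_kerLE E b hb hf c)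
  have hP := isKProjective_sigLE E hf c
  have hCf : KFlat (KFlat11.sigLE E c) := kflat_of_isKProjective _
  have hCf' : KFlat ((KFlat11.sigLE E c)⟦(-1 : ℤ)⟧) := kflat_of_isKProjective _
  have hC : ∀ j, c < j → IsZero ((KFlat11.sigLE E c).X j) :=
    fun j hj => KFlat11.isZero_sigLE_X E c j hj
  have hC' : ∀ j, c + 1 < j → IsZero (((KFlat11.sigLE E c)⟦(-1 : ℤ)⟧).X j) :=
    fun j hj => KFlat11.isZero_sigLE_X E c (j + -1) (by omega)
  exact four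
    (F₁ := (LBase φ).obj ((RHomR R (Q.obj (KFlat11.kerLE E c))).obj M))
    (F₂ := (LBase φ).obj ((RHomR R (Q.obj E)).obj M))
    (F₃ := (LBase φ).obj ((RHomR R (Q.obj (KFlat11.sigLE E c))).obj M))
    (F₀ := (LBase φ).obj ((RHomR R ((Q.obj (KFlat11.sigLE E c))⟦(-1 : ℤ)⟧)).obj M))
    (G₁ := (RHomR R' ((LBase φ).obj (Q.obj (KFlat11.kerLE E c)))).obj ((LBase φ).obj M))
    (G₂ := (RHomR R' ((LBase φ).obj (Q.obj E))).obj ((LBase φ).obj M))
    (G₃ := (RHomR R' ((LBase φ).obj (Q.obj (KFlat11.sigLE E c)))).obj ((LBase φ).obj M))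
    ((LBase φ).map (RHomMap (triangleOfSES hS).mor₂ M))
    ((LBase φ).map (RHomMap (triangleOfSES hS).mor₁ M))
    ((LBase φ).map (RHomMap (triangleOfSES hS).invRotate.mor₁ M))
    (RHomMap ((LBase φ).map (triangleOfSES hS).mor₂) ((LBase φ).obj M))
    (RHomMap ((LBase φ).map (triangleOfSES hS).mor₁) ((LBase φ).obj M))
    (bcRHom φ (Q.obj (KFlat11.kerLE E c)) M) (bcRHom φ (Q.obj E) M)
    (bcRHom_naturality φ (triangleOfSES hS).mor₁ M) (T R' i)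
    (fun x hx => yoneda_of_coyoneda _ _ (coex₁ φ M _ hTr) _ x hx)
    (fun x hx => yoneda_of_coyoneda _ _ (coex₁ φ M _ hTi) _ x hx)
    (fun x hx => yoneda_of_coyoneda _ _ (coex₂ φ ((LBase φ).obj M) _ hTr) _ x hx)
    (fun x => zero_F φ hφ M n hM _ (KFlat11.sigLE E c) (Iso.refl _) c hC hCf i (by omega) x)
    (fun x => zero_G φ hφ M n hM _ (KFlat11.sigLE E c) (Iso.refl _) c hC hCf i (by omega) x)
    (fun x => zero_F φ hφ M n hM _ ((KFlat11.sigLE E c)⟦(-1 : ℤ)⟧)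
      ((Q.commShiftIso (-1 : ℤ)).app (KFlat11.sigLE E c)).symm (c + 1) hC' hCf' i (by omega) x)

end Groth.Agent.Helper9.RBC9
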