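import Mathlib
import Groth.Prelude.Def_DTen5
import Groth.Agent.Helper9.RBC9
import Groth.Agent.Helper9.RBC10

set_option autoImplicit false
set_option linter.unusedSectionVars false

/-!
# The base change map for derived hom: base change of finite tor dimension, pseudo-coherent
source, bounded below target
-/

universe u
open CategoryTheory CategoryTheory.Limits MonoidalCategory DerivedCategory Pretriangulated
attribute [local instance] HasDerivedCategory.standard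
open DTen

namespace Groth.Agent.Helper9.RBC11

open Groth.Agent.Helper6 Groth.Agent.Helper6.TenCx Groth.Agent.Helper6.DTenG
  Groth.Agent.Helper6.DTenH Groth.Agent.Helper6.HomTen Groth.Agent.Helper9.RBC4
  Groth.Agent.Helper9.RBC5 Groth.Agent.Helper9.RBC7 Groth.Agent.Helper9.RBC8
  Groth.Agent.Helper9.RBC9

variable {R R' : Type u} [CommRing R] [CommRing R'] (φ : R →+* R')
  [HasLTen R] [HasLTen R'] [HasLBase φ] [HasResTen φ] [ResLegIso φ] [HasRHom R] [HasRHom R']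

variable (d : ℤ) (hamp : ∀ (Y : Dual.D R) (n : ℤ), DerivedCategory.IsGE Y n →
  DerivedCategory.IsGE ((LBase φ).obj Y) (n - d))

include hamp

lemma zero_F (M : Dual.D R) (n : ℤ) (hM : DerivedCategory.IsGE M n)
    (X : Dual.D R) (C : DRing.Cx R) (e : X ≅ Q.obj C) (c : ℤ)
    (hC : ∀ j, c < j → IsZero (C.X j)) (hCf : KFlat C) (i : ℤ) (hi : i < n - c - d)
    (x : T R' i ⟶ (LBase φ).obj ((RHomR R X).obj M)) : x = 0 := by
  have h1 := isGE_RHom_of_iso X C e c hC hCf M n hM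
  have h2 := hamp _ (n - c) h1
  exact hom_T_eq_zero_of_isGE _ (n - c - d) i h2 hi x

lemma zero_G (M : Dual.D R) (n : ℤ) (hM : DerivedCategory.IsGE M n)
    (X : Dual.D R) (C : DRing.Cx R) (e : X ≅ Q.obj C) (c : ℤ)
    (hC : ∀ j, c < j → IsZero (C.X j)) (hCf : KFlat C) (i : ℤ) (hi : i < n - d - c)
    (x : T R' i ⟶ (RHomR R' ((LBase φ).obj X)).obj ((LBase φ).obj M)) : x = 0 := by
  have h1 := hamp M n hM
  have e' : (LBase φ).obj X ≅ Q.obj ((extCx φ).obj C) :=
    (LBase φ).mapIso e ≪≫ lbaseQIso φ C hCf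
  have h2 := isGE_RHom_of_iso ((LBase φ).obj X) ((extCx φ).obj C) e' c
    (isZero_extCx_X φ C c hC) (ExtKFlat.kflat_ext φ hCf) _ (n - d) h1
  exact hom_T_eq_zero_of_isGE _ (n - d - c) i h2 hi x

theorem isIso_bcRHom_of_amp (K M : Dual.D R)
    (hK : DRing.IsPseudoCoherent' R K) (n : ℤ) (hM : DerivedCategory.IsGE M n) :
    IsIso (bcRHom φ K M) := by
  obtain ⟨E, b, hb, hf, ⟨eK⟩⟩ := hK
  suffices h : IsIso (bcRHom φ (Q.obj E) M) by
    have h1 : IsIso ((bcNat φ M).app (Q.obj E)) :=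
      inferInstanceAs (IsIso (bcRHom φ (Q.obj E) M).op)
    have h2 : IsIso (bcRHom φ K M).op :=
      (NatTrans.isIso_app_iff_of_iso (bcNat φ M) eK).mp h1
    exact (isIso_op_iff _).mp h2
  apply isIso_of_bijective
  intro i
  obtain ⟨c, hc⟩ : ∃ c : ℤ, i < n - c - 1 - d := ⟨n - i - 2 - d, by omega⟩
  have hS := KFlat11.shortExact E c
  have hTr := triangleOfSES_distinguished hS
  have hTi := inv_rot_of_distTriang _ hTr
  have h1 : IsIso (bcRHom φ (Q.obj (KFlat11.kerLE E c)) M) :=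
    isIso_bcRHom_of_isPerfect φ _ M (isPerfect_kerLE E b hb hf c)
  have hP := isKProjective_sigLE E hf c
  have hCf : KFlat (KFlat11.sigLE E c) := kflat_of_isKProjective _
  have hCf' : KFlat ((KFlat11.sigLE E c)⟦(-1 : ℤ)⟧) := kflat_of_isKProjective _
  have hC : ∀ j, c < j → IsZero ((KFlat11.sigLE E c).X j) :=
    fun j hj => KFlat11.isZero_sigLE_X E c j hj
  have hC' : ∀ j, c + 1 < j → IsZero (((KFlat11.sigLE E c)⟦(-1 : ℤ)⟧).X j) :=
    fun j hj => KFlat11.isZero_sigLE_X E c (j + -1) (by omega)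
  exact four
    (F₁ := (LBase φ).obj ((RHomR R (Q.obj (KFlat11.kerLE E c))).obj M))
    (F₂ := (LBase φ).obj ((RHomR R (Q.obj E)).obj M))
    (F₃ := (LBase φ).obj ((RHomR R (Q.obj (KFlat11.sigLE E c))).obj M))
    (F₀ := (LBase φ).obj ((RHomR R ((Q.obj (KFlat11.sigLE E c))⟦(-1 : ℤ)⟧)).obj M))
    (G₁ := (RHomR R' ((LBase φ).obj (Q.obj (KFlat11.kerLE E c)))).obj ((LBase φ).obj M))
    (G₂ := (RHomR R' ((LBase φ).obj (Q.obj E))).obj ((LBase φ).obj M))
    (G₃ := (RHomR R' ((LBase φ).obj (Q.obj (KFlat11.sigLE E c)))).obj ((LBase φ).obj M))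
    ((LBase φ).map (RHomMap (triangleOfSES hS).mor₂ M))
    ((LBase φ).map (RHomMap (triangleOfSES hS).mor₁ M))
    ((LBase φ).map (RHomMap (triangleOfSES hS).invRotate.mor₁ M))
    (RHomMap ((LBase φ).map (triangleOfSES hS).mor₂) ((LBase φ).obj M))
    (RHomMap ((LBase φ).map (triangleOfSES hS).mor₁) ((LBase φ).obj M))
    (bcRHom φ (Q.obj (KFlat11.kerLE E c)) M) (bcRHom φ (Q.obj E) M)
    (bcRHom_naturality φ (triangleOfSES hS).mor₁ M) (T R' i)
    (fun x hx => yoneda_of_coyoneda _ _ (coex₁ φ M _ hTr) _ x hx)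
    (fun x hx => yoneda_of_coyoneda _ _ (coex₁ φ M _ hTi) _ x hx)
    (fun x hx => yoneda_of_coyoneda _ _ (coex₂ φ ((LBase φ).obj M) _ hTr) _ x hx)
    (fun x => zero_F φ d hamp M n hM _ (KFlat11.sigLE E c) (Iso.refl _) c hC hCf i
      (by omega) x)
    (fun x => zero_G φ d hamp M n hM _ (KFlat11.sigLE E c) (Iso.refl _) c hC hCf i
      (by omega) x)
    (fun x => zero_F φ d hamp M n hM _ ((KFlat11.sigLE E c)⟦(-1 : ℤ)⟧)
      ((Q.commShiftIso (-1 : ℤ)).app (KFlat11.sigLE E c)).symm (c + 1) hC' hCf' i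
      (by omega) x)

end Groth.Agent.Helper9.RBC11
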