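import Mathlib

set_option autoImplicit false
set_option linter.unusedSectionVars false

/-!
# Algebra for a quotient by an invertible ideal
-/

open scoped TensorProduct

universe u

namespace Groth.Agent.Helper9.RC1

variable {R A : Type u} [CommRing R] [CommRing A] [Algebra R A]

local notation "II" => RingHom.ker (algebraMap R A)

section basic

variable [Module.Invertible R (RingHom.ker (algebraMap R A))]

/-- the ideal is faithful -/
lemma eq_zero_of_mul (r : R) (h : ∀ x ∈ II, r * x = 0) : r = 0 := by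
  have : ∀ x : II, r • x = (0 : R) • x := fun x => by
    apply Subtype.ext
    rw [zero_smul]
    exact h x.1 x.2
  exact FaithfulSMul.eq_of_smul_eq_smul this

/-- `R → Hom(I, R)`, `r ↦ (x ↦ r x)` -/
noncomputable def ι : R →ₗ[R] (II →ₗ[R] R) :=
  LinearMap.toSpanSingleton R _ (Submodule.subtype II)

lemma ι_apply (r : R) (x : II) : ι (A := A) r x = r * x.1 := rfl

lemma ι_injective : Function.Injective (ι (R := R) (A := A)) := by
  rw [← LinearMap.ker_eq_bot, LinearMap.ker_eq_bot']
  intro r hr
  exact eq_zero_of_mul r (fun x hx => by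
    have := congrArg (fun f : II →ₗ[R] R => f ⟨x, hx⟩) hr
    exact this)

/-- `Hom(I, R) → Hom(I, A)` -/
noncomputable def q : (II →ₗ[R] R) →ₗ[R] (II →ₗ[R] A) :=
  LinearMap.compRight R (Algebra.linearMap R A)

lemma q_apply (v : II →ₗ[R] R) (x : II) : q v x = algebraMap R A (v x) := rfl

lemma q_surjective (hφ : Function.Surjective (algebraMap R A)) :
    Function.Surjective (q (R := R) (A := A)) := by
  intro w
  obtain ⟨v, hv⟩ := Module.projective_lifting_property (Algebra.linearMap R A) w hφ
  exact ⟨v, hv⟩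

lemma q_ι (r : R) : q (ι (A := A) r) = 0 := by
  ext x
  rw [q_apply, ι_apply, LinearMap.zero_apply]
  exact (RingHom.mem_ker).mp (Ideal.mul_mem_left _ r x.2)

lemma exists_of_q_eq_zero (v : II →ₗ[R] R) (hv : q (A := A) v = 0) : ∃ r : R, ι r = v := by
  have hmem : ∀ x : II, v x ∈ II := fun x => by
    rw [RingHom.mem_ker]
    exact congrArg (fun f : II →ₗ[R] A => f x) hv
  let v' : II →ₗ[R] II := v.codRestrict II hmem
  obtain ⟨r, hr⟩ := (Module.Invertible.toModuleEnd_bijective R II).surjective v'
  refine ⟨r, ?_⟩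
  ext x
  have := congrArg (fun f : Module.End R II => (f x).1) hr
  exact this

/-- elements of `Hom(I, R)` killed by `I` vanish -/
lemma dual_eq_zero (v : II →ₗ[R] R) (h : ∀ x ∈ II, x • v = 0) : v = 0 := by
  ext y
  rw [LinearMap.zero_apply]
  refine eq_zero_of_mul (A := A) (v y) (fun x hx => ?_)
  have := congrArg (fun f : II →ₗ[R] R => f y) (h x hx)
  change x * v y = 0 at this
  rw [mul_comm]
  exact this

/-- for `g : I → R`, `ι ∘ g` extends to `R` -/
lemma ι_comp (g : II →ₗ[R] R) :
    (ι (A := A)).comp g = (LinearMap.toSpanSingleton R _ g).comp (Submodule.subtype II) := by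
  ext x y
  change g x * y.1 = x.1 * g y
  have h1 : g (y.1 • x) = y.1 * g x := by rw [map_smul, smul_eq_mul]
  have h2 : g (x.1 • y) = x.1 * g y := by rw [map_smul, smul_eq_mul]
  have h3 : y.1 • x = x.1 • y := Subtype.ext (by
    change y.1 * x.1 = x.1 * y.1
    exact mul_comm _ _)
  rw [mul_comm, ← h1, h3, h2]

end basic

section inverse

variable (N : Type u) [AddCommGroup N] [Module A N]
  (e : (A ⊗[R] (RingHom.ker (algebraMap R A))) ⊗[A] N ≃ₗ[A] A)

/-- `N ≅ Hom_R(I, A)` -/
noncomputable def equivHom : N ≃ₗ[A] (II →ₗ[R] A) :=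
  Module.Invertible.linearEquivDual ((TensorProduct.comm A N _) ≪≫ₗ e) ≪≫ₗ
    (LinearMap.liftBaseChangeEquiv A).symm

end inverse

end Groth.Agent.Helper9.RC1
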