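import Mathlib
import Groth.Prelude.Def_DTen4
import Groth.Agent.Helper9.RC1

set_option autoImplicit false
set_option linter.style.haveILetI false
set_option linter.unusedSectionVars false

/-!
# The two short exact sequences attached to a quotient by an invertible ideal
-/

open CategoryTheory CategoryTheory.Limits DerivedCategory Pretriangulated

universe u

attribute [local instance] HasDerivedCategory.standard

namespace Groth.Agent.Helper9.RC2

open Groth.Agent.Helper9.RC1

variable (R A : Type u) [CommRing R] [CommRing A] [Algebra R A]

local notation "II" => RingHom.ker (algebraMap R A)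

noncomputable abbrev mI : ModuleCat.{u} R := ModuleCat.of R II
noncomputable abbrev mR : ModuleCat.{u} R := ModuleCat.of R R
noncomputable abbrev mD : ModuleCat.{u} R := ModuleCat.of R (II →ₗ[R] R)
noncomputable abbrev aA : ModuleCat.{u} A := ModuleCat.of A A
noncomputable abbrev aN : ModuleCat.{u} A := ModuleCat.of A (II →ₗ[R] A)
noncomputable abbrev rA : ModuleCat.{u} R := (ModuleCat.restrictScalars (algebraMap R A)).obj (aA A)
noncomputable abbrev rN : ModuleCat.{u} R :=
  (ModuleCat.restrictScalars (algebraMap R A)).obj (aN R A)

noncomputable def incl : mI R A ⟶ mR R := ModuleCat.ofHom (Submodule.subtype II)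

noncomputable def π : mR R ⟶ rA R A :=
  ModuleCat.ofHom (Y := rA R A)
    { toFun := fun r => (algebraMap R A r : A)
      map_add' := map_add _
      map_smul' := fun r s => by
        change algebraMap R A (r * s) = algebraMap R A r * algebraMap R A s
        exact map_mul _ _ _ }

noncomputable def ιm : mR R ⟶ mD R A := ModuleCat.ofHom (ι (R := R) (A := A))

noncomputable def qm : mD R A ⟶ rN R A :=
  ModuleCat.ofHom (Y := rN R A)
    { toFun := fun v => (q (A := A) v : II →ₗ[R] A)
      map_add' := map_add _
      map_smul' := fun r v => by
        change q (A := A) (r • v) = algebraMap R A r • q (A := A) v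
        ext x
        change algebraMap R A (r * v x) = algebraMap R A r * algebraMap R A (v x)
        exact map_mul _ _ _ }

noncomputable abbrev S1 : ShortComplex (ModuleCat.{u} R) :=
  ShortComplex.mk (incl R A) (π R A) (by
    apply ModuleCat.hom_ext
    apply LinearMap.ext
    intro x
    change algebraMap R A (x : II).1 = 0
    exact (RingHom.mem_ker).mp (x : II).2)

variable [Module.Invertible R (RingHom.ker (algebraMap R A))]

noncomputable abbrev S2 : ShortComplex (ModuleCat.{u} R) :=
  ShortComplex.mk (ιm R A) (qm R A) (by
    apply ModuleCat.hom_ext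
    apply LinearMap.ext
    intro r
    exact q_ι (A := A) r)

variable {R A}

lemma S1_shortExact (hφ : Function.Surjective (algebraMap R A)) : (S1 R A).ShortExact where
  exact := (ShortComplex.ShortExact.moduleCat_exact_iff_function_exact (S1 R A)).2 (by
    intro r
    constructor
    · intro hr
      have hr' : algebraMap R A (r : R) = 0 := hr
      exact ⟨(⟨r, (RingHom.mem_ker).mpr hr'⟩ : II), rfl⟩
    · rintro ⟨x, rfl⟩
      change algebraMap R A (x : II).1 = 0
      exact (RingHom.mem_ker).mp (x : II).2)
  mono_f := (ModuleCat.mono_iff_injective _).2 (Submodule.injective_subtype _)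
  epi_g := (ModuleCat.epi_iff_surjective _).2 hφ

lemma S2_shortExact (hφ : Function.Surjective (algebraMap R A)) : (S2 R A).ShortExact where
  exact := (ShortComplex.ShortExact.moduleCat_exact_iff_function_exact (S2 R A)).2 (by
    intro v
    constructor
    · intro hv
      have hv' : q (A := A) (v : II →ₗ[R] R) = 0 := hv
      obtain ⟨r, hr⟩ := exists_of_q_eq_zero (A := A) (v : II →ₗ[R] R) hv'
      exact ⟨(r : R), hr⟩
    · rintro ⟨r, rfl⟩
      exact q_ι (R := R) (A := A) r)
  mono_f := (ModuleCat.mono_iff_injective (ιm R A)).2 (ι_injective (R := R) (A := A))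
  epi_g := (ModuleCat.epi_iff_surjective (qm R A)).2 (q_surjective (R := R) (A := A) hφ)

end Groth.Agent.Helper9.RC2
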