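import Mathlib
import Groth.Prelude.Def_DTen4
import Groth.Agent.Helper9.RC2
import Groth.Agent.Helper6.DualSelf

set_option autoImplicit false
set_option linter.style.haveILetI false
set_option linter.unusedSectionVars false

/-!
# The key bijection `Hom_A(A, N) ≅ Ext^1_R(A, R)`
-/

open CategoryTheory CategoryTheory.Limits DerivedCategory Pretriangulated

universe u

attribute [local instance] HasDerivedCategory.standard

namespace Groth.Agent.Helper9.RC3

open Groth.Agent.Helper9.RC1 Groth.Agent.Helper9.RC2 Groth.Agent.Helper6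

variable {R A : Type u} [CommRing R] [CommRing A] [Algebra R A]
  [Module.Invertible R (RingHom.ker (algebraMap R A))]

local notation "II" => RingHom.ker (algebraMap R A)

/-- `Hom_R(A, Hom(I, R)) = 0` -/
lemma hom_rA_mD_eq_zero (k : rA R A ⟶ mD R A) : k = 0 := by
  apply ModuleCat.hom_ext
  apply LinearMap.ext
  intro a
  refine dual_eq_zero (A := A) (k.hom a) (fun x hx => ?_)
  have h1 : x • k.hom a = k.hom (x • a) := (map_smul k.hom x a).symm
  have h2 : (x • a : rA R A) = 0 := by
    change algebraMap R A x * (show A from a) = 0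
    rw [(RingHom.mem_ker).mp hx, zero_mul]
  rw [h1, h2, map_zero]

/-- `Hom_R(A, R) = 0` -/
lemma hom_rA_mR_eq_zero (k : rA R A ⟶ mR R) : k = 0 := by
  apply ModuleCat.hom_ext
  apply LinearMap.ext
  intro a
  refine eq_zero_of_mul (A := A) (k.hom a) (fun x hx => ?_)
  have h1 : x • k.hom a = k.hom (x • a) := (map_smul k.hom x a).symm
  have h2 : (x • a : rA R A) = 0 := by
    change algebraMap R A x * (show A from a) = 0
    rw [(RingHom.mem_ker).mp hx, zero_mul]
  have h3 : x • k.hom a = 0 := by rw [h1, h2, map_zero]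
  rw [mul_comm]
  exact h3

/-- `R`-linear maps between `A`-modules are `A`-linear -/
lemma exists_linear (hφ : Function.Surjective (algebraMap R A)) (k : rA R A ⟶ rN R A) :
    ∃ f : aA A ⟶ aN R A, (ModuleCat.restrictScalars (algebraMap R A)).map f = k := by
  refine ⟨ModuleCat.ofHom
    { toFun := fun a => k.hom a
      map_add' := fun a b => map_add k.hom a b
      map_smul' := fun c a => ?_ }, rfl⟩
  obtain ⟨r, rfl⟩ := hφ c
  exact LinearMap.map_smul k.hom r (show ↑(rA R A) from a)

/-- for `g : I → R`, `ι ∘ g` extends to `R` -/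
lemma exists_ext (g : mI R A ⟶ mR R) : ∃ h : mR R ⟶ mD R A, g ≫ ιm R A = incl R A ≫ h :=
  ⟨ModuleCat.ofHom (LinearMap.toSpanSingleton R _ g.hom), by
    apply ModuleCat.hom_ext
    exact ι_comp (A := A) g.hom⟩

variable (R) in
/-- the degree zero embedding -/
noncomputable abbrev SR : ModuleCat.{u} R ⥤ DerivedCategory (ModuleCat.{u} R) :=
  singleFunctor (ModuleCat.{u} R) 0

lemma subsingleton_ext1_R : Subsingleton ((SR R).obj (mR R) ⟶ ((SR R).obj (mR R))⟦(1 : ℤ)⟧) := by
  letI : HasExt.{u + 1} (ModuleCat.{u} R) := hasExt_of_hasDerivedCategory _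
  have h : Subsingleton (Abelian.Ext.{u + 1} (mR R) (mR R) (0 + 1)) :=
    Abelian.Ext.subsingleton_of_projective _ _ 0
  exact (DualSelf.subsingleton_iff R (mR R) (mR R) 1).mpr h

variable (hφ : Function.Surjective (algebraMap R A))

theorem key_inj (f : aA A ⟶ aN R A)
    (h : (SR R).map ((ModuleCat.restrictScalars (algebraMap R A)).map f) ≫
      (S2_shortExact hφ).singleδ = 0) : f = 0 := by
  obtain ⟨k, hk⟩ := Triangle.coyoneda_exact₃ _ (S2_shortExact hφ).singleTriangle_distinguished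
    ((SR R).map ((ModuleCat.restrictScalars (algebraMap R A)).map f)) h
  obtain ⟨k₀, rfl⟩ := (SR R).map_surjective k
  obtain rfl : k₀ = 0 := hom_rA_mD_eq_zero (A := A) k₀
  have hk' : (SR R).map ((ModuleCat.restrictScalars (algebraMap R A)).map f) = 0 := by
    refine hk.trans ?_
    erw [Functor.map_zero, zero_comp]
    rfl
  have h2 : (ModuleCat.restrictScalars (algebraMap R A)).map f = 0 :=
    (SR R).map_injective (hk'.trans ((SR R).map_zero _ _).symm)
  exact (ModuleCat.restrictScalars (algebraMap R A)).map_injective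
    (h2.trans (Functor.map_zero _ _ _).symm)

theorem key_surj (u : (SR R).obj (rA R A) ⟶ ((SR R).obj (mR R))⟦(1 : ℤ)⟧) :
    ∃ f : aA A ⟶ aN R A,
      u = (SR R).map ((ModuleCat.restrictScalars (algebraMap R A)).map f) ≫
        (S2_shortExact hφ).singleδ := by
  have hT1 := (S1_shortExact hφ).singleTriangle_distinguished
  have hT2 := (S2_shortExact hφ).singleTriangle_distinguished
  -- `u` factors through `δ₁`
  have h0 : (SR R).map (π R A) ≫ u = 0 := by
    haveI := subsingleton_ext1_R (R := R)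
    exact Subsingleton.elim _ _
  obtain ⟨k, hk⟩ := Triangle.yoneda_exact₃ _ hT1 u h0
  obtain ⟨k', rfl⟩ := (shiftFunctor (DerivedCategory (ModuleCat.{u} R)) (1 : ℤ)).map_surjective k
  obtain ⟨g, rfl⟩ := (SR R).map_surjective k'
  obtain ⟨h, hh⟩ := exists_ext g
  -- hence `u ≫ ι[1] = 0`
  have h1 : u ≫ ((SR R).map (ιm R A))⟦(1 : ℤ)⟧' = 0 := by
    have e1 : (S1_shortExact hφ).singleδ ≫ ((SR R).map (incl R A))⟦(1 : ℤ)⟧' = 0 :=
      comp_distTriang_mor_zero₃₁ _ hT1
    have e2 : ((SR R).map g)⟦(1 : ℤ)⟧' ≫ ((SR R).map (ιm R A))⟦(1 : ℤ)⟧' =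
        ((SR R).map (incl R A))⟦(1 : ℤ)⟧' ≫ ((SR R).map h)⟦(1 : ℤ)⟧' := by
      rw [← Functor.map_comp, ← Functor.map_comp, hh, Functor.map_comp, Functor.map_comp]
    have e3 : (S1_shortExact hφ).singleδ ≫
        (((SR R).map g)⟦(1 : ℤ)⟧' ≫ ((SR R).map (ιm R A))⟦(1 : ℤ)⟧') = 0 := by
      rw [e2, ← Category.assoc, e1, zero_comp]
    rw [hk]
    exact (Category.assoc _ _ _).trans e3
  obtain ⟨k₁, hk₁⟩ := Triangle.coyoneda_exact₁ _ hT2 u h1
  obtain ⟨k₀, rfl⟩ := (SR R).map_surjective k₁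
  obtain ⟨f, rfl⟩ := exists_linear hφ k₀
  exact ⟨f, hk₁⟩

end Groth.Agent.Helper9.RC3
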