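import Mathlib
import Groth.Prelude.Def_DTen4
import Groth.Agent.Helper9.RC3
import Groth.Agent.Helper6.DTenG2
import Groth.Agent.Helper6.DTenH1
import Groth.Agent.Helper3.DRingDev
import Groth.Agent.Helper3.DRingCone
import Groth.Agent.Helper6.PerfRes

set_option autoImplicit false
set_option linter.style.haveILetI false
set_option linter.unusedSectionVars false

/-!
# `RHom(A, R[1]) ≅ N` for `A = R/I`, `I` invertible
-/

open CategoryTheory CategoryTheory.Limits DerivedCategory Pretriangulated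

universe u

attribute [local instance] HasDerivedCategory.standard

namespace Groth.Agent.Helper9.RC4

open Groth.Agent.Helper9.RC1 Groth.Agent.Helper9.RC2 Groth.Agent.Helper9.RC3 Groth.Agent.Helper6
  Groth.Agent.Helper6.DTenG

section shift

variable {C : Type*} [Category C] [HasShift C ℤ]

/-- transfer of vanishing of morphisms along shifts -/
lemma subsingleton_hom_shift (X Y : C) (a b c : ℤ) (h : c + a = b)
    (hs : Subsingleton (X ⟶ Y⟦c⟧)) : Subsingleton (X⟦a⟧ ⟶ Y⟦b⟧) := by
  refine ⟨fun f f' => ?_⟩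
  let e := (shiftFunctorAdd' C c a b h).app Y
  have h1 : ∀ g : X⟦a⟧ ⟶ Y⟦b⟧, g ≫ e.hom = ((shiftFunctor C a).preimage (g ≫ e.hom))⟦a⟧' :=
    fun g => ((shiftFunctor C a).map_preimage _).symm
  have h2 : (shiftFunctor C a).preimage (f ≫ e.hom) = (shiftFunctor C a).preimage (f' ≫ e.hom) :=
    Subsingleton.elim _ _
  have h3 : f ≫ e.hom = f' ≫ e.hom := by rw [h1 f, h1 f', h2]
  exact (cancel_mono e.hom).mp h3

end shift

variable {R A : Type u} [CommRing R] [CommRing A] [Algebra R A]
  [Module.Invertible R (RingHom.ker (algebraMap R A))]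
  (hφ : Function.Surjective (algebraMap R A))

local notation "II" => RingHom.ker (algebraMap R A)

include hφ in
/-- `Ext^c_R(A, R) = 0` for `c ≠ 1` -/
lemma subsingleton_ext (c : ℤ) (hc : c ≠ 1) :
    Subsingleton ((SR R).obj (rA R A) ⟶ ((SR R).obj (mR R))⟦c⟧) := by
  by_cases h0 : c < 0
  · exact DualSelf.subsingleton_neg R _ _ c h0
  · obtain ⟨k, rfl⟩ := Int.eq_ofNat_of_zero_le (not_lt.mp h0)
    letI : HasExt.{u + 1} (ModuleCat.{u} R) := hasExt_of_hasDerivedCategory _
    rw [DualSelf.subsingleton_iff]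
    by_cases hk : k = 0
    · subst hk
      refine ⟨fun x y => ?_⟩
      apply Abelian.Ext.homEquiv₀.injective
      rw [hom_rA_mR_eq_zero (A := A) (Abelian.Ext.homEquiv₀ x),
        hom_rA_mR_eq_zero (A := A) (Abelian.Ext.homEquiv₀ y)]
    · have hk2 : 2 ≤ k := by
        have : k ≠ 1 := fun h => hc (by rw [h]; rfl)
        omega
      haveI : Projective (mI R A) := (IsProjective.iff_projective _).mp inferInstance
      haveI : Projective (mR R) := (IsProjective.iff_projective _).mp inferInstance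
      have h1 : HasProjectiveDimensionLT (S1 R A).X₁ 1 :=
        inferInstanceAs (HasProjectiveDimensionLT (mI R A) 1)
      have h2 : HasProjectiveDimensionLT (S1 R A).X₂ (1 + 1) :=
        hasProjectiveDimensionLT_of_ge (mR R) 1 2 (by omega)
      haveI : HasProjectiveDimensionLT (rA R A) 2 :=
        (S1_shortExact hφ).hasProjectiveDimensionLT_X₃ 1 h1 h2
      exact HasProjectiveDimensionLT.subsingleton (rA R A) 2 k hk2 _

local notation "φ" => algebraMap R A

variable (R A) in
/-- restriction commutes with the degree zero embedding -/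
noncomputable abbrev ρ : singleFunctor (ModuleCat.{u} A) 0 ⋙ DRing.restrictD (algebraMap R A) ≅
    ModuleCat.restrictScalars (algebraMap R A) ⋙ singleFunctor (ModuleCat.{u} R) 0 :=
  (ModuleCat.restrictScalars.{u} (algebraMap R A)).mapDerivedCategorySingleFunctor 0

variable (R) in
/-- `R[0]` is the unit -/
noncomputable abbrev uR : (SR R).obj (mR R) ≅ DTen.unit R :=
  (singleFunctorIsoCompQ (ModuleCat.{u} R) 0).app (mR R)

/-- the extension class `res N ⟶ R[1]` -/
noncomputable def ε₂ : (DRing.restrictD (algebraMap R A)).obj (Dual.inD A (II →ₗ[R] A)) ⟶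
    (DTen.unit R)⟦(1 : ℤ)⟧ :=
  (ρ R A).hom.app (aN R A) ≫ (S2_shortExact hφ).singleδ ≫ (uR R).hom⟦(1 : ℤ)⟧'

/-- the main case: degree zero -/
theorem bijective_zero :
    Function.Bijective (fun g : Dual.inD A A ⟶ Dual.inD A (II →ₗ[R] A) =>
      (DRing.restrictD (algebraMap R A)).map g ≫ ε₂ hφ) := by
  have nat : ∀ f : aA A ⟶ aN R A,
      (DRing.restrictD (algebraMap R A)).map ((singleFunctor (ModuleCat.{u} A) 0).map f) ≫
        (ρ R A).hom.app (aN R A) = (ρ R A).hom.app (aA A) ≫
          (SR R).map ((ModuleCat.restrictScalars (algebraMap R A)).map f) :=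
    fun f => (ρ R A).hom.naturality f
  have key : ∀ f : aA A ⟶ aN R A,
      (DRing.restrictD (algebraMap R A)).map ((singleFunctor (ModuleCat.{u} A) 0).map f) ≫ ε₂ hφ =
        (ρ R A).hom.app (aA A) ≫
          ((SR R).map ((ModuleCat.restrictScalars (algebraMap R A)).map f) ≫
            (S2_shortExact hφ).singleδ) ≫ (uR R).hom⟦(1 : ℤ)⟧' := fun f => by
    dsimp only [ε₂]
    rw [← Category.assoc, nat f]
    simp only [Category.assoc]
  constructor
  · intro g g' hgg
    obtain ⟨f, rfl⟩ := (singleFunctor (ModuleCat.{u} A) 0).map_surjective g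
    obtain ⟨f', rfl⟩ := (singleFunctor (ModuleCat.{u} A) 0).map_surjective g'
    have h1 : (DRing.restrictD (algebraMap R A)).map
        ((singleFunctor (ModuleCat.{u} A) 0).map (f - f')) ≫ ε₂ hφ = 0 := by
      rw [Functor.map_sub, Functor.map_sub, Preadditive.sub_comp, sub_eq_zero]
      exact hgg
    rw [key, ← cancel_epi ((ρ R A).inv.app (aA A)), Iso.inv_hom_id_app_assoc, comp_zero,
      ← cancel_mono ((uR R).inv⟦(1 : ℤ)⟧'), Category.assoc, ← Functor.map_comp, Iso.hom_inv_id,
      CategoryTheory.Functor.map_id, Category.comp_id, zero_comp] at h1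
    have h2 := key_inj hφ (f - f') h1
    rw [sub_eq_zero] at h2
    rw [h2]
  · intro u
    obtain ⟨f, hf⟩ := key_surj hφ ((ρ R A).inv.app (aA A) ≫ u ≫ (uR R).inv⟦(1 : ℤ)⟧')
    refine ⟨(singleFunctor (ModuleCat.{u} A) 0).map f, ?_⟩
    change (DRing.restrictD (algebraMap R A)).map ((singleFunctor (ModuleCat.{u} A) 0).map f) ≫
      ε₂ hφ = u
    rw [key, ← hf]
    simp only [Category.assoc, Iso.hom_inv_id_app_assoc]
    rw [← Functor.map_comp, Iso.inv_hom_id, CategoryTheory.Functor.map_id, Category.comp_id]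

include hφ in
/-- vanishing of the target for `i ≠ 0` -/
lemma subsingleton_target (i : ℤ) (hi : i ≠ 0) :
    Subsingleton ((DRing.restrictD (algebraMap R A)).obj (T A i) ⟶ (DTen.unit R)⟦(1 : ℤ)⟧) := by
  let e1 : T A i ≅ (Dual.inD A A)⟦-i⟧ :=
    (Groth.Agent.Helper3.DRingLib.singleShiftIso (ModuleCat.of A A) i).symm
  let e2 : (DRing.restrictD (algebraMap R A)).obj (T A i) ≅ ((SR R).obj (rA R A))⟦-i⟧ :=
    (DRing.restrictD (algebraMap R A)).mapIso e1 ≪≫
      ((DRing.restrictD (algebraMap R A)).commShiftIso (-i)).app (Dual.inD A A) ≪≫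
        (shiftFunctor _ (-i)).mapIso ((ρ R A).app (aA A))
  haveI := subsingleton_hom_shift ((SR R).obj (rA R A)) ((SR R).obj (mR R)) (-i) 1 (1 + i)
    (by omega) (subsingleton_ext hφ (1 + i) (by omega))
  refine ⟨fun f f' => ?_⟩
  have h : e2.inv ≫ f ≫ (uR R).inv⟦(1 : ℤ)⟧' = e2.inv ≫ f' ≫ (uR R).inv⟦(1 : ℤ)⟧' :=
    Subsingleton.elim _ _
  rw [cancel_epi] at h
  have h2 : IsIso ((uR R).inv⟦(1 : ℤ)⟧') := inferInstance
  exact (cancel_mono _).mp h

/-- vanishing of the source for `i ≠ 0` -/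
lemma subsingleton_source (i : ℤ) (hi : i ≠ 0) :
    Subsingleton (T A i ⟶ Dual.inD A (II →ₗ[R] A)) := by
  let e := (singleFunctorIsoCompQ (ModuleCat.{u} A) 0).app (aN R A)
  have hz : IsZero (((CochainComplex.singleFunctor (ModuleCat.{u} A) 0).obj (aN R A)).X i) :=
    HomologicalComplex.isZero_single_obj_X (ComplexShape.up ℤ) 0 _ i hi
  refine ⟨fun f f' => ?_⟩
  have h1 := DTenH.hom_T_Q_eq_zero _ i hz (f ≫ e.hom)
  have h2 := DTenH.hom_T_Q_eq_zero _ i hz (f' ≫ e.hom)
  exact (cancel_mono e.hom).mp (h1.trans h2.symm)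

include hφ in
theorem bijective_T (i : ℤ) :
    Function.Bijective (fun g : T A i ⟶ Dual.inD A (II →ₗ[R] A) =>
      (DRing.restrictD (algebraMap R A)).map g ≫ ε₂ hφ) := by
  by_cases hi : i = 0
  · subst hi
    exact bijective_zero hφ
  · haveI := subsingleton_target hφ i hi
    haveI := subsingleton_source (R := R) (A := A) i hi
    exact ⟨fun _ _ _ => Subsingleton.elim _ _, fun u => ⟨0, Subsingleton.elim _ _⟩⟩

end Groth.Agent.Helper9.RC4
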