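import Mathlib
import Groth.Prelude.Def_DTen4
import Groth.Agent.Helper9.RC4
import Groth.Agent.Helper9.RHR11

set_option autoImplicit false
set_option linter.style.haveILetI false
set_option linter.unusedSectionVars false

/-!
# `RHom(A, -) ≅ - ⊗^L_R N[-1]` for `A = R/I`, `I` invertible, `N` inverse to `A ⊗ I`
-/

open CategoryTheory CategoryTheory.Limits DerivedCategory Pretriangulated
open scoped TensorProduct

universe u

attribute [local instance] HasDerivedCategory.standard

namespace Groth.Agent.Helper9.RC5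

open Groth.Agent.Helper9.RC1 Groth.Agent.Helper9.RC2 Groth.Agent.Helper9.RC3
  Groth.Agent.Helper9.RC4 Groth.Agent.Helper6 Groth.Agent.Helper6.DTenG

variable {R A : Type u} [CommRing R] [CommRing A] [Algebra R A]
  [Module.Invertible R (RingHom.ker (algebraMap R A))]
  (hφ : Function.Surjective (algebraMap R A))

local notation "II" => RingHom.ker (algebraMap R A)

include hφ in
/-- `A` is perfect over `R` -/
theorem isPerfect_res :
    DRing.IsPerfect R ((DRing.restrictD (algebraMap R A)).obj (DTen.unit A)) := by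
  have hT1 := (S1_shortExact hφ).singleTriangle_distinguished
  have h1 : DRing.IsPerfect R ((SR R).obj (mI R A)) :=
    PerfRes.isPerfectModule_of_finite_projective II
  have h2 : DRing.IsPerfect R ((SR R).obj (mR R)) :=
    PerfRes.isPerfectModule_of_finite_projective R
  have h3 : DRing.IsPerfect R ((SR R).obj (rA R A)) :=
    Groth.Agent.Helper3.DRingLib.isPerfect_obj₃ _ hT1 h1 h2
  let e : (DRing.restrictD (algebraMap R A)).obj (Dual.inD A A) ≅ (SR R).obj (rA R A) :=
    (ρ R A).app (aA A)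
  exact Groth.Agent.Helper3.DRingLib.isPerfect_of_iso e.symm h3

variable [DTen.HasRHomRel (algebraMap R A)]

/-- the comparison map `N ⟶ RHom(A, R[1])` -/
noncomputable def aN : Dual.inD A (II →ₗ[R] A) ⟶
    (DTen.RHomRel (algebraMap R A)).obj ((DTen.unit R)⟦(1 : ℤ)⟧) :=
  (DTen.relAdj (algebraMap R A)).homEquiv _ _ (ε₂ hφ)

lemma isIso_aN : IsIso (aN hφ) := by
  refine isIso_of_bijective _ (fun i => ?_)
  have h : (fun g : T A i ⟶ Dual.inD A (II →ₗ[R] A) => g ≫ aN hφ) =
      (DTen.relAdj (algebraMap R A)).homEquiv _ _ ∘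
        (fun g => (DRing.restrictD (algebraMap R A)).map g ≫ ε₂ hφ) := by
    funext g
    dsimp only [aN, Function.comp_apply]
    rw [Adjunction.homEquiv_naturality_left]
  rw [h]
  exact (Equiv.bijective _).comp (bijective_T hφ i)

include hφ in
theorem omega_iso :
    Nonempty ((DTen.RHomRel (algebraMap R A)).obj (DTen.unit R) ≅
      (Dual.inD A (II →ₗ[R] A))⟦(-1 : ℤ)⟧) := by
  letI := (DTen.relAdj (algebraMap R A)).rightAdjointCommShift ℤ
  haveI := isIso_aN hφ
  let e1 : Dual.inD A (II →ₗ[R] A) ≅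
      (DTen.RHomRel (algebraMap R A)).obj ((DTen.unit R)⟦(1 : ℤ)⟧) := asIso (aN hφ)
  let e2 := ((DTen.RHomRel (algebraMap R A)).commShiftIso (1 : ℤ)).app (DTen.unit R)
  let e3 : Dual.inD A (II →ₗ[R] A) ≅
      ((DTen.RHomRel (algebraMap R A)).obj (DTen.unit R))⟦(1 : ℤ)⟧ := e1 ≪≫ e2
  exact ⟨(shiftShiftNeg _ (1 : ℤ)).symm ≪≫ (shiftFunctor _ (-1 : ℤ)).mapIso e3.symm⟩

variable [DTen.HasLTenMix (algebraMap R A)]

include hφ in
/-- **Regular immersion of codimension one** -/
theorem main (N : Type u) [AddCommGroup N] [Module A N]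
    (e : (A ⊗[R] (RingHom.ker (algebraMap R A))) ⊗[A] N ≃ₗ[A] A) :
    Nonempty (DTen.RHomRel (algebraMap R A) ≅
      (Functor.curry.obj (DTen.LTenMix (algebraMap R A))).flip.obj
        ((Dual.inD A N)⟦(-1 : ℤ)⟧)) := by
  obtain ⟨e1⟩ := RHR11.main (φ := algebraMap R A) (isPerfect_res hφ)
  obtain ⟨e2⟩ := omega_iso hφ
  let e3 : Dual.inD A (II →ₗ[R] A) ≅ Dual.inD A N :=
    (singleFunctor (ModuleCat.{u} A) 0).mapIso (equivHom N e).symm.toModuleIso
  exact ⟨e1 ≪≫ (Functor.curry.obj (DTen.LTenMix (algebraMap R A))).flip.mapIso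
    (e2 ≪≫ (shiftFunctor _ (-1 : ℤ)).mapIso e3)⟩

end Groth.Agent.Helper9.RC5
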