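import Mathlib
import Groth.Agent.S0387
import Groth.Agent.Helper2.FlatAtElem

/-!
# RG1: a flat finite module over a finitely presented algebra which is locally (on the base)
finitely presented is finitely presented, when the base embeds in a finite product of its
local rings (Raynaud–Gruson style patching).
-/

set_option autoImplicit false
universe u
open TensorProduct

namespace Groth.Agent.Helper9.RG1

section L1

variable {P : Type u} [CommRing P] {X M : Type u} [AddCommGroup X] [Module P X] [Module.Finite P X]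
  [AddCommGroup M] [Module P M]

/-- From finite presentation of the localization of `M = X/N` at `W`, a finite subset of `N`
generating `N` up to denominators in `W`. -/
lemma exists_finset_of_fp_localized (π : X →ₗ[P] M) (hπ : Function.Surjective π) (W : Submonoid P)
    (h : Module.FinitePresentation (Localization W) (LocalizedModule W M)) :
    ∃ G : Finset X, (↑G : Set X) ⊆ LinearMap.ker π ∧
      ∀ u ∈ LinearMap.ker π, ∃ w ∈ W, w • u ∈ Submodule.span P (G : Set X) := by
  classical
  let f := LocalizedModule.mkLinearMap W X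
  let f' := LocalizedModule.mkLinearMap W M
  let πW : LocalizedModule W X →ₗ[Localization W] LocalizedModule W M :=
    (IsLocalizedModule.map W f f' π).extendScalarsOfIsLocalization W (Localization W)
  have hsurj : Function.Surjective πW := IsLocalizedModule.map_surjective W f f' π hπ
  have hfg : (LinearMap.ker πW).FG := Module.FinitePresentation.fg_ker πW hsurj
  rw [← LinearMap.localized'_ker_eq_ker_localizedMap (Localization W) W f f' π] at hfg
  obtain ⟨t, ht⟩ := hfg
  have hz : ∀ z ∈ t, ∃ m ∈ LinearMap.ker π, ∃ s : W, IsLocalizedModule.mk' f m s = z := by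
    intro z hz
    have : z ∈ (LinearMap.ker π).localized' (Localization W) W f := ht ▸ Submodule.subset_span hz
    exact this
  choose! m hm s hs using hz
  refine ⟨t.image m, ?_, ?_⟩
  · intro x hx
    simp only [Finset.coe_image, Set.mem_image, Finset.mem_coe] at hx
    obtain ⟨z, hz, rfl⟩ := hx
    exact hm z hz
  · intro u hu
    have hfu : f u ∈ (LinearMap.ker π).localized' (Localization W) W f := ⟨u, hu, 1, by simp⟩
    rw [← ht] at hfu
    have hle : Submodule.span (Localization W) (t : Set (LocalizedModule W X)) ≤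
        (Submodule.span P (↑(t.image m) : Set X)).localized' (Localization W) W f := by
      rw [Submodule.span_le]
      intro z hz
      exact ⟨m z, Submodule.subset_span (by
        simp only [Finset.coe_image, Set.mem_image, Finset.mem_coe]
        exact ⟨z, hz, rfl⟩), s z, hs z hz⟩
    obtain ⟨x, hx, s', hxs⟩ := hle hfu
    rw [IsLocalizedModule.mk'_eq_iff] at hxs
    have hxs' : f x = f (s' • u) := by
      rw [hxs]
      exact (map_smul f (s' : P) u).symm
    obtain ⟨c, hc⟩ := (IsLocalizedModule.eq_iff_exists W f).1 hxs'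
    refine ⟨(c : P) * (s' : P), (c * s').2, ?_⟩
    have : ((c : P) * (s' : P)) • u = (c : P) • x := by
      rw [mul_smul]
      exact hc.symm
    rw [this]
    exact Submodule.smul_mem _ _ hx

end L1

section Main

variable {R : Type u} [CommRing R] {P : Type u} [CommRing P] [Algebra R P]
  [Algebra.FinitePresentation R P]
  {M : Type u} [AddCommGroup M] [Module P M] [Module R M] [IsScalarTower R P M]
  [Module.Finite P M] [Module.Flat R M]

/-- elements outside all the primes of `s` are nonzerodivisors -/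
lemma mem_nonZeroDivisors_of_forall_notMem (s : Finset (PrimeSpectrum R))
    (hs : Function.Injective fun r : R => fun p : s => algebraMap R (Localization.AtPrime p.1.asIdeal) r)
    (a : R) (ha : ∀ p ∈ s, a ∉ p.asIdeal) : a ∈ nonZeroDivisors R := by
  rw [mem_nonZeroDivisors_iff_right]
  intro b hb
  apply hs
  funext p
  show algebraMap R (Localization.AtPrime p.1.asIdeal) b = algebraMap R _ 0
  rw [map_zero]
  have hu : IsUnit (algebraMap R (Localization.AtPrime p.1.asIdeal) a) :=
    IsLocalization.map_units (Localization.AtPrime p.1.asIdeal)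
      (⟨a, ha p.1 p.2⟩ : p.1.asIdeal.primeCompl)
  have : algebraMap R (Localization.AtPrime p.1.asIdeal) b *
      algebraMap R (Localization.AtPrime p.1.asIdeal) a = 0 := by
    rw [← map_mul, hb, map_zero]
  exact (hu.mul_left_eq_zero).1 this

variable {X : Type u} [AddCommGroup X] [Module P X] [Module R X] [IsScalarTower R P X]
  [Module.FinitePresentation P X]

omit [Algebra.FinitePresentation R P] [Module.Finite P M] [Module.Flat R M]
  [Module.FinitePresentation P X] in
/-- the quotient map kills `algebraMap a • u` when this lies in the submodule -/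
lemma liftQ_ker_aux (N' : Submodule P X) (π : X →ₗ[P] M) (hN' : N' ≤ LinearMap.ker π)
    (q : X ⧸ N') (hq : N'.liftQ π hN' q = 0) : ∃ u ∈ LinearMap.ker π, N'.mkQ u = q := by
  obtain ⟨u, rfl⟩ := N'.mkQ_surjective q
  exact ⟨u, by simpa using hq, rfl⟩

omit [Module.Finite P M] in
/-- **local step**: near a prime `𝔮` of `R`, the kernel is generated up to a power of some
`f ∉ 𝔮`. -/
theorem local_step (s : Finset (PrimeSpectrum R))
    (hs : Function.Injective fun r : R => fun p : s =>
      algebraMap R (Localization.AtPrime p.1.asIdeal) r)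
    (π : X →ₗ[P] M) (hπ : Function.Surjective π)
    (Gs : Finset X) (hGs : (↑Gs : Set X) ⊆ LinearMap.ker π)
    (hGs' : ∀ u ∈ LinearMap.ker π, ∃ a : R, (∀ p ∈ s, a ∉ p.asIdeal) ∧
      algebraMap R P a • u ∈ Submodule.span P (Gs : Set X))
    (𝔮 : Ideal R) [𝔮.IsPrime]
    (G𝔮 : Finset X) (hG𝔮 : (↑G𝔮 : Set X) ⊆ LinearMap.ker π)
    (hG𝔮' : ∀ u ∈ LinearMap.ker π, ∃ a : R, a ∉ 𝔮 ∧
      algebraMap R P a • u ∈ Submodule.span P (G𝔮 : Set X)) :
    ∃ f : R, f ∉ 𝔮 ∧ ∀ u ∈ LinearMap.ker π, ∃ k : ℕ,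
      (algebraMap R P f) ^ k • u ∈ Submodule.span P ((↑G𝔮 : Set X) ∪ ↑Gs) := by
  classical
  set N' : Submodule P X := Submodule.span P ((↑G𝔮 : Set X) ∪ ↑Gs) with hN'def
  have hN' : N' ≤ LinearMap.ker π := by
    rw [hN'def, Submodule.span_le]
    exact Set.union_subset hG𝔮 hGs
  have hle1 : Submodule.span P (G𝔮 : Set X) ≤ N' :=
    Submodule.span_mono Set.subset_union_left
  have hle2 : Submodule.span P (Gs : Set X) ≤ N' :=
    Submodule.span_mono Set.subset_union_right
  let ρ : (X ⧸ N') →ₗ[P] M := N'.liftQ π hN'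
  have hρ : Function.Surjective ρ := by
    intro m
    obtain ⟨x, rfl⟩ := hπ m
    exact ⟨N'.mkQ x, by simp [ρ]⟩
  have : Module.FinitePresentation P (X ⧸ N') :=
    Module.finitePresentation_of_surjective N'.mkQ N'.mkQ_surjective
      (by rw [Submodule.ker_mkQ]
          exact Submodule.fg_span (G𝔮.finite_toSet.union Gs.finite_toSet))
  -- elements of the kernel of `ρ`
  have ht1 : ∀ q : X ⧸ N', ρ q = 0 → ∃ a : R, a ∉ 𝔮 ∧ a • q = 0 := by
    intro q hq
    obtain ⟨u, hu, rfl⟩ := liftQ_ker_aux N' π hN' q hq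
    obtain ⟨a, ha, hau⟩ := hG𝔮' u hu
    refine ⟨a, ha, ?_⟩
    rw [← algebraMap_smul P a (N'.mkQ u), ← map_smul]
    exact (Submodule.Quotient.mk_eq_zero N').2 (hle1 hau)
  have ht2 : ∀ q : X ⧸ N', ρ q = 0 → ∃ a : R, a ∈ nonZeroDivisors R ∧ a • q = 0 := by
    intro q hq
    obtain ⟨u, hu, rfl⟩ := liftQ_ker_aux N' π hN' q hq
    obtain ⟨a, ha, hau⟩ := hGs' u hu
    refine ⟨a, mem_nonZeroDivisors_of_forall_notMem s hs a ha, ?_⟩
    rw [← algebraMap_smul P a (N'.mkQ u), ← map_smul]
    exact (Submodule.Quotient.mk_eq_zero N').2 (hle2 hau)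
  -- claim 1
  have claim1 : ∀ Q' : PrimeSpectrum P, (∀ a : R, a ∉ 𝔮 → algebraMap R P a ∉ Q'.asIdeal) →
      Module.Flat R (LocalizedModule Q'.asIdeal.primeCompl (X ⧸ N')) := by
    intro Q' hQ'
    rw [Groth.Agent.Helper2.FlatAtElem.flat_localized_iff]
    intro X' Y _ _ _ _ ι hι v hv
    let ρR : (X ⧸ N') →ₗ[R] M := ρ.restrictScalars R
    have h1 : LinearMap.lTensor M ι (LinearMap.rTensor X' ρR v) = 0 := by
      rw [← LinearMap.comp_apply, LinearMap.lTensor_comp_rTensor, ← LinearMap.rTensor_comp_lTensor,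
        LinearMap.comp_apply, hv, map_zero]
    have h2 : LinearMap.rTensor X' ρR v = 0 :=
      (Module.Flat.lTensor_preserves_injective_linearMap ι hι) (h1.trans (map_zero _).symm)
    have hex : Function.Exact (LinearMap.ker ρR).subtype ρR := by
      intro y
      simp
    have hex' := rTensor_exact X' hex hρ
    have hw : ∀ w : (LinearMap.ker ρR) ⊗[R] X', ∃ a : R, a ∉ 𝔮 ∧ a • w = 0 := by
      intro w
      induction w using TensorProduct.induction_on with
      | zero => exact ⟨1, fun h => (Ideal.ne_top_iff_one 𝔮).1 (Ideal.IsPrime.ne_top inferInstance) h,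
          smul_zero _⟩
      | tmul t x =>
        obtain ⟨a, ha, hat⟩ := ht1 t.1 t.2
        refine ⟨a, ha, ?_⟩
        rw [TensorProduct.smul_tmul']
        have : a • t = 0 := Subtype.ext hat
        rw [this, TensorProduct.zero_tmul]
      | add w₁ w₂ h₁ h₂ =>
        obtain ⟨a₁, ha₁, h₁⟩ := h₁
        obtain ⟨a₂, ha₂, h₂⟩ := h₂
        refine ⟨a₁ * a₂, fun h => (Ideal.IsPrime.mem_or_mem inferInstance h).elim ha₁ ha₂, ?_⟩
        rw [smul_add, show (a₁ * a₂) • w₁ = a₂ • a₁ • w₁ by rw [mul_comm, mul_smul], h₁, smul_zero,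
          mul_smul, h₂, smul_zero, add_zero]
    obtain ⟨w, rfl⟩ := (hex' v).1 h2
    obtain ⟨a, ha, haw⟩ := hw w
    refine ⟨⟨algebraMap R P a, hQ' a ha⟩, ?_⟩
    show algebraMap R P a • (LinearMap.rTensor X' (LinearMap.ker ρR).subtype w) = 0
    rw [algebraMap_smul, ← map_smul, haw, map_zero]
  -- claim 2
  have claim2 : ∃ f : R, f ∉ 𝔮 ∧ ∀ Q' : PrimeSpectrum P, algebraMap R P f ∉ Q'.asIdeal →
      Module.Flat R (LocalizedModule Q'.asIdeal.primeCompl (X ⧸ N')) := by
    have hopen := Groth.Agent.S0387.result (R := R) (S := P) (M := X ⧸ N')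
    set U : Set (PrimeSpectrum P) :=
      {Q' | Module.Flat R (LocalizedModule Q'.asIdeal.primeCompl (X ⧸ N'))} with hU
    set 𝔠 : Ideal P := PrimeSpectrum.vanishingIdeal Uᶜ with h𝔠
    have hz : PrimeSpectrum.zeroLocus (𝔠 : Set P) = Uᶜ := by
      rw [h𝔠, PrimeSpectrum.zeroLocus_vanishingIdeal_eq_closure]
      exact hopen.isClosed_compl.closure_eq
    by_cases hdisj : Disjoint (𝔠 : Set P) (Algebra.algebraMapSubmonoid P 𝔮.primeCompl)
    · exfalso
      obtain ⟨Q', hQ'p, hle, hQ'd⟩ := Ideal.exists_le_prime_disjoint 𝔠 _ hdisj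
      have hmem : (⟨Q', hQ'p⟩ : PrimeSpectrum P) ∈ Uᶜ := by
        rw [← hz]
        exact hle
      apply hmem
      apply claim1 ⟨Q', hQ'p⟩
      intro a ha hmem'
      exact Set.disjoint_left.1 hQ'd hmem' ⟨a, ha, rfl⟩
    · rw [Set.not_disjoint_iff] at hdisj
      obtain ⟨x, hx𝔠, f, hf, rfl⟩ := hdisj
      refine ⟨f, hf, fun Q' hQ' => ?_⟩
      by_contra hflat
      have : Q' ∈ PrimeSpectrum.zeroLocus (𝔠 : Set P) := by
        rw [hz]
        exact hflat
      exact hQ' (this hx𝔠)
  obtain ⟨f, hf, hflat⟩ := claim2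
  refine ⟨f, hf, ?_⟩
  -- claim 3
  have claim3 : ∀ q : X ⧸ N', ρ q = 0 → ∃ k : ℕ, (algebraMap R P f) ^ k • q = 0 := by
    intro q hq
    by_contra hk
    push Not at hk
    set 𝔞 : Ideal P := LinearMap.ker (LinearMap.toSpanSingleton P (X ⧸ N') q) with h𝔞
    have hmem𝔞 : ∀ c : P, c ∈ 𝔞 ↔ c • q = 0 := by
      intro c
      rw [h𝔞, LinearMap.mem_ker, LinearMap.toSpanSingleton_apply]
    have hdisj : Disjoint (𝔞 : Set P) (Submonoid.powers (algebraMap R P f)) := by
      rw [Set.disjoint_left]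
      rintro x hx ⟨k, rfl⟩
      exact hk k ((hmem𝔞 _).1 hx)
    obtain ⟨Q', hQ'p, hle, hQ'd⟩ := Ideal.exists_le_prime_disjoint 𝔞 _ hdisj
    have hfQ' : algebraMap R P f ∉ Q' := fun h =>
      Set.disjoint_left.1 hQ'd h (Submonoid.mem_powers _)
    have := hflat ⟨Q', hQ'p⟩ hfQ'
    obtain ⟨a, ha, haq⟩ := ht2 q hq
    have hreg := Module.Flat.isSMulRegular_of_nonZeroDivisors
      (M := LocalizedModule Q'.primeCompl (X ⧸ N')) ha
    have h0 : LocalizedModule.mkLinearMap Q'.primeCompl (X ⧸ N') q = 0 := by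
      apply hreg
      show a • LocalizedModule.mkLinearMap Q'.primeCompl (X ⧸ N') q = a • 0
      rw [smul_zero, ← algebraMap_smul P a, ← map_smul, algebraMap_smul, haq, map_zero]
    obtain ⟨c, hc⟩ := (IsLocalizedModule.eq_zero_iff Q'.primeCompl
      (LocalizedModule.mkLinearMap Q'.primeCompl (X ⧸ N'))).1 h0
    exact c.2 (hle ((hmem𝔞 _).2 hc))
  intro u hu
  obtain ⟨k, hk⟩ := claim3 (N'.mkQ u) (by simpa [ρ] using hu)
  refine ⟨k, ?_⟩
  rw [← map_smul] at hk
  exact (Submodule.Quotient.mk_eq_zero N').1 hk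

omit [Module.FinitePresentation P X] [IsScalarTower R P X] [Module R X] in
/-- **Main patching theorem.** -/
theorem main (s : Finset (PrimeSpectrum R))
    (hs : Function.Injective fun r : R => fun p : s =>
      algebraMap R (Localization.AtPrime p.1.asIdeal) r)
    (hloc : ∀ (p : Ideal R) [p.IsPrime],
      Module.FinitePresentation
        (Localization (Algebra.algebraMapSubmonoid P p.primeCompl))
        (LocalizedModule (Algebra.algebraMapSubmonoid P p.primeCompl) M)) :
    Module.FinitePresentation P M := by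
  classical
  rcases subsingleton_or_nontrivial R with hR | hR
  · have hP : Subsingleton P := by
      refine subsingleton_of_zero_eq_one ?_
      rw [← map_one (algebraMap R P), ← map_zero (algebraMap R P)]
      exact congrArg _ (Subsingleton.elim _ _)
    have : Subsingleton M := Module.subsingleton P M
    exact Module.finitePresentation_of_projective P M
  obtain ⟨r, π, hπ⟩ := Module.Finite.exists_fin' P M
  -- local generating sets
  have hG : ∀ p : PrimeSpectrum R, ∃ G : Finset (Fin r → P), (↑G : Set (Fin r → P)) ⊆ LinearMap.ker π ∧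
      ∀ u ∈ LinearMap.ker π, ∃ a : R, a ∉ p.asIdeal ∧
        algebraMap R P a • u ∈ Submodule.span P (G : Set (Fin r → P)) := by
    intro p
    obtain ⟨G, hG1, hG2⟩ := exists_finset_of_fp_localized π hπ
      (Algebra.algebraMapSubmonoid P p.asIdeal.primeCompl) (hloc p.asIdeal)
    refine ⟨G, hG1, fun u hu => ?_⟩
    obtain ⟨w, ⟨a, ha, rfl⟩, hw⟩ := hG2 u hu
    exact ⟨a, ha, hw⟩
  choose G hG1 hG2 using hG
  set Gs : Finset (Fin r → P) := s.biUnion G with hGsdef
  have hGs : (↑Gs : Set (Fin r → P)) ⊆ LinearMap.ker π := by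
    intro x hx
    rw [hGsdef, Finset.mem_coe, Finset.mem_biUnion] at hx
    obtain ⟨p, _, hxp⟩ := hx
    exact hG1 p hxp
  obtain ⟨p0⟩ : Nonempty (PrimeSpectrum R) := inferInstance
  have hGs' : ∀ u ∈ LinearMap.ker π, ∃ a : R, (∀ p ∈ s, a ∉ p.asIdeal) ∧
      algebraMap R P a • u ∈ Submodule.span P (Gs : Set (Fin r → P)) := by
    intro u hu
    set I : Ideal R := Ideal.comap (algebraMap R P)
      ((Submodule.span P (Gs : Set (Fin r → P))).colon {u}) with hI
    have hmemI : ∀ a : R, a ∈ I ↔ algebraMap R P a • u ∈ Submodule.span P (Gs : Set (Fin r → P)) := by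
      intro a
      rw [hI, Ideal.mem_comap, Submodule.mem_colon_singleton]
    have hnot : ¬ ((I : Set R) ⊆ ⋃ p ∈ (↑s : Set (PrimeSpectrum R)), (p.asIdeal : Set R)) := by
      rw [Ideal.subset_union_prime (f := fun p : PrimeSpectrum R => p.asIdeal) p0 p0
        (fun p _ _ _ => p.isPrime)]
      rintro ⟨p, hp, hle⟩
      obtain ⟨a, ha, hau⟩ := hG2 p u hu
      apply ha
      apply hle
      rw [hmemI]
      refine Submodule.span_mono ?_ hau
      intro x hx
      rw [hGsdef, Finset.mem_coe, Finset.mem_biUnion]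
      exact ⟨p, hp, hx⟩
    rw [Set.not_subset] at hnot
    obtain ⟨a, haI, hau⟩ := hnot
    refine ⟨a, fun p hp hap => hau ?_, (hmemI a).1 haI⟩
    exact Set.mem_biUnion (show p ∈ (↑s : Set (PrimeSpectrum R)) from hp) hap
  -- local steps
  have hstep : ∀ 𝔮 : PrimeSpectrum R, ∃ f : R, f ∉ 𝔮.asIdeal ∧ ∀ u ∈ LinearMap.ker π, ∃ k : ℕ,
      (algebraMap R P f) ^ k • u ∈ Submodule.span P ((↑(G 𝔮) : Set (Fin r → P)) ∪ ↑Gs) := by
    intro 𝔮
    exact local_step s hs π hπ Gs hGs hGs' 𝔮.asIdeal (G 𝔮) (hG1 𝔮) (hG2 𝔮)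
  choose f hf1 hf2 using hstep
  have htop : Ideal.span (Set.range f) = ⊤ := by
    by_contra hne
    obtain ⟨m, hm, hle⟩ := Ideal.exists_le_maximal _ hne
    exact hf1 ⟨m, hm.isPrime⟩ (hle (Ideal.subset_span ⟨⟨m, hm.isPrime⟩, rfl⟩))
  rw [Ideal.span_eq_top_iff_finite] at htop
  obtain ⟨t, ht, httop⟩ := htop
  have hq : ∀ a ∈ t, ∃ 𝔮 : PrimeSpectrum R, f 𝔮 = a := fun a ha => ht ha
  choose! 𝔮 h𝔮 using hq
  set Gfin : Set (Fin r → P) := (↑Gs : Set (Fin r → P)) ∪ ⋃ a ∈ t, (↑(G (𝔮 a)) : Set (Fin r → P))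
    with hGfin
  have hGfin_fin : Gfin.Finite :=
    Gs.finite_toSet.union (Set.Finite.biUnion t.finite_toSet (fun _ _ => Finset.finite_toSet _))
  have hfin_le : Submodule.span P Gfin ≤ LinearMap.ker π := by
    rw [Submodule.span_le]
    intro x hx
    rw [hGfin, Set.mem_union, Set.mem_iUnion₂] at hx
    rcases hx with hx | ⟨a, _, hx⟩
    · exact hGs hx
    · exact hG1 _ hx
  have hker : LinearMap.ker π = Submodule.span P Gfin := by
    refine le_antisymm ?_ hfin_le
    intro u hu
    refine Submodule.mem_of_span_eq_top_of_smul_pow_mem _ ((algebraMap R P) '' (t : Set R)) ?_ u ?_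
    · rw [← Ideal.map_span, httop, Ideal.map_top]
    · rintro ⟨_, a, ha, rfl⟩
      obtain ⟨k, hk⟩ := hf2 (𝔮 a) u hu
      refine ⟨k, ?_⟩
      rw [h𝔮 a ha] at hk
      refine Submodule.span_mono ?_ hk
      intro x hx
      rw [hGfin, Set.mem_union, Set.mem_iUnion₂]
      rcases hx with hx | hx
      · exact Or.inr ⟨a, ha, hx⟩
      · exact Or.inl hx
  exact Module.finitePresentation_of_surjective π hπ
    (hker ▸ Submodule.fg_span hGfin_fin)

end Main

end Groth.Agent.Helper9.RG1
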