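import Mathlib
import Groth.Agent.Helper9.RG1

/-!
# RG2: algebra version of the patching theorem of RG1.
-/

set_option autoImplicit false
universe u
open TensorProduct

namespace Groth.Agent.Helper9.RG2

open Groth.Agent.Helper9.RG1

section Aux

variable {R : Type u} [CommRing R] {P : Type u} [CommRing P] [Algebra R P]
  [Algebra.FinitePresentation R P]
  {M : Type u} [AddCommGroup M] [Module P M] [Module R M] [IsScalarTower R P M]
  [Module.Flat R M]
  {X : Type u} [AddCommGroup X] [Module P X] [Module R X] [IsScalarTower R P X]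
  [Module.FinitePresentation P X]

/-- **Patching, elementwise form.** -/
theorem main_aux (s : Finset (PrimeSpectrum R))
    (hs : Function.Injective fun r : R => fun p : s =>
      algebraMap R (Localization.AtPrime p.1.asIdeal) r)
    (π : X →ₗ[P] M) (hπ : Function.Surjective π)
    (hG : ∀ p : PrimeSpectrum R, ∃ G : Finset X, (↑G : Set X) ⊆ LinearMap.ker π ∧
      ∀ u ∈ LinearMap.ker π, ∃ a : R, a ∉ p.asIdeal ∧
        algebraMap R P a • u ∈ Submodule.span P (G : Set X)) :
    (LinearMap.ker π).FG := by
  classical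
  rcases subsingleton_or_nontrivial R with hR | hR
  · have hP : Subsingleton P := by
      refine subsingleton_of_zero_eq_one ?_
      rw [← map_one (algebraMap R P), ← map_zero (algebraMap R P)]
      exact congrArg _ (Subsingleton.elim _ _)
    have : Subsingleton X := Module.subsingleton P X
    have : LinearMap.ker π = ⊥ := Subsingleton.elim _ _
    rw [this]
    exact Submodule.fg_bot
  choose G hG1 hG2 using hG
  set Gs : Finset X := s.biUnion G with hGsdef
  have hGs : (↑Gs : Set X) ⊆ LinearMap.ker π := by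
    intro x hx
    rw [hGsdef, Finset.mem_coe, Finset.mem_biUnion] at hx
    obtain ⟨p, _, hxp⟩ := hx
    exact hG1 p hxp
  obtain ⟨p0⟩ : Nonempty (PrimeSpectrum R) := inferInstance
  have hGs' : ∀ u ∈ LinearMap.ker π, ∃ a : R, (∀ p ∈ s, a ∉ p.asIdeal) ∧
      algebraMap R P a • u ∈ Submodule.span P (Gs : Set X) := by
    intro u hu
    set I : Ideal R := Ideal.comap (algebraMap R P)
      ((Submodule.span P (Gs : Set X)).colon {u}) with hI
    have hmemI : ∀ a : R, a ∈ I ↔ algebraMap R P a • u ∈ Submodule.span P (Gs : Set X) := by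
      intro a
      rw [hI, Ideal.mem_comap, Submodule.mem_colon_singleton]
    have hnot : ¬ ((I : Set R) ⊆ ⋃ p ∈ (↑s : Set (PrimeSpectrum R)), (p.asIdeal : Set R)) := by
      rw [Ideal.subset_union_prime (f := fun p : PrimeSpectrum R => p.asIdeal) p0 p0
        (fun p _ _ _ => p.isPrime)]
      rintro ⟨p, hp, hle⟩
      obtain ⟨a, ha, hau⟩ := hG2 p u hu
      apply ha
      apply hle
      rw [hmemI]
      refine Submodule.span_mono ?_ hau
      intro x hx
      rw [hGsdef, Finset.mem_coe, Finset.mem_biUnion]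
      exact ⟨p, hp, hx⟩
    rw [Set.not_subset] at hnot
    obtain ⟨a, haI, hau⟩ := hnot
    refine ⟨a, fun p hp hap => hau ?_, (hmemI a).1 haI⟩
    exact Set.mem_biUnion (show p ∈ (↑s : Set (PrimeSpectrum R)) from hp) hap
  -- local steps
  have hstep : ∀ 𝔮 : PrimeSpectrum R, ∃ f : R, f ∉ 𝔮.asIdeal ∧ ∀ u ∈ LinearMap.ker π, ∃ k : ℕ,
      (algebraMap R P f) ^ k • u ∈ Submodule.span P ((↑(G 𝔮) : Set X) ∪ ↑Gs) := by
    intro 𝔮
    exact local_step s hs π hπ Gs hGs hGs' 𝔮.asIdeal (G 𝔮) (hG1 𝔮) (hG2 𝔮)
  choose f hf1 hf2 using hstep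
  have htop : Ideal.span (Set.range f) = ⊤ := by
    by_contra hne
    obtain ⟨m, hm, hle⟩ := Ideal.exists_le_maximal _ hne
    exact hf1 ⟨m, hm.isPrime⟩ (hle (Ideal.subset_span ⟨⟨m, hm.isPrime⟩, rfl⟩))
  rw [Ideal.span_eq_top_iff_finite] at htop
  obtain ⟨t, ht, httop⟩ := htop
  have hq : ∀ a ∈ t, ∃ 𝔮 : PrimeSpectrum R, f 𝔮 = a := fun a ha => ht ha
  choose! 𝔮 h𝔮 using hq
  set Gfin : Set X := (↑Gs : Set X) ∪ ⋃ a ∈ t, (↑(G (𝔮 a)) : Set X) with hGfin
  have hGfin_fin : Gfin.Finite :=
    Gs.finite_toSet.union (Set.Finite.biUnion t.finite_toSet (fun _ _ => Finset.finite_toSet _))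
  have hfin_le : Submodule.span P Gfin ≤ LinearMap.ker π := by
    rw [Submodule.span_le]
    intro x hx
    rw [hGfin, Set.mem_union, Set.mem_iUnion₂] at hx
    rcases hx with hx | ⟨a, _, hx⟩
    · exact hGs hx
    · exact hG1 _ hx
  have hker : LinearMap.ker π = Submodule.span P Gfin := by
    refine le_antisymm ?_ hfin_le
    intro u hu
    refine Submodule.mem_of_span_eq_top_of_smul_pow_mem _ ((algebraMap R P) '' (t : Set R)) ?_ u ?_
    · rw [← Ideal.map_span, httop, Ideal.map_top]
    · rintro ⟨_, a, ha, rfl⟩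
      obtain ⟨k, hk⟩ := hf2 (𝔮 a) u hu
      refine ⟨k, ?_⟩
      rw [h𝔮 a ha] at hk
      refine Submodule.span_mono ?_ hk
      intro x hx
      rw [hGfin, Set.mem_union, Set.mem_iUnion₂]
      rcases hx with hx | hx
      · exact Or.inr ⟨a, ha, hx⟩
      · exact Or.inl hx
  exact hker ▸ Submodule.fg_span hGfin_fin

end Aux

section Alg

variable {R P S : Type u} [CommRing R] [CommRing P] [CommRing S] [Algebra R P] [Algebra R S]
  [Algebra.FinitePresentation R P]

/-- local finite generation of the kernel from local finite presentation of the algebra -/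
theorem exists_finset_of_fp_algebra (φ : P →ₐ[R] S) (hφ : Function.Surjective φ)
    (p : Ideal R) [p.IsPrime]
    (h : Algebra.FinitePresentation (Localization.AtPrime p)
      (Localization (Algebra.algebraMapSubmonoid S p.primeCompl))) :
    ∃ G : Finset P, (↑G : Set P) ⊆ RingHom.ker φ ∧
      ∀ u ∈ RingHom.ker φ, ∃ a : R, a ∉ p ∧ algebraMap R P a * u ∈ Ideal.span (G : Set P) := by
  classical
  set W : Submonoid P := Algebra.algebraMapSubmonoid P p.primeCompl with hW
  set WS : Submonoid S := Algebra.algebraMapSubmonoid S p.primeCompl with hWS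
  have hpush : Algebra.IsPushout R (Localization.AtPrime p) P (Localization W) :=
    (Algebra.isPushout_of_isLocalization p.primeCompl (Localization.AtPrime p) P
      (Localization W)).symm
  have hfpP : Algebra.FinitePresentation (Localization.AtPrime p) (Localization W) :=
    Algebra.FinitePresentation.equiv
      (Algebra.IsPushout.equiv R (Localization.AtPrime p) P (Localization W))
  let ψ : Localization W →ₐ[Localization.AtPrime p] Localization WS :=
    IsLocalization.mapₐ p.primeCompl (Localization.AtPrime p) (Localization W) (Localization WS) φ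
  have hψ : Function.Surjective ψ :=
    IsLocalization.mapₐ_surjective_of_surjective p.primeCompl (Localization.AtPrime p)
      (Localization W) (Localization WS) φ hφ
  have hfg : (RingHom.ker ψ.toRingHom).FG := Algebra.FinitePresentation.ker_fG_of_surjective ψ hψ
  have hker : RingHom.ker ψ.toRingHom = (RingHom.ker φ.toRingHom).map (algebraMap P (Localization W)) :=
    IsLocalization.ker_map (S := Localization W) (Localization WS) φ.toRingHom
      (Algebra.algebraMapSubmonoid_map_eq p.primeCompl φ)
  rw [hker] at hfg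
  obtain ⟨t, ht⟩ := hfg
  have hz : ∀ z ∈ t, ∃ x : P, x ∈ RingHom.ker φ ∧ ∃ w : W, z * algebraMap P (Localization W) w =
      algebraMap P (Localization W) x := by
    intro z hz
    have hzmem : z ∈ (RingHom.ker φ.toRingHom).map (algebraMap P (Localization W)) :=
      ht ▸ Ideal.subset_span hz
    obtain ⟨⟨x, w⟩, hxw⟩ := (IsLocalization.mem_map_algebraMap_iff W (Localization W)).1 hzmem
    exact ⟨x.1, x.2, w, hxw⟩
  choose! x hx w hw using hz
  refine ⟨t.image x, ?_, ?_⟩
  · intro y hy
    simp only [Finset.coe_image, Set.mem_image, Finset.mem_coe] at hy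
    obtain ⟨z, hz, rfl⟩ := hy
    exact hx z hz
  · intro u hu
    have hle : Ideal.span (t : Set (Localization W)) ≤
        (Ideal.span (↑(t.image x) : Set P)).map (algebraMap P (Localization W)) := by
      rw [Ideal.span_le]
      intro z hz
      rw [SetLike.mem_coe, IsLocalization.mem_map_algebraMap_iff W (Localization W)]
      exact ⟨⟨⟨x z, Ideal.subset_span (by
        simp only [Finset.coe_image, Set.mem_image, Finset.mem_coe]
        exact ⟨z, hz, rfl⟩)⟩, w z⟩, hw z hz⟩
    have hu' : algebraMap P (Localization W) u ∈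
        (Ideal.span (↑(t.image x) : Set P)).map (algebraMap P (Localization W)) := by
      apply hle
      rw [ht]
      exact Ideal.mem_map_of_mem _ hu
    obtain ⟨⟨y, v⟩, hyv⟩ := (IsLocalization.mem_map_algebraMap_iff W (Localization W)).1 hu'
    rw [← map_mul] at hyv
    obtain ⟨c, hc⟩ := (IsLocalization.eq_iff_exists W (Localization W)).1 hyv
    obtain ⟨a, ha, hav⟩ := (c * v).2
    refine ⟨a, ha, ?_⟩
    rw [hav]
    have : ((c * v : W) : P) * u = (c : P) * (y : P) := by
      rw [Submonoid.coe_mul, mul_assoc, mul_comm (v : P) u]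
      exact hc
    rw [this]
    exact Ideal.mul_mem_left _ _ y.2

end Alg

end Groth.Agent.Helper9.RG2
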