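import Mathlib
import Groth.Agent.Helper9.TotFun1
import Groth.Agent.Helper9.TotFun2
import Groth.Agent.Helper9.KFlat18

/-! Naturality (in both complexes) of the three generic isomorphisms of total complexes
`TotFun1.comparison`, `KFlat18.mapBifunctorNatIso`, `TotFun2.precompIso`. -/

set_option autoImplicit false
set_option linter.style.haveILetI false
set_option linter.unusedSectionVars false
set_option linter.unusedVariables false

namespace Groth.Agent.Helper9.RH3a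

open CategoryTheory Category Limits HomologicalComplex

section A

open Groth.Agent.Helper9.TotFun1

variable {C₁ C₂ D D' : Type*} [Category C₁] [Category C₂] [Category D] [Category D']
  {I₁ I₂ J : Type*} {c₁ : ComplexShape I₁} {c₂ : ComplexShape I₂}
  [HasZeroMorphisms C₁] [HasZeroMorphisms C₂] [Preadditive D] [Preadditive D']
  (F : C₁ ⥤ C₂ ⥤ D) [F.PreservesZeroMorphisms] [∀ X₁, (F.obj X₁).PreservesZeroMorphisms]
  (G : D ⥤ D') [G.Additive]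
  (c : ComplexShape J) [TotalComplexShape c₁ c₂ c] [DecidableEq J]
  {K₁ K₁' : HomologicalComplex C₁ c₁} {K₂ K₂' : HomologicalComplex C₂ c₂}
  [HasMapBifunctor K₁ K₂ F c] [HasMapBifunctor K₁ K₂ (FG F G) c]
  [HasMapBifunctor K₁' K₂' F c] [HasMapBifunctor K₁' K₂' (FG F G) c]

lemma comparison_naturality (f₁ : K₁ ⟶ K₁') (f₂ : K₂ ⟶ K₂') :
    mapBifunctorMap f₁ f₂ (FG F G) c ≫ comparison F G c K₁' K₂' =
      comparison F G c K₁ K₂ ≫
        (G.mapHomologicalComplex c).map (mapBifunctorMap f₁ f₂ F c) := by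
  ext j i₁ i₂ h
  rw [HomologicalComplex.comp_f, HomologicalComplex.comp_f, ι_mapBifunctorMap_assoc]
  show _ ≫ _ ≫ ιMapBifunctor K₁' K₂' (FG F G) c i₁ i₂ j h ≫ compX F G c K₁' K₂' j =
    ιMapBifunctor K₁ K₂ (FG F G) c i₁ i₂ j h ≫ compX F G c K₁ K₂ j ≫
      G.map ((mapBifunctorMap f₁ f₂ F c).f j)
  rw [ι_compX, ι_compX_assoc, ← G.map_comp, ι_mapBifunctorMap, G.map_comp, G.map_comp]
  rfl

end A

section B

open Groth.Agent.Helper9.KFlat18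

variable {C₁ C₂ D : Type*} [Category C₁] [Category C₂] [Category D]
  {I₁ I₂ J : Type*} {c₁ : ComplexShape I₁} {c₂ : ComplexShape I₂}
  [HasZeroMorphisms C₁] [HasZeroMorphisms C₂] [Preadditive D]
  {F F' : C₁ ⥤ C₂ ⥤ D} [F.PreservesZeroMorphisms] [∀ X₁, (F.obj X₁).PreservesZeroMorphisms]
  [F'.PreservesZeroMorphisms] [∀ X₁, (F'.obj X₁).PreservesZeroMorphisms]
  (c : ComplexShape J) [TotalComplexShape c₁ c₂ c] [DecidableEq J]
  {K₁ K₁' : HomologicalComplex C₁ c₁} {K₂ K₂' : HomologicalComplex C₂ c₂}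
  [HasMapBifunctor K₁ K₂ F c] [HasMapBifunctor K₁ K₂ F' c]
  [HasMapBifunctor K₁' K₂' F c] [HasMapBifunctor K₁' K₂' F' c]

@[reassoc]
lemma ι_mapBifunctorNatIso_hom (e : F ≅ F') (i₁ : I₁) (i₂ : I₂) (j : J)
    (h : ComplexShape.π c₁ c₂ c (i₁, i₂) = j) :
    ιMapBifunctor K₁ K₂ F c i₁ i₂ j h ≫ (mapBifunctorNatIso c e K₁ K₂).hom.f j =
      (e.hom.app (K₁.X i₁)).app (K₂.X i₂) ≫ ιMapBifunctor K₁ K₂ F' c i₁ i₂ j h := by
  exact (HomologicalComplex₂.ιTotal_map _ _ (bicomplexIso e K₁ K₂).hom c i₁ i₂ j h).trans rfl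

lemma mapBifunctorNatIso_naturality (e : F ≅ F') (f₁ : K₁ ⟶ K₁') (f₂ : K₂ ⟶ K₂') :
    mapBifunctorMap f₁ f₂ F c ≫ (mapBifunctorNatIso c e K₁' K₂').hom =
      (mapBifunctorNatIso c e K₁ K₂).hom ≫ mapBifunctorMap f₁ f₂ F' c := by
  ext j i₁ i₂ h
  rw [HomologicalComplex.comp_f, HomologicalComplex.comp_f, ι_mapBifunctorMap_assoc,
    ι_mapBifunctorNatIso_hom_assoc, ι_mapBifunctorNatIso_hom, ι_mapBifunctorMap]
  have n1 : (F.map (f₁.f i₁)).app (K₂.X i₂) ≫ (e.hom.app (K₁'.X i₁)).app (K₂.X i₂) =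
      (e.hom.app (K₁.X i₁)).app (K₂.X i₂) ≫ (F'.map (f₁.f i₁)).app (K₂.X i₂) := by
    rw [← NatTrans.comp_app, ← NatTrans.comp_app, e.hom.naturality]
  have n2 : (F.obj (K₁'.X i₁)).map (f₂.f i₂) ≫ (e.hom.app (K₁'.X i₁)).app (K₂'.X i₂) =
      (e.hom.app (K₁'.X i₁)).app (K₂.X i₂) ≫ (F'.obj (K₁'.X i₁)).map (f₂.f i₂) :=
    (e.hom.app (K₁'.X i₁)).naturality (f₂.f i₂)
  rw [← assoc ((F.obj (K₁'.X i₁)).map (f₂.f i₂)), n2, assoc, ← assoc, n1, assoc]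

end B

section Cc

open Groth.Agent.Helper9.TotFun2

variable {C₁ C₂ C₁' C₂' D : Type*} [Category C₁] [Category C₂] [Category C₁'] [Category C₂']
  [Category D]
  {I₁ I₂ J : Type*} {c₁ : ComplexShape I₁} {c₂ : ComplexShape I₂}
  [HasZeroMorphisms C₁] [HasZeroMorphisms C₂] [HasZeroMorphisms C₁'] [HasZeroMorphisms C₂']
  [Preadditive D]
  (G₁ : C₁ ⥤ C₁') (G₂ : C₂ ⥤ C₂') [G₁.PreservesZeroMorphisms] [G₂.PreservesZeroMorphisms]
  (F : C₁' ⥤ C₂' ⥤ D) [F.PreservesZeroMorphisms] [∀ X₁, (F.obj X₁).PreservesZeroMorphisms]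
  (c : ComplexShape J) [TotalComplexShape c₁ c₂ c] [DecidableEq J]
  {K₁ L₁ : HomologicalComplex C₁ c₁} {K₂ L₂ : HomologicalComplex C₂ c₂}
  [HasMapBifunctor K₁ K₂ (GF G₁ G₂ F) c]
  [HasMapBifunctor ((G₁.mapHomologicalComplex c₁).obj K₁) ((G₂.mapHomologicalComplex c₂).obj K₂)
    F c]
  [HasMapBifunctor L₁ L₂ (GF G₁ G₂ F) c]
  [HasMapBifunctor ((G₁.mapHomologicalComplex c₁).obj L₁) ((G₂.mapHomologicalComplex c₂).obj L₂)
    F c]

@[reassoc]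
lemma ι_precompIso_hom (i₁ : I₁) (i₂ : I₂) (j : J)
    (h : ComplexShape.π c₁ c₂ c (i₁, i₂) = j) :
    ιMapBifunctor K₁ K₂ (GF G₁ G₂ F) c i₁ i₂ j h ≫ (precompIso G₁ G₂ F K₁ K₂ c).hom.f j =
      ιMapBifunctor ((G₁.mapHomologicalComplex c₁).obj K₁)
        ((G₂.mapHomologicalComplex c₂).obj K₂) F c i₁ i₂ j h := by
  exact (HomologicalComplex₂.ιTotal_map _ _ (bicomplexIso G₁ G₂ F K₁ K₂).hom c i₁ i₂ j h).trans
    (id_comp _)

lemma precompIso_naturality (f₁ : K₁ ⟶ L₁) (f₂ : K₂ ⟶ L₂) :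
    mapBifunctorMap f₁ f₂ (GF G₁ G₂ F) c ≫ (precompIso G₁ G₂ F L₁ L₂ c).hom =
      (precompIso G₁ G₂ F K₁ K₂ c).hom ≫
        mapBifunctorMap ((G₁.mapHomologicalComplex c₁).map f₁)
          ((G₂.mapHomologicalComplex c₂).map f₂) F c := by
  ext j i₁ i₂ h
  rw [HomologicalComplex.comp_f, HomologicalComplex.comp_f, ι_mapBifunctorMap_assoc,
    ι_precompIso_hom_assoc]
  erw [ι_precompIso_hom, ι_mapBifunctorMap]
  rfl

end Cc

end Groth.Agent.Helper9.RH3a
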