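import Mathlib
import Groth.Prelude.Def_DCoh4
import Groth.Agent.Helper9.PerfTensor1
import Groth.Agent.Helper9.RH3a

/-! Restriction to an open commutes with the tensor product of complexes, naturally in the first
variable. -/

set_option autoImplicit false
set_option linter.style.haveILetI false
set_option linter.unusedVariables false
set_option linter.unusedSectionVars false
universe u

namespace Groth.Agent.Helper9.RH3b

open CategoryTheory CategoryTheory.Limits AlgebraicGeometry HomologicalComplex
open Groth.Agent.Lead.PerfLib Groth.Agent.Helper9.PullMon5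

variable {Z X : Scheme.{u}} (j : Z ⟶ X)

lemma pullTensor_aux {F F' : CochainComplex X.Modules ℤ} (f : F ⟶ F')
    (K : CochainComplex X.Modules ℤ) :
    ((Scheme.Modules.pullback j).mapHomologicalComplex (ComplexShape.up ℤ)).map
        (mapBifunctorMap f (𝟙 K) (DCoh.tensorBi (X := X)) (ComplexShape.up ℤ)) ≫
      (Groth.Agent.Helper9.TotFun1.comparisonIso (DCoh.tensorBi (X := X))
        (Scheme.Modules.pullback j) (ComplexShape.up ℤ) F' K).inv ≫
      (Groth.Agent.Helper9.KFlat18.mapBifunctorNatIso (ComplexShape.up ℤ) (pbBiIso j) F' K).hom ≫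
      (Groth.Agent.Helper9.TotFun2.precompIso (Scheme.Modules.pullback j)
        (Scheme.Modules.pullback j) (DCoh.tensorBi (X := Z)) F' K (ComplexShape.up ℤ)).hom =
    (Groth.Agent.Helper9.TotFun1.comparisonIso (DCoh.tensorBi (X := X))
        (Scheme.Modules.pullback j) (ComplexShape.up ℤ) F K).inv ≫
      (Groth.Agent.Helper9.KFlat18.mapBifunctorNatIso (ComplexShape.up ℤ) (pbBiIso j) F K).hom ≫
      (Groth.Agent.Helper9.TotFun2.precompIso (Scheme.Modules.pullback j)
        (Scheme.Modules.pullback j) (DCoh.tensorBi (X := Z)) F K (ComplexShape.up ℤ)).hom ≫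
      mapBifunctorMap
        (((Scheme.Modules.pullback j).mapHomologicalComplex (ComplexShape.up ℤ)).map f)
        (𝟙 (((Scheme.Modules.pullback j).mapHomologicalComplex (ComplexShape.up ℤ)).obj K))
        (DCoh.tensorBi (X := Z)) (ComplexShape.up ℤ) := by
  have hA := Groth.Agent.Helper9.RH3a.comparison_naturality (DCoh.tensorBi (X := X))
    (Scheme.Modules.pullback j) (ComplexShape.up ℤ) f (𝟙 K)
  have hB := Groth.Agent.Helper9.RH3a.mapBifunctorNatIso_naturality (ComplexShape.up ℤ)
    (pbBiIso j) f (𝟙 K)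
  have hC := Groth.Agent.Helper9.RH3a.precompIso_naturality (Scheme.Modules.pullback j)
    (Scheme.Modules.pullback j) (DCoh.tensorBi (X := Z)) (ComplexShape.up ℤ) f (𝟙 K)
  rw [CategoryTheory.Functor.map_id] at hC
  have hA' : ((Scheme.Modules.pullback j).mapHomologicalComplex (ComplexShape.up ℤ)).map
        (mapBifunctorMap f (𝟙 K) (DCoh.tensorBi (X := X)) (ComplexShape.up ℤ)) ≫
      (Groth.Agent.Helper9.TotFun1.comparisonIso (DCoh.tensorBi (X := X))
        (Scheme.Modules.pullback j) (ComplexShape.up ℤ) F' K).inv =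
      (Groth.Agent.Helper9.TotFun1.comparisonIso (DCoh.tensorBi (X := X))
        (Scheme.Modules.pullback j) (ComplexShape.up ℤ) F K).inv ≫
        mapBifunctorMap f (𝟙 K) (biL j) (ComplexShape.up ℤ) := by
    rw [Iso.comp_inv_eq, Category.assoc, Iso.eq_inv_comp]
    exact hA.symm
  rw [reassoc_of% hA', reassoc_of% hB, hC]

lemma pullTensorCxIso_naturality {F F' : CochainComplex X.Modules ℤ} (f : F ⟶ F')
    (K : CochainComplex X.Modules ℤ) :
    (pCx j).map ((DCoh.tensorCx.map f).app K) ≫ (pullTensorCxIso j F' K).hom =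
      (pullTensorCxIso j F K).hom ≫
        (DCoh.tensorCx.map ((pCx j).map f)).app ((pCx j).obj K) := by
  exact pullTensor_aux j f K

variable [IsOpenImmersion j]

/-- the identification of termwise restriction with termwise pullback -/
noncomputable def eRc : Rc j ≅ pCx j :=
  NatIso.mapHomologicalComplex (Scheme.Modules.restrictFunctorIsoPullback j) (ComplexShape.up ℤ)

lemma resTensorCxIso_hom (F K : CochainComplex X.Modules ℤ) :
    (Groth.Agent.Helper9.PerfTensor1.resTensorCxIso j F K).hom =
      (eRc j).hom.app _ ≫ (pullTensorCxIso j F K).hom ≫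
        (DCoh.tensorCx.map ((eRc j).inv.app F)).app _ ≫
        (DCoh.tensorCx.obj ((Rc j).obj F)).map ((eRc j).inv.app K) := rfl

lemma resTensorCxIso_naturality {F F' : CochainComplex X.Modules ℤ} (f : F ⟶ F')
    (K : CochainComplex X.Modules ℤ) :
    (Rc j).map ((DCoh.tensorCx.map f).app K) ≫
        (Groth.Agent.Helper9.PerfTensor1.resTensorCxIso j F' K).hom =
      (Groth.Agent.Helper9.PerfTensor1.resTensorCxIso j F K).hom ≫
        (DCoh.tensorCx.map ((Rc j).map f)).app ((Rc j).obj K) := by
  rw [resTensorCxIso_hom, resTensorCxIso_hom]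
  have h1 := (eRc j).hom.naturality ((DCoh.tensorCx.map f).app K)
  have h2 := pullTensorCxIso_naturality j f K
  have h3 : (DCoh.tensorCx.map ((pCx j).map f)).app ((pCx j).obj K) ≫
      (DCoh.tensorCx.map ((eRc j).inv.app F')).app ((pCx j).obj K) =
      (DCoh.tensorCx.map ((eRc j).inv.app F)).app ((pCx j).obj K) ≫
        (DCoh.tensorCx.map ((Rc j).map f)).app ((pCx j).obj K) := by
    rw [← NatTrans.comp_app, ← NatTrans.comp_app, ← Functor.map_comp, ← Functor.map_comp,
      (eRc j).inv.naturality f]
  have h4 := (DCoh.tensorCx.map ((Rc j).map f)).naturality ((eRc j).inv.app K)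
  rw [reassoc_of% h1, reassoc_of% h2, reassoc_of% h3, ← h4]
  simp only [Category.assoc]

/-- `(− ⊗ K)|_Z ≅ (−|_Z) ⊗ K|_Z` as functors on complexes -/
noncomputable def resTensorNat (K : CochainComplex X.Modules ℤ) :
    (DCoh.tensorCx (X := X)).flip.obj K ⋙ Rc j ≅
      Rc j ⋙ (DCoh.tensorCx (X := Z)).flip.obj ((Rc j).obj K) :=
  NatIso.ofComponents (fun F => Groth.Agent.Helper9.PerfTensor1.resTensorCxIso j F K)
    (fun {F F'} f => resTensorCxIso_naturality j f K)

end Groth.Agent.Helper9.RH3b
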