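import Mathlib
import Groth.Prelude.Def_DCoh4
import Groth.Prelude.Def_CxOX
import Groth.Agent.Helper9.RH3b
import Groth.Agent.Helper9.LTCx6

/-! Restriction to an open commutes with the derived tensor product with a K-flat complex, as an
isomorphism of functors. -/

set_option autoImplicit false
set_option linter.style.haveILetI false
set_option linter.unusedVariables false
set_option linter.unusedSectionVars false
universe u

namespace Groth.Agent.Helper9.RH3c

open CategoryTheory CategoryTheory.Limits AlgebraicGeometry HomologicalComplex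
open Groth.Agent.Lead.PerfLib

attribute [local instance] HasDerivedCategory.standard

variable {Z X : Scheme.{u}} (j : Z ⟶ X) [IsOpenImmersion j]

/-- the scheme-level `counitIso` -/
noncomputable def cIso (K : CochainComplex X.Modules ℤ) (hK : DCoh.IsKFlat K)
    [DCoh.HasLTensorCx K] :
    DerivedCategory.Q ⋙ DCoh.LTensorCx K ≅ DCoh.tensorCxQ K :=
  @Groth.Agent.Helper9.LTCx1.counitIso _ _ _ X.sheaf K ‹DCoh.HasLTensorCx K› hK

variable (K : CochainComplex X.Modules ℤ) (hK : DCoh.IsKFlat K) [DCoh.HasLTensorCx K]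
  [DCoh.HasLTensorCx ((Rc j).obj K)]

/-- the isomorphism on the level of complexes -/
noncomputable def μQ :
    DerivedCategory.Q ⋙ (DCoh.LTensorCx K ⋙ DCoh.restrictD j) ≅
      DerivedCategory.Q ⋙ (DCoh.restrictD j ⋙ DCoh.LTensorCx ((Rc j).obj K)) :=
  (Functor.associator _ _ _).symm ≪≫
    Functor.isoWhiskerRight (cIso K hK) (DCoh.restrictD j) ≪≫
    Functor.associator _ _ _ ≪≫
    Functor.isoWhiskerLeft ((DCoh.tensorCx (X := X)).flip.obj K)
      (Scheme.Modules.restrictFunctor j).mapDerivedCategoryFactors ≪≫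
    (Functor.associator _ _ _).symm ≪≫
    Functor.isoWhiskerRight (Groth.Agent.Helper9.RH3b.resTensorNat j K) DerivedCategory.Q ≪≫
    Functor.associator _ _ _ ≪≫
    Functor.isoWhiskerLeft (Rc j)
      (cIso ((Rc j).obj K) (Groth.Agent.Helper9.Lpull5.isKFlat_restrict j K hK)).symm ≪≫
    (Functor.associator _ _ _).symm ≪≫
    Functor.isoWhiskerRight (Scheme.Modules.restrictFunctor j).mapDerivedCategoryFactors.symm
      (DCoh.LTensorCx ((Rc j).obj K)) ≪≫
    Functor.associator _ _ _

/-- `(A ⊗^L K)|_Z ≅ A|_Z ⊗^L K|_Z`, naturally in `A`, for K-flat `K` -/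
noncomputable def μ :
    DCoh.LTensorCx K ⋙ DCoh.restrictD j ≅ DCoh.restrictD j ⋙ DCoh.LTensorCx ((Rc j).obj K) :=
  Localization.liftNatIso DerivedCategory.Q
    (HomologicalComplex.quasiIso X.Modules (ComplexShape.up ℤ)) _ _ _ _ (μQ j K hK)

end Groth.Agent.Helper9.RH3c
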