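import Mathlib
import Groth.Prelude.Def_DCoh4
import Groth.Prelude.Def_CxOX
import Groth.Agent.Helper9.RH2
import Groth.Agent.Helper9.RH3c
import Groth.Agent.Helper9.PullMon4

/-! The derived tensor product of `j_! B` with a K-flat complex is supported in `j(Z)`. -/

set_option autoImplicit false
set_option linter.style.haveILetI false
set_option linter.unusedVariables false
set_option linter.unusedSectionVars false
universe u

namespace Groth.Agent.Helper9.RH4a

open CategoryTheory CategoryTheory.Limits AlgebraicGeometry HomologicalComplex MonoidalCategory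
open Groth.Agent.Lead.PerfLib Groth.Agent.Helper9.SkyMod4 Groth.Agent.Helper9.SkyMod5

attribute [local instance] HasDerivedCategory.standard

section Generic

/-- an exact functor killing a term of a complex kills its homology in that degree -/
lemma isZero_map_homology {A B : Type*} [Category A] [Category B] [Abelian A] [Abelian B]
    (Φ : A ⥤ B) [Φ.PreservesMonomorphisms] [Φ.PreservesEpimorphisms]
    (C : CochainComplex A ℤ) (i : ℤ) (h : IsZero (Φ.obj (C.X i))) :
    IsZero (Φ.obj (C.homology i)) := by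
  have h1 : IsZero (Φ.obj (C.cycles i)) := IsZero.of_mono (Φ.map (C.iCycles i)) h
  exact IsZero.of_epi (Φ.map (C.homologyπ i)) h1

variable {C₁ C₂ D E : Type*} [Category C₁] [Category C₂] [Category D] [Category E]
  {I₁ I₂ J : Type*} {c₁ : ComplexShape I₁} {c₂ : ComplexShape I₂}
  [HasZeroMorphisms C₁] [HasZeroMorphisms C₂] [Preadditive D] [HasZeroMorphisms E]
  (F : C₁ ⥤ C₂ ⥤ D) [F.PreservesZeroMorphisms] [∀ X₁, (F.obj X₁).PreservesZeroMorphisms]
  (Φ : D ⥤ E) [Φ.IsLeftAdjoint]
  (c : ComplexShape J) [TotalComplexShape c₁ c₂ c] [DecidableEq J]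
  (K₁ : HomologicalComplex C₁ c₁) (K₂ : HomologicalComplex C₂ c₂)
  [HasMapBifunctor K₁ K₂ F c]

/-- a left adjoint killing all the summands kills a term of the total complex -/
lemma isZero_map_mapBifunctor_X (j : J)
    (h : ∀ i₁ i₂, ComplexShape.π c₁ c₂ c (i₁, i₂) = j →
      IsZero (Φ.obj ((F.obj (K₁.X i₁)).obj (K₂.X i₂)))) :
    IsZero (Φ.obj ((mapBifunctor K₁ K₂ F c).X j)) := by
  rw [IsZero.iff_id_eq_zero]
  have hc := isColimitOfPreserves Φ
    ((Groth.Agent.Helper9.TotFun1.gr F K₁ K₂).isColimitCofanMapObj (ComplexShape.π c₁ c₂ c) j)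
  apply hc.hom_ext
  rintro ⟨⟨⟨i₁, i₂⟩, hi⟩⟩
  exact (h i₁ i₂ hi).eq_of_src _ _

end Generic

variable {Z X : Scheme.{u}} (j : Z ⟶ X) [IsOpenImmersion j]

lemma isZero_St_tensor_left (x : X) (M N : X.Modules) (h : IsZero ((St x).obj M)) :
    IsZero ((St x).obj ((DCoh.tensorBi.obj M).obj N)) := by
  have e := Groth.Agent.Helper9.PullMon4.stIso' x M N
  have h0 : IsZero ((St x).obj M ⊗ (St x).obj N) :=
    ((tensorRight ((St x).obj N)).map_isZero h)
  exact h0.of_iso e.symm

lemma isZero_St_extZero (x : X) (hx : x ∉ Set.range j) (M : Z.Modules) :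
    IsZero ((St x).obj ((CxOX.extZero j).obj M)) := by
  have := Groth.Agent.Helper4.ExtZeroStalk.subsingleton_stalk_extZero j M x hx
  exact @ModuleCat.isZero_of_subsingleton _ _ ((St x).obj ((CxOX.extZero j).obj M)) this

theorem suppIn_ltensor_extZeroD (P : CochainComplex X.Modules ℤ) (hP : DCoh.IsKFlat P)
    [DCoh.HasLTensorCx P] (B : DCoh.D Z) :
    Groth.Agent.Helper9.RH2.SuppIn j ((DCoh.LTensorCx P).obj ((CxOX.extZeroD j).obj B)) := by
  let B₀ : CochainComplex Z.Modules ℤ := DerivedCategory.Q.objPreimage B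
  let e₀ : DerivedCategory.Q.obj B₀ ≅ B := DerivedCategory.Q.objObjPreimageIso B
  let A₀ : CochainComplex X.Modules ℤ :=
    ((CxOX.extZero j).mapHomologicalComplex (ComplexShape.up ℤ)).obj B₀
  have e1 : (CxOX.extZeroD j).obj B ≅ DerivedCategory.Q.obj A₀ :=
    (CxOX.extZeroD j).mapIso e₀.symm ≪≫ (CxOX.extZero j).mapDerivedCategoryFactors.app B₀
  have e2 : (DCoh.LTensorCx P).obj ((CxOX.extZeroD j).obj B) ≅
      DerivedCategory.Q.obj ((DCoh.tensorCx.obj A₀).obj P) :=
    (DCoh.LTensorCx P).mapIso e1 ≪≫ (Groth.Agent.Helper9.RH3c.cIso P hP).app A₀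
  refine Groth.Agent.Helper9.RH2.SuppIn.of_iso j e2.symm ?_
  intro i x hx
  by_contra hxr
  apply hx
  have e3 : DCoh.HD (DerivedCategory.Q.obj ((DCoh.tensorCx.obj A₀).obj P)) i ≅
      ((DCoh.tensorCx.obj A₀).obj P).homology i :=
    (DerivedCategory.homologyFunctorFactors X.Modules i).app _
  have hz : IsZero ((St x).obj (((DCoh.tensorCx.obj A₀).obj P).homology i)) := by
    apply isZero_map_homology
    apply isZero_map_mapBifunctor_X
    intro i₁ i₂ _
    exact isZero_St_tensor_left x _ _ (isZero_St_extZero j x hxr _)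
  have hz' : IsZero ((St x).obj (DCoh.HD (DerivedCategory.Q.obj ((DCoh.tensorCx.obj A₀).obj P)) i)) :=
    hz.of_iso ((St x).mapIso e3)
  exact ModuleCat.subsingleton_of_isZero hz'

end Groth.Agent.Helper9.RH4a
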