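import Mathlib
import Groth.Prelude.Def_DCoh4
import Groth.Prelude.Def_CxOX
import Groth.Agent.Helper9.RH2
import Groth.Agent.Helper9.RH3c
import Groth.Agent.Helper9.RH4a

/-! The projection formula `j_!(B ⊗^L K|_Z) ≅ j_! B ⊗^L K` for an open immersion `j` and a K-flat
complex `K`, and the resulting description of maps into the restriction of an internal Hom. -/

set_option autoImplicit false
set_option linter.style.haveILetI false
set_option linter.unusedVariables false
set_option linter.unusedSectionVars false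
universe u

namespace Groth.Agent.Helper9.RH4b

open CategoryTheory CategoryTheory.Limits AlgebraicGeometry
open Groth.Agent.Lead.PerfLib Groth.Agent.Helper9.RH2 Groth.Agent.Helper9.RH3c

attribute [local instance] HasDerivedCategory.standard

variable {Z X : Scheme.{u}} (j : Z ⟶ X) [IsOpenImmersion j]
  (P : CochainComplex X.Modules ℤ) (hP : DCoh.IsKFlat P) [DCoh.HasLTensorCx P]
  [DCoh.HasLTensorCx ((Rc j).obj P)]

/-- `B ⊗^L P|_Z ⟶ (j_! B ⊗^L P)|_Z` -/
noncomputable def ν (B : DCoh.D Z) :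
    (DCoh.LTensorCx ((Rc j).obj P)).obj B ⟶
      (DCoh.restrictD j).obj ((DCoh.LTensorCx P).obj ((CxOX.extZeroD j).obj B)) :=
  (DCoh.LTensorCx ((Rc j).obj P)).map ((shAdj j).unit.app B) ≫
    (μ j P hP).inv.app ((CxOX.extZeroD j).obj B)

instance isIso_ν (B : DCoh.D Z) : IsIso (ν j P hP B) := by
  unfold ν
  infer_instance

lemma ν_natural {B B' : DCoh.D Z} (f : B ⟶ B') :
    (DCoh.LTensorCx ((Rc j).obj P)).map f ≫ ν j P hP B' =
      ν j P hP B ≫ (DCoh.restrictD j).map ((DCoh.LTensorCx P).map ((CxOX.extZeroD j).map f)) := by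
  unfold ν
  have h1 := (shAdj j).unit.naturality f
  have h2 := (μ j P hP).inv.naturality ((CxOX.extZeroD j).map f)
  simp only [Functor.id_obj, Functor.id_map, Functor.comp_obj, Functor.comp_map] at h1 h2
  rw [← Category.assoc, ← Functor.map_comp, h1, Functor.map_comp, Category.assoc, h2,
    Category.assoc]

/-- the projection formula map `j_!(B ⊗^L P|_Z) ⟶ j_! B ⊗^L P` -/
noncomputable def θ (B : DCoh.D Z) :
    (CxOX.extZeroD j).obj ((DCoh.LTensorCx ((Rc j).obj P)).obj B) ⟶
      (DCoh.LTensorCx P).obj ((CxOX.extZeroD j).obj B) :=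
  (CxOX.extZeroD j).map (ν j P hP B) ≫ (shAdj j).counit.app _

lemma θ_natural {B B' : DCoh.D Z} (f : B ⟶ B') :
    (CxOX.extZeroD j).map ((DCoh.LTensorCx ((Rc j).obj P)).map f) ≫ θ j P hP B' =
      θ j P hP B ≫ (DCoh.LTensorCx P).map ((CxOX.extZeroD j).map f) := by
  unfold θ
  have h1 := (shAdj j).counit.naturality ((DCoh.LTensorCx P).map ((CxOX.extZeroD j).map f))
  simp only [Functor.id_obj, Functor.id_map, Functor.comp_obj, Functor.comp_map] at h1
  rw [← Category.assoc, ← Functor.map_comp, ν_natural, Functor.map_comp, Category.assoc, h1,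
    Category.assoc]

lemma unit_restrict_θ (B : DCoh.D Z) :
    (shAdj j).unit.app _ ≫ (DCoh.restrictD j).map (θ j P hP B) = ν j P hP B := by
  unfold θ
  have h1 := (shAdj j).unit.naturality (ν j P hP B)
  simp only [Functor.id_obj, Functor.id_map, Functor.comp_obj, Functor.comp_map] at h1
  rw [Functor.map_comp, ← Category.assoc, ← h1, Category.assoc,
    (shAdj j).right_triangle_components, Category.comp_id]

instance isIso_θ (B : DCoh.D Z) : IsIso (θ j P hP B) := by
  refine isIso_of_suppIn j _ (suppIn_extZeroD j _)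
    (Groth.Agent.Helper9.RH4a.suppIn_ltensor_extZeroD j P hP B) ?_
  have h := unit_restrict_θ j P hP B
  haveI : IsIso ((shAdj j).unit.app ((DCoh.LTensorCx ((Rc j).obj P)).obj B)) := inferInstance
  have h2 : (DCoh.restrictD j).map (θ j P hP B) =
      inv ((shAdj j).unit.app ((DCoh.LTensorCx ((Rc j).obj P)).obj B)) ≫ ν j P hP B := by
    rw [← h, IsIso.inv_hom_id_assoc]
  rw [h2]
  infer_instance

variable {R' : DCoh.D X ⥤ DCoh.D X} (adj : DCoh.LTensorCx P ⊣ R')

/-- maps `B ⟶ RHom(P, M)|_Z` are maps `B ⊗^L P|_Z ⟶ M|_Z` -/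
noncomputable def homEquiv (B : DCoh.D Z) (M : DCoh.D X) :
    (B ⟶ (DCoh.restrictD j).obj (R'.obj M)) ≃
      ((DCoh.LTensorCx ((Rc j).obj P)).obj B ⟶ (DCoh.restrictD j).obj M) :=
  ((shAdj j).homEquiv B (R'.obj M)).symm.trans
    ((adj.homEquiv ((CxOX.extZeroD j).obj B) M).symm.trans
      ((asIso (θ j P hP B)).homCongr (Iso.refl M) |>.symm.trans
        ((shAdj j).homEquiv _ M)))

lemma homEquiv_apply (B : DCoh.D Z) (M : DCoh.D X) (g : B ⟶ (DCoh.restrictD j).obj (R'.obj M)) :
    homEquiv j P hP adj B M g =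
      (shAdj j).unit.app _ ≫ (DCoh.restrictD j).map (θ j P hP B ≫
        (DCoh.LTensorCx P).map ((CxOX.extZeroD j).map g ≫ (shAdj j).counit.app _) ≫
          adj.counit.app M) := by
  simp [homEquiv, Adjunction.homEquiv_unit, Adjunction.homEquiv_counit, Iso.homCongr]

lemma homEquiv_naturality {B B' : DCoh.D Z} (f : B' ⟶ B) (M : DCoh.D X)
    (g : B ⟶ (DCoh.restrictD j).obj (R'.obj M)) :
    homEquiv j P hP adj B' M (f ≫ g) =
      (DCoh.LTensorCx ((Rc j).obj P)).map f ≫ homEquiv j P hP adj B M g := by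
  rw [homEquiv_apply, homEquiv_apply]
  have h1 := (shAdj j).unit.naturality ((DCoh.LTensorCx ((Rc j).obj P)).map f)
  simp only [Functor.id_obj, Functor.id_map, Functor.comp_obj, Functor.comp_map] at h1
  rw [← Category.assoc ((DCoh.LTensorCx ((Rc j).obj P)).map f), h1, Category.assoc,
    ← Functor.map_comp, ← Category.assoc _ (θ j P hP B), θ_natural]
  simp only [Functor.map_comp, Category.assoc]

lemma homEquiv_zero (B : DCoh.D Z) (M : DCoh.D X) :
    homEquiv j P hP adj B M 0 = 0 := by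
  haveI : (DCoh.LTensorCx P).IsLeftAdjoint := adj.isLeftAdjoint
  haveI : (DCoh.LTensorCx P).PreservesZeroMorphisms := inferInstance
  rw [homEquiv_apply]
  simp

end Groth.Agent.Helper9.RH4b
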