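import Mathlib
import Groth.Agent.Helper9.RH1
import Groth.Agent.Helper9.QP1

/-! Comparison of the scalar form `QP1.LocHom` and the endomorphism form `RH1.LocE` of the
localization property. -/

set_option autoImplicit false
set_option linter.style.haveILetI false
set_option linter.unusedVariables false
set_option linter.unusedSectionVars false

namespace Groth.Agent.Helper9.RH6b

open CategoryTheory CategoryTheory.Limits Pretriangulated
open Groth.Agent.Helper9.RH1 Groth.Agent.Helper9.QP1

variable {A : Type*} [CommRing A] {D : Type*} [Category D] [Preadditive D] [Linear A D]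

lemma pw_smul_id {G : D} (a : A) (n : ℕ) : pw (a • 𝟙 G) n = a ^ n • 𝟙 G := by
  induction n with
  | zero => simp
  | succ n ih =>
    rw [pw_succ, ih, Linear.smul_comp, Linear.comp_smul, Category.id_comp, smul_smul, pow_succ']

lemma locE_of_locHom {a : A} {G' G E : D} {ρ : G' ⟶ G} (h : LocHom a ρ E) :
    LocE (a • 𝟙 G') (a • 𝟙 G) ρ E := by
  constructor
  · intro ψ hψ
    obtain ⟨n, hn⟩ := h.1 ψ hψ
    exact ⟨n, by rw [pw_smul_id, Linear.smul_comp, Category.id_comp, hn]⟩
  · intro t
    obtain ⟨n, ψ, hn⟩ := h.2 t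
    exact ⟨n, ψ, by rw [pw_smul_id, Linear.smul_comp, Category.id_comp, hn]⟩

lemma locHom_of_locE {a : A} {G' G E : D} {ρ : G' ⟶ G} (h : LocE (a • 𝟙 G') (a • 𝟙 G) ρ E) :
    LocHom a ρ E := by
  constructor
  · intro ψ hψ
    obtain ⟨n, hn⟩ := h.1 ψ hψ
    refine ⟨n, ?_⟩
    rw [pw_smul_id, Linear.smul_comp, Category.id_comp] at hn
    exact hn
  · intro t
    obtain ⟨n, ψ, hn⟩ := h.2 t
    refine ⟨n, ψ, ?_⟩
    rw [pw_smul_id, Linear.smul_comp, Category.id_comp] at hn
    exact hn

variable [HasZeroObject D] [HasShift D ℤ] [∀ n : ℤ, (shiftFunctor D n).Additive] [Pretriangulated D]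
  [∀ n : ℤ, (shiftFunctor D n).Linear A]

lemma goodE_of_good {a : A} {P : ObjectProperty D} {G' G : D} {ρ : G' ⟶ G} (h : Good a P ρ) :
    GoodE P (a • 𝟙 G') (a • 𝟙 G) ρ := by
  intro E hE n
  rw [Functor.map_smul, Functor.map_smul, CategoryTheory.Functor.map_id,
    CategoryTheory.Functor.map_id]
  exact locE_of_locHom (h E hE n)

end Groth.Agent.Helper9.RH6b
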