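import Mathlib
import Groth.Prelude.Def_KFlatSite
import Groth.Agent.Helper9.LTCx1
import Groth.Agent.Helper9.LTCx4

/-! `M[-i] ⊗^L E ≅ (M ⊗ E)[-i]` for a K-flat complex `E`, naturally in the module `M`. -/

set_option autoImplicit false
set_option linter.style.haveILetI false
set_option linter.unusedVariables false
set_option linter.unusedSectionVars false
universe u

namespace Groth.Agent.Helper9.RH6d

open CategoryTheory CategoryTheory.Limits HomologicalComplex DerivedCategory
open Groth.Agent.Helper9.LTCx1 Groth.Agent.Helper9.LTCx4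

attribute [local instance] HasDerivedCategory.standard

variable {C : Type u} [SmallCategory C] {J : GrothendieckTopology C} {O : Sheaf J CommRingCat.{u}}
  (E : CochainComplex (ModSite.Mod O) ℤ) (hE : ModSite.IsKFlat E) [ModSite.HasLTensorCx E]

/-- `- ⊗ E` on complexes -/
noncomputable abbrev T : CochainComplex (ModSite.Mod O) ℤ ⥤ CochainComplex (ModSite.Mod O) ℤ :=
  (ModSite.tensorCx O).flip.obj E

/-- the shift commutation of `(- ⊗ E) ⋙ Q` -/
noncomputable def shiftTQ (n : ℤ) :
    shiftFunctor (CochainComplex (ModSite.Mod O) ℤ) n ⋙ (T E ⋙ DerivedCategory.Q) ≅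
      T E ⋙ (DerivedCategory.Q ⋙ shiftFunctor (DerivedCategory (ModSite.Mod O)) n) :=
  (Functor.associator _ _ _).symm ≪≫
    Functor.isoWhiskerRight ((T E).commShiftIso n) DerivedCategory.Q ≪≫
    Functor.associator _ _ _ ≪≫
    Functor.isoWhiskerLeft (T E) (DerivedCategory.Q.commShiftIso n)

/-- `M[-i] ⊗^L E ≅ (M ⊗ E)[-i]` -/
noncomputable def chain (i : ℤ) :
    DerivedCategory.singleFunctor (ModSite.Mod O) i ⋙ ModSite.LTensorCx E ≅
      tensLF E ⋙ (DerivedCategory.Q ⋙ shiftFunctor (DerivedCategory (ModSite.Mod O)) (-i)) :=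
  Functor.isoWhiskerRight (DerivedCategory.singleFunctorIsoCompQ (ModSite.Mod O) i)
      (ModSite.LTensorCx E) ≪≫
    Functor.associator _ _ _ ≪≫
    Functor.isoWhiskerLeft (CochainComplex.singleFunctor (ModSite.Mod O) i) (counitIso E hE) ≪≫
    Functor.isoWhiskerRight
      ((CochainComplex.singleFunctors (ModSite.Mod O)).shiftIso (-i) i 0 (by omega)).symm
      (T E ⋙ DerivedCategory.Q) ≪≫
    Functor.associator _ _ _ ≪≫
    Functor.isoWhiskerLeft (CochainComplex.singleFunctor (ModSite.Mod O) 0) (shiftTQ E (-i)) ≪≫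
    (Functor.associator _ _ _).symm ≪≫
    Functor.isoWhiskerRight (singleIso E)
      (DerivedCategory.Q ⋙ shiftFunctor (DerivedCategory (ModSite.Mod O)) (-i))

end Groth.Agent.Helper9.RH6d
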