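import Mathlib
import Groth.Prelude.Def_DCoh4
import Groth.Prelude.Def_CxOX
import Groth.Agent.Helper9.RH4b
import Groth.Agent.Helper9.LTCx6
import Groth.Agent.Helper9.LTCx7
import Groth.Agent.Helper9.KFlat18

/-! Internal Hom commutes with restriction to opens. -/

set_option autoImplicit false
set_option linter.style.haveILetI false
set_option linter.unusedVariables false
set_option linter.unusedSectionVars false
universe u

namespace Groth.Agent.Helper9.RH5

open CategoryTheory CategoryTheory.Limits AlgebraicGeometry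
open Groth.Agent.Lead.PerfLib

attribute [local instance] HasDerivedCategory.standard

/-- Yoneda for natural bijections -/
lemma nonempty_iso_of_natEquiv {C : Type*} [Category C] {X Y : C}
    (e : ∀ B : C, (B ⟶ X) ≃ (B ⟶ Y))
    (nat : ∀ {B B' : C} (f : B' ⟶ B) (g : B ⟶ X), e B' (f ≫ g) = f ≫ e B g) :
    Nonempty (X ≅ Y) := by
  have nat' : ∀ {B B' : C} (f : B' ⟶ B) (h : B ⟶ Y), (e B').symm (f ≫ h) = f ≫ (e B).symm h := by
    intro B B' f h
    apply (e B').injective
    rw [Equiv.apply_symm_apply, nat, Equiv.apply_symm_apply]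
  refine ⟨⟨e X (𝟙 X), (e Y).symm (𝟙 Y), ?_, ?_⟩⟩
  · rw [← nat', Category.comp_id, Equiv.symm_apply_apply]
  · rw [← nat, Category.comp_id, Equiv.apply_symm_apply]

variable {Z X : Scheme.{u}} (j : Z ⟶ X) [IsOpenImmersion j]

/-- scheme-level K-flat resolutions -/
lemma exists_kflat_resolution (K : CochainComplex X.Modules ℤ) :
    ∃ (P : CochainComplex X.Modules ℤ) (q : P ⟶ K), DCoh.IsKFlat P ∧ QuasiIso q := by
  obtain ⟨P, q, hP, -, hq, -⟩ :=
    @Groth.Agent.Helper9.KFlat18.exists_kflat_resolution _ _ _ X.sheaf K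
  exact ⟨P, q, hP, hq⟩

lemma hasLTensorCx_of_isKFlat (P : CochainComplex X.Modules ℤ) (hP : DCoh.IsKFlat P) :
    DCoh.HasLTensorCx P :=
  @Groth.Agent.Helper9.LTCx7.hasLTensorCx_of_isKFlat _ _ _ X.sheaf P hP

/-- scheme-level `ltensorIso` -/
noncomputable def ltIso' {E' E : CochainComplex X.Modules ℤ} (q : E' ⟶ E) (hq : QuasiIso q)
    [DCoh.HasLTensorCx E'] [DCoh.HasLTensorCx E] : DCoh.LTensorCx E' ≅ DCoh.LTensorCx E :=
  @Groth.Agent.Helper9.LTCx6.ltensorIso _ _ _ X.sheaf E' E q ‹_› ‹_› hq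

lemma quasiIso_Rc_map {E' E : CochainComplex X.Modules ℤ} (q : E' ⟶ E) (hq : QuasiIso q) :
    QuasiIso ((Rc j).map q) := by
  infer_instance

theorem rhom_restrict (K : CochainComplex X.Modules ℤ)
    [DCoh.HasLTensorCx K] [DCoh.HasRSheafHom K]
    [DCoh.HasLTensorCx ((Rc j).obj K)] [DCoh.HasRSheafHom ((Rc j).obj K)] (M : DCoh.D X) :
    Nonempty ((DCoh.restrictD j).obj ((DCoh.RSheafHom K).obj M) ≅
      (DCoh.RSheafHom ((Rc j).obj K)).obj ((DCoh.restrictD j).obj M)) := by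
  obtain ⟨P, q, hP, hq⟩ := exists_kflat_resolution K
  haveI := hasLTensorCx_of_isKFlat P hP
  have hPj : DCoh.IsKFlat ((Rc j).obj P) := Groth.Agent.Helper9.Lpull5.isKFlat_restrict j P hP
  haveI := hasLTensorCx_of_isKFlat _ hPj
  have adj1 : DCoh.LTensorCx P ⊣ DCoh.RSheafHom K :=
    (DCoh.RSheafHomAdj K).ofNatIsoLeft (ltIso' q hq).symm
  have adj2 : DCoh.LTensorCx ((Rc j).obj P) ⊣ DCoh.RSheafHom ((Rc j).obj K) :=
    (DCoh.RSheafHomAdj ((Rc j).obj K)).ofNatIsoLeft
      (ltIso' ((Rc j).map q) (quasiIso_Rc_map j q hq)).symm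
  refine nonempty_iso_of_natEquiv
    (fun B => (Groth.Agent.Helper9.RH4b.homEquiv j P hP adj1 B M).trans (adj2.homEquiv B _)) ?_
  intro B B' f g
  simp only [Equiv.trans_apply]
  rw [Groth.Agent.Helper9.RH4b.homEquiv_naturality, Adjunction.homEquiv_naturality_left]

end Groth.Agent.Helper9.RH5
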