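import Mathlib
import Groth.Prelude.Def_DCoh4
import Groth.Prelude.Def_CxOX
import Groth.Agent.Helper9.RH5
import Groth.Agent.Helper9.QcTensor2
import Groth.Agent.Helper9.QP7
import Groth.Agent.Lead.PerfLib3
import Groth.Agent.Helper4.FinLocFree
import Groth.Agent.Helper4.QcohGlue

/-! Local reductions for the quasi-coherence of `RHom`: the property `D_QCoh` is local for open
immersions from affine schemes, perfect complexes are locally bounded complexes of finite free
modules, and the derived tensor product only depends on the class of the complex. -/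

set_option autoImplicit false
set_option linter.style.haveILetI false
set_option linter.unusedVariables false
set_option linter.unusedSectionVars false
universe u

namespace Groth.Agent.Helper9.RH6f

open CategoryTheory CategoryTheory.Limits AlgebraicGeometry Scheme.Modules
open Groth.Agent.Lead.PerfLib Groth.Agent.Helper4.FinLocFree

attribute [local instance] HasDerivedCategory.standard

variable {X : Scheme.{u}}

/-- the derived tensor product only depends on the class of the complex in the derived category -/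
theorem nonempty_ltensor_iso {P E : CochainComplex X.Modules ℤ} [DCoh.HasLTensorCx P]
    [DCoh.HasLTensorCx E] (e : DerivedCategory.Q.obj P ≅ DerivedCategory.Q.obj E) :
    Nonempty (DCoh.LTensorCx P ≅ DCoh.LTensorCx E) := by
  obtain ⟨Z, s, g, hZ, hs, hg⟩ := Groth.Agent.Helper9.QcTensor2.exists_roof e
  haveI := Groth.Agent.Helper9.RH5.hasLTensorCx_of_isKFlat Z hZ
  exact ⟨(Groth.Agent.Helper9.RH5.ltIso' s hs).symm ≪≫ Groth.Agent.Helper9.RH5.ltIso' g hg⟩

/-- `D_QCoh` is local for open immersions from affine schemes -/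
theorem isQCohD_of_local (M : DCoh.D X)
    (h : ∀ x : X, ∃ (R : CommRingCat.{u}) (j : Spec (CommRingCat.of R) ⟶ X)
      (_ : IsOpenImmersion j), x ∈ Set.range j ∧ DCoh.IsQCohD ((DCoh.restrictD j).obj M)) :
    DCoh.IsQCohD M := by
  intro i
  apply Groth.Agent.Helper4.QcohGlue.isQuasicoherent_of_affine_cover
  intro x
  obtain ⟨R, j, hj, hx, hq⟩ := h x
  haveI := hj
  have hU : IsAffineOpen j.opensRange := isAffineOpen_opensRange j
  refine ⟨j.opensRange, hU, hx, ?_⟩
  have hr : Set.range hU.fromSpec = Set.range j := hU.range_fromSpec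
  let φ := IsOpenImmersion.isoOfRangeEq hU.fromSpec j hr
  have hfac : hU.fromSpec = φ.hom ≫ j := (IsOpenImmersion.isoOfRangeEq_hom_fac _ _ hr).symm
  have e : (DCoh.HD M i).restrict hU.fromSpec ≅
      (restrictFunctor φ.hom).obj (DCoh.HD ((DCoh.restrictD j).obj M) i) :=
    (restrictFunctorCongr hfac).app _ ≪≫ (restrictFunctorComp φ.hom j).app (DCoh.HD M i) ≪≫
      (restrictFunctor φ.hom).mapIso (Groth.Agent.Helper4.SuppLib.HDRestrictIso j M i).symm
  haveI : (DCoh.HD ((DCoh.restrictD j).obj M) i).IsQuasicoherent := hq i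
  exact (SheafOfModules.isQuasicoherent
      (Spec (CommRingCat.of Γ(X, j.opensRange))).ringCatSheaf).prop_of_iso e.symm
    (inferInstanceAs
      ((restrictFunctor φ.hom).obj (DCoh.HD ((DCoh.restrictD j).obj M) i)).IsQuasicoherent)

/-- a locally strictly perfect complex is, on small affine opens, a bounded complex of finite free
modules -/
theorem exists_free_model (P : CochainComplex X.Modules ℤ) (x : X)
    (h : Groth.Agent.Lead.PerfLib.LocSP P x) :
    ∃ (R : CommRingCat.{u}) (j : Spec (CommRingCat.of R) ⟶ X) (_ : IsOpenImmersion j),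
      x ∈ Set.range j ∧
      ∃ (E : CochainComplex (Spec (CommRingCat.of R)).Modules ℤ) (lo hi : ℤ),
        (∀ i, ∃ n : ℕ, Nonempty (E.X i ≅ FlatMod.freeMod _ n)) ∧
        (∀ i, i < lo → IsZero (E.X i)) ∧ (∀ i, hi < i → IsZero (E.X i)) ∧
        Nonempty (DerivedCategory.Q.obj ((Rc j).obj P) ≅ DerivedCategory.Q.obj E) := by
  obtain ⟨Z, j, hj, ⟨z, rfl⟩, E₀, hE₀, ⟨ψ⟩⟩ := h
  haveI := hj
  obtain ⟨⟨a, b, hvan⟩, hfree⟩ := hE₀
  obtain ⟨W, hzW, hW⟩ := exists_free_nhd E₀ a b hvan hfree z
  obtain ⟨_, ⟨W', hW'aff, rfl⟩, hzW', hsub⟩ :=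
    Z.isBasis_affineOpens.exists_subset_of_mem_open hzW W.isOpen
  have hW'' : IsAffineOpen W' := hW'aff
  let k : Spec (CommRingCat.of Γ(Z, W')) ⟶ Z := hW''.fromSpec
  refine ⟨Γ(Z, W'), k ≫ j, inferInstance, ?_, (Rc k).obj E₀, a, b, ?_, ?_, ?_, ?_⟩
  · have hz : z ∈ Set.range k := by
      rw [hW''.range_fromSpec]
      exact hzW'
    obtain ⟨s, hs⟩ := hz
    exact ⟨s, by rw [← hs]; rfl⟩
  · intro i
    obtain ⟨n, hn⟩ := hW i
    exact ⟨n, ((hn.of_le hsub).fromSpec hW'')⟩
  · intro i hi
    exact (restrictFunctor k).map_isZero (hvan i (Or.inl hi))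
  · intro i hi
    exact (restrictFunctor k).map_isZero (hvan i (Or.inr hi))
  · exact ⟨DerivedCategory.Q.mapIso (rcCompIso j k (k ≫ j) rfl P) ≪≫ qRestrictIso k ψ⟩

end Groth.Agent.Helper9.RH6f
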