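import Mathlib
import Groth.Prelude.Def_DCoh4
import Groth.Prelude.Def_CxOX
import Groth.Prelude.Def_KLin
import Groth.Agent.Helper9.RH4b
import Groth.Agent.Helper9.RH6b
import Groth.Agent.Helper9.RH6c
import Groth.Agent.Helper9.RH6d
import Groth.Agent.Helper9.RH6f
import Groth.Agent.Helper9.QP3
import Groth.Agent.Helper9.QP6
import Groth.Agent.Helper9.QP7
import Groth.Agent.Helper4.FinLocFree2

/-! `RHom(P, L)|_S` has quasi-coherent cohomology when `Spec R ⟶ X` is an open immersion over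
which `P` is a bounded complex of finite free modules. -/

set_option autoImplicit false
set_option linter.style.haveILetI false
set_option linter.unusedVariables false
set_option linter.unusedSectionVars false
universe u

namespace Groth.Agent.Helper9.RH7

open CategoryTheory CategoryTheory.Limits AlgebraicGeometry DerivedCategory
open Groth.Agent.Lead.PerfLib Groth.Agent.Helper9.RH1 Groth.Agent.Helper9.QP1
  Groth.Agent.Helper9.QP2 Groth.Agent.Helper9.LCAff1

attribute [local instance] HasDerivedCategory.standard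
attribute [local instance 2000] QP6.ovr

variable (R : CommRingCat.{u})


/-- the base case of the dévissage -/
lemma goodE_base (a : R) :
    GoodE (DCoh.IsQCohD (X := Spec (CommRingCat.of R)))
      ((singleFunctor (Spec (CommRingCat.of R)).Modules 0).map (a • 𝟙 (GU (Xa (X := Spec (CommRingCat.of R)) R a))))
      ((singleFunctor (Spec (CommRingCat.of R)).Modules 0).map (a • 𝟙 (GU (⊤ : (Spec (CommRingCat.of R)).Opens))))
      ((singleFunctor (Spec (CommRingCat.of R)).Modules 0).map (GUmap (le_top : Xa (X := Spec (CommRingCat.of R)) R a ≤ ⊤))) := by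
  have h := Groth.Agent.Helper9.QP3.goodOpen_affine (X := Spec (CommRingCat.of R)) R a ⊤ (isAffineOpen_top (Spec (CommRingCat.of R)))
    (Xa (X := Spec (CommRingCat.of R)) R a) le_top (by rw [top_inf_eq])
  have h2 := Groth.Agent.Helper9.RH6b.goodE_of_good h
  rw [Functor.map_smul, Functor.map_smul, CategoryTheory.Functor.map_id,
    CategoryTheory.Functor.map_id]
  exact h2

lemma isFree_of_free {M : (Spec (CommRingCat.of R)).Modules} (h : ∃ n : ℕ, Nonempty (M ≅ FlatMod.freeMod _ n)) :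
    Groth.Agent.Helper9.RH6c.IsFree (O := (Spec (CommRingCat.of R)).sheaf) M := h

variable {X : Scheme.{u}} (j : Spec (CommRingCat.of R) ⟶ X) [IsOpenImmersion j]
  (P : CochainComplex X.Modules ℤ) (hP : DCoh.IsKFlat P) [DCoh.HasLTensorCx P]
  {R' : DCoh.D X ⥤ DCoh.D X} (adj : DCoh.LTensorCx P ⊣ R')
  (L : DCoh.D X) (hL : DCoh.IsQCohD L)
  (E : CochainComplex (Spec (CommRingCat.of R)).Modules ℤ) (lo hi : ℤ)
  (hE : ∀ i, ∃ n : ℕ, Nonempty (E.X i ≅ FlatMod.freeMod _ n))
  (hlo : ∀ i, i < lo → IsZero (E.X i)) (hhi : ∀ i, hi < i → IsZero (E.X i))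
  (e : DerivedCategory.Q.obj ((Rc j).obj P) ≅ DerivedCategory.Q.obj E)

include hE hlo hhi in
lemma isKFlat_E : DCoh.IsKFlat E := by
  apply Groth.Agent.Helper9.Lpull5.isKFlat_of_isStrictlyPerfect
  refine ⟨⟨lo, hi, ?_⟩, ?_⟩
  · intro i hi'
    rcases hi' with h | h
    · exact hlo i h
    · exact hhi i h
  · intro i
    obtain ⟨n, ⟨ε⟩⟩ := hE i
    exact Groth.Agent.Helper4.FinLocFree2.isFinLocFree_of_iso ε.symm
      (Groth.Agent.Helper4.FinLocFree2.isFinLocFree_freeMod n)

include hP adj hL hE hlo hhi e in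
theorem isQCohD_restrict_rhom : DCoh.IsQCohD ((DCoh.restrictD j).obj (R'.obj L)) := by
  have hEk : DCoh.IsKFlat E := isKFlat_E R E lo hi hE hlo hhi
  haveI : DCoh.HasLTensorCx E := Groth.Agent.Helper9.RH5.hasLTensorCx_of_isKFlat E hEk
  haveI i2 : @ModSite.HasLTensorCx _ _ _ (Spec (CommRingCat.of R)).sheaf E :=
    ‹DCoh.HasLTensorCx E›
  have hPj : DCoh.IsKFlat ((Rc j).obj P) := Groth.Agent.Helper9.Lpull5.isKFlat_restrict j P hP
  haveI : DCoh.HasLTensorCx ((Rc j).obj P) :=
    Groth.Agent.Helper9.RH5.hasLTensorCx_of_isKFlat _ hPj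
  obtain ⟨κ⟩ := Groth.Agent.Helper9.RH6f.nonempty_ltensor_iso e
  apply Groth.Agent.Helper9.QP6.isQCohD_of_locHom R
  intro a i
  apply Groth.Agent.Helper9.RH6b.locHom_of_locE
  obtain ⟨G', hG'⟩ : ∃ G' : (Spec (CommRingCat.of R)).Modules, G' = GU (Xa (X := Spec (CommRingCat.of R)) R a) := ⟨_, rfl⟩
  obtain ⟨G, hG⟩ : ∃ G : (Spec (CommRingCat.of R)).Modules, G = GU (⊤ : (Spec (CommRingCat.of R)).Opens) := ⟨_, rfl⟩
  obtain ⟨r, hr⟩ : ∃ r : GU (Xa (X := Spec (CommRingCat.of R)) R a) ⟶ GU (⊤ : (Spec (CommRingCat.of R)).Opens),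
    r = GUmap (le_top : Xa (X := Spec (CommRingCat.of R)) R a ≤ ⊤) := ⟨_, rfl⟩
  rw [← hr]
  have hα' : a • 𝟙 ((singleFunctor (Spec (CommRingCat.of R)).Modules i).obj (GU (Xa (X := Spec (CommRingCat.of R)) R a))) =
      (singleFunctor (Spec (CommRingCat.of R)).Modules i).map (a • 𝟙 (GU (Xa (X := Spec (CommRingCat.of R)) R a))) := by
    rw [Functor.map_smul, CategoryTheory.Functor.map_id]
  have hα : a • 𝟙 ((singleFunctor (Spec (CommRingCat.of R)).Modules i).obj (GU (⊤ : (Spec (CommRingCat.of R)).Opens))) =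
      (singleFunctor (Spec (CommRingCat.of R)).Modules i).map (a • 𝟙 (GU (⊤ : (Spec (CommRingCat.of R)).Opens))) := by
    rw [Functor.map_smul, CategoryTheory.Functor.map_id]
  rw [hα', hα]
  have hc : (a • 𝟙 (GU (Xa (X := Spec (CommRingCat.of R)) R a))) ≫ r = r ≫ (a • 𝟙 (GU (⊤ : (Spec (CommRingCat.of R)).Opens))) := by
    rw [Linear.smul_comp, Linear.comp_smul, Category.id_comp, Category.comp_id]
  have hbase := goodE_base R a
  rw [← hr] at hbase
  have key := Groth.Agent.Helper9.RH6c.goodE_bounded_free (O := (Spec (CommRingCat.of R)).sheaf) r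
    (a • 𝟙 (GU (Xa (X := Spec (CommRingCat.of R)) R a))) (a • 𝟙 (GU (⊤ : (Spec (CommRingCat.of R)).Opens))) hc hbase E
    (fun i => isFree_of_free R (hE i)) lo hi hlo hhi
  have key2 := key ((DCoh.restrictD j).obj L)
    (Groth.Agent.Helper9.QP7.isQCohD_restrictD j L hL) (-i)
  let Φiso := Functor.isoWhiskerLeft (singleFunctor (Spec (CommRingCat.of R)).Modules i) κ ≪≫
    Groth.Agent.Helper9.RH6d.chain (O := (Spec (CommRingCat.of R)).sheaf) E hEk i
  have key3 : LocE
      ((DCoh.LTensorCx ((Rc j).obj P)).map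
        ((singleFunctor (Spec (CommRingCat.of R)).Modules i).map (a • 𝟙 (GU (Xa (X := Spec (CommRingCat.of R)) R a)))))
      ((DCoh.LTensorCx ((Rc j).obj P)).map
        ((singleFunctor (Spec (CommRingCat.of R)).Modules i).map (a • 𝟙 (GU (⊤ : (Spec (CommRingCat.of R)).Opens)))))
      ((DCoh.LTensorCx ((Rc j).obj P)).map ((singleFunctor (Spec (CommRingCat.of R)).Modules i).map r))
      ((DCoh.restrictD j).obj L) :=
    LocE.of_iso key2 (Φiso.app _) (Φiso.app _) (Φiso.hom.naturality r)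
      (Φiso.hom.naturality (a • 𝟙 (GU (Xa (X := Spec (CommRingCat.of R)) R a))))
      (Φiso.hom.naturality (a • 𝟙 (GU (⊤ : (Spec (CommRingCat.of R)).Opens))))
  exact LocE.of_equiv key3
    (Groth.Agent.Helper9.RH4b.homEquiv j P hP adj _ L)
    (Groth.Agent.Helper9.RH4b.homEquiv j P hP adj _ L)
    (Groth.Agent.Helper9.RH4b.homEquiv_zero j P hP adj _ L)
    (Groth.Agent.Helper9.RH4b.homEquiv_zero j P hP adj _ L)
    (fun ψ => Groth.Agent.Helper9.RH4b.homEquiv_naturality j P hP adj _ L ψ)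
    (fun ψ => Groth.Agent.Helper9.RH4b.homEquiv_naturality j P hP adj _ L ψ)
    (fun ψ => Groth.Agent.Helper9.RH4b.homEquiv_naturality j P hP adj _ L ψ)

end Groth.Agent.Helper9.RH7
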