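import Mathlib
import Groth.Agent.Helper9.RH1

/-! Maps out of the cone of a morphism which is an isomorphism on high cohomology; transfer of the
two halves of the localization property `LocE` along comparison maps. -/

set_option autoImplicit false
set_option linter.style.haveILetI false
set_option linter.unusedVariables false
set_option linter.unusedSectionVars false

namespace Groth.Agent.Helper9.RH8a

open CategoryTheory CategoryTheory.Limits Pretriangulated DerivedCategory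
open Groth.Agent.Helper9.RH1

universe w v u

section Transfer

variable {D : Type*} [Category D] [Preadditive D]
  {H' H K' K M : D} (c' : H' ⟶ K') (c : H ⟶ K) (σH : H' ⟶ H) (σK : K' ⟶ K)
  (w : c' ≫ σK = σH ≫ c)

include w in
lemma locE₁_transfer (βH : H ⟶ H) (βK : K ⟶ K) (wβ : c ≫ βK = βH ≫ c)
    (hinj : Function.Injective (fun ψ : K ⟶ M => c ≫ ψ))
    (h : ∀ ψ : H ⟶ M, σH ≫ ψ = 0 → ∃ n : ℕ, pw βH n ≫ ψ = 0) :
    ∀ ψ : K ⟶ M, σK ≫ ψ = 0 → ∃ n : ℕ, pw βK n ≫ ψ = 0 := by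
  intro ψ hψ
  obtain ⟨n, hn⟩ := h (c ≫ ψ) (by rw [← Category.assoc, ← w, Category.assoc, hψ, comp_zero])
  refine ⟨n, hinj ?_⟩
  show c ≫ pw βK n ≫ ψ = c ≫ 0
  have hp : pw βH n ≫ c = c ≫ pw βK n := pw_comm wβ.symm n
  rw [← Category.assoc, ← hp, Category.assoc, hn, comp_zero]

include w in
lemma locE₂_transfer (βH' : H' ⟶ H') (βK' : K' ⟶ K') (wβ' : c' ≫ βK' = βH' ≫ c')
    (hinj' : Function.Injective (fun ψ : K' ⟶ M => c' ≫ ψ))
    (hsurj : Function.Surjective (fun ψ : K ⟶ M => c ≫ ψ))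
    (h : ∀ t : H' ⟶ M, ∃ (n : ℕ) (ψ : H ⟶ M), pw βH' n ≫ t = σH ≫ ψ) :
    ∀ t : K' ⟶ M, ∃ (n : ℕ) (ψ : K ⟶ M), pw βK' n ≫ t = σK ≫ ψ := by
  intro t
  obtain ⟨n, ψH, hn⟩ := h (c' ≫ t)
  obtain ⟨ψ, hψ⟩ := hsurj ψH
  refine ⟨n, ψ, hinj' ?_⟩
  show c' ≫ pw βK' n ≫ t = c' ≫ σK ≫ ψ
  have hp : pw βH' n ≫ c' = c' ≫ pw βK' n := pw_comm wβ'.symm n
  rw [← Category.assoc, ← hp, Category.assoc, hn, ← Category.assoc c', w, Category.assoc]
  congr 1
  exact hψ.symm

end Transfer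

variable {A : Type u} [Category.{v} A] [Abelian A] [HasDerivedCategory.{w} A]

/-- `f` is an isomorphism on `H^m` for `m > N` and an epimorphism on `H^N` -/
def QIsoAbove (N : ℤ) {X Y : DerivedCategory A} (f : X ⟶ Y) : Prop :=
  (∀ m : ℤ, N < m → IsIso ((homologyFunctor A m).map f)) ∧ Epi ((homologyFunctor A N).map f)

lemma isLE_cone (T : Triangle (DerivedCategory A)) (hT : T ∈ distTriang _) (N : ℤ)
    (hf : QIsoAbove N T.mor₁) : T.obj₃.IsLE (N - 1) := by
  rw [isLE_iff]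
  intro m hm
  have hepi : Epi ((homologyFunctor A m).map T.mor₁) := by
    by_cases h : m = N
    · subst h; exact hf.2
    · haveI := hf.1 m (by omega)
      infer_instance
  haveI := hf.1 (m + 1) (by omega)
  have h1 : (homologyFunctor A m).map T.mor₂ = 0 :=
    (HomologySequence.epi_homologyMap_mor₁_iff _ hT m).1 hepi
  have h2 : HomologySequence.δ T m (m + 1) rfl = 0 :=
    (HomologySequence.mono_homologyMap_mor₁_iff _ hT m (m + 1) rfl).1 inferInstance
  exact (HomologySequence.exact₃ _ hT m (m + 1) rfl).isZero_of_both_zeros h1 h2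

variable {X Y : DerivedCategory A} (f : X ⟶ Y) (N : ℤ) (hf : QIsoAbove N f)
  (M : DerivedCategory A) (r : ℤ) [M.IsGE r]

include hf in
lemma injective_precomp (hN : N ≤ r) : Function.Injective (fun ψ : Y ⟶ M => f ≫ ψ) := by
  obtain ⟨Z, g, δ, hT⟩ := distinguished_cocone_triangle f
  haveI : Z.IsLE (N - 1) := isLE_cone _ hT N hf
  intro ψ₁ ψ₂ h
  have h0 : f ≫ (ψ₁ - ψ₂) = 0 := by
    rw [Preadditive.comp_sub]
    exact sub_eq_zero.2 h
  obtain ⟨χ, hχ⟩ := Triangle.yoneda_exact₂ _ hT (ψ₁ - ψ₂) h0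
  have hχ0 : χ = 0 := TStructure.t.zero_of_isLE_of_isGE χ (N - 1) r (by omega)
    (show TStructure.t.IsLE Z (N - 1) from inferInstance) inferInstance
  have : ψ₁ - ψ₂ = 0 := by
    rw [hχ, hχ0]
    exact comp_zero
  exact sub_eq_zero.1 this

include hf in
lemma surjective_precomp (hN : N < r) : Function.Surjective (fun ψ : Y ⟶ M => f ≫ ψ) := by
  obtain ⟨Z, g, δ, hT⟩ := distinguished_cocone_triangle f
  haveI : Z.IsLE (N - 1) := isLE_cone _ hT N hf
  intro t
  have hT' := inv_rot_of_distTriang _ hT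
  haveI : (Z⟦(-1 : ℤ)⟧).IsLE N := TStructure.t.isLE_shift Z (N - 1) (-1) N (by omega)
  have h0 : (Triangle.mk f g δ).invRotate.mor₁ ≫ t = 0 :=
    TStructure.t.zero_of_isLE_of_isGE _ N r hN
      (show TStructure.t.IsLE (Z⟦(-1 : ℤ)⟧) N from inferInstance) inferInstance
  obtain ⟨χ, hχ⟩ := Triangle.yoneda_exact₂ _ hT' t h0
  exact ⟨χ, hχ.symm⟩

end Groth.Agent.Helper9.RH8a
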