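import Mathlib
import Groth.Agent.Helper9.QP6

/-! Degreewise version of the criterion `QP6.isQCohD_of_locHom`. -/

set_option autoImplicit false
set_option linter.style.haveILetI false
set_option linter.unusedVariables false
set_option linter.unusedSectionVars false
universe u

namespace Groth.Agent.Helper9.RH8b

open CategoryTheory Limits AlgebraicGeometry Opposite TopologicalSpace DerivedCategory
open Groth.Agent.Helper9 Groth.Agent.Helper9.LCAff1 Groth.Agent.Helper9.QP1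
  Groth.Agent.Helper9.QP2 Groth.Agent.Helper9.QP3 Groth.Agent.Helper9.LC3

attribute [local instance] HasDerivedCategory.standard

section Abstract

variable {A : Type*} [CommRing A] {D : Type*} [Category D] [Preadditive D] [Linear A D]

theorem injective_of_loc {a : A} {G' G Y E : D} (ρ : G' ⟶ G) (φ : Y ⟶ E)
    (hY : LocHom a ρ Y)
    (hE1 : ∀ ψ : G ⟶ E, ρ ≫ ψ = 0 → ∃ n : ℕ, a ^ n • ψ = 0)
    (ha : IsIso (a • 𝟙 G'))
    (hG : Function.Injective (fun ψ : G ⟶ Y => ψ ≫ φ)) :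
    Function.Injective (fun t : G' ⟶ Y => t ≫ φ) := by
  have hinj : ∀ t : G' ⟶ Y, t ≫ φ = 0 → t = 0 := by
    intro t ht
    obtain ⟨n, ψ, hn⟩ := hY.2 t
    obtain ⟨m, hm⟩ := hE1 (ψ ≫ φ) (by
      rw [← Category.assoc, ← hn, Linear.smul_comp, ht, smul_zero])
    have h1 : a ^ m • ψ = 0 := by
      apply hG
      show (a ^ m • ψ) ≫ φ = 0 ≫ φ
      rw [Linear.smul_comp, hm, zero_comp]
    apply eq_zero_of_pow_smul_eq_zero ha (m + n)
    rw [pow_add, mul_smul, hn, ← Linear.comp_smul, h1, comp_zero]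
  intro t₁ t₂ h
  have h' : (t₁ - t₂) ≫ φ = 0 := by
    rw [Preadditive.sub_comp]
    exact sub_eq_zero.2 h
  exact sub_eq_zero.1 (hinj _ h')

theorem surjective_of_loc {a : A} {G' G Y E : D} (ρ : G' ⟶ G) (φ : Y ⟶ E)
    (hE2 : ∀ t : G' ⟶ E, ∃ (n : ℕ) (ψ : G ⟶ E), a ^ n • t = ρ ≫ ψ)
    (ha : IsIso (a • 𝟙 G'))
    (hG : Function.Surjective (fun ψ : G ⟶ Y => ψ ≫ φ)) :
    Function.Surjective (fun t : G' ⟶ Y => t ≫ φ) := by
  intro s
  obtain ⟨n, ψ', hn⟩ := hE2 s
  obtain ⟨ψ, hψ⟩ := hG ψ'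
  obtain ⟨t, ht⟩ := exists_pow_smul_eq (Y := Y) ha n (ρ ≫ ψ)
  refine ⟨t, ?_⟩
  have h1 : a ^ n • (t ≫ φ - s) = 0 := by
    rw [smul_sub, ← Linear.smul_comp, ht, hn, Category.assoc]
    show ρ ≫ ψ ≫ φ - ρ ≫ ψ' = 0
    rw [show ψ ≫ φ = ψ' from hψ, sub_self]
  exact sub_eq_zero.1 (eq_zero_of_pow_smul_eq_zero ha n _ h1)

end Abstract

attribute [local instance 2000] QP6.ovr

variable (R : CommRingCat.{u})

/-- **Degreewise criterion**: the two halves of the localization property, in degrees around `q`,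
imply that `H^q` is quasi-coherent -/
theorem isQCoh_HD_of_loc (E' : DCoh.D (Spec (CommRingCat.of R))) (q : ℤ)
    (h1 : ∀ (a : R) (i : ℤ), (i = q ∨ i = q + 1) →
      ∀ ψ : W (GU (⊤ : (Spec (CommRingCat.of R)).Opens)) i ⟶ E',
        (singleFunctor (Spec (CommRingCat.of R)).Modules i).map
          (GUmap (le_top : Xa (X := Spec (CommRingCat.of R)) R a ≤ ⊤)) ≫ ψ = 0 →
        ∃ n : ℕ, a ^ n • ψ = 0)
    (h2 : ∀ (a : R) (i : ℤ), (i = q - 1 ∨ i = q) →
      ∀ t : W (GU (Xa (X := Spec (CommRingCat.of R)) R a)) i ⟶ E',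
        ∃ (n : ℕ) (ψ : W (GU (⊤ : (Spec (CommRingCat.of R)).Opens)) i ⟶ E'), a ^ n • t =
          (singleFunctor (Spec (CommRingCat.of R)).Modules i).map
            (GUmap (le_top : Xa (X := Spec (CommRingCat.of R)) R a ≤ ⊤)) ≫ ψ) :
    Coh.IsQCoh (DCoh.HD E' q) := by
  obtain ⟨RG, ⟨dadj⟩⟩ := LCTil2.exists_adj R
  let Y := (DCoh.tildeD R).obj (RG.obj E')
  have hY : DCoh.IsQCohD Y := LCTil1.isQCohD_tildeD R _
  let ε : Y ⟶ E' := dadj.counit.app E'
  have hG : ∀ i : ℤ, Function.Bijective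
      (fun ψ : W (GU (⊤ : (Spec (CommRingCat.of R)).Opens)) i ⟶ Y => ψ ≫ ε) := by
    intro i
    let V := W (ModuleCat.of R R) i
    let LV := (DCoh.tildeD R).obj V
    have htop : Function.Bijective (fun h : LV ⟶ Y => h ≫ ε) := by
      have h1 := LCTil1.bijective_map R (RG.obj E') i
      have h2 := (dadj.homEquiv V E').symm.bijective
      have h3 : (fun h : LV ⟶ Y => h ≫ ε) ∘
          (fun f : V ⟶ RG.obj E' => (DCoh.tildeD R).map f) = ⇑(dadj.homEquiv V E').symm := by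
        funext f
        simp only [Function.comp_apply, Adjunction.homEquiv_counit]
        rfl
      refine (Function.Bijective.of_comp_iff _ h1).1 ?_
      rw [h3]
      exact h2
    let κ : W (GU (⊤ : (Spec (CommRingCat.of R)).Opens)) i ≅ LV :=
      (singleFunctor (Spec (CommRingCat.of R)).Modules i).mapIso
          (LCUnit1.unitIsoGU (Spec (CommRingCat.of R))).symm ≪≫
        (LCTil1.singleIso R i).symm
    have h4 : (fun ψ : W (GU (⊤ : (Spec (CommRingCat.of R)).Opens)) i ⟶ Y => ψ ≫ ε) =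
        (fun h' : LV ⟶ E' => κ.hom ≫ h') ∘ (fun h : LV ⟶ Y => h ≫ ε) ∘
          (fun ψ : W (GU (⊤ : (Spec (CommRingCat.of R)).Opens)) i ⟶ Y => κ.inv ≫ ψ) := by
      funext ψ
      simp
    rw [h4]
    exact (LCTil2.bijective_precomp κ E').comp (htop.comp (LCTil2.bijective_precomp κ.symm Y))
  have hYloc : ∀ (a : R) (i : ℤ), LocHom a ((singleFunctor (Spec (CommRingCat.of R)).Modules i).map
      (GUmap (le_top : Xa (X := Spec (CommRingCat.of R)) R a ≤ ⊤))) Y := fun a i =>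
    QP5.locHom_of_good _ (goodOpen_affine R a ⊤ (isAffineOpen_top _)
      (Xa (X := Spec (CommRingCat.of R)) R a) le_top (top_inf_eq _).symm) Y hY i
  have ha : ∀ (a : R) (i : ℤ),
      IsIso (a • 𝟙 (W (GU (Xa (X := Spec (CommRingCat.of R)) R a)) i)) := by
    intro a i
    haveI := isIso_smul_id_GU R a (Xa (X := Spec (CommRingCat.of R)) R a)
      (isUnit_resA R a le_rfl)
    have e : a • 𝟙 (W (GU (Xa (X := Spec (CommRingCat.of R)) R a)) i) =
        (singleFunctor (Spec (CommRingCat.of R)).Modules i).map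
          (a • 𝟙 (GU (Xa (X := Spec (CommRingCat.of R)) R a))) := by
      rw [Functor.map_smul, CategoryTheory.Functor.map_id]
    rw [e]
    infer_instance
  have hiso : IsIso ((homologyFunctor (Spec (CommRingCat.of R)).Modules q).map ε) := by
    refine LC3.isIso_homologyMap (QP6.𝒢b R) (QP6.isSeparating_𝒢b R) ε q ?_ ?_
    · intro G hG' i hi
      obtain ⟨a, rfl⟩ := hG'
      exact surjective_of_loc _ ε (h2 a i hi) (ha a i) (hG i).2
    · intro G hG' i hi
      obtain ⟨a, rfl⟩ := hG'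
      exact injective_of_loc _ ε (hYloc a i) (h1 a i hi) (ha a i) (hG i).1
  haveI : (DCoh.HD Y q).IsQuasicoherent := hY q
  exact (SheafOfModules.isQuasicoherent (Spec (CommRingCat.of R)).ringCatSheaf).prop_of_iso
    (@asIso _ _ _ _ ((homologyFunctor (Spec (CommRingCat.of R)).Modules q).map ε) hiso)
    (inferInstanceAs (DCoh.HD Y q).IsQuasicoherent)

end Groth.Agent.Helper9.RH8b
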