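import Mathlib
import Groth.Prelude.Def_KFlatSite
import Groth.Agent.Helper9.LTCx5
import Groth.Agent.Helper9.LTCx6
import Groth.Agent.Helper9.PcTensor2
import Groth.Agent.Helper9.Lpull6
import Groth.Agent.Helper9.KFlat12
import Groth.Agent.Helper9.FlatCx

/-! The map `B ⊗^L Z ⟶ B ⊗^L P'` induced by an `n`-quasi-isomorphism `Z ⟶ P'` is an
`(n + b)`-quasi-isomorphism when `B` has no cohomology above `b`. -/

set_option autoImplicit false
set_option linter.style.haveILetI false
set_option linter.unusedVariables false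
set_option linter.unusedSectionVars false
universe u

namespace Groth.Agent.Helper9.RH8c

open CategoryTheory CategoryTheory.Limits HomologicalComplex CochainComplex DerivedCategory
open Groth.Agent.Helper9.Lpull6 Groth.Agent.Helper9.KFlat3 Groth.Agent.Helper9.KFlat4
  Groth.Agent.Helper9.KFlat18

attribute [local instance] HasDerivedCategory.standard

variable {C : Type u} [SmallCategory C] {J : GrothendieckTopology C} {O : Sheaf J CommRingCat.{u}}

theorem isKFlat_single (G : ModSite.Mod O) (hG : ModSite.IsFlat G) (i : ℤ) :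
    ModSite.IsKFlat ((HomologicalComplex.single (ModSite.Mod O) (ComplexShape.up ℤ) i).obj G) := by
  haveI h1 : CochainComplex.IsStrictlyLE
      ((HomologicalComplex.single (ModSite.Mod O) (ComplexShape.up ℤ) i).obj G) i :=
    inferInstanceAs (((CochainComplex.singleFunctor (ModSite.Mod O) i).obj G).IsStrictlyLE i)
  haveI h2 : CochainComplex.IsStrictlyGE
      ((HomologicalComplex.single (ModSite.Mod O) (ComplexShape.up ℤ) i).obj G) i :=
    inferInstanceAs (((CochainComplex.singleFunctor (ModSite.Mod O) i).obj G).IsStrictlyGE i)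
  apply Groth.Agent.Helper9.KFlat12.isKFlat_of_concentrated _ i
  intro n
  by_cases hn : n = i
  · subst hn
    exact Groth.Agent.Helper9.KFlat12.isFlat_of_iso
      (HomologicalComplex.singleObjXSelf (ComplexShape.up ℤ) n G).symm hG
  · exact Groth.Agent.Helper9.FlatCx.isFlat_of_isZero _
      (HomologicalComplex.isZero_single_obj_X (ComplexShape.up ℤ) i G n hn)

lemma isZero_homology_single (G : ModSite.Mod O) (i m : ℤ) (hm : i < m) :
    IsZero (((HomologicalComplex.single (ModSite.Mod O) (ComplexShape.up ℤ) i).obj G).homology m) :=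
  (HomologicalComplex.ExactAt.of_isZero
    (HomologicalComplex.isZero_single_obj_X (ComplexShape.up ℤ) i G m (by omega))).isZero_homology

variable {Z P' : CochainComplex (ModSite.Mod O) ℤ} (g : Z ⟶ P')
  [ModSite.HasLTensorCx Z] [ModSite.HasLTensorCx P']

theorem goodD_ltensorMap_app (B₀ : CochainComplex (ModSite.Mod O) ℤ) (hB₀ : ModSite.IsKFlat B₀)
    (n b : ℤ) (hg : GoodC n g) (hb : ∀ i : ℤ, b < i → IsZero (B₀.homology i)) :
    GoodD (n + b) ((Groth.Agent.Helper9.LTCx6.ltensorMap g).app (DerivedCategory.Q.obj B₀)) := by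
  have h := Groth.Agent.Helper9.LTCx6.ltensorMap_app g B₀
  haveI := Groth.Agent.Helper9.LTCx5.isIso_counit_app P' B₀ hB₀
  haveI := Groth.Agent.Helper9.LTCx5.isIso_counit_app Z B₀ hB₀
  rw [← goodD_comp_iso _ _ ((Groth.Agent.Helper9.LTCx1.counit P').app B₀), h, goodD_iso_comp,
    Groth.Agent.Helper9.LTCx6.τ_app, goodD_Q_map_iff]
  refine Groth.Agent.Helper9.PcTensor1.Good.goodC_map (good_obj (ModSite.tensorBi O) B₀) g (n + b)
    ?_
  intro m hm
  have hcone := coneLE_of_goodC n g hg
  have h0 := Groth.Agent.Helper9.PcTensor2.isZero_homology_tensor (mappingCone g) B₀ hB₀ n b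
    hcone hb m hm
  exact h0.of_iso ((HomologicalComplex.homologyFunctor _ _ m).mapIso (symCx B₀ (mappingCone g)))

end Groth.Agent.Helper9.RH8c
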