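import Mathlib
import Groth.Agent.Helper9.RH1

/-! Transfer of the two halves of `LocE` along natural bijections of Hom sets. -/

set_option autoImplicit false
set_option linter.style.haveILetI false
set_option linter.unusedVariables false
set_option linter.unusedSectionVars false

namespace Groth.Agent.Helper9.RH8e

open CategoryTheory CategoryTheory.Limits
open Groth.Agent.Helper9.RH1

variable {D D' : Type*} [Category D] [Preadditive D] [Category D'] [Preadditive D']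
  {G' G E : D} {α' : G' ⟶ G'} {α : G ⟶ G} {ρ : G' ⟶ G}
  {H' H F : D'} {β' : H' ⟶ H'} {β : H ⟶ H} {σ : H' ⟶ H}
  (Ψ' : (G' ⟶ E) ≃ (H' ⟶ F)) (Ψ : (G ⟶ E) ≃ (H ⟶ F))

theorem part1_of_equiv
    (h : ∀ χ : H ⟶ F, σ ≫ χ = 0 → ∃ n : ℕ, pw β n ≫ χ = 0)
    (hΨ0 : Ψ 0 = 0) (hΨ'0 : Ψ' 0 = 0)
    (hρ : ∀ ψ : G ⟶ E, Ψ' (ρ ≫ ψ) = σ ≫ Ψ ψ)
    (hα : ∀ ψ : G ⟶ E, Ψ (α ≫ ψ) = β ≫ Ψ ψ) :
    ∀ ψ : G ⟶ E, ρ ≫ ψ = 0 → ∃ n : ℕ, pw α n ≫ ψ = 0 := by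
  have hpw : ∀ (n : ℕ) (ψ : G ⟶ E), Ψ (pw α n ≫ ψ) = pw β n ≫ Ψ ψ := by
    intro n
    induction n with
    | zero => intro ψ; simp
    | succ n ih => intro ψ; rw [pw_succ, pw_succ, Category.assoc, hα, ih, Category.assoc]
  intro ψ hψ
  obtain ⟨n, hn⟩ := h (Ψ ψ) (by rw [← hρ, hψ, hΨ'0])
  refine ⟨n, Ψ.injective ?_⟩
  rw [hpw, hn, hΨ0]

theorem part2_of_equiv
    (h : ∀ t : H' ⟶ F, ∃ (n : ℕ) (χ : H ⟶ F), pw β' n ≫ t = σ ≫ χ)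
    (hρ : ∀ ψ : G ⟶ E, Ψ' (ρ ≫ ψ) = σ ≫ Ψ ψ)
    (hα' : ∀ t : G' ⟶ E, Ψ' (α' ≫ t) = β' ≫ Ψ' t) :
    ∀ t : G' ⟶ E, ∃ (n : ℕ) (ψ : G ⟶ E), pw α' n ≫ t = ρ ≫ ψ := by
  have hpw' : ∀ (n : ℕ) (t : G' ⟶ E), Ψ' (pw α' n ≫ t) = pw β' n ≫ Ψ' t := by
    intro n
    induction n with
    | zero => intro t; simp
    | succ n ih => intro t; rw [pw_succ, pw_succ, Category.assoc, hα', ih, Category.assoc]
  intro t
  obtain ⟨n, χ, hn⟩ := h (Ψ' t)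
  refine ⟨n, Ψ.symm χ, Ψ'.injective ?_⟩
  rw [hpw', hn, hρ, Equiv.apply_symm_apply]

end Groth.Agent.Helper9.RH8e
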