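import Mathlib
import Groth.Prelude.Def_DCoh4
import Groth.Prelude.Def_CxOX
import Groth.Prelude.Def_KLin
import Groth.Agent.Helper9.RH7
import Groth.Agent.Helper9.RH8a
import Groth.Agent.Helper9.RH8b
import Groth.Agent.Helper9.RH8c
import Groth.Agent.Helper9.RH8e

/-! `H^q(RHom(P, L)|_S)` is quasi-coherent for `q < r - n` when `S = Spec R ⟶ X` is an open
immersion over which `P` receives an `n`-quasi-isomorphism from a bounded complex of finite free
modules and `L|_S ∈ D^{≥ r}_{QCoh}`. -/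

set_option autoImplicit false
set_option linter.style.haveILetI false
set_option linter.unusedVariables false
set_option linter.unusedSectionVars false
universe u

namespace Groth.Agent.Helper9.RH8d

open CategoryTheory CategoryTheory.Limits AlgebraicGeometry DerivedCategory
open Groth.Agent.Lead.PerfLib Groth.Agent.Helper9.RH1 Groth.Agent.Helper9.QP1
  Groth.Agent.Helper9.QP2 Groth.Agent.Helper9.LCAff1 Groth.Agent.Helper9.Lpull6
  Groth.Agent.Helper9.LC3

attribute [local instance] HasDerivedCategory.standard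
attribute [local instance 2000] QP6.ovr

variable (R : CommRingCat.{u})

variable {X : Scheme.{u}} (j : Spec (CommRingCat.of R) ⟶ X) [IsOpenImmersion j]
  (P : CochainComplex X.Modules ℤ) (hP : DCoh.IsKFlat P) [DCoh.HasLTensorCx P]
  {R' : DCoh.D X ⥤ DCoh.D X} (adj : DCoh.LTensorCx P ⊣ R')
  (L : DCoh.D X) (hL : DCoh.IsQCohD L) (r : ℤ) (hr : ((DCoh.restrictD j).obj L).IsGE r)
  (E : CochainComplex (Spec (CommRingCat.of R)).Modules ℤ) (lo hi : ℤ)
  (hE : ∀ i, ∃ n : ℕ, Nonempty (E.X i ≅ FlatMod.freeMod _ n))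
  (hlo : ∀ i, i < lo → IsZero (E.X i)) (hhi : ∀ i, hi < i → IsZero (E.X i))
  (n : ℤ) (α : DerivedCategory.Q.obj E ⟶ DerivedCategory.Q.obj ((Rc j).obj P))
  (hα : GoodD n α)

/-- scheme-level `ltensorMap` -/
noncomputable def ltMap' {Y : Scheme.{u}} {E' E : CochainComplex Y.Modules ℤ} (q : E' ⟶ E)
    [DCoh.HasLTensorCx E'] [DCoh.HasLTensorCx E] : DCoh.LTensorCx E' ⟶ DCoh.LTensorCx E :=
  @Groth.Agent.Helper9.LTCx6.ltensorMap _ _ _ Y.sheaf E' E q ‹_› ‹_›

include hα in
/-- a roof for `α` with K-flat apex -/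
lemma exists_roof :
    ∃ (Z : CochainComplex (Spec (CommRingCat.of R)).Modules ℤ) (s : Z ⟶ E)
      (g : Z ⟶ (Rc j).obj P), DCoh.IsKFlat Z ∧ QuasiIso s ∧ GoodC n g := by
  obtain ⟨Z', s', hs', g', hfac⟩ := DerivedCategory.right_fac α
  obtain ⟨Z, q, hZ, hq⟩ := Groth.Agent.Helper9.RH5.exists_kflat_resolution Z'
  rw [DerivedCategory.isIso_Q_map_iff_quasiIso] at hs'
  haveI := hs'
  haveI := hq
  refine ⟨Z, q ≫ s', q ≫ g', hZ, inferInstance, ?_⟩
  rw [← goodD_Q_map_iff]
  haveI : IsIso (DerivedCategory.Q.map (q ≫ s')) :=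
    (DerivedCategory.isIso_Q_map_iff_quasiIso _ _).2 inferInstance
  have h1 : DerivedCategory.Q.map (q ≫ g') = DerivedCategory.Q.map (q ≫ s') ≫ α := by
    haveI : IsIso (DerivedCategory.Q.map s') :=
      (DerivedCategory.isIso_Q_map_iff_quasiIso _ _).2 hs'
    rw [hfac, Functor.map_comp, Functor.map_comp, Category.assoc, IsIso.hom_inv_id_assoc]
  rw [h1, goodD_iso_comp]
  exact hα

lemma isFlat_GU' (V : (Spec (CommRingCat.of R)).Opens) :
    @ModSite.IsFlat _ _ _ (Spec (CommRingCat.of R)).sheaf (GU V) :=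
  Groth.Agent.Helper9.QP4b.isFlat_GU V

lemma pw_map_smul (a : R) (i : ℤ) (G : (Spec (CommRingCat.of R)).Modules) (k : ℕ)
    {M : DCoh.D (Spec (CommRingCat.of R))}
    (ψ : (singleFunctor (Spec (CommRingCat.of R)).Modules i).obj G ⟶ M) :
    pw ((singleFunctor (Spec (CommRingCat.of R)).Modules i).map (a • 𝟙 G)) k ≫ ψ = a ^ k • ψ := by
  rw [Functor.map_smul, CategoryTheory.Functor.map_id, Groth.Agent.Helper9.RH6b.pw_smul_id,
    Linear.smul_comp, Category.id_comp]

include hP adj hL hE hlo hhi hα hr in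
/-- the two halves of the localization property for `RHom(P, L)|_S` in a range of degrees -/
theorem loc_parts (a : R) (i : ℤ) :
    (n + i ≤ r →
      ∀ ψ : W (GU (⊤ : (Spec (CommRingCat.of R)).Opens)) i ⟶
          (DCoh.restrictD j).obj (R'.obj L),
        (singleFunctor (Spec (CommRingCat.of R)).Modules i).map
          (GUmap (le_top : Xa (X := Spec (CommRingCat.of R)) R a ≤ ⊤)) ≫ ψ = 0 →
        ∃ k : ℕ, a ^ k • ψ = 0) ∧
    (n + i < r →
      ∀ t : W (GU (Xa (X := Spec (CommRingCat.of R)) R a)) i ⟶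
          (DCoh.restrictD j).obj (R'.obj L),
        ∃ (k : ℕ) (ψ : W (GU (⊤ : (Spec (CommRingCat.of R)).Opens)) i ⟶
          (DCoh.restrictD j).obj (R'.obj L)), a ^ k • t =
          (singleFunctor (Spec (CommRingCat.of R)).Modules i).map
            (GUmap (le_top : Xa (X := Spec (CommRingCat.of R)) R a ≤ ⊤)) ≫ ψ) := by
  haveI := hr
  have hEk : DCoh.IsKFlat E := Groth.Agent.Helper9.RH7.isKFlat_E R E lo hi hE hlo hhi
  haveI : DCoh.HasLTensorCx E := Groth.Agent.Helper9.RH5.hasLTensorCx_of_isKFlat E hEk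
  haveI i2 : @ModSite.HasLTensorCx _ _ _ (Spec (CommRingCat.of R)).sheaf E :=
    ‹DCoh.HasLTensorCx E›
  have hPj : DCoh.IsKFlat ((Rc j).obj P) := Groth.Agent.Helper9.Lpull5.isKFlat_restrict j P hP
  haveI : DCoh.HasLTensorCx ((Rc j).obj P) :=
    Groth.Agent.Helper9.RH5.hasLTensorCx_of_isKFlat _ hPj
  haveI i3 : @ModSite.HasLTensorCx _ _ _ (Spec (CommRingCat.of R)).sheaf ((Rc j).obj P) :=
    ‹DCoh.HasLTensorCx ((Rc j).obj P)›
  obtain ⟨Z, s, g, hZ, hs, hg⟩ := exists_roof R j P E n α hα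
  haveI : DCoh.HasLTensorCx Z := Groth.Agent.Helper9.RH5.hasLTensorCx_of_isKFlat Z hZ
  haveI i4 : @ModSite.HasLTensorCx _ _ _ (Spec (CommRingCat.of R)).sheaf Z :=
    ‹DCoh.HasLTensorCx Z›
  let κ : DCoh.LTensorCx Z ≅ DCoh.LTensorCx E := Groth.Agent.Helper9.RH5.ltIso' s hs
  let c : DCoh.LTensorCx Z ⟶ DCoh.LTensorCx ((Rc j).obj P) := ltMap' g
  obtain ⟨r₀, hr₀⟩ : ∃ r₀ : GU (Xa (X := Spec (CommRingCat.of R)) R a) ⟶
      GU (⊤ : (Spec (CommRingCat.of R)).Opens),
    r₀ = GUmap (le_top : Xa (X := Spec (CommRingCat.of R)) R a ≤ ⊤) := ⟨_, rfl⟩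
  rw [← hr₀]
  have hc : (a • 𝟙 (GU (Xa (X := Spec (CommRingCat.of R)) R a))) ≫ r₀ =
      r₀ ≫ (a • 𝟙 (GU (⊤ : (Spec (CommRingCat.of R)).Opens))) := by
    rw [Linear.smul_comp, Linear.comp_smul, Category.id_comp, Category.comp_id]
  have hbase := Groth.Agent.Helper9.RH7.goodE_base R a
  rw [← hr₀] at hbase
  have key := Groth.Agent.Helper9.RH6c.goodE_bounded_free (O := (Spec (CommRingCat.of R)).sheaf) r₀
    (a • 𝟙 (GU (Xa (X := Spec (CommRingCat.of R)) R a)))
    (a • 𝟙 (GU (⊤ : (Spec (CommRingCat.of R)).Opens))) hc hbase E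
    (fun i => Groth.Agent.Helper9.RH7.isFree_of_free R (hE i)) lo hi hlo hhi
  have key2 := key ((DCoh.restrictD j).obj L)
    (Groth.Agent.Helper9.QP7.isQCohD_restrictD j L hL) (-i)
  -- the comparison transformation
  let ctot := (Groth.Agent.Helper9.RH6d.chain (O := (Spec (CommRingCat.of R)).sheaf) E hEk i).inv ≫
    Functor.whiskerLeft (singleFunctor (Spec (CommRingCat.of R)).Modules i) (κ.inv ≫ c)
  have hgood : ∀ G : (Spec (CommRingCat.of R)).Modules,
      @ModSite.IsFlat _ _ _ (Spec (CommRingCat.of R)).sheaf G →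
      Groth.Agent.Helper9.RH8a.QIsoAbove (n + i) (ctot.app G) := by
    intro G hG
    have h1 := Groth.Agent.Helper9.RH8c.goodD_ltensorMap_app
      (O := (Spec (CommRingCat.of R)).sheaf) g
      ((HomologicalComplex.single (Spec (CommRingCat.of R)).Modules (ComplexShape.up ℤ) i).obj G)
      (Groth.Agent.Helper9.RH8c.isKFlat_single G hG i) n i hg
      (fun m hm => Groth.Agent.Helper9.RH8c.isZero_homology_single G i m hm)
    have h2 : GoodD (n + i) (ctot.app G) := by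
      haveI e1 : IsIso ((Groth.Agent.Helper9.RH6d.chain
          (O := (Spec (CommRingCat.of R)).sheaf) E hEk i).inv.app G) :=
        ⟨⟨(Groth.Agent.Helper9.RH6d.chain
          (O := (Spec (CommRingCat.of R)).sheaf) E hEk i).hom.app G,
          Iso.inv_hom_id_app _ _, Iso.hom_inv_id_app _ _⟩⟩
      haveI e2 : IsIso (κ.inv.app
          ((singleFunctor (Spec (CommRingCat.of R)).Modules i).obj G)) :=
        ⟨⟨κ.hom.app _, Iso.inv_hom_id_app _ _, Iso.hom_inv_id_app _ _⟩⟩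
      exact (@goodD_iso_comp _ _ _ _ (n + i) _ _ _ _ e1 _).2
        ((@goodD_iso_comp _ _ _ _ (n + i) _ _ _ _ e2 _).2 h1)
    exact ⟨h2.1, h2.2⟩
  have hGa := hgood _ (isFlat_GU' R (Xa (X := Spec (CommRingCat.of R)) R a))
  have hGt := hgood _ (isFlat_GU' R (⊤ : (Spec (CommRingCat.of R)).Opens))
  have hr' : IsGE ((DCoh.restrictD j).obj L) r := hr
  constructor
  · intro hi ψ hψ
    have p1 := Groth.Agent.Helper9.RH8a.locE₁_transfer
      (M := (DCoh.restrictD j).obj L) (ctot.app _) (ctot.app _) _ _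
      (ctot.naturality r₀).symm _ _
      (ctot.naturality (a • 𝟙 (GU (⊤ : (Spec (CommRingCat.of R)).Opens)))).symm
      (@Groth.Agent.Helper9.RH8a.injective_precomp _ _ _ _ _ _ _ (n + i) hGt _ r hr' hi) key2.1
    obtain ⟨k, hk⟩ := Groth.Agent.Helper9.RH8e.part1_of_equiv
      (Groth.Agent.Helper9.RH4b.homEquiv j P hP adj _ L)
      (Groth.Agent.Helper9.RH4b.homEquiv j P hP adj _ L) p1
      (Groth.Agent.Helper9.RH4b.homEquiv_zero j P hP adj _ L)
      (Groth.Agent.Helper9.RH4b.homEquiv_zero j P hP adj _ L)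
      (fun ψ => Groth.Agent.Helper9.RH4b.homEquiv_naturality j P hP adj _ L ψ)
      (fun ψ => Groth.Agent.Helper9.RH4b.homEquiv_naturality j P hP adj _ L ψ) ψ hψ
    exact ⟨k, by rw [← pw_map_smul]; exact hk⟩
  · intro hi t
    have p2 := Groth.Agent.Helper9.RH8a.locE₂_transfer
      (M := (DCoh.restrictD j).obj L) (ctot.app _) (ctot.app _) _ _
      (ctot.naturality r₀).symm _ _
      (ctot.naturality (a • 𝟙 (GU (Xa (X := Spec (CommRingCat.of R)) R a)))).symm
      (@Groth.Agent.Helper9.RH8a.injective_precomp _ _ _ _ _ _ _ (n + i) hGa _ r hr' hi.le)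
      (@Groth.Agent.Helper9.RH8a.surjective_precomp _ _ _ _ _ _ _ (n + i) hGt _ r hr' hi) key2.2
    obtain ⟨k, ψ, hk⟩ := Groth.Agent.Helper9.RH8e.part2_of_equiv
      (Groth.Agent.Helper9.RH4b.homEquiv j P hP adj _ L)
      (Groth.Agent.Helper9.RH4b.homEquiv j P hP adj _ L) p2
      (fun ψ => Groth.Agent.Helper9.RH4b.homEquiv_naturality j P hP adj _ L ψ)
      (fun ψ => Groth.Agent.Helper9.RH4b.homEquiv_naturality j P hP adj _ L ψ) t
    exact ⟨k, ψ, by rw [← pw_map_smul]; exact hk⟩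

include hP adj hL hE hlo hhi hα hr in
theorem isQCoh_HD_restrict_rhom (q : ℤ) (hq : q < r - n) :
    Coh.IsQCoh (DCoh.HD ((DCoh.restrictD j).obj (R'.obj L)) q) := by
  apply Groth.Agent.Helper9.RH8b.isQCoh_HD_of_loc R
  · intro a i hi'
    exact (loc_parts R j P hP adj L hL r hr E lo hi hE hlo hhi n α hα a i).1 (by omega)
  · intro a i hi'
    exact (loc_parts R j P hP adj L hL r hr E lo hi hE hlo hhi n α hα a i).2 (by omega)

end Groth.Agent.Helper9.RH8d
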