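import Mathlib
import Groth.Prelude.Def_DCoh4
import Groth.Prelude.Def_CxOX
import Groth.Prelude.Def_KLin
import Groth.Agent.Helper9.RH8d
import Groth.Agent.Helper9.RH10b
import Groth.Agent.Helper4.SecDict

/-! Finite generation of `Hom(O[-k], M)` for `M ∈ D_QCoh(Spec R)` with `H^k(M)` of finite type. -/

set_option autoImplicit false
set_option linter.style.haveILetI false
set_option linter.unusedVariables false
set_option linter.unusedSectionVars false
universe u

namespace Groth.Agent.Helper9.RH10c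

open CategoryTheory CategoryTheory.Limits AlgebraicGeometry DerivedCategory
open Groth.Agent.Lead.PerfLib Groth.Agent.Helper9.RH1 Groth.Agent.Helper9.QP1
  Groth.Agent.Helper9.QP2 Groth.Agent.Helper9.QP3 Groth.Agent.Helper9.LCAff1
  Groth.Agent.Helper9.Lpull6 Groth.Agent.Helper9.LC3 Groth.Agent.Helper9.RH10a

attribute [local instance] HasDerivedCategory.standard
attribute [local instance 2000] QP6.ovr

section KK

variable {X : Scheme.{u}} (i : ℤ) (E : DCoh.D X)

lemma kk_add (U : X.Opens) (ψ ψ' : W (GU U) i ⟶ E) :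
    kk i E U (ψ + ψ') = kk i E U ψ + kk i E U ψ' := by
  unfold kk
  rw [Functor.map_add, Preadditive.comp_add, sec_add]

variable (A : Type u) [CommRing A] [X.Over (Spec (CommRingCat.of A))]

/-- `a ↦ a|_U` as a ring homomorphism -/
noncomputable def resHom (U : X.Opens) : A →+* Γ(X, U) :=
  (X.presheaf.map (homOfLE (le_top : U ≤ ⊤)).op).hom.comp
    (Coh.toGlobal (X ↘ Spec (CommRingCat.of A)))

lemma resHom_apply (U : X.Opens) (a : A) : resHom A U a = resA A a U := rfl

/-- `kk` as a semilinear map -/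
noncomputable def kkLin (U : X.Opens) :
    (W (GU U) i ⟶ E) →ₛₗ[resHom A U] Γ((homologyFunctor X.Modules i).obj E, U) where
  toFun := kk i E U
  map_add' := kk_add i E U
  map_smul' a ψ := by
    rw [kk_smul, resHom_apply]

end KK

variable (R : CommRingCat.{u})

lemma resHom_surjective :
    Function.Surjective (resHom (X := Spec (CommRingCat.of R)) R
      (⊤ : (Spec (CommRingCat.of R)).Opens)) := by
  intro y
  refine ⟨(Scheme.ΓSpecIso (CommRingCat.of R)).hom y, ?_⟩
  have h : Coh.toGlobal (Spec (CommRingCat.of R) ↘ Spec (CommRingCat.of R))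
      ((Scheme.ΓSpecIso (CommRingCat.of R)).hom y) = y := by
    unfold Coh.toGlobal
    have h0 : (Spec (CommRingCat.of R) ↘ Spec (CommRingCat.of R)) =
        𝟙 (Spec (CommRingCat.of R)) := rfl
    rw [h0]
    simp
    change ((Scheme.ΓSpecIso (CommRingCat.of R)).hom ≫
      (Scheme.ΓSpecIso (CommRingCat.of R)).inv) y = y
    rw [Iso.hom_inv_id]
    rfl
  have h1 : (homOfLE (le_top : (⊤ : (Spec (CommRingCat.of R)).Opens) ≤ ⊤)) = 𝟙 _ :=
    Subsingleton.elim _ _
  have h2 : ∀ z : Γ(Spec (CommRingCat.of R), ⊤),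
      (Spec (CommRingCat.of R)).presheaf.map
        (homOfLE (le_top : (⊤ : (Spec (CommRingCat.of R)).Opens) ≤ ⊤)).op z = z := by
    intro z
    rw [h1, op_id, CategoryTheory.Functor.map_id]
    rfl
  exact (h2 _).trans h

/-- base case -/
theorem finite_hom_GU_top (M : DCoh.D (Spec (CommRingCat.of R))) (k : ℤ)
    (hq : DCoh.IsQCohD M)
    (hft : SheafOfModules.IsFiniteType (R := (Spec (CommRingCat.of R)).ringCatSheaf)
      (DCoh.HD M k)) :
    Module.Finite R (W (GU (⊤ : (Spec (CommRingCat.of R)).Opens)) k ⟶ M) := by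
  have hU : IsAffineOpen (⊤ : (Spec (CommRingCat.of R)).Opens) := isAffineOpen_top _
  have hfin : Module.Finite Γ(Spec (CommRingCat.of R), ⊤) Γ(DCoh.HD M k, ⊤) :=
    Groth.Agent.Helper4.SecDict.finite_sections hU (DCoh.HD M k) (hq k) hft
  haveI : RingHomSurjective (resHom (X := Spec (CommRingCat.of R)) R
      (⊤ : (Spec (CommRingCat.of R)).Opens)) := ⟨resHom_surjective R⟩
  exact (LinearMap.finite_iff_of_bijective (kkLin k M R ⊤) (kk_bijective k M hq ⊤ hU)).2 hfin


lemma additive_of_isLeftAdjoint {C D : Type*} [Category C] [Category D] [Preadditive C]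
    [Preadditive D] [HasBinaryBiproducts C] [HasBinaryBiproducts D] (F : C ⥤ D)
    [F.IsLeftAdjoint] : F.Additive := by
  haveI : PreservesBinaryBiproducts F := preservesBinaryBiproducts_of_preservesBinaryCoproducts F
  exact Functor.additive_of_preservesBinaryBiproducts F

section HomEquiv

variable {Z X : Scheme.{u}} (j : Z ⟶ X) [IsOpenImmersion j]
  (P : CochainComplex X.Modules ℤ) (hP : DCoh.IsKFlat P) [DCoh.HasLTensorCx P]
  [DCoh.HasLTensorCx ((Rc j).obj P)]
  {R' : DCoh.D X ⥤ DCoh.D X} (adj : DCoh.LTensorCx P ⊣ R')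

lemma homEquiv_add (B : DCoh.D Z) (M : DCoh.D X)
    (g g' : B ⟶ (DCoh.restrictD j).obj (R'.obj M)) :
    Groth.Agent.Helper9.RH4b.homEquiv j P hP adj B M (g + g') =
      Groth.Agent.Helper9.RH4b.homEquiv j P hP adj B M g +
        Groth.Agent.Helper9.RH4b.homEquiv j P hP adj B M g' := by
  haveI : (DCoh.LTensorCx P).IsLeftAdjoint := adj.isLeftAdjoint
  haveI : (DCoh.LTensorCx P).Additive := additive_of_isLeftAdjoint _
  rw [Groth.Agent.Helper9.RH4b.homEquiv_apply, Groth.Agent.Helper9.RH4b.homEquiv_apply,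
    Groth.Agent.Helper9.RH4b.homEquiv_apply]
  simp only [Functor.map_add, Preadditive.add_comp, Preadditive.comp_add]

end HomEquiv

/-- the linear structure, on the site-level category of modules -/
@[reducible] noncomputable def linMS :
    Linear R (ModSite.Mod (Spec (CommRingCat.of R)).sheaf) :=
  KLin.linearOver R (Spec (CommRingCat.of R))

attribute [local instance] linMS

lemma tensLF_map_smul (E : CochainComplex (Spec (CommRingCat.of R)).Modules ℤ)
    (hfree : ∀ i, Groth.Agent.Helper9.RH6c.IsFree (O := (Spec (CommRingCat.of R)).sheaf) (E.X i))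
    (G : (Spec (CommRingCat.of R)).Modules) (a : R) :
    (Groth.Agent.Helper9.LTCx4.tensLF E).map (a • 𝟙 G) =
      a • 𝟙 ((Groth.Agent.Helper9.LTCx4.tensLF E).obj G) :=
  Groth.Agent.Helper9.RH10b.νr_smul (O := (Spec (CommRingCat.of R)).sheaf) G E hfree a

lemma shift_Q_map_smul (K : CochainComplex (Spec (CommRingCat.of R)).Modules ℤ) (φ : K ⟶ K)
    (a : R) (h : φ = a • 𝟙 K) (q : ℤ) :
    (shiftFunctor (DCoh.D (Spec (CommRingCat.of R))) q).map (DerivedCategory.Q.map φ) =
      a • 𝟙 _ := by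
  subst h
  rw [Functor.map_smul, Functor.map_smul, CategoryTheory.Functor.map_id,
    CategoryTheory.Functor.map_id]

lemma comp_map_smul (E : CochainComplex (Spec (CommRingCat.of R)).Modules ℤ)
    (hfree : ∀ i, Groth.Agent.Helper9.RH6c.IsFree (O := (Spec (CommRingCat.of R)).sheaf) (E.X i))
    (G : (Spec (CommRingCat.of R)).Modules) (a : R) (q : ℤ) :
    (Groth.Agent.Helper9.LTCx4.tensLF E ⋙ (DerivedCategory.Q ⋙
      shiftFunctor (DerivedCategory (ModSite.Mod (Spec (CommRingCat.of R)).sheaf)) q)).map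
        (a • 𝟙 G) = a • 𝟙 _ :=
  shift_Q_map_smul R _ _ a (tensLF_map_smul R E hfree G a) q

lemma smul_aux {D : Type*} [Category D] [Preadditive D] {S : Type*} [CommRing S] [Linear S D]
    {A B C : D} (c : A ⟶ B) (t : B ⟶ B) (u : A ⟶ A) (x : B ⟶ C) (a : S)
    (h2 : u ≫ c = c ≫ t) (hu : u = a • 𝟙 A) : c ≫ t ≫ x = a • (c ≫ x) := by
  rw [← Category.assoc, ← h2, hu, Category.assoc, Linear.smul_comp, Category.id_comp]

section Main

variable {X : Scheme.{u}} (j : Spec (CommRingCat.of R) ⟶ X) [IsOpenImmersion j]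
  (P : CochainComplex X.Modules ℤ) (hP : DCoh.IsKFlat P) [DCoh.HasLTensorCx P]
  {R' : DCoh.D X ⥤ DCoh.D X} (adj : DCoh.LTensorCx P ⊣ R')
  (L : DCoh.D X) (hL : DCoh.IsQCohD L) (r : ℤ) (hr : ((DCoh.restrictD j).obj L).IsGE r)
  (E : CochainComplex (Spec (CommRingCat.of R)).Modules ℤ) (lo hi : ℤ)
  (hE : ∀ i, ∃ n : ℕ, Nonempty (E.X i ≅ FlatMod.freeMod _ n))
  (hlo : ∀ i, i < lo → IsZero (E.X i)) (hhi : ∀ i, hi < i → IsZero (E.X i))
  (n : ℤ) (α : DerivedCategory.Q.obj E ⟶ DerivedCategory.Q.obj ((Rc j).obj P))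
  (hα : GoodD n α)

set_option maxHeartbeats 800000 in
include hP adj hL hE hlo hhi hα hr in
/-- `Hom(O[-q], RHom(P, L)|_S)` is a finite `R`-module for `n + q ≤ r` -/
theorem finite_hom_restrict_rhom [IsNoetherianRing R]
    (hLc : ∀ k : ℤ, SheafOfModules.IsFiniteType (R := (Spec (CommRingCat.of R)).ringCatSheaf)
      (DCoh.HD ((DCoh.restrictD j).obj L) k))
    (q : ℤ) (hq : n + q ≤ r) :
    Module.Finite R (W (GU (⊤ : (Spec (CommRingCat.of R)).Opens)) q ⟶
      (DCoh.restrictD j).obj (R'.obj L)) := by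
  haveI := hr
  have hEk : DCoh.IsKFlat E := Groth.Agent.Helper9.RH7.isKFlat_E R E lo hi hE hlo hhi
  haveI : DCoh.HasLTensorCx E := Groth.Agent.Helper9.RH5.hasLTensorCx_of_isKFlat E hEk
  haveI i2 : @ModSite.HasLTensorCx _ _ _ (Spec (CommRingCat.of R)).sheaf E :=
    ‹DCoh.HasLTensorCx E›
  have hPj : DCoh.IsKFlat ((Rc j).obj P) := Groth.Agent.Helper9.Lpull5.isKFlat_restrict j P hP
  haveI : DCoh.HasLTensorCx ((Rc j).obj P) :=
    Groth.Agent.Helper9.RH5.hasLTensorCx_of_isKFlat _ hPj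
  haveI i3 : @ModSite.HasLTensorCx _ _ _ (Spec (CommRingCat.of R)).sheaf ((Rc j).obj P) :=
    ‹DCoh.HasLTensorCx ((Rc j).obj P)›
  obtain ⟨Z, s, g, hZ, hs, hg⟩ := Groth.Agent.Helper9.RH8d.exists_roof R j P E n α hα
  haveI : DCoh.HasLTensorCx Z := Groth.Agent.Helper9.RH5.hasLTensorCx_of_isKFlat Z hZ
  haveI i4 : @ModSite.HasLTensorCx _ _ _ (Spec (CommRingCat.of R)).sheaf Z :=
    ‹DCoh.HasLTensorCx Z›
  let κ : DCoh.LTensorCx Z ≅ DCoh.LTensorCx E := Groth.Agent.Helper9.RH5.ltIso' s hs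
  let c : DCoh.LTensorCx Z ⟶ DCoh.LTensorCx ((Rc j).obj P) :=
    Groth.Agent.Helper9.RH8d.ltMap' g
  let G : (Spec (CommRingCat.of R)).Modules := GU (⊤ : (Spec (CommRingCat.of R)).Opens)
  -- the comparison transformation
  let ctot := (Groth.Agent.Helper9.RH6d.chain (O := (Spec (CommRingCat.of R)).sheaf) E hEk q).inv ≫
    Functor.whiskerLeft (singleFunctor (Spec (CommRingCat.of R)).Modules q) (κ.inv ≫ c)
  have hgood : Groth.Agent.Helper9.RH8a.QIsoAbove (n + q) (ctot.app G) := by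
    have hG := Groth.Agent.Helper9.RH8d.isFlat_GU' R (⊤ : (Spec (CommRingCat.of R)).Opens)
    have h1 := Groth.Agent.Helper9.RH8c.goodD_ltensorMap_app
      (O := (Spec (CommRingCat.of R)).sheaf) g
      ((HomologicalComplex.single (Spec (CommRingCat.of R)).Modules (ComplexShape.up ℤ) q).obj G)
      (Groth.Agent.Helper9.RH8c.isKFlat_single G hG q) n q hg
      (fun m hm => Groth.Agent.Helper9.RH8c.isZero_homology_single G q m hm)
    have h2 : GoodD (n + q) (ctot.app G) := by
      haveI e1 : IsIso ((Groth.Agent.Helper9.RH6d.chain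
          (O := (Spec (CommRingCat.of R)).sheaf) E hEk q).inv.app G) :=
        ⟨⟨(Groth.Agent.Helper9.RH6d.chain
          (O := (Spec (CommRingCat.of R)).sheaf) E hEk q).hom.app G,
          Iso.inv_hom_id_app _ _, Iso.hom_inv_id_app _ _⟩⟩
      haveI e2 : IsIso (κ.inv.app
          ((singleFunctor (Spec (CommRingCat.of R)).Modules q).obj G)) :=
        ⟨⟨κ.hom.app _, Iso.inv_hom_id_app _ _, Iso.hom_inv_id_app _ _⟩⟩
      exact (@goodD_iso_comp _ _ _ _ (n + q) _ _ _ _ e1 _).2
        ((@goodD_iso_comp _ _ _ _ (n + q) _ _ _ _ e2 _).2 h1)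
    exact ⟨h2.1, h2.2⟩
  have hr' : IsGE ((DCoh.restrictD j).obj L) r := hr
  have hinj := @Groth.Agent.Helper9.RH8a.injective_precomp _ _ _ _ _ _ _ (n + q) hgood _ r hr' hq
  have hfree : ∀ i, Groth.Agent.Helper9.RH6c.IsFree (O := (Spec (CommRingCat.of R)).sheaf) (E.X i) :=
    fun i => Groth.Agent.Helper9.RH7.isFree_of_free R (hE i)
  -- the target is finite
  have hfgp := Groth.Agent.Helper9.RH10b.fgp_bounded_free
    (O := (Spec (CommRingCat.of R)).sheaf) (R := R) G ((DCoh.restrictD j).obj L)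
    (fun k => finite_hom_GU_top R _ k (Groth.Agent.Helper9.QP7.isQCohD_restrictD j L hL) (hLc k))
    E hfree lo hi hlo hhi
  have hfin := hfgp (-q)
  -- linearity of the induced endomorphisms
  have hsm : ∀ a : R, (Groth.Agent.Helper9.LTCx4.tensLF E ⋙ (DerivedCategory.Q ⋙
      shiftFunctor (DerivedCategory (ModSite.Mod (Spec (CommRingCat.of R)).sheaf)) (-q))).map
        (a • 𝟙 G) = a • 𝟙 _ := fun a => comp_map_smul R E hfree G a (-q)
  let Φ : (W G q ⟶ (DCoh.restrictD j).obj (R'.obj L)) →ₗ[R]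
      ((shiftFunctor (DCoh.D (Spec (CommRingCat.of R))) (-q)).obj
        ((DerivedCategory.Q (C := (Spec (CommRingCat.of R)).Modules)).obj
          ((Groth.Agent.Helper9.LTCx4.tensLF E).obj G)) ⟶ (DCoh.restrictD j).obj L) :=
    { toFun := fun ψ => ctot.app G ≫ Groth.Agent.Helper9.RH4b.homEquiv j P hP adj _ L ψ
      map_add' := fun ψ ψ' =>
        (congrArg (fun t => ctot.app G ≫ t) (homEquiv_add j P hP adj _ L ψ ψ')).trans
          (Preadditive.comp_add _ _ _ _ _ _)
      map_smul' := fun a ψ => by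
        have h1 : a • ψ =
            (singleFunctor (Spec (CommRingCat.of R)).Modules q).map (a • 𝟙 G) ≫ ψ := by
          rw [Functor.map_smul, CategoryTheory.Functor.map_id, Linear.smul_comp,
            Category.id_comp]
        have h3 : Groth.Agent.Helper9.RH4b.homEquiv j P hP adj _ L (a • ψ) =
            (DCoh.LTensorCx ((Rc j).obj P)).map
              ((singleFunctor (Spec (CommRingCat.of R)).Modules q).map (a • 𝟙 G)) ≫
              Groth.Agent.Helper9.RH4b.homEquiv j P hP adj _ L ψ := by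
          rw [h1]
          exact Groth.Agent.Helper9.RH4b.homEquiv_naturality j P hP adj _ L ψ
        exact (congrArg (fun t => ctot.app G ≫ t) h3).trans
          (smul_aux (ctot.app G) _ _ _ a (ctot.naturality (a • 𝟙 G)) (hsm a)) }
  have hΦ : Function.Injective Φ := fun ψ₁ ψ₂ h =>
    (Groth.Agent.Helper9.RH4b.homEquiv j P hP adj _ L).injective
      (hinj (show ctot.app G ≫ _ = ctot.app G ≫ _ from h))
  haveI hfin' : Module.Finite R
      ((shiftFunctor (DCoh.D (Spec (CommRingCat.of R))) (-q)).obj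
        ((DerivedCategory.Q (C := (Spec (CommRingCat.of R)).Modules)).obj
          ((Groth.Agent.Helper9.LTCx4.tensLF E).obj G)) ⟶ (DCoh.restrictD j).obj L) := hfin
  exact finite_of_injective Φ hΦ

end Main

end Groth.Agent.Helper9.RH10c
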