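import Mathlib
import Groth.Prelude.Def_DCoh4
import Groth.Prelude.Def_CxOX
import Groth.Agent.Helper9.RH8d
import Groth.Agent.Helper9.RH6f
import Groth.Agent.Lead.PcLib3

/-! Quasi-coherence of `H^q(RHom(F, G))` for `F` `n`-pseudo-coherent, `G ∈ D^{≥ r}_{QCoh}`,
`q < r - n`. -/

set_option autoImplicit false
set_option linter.style.haveILetI false
set_option linter.unusedVariables false
set_option linter.unusedSectionVars false
universe u

namespace Groth.Agent.Helper9.RH9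

open CategoryTheory CategoryTheory.Limits AlgebraicGeometry Scheme.Modules
open Groth.Agent.Lead.PerfLib Groth.Agent.Helper4.FinLocFree Groth.Agent.Lead.PcLib

attribute [local instance] HasDerivedCategory.standard

variable {X : Scheme.{u}}

/-- quasi-coherence of one cohomology sheaf is local for open immersions from affine schemes -/
theorem isQCoh_HD_of_local (M : DCoh.D X) (i : ℤ)
    (h : ∀ x : X, ∃ (R : CommRingCat.{u}) (j : Spec (CommRingCat.of R) ⟶ X)
      (_ : IsOpenImmersion j), x ∈ Set.range j ∧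
        Coh.IsQCoh (DCoh.HD ((DCoh.restrictD j).obj M) i)) :
    Coh.IsQCoh (DCoh.HD M i) := by
  apply Groth.Agent.Helper4.QcohGlue.isQuasicoherent_of_affine_cover
  intro x
  obtain ⟨R, j, hj, hx, hq⟩ := h x
  haveI := hj
  have hU : IsAffineOpen j.opensRange := isAffineOpen_opensRange j
  refine ⟨j.opensRange, hU, hx, ?_⟩
  have hr : Set.range hU.fromSpec = Set.range j := hU.range_fromSpec
  let φ := IsOpenImmersion.isoOfRangeEq hU.fromSpec j hr
  have hfac : hU.fromSpec = φ.hom ≫ j := (IsOpenImmersion.isoOfRangeEq_hom_fac _ _ hr).symm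
  have e : (DCoh.HD M i).restrict hU.fromSpec ≅
      (restrictFunctor φ.hom).obj (DCoh.HD ((DCoh.restrictD j).obj M) i) :=
    (restrictFunctorCongr hfac).app _ ≪≫ (restrictFunctorComp φ.hom j).app (DCoh.HD M i) ≪≫
      (restrictFunctor φ.hom).mapIso (Groth.Agent.Helper4.SuppLib.HDRestrictIso j M i).symm
  haveI : (DCoh.HD ((DCoh.restrictD j).obj M) i).IsQuasicoherent := hq
  exact (SheafOfModules.isQuasicoherent
      (Spec (CommRingCat.of Γ(X, j.opensRange))).ringCatSheaf).prop_of_iso e.symm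
    (inferInstanceAs
      ((restrictFunctor φ.hom).obj (DCoh.HD ((DCoh.restrictD j).obj M) i)).IsQuasicoherent)

/-- a locally `n`-pseudo-coherent complex receives, on small affine opens, an `n`-quasi-isomorphism
from a bounded complex of finite free modules -/
theorem exists_free_model (n : ℤ) (P : CochainComplex X.Modules ℤ) (x : X)
    (h : LocPC n P x) :
    ∃ (R : CommRingCat.{u}) (j : Spec (CommRingCat.of R) ⟶ X) (_ : IsOpenImmersion j),
      x ∈ Set.range j ∧
      ∃ (E : CochainComplex (Spec (CommRingCat.of R)).Modules ℤ) (lo hi : ℤ),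
        (∀ i, ∃ n : ℕ, Nonempty (E.X i ≅ FlatMod.freeMod _ n)) ∧
        (∀ i, i < lo → IsZero (E.X i)) ∧ (∀ i, hi < i → IsZero (E.X i)) ∧
        ∃ α : DerivedCategory.Q.obj E ⟶ DerivedCategory.Q.obj ((Rc j).obj P),
          Groth.Agent.Helper9.Lpull6.GoodD n α := by
  obtain ⟨Z, j, hj, ⟨z, rfl⟩, E₀, α₀, hE₀, hα₀⟩ := h
  haveI := hj
  obtain ⟨⟨a, b, hvan⟩, hfree⟩ := hE₀
  obtain ⟨W, hzW, hW⟩ := exists_free_nhd E₀ a b hvan hfree z
  obtain ⟨_, ⟨W', hW'aff, rfl⟩, hzW', hsub⟩ :=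
    Z.isBasis_affineOpens.exists_subset_of_mem_open hzW W.isOpen
  have hW'' : IsAffineOpen W' := hW'aff
  let k : Spec (CommRingCat.of Γ(Z, W')) ⟶ Z := hW''.fromSpec
  have hα' : IsQisAbove n
      (resD k α₀ ≫ (DerivedCategory.Q.mapIso (rcCompIso j k (k ≫ j) rfl P)).inv) :=
    (isQisAbove_resD k hα₀).comp (IsQisAbove.of_isIso n _)
  refine ⟨Γ(Z, W'), k ≫ j, inferInstance, ?_, (Rc k).obj E₀, a, b, ?_, ?_, ?_,
    resD k α₀ ≫ (DerivedCategory.Q.mapIso (rcCompIso j k (k ≫ j) rfl P)).inv,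
    ⟨hα'.1, hα'.2⟩⟩
  · have hz : z ∈ Set.range k := by
      rw [hW''.range_fromSpec]
      exact hzW'
    obtain ⟨s, hs⟩ := hz
    exact ⟨s, by rw [← hs]; rfl⟩
  · intro i
    obtain ⟨n, hn⟩ := hW i
    exact ⟨n, ((hn.of_le hsub).fromSpec hW'')⟩
  · intro i hi
    exact (restrictFunctor k).map_isZero (hvan i (Or.inl hi))
  · intro i hi
    exact (restrictFunctor k).map_isZero (hvan i (Or.inr hi))

/-- restriction to an open preserves `D^{≥ r}` -/
theorem isGE_restrictD {Y : Scheme.{u}} (j : Y ⟶ X) [IsOpenImmersion j] (L : DCoh.D X) (r : ℤ)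
    (h : ∀ m : ℤ, m < r → IsZero (DCoh.HD L m)) : ((DCoh.restrictD j).obj L).IsGE r := by
  rw [DerivedCategory.isGE_iff]
  intro m hm
  exact ((restrictFunctor j).map_isZero (h m hm)).of_iso
    (Groth.Agent.Helper4.SuppLib.HDRestrictIso j L m)

/-- the main theorem -/
theorem isQCoh_HD_rhom (F : CochainComplex X.Modules ℤ) (n : ℤ)
    (hF : DCoh.IsPseudoCoherentD n (DCoh.toD X F)) [DCoh.HasLTensorCx F]
    [DCoh.HasRSheafHom F] (G : DCoh.D X) (hG : DCoh.IsQCohD G) (r : ℤ)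
    (hGr : ∀ m : ℤ, m < r → IsZero (DCoh.HD G m)) (q : ℤ) (hq : q < r - n) :
    Coh.IsQCoh (DCoh.HD ((DCoh.RSheafHom F).obj G) q) := by
  obtain ⟨P, s, hP, hs⟩ := Groth.Agent.Helper9.RH5.exists_kflat_resolution F
  haveI := Groth.Agent.Helper9.RH5.hasLTensorCx_of_isKFlat P hP
  have adj : DCoh.LTensorCx P ⊣ DCoh.RSheafHom F :=
    (DCoh.RSheafHomAdj F).ofNatIsoLeft (Groth.Agent.Helper9.RH5.ltIso' s hs).symm
  haveI : IsIso (DerivedCategory.Q.map s) :=
    (DerivedCategory.isIso_Q_map_iff_quasiIso _ s).2 hs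
  have eq : DerivedCategory.Q.obj P ≅ DCoh.toD X F := asIso (DerivedCategory.Q.map s)
  have hloc := (isPseudoCoherentD_iff_locPC n (DCoh.toD X F) P eq).1 hF
  apply isQCoh_HD_of_local
  intro x
  obtain ⟨R, j, hj, hx, E, lo, hi, hE, hlo, hhi, α, hα⟩ := exists_free_model n P x (hloc x)
  haveI := hj
  exact ⟨R, j, hj, hx,
    Groth.Agent.Helper9.RH8d.isQCoh_HD_restrict_rhom R j P hP adj G hG r
      (isGE_restrictD j G r hGr) E lo hi hE hlo hhi n α hα q hq⟩

end Groth.Agent.Helper9.RH9
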