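import Mathlib
import Groth.Prelude.Def_DCoh4
import Groth.Prelude.Def_CxOX
import Groth.Prelude.Def_KLin
import Groth.Agent.Helper9.RH9
import Groth.Agent.Helper9.RH10c
import Groth.Agent.Helper9.CohTensor1
import Groth.Agent.Helper4.FTGlue
import Groth.Agent.Helper4.FTRestrict
import Groth.Agent.Lead.PerfLib5

/-! `RHom(K, L) ∈ D^+_Coh` for `K ∈ D^-_Coh`, `L ∈ D^+_Coh` on a locally Noetherian scheme. -/

set_option autoImplicit false
set_option linter.style.haveILetI false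
set_option linter.unusedVariables false
set_option linter.unusedSectionVars false
universe u

namespace Groth.Agent.Helper9.RH10d

open CategoryTheory CategoryTheory.Limits AlgebraicGeometry DerivedCategory Scheme.Modules
open Groth.Agent.Lead.PerfLib Groth.Agent.Helper9.RH1 Groth.Agent.Helper9.QP1
  Groth.Agent.Helper9.QP2 Groth.Agent.Helper9.QP3 Groth.Agent.Helper9.LCAff1
  Groth.Agent.Helper9.Lpull6 Groth.Agent.Helper9.LC3 Groth.Agent.Helper9.RH10a
  Groth.Agent.Helper9.RH10c Groth.Agent.Lead.PcLib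

attribute [local instance] HasDerivedCategory.standard
attribute [local instance 2000] QP6.ovr

section Local

variable (R : CommRingCat.{u})

variable {X : Scheme.{u}} (j : Spec (CommRingCat.of R) ⟶ X) [IsOpenImmersion j]
  (P : CochainComplex X.Modules ℤ) (hP : DCoh.IsKFlat P) [DCoh.HasLTensorCx P]
  {R' : DCoh.D X ⥤ DCoh.D X} (adj : DCoh.LTensorCx P ⊣ R')
  (L : DCoh.D X) (hL : DCoh.IsQCohD L) (r : ℤ) (hr : ((DCoh.restrictD j).obj L).IsGE r)
  (E : CochainComplex (Spec (CommRingCat.of R)).Modules ℤ) (lo hi : ℤ)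
  (hE : ∀ i, ∃ n : ℕ, Nonempty (E.X i ≅ FlatMod.freeMod _ n))
  (hlo : ∀ i, i < lo → IsZero (E.X i)) (hhi : ∀ i, hi < i → IsZero (E.X i))
  (n : ℤ) (α : DerivedCategory.Q.obj E ⟶ DerivedCategory.Q.obj ((Rc j).obj P))
  (hα : GoodD n α)

include hP adj hL hE hlo hhi hα hr in
/-- `H^q(RHom(P, L)|_S)` is of finite type for `n + q ≤ r` -/
theorem isFiniteType_HD_restrict_rhom [IsNoetherianRing R]
    (hLc : ∀ k : ℤ, SheafOfModules.IsFiniteType (R := (Spec (CommRingCat.of R)).ringCatSheaf)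
      (DCoh.HD ((DCoh.restrictD j).obj L) k))
    (hN : DCoh.IsQCohD ((DCoh.restrictD j).obj (R'.obj L)))
    (q : ℤ) (hq : n + q ≤ r) :
    SheafOfModules.IsFiniteType (R := (Spec (CommRingCat.of R)).ringCatSheaf)
      (DCoh.HD ((DCoh.restrictD j).obj (R'.obj L)) q) := by
  have hfin := finite_hom_restrict_rhom R j P hP adj L hL r hr E lo hi hE hlo hhi n α hα hLc q hq
  have hU : IsAffineOpen (⊤ : (Spec (CommRingCat.of R)).Opens) := isAffineOpen_top _
  haveI : RingHomSurjective (resHom (X := Spec (CommRingCat.of R)) R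
      (⊤ : (Spec (CommRingCat.of R)).Opens)) := ⟨resHom_surjective R⟩
  have hΓ : Module.Finite Γ(Spec (CommRingCat.of R), ⊤)
      Γ(DCoh.HD ((DCoh.restrictD j).obj (R'.obj L)) q, ⊤) :=
    (LinearMap.finite_iff_of_bijective (kkLin q _ R ⊤) (kk_bijective q _ hN ⊤ hU)).1 hfin
  haveI : (DCoh.HD ((DCoh.restrictD j).obj (R'.obj L)) q).IsQuasicoherent := hN q
  exact Groth.Agent.Helper4.FTGlue.isFiniteType_of_finite_sections _
    (fun x => ⟨⊤, hU, trivial, hΓ⟩)

end Local

variable {X : Scheme.{u}}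

/-- `RHom(K, L) ∈ D^{≥ a - b}` for `K ∈ D^{≤ b}`, `L ∈ D^{≥ a}` -/
theorem isGE_rhom (K : CochainComplex X.Modules ℤ) (b : ℤ) [(DCoh.toD X K).IsLE b]
    [DCoh.HasLTensorCx K] [DCoh.HasRSheafHom K] (L : DCoh.D X) (a : ℤ) [L.IsGE a] :
    ((DCoh.RSheafHom K).obj L).IsGE (a - b) := by
  obtain ⟨P, s, hP, hs⟩ := Groth.Agent.Helper9.RH5.exists_kflat_resolution K
  haveI := Groth.Agent.Helper9.RH5.hasLTensorCx_of_isKFlat P hP
  have adj : DCoh.LTensorCx P ⊣ DCoh.RSheafHom K :=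
    (DCoh.RSheafHomAdj K).ofNatIsoLeft (Groth.Agent.Helper9.RH5.ltIso' s hs).symm
  have i2 : @ModSite.HasLTensorCx _ _ _ X.sheaf P := ‹DCoh.HasLTensorCx P›
  have hPb : ∀ i : ℤ, b < i → IsZero (P.homology i) := by
    intro i hi
    have h1 : IsZero ((homologyFunctor X.Modules i).obj (DCoh.toD X K)) :=
      (DCoh.toD X K).isZero_of_isLE b i hi
    have h2 : IsZero (K.homology i) := h1.of_iso ((homologyFunctorFactors X.Modules i).app K).symm
    exact h2.of_iso (@asIso _ _ _ _ (HomologicalComplex.homologyMap s i)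
      ((quasiIsoAt_iff_isIso_homologyMap s i).1 (hs.quasiIsoAt i)))
  rw [DerivedCategory.isGE_iff]
  intro q hq
  apply isZero_homology_of_hom_eq_zero (𝒢 X) (isSeparating_𝒢 X)
  intro G hG f
  haveI : (DCoh.LTensorCx P).IsLeftAdjoint := adj.isLeftAdjoint
  apply (adj.homEquiv _ _).symm.injective
  rw [Adjunction.homEquiv_symm_apply, Adjunction.homEquiv_symm_apply, Functor.map_zero, zero_comp]
  -- the source is in `D^{≤ q + b}`
  let C₀ : CochainComplex X.Modules ℤ :=
    (HomologicalComplex.single X.Modules (ComplexShape.up ℤ) q).obj G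
  have e1 : (DCoh.LTensorCx P).obj (W G q) ≅
      DerivedCategory.Q.obj ((DCoh.tensorCx.obj C₀).obj P) :=
    (DCoh.LTensorCx P).mapIso ((singleFunctorIsoCompQ X.Modules q).app G) ≪≫
      (@Groth.Agent.Helper9.LTCx1.ltIso _ _ _ X.sheaf P i2 hP C₀)
  haveI hle : ((DCoh.LTensorCx P).obj (W G q)).IsLE (q + b) := by
    rw [DerivedCategory.isLE_iff]
    intro i hi
    refine IsZero.of_iso ?_ ((homologyFunctor X.Modules i).mapIso e1 ≪≫
      (homologyFunctorFactors X.Modules i).app _)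
    exact @Groth.Agent.Helper9.PcTensor2.isZero_homology_tensor _ _ _ X.sheaf C₀ P hP (q + 1) b
      (fun m hm => Groth.Agent.Helper9.RH8c.isZero_homology_single G q m (by omega)) hPb
      i (by omega)
  exact TStructure.t.zero_of_isLE_of_isGE _ (q + b) a (by omega)
    (show TStructure.t.IsLE ((DCoh.LTensorCx P).obj (W G q)) (q + b) from hle)
    (show TStructure.t.IsGE L a from inferInstance)

/-- the main theorem -/
theorem isCoh_HD_rhom [IsLocallyNoetherian X] (K : CochainComplex X.Modules ℤ) (b : ℤ)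
    [(DCoh.toD X K).IsLE b] (hK : DCoh.IsCohD (DCoh.toD X K)) [DCoh.HasLTensorCx K]
    [DCoh.HasRSheafHom K] (L : DCoh.D X) (a : ℤ) [L.IsGE a] (hL : DCoh.IsCohD L) (q : ℤ) :
    Coh.IsCoh (DCoh.HD ((DCoh.RSheafHom K).obj L) q) := by
  have hKpc : ∀ m : ℤ, DCoh.IsPseudoCoherentD m (DCoh.toD X K) := fun m =>
    Groth.Agent.Helper9.CohTensor1.isPseudoCoherentD_of_isCohD _ hK b
      (fun i hi => (DCoh.toD X K).isZero_of_isLE b i hi) m
  have hLq : DCoh.IsQCohD L := fun i => (hL i).1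
  have hz : ∀ m : ℤ, m < a → IsZero (DCoh.HD L m) := fun m hm =>
    (DerivedCategory.isGE_iff L a).1 inferInstance m hm
  have hQ : DCoh.IsQCohD ((DCoh.RSheafHom K).obj L) := fun q' =>
    Groth.Agent.Helper9.RH9.isQCoh_HD_rhom K (a - q' - 1) (hKpc _) L hLq a hz q' (by omega)
  haveI : (DCoh.HD ((DCoh.RSheafHom K).obj L) q).IsQuasicoherent := hQ q
  refine ⟨hQ q, Groth.Agent.Lead.PerfLib.isFiniteType_of_locally _ (fun x => ?_)⟩
  obtain ⟨P, s, hP, hs⟩ := Groth.Agent.Helper9.RH5.exists_kflat_resolution K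
  haveI := Groth.Agent.Helper9.RH5.hasLTensorCx_of_isKFlat P hP
  have adj : DCoh.LTensorCx P ⊣ DCoh.RSheafHom K :=
    (DCoh.RSheafHomAdj K).ofNatIsoLeft (Groth.Agent.Helper9.RH5.ltIso' s hs).symm
  haveI : IsIso (DerivedCategory.Q.map s) :=
    (DerivedCategory.isIso_Q_map_iff_quasiIso _ s).2 hs
  have eq : DerivedCategory.Q.obj P ≅ DCoh.toD X K := asIso (DerivedCategory.Q.map s)
  have hloc := (isPseudoCoherentD_iff_locPC (a - q - 1) (DCoh.toD X K) P eq).1 (hKpc _)
  obtain ⟨R, j, hj, hx, E, lo, hi, hE, hlo, hhi, α, hα⟩ :=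
    Groth.Agent.Helper9.RH9.exists_free_model (a - q - 1) P x (hloc x)
  haveI := hj
  haveI : IsLocallyNoetherian (Spec (CommRingCat.of R)) :=
    isLocallyNoetherian_of_isOpenImmersion j
  haveI : IsNoetherianRing R := isLocallyNoetherian_Spec.1 inferInstance
  have hLc : ∀ k : ℤ, SheafOfModules.IsFiniteType (R := (Spec (CommRingCat.of R)).ringCatSheaf)
      (DCoh.HD ((DCoh.restrictD j).obj L) k) := by
    intro k
    haveI := Groth.Agent.Helper4.FTRestrict.isFT_restrict j (DCoh.HD L k) (hL k).2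
    exact Groth.Agent.Helper4.FTRestrict.SoM.isFiniteType_of_iso.{u}
      (Groth.Agent.Helper4.SuppLib.HDRestrictIso j L k).symm
  have hN : DCoh.IsQCohD ((DCoh.restrictD j).obj ((DCoh.RSheafHom K).obj L)) :=
    Groth.Agent.Helper9.QP7.isQCohD_restrictD j _ hQ
  have hft := isFiniteType_HD_restrict_rhom R j P hP adj L hLq a
    (Groth.Agent.Helper9.RH9.isGE_restrictD j L a hz) E lo hi hE hlo hhi (a - q - 1) α hα hLc hN q
    (by omega)
  haveI := hft
  exact ⟨Spec (CommRingCat.of R), j, hj, hx,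
    Groth.Agent.Helper4.FTRestrict.SoM.isFiniteType_of_iso.{u}
      (Groth.Agent.Helper4.SuppLib.HDRestrictIso j _ q)⟩

end Groth.Agent.Helper9.RH10d
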