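import Mathlib
import Groth.Agent.Helper9.RLT3
import Groth.Agent.Helper6.LBCCompute
import Groth.Agent.Helper3.DRingRestr

/-! Tor amplitude of a restriction of scalars and faithfully flat base change upstairs. -/

set_option autoImplicit false
set_option linter.style.haveILetI false
set_option linter.unusedVariables false
set_option linter.unusedSectionVars false
universe u

namespace Groth.Agent.Helper9.RLT4

open CategoryTheory CategoryTheory.Limits MonoidalCategory HomologicalComplex TensorProduct
open Groth.Agent.Helper6.TenCx Groth.Agent.Helper3.DRingLib Groth.Agent.Helper9.RingProj1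
  Groth.Agent.Helper9.RingProj2 Groth.Agent.Helper9.RLT1 Groth.Agent.Helper9.RLT3

attribute [local instance] HasDerivedCategory.standard

/-- every module is extended from itself along the identity -/
theorem nonempty_ext_id_iso {R : Type u} [CommRing R] (N : ModuleCat.{u} R) :
    Nonempty ((ext (RingHom.id R)).obj ((rs (RingHom.id R)).obj N) ≅ N) :=
  ⟨(ModuleCat.extendScalarsId R).app _ ≪≫ (ModuleCat.restrictScalarsId R).app N⟩

theorem main {R A B : Type u}
    [CommRing R] [CommRing A] [CommRing B] [Algebra R A] [Algebra A B] [Algebra R B]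
    [IsScalarTower R A B]
    [Module.FaithfullyFlat A B] [DRing.HasLBaseChange (algebraMap A B)] (K : Dual.D A) (a b : ℤ) :
    DRing.HasTorAmplitudeIn R a b ((DRing.restrictD (algebraMap R A)).obj K) ↔
      DRing.HasTorAmplitudeIn R a b ((DRing.restrictD (algebraMap R B)).obj
        ((DRing.LBaseChange (algebraMap A B)).obj K)) := by
  let K₀ : DRing.Cx A := DerivedCategory.Q.objPreimage K
  let e₀ : DerivedCategory.Q.obj K₀ ≅ K := DerivedCategory.Q.objObjPreimageIso K
  obtain ⟨P, f, hP, hPk, -, hf, -⟩ := Groth.Agent.Helper6.KProjRes.exists_resolution K₀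
  haveI := hP
  haveI : IsIso (DerivedCategory.Q.map f) :=
    (DerivedCategory.isIso_Q_map_iff_quasiIso (ModuleCat.{u} A) _).mpr hf
  let eP : DRing.toD P ≅ K := asIso (DerivedCategory.Q.map f) ≪≫ e₀
  let e1 : (DRing.restrictD (algebraMap R A)).obj K ≅
      DRing.toD ((RingProj1.rCx (algebraMap R A)).obj P) :=
    (DRing.restrictD (algebraMap R A)).mapIso eP.symm ≪≫ rDToD (algebraMap R A) P
  let e2 : (DRing.restrictD (algebraMap R B)).obj ((DRing.LBaseChange (algebraMap A B)).obj K) ≅
      DRing.toD ((RingProj1.rCx (algebraMap R B)).obj ((extCx (algebraMap A B)).obj P)) :=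
    (DRing.restrictD (algebraMap R B)).mapIso
      ((DRing.LBaseChange (algebraMap A B)).mapIso eP.symm ≪≫
        Groth.Agent.Helper6.LBCCompute.lbcIso (algebraMap A B) P) ≪≫
      rDToD (algebraMap R B) _
  have hcomm : (algebraMap A B).comp (algebraMap R A) =
      (algebraMap R B).comp (RingHom.id R) := by
    rw [RingHom.comp_id]
    exact (IsScalarTower.algebraMap_eq R A B).symm
  have hflat : (algebraMap A B).Flat := RingHom.flat_algebraMap_iff.mpr inferInstance
  constructor
  · intro h
    have h' := hasTorAmplitudeIn_of_iso e1 _ _ h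
    exact hasTorAmplitudeIn_of_iso e2.symm _ _
      (down (algebraMap R A) (algebraMap A B) (RingHom.id R) (algebraMap R B) hflat
        (RingHom.Flat.id R) nonempty_ext_id_iso hcomm P a b h')
  · intro h
    have h' := hasTorAmplitudeIn_of_iso e2 _ _ h
    refine hasTorAmplitudeIn_of_iso e1.symm _ _ ?_
    exact up (algebraMap R A) (fun _ : Unit => B) (fun _ : Unit => R)
      (fun _ => RingHom.id R) (fun _ => RingHom.Flat.id R) (fun _ => algebraMap R B)
      (fun _ => hcomm) (jointlyFaithful_of_faithfullyFlat B) P a b (fun _ => h')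

end Groth.Agent.Helper9.RLT4
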