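import Mathlib

/-!
# Kan extensions along a composition with a functor whose whiskering functor is fully faithful

Let `q : C ⥤ K` be a functor such that precomposition with `q` is fully faithful on functors to `H`
(for instance the quotient functor to the homotopy category). Then a Kan extension of `Φh : K ⥤ H`
along `Lh : K ⥤ D` is also a Kan extension of `q ⋙ Φh` along `q ⋙ Lh`. In particular, derived
functors with respect to the quasi-isomorphisms in the homotopy category are derived functors with
respect to the quasi-isomorphisms of cochain complexes.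
-/

set_option autoImplicit false
set_option linter.style.haveILetI false

namespace Groth.Agent.Helper9.RLn1

open CategoryTheory Category Limits Functor

universe v₁ v₂ v₃ v₄ u₁ u₂ u₃ u₄

variable {C : Type u₁} {K : Type u₂} {D : Type u₃} {H : Type u₄} [Category.{v₁} C]
  [Category.{v₂} K] [Category.{v₃} D] [Category.{v₄} H]
  (q : C ⥤ K) [((whiskeringLeft C K H).obj q).Full] [((whiskeringLeft C K H).obj q).Faithful]
  {Lh : K ⥤ D} {L : C ⥤ D} (e : q ⋙ Lh ≅ L) {Φh : K ⥤ H} {Φ : C ⥤ H} (e' : q ⋙ Φh ≅ Φ)
  (E : D ⥤ H)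

/-- the transferred counit -/
@[simps]
def counit (β : Lh ⋙ E ⟶ Φh) : L ⋙ E ⟶ Φ where
  app X := E.map (e.inv.app X) ≫ β.app (q.obj X) ≫ e'.hom.app X
  naturality X Y f := by
    have h1 := e.inv.naturality f
    have h2 := β.naturality (q.map f)
    have h3 := e'.hom.naturality f
    dsimp at h1 h2 h3 ⊢
    rw [← E.map_comp_assoc, h1, E.map_comp_assoc, reassoc_of% h2, h3, assoc, assoc]

/-- the transferred unit -/
@[simps]
def unit (α : Φh ⟶ Lh ⋙ E) : Φ ⟶ L ⋙ E where
  app X := e'.inv.app X ≫ α.app (q.obj X) ≫ E.map (e.hom.app X)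
  naturality X Y f := by
    have h1 := e.hom.naturality f
    have h2 := α.naturality (q.map f)
    have h3 := e'.inv.naturality f
    dsimp at h1 h2 h3 ⊢
    rw [reassoc_of% h3, reassoc_of% h2, assoc, assoc, ← E.map_comp, ← E.map_comp, h1]

/-- lifting a natural transformation through the whiskering -/
lemma exists_preimage {G₁ G₂ : K ⥤ H} (γ : q ⋙ G₁ ⟶ q ⋙ G₂) :
    ∃ γh : G₁ ⟶ G₂, ∀ X, γh.app (q.obj X) = γ.app X := by
  refine ⟨((whiskeringLeft C K H).obj q).preimage γ, fun X => ?_⟩
  have := ((whiskeringLeft C K H).obj q).map_preimage γ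
  exact congr_app this X

include q in
lemma ext_of_whisker {G₁ G₂ : K ⥤ H} (γ₁ γ₂ : G₁ ⟶ G₂)
    (h : ∀ X, γ₁.app (q.obj X) = γ₂.app (q.obj X)) : γ₁ = γ₂ := by
  apply ((whiskeringLeft C K H).obj q).map_injective
  ext X
  exact h X

theorem isRightKanExtension (β : Lh ⋙ E ⟶ Φh) [E.IsRightKanExtension β] :
    E.IsRightKanExtension (counit q e e' E β) where
  nonempty_isUniversal := by
    have key : ∀ (G : D ⥤ H) (γ : L ⋙ G ⟶ Φ),
        ∃ σ : G ⟶ E, whiskerLeft L σ ≫ counit q e e' E β = γ := by
      intro G γ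
      let γ₀ : q ⋙ (Lh ⋙ G) ⟶ q ⋙ Φh :=
        { app := fun X => G.map (e.hom.app X) ≫ γ.app X ≫ e'.inv.app X
          naturality := fun X Y f => by
            have h1 := e.hom.naturality f
            have h2 := γ.naturality f
            have h3 := e'.inv.naturality f
            dsimp at h1 h2 h3 ⊢
            rw [← G.map_comp_assoc, h1, G.map_comp_assoc, reassoc_of% h2, h3, assoc, assoc] }
      obtain ⟨γh, hγh⟩ := exists_preimage q γ₀
      refine ⟨E.liftOfIsRightKanExtension β G γh, ?_⟩
      ext X
      have h1 := E.liftOfIsRightKanExtension_fac_app β G γh (q.obj X)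
      have h2 := (E.liftOfIsRightKanExtension β G γh).naturality (e.inv.app X)
      dsimp at h1 h2 ⊢
      rw [counit_app, ← assoc, ← h2, assoc, reassoc_of% h1, hγh]
      dsimp [γ₀]
      rw [assoc, assoc, ← G.map_comp_assoc, Iso.inv_hom_id_app, G.map_id, id_comp,
        Iso.inv_hom_id_app, comp_id]
    have uniq : ∀ (G : D ⥤ H) (σ₁ σ₂ : G ⟶ E),
        whiskerLeft L σ₁ ≫ counit q e e' E β = whiskerLeft L σ₂ ≫ counit q e e' E β →
          σ₁ = σ₂ := by
      intro G σ₁ σ₂ h
      apply E.hom_ext_of_isRightKanExtension β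
      apply ext_of_whisker q
      intro X
      have h0 := congr_app h X
      have h1 := σ₁.naturality (e.inv.app X)
      have h2 := σ₂.naturality (e.inv.app X)
      dsimp at h0 h1 h2 ⊢
      rw [counit_app, ← assoc, ← h1, ← assoc (σ₂.app _), ← h2, assoc, assoc, cancel_epi,
        ← assoc, ← assoc (σ₂.app _), cancel_mono] at h0
      exact h0
    refine ⟨IsTerminal.ofUniqueHom (fun X => CostructuredArrow.homMk (key X.left X.hom).choose
      (key X.left X.hom).choose_spec) ?_⟩
    intro X m
    ext1
    apply uniq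
    exact (CostructuredArrow.w m).trans (key X.left X.hom).choose_spec.symm

theorem isLeftKanExtension (α : Φh ⟶ Lh ⋙ E) [E.IsLeftKanExtension α] :
    E.IsLeftKanExtension (unit q e e' E α) where
  nonempty_isUniversal := by
    have key : ∀ (G : D ⥤ H) (γ : Φ ⟶ L ⋙ G),
        ∃ σ : E ⟶ G, unit q e e' E α ≫ whiskerLeft L σ = γ := by
      intro G γ
      let γ₀ : q ⋙ Φh ⟶ q ⋙ (Lh ⋙ G) :=
        { app := fun X => e'.hom.app X ≫ γ.app X ≫ G.map (e.inv.app X)
          naturality := fun X Y f => by
            have h1 := e.inv.naturality f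
            have h2 := γ.naturality f
            have h3 := e'.hom.naturality f
            dsimp at h1 h2 h3 ⊢
            rw [reassoc_of% h3, reassoc_of% h2, assoc, assoc, ← G.map_comp, ← G.map_comp, h1] }
      obtain ⟨γh, hγh⟩ := exists_preimage q γ₀
      refine ⟨E.descOfIsLeftKanExtension α G γh, ?_⟩
      ext X
      have h1 := E.descOfIsLeftKanExtension_fac_app α G γh (q.obj X)
      have h2 := (E.descOfIsLeftKanExtension α G γh).naturality (e.hom.app X)
      dsimp at h1 h2 ⊢
      rw [unit_app, assoc, assoc, h2, reassoc_of% h1, hγh]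
      dsimp [γ₀]
      rw [assoc, assoc, ← G.map_comp, Iso.inv_hom_id_app, G.map_id, comp_id,
        Iso.inv_hom_id_app_assoc]
    have uniq : ∀ (G : D ⥤ H) (σ₁ σ₂ : E ⟶ G),
        unit q e e' E α ≫ whiskerLeft L σ₁ = unit q e e' E α ≫ whiskerLeft L σ₂ →
          σ₁ = σ₂ := by
      intro G σ₁ σ₂ h
      apply E.hom_ext_of_isLeftKanExtension α
      apply ext_of_whisker q
      intro X
      have h0 := congr_app h X
      have h1 := σ₁.naturality (e.hom.app X)
      have h2 := σ₂.naturality (e.hom.app X)
      dsimp at h0 h1 h2 ⊢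
      rw [unit_app, assoc, assoc, assoc, assoc, h1, h2, cancel_epi, ← assoc, ← assoc (α.app _),
        cancel_mono] at h0
      exact h0
    refine ⟨IsInitial.ofUniqueHom (fun X => StructuredArrow.homMk (key X.right X.hom).choose
      (key X.right X.hom).choose_spec) ?_⟩
    intro X m
    ext1
    apply uniq
    exact (StructuredArrow.w m).trans (key X.right X.hom).choose_spec.symm

end Groth.Agent.Helper9.RLn1
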