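import Mathlib
import Groth.Agent.Helper1.DeltaFunctor
import Groth.Agent.Helper1.RDAdd

/-! Right derived functors as a δ-functor: vanishing classes, dimension shifting along short exact
sequences with acyclic middle term, and the connecting morphisms for short exact sequences of
complexes. -/

set_option autoImplicit false
universe v u v' u'
open CategoryTheory CategoryTheory.Limits

namespace Groth.Agent.Helper9.RLn2

open Groth.Agent.Helper1 Groth.Agent.Helper1.DeltaFun

variable {A : Type u} [Category.{v} A] [Abelian A] [EnoughInjectives A]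
  {B : Type u'} [Category.{v'} B] [Abelian B] (F : A ⥤ B) [F.Additive]

/-- `F`-acyclic objects -/
def Acyc (T : A) : Prop := ∀ i : ℕ, 1 ≤ i → IsZero ((F.rightDerived i).obj T)

/-- objects whose higher derived functors vanish outside degree `k` -/
def Van (k : ℕ) (T : A) : Prop := ∀ i : ℕ, 1 ≤ i → i ≠ k → IsZero ((F.rightDerived i).obj T)

lemma acyc_of_van_zero {T : A} (h : Van F 0 T) : Acyc F T := fun i hi => h i hi (by omega)

lemma acyc_of_injective (T : A) [Injective T] : Acyc F T := fun i hi => by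
  obtain ⟨j, rfl⟩ : ∃ j, i = j + 1 := ⟨i - 1, by omega⟩
  exact Functor.isZero_rightDerived_obj_injective_succ F j T

/-- the connecting morphisms -/
noncomputable def δ (S : ShortComplex A) (hS : S.ShortExact) (k : ℕ) :
    (F.rightDerived k).obj S.X₃ ⟶ (F.rightDerived (k + 1)).obj S.X₁ :=
  (rightDerivedDelta F).δ S hS k

lemma δ_nat {S S' : ShortComplex A} (φ : S ⟶ S') (hS : S.ShortExact) (hS' : S'.ShortExact)
    (k : ℕ) : δ F S hS k ≫ (F.rightDerived (k + 1)).map φ.τ₁ =
      (F.rightDerived k).map φ.τ₃ ≫ δ F S' hS' k :=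
  (rightDerivedDelta F).δ_nat φ hS hS' k

lemma w₃ (S : ShortComplex A) (hS : S.ShortExact) (k : ℕ) :
    (F.rightDerived k).map S.g ≫ δ F S hS k = 0 := (rightDerivedDelta F).w₃ S hS k

lemma exact₃ (S : ShortComplex A) (hS : S.ShortExact) (k : ℕ) :
    (ShortComplex.mk _ _ (w₃ F S hS k)).Exact := (rightDerivedDelta F).exact₃ S hS k

lemma w₁ (S : ShortComplex A) (hS : S.ShortExact) (k : ℕ) :
    δ F S hS k ≫ (F.rightDerived (k + 1)).map S.f = 0 := (rightDerivedDelta F).w₁ S hS k

lemma exact₁ (S : ShortComplex A) (hS : S.ShortExact) (k : ℕ) :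
    (ShortComplex.mk _ _ (w₁ F S hS k)).Exact := (rightDerivedDelta F).exact₁ S hS k

section acyclicMiddle

variable (S : ShortComplex A) (hS : S.ShortExact) (h₂ : Acyc F S.X₂)

include hS h₂

lemma epi_δ (k : ℕ) : Epi (δ F S hS k) :=
  (exact₁ F S hS k).epi_f ((h₂ (k + 1) (by omega)).eq_of_tgt _ _)

lemma mono_δ (k : ℕ) (hk : 1 ≤ k) : Mono (δ F S hS k) :=
  (exact₃ F S hS k).mono_g ((h₂ k hk).eq_of_src _ _)

lemma isIso_δ (k : ℕ) (hk : 1 ≤ k) : IsIso (δ F S hS k) := by
  haveI := epi_δ F S hS h₂ k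
  haveI := mono_δ F S hS h₂ k hk
  exact isIso_of_mono_of_epi _

lemma van_X₃ (k : ℕ) (h₁ : Van F (k + 1) S.X₁) : Van F k S.X₃ := by
  intro i hi hik
  haveI := mono_δ F S hS h₂ i hi
  exact IsZero.of_mono (δ F S hS i) (h₁ (i + 1) (by omega) (by omega))

end acyclicMiddle

section complexes

variable (S : ShortComplex (CochainComplex A ℤ)) (hS : S.ShortExact)

/-- the degreewise short complexes -/
noncomputable abbrev Sm (m : ℤ) : ShortComplex A :=
  S.map (HomologicalComplex.eval A (ComplexShape.up ℤ) m)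

include hS in
lemma Sm_shortExact (m : ℤ) : (Sm S m).ShortExact := hS.map_of_exact _

/-- the morphism of degreewise short complexes given by the differentials -/
noncomputable def dS (m m' : ℤ) : Sm S m ⟶ Sm S m' where
  τ₁ := S.X₁.d m m'
  τ₂ := S.X₂.d m m'
  τ₃ := S.X₃.d m m'
  comm₁₂ := (S.f.comm m m').symm
  comm₂₃ := (S.g.comm m m').symm

/-- the connecting morphism as a morphism of complexes -/
noncomputable def δch (k : ℕ) :
    ((F.rightDerived k).mapHomologicalComplex (ComplexShape.up ℤ)).obj S.X₃ ⟶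
      ((F.rightDerived (k + 1)).mapHomologicalComplex (ComplexShape.up ℤ)).obj S.X₁ where
  f m := δ F (Sm S m) (Sm_shortExact S hS m) k
  comm' m m' _ := (δ_nat F (dS S m m') (Sm_shortExact S hS m) (Sm_shortExact S hS m') k)

lemma δch_f (k : ℕ) (m : ℤ) :
    (δch F S hS k).f m = δ F (Sm S m) (Sm_shortExact S hS m) k := rfl

lemma δch_naturality {S S' : ShortComplex (CochainComplex A ℤ)} (φ : S ⟶ S')
    (hS : S.ShortExact) (hS' : S'.ShortExact) (k : ℕ) :
    δch F S hS k ≫ ((F.rightDerived (k + 1)).mapHomologicalComplex (ComplexShape.up ℤ)).map φ.τ₁ =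
      ((F.rightDerived k).mapHomologicalComplex (ComplexShape.up ℤ)).map φ.τ₃ ≫
        δch F S' hS' k := by
  ext m
  exact δ_nat F ((HomologicalComplex.eval A (ComplexShape.up ℤ) m).mapShortComplex.map φ)
    (Sm_shortExact S hS m) (Sm_shortExact S' hS' m) k

end complexes

end Groth.Agent.Helper9.RLn2
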