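import Mathlib
import Groth.Agent.Helper9.FAc2
import Groth.Agent.Helper1.HtpyKill

/-! The complex of injectives `FAc2.C K`: acyclicity of its image under any additive functor, and
the extension property of maps into it along degreewise monomorphisms. -/

set_option autoImplicit false
universe w v u v' u'
open CategoryTheory CategoryTheory.Limits

namespace Groth.Agent.Helper9.RLn3

open FAc2

variable {A : Type u} [Category.{v} A] [Abelian A] [EnoughInjectives A]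
  {B : Type u'} [Category.{v'} B] [Abelian B]

section wrappers

variable (K : CochainComplex A ℤ)

/-- first projection of `(C K).X p` -/
noncomputable def pr₁ (p : ℤ) : (C K).X p ⟶ J K p :=
  (biprod.fst : J K p ⊞ J K (p + 1) ⟶ J K p)

/-- second projection of `(C K).X p` -/
noncomputable def pr₂ (p : ℤ) : (C K).X p ⟶ J K (p + 1) :=
  (biprod.snd : J K p ⊞ J K (p + 1) ⟶ J K (p + 1))

/-- first inclusion of `(C K).X p` -/
noncomputable def in₁ (p : ℤ) : J K p ⟶ (C K).X p :=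
  (biprod.inl : J K p ⟶ J K p ⊞ J K (p + 1))

/-- second inclusion of `(C K).X p` -/
noncomputable def in₂ (p : ℤ) : J K (p + 1) ⟶ (C K).X p :=
  (biprod.inr : J K (p + 1) ⟶ J K p ⊞ J K (p + 1))

/-- morphisms to `(C K).X p` -/
noncomputable def liftC {T : A} {p : ℤ} (a : T ⟶ J K p) (b : T ⟶ J K (p + 1)) : T ⟶ (C K).X p :=
  (biprod.lift a b : T ⟶ J K p ⊞ J K (p + 1))

@[reassoc (attr := simp)]
lemma liftC_pr₁ {T : A} {p : ℤ} (a : T ⟶ J K p) (b : T ⟶ J K (p + 1)) :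
    liftC K a b ≫ pr₁ K p = a := biprod.lift_fst _ _

@[reassoc (attr := simp)]
lemma liftC_pr₂ {T : A} {p : ℤ} (a : T ⟶ J K p) (b : T ⟶ J K (p + 1)) :
    liftC K a b ≫ pr₂ K p = b := biprod.lift_snd _ _

@[reassoc (attr := simp)]
lemma in₁_pr₁ (p : ℤ) : in₁ K p ≫ pr₁ K p = 𝟙 _ := biprod.inl_fst

@[reassoc (attr := simp)]
lemma in₁_pr₂ (p : ℤ) : in₁ K p ≫ pr₂ K p = 0 := biprod.inl_snd

@[reassoc (attr := simp)]
lemma in₂_pr₁ (p : ℤ) : in₂ K p ≫ pr₁ K p = 0 := biprod.inr_fst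

@[reassoc (attr := simp)]
lemma in₂_pr₂ (p : ℤ) : in₂ K p ≫ pr₂ K p = 𝟙 _ := biprod.inr_snd

lemma total (p : ℤ) : pr₁ K p ≫ in₁ K p + pr₂ K p ≫ in₂ K p = 𝟙 _ := biprod.total

lemma hom_ext {T : A} {p : ℤ} {f g : T ⟶ (C K).X p} (h₁ : f ≫ pr₁ K p = g ≫ pr₁ K p)
    (h₂ : f ≫ pr₂ K p = g ≫ pr₂ K p) : f = g :=
  biprod.hom_ext (X := J K p) (Y := J K (p + 1)) f g h₁ h₂

lemma C_d' (p : ℤ) : (C K).d p (p + 1) = pr₂ K p ≫ in₁ K (p + 1) := C_d K p

end wrappers

section acyclic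

variable (K : CochainComplex A ℤ) (Φ : A ⥤ B) [Φ.Additive]

/-- the image of `C K` under an additive functor is acyclic (`C K` is contractible) -/
lemma map_C_exactAt (j : ℤ) :
    ((Φ.mapHomologicalComplex (ComplexShape.up ℤ)).obj (C K)).ExactAt j := by
  obtain ⟨p, rfl⟩ : ∃ p, j = p + 1 := ⟨j - 1, by omega⟩
  rw [HomologicalComplex.exactAt_iff' _ p (p + 1) (p + 1 + 1) (by simp) (by simp),
    ShortComplex.exact_iff_exact_up_to_refinements]
  intro T x₂ hx₂
  let r : (C K).X (p + 1) ⟶ (C K).X p := pr₁ K (p + 1) ≫ in₂ K p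
  let s : (C K).X (p + 1 + 1) ⟶ (C K).X (p + 1) := pr₁ K (p + 1 + 1) ≫ in₂ K (p + 1)
  have hrs : r ≫ (C K).d p (p + 1) + (C K).d (p + 1) (p + 1 + 1) ≫ s = 𝟙 ((C K).X (p + 1)) := by
    rw [C_d', C_d', ← total K (p + 1)]
    simp [r, s]
  obtain ⟨x, rfl⟩ : ∃ x : T ⟶ Φ.obj ((C K).X (p + 1)), x = x₂ := ⟨x₂, rfl⟩
  have hx : x ≫ Φ.map ((C K).d (p + 1) (p + 1 + 1)) = 0 := hx₂
  have h2 : Φ.map r ≫ Φ.map ((C K).d p (p + 1)) =
      𝟙 _ - Φ.map ((C K).d (p + 1) (p + 1 + 1)) ≫ Φ.map s := by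
    rw [← Φ.map_comp, ← Φ.map_comp, ← Φ.map_id, ← Φ.map_sub, ← hrs, add_sub_cancel_right]
  have key : x = (x ≫ Φ.map r) ≫ Φ.map ((C K).d p (p + 1)) := by
    rw [Category.assoc, h2, Preadditive.comp_sub, Category.comp_id, reassoc_of% hx, zero_comp,
      sub_zero]
  refine ⟨T, 𝟙 T, inferInstance, x ≫ Φ.map r, ?_⟩
  rw [Category.id_comp]
  exact key

lemma map_C_acyclic :
    ((Φ.mapHomologicalComplex (ComplexShape.up ℤ)).obj (C K)).Acyclic :=
  fun j => map_C_exactAt K Φ j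

end acyclic

lemma C_acyclic (K : CochainComplex A ℤ) : (C K).Acyclic := by
  intro j
  have := map_C_exactAt K (𝟭 A) j
  exact this

section ext

variable (K : CochainComplex A ℤ)

/-- chain maps into `C K` from families of maps to the injectives -/
noncomputable def toC {M : CochainComplex A ℤ} (m : ∀ p, M.X p ⟶ J K p) : M ⟶ C K where
  f p := liftC K (m p) (M.d p (p + 1) ≫ m (p + 1))
  comm' p q hpq := by
    obtain rfl : p + 1 = q := hpq
    rw [C_d']
    apply hom_ext <;> simp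

lemma toC_f {M : CochainComplex A ℤ} (m : ∀ p, M.X p ⟶ J K p) (p : ℤ) :
    (toC K m).f p = liftC K (m p) (M.d p (p + 1) ≫ m (p + 1)) := rfl

/-- the first component of a chain map into `C K` -/
noncomputable def fstC {M : CochainComplex A ℤ} (g : M ⟶ C K) (p : ℤ) : M.X p ⟶ J K p :=
  g.f p ≫ pr₁ K p

lemma fstC_toC {M : CochainComplex A ℤ} (m : ∀ p, M.X p ⟶ J K p) (p : ℤ) :
    fstC K (toC K m) p = m p := by
  simp [fstC, toC_f]

lemma eq_toC {M : CochainComplex A ℤ} (g : M ⟶ C K) : g = toC K (fstC K g) := by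
  ext p
  have h := g.comm p (p + 1)
  rw [C_d'] at h
  have h' : g.f p ≫ pr₂ K p = M.d p (p + 1) ≫ fstC K g (p + 1) := by
    have := congrArg (fun t => t ≫ pr₁ K (p + 1)) h
    simpa [fstC] using this
  rw [toC_f]
  apply hom_ext
  · simp [fstC]
  · simp [h']

lemma comp_toC {M N : CochainComplex A ℤ} (φ : M ⟶ N) (m : ∀ p, N.X p ⟶ J K p) :
    φ ≫ toC K m = toC K (fun p => φ.f p ≫ m p) := by
  ext p
  rw [HomologicalComplex.comp_f, toC_f, toC_f]
  apply hom_ext <;> simp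

/-- extension of maps into `C K` along degreewise monomorphisms -/
theorem exists_ext {X L : CochainComplex A ℤ} (φ : X ⟶ L) [∀ p, Mono (φ.f p)] (g : X ⟶ C K) :
    ∃ h : L ⟶ C K, φ ≫ h = g := by
  refine ⟨toC K (fun p => Injective.factorThru (fstC K g p) (φ.f p)), ?_⟩
  rw [comp_toC, eq_toC K g]
  congr 1
  funext p
  rw [Injective.comp_factorThru, fstC_toC]

end ext

end Groth.Agent.Helper9.RLn3
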