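import Mathlib
import Groth.Agent.Helper9.RLn3

/-! Iterated cokernels of the embeddings into contractible complexes of injectives
("suspensions"), lifts of morphisms, and the isomorphisms `Susp k X ≅ X⟦k⟧` in the derived
category. -/

set_option autoImplicit false
universe w v u
open CategoryTheory CategoryTheory.Limits

namespace Groth.Agent.Helper9.RLn4

open FAc2 RLn3

variable {A : Type u} [Category.{v} A] [Abelian A] [EnoughInjectives A]

/-- the cokernel of `X ⟶ C X` -/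
noncomputable abbrev Y (X : CochainComplex A ℤ) : CochainComplex A ℤ := (S X).X₃

/-- the iterated cokernel -/
noncomputable def Susp : ℕ → CochainComplex A ℤ → CochainComplex A ℤ
  | 0, X => X
  | k + 1, X => Susp k (Y X)

@[simp] lemma Susp_zero (X : CochainComplex A ℤ) : Susp 0 X = X := rfl
lemma Susp_succ (k : ℕ) (X : CochainComplex A ℤ) : Susp (k + 1) X = Susp k (Y X) := rfl

/-- a lift of a morphism to the complexes of injectives -/
structure Lift1 {X X' : CochainComplex A ℤ} (f : X ⟶ X') where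
  /-- the lift -/
  g : C X ⟶ C X'
  comm : ι X ≫ g = f ≫ ι X'

/-- the induced morphism on the cokernels -/
noncomputable def Lift1.Ymap {X X' : CochainComplex A ℤ} {f : X ⟶ X'} (l : Lift1 f) :
    Y X ⟶ Y X' :=
  cokernel.map (ι X) (ι X') f l.g l.comm

/-- the induced morphism of short exact sequences -/
noncomputable def Lift1.hom {X X' : CochainComplex A ℤ} {f : X ⟶ X'} (l : Lift1 f) :
    S X ⟶ S X' where
  τ₁ := f
  τ₂ := l.g
  τ₃ := l.Ymap
  comm₁₂ := l.comm.symm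
  comm₂₃ := by
    dsimp [S, Lift1.Ymap]
    simp

lemma nonempty_lift1 {X X' : CochainComplex A ℤ} (f : X ⟶ X') : Nonempty (Lift1 f) := by
  obtain ⟨h, hh⟩ := RLn3.exists_ext X' (ι X) (f ≫ ι X')
  exact ⟨⟨h, hh⟩⟩

/-- iterated lifts -/
def LiftN : (k : ℕ) → (X X' : CochainComplex A ℤ) → (X ⟶ X') → Type v
  | 0, _, _, _ => PUnit
  | k + 1, X, X', f => Σ l : Lift1 f, LiftN k (Y X) (Y X') l.Ymap

/-- the induced morphism on the iterated cokernels -/
noncomputable def suspMap : (k : ℕ) → (X X' : CochainComplex A ℤ) → (f : X ⟶ X') →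
    LiftN k X X' f → (Susp k X ⟶ Susp k X')
  | 0, _, _, f, _ => f
  | k + 1, X, X', _, ⟨l, L⟩ => suspMap k (Y X) (Y X') l.Ymap L

lemma nonempty_liftN (k : ℕ) : ∀ (X X' : CochainComplex A ℤ) (f : X ⟶ X'),
    Nonempty (LiftN k X X' f) := by
  induction k with
  | zero => exact fun _ _ _ => ⟨PUnit.unit⟩
  | succ k ih =>
    intro X X' f
    obtain ⟨l⟩ := nonempty_lift1 f
    obtain ⟨L⟩ := ih (Y X) (Y X') l.Ymap
    exact ⟨⟨l, L⟩⟩

section derived

variable [HasDerivedCategory.{w} A]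

open DerivedCategory Pretriangulated

lemma isIso_δ (X : CochainComplex A ℤ) : IsIso (triangleOfSESδ (S_shortExact X)) := by
  have hT := triangleOfSES_distinguished (S_shortExact X)
  have hz : IsZero (Q.obj (C X)) :=
    Groth.Agent.Helper1.HtpyKill.isZero_Q_obj_of_acyclic _ (C_acyclic X)
  exact (Triangle.isZero₂_iff_isIso₃ _ hT).1 hz

/-- `Y X ≅ X⟦1⟧` in the derived category -/
noncomputable def δIso (X : CochainComplex A ℤ) : Q.obj (Y X) ≅ (Q.obj X)⟦(1 : ℤ)⟧ :=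
  @asIso _ _ _ _ (triangleOfSESδ (S_shortExact X)) (isIso_δ X)

lemma δIso_hom (X : CochainComplex A ℤ) : (δIso X).hom = triangleOfSESδ (S_shortExact X) := rfl

lemma δIso_naturality {X X' : CochainComplex A ℤ} {f : X ⟶ X'} (l : Lift1 f) :
    Q.map l.Ymap ≫ (δIso X').hom = (δIso X).hom ≫ (Q.map f)⟦(1 : ℤ)⟧' := by
  rw [δIso_hom, δIso_hom]
  exact (triangleOfSESδ_naturality (S_shortExact X) (S_shortExact X') l.hom).symm

/-- `Susp k X ≅ X⟦k⟧` in the derived category -/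
noncomputable def e : (k : ℕ) → (X : CochainComplex A ℤ) →
    (Q.obj (Susp k X) ≅ (Q.obj X)⟦(k : ℤ)⟧)
  | 0, X => ((shiftFunctorZero' (DerivedCategory A) ((0 : ℕ) : ℤ) (by simp)).app (Q.obj X)).symm
  | k + 1, X => e k (Y X) ≪≫ (shiftFunctor (DerivedCategory A) (k : ℤ)).mapIso (δIso X) ≪≫
      ((shiftFunctorAdd' (DerivedCategory A) (1 : ℤ) (k : ℤ) ((k + 1 : ℕ) : ℤ)
        (by push_cast; ring)).app (Q.obj X)).symm

lemma e_succ_hom (k : ℕ) (X : CochainComplex A ℤ) :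
    (e (k + 1) X).hom = (e k (Y X)).hom ≫ ((δIso X).hom)⟦(k : ℤ)⟧' ≫
      (shiftFunctorAdd' (DerivedCategory A) (1 : ℤ) (k : ℤ) ((k + 1 : ℕ) : ℤ)
        (by push_cast; ring)).inv.app (Q.obj X) := rfl

lemma e_nat_step (k : ℕ) {X X' : CochainComplex A ℤ} {f : X ⟶ X'} (l : Lift1 f)
    (φ : Susp k (Y X) ⟶ Susp k (Y X'))
    (ih : Q.map φ ≫ (e k (Y X')).hom = (e k (Y X)).hom ≫ (Q.map l.Ymap)⟦(k : ℤ)⟧') :
    Q.map φ ≫ ((e k (Y X')).hom ≫ ((δIso X').hom)⟦(k : ℤ)⟧' ≫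
      (shiftFunctorAdd' (DerivedCategory A) (1 : ℤ) (k : ℤ) ((k + 1 : ℕ) : ℤ)
        (by push_cast; ring)).inv.app (Q.obj X')) =
    ((e k (Y X)).hom ≫ ((δIso X).hom)⟦(k : ℤ)⟧' ≫
      (shiftFunctorAdd' (DerivedCategory A) (1 : ℤ) (k : ℤ) ((k + 1 : ℕ) : ℤ)
        (by push_cast; ring)).inv.app (Q.obj X)) ≫ (Q.map f)⟦((k + 1 : ℕ) : ℤ)⟧' := by
  have h2 : (Q.map l.Ymap)⟦(k : ℤ)⟧' ≫ ((δIso X').hom)⟦(k : ℤ)⟧' =
      ((δIso X).hom)⟦(k : ℤ)⟧' ≫ ((Q.map f)⟦(1 : ℤ)⟧')⟦(k : ℤ)⟧' := by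
    rw [← Functor.map_comp, δIso_naturality l, Functor.map_comp]
  have h3 := (shiftFunctorAdd' (DerivedCategory A) (1 : ℤ) (k : ℤ) ((k + 1 : ℕ) : ℤ)
        (by push_cast; ring)).inv.naturality (Q.map f)
  simp only [Functor.comp_map] at h3
  rw [reassoc_of% ih, reassoc_of% h2, h3]
  simp only [Category.assoc]

lemma e_naturality (k : ℕ) : ∀ (X X' : CochainComplex A ℤ) (f : X ⟶ X') (L : LiftN k X X' f),
    Q.map (suspMap k X X' f L) ≫ (e k X').hom = (e k X).hom ≫ (Q.map f)⟦(k : ℤ)⟧' := by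
  induction k with
  | zero =>
    intro X X' f L
    exact ((shiftFunctorZero' (DerivedCategory A) ((0 : ℕ) : ℤ) (by simp)).inv.naturality
      (Q.map f))
  | succ k ih =>
    intro X X' f L
    obtain ⟨l, L'⟩ := L
    exact e_nat_step k l (suspMap k (Y X) (Y X') l.Ymap L') (ih (Y X) (Y X') l.Ymap L')

end derived

end Groth.Agent.Helper9.RLn4
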