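import Mathlib
import Groth.Agent.Helper9.RLn2
import Groth.Agent.Helper9.RLn4

/-! The iterated connecting morphism `R⁰F(Susp k X) ⟶ RᵏF(X)` of complexes and the conditions
under which it is a quasi-isomorphism. -/

set_option autoImplicit false
universe v u v' u'
open CategoryTheory CategoryTheory.Limits

namespace Groth.Agent.Helper9.RLn5

open FAc2 RLn2 RLn3 RLn4 HomologicalComplex

section abstract

variable {B : Type u'} [Category.{v'} B] [Abelian B]

lemma quasiIso_of_acyclic {K L : CochainComplex B ℤ} (f : K ⟶ L) (hK : K.Acyclic)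
    (hL : L.Acyclic) : QuasiIso f := by
  rw [quasiIso_iff]
  intro i
  rw [quasiIsoAt_iff_exactAt f i (hK i)]
  exact hL i

lemma quasiIso_g_of_acyclic {S : ShortComplex (CochainComplex B ℤ)} (hS : S.ShortExact)
    (h₁ : S.X₁.Acyclic) : QuasiIso S.g := by
  rw [quasiIso_iff]
  intro i
  rw [quasiIsoAt_iff_isIso_homologyMap]
  have hz : ∀ j, IsZero (S.X₁.homology j) := fun j =>
    (exactAt_iff_isZero_homology _ _).1 (h₁ j)
  haveI : Mono (homologyMap S.g i) := (hS.homology_exact₂ i).mono_g ((hz i).eq_of_src _ _)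
  haveI : Epi (homologyMap S.g i) :=
    (hS.homology_exact₃ i (i + 1) (by simp)).epi_f ((hz _).eq_of_tgt _ _)
  exact isIso_of_mono_of_epi _

/-- the last map of a four term exact sequence of complexes with acyclic first two terms is a
quasi-isomorphism -/
theorem quasiIso_of_four_term {A₁ A₂ A₃ A₄ : CochainComplex B ℤ} (a : A₁ ⟶ A₂) (b : A₂ ⟶ A₃)
    (c : A₃ ⟶ A₄) (hab : a ≫ b = 0) (hbc : b ≫ c = 0) [Mono a] [Epi c]
    (h₂ : (ShortComplex.mk a b hab).Exact) (h₃ : (ShortComplex.mk b c hbc).Exact)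
    (hA₁ : A₁.Acyclic) (hA₂ : A₂.Acyclic) : QuasiIso c := by
  let S₁ : ShortComplex (CochainComplex B ℤ) :=
    ShortComplex.mk a (cokernel.π a) (cokernel.condition a)
  have hS₁ : S₁.ShortExact :=
    { exact := ShortComplex.exact_cokernel a
      mono_f := inferInstanceAs (Mono a)
      epi_g := inferInstanceAs (Epi (cokernel.π a)) }
  have hI : (cokernel a).Acyclic :=
    hS₁.acyclic_X₃ (quasiIso_of_acyclic a hA₁ hA₂)
  let j : cokernel a ⟶ A₃ := cokernel.desc a b hab
  have hj : j ≫ c = 0 := by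
    rw [← cancel_epi (cokernel.π a), cokernel.π_desc_assoc, hbc, comp_zero]
  haveI : Mono j := h₂.mono_cokernelDesc
  let S₂ : ShortComplex (CochainComplex B ℤ) := ShortComplex.mk j c hj
  let φ : ShortComplex.mk b c hbc ⟶ S₂ :=
    { τ₁ := cokernel.π a
      τ₂ := 𝟙 _
      τ₃ := 𝟙 _
      comm₁₂ := by dsimp [S₂, j]; rw [cokernel.π_desc, Category.comp_id]
      comm₂₃ := by dsimp [S₂]; rw [Category.comp_id, Category.id_comp] }
  haveI : Epi φ.τ₁ := inferInstanceAs (Epi (cokernel.π a))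
  haveI : IsIso φ.τ₂ := inferInstanceAs (IsIso (𝟙 _))
  haveI : Mono φ.τ₃ := inferInstanceAs (Mono (𝟙 _))
  have hS₂ : S₂.ShortExact :=
    { exact := (ShortComplex.exact_iff_of_epi_of_isIso_of_mono φ).1 h₃
      mono_f := inferInstanceAs (Mono j)
      epi_g := inferInstanceAs (Epi c) }
  exact quasiIso_g_of_acyclic hS₂ hI

lemma quasiIso_comp' {K L M : CochainComplex B ℤ} (a : K ⟶ L) (b : L ⟶ M) (ha : QuasiIso a)
    (hb : QuasiIso b) : QuasiIso (a ≫ b) := inferInstance

lemma quasiIso_of_isIso' {K L : CochainComplex B ℤ} (a : K ⟶ L) (ha : IsIso a) :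
    QuasiIso a := inferInstance

end abstract

variable {A : Type u} [Category.{v} A] [Abelian A] [EnoughInjectives A]
  {B : Type u'} [Category.{v'} B] [Abelian B] (F : A ⥤ B) [F.Additive]

/-- the termwise derived functors on complexes -/
noncomputable abbrev RF (k : ℕ) : CochainComplex A ℤ ⥤ CochainComplex B ℤ :=
  (F.rightDerived k).mapHomologicalComplex (ComplexShape.up ℤ)

section ses

variable (S : ShortComplex (CochainComplex A ℤ)) (hS : S.ShortExact)
  (h₂ : ∀ m, Acyc F (S.X₂.X m))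

include hS h₂ in
lemma van_X₃ (k : ℕ) (h₁ : ∀ m, Van F (k + 1) (S.X₁.X m)) (m : ℤ) : Van F k (S.X₃.X m) :=
  RLn2.van_X₃ F (Sm S m) (Sm_shortExact S hS m) (h₂ m) k (h₁ m)

include h₂ in
lemma isIso_δch (k : ℕ) (hk : 1 ≤ k) : IsIso (δch F S hS k) := by
  haveI : ∀ m, IsIso ((δch F S hS k).f m) := fun m =>
    RLn2.isIso_δ F (Sm S m) (Sm_shortExact S hS m) (h₂ m) k hk
  exact HomologicalComplex.Hom.isIso_of_components _

include h₂ in
lemma epi_δch (k : ℕ) : Epi (δch F S hS k) := by
  haveI : ∀ m, Epi ((δch F S hS k).f m) := fun m =>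
    RLn2.epi_δ F (Sm S m) (Sm_shortExact S hS m) (h₂ m) k
  exact HomologicalComplex.epi_of_epi_f _ inferInstance

include hS in
lemma mono_RF_zero_map_f : Mono ((RF F 0).map S.f) := by
  haveI : ∀ m, Mono (((RF F 0).map S.f).f m) := fun m =>
    Groth.Agent.Helper1.Horseshoe.mono_rightDerived_zero_map F (Sm S m) (Sm_shortExact S hS m)
  exact HomologicalComplex.mono_of_mono_f _ inferInstance

include hS in
lemma exact_RF_map (k : ℕ) : (S.map (RF F k)).Exact := by
  rw [HomologicalComplex.exact_iff_degreewise_exact]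
  intro m
  obtain ⟨w, h⟩ := Groth.Agent.Helper1.Horseshoe.exact_rightDerived_map F (Sm S m)
    (Sm_shortExact S hS m) k
  exact h

lemma RF_map_g_δch (k : ℕ) : (RF F k).map S.g ≫ δch F S hS k = 0 := by
  ext m
  exact RLn2.w₃ F (Sm S m) (Sm_shortExact S hS m) k

lemma exact_RF_map_g_δch (k : ℕ) :
    (ShortComplex.mk _ _ (RF_map_g_δch F S hS k)).Exact := by
  rw [HomologicalComplex.exact_iff_degreewise_exact]
  intro m
  exact RLn2.exact₃ F (Sm S m) (Sm_shortExact S hS m) k

include h₂ in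
/-- the connecting morphism in degree `0` is a quasi-isomorphism when `R⁰F` of the first two terms
are acyclic -/
lemma quasiIso_δch_zero (hA₁ : ((RF F 0).obj S.X₁).Acyclic) (hA₂ : ((RF F 0).obj S.X₂).Acyclic) :
    QuasiIso (δch F S hS 0) := by
  haveI := mono_RF_zero_map_f F S hS
  haveI := epi_δch F S hS h₂ 0
  exact quasiIso_of_four_term ((RF F 0).map S.f) ((RF F 0).map S.g) (δch F S hS 0)
    (by rw [← Functor.map_comp, S.zero, Functor.map_zero]) (RF_map_g_δch F S hS 0)
    (exact_RF_map F S hS 0) (exact_RF_map_g_δch F S hS 0) hA₁ hA₂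

include hS in
/-- `R⁰F` of the third term is acyclic when `R⁰F` of the first two terms are acyclic and `R¹F`
vanishes on the first term -/
lemma acyclic_RF_zero_X₃ (h₁ : ∀ m, IsZero ((F.rightDerived 1).obj (S.X₁.X m)))
    (hA₁ : ((RF F 0).obj S.X₁).Acyclic) (hA₂ : ((RF F 0).obj S.X₂).Acyclic) :
    ((RF F 0).obj S.X₃).Acyclic := by
  haveI := mono_RF_zero_map_f F S hS
  haveI : Epi ((RF F 0).map S.g) := by
    haveI : ∀ m, Epi (((RF F 0).map S.g).f m) := fun m =>
      (RLn2.exact₃ F (Sm S m) (Sm_shortExact S hS m) 0).epi_f ((h₁ m).eq_of_tgt _ _)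
    exact HomologicalComplex.epi_of_epi_f _ inferInstance
  have hSE : (S.map (RF F 0)).ShortExact :=
    { exact := exact_RF_map F S hS 0
      mono_f := inferInstanceAs (Mono ((RF F 0).map S.f))
      epi_g := inferInstanceAs (Epi ((RF F 0).map S.g)) }
  exact hSE.acyclic_X₃ (quasiIso_of_acyclic _ hA₁ hA₂)

end ses

/-- the iterated connecting morphism -/
noncomputable def γ : (k i : ℕ) → (X : CochainComplex A ℤ) →
    ((RF F i).obj (Susp k X) ⟶ (RF F (i + k)).obj X)
  | 0, _, _ => 𝟙 _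
  | k + 1, i, X => γ k i (Y X) ≫ δch F (S X) (S_shortExact X) (i + k)

lemma γ_succ (k i : ℕ) (X : CochainComplex A ℤ) :
    γ F (k + 1) i X = γ F k i (Y X) ≫ δch F (S X) (S_shortExact X) (i + k) := rfl

lemma γ_nat_step (k i : ℕ) {X X' : CochainComplex A ℤ} {f : X ⟶ X'} (l : Lift1 f)
    (φ : Susp k (Y X) ⟶ Susp k (Y X'))
    (ih : (RF F i).map φ ≫ γ F k i (Y X') = γ F k i (Y X) ≫ (RF F (i + k)).map l.Ymap) :
    (RF F i).map φ ≫ (γ F k i (Y X') ≫ δch F (S X') (S_shortExact X') (i + k)) =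
      (γ F k i (Y X) ≫ δch F (S X) (S_shortExact X) (i + k)) ≫ (RF F (i + k + 1)).map f := by
  have h := δch_naturality F l.hom (S_shortExact X) (S_shortExact X') (i + k)
  rw [reassoc_of% ih, Category.assoc]
  congr 1
  exact h.symm

lemma γ_naturality (k : ℕ) : ∀ (i : ℕ) (X X' : CochainComplex A ℤ) (f : X ⟶ X')
    (L : LiftN k X X' f),
    (RF F i).map (suspMap k X X' f L) ≫ γ F k i X' = γ F k i X ≫ (RF F (i + k)).map f := by
  induction k with
  | zero =>
    intro i X X' f L
    exact (Category.comp_id _).trans (Category.id_comp _).symm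
  | succ k ih =>
    intro i X X' f L
    obtain ⟨l, L'⟩ := L
    exact γ_nat_step F k i l (suspMap k (Y X) (Y X') l.Ymap L') (ih i (Y X) (Y X') l.Ymap L')

lemma acyc_C (X : CochainComplex A ℤ) (m : ℤ) : Acyc F ((S X).X₂.X m) :=
  haveI : Injective ((C X).X m) := inferInstance
  acyc_of_injective F ((C X).X m)

/-- the iterated connecting morphism is a quasi-isomorphism on complexes whose terms have vanishing
higher derived functors outside degree `k` and with `R⁰F` acyclic -/
theorem quasiIso_γ (k : ℕ) : ∀ (X : CochainComplex A ℤ), (∀ m, Van F (k + 1) (X.X m)) →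
    ((RF F 0).obj X).Acyclic → QuasiIso (γ F (k + 1) 0 X) := by
  induction k with
  | zero =>
    intro X hX hA
    rw [γ_succ]
    have h1 : QuasiIso (δch F (S X) (S_shortExact X) (0 + 0)) :=
      quasiIso_δch_zero F (S X) (S_shortExact X) (acyc_C F X) hA
        (map_C_acyclic X (F.rightDerived 0))
    have h0 : QuasiIso (γ F 0 0 (Y X)) := by
      show QuasiIso (𝟙 _)
      infer_instance
    exact quasiIso_comp' _ _ h0 h1
  | succ k ih =>
    intro X hX hA
    rw [γ_succ]
    have hY : ∀ m, Van F (k + 1) ((Y X).X m) :=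
      van_X₃ F (S X) (S_shortExact X) (acyc_C F X) (k + 1) hX
    have hAY : ((RF F 0).obj (Y X)).Acyclic :=
      acyclic_RF_zero_X₃ F (S X) (S_shortExact X)
        (fun m => hX m 1 le_rfl (by omega)) hA (map_C_acyclic X (F.rightDerived 0))
    have h0 := ih (Y X) hY hAY
    have h1 : IsIso (δch F (S X) (S_shortExact X) (0 + (k + 1))) :=
      isIso_δch F (S X) (S_shortExact X) (acyc_C F X) (0 + (k + 1)) (by omega)
    exact quasiIso_comp' _ _ h0 (quasiIso_of_isIso' _ h1)

end Groth.Agent.Helper9.RLn5
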