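import Mathlib

/-!
# Complexes with terms in a class of objects, as a triangulated subcategory of the homotopy
category

Let `P` be a class of objects of an abelian category `A` which is closed under isomorphisms, contains
the zero objects and is closed under binary biproducts. The objects of `K(A)` isomorphic to complexes
with terms in `P` form a triangulated subcategory.
-/

set_option autoImplicit false
set_option linter.style.haveILetI false
set_option linter.unusedSectionVars false

namespace Groth.Agent.Helper9.TermProp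

open CategoryTheory Category Limits Pretriangulated ObjectProperty HomologicalComplex
  CochainComplex ZeroObject

universe v u

variable {A : Type u} [Category.{v} A] [Abelian A]

/-- the hypotheses on a class of objects -/
structure Good (P : A → Prop) : Prop where
  of_iso : ∀ {X Y : A} (_ : X ≅ Y), P X → P Y
  of_isZero : ∀ {X : A}, IsZero X → P X
  biprod : ∀ {X Y : A}, P X → P Y → P (X ⊞ Y)

variable (P : A → Prop)

/-- objects of `K(A)` isomorphic to complexes with terms in `P` -/
def AT : ObjectProperty (HomotopyCategory A (ComplexShape.up ℤ)) := fun Z =>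
  ∃ L : CochainComplex A ℤ, (∀ p, P (L.X p)) ∧
    Nonempty (Z ≅ (HomotopyCategory.quotient A (ComplexShape.up ℤ)).obj L)

lemma at_quotient_obj (L : CochainComplex A ℤ) (hL : ∀ p, P (L.X p)) :
    AT P ((HomotopyCategory.quotient A (ComplexShape.up ℤ)).obj L) := ⟨L, hL, ⟨Iso.refl _⟩⟩

instance : (AT P).IsClosedUnderIsomorphisms where
  of_iso e := by
    rintro ⟨L, hL, ⟨e'⟩⟩
    exact ⟨L, hL, ⟨e.symm ≪≫ e'⟩⟩

variable {P}

lemma containsZero (hP : Good P) : (AT P).ContainsZero where
  exists_zero := ⟨(HomotopyCategory.quotient _ _).obj 0,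
    Functor.map_isZero _ (isZero_zero _), at_quotient_obj P 0 (fun p => hP.of_isZero
      (Functor.map_isZero (HomologicalComplex.eval A (ComplexShape.up ℤ) p) (isZero_zero _)))⟩

variable (P) in
instance : (AT P).IsStableUnderShift ℤ where
  isStableUnderShiftBy n :=
    { le_shift := fun X hX => by
        obtain ⟨L, hL, ⟨e⟩⟩ := hX
        exact ⟨L⟦n⟧, fun p => hL _, ⟨(CategoryTheory.shiftFunctor (HomotopyCategory A (ComplexShape.up ℤ)) n).mapIso e ≪≫
          (((HomotopyCategory.quotient A (ComplexShape.up ℤ)).commShiftIso n).app L).symm⟩⟩ }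

lemma p_mappingCone (hP : Good P) {K L : CochainComplex A ℤ} (φ : K ⟶ L) (hK : ∀ p, P (K.X p))
    (hL : ∀ p, P (L.X p)) (p : ℤ) : P ((mappingCone φ).X p) :=
  hP.of_iso (homotopyCofiber.XIsoBiprod φ p (p + 1) rfl).symm (hP.biprod (hK _) (hL _))

lemma isTriangulatedClosed₃ (hP : Good P) : (AT P).IsTriangulatedClosed₃ := .mk' (by
  rintro T hT ⟨K, hK, ⟨e₁⟩⟩ ⟨L, hL, ⟨e₂⟩⟩
  obtain ⟨φ, hφ⟩ := (HomotopyCategory.quotient A (ComplexShape.up ℤ)).map_surjective
    (e₁.inv ≫ T.mor₁ ≫ e₂.hom)
  have hT' := HomotopyCategory.mappingCone_triangleh_distinguished φ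
  obtain ⟨e, -, -⟩ := exists_iso_of_arrow_iso T _ hT hT'
    (Arrow.isoMk e₁ e₂ (by
      change e₁.hom ≫ (HomotopyCategory.quotient A (ComplexShape.up ℤ)).map φ = T.mor₁ ≫ e₂.hom
      rw [hφ, Iso.hom_inv_id_assoc]))
  exact ⟨mappingCone φ, p_mappingCone hP φ hK hL, ⟨Triangle.π₃.mapIso e⟩⟩)

lemma isTriangulated (hP : Good P) : (AT P).IsTriangulated := by
  haveI := containsZero hP
  haveI := isTriangulatedClosed₃ hP
  haveI : (AT P).IsTriangulatedClosed₂ := IsTriangulatedClosed₂.of_isTriangulatedClosed₃
  exact { }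

end Groth.Agent.Helper9.TermProp
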