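import Mathlib
import Groth.Agent.Helper1.Horseshoe
import Groth.Agent.Helper1.RDAdd
import Groth.Agent.Helper9.RLn2
import Groth.Agent.Helper9.TermProp
import Groth.Agent.Helper9.LCov
import Groth.Agent.Helper9.LRes
import Groth.Agent.Helper9.FAc3
import Groth.Agent.Helper9.KFlat3
import Groth.Agent.Helper9.LDeriv7

/-!
# Left resolutions by complexes whose terms have cohomology concentrated in degree `n`

Let `F : A ⥤ B` be an additive functor of cohomological dimension `≤ n` such that every object is a
quotient of an object `Y` with `RⁱF(Y) = 0` for `i ≠ n`. Then every complex has a left resolution by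
a complex with such terms, and `RⁿF` preserves the acyclic complexes with such terms.
-/

set_option autoImplicit false
set_option linter.style.haveILetI false
set_option linter.unusedSectionVars false

namespace Groth.Agent.Helper9.RLn6

open CategoryTheory Category Limits Pretriangulated ObjectProperty HomologicalComplex
  CochainComplex ZeroObject Groth.Agent.Helper1 Groth.Agent.Helper9.RLn2

universe w w' v u v' u'

variable {A : Type u} [Category.{v} A] [Abelian A] [EnoughInjectives A]
  {B : Type u'} [Category.{v'} B] [Abelian B] (F : A ⥤ B) [F.Additive] (n : ℕ)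

/-- `RⁱF(X) = 0` for all `i ≠ n` -/
def InP (X : A) : Prop := ∀ i : ℕ, i ≠ n → IsZero ((F.rightDerived i).obj X)

/-- `RⁱF(X) = 0` for all `i < n - j` -/
def CoDim (j : ℕ) (X : A) : Prop := ∀ i : ℕ, i + j < n → IsZero ((F.rightDerived i).obj X)

lemma good_inP : TermProp.Good (InP F n) where
  of_iso e h i hi := (h i hi).of_iso ((F.rightDerived i).mapIso e.symm)
  of_isZero h i _ := by
    haveI : (F.rightDerived i).Additive := RDAdd.rightDerived_additive F i
    exact Functor.map_isZero _ h
  biprod {X Y} hX hY i hi := by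
    haveI : (F.rightDerived i).Additive := RDAdd.rightDerived_additive F i
    haveI : PreservesBinaryBiproducts (F.rightDerived i) :=
      preservesBinaryBiproducts_of_preservesBiproducts _
    refine IsZero.of_iso ?_ ((F.rightDerived i).mapBiprod X Y)
    rw [IsZero.iff_id_eq_zero]
    apply biprod.hom_ext
    · exact (hX i hi).eq_of_tgt _ _
    · exact (hY i hi).eq_of_tgt _ _

variable {F n}

lemma coDim_all (X : A) : CoDim F n n X := fun i hi => by omega

lemma inP_of_coDim_zero (hdim : ∀ (X : A) (i : ℕ), n < i → IsZero ((F.rightDerived i).obj X))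
    {X : A} (h : CoDim F n 0 X) : InP F n X := fun i hi => by
  rcases lt_or_gt_of_ne hi with h' | h'
  · exact h i (by omega)
  · exact hdim X i h'

lemma coDim_zero_of_inP {X : A} (h : InP F n X) : CoDim F n 0 X := fun i hi => h i (by omega)

/-- codimension shifting -/
lemma coDim_X₁ {S : ShortComplex A} (hS : S.ShortExact) {j : ℕ} (h₂ : InP F n S.X₂)
    (h₃ : CoDim F n (j + 1) S.X₃) : CoDim F n j S.X₁ := fun i hi => by
  rcases Nat.eq_zero_or_pos i with rfl | hi'
  · haveI := Horseshoe.mono_rightDerived_zero_map F S hS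
    exact IsZero.of_mono_eq_zero ((F.rightDerived 0).map S.f)
      ((h₂ 0 (by omega)).eq_of_tgt _ _)
  · obtain ⟨i', rfl⟩ : ∃ i', i = i' + 1 := ⟨i - 1, by omega⟩
    exact (exact₁ F S hS i').isZero_of_both_zeros ((h₃ i' (by omega)).eq_of_src _ _)
      ((h₂ (i' + 1) (by omega)).eq_of_tgt _ _)

variable (F n)

/-- objects of `K(A)` isomorphic to complexes with terms in `P` -/
abbrev AP : ObjectProperty (HomotopyCategory A (ComplexShape.up ℤ)) := TermProp.AT (InP F n)

instance : (AP F n).IsTriangulated := TermProp.isTriangulated (good_inP F n)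

variable {F n}

section

variable (hdim : ∀ (X : A) (i : ℕ), n < i → IsZero ((F.rightDerived i).obj X))
  (c : LCov.Cov (InP F n))

include hdim c

/-- left resolutions by complexes with terms in `P`, by induction on the codimension of the
terms -/
lemma res_of_coDim (j : ℕ) : ∀ (K : CochainComplex A ℤ), (∀ p, CoDim F n j (K.X p)) →
    ∃ (P : HomotopyCategory A (ComplexShape.up ℤ))
      (q : P ⟶ (HomotopyCategory.quotient A (ComplexShape.up ℤ)).obj K),
      AP F n P ∧ (HomotopyCategory.subcategoryAcyclic A).trW q := by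
  induction j with
  | zero =>
    intro K hK
    exact ⟨_, 𝟙 _, TermProp.at_quotient_obj _ K (fun p => inP_of_coDim_zero hdim (hK p)),
      MorphismProperty.id_mem _ _⟩
  | succ j ih =>
    intro K hK
    have hS := LCov.S_shortExact c K
    have hC : ∀ p, InP F n ((LCov.C c K).X p) := fun p =>
      LCov.mem_C c K (good_inP F n).biprod p
    have hN : ∀ p, CoDim F n j ((LCov.N c K).X p) := fun p =>
      coDim_X₁ (LCov.shortExact_eval c K p) (hC p) (hK p)
    obtain ⟨R, r, hR, hr⟩ := ih (LCov.N c K) hN
    have hT := HomotopyCategory.mappingCone_triangleh_distinguished (LCov.S c K).f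
    have hdesc : (HomotopyCategory.subcategoryAcyclic A).trW
        ((HomotopyCategory.quotient A (ComplexShape.up ℤ)).map
          (mappingCone.descShortComplex (LCov.S c K))) := by
      rw [← HomotopyCategory.quasiIso_eq_trW_subcategoryAcyclic,
        HomotopyCategory.quotient_map_mem_quasiIso_iff, HomologicalComplex.mem_quasiIso_iff]
      exact mappingCone.quasiIso_descShortComplex hS
    obtain ⟨P, ι, q, hP, hq, -⟩ := LRes.exists_res_of_fiber (A := AP F n)
      (B := HomotopyCategory.subcategoryAcyclic A) _ hT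
      (TermProp.at_quotient_obj _ (LCov.C c K) hC) r hR hr
    exact ⟨P, q ≫ (HomotopyCategory.quotient A (ComplexShape.up ℤ)).map
          (mappingCone.descShortComplex (LCov.S c K)), hP,
      MorphismProperty.comp_mem _ _ _ hq hdesc⟩

theorem hasRes : LRes.HasRes (AP F n) (HomotopyCategory.subcategoryAcyclic A) where
  exists_res X := by
    obtain ⟨K, rfl⟩ : ∃ K, X = (HomotopyCategory.quotient A (ComplexShape.up ℤ)).obj K :=
      ⟨X.as, rfl⟩
    exact res_of_coDim hdim c n K (fun p => coDim_all _)

theorem hasRelRes : LDeriv2.HasRelRes (AP F n) (HomotopyCategory.subcategoryAcyclic A) :=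
  LRes.hasRelRes (hasRes hdim c)

end

section exactness

variable {B' : Type*} [Category B'] [Abelian B'] (G : A ⥤ B') [G.Additive]

/-- an additive functor which sends the short exact sequences of cycles of an acyclic complex
to short exact sequences preserves the exactness of the complex -/
lemma map_exactAt_of_shortExact (K : CochainComplex A ℤ)
    (h : ∀ p, ((FAc3.S K p).map G).ShortExact) (p : ℤ) :
    (((G.mapHomologicalComplex (ComplexShape.up ℤ)).obj K).sc' p (p + 1) (p + 1 + 1)).Exact := by
  haveI : Epi (G.map (FAc3.toZ K p)) := (h p).epi_g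
  haveI : Mono (G.map (kernel.ι (K.d (p + 1 + 1) (p + 1 + 1 + 1)))) := (h (p + 1 + 1)).mono_f
  let S₁ : ShortComplex B' := ShortComplex.mk (G.map (K.d p (p + 1)))
    (G.map (K.d (p + 1) (p + 1 + 1))) (by rw [← G.map_comp, K.d_comp_d, G.map_zero])
  let Sm : ShortComplex B' := ShortComplex.mk (G.map (kernel.ι (K.d (p + 1) (p + 1 + 1))))
    (G.map (K.d (p + 1) (p + 1 + 1))) (by rw [← G.map_comp, kernel.condition, G.map_zero])
  let S₂ : ShortComplex B' := ShortComplex.mk (G.map (kernel.ι (K.d (p + 1) (p + 1 + 1))))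
    (G.map (FAc3.toZ K (p + 1))) (by rw [← G.map_comp, FAc3.ι_toZ, G.map_zero])
  have hS₂ : S₂.Exact := (h (p + 1)).exact
  let φ₁ : S₁ ⟶ Sm :=
    { τ₁ := G.map (FAc3.toZ K p)
      τ₂ := 𝟙 _
      τ₃ := 𝟙 _
      comm₁₂ := by
        dsimp [S₁, Sm]
        rw [comp_id, ← G.map_comp, FAc3.toZ_ι]
      comm₂₃ := by
        dsimp [S₁, Sm]
        rw [comp_id, id_comp] }
  let φ₂ : S₂ ⟶ Sm :=
    { τ₁ := 𝟙 _
      τ₂ := 𝟙 _
      τ₃ := G.map (kernel.ι (K.d (p + 1 + 1) (p + 1 + 1 + 1)))
      comm₁₂ := by
        dsimp [S₂, Sm]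
        rw [comp_id, id_comp]
      comm₂₃ := by
        dsimp [S₂, Sm]
        rw [id_comp, ← G.map_comp, FAc3.toZ_ι] }
  haveI : Epi φ₁.τ₁ := inferInstanceAs (Epi (G.map (FAc3.toZ K p)))
  haveI : IsIso φ₁.τ₂ := inferInstanceAs (IsIso (𝟙 _))
  haveI : Mono φ₁.τ₃ := inferInstanceAs (Mono (𝟙 _))
  haveI : Epi φ₂.τ₁ := inferInstanceAs (Epi (𝟙 _))
  haveI : IsIso φ₂.τ₂ := inferInstanceAs (IsIso (𝟙 _))
  haveI : Mono φ₂.τ₃ :=
    inferInstanceAs (Mono (G.map (kernel.ι (K.d (p + 1 + 1) (p + 1 + 1 + 1)))))
  have hSm : Sm.Exact := (ShortComplex.exact_iff_of_epi_of_isIso_of_mono φ₂).1 hS₂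
  have hS₁ : S₁.Exact := (ShortComplex.exact_iff_of_epi_of_isIso_of_mono φ₁).2 hSm
  exact hS₁

lemma map_acyclic_of_shortExact (K : CochainComplex A ℤ)
    (h : ∀ p, ((FAc3.S K p).map G).ShortExact) (p : ℤ) :
    ((G.mapHomologicalComplex (ComplexShape.up ℤ)).obj K).ExactAt p := by
  have := map_exactAt_of_shortExact G K h (p - 1)
  rw [HomologicalComplex.exactAt_iff' _ (p - 1) p (p + 1) (by simp) (by simp)]
  have e : p - 1 + 1 = p := sub_add_cancel p 1
  rw [e] at this
  exact this

end exactness

/-- `RⁿF` is exact on the short exact sequences of objects in `P` -/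
lemma shortExact_map_rightDerived {S : ShortComplex A} (hS : S.ShortExact)
    (h₁ : InP F n S.X₁) (h₃ : InP F n S.X₃) :
    (S.map (F.rightDerived n)).ShortExact := by
  obtain ⟨w, hw⟩ := Horseshoe.exact_rightDerived_map F S hS n
  have hmono : Mono ((F.rightDerived n).map S.f) := by
    rcases Nat.eq_zero_or_pos n with rfl | hn'
    · exact Horseshoe.mono_rightDerived_zero_map F S hS
    · obtain ⟨n', rfl⟩ : ∃ n', n = n' + 1 := ⟨n - 1, by omega⟩
      exact (exact₁ F S hS n').mono_g ((h₃ n' (by omega)).eq_of_src _ _)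
  have hepi : Epi ((F.rightDerived n).map S.g) :=
    (exact₃ F S hS n).epi_f ((h₁ (n + 1) (by omega)).eq_of_tgt _ _)
  exact { exact := hw, mono_f := hmono, epi_g := hepi }

section

variable (hdim : ∀ (X : A) (i : ℕ), n < i → IsZero ((F.rightDerived i).obj X))

include hdim

/-- downward induction on the codimension of the cycles -/
lemma inP_Z (K : CochainComplex A ℤ) (hK : ∀ p, K.ExactAt p) (hX : ∀ p, InP F n (K.X p))
    (j : ℕ) (hj : ∀ p, CoDim F n j (FAc3.Z K p)) : ∀ p, InP F n (FAc3.Z K p) := by
  induction j with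
  | zero => exact fun p => inP_of_coDim_zero hdim (hj p)
  | succ j ih =>
    apply ih
    intro p
    exact coDim_X₁ (FAc3.S_shortExact K hK p) (hX p) (hj (p + 1))

variable [(F.rightDerived n).Additive]

/-- `RⁿF` preserves acyclic complexes with terms in `P` -/
theorem map_acyclic (K : CochainComplex A ℤ) (hK : ∀ p, K.ExactAt p)
    (hX : ∀ p, InP F n (K.X p)) (p : ℤ) :
    (((F.rightDerived n).mapHomologicalComplex (ComplexShape.up ℤ)).obj K).ExactAt p := by
  have hZ : ∀ p, InP F n (FAc3.Z K p) := inP_Z hdim K hK hX n (fun p => coDim_all _)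
  exact map_acyclic_of_shortExact (F.rightDerived n) K
    (fun p => shortExact_map_rightDerived (FAc3.S_shortExact K hK p) (hZ p) (hZ (p + 1))) p

/-- `RⁿF` preserves quasi-isomorphisms between complexes with terms in `P` -/
lemma quasiIso_map {K L : CochainComplex A ℤ} (φ : K ⟶ L) (hK : ∀ p, InP F n (K.X p))
    (hL : ∀ p, InP F n (L.X p)) [QuasiIso φ] :
    QuasiIso (((F.rightDerived n).mapHomologicalComplex (ComplexShape.up ℤ)).map φ) := by
  rw [KFlat3.quasiIso_iff_acyclic_mappingCone]
  have hc : (mappingCone φ).Acyclic := (KFlat3.quasiIso_iff_acyclic_mappingCone φ).1 inferInstance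
  intro p
  exact (map_acyclic hdim (mappingCone φ) hc
    (TermProp.p_mappingCone (good_inP F n) φ hK hL) p).of_iso
    (mappingCone.mapHomologicalComplexIso φ (F.rightDerived n))

variable [HasDerivedCategory.{w'} B]

theorem isIso_map {X Y : HomotopyCategory A (ComplexShape.up ℤ)} (s : X ⟶ Y)
    (hX : AP F n X) (hY : AP F n Y) (hs : (HomotopyCategory.subcategoryAcyclic A).trW s) :
    IsIso (((F.rightDerived n).mapHomotopyCategory (ComplexShape.up ℤ) ⋙
      DerivedCategory.Qh).map s) := by
  obtain ⟨K, hK, ⟨e₁⟩⟩ := hX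
  obtain ⟨L, hL, ⟨e₂⟩⟩ := hY
  obtain ⟨φ, hφ⟩ := (HomotopyCategory.quotient A (ComplexShape.up ℤ)).map_surjective
    (e₁.inv ≫ s ≫ e₂.hom)
  haveI : QuasiIso φ := by
    have h1 : (HomotopyCategory.subcategoryAcyclic A).trW
        ((HomotopyCategory.quotient A (ComplexShape.up ℤ)).map φ) := by
      rw [hφ]
      exact MorphismProperty.comp_mem _ _ _ (ObjectProperty.trW_of_isIso _ _)
        (MorphismProperty.comp_mem _ _ _ hs (ObjectProperty.trW_of_isIso _ _))
    rw [← HomotopyCategory.quasiIso_eq_trW_subcategoryAcyclic,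
      HomotopyCategory.quotient_map_mem_quasiIso_iff, HomologicalComplex.mem_quasiIso_iff] at h1
    exact h1
  haveI := quasiIso_map hdim φ hK hL
  have h1 : IsIso (((F.rightDerived n).mapHomotopyCategory (ComplexShape.up ℤ) ⋙
      DerivedCategory.Qh).map
      ((HomotopyCategory.quotient A (ComplexShape.up ℤ)).map φ)) := by
    rw [Functor.comp_map, Functor.mapHomotopyCategory_map, DerivedCategory.isIso_Qh_map_iff]
    exact (HomotopyCategory.quotient_map_mem_quasiIso_iff _).2
      ((HomologicalComplex.mem_quasiIso_iff _).2 inferInstance)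
  have hs' : s = e₁.hom ≫ (HomotopyCategory.quotient A (ComplexShape.up ℤ)).map φ ≫ e₂.inv := by
    rw [hφ]
    simp
  rw [hs', Functor.map_comp, Functor.map_comp]
  infer_instance

variable [HasDerivedCategory.{w} A] (c : LCov.Cov (InP F n))

include c

/-- existence of the left derived functor of `RⁿF` on the unbounded derived category -/
theorem hasLeftDerivedFunctor :
    ((F.rightDerived n).mapHomotopyCategory (ComplexShape.up ℤ) ⋙
      DerivedCategory.Qh).HasLeftDerivedFunctor
      (HomotopyCategory.quasiIso A (ComplexShape.up ℤ)) := by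
  rw [HomotopyCategory.quasiIso_eq_trW_subcategoryAcyclic]
  haveI := LDeriv2.isLeftDerivabilityStructure (hasRelRes hdim c)
  refine LDeriv7.hasLeftDerivedFunctor_of_derives
    ((AP F n).triangulatedLocalizerMorphism (HomotopyCategory.subcategoryAcyclic A)) ?_
  intro X Y f hf
  have hf' := ((AP F n).triangulatedLocalizerMorphism
    (HomotopyCategory.subcategoryAcyclic A)).map f hf
  exact isIso_map hdim _ X.property Y.property hf'

/-- the counit of the left derived functor is an isomorphism on complexes with terms in `P` -/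
theorem isIso_totalLeftDerivedCounit_app
    [((F.rightDerived n).mapHomotopyCategory (ComplexShape.up ℤ) ⋙
      DerivedCategory.Qh).HasLeftDerivedFunctor
      (HomotopyCategory.quasiIso A (ComplexShape.up ℤ))]
    (K : CochainComplex A ℤ) (hK : ∀ p, InP F n (K.X p)) :
    IsIso ((((F.rightDerived n).mapHomotopyCategory (ComplexShape.up ℤ) ⋙
      DerivedCategory.Qh).totalLeftDerivedCounit
      DerivedCategory.Qh (HomotopyCategory.quasiIso A (ComplexShape.up ℤ))).app
        ((HomotopyCategory.quotient A (ComplexShape.up ℤ)).obj K)) := by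
  let G := (F.rightDerived n).mapHomotopyCategory (ComplexShape.up ℤ) ⋙
    (DerivedCategory.Qh (C := B))
  let W := HomotopyCategory.quasiIso A (ComplexShape.up ℤ)
  let LG := G.totalLeftDerived DerivedCategory.Qh W
  let α := G.totalLeftDerivedCounit DerivedCategory.Qh W
  haveI hK' : LG.IsRightKanExtension α := Functor.IsLeftDerivedFunctor.isRightKanExtension LG α W
  haveI : (DerivedCategory.Qh (C := A)).IsLocalization
      (HomotopyCategory.subcategoryAcyclic A).trW := by
    rw [← HomotopyCategory.quasiIso_eq_trW_subcategoryAcyclic]; infer_instance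
  haveI : LG.IsLeftDerivedFunctor α (HomotopyCategory.subcategoryAcyclic A).trW := ⟨hK'⟩
  exact LDeriv2.isIso_counit_app (hasRelRes hdim c) G
    (fun s hX hY hs => isIso_map hdim s hX hY hs) DerivedCategory.Qh LG α _
    (TermProp.at_quotient_obj _ K hK)

end

end Groth.Agent.Helper9.RLn6
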