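import Mathlib

/-!
# Comparison of a right derived functor and a shifted left derived functor on adapted objects:
the abstract bookkeeping
-/

set_option autoImplicit false
set_option linter.style.haveILetI false

namespace Groth.Agent.Helper9.RLn7a

open CategoryTheory Category Limits Functor

universe v₁ v₂ v₃ v₄ u₁ u₂ u₃ u₄

variable {CA : Type u₁} {CB : Type u₂} {DA : Type u₃} {DB : Type u₄} [Category.{v₁} CA]
  [Category.{v₂} CB] [Category.{v₃} DA] [Category.{v₄} DB]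
  [HasShift CA ℤ] [HasShift CB ℤ] [HasShift DB ℤ]
  (QA : CA ⥤ DA) (QB : CB ⥤ DB) [QB.CommShift ℤ]
  (Fc Gc : CA ⥤ CB) [Fc.CommShift ℤ]
  (RF LG : DA ⥤ DB) (α : Fc ⋙ QB ⟶ QA ⋙ RF) (β : QA ⋙ LG ⟶ Gc ⋙ QB) (a : ℤ)

/-- the data attached to an adapted object `P` -/
structure Data (P : CA) where
  /-- the suspended object -/
  S : CA
  /-- the comparison in the derived category -/
  ε : QA.obj P ≅ QA.obj (S⟦a⟧)
  /-- the comparison of the values of the functors -/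
  g : Fc.obj S ⟶ Gc.obj P
  isIso_g : IsIso (QB.map g)
  isIso_α : IsIso (α.app (S⟦a⟧))
  isIso_β : IsIso (β.app P)

variable {QA QB Fc Gc RF LG α β a}

/-- the comparison isomorphism attached to the data -/
noncomputable def Data.θ {P : CA} (d : Data QA QB Fc Gc RF LG α β a P) :
    RF.obj (QA.obj P) ≅ (LG.obj (QA.obj P))⟦a⟧ :=
  haveI := d.isIso_g
  haveI := d.isIso_α
  haveI := d.isIso_β
  RF.mapIso d.ε ≪≫ (asIso (α.app (d.S⟦a⟧))).symm ≪≫ ((Fc ⋙ QB).commShiftIso a).app d.S ≪≫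
    (shiftFunctor DB a).mapIso (asIso (QB.map d.g)) ≪≫
    (shiftFunctor DB a).mapIso (asIso (β.app P)).symm

lemma Data.θ_hom {P : CA} (d : Data QA QB Fc Gc RF LG α β a P) :
    haveI := d.isIso_α
    haveI := d.isIso_β
    d.θ.hom = RF.map d.ε.hom ≫ inv (α.app (d.S⟦a⟧)) ≫ ((Fc ⋙ QB).commShiftIso a).hom.app d.S ≫
      (QB.map d.g)⟦a⟧' ≫ (inv (β.app P))⟦a⟧' := by
  simp [Data.θ]

/-- naturality of the comparison isomorphism with respect to a morphism of data -/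
lemma Data.θ_naturality {P P' : CA} (d : Data QA QB Fc Gc RF LG α β a P)
    (d' : Data QA QB Fc Gc RF LG α β a P') (f : P ⟶ P') (s : d.S ⟶ d'.S)
    (h₁ : QA.map f ≫ d'.ε.hom = d.ε.hom ≫ QA.map (s⟦a⟧'))
    (h₂ : Fc.map s ≫ d'.g = d.g ≫ Gc.map f) :
    RF.map (QA.map f) ≫ d'.θ.hom = d.θ.hom ≫ (LG.map (QA.map f))⟦a⟧' := by
  haveI := d.isIso_α
  haveI := d.isIso_β
  haveI := d'.isIso_α
  haveI := d'.isIso_β
  rw [Data.θ_hom, Data.θ_hom]
  -- step 1
  rw [← RF.map_comp_assoc, h₁, RF.map_comp_assoc]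
  simp only [assoc]
  congr 1
  -- step 2 : naturality of `α`
  have hα : RF.map (QA.map (s⟦a⟧')) ≫ inv (α.app (d'.S⟦a⟧)) =
      inv (α.app (d.S⟦a⟧)) ≫ QB.map (Fc.map (s⟦a⟧')) := by
    rw [IsIso.comp_inv_eq, assoc, IsIso.eq_inv_comp]
    exact (α.naturality (s⟦a⟧')).symm
  rw [reassoc_of% hα]
  congr 1
  -- step 3 : naturality of the shift isomorphism
  have hc := ((Fc ⋙ QB).commShiftIso a).hom.naturality s
  dsimp at hc
  rw [reassoc_of% hc]
  congr 1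
  -- step 4
  have hg : (QB.map (Fc.map s))⟦a⟧' ≫ (QB.map d'.g)⟦a⟧' =
      (QB.map d.g)⟦a⟧' ≫ (QB.map (Gc.map f))⟦a⟧' := by
    rw [← Functor.map_comp, ← QB.map_comp, h₂, QB.map_comp, Functor.map_comp]

  rw [reassoc_of% hg]
  congr 1
  -- step 5 : naturality of `β`
  rw [← Functor.map_comp, ← Functor.map_comp]
  congr 1
  rw [IsIso.comp_inv_eq, assoc, IsIso.eq_inv_comp]
  exact (β.naturality f).symm

section rep

variable {𝒮 : Type*} [Category 𝒮] (U : 𝒮 ⥤ DA) (T₁ T₂ : DA ⥤ DB) (QA)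
  (P : 𝒮 → CA) (u : ∀ X, U.obj X ≅ QA.obj (P X))
  (θ : ∀ X, T₁.obj (QA.obj (P X)) ≅ T₂.obj (QA.obj (P X)))
  (h : ∀ {X Y : 𝒮} (φ : X ⟶ Y), ∃ f : P X ⟶ P Y,
    U.map φ ≫ (u Y).hom = (u X).hom ≫ QA.map f ∧
      T₁.map (QA.map f) ≫ (θ Y).hom = (θ X).hom ≫ T₂.map (QA.map f))

include h in
/-- a natural isomorphism constructed from isomorphisms on chosen representatives -/
noncomputable def natIsoOfRep : U ⋙ T₁ ≅ U ⋙ T₂ :=
  NatIso.ofComponents (fun X => T₁.mapIso (u X) ≪≫ θ X ≪≫ (T₂.mapIso (u X)).symm) (by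
    intro X Y φ
    obtain ⟨f, h1, h2⟩ := h φ
    have h1' : (u X).inv ≫ U.map φ = QA.map f ≫ (u Y).inv := by
      rw [Iso.inv_comp_eq, ← assoc, ← h1, assoc, Iso.hom_inv_id, comp_id]
    dsimp
    rw [← T₁.map_comp_assoc, h1, T₁.map_comp_assoc, reassoc_of% h2, assoc, assoc,
      ← T₂.map_comp, ← T₂.map_comp, h1'])

end rep

end Groth.Agent.Helper9.RLn7a
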