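import Mathlib
import Groth.Agent.Helper9.RLn5
import Groth.Agent.Helper9.RLn6

/-!
# The comparison morphism `F(Susp n P) ⟶ RⁿF(P)` for complexes with terms in `P`
-/

set_option autoImplicit false
set_option linter.style.haveILetI false
universe v u v' u'
open CategoryTheory CategoryTheory.Limits

namespace Groth.Agent.Helper9.RLn7b

open FAc2 RLn2 RLn3 RLn4 RLn5 RLn6 HomologicalComplex

variable {A : Type u} [Category.{v} A] [Abelian A] [EnoughInjectives A]
  {B : Type u'} [Category.{v'} B] [Abelian B] (F : A ⥤ B) [F.Additive]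

variable {F} in
lemma van_of_inP {n : ℕ} {T : A} (h : InP F n T) : Van F n T := fun i _ hi => h i hi

/-- the terms of the iterated suspension are acyclic -/
lemma acyc_susp (k : ℕ) : ∀ (X : CochainComplex A ℤ), (∀ m, Van F k (X.X m)) →
    ∀ m, Acyc F ((Susp k X).X m) := by
  induction k with
  | zero =>
    intro X hX m
    exact acyc_of_van_zero F (hX m)
  | succ k ih =>
    intro X hX m
    exact ih (Y X) (RLn5.van_X₃ F (FAc2.S X) (S_shortExact X) (acyc_C F X) k hX) m

lemma acyclic_of_isZero (K : CochainComplex B ℤ) (h : ∀ m, IsZero (K.X m)) : K.Acyclic :=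
  fun m => ShortComplex.exact_of_isZero_X₂ _ (h m)

/-- the iterated connecting morphism is a quasi-isomorphism on complexes with terms in `P` -/
lemma quasiIso_γ_of_inP (n : ℕ) (P : CochainComplex A ℤ) (hP : ∀ m, InP F n (P.X m)) :
    QuasiIso (γ F n 0 P) := by
  rcases Nat.eq_zero_or_pos n with rfl | hn
  · show QuasiIso (𝟙 _)
    infer_instance
  · obtain ⟨k, rfl⟩ : ∃ k, n = k + 1 := ⟨n - 1, by omega⟩
    exact quasiIso_γ F k P (fun m => van_of_inP (hP m))
      (acyclic_of_isZero _ (fun m => hP m 0 (by omega)))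

variable [PreservesFiniteLimits F]

/-- `R⁰F ≅ F` on complexes -/
noncomputable def zeroIso : RF F 0 ≅ F.mapHomologicalComplex (ComplexShape.up ℤ) :=
  NatIso.mapHomologicalComplex F.rightDerivedZeroIsoSelf (ComplexShape.up ℤ)

/-- reindexing -/
noncomputable def castIso (n : ℕ) : RF F (0 + n) ≅ RF F n := eqToIso (by rw [Nat.zero_add])

/-- the comparison morphism -/
noncomputable def g (n : ℕ) (P : CochainComplex A ℤ) :
    (F.mapHomologicalComplex (ComplexShape.up ℤ)).obj (Susp n P) ⟶ (RF F n).obj P :=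
  (zeroIso F).inv.app (Susp n P) ≫ γ F n 0 P ≫ (castIso F n).hom.app P

lemma quasiIso_g (n : ℕ) (P : CochainComplex A ℤ) (hP : ∀ m, InP F n (P.X m)) :
    QuasiIso (g F n P) := by
  haveI := quasiIso_γ_of_inP F n P hP
  unfold g
  infer_instance

lemma g_naturality (n : ℕ) {P P' : CochainComplex A ℤ} (f : P ⟶ P') (L : LiftN n P P' f) :
    (F.mapHomologicalComplex (ComplexShape.up ℤ)).map (suspMap n P P' f L) ≫ g F n P' =
      g F n P ≫ (RF F n).map f := by
  have h1 := (zeroIso F).inv.naturality (suspMap n P P' f L)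
  have h2 := γ_naturality F n 0 P P' f L
  have h3 := (castIso F n).hom.naturality f
  unfold g
  rw [reassoc_of% h1, reassoc_of% h2, h3, Category.assoc, Category.assoc]

end Groth.Agent.Helper9.RLn7b
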