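import Mathlib
import Groth.Agent.Helper9.RLn1
import Groth.Agent.Helper9.RLn7a
import Groth.Agent.Helper9.RLn7b
import Groth.Agent.Helper9.FAc4

/-!
# `RF ≅ LG⟦-n⟧` for a functor of cohomological dimension `≤ n` with enough objects whose
cohomology is concentrated in degree `n`
-/

set_option autoImplicit false
set_option linter.style.haveILetI false
universe w w' v u v' u'
open CategoryTheory CategoryTheory.Limits

namespace Groth.Agent.Helper9.RLn7

open FAc2 RLn2 RLn3 RLn4 RLn5 RLn6 RLn7b HomologicalComplex DerivedCategory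

variable {A : Type u} [Category.{v} A] [Abelian A] [HasDerivedCategory.{w} A] [EnoughInjectives A]
  {B : Type u'} [Category.{v'} B] [Abelian B] [HasDerivedCategory.{w'} B]
  (F : A ⥤ B) [F.Additive] [PreservesFiniteLimits F] (n : ℕ) [(F.rightDerived n).Additive]

section comparison

variable (RF' LG' : DerivedCategory A ⥤ DerivedCategory B)
  (α : F.mapHomologicalComplex (ComplexShape.up ℤ) ⋙ Q ⟶ Q ⋙ RF')
  (β : Q ⋙ LG' ⟶ (F.rightDerived n).mapHomologicalComplex (ComplexShape.up ℤ) ⋙ Q)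
  (hα : ∀ K : CochainComplex A ℤ, (∀ p, Acyc F (K.X p)) → IsIso (α.app K))
  (hβ : ∀ K : CochainComplex A ℤ, (∀ p, InP F n (K.X p)) → IsIso (β.app K))

/-- `Q P ≅ Q ((Susp n P)⟦-n⟧)` -/
noncomputable def ε (P : CochainComplex A ℤ) :
    Q.obj P ≅ Q.obj ((Susp n P)⟦-(n : ℤ)⟧) :=
  ((shiftFunctorCompIsoId (DerivedCategory A) (n : ℤ) (-(n : ℤ)) (add_neg_cancel _)).app
      (Q.obj P)).symm ≪≫
    (shiftFunctor (DerivedCategory A) (-(n : ℤ))).mapIso (e n P).symm ≪≫
    ((Q.commShiftIso (-(n : ℤ))).app (Susp n P)).symm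

lemma ε_naturality {P P' : CochainComplex A ℤ} (f : P ⟶ P') (L : LiftN n P P' f) :
    Q.map f ≫ (ε n P').hom = (ε n P).hom ≫ Q.map ((suspMap n P P' f L)⟦-(n : ℤ)⟧') := by
  have h1 := (shiftFunctorCompIsoId (DerivedCategory A) (n : ℤ) (-(n : ℤ))
    (add_neg_cancel _)).inv.naturality (Q.map f)
  have h2 : ((Q.map f)⟦(n : ℤ)⟧')⟦-(n : ℤ)⟧' ≫ ((e n P').inv)⟦-(n : ℤ)⟧' =
      ((e n P).inv)⟦-(n : ℤ)⟧' ≫ (Q.map (suspMap n P P' f L))⟦-(n : ℤ)⟧' := by
    rw [← Functor.map_comp, ← Functor.map_comp]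
    congr 1
    rw [Iso.comp_inv_eq, Category.assoc, Iso.eq_inv_comp]
    exact (e_naturality n P P' f L).symm
  have h3 := (Q.commShiftIso (-(n : ℤ))).inv.naturality (suspMap n P P' f L)
  dsimp at h1 h3
  dsimp [ε]
  rw [reassoc_of% h1, reassoc_of% h2, h3]
  simp only [Category.assoc]

include hα hβ in
/-- the data attached to a complex with terms in `P` -/
noncomputable def data (P : CochainComplex A ℤ) (hP : ∀ p, InP F n (P.X p)) :
    RLn7a.Data Q Q (F.mapHomologicalComplex (ComplexShape.up ℤ))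
      ((F.rightDerived n).mapHomologicalComplex (ComplexShape.up ℤ)) RF' LG' α β (-(n : ℤ)) P where
  S := Susp n P
  ε := ε n P
  g := g F n P
  isIso_g := by
    haveI := quasiIso_g F n P hP
    infer_instance
  isIso_α := hα _ (fun p => acyc_susp F n P (fun m => van_of_inP (hP m)) _)
  isIso_β := hβ P hP

section main

variable (hdim : ∀ (X : A) (i : ℕ), n < i → IsZero ((F.rightDerived i).obj X))
  (c : LCov.Cov (InP F n))

include hdim c hα hβ in
theorem nonempty_iso :
    Nonempty (RF' ≅ LG' ⋙ shiftFunctor (DerivedCategory B) (-(n : ℤ))) := by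
  let q := HomotopyCategory.quotient A (ComplexShape.up ℤ)
  let Φ := (AP F n).triangulatedLocalizerMorphism (HomotopyCategory.subcategoryAcyclic A)
  haveI : (Qh (C := A)).IsLocalization (HomotopyCategory.subcategoryAcyclic A).trW := by
    rw [← HomotopyCategory.quasiIso_eq_trW_subcategoryAcyclic]; infer_instance
  haveI : Φ.IsLocalizedEquivalence := LDeriv2.isLocalizedEquivalence (hasRelRes hdim c)
  let U : (AP F n).FullSubcategory ⥤ DerivedCategory A := Φ.functor ⋙ Qh
  let W₁ := ((HomotopyCategory.subcategoryAcyclic A).inverseImage (AP F n).ι).trW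
  haveI : U.IsLocalization W₁ := inferInstanceAs ((Φ.functor ⋙ Qh).IsLocalization W₁)
  let T₂ := LG' ⋙ shiftFunctor (DerivedCategory B) (-(n : ℤ))
  let PX : (AP F n).FullSubcategory → CochainComplex A ℤ := fun X => X.property.choose
  have hPX : ∀ X p, InP F n ((PX X).X p) := fun X => X.property.choose_spec.1
  let εX : ∀ X : (AP F n).FullSubcategory, X.obj ≅ q.obj (PX X) :=
    fun X => X.property.choose_spec.2.some
  let u : ∀ X, U.obj X ≅ Q.obj (PX X) := fun X =>
    Qh.mapIso (εX X) ≪≫ (quotientCompQhIso A).app (PX X)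
  let θ : ∀ X, RF'.obj (Q.obj (PX X)) ≅ T₂.obj (Q.obj (PX X)) :=
    fun X => (data F n RF' LG' α β hα hβ (PX X) (hPX X)).θ
  have h : ∀ {X Y : (AP F n).FullSubcategory} (φ : X ⟶ Y), ∃ f : PX X ⟶ PX Y,
      U.map φ ≫ (u Y).hom = (u X).hom ≫ Q.map f ∧
        RF'.map (Q.map f) ≫ (θ Y).hom = (θ X).hom ≫ T₂.map (Q.map f) := by
    intro X Y φ
    obtain ⟨f, hf⟩ := q.map_surjective ((εX X).inv ≫ Φ.functor.map φ ≫ (εX Y).hom)
    obtain ⟨L⟩ := nonempty_liftN n (PX X) (PX Y) f
    refine ⟨f, ?_, ?_⟩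
    · have h1 : Φ.functor.map φ ≫ (εX Y).hom = (εX X).hom ≫ q.map f := by
        rw [hf, Iso.hom_inv_id_assoc]
      have h2 := quotientCompQhIso_hom_naturality f
      dsimp only [u, U, Functor.comp_map, Iso.trans_hom, Functor.mapIso_hom, Iso.app_hom]
      rw [← Qh.map_comp_assoc, h1, Qh.map_comp_assoc, h2, Category.assoc]
    · exact RLn7a.Data.θ_naturality _ _ f (suspMap n _ _ f L) (ε_naturality n f L)
        (g_naturality F n f L)
  let iso : U ⋙ RF' ≅ U ⋙ T₂ := RLn7a.natIsoOfRep Q U RF' T₂ PX u θ h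
  letI : Localization.Lifting U W₁ (U ⋙ RF') RF' := ⟨Iso.refl _⟩
  letI : Localization.Lifting U W₁ (U ⋙ T₂) T₂ := ⟨Iso.refl _⟩
  exact ⟨Localization.liftNatIso U W₁ (U ⋙ RF') (U ⋙ T₂) RF' T₂ iso⟩

end main

end comparison

section final

variable (hdim : ∀ (X : A) (i : ℕ), n < i → IsZero ((F.rightDerived i).obj X))
  (hP : ∀ X : A, ∃ (Y : A) (p : Y ⟶ X), Epi p ∧
    ∀ i : ℕ, i ≠ n → IsZero ((F.rightDerived i).obj Y))

include hdim hP in
theorem main :
    ((F.rightDerived n).mapHomologicalComplex (ComplexShape.up ℤ) ⋙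
        DerivedCategory.Q).HasLeftDerivedFunctor
        (HomologicalComplex.quasiIso A (ComplexShape.up ℤ)) ∧
      ∀ [(F.mapHomologicalComplex (ComplexShape.up ℤ) ⋙ DerivedCategory.Q).HasRightDerivedFunctor
          (HomologicalComplex.quasiIso A (ComplexShape.up ℤ))]
        [((F.rightDerived n).mapHomologicalComplex (ComplexShape.up ℤ) ⋙
          DerivedCategory.Q).HasLeftDerivedFunctor
          (HomologicalComplex.quasiIso A (ComplexShape.up ℤ))],
        Nonempty ((F.mapHomologicalComplex (ComplexShape.up ℤ) ⋙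
            DerivedCategory.Q).totalRightDerived DerivedCategory.Q
            (HomologicalComplex.quasiIso A (ComplexShape.up ℤ)) ≅
          ((F.rightDerived n).mapHomologicalComplex (ComplexShape.up ℤ) ⋙
            DerivedCategory.Q).totalLeftDerived
              DerivedCategory.Q (HomologicalComplex.quasiIso A (ComplexShape.up ℤ)) ⋙
            shiftFunctor (DerivedCategory B) (-(n : ℤ))) := by
  obtain ⟨c⟩ := LCov.nonempty_cov (P := InP F n) hP
  have hn : ∀ X : A, IsZero ((F.rightDerived (n + 1)).obj X) :=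
    fun X => hdim X (n + 1) (Nat.lt_succ_self n)
  let q := HomotopyCategory.quotient A (ComplexShape.up ℤ)
  let Wh := HomotopyCategory.quasiIso A (ComplexShape.up ℤ)
  let Wc := HomologicalComplex.quasiIso A (ComplexShape.up ℤ)
  let ΦhF := F.mapHomotopyCategory (ComplexShape.up ℤ) ⋙ (Qh (C := B))
  let ΦhG := (F.rightDerived n).mapHomotopyCategory (ComplexShape.up ℤ) ⋙ (Qh (C := B))
  haveI : ΦhF.HasRightDerivedFunctor Wh := FAc4.hasRightDerivedFunctor F (n + 1) hn
  haveI : ΦhG.HasLeftDerivedFunctor Wh := RLn6.hasLeftDerivedFunctor hdim c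
  let RF' := ΦhF.totalRightDerived Qh Wh
  let αh : ΦhF ⟶ Qh ⋙ RF' := ΦhF.totalRightDerivedUnit Qh Wh
  let LG' := ΦhG.totalLeftDerived Qh Wh
  let βh : Qh ⋙ LG' ⟶ ΦhG := ΦhG.totalLeftDerivedCounit Qh Wh
  haveI : RF'.IsLeftKanExtension αh := Functor.IsRightDerivedFunctor.isLeftKanExtension RF' αh Wh
  haveI : LG'.IsRightKanExtension βh := Functor.IsLeftDerivedFunctor.isRightKanExtension LG' βh Wh
  let e : q ⋙ Qh ≅ Q := quotientCompQhIso A
  let eF : q ⋙ ΦhF ≅ F.mapHomologicalComplex (ComplexShape.up ℤ) ⋙ Q :=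
    (Functor.associator _ _ _).symm ≪≫
      Functor.isoWhiskerRight (F.mapHomotopyCategoryFactors (ComplexShape.up ℤ)) Qh ≪≫
      Functor.associator _ _ _ ≪≫ Functor.isoWhiskerLeft _ (quotientCompQhIso B)
  let eG : q ⋙ ΦhG ≅ (F.rightDerived n).mapHomologicalComplex (ComplexShape.up ℤ) ⋙ Q :=
    (Functor.associator _ _ _).symm ≪≫
      Functor.isoWhiskerRight ((F.rightDerived n).mapHomotopyCategoryFactors (ComplexShape.up ℤ))
        Qh ≪≫
      Functor.associator _ _ _ ≪≫ Functor.isoWhiskerLeft _ (quotientCompQhIso B)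
  let αC := RLn1.unit q e eF RF' αh
  let βC := RLn1.counit q e eG LG' βh
  haveI : RF'.IsLeftKanExtension αC := RLn1.isLeftKanExtension q e eF RF' αh
  haveI : LG'.IsRightKanExtension βC := RLn1.isRightKanExtension q e eG LG' βh
  haveI : RF'.IsRightDerivedFunctor αC Wc := ⟨inferInstance⟩
  haveI : LG'.IsLeftDerivedFunctor βC Wc := ⟨inferInstance⟩
  have hαC : ∀ K : CochainComplex A ℤ, (∀ p, Acyc F (K.X p)) → IsIso (αC.app K) := by
    intro K hK
    haveI : IsIso (αh.app (q.obj K)) := FAc4.isIso_totalRightDerivedUnit_app F (n + 1) hn K hK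
    dsimp only [αC]
    rw [RLn1.unit_app]
    infer_instance
  have hβC : ∀ K : CochainComplex A ℤ, (∀ p, InP F n (K.X p)) → IsIso (βC.app K) := by
    intro K hK
    haveI : IsIso (βh.app (q.obj K)) := RLn6.isIso_totalLeftDerivedCounit_app hdim c K hK
    dsimp only [βC]
    rw [RLn1.counit_app]
    infer_instance
  obtain ⟨Θ⟩ := nonempty_iso F n RF' LG' αC βC hαC hβC hdim c
  refine ⟨Functor.HasLeftDerivedFunctor.mk' (LF := LG') (α := βC), ?_⟩
  intro i1 i2
  let ΦF := F.mapHomologicalComplex (ComplexShape.up ℤ) ⋙ (Q (C := B))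
  let ΦG := (F.rightDerived n).mapHomologicalComplex (ComplexShape.up ℤ) ⋙ (Q (C := B))
  let RFc := ΦF.totalRightDerived Q Wc
  let LGc := ΦG.totalLeftDerived Q Wc
  let i₁ : RFc ≅ RF' := Functor.rightDerivedUnique RFc RF' (ΦF.totalRightDerivedUnit Q Wc) αC Wc
  let i₂ : LG' ≅ LGc := Functor.leftDerivedUnique LGc LG' βC (ΦG.totalLeftDerivedCounit Q Wc) Wc
  exact ⟨i₁ ≪≫ Θ ≪≫ Functor.isoWhiskerRight i₂ _⟩

end final

end Groth.Agent.Helper9.RLn7
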