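import Mathlib
import Groth.Prelude.Def_DualSh
import Groth.Agent.Helper9.RingProj3
import Groth.Agent.Helper3.DRingTor6
import Groth.Agent.S7037

/-! `R`-perfect complexes are stable under derived tensor product with perfect complexes. -/

set_option autoImplicit false
set_option linter.style.haveILetI false
set_option linter.unusedVariables false
set_option linter.unusedSectionVars false
universe u

namespace Groth.Agent.Helper9.RP1

open CategoryTheory CategoryTheory.Limits MonoidalCategory HomologicalComplex
open Groth.Agent.Helper6.TenCx Groth.Agent.Helper3.DRingLib Groth.Agent.Helper9.RingProj1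
  Groth.Agent.Helper9.RingProj2

attribute [local instance] HasDerivedCategory.standard

theorem main (R A : Type u) [CommRing R] [CommRing A] [Algebra R A]
    (E : DRing.Cx A) (a b : ℤ)
    (hEb : DRing.VanishesOutside E a b) (hEp : DRing.TermwiseFiniteProjective E)
    [DRing.HasLTensorCx A E]
    (M : Dual.D A) (hM : Dual2.IsRelPerfect R A M) :
    Dual2.IsRelPerfect R A ((DRing.LTensorCx A E).obj M) := by
  obtain ⟨hMpc, c, d, hMt⟩ := hM
  have hEperf : DRing.IsPerfect A (DRing.toD E) := ⟨E, a, b, hEb, hEp, ⟨Iso.refl _⟩⟩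
  have hEpc : DRing.IsPseudoCoherent' A (DRing.toD E) :=
    ((isPerfect_iff_pc_and_torDim _).1 hEperf).1
  refine ⟨Groth.Agent.S7037.result A M hMpc E hEpc, a + c, b + d, ?_⟩
  -- a K-projective representative of `M`
  let M₀ : DRing.Cx A := DerivedCategory.Q.objPreimage M
  let e₀ : DerivedCategory.Q.obj M₀ ≅ M := DerivedCategory.Q.objObjPreimageIso M
  obtain ⟨P, f, hP, hPk, -, hf, -⟩ := Groth.Agent.Helper6.KProjRes.exists_resolution M₀
  haveI := hP
  haveI : IsIso (DerivedCategory.Q.map f) :=
    (DerivedCategory.isIso_Q_map_iff_quasiIso (ModuleCat.{u} A) _).mpr hf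
  let eP : DRing.toD P ≅ M := asIso (DerivedCategory.Q.map f) ≪≫ e₀
  have hfl : DRing.TermwiseFlat E := fun i => by
    obtain ⟨h1, h2⟩ := hEp i
    infer_instance
  have hPt : DRing.HasTorAmplitudeIn R c d
      (DRing.toD ((RingProj1.rCx (algebraMap R A)).obj P)) :=
    hasTorAmplitudeIn_of_iso ((DRing.restrictD (algebraMap R A)).mapIso eP.symm ≪≫
      rDToD (algebraMap R A) P) _ _ hMt
  have h := core (algebraMap R A) E P a b c d hEb hfl hPt
  refine hasTorAmplitudeIn_of_iso ((rDToD (algebraMap R A) (E ⊗ P)).symm ≪≫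
    (DRing.restrictD (algebraMap R A)).mapIso
      (DerivedCategory.Q.mapIso (DTen.braidCx E P) ≪≫
        (Groth.Agent.Helper6.LTenCxCompute.ltcIso E P).symm ≪≫
        (DRing.LTensorCx A E).mapIso eP)) _ _ h

end Groth.Agent.Helper9.RP1
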