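import Mathlib
import Groth.Prelude.Def_DualSh
import Groth.Agent.Helper9.FlatPC5
import Groth.Agent.Helper9.TorOpen1
import Groth.Agent.Helper3.DRingPeel2
import Groth.Agent.Helper3.DRingRestr2

/-! Ring-level form of "relatively perfect ⟺ bounded complex of finitely presented modules flat
over the base". -/

set_option autoImplicit false
set_option linter.style.haveILetI false
set_option linter.unusedVariables false
set_option linter.unusedSectionVars false
universe u

namespace Groth.Agent.Helper9.RPL2

open CategoryTheory CategoryTheory.Limits HomologicalComplex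
open Groth.Agent.Helper3.DRingLib Groth.Agent.Helper3.PcHom Groth.Agent.Helper9.RingProj2

attribute [local instance] HasDerivedCategory.standard

noncomputable section

attribute [local instance] Groth.Agent.Helper9.FlatPC5.opModule

section Mod

variable (A B : Type u) [CommRing A] [CommRing B] [Algebra A B] [Module.Flat A B]
  [Algebra.FinitePresentation A B]

/-- a finitely presented module over a flat finitely presented `A`-algebra `B`, flat over `A`, is
pseudo-coherent over `B` -/
theorem pc_of_flat_fp_module (M : Type u) [AddCommGroup M] [Module B M] [Module A M]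
    [IsScalarTower A B M] [Module.FinitePresentation B M] [Module.Flat A M] :
    DRing.IsPseudoCoherent' B (Dual.inD B M) := by
  let B' := TrivSqZeroExt B M
  haveI : Module.FinitePresentation B B' := inferInstanceAs (Module.FinitePresentation B (B × M))
  haveI : Module.Finite B B' := inferInstance
  haveI : Algebra.FinitePresentation B B' := Algebra.FinitePresentation.of_finitePresentation B B'
  haveI : Algebra.FinitePresentation A B' := Algebra.FinitePresentation.trans A B B'
  haveI : Module.Flat A B' := by
    haveI : Module.Flat A (B × M) := Groth.Agent.Helper9.FlatPC5.flat_prod A B M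
    exact inferInstanceAs (Module.Flat A (B × M))
  have h1 : MoreMor.IsPseudoCoherentHom A B' := Groth.Agent.Helper9.FlatPC3.pcHom_of_flat_fp A B'
  have h2 : MoreMor.IsPseudoCoherentHom A B := Groth.Agent.Helper9.FlatPC3.pcHom_of_flat_fp A B
  have h3 : MoreMor.IsPseudoCoherentHom B B' := cancel h2 h1
  have h4 : DRing.IsPseudoCoherent' B (Dual.inD B B') :=
    (Groth.Agent.Helper3.PcHom.pcHom_iff_of_finite).1 h3
  let i : Dual.inD B M ⟶ Dual.inD B B' :=
    (DerivedCategory.singleFunctor (ModuleCat.{u} B) 0).map
      (ModuleCat.ofHom (TrivSqZeroExt.inrHom B M))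
  let r : Dual.inD B B' ⟶ Dual.inD B M :=
    (DerivedCategory.singleFunctor (ModuleCat.{u} B) 0).map
      (ModuleCat.ofHom (TrivSqZeroExt.sndHom B M))
  have hir : i ≫ r = 𝟙 _ := by
    dsimp only [i, r]
    rw [← Functor.map_comp, ← ModuleCat.ofHom_comp]
    have : (TrivSqZeroExt.sndHom B M).comp (TrivSqZeroExt.inrHom B M) = LinearMap.id := by
      ext m
      simp
    rw [this]
    exact (DerivedCategory.singleFunctor (ModuleCat.{u} B) 0).map_id _
  exact isPseudoCoherent'_of_retract i r hir h4

end Mod

section Cx

variable (A B : Type u) [CommRing A] [CommRing B] [Algebra A B] [Module.Flat A B]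

/-- a bounded complex of finitely presented `B`-modules which are flat over `A` is
pseudo-coherent over `B` -/
theorem pc_of_bounded_fp_flat [Algebra.FinitePresentation A B] (T : DRing.Cx B) (a b : ℤ)
    (hT : DRing.VanishesOutside T a b) (hfp : ∀ i : ℤ, Module.FinitePresentation B (T.X i))
    (hfl : ∀ i : ℤ, Module.Flat A ((ModuleCat.restrictScalars.{u} (algebraMap A B)).obj (T.X i))) :
    DRing.IsPseudoCoherent' B (DRing.toD T) := by
  refine induction_on_bounded' (DRing.IsPseudoCoherent' B)
    (fun e h => isPseudoCoherent'_of_iso e h) isPseudoCoherent'_of_isZero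
    (fun T hT h1 h3 => isPseudoCoherent'_obj₂ T hT h1 h3) T a b hT (fun i => ?_)
  refine isPseudoCoherent'_of_iso (singleShiftIso (T.X i) i) (isPseudoCoherent'_shift (-i) ?_)
  letI : Module A (T.X i) := Module.compHom (T.X i) (algebraMap A B)
  haveI : IsScalarTower A B (T.X i) := IsScalarTower.of_algebraMap_smul (fun r m => rfl)
  haveI := hfp i
  haveI : Module.Flat A (T.X i) := hfl i
  exact pc_of_flat_fp_module A B (T.X i)

/-- an `A`-perfect object of `D(B)` is represented by a bounded complex of finitely presented
`B`-modules which are flat over `A` -/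
theorem exists_fp_flat_rep (M : Dual.D B) (h : Dual2.IsRelPerfect A B M) :
    ∃ (T : DRing.Cx B) (a b : ℤ), DRing.VanishesOutside T a b ∧
      (∀ i : ℤ, Module.FinitePresentation B (T.X i)) ∧
      (∀ i : ℤ, Module.Flat A ((ModuleCat.restrictScalars.{u} (algebraMap A B)).obj (T.X i))) ∧
      Nonempty (DRing.toD T ≅ M) := by
  obtain ⟨⟨E, b₀, hv, hff, ⟨e⟩⟩, a, b', htor⟩ := h
  let F : DRing.Cx A := (Groth.Agent.Helper9.RingProj1.rCx (algebraMap A B)).obj E
  have e1 : (DRing.restrictD (algebraMap A B)).obj M ≅ DRing.toD F :=
    (DRing.restrictD (algebraMap A B)).mapIso e.symm ≪≫ rDToD (algebraMap A B) E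
  have htor' : DRing.HasTorAmplitudeIn A a b' (DRing.toD F) :=
    hasTorAmplitudeIn_of_iso e1 _ _ htor
  have hFv : DRing.VanishesAbove F b₀ := fun i hi =>
    Functor.map_isZero (ModuleCat.restrictScalars.{u} (algebraMap A B)) (hv i hi)
  have hf : DRing.TermwiseFlat E := fun i => by
    haveI := (hff i).2
    infer_instance
  have hFf : DRing.TermwiseFlat F := fun i => by
    haveI := hf i
    exact Groth.Agent.Helper9.FlatPC2.flat_rF (R := A) (A := B) (E.X i)
  have h1 : Module.Flat A (F.opcycles a) :=
    Groth.Agent.Helper9.TorOpen1.flat_opcycles_of_hasTorAmplitudeIn F b₀ hFv hFf a b' htor'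
  have hex : ∀ i : ℤ, i < a → E.ExactAt i := fun i hi =>
    (exactAt_rCx_iff (algebraMap A B) E i).1
      (exactAt_of_hasTorAmplitudeIn F a b' htor' i (Or.inl hi))
  haveI hGE : E.IsGE a := by
    rw [CochainComplex.isGE_iff]
    exact hex
  have hq : QuasiIso (E.πTruncGE a) := inferInstance
  haveI hiso : IsIso (DerivedCategory.Q.map (E.πTruncGE a)) :=
    (DerivedCategory.isIso_Q_map_iff_quasiIso (ModuleCat.{u} B) _).mpr hq
  haveI := preservesHomology_rF (algebraMap A B)
  have e2 : F.opcycles a ≅ (ModuleCat.restrictScalars.{u} (algebraMap A B)).obj (E.opcycles a) :=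
    (E.sc a).mapOpcyclesIso (ModuleCat.restrictScalars.{u} (algebraMap A B))
  have h2 : Module.Flat A ((ModuleCat.restrictScalars.{u} (algebraMap A B)).obj (E.opcycles a)) :=
    Module.Flat.of_linearEquiv e2.symm.toLinearEquiv
  refine ⟨E.truncGE a, a, b₀, ?_, ?_, ?_,
    ⟨(asIso (DerivedCategory.Q.map (E.πTruncGE a))).symm ≪≫ e⟩⟩
  · intro i hi
    rcases hi with hi | hi
    · exact (E.truncGE a).isZero_of_isStrictlyGE a i hi
    · by_cases hia : a < i
      · exact (hv i hi).of_iso (E.truncGEXIso a i hia)
      · by_cases hia' : i = a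
        · subst hia'
          refine IsZero.of_iso ?_ (E.truncGEXIsoOpcycles i)
          exact IsZero.of_epi (E.pOpcycles i) (hv i hi)
        · exact (E.truncGE a).isZero_of_isStrictlyGE a i (by omega)
  · intro i
    by_cases h1 : i < a
    · have := ModuleCat.subsingleton_of_isZero ((E.truncGE a).isZero_of_isStrictlyGE a i h1)
      infer_instance
    · by_cases h2 : i = a
      · subst h2
        haveI := Groth.Agent.Helper9.TorOpen1.finitePresentation_opcycles E hff i
        exact Module.FinitePresentation.of_equiv (E.truncGEXIsoOpcycles i).toLinearEquiv.symm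
      · haveI := (hff i).1
        haveI := (hff i).2
        haveI : Module.FinitePresentation B (E.X i) := Module.finitePresentation_of_projective B _
        exact Module.FinitePresentation.of_equiv (E.truncGEXIso a i (by omega)).toLinearEquiv.symm
  · intro i
    by_cases h1 : i < a
    · have := ModuleCat.subsingleton_of_isZero (Functor.map_isZero (ModuleCat.restrictScalars.{u} (algebraMap A B))
        ((E.truncGE a).isZero_of_isStrictlyGE a i h1))
      infer_instance
    · by_cases h2' : i = a
      · subst h2'
        exact Module.Flat.of_linearEquiv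
          ((ModuleCat.restrictScalars.{u} (algebraMap A B)).mapIso (E.truncGEXIsoOpcycles i)).toLinearEquiv
      · haveI := hf i
        haveI : Module.Flat A ((ModuleCat.restrictScalars.{u} (algebraMap A B)).obj (E.X i)) :=
          Groth.Agent.Helper9.FlatPC2.flat_rF (R := A) (A := B) (E.X i)
        exact Module.Flat.of_linearEquiv
          ((ModuleCat.restrictScalars.{u} (algebraMap A B)).mapIso (E.truncGEXIso a i (by omega))).toLinearEquiv

end Cx

end

end Groth.Agent.Helper9.RPL2
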